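import Cfsg.Agent.Helper28.SzbB16

/-! # The Suzuki group presentation, cosets of the subgroup generated by a, b, c, d, f, g: the coset enumeration, part 17 (helper28; generated) -/

set_option autoImplicit false

noncomputable section

namespace Cfsg.Agent.Helper28.SzbA

open Cfsg.Agent.Helper28.CosetTable

theorem L187085 : sm ge N23979 = N19848 := ded_10_2 (flp_a L157185) (flp_e L155856) L187083
theorem L187087 : sm gg N23979 = N20215 := ded_12_2 (flp_a L159539) (flp_g L155858) L187083
theorem L187089 : sm gc N19670 = N23980 := rfl
theorem L187091 : sm ge N23980 = N19849 := ded_19_2 (flp_c L157189) (flp_e L155856) L187089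
theorem L187093 : sm gg N23980 = N20216 := ded_21_2 (flp_c L159543) (flp_g L155858) L187089
theorem L187095 : sm gb N23980 = N19672 := ded_13_1 (flp_c L155866) (flp_b L107799) (flp_c L107795) L155854 L187089
theorem L187097 : sm gf N19670 = N23981 := rfl
theorem L187099 : sm ge N23981 = N19850 := ded_25_1 (flp_f L157195) (flp_e L155856) L187097
theorem L187101 : sm gb N19671 = N23982 := rfl
theorem L187103 : sm gd N23982 = N23881 := ded_14_2 L186244 L155994 L187101
theorem L187105 : sm ge N23982 = N19851 := ded_15_2 (flp_b L157197) (flp_e L155862) L187101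
theorem L187107 : sm ga N23982 = N23871 := ded_7_1 L186165 L184654 (flp_b L184638) (flp_a L156440) (flp_b L108101) L91427 L107799 L155860 L187101
theorem L187109 : sm gf N23869 = N23982 := ded_31_1 (flp_b L187101) L155864 L155886 (flp_b L186307) (flp_g L186299) (flp_f L186268) L186270 L156112 L156152 (flp_b L156164) (flp_g L108234) (flp_f L108208) L156657 (flp_g L186151)
theorem L187111 : sm gc N19671 = N23983 := rfl
theorem L187113 : sm ga N23983 = N19672 := ded_8_1 (flp_c L155866) L155860 L187111
theorem L187115 : sm ge N23983 = N19852 := ded_19_2 (flp_c L157199) (flp_e L155862) L187111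
theorem L187117 : sm gg N23983 = N19675 := ded_21_2 (flp_c L155880) (flp_g L155864) L187111
theorem L187119 : sm gd N19672 = N23984 := rfl
theorem L187121 : sm gg N23984 = N19677 := ded_24_2 (flp_d L155894) (flp_g L155870) L187119
theorem L187123 : sm ge N23984 = N23030 := ded_22_2 L179977 L177376 (flp_d L157205) (flp_e L155868) L187119
theorem L187125 : sm gc N22941 = N23984 := ded_21_3 L187121 (flp_c L163606) (flp_g L179271)
theorem L187127 : sm gf N19672 = N23985 := rfl
theorem L187129 : sm gc N23985 = N19673 := ded_20_1 (flp_f L155872) L155866 L187127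
theorem L187131 : sm ge N23985 = N19854 := ded_25_1 (flp_f L157209) (flp_e L155868) L187127
theorem L187133 : sm ga N19674 = N23986 := rfl
theorem L187135 : sm ge N23986 = N19855 := ded_10_2 (flp_a L157213) (flp_e L155878) L187133
theorem L187137 : sm gg N23904 = N23986 := ded_29_3 (flp_a L187133) L186442 (flp_g L186436) (flp_f L186415)
theorem L187139 : sm gc N19674 = N23987 := rfl
theorem L187141 : sm ge N23987 = N19856 := ded_19_2 (flp_c L157217) (flp_e L155878) L187139
theorem L187143 : sm gg N19674 = N23988 := rfl
theorem L187145 : sm ga N23988 = N23904 := ded_12_1 L187137 (flp_a L187133) L187143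
theorem L187147 : sm gd N23988 = N23901 := ded_24_1 (flp_g L186396) L155980 L187143
theorem L187149 : sm ge N23988 = N19857 := ded_26_1 (flp_g L157219) (flp_e L155878) L187143
theorem L187151 : sm gf N23895 = N23988 := ded_29_0 (flp_g L187143) L186442 (flp_g L186436) (flp_a L186345)
theorem L187153 : sm gb N19675 = N23989 := rfl
theorem L187155 : sm ge N23989 = N19858 := ded_15_2 (flp_b L157227) (flp_e L155884) L187153
theorem L187157 : sm gd N19675 = N23990 := rfl
theorem L187159 : sm ga N23990 = N19677 := ded_9_1 (flp_d L155894) (flp_a L155882) L187157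
theorem L187161 : sm gc N23990 = N22883 := ded_28_4 L178836 (flp_c L163689) (flp_d L156000) (flp_a L155986) (flp_c L155984) L107855 L155880 L187157
theorem L187163 : sm ge N23031 = N23990 := ded_10_0 L187159 L163519 (flp_a L179981)
theorem L187165 : sm gf N19675 = N23991 := rfl
theorem L187167 : sm ga N23991 = N19678 := ded_11_1 (flp_f L155898) (flp_a L155882) L187165
theorem L187169 : sm gc N23991 = N19676 := ded_20_1 (flp_f L155886) L155880 L187165
theorem L187171 : sm ge N23991 = N19860 := ded_25_1 (flp_f L157233) (flp_e L155884) L187165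
theorem L187173 : sm gg N23985 = N23991 := ded_29_1 (flp_f L187165) (flp_g L187117) L187113 L187127
theorem L187175 : sm gf N19677 = N23992 := rfl
theorem L187177 : sm gc N23992 = N22942 := ded_20_1 (flp_f L179273) L163606 L187175
theorem L187179 : sm gd N23992 = N19678 := ded_23_1 (flp_f L155898) L155894 L187175
theorem L187181 : sm ge N23992 = N23033 := ded_25_1 (flp_f L179993) (flp_e L163519) L187175
theorem L187183 : sm gg N19678 = N23993 := rfl
theorem L187185 : sm ga N23993 = N23985 := ded_12_1 L187173 L187167 L187183
theorem L187187 : sm gc N23993 = N19679 := ded_21_1 (flp_g L155904) (flp_c L155900) L187183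
theorem L187189 : sm ge N23993 = N19864 := ded_26_1 (flp_g L157251) (flp_e L155902) L187183
theorem L187191 : sm gf N23983 = N23993 := ded_29_0 (flp_g L187183) (flp_f L155898) (flp_g L155870) (flp_a L187113)
theorem L187193 : sm gb N19679 = N23994 := rfl
theorem L187195 : sm gd N23994 = N19774 := ded_14_2 L156627 L155974 L187193
theorem L187197 : sm ge N23994 = N19865 := ded_15_2 (flp_b L157259) (flp_e L155908) L187193
theorem L187199 : sm gg N23994 = N19713 := ded_17_2 (flp_b L156190) (flp_g L107987) (flp_b L107819) L155904 L187193
theorem L187201 : sm ga N23903 = N23994 := ded_10_3 L187197 (flp_a L157263) (flp_e L186407)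
theorem L187203 : sm gd N19681 = N23995 := rfl
theorem L187205 : sm gb N23995 = N19682 := ded_14_1 (flp_d L155930) L155922 L187203
theorem L187207 : sm gg N23995 = N23281 := ded_24_2 L181771 (flp_g L155928) L187203
theorem L187209 : sm ge N23995 = N23283 := ded_22_2 L181779 L145072 L150748 (flp_e L155924) L187203
theorem L187211 : sm gf N19681 = N23996 := rfl
theorem L187213 : sm gc N23996 = N23696 := ded_20_1 (flp_f L184630) (flp_c L155926) L187211
theorem L187215 : sm ge N23996 = N19866 := ded_25_1 (flp_f L157265) (flp_e L155924) L187211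
theorem L187217 : sm gg N23996 = N23867 := ded_29_3 L186127 (flp_f L183929) (flp_g L155928) L187211
theorem L187219 : sm gc N19682 = N23997 := rfl
theorem L187221 : sm ga N23997 = N19683 := ded_8_1 (flp_c L155936) (flp_a L155932) L187219
theorem L187223 : sm gg N23997 = N19768 := ded_21_2 (flp_c L156585) (flp_g L155934) L187219
theorem L187225 : sm gd N23997 = N23969 := ded_28_7 L187015 L167216 L115908 (flp_c L150370) L107755 L107825 L155930 L187219
theorem L187227 : sm ge N19682 = N23998 := rfl
theorem L187229 : sm ga N23998 = N19684 := ded_10_1 (flp_e L155940) (flp_a L155932) L187227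
theorem L187231 : sm gb N23998 = N23283 := ded_15_1 (flp_e L187209) L187205 L187227
theorem L187233 : sm gg N23998 = N19769 := ded_26_2 (flp_e L156591) (flp_g L155934) L187227
theorem L187235 : sm gd N23998 = N19867 := ded_22_1 (flp_e L157273) (flp_d L108661) (flp_e L107829) L155930 L187227
theorem L187237 : sm gb N19683 = N23999 := rfl
theorem L187239 : sm gd N23999 = N23115 := ded_14_2 L180637 L167218 L187237
theorem L187241 : sm gc N23999 = N20243 := ded_13_2 (flp_b L159709) (flp_c L110527) (flp_b L107835) L155936 L187237
theorem L187243 : sm gg N23999 = N20243 := ded_17_2 (flp_b L159709) L110529 (flp_b L108182) (flp_g L155938) L187237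
theorem L187245 : sm ge N19683 = N24000 := rfl
theorem L187247 : sm gc N24000 = N19684 := ded_19_1 (flp_e L155940) L155936 L187245
theorem L187249 : sm gg N24000 = N19775 := ded_26_2 (flp_e L156629) (flp_g L155938) L187245
theorem L187251 : sm gf N19683 = N24001 := rfl
theorem L187253 : sm gc N24001 = N19685 := ded_20_1 (flp_f L155948) L155936 L187251
theorem L187255 : sm gf N19684 = N24002 := rfl
theorem L187257 : sm gd N24002 = N19868 := ded_23_1 (flp_f L157283) (flp_d L155946) L187255
theorem L187259 : sm ge N24002 = N19685 := ded_25_1 (flp_f L155948) L155940 L187255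
theorem L187261 : sm gb N19685 = N24003 := rfl
theorem L187263 : sm gd N24003 = N19686 := ded_14_2 (flp_b L155952) (flp_d L155950) L187261
theorem L187265 : sm gf N24003 = N20248 := ded_16_2 (flp_b L159735) (flp_f L110537) (flp_b L107835) L155948 L187261
theorem L187267 : sm ga N19686 = N24004 := rfl
theorem L187269 : sm ge N24004 = N19870 := ded_10_2 (flp_a L157295) (flp_e L155954) L187267
theorem L187271 : sm gf N24004 = N20249 := ded_11_2 (flp_a L159739) (flp_f L155956) L187267
theorem L187273 : sm gc N19686 = N24005 := rfl
theorem L187275 : sm ge N24005 = N19871 := ded_19_2 (flp_c L157299) (flp_e L155954) L187273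
theorem L187277 : sm gf N24005 = N20250 := ded_20_2 (flp_c L159743) (flp_f L155956) L187273
theorem L187279 : sm gb N24005 = N19688 := ded_13_1 (flp_c L155966) (flp_b L107845) (flp_c L107841) L155952 L187273
theorem L187281 : sm gg N19686 = N24006 := rfl
theorem L187283 : sm ge N24006 = N19872 := ded_26_1 (flp_g L157305) (flp_e L155954) L187281
theorem L187285 : sm gb N19687 = N24007 := rfl
theorem L187287 : sm gd N24007 = N23890 := ded_14_2 L186307 (flp_d L155960) L187285
theorem L187289 : sm ge N24007 = N19873 := ded_15_2 (flp_b L157307) (flp_e L155962) L187285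
theorem L187291 : sm ga N24007 = N23875 := ded_7_1 L186197 L184278 (flp_b L184262) (flp_a L156689) (flp_b L108220) L91485 L107845 L155958 L187285
theorem L187293 : sm gg N24007 = N23873 := ded_31_3 L186183 (flp_b L156410) L108089 L108115 (flp_b L156274) (flp_g L156262) (flp_f L156222) (flp_b L186207) L186205 L186236 L186244 (flp_g L155990) (flp_f L155964) L187285
theorem L187295 : sm gc N19687 = N24008 := rfl
theorem L187297 : sm ga N24008 = N19688 := ded_8_1 (flp_c L155966) L155958 L187295
theorem L187299 : sm ge N24008 = N19874 := ded_19_2 (flp_c L157309) (flp_e L155962) L187295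
theorem L187301 : sm gf N24008 = N19691 := ded_20_2 (flp_c L155984) (flp_f L155964) L187295
theorem L187303 : sm gd N19688 = N24009 := rfl
theorem L187305 : sm gf N24009 = N19693 := ded_23_2 (flp_d L156000) (flp_f L155970) L187303
theorem L187307 : sm ge N24009 = N23005 := ded_22_2 L179759 L177037 (flp_d L157315) (flp_e L155968) L187303
theorem L187309 : sm gc N22912 = N24009 := ded_20_3 L187305 L163689 (flp_f L179075)
theorem L187311 : sm gg N19688 = N24010 := rfl
theorem L187313 : sm gc N24010 = N19689 := ded_21_1 (flp_g L155972) L155966 L187311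
theorem L187315 : sm ge N24010 = N19876 := ded_26_1 (flp_g L157319) (flp_e L155968) L187311
theorem L187317 : sm ga N19690 = N24011 := rfl
theorem L187319 : sm gd N24011 = N23986 := ded_9_2 (flp_a L187133) (flp_d L155980) L187317
theorem L187321 : sm ge N24011 = N19877 := ded_10_2 (flp_a L157323) (flp_e L155982) L187317
theorem L187323 : sm gf N24011 = N23899 := ded_29_0 L186383 L186390 (flp_g L186396) L187317
theorem L187325 : sm gb N24011 = N23986 := ded_7_2 (flp_a L187133) (flp_b L155876) (flp_a L107805) (flp_b L91299) (flp_a L43340) L91321 L107853 L155978 L187317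
theorem L187327 : sm gc N19690 = N24012 := rfl
theorem L187329 : sm ge N24012 = N19878 := ded_19_2 (flp_c L157329) (flp_e L155982) L187327
theorem L187331 : sm gf N19690 = N24013 := rfl
theorem L187333 : sm ga N24013 = N23899 := ded_11_1 (flp_f L187323) (flp_a L187317) L187331
theorem L187335 : sm gd N24013 = N23907 := ded_23_1 (flp_f L186442) (flp_d L155980) L187331
theorem L187337 : sm ge N24013 = N19879 := ded_25_1 (flp_f L157331) (flp_e L155982) L187331
theorem L187339 : sm gg N24013 = N23897 := ded_29_3 L186363 L186390 (flp_g L186396) L187331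
theorem L187341 : sm gb N19691 = N24014 := rfl
theorem L187343 : sm ge N24014 = N19880 := ded_15_2 (flp_b L157339) (flp_e L155988) L187341
theorem L187345 : sm gd N19691 = N24015 := rfl
theorem L187347 : sm ga N24015 = N19693 := ded_9_1 (flp_d L156000) (flp_a L155986) L187345
theorem L187349 : sm gc N22892 = N24015 := ded_28_0 (flp_d L187345) (flp_c L155984) L107855 L155880 L187157 L187161 L178836 L178931
theorem L187351 : sm ge N23006 = N24015 := ded_10_0 L187347 (flp_e L163635) (flp_a L179763)
theorem L187353 : sm gg N19691 = N24016 := rfl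
theorem L187355 : sm ga N24016 = N19694 := ded_12_1 (flp_g L156004) (flp_a L155986) L187353
theorem L187357 : sm gc N24016 = N19692 := ded_21_1 (flp_g L155990) L155984 L187353
theorem L187359 : sm ge N24016 = N19882 := ded_26_1 (flp_g L157345) (flp_e L155988) L187353
theorem L187361 : sm gf N24016 = N24010 := ded_29_2 (flp_g L187311) (flp_a L187297) L187301 L187353
theorem L187363 : sm gg N19693 = N24017 := rfl
theorem L187365 : sm gc N24017 = N22913 := ded_21_1 (flp_g L179077) (flp_c L163689) L187363
theorem L187367 : sm gd N24017 = N19694 := ded_24_1 (flp_g L156004) L156000 L187363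
theorem L187369 : sm ge N24017 = N23008 := ded_26_1 (flp_g L179775) L163635 L187363
theorem L187371 : sm gf N19694 = N24018 := rfl
theorem L187373 : sm ga N24018 = N24010 := ded_11_1 (flp_f L187361) L187355 L187371
theorem L187375 : sm gc N24018 = N19695 := ded_20_1 (flp_f L156010) (flp_c L156006) L187371
theorem L187377 : sm ge N24018 = N19886 := ded_25_1 (flp_f L157363) (flp_e L156008) L187371
theorem L187379 : sm gg N24018 = N24008 := ded_29_3 L187297 L155970 L156004 L187371
theorem L187381 : sm gb N19695 = N24019 := rfl
theorem L187383 : sm gd N24019 = N19736 := ded_14_2 L156380 (flp_d L156014) L187381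
theorem L187385 : sm ge N24019 = N19887 := ded_15_2 (flp_b L157371) (flp_e L156016) L187381
theorem L187387 : sm gf N24019 = N19700 := ded_16_2 (flp_b L156080) L107933 (flp_b L107871) L156010 L187381
theorem L187389 : sm ga N23909 = N24019 := ded_10_3 L187385 (flp_a L157375) (flp_e L186453)
theorem L187391 : sm gb N19699 = N24020 := rfl
theorem L187393 : sm gd N24020 = N19727 := ded_14_2 (flp_b L156312) (flp_d L156076) L187391
theorem L187395 : sm ge N24020 = N19999 := ded_15_2 L158103 (flp_e L156078) L187391
theorem L187397 : sm gg N24020 = N19700 := ded_17_2 (flp_b L156080) (flp_g L107923) L107915 L156072 L187391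
theorem L187399 : sm ga N24020 = N19761 := ded_7_1 (flp_b L156523) L108136 L156432 L184670 (flp_b L184662) (flp_a L153904) (flp_b L185017) L185007 L187391
theorem L187401 : sm ge N19701 = N24021 := rfl
theorem L187403 : sm ga N24021 = N20161 := ded_10_1 L159167 (flp_a L156090) L187401
theorem L187405 : sm gb N24021 = N20136 := ded_15_1 L158977 (flp_b L156092) L187401
theorem L187407 : sm gc N24021 = N19702 := ded_19_1 (flp_e L156094) L156088 L187401
theorem L187409 : sm gg N19701 = N24022 := rfl
theorem L187411 : sm ga N24022 = N21203 := ded_12_1 (flp_g L167076) (flp_a L156090) L187409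
theorem L187413 : sm gc N24022 = N19703 := ded_21_1 (flp_g L156100) L156088 L187409
theorem L187415 : sm gd N19705 = N24023 := rfl
theorem L187417 : sm ga N24023 = N20271 := ded_9_1 L159881 (flp_a L156120) L187415
theorem L187419 : sm gb N24023 = N20285 := ded_14_1 L159966 (flp_b L156126) L187415
theorem L187421 : sm gf N24023 = N20269 := ded_23_2 L159871 L156128 L187415
theorem L187423 : sm gg N24023 = N19710 := ded_24_2 (flp_d L156166) (flp_g L156124) L187415
theorem L187425 : sm ge N24023 = N21342 := ded_22_2 L167932 L117109 (flp_d L111952) (flp_e L156122) L187415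
theorem L187427 : sm gc N19707 = N24024 := rfl
theorem L187429 : sm ge N24024 = N20756 := ded_19_2 L162772 L157021 L187427
theorem L187431 : sm gg N24024 = N20438 := ded_21_2 L180167 L180163 L187427
theorem L187433 : sm ga N19708 = N24025 := rfl
theorem L187435 : sm gc N24025 = N21310 := ded_8_2 (flp_a L167734) (flp_c L156150) L187433
theorem L187437 : sm gd N24025 = N19750 := ded_9_2 (flp_a L156454) (flp_d L156146) L187433
theorem L187439 : sm ge N24025 = N20033 := ded_10_2 L158291 (flp_e L156148) L187433
theorem L187441 : sm gf N24025 = N23647 := ded_11_2 (flp_a L184294) L156685 L187433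
theorem L187443 : sm gg N19787 = N24025 := ded_29_3 (flp_a L187433) (flp_f L156685) L156687 L156697
theorem L187445 : sm gg N19708 = N24026 := rfl
theorem L187447 : sm ga N24026 = N19787 := ded_12_1 L187443 (flp_a L187433) L187445
theorem L187449 : sm gc N24026 = N21313 := ded_21_1 (flp_g L167750) (flp_c L156150) L187445
theorem L187451 : sm gd N24026 = N19753 := ded_24_1 (flp_g L156478) (flp_d L156146) L187445
theorem L187453 : sm ge N24026 = N20031 := ded_26_1 (flp_g L158275) (flp_e L156148) L187445
theorem L187455 : sm gf N19785 = N24026 := ded_29_0 (flp_g L187445) (flp_f L156685) L156687 L156689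
theorem L187457 : sm gb N24026 = N23893 := ded_17_1 L186327 L186270 L156112 L156144 L187445
theorem L187459 : sm gc N19710 = N24027 := rfl
theorem L187461 : sm ga N24027 = N21239 := ded_8_1 (flp_c L167292) (flp_a L156168) L187459
theorem L187463 : sm gb N19712 = N24028 := rfl
theorem L187465 : sm gd N24028 = N19764 := ded_14_2 (flp_b L156547) (flp_d L156186) L187463
theorem L187467 : sm ge N24028 = N20053 := ded_15_2 L158403 (flp_e L156188) L187463
theorem L187469 : sm gf N24028 = N19713 := ded_16_2 (flp_b L156190) (flp_f L107981) L107973 L156182 L187463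
theorem L187471 : sm ga N24028 = N19799 := ded_7_1 (flp_b L156776) L108255 L156679 L184294 (flp_b L184286) (flp_a L153624) L185041 (flp_a L185053) L187463
theorem L187473 : sm ge N19714 = N24029 := rfl
theorem L187475 : sm ga N24029 = N20178 := ded_10_1 L159303 (flp_a L156200) L187473
theorem L187477 : sm gb N24029 = N20142 := ded_15_1 L159021 (flp_b L156202) L187473
theorem L187479 : sm gc N24029 = N19715 := ded_19_1 (flp_e L156204) L156198 L187473
theorem L187481 : sm gf N19714 = N24030 := rfl
theorem L187483 : sm ga N24030 = N21226 := ded_11_1 (flp_f L167208) (flp_a L156200) L187481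
theorem L187485 : sm gc N24030 = N19716 := ded_20_1 (flp_f L156210) L156198 L187481
theorem L187487 : sm gd N19718 = N24031 := rfl
theorem L187489 : sm ga N24031 = N20291 := ded_9_1 L160010 (flp_a L156230) L187487
theorem L187491 : sm gb N24031 = N20266 := ded_14_1 L159851 (flp_b L156236) L187487
theorem L187493 : sm gf N24031 = N19723 := ded_23_2 (flp_d L156276) (flp_f L156234) L187487
theorem L187495 : sm gg N24031 = N20289 := ded_24_2 L160000 L156238 L187487
theorem L187497 : sm ge N24031 = N21332 := ded_22_2 L167872 L116987 (flp_d L111879) (flp_e L156232) L187487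
theorem L187499 : sm gc N19720 = N24032 := rfl
theorem L187501 : sm ge N24032 = N20707 := ded_19_2 L162490 L157033 L187499
theorem L187503 : sm gf N24032 = N20404 := ded_20_2 L180191 L180185 L187499
theorem L187505 : sm ga N19721 = N24033 := rfl
theorem L187507 : sm gc N24033 = N21271 := ded_8_2 (flp_a L167488) (flp_c L156260) L187505
theorem L187509 : sm gd N24033 = N19788 := ded_9_2 (flp_a L156703) (flp_d L156256) L187505
theorem L187511 : sm ge N24033 = N19979 := ded_10_2 L157993 (flp_e L156258) L187505
theorem L187513 : sm gg N24033 = N23699 := ded_12_2 (flp_a L184670) L156438 L187505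
theorem L187515 : sm gf N24033 = N19749 := ded_29_0 (flp_g L156448) (flp_f L156436) L156438 L187505
theorem L187517 : sm gb N24033 = N24025 := ded_7_2 (flp_a L187433) (flp_b L156144) (flp_a L107961) (flp_b L91373) (flp_a L43376) L91387 L108009 L156254 L187505
theorem L187519 : sm gf N19721 = N24034 := rfl
theorem L187521 : sm ga N24034 = N19749 := ded_11_1 (flp_f L187515) (flp_a L187505) L187519
theorem L187523 : sm gc N24034 = N21273 := ded_20_1 (flp_f L167496) (flp_c L156260) L187519
theorem L187525 : sm gd N24034 = N19790 := ded_23_1 (flp_f L156719) (flp_d L156256) L187519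
theorem L187527 : sm ge N24034 = N19977 := ded_25_1 L157977 (flp_e L156258) L187519
theorem L187529 : sm gg N24034 = N19747 := ded_29_3 (flp_a L156440) (flp_f L156436) L156438 L187519
theorem L187531 : sm gb N24034 = N23884 := ded_16_1 (flp_f L186260) L186207 L156222 L156254 L187519
theorem L187533 : sm gc N19723 = N24035 := rfl
theorem L187535 : sm ga N24035 = N21215 := ded_8_1 (flp_c L167154) (flp_a L156278) L187533
theorem L187537 : sm gb N19725 = N24036 := rfl
theorem L187539 : sm ge N24036 = N19946 := ded_15_2 (flp_b L157807) (flp_e L156298) L187537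
theorem L187541 : sm gg N24036 = N23502 := ded_17_2 (flp_b L183183) (flp_g L151612) L119841 L156294 L187537
theorem L187543 : sm gf N19727 = N24037 := rfl
theorem L187545 : sm ga N24037 = N23888 := ded_11_1 L186287 L160168 L187543
theorem L187547 : sm ge N24037 = N19947 := ded_25_1 (flp_f L157813) (flp_e L156314) L187543
theorem L187549 : sm gb N19728 = N24038 := rfl
theorem L187551 : sm gd N24038 = N23903 := ded_14_2 L186409 L184965 L187549
theorem L187553 : sm ge N24038 = N19948 := ded_15_2 (flp_b L157817) (flp_e L156322) L187549
theorem L187555 : sm gg N24038 = N19772 := ded_17_2 (flp_b L156617) L155106 (flp_b L156292) (flp_g L156324) L187549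
theorem L187557 : sm ga N24038 = N19774 := ded_7_1 L156627 (flp_a L156012) L187381 (flp_a L187389) L186455 L185231 L156310 (flp_a L156320) L187549
theorem L187559 : sm ge N19730 = N24039 := rfl
theorem L187561 : sm ga N24039 = N19737 := ded_10_1 (flp_e L156382) (flp_a L156340) L187559
theorem L187563 : sm gc N24039 = N19731 := ded_19_1 (flp_e L156344) L156338 L187559
theorem L187565 : sm gg N19730 = N24040 := rfl
theorem L187567 : sm ga N24040 = N19738 := ded_12_1 (flp_g L156388) (flp_a L156340) L187565
theorem L187569 : sm gc N24040 = N19732 := ded_21_1 (flp_g L156352) L156338 L187565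
theorem L187571 : sm gd N24040 = N24022 := ded_24_1 (flp_g L187409) (flp_d L156342) L187565
theorem L187573 : sm gf N24040 = N23976 := ded_29_2 (flp_g L187067) (flp_a L187037) L187039 L187565
theorem L187575 : sm gg N19731 = N24041 := rfl
theorem L187577 : sm ga N24041 = N19739 := ded_12_1 (flp_g L156392) (flp_a L156346) L187575
theorem L187579 : sm gd N24041 = N19950 := ded_24_1 (flp_g L157833) (flp_d L156350) L187575
theorem L187581 : sm ge N24041 = N19732 := ded_26_1 (flp_g L156352) L156344 L187575
theorem L187583 : sm gf N24041 = N23977 := ded_29_2 (flp_g L187071) (flp_a L187045) L187049 L187575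
theorem L187585 : sm gb N19732 = N24042 := rfl
theorem L187587 : sm gd N24042 = N19733 := ded_14_2 (flp_b L156360) (flp_d L156356) L187585
theorem L187589 : sm ga N19733 = N24043 := rfl
theorem L187591 : sm ge N24043 = N19951 := ded_10_2 (flp_a L157841) (flp_e L156362) L187589
theorem L187593 : sm gc N19733 = N24044 := rfl
theorem L187595 : sm ge N24044 = N19952 := ded_19_2 (flp_c L157843) (flp_e L156362) L187593
theorem L187597 : sm gb N24044 = N19735 := ded_13_1 (flp_c L156372) (flp_b L108057) (flp_c L108051) L156360 L187593
theorem L187599 : sm gf N19733 = N24045 := rfl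
theorem L187601 : sm ge N24045 = N19953 := ded_25_1 (flp_f L157847) (flp_e L156362) L187599
theorem L187603 : sm gb N24045 = N23981 := ded_16_1 (flp_f L187097) (flp_b L155854) (flp_f L108055) L156360 L187599
theorem L187605 : sm gf N19734 = N24046 := rfl
theorem L187607 : sm ga N24046 = N19736 := ded_11_1 (flp_f L156376) L156364 L187605
theorem L187609 : sm gd N24046 = N23909 := ded_23_1 (flp_f L186451) (flp_d L156366) L187605
theorem L187611 : sm ge N24046 = N19954 := ded_25_1 (flp_f L157851) (flp_e L156368) L187605
theorem L187613 : sm gg N24046 = N24037 := ded_29_3 L187545 L186287 L160172 L187605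
theorem L187615 : sm gb N24046 = N19765 := ded_16_1 (flp_f L156557) L156539 L155160 L156370 L187605
theorem L187617 : sm gd N19735 = N24047 := rfl
theorem L187619 : sm gf N19735 = N24048 := rfl
theorem L187621 : sm gc N24048 = N19736 := ded_20_1 (flp_f L156376) L156372 L187619
theorem L187623 : sm ge N24048 = N19956 := ded_25_1 (flp_f L157861) (flp_e L156374) L187619
theorem L187625 : sm gg N20314 = N24048 := ded_29_1 (flp_f L187619) (flp_g L160162) (flp_a L160158) L160178
theorem L187627 : sm gd N19737 = N24049 := rfl
theorem L187629 : sm gb N24049 = N20318 := ded_14_1 (flp_d L160210) (flp_b L156384) L187627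
theorem L187631 : sm gg N19737 = N24050 := rfl
theorem L187633 : sm gc N24050 = N19739 := ded_21_1 (flp_g L156392) (flp_c L156386) L187631
theorem L187635 : sm ge N24050 = N19738 := ded_26_1 (flp_g L156388) L156382 L187631
theorem L187637 : sm gb N19738 = N24051 := rfl
theorem L187639 : sm gg N24051 = N20320 := ded_17_2 (flp_b L160218) (flp_g L110847) (flp_b L108063) L156388 L187637
theorem L187641 : sm gf N19738 = N24052 := rfl
theorem L187643 : sm ga N24052 = N23976 := ded_11_1 (flp_f L187573) L187567 L187641
theorem L187645 : sm gc N24052 = N19740 := ded_20_1 (flp_f L156398) (flp_c L156390) L187641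
theorem L187647 : sm gg N24052 = N23972 := ded_29_3 L187037 L155840 L156388 L187641
theorem L187649 : sm gf N19739 = N24053 := rfl
theorem L187651 : sm ga N24053 = N23977 := ded_11_1 (flp_f L187583) L187577 L187649
theorem L187653 : sm gd N24053 = N19960 := ded_23_1 (flp_f L157891) (flp_d L156394) L187649
theorem L187655 : sm ge N24053 = N19740 := ded_25_1 (flp_f L156398) (flp_e L156396) L187649
theorem L187657 : sm gg N24053 = N23973 := ded_29_3 L187045 L155846 L156392 L187649
theorem L187659 : sm gb N19740 = N24054 := rfl
theorem L187661 : sm gd N24054 = N19741 := ded_14_2 (flp_b L156406) (flp_d L156402) L187659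
theorem L187663 : sm ga N19741 = N24055 := rfl
theorem L187665 : sm ge N24055 = N19962 := ded_10_2 (flp_a L157903) (flp_e L156408) L187663
theorem L187667 : sm gc N19741 = N24056 := rfl
theorem L187669 : sm ge N24056 = N19963 := ded_19_2 (flp_c L157905) (flp_e L156408) L187667
theorem L187671 : sm gb N24056 = N19748 := ded_13_1 (flp_c L156444) (flp_b L108101) (flp_c L108079) L156406 L187667
theorem L187673 : sm gg N19741 = N24057 := rfl
theorem L187675 : sm ge N24057 = N19964 := ded_26_1 (flp_g L157911) (flp_e L156408) L187673
theorem L187677 : sm gb N24057 = N23971 := ded_17_1 (flp_g L187027) (flp_b L155824) (flp_g L108083) L156406 L187673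
theorem L187679 : sm gc N19742 = N24058 := rfl
theorem L187681 : sm ge N24058 = N19966 := ded_19_2 (flp_c L157921) (flp_e L156412) L187679
theorem L187683 : sm gg N19742 = N24059 := rfl
theorem L187685 : sm gd N24059 = N23893 := ded_24_1 L186327 L186264 L187683
theorem L187687 : sm ge N24059 = N19968 := ded_26_1 (flp_g L157929) (flp_e L156412) L187683
theorem L187689 : sm gf N23875 = N24059 := ded_29_0 (flp_g L187683) (flp_f L186183) (flp_g L187293) L187291
theorem L187691 : sm gb N24059 = N19753 := ded_17_1 (flp_g L156478) (flp_b L108105) (flp_g L108089) L156410 L187683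
theorem L187693 : sm gb N19743 = N24060 := rfl
theorem L187695 : sm ge N24060 = N19969 := ded_15_2 (flp_b L157933) (flp_e L156418) L187693
theorem L187697 : sm gd N19743 = N24061 := rfl
theorem L187699 : sm ga N24061 = N19744 := ded_9_1 (flp_d L156422) (flp_a L156416) L187697
theorem L187701 : sm gg N24061 = N19755 := ded_24_2 (flp_d L156486) (flp_g L156420) L187697
theorem L187703 : sm gc N19744 = N24062 := rfl
theorem L187705 : sm gg N24062 = N19757 := ded_21_2 (flp_c L156500) (flp_g L156424) L187703
theorem L187707 : sm ge N19744 = N24063 := rfl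
theorem L187709 : sm gg N24063 = N19758 := ded_26_2 (flp_e L156502) (flp_g L156424) L187707
theorem L187711 : sm gd N24063 = N19972 := ded_22_1 (flp_e L157945) (flp_d L109265) (flp_e L108093) L156422 L187707
theorem L187713 : sm gf N19744 = N24064 := rfl
theorem L187715 : sm gd N24064 = N19745 := ded_23_1 (flp_f L156426) L156422 L187713
theorem L187717 : sm gb N19745 = N24065 := rfl
theorem L187719 : sm ge N24065 = N19974 := ded_15_2 (flp_b L157953) (flp_e L156430) L187717
theorem L187721 : sm ga N22525 = N24065 := ded_10_3 L187719 L163822 (flp_e L175897)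
theorem L187723 : sm gg N22520 = N24065 := ded_26_0 L187719 L163824 L175863
theorem L187725 : sm gc N19747 = N24066 := rfl
theorem L187727 : sm ga N24066 = N19748 := ded_8_1 (flp_c L156444) L156440 L187725
theorem L187729 : sm ge N24066 = N19976 := ded_19_2 (flp_c L157963) (flp_e L156442) L187725
theorem L187731 : sm gg N24066 = N21273 := ded_21_2 (flp_c L187523) L187529 L187725
theorem L187733 : sm gd N19748 = N24067 := rfl
theorem L187735 : sm ge N24067 = N23250 := ded_22_2 (flp_d L181543) L144915 (flp_d L153739) (flp_e L156446) L187733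
theorem L187737 : sm gg N19748 = N24068 := rfl
theorem L187739 : sm ga N24068 = N21273 := ded_12_1 (flp_g L187731) L187727 L187737
theorem L187741 : sm gc N24068 = N19749 := ded_21_1 (flp_g L156448) L156444 L187737
theorem L187743 : sm ge N24068 = N19978 := ded_26_1 (flp_g L157981) (flp_e L156446) L187737
theorem L187745 : sm gf N21271 = N24068 := ded_29_0 (flp_g L187737) L167506 (flp_g L167500) L167488
theorem L187747 : sm gb N19751 = N24069 := rfl
theorem L187749 : sm ge N24069 = N19980 := ded_15_2 (flp_b L157999) (flp_e L156466) L187747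
theorem L187751 : sm gc N24069 = N19754 := ded_13_2 (flp_b L156482) (flp_c L108109) L108105 L156462 L187747
theorem L187753 : sm ga N24069 = N20391 := ded_7_1 (flp_b L160654) (flp_a L111133) (flp_b L92954) L45387 L45411 L92970 L111161 (flp_a L156464) L187747
theorem L187755 : sm gd N19751 = N24070 := rfl
theorem L187757 : sm ga N24070 = N20397 := ded_9_1 L160694 (flp_a L156464) L187755
theorem L187759 : sm gf N19751 = N24071 := rfl
theorem L187761 : sm ga N24071 = N20403 := ded_11_1 (flp_f L160722) (flp_a L156464) L187759
theorem L187763 : sm gc N24071 = N19752 := ded_20_1 (flp_f L156468) L156462 L187759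
theorem L187765 : sm ge N24071 = N19982 := ded_25_1 (flp_f L158009) (flp_e L156466) L187759
theorem L187767 : sm gg N24071 = N24032 := ded_29_1 L187503 (flp_g L160730) (flp_a L156464) L187759
theorem L187769 : sm gg N19751 = N24072 := rfl
theorem L187771 : sm ga N24072 = N20404 := ded_12_1 (flp_g L160730) (flp_a L156464) L187769
theorem L187773 : sm gc N24072 = N19753 := ded_21_1 (flp_g L156478) L156462 L187769
theorem L187775 : sm ge N24072 = N19983 := ded_26_1 (flp_g L158015) (flp_e L156466) L187769
theorem L187777 : sm ga N19754 = N24073 := rfl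
theorem L187779 : sm gc N24073 = N20391 := ded_8_2 (flp_a L187753) L187751 L187777
theorem L187781 : sm ge N24073 = N19984 := ded_10_2 (flp_a L158021) (flp_e L156484) L187777
theorem L187783 : sm gd N19754 = N24074 := rfl
theorem L187785 : sm gb N24074 = N19755 := ded_14_1 (flp_d L156486) L156482 L187783
theorem L187787 : sm gf N19754 = N24075 := rfl
theorem L187789 : sm ge N24075 = N19986 := ded_25_1 (flp_f L158029) (flp_e L156484) L187787
theorem L187791 : sm gb N21711 = N24075 := ded_15_3 L187789 L158061 (flp_e L170236)
theorem L187793 : sm gg N19754 = N24076 := rfl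
theorem L187795 : sm ge N24076 = N19987 := ded_26_1 (flp_g L158031) (flp_e L156484) L187793
theorem L187797 : sm gc N19755 = N24077 := rfl
theorem L187799 : sm ga N24077 = N19757 := ded_8_1 (flp_c L156500) (flp_a L156488) L187797
theorem L187801 : sm gd N24077 = N24027 := ded_28_7 L187461 (flp_c L167292) L115950 (flp_c L151307) L107963 L108109 L156486 L187797
theorem L187803 : sm gd N24069 = N23363 := ded_32_18 (flp_c L182329) L145396 (flp_d L104407) (flp_c L89330) L38808 L38976 L82759 L39114 L141593 (flp_c L21070) L10126 L141344 L9435 (flp_d L4856) (flp_c L2534) L1301 L634 (flp_b L617) (flp_d L1293) (flp_c L2530) (flp_d L4848) (flp_c L65381) L5781 L5783 (flp_c L3580) (flp_d L131708) (flp_c L6993) (flp_b L6991) (flp_d L141948) L1856 L915 (flp_c L972) (flp_b L975) L926 L140752 (flp_c L922) (flp_d L893) L1816 L142562 (flp_d L3438) (flp_c L1749) (flp_d L1651) L81212 L82374 L2781 (flp_c L2883) (flp_d L5591) (flp_c L82609) (flp_b L142156) L142158 (flp_c L13886) (flp_d L142191) (flp_c L82018) L142095 (flp_d L13624) (flp_c L6673) (flp_d L6201) L12557 (flp_b L81218) (flp_e L43695)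 L91559 L108330 (flp_d L108335) (flp_c L108291) (flp_b L108244) (flp_d L108242) (flp_c L91495) (flp_d L91389) L108013 L108015 L156166 L187459 (flp_d L187801) (flp_c L187797) (flp_b L187785) (flp_d L187783) (flp_c L187751)
theorem L187805 : sm ga N23363 = N21836 := ded_9_1 L171021 (flp_a L187753) L187803
theorem L187807 : sm gb N23363 = N24070 := ded_14_1 (flp_d L187755) L187747 L187803
theorem L187809 : N24074 = N23351 := coi_28_4 (flp_c L182261) L145360 L145380 L182307 L182309 L182329 (flp_d L187803) L187751 L187783
theorem L187810 : N24074 = N23351 := eqc rfl L187809 rfl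
theorem L187811 : sm gb N23351 = N19755 := trfs L187810 L187785 rfl
theorem L187813 : sm gd N23351 = N19754 := trfs L187810 (flp_d L187783) rfl
theorem L187815 : N23353 = N24073 := coi_28_8 (flp_a L187777) (flp_c L187751) L187803 (flp_c L182329) (flp_d L145394) (flp_c L104383) (flp_d L104367) L145362 L182273
theorem L187816 : N24073 = N23353 := (eqc rfl L187815 rfl).symm
theorem L187817 : sm ga N23353 = N19754 := trfs L187816 (flp_a L187777) rfl
theorem L187819 : sm gc N23353 = N20391 := trfs L187816 L187779 rfl
theorem L187821 : sm ge N23353 = N19984 := trfs L187816 L187781 rfl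
theorem L187823 : sm gc N21836 = N23360 := ded_18_9 (flp_d L182307) (flp_c L145380) (flp_d L145360) L182261 L187813 (flp_c L187751) L187803 (flp_c L182329) (flp_d L145394) (flp_c L104383) (flp_d L104367) L145362 L182273 L187819 (flp_d L171021)
theorem L187825 : sm gc N24070 = N23377 := ded_13_2 (flp_b L182411) (flp_c L145440) (flp_b L145396) L182329 L187807
theorem L187827 : sm ge N19755 = N24078 := rfl
theorem L187829 : sm ga N24078 = N19758 := ded_10_1 (flp_e L156502) (flp_a L156488) L187827
theorem L187831 : sm gd N24078 = N19989 := ded_22_1 (flp_e L158039) (flp_d L109295) (flp_e L108113) L156486 L187827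
theorem L187833 : sm gf N19755 = N24079 := rfl
theorem L187835 : sm ga N24079 = N19759 := ded_11_1 (flp_f L156508) (flp_a L156488) L187833
theorem L187837 : sm gd N24079 = N19756 := ded_23_1 (flp_f L156490) L156486 L187833
theorem L187839 : sm gg N24064 = N24079 := ded_29_1 (flp_f L187833) (flp_g L187701) L187699 L187713
theorem L187841 : sm gb N19756 = N24080 := rfl
theorem L187843 : sm ge N24080 = N19991 := ded_15_2 (flp_b L158051) (flp_e L156496) L187841
theorem L187845 : sm gc N24080 = N21264 := ded_13_2 L167458 (flp_c L156266) L156274 (flp_c L156494) L187841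
theorem L187847 : sm gf N24080 = N21711 := ded_16_2 L187791 (flp_f L187787) (flp_b L156482) L156490 L187841
theorem L187849 : sm gg N24080 = N21263 := ded_17_2 (flp_b L175867) L187723 (flp_b L187717) L156498 L187841
theorem L187851 : sm ga N24080 = N21714 := ded_30_3 (flp_f L170248) (flp_c L117863) (flp_b L96486) (flp_a L84857) L25106 L25120 L25124 (flp_a L25348) L82330 (flp_c L20817) (flp_b L10001) (flp_a L9829) L9999 (flp_c L20763) L43398 L91433 L108115 (flp_c L156494) L187841
theorem L187853 : sm gb N19757 = N24081 := rfl
theorem L187855 : sm gc N24081 = N19805 := ded_13_2 (flp_b L156895) (flp_c L108272) (flp_b L108125) L156500 L187853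
theorem L187857 : sm ge N19757 = N24082 := rfl
theorem L187859 : sm gc N24082 = N19758 := ded_19_1 (flp_e L156502) L156500 L187857
theorem L187861 : sm gf N19757 = N24083 := rfl
theorem L187863 : sm gc N24083 = N19759 := ded_20_1 (flp_f L156508) L156500 L187861
theorem L187865 : sm gf N19758 = N24084 := rfl
theorem L187867 : sm gd N24084 = N19996 := ded_23_1 (flp_f L158081) (flp_d L156506) L187865
theorem L187869 : sm ge N24084 = N19759 := ded_25_1 (flp_f L156508) L156502 L187865
theorem L187871 : sm gb N24084 = N24084 := ded_16_1 (flp_f L187865) L156504 L108277 (flp_b L156504) L187865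
theorem L187872 : sm gg N19759 = N24085 := rfl
theorem L187874 : sm ga N24085 = N24064 := ded_12_1 L187839 L187835 L187872
theorem L187876 : sm gd N24085 = N19760 := ded_24_1 (flp_g L156513) (flp_d L156510) L187872
theorem L187878 : sm gf N24061 = N24085 := ded_29_0 (flp_g L187872) (flp_f L156508) (flp_g L156424) (flp_a L187699)
theorem L187880 : sm gb N19760 = N24086 := rfl
theorem L187882 : sm ge N24086 = N19998 := ded_15_2 (flp_b L158094) (flp_e L156519) L187880
theorem L187884 : sm gg N24086 = N24086 := ded_17_2 (flp_b L187880) (flp_g L156513) L108133 L156513 L187880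
theorem L187885 : sm gc N19761 = N24087 := rfl
theorem L187887 : sm ge N24087 = N20000 := ded_19_2 (flp_c L158105) (flp_e L156525) L187885
theorem L187889 : sm gg N24087 = N23908 := ded_21_2 (flp_c L186444) (flp_g L156527) L187885
theorem L187891 : sm gf N19761 = N24088 := rfl
theorem L187893 : sm gd N24088 = N23888 := ded_23_1 L186287 (flp_d L160176) L187891
theorem L187895 : sm ge N24088 = N20001 := ded_25_1 (flp_f L158109) (flp_e L156525) L187891
theorem L187897 : sm gg N24088 = N24019 := ded_29_3 (flp_a L187389) (flp_f L186451) (flp_g L156527) L187891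
theorem L187899 : sm gb N24088 = N23873 := ded_16_1 L186183 (flp_b L156410) L108140 L156523 L187891
theorem L187901 : sm gb N19763 = N24089 := rfl
theorem L187903 : sm ge N24089 = N20002 := ded_15_2 (flp_b L158115) (flp_e L156545) L187901
theorem L187905 : sm gf N24089 = N23517 := ded_16_2 (flp_b L183281) (flp_f L151720) (flp_b L147965) L156541 L187901
theorem L187907 : sm gg N19764 = N24090 := rfl
theorem L187909 : sm ga N24090 = N23879 := ded_12_1 L186224 L160398 L187907
theorem L187911 : sm ge N24090 = N20003 := ded_26_1 (flp_g L158121) (flp_e L156549) L187907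
theorem L187913 : sm gf N24038 = N24090 := ded_29_0 (flp_g L187907) L156551 L156623 (flp_a L187557)
theorem L187915 : sm gb N24090 = N24037 := ded_17_1 (flp_g L187613) L187615 (flp_g L156553) L156547 L187907
theorem L187917 : sm ge N19768 = N24091 := rfl
theorem L187919 : sm ga N24091 = N19775 := ded_10_1 (flp_e L156629) (flp_a L156587) L187917
theorem L187921 : sm gc N24091 = N19769 := ded_19_1 (flp_e L156591) L156585 L187917
theorem L187923 : sm gf N19768 = N24092 := rfl
theorem L187925 : sm ga N24092 = N19776 := ded_11_1 (flp_f L156635) (flp_a L156587) L187923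
theorem L187927 : sm gc N24092 = N19770 := ded_20_1 (flp_f L156599) L156585 L187923
theorem L187929 : sm gd N24092 = N24030 := ded_23_1 (flp_f L187481) (flp_d L156589) L187923
theorem L187931 : sm gg N24001 = N24092 := ded_29_1 (flp_f L187923) (flp_g L187223) L187221 L187251
theorem L187933 : sm gf N19769 = N24093 := rfl
theorem L187935 : sm ga N24093 = N19777 := ded_11_1 (flp_f L156639) (flp_a L156593) L187933
theorem L187937 : sm gd N24093 = N20005 := ded_23_1 (flp_f L158139) (flp_d L156597) L187933
theorem L187939 : sm ge N24093 = N19770 := ded_25_1 (flp_f L156599) L156591 L187933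
theorem L187941 : sm gg N24002 = N24093 := ded_29_1 (flp_f L187933) (flp_g L187233) L187229 L187255
theorem L187943 : sm gb N19770 = N24094 := rfl
theorem L187945 : sm gd N24094 = N19771 := ded_14_2 (flp_b L156607) (flp_d L156603) L187943
theorem L187947 : sm ga N19771 = N24095 := rfl
theorem L187949 : sm ge N24095 = N20006 := ded_10_2 (flp_a L158147) (flp_e L156609) L187947
theorem L187951 : sm gc N19771 = N24096 := rfl
theorem L187953 : sm ge N24096 = N20007 := ded_19_2 (flp_c L158149) (flp_e L156609) L187951
theorem L187955 : sm gb N24096 = N19773 := ded_13_1 (flp_c L156619) (flp_b L108176) (flp_c L108170) L156607 L187951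
theorem L187957 : sm gg N19771 = N24097 := rfl
theorem L187959 : sm ge N24097 = N20008 := ded_26_1 (flp_g L158153) (flp_e L156609) L187957
theorem L187961 : sm gb N24097 = N24006 := ded_17_1 (flp_g L187281) (flp_b L155952) L108174 L156607 L187957
theorem L187963 : sm gd N19773 = N24098 := rfl
theorem L187965 : sm gg N19773 = N24099 := rfl
theorem L187967 : sm gc N24099 = N19774 := ded_21_1 (flp_g L156623) L156619 L187965
theorem L187969 : sm ge N24099 = N20010 := ded_26_1 (flp_g L158159) (flp_e L156621) L187965
theorem L187971 : sm gf N24099 = N20348 := ded_29_2 (flp_g L160408) L160388 L160392 L187965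
theorem L187973 : sm gd N19775 = N24100 := rfl
theorem L187975 : sm gb N24100 = N20352 := ded_14_1 (flp_d L160440) (flp_b L156631) L187973
theorem L187977 : sm gf N19775 = N24101 := rfl
theorem L187979 : sm gc N24101 = N19777 := ded_20_1 (flp_f L156639) (flp_c L156633) L187977
theorem L187981 : sm ge N24101 = N19776 := ded_25_1 (flp_f L156635) L156629 L187977
theorem L187983 : sm gb N19776 = N24102 := rfl
theorem L187985 : sm gf N24102 = N20354 := ded_16_2 (flp_b L160448) (flp_f L111015) (flp_b L108182) L156635 L187983
theorem L187987 : sm gg N19776 = N24103 := rfl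
theorem L187989 : sm ga N24103 = N24001 := ded_12_1 L187931 L187925 L187987
theorem L187991 : sm gc N24103 = N19778 := ded_21_1 (flp_g L156645) (flp_c L156637) L187987
theorem L187993 : sm gf N23997 = N24103 := ded_29_0 (flp_g L187987) (flp_f L156635) (flp_g L155938) (flp_a L187221)
theorem L187995 : sm gg N19777 = N24104 := rfl
theorem L187997 : sm ga N24104 = N24002 := ded_12_1 L187941 L187935 L187995
theorem L187999 : sm gd N24104 = N20014 := ded_24_1 (flp_g L158189) (flp_d L156641) L187995
theorem L188001 : sm ge N24104 = N19778 := ded_26_1 (flp_g L156645) (flp_e L156643) L187995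
theorem L188003 : sm gf N23998 = N24104 := ded_29_0 (flp_g L187995) (flp_f L156639) (flp_g L155944) (flp_a L187229)
theorem L188005 : sm gb N19778 = N24105 := rfl
theorem L188007 : sm gd N24105 = N19779 := ded_14_2 (flp_b L156653) (flp_d L156649) L188005
theorem L188009 : sm ga N19779 = N24106 := rfl
theorem L188011 : sm ge N24106 = N20016 := ded_10_2 (flp_a L158201) (flp_e L156655) L188009
theorem L188013 : sm gc N19779 = N24107 := rfl
theorem L188015 : sm ge N24107 = N20017 := ded_19_2 (flp_c L158203) (flp_e L156655) L188013
theorem L188017 : sm gb N24107 = N19786 := ded_13_1 (flp_c L156693) (flp_b L108220) (flp_c L108198) L156653 L188013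
theorem L188019 : sm gf N19779 = N24108 := rfl
theorem L188021 : sm ge N24108 = N20018 := ded_25_1 (flp_f L158209) (flp_e L156655) L188019
theorem L188023 : sm gb N24108 = N23996 := ded_16_1 (flp_f L187211) (flp_b L155922) L108202 L156653 L188019
theorem L188025 : sm gc N19780 = N24109 := rfl
theorem L188027 : sm ge N24109 = N20020 := ded_19_2 (flp_c L158219) (flp_e L156659) L188025
theorem L188029 : sm gf N19780 = N24110 := rfl
theorem L188031 : sm gd N24110 = N23884 := ded_23_1 (flp_f L186260) L186201 L188029
theorem L188033 : sm ge N24110 = N20021 := ded_25_1 (flp_f L158221) (flp_e L156659) L188029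
theorem L188035 : sm gg N24110 = N23871 := ded_29_3 (flp_a L187107) (flp_f L187109) L186151 L188029
theorem L188037 : sm gb N24110 = N19790 := ded_16_1 (flp_f L156719) (flp_b L108224) (flp_f L108208) L156657 L188029
theorem L188039 : sm gb N19781 = N24111 := rfl
theorem L188041 : sm ge N24111 = N20023 := ded_15_2 (flp_b L158231) (flp_e L156665) L188039
theorem L188043 : sm gd N19781 = N24112 := rfl
theorem L188045 : sm ga N24112 = N19782 := ded_9_1 (flp_d L156669) (flp_a L156663) L188043
theorem L188047 : sm gf N24112 = N19793 := ded_23_2 (flp_d L156739) (flp_f L156667) L188043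
theorem L188049 : sm gc N19782 = N24113 := rfl
theorem L188051 : sm gf N24113 = N19795 := ded_20_2 (flp_c L156753) (flp_f L156671) L188049
theorem L188053 : sm ge N19782 = N24114 := rfl
theorem L188055 : sm gf N24114 = N19796 := ded_25_2 (flp_e L156755) (flp_f L156671) L188053
theorem L188057 : sm gd N24114 = N20026 := ded_22_1 (flp_e L158243) (flp_d L109454) (flp_e L108212) L156669 L188053
theorem L188059 : sm gg N19782 = N24115 := rfl
theorem L188061 : sm gd N24115 = N19783 := ded_24_1 (flp_g L156673) L156669 L188059
theorem L188063 : sm gb N19783 = N24116 := rfl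
theorem L188065 : sm ge N24116 = N20028 := ded_15_2 (flp_b L158251) (flp_e L156677) L188063
theorem L188067 : sm ga N22465 = N24116 := ded_10_3 L188065 (flp_a L163791) (flp_e L175501)
theorem L188069 : sm gf N22461 = N24116 := ded_25_0 L188065 (flp_f L163793) L175432
theorem L188071 : sm gc N19785 = N24117 := rfl
theorem L188073 : sm ga N24117 = N19786 := ded_8_1 (flp_c L156693) L156689 L188071
theorem L188075 : sm ge N24117 = N20030 := ded_19_2 (flp_c L158261) (flp_e L156691) L188071
theorem L188077 : sm gf N24117 = N21313 := ded_20_2 (flp_c L187449) (flp_f L187455) L188071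
theorem L188079 : sm gd N19786 = N24118 := rfl
theorem L188081 : sm ge N24118 = N23321 := ded_22_2 (flp_d L182023) L145182 (flp_d L154011) (flp_e L156695) L188079
theorem L188083 : sm gf N19786 = N24119 := rfl
theorem L188085 : sm ga N24119 = N21313 := ded_11_1 (flp_f L188077) L188073 L188083
theorem L188087 : sm gc N24119 = N19787 := ded_20_1 (flp_f L156697) L156693 L188083
theorem L188089 : sm ge N24119 = N20032 := ded_25_1 (flp_f L158279) (flp_e L156695) L188083
theorem L188091 : sm gg N24119 = N21310 := ded_29_3 (flp_a L167734) L167742 (flp_g L167748) L188083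
theorem L188093 : sm gb N19789 = N24120 := rfl
theorem L188095 : sm ge N24120 = N20034 := ded_15_2 (flp_b L158299) (flp_e L156717) L188093
theorem L188097 : sm gc N24120 = N19792 := ded_13_2 (flp_b L156735) (flp_c L108228) L108224 L156713 L188093
theorem L188099 : sm ga N24120 = N20426 := ded_7_1 (flp_b L160850) (flp_a L111249) (flp_b L93007) L45465 L45489 L93023 L111277 (flp_a L156715) L188093
theorem L188101 : sm gd N19789 = N24121 := rfl
theorem L188103 : sm ga N24121 = N20432 := ded_9_1 L160890 (flp_a L156715) L188101
theorem L188105 : sm gf N19789 = N24122 := rfl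
theorem L188107 : sm ga N24122 = N20438 := ded_11_1 (flp_f L160918) (flp_a L156715) L188105
theorem L188109 : sm gc N24122 = N19790 := ded_20_1 (flp_f L156719) L156713 L188105
theorem L188111 : sm ge N24122 = N20036 := ded_25_1 (flp_f L158309) (flp_e L156717) L188105
theorem L188113 : sm gg N19789 = N24123 := rfl
theorem L188115 : sm ga N24123 = N20439 := ded_12_1 (flp_g L160922) (flp_a L156715) L188113
theorem L188117 : sm gc N24123 = N19791 := ded_21_1 (flp_g L156723) L156713 L188113
theorem L188119 : sm ge N24123 = N20037 := ded_26_1 (flp_g L158315) (flp_e L156717) L188113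
theorem L188121 : sm gf N24123 = N24024 := ded_29_2 L187431 (flp_a L188107) (flp_f L188105) L188113
theorem L188123 : sm ga N19792 = N24124 := rfl
theorem L188125 : sm gc N24124 = N20426 := ded_8_2 (flp_a L188099) L188097 L188123
theorem L188127 : sm ge N24124 = N20038 := ded_10_2 (flp_a L158321) (flp_e L156737) L188123
theorem L188129 : sm gd N19792 = N24125 := rfl
theorem L188131 : sm gb N24125 = N19793 := ded_14_1 (flp_d L156739) L156735 L188129
theorem L188133 : sm gf N19792 = N24126 := rfl
theorem L188135 : sm ge N24126 = N20040 := ded_25_1 (flp_f L158329) (flp_e L156737) L188133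
theorem L188137 : sm gg N19792 = N24127 := rfl
theorem L188139 : sm ge N24127 = N20041 := ded_26_1 (flp_g L158331) (flp_e L156737) L188137
theorem L188141 : sm gb N21552 = N24127 := ded_15_3 L188139 L158361 (flp_e L169231)
theorem L188143 : sm gc N19793 = N24128 := rfl
theorem L188145 : sm ga N24128 = N19795 := ded_8_1 (flp_c L156753) (flp_a L156741) L188143
theorem L188147 : sm gd N24128 = N24035 := ded_28_7 L187535 (flp_c L167154) L115868 (flp_c L151199) L108011 L108228 L156739 L188143
theorem L188149 : sm gd N24120 = N23422 := ded_32_18 (flp_c L182691) L145614 (flp_d L104514) (flp_c L89396) L38874 L39092 L82697 L38998 L132431 (flp_c L20986) L10088 L141705 L9349 (flp_d L4823) (flp_c L2512) L1274 L65298 L617 (flp_d L1270) (flp_c L2510) (flp_d L4819) L4817 L5717 L5719 (flp_c L3609) (flp_d L142141) L6993 (flp_b L6938) (flp_d L142153) L1834 L901 (flp_c L948) L61824 L955 L140485 (flp_c L951) (flp_d L907) L1836 (flp_b L140494) (flp_d L3487) (flp_c L1772) (flp_d L1667) (flp_c L82387) (flp_b L82374) L2769 (flp_c L2857) (flp_d L5541) (flp_c L80938) L142567 L142232 (flp_c L13622)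 (flp_d L142098) L82018 L142189 (flp_d L13888) (flp_c L6790) (flp_d L6290) L12751 (flp_b L79559) (flp_e L43597) L91543 L108299 (flp_d L108304) (flp_c L108272) (flp_b L108125) (flp_d L108123) (flp_c L91437) (flp_d L91375) L107965 (flp_b L108015) L156276 L187533 (flp_d L188147) (flp_c L188143) (flp_b L188131) (flp_d L188129) (flp_c L188097)
theorem L188151 : sm ga N23422 = N21888 := ded_9_1 L171364 (flp_a L188099) L188149
theorem L188153 : sm gb N23422 = N24121 := ded_14_1 (flp_d L188101) L188093 L188149
theorem L188155 : N24125 = N23410 := coi_28_4 (flp_c L182623) L145582 L145598 L182669 L182671 L182691 (flp_d L188149) L188097 L188129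
theorem L188156 : N24125 = N23410 := eqc rfl L188155 rfl
theorem L188157 : sm gb N23410 = N19793 := trfs L188156 L188131 rfl
theorem L188159 : sm gd N23410 = N19792 := trfs L188156 (flp_d L188129) rfl
theorem L188161 : N23412 = N24124 := coi_28_8 (flp_a L188123) (flp_c L188097) L188149 (flp_c L182691) (flp_d L145612) (flp_c L104488) (flp_d L104472) L145584 L182635
theorem L188162 : N24124 = N23412 := (eqc rfl L188161 rfl).symm
theorem L188163 : sm ga N23412 = N19792 := trfs L188162 (flp_a L188123) rfl
theorem L188165 : sm gc N23412 = N20426 := trfs L188162 L188125 rfl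
theorem L188167 : sm ge N23412 = N20038 := trfs L188162 L188127 rfl
theorem L188169 : sm gc N21888 = N23419 := ded_18_9 (flp_d L182669) (flp_c L145598) (flp_d L145582) L182623 L188159 (flp_c L188097) L188149 (flp_c L182691) (flp_d L145612) (flp_c L104488) (flp_d L104472) L145584 L182635 L188165 (flp_d L171364)
theorem L188171 : sm gc N24121 = N23436 := ded_13_2 (flp_b L182793) (flp_c L145666) (flp_b L145614) L182691 L188153
theorem L188173 : sm ge N19793 = N24129 := rfl
theorem L188175 : sm ga N24129 = N19796 := ded_10_1 (flp_e L156755) (flp_a L156741) L188173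
theorem L188177 : sm gd N24129 = N20043 := ded_22_1 (flp_e L158339) (flp_d L109486) (flp_e L108232) L156739 L188173
theorem L188179 : sm gg N19793 = N24130 := rfl
theorem L188181 : sm ga N24130 = N19797 := ded_12_1 (flp_g L156761) (flp_a L156741) L188179
theorem L188183 : sm gd N24130 = N19794 := ded_24_1 (flp_g L156743) L156739 L188179
theorem L188185 : sm gf N24130 = N24115 := ded_29_2 (flp_g L188059) (flp_a L188045) L188047 L188179
theorem L188187 : sm gb N19794 = N24131 := rfl
theorem L188189 : sm ge N24131 = N20045 := ded_15_2 (flp_b L158351) (flp_e L156749) L188187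
theorem L188191 : sm gc N24131 = N21303 := ded_13_2 L167704 (flp_c L156156) (flp_b L156164) (flp_c L156747) L188187
theorem L188193 : sm gf N24131 = N21302 := ded_16_2 (flp_b L175436) L188069 (flp_b L188063) (flp_f L156751) L188187
theorem L188195 : sm gg N24131 = N21552 := ded_17_2 L188141 (flp_g L188137) (flp_b L156735) L156743 L188187
theorem L188197 : sm ga N21556 = N24131 := ded_10_3 L188189 (flp_a L158355) (flp_e L169257)
theorem L188199 : sm gb N19795 = N24132 := rfl
theorem L188201 : sm gc N24132 = N19812 := ded_13_2 (flp_b L156934) (flp_c L108291) (flp_b L108244) L156753 L188199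
theorem L188203 : sm ge N19795 = N24133 := rfl
theorem L188205 : sm gc N24133 = N19796 := ded_19_1 (flp_e L156755) L156753 L188203
theorem L188207 : sm gg N19795 = N24134 := rfl
theorem L188209 : sm gc N24134 = N19797 := ded_21_1 (flp_g L156761) L156753 L188207
theorem L188211 : sm gg N19796 = N24135 := rfl
theorem L188213 : sm gd N24135 = N20050 := ded_24_1 (flp_g L158381) (flp_d L156759) L188211
theorem L188215 : sm ge N24135 = N19797 := ded_26_1 (flp_g L156761) L156755 L188211
theorem L188217 : sm gb N24135 = N24135 := ded_17_1 (flp_g L188211) L156757 L108296 (flp_b L156757) L188211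
theorem L188218 : sm gf N19797 = N24136 := rfl
theorem L188220 : sm ga N24136 = N24115 := ded_11_1 (flp_f L188185) L188181 L188218
theorem L188222 : sm gd N24136 = N19798 := ded_23_1 (flp_f L156766) (flp_d L156763) L188218
theorem L188224 : sm gg N24136 = N24112 := ded_29_3 L188045 L156671 L156761 L188218
theorem L188226 : sm gb N19798 = N24137 := rfl
theorem L188228 : sm ge N24137 = N20052 := ded_15_2 (flp_b L158394) (flp_e L156772) L188226
theorem L188230 : sm gf N24137 = N24137 := ded_16_2 (flp_b L188226) (flp_f L156766) L108252 L156766 L188226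
theorem L188231 : sm gc N19799 = N24138 := rfl
theorem L188233 : sm ge N24138 = N20054 := ded_19_2 (flp_c L158405) (flp_e L156778) L188231
theorem L188235 : sm gf N24138 = N23902 := ded_20_2 (flp_c L186398) (flp_f L156780) L188231
theorem L188237 : sm gg N19799 = N24139 := rfl
theorem L188239 : sm gd N24139 = N23879 := ded_24_1 L186224 (flp_d L160406) L188237
theorem L188241 : sm ge N24139 = N20055 := ded_26_1 (flp_g L158409) (flp_e L156778) L188237
theorem L188243 : sm gf N23994 = N24139 := ded_29_0 (flp_g L188237) L156780 L186405 L187201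
theorem L188245 : sm gb N24139 = N23869 := ded_17_1 L186151 (flp_b L156657) (flp_g L108259) L156776 L188237
theorem L188247 : sm gb N19800 = N24140 := rfl
theorem L188249 : sm ge N24140 = N20056 := ded_15_2 (flp_b L158415) (flp_e L156786) L188247
theorem L188251 : sm gd N19800 = N24141 := rfl
theorem L188253 : sm ga N24141 = N19801 := ded_9_1 (flp_d L156788) L156782 L188251
theorem L188255 : sm gf N19800 = N24142 := rfl
theorem L188257 : sm ga N24142 = N19802 := ded_11_1 (flp_f L156875) L156782 L188255
theorem L188259 : sm gc N24142 = N20422 := ded_20_1 L160834 (flp_c L156784) L188255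
theorem L188261 : sm ge N24142 = N20058 := ded_25_1 (flp_f L158425) (flp_e L156786) L188255
theorem L188263 : sm gg N19800 = N24143 := rfl
theorem L188265 : sm ga N24143 = N19803 := ded_12_1 (flp_g L156882) L156782 L188263
theorem L188267 : sm gc N24143 = N20427 := ded_21_1 (flp_g L160854) (flp_c L156784) L188263
theorem L188269 : sm ge N24143 = N20059 := ded_26_1 (flp_g L158431) (flp_e L156786) L188263
theorem L188271 : sm gf N24143 = N20069 := ded_29_2 L158502 (flp_a L188257) (flp_f L188255) L188263
theorem L188273 : sm gc N19801 = N24144 := rfl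
theorem L188275 : sm ge N19801 = N24145 := rfl
theorem L188277 : sm gb N24145 = N19804 := ded_15_1 (flp_e L156888) (flp_b L156790) L188275
theorem L188279 : sm gd N24145 = N20060 := ded_22_1 (flp_e L158441) (flp_d L109557) (flp_e L108263) L156788 L188275
theorem L188281 : sm gf N19801 = N24146 := rfl
theorem L188283 : sm gd N24146 = N19802 := ded_23_1 (flp_f L156875) L156788 L188281
theorem L188285 : sm gb N24146 = N24146 := ded_16_1 (flp_f L188281) L156790 L108271 (flp_b L156790) L188281
theorem L188286 : sm gg N19801 = N24147 := rfl
theorem L188288 : sm gd N24147 = N19803 := ded_24_1 (flp_g L156882) L156788 L188286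
theorem L188290 : sm gf N19803 = N24148 := rfl
theorem L188292 : sm ga N24148 = N20069 := ded_11_1 (flp_f L188271) L188265 L188290
theorem L188294 : sm gc N24148 = N20428 := ded_20_1 (flp_f L160862) (flp_c L156884) L188290
theorem L188296 : sm ge N24148 = N20062 := ded_25_1 (flp_f L158457) (flp_e L156886) L188290
theorem L188298 : sm gg N24148 = N24142 := ded_29_3 L188257 (flp_f L156875) L156882 L188290
theorem L188300 : sm ga N19805 = N24149 := rfl
theorem L188302 : sm ge N19805 = N24150 := rfl
theorem L188304 : sm gb N24150 = N19806 := ded_15_1 (flp_e L156897) L156895 L188302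
theorem L188306 : sm gd N24150 = N23390 := ded_22_1 (flp_e L182474) (flp_d L145778) (flp_e L156947) L156945 L188302
theorem L188308 : sm gf N19805 = N24151 := rfl
theorem L188310 : sm gb N24151 = N24151 := ded_16_1 (flp_f L188308) (flp_b L156895) L108274 L156895 L188308
theorem L188311 : sm gg N19805 = N24152 := rfl
theorem L188313 : sm gb N19807 = N24153 := rfl
theorem L188315 : sm ge N24153 = N20067 := ded_15_2 (flp_b L158486) (flp_e L156908) L188313
theorem L188317 : sm gd N19807 = N24154 := rfl
theorem L188319 : sm ga N24154 = N19808 := ded_9_1 (flp_d L156910) L156904 L188317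
theorem L188321 : sm gf N19807 = N24155 := rfl
theorem L188323 : sm ga N24155 = N19809 := ded_11_1 (flp_f L156914) L156904 L188321
theorem L188325 : sm gc N24155 = N20392 := ded_20_1 (flp_f L160658) (flp_c L156906) L188321
theorem L188327 : sm ge N24155 = N20061 := ded_25_1 (flp_f L158455) (flp_e L156908) L188321
theorem L188329 : sm gg N24155 = N20060 := ded_29_1 L158445 (flp_g L156920) L156904 L188321
theorem L188331 : sm gg N19807 = N24156 := rfl
theorem L188333 : sm ga N24156 = N19810 := ded_12_1 (flp_g L156920) L156904 L188331
theorem L188335 : sm gc N24156 = N20388 := ded_21_1 L160642 (flp_c L156906) L188331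
theorem L188337 : sm ge N24156 = N20068 := ded_26_1 (flp_g L158488) (flp_e L156908) L188331
theorem L188339 : sm gc N19808 = N24157 := rfl
theorem L188341 : sm ge N19808 = N24158 := rfl
theorem L188343 : sm gb N24158 = N19811 := ded_15_1 (flp_e L156927) (flp_b L156912) L188341
theorem L188345 : sm gd N24158 = N20069 := ded_22_1 (flp_e L158498) (flp_d L109616) (flp_e L108282) L156910 L188341
theorem L188347 : sm gg N24146 = N24158 := ded_24_0 L188345 L158502 (flp_d L188283)
theorem L188349 : sm gf N19808 = N24159 := rfl
theorem L188351 : sm gd N24159 = N19809 := ded_23_1 (flp_f L156914) L156910 L188349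
theorem L188353 : sm gg N19808 = N24160 := rfl
theorem L188355 : sm gd N24160 = N19810 := ded_24_1 (flp_g L156920) L156910 L188353
theorem L188357 : sm ge N24160 = N24146 := ded_26_1 L188347 (flp_e L188341) L188353
theorem L188359 : sm gb N24160 = N24160 := ded_17_1 (flp_g L188353) L156912 L108290 (flp_b L156912) L188353
theorem L188360 : sm gf N24145 = N24160 := ded_23_0 L188355 (flp_f L158445) (flp_d L188279)
theorem L188362 : sm gg N19809 = N24161 := rfl
theorem L188364 : sm ga N24161 = N20060 := ded_12_1 (flp_g L188329) L188323 L188362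
theorem L188366 : sm gc N24161 = N20393 := ded_21_1 (flp_g L160666) (flp_c L156916) L188362
theorem L188368 : sm ge N24161 = N20057 := ded_26_1 (flp_g L158423) (flp_e L156918) L188362
theorem L188370 : sm gf N24156 = N24161 := ded_29_0 (flp_g L188362) (flp_f L156914) L156920 (flp_a L188333)
theorem L188372 : sm ga N19812 = N24162 := rfl
theorem L188374 : sm ge N19812 = N24163 := rfl
theorem L188376 : sm gb N24163 = N19813 := ded_15_1 (flp_e L156936) L156934 L188374
theorem L188378 : sm gd N24163 = N23449 := ded_22_1 (flp_e L182864) (flp_d L145900) (flp_e L156984) L156982 L188374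
theorem L188380 : sm gf N19812 = N24164 := rfl
theorem L188382 : sm gg N19812 = N24165 := rfl
theorem L188384 : sm gb N24165 = N24165 := ded_17_1 (flp_g L188382) (flp_b L156934) L108293 L156934 L188382
theorem L188385 : sm ga N19814 = N24166 := rfl
theorem L188387 : sm gc N24166 = N21905 := ded_8_2 (flp_a L171454) (flp_c L156949) L188385
theorem L188389 : sm gd N24166 = N24149 := ded_9_2 (flp_a L188300) (flp_d L156945) L188385
theorem L188391 : sm ge N24166 = N23463 := ded_10_2 (flp_a L182954) (flp_e L156947) L188385
theorem L188393 : sm gf N19814 = N24167 := rfl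
theorem L188395 : sm gc N24167 = N21907 := ded_20_1 (flp_f L171460) (flp_c L156949) L188393
theorem L188397 : sm gd N24167 = N24151 := ded_23_1 (flp_f L188308) (flp_d L156945) L188393
theorem L188399 : sm ge N24167 = N23464 := ded_25_1 (flp_f L182958) (flp_e L156947) L188393
theorem L188401 : sm gb N24167 = N24167 := ded_16_1 (flp_f L188393) (flp_b L156943) L108303 L156943 L188393
theorem L188402 : sm gg N19814 = N24168 := rfl
theorem L188404 : sm gc N24168 = N21908 := ded_21_1 (flp_g L171464) (flp_c L156949) L188402
theorem L188406 : sm gd N24168 = N24152 := ded_24_1 (flp_g L188311) (flp_d L156945) L188402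
theorem L188408 : sm ge N24168 = N23465 := ded_26_1 (flp_g L182963) (flp_e L156947) L188402
theorem L188410 : sm gb N19815 = N24169 := rfl
theorem L188414 : sm gd N19815 = N24170 := rfl
theorem L188416 : sm ga N24170 = N19816 := ded_9_1 (flp_d L156956) L156951 L188414
theorem L188418 : sm gf N19815 = N24171 := rfl
theorem L188420 : sm ga N24171 = N19817 := ded_11_1 (flp_f L156960) L156951 L188418
theorem L188422 : sm gc N24171 = N24171 := ded_20_1 (flp_f L188418) L156953 L188418
theorem L188423 : sm ge N24171 = N23468 := ded_25_1 (flp_f L182973) (flp_e L156954) L188418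
theorem L188425 : sm gg N19815 = N24172 := rfl
theorem L188427 : sm ga N24172 = N19818 := ded_12_1 (flp_g L156966) L156951 L188425
theorem L188432 : sm gc N19816 = N24173 := rfl
theorem L188434 : sm gb N24173 = N24144 := ded_13_1 (flp_c L188273) L156790 L108323 (flp_b L156958) L188432
theorem L188436 : sm ge N19816 = N24174 := rfl
theorem L188438 : sm gb N24174 = N19819 := ded_15_1 (flp_e L156971) (flp_b L156958) L188436
theorem L188440 : sm gd N24174 = N23471 := ded_22_1 (flp_e L182987) (flp_d L145783) (flp_e L142790) L156956 L188436
theorem L188442 : sm gf N19816 = N24175 := rfl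
theorem L188444 : sm gd N24175 = N19817 := ded_23_1 (flp_f L156960) L156956 L188442
theorem L188446 : sm gb N24175 = N24175 := ded_16_1 (flp_f L188442) L156958 L108322 (flp_b L156958) L188442
theorem L188447 : sm gg N19816 = N24176 := rfl
theorem L188449 : sm gd N24176 = N19818 := ded_24_1 (flp_g L156966) L156956 L188447
theorem L188458 : sm gf N19818 = N24178 := rfl
theorem L188463 : sm ge N24178 = N23475 := ded_25_1 (flp_f L183005) (flp_e L156969) L188458
theorem L188465 : sm gg N24178 = N24171 := ded_29_3 L188420 (flp_f L156960) L156966 L188458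
theorem L188467 : sm ga N19820 = N24179 := rfl
theorem L188469 : sm gc N24179 = N21898 := ded_8_2 (flp_a L171421) (flp_c L156986) L188467
theorem L188471 : sm gd N24179 = N24162 := ded_9_2 (flp_a L188372) (flp_d L156982) L188467
theorem L188473 : sm ge N24179 = N23487 := ded_10_2 (flp_a L183103) (flp_e L156984) L188467
theorem L188475 : sm gf N19820 = N24180 := rfl
theorem L188477 : sm gc N24180 = N21900 := ded_20_1 (flp_f L171427) (flp_c L156986) L188475
theorem L188479 : sm gd N24180 = N24164 := ded_23_1 (flp_f L188380) (flp_d L156982) L188475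
theorem L188481 : sm ge N24180 = N23488 := ded_25_1 (flp_f L183109) (flp_e L156984) L188475
theorem L188483 : sm gg N19820 = N24181 := rfl
theorem L188485 : sm gc N24181 = N21901 := ded_21_1 (flp_g L171429) (flp_c L156986) L188483
theorem L188487 : sm gd N24181 = N24165 := ded_24_1 (flp_g L188382) (flp_d L156982) L188483
theorem L188489 : sm ge N24181 = N23489 := ded_26_1 (flp_g L183115) (flp_e L156984) L188483
theorem L188491 : sm gb N24181 = N24181 := ded_17_1 (flp_g L188483) (flp_b L156980) L108334 L156980 L188483
theorem L188492 : sm gb N19821 = N24182 := rfl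
theorem L188496 : sm gd N19821 = N24183 := rfl
theorem L188498 : sm ga N24183 = N19822 := ded_9_1 (flp_d L156993) L156988 L188496
theorem L188500 : sm gf N19821 = N24184 := rfl
theorem L188502 : sm ga N24184 = N19823 := ded_11_1 (flp_f L156997) L156988 L188500
theorem L188505 : sm ge N24184 = N23492 := ded_25_1 (flp_f L183128) (flp_e L156991) L188500
theorem L188507 : sm gg N19821 = N24185 := rfl
theorem L188509 : sm ga N24185 = N19824 := ded_12_1 (flp_g L157002) L156988 L188507
theorem L188512 : sm ge N24185 = N23493 := ded_26_1 (flp_g L183133) (flp_e L156991) L188507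
theorem L188514 : sm gc N19822 = N24186 := rfl
theorem L188516 : sm gb N24186 = N24157 := ded_13_1 (flp_c L188339) L156912 L108354 (flp_b L156995) L188514
theorem L188518 : sm ge N19822 = N24187 := rfl
theorem L188520 : sm gb N24187 = N19825 := ded_15_1 (flp_e L157008) (flp_b L156995) L188518
theorem L188522 : sm gd N24187 = N23495 := ded_22_1 (flp_e L183142) (flp_d L145907) L142786 L156993 L188518
theorem L188524 : sm gf N19822 = N24188 := rfl
theorem L188526 : sm gd N24188 = N19823 := ded_23_1 (flp_f L156997) L156993 L188524
theorem L188528 : sm gg N19822 = N24189 := rfl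
theorem L188533 : sm gg N19823 = N24190 := rfl
theorem L188538 : sm gf N24185 = N24190 := ded_29_0 (flp_g L188533) (flp_f L156997) L157002 (flp_a L188509)
theorem L188540 : sm gf N19824 = N24191 := rfl
theorem L188542 : sm ga N24191 = N24190 := ded_11_1 (flp_f L188538) L188509 L188540
theorem L188545 : sm ge N24191 = N23499 := ded_25_1 (flp_f L183160) (flp_e L157005) L188540
theorem L188547 : sm gg N24191 = N24184 := ded_29_3 L188502 (flp_f L156997) L157002 L188540
theorem L188549 : sm gb N19828 = N24192 := rfl
theorem L188551 : sm gd N24192 = N19851 := ded_14_2 (flp_b L157197) (flp_d L157043) L188549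
theorem L188553 : sm ge N24192 = N23931 := ded_15_2 L186645 L157131 L188549
theorem L188555 : sm gc N24192 = N22685 := ded_13_2 L177206 L176390 L176408 (flp_c L176418) L188549
theorem L188557 : sm gf N24192 = N23921 := ded_16_2 (flp_b L186553) (flp_f L184993) (flp_b L184995) (flp_f L157103) L188549
theorem L188559 : sm gg N24192 = N22680 := ded_17_2 (flp_b L177178) L149678 L157083 (flp_g L157045) L188549
theorem L188561 : sm ga N24192 = N23768 := ded_7_1 (flp_b L185219) L153845 L157633 (flp_a L157623) (flp_b L109015) L91874 L108507 L157041 L188549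
theorem L188563 : sm gc N19834 = N24193 := rfl
theorem L188565 : sm gf N24193 = N23008 := ded_20_2 L179777 (flp_f L162893) L188563
theorem L188567 : sm ge N19834 = N24194 := rfl
theorem L188569 : sm gf N24194 = N22913 := ded_25_2 L179079 (flp_f L162893) L188567
theorem L188571 : sm gb N19837 = N24195 := rfl
theorem L188573 : sm gd N24195 = N19873 := ded_14_2 (flp_b L157307) (flp_d L157107) L188571
theorem L188575 : sm ge N24195 = N23940 := ded_15_2 L186730 (flp_e L157109) L188571
theorem L188577 : sm gc N24195 = N22720 := ded_13_2 L177479 L176813 L176819 (flp_c L176831) L188571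
theorem L188579 : sm gf N24195 = N22716 := ded_16_2 (flp_b L177453) L149658 L157087 (flp_f L157111) L188571
theorem L188581 : sm gg N24195 = N23924 := ded_17_2 L186583 (flp_g L185251) L185253 L157153 L188571
theorem L188583 : sm ga N24195 = N23738 := ded_7_1 (flp_b L184949) L153533 (flp_b L157767) (flp_a L157757) (flp_b L109113) L91922 L108543 L157105 L188571
theorem L188585 : sm gc N19841 = N24196 := rfl
theorem L188587 : sm gg N24196 = N23033 := ded_21_2 L179995 (flp_g L162899) L188585
theorem L188589 : sm ge N19841 = N24197 := rfl
theorem L188591 : sm gb N24197 = N24194 := ded_15_1 (flp_e L188567) (flp_b L157137) L188589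
theorem L188593 : sm gg N24197 = N22942 := ded_26_2 L179275 (flp_g L162899) L188589
theorem L188595 : sm gd N24197 = N24194 := ded_22_1 (flp_e L188567) (flp_d L157091) (flp_e L108559) L157135 L188589
theorem L188597 : sm gb N19846 = N24198 := rfl
theorem L188599 : sm ge N24198 = N19847 := ded_15_2 (flp_b L157179) (flp_e L157177) L188597
theorem L188601 : sm gg N24198 = N20503 := ded_17_2 (flp_b L161344) (flp_g L111645) (flp_b L108601) L157173 L188597
theorem L188603 : sm gf N19847 = N24199 := rfl
theorem L188605 : sm ga N24199 = N22713 := ded_11_1 L179955 (flp_a L179957) L188603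
theorem L188607 : sm gc N24199 = N22712 := ded_20_1 L177531 L177527 L188603
theorem L188609 : sm gd N24199 = N19850 := ded_23_1 (flp_f L157195) (flp_d L157181) L188603
theorem L188611 : sm gg N24199 = N22722 := ded_29_3 L177485 L163513 (flp_g L157183) L188603
theorem L188613 : sm gb N24199 = N23573 := ded_16_1 (flp_f L183731) L152092 L109213 L157179 L188603
theorem L188615 : sm gc N19848 = N24200 := rfl
theorem L188617 : sm ga N24200 = N19849 := ded_8_1 (flp_c L157189) L157185 L188615
theorem L188619 : sm gg N24200 = N20508 := ded_21_2 (flp_c L161360) (flp_g L157187) L188615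
theorem L188621 : sm gd N24200 = N22702 := ded_28_7 L177344 (flp_c L177045) L148811 (flp_c L126402) (flp_d L177370) L179959 L179951 L188615
theorem L188623 : sm gg N19851 = N24201 := rfl
theorem L188625 : sm ga N24201 = N20021 := ded_12_1 L161200 L161198 L188623
theorem L188627 : sm gd N24201 = N22680 := ded_24_1 (flp_g L188559) L188551 L188623
theorem L188629 : sm gf N20019 = N24201 := ded_29_0 (flp_g L188623) (flp_f L158229) (flp_g L158225) L158213
theorem L188631 : sm gb N24201 = N19857 := ded_17_1 (flp_g L157219) (flp_b L108623) (flp_g L108615) L157197 L188623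
theorem L188633 : sm gd N19852 = N24202 := rfl
theorem L188635 : sm ga N24202 = N19853 := ded_9_1 (flp_d L157205) (flp_a L157201) L188633
theorem L188637 : sm gg N24202 = N19859 := ded_24_2 (flp_d L157229) (flp_g L157203) L188633
theorem L188639 : sm gf N19853 = N24203 := rfl
theorem L188641 : sm gc N24203 = N19884 := ded_20_1 (flp_f L177039) (flp_c L177043) L188639
theorem L188643 : sm gd N24203 = N19854 := ded_23_1 (flp_f L157209) L157205 L188639
theorem L188645 : sm ge N24203 = N19883 := ded_25_1 (flp_f L177380) L177376 L188639
theorem L188647 : sm gb N24203 = N22987 := ded_16_1 L179607 L164460 (flp_f L177049) L177053 L188639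
theorem L188649 : sm gb N19854 = N24204 := rfl
theorem L188651 : sm gd N24204 = N22987 := ded_14_2 (flp_b L188647) L188643 L188649
theorem L188653 : sm gc N24204 = N22145 := ded_13_2 (flp_b L173152) L157863 L109223 (flp_c L157211) L188649
theorem L188655 : sm gf N24204 = N22184 := ded_16_2 (flp_b L177073) L177075 L157193 L157209 L188649
theorem L188657 : sm ga N24204 = N22146 := ded_28_8 (flp_c L173154) (flp_d L173134) L173136 L151445 (flp_c L143385) (flp_d L143163) L179603 (flp_d L188651)
theorem L188659 : sm gc N19855 = N24205 := rfl
theorem L188661 : sm ga N24205 = N19856 := ded_8_1 (flp_c L157217) L157213 L188659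
theorem L188663 : sm gg N24205 = N23964 := ded_21_2 (flp_c L186969) L157215 L188659
theorem L188665 : sm gd N19878 = N24205 := ded_28_1 (flp_c L188659) L177088 (flp_c L177084) L148842 L177395 (flp_d L177405) (flp_a L157323) L157329
theorem L188667 : sm gb N19856 = N24206 := rfl
theorem L188669 : sm gc N24206 = N19858 := ded_13_2 (flp_b L157227) (flp_c L108625) L108623 L157217 L188667
theorem L188671 : sm gd N19856 = N24207 := rfl
theorem L188673 : sm ga N24207 = N19878 := ded_9_1 L188665 L188661 L188671
theorem L188675 : sm gf N24207 = N23958 := ded_23_2 (flp_d L186979) (flp_f L186981) L188671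
theorem L188677 : sm gc N19877 = N24207 := ded_28_0 (flp_d L188671) (flp_c L157217) (flp_d L157085) (flp_c L125654) (flp_d L147103) L126460 (flp_d L157089) L157323
theorem L188679 : sm gg N19856 = N24208 := rfl
theorem L188681 : sm ga N24208 = N23964 := ded_12_1 (flp_g L188663) L188661 L188679
theorem L188683 : sm gc N24208 = N19857 := ded_21_1 (flp_g L157219) L157217 L188679
theorem L188685 : sm gf N22403 = N24208 := ded_29_0 (flp_g L188679) L186981 (flp_g L186975) L175049
theorem L188687 : sm gb N22402 = N24208 := ded_30_2 L188681 L186971 (flp_c L155778) (flp_b L107723) L91253 (flp_f L42980) L81072 (flp_b L20547) L9881 L10179 L10183 L10219 L21279 L81330 L85946 L98887 (flp_a L123966) (flp_f L172769) (flp_c L175037)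
theorem L188689 : sm ga N19858 = N24209 := rfl
theorem L188691 : sm gd N19858 = N24210 := rfl
theorem L188693 : sm gb N24210 = N19859 := ded_14_1 (flp_d L157229) L157227 L188691
theorem L188695 : sm gf N19858 = N24211 := rfl
theorem L188697 : sm gc N19859 = N24212 := rfl
theorem L188699 : sm ga N24212 = N19861 := ded_8_1 (flp_c L157241) (flp_a L157231) L188697
theorem L188701 : sm gd N24193 = N24212 := ded_28_1 (flp_c L188697) (flp_d L157229) (flp_c L108625) (flp_d L108515) (flp_c L157075) (flp_d L176478) (flp_a L176482) L188563
theorem L188703 : sm ge N19859 = N24213 := rfl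
theorem L188705 : sm ga N24213 = N19862 := ded_10_1 (flp_e L157243) (flp_a L157231) L188703
theorem L188707 : sm gd N24213 = N23031 := ded_22_1 L187163 (flp_d L187157) L155884 L157229 L188703
theorem L188709 : sm gf N19859 = N24214 := rfl
theorem L188711 : sm ga N24214 = N19863 := ded_11_1 (flp_f L157247) (flp_a L157231) L188709
theorem L188713 : sm gd N24214 = N19860 := ded_23_1 (flp_f L157233) L157229 L188709
theorem L188715 : sm gg N24203 = N24214 := ded_29_1 (flp_f L188709) (flp_g L188637) L188635 L188639
theorem L188717 : sm gb N19860 = N24215 := rfl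
theorem L188719 : sm gd N19861 = N24216 := rfl
theorem L188721 : sm ga N24216 = N24193 := ded_9_1 L188701 L188699 L188719
theorem L188723 : sm gg N24216 = N23005 := ded_24_2 L179759 L177041 L188719
theorem L188725 : sm gc N22599 = N24216 := ded_28_0 (flp_d L188719) (flp_c L157241) (flp_d L108635) (flp_c L91730) (flp_d L91684) L108517 L157091 L176482
theorem L188727 : sm ge N19861 = N24217 := rfl
theorem L188729 : sm gb N24217 = N22991 := ded_15_1 L179633 (flp_b L164099) L188727
theorem L188731 : sm gc N24217 = N19862 := ded_19_1 (flp_e L157243) L157241 L188727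
theorem L188733 : sm gg N24217 = N19875 := ded_26_2 (flp_e L177037) L177041 L188727
theorem L188735 : sm gd N24217 = N19876 := ded_28_1 L157321 (flp_d L157121) (flp_c L164623) L164619 L179979 (flp_d L188707) L188705 (flp_c L188731)
theorem L188737 : sm gf N19861 = N24218 := rfl
theorem L188739 : sm gc N24218 = N19863 := ded_20_1 (flp_f L157247) L157241 L188737
theorem L188741 : sm gf N19862 = N24219 := rfl
theorem L188743 : sm gd N24219 = N23033 := ded_23_1 (flp_f L179993) (flp_d L163517) L188741
theorem L188745 : sm ge N24219 = N19863 := ded_25_1 (flp_f L157247) L157243 L188741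
theorem L188747 : sm gb N24219 = N20891 := ded_16_1 (flp_f L173489) L173485 (flp_f L161476) (flp_b L157245) L188741
theorem L188749 : sm gg N19863 = N24220 := rfl
theorem L188751 : sm ga N24220 = N24203 := ded_12_1 L188715 L188711 L188749
theorem L188753 : sm gd N24220 = N19864 := ded_24_1 (flp_g L157251) (flp_d L157249) L188749
theorem L188755 : sm gf N24202 = N24220 := ded_29_0 (flp_g L188749) (flp_f L157247) (flp_g L157207) (flp_a L188635)
theorem L188757 : sm gb N19864 = N24221 := rfl
theorem L188759 : sm gg N24221 = N22196 := ded_17_2 (flp_b L173522) L122272 L150940 L157251 L188757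
theorem L188761 : sm gb N19868 = N24222 := rfl
theorem L188763 : sm ge N24222 = N19869 := ded_15_2 (flp_b L157289) (flp_e L157287) L188761
theorem L188765 : sm gf N24222 = N20549 := ded_16_2 (flp_b L161595) (flp_f L111791) (flp_b L108673) L157283 L188761
theorem L188767 : sm gg N19869 = N24223 := rfl
theorem L188769 : sm ga N24223 = N22677 := ded_12_1 (flp_g L179737) L179739 L188767
theorem L188771 : sm gc N24223 = N22676 := ded_21_1 (flp_g L177256) L177252 L188767
theorem L188773 : sm gd N24223 = N19872 := ded_24_1 (flp_g L157305) (flp_d L157291) L188767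
theorem L188775 : sm gf N22686 = N24223 := ded_29_0 (flp_g L188767) L157293 (flp_g L163647) (flp_a L177210)
theorem L188777 : sm gb N24223 = N23627 := ded_17_1 (flp_g L184133) L152524 (flp_g L109402) L157289 L188767
theorem L188779 : sm gc N19870 = N24224 := rfl
theorem L188781 : sm ga N24224 = N19871 := ded_8_1 (flp_c L157299) L157295 L188779
theorem L188783 : sm gf N24224 = N20554 := ded_20_2 (flp_c L161611) (flp_f L157297) L188779
theorem L188785 : sm gd N24224 = N22657 := ded_28_7 L177007 L176923 L125412 (flp_c L125586) (flp_d L177031) L179741 L179733 L188779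
theorem L188787 : sm gf N19873 = N24225 := rfl
theorem L188789 : sm ga N24225 = N19968 := ded_11_1 (flp_f L161212) L161210 L188787
theorem L188791 : sm gd N24225 = N22716 := ded_23_1 (flp_f L188579) L188573 L188787
theorem L188793 : sm gg N24225 = N19965 := ded_29_3 (flp_a L157915) L157923 (flp_g L157927) L188787
theorem L188795 : sm gb N24225 = N19879 := ded_16_1 (flp_f L157331) (flp_b L108695) (flp_f L108687) L157307 L188787
theorem L188797 : sm gd N19874 = N24226 := rfl
theorem L188799 : sm ga N24226 = N19875 := ded_9_1 (flp_d L157315) (flp_a L157311) L188797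
theorem L188801 : sm gf N24226 = N19881 := ded_23_2 (flp_d L157341) (flp_f L157313) L188797
theorem L188803 : sm gb N19876 = N24227 := rfl
theorem L188805 : sm gd N24227 = N22991 := ded_14_2 (flp_b L188729) L188735 L188803
theorem L188807 : sm gc N24227 = N22353 := ded_13_2 (flp_b L174958) L158161 L109412 (flp_c L157321) L188803
theorem L188809 : sm gg N24227 = N22389 := ded_17_2 (flp_b L176949) L176953 L157303 L157319 L188803
theorem L188811 : sm ga N24227 = N22354 := ded_30_3 (flp_f L175338) L175336 L174675 (flp_a L161541) (flp_f L161539) L111737 L93325 (flp_a L93544) L93572 (flp_c L102090) L97212 L97210 L97228 L97232 (flp_b L91768) (flp_a L108703) L108705 (flp_c L157321) L188803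
theorem L188813 : sm gb N19878 = N24228 := rfl
theorem L188815 : sm gc N24228 = N19880 := ded_13_2 (flp_b L157339) (flp_c L108697) L108695 L157329 L188813
theorem L188817 : sm gf N19878 = N24229 := rfl
theorem L188819 : sm ga N24229 = N23958 := ded_11_1 (flp_f L188675) L188673 L188817
theorem L188821 : sm gc N24229 = N19879 := ded_20_1 (flp_f L157331) L157329 L188817
theorem L188823 : sm gg N24229 = N22199 := ded_29_3 (flp_a L173546) L186941 (flp_g L186945) L188817
theorem L188825 : sm gb N22197 = N24229 := ded_17_5 L188823 (flp_b L173542) (flp_g L122286) L122274 L173524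
theorem L188827 : sm ga N19880 = N24230 := rfl
theorem L188829 : sm gd N19880 = N24231 := rfl
theorem L188831 : sm gb N24231 = N19881 := ded_14_1 (flp_d L157341) L157339 L188829
theorem L188833 : sm gg N19880 = N24232 := rfl
theorem L188835 : sm gc N19881 = N24233 := rfl
theorem L188837 : sm ga N24233 = N19883 := ded_8_1 (flp_c L157353) (flp_a L157343) L188835
theorem L188839 : sm gd N24196 = N24233 := ded_28_1 (flp_c L188835) (flp_d L157341) (flp_c L108697) (flp_d L108553) L157079 (flp_d L176859) L176863 L188585
theorem L188841 : sm ge N24220 = N24233 := ded_10_0 L188837 (flp_e L188645) (flp_a L188751)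
theorem L188843 : sm gg N24219 = N24233 := ded_29_3 L188837 (flp_f L177380) L177382 L188741
theorem L188845 : sm ge N19881 = N24234 := rfl
theorem L188847 : sm ga N24234 = N19884 := ded_10_1 (flp_e L157355) (flp_a L157343) L188845
theorem L188849 : sm gc N24234 = N24220 := ded_19_1 L188841 (flp_c L188835) L188845
theorem L188851 : sm gd N24234 = N23006 := ded_22_1 L187351 (flp_d L187345) L155988 L157341 L188845
theorem L188853 : sm gg N24218 = N24234 := ded_29_3 L188847 (flp_f L177039) L177041 L188737
theorem L188855 : sm gg N19881 = N24235 := rfl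
theorem L188857 : sm ga N24235 = N19885 := ded_12_1 (flp_g L157359) (flp_a L157343) L188855
theorem L188859 : sm gc N24235 = N24219 := ded_21_1 L188843 (flp_c L188835) L188855
theorem L188861 : sm gd N24235 = N19882 := ded_24_1 (flp_g L157345) L157341 L188855
theorem L188863 : sm ge N24235 = N24218 := ded_26_1 L188853 (flp_e L188845) L188855
theorem L188865 : sm gf N24235 = N24217 := ded_29_2 L188733 (flp_a L188799) L188801 L188855
theorem L188867 : sm gb N19882 = N24236 := rfl
theorem L188869 : sm gd N19883 = N24237 := rfl
theorem L188871 : sm ga N24237 = N24196 := ded_9_1 L188839 L188837 L188869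
theorem L188873 : sm gf N24237 = N23030 := ded_23_2 L179977 L177380 L188869
theorem L188875 : sm gc N22640 = N24237 := ded_28_0 (flp_d L188869) (flp_c L157353) (flp_d L108707) (flp_c L91762) (flp_d L91702) L108557 L157135 (flp_a L176863)
theorem L188877 : sm gg N19883 = N24238 := rfl
theorem L188879 : sm ga N24238 = N24219 := ded_12_1 L188843 L188837 L188877
theorem L188881 : sm gc N24238 = N19885 := ded_21_1 (flp_g L157359) L157353 L188877
theorem L188883 : sm ge N24238 = N24214 := ded_26_1 (flp_g L188715) L188645 L188877
theorem L188885 : sm gf N24213 = N24238 := ded_29_0 (flp_g L188877) (flp_f L177380) L177382 (flp_a L188705)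
theorem L188887 : sm gg N19884 = N24239 := rfl
theorem L188889 : sm ga N24239 = N24218 := ded_12_1 L188853 L188847 L188887
theorem L188891 : sm gc N24239 = N24214 := ded_21_1 (flp_g L188715) L188641 L188887
theorem L188893 : sm gd N24239 = N23008 := ded_24_1 (flp_g L179775) L163633 L188887
theorem L188895 : sm ge N24239 = N19885 := ded_26_1 (flp_g L157359) L157355 L188887
theorem L188897 : sm gf N24212 = N24239 := ded_29_0 (flp_g L188887) (flp_f L177039) L177041 (flp_a L188699)
theorem L188899 : sm gb N24239 = N20973 := ded_17_1 (flp_g L174996) L174992 (flp_g L161727) (flp_b L157357) L188887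
theorem L188901 : sm gf N19885 = N24240 := rfl
theorem L188903 : sm ga N24240 = N24217 := ded_11_1 (flp_f L188865) L188857 L188901
theorem L188905 : sm gc N24240 = N24213 := ded_20_1 L188885 L188881 L188901
theorem L188907 : sm gd N24240 = N19886 := ded_23_1 (flp_f L157363) (flp_d L157361) L188901
theorem L188909 : sm ge N24240 = N24212 := ded_25_1 L188897 L188895 L188901
theorem L188911 : sm gg N24240 = N24226 := ded_29_3 L188799 L157317 L157359 L188901
theorem L188913 : sm gb N19886 = N24241 := rfl
theorem L188915 : sm gf N24241 = N22401 := ded_16_2 (flp_b L175029) (flp_f L123165) L123123 L157363 L188913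
theorem L188917 : sm gc N19889 = N24242 := rfl
theorem L188919 : sm ga N24242 = N19890 := ded_8_1 (flp_c L157411) L157401 L188917
theorem L188921 : sm ge N24242 = N19913 := ded_19_2 (flp_c L157591) (flp_e L157405) L188917
theorem L188923 : sm gf N24242 = N20591 := ded_20_2 (flp_c L161808) (flp_f L157409) L188917
theorem L188925 : sm gg N24242 = N19893 := ded_21_2 (flp_c L157433) (flp_g L157407) L188917
theorem L188927 : sm gb N19893 = N24243 := rfl
theorem L188929 : sm ge N24243 = N19919 := ded_15_2 (flp_b L157643) (flp_e L157437) L188927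
theorem L188931 : sm gf N19893 = N24244 := rfl
theorem L188933 : sm ga N24244 = N19896 := ded_11_1 (flp_f L157453) (flp_a L157435) L188931
theorem L188935 : sm gc N24244 = N19894 := ded_20_1 (flp_f L157439) L157433 L188931
theorem L188937 : sm gd N24244 = N22066 := ded_23_1 (flp_f L172575) (flp_d L163276) L188931
theorem L188939 : sm ge N24244 = N19921 := ded_25_1 (flp_f L157649) (flp_e L157437) L188931
theorem L188941 : sm gg N24244 = N22110 := ded_29_3 L172887 (flp_f L188923) L188925 L188931
theorem L188943 : sm gb N24244 = N24202 := ded_30_2 L188635 L188639 L188641 L157357 L163314 L143177 L143181 L103170 (flp_a L108809) (flp_f L108807) (flp_c L148187) (flp_b L91778) L72346 L88644 L88648 L91824 L108879 L157439 (flp_c L188935)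
theorem L188945 : sm gb N19896 = N24245 := rfl
theorem L188947 : sm ge N24245 = N19925 := ded_15_2 (flp_b L157665) (flp_e L157457) L188945
theorem L188949 : sm gc N24245 = N23808 := ded_13_2 L185565 L155620 (flp_b L108891) (flp_c L157455) L188945
theorem L188951 : sm gf N24245 = N22612 := ded_16_2 L176588 (flp_f L161454) (flp_b L163184) L157453 L188945
theorem L188953 : sm ga N24245 = N22613 := ded_7_1 L176598 (flp_a L185369) (flp_b L185377) L177344 L177053 (flp_a L188635) (flp_b L188943) L188933 L188945
theorem L188955 : sm gc N19898 = N24246 := rfl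
theorem L188957 : sm ga N24246 = N19899 := ded_8_1 (flp_c L157493) L157483 L188955
theorem L188959 : sm ge N24246 = N19933 := ded_19_2 (flp_c L157725) (flp_e L157487) L188955
theorem L188961 : sm gf N24246 = N19902 := ded_20_2 (flp_c L157515) (flp_f L157489) L188955
theorem L188963 : sm gg N24246 = N20629 := ded_21_2 (flp_c L162038) L157491 L188955
theorem L188965 : sm gb N19902 = N24247 := rfl
theorem L188967 : sm ge N24247 = N19939 := ded_15_2 (flp_b L157777) (flp_e L157519) L188965
theorem L188969 : sm gg N19902 = N24248 := rfl
theorem L188971 : sm ga N24248 = N19905 := ded_12_1 (flp_g L157535) (flp_a L157517) L188969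
theorem L188973 : sm gc N24248 = N19903 := ded_21_1 (flp_g L157521) L157515 L188969
theorem L188975 : sm gd N24248 = N22282 := ded_24_1 (flp_g L174078) (flp_d L163441) L188969
theorem L188977 : sm ge N24248 = N19941 := ded_26_1 (flp_g L157783) (flp_e L157519) L188969
theorem L188979 : sm gf N22321 = N24248 := ded_29_0 (flp_g L188969) (flp_f L188961) L188963 (flp_a L174382)
theorem L188981 : sm gb N24248 = N24226 := ded_30_2 L188799 L157317 L157353 L164502 L164496 (flp_f L164398) (flp_c L163087) (flp_b L113092) L94076 (flp_f L94068) L94034 L94502 L113815 (flp_f L154568) L162026 L162020 (flp_a L157501) L157529 (flp_c L188973)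
theorem L188983 : sm gb N19905 = N24249 := rfl
theorem L188985 : sm ge N24249 = N19945 := ded_15_2 (flp_b L157799) (flp_e L157539) L188983
theorem L188987 : sm gc N24249 = N23804 := ded_13_2 (flp_b L185533) L155574 (flp_b L108949) (flp_c L157537) L188983
theorem L188989 : sm gg N24249 = N22566 := ded_17_2 L176167 (flp_g L161705) L163301 L157535 L188983
theorem L188991 : sm ga N24249 = N22568 := ded_7_1 L176187 (flp_a L185175) (flp_b L185183) L177007 L176931 (flp_a L188799) (flp_b L188981) L188971 L188983
theorem L188993 : sm gb N19908 = N24250 := rfl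
theorem L188995 : sm gd N24250 = N22560 := ded_14_2 (flp_b L178399) L178393 L188993
theorem L188997 : sm ge N24250 = N19909 := ded_15_2 (flp_b L157567) (flp_e L157563) L188993
theorem L188999 : sm gg N24250 = N22558 := ded_17_2 L176111 L129436 (flp_b L129344) L157559 L188993
theorem L189001 : sm ga N24250 = N22563 := ded_7_1 (flp_b L178707) L178699 (flp_b L179019) L179013 (flp_b L164292) (flp_a L164248) L180267 L180261 L188993
theorem L189003 : sm gc N19912 = N24251 := rfl
theorem L189005 : sm ga N24251 = N22721 := ded_8_1 L186573 L186571 L189003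
theorem L189007 : sm ge N24251 = N23948 := ded_19_2 L186805 L186680 L189003
theorem L189009 : sm gg N24251 = N22718 := ded_21_2 L180201 L180197 L189003
theorem L189011 : sm gb N19913 = N24252 := rfl
theorem L189013 : sm gf N24252 = N20968 := ded_16_2 (flp_b L165316) L114448 L114580 (flp_f L157595) L189011
theorem L189015 : sm gd N23508 = N24252 := ded_23_3 L189013 L165318 L183221
theorem L189017 : sm gd N19913 = N24253 := rfl
theorem L189019 : sm ga N24253 = N19914 := ded_9_1 (flp_d L157599) (flp_a L157593) L189017
theorem L189021 : sm gb N24253 = N23508 := ded_14_1 L189015 (flp_b L189011) L189017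
theorem L189023 : sm gf N24253 = N20994 := ded_23_2 (flp_d L165540) (flp_f L157595) L189017
theorem L189025 : sm gg N24253 = N19920 := ded_24_2 (flp_d L157645) (flp_g L157597) L189017
theorem L189027 : sm ge N19914 = N24254 := rfl
theorem L189029 : sm gg N24254 = N19923 := ded_26_2 (flp_e L157659) (flp_g L157601) L189027
theorem L189031 : sm gb N19915 = N24255 := rfl
theorem L189033 : sm gc N24255 = N23755 := ded_13_2 (flp_b L185127) (flp_c L157621) (flp_b L157609) (flp_c L157607) L189031
theorem L189035 : sm ga N24255 = N21012 := ded_7_1 (flp_b L165670) (flp_a L114712) (flp_b L94947) L84105 (flp_b L84067) (flp_a L94871) L114580 (flp_a L157605) L189031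
theorem L189037 : sm gb N19918 = N24256 := rfl
theorem L189039 : sm gc N24256 = N19919 := ded_13_2 (flp_b L157643) (flp_c L109023) L109019 L157637 L189037
theorem L189041 : sm gd N19918 = N24257 := rfl
theorem L189043 : sm ga N24257 = N20105 := ded_9_1 L158758 (flp_a L157639) L189041
theorem L189045 : sm gf N24257 = N20101 := ded_23_2 (flp_d L158728) (flp_f L157641) L189041
theorem L189047 : sm ga N19919 = N24258 := rfl
theorem L189049 : sm gd N19919 = N24259 := rfl
theorem L189051 : sm gb N24259 = N19920 := ded_14_1 (flp_d L157645) L157643 L189049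
theorem L189053 : sm gf N19919 = N24260 := rfl
theorem L189055 : sm gg N19919 = N24261 := rfl
theorem L189057 : sm ge N19920 = N24262 := rfl
theorem L189059 : sm ga N24262 = N19923 := ded_10_1 (flp_e L157659) (flp_a L157647) L189057
theorem L189061 : sm gf N19920 = N24263 := rfl
theorem L189063 : sm ga N24263 = N19924 := ded_11_1 (flp_f L157661) (flp_a L157647) L189061
theorem L189065 : sm gc N24263 = N20662 := ded_20_1 L175486 (flp_c L158071) L189061
theorem L189067 : sm gd N24263 = N19921 := ded_23_1 (flp_f L157649) L157645 L189061
theorem L189069 : sm gg N24263 = N23643 := ded_29_3 L184248 (flp_f L189023) L189025 L189061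
theorem L189071 : sm gb N19921 = N24264 := rfl
theorem L189073 : sm ge N24264 = N24202 := ded_15_2 (flp_b L188943) L188939 L189071
theorem L189075 : sm gc N24264 = N24226 := ded_13_2 (flp_b L188981) L188973 (flp_b L157531) (flp_c L157653) L189071
theorem L189077 : sm ga N24264 = N22706 := ded_7_1 (flp_b L177374) L148789 L154039 L154031 (flp_b L153974) (flp_a L157671) (flp_b L157665) (flp_a L157651) L189071
theorem L189079 : sm gf N24233 = N24264 := ded_25_0 L189073 L188755 L188841
theorem L189081 : sm gg N24213 = N24264 := ded_26_0 L189073 L188637 L188703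
theorem L189083 : sm gb N24260 = N24233 := ded_16_5 L189079 (flp_b L189071) (flp_f L157649) L157643 L189053
theorem L189085 : sm ge N19922 = N24265 := rfl
theorem L189087 : sm gc N24265 = N19923 := ded_19_1 (flp_e L157659) L157657 L189085
theorem L189089 : sm gf N19922 = N24266 := rfl
theorem L189091 : sm ga N24266 = N20662 := ded_11_1 L175486 L158069 L189089
theorem L189093 : sm gc N24266 = N19924 := ded_20_1 (flp_f L157661) L157657 L189089
theorem L189095 : sm gd N24266 = N20664 := ded_23_1 L175484 (flp_d L158037) L189089
theorem L189097 : sm gg N24266 = N23555 := ded_29_3 L183607 (flp_f L180061) L180063 L189089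
theorem L189099 : sm gb N24266 = N23507 := ded_16_1 (flp_f L183205) (flp_b L183213) L173685 L173751 L189089
theorem L189101 : sm gf N19923 = N24267 := rfl
theorem L189103 : sm ge N24267 = N19924 := ded_25_1 (flp_f L157661) L157659 L189101
theorem L189105 : sm gb N19924 = N24268 := rfl
theorem L189107 : sm gd N24268 = N19925 := ded_14_2 (flp_b L157665) (flp_d L157663) L189105
theorem L189109 : sm gf N24268 = N23774 := ded_16_2 L185295 L179629 L143281 L157661 L189105
theorem L189111 : sm gg N24268 = N23516 := ded_17_2 (flp_b L183277) (flp_g L153024) (flp_b L165542) L165544 L189105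
theorem L189113 : sm ga N23778 = N24268 := ded_9_3 L189107 L157671 (flp_d L185325)
theorem L189115 : sm gb N19928 = N24269 := rfl
theorem L189117 : sm gd N24269 = N22500 := ded_14_2 (flp_b L178421) L178415 L189115
theorem L189119 : sm ge N24269 = N19929 := ded_15_2 (flp_b L157699) (flp_e L157695) L189115
theorem L189121 : sm gf N24269 = N22499 := ded_16_2 L175719 (flp_f L129474) (flp_b L149518) L157691 L189115
theorem L189123 : sm ga N24269 = N22503 := ded_7_1 (flp_b L178785) L178777 (flp_b L179215) L179209 (flp_b L162969) (flp_a L162917) (flp_b L180319) L180313 L189115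
theorem L189125 : sm gc N19932 = N24270 := rfl
theorem L189127 : sm ga N24270 = N22684 := ded_8_1 L186543 L186541 L189125
theorem L189129 : sm ge N24270 = N23945 := ded_19_2 L186775 L186595 L189125
theorem L189131 : sm gf N24270 = N22682 := ded_20_2 L180177 L180173 L189125
theorem L189133 : sm gb N19933 = N24271 := rfl
theorem L189135 : sm gg N24271 = N20886 := ded_17_2 (flp_b L164721) L113895 L114019 (flp_g L157731) L189133
theorem L189137 : sm gd N23521 = N24271 := ded_24_3 L189135 L164723 L183303
theorem L189139 : sm gd N19933 = N24272 := rfl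
theorem L189141 : sm ga N24272 = N19934 := ded_9_1 (flp_d L157733) (flp_a L157727) L189139
theorem L189143 : sm gb N24272 = N23521 := ded_14_1 L189137 (flp_b L189133) L189139
theorem L189145 : sm gf N24272 = N19940 := ded_23_2 (flp_d L157779) (flp_f L157729) L189139
theorem L189147 : sm gg N24272 = N20910 := ded_24_2 (flp_d L164919) (flp_g L157731) L189139
theorem L189149 : sm ge N19934 = N24273 := rfl
theorem L189151 : sm gf N24273 = N19943 := ded_25_2 (flp_e L157793) (flp_f L157735) L189149
theorem L189153 : sm gb N19935 = N24274 := rfl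
theorem L189155 : sm gc N24274 = N23779 := ded_13_2 (flp_b L185329) (flp_c L157755) (flp_b L157743) (flp_c L157741) L189153
theorem L189157 : sm ga N24274 = N20930 := ded_7_1 (flp_b L165041) (flp_a L114145) (flp_b L94666) L83949 (flp_b L83911) (flp_a L94592) L114019 (flp_a L157739) L189153
theorem L189159 : sm gb N19938 = N24275 := rfl
theorem L189161 : sm gc N24275 = N19939 := ded_13_2 (flp_b L157777) (flp_c L109121) L109117 L157771 L189159
theorem L189163 : sm gd N19938 = N24276 := rfl
theorem L189165 : sm ga N24276 = N20089 := ded_9_1 L158638 (flp_a L157773) L189163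
theorem L189167 : sm gg N24276 = N20084 := ded_24_2 (flp_d L158601) (flp_g L157775) L189163
theorem L189169 : sm ga N19939 = N24277 := rfl
theorem L189171 : sm gd N19939 = N24278 := rfl
theorem L189173 : sm gb N24278 = N19940 := ded_14_1 (flp_d L157779) L157777 L189171
theorem L189175 : sm gf N19939 = N24279 := rfl
theorem L189177 : sm gg N19939 = N24280 := rfl
theorem L189179 : sm ge N19940 = N24281 := rfl
theorem L189181 : sm ga N24281 = N19943 := ded_10_1 (flp_e L157793) (flp_a L157781) L189179
theorem L189183 : sm gg N19940 = N24282 := rfl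
theorem L189185 : sm ga N24282 = N19944 := ded_12_1 (flp_g L157795) (flp_a L157781) L189183
theorem L189187 : sm gc N24282 = N20716 := ded_21_1 L163797 (flp_c L158371) L189183
theorem L189189 : sm gd N24282 = N19941 := ded_24_1 (flp_g L157783) L157779 L189183
theorem L189191 : sm gf N23692 = N24282 := ded_29_0 (flp_g L189183) (flp_f L189145) L189147 (flp_a L184602)
theorem L189193 : sm gb N19941 = N24283 := rfl
theorem L189195 : sm ge N24283 = N24226 := ded_15_2 (flp_b L188981) L188977 L189193
theorem L189197 : sm gc N24283 = N24202 := ded_13_2 (flp_b L188943) L188935 (flp_b L157449) (flp_c L157787) L189193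
theorem L189199 : sm ga N24283 = N22661 := ded_7_1 (flp_b L177035) L148795 L164051 L153771 (flp_b L153704) L157805 (flp_b L157799) (flp_a L157785) L189193
theorem L189201 : sm gf N24234 = N24283 := ded_25_0 L189195 L188801 L188845
theorem L189203 : sm gg N24212 = N24283 := ded_26_0 L189195 (flp_g L188911) L188909
theorem L189205 : sm gb N24280 = N24212 := ded_17_5 L189203 (flp_b L189193) (flp_g L157783) L157777 L189177
theorem L189207 : sm ge N19942 = N24284 := rfl
theorem L189209 : sm gc N24284 = N19943 := ded_19_1 (flp_e L157793) L157791 L189207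
theorem L189211 : sm gg N19942 = N24285 := rfl
theorem L189213 : sm ga N24285 = N20716 := ded_12_1 L163797 L158369 L189211
theorem L189215 : sm gc N24285 = N19944 := ded_21_1 (flp_g L157795) L157791 L189211
theorem L189217 : sm gd N24285 = N20717 := ded_24_1 L163795 (flp_d L158337) L189211
theorem L189219 : sm gf N23614 = N24285 := ded_29_0 (flp_g L189211) (flp_f L179843) L179845 L184049
theorem L189221 : sm gb N24285 = N23520 := ded_17_1 (flp_g L183297) (flp_b L175140) (flp_g L175182) (flp_b L175184) L189211
theorem L189223 : sm gg N19943 = N24286 := rfl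
theorem L189225 : sm ge N24286 = N19944 := ded_26_1 (flp_g L157795) L157793 L189223
theorem L189227 : sm gb N19944 = N24287 := rfl
theorem L189229 : sm gd N24287 = N19945 := ded_14_2 (flp_b L157799) (flp_d L157797) L189227
theorem L189231 : sm gf N24287 = N23529 := ded_16_2 (flp_b L183359) (flp_f L153459) (flp_b L164921) L164923 L189227
theorem L189233 : sm gg N24287 = N23750 := ded_17_2 L185093 L179601 L143175 L157795 L189227
theorem L189235 : sm ga N23754 = N24287 := ded_9_3 L189229 (flp_a L157805) (flp_d L185123)
theorem L189237 : sm ga N19946 = N24288 := rfl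
theorem L189239 : sm gd N24288 = N22968 := ded_9_2 (flp_a L179463) (flp_d L157809) L189237
theorem L189241 : sm gg N24288 = N22214 := ded_12_2 L183217 (flp_g L157811) L189237
theorem L189243 : sm gf N24288 = N20587 := ded_29_0 (flp_g L183193) L183195 (flp_g L157811) L189237
theorem L189245 : sm gb N24288 = N22211 := ded_7_2 L173633 (flp_b L151822) L120766 (flp_b L123295) (flp_a L151383) (flp_b L151006) L123432 L157807 L189237
theorem L189247 : sm gf N19946 = N24289 := rfl
theorem L189249 : sm ga N24289 = N20587 := ded_11_1 (flp_f L189243) (flp_a L189237) L189247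
theorem L189251 : sm gc N24289 = N24288 := ded_20_1 L189243 L161776 L189247
theorem L189253 : sm gd N24289 = N22970 := ded_23_1 (flp_f L179473) (flp_d L157809) L189247
theorem L189255 : sm gb N24289 = N20601 := ded_16_1 L179685 (flp_b L179675) (flp_f L143319) L157807 L189247
theorem L189257 : sm gd N19949 = N24290 := rfl
theorem L189259 : sm ga N24290 = N19957 := ded_9_1 (flp_d L157867) (flp_a L157825) L189257
theorem L189261 : sm gb N24290 = N23126 := ded_14_1 (flp_d L180697) (flp_b L157827) L189257
theorem L189263 : sm gf N24290 = N22744 := ded_23_2 L177673 (flp_f L157831) L189257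
theorem L189265 : sm ge N24290 = N23058 := ded_22_2 L180217 L144145 L119014 L157823 L189257
theorem L189267 : sm gc N19951 = N24291 := rfl
theorem L189269 : sm ga N24291 = N19952 := ded_8_1 (flp_c L157843) L157841 L189267
theorem L189271 : sm gg N24291 = N20680 := ded_21_2 (flp_c L183631) L183635 L189267
theorem L189273 : sm gf N23538 = N24291 := ded_30_0 (flp_c L189267) L172543 L172539 (flp_f L172460) L172452 L172456 (flp_a L172755) L172757 (flp_c L163740) (flp_b L121905) (flp_a L97811) (flp_f L97809) L122110 (flp_b L173158) (flp_a L188657) L188655 (flp_c L173411) L173405 (flp_a L183473)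
theorem L189275 : sm gd N23543 = N24291 := ded_9_0 L189269 (flp_d L183583) L183581
theorem L189277 : sm gb N20686 = N24291 := ded_7_0 L189269 L157845 (flp_a L155504) (flp_b L111908) L93450 L97587 L121699 L172511 (flp_a L172515)
theorem L189279 : sm gf N19951 = N24292 := rfl
theorem L189281 : sm ga N24292 = N19953 := ded_11_1 (flp_f L157847) L157841 L189279
theorem L189283 : sm gc N24292 = N23538 := ded_20_1 L189273 (flp_c L189267) L189279
theorem L189285 : sm gd N24292 = N23568 := ded_23_1 (flp_f L183723) L183721 L189279
theorem L189287 : sm gg N23547 = N24292 := ded_29_1 (flp_f L189279) (flp_g L183635) (flp_a L183629) L183529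
theorem L189289 : sm gb N24292 = N20706 := ded_16_1 (flp_f L162484) L172466 L172541 (flp_b L172543) L189279
theorem L189291 : sm gg N19953 = N24293 := rfl
theorem L189293 : sm ga N24293 = N23547 := ded_12_1 L189287 L189281 L189291
theorem L189295 : sm gc N24293 = N23546 := ded_21_1 L183519 (flp_c L173409) L189291
theorem L189297 : sm gd N24293 = N23566 := ded_24_1 (flp_g L183737) L183735 L189291
theorem L189299 : sm gf N23559 = N24293 := ded_29_0 (flp_g L189291) (flp_f L157847) (flp_g L152052) L183629
theorem L189301 : sm gb N20681 = N24293 := ded_7_0 L189293 L183525 (flp_a L152802) L183543 (flp_a L162333) (flp_b L112384) (flp_a L93716) L112392 L162344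
theorem L189303 : sm gc N19955 = N24294 := rfl
theorem L189305 : sm gd N24294 = N20937 := ded_28_7 L165072 L165065 L114238 (flp_c L150762) L108981 L109219 L157859 L189303
theorem L189307 : sm gf N20935 = N24294 := ded_23_0 L189305 (flp_f L165070) (flp_d L165061)
theorem L189309 : sm ge N19955 = N24295 := rfl
theorem L189311 : sm ga N24295 = N23455 := ded_10_1 L182903 (flp_a L161748) L189309
theorem L189313 : sm gf N19955 = N24296 := rfl
theorem L189315 : sm ga N24296 = N23666 := ded_11_1 L184436 (flp_a L161748) L189313
theorem L189317 : sm gc N24296 = N20935 := ded_20_1 L189307 (flp_c L189303) L189313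
theorem L189319 : sm gd N24296 = N19956 := ded_23_1 (flp_f L157861) L157859 L189313
theorem L189321 : sm gg N20586 = N24296 := ded_29_1 (flp_f L189313) (flp_g L161764) (flp_a L161760) L161768
theorem L189323 : sm gc N19957 = N24297 := rfl
theorem L189325 : sm ge N24297 = N23059 := ded_19_2 (flp_c L180223) (flp_e L157873) L189323
theorem L189327 : sm gf N24297 = N22745 := ded_20_2 (flp_c L177677) (flp_f L157871) L189323
theorem L189329 : sm gg N19957 = N24298 := rfl
theorem L189331 : sm gd N24298 = N19958 := ded_24_1 (flp_g L157875) L157867 L189329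
theorem L189333 : sm ge N24298 = N23060 := ded_26_1 (flp_g L180229) (flp_e L157873) L189329
theorem L189335 : sm gb N19958 = N24299 := rfl
theorem L189337 : sm ge N24299 = N19959 := ded_15_2 (flp_b L157881) (flp_e L157879) L189335
theorem L189339 : sm gf N24299 = N23239 := ded_16_2 L181461 L181583 L181591 L177719 L189335
theorem L189341 : sm gg N24299 = N22742 := ded_17_2 (flp_b L177663) (flp_g L128711) (flp_b L119697) L157875 L189335
theorem L189343 : sm ga N24299 = N23148 := ded_7_1 (flp_b L180851) (flp_a L144515) (flp_b L103951) (flp_a L89260) L104282 L145176 L177731 L177723 L189335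
theorem L189345 : sm gb N19960 = N24300 := rfl
theorem L189347 : sm ge N24300 = N19961 := ded_15_2 (flp_b L157899) (flp_e L157895) L189345
theorem L189349 : sm gc N19962 = N24301 := rfl
theorem L189351 : sm ga N24301 = N19963 := ded_8_1 (flp_c L157905) L157903 L189349
theorem L189353 : sm gb N24301 = N22464 := ded_13_1 L175454 L123538 L157941 L175709 L189349
theorem L189355 : sm gd N24301 = N23570 := ded_28_7 L183715 (flp_c L152084) (flp_d L152050) (flp_c L183535) L183537 (flp_c L183575) L183577 L189349
theorem L189357 : sm gg N19962 = N24302 := rfl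
theorem L189359 : sm ga N24302 = N19964 := ded_12_1 (flp_g L157911) L157903 L189357
theorem L189361 : sm gf N24302 = N22498 := ded_29_2 (flp_g L175711) L175691 L175693 L189357
theorem L189363 : sm gg N19963 = N24303 := rfl
theorem L189365 : sm gc N24303 = N19964 := ded_21_1 (flp_g L157911) L157905 L189363
theorem L189367 : sm gd N24303 = N23572 := ded_24_1 (flp_g L183725) L157909 L189363
theorem L189369 : sm gb N24303 = N20030 := ded_17_1 (flp_g L172324) L172326 (flp_g L157981) (flp_b L157907) L189363
theorem L189371 : sm gf N19964 = N24304 := rfl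
theorem L189373 : sm ga N24304 = N22498 := ded_11_1 (flp_f L189361) L189359 L189371
theorem L189375 : sm gd N24304 = N23542 := ded_23_1 (flp_f L183503) L183487 L189371
theorem L189377 : sm gg N24304 = N22496 := ded_29_3 (flp_a L175691) L123638 L157911 L189371
theorem L189379 : sm gb N24304 = N22259 := ded_16_1 (flp_f L173897) L162502 L157161 (flp_b L157913) L189371
theorem L189381 : sm gb N19966 = N24305 := rfl
theorem L189383 : sm gc N24305 = N19969 := ded_13_2 (flp_b L157933) (flp_c L109259) L109257 L157921 L189381
theorem L189385 : sm gf N19966 = N24306 := rfl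
theorem L189387 : sm ga N24306 = N20483 := ded_11_1 (flp_f L173597) (flp_a L173599) L189385
theorem L189389 : sm gc N24306 = N19967 := ded_20_1 (flp_f L157923) L157921 L189385
theorem L189391 : sm gd N24306 = N22275 := ded_23_1 (flp_f L174012) L173603 L189385
theorem L189393 : sm gg N22274 = N24306 := ded_21_0 L189389 (flp_g L157927) (flp_c L174076)
theorem L189395 : sm gg N19966 = N24307 := rfl
theorem L189397 : sm gc N24307 = N19968 := ded_21_1 (flp_g L157929) L157921 L189395
theorem L189399 : sm ga N19969 = N24308 := rfl
theorem L189401 : sm gb N24308 = N22058 := ded_7_2 L172521 L121703 (flp_a L121717) (flp_b L151824) L123520 L98732 (flp_a L109261) L157933 L189399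
theorem L189403 : sm gd N19969 = N24309 := rfl
theorem L189405 : sm gb N24309 = N19970 := ded_14_1 (flp_d L157935) L157933 L189403
theorem L189407 : sm gg N24309 = N20040 := ded_31_3 (flp_f L158329) (flp_b L109484) L109490 L109496 L158251 (flp_g L174406) L174408 L123538 L109267 L109319 L109323 L158086 (flp_f L158092) (flp_b L189405)
theorem L189409 : sm gf N19969 = N24310 := rfl
theorem L189411 : sm gg N19969 = N24311 := rfl
theorem L189413 : sm gd N24311 = N20040 := ded_24_1 (flp_g L189407) (flp_d L189403) L189411
theorem L189415 : sm gb N24311 = N19987 := ded_17_1 (flp_g L158031) (flp_b L109293) (flp_g L109263) L157933 L189411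
theorem L189417 : sm gf N24311 = N20039 := ded_31_1 L158327 L158343 L158349 (flp_b L163653) (flp_g L123552) (flp_f L123546) L98732 L91988 L92010 L92014 L109324 (flp_f L109330) L157933 L189411
theorem L189419 : sm gc N24308 = N24311 := ded_13_0 L189415 L172517 (flp_b L172511) L172519 (flp_b L189401)
theorem L189421 : sm ga N24311 = N24305 := ded_8_1 L189383 L189399 L189419
theorem L189423 : sm gg N24305 = N24308 := ded_21_0 L189419 (flp_g L189411) (flp_c L189383)
theorem L189425 : sm gc N19970 = N24312 := rfl
theorem L189427 : sm ga N24312 = N19971 := ded_8_1 (flp_c L157941) (flp_a L157937) L189425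
theorem L189429 : sm gf N24312 = N20657 := ded_20_2 (flp_c L175458) (flp_f L158092) L189425
theorem L189431 : sm gg N24312 = N19988 := ded_21_2 (flp_c L158033) (flp_g L157939) L189425
theorem L189433 : sm gd N23041 = N24312 := ded_28_1 (flp_c L189425) (flp_d L157935) (flp_c L109259) (flp_d L109003) L157591 L189017 L189019 L180065
theorem L189435 : sm gb N22223 = N24312 := ded_7_0 L189427 L175709 (flp_a L157903) (flp_b L109255) L91976 L108609 L157185 (flp_b L173765) L173759
theorem L189437 : sm ge N19970 = N24313 := rfl
theorem L189439 : sm ga N24313 = N19972 := ded_10_1 (flp_e L157945) (flp_a L157937) L189437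
theorem L189441 : sm gg N24313 = N19989 := ded_26_2 (flp_e L158039) (flp_g L157939) L189437
theorem L189443 : sm gd N19971 = N24314 := rfl
theorem L189445 : sm ga N24314 = N23041 := ded_9_1 L189433 L189427 L189443
theorem L189447 : sm gb N24314 = N23551 := ded_14_1 L183577 (flp_b L175709) L189443
theorem L189449 : sm gg N24314 = N19993 := ded_24_2 (flp_d L158067) (flp_g L157943) L189443
theorem L189451 : sm gc N24253 = N24314 := ded_28_0 (flp_d L189443) (flp_c L157941) (flp_d L109265) (flp_c L91986) (flp_d L91868) L109007 L157599 (flp_a L189019)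
theorem L189453 : sm gf N23555 = N24314 := ded_11_0 L189445 L180061 (flp_a L183607)
theorem L189455 : sm ge N19971 = N24315 := rfl
theorem L189457 : sm gb N24315 = N24055 := ded_15_1 L187665 (flp_b L175709) L189455
theorem L189459 : sm gc N24315 = N19972 := ded_19_1 (flp_e L157945) L157941 L189455
theorem L189461 : sm gg N24315 = N19994 := ded_26_2 (flp_e L158073) (flp_g L157943) L189455
theorem L189463 : sm gf N19971 = N24316 := rfl
theorem L189465 : sm ga N24316 = N20657 := ded_11_1 (flp_f L189429) L189427 L189463
theorem L189467 : sm gc N24316 = N19973 := ded_20_1 (flp_f L157949) L157941 L189463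
theorem L189469 : sm gd N24316 = N23555 := ded_23_1 L189453 (flp_d L189443) L189463
theorem L189471 : sm gg N24316 = N20664 := ded_29_3 (flp_a L162250) (flp_f L175474) (flp_g L157943) L189463
theorem L189473 : sm gb N24316 = N22542 := ded_16_1 L176007 (flp_b L175695) L175693 (flp_b L175709) L189463
theorem L189475 : sm gf N19972 = N24317 := rfl
theorem L189477 : sm ge N24317 = N19973 := ded_25_1 (flp_f L157949) L157945 L189475
theorem L189479 : sm gb N24317 = N21860 := ded_31_2 (flp_g L171202) L171192 L171200 L169817 L159583 L170006 L175505 (flp_f L175499) L123528 L98740 L92128 (flp_b L109317) (flp_g L157947) L189475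
theorem L189481 : sm gb N19976 = N24318 := rfl
theorem L189483 : sm gd N24318 = N23584 := ded_14_2 (flp_b L183817) (flp_d L157967) L189481
theorem L189485 : sm gc N24318 = N20018 := ded_13_2 L158211 L157267 (flp_b L157635) L157963 L189481
theorem L189487 : sm gf N24318 = N20017 := ded_16_2 L158205 L158279 L172021 (flp_f L172019) L189481
theorem L189489 : sm gd N19980 = N24319 := rfl
theorem L189491 : sm ga N24319 = N20684 := ded_9_1 L162356 (flp_a L158003) L189489
theorem L189493 : sm gb N24319 = N19981 := ded_14_1 (flp_d L158005) L157999 L189489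
theorem L189495 : sm gc N23047 = N24319 := ded_13_0 L189493 L183911 (flp_b L179931) (flp_c L143751) L180117
theorem L189497 : sm gf N19980 = N24320 := rfl
theorem L189499 : sm ga N24320 = N20685 := ded_11_1 (flp_f L162358) (flp_a L158003) L189497
theorem L189501 : sm gc N24320 = N19986 := ded_20_1 (flp_f L158029) (flp_c L158001) L189497
theorem L189503 : sm gb N24320 = N20478 := ded_16_1 (flp_f L162032) L162036 (flp_f L158009) L157999 L189497
theorem L189505 : sm ge N19981 = N24321 := rfl
theorem L189507 : sm ga N24321 = N20698 := ded_10_1 L162434 (flp_a L158007) L189505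
theorem L189509 : sm gg N19981 = N24322 := rfl
theorem L189511 : sm ga N24322 = N20703 := ded_12_1 (flp_g L162464) (flp_a L158007) L189509
theorem L189513 : sm gd N24322 = N19983 := ded_24_1 (flp_g L158015) L158005 L189509
theorem L189515 : sm gf N24322 = N23658 := ded_29_2 (flp_g L184378) L184366 L184370 L189509
theorem L189517 : sm gb N23640 = N24322 := ded_7_0 L189511 (flp_b L183599) L183591 L183603 L183607 (flp_b L152726) L105475 L152720 L184230
theorem L189519 : sm gb N19984 = N24323 := rfl
theorem L189521 : sm gc N24323 = N20067 := ded_13_2 (flp_b L158486) L109614 L112410 (flp_c L158023) L189519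
theorem L189523 : sm ga N24323 = N20056 := ded_7_1 (flp_b L158415) (flp_a L109553) (flp_b L92114) L44298 (flp_b L44189) (flp_a L91998) L109293 L158021 L189519
theorem L189525 : sm gd N19984 = N24324 := rfl
theorem L189527 : sm ga N24324 = N19985 := ded_9_1 (flp_d L158025) L158021 L189525
theorem L189529 : sm gf N19984 = N24325 := rfl
theorem L189531 : sm ga N24325 = N19986 := ded_11_1 (flp_f L158029) L158021 L189529
theorem L189533 : sm gc N24325 = N20685 := ded_20_1 (flp_f L162358) (flp_c L158023) L189529
theorem L189535 : sm gg N19984 = N24326 := rfl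
theorem L189537 : sm ga N24326 = N19987 := ded_12_1 (flp_g L158031) L158021 L189535
theorem L189539 : sm gc N24326 = N20686 := ded_21_1 (flp_g L162360) (flp_c L158023) L189535
theorem L189541 : sm gb N22408 = N24326 := ded_7_0 L189537 (flp_b L189415) L189421 (flp_b L189381) L173599 (flp_b L173591) L163925 L123227 L175096
theorem L189543 : sm gc N19985 = N24327 := rfl
theorem L189545 : sm gb N24327 = N22203 := ded_13_1 L173580 (flp_b L173755) (flp_c L158033) (flp_b L158027) L189543
theorem L189547 : sm gd N24327 = N19986 := ded_28_7 (flp_a L189531) L189533 (flp_d L180119) L189495 (flp_d L189489) L158001 L158025 L189543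
theorem L189549 : sm gf N19985 = N24327 := ded_16_0 L189545 (flp_f L173584) L173556 (flp_f L158043) (flp_b L158027)
theorem L189551 : sm ge N19985 = N24328 := rfl
theorem L189553 : sm gb N24328 = N19989 := ded_15_1 (flp_e L158039) (flp_b L158027) L189551
theorem L189555 : sm gg N19985 = N24329 := rfl
theorem L189557 : sm gd N24329 = N19987 := ded_24_1 (flp_g L158031) L158025 L189555
theorem L189559 : sm gb N24329 = N20040 := ded_17_1 (flp_g L189407) L189405 L157939 (flp_b L158027) L189555
theorem L189561 : sm gf N24329 = N20023 := ded_31_1 (flp_b L158231) (flp_g L109517) (flp_f L109511) L92095 (flp_g L92091) (flp_f L92069) (flp_b L98911) L124003 (flp_f L124007) (flp_b L163683) L158049 (flp_f L158043) (flp_b L158027) L189555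
theorem L189563 : sm gg N19986 = N24330 := rfl
theorem L189565 : sm gf N24326 = N24330 := ded_29_0 (flp_g L189563) (flp_f L158029) L158031 (flp_a L189537)
theorem L189567 : sm gf N19987 = N24331 := rfl
theorem L189569 : sm ga N24331 = N24330 := ded_11_1 (flp_f L189565) L189537 L189567
theorem L189571 : sm gd N24331 = N20023 := ded_23_1 (flp_f L189561) L189557 L189567
theorem L189573 : sm gg N24331 = N24325 := ded_29_3 L189531 (flp_f L158029) L158031 L189567
theorem L189575 : sm gb N24331 = N20024 := ded_16_1 L158237 (flp_b L158327) (flp_f L189417) L189415 L189567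
theorem L189577 : sm ge N19988 = N24332 := rfl
theorem L189579 : sm ga N24332 = N19994 := ded_10_1 (flp_e L158073) (flp_a L158035) L189577
theorem L189581 : sm gb N24332 = N21605 := ded_15_1 L169549 (flp_b L173755) L189577
theorem L189583 : sm gc N24332 = N19989 := ded_19_1 (flp_e L158039) L158033 L189577
theorem L189585 : sm gf N19989 = N24333 := rfl
theorem L189587 : sm ga N24333 = N19996 := ded_11_1 (flp_f L158081) (flp_a L158041) L189585
theorem L189589 : sm ge N24333 = N19990 := ded_25_1 (flp_f L158043) L158039 L189585
theorem L189591 : sm gg N24317 = N24333 := ded_29_1 (flp_f L189585) (flp_g L189441) L189439 L189475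
theorem L189593 : sm ga N19992 = N24334 := rfl
theorem L189595 : sm gc N24334 = N20063 := ded_8_2 (flp_a L158467) (flp_c L158065) L189593
theorem L189597 : sm gf N24334 = N20677 := ded_11_2 (flp_a L162333) (flp_f L175476) L189593
theorem L189599 : sm gg N22456 = N24334 := ded_29_3 (flp_a L189593) L175476 (flp_g L123472) L175406
theorem L189601 : sm gd N23664 = N24334 := ded_28_7 (flp_a L189593) L158065 (flp_d L141750) L106103 L106819 L154376 L185697 (flp_c L185703)
theorem L189603 : sm gb N24334 = N20608 := ded_7_2 L161924 L112050 (flp_a L161304) L161306 L122380 (flp_b L173755) L158035 L158063 L189593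
theorem L189605 : sm gd N19992 = N24335 := rfl
theorem L189607 : sm ga N24335 = N23664 := ded_9_1 L189601 (flp_a L189593) L189605
theorem L189609 : sm gb N24335 = N19993 := ded_14_1 (flp_d L158067) L158063 L189605
theorem L189611 : sm gf N24335 = N20673 := ded_23_2 L162307 (flp_f L175476) L189605
theorem L189613 : sm ge N19992 = N24336 := rfl
theorem L189615 : sm gb N24336 = N19994 := ded_15_1 (flp_e L158073) L158063 L189613
theorem L189617 : sm gc N24336 = N20064 := ded_19_1 (flp_e L158471) (flp_c L158065) L189613
theorem L189619 : sm gf N24336 = N20387 := ded_25_2 L160636 (flp_f L175476) L189613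
theorem L189621 : sm gg N19992 = N24337 := rfl
theorem L189623 : sm ga N24337 = N22456 := ded_12_1 L189599 (flp_a L189593) L189621
theorem L189625 : sm gc N24337 = N20066 := ded_21_1 (flp_g L158482) (flp_c L158065) L189621
theorem L189627 : sm gf N22454 = N24337 := ded_29_0 (flp_g L189621) L175476 (flp_g L123472) L175396
theorem L189629 : sm gb N24337 = N24302 := ded_17_1 (flp_g L189357) (flp_b L175709) L157943 L158063 L189621
theorem L189631 : sm ge N19993 = N24338 := rfl
theorem L189633 : sm ga N24338 = N24265 := ded_10_1 (flp_e L189085) (flp_a L158069) L189631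
theorem L189635 : sm gc N24338 = N24262 := ded_19_1 (flp_e L189057) L158071 L189631
theorem L189637 : sm gd N19994 = N24339 := rfl
theorem L189639 : sm gg N19996 = N24340 := rfl
theorem L189641 : sm ga N24340 = N24317 := ded_12_1 L189591 L189587 L189639
theorem L189643 : sm ge N24340 = N19997 := ded_26_1 (flp_g L158086) (flp_e L158083) L189639
theorem L189645 : sm gf N24313 = N24340 := ded_29_0 (flp_g L189639) (flp_f L158081) (flp_g L157947) (flp_a L189439)
theorem L189647 : sm ga N19998 = N24341 := rfl
theorem L189649 : sm gg N24341 = N24341 := ded_12_2 (flp_a L189647) L158096 L189647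
theorem L189650 : sm gc N19998 = N24342 := rfl
theorem L189652 : sm gg N24342 = N24342 := ded_21_2 (flp_c L189650) L158096 L189650
theorem L189653 : sm gb N24342 = N20000 := ded_13_1 (flp_c L158105) (flp_b L109332) (flp_c L109328) L158094 L189650
theorem L189655 : sm gf N19998 = N24343 := rfl
theorem L189657 : sm gb N24343 = N24310 := ded_16_1 (flp_f L189409) (flp_b L157933) L109330 L158094 L189655
theorem L189659 : sm gf N20000 = N24344 := rfl
theorem L189661 : sm ga N24344 = N21005 := ded_11_1 L173236 (flp_a L173234) L189659
theorem L189663 : sm gc N24344 = N20001 := ded_20_1 (flp_f L158109) L158105 L189659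
theorem L189665 : sm gd N24344 = N21004 := ded_23_1 L165935 (flp_d L165933) L189659
theorem L189667 : sm gg N24344 = N22195 := ded_29_3 (flp_a L186985) (flp_f L186983) (flp_g L158107) L189659
theorem L189669 : sm ga N20002 = N24345 := rfl
theorem L189671 : sm gd N24345 = N22977 := ded_9_2 (flp_a L179531) (flp_d L158117) L189669
theorem L189673 : sm gf N24345 = N22414 := ded_11_2 L175136 (flp_f L158119) L189669
theorem L189675 : sm gg N20625 = N24345 := ded_29_3 (flp_a L189669) L158119 L183289 L183287
theorem L189677 : sm gb N24345 = N22411 := ded_7_2 L175118 L124061 L120820 (flp_b L122414) (flp_a L143669) L143673 L123834 L158115 L189669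
theorem L189679 : sm gg N20002 = N24346 := rfl
theorem L189681 : sm ga N24346 = N20625 := ded_12_1 L189675 (flp_a L189669) L189679
theorem L189683 : sm gc N24346 = N24345 := ded_21_1 (flp_g L189675) L162006 L189679
theorem L189685 : sm gd N24346 = N22979 := ded_24_1 (flp_g L179541) (flp_d L158117) L189679
theorem L189687 : sm gb N24346 = N20639 := ded_17_1 L179903 (flp_b L179893) (flp_g L147958) L158115 L189679
theorem L189689 : sm gd N20004 = N24347 := rfl
theorem L189691 : sm ga N24347 = N20011 := ded_9_1 (flp_d L158165) (flp_a L158131) L189689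
theorem L189693 : sm gb N24347 = N23141 := ded_14_1 (flp_d L180805) (flp_b L158133) L189689
theorem L189695 : sm gg N24347 = N22747 := ded_24_2 L177691 (flp_g L158137) L189689
theorem L189697 : sm ge N24347 = N23062 := ded_22_2 L180239 L144173 (flp_d L148193) L158129 L189689
theorem L189699 : sm gc N20006 = N24348 := rfl
theorem L189701 : sm ga N24348 = N20007 := ded_8_1 (flp_c L158149) L158147 L189699
theorem L189703 : sm gf N24348 = N20731 := ded_20_2 (flp_c L184073) L184077 L189699
theorem L189705 : sm gd N23602 = N24348 := ded_28_5 (flp_c L189699) (flp_d L184129) L184127 (flp_c L183819) (flp_d L189483) L189485 (flp_d L183971) (flp_c L183977)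
theorem L189707 : sm gb N24348 = N20739 := ded_30_2 L173970 L173968 L158301 (flp_b L109484) L92079 (flp_f L92069) (flp_c L92067) (flp_b L44215) (flp_a L44203) (flp_f L44201) L44197 L92029 L147988 L104975 (flp_c L105306) L152486 L184071 L184077 L189699
theorem L189709 : sm gg N23598 = N24348 := ded_12_0 L189701 (flp_g L174960) (flp_a L183941)
theorem L189711 : sm gg N20006 = N24349 := rfl
theorem L189713 : sm ga N24349 = N20008 := ded_12_1 (flp_g L158153) L158147 L189711
theorem L189715 : sm gc N24349 = N23598 := ded_21_1 L189709 (flp_c L189699) L189711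
theorem L189717 : sm gd N24349 = N23623 := ded_24_1 L184131 L184129 L189711
theorem L189719 : sm gf N24349 = N23607 := ded_29_2 (flp_g L183997) L184071 L184077 L189711
theorem L189721 : sm gb N24349 = N20757 := ded_17_1 L162784 L173945 (flp_g L174020) (flp_b L174022) L189711
theorem L189723 : sm gf N20008 = N24350 := rfl
theorem L189725 : sm ga N24350 = N23607 := ded_11_1 (flp_f L189719) L189713 L189723
theorem L189727 : sm gc N24350 = N23606 := ded_20_1 L183987 (flp_c L174962) L189723
theorem L189729 : sm gd N24350 = N23621 := ded_23_1 L184139 L184137 L189723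
theorem L189731 : sm gg N24350 = N23618 := ded_29_3 (flp_a L184071) L152490 L158153 L189723
theorem L189733 : sm gb N20732 = N24350 := ded_7_0 L189725 L183993 (flp_a L153217) L175838 (flp_a L162659) (flp_b L112636) L93836 L112634 L162653
theorem L189735 : sm gc N20009 = N24351 := rfl
theorem L189737 : sm gd N24351 = N21018 := ded_28_7 L165700 (flp_c L164557) L113675 (flp_c L149508) L109079 L109408 L158157 L189735
theorem L189739 : sm gg N21017 = N24351 := ded_24_0 L189737 (flp_g L165698) (flp_d L165696)
theorem L189741 : sm ge N20009 = N24352 := rfl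
theorem L189743 : sm ga N24352 = N23479 := ded_10_1 L183042 (flp_a L161978) L189741
theorem L189745 : sm gg N20009 = N24353 := rfl
theorem L189747 : sm ga N24353 = N23718 := ded_12_1 L184814 (flp_a L161978) L189745
theorem L189749 : sm gc N24353 = N21017 := ded_21_1 L189739 (flp_c L189735) L189745
theorem L189751 : sm gd N24353 = N20010 := ded_24_1 (flp_g L158159) L158157 L189745
theorem L189753 : sm gf N24353 = N20624 := ded_29_2 (flp_g L161998) L161990 L161994 L189745
theorem L189755 : sm gc N20011 = N24354 := rfl
theorem L189757 : sm ge N24354 = N23063 := ded_19_2 (flp_c L180245) (flp_e L158171) L189755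
theorem L189759 : sm gg N24354 = N22748 := ded_21_2 (flp_c L177695) (flp_g L158169) L189755
theorem L189761 : sm gf N20011 = N24355 := rfl
theorem L189763 : sm gd N24355 = N20012 := ded_23_1 (flp_f L158173) L158165 L189761
theorem L189765 : sm ge N24355 = N23064 := ded_25_1 (flp_f L180251) (flp_e L158171) L189761
theorem L189767 : sm gb N20012 = N24356 := rfl
theorem L189769 : sm ge N24356 = N20013 := ded_15_2 (flp_b L158179) (flp_e L158177) L189767
theorem L189771 : sm gf N24356 = N22743 := ded_16_2 (flp_b L177667) (flp_f L128723) (flp_b L147707) L158173 L189767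
theorem L189773 : sm gg N24356 = N23312 := ded_17_2 L181961 L182065 (flp_b L182073) (flp_g L177745) L189767
theorem L189775 : sm ga N24356 = N23133 := ded_7_1 (flp_b L180743) (flp_a L144423) (flp_b L103909) (flp_a L89202) L104161 L144909 L177757 L177749 L189767
theorem L189777 : sm gb N20014 = N24357 := rfl
theorem L189779 : sm ge N24357 = N20015 := ded_15_2 (flp_b L158197) (flp_e L158193) L189777
theorem L189781 : sm gb N20016 = N24358 := rfl
theorem L189783 : sm gc N20016 = N24359 := rfl
theorem L189785 : sm ga N24359 = N20017 := ded_8_1 (flp_c L158203) L158201 L189783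
theorem L189787 : sm gd N24359 = N23625 := ded_28_7 L184123 (flp_c L152516) (flp_d L152488) (flp_c L184003) L184005 (flp_c L184029) L184031 L189783
theorem L189789 : sm gb N22523 = N24359 := ded_30_2 L189785 (flp_f L189487) L189485 L158211 (flp_a L183945) (flp_f L183951) (flp_c L155216) (flp_b L107404) L91101 L93135 L93139 L93165 (flp_a L98407) L98615 L121182 (flp_b L163854) L123948 L123993 (flp_c L175885)
theorem L189791 : N24358 = N20025 := coi_13_4 (flp_c L158239) (flp_b L123997) (flp_c L175885) L189789 (flp_c L189783) L189781
theorem L189792 : N24358 = N20025 := eqc rfl L189791 rfl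
theorem L189793 : sm gb N20025 = N20016 := trfs L189792 (flp_b L189781) rfl
theorem L189795 : sm gf N20016 = N24360 := rfl
theorem L189797 : sm ga N24360 = N20018 := ded_11_1 (flp_f L158209) L158201 L189795
theorem L189799 : sm gg N22555 = N24360 := ded_29_1 (flp_f L189795) (flp_g L176071) (flp_a L176069) L176087
theorem L189801 : sm gg N20018 = N24361 := rfl
theorem L189803 : sm ga N24361 = N22555 := ded_12_1 L189799 L189797 L189801
theorem L189805 : sm gd N24361 = N23601 := ded_24_1 (flp_g L183975) L183971 L189801
theorem L189807 : sm gf N22553 = N24361 := ded_29_0 (flp_g L189801) (flp_f L158209) (flp_g L124105) L176069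
theorem L189809 : sm gb N24361 = N22443 := ded_17_1 (flp_g L175310) L162794 (flp_g L157271) (flp_b L158211) L189801
theorem L189811 : sm gb N20020 = N24362 := rfl
theorem L189813 : sm gd N24362 = N24326 := ded_14_2 (flp_b L189541) L175100 L189811
theorem L189815 : sm gc N24362 = N20023 := ded_13_2 (flp_b L158231) (flp_c L109448) L109446 L158219 L189811
theorem L189817 : sm ga N24329 = N24362 := ded_9_3 L189813 L189537 (flp_d L189557)
theorem L189819 : sm gg N24324 = N24362 := ded_24_0 L189813 (flp_g L189535) L189525
theorem L189821 : sm gf N20020 = N24363 := rfl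
theorem L189823 : sm gc N24363 = N20021 := ded_20_1 (flp_f L158221) L158219 L189821
theorem L189825 : sm gg N20020 = N24364 := rfl
theorem L189827 : sm ga N24364 = N20481 := ded_12_1 (flp_g L173538) (flp_a L173540) L189825
theorem L189829 : sm gc N24364 = N20022 := ded_21_1 (flp_g L158225) L158219 L189825
theorem L189831 : sm gd N24364 = N22061 := ded_24_1 (flp_g L175102) L175100 L189825
theorem L189833 : sm gf N24364 = N22060 := ded_30_4 (flp_c L172565) (flp_b L157197) (flp_a L108613) L108621 (flp_c L157211) L188649 L188657 L173156 (flp_c L122220) (flp_b L97851) (flp_a L85575) (flp_f L85579) (flp_c L85513) L85511 L97821 (flp_f L98489) L111483 (flp_b L161194) (flp_a L189827)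
theorem L189835 : sm ga N20023 = N24365 := rfl
theorem L189837 : sm gc N24365 = N24329 := ded_8_2 L189817 L189815 L189835
theorem L189839 : sm gd N24365 = N24330 := ded_9_2 (flp_a L189569) L189571 L189835
theorem L189841 : sm gf N24365 = N24362 := ded_11_2 (flp_a L189817) L189561 L189835
theorem L189843 : sm gg N24327 = N24365 := ded_29_3 (flp_a L189835) (flp_f L189561) (flp_g L189555) L189549
theorem L189845 : sm gb N24365 = N22272 := ded_7_2 L173976 L122605 (flp_a L122619) L123956 L123952 L98911 (flp_a L109450) L158231 L189835
theorem L189847 : sm gg N20023 = N24366 := rfl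
theorem L189849 : sm ga N24366 = N24327 := ded_12_1 L189843 (flp_a L189835) L189847
theorem L189851 : sm gc N24366 = N24324 := ded_21_1 L189819 L189815 L189847
theorem L189853 : sm gd N24366 = N24325 := ded_24_1 (flp_g L189573) L189571 L189847
theorem L189855 : sm gf N24324 = N24366 := ded_29_0 (flp_g L189847) (flp_f L189561) (flp_g L189555) (flp_a L189527)
theorem L189857 : sm gc N20024 = N24367 := rfl
theorem L189859 : sm ga N24367 = N20025 := ded_8_1 (flp_c L158239) (flp_a L158235) L189857
theorem L189861 : sm gf N24367 = N20042 := ded_20_2 (flp_c L158333) (flp_f L158237) L189857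
theorem L189863 : sm gg N24367 = N20711 := ded_21_2 L163810 L158392 L189857
theorem L189865 : sm gd N23016 = N24367 := ded_28_1 (flp_c L189857) (flp_d L158233) (flp_c L109448) (flp_d L109101) L157725 L189139 L189141 L179847
theorem L189867 : sm gb N24367 = N22421 := ded_30_2 (flp_a L175202) (flp_f L175208) (flp_c L151327) (flp_b L122080) L97793 L97803 L97805 L97807 L122106 L122108 L122114 L163814 L99273 L98919 (flp_c L92150) (flp_b L92089) (flp_a L109488) (flp_f L158237) L189857
theorem L189869 : sm ge N20024 = N24368 := rfl
theorem L189871 : sm ga N24368 = N20026 := ded_10_1 (flp_e L158243) (flp_a L158235) L189869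
theorem L189873 : sm gf N24368 = N20043 := ded_25_2 (flp_e L158339) (flp_f L158237) L189869
theorem L189875 : sm gd N20025 = N24369 := rfl
theorem L189877 : sm ga N24369 = N23016 := ded_9_1 L189865 L189859 L189875
theorem L189879 : sm gb N24369 = N23611 := ded_14_1 L184031 (flp_b L189793) L189875
theorem L189881 : sm gf N24369 = N20047 := ded_23_2 (flp_d L158367) (flp_f L158241) L189875
theorem L189883 : sm gc N24272 = N24369 := ded_28_0 (flp_d L189875) (flp_c L158239) (flp_d L109454) (flp_c L92067) (flp_d L91916) L109105 L157733 (flp_a L189141)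
theorem L189885 : sm gg N23614 = N24369 := ded_12_0 L189877 L179845 L184049
theorem L189887 : sm ge N20025 = N24370 := rfl
theorem L189889 : sm gb N24370 = N24106 := ded_15_1 L188011 (flp_b L189793) L189887
theorem L189891 : sm gc N24370 = N20026 := ded_19_1 (flp_e L158243) L158239 L189887
theorem L189893 : sm gf N24370 = N20048 := ded_25_2 (flp_e L158373) (flp_f L158241) L189887
theorem L189895 : sm gg N20025 = N24371 := rfl
theorem L189897 : sm ga N24371 = N20711 := ded_12_1 (flp_g L189863) L189859 L189895
theorem L189899 : sm gc N24371 = N20027 := ded_21_1 (flp_g L158247) L158239 L189895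
theorem L189901 : sm gd N24371 = N23614 := ded_24_1 L189885 (flp_d L189875) L189895
theorem L189903 : sm gf N20717 = N24371 := ded_29_0 (flp_g L189895) L158241 L163733 L162560
theorem L189905 : sm gb N24371 = N22483 := ded_17_1 L175615 (flp_b L176073) L176071 (flp_b L189793) L189895
theorem L189907 : sm gg N20026 = N24372 := rfl
theorem L189909 : sm ge N24372 = N20027 := ded_26_1 (flp_g L158247) L158243 L189907
theorem L189911 : sm gb N21807 = N24372 := ded_31_14 (flp_g L189907) L158245 L109504 L92155 (flp_f L98923) (flp_b L123991) L175895 (flp_f L175901) (flp_b L169001) (flp_g L159783) (flp_f L168812) (flp_b L170865) (flp_g L170857) L170849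
theorem L189913 : sm gd N20034 = N24373 := rfl
theorem L189915 : sm ga N24373 = N20738 := ded_9_1 L162674 (flp_a L158303) L189913
theorem L189917 : sm gb N24373 = N20035 := ded_14_1 (flp_d L158305) L158299 L189913
theorem L189919 : sm gc N23051 = N24373 := ded_13_0 L189917 L183427 (flp_b L179713) (flp_c L143861) L180149
theorem L189921 : sm gg N20034 = N24374 := rfl
theorem L189923 : sm ga N24374 = N20740 := ded_12_1 (flp_g L162678) (flp_a L158303) L189921
theorem L189925 : sm gc N24374 = N20041 := ded_21_1 (flp_g L158331) (flp_c L158301) L189921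
theorem L189927 : sm gb N24374 = N20480 := ded_17_1 (flp_g L161804) L161806 (flp_g L158315) L158299 L189921
theorem L189929 : sm ge N20035 = N24375 := rfl
theorem L189931 : sm ga N24375 = N20752 := ded_10_1 L162756 (flp_a L158307) L189929
theorem L189933 : sm gf N20035 = N24376 := rfl
theorem L189935 : sm ga N24376 = N20755 := ded_11_1 (flp_f L162766) (flp_a L158307) L189933
theorem L189937 : sm gd N24376 = N20036 := ded_23_1 (flp_f L158309) L158305 L189933
theorem L189939 : sm gg N23710 = N24376 := ded_29_1 (flp_f L189933) (flp_g L184746) (flp_a L184742) L184754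
theorem L189941 : sm gb N23693 = N24376 := ded_7_0 L189935 (flp_b L183457) L183451 L184045 (flp_a L184049) (flp_b L153135) (flp_a L105662) L153137 L184608
theorem L189943 : sm gb N20038 = N24377 := rfl
theorem L189945 : sm gc N24377 = N20056 := ded_13_2 (flp_b L158415) L109555 L112654 (flp_c L158323) L189943
theorem L189947 : sm ga N24377 = N20067 := ded_7_1 (flp_b L158486) (flp_a L109612) (flp_b L92141) L44379 (flp_b L44229) (flp_a L92079) L109484 L158321 L189943
theorem L189949 : sm gd N20038 = N24378 := rfl
theorem L189951 : sm ga N24378 = N20039 := ded_9_1 (flp_d L158325) L158321 L189949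
theorem L189953 : sm gf N24305 = N24378 := ded_11_0 L189951 (flp_f L189417) L189421
theorem L189955 : sm gg N24310 = N24378 := ded_29_3 L189951 (flp_f L189417) (flp_g L189411) L189409
theorem L189957 : sm gc N24378 = N24310 := ded_20_1 (flp_f L189409) (flp_c L189383) L189953
theorem L189959 : sm gf N20038 = N24379 := rfl
theorem L189961 : sm ga N24379 = N20040 := ded_11_1 (flp_f L158329) L158321 L189959
theorem L189963 : sm gc N24379 = N20739 := ded_20_1 (flp_f L162676) (flp_c L158323) L189959
theorem L189965 : sm gd N24379 = N24305 := ded_23_1 L189953 (flp_d L189949) L189959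
theorem L189967 : sm gb N22206 = N24379 := ded_7_0 L189961 (flp_b L189559) L189817 (flp_b L189811) L173540 (flp_b L173532) L122282 L122322 L173601
theorem L189969 : sm gg N20038 = N24380 := rfl
theorem L189971 : sm ga N24380 = N20041 := ded_12_1 (flp_g L158331) L158321 L189969
theorem L189973 : sm gc N24380 = N20740 := ded_21_1 (flp_g L162678) (flp_c L158323) L189969
theorem L189975 : sm gd N24380 = N24310 := ded_24_1 L189955 (flp_d L189949) L189969
theorem L189977 : sm gf N24380 = N24309 := ded_29_2 L189407 (flp_a L189961) (flp_f L189959) L189969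
theorem L189979 : sm gc N20039 = N24381 := rfl
theorem L189981 : sm ga N24381 = N24310 := ded_8_1 (flp_c L189957) L189951 L189979
theorem L189983 : sm gf N24381 = N24308 := ded_20_2 L189419 L189417 L189979
theorem L189985 : sm gb N24381 = N22157 := ded_13_1 (flp_c L173264) L173266 (flp_c L158333) (flp_b L158327) L189979
theorem L189987 : sm gd N24381 = N20041 := ded_28_7 (flp_a L189971) L189973 (flp_d L180151) L189919 (flp_d L189913) L158301 L158325 L189979
theorem L189989 : sm gg N20039 = N24381 := ded_12_0 L189981 L189955 L189951
theorem L189991 : sm ge N20039 = N24382 := rfl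
theorem L189993 : sm gb N24382 = N20043 := ded_15_1 (flp_e L158339) (flp_b L158327) L189991
theorem L189995 : sm gf N20041 = N24383 := rfl
theorem L189997 : sm ga N24383 = N24309 := ded_11_1 (flp_f L189977) L189971 L189995
theorem L189999 : sm gd N24383 = N24308 := ded_23_1 (flp_f L189983) L189987 L189995
theorem L190001 : sm gg N24383 = N24379 := ded_29_3 L189961 (flp_f L158329) L158331 L189995
theorem L190003 : sm ge N20042 = N24384 := rfl
theorem L190005 : sm ga N24384 = N20048 := ded_10_1 (flp_e L158373) (flp_a L158335) L190003
theorem L190007 : sm gb N24384 = N21765 := ded_15_1 L170572 L173266 L190003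
theorem L190009 : sm gc N24384 = N20043 := ded_19_1 (flp_e L158339) L158333 L190003
theorem L190011 : sm gg N20043 = N24385 := rfl
theorem L190013 : sm ga N24385 = N20050 := ded_12_1 (flp_g L158381) (flp_a L158341) L190011
theorem L190015 : sm ge N24385 = N20044 := ded_26_1 (flp_g L158343) L158339 L190011
theorem L190017 : sm gf N24385 = N24372 := ded_29_2 (flp_g L189907) (flp_a L189871) L189873 L190011
theorem L190019 : sm ga N20046 = N24386 := rfl
theorem L190021 : sm gc N24386 = N20070 := ded_8_2 (flp_a L158504) (flp_c L158365) L190019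
theorem L190023 : sm gg N24386 = N20734 := ded_12_2 (flp_a L162659) (flp_g L163735) L190019
theorem L190025 : sm gf N24386 = N22515 := ded_29_0 (flp_g L175829) L123904 (flp_g L163735) L190019
theorem L190027 : sm gd N23716 = N24386 := ded_28_7 (flp_a L190019) L158365 (flp_d L133429) L106426 L107041 L154742 L185915 (flp_c L185921)
theorem L190029 : sm gb N24386 = N20646 := ded_7_2 L162152 L112280 (flp_a L161555) L161557 (flp_a L123275) L173266 L158335 L158363 L190019
theorem L190031 : sm gd N20046 = N24387 := rfl
theorem L190033 : sm ga N24387 = N23716 := ded_9_1 L190027 (flp_a L190019) L190031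
theorem L190035 : sm gb N24387 = N20047 := ded_14_1 (flp_d L158367) L158363 L190031
theorem L190037 : sm gg N24387 = N20730 := ded_24_2 L162649 (flp_g L163735) L190031
theorem L190039 : sm ge N20046 = N24388 := rfl
theorem L190041 : sm gb N24388 = N20048 := ded_15_1 (flp_e L158373) L158363 L190039
theorem L190043 : sm gc N24388 = N20071 := ded_19_1 (flp_e L158508) (flp_c L158365) L190039
theorem L190045 : sm gg N24388 = N20425 := ded_26_2 L160848 (flp_g L163735) L190039
theorem L190047 : sm gf N20046 = N24389 := rfl
theorem L190049 : sm ga N24389 = N22515 := ded_11_1 (flp_f L190025) (flp_a L190019) L190047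
theorem L190051 : sm gc N24389 = N20072 := ded_20_1 (flp_f L158514) (flp_c L158365) L190047
theorem L190053 : sm gg N24389 = N22513 := ded_29_3 (flp_a L175819) L123904 (flp_g L163735) L190047
theorem L190055 : sm gb N24389 = N24360 := ded_16_1 (flp_f L189795) (flp_b L189793) L158241 L158363 L190047
theorem L190057 : sm ge N20047 = N24390 := rfl
theorem L190059 : sm ga N24390 = N24284 := ded_10_1 (flp_e L189207) (flp_a L158369) L190057
theorem L190061 : sm gc N24390 = N24281 := ded_19_1 (flp_e L189179) L158371 L190057
theorem L190063 : sm gd N20048 = N24391 := rfl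
theorem L190065 : sm gf N20050 = N24392 := rfl
theorem L190067 : sm ga N24392 = N24372 := ded_11_1 (flp_f L190017) L190013 L190065
theorem L190069 : sm ge N24392 = N20051 := ded_25_1 (flp_f L158386) (flp_e L158383) L190065
theorem L190071 : sm gg N24392 = N24368 := ded_29_3 L189871 L158245 L158381 L190065
theorem L190073 : sm ga N20052 = N24393 := rfl
theorem L190075 : sm gf N24393 = N24393 := ded_11_2 (flp_a L190073) L158396 L190073
theorem L190076 : sm gc N20052 = N24394 := rfl
theorem L190078 : sm gf N24394 = N24394 := ded_20_2 (flp_c L190076) L158396 L190076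
theorem L190079 : sm gb N24394 = N20054 := ded_13_1 (flp_c L158405) (flp_b L109519) (flp_c L109515) L158394 L190076
theorem L190081 : sm gb N23961 = N24393 := ded_30_18 (flp_a L190073) L158396 L190076 L190079 L174753 L174751 L123157 (flp_b L121361) L150351 (flp_f L107903) (flp_c L150345) (flp_b L97162) (flp_a L97160) L97166 (flp_c L120957) (flp_b L155730) (flp_a L155728) L155735 (flp_c L186943)
theorem L190083 : sm gg N20052 = N24395 := rfl
theorem L190085 : sm gb N24395 = N24366 := ded_17_1 (flp_g L189847) (flp_b L158231) (flp_g L109517) L158394 L190083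
theorem L190087 : sm gg N20054 = N24396 := rfl
theorem L190089 : sm ga N24396 = N20921 := ded_12_1 L174755 (flp_a L174753) L190087
theorem L190091 : sm gc N24396 = N20055 := ded_21_1 (flp_g L158409) L158405 L190087
theorem L190093 : sm gd N24396 = N20920 := ded_24_1 L166120 (flp_d L166118) L190087
theorem L190095 : sm gf N22400 = N24396 := ded_29_0 (flp_g L190087) L158407 L186947 L186949
theorem L190097 : sm gd N20056 = N24397 := rfl
theorem L190099 : sm gb N24397 = N20057 := ded_14_1 (flp_d L158417) L158415 L190097
theorem L190101 : sm gf N20056 = N24398 := rfl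
theorem L190103 : sm gb N24398 = N22365 := ded_31_2 (flp_g L174783) L173278 L173276 (flp_g L164001) (flp_f L123197) (flp_b L98513) L98523 (flp_f L120888) (flp_b L171720) (flp_g L172829) (flp_f L172823) L172811 L172813 L190101
theorem L190105 : sm gg N22069 = N24398 := ded_31_0 (flp_f L190101) (flp_b L158415) L158431 L158439 L109618 L92149 (flp_f L98895) (flp_b L123922) L163655 (flp_f L121895) L97696 (flp_g L97609) L121727 L172589
theorem L190107 : sm gb N20058 = N24399 := rfl
theorem L190109 : sm gc N24399 = N22372 := ded_13_2 (flp_b L184079) L184073 (flp_b L162651) (flp_c L158429) L190107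
theorem L190111 : sm gf N24399 = N22365 := ded_16_2 (flp_b L190103) (flp_f L190101) (flp_b L158415) L158425 L190107
theorem L190113 : sm ga N24399 = N22367 := ded_30_3 (flp_f L174795) L123051 (flp_b L98411) L85718 L26901 (flp_c L12930) (flp_b L6370) L3293 (flp_f L3287) L2799 L2807 L5424 L10837 (flp_c L22503) L46795 L93853 (flp_f L112630) (flp_c L158429) L190107
theorem L190115 : sm gb N20062 = N24400 := rfl
theorem L190117 : sm gd N24400 = N20067 := ded_14_2 (flp_b L158486) (flp_d L158463) L190115
theorem L190119 : sm gb N20063 = N24401 := rfl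
theorem L190121 : sm gd N24401 = N23759 := ded_14_2 L185149 (flp_d L158469) L190119
theorem L190123 : sm ge N20063 = N24402 := rfl
theorem L190125 : sm ga N24402 = N20064 := ded_10_1 (flp_e L158471) L158467 L190123
theorem L190127 : sm gd N24402 = N23761 := ded_22_1 (flp_e L185157) (flp_d L153749) L153757 (flp_d L158469) L190123
theorem L190129 : sm gf N20063 = N24403 := rfl
theorem L190131 : sm ga N24403 = N20065 := ded_11_1 (flp_f L158477) L158467 L190129
theorem L190133 : sm gc N24403 = N20677 := ded_20_1 (flp_f L189597) L189595 L190129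
theorem L190135 : sm gd N24403 = N23762 := ded_23_1 (flp_f L185165) (flp_d L158469) L190129
theorem L190137 : sm gg N20063 = N24404 := rfl
theorem L190139 : sm ga N24404 = N20066 := ded_12_1 (flp_g L158482) L158467 L190137
theorem L190141 : sm gc N24404 = N22456 := ded_21_1 L189599 L189595 L190137
theorem L190143 : sm gd N24404 = N23763 := ded_24_1 (flp_g L185173) (flp_d L158469) L190137
theorem L190145 : sm gf N24404 = N22455 := ded_29_2 (flp_g L175495) (flp_a L190131) (flp_f L190129) L190137
theorem L190147 : sm gb N24224 = N24404 := ded_13_5 L190141 L175408 (flp_c L175204) L175210 L188779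
theorem L190149 : sm gf N20064 = N24405 := rfl
theorem L190151 : sm gc N24405 = N20387 := ded_20_1 (flp_f L189619) L189617 L190149
theorem L190153 : sm gd N24405 = N22767 := ded_23_1 (flp_f L177844) (flp_d L158475) L190149
theorem L190155 : sm ge N24405 = N20065 := ded_25_1 (flp_f L158477) L158471 L190149
theorem L190157 : sm gb N24405 = N24405 := ded_16_1 (flp_f L190149) L158473 L109581 (flp_b L158473) L190149
theorem L190158 : sm gg N22772 = N24405 := ded_21_0 L190151 (flp_g L161042) L177880
theorem L190160 : sm gg N20064 = N24406 := rfl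
theorem L190162 : sm gd N24406 = N23765 := ded_24_1 (flp_g L185195) (flp_d L158475) L190160
theorem L190164 : sm ge N24406 = N20066 := ded_26_1 (flp_g L158482) L158471 L190160
theorem L190166 : sm gf N20066 = N24407 := rfl
theorem L190168 : sm ga N24407 = N22455 := ded_11_1 (flp_f L190145) L190139 L190166
theorem L190170 : sm gc N24407 = N22454 := ded_20_1 L189627 L189625 L190166
theorem L190172 : sm gd N24407 = N23766 := ded_23_1 (flp_f L185205) (flp_d L158484) L190166
theorem L190174 : sm gg N24407 = N24403 := ded_29_3 L190131 (flp_f L158477) L158482 L190166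
theorem L190176 : sm gg N20067 = N24408 := rfl
theorem L190178 : sm gb N22158 = N24408 := ded_31_14 (flp_g L190176) (flp_f L174334) (flp_b L174332) L174336 (flp_f L174342) L171790 L120997 (flp_f L97951) L97945 L122306 L164003 (flp_b L174787) (flp_g L174791) (flp_f L173272)
theorem L190180 : sm gf N24408 = N22285 := ded_31_1 (flp_b L174094) (flp_g L122629) L98173 (flp_b L98270) L122814 L163685 L123488 L98714 L92122 (flp_b L109559) L158447 (flp_f L158455) L158486 L190176
theorem L190182 : sm gb N20068 = N24409 := rfl
theorem L190184 : sm gd N24409 = N24399 := ded_14_2 (flp_b L190107) (flp_d L158494) L190182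
theorem L190186 : sm gc N24409 = N22165 := ded_13_2 (flp_b L183637) L183631 (flp_b L162342) (flp_c L158492) L190182
theorem L190188 : sm gg N24409 = N22158 := ded_17_2 L190178 (flp_g L190176) (flp_b L158486) L158488 L190182
theorem L190190 : sm ga N22161 = N24409 := ded_9_3 L190184 L190113 L174799
theorem L190192 : sm gb N20070 = N24410 := rfl
theorem L190194 : sm gd N24410 = N23783 := ded_14_2 L185351 (flp_d L158506) L190192
theorem L190196 : sm ge N20070 = N24411 := rfl
theorem L190198 : sm ga N24411 = N20071 := ded_10_1 (flp_e L158508) L158504 L190196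
theorem L190200 : sm gd N24411 = N23785 := ded_22_1 (flp_e L185359) (flp_d L154015) L154023 (flp_d L158506) L190196
theorem L190202 : sm gf N20070 = N24412 := rfl
theorem L190204 : sm ga N24412 = N20072 := ded_11_1 (flp_f L158514) L158504 L190202
theorem L190206 : sm gc N24412 = N22515 := ded_20_1 (flp_f L190025) L190021 L190202
theorem L190208 : sm gd N24412 = N23786 := ded_23_1 (flp_f L185367) (flp_d L158506) L190202
theorem L190210 : sm gg N24412 = N22514 := ded_29_1 L175825 (flp_g L158518) L158504 L190202
theorem L190212 : sm gb N24200 = N24412 := ded_30_2 L190204 (flp_f L158514) (flp_c L158365) (flp_b L158363) (flp_a L158335) (flp_f L189861) (flp_c L189857) (flp_b L189575) L189569 (flp_f L189565) L189539 L189277 L189269 (flp_f L173407) (flp_c L173409) L157849 (flp_a L161390) (flp_f L161392) L188615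
theorem L190214 : sm gg N20070 = N24413 := rfl
theorem L190216 : sm ga N24413 = N20073 := ded_12_1 (flp_g L158518) L158504 L190214
theorem L190218 : sm gc N24413 = N20734 := ded_21_1 (flp_g L190023) L190021 L190214
theorem L190220 : sm gd N24413 = N23787 := ded_24_1 (flp_g L185379) (flp_d L158506) L190214
theorem L190222 : sm gf N20071 = N24414 := rfl
theorem L190224 : sm gd N24414 = N23789 := ded_23_1 (flp_f L185397) (flp_d L158512) L190222
theorem L190226 : sm ge N24414 = N20072 := ded_25_1 (flp_f L158514) L158508 L190222
theorem L190228 : sm gg N20071 = N24415 := rfl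
theorem L190230 : sm gc N24415 = N20425 := ded_21_1 (flp_g L190045) L190043 L190228
theorem L190232 : sm gd N24415 = N22776 := ded_24_1 (flp_g L177909) (flp_d L158512) L190228
theorem L190234 : sm ge N24415 = N20073 := ded_26_1 (flp_g L158518) L158508 L190228
theorem L190236 : sm gb N24415 = N24415 := ded_17_1 (flp_g L190228) L158510 L109640 (flp_b L158510) L190228
theorem L190237 : sm gf N22781 = N24415 := ded_20_0 L190230 (flp_f L161162) L177945
theorem L190239 : sm gg N20072 = N24416 := rfl
theorem L190241 : sm ga N24416 = N22514 := ded_12_1 (flp_g L190210) L190204 L190239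
theorem L190243 : sm gc N24416 = N22513 := ded_21_1 (flp_g L190053) L190051 L190239
theorem L190245 : sm gd N24416 = N23790 := ded_24_1 (flp_g L185407) (flp_d L158516) L190239
theorem L190247 : sm gf N24413 = N24416 := ded_29_0 (flp_g L190239) (flp_f L158514) L158518 (flp_a L190216)
theorem L190249 : sm ge N20074 = N24417 := rfl
theorem L190251 : sm ga N24417 = N20078 := ded_10_1 (flp_e L158557) (flp_a L158525) L190249
theorem L190253 : sm gb N24417 = N23089 := ded_15_1 L180445 (flp_b L158529) L190249
theorem L190255 : sm gc N24417 = N20075 := ded_19_1 (flp_e L158533) L158523 L190249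
theorem L190257 : sm gf N24417 = N20491 := ded_25_2 (flp_e L161262) (flp_f L158527) L190249
theorem L190259 : sm gg N20075 = N24418 := rfl
theorem L190261 : sm ga N24418 = N20081 := ded_12_1 (flp_g L158581) (flp_a L158535) L190259
theorem L190263 : sm gd N24418 = N23092 := ded_24_1 (flp_g L180461) (flp_d L158541) L190259
theorem L190265 : sm ge N24418 = N20076 := ded_26_1 (flp_g L158543) L158533 L190259
theorem L190267 : sm gd N20078 = N24419 := rfl
theorem L190269 : sm gb N24419 = N22451 := ded_14_1 (flp_d L175372) (flp_b L158559) L190267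
theorem L190271 : sm gf N24419 = N22897 := ded_23_2 (flp_d L178977) (flp_f L158563) L190267
theorem L190273 : sm gg N20078 = N24420 := rfl
theorem L190275 : sm gc N24420 = N20081 := ded_21_1 (flp_g L158581) (flp_c L158561) L190273
theorem L190277 : sm ge N24420 = N20079 := ded_26_1 (flp_g L158565) L158557 L190273
theorem L190279 : sm gb N20079 = N24421 := rfl
theorem L190281 : sm gd N24421 = N22147 := ded_14_2 L173162 L161292 L190279
theorem L190283 : sm gc N24421 = N22175 := ded_13_2 L173369 L122442 (flp_b L109677) (flp_c L158567) L190279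
theorem L190285 : sm gg N24421 = N22143 := ded_17_2 (flp_b L173132) L122090 (flp_b L109661) L158565 L190279
theorem L190287 : sm gg N20080 = N24422 := rfl
theorem L190289 : sm ga N24422 = N22830 := ded_12_1 (flp_g L178391) (flp_a L158571) L190287
theorem L190291 : sm gc N24422 = N22898 := ded_21_1 (flp_g L178981) (flp_c L158573) L190287
theorem L190293 : sm gd N24422 = N23066 := ded_24_1 (flp_g L180259) (flp_d L158575) L190287
theorem L190295 : sm ge N24422 = N20082 := ded_26_1 (flp_g L158589) (flp_e L158577) L190287
theorem L190297 : sm gf N24418 = N24422 := ded_29_0 (flp_g L190287) (flp_f L158569) L158581 (flp_a L190261)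
theorem L190299 : sm ga N20083 = N24423 := rfl
theorem L190301 : sm gc N20083 = N24424 := rfl
theorem L190303 : sm ge N24424 = N24255 := ded_19_2 L189033 L185131 L190301
theorem L190305 : sm gb N24424 = N22110 := ded_13_1 (flp_c L172891) L157425 L143913 L158599 L190301
theorem L190307 : sm gd N22109 = N24424 := ded_14_0 L190305 (flp_d L172885) L172881
theorem L190309 : sm gg N24210 = N24424 := ded_17_0 L190305 (flp_g L188941) L188943 L188637 (flp_b L188693)
theorem L190311 : sm gd N20083 = N24425 := rfl
theorem L190313 : sm gb N24425 = N20084 := ded_14_1 (flp_d L158601) L158599 L190311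
theorem L190315 : sm gf N20083 = N24426 := rfl
theorem L190317 : sm gb N24426 = N22581 := ded_16_1 (flp_f L176308) L158615 (flp_f L158605) L158599 L190315
theorem L190319 : sm gg N20083 = N24427 := rfl
theorem L190321 : sm gc N24427 = N24210 := ded_21_1 L190309 (flp_c L190301) L190319
theorem L190323 : sm gc N20084 = N24428 := rfl
theorem L190325 : sm ga N24428 = N20086 := ded_8_1 (flp_c L158617) (flp_a L158603) L190323
theorem L190327 : sm gd N23709 = N24428 := ded_28_1 (flp_c L190323) (flp_d L158601) (flp_c L143913) (flp_d L150992) (flp_c L158319) (flp_d L184744) (flp_a L184742) L184750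
theorem L190329 : sm gf N20681 = N24428 := ded_11_0 L190325 (flp_f L158621) L162344
theorem L190331 : sm gb N24428 = N22170 := ded_16_1 (flp_f L173347) (flp_b L183637) L189299 (flp_b L189301) L190329
theorem L190333 : sm ge N20084 = N24429 := rfl
theorem L190335 : sm ga N24429 = N20087 := ded_10_1 (flp_e L158623) (flp_a L158603) L190333
theorem L190337 : sm gd N24429 = N23683 := ded_22_1 (flp_e L184525) (flp_d L153720) L153722 L158601 L190333
theorem L190339 : sm gf N20084 = N24430 := rfl
theorem L190341 : sm ga N24430 = N20088 := ded_11_1 (flp_f L158629) (flp_a L158603) L190339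
theorem L190343 : sm gc N24430 = N20681 := ded_20_1 L190329 (flp_c L190323) L190339
theorem L190345 : sm gd N24430 = N20085 := ded_23_1 (flp_f L158605) L158601 L190339
theorem L190347 : sm gg N22582 = N24430 := ded_29_1 (flp_f L190339) (flp_g L189167) L189165 (flp_f L176322)
theorem L190349 : sm gb N22579 = N24430 := ded_14_3 L190345 (flp_b L158615) (flp_d L176298)
theorem L190351 : sm gd N20086 = N24431 := rfl
theorem L190353 : sm ga N24431 = N23709 := ded_9_1 L190327 L190325 L190351
theorem L190355 : sm gb N24431 = N20675 := ded_14_1 L162325 (flp_b L158619) L190351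
theorem L190357 : sm gf N24431 = N20676 := ded_23_2 L162331 L158621 L190351
theorem L190359 : sm gc N23708 = N24431 := ded_28_0 (flp_d L190351) (flp_c L158617) (flp_d L109749) (flp_c L103604) (flp_d L105686) (flp_c L150996) (flp_d L153247) L184742
theorem L190361 : sm gg N23000 = N24431 := ded_12_0 L190353 L184752 (flp_a L183421)
theorem L190363 : sm ge N20086 = N24432 := rfl
theorem L190365 : sm gb N24432 = N20389 := ded_15_1 L160648 (flp_b L158619) L190363
theorem L190367 : sm gc N24432 = N20087 := ded_19_1 (flp_e L158623) L158617 L190363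
theorem L190369 : sm gf N24432 = N20390 := ded_25_2 L160652 L158621 L190363
theorem L190371 : sm gg N20086 = N24433 := rfl
theorem L190373 : sm gc N24433 = N20089 := ded_21_1 (flp_g L158636) L158617 L190371
theorem L190375 : sm gd N24433 = N23000 := ded_24_1 L190361 (flp_d L190351) L190371
theorem L190377 : sm gb N24433 = N22999 := ded_17_1 L179711 L146088 (flp_g L112416) (flp_b L158619) L190371
theorem L190379 : sm gf N20087 = N24434 := rfl
theorem L190381 : sm gc N24434 = N20390 := ded_20_1 (flp_f L190369) L190367 L190379
theorem L190383 : sm gd N24434 = N22794 := ded_23_1 L178044 (flp_d L158627) L190379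
theorem L190385 : sm ge N24434 = N20088 := ded_25_1 (flp_f L158629) L158623 L190379
theorem L190387 : sm gb N24434 = N24434 := ded_16_1 (flp_f L190379) L158625 L109768 (flp_b L158625) L190379
theorem L190388 : sm gg N20087 = N24435 := rfl
theorem L190390 : sm gd N24435 = N23685 := ded_24_1 (flp_g L184541) (flp_d L158627) L190388
theorem L190392 : sm ge N24435 = N20089 := ded_26_1 (flp_g L158636) L158623 L190388
theorem L190394 : sm gg N20088 = N24436 := rfl
theorem L190396 : sm ga N24436 = N22582 := ded_12_1 L190347 L190341 L190394
theorem L190398 : sm gc N24436 = N20682 := ded_21_1 (flp_g L162346) (flp_c L158631) L190394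
theorem L190400 : sm gd N24436 = N20090 := ded_24_1 (flp_g L158640) (flp_d L158633) L190394
theorem L190402 : sm gf N24276 = N24436 := ded_29_0 (flp_g L190394) (flp_f L158629) L158636 (flp_a L189165)
theorem L190404 : sm gb N23854 = N24436 := ded_7_0 L190396 (flp_b L176318) L124321 (flp_b L125544) L163639 (flp_b L161637) L155429 (flp_b L154872) (flp_a L186031)
theorem L190406 : sm gb N20090 = N24437 := rfl
theorem L190408 : sm gd N24437 = N23854 := ded_14_2 L190404 L190400 L190406
theorem L190410 : sm ge N24437 = N22697 := ded_15_2 (flp_b L177311) (flp_e L158646) L190406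
theorem L190412 : sm gg N24437 = N24437 := ded_17_2 (flp_b L190406) (flp_g L158640) L109759 L158640 L190406
theorem L190413 : sm ga N24437 = N23856 := ded_7_1 L186044 L176997 (flp_b L176991) L125532 L99907 (flp_a L99095) L124345 (flp_a L158642) L190406
theorem L190415 : sm ge N20091 = N24438 := rfl
theorem L190417 : sm ga N24438 = N20095 := ded_10_1 (flp_e L158684) (flp_a L158652) L190415
theorem L190419 : sm gb N24438 = N23095 := ded_15_1 L180497 (flp_b L158656) L190415
theorem L190421 : sm gc N24438 = N20092 := ded_19_1 (flp_e L158660) L158650 L190415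
theorem L190423 : sm gg N24438 = N20537 := ded_26_2 (flp_e L161513) (flp_g L158654) L190415
theorem L190425 : sm gf N20092 = N24439 := rfl
theorem L190427 : sm ga N24439 = N20097 := ded_11_1 (flp_f L158696) (flp_a L158662) L190425
theorem L190429 : sm gd N24439 = N23098 := ded_23_1 (flp_f L180513) (flp_d L158668) L190425
theorem L190431 : sm ge N24439 = N20093 := ded_25_1 (flp_f L158670) L158660 L190425
theorem L190433 : sm gd N20095 = N24440 := rfl
theorem L190435 : sm gb N24440 = N22510 := ded_14_1 (flp_d L175795) (flp_b L158686) L190433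
theorem L190437 : sm gg N24440 = N22926 := ded_24_2 (flp_d L179173) (flp_g L158690) L190433
theorem L190439 : sm gf N20095 = N24441 := rfl
theorem L190441 : sm gc N24441 = N20097 := ded_20_1 (flp_f L158696) (flp_c L158688) L190439
theorem L190443 : sm ge N24441 = N20096 := ded_25_1 (flp_f L158692) L158684 L190439
theorem L190445 : sm gb N20096 = N24442 := rfl
theorem L190447 : sm gd N24442 = N22355 := ded_14_2 L174675 L161535 L190445
theorem L190449 : sm gc N24442 = N22380 := ded_13_2 L174874 L123315 (flp_b L109802) (flp_c L158694) L190445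
theorem L190451 : sm gf N24442 = N22351 := ded_16_2 (flp_b L174647) L122985 (flp_b L109792) L158692 L190445
theorem L190453 : sm gf N20098 = N24443 := rfl
theorem L190455 : sm ga N24443 = N22832 := ded_11_1 (flp_f L178413) (flp_a L158706) L190453
theorem L190457 : sm gc N24443 = N22927 := ded_20_1 (flp_f L179177) (flp_c L158708) L190453
theorem L190459 : sm gd N24443 = N23071 := ded_23_1 (flp_f L180311) (flp_d L158710) L190453
theorem L190461 : sm ge N24443 = N20099 := ded_25_1 (flp_f L158716) (flp_e L158712) L190453
theorem L190463 : sm gg N24443 = N24439 := ded_29_3 L190427 (flp_f L158696) L158704 L190453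
theorem L190465 : sm ga N20100 = N24444 := rfl
theorem L190467 : sm gc N20100 = N24445 := rfl
theorem L190469 : sm ge N24445 = N24274 := ded_19_2 L189155 L185333 L190467
theorem L190471 : sm gb N24445 = N22321 := ded_13_1 (flp_c L174386) L157507 L144051 L158726 L190467
theorem L190473 : sm gd N22320 = N24445 := ded_14_0 L190471 (flp_d L174380) L174376
theorem L190475 : sm gf N24231 = N24445 := ded_16_0 L190471 L188979 L188981 L188801 (flp_b L188831)
theorem L190477 : sm gg N24426 = N24445 := ded_17_0 L190471 L174384 (flp_b L176272) (flp_g L176316) (flp_b L190317)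
theorem L190479 : sm gg N24231 = N24423 := ded_29_3 (flp_a L190299) L190315 L190477 (flp_f L190475)
theorem L190481 : sm ga N24427 = N24231 := ded_29_4 L190475 (flp_g L190477) (flp_f L190315) L190319
theorem L190483 : sm gd N24423 = N24232 := ded_24_1 (flp_g L188833) L188829 L190479
theorem L190485 : sm gd N24230 = N24427 := ded_9_0 L190481 (flp_d L188829) L188827
theorem L190487 : sm ga N24232 = N24425 := ded_9_1 (flp_d L190311) L190299 L190483
theorem L190489 : sm gg N24425 = N24230 := ded_24_0 L190485 (flp_g L190319) L190311
theorem L190491 : sm gd N20100 = N24446 := rfl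
theorem L190493 : sm gb N24446 = N20101 := ded_14_1 (flp_d L158728) L158726 L190491
theorem L190495 : sm gf N20100 = N24447 := rfl
theorem L190497 : sm gc N24447 = N24231 := ded_20_1 L190475 (flp_c L190467) L190495
theorem L190499 : sm ga N24210 = N24447 := ded_8_3 L190497 (flp_a L190481) L190321
theorem L190501 : sm gd N24447 = N24209 := ded_9_2 (flp_a L188689) L188691 L190499
theorem L190503 : sm gf N24444 = N24210 := ded_11_0 L190499 (flp_f L190495) L190465
theorem L190505 : sm gf N24209 = N24446 := ded_23_2 (flp_d L190491) L190495 L190501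
theorem L190507 : sm gd N24211 = N24444 := ded_23_3 L190503 (flp_d L188691) L188695
theorem L190509 : sm ga N24446 = N24211 := ded_11_1 (flp_f L188695) L188689 L190505
theorem L190511 : sm gg N20100 = N24448 := rfl
theorem L190513 : sm gc N24448 = N24426 := ded_21_1 L190477 (flp_c L190467) L190511
theorem L190515 : sm gf N24448 = N24424 := ded_29_2 (flp_g L190309) L190499 (flp_f L190495) L190511
theorem L190517 : sm gb N24448 = N22626 := ded_17_1 (flp_g L176721) L158742 (flp_g L158732) L158726 L190511
theorem L190519 : sm gc N20101 = N24449 := rfl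
theorem L190521 : sm ga N24449 = N20103 := ded_8_1 (flp_c L158744) (flp_a L158730) L190519
theorem L190523 : sm gd N23657 = N24449 := ded_28_1 (flp_c L190519) (flp_d L158728) (flp_c L144051) L144053 (flp_c L158013) (flp_d L184368) (flp_a L184366) L184374
theorem L190525 : sm gb N24449 = N22377 := ded_30_2 L174862 (flp_f L174024) (flp_c L172879) (flp_b L172877) L121919 (flp_f L97718) (flp_c L85457) (flp_b L26785) L12862 L12878 (flp_c L26805) L85509 L97811 (flp_f L122108) L173164 (flp_b L173172) (flp_a L189043) L189045 L190519
theorem L190527 : sm gg N20732 = N24449 := ded_12_0 L190521 (flp_g L158748) L162653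
theorem L190529 : sm ge N20101 = N24450 := rfl
theorem L190531 : sm ga N24450 = N20104 := ded_10_1 (flp_e L158750) (flp_a L158730) L190529
theorem L190533 : sm gd N24450 = N23735 := ded_22_1 (flp_e L184925) (flp_d L153992) L153994 L158728 L190529
theorem L190535 : sm gg N20101 = N24451 := rfl
theorem L190537 : sm ga N24451 = N20106 := ded_12_1 (flp_g L158760) (flp_a L158730) L190535
theorem L190539 : sm gc N24451 = N20732 := ded_21_1 L190527 (flp_c L190519) L190535
theorem L190541 : sm gd N24451 = N20102 := ded_24_1 (flp_g L158732) L158728 L190535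
theorem L190543 : sm gf N24451 = N22628 := ded_29_2 L176743 (flp_a L189043) L189045 L190535
theorem L190545 : sm gb N22625 = N24451 := ded_14_3 L190541 (flp_b L158742) (flp_d L176719)
theorem L190547 : sm gd N20103 = N24452 := rfl
theorem L190549 : sm ga N24452 = N23657 := ded_9_1 L190523 L190521 L190547
theorem L190551 : sm gb N24452 = N20728 := ded_14_1 L162639 (flp_b L158746) L190547
theorem L190553 : sm gg N24452 = N20729 := ded_24_2 L162645 L158748 L190547
theorem L190555 : sm gc N23656 = N24452 := ded_28_0 (flp_d L190547) (flp_c L158744) (flp_d L109880) (flp_c L103702) (flp_d L105499) (flp_c L120559) (flp_d L152832) L184366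
theorem L190557 : sm gf N23025 = N24452 := ded_11_0 L190549 L184376 (flp_a L183909)
theorem L190559 : sm ge N20103 = N24453 := rfl
theorem L190561 : sm gb N24453 = N20423 := ded_15_1 L160840 (flp_b L158746) L190559
theorem L190563 : sm gc N24453 = N20104 := ded_19_1 (flp_e L158750) L158744 L190559
theorem L190565 : sm gg N24453 = N20424 := ded_26_2 L160844 L158748 L190559
theorem L190567 : sm gf N20103 = N24454 := rfl
theorem L190569 : sm gc N24454 = N20105 := ded_20_1 (flp_f L158756) L158744 L190567
theorem L190571 : sm gd N24454 = N23025 := ded_23_1 L190557 (flp_d L190547) L190567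
theorem L190573 : sm gb N24454 = N23024 := ded_16_1 L179927 L151550 L112660 (flp_b L158746) L190567
theorem L190575 : sm gf N20104 = N24455 := rfl
theorem L190577 : sm gd N24455 = N23737 := ded_23_1 (flp_f L184941) (flp_d L158754) L190575
theorem L190579 : sm ge N24455 = N20105 := ded_25_1 (flp_f L158756) L158750 L190575
theorem L190581 : sm gg N20104 = N24456 := rfl
theorem L190583 : sm gc N24456 = N20424 := ded_21_1 (flp_g L190565) L190563 L190581
theorem L190585 : sm gd N24456 = N22800 := ded_24_1 L178084 (flp_d L158754) L190581
theorem L190587 : sm ge N24456 = N20106 := ded_26_1 (flp_g L158760) L158750 L190581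
theorem L190589 : sm gb N24456 = N24456 := ded_17_1 (flp_g L190581) L158752 L109899 (flp_b L158752) L190581
theorem L190590 : sm gf N20106 = N24457 := rfl
theorem L190592 : sm ga N24457 = N22628 := ded_11_1 (flp_f L190543) L190537 L190590
theorem L190594 : sm gc N24457 = N20733 := ded_20_1 (flp_f L162655) (flp_c L158762) L190590
theorem L190596 : sm gd N24457 = N20107 := ded_23_1 (flp_f L158767) (flp_d L158764) L190590
theorem L190598 : sm gg N24457 = N24257 := ded_29_3 L189043 (flp_f L158756) L158760 L190590
theorem L190600 : sm gb N23858 = N24457 := ded_7_0 L190592 (flp_b L176739) L124700 (flp_b L126356) L163505 (flp_b L161386) L155474 (flp_b L154888) (flp_a L186055)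
theorem L190602 : sm gb N20107 = N24458 := rfl
theorem L190604 : sm gd N24458 = N23858 := ded_14_2 L190600 L190596 L190602
theorem L190606 : sm ge N24458 = N22731 := ded_15_2 (flp_b L177574) (flp_e L158773) L190602
theorem L190608 : sm gf N24458 = N24458 := ded_16_2 (flp_b L190602) (flp_f L158767) L109892 L158767 L190602
theorem L190609 : sm ga N24458 = N23860 := ded_7_1 L186070 L177334 (flp_b L177328) L126344 L100331 (flp_a L99315) L124736 (flp_a L158769) L190602
theorem L190611 : sm gd N20108 = N24459 := rfl
theorem L190613 : sm gf N24459 = N21072 := ded_23_2 (flp_d L166142) (flp_f L158781) L190611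
theorem L190615 : sm gc N24459 = N21072 := ded_28_6 (flp_d L166142) (flp_a L166136) (flp_c L166134) (flp_d L144285) L144289 L128765 L158777 L190611
theorem L190617 : sm gg N20108 = N24460 := rfl
theorem L190619 : sm ga N24460 = N21671 := ded_12_1 L169978 L168710 L190617
theorem L190621 : sm gc N24460 = N20109 := ded_21_1 (flp_g L158783) L158777 L190617
theorem L190623 : sm ge N24460 = N20478 := ded_26_1 (flp_g L161172) (flp_e L158779) L190617
theorem L190625 : sm gd N20110 = N24461 := rfl
theorem L190627 : sm gg N24461 = N21075 := ded_24_2 (flp_d L166158) (flp_g L158795) L190625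
theorem L190629 : sm gc N24461 = N21075 := ded_28_6 (flp_d L166158) (flp_a L166152) (flp_c L166150) (flp_d L144311) L144315 L128773 L158791 L190625
theorem L190631 : sm gf N20110 = N24462 := rfl
theorem L190633 : sm ga N24462 = N21511 := ded_11_1 (flp_f L169723) L169719 L190631
theorem L190635 : sm gc N24462 = N20111 := ded_20_1 (flp_f L158797) L158791 L190631
theorem L190637 : sm ge N24462 = N20480 := ded_25_1 (flp_f L161186) (flp_e L158793) L190631
theorem L190639 : sm gd N20112 = N24463 := rfl
theorem L190641 : sm gf N24463 = N20138 := ded_23_2 (flp_d L158989) (flp_f L158809) L190639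
theorem L190643 : sm gc N24463 = N20138 := ded_28_6 (flp_d L158989) (flp_a L158975) (flp_c L158973) L110154 (flp_c L92507) (flp_d L110063) L158805 L190639
theorem L190645 : sm gg N20112 = N24464 := rfl
theorem L190647 : sm gc N24464 = N20113 := ded_21_1 (flp_g L158811) L158805 L190645
theorem L190649 : sm ge N24464 = N21094 := ded_26_1 (flp_g L166316) (flp_e L158807) L190645
theorem L190651 : sm gb N20113 = N24465 := rfl
theorem L190653 : sm gd N24465 = N20118 := ded_14_2 (flp_b L158841) (flp_d L158813) L190651
theorem L190655 : sm ge N24465 = N21095 := ded_15_2 (flp_b L166320) (flp_e L158815) L190651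
theorem L190657 : sm gf N24465 = N21367 := ded_16_2 L168104 L168184 L168196 L158987 L190651
theorem L190659 : sm gg N24465 = N20114 := ded_17_2 (flp_b L158817) (flp_g L110069) L110061 L158811 L190651
theorem L190661 : sm ga N24465 = N21235 := ded_7_1 (flp_b L167274) (flp_a L115934) (flp_b L95604) (flp_a L84644) L95985 L116779 L159007 L158999 L190651
theorem L190663 : sm gc N20114 = N24466 := rfl
theorem L190665 : sm ge N24466 = N21097 := ded_19_2 (flp_c L166332) (flp_e L158821) L190663
theorem L190667 : sm gb N24466 = N22764 := ded_13_1 (flp_c L177819) (flp_b L128837) (flp_c L110071) L158817 L190663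
theorem L190669 : sm gd N20115 = N24467 := rfl
theorem L190671 : sm gg N24467 = N20144 := ded_24_2 (flp_d L159033) (flp_g L158827) L190669
theorem L190673 : sm gc N24467 = N20144 := ded_28_6 (flp_d L159033) (flp_a L159019) (flp_c L159017) L110170 (flp_c L150289) (flp_d L110081) L158823 L190669
theorem L190675 : sm gf N20115 = N24468 := rfl
theorem L190677 : sm gc N24468 = N20116 := ded_20_1 (flp_f L158829) L158823 L190675
theorem L190679 : sm ge N24468 = N21102 := ded_25_1 (flp_f L166366) (flp_e L158825) L190675
theorem L190681 : sm gb N20116 = N24469 := rfl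
theorem L190683 : sm gd N24469 = N20120 := ded_14_2 (flp_b L158855) (flp_d L158831) L190681
theorem L190685 : sm ge N24469 = N21103 := ded_15_2 (flp_b L166370) (flp_e L158833) L190681
theorem L190687 : sm gf N24469 = N20117 := ded_16_2 (flp_b L158835) (flp_f L110087) L110079 L158829 L190681
theorem L190689 : sm gg N24469 = N21435 := ded_17_2 L168480 L168576 (flp_b L168588) (flp_g L159031) L190681
theorem L190691 : sm ga N24469 = N21211 := ded_7_1 (flp_b L167136) (flp_a L115852) (flp_b L95568) (flp_a L84592) L95878 L116573 L159051 L159043 L190681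
theorem L190693 : sm gc N20117 = N24470 := rfl
theorem L190695 : sm ge N24470 = N21105 := ded_19_2 (flp_c L166382) (flp_e L158839) L190693
theorem L190697 : sm gb N24470 = N22760 := ded_13_1 (flp_c L177793) (flp_b L128805) (flp_c L110091) L158835 L190693
theorem L190699 : sm gd N20119 = N24471 := rfl
theorem L190701 : sm gd N20121 = N24472 := rfl
theorem L190703 : sm gc N20125 = N24473 := rfl
theorem L190705 : sm ge N24473 = N21128 := ded_19_2 (flp_c L166544) (flp_e L158898) L190703
theorem L190707 : sm gf N24473 = N20130 := ded_20_2 (flp_c L158931) (flp_f L158900) L190703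
theorem L190709 : sm gb N24473 = N24297 := ded_13_1 (flp_c L189323) L157869 L128697 L158895 L190703
theorem L190711 : sm gb N20126 = N24474 := rfl
theorem L190713 : sm gd N24474 = N24474 := ded_14_2 (flp_b L190711) L158904 L190711
theorem L190714 : sm ge N24474 = N21129 := ded_15_2 (flp_b L166548) (flp_e L158905) L190711
theorem L190716 : sm gf N24474 = N24474 := ded_16_2 (flp_b L190711) (flp_f L158907) L158894 L158907 L190711
theorem L190717 : sm gc N20127 = N24475 := rfl
theorem L190719 : sm ge N24475 = N21130 := ded_19_2 (flp_c L166551) (flp_e L158912) L190717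
theorem L190721 : sm gg N24475 = N20133 := ded_21_2 (flp_c L158950) (flp_g L158914) L190717
theorem L190723 : sm gb N24475 = N24354 := ded_13_1 (flp_c L189755) L158167 L128705 L158909 L190717
theorem L190725 : sm gb N20128 = N24476 := rfl
theorem L190727 : sm gd N24476 = N24476 := ded_14_2 (flp_b L190725) L158920 L190725
theorem L190728 : sm ge N24476 = N21131 := ded_15_2 (flp_b L166555) (flp_e L158921) L190725
theorem L190730 : sm gg N24476 = N24476 := ded_17_2 (flp_b L190725) L158923 L158886 (flp_g L158923) L190725
theorem L190731 : sm gc N20129 = N24477 := rfl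
theorem L190733 : sm ga N24477 = N20130 := ded_8_1 (flp_c L158931) L158925 L190731
theorem L190735 : sm ge N24477 = N21138 := ded_19_2 (flp_c L166638) (flp_e L158928) L190731
theorem L190737 : sm gg N20129 = N24478 := rfl
theorem L190739 : sm ga N24478 = N20131 := ded_12_1 (flp_g L158937) L158925 L190737
theorem L190741 : sm gd N24478 = N24478 := ded_24_1 (flp_g L190737) L158927 L190737
theorem L190742 : sm ge N24478 = N21139 := ded_26_1 (flp_g L166642) (flp_e L158928) L190737
theorem L190744 : sm gf N20154 = N24478 := ded_29_0 (flp_g L190737) L159112 L159108 L159114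
theorem L190746 : sm gd N20130 = N24479 := rfl
theorem L190748 : sm gb N24479 = N20138 := ded_14_1 (flp_d L158989) (flp_b L158935) L190746
theorem L190750 : sm gg N20130 = N24480 := rfl
theorem L190752 : sm gc N24480 = N20131 := ded_21_1 (flp_g L158937) L158931 L190750
theorem L190754 : sm ge N24480 = N21141 := ded_26_1 (flp_g L166652) (flp_e L158933) L190750
theorem L190756 : sm gf N20155 = N24480 := ded_20_0 L190752 (flp_f L158942) L159121
theorem L190758 : sm gc N20132 = N24481 := rfl
theorem L190760 : sm ga N24481 = N20133 := ded_8_1 (flp_c L158950) L158944 L190758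
theorem L190762 : sm ge N24481 = N21142 := ded_19_2 (flp_c L166658) (flp_e L158947) L190758
theorem L190764 : sm gf N20132 = N24482 := rfl
theorem L190766 : sm ga N24482 = N20134 := ded_11_1 (flp_f L158956) L158944 L190764
theorem L190768 : sm gd N24482 = N24482 := ded_23_1 (flp_f L190764) L158946 L190764
theorem L190769 : sm ge N24482 = N21143 := ded_25_1 (flp_f L166662) (flp_e L158947) L190764
theorem L190771 : sm gg N24482 = N20159 := ded_29_3 (flp_a L159152) (flp_f L159146) (flp_g L159150) L190764
theorem L190773 : sm gd N20133 = N24483 := rfl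
theorem L190775 : sm gb N24483 = N20144 := ded_14_1 (flp_d L159033) (flp_b L158954) L190773
theorem L190777 : sm gf N20133 = N24484 := rfl
theorem L190779 : sm gc N24484 = N20134 := ded_20_1 (flp_f L158956) L158950 L190777
theorem L190781 : sm ge N24484 = N21145 := ded_25_1 (flp_f L166672) (flp_e L158952) L190777
theorem L190783 : sm gg N20160 = N24484 := ded_21_0 L190779 (flp_g L158963) L159159
theorem L190785 : sm gd N20136 = N24485 := rfl
theorem L190787 : sm ga N24485 = N20138 := ded_9_1 (flp_d L158989) (flp_a L158975) L190785
theorem L190789 : sm gg N20136 = N24486 := rfl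
theorem L190791 : sm ga N24486 = N20139 := ded_12_1 (flp_g L158991) (flp_a L158975) L190789
theorem L190793 : sm gc N24486 = N20137 := ded_21_1 (flp_g L158979) L158973 L190789
theorem L190795 : sm ge N24486 = N21149 := ded_26_1 (flp_g L166704) (flp_e L158977) L190789
theorem L190797 : sm gf N24486 = N24464 := ded_29_2 (flp_g L190645) (flp_a L159067) L159069 L190789
theorem L190799 : sm ge N20138 = N24487 := rfl
theorem L190801 : sm gd N24487 = N21152 := ded_22_1 (flp_e L166724) (flp_d L115531) (flp_e L110160) L158989 L190799
theorem L190803 : sm gg N20138 = N24488 := rfl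
theorem L190805 : sm gd N24488 = N20139 := ded_24_1 (flp_g L158991) L158989 L190803
theorem L190807 : sm gb N20139 = N24489 := rfl
theorem L190809 : sm ge N24489 = N21154 := ded_15_2 (flp_b L166730) (flp_e L158995) L190807
theorem L190811 : sm gf N20139 = N24490 := rfl
theorem L190813 : sm ga N24490 = N24464 := ded_11_1 (flp_f L190797) L190791 L190811
theorem L190815 : sm gc N24490 = N20140 := ded_20_1 (flp_f L158997) (flp_c L158993) L190811
theorem L190817 : sm ge N24490 = N21155 := ded_25_1 (flp_f L166732) (flp_e L158995) L190811
theorem L190819 : sm gg N24490 = N20148 := ded_29_3 L159067 L158809 L158991 L190811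
theorem L190821 : sm gd N20142 = N24491 := rfl
theorem L190823 : sm ga N24491 = N20144 := ded_9_1 (flp_d L159033) (flp_a L159019) L190821
theorem L190825 : sm gf N20142 = N24492 := rfl
theorem L190827 : sm ga N24492 = N20145 := ded_11_1 (flp_f L159035) (flp_a L159019) L190825
theorem L190829 : sm gc N24492 = N20143 := ded_20_1 (flp_f L159023) L159017 L190825
theorem L190831 : sm ge N24492 = N21159 := ded_25_1 (flp_f L166766) (flp_e L159021) L190825
theorem L190833 : sm gg N24468 = N24492 := ded_29_1 (flp_f L190825) (flp_g L159087) L159085 L190675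
theorem L190835 : sm ge N20144 = N24493 := rfl
theorem L190837 : sm gd N24493 = N21162 := ded_22_1 (flp_e L166786) (flp_d L115561) (flp_e L110176) L159033 L190835
theorem L190839 : sm gf N20144 = N24494 := rfl
theorem L190841 : sm gd N24494 = N20145 := ded_23_1 (flp_f L159035) L159033 L190839
theorem L190843 : sm gb N20145 = N24495 := rfl
theorem L190845 : sm ge N24495 = N21164 := ded_15_2 (flp_b L166792) (flp_e L159039) L190843
theorem L190847 : sm gg N20145 = N24496 := rfl
theorem L190849 : sm ga N24496 = N24468 := ded_12_1 L190833 L190827 L190847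
theorem L190851 : sm gc N24496 = N20146 := ded_21_1 (flp_g L159041) (flp_c L159037) L190847
theorem L190853 : sm ge N24496 = N21165 := ded_26_1 (flp_g L166794) (flp_e L159039) L190847
theorem L190855 : sm gf N20150 = N24496 := ded_29_0 (flp_g L190847) (flp_f L159035) (flp_g L158827) (flp_a L159085)
theorem L190857 : sm gb N20148 = N24497 := rfl
theorem L190859 : sm gd N20148 = N24498 := rfl
theorem L190861 : sm ga N24498 = N24463 := ded_9_1 (flp_d L190639) (flp_a L159067) L190859
theorem L190863 : sm gf N24498 = N24485 := ded_23_2 (flp_d L190785) (flp_f L159069) L190859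
theorem L190865 : sm gc N24485 = N24498 := ded_28_0 (flp_d L190859) (flp_c L159065) (flp_d L110202) (flp_c L92509) (flp_d L92493) L110158 L158989 (flp_a L190787)
theorem L190867 : sm gb N20150 = N24499 := rfl
theorem L190869 : sm gd N20150 = N24500 := rfl
theorem L190871 : sm ga N24500 = N24467 := ded_9_1 (flp_d L190669) (flp_a L159085) L190869
theorem L190873 : sm gg N24500 = N24491 := ded_24_2 (flp_d L190821) (flp_g L159087) L190869
theorem L190875 : sm gc N24491 = N24500 := ded_28_0 (flp_d L190869) (flp_c L159083) (flp_d L110238) (flp_c L92525) (flp_d L92499) L110174 L159033 (flp_a L190823)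
theorem L190877 : sm gc N20153 = N24501 := rfl
theorem L190879 : sm ga N24501 = N24473 := ded_8_1 (flp_c L190703) L159110 L190877
theorem L190881 : sm ge N24501 = N21193 := ded_19_2 (flp_c L166994) (flp_e L159106) L190877
theorem L190883 : sm gf N24501 = N24477 := ded_20_2 (flp_c L190731) L159112 L190877
theorem L190885 : sm gg N24501 = N20155 := ded_21_2 (flp_c L159121) (flp_g L159108) L190877
theorem L190887 : sm gb N24501 = N20166 := ded_13_1 (flp_c L159203) (flp_b L159092) L159210 L159103 L190877
theorem L190889 : sm gb N20154 = N24502 := rfl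
theorem L190891 : sm gd N24502 = N24502 := ded_14_2 (flp_b L190889) L159116 L190889
theorem L190892 : sm ge N24502 = N21194 := ded_15_2 (flp_b L167002) (flp_e L159117) L190889
theorem L190894 : sm gg N24502 = N24474 := ded_17_2 (flp_b L190711) (flp_g L158902) L158895 (flp_g L159119) L190889
theorem L190896 : sm gc N20154 = N24503 := rfl
theorem L190898 : sm ga N24503 = N20155 := ded_8_1 (flp_c L159121) L159114 L190896
theorem L190900 : sm ge N24503 = N21195 := ded_19_2 (flp_c L167006) (flp_e L159117) L190896
theorem L190902 : sm gg N24503 = N24473 := ded_21_2 (flp_c L190703) (flp_g L159119) L190896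
theorem L190904 : sm gd N20155 = N24504 := rfl
theorem L190906 : sm gb N24504 = N20175 := ded_14_1 (flp_d L159283) (flp_b L159125) L190904
theorem L190908 : sm gc N20158 = N24505 := rfl
theorem L190910 : sm ga N24505 = N24475 := ded_8_1 (flp_c L190717) L159148 L190908
theorem L190912 : sm ge N24505 = N21198 := ded_19_2 (flp_c L167048) (flp_e L159144) L190908
theorem L190914 : sm gf N24505 = N20160 := ded_20_2 (flp_c L159159) (flp_f L159146) L190908
theorem L190916 : sm gg N24505 = N24481 := ded_21_2 (flp_c L190758) L159150 L190908
theorem L190918 : sm gb N24505 = N20183 := ded_13_1 (flp_c L159339) (flp_b L159130) L167033 L159141 L190908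
theorem L190920 : sm gb N20159 = N24506 := rfl
theorem L190922 : sm gd N24506 = N24506 := ded_14_2 (flp_b L190920) L159154 L190920
theorem L190923 : sm ge N24506 = N21199 := ded_15_2 (flp_b L167056) (flp_e L159155) L190920
theorem L190925 : sm gf N24506 = N24476 := ded_16_2 (flp_b L190725) (flp_f L158916) L158909 (flp_f L159157) L190920
theorem L190927 : sm gc N20159 = N24507 := rfl
theorem L190929 : sm ga N24507 = N20160 := ded_8_1 (flp_c L159159) L159152 L190927
theorem L190931 : sm ge N24507 = N21200 := ded_19_2 (flp_c L167060) (flp_e L159155) L190927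
theorem L190933 : sm gf N24507 = N24475 := ded_20_2 (flp_c L190717) (flp_f L159157) L190927
theorem L190935 : sm gd N20160 = N24508 := rfl
theorem L190937 : sm gb N24508 = N20193 := ded_14_1 (flp_d L159405) (flp_b L159163) L190935
theorem L190939 : sm gd N20161 = N24509 := rfl
theorem L190941 : sm ge N24509 = N24049 := ded_22_2 (flp_d L187627) (flp_e L156382) L115814 (flp_e L159167) L190939
theorem L190943 : sm gf N20161 = N24510 := rfl
theorem L190945 : sm gc N24510 = N20162 := ded_20_1 (flp_f L159169) L159165 L190943
theorem L190947 : sm ge N24510 = N21202 := ded_25_1 (flp_f L167070) (flp_e L159167) L190943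
theorem L190949 : sm gg N20161 = N24511 := rfl
theorem L190951 : sm gc N24511 = N20163 := ded_21_1 (flp_g L159177) L159165 L190949
theorem L190953 : sm ge N24511 = N21203 := ded_26_1 (flp_g L167076) (flp_e L159167) L190949
theorem L190955 : sm gg N20162 = N24512 := rfl
theorem L190957 : sm gd N24512 = N20201 := ded_24_1 (flp_g L159451) (flp_d L159171) L190955
theorem L190959 : sm ge N24512 = N21204 := ded_26_1 (flp_g L167082) (flp_e L159173) L190955
theorem L190961 : sm gf N21406 = N24512 := ded_29_0 (flp_g L190955) (flp_f L159169) L159177 (flp_a L168310)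
theorem L190963 : sm gb N24512 = N21229 := ded_17_1 L167232 L159833 (flp_g L159823) (flp_b L159175) L190955
theorem L190965 : sm gf N20163 = N24513 := rfl
theorem L190967 : sm ga N24513 = N24512 := ded_11_1 (flp_f L190961) L168310 L190965
theorem L190969 : sm gd N24513 = N20202 := ded_23_1 (flp_f L159459) (flp_d L159179) L190965
theorem L190971 : sm ge N24513 = N21205 := ded_25_1 (flp_f L167088) (flp_e L159181) L190965
theorem L190973 : sm gg N24513 = N21091 := ded_29_3 L166300 (flp_f L159169) L159177 L190965
theorem L190975 : sm gb N24513 = N21400 := ded_31_2 L168262 (flp_f L167342) (flp_b L167338) L115976 L115938 L115948 (flp_g L159885) (flp_f L159879) (flp_b L110629) (flp_g L92713) (flp_f L92571) L110299 L159177 L190965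
theorem L190977 : sm ge N20166 = N24514 := rfl
theorem L190979 : sm ga N24514 = N21333 := ded_10_1 L167880 L159513 L190977
theorem L190981 : sm gb N24514 = N21193 := ded_15_1 (flp_e L190881) L190887 L190977
theorem L190983 : sm gc N24514 = N20167 := ded_19_1 (flp_e L159217) L159203 L190977
theorem L190985 : sm gf N24514 = N20273 := ded_25_2 (flp_e L159892) (flp_f L159205) L190977
theorem L190987 : sm gd N23195 = N24514 := ded_28_7 L190979 (flp_c L167878) (flp_d L116471) (flp_c L103975) L103973 L104085 L144761 L181179
theorem L190989 : sm gg N21209 = N24514 := ded_17_0 L190981 L167000 L115770 (flp_g L115860) (flp_b L167126)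
theorem L190991 : sm gg N20166 = N24515 := rfl
theorem L190993 : sm gc N24515 = N20168 := ded_21_1 (flp_g L159229) L159203 L190991
theorem L190995 : sm gd N24515 = N20321 := ded_24_1 L160226 (flp_d L159499) L190991
theorem L190997 : sm ge N24515 = N21209 := ded_26_1 L190989 (flp_e L190977) L190991
theorem L190999 : sm gf N20317 = N24515 := ded_29_0 (flp_g L190991) L159205 L159896 (flp_a L160204)
theorem L191001 : sm gb N24515 = N20170 := ded_17_1 L159249 (flp_b L159125) (flp_g L190885) L190887 L190991
theorem L191003 : sm gb N20169 = N24516 := rfl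
theorem L191005 : sm gd N24516 = N20218 := ded_14_2 (flp_b L159553) (flp_d L159239) L191003
theorem L191007 : sm ge N24516 = N21211 := ded_15_2 (flp_b L167136) (flp_e L159241) L191003
theorem L191009 : sm gf N24516 = N21104 := ded_16_2 (flp_b L168144) (flp_f L168158) L168160 (flp_f L159299) L191003
theorem L191011 : sm ga N24516 = N21103 := ded_7_1 (flp_b L166370) (flp_a L115569) L159938 (flp_a L159932) (flp_b L110661) L92734 L110323 L159237 L191003
theorem L191013 : sm gc N20169 = N24517 := rfl
theorem L191015 : sm ga N24517 = N20170 := ded_8_1 (flp_c L159245) L159237 L191013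
theorem L191017 : sm ge N24517 = N21212 := ded_19_2 (flp_c L167140) (flp_e L159241) L191013
theorem L191019 : sm gg N24517 = N20173 := ded_21_2 (flp_c L159265) (flp_g L159243) L191013
theorem L191021 : sm gd N20170 = N24518 := rfl
theorem L191023 : sm gb N24518 = N20321 := ded_14_1 (flp_d L190995) L191001 L191021
theorem L191025 : sm gg N24518 = N20175 := ded_24_2 (flp_d L159283) (flp_g L159249) L191021
theorem L191027 : sm gf N20170 = N24519 := rfl
theorem L191029 : sm gc N24519 = N20171 := ded_20_1 (flp_f L159251) L159245 L191027
theorem L191031 : sm ge N24519 = N21214 := ded_25_1 (flp_f L167150) (flp_e L159247) L191027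
theorem L191033 : sm gc N20172 = N24520 := rfl
theorem L191035 : sm ge N24520 = N21215 := ded_19_2 (flp_c L167154) (flp_e L159261) L191033
theorem L191037 : sm gf N24520 = N21417 := ded_20_2 L168366 L159263 L191033
theorem L191039 : sm gb N20173 = N24521 := rfl
theorem L191041 : sm ge N24521 = N21217 := ded_15_2 (flp_b L167166) (flp_e L159269) L191039
theorem L191043 : sm gd N20173 = N24522 := rfl
theorem L191045 : sm ga N24522 = N20175 := ded_9_1 (flp_d L159283) (flp_a L159267) L191043
theorem L191047 : sm gf N20173 = N24523 := rfl
theorem L191049 : sm ga N24523 = N20176 := ded_11_1 (flp_f L159285) (flp_a L159267) L191047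
theorem L191051 : sm gc N24523 = N20174 := ded_20_1 (flp_f L159271) L159265 L191047
theorem L191053 : sm ge N24523 = N21219 := ded_25_1 (flp_f L167172) (flp_e L159269) L191047
theorem L191055 : sm gg N24519 = N24523 := ded_29_1 (flp_f L191047) (flp_g L191019) L191015 L191027
theorem L191057 : sm gc N20175 = N24524 := rfl
theorem L191059 : sm ge N20175 = N24525 := rfl
theorem L191061 : sm gd N24525 = N21221 := ded_22_1 (flp_e L167182) (flp_d L115882) (flp_e L110339) L159283 L191059
theorem L191063 : sm gf N20175 = N24526 := rfl
theorem L191065 : sm gd N24526 = N20176 := ded_23_1 (flp_f L159285) L159283 L191063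
theorem L191067 : sm gb N20176 = N24527 := rfl
theorem L191069 : sm ge N24527 = N21223 := ded_15_2 (flp_b L167188) (flp_e L159289) L191067
theorem L191071 : sm gc N24527 = N24495 := ded_13_2 (flp_b L190843) L159037 (flp_b L110347) (flp_c L159287) L191067
theorem L191073 : sm gg N20176 = N24528 := rfl
theorem L191075 : sm ga N24528 = N24519 := ded_12_1 L191055 L191049 L191073
theorem L191077 : sm gc N24528 = N20177 := ded_21_1 (flp_g L159291) (flp_c L159287) L191073
theorem L191079 : sm ge N24528 = N21224 := ded_26_1 (flp_g L167192) (flp_e L159289) L191073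
theorem L191081 : sm gf N24517 = N24528 := ded_29_0 (flp_g L191073) (flp_f L159285) (flp_g L159249) (flp_a L191015)
theorem L191083 : sm gd N20178 = N24529 := rfl
theorem L191085 : sm ge N24529 = N24100 := ded_22_2 (flp_d L187973) (flp_e L156629) (flp_d L149206) (flp_e L159303) L191083
theorem L191087 : sm gf N20178 = N24530 := rfl
theorem L191089 : sm gc N24530 = N20179 := ded_20_1 (flp_f L159305) L159301 L191087
theorem L191091 : sm ge N24530 = N21226 := ded_25_1 (flp_f L167208) (flp_e L159303) L191087
theorem L191093 : sm gg N20178 = N24531 := rfl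
theorem L191095 : sm gc N24531 = N20180 := ded_21_1 (flp_g L159311) L159301 L191093
theorem L191097 : sm ge N24531 = N21227 := ded_26_1 (flp_g L167214) (flp_e L159303) L191093
theorem L191099 : sm gg N20179 = N24532 := rfl
theorem L191101 : sm gd N24532 = N20235 := ded_24_1 (flp_g L159651) (flp_d L159307) L191099
theorem L191103 : sm ge N24532 = N21228 := ded_26_1 (flp_g L167220) (flp_e L159309) L191099
theorem L191105 : sm gf N21099 = N24532 := ded_29_0 (flp_g L191099) (flp_f L159305) L159311 (flp_a L166350)
theorem L191107 : sm gb N21469 = N24532 := ded_31_14 (flp_g L191099) (flp_f L159305) (flp_b L110349) L92597 L92754 L110697 L160008 (flp_f L160014) (flp_b L115866) (flp_g L115856) L115894 L167200 L167204 (flp_f L168690)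
theorem L191109 : sm gf N20180 = N24533 := rfl
theorem L191111 : sm ga N24533 = N24532 := ded_11_1 (flp_f L191105) L166350 L191109
theorem L191113 : sm gd N24533 = N20236 := ded_23_1 (flp_f L159659) (flp_d L159313) L191109
theorem L191115 : sm ge N24533 = N21229 := ded_25_1 (flp_f L167226) (flp_e L159315) L191109
theorem L191117 : sm gg N24533 = N21328 := ded_29_3 (flp_a L167846) (flp_f L159305) L159311 L191109
theorem L191119 : sm gb N24533 = N21204 := ded_16_1 (flp_f L167086) (flp_b L159984) (flp_f L159972) (flp_b L159317) L191109
theorem L191121 : sm ge N20183 = N24534 := rfl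
theorem L191123 : sm ga N24534 = N21407 := ded_10_1 L168314 L159713 L191121
theorem L191125 : sm gb N24534 = N21198 := ded_15_1 (flp_e L190912) L190918 L191121
theorem L191127 : sm gc N24534 = N20184 := ded_19_1 (flp_e L159343) L159339 L191121
theorem L191129 : sm gg N24534 = N20293 := ded_26_2 (flp_e L160021) (flp_g L159341) L191121
theorem L191131 : sm gd N23271 = N24534 := ded_28_7 L191123 (flp_c L168312) (flp_d L116671) (flp_c L104025) L104023 L104206 L145028 L181701
theorem L191133 : sm gf N21233 = N24534 := ded_16_0 L191125 L167052 L115806 (flp_f L115942) (flp_b L167264)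
theorem L191135 : sm gf N20183 = N24535 := rfl
theorem L191137 : sm gc N24535 = N20185 := ded_20_1 (flp_f L159351) L159339 L191135
theorem L191139 : sm gd N24535 = N20355 := ded_23_1 (flp_f L160456) (flp_d L159699) L191135
theorem L191141 : sm ge N24535 = N21233 := ded_25_1 L191133 (flp_e L191121) L191135
theorem L191143 : sm gg N24535 = N20351 := ded_29_3 L160434 (flp_f L160025) (flp_g L159341) L191135
theorem L191145 : sm gb N24535 = N20188 := ded_16_1 L159371 (flp_b L159163) (flp_f L190914) L190918 L191135
theorem L191147 : sm gb N20187 = N24536 := rfl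
theorem L191149 : sm gd N24536 = N20252 := ded_14_2 (flp_b L159753) (flp_d L159361) L191147
theorem L191151 : sm ge N24536 = N21235 := ded_15_2 (flp_b L167274) (flp_e L159363) L191147
theorem L191153 : sm gg N24536 = N21096 := ded_17_2 (flp_b L168542) L168556 L168558 L159421 L191147
theorem L191155 : sm ga N24536 = N21095 := ded_7_1 (flp_b L166320) (flp_a L115539) L160068 (flp_a L160062) (flp_b L110729) L92775 L110373 L159359 L191147
theorem L191157 : sm gc N20187 = N24537 := rfl
theorem L191159 : sm ga N24537 = N20188 := ded_8_1 (flp_c L159367) L159359 L191157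
theorem L191161 : sm ge N24537 = N21236 := ded_19_2 (flp_c L167278) (flp_e L159363) L191157
theorem L191163 : sm gf N24537 = N20191 := ded_20_2 (flp_c L159387) (flp_f L159365) L191157
theorem L191165 : sm gd N20188 = N24538 := rfl
theorem L191167 : sm gb N24538 = N20355 := ded_14_1 (flp_d L191139) L191145 L191165
theorem L191169 : sm gf N24538 = N20193 := ded_23_2 (flp_d L159405) (flp_f L159371) L191165
theorem L191171 : sm gg N20188 = N24539 := rfl
theorem L191173 : sm gc N24539 = N20189 := ded_21_1 (flp_g L159373) L159367 L191171
theorem L191175 : sm ge N24539 = N21238 := ded_26_1 (flp_g L167288) (flp_e L159369) L191171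
theorem L191177 : sm gc N20190 = N24540 := rfl
theorem L191179 : sm ge N24540 = N21239 := ded_19_2 (flp_c L167292) (flp_e L159383) L191177
theorem L191181 : sm gg N24540 = N21344 := ded_21_2 L167942 L159385 L191177
theorem L191183 : sm gb N20191 = N24541 := rfl
theorem L191185 : sm ge N24541 = N21241 := ded_15_2 (flp_b L167304) (flp_e L159391) L191183
theorem L191187 : sm gd N20191 = N24542 := rfl
theorem L191189 : sm ga N24542 = N20193 := ded_9_1 (flp_d L159405) (flp_a L159389) L191187
theorem L191191 : sm gg N20191 = N24543 := rfl
theorem L191193 : sm ga N24543 = N20194 := ded_12_1 (flp_g L159407) (flp_a L159389) L191191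
theorem L191195 : sm gc N24543 = N20192 := ded_21_1 (flp_g L159393) L159387 L191191
theorem L191197 : sm ge N24543 = N21243 := ded_26_1 (flp_g L167310) (flp_e L159391) L191191
theorem L191199 : sm gf N24543 = N24539 := ded_29_2 (flp_g L191171) (flp_a L191159) L191163 L191191
theorem L191201 : sm gc N20193 = N24544 := rfl
theorem L191203 : sm ge N20193 = N24545 := rfl
theorem L191205 : sm gd N24545 = N21245 := ded_22_1 (flp_e L167320) (flp_d L115964) (flp_e L110389) L159405 L191203
theorem L191207 : sm gg N20193 = N24546 := rfl
theorem L191209 : sm gd N24546 = N20194 := ded_24_1 (flp_g L159407) L159405 L191207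
theorem L191211 : sm gb N20194 = N24547 := rfl
theorem L191213 : sm ge N24547 = N21247 := ded_15_2 (flp_b L167326) (flp_e L159411) L191211
theorem L191215 : sm gc N24547 = N24489 := ded_13_2 (flp_b L190807) L158993 (flp_b L110397) (flp_c L159409) L191211
theorem L191217 : sm gf N20194 = N24548 := rfl
theorem L191219 : sm ga N24548 = N24539 := ded_11_1 (flp_f L191199) L191193 L191217
theorem L191221 : sm gc N24548 = N20195 := ded_20_1 (flp_f L159413) (flp_c L159409) L191217
theorem L191223 : sm ge N24548 = N21248 := ded_25_1 (flp_f L167330) (flp_e L159411) L191217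
theorem L191225 : sm gg N24548 = N24537 := ded_29_3 L191159 L159371 L159407 L191217
theorem L191227 : sm gd N20196 = N24549 := rfl
theorem L191229 : sm ga N24549 = N20198 := ded_9_1 (flp_d L159437) (flp_a L159425) L191227
theorem L191231 : sm gb N24549 = N22899 := ded_14_1 L178991 (flp_b L159429) L191227
theorem L191233 : sm ge N24549 = N22897 := ded_22_2 (flp_d L178977) L130174 L120416 (flp_e L159427) L191227
theorem L191235 : sm gd N20197 = N24550 := rfl
theorem L191237 : sm gb N24550 = N20198 := ded_14_1 (flp_d L159437) L159431 L191235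
theorem L191239 : sm ge N24550 = N21151 := ded_22_2 L166814 L166810 (flp_d L161240) (flp_e L159433) L191235
theorem L191241 : sm gc N21152 = N24550 := ded_19_3 L191239 (flp_c L166722) L166724
theorem L191243 : sm gg N20197 = N24551 := rfl
theorem L191245 : sm gc N24551 = N20206 := ded_21_1 (flp_g L159489) (flp_c L159435) L191243
theorem L191247 : sm ge N24551 = N20490 := ded_26_1 (flp_g L161256) (flp_e L159433) L191243
theorem L191249 : sm gf N24551 = N20206 := ded_29_2 (flp_g L159489) L159469 L159473 L191243
theorem L191251 : sm gc N20198 = N24552 := rfl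
theorem L191253 : sm ge N20198 = N24553 := rfl
theorem L191255 : sm ga N24553 = N22897 := ded_10_1 (flp_e L191233) L191229 L191253
theorem L191257 : sm gb N24553 = N21151 := ded_15_1 (flp_e L191239) L191237 L191253
theorem L191259 : sm gd N24553 = N20491 := ded_22_1 (flp_e L161262) (flp_d L111575) (flp_e L110405) L159437 L191253
theorem L191261 : sm gf N20198 = N24554 := rfl
theorem L191263 : sm gd N24554 = N20199 := ded_23_1 (flp_f L159439) L159437 L191261
theorem L191265 : sm gg N20198 = N24555 := rfl
theorem L191267 : sm gd N24555 = N20200 := ded_24_1 (flp_g L159445) L159437 L191265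
theorem L191269 : sm gg N20199 = N24556 := rfl
theorem L191271 : sm gc N24556 = N20201 := ded_21_1 (flp_g L159451) (flp_c L159441) L191269
theorem L191273 : sm ge N24556 = N20493 := ded_26_1 (flp_g L161278) (flp_e L159443) L191269
theorem L191275 : sm gf N21649 = N24556 := ded_29_0 (flp_g L191269) (flp_f L159439) L159445 (flp_a L169835)
theorem L191277 : sm gb N24032 = N24556 := ded_31_14 (flp_g L191269) (flp_f L159439) L159431 L191243 L191249 (flp_b L160288) (flp_g L160284) (flp_f L160272) (flp_b L160268) L111173 (flp_f L111165) L111161 L160730 (flp_f L187503)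
theorem L191279 : sm gb N20200 = N24557 := rfl
theorem L191281 : sm ge N24557 = N20494 := ded_15_2 (flp_b L161284) (flp_e L159449) L191279
theorem L191283 : sm ga N21834 = N24557 := ded_10_3 L191281 (flp_a L175667) (flp_e L171011)
theorem L191285 : sm gf N20200 = N24558 := rfl
theorem L191287 : sm ga N24558 = N24556 := ded_11_1 (flp_f L191275) L169835 L191285
theorem L191289 : sm gc N24558 = N20202 := ded_20_1 (flp_f L159459) (flp_c L159447) L191285
theorem L191291 : sm ge N24558 = N20495 := ded_25_1 (flp_f L161286) (flp_e L159449) L191285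
theorem L191293 : sm gg N24558 = N20447 := ded_29_3 L160984 (flp_f L159439) L159445 L191285
theorem L191295 : sm gd N20203 = N24559 := rfl
theorem L191297 : sm ga N24559 = N20204 := ded_9_1 (flp_d L159475) L159469 L191295
theorem L191299 : sm gf N24559 = N24550 := ded_23_2 (flp_d L191235) (flp_f L159473) L191295
theorem L191301 : sm gg N20203 = N24560 := rfl
theorem L191303 : sm ga N24560 = N20206 := ded_12_1 (flp_g L159489) L159469 L191301
theorem L191305 : sm ge N24560 = N20497 := ded_26_1 (flp_g L161302) (flp_e L159471) L191301
theorem L191307 : sm gb N24560 = N21606 := ded_17_1 L169559 (flp_b L169980) L169978 L168716 L191301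
theorem L191309 : sm gc N20204 = N24561 := rfl
theorem L191311 : sm ge N20204 = N24562 := rfl
theorem L191313 : sm gb N24562 = N20208 := ded_15_1 (flp_e L159501) (flp_b L159477) L191311
theorem L191315 : sm gd N24562 = N20499 := ded_22_1 (flp_e L161316) (flp_d L111609) (flp_e L110419) L159475 L191311
theorem L191317 : sm gf N21171 = N24562 := ded_16_0 L191313 L159505 (flp_b L160086) (flp_f L160092) (flp_b L166842)
theorem L191319 : sm gf N20204 = N24563 := rfl
theorem L191321 : sm ga N24563 = N24550 := ded_11_1 (flp_f L191299) L191297 L191319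
theorem L191323 : sm gd N24563 = N20205 := ded_23_1 (flp_f L159479) L159475 L191319
theorem L191325 : sm ge N24563 = N21171 := ded_25_1 L191317 (flp_e L191311) L191319
theorem L191327 : sm gb N24563 = N20304 := ded_16_1 (flp_f L160094) L110777 (flp_f L110425) (flp_b L159477) L191319
theorem L191329 : sm gg N20204 = N24564 := rfl
theorem L191331 : sm gd N24564 = N20206 := ded_24_1 (flp_g L159489) L159475 L191329
theorem L191333 : sm gg N20205 = N24565 := rfl
theorem L191335 : sm ga N24565 = N24551 := ded_12_1 (flp_g L191243) (flp_a L159481) L191333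
theorem L191337 : sm gc N24565 = N24560 := ded_21_1 (flp_g L191301) (flp_c L159483) L191333
theorem L191339 : sm ge N24565 = N20501 := ded_26_1 (flp_g L161328) (flp_e L159485) L191333
theorem L191341 : sm gf N24560 = N24565 := ded_29_0 (flp_g L191333) (flp_f L159479) L159489 (flp_a L191303)
theorem L191343 : sm gb N20207 = N24566 := rfl
theorem L191345 : sm gd N24566 = N24501 := ded_14_2 L190887 L159499 L191343
theorem L191347 : sm gg N24566 = N24504 := ded_17_2 L190906 (flp_g L191025) L191023 L160226 L191343
theorem L191349 : sm ge N20207 = N24567 := rfl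
theorem L191351 : sm ga N24567 = N20211 := ded_10_1 (flp_e L159519) (flp_a L159495) L191349
theorem L191353 : sm gc N24567 = N20208 := ded_19_1 (flp_e L159501) L159493 L191349
theorem L191355 : sm gf N24567 = N20308 := ded_25_2 (flp_e L160128) (flp_f L159497) L191349
theorem L191357 : sm ga N20209 = N24568 := rfl
theorem L191359 : sm gb N20381 = N24568 := ded_30_2 (flp_a L191357) (flp_f L187059) L187057 (flp_b L159509) (flp_a L159495) L159497 (flp_c L110797) (flp_b L110777) L110775 L116919 L116921 (flp_b L129964) (flp_a L178639) L178643 L160550 L160548 L111079 L111103 (flp_c L160602)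
theorem L191361 : sm gd N20209 = N24569 := rfl
theorem L191363 : sm gb N24569 = N20210 := ded_14_1 (flp_d L159511) L159509 L191361
theorem L191365 : sm gf N24569 = N23103 := ded_23_2 (flp_d L187055) L187059 L191361
theorem L191367 : sm gc N21523 = N24569 := ded_28_0 (flp_d L191361) (flp_c L187057) L187055 (flp_c L180567) L144335 L144381 L180697 L180699
theorem L191369 : sm ge N21522 = N24569 := ded_15_0 L191363 (flp_e L167880) (flp_b L169031)
theorem L191371 : sm ge N20209 = N24570 := rfl
theorem L191373 : sm gb N24570 = N20211 := ded_15_1 (flp_e L159519) L159509 L191371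
theorem L191375 : sm gg N20209 = N24571 := rfl
theorem L191377 : sm gg N20210 = N24572 := rfl
theorem L191379 : sm ga N24572 = N24515 := ded_12_1 (flp_g L190991) (flp_a L159513) L191377
theorem L191381 : sm gc N24572 = N20277 := ded_21_1 L159917 L159517 L191377
theorem L191383 : sm gd N24572 = N20212 := ded_24_1 (flp_g L159525) L159511 L191377
theorem L191385 : sm gf N20274 = N24572 := ded_29_0 (flp_g L191377) L159515 L160202 L160204
theorem L191387 : sm gd N20211 = N24573 := rfl
theorem L191389 : sm gf N24573 = N20318 := ded_23_2 (flp_d L160210) (flp_f L159523) L191387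
theorem L191391 : sm gg N20211 = N24574 := rfl
theorem L191393 : sm gc N24574 = N20213 := ded_21_1 (flp_g L159529) (flp_c L159521) L191391
theorem L191395 : sm ge N24574 = N20212 := ded_26_1 (flp_g L159525) L159519 L191391
theorem L191397 : sm gb N20212 = N24575 := rfl
theorem L191399 : sm gb N20213 = N24576 := rfl
theorem L191401 : sm gd N24576 = N20503 := ded_14_2 (flp_b L161344) (flp_d L159531) L191399
theorem L191403 : sm ge N24576 = N20214 := ded_15_2 (flp_b L159535) (flp_e L159533) L191399
theorem L191405 : sm ga N20214 = N24577 := rfl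
theorem L191407 : sm gd N24577 = N20215 := ded_9_2 (flp_a L159539) (flp_d L159537) L191405
theorem L191409 : sm gc N20214 = N24578 := rfl
theorem L191411 : sm gf N20214 = N24579 := rfl
theorem L191413 : sm gd N24579 = N20217 := ded_23_1 (flp_f L159549) (flp_d L159537) L191411
theorem L191415 : sm gb N20215 = N24580 := rfl
theorem L191417 : sm ge N24580 = N20507 := ded_15_2 (flp_b L161358) (flp_e L159541) L191415
theorem L191419 : sm gc N21703 = N24580 := ded_19_3 L191417 (flp_c L161372) (flp_e L170182)
theorem L191421 : sm gg N21701 = N24580 := ded_26_0 L191417 L161370 (flp_e L170168)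
theorem L191423 : sm gc N20215 = N24581 := rfl
theorem L191425 : sm ga N24581 = N20216 := ded_8_1 (flp_c L159543) L159539 L191423
theorem L191427 : sm ge N24581 = N20508 := ded_19_2 (flp_c L161360) (flp_e L159541) L191423
theorem L191429 : sm gd N22725 = N24581 := ded_9_0 L191425 (flp_d L177366) (flp_a L177505)
theorem L191431 : sm gf N22701 = N24581 := ded_25_0 L191427 (flp_f L163503) L177336
theorem L191433 : sm gf N20215 = N24582 := rfl
theorem L191435 : sm ga N24582 = N20217 := ded_11_1 (flp_f L159549) L159539 L191433
theorem L191437 : sm gc N24582 = N22701 := ded_20_1 L191431 (flp_c L191423) L191433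
theorem L191439 : sm ge N24582 = N20509 := ded_25_1 (flp_f L161364) (flp_e L159541) L191433
theorem L191441 : sm gg N23981 = N24582 := ded_29_1 (flp_f L191433) (flp_g L187087) (flp_a L187083) L187097
theorem L191443 : sm gf N20216 = N24583 := rfl
theorem L191445 : sm ga N24583 = N22701 := ded_11_1 L191431 L191425 L191443
theorem L191447 : sm gc N24583 = N20217 := ded_20_1 (flp_f L159549) L159543 L191443
theorem L191449 : sm gd N24583 = N22723 := ded_23_1 L177495 L177366 L191443
theorem L191451 : sm ge N24583 = N20511 := ded_25_1 (flp_f L161382) (flp_e L159545) L191443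
theorem L191453 : sm gb N23889 = N24583 := ded_13_5 L191447 (flp_b L160182) L186289 (flp_b L186283) L186293
theorem L191455 : sm gg N20217 = N24584 := rfl
theorem L191457 : sm ga N24584 = N23981 := ded_12_1 L191441 L191435 L191455
theorem L191459 : sm ge N24584 = N20512 := ded_26_1 (flp_g L161388) (flp_e L159551) L191455
theorem L191461 : sm gf N23979 = N24584 := ded_29_0 (flp_g L191455) (flp_f L159549) (flp_g L155858) L187083
theorem L191463 : sm gc N20218 = N24585 := rfl
theorem L191465 : sm ga N24585 = N21116 := ded_8_1 (flp_c L166452) (flp_a L159559) L191463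
theorem L191467 : sm ge N24585 = N20513 := ded_19_2 (flp_c L161394) (flp_e L159555) L191463
theorem L191469 : sm gf N24585 = N21117 := ded_20_2 (flp_c L166458) (flp_f L159557) L191463
theorem L191471 : sm gg N24585 = N21876 := ded_21_2 L171294 L166482 L191463
theorem L191473 : sm gb N20219 = N24586 := rfl
theorem L191475 : sm ge N24586 = N20514 := ded_15_2 (flp_b L161402) (flp_e L159565) L191473
theorem L191477 : sm ga N22624 = N24586 := ded_10_3 L191475 (flp_a L163600) L176711
theorem L191479 : sm gd N20219 = N24587 := rfl
theorem L191481 : sm ga N24587 = N20220 := ded_9_1 (flp_d L159569) (flp_a L159563) L191479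
theorem L191483 : sm gg N24587 = N20224 := ded_24_2 (flp_d L159589) (flp_g L159567) L191479
theorem L191485 : sm ge N24587 = N22992 := ded_22_2 L179641 (flp_e L163264) (flp_d L161404) (flp_e L159565) L191479
theorem L191487 : sm gc N20220 = N24588 := rfl
theorem L191489 : sm ge N24588 = N23026 := ded_19_2 L179935 L176809 L191487
theorem L191491 : sm gg N24588 = N20226 := ded_21_2 (flp_c L159603) (flp_g L159571) L191487
theorem L191493 : sm gb N22937 = N24588 := ded_15_3 L191489 (flp_b L179933) (flp_e L179245)
theorem L191495 : sm gf N20220 = N24589 := rfl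
theorem L191497 : sm gd N24589 = N20221 := ded_23_1 (flp_f L159573) L159569 L191495
theorem L191499 : sm gb N20221 = N24590 := rfl
theorem L191501 : sm ge N24590 = N20519 := ded_15_2 (flp_b L161422) (flp_e L159577) L191499
theorem L191503 : sm gc N24590 = N23885 := ded_13_2 L186270 (flp_c L156116) L110833 (flp_c L159575) L191499
theorem L191505 : sm gf N24590 = N23889 := ded_16_2 L191453 (flp_f L191443) L159547 L159573 L191499
theorem L191507 : sm ga N24590 = N23886 := ded_30_3 L186276 (flp_c L155016) (flp_b L107284) L91031 (flp_f L91020) (flp_c L107099) L154786 L166276 L166274 L166288 L166292 (flp_a L166460) (flp_f L191469) (flp_c L191463) (flp_b L159553) (flp_a L110445) L110457 (flp_c L159575) L191499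
theorem L191509 : sm gb N20222 = N24591 := rfl
theorem L191511 : sm ge N24591 = N20520 := ded_15_2 (flp_b L161430) (flp_e L159581) L191509
theorem L191513 : sm gc N24591 = N20223 := ded_13_2 (flp_b L159585) (flp_c L110467) L110461 L159579 L191509
theorem L191515 : sm gg N24591 = N22112 := ded_17_2 L172903 L171244 L171200 L169817 L191509
theorem L191517 : sm gd N20222 = N24592 := rfl
theorem L191519 : sm gf N24592 = N21676 := ded_23_2 L170004 (flp_f L159583) L191517
theorem L191521 : sm ga N20223 = N24593 := rfl
theorem L191523 : sm gd N24593 = N24262 := ded_9_2 L189059 L163282 L191521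
theorem L191525 : sm ge N24593 = N20522 := ded_10_2 (flp_a L161440) (flp_e L159587) L191521
theorem L191527 : sm gf N20223 = N24594 := rfl
theorem L191529 : sm gd N24594 = N24267 := ded_23_1 (flp_f L189101) L163282 L191527
theorem L191531 : sm ge N24594 = N20524 := ded_25_1 (flp_f L161446) (flp_e L159587) L191527
theorem L191533 : sm gg N20223 = N24595 := rfl
theorem L191535 : sm gc N24595 = N22112 := ded_21_1 (flp_g L191515) L191513 L191533
theorem L191537 : sm gd N24595 = N24254 := ded_24_1 L189029 L163282 L191533
theorem L191539 : sm ge N24595 = N20525 := ded_26_1 (flp_g L161448) (flp_e L159587) L191533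
theorem L191541 : sm gf N22111 = N24595 := ded_20_0 L191535 (flp_f L172899) (flp_c L172897)
theorem L191543 : sm gc N20224 = N24596 := rfl
theorem L191545 : sm ga N24596 = N20226 := ded_8_1 (flp_c L159603) (flp_a L159591) L191543
theorem L191547 : sm ge N24596 = N22231 := ded_19_2 (flp_c L173749) L163272 L191543
theorem L191549 : sm gd N24524 = N24596 := ded_28_1 (flp_c L191543) (flp_d L159589) (flp_c L110467) (flp_d L110333) L159265 L191043 L191045 L191057
theorem L191551 : sm gb N22233 = N24596 := ded_15_3 L191547 L173747 L173767
theorem L191553 : sm gf N20224 = N24597 := rfl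
theorem L191555 : sm ga N24597 = N20228 := ded_11_1 (flp_f L159609) (flp_a L159591) L191553
theorem L191557 : sm gd N24597 = N20225 := ded_23_1 (flp_f L159593) L159589 L191553
theorem L191559 : sm ge N24597 = N22990 := ded_25_1 L179629 L163272 L191553
theorem L191561 : sm gg N24589 = N24597 := ded_29_1 (flp_f L191553) (flp_g L191483) L191481 L191495
theorem L191563 : sm gb N20225 = N24598 := rfl
theorem L191565 : sm ge N24598 = N20528 := ded_15_2 (flp_b L161462) (flp_e L159599) L191563
theorem L191567 : sm gc N24598 = N21317 := ded_13_2 (flp_b L167774) L116405 (flp_b L110481) (flp_c L159597) L191563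
theorem L191569 : sm ga N24598 = N22526 := ded_7_1 L175905 (flp_a L124632) L169197 L169193 L117239 (flp_a L117321) L150938 (flp_a L159595) L191563
theorem L191571 : sm gd N20226 = N24599 := rfl
theorem L191573 : sm ga N24599 = N24524 := ded_9_1 L191549 L191545 L191571
theorem L191575 : sm gb N24599 = N22935 := ded_14_1 L179233 (flp_b L163515) L191571
theorem L191577 : sm gc N24522 = N24599 := ded_28_0 (flp_d L191571) (flp_c L159603) (flp_d L110483) (flp_c L92649) (flp_d L92587) L110337 L159283 (flp_a L191045)
theorem L191579 : sm gf N20226 = N24600 := rfl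
theorem L191581 : sm gc N24600 = N20228 := ded_20_1 (flp_f L159609) L159603 L191579
theorem L191583 : sm ge N24600 = N22348 := ded_25_1 L174633 L163429 L191579
theorem L191585 : sm gb N24600 = N22350 := ded_16_1 L174645 (flp_b L149315) L130338 (flp_b L163515) L191579
theorem L191587 : sm gf N20227 = N24601 := rfl
theorem L191589 : sm ga N24601 = N22990 := ded_11_1 L179629 (flp_a L163266) L191587
theorem L191591 : sm gc N24601 = N22348 := ded_20_1 L174633 (flp_c L163262) L191587
theorem L191593 : sm gd N24601 = N20532 := ded_23_1 (flp_f L161476) (flp_d L159607) L191587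
theorem L191595 : sm ge N24601 = N20228 := ded_25_1 (flp_f L159609) L159605 L191587
theorem L191597 : sm gg N20228 = N24602 := rfl
theorem L191599 : sm ga N24602 = N24589 := ded_12_1 L191561 L191555 L191597
theorem L191601 : sm gd N24602 = N20229 := ded_24_1 (flp_g L159613) (flp_d L159611) L191597
theorem L191603 : sm gf N24587 = N24602 := ded_29_0 (flp_g L191597) (flp_f L159609) (flp_g L159571) (flp_a L191481)
theorem L191605 : sm gb N20229 = N24603 := rfl
theorem L191607 : sm ge N24603 = N20534 := ded_15_2 (flp_b L161488) (flp_e L159619) L191605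
theorem L191609 : sm ga N24603 = N24603 := ded_7_1 (flp_b L191605) L159615 L191499 L191507 L186278 (flp_a L191507) (flp_b L191499) (flp_a L159615) L191605
theorem L191610 : sm gd N20230 = N24604 := rfl
theorem L191612 : sm ga N24604 = N20232 := ded_9_1 (flp_d L159637) (flp_a L159625) L191610
theorem L191614 : sm gb N24604 = N22928 := ded_14_1 L179187 (flp_b L159629) L191610
theorem L191616 : sm ge N24604 = N22926 := ded_22_2 (flp_d L179173) L130294 (flp_d L150227) (flp_e L159627) L191610
theorem L191618 : sm gd N20231 = N24605 := rfl
theorem L191620 : sm gb N24605 = N20232 := ded_14_1 (flp_d L159637) L159631 L191618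
theorem L191622 : sm ge N24605 = N21161 := ded_22_2 L166897 L166893 (flp_d L161491) (flp_e L159633) L191618
theorem L191624 : sm gc N21162 = N24605 := ded_19_3 L191622 (flp_c L166784) L166786
theorem L191626 : sm gf N20231 = N24606 := rfl
theorem L191628 : sm gc N24606 = N20239 := ded_20_1 (flp_f L159679) (flp_c L159635) L191626
theorem L191630 : sm ge N24606 = N20536 := ded_25_1 (flp_f L161507) (flp_e L159633) L191626
theorem L191632 : sm gg N20239 = N24606 := ded_29_1 (flp_f L191626) L159673 (flp_a L159669) L159679
theorem L191634 : sm gc N20232 = N24607 := rfl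
theorem L191636 : sm ge N20232 = N24608 := rfl
theorem L191638 : sm ga N24608 = N22926 := ded_10_1 (flp_e L191616) L191612 L191636
theorem L191640 : sm gb N24608 = N21161 := ded_15_1 (flp_e L191622) L191620 L191636
theorem L191642 : sm gd N24608 = N20537 := ded_22_1 (flp_e L161513) (flp_d L111729) (flp_e L110505) L159637 L191636
theorem L191644 : sm gf N20232 = N24609 := rfl
theorem L191646 : sm gd N24609 = N20233 := ded_23_1 (flp_f L159639) L159637 L191644
theorem L191648 : sm gg N20232 = N24610 := rfl
theorem L191650 : sm gd N24610 = N20234 := ded_24_1 (flp_g L159645) L159637 L191648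
theorem L191652 : sm gb N20233 = N24611 := rfl
theorem L191654 : sm ge N24611 = N20539 := ded_15_2 (flp_b L161529) (flp_e L159643) L191652
theorem L191656 : sm ga N21887 = N24611 := ded_10_3 L191654 (flp_a L176067) (flp_e L171360)
theorem L191658 : sm gg N20233 = N24612 := rfl
theorem L191660 : sm gc N24612 = N20235 := ded_21_1 (flp_g L159651) (flp_c L159641) L191658
theorem L191662 : sm ge N24612 = N20540 := ded_26_1 (flp_g L161531) (flp_e L159643) L191658
theorem L191664 : sm gf N20466 = N24612 := ded_29_0 (flp_g L191658) (flp_f L159639) L159645 L161102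
theorem L191666 : sm gf N20234 = N24613 := rfl
theorem L191668 : sm ga N24613 = N24612 := ded_11_1 (flp_f L191664) (flp_a L161102) L191666
theorem L191670 : sm gc N24613 = N20236 := ded_20_1 (flp_f L159659) (flp_c L159647) L191666
theorem L191672 : sm ge N24613 = N20541 := ded_25_1 (flp_f L161539) (flp_e L159649) L191666
theorem L191674 : sm gg N24613 = N21485 := ded_29_3 L168800 (flp_f L159639) L159645 L191666
theorem L191676 : sm gb N24613 = N24024 := ded_31_2 L187431 (flp_f L160918) (flp_b L111277) L111281 L111289 L160498 L160502 L160514 L160518 L191632 (flp_f L191626) (flp_b L159631) L159645 L191666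
theorem L191678 : sm gd N20237 = N24614 := rfl
theorem L191680 : sm ga N24614 = N20238 := ded_9_1 (flp_d L159675) L159669 L191678
theorem L191682 : sm gg N24614 = N24605 := ded_24_2 (flp_d L191618) L159673 L191678
theorem L191684 : sm gf N20237 = N24615 := rfl
theorem L191686 : sm ga N24615 = N20239 := ded_11_1 (flp_f L159679) L159669 L191684
theorem L191688 : sm ge N24615 = N20543 := ded_25_1 (flp_f L161553) (flp_e L159671) L191684
theorem L191690 : sm gb N24615 = N21763 := ded_16_1 (flp_f L170560) (flp_b L170538) (flp_f L169723) L169727 L191684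
theorem L191692 : sm gc N20238 = N24616 := rfl
theorem L191694 : sm ge N20238 = N24617 := rfl
theorem L191696 : sm gb N24617 = N20242 := ded_15_1 (flp_e L159701) (flp_b L159677) L191694
theorem L191698 : sm gd N24617 = N20545 := ded_22_1 (flp_e L161567) (flp_d L111759) (flp_e L110519) L159675 L191694
theorem L191700 : sm gg N21183 = N24617 := ded_17_0 L191696 L159705 (flp_b L160316) (flp_g L160322) (flp_b L166925)
theorem L191702 : sm gf N20238 = N24618 := rfl
theorem L191704 : sm gd N24618 = N20239 := ded_23_1 (flp_f L159679) L159675 L191702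
theorem L191706 : sm gg N20238 = N24619 := rfl
theorem L191708 : sm ga N24619 = N24605 := ded_12_1 (flp_g L191682) L191680 L191706
theorem L191710 : sm gd N24619 = N20240 := ded_24_1 (flp_g L159683) L159675 L191706
theorem L191712 : sm ge N24619 = N21183 := ded_26_1 L191700 (flp_e L191694) L191706
theorem L191714 : sm gb N24619 = N20339 := ded_17_1 (flp_g L160332) L110945 (flp_g L110525) (flp_b L159677) L191706
theorem L191716 : sm gf N20240 = N24620 := rfl
theorem L191718 : sm ga N24620 = N24606 := ded_11_1 (flp_f L191626) (flp_a L159685) L191716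
theorem L191720 : sm gc N24620 = N24615 := ded_20_1 (flp_f L191684) (flp_c L159687) L191716
theorem L191722 : sm ge N24620 = N20547 := ded_25_1 (flp_f L161579) (flp_e L159689) L191716
theorem L191724 : sm gg N24620 = N24615 := ded_29_3 L191686 (flp_f L159679) L159683 L191716
theorem L191726 : sm gb N20241 = N24621 := rfl
theorem L191728 : sm gd N24621 = N24505 := ded_14_2 L190918 L159699 L191726
theorem L191730 : sm gf N24621 = N24508 := ded_16_2 L190937 (flp_f L191169) L191167 (flp_f L160456) L191726
theorem L191732 : sm ge N20241 = N24622 := rfl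
theorem L191734 : sm ga N24622 = N20245 := ded_10_1 (flp_e L159719) (flp_a L159695) L191732
theorem L191736 : sm gc N24622 = N20242 := ded_19_1 (flp_e L159701) L159693 L191732
theorem L191738 : sm gg N24622 = N20342 := ded_26_2 (flp_e L160358) (flp_g L159697) L191732
theorem L191740 : sm ga N20243 = N24623 := rfl
theorem L191742 : sm gd N20243 = N24624 := rfl
theorem L191744 : sm gb N24624 = N20244 := ded_14_1 (flp_d L159711) L159709 L191742
theorem L191746 : sm gg N24624 = N23115 := ded_24_2 (flp_d L187239) L187243 L191742
theorem L191748 : sm gc N21682 = N24624 := ded_28_0 (flp_d L191742) (flp_c L187241) L187239 (flp_c L180635) L144357 L144477 L180805 L180807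
theorem L191750 : sm ge N21681 = N24624 := ded_15_0 L191744 (flp_e L168314) (flp_b L170036)
theorem L191752 : sm ge N20243 = N24625 := rfl
theorem L191754 : sm gb N24625 = N20245 := ded_15_1 (flp_e L159719) L159709 L191752
theorem L191756 : sm gf N20243 = N24626 := rfl
theorem L191758 : sm gf N20244 = N24627 := rfl
theorem L191760 : sm ga N24627 = N24535 := ded_11_1 (flp_f L191135) (flp_a L159713) L191758
theorem L191762 : sm gc N24627 = N20297 := ded_20_1 (flp_f L160048) L159717 L191758
theorem L191764 : sm gd N24627 = N20246 := ded_23_1 (flp_f L159725) L159711 L191758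
theorem L191766 : sm gg N24627 = N20294 := ded_29_3 (flp_a L160434) (flp_f L160432) (flp_g L159715) L191758
theorem L191768 : sm gd N20245 = N24628 := rfl
theorem L191770 : sm gg N24628 = N20352 := ded_24_2 (flp_d L160440) (flp_g L159723) L191768
theorem L191772 : sm gf N20245 = N24629 := rfl
theorem L191774 : sm gc N24629 = N20247 := ded_20_1 (flp_f L159729) (flp_c L159721) L191772
theorem L191776 : sm ge N24629 = N20246 := ded_25_1 (flp_f L159725) L159719 L191772
theorem L191778 : sm gb N20246 = N24630 := rfl
theorem L191780 : sm gb N20247 = N24631 := rfl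
theorem L191782 : sm gd N24631 = N20549 := ded_14_2 (flp_b L161595) (flp_d L159731) L191780
theorem L191784 : sm ge N24631 = N20248 := ded_15_2 (flp_b L159735) (flp_e L159733) L191780
theorem L191786 : sm ga N20248 = N24632 := rfl
theorem L191788 : sm gd N24632 = N20249 := ded_9_2 (flp_a L159739) (flp_d L159737) L191786
theorem L191790 : sm gc N20248 = N24633 := rfl
theorem L191792 : sm gg N20248 = N24634 := rfl
theorem L191794 : sm gd N24634 = N20251 := ded_24_1 (flp_g L159749) (flp_d L159737) L191792
theorem L191796 : sm gb N20249 = N24635 := rfl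
theorem L191798 : sm ge N24635 = N20553 := ded_15_2 (flp_b L161609) (flp_e L159741) L191796
theorem L191800 : sm gc N21543 = N24635 := ded_19_3 L191798 L161623 (flp_e L169169)
theorem L191802 : sm gf N21542 = N24635 := ded_25_0 L191798 (flp_f L161621) (flp_e L169163)
theorem L191804 : sm gc N20249 = N24636 := rfl
theorem L191806 : sm ga N24636 = N20250 := ded_8_1 (flp_c L159743) L159739 L191804
theorem L191808 : sm ge N24636 = N20554 := ded_19_2 (flp_c L161611) (flp_e L159741) L191804
theorem L191810 : sm gd N22689 = N24636 := ded_9_0 L191806 (flp_d L177027) (flp_a L177230)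
theorem L191812 : sm gg N22656 = N24636 := ded_26_0 L191808 (flp_g L163637) L176999
theorem L191814 : sm gg N20249 = N24637 := rfl
theorem L191816 : sm ga N24637 = N20251 := ded_12_1 (flp_g L159749) L159739 L191814
theorem L191818 : sm gc N24637 = N22656 := ded_21_1 L191812 (flp_c L191804) L191814
theorem L191820 : sm ge N24637 = N20555 := ded_26_1 (flp_g L161615) (flp_e L159741) L191814
theorem L191822 : sm gf N24637 = N24006 := ded_29_2 (flp_g L187281) L187267 L187271 L191814
theorem L191824 : sm gg N20250 = N24638 := rfl
theorem L191826 : sm ga N24638 = N22656 := ded_12_1 L191812 L191806 L191824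
theorem L191828 : sm gc N24638 = N20251 := ded_21_1 (flp_g L159749) L159743 L191824
theorem L191830 : sm gd N24638 = N22687 := ded_24_1 L177220 L177027 L191824
theorem L191832 : sm ge N24638 = N20557 := ded_26_1 (flp_g L161633) (flp_e L159745) L191824
theorem L191834 : sm gb N23880 = N24638 := ded_13_5 L191828 (flp_b L160412) L186226 (flp_b L186220) L186230
theorem L191836 : sm gf N20251 = N24639 := rfl
theorem L191838 : sm ga N24639 = N24006 := ded_11_1 (flp_f L191822) L191816 L191836
theorem L191840 : sm ge N24639 = N20558 := ded_25_1 (flp_f L161639) (flp_e L159751) L191836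
theorem L191842 : sm gg N24639 = N24004 := ded_29_3 (flp_a L187267) L155956 L159749 L191836
theorem L191844 : sm gc N20252 = N24640 := rfl
theorem L191846 : sm ga N24640 = N21109 := ded_8_1 (flp_c L166406) (flp_a L159759) L191844
theorem L191848 : sm ge N24640 = N20559 := ded_19_2 (flp_c L161645) (flp_e L159755) L191844
theorem L191850 : sm gf N24640 = N21825 := ded_20_2 L170957 (flp_f L166436) L191844
theorem L191852 : sm gg N24640 = N21110 := ded_21_2 (flp_c L166412) (flp_g L159757) L191844
theorem L191854 : sm gb N20253 = N24641 := rfl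
theorem L191856 : sm ge N24641 = N20560 := ded_15_2 (flp_b L161653) (flp_e L159765) L191854
theorem L191858 : sm ga N22578 = N24641 := ded_10_3 L191856 (flp_a L163687) L176290
theorem L191860 : sm gd N20253 = N24642 := rfl
theorem L191862 : sm ga N24642 = N20254 := ded_9_1 (flp_d L159769) (flp_a L159763) L191860
theorem L191864 : sm gf N24642 = N20258 := ded_23_2 (flp_d L159789) (flp_f L159767) L191860
theorem L191866 : sm ge N24642 = N22988 := ded_22_2 L179613 (flp_e L163449) (flp_d L161655) (flp_e L159765) L191860
theorem L191868 : sm gc N20254 = N24643 := rfl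
theorem L191870 : sm ge N24643 = N23001 := ded_19_2 L179717 L176386 L191868
theorem L191872 : sm gf N24643 = N20260 := ded_20_2 (flp_c L159803) (flp_f L159771) L191868
theorem L191874 : sm gb N22908 = N24643 := ded_15_3 L191870 (flp_b L179715) (flp_e L179049)
theorem L191876 : sm gg N20254 = N24644 := rfl
theorem L191878 : sm gd N24644 = N20255 := ded_24_1 (flp_g L159773) L159769 L191876
theorem L191880 : sm gb N20255 = N24645 := rfl
theorem L191882 : sm ge N24645 = N20565 := ded_15_2 (flp_b L161673) (flp_e L159777) L191880
theorem L191884 : sm gc N24645 = N23876 := ded_13_2 L186207 (flp_c L156226) L111001 (flp_c L159775) L191880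
theorem L191886 : sm gg N24645 = N23880 := ded_17_2 L191834 (flp_g L191824) L159747 L159773 L191880
theorem L191888 : sm ga N23877 = N24645 := ded_10_3 L191882 (flp_a L161679) (flp_e L186211)
theorem L191890 : sm gb N20256 = N24646 := rfl
theorem L191892 : sm ge N24646 = N20521 := ded_15_2 L163286 (flp_e L159781) L191890
theorem L191894 : sm gc N24646 = N20257 := ded_13_2 (flp_b L159785) (flp_c L110567) L110561 L159779 L191890
theorem L191896 : sm gf N24646 = N22323 := ded_16_2 L174398 (flp_f L170891) L170865 L168812 L191890
theorem L191898 : sm gd N20256 = N24647 := rfl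
theorem L191900 : sm gg N24647 = N21517 := ded_24_2 L168999 (flp_g L159783) L191898
theorem L191902 : sm ga N20257 = N24648 := rfl
theorem L191904 : sm gd N24648 = N24281 := ded_9_2 L189181 (flp_d L163447) L191902
theorem L191906 : sm ge N24648 = N20568 := ded_10_2 (flp_a L161691) (flp_e L159787) L191902
theorem L191908 : sm gf N20257 = N24649 := rfl
theorem L191910 : sm gc N24649 = N22323 := ded_20_1 (flp_f L191896) L191894 L191908
theorem L191912 : sm gd N24649 = N24273 := ded_23_1 L189151 (flp_d L163447) L191908
theorem L191914 : sm ge N24649 = N20570 := ded_25_1 (flp_f L161697) (flp_e L159787) L191908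
theorem L191916 : sm gg N22322 = N24649 := ded_21_0 L191910 (flp_g L174394) (flp_c L174392)
theorem L191918 : sm gg N20257 = N24650 := rfl
theorem L191920 : sm gd N24650 = N24286 := ded_24_1 (flp_g L189223) (flp_d L163447) L191918
theorem L191922 : sm ge N24650 = N20571 := ded_26_1 (flp_g L161699) (flp_e L159787) L191918
theorem L191924 : sm gc N20258 = N24651 := rfl
theorem L191926 : sm ga N24651 = N20260 := ded_8_1 (flp_c L159803) (flp_a L159791) L191924
theorem L191928 : sm ge N24651 = N22422 := ded_19_2 (flp_c L175198) (flp_e L163453) L191924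
theorem L191930 : sm gd N24544 = N24651 := ded_28_1 (flp_c L191924) (flp_d L159789) (flp_c L110567) (flp_d L110383) L159387 L191187 L191189 L191201
theorem L191932 : sm gb N22424 = N24651 := ded_15_3 L191928 L175196 L175212
theorem L191934 : sm gg N20258 = N24652 := rfl
theorem L191936 : sm ga N24652 = N20262 := ded_12_1 (flp_g L159809) (flp_a L159791) L191934
theorem L191938 : sm gd N24652 = N20259 := ded_24_1 (flp_g L159793) L159789 L191934
theorem L191940 : sm ge N24652 = N22986 := ded_26_1 L179601 (flp_e L163453) L191934
theorem L191942 : sm gf N24652 = N24644 := ded_29_2 (flp_g L191876) (flp_a L191862) L191864 L191934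
theorem L191944 : sm gb N20259 = N24653 := rfl
theorem L191946 : sm ge N24653 = N20574 := ded_15_2 (flp_b L161713) (flp_e L159799) L191944
theorem L191948 : sm gc N24653 = N21278 := ded_13_2 (flp_b L167528) L116171 (flp_b L110581) (flp_c L159797) L191944
theorem L191950 : sm ga N24653 = N22467 := ded_7_1 L175515 (flp_a L124231) L170202 L170198 L117849 (flp_a L117931) L117935 (flp_a L159795) L191944
theorem L191952 : sm gd N20260 = N24654 := rfl
theorem L191954 : sm ga N24654 = N24544 := ded_9_1 L191930 L191926 L191952
theorem L191956 : sm gb N24654 = N22906 := ded_14_1 L179037 L163631 L191952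
theorem L191958 : sm gc N24542 = N24654 := ded_28_0 (flp_d L191952) (flp_c L159803) (flp_d L110583) (flp_c L92691) (flp_d L92613) L110387 L159405 (flp_a L191189)
theorem L191960 : sm gg N20260 = N24655 := rfl
theorem L191962 : sm gc N24655 = N20262 := ded_21_1 (flp_g L159809) L159803 L191960
theorem L191964 : sm ge N24655 = N22140 := ded_26_1 L173120 (flp_e L163556) L191960
theorem L191966 : sm gb N24655 = N22142 := ded_17_1 L173130 (flp_b L129960) (flp_g L130218) L163631 L191960
theorem L191968 : sm gg N20261 = N24656 := rfl
theorem L191970 : sm ga N24656 = N22986 := ded_12_1 L179601 L163455 L191968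
theorem L191972 : sm gc N24656 = N22140 := ded_21_1 L173120 L163459 L191968
theorem L191974 : sm gd N24656 = N20578 := ded_24_1 (flp_g L161727) (flp_d L159807) L191968
theorem L191976 : sm ge N24656 = N20262 := ded_26_1 (flp_g L159809) L159805 L191968
theorem L191978 : sm gf N20262 = N24657 := rfl
theorem L191980 : sm ga N24657 = N24644 := ded_11_1 (flp_f L191942) L191936 L191978
theorem L191982 : sm gd N24657 = N20263 := ded_23_1 (flp_f L159813) (flp_d L159811) L191978
theorem L191984 : sm gg N24657 = N24642 := ded_29_3 L191862 L159771 L159809 L191978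
theorem L191986 : sm gb N20263 = N24658 := rfl
theorem L191988 : sm ge N24658 = N20580 := ded_15_2 (flp_b L161739) (flp_e L159819) L191986
theorem L191990 : sm ga N24658 = N24658 := ded_7_1 (flp_b L191986) L159815 L191880 (flp_a L191888) L186215 L191888 (flp_b L191880) (flp_a L159815) L191986
theorem L191991 : sm gc N20265 = N24659 := rfl
theorem L191993 : sm ge N24659 = N21330 := ded_19_2 (flp_c L167858) (flp_e L159839) L191991
theorem L191995 : sm gf N24659 = N24027 := ded_20_2 (flp_c L187459) L159843 L191991
theorem L191997 : sm gg N24659 = N20270 := ded_21_2 (flp_c L159875) (flp_g L159841) L191991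
theorem L191999 : sm ga N20268 = N24660 := rfl
theorem L192001 : sm ge N24660 = N21337 := ded_10_2 (flp_a L167902) (flp_e L159867) L191999
theorem L192003 : sm gg N24660 = N21360 := ded_12_2 (flp_a L168074) L167996 L191999
theorem L192005 : sm gb N24660 = N21337 := ded_7_2 (flp_a L167902) (flp_b L116491) L95834 L95853 L168067 (flp_b L110646) (flp_a L110621) L159865 L191999
theorem L192007 : sm gc N20268 = N24661 := rfl
theorem L192009 : sm ge N24661 = N21338 := ded_19_2 (flp_c L167904) (flp_e L159867) L192007
theorem L192011 : sm gb N24661 = N20270 := ded_13_1 (flp_c L159875) (flp_b L110629) (flp_c L110623) L159865 L192007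
theorem L192013 : sm gc N20269 = N24662 := rfl
theorem L192015 : sm ga N24662 = N20270 := ded_8_1 (flp_c L159875) L159869 L192013
theorem L192017 : sm ge N24662 = N21341 := ded_19_2 (flp_c L167924) (flp_e L159873) L192013
theorem L192019 : sm gd N20270 = N24663 := rfl
theorem L192021 : sm gc N24064 = N24663 := ded_28_0 (flp_d L192019) (flp_c L159875) L110631 L110825 L151435 (flp_c L156517) (flp_d L187876) L187874
theorem L192023 : sm gf N24663 = N24062 := ded_20_2 (flp_c L187703) L187713 L192021
theorem L192025 : sm gf N20270 = N24664 := rfl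
theorem L192027 : sm gc N24664 = N20271 := ded_20_1 (flp_f L159879) L159875 L192025
theorem L192029 : sm gd N24664 = N24062 := ded_23_1 (flp_f L192023) (flp_d L192019) L192025
theorem L192031 : sm ge N24664 = N21344 := ded_25_1 (flp_f L167940) (flp_e L159877) L192025
theorem L192033 : sm gg N24664 = N21239 := ded_29_3 (flp_a L187461) (flp_f L191995) L191997 L192025
theorem L192035 : sm ga N20272 = N24665 := rfl
theorem L192037 : sm gc N24665 = N24665 := ded_8_2 (flp_a L192035) L159891 L192035
theorem L192038 : sm gb N24665 = N21138 := ded_7_2 L166640 L115503 (flp_a L115521) (flp_b L156092) L156090 L115816 L110839 L159889 L192035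
theorem L192040 : sm ge N20272 = N24666 := rfl
theorem L192042 : sm gb N24666 = N20273 := ded_15_1 (flp_e L159892) L159889 L192040
theorem L192044 : sm gc N24666 = N24666 := ded_19_1 (flp_e L192040) L159891 L192040
theorem L192045 : sm gf N24665 = N24666 := ded_16_0 L192042 (flp_f L190985) L190981 L166998 (flp_b L192038)
theorem L192047 : sm gf N20272 = N24667 := rfl
theorem L192049 : sm ga N24667 = N24666 := ded_11_1 (flp_f L192045) (flp_a L192035) L192047
theorem L192051 : sm gc N24667 = N24667 := ded_20_1 (flp_f L192047) L159891 L192047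
theorem L192052 : sm ge N24667 = N24665 := ded_25_1 L192045 (flp_e L192040) L192047
theorem L192054 : sm gb N24667 = N24477 := ded_16_1 (flp_f L190883) L190887 L159205 L159889 L192047
theorem L192056 : sm gg N20272 = N24668 := rfl
theorem L192058 : sm gc N24668 = N24668 := ded_21_1 (flp_g L192056) L159891 L192056
theorem L192059 : sm gd N20273 = N24669 := rfl
theorem L192061 : sm gf N24669 = N23195 := ded_23_2 L190987 L190985 L192059
theorem L192063 : sm gc N24669 = N23197 := ded_28_6 L181187 (flp_a L181131) L181133 L144743 L116510 (flp_d L110640) (flp_c L159894) L192059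
theorem L192065 : sm gg N20273 = N24670 := rfl
theorem L192067 : sm gc N24670 = N20275 := ded_21_1 (flp_g L159900) (flp_c L159894) L192065
theorem L192069 : sm ge N24670 = N20274 := ded_26_1 (flp_g L159896) L159892 L192065
theorem L192071 : sm gb N20274 = N24671 := rfl
theorem L192073 : sm gb N20275 = N24672 := rfl
theorem L192075 : sm gd N24672 = N21350 := ded_14_2 (flp_b L167973) (flp_d L159902) L192073
theorem L192077 : sm ge N24672 = N20276 := ded_15_2 (flp_b L159906) (flp_e L159904) L192073
theorem L192079 : sm gg N24672 = N24672 := ded_17_2 (flp_b L192073) (flp_g L159900) L110639 L159900 L192073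
theorem L192080 : sm ga N21350 = N24672 := ded_10_3 L192077 L168061 (flp_e L167975)
theorem L192082 : sm gc N20276 = N24673 := rfl
theorem L192084 : sm ga N24673 = N21352 := ded_8_1 (flp_c L167983) (flp_a L168061) L192082
theorem L192086 : sm gg N24673 = N24673 := ded_21_2 (flp_c L192082) L159910 L192082
theorem L192087 : sm gf N20276 = N24674 := rfl
theorem L192089 : sm ga N24674 = N21353 := ded_11_1 (flp_f L167986) (flp_a L168061) L192087
theorem L192091 : sm gd N24674 = N20279 := ded_23_1 (flp_f L159924) (flp_d L159908) L192087
theorem L192093 : sm gg N24674 = N21353 := ded_29_3 (flp_a L192089) (flp_f L192087) L159910 L192087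
theorem L192095 : sm gb N20277 = N24675 := rfl
theorem L192097 : sm gd N24675 = N20280 := ded_14_2 (flp_b L159928) (flp_d L159915) L192095
theorem L192099 : sm gb N20279 = N24676 := rfl
theorem L192101 : sm ge N24676 = N21360 := ded_15_2 (flp_b L168020) (flp_e L159926) L192099
theorem L192103 : sm gf N24676 = N20280 := ded_16_2 (flp_b L159928) (flp_f L110651) L110646 L159924 L192099
theorem L192105 : sm gg N24676 = N21337 := ded_17_2 (flp_b L192005) L192003 (flp_b L168020) (flp_g L168045) L192099
theorem L192107 : sm ga N24676 = N21335 := ded_7_1 (flp_b L167894) (flp_a L167106) L167112 (flp_a L116529) L167990 L168074 (flp_b L168020) (flp_a L168040) L192099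
theorem L192109 : sm ga N20280 = N24677 := rfl
theorem L192111 : sm ge N24677 = N21361 := ded_10_2 (flp_a L168024) (flp_e L159930) L192109
theorem L192113 : sm gf N24677 = N21335 := ded_11_2 (flp_a L192107) L192103 L192109
theorem L192115 : sm gc N20280 = N24678 := rfl
theorem L192117 : sm ge N24678 = N21362 := ded_19_2 (flp_c L168026) (flp_e L159930) L192115
theorem L192119 : sm gb N24678 = N20282 := ded_13_1 (flp_c L159940) (flp_b L110661) (flp_c L110655) L159928 L192115
theorem L192121 : sm gg N20282 = N24679 := rfl
theorem L192123 : sm gc N24679 = N20283 := ded_21_1 (flp_g L159944) L159940 L192121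
theorem L192125 : sm ge N24679 = N21380 := ded_26_1 (flp_g L168164) (flp_e L159942) L192121
theorem L192127 : sm gf N20283 = N24680 := rfl
theorem L192129 : sm ga N24680 = N21471 := ded_11_1 (flp_f L168704) (flp_a L167206) L192127
theorem L192131 : sm gd N24680 = N20336 := ded_23_1 (flp_f L160304) (flp_d L159946) L192127
theorem L192133 : sm ge N24680 = N21381 := ded_25_1 (flp_f L168168) (flp_e L159948) L192127
theorem L192135 : sm gg N24680 = N21469 := ded_29_3 (flp_a L168684) L116873 L159944 L192127
theorem L192137 : sm gc N20284 = N24681 := rfl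
theorem L192139 : sm ge N24681 = N21404 := ded_19_2 (flp_c L168286) (flp_e L159956) L192137
theorem L192141 : sm gf N24681 = N20290 := ded_20_2 (flp_c L160004) (flp_f L159958) L192137
theorem L192143 : sm gg N24681 = N24035 := ded_21_2 (flp_c L187533) L159960 L192137
theorem L192145 : sm ga N20288 = N24682 := rfl
theorem L192147 : sm ge N24682 = N21411 := ded_10_2 (flp_a L168336) (flp_e L159996) L192145
theorem L192149 : sm gf N24682 = N21429 := ded_11_2 L168456 L168415 L192145
theorem L192151 : sm gb N24682 = N21411 := ded_7_2 (flp_a L168336) (flp_b L116691) L95935 L95954 (flp_a L156854) (flp_b L110714) (flp_a L110689) L159994 L192145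
theorem L192153 : sm gc N20288 = N24683 := rfl
theorem L192155 : sm ge N24683 = N21412 := ded_19_2 (flp_c L168338) (flp_e L159996) L192153
theorem L192157 : sm gb N24683 = N20290 := ded_13_1 (flp_c L160004) (flp_b L110697) (flp_c L110691) L159994 L192153
theorem L192159 : sm gc N20289 = N24684 := rfl
theorem L192161 : sm ga N24684 = N20290 := ded_8_1 (flp_c L160004) L159998 L192159
theorem L192163 : sm ge N24684 = N21415 := ded_19_2 (flp_c L168358) (flp_e L160002) L192159
theorem L192165 : sm gd N20290 = N24685 := rfl
theorem L192167 : sm gc N24115 = N24685 := ded_28_0 (flp_d L192165) (flp_c L160004) L110699 L110993 L151379 (flp_c L156770) (flp_d L188222) L188220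
theorem L192169 : sm gg N24685 = N24113 := ded_21_2 (flp_c L188049) L188059 L192167
theorem L192171 : sm gg N20290 = N24686 := rfl
theorem L192173 : sm gc N24686 = N20291 := ded_21_1 (flp_g L160008) L160004 L192171
theorem L192175 : sm gd N24686 = N24113 := ded_24_1 (flp_g L192169) (flp_d L192165) L192171
theorem L192177 : sm ge N24686 = N21417 := ded_26_1 (flp_g L168364) (flp_e L160006) L192171
theorem L192179 : sm gf N21215 = N24686 := ded_29_0 (flp_g L192171) (flp_f L192141) L192143 L187535
theorem L192181 : sm ga N20292 = N24687 := rfl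
theorem L192183 : sm gc N24687 = N24687 := ded_8_2 (flp_a L192181) L160020 L192181
theorem L192184 : sm gb N24687 = N21142 := ded_7_2 L166660 L115511 (flp_a L115551) (flp_b L156202) L156200 (flp_b L150460) L111007 L160018 L192181
theorem L192186 : sm ge N20292 = N24688 := rfl
theorem L192188 : sm gb N24688 = N20293 := ded_15_1 (flp_e L160021) L160018 L192186
theorem L192190 : sm gc N24688 = N24688 := ded_19_1 (flp_e L192186) L160020 L192186
theorem L192191 : sm gg N24687 = N24688 := ded_17_0 L192188 (flp_g L191129) L191125 L167054 (flp_b L192184)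
theorem L192193 : sm gf N20292 = N24689 := rfl
theorem L192195 : sm gc N24689 = N24689 := ded_20_1 (flp_f L192193) L160020 L192193
theorem L192196 : sm gg N20292 = N24690 := rfl
theorem L192198 : sm ga N24690 = N24688 := ded_12_1 (flp_g L192191) (flp_a L192181) L192196
theorem L192200 : sm gc N24690 = N24690 := ded_21_1 (flp_g L192196) L160020 L192196
theorem L192201 : sm ge N24690 = N24687 := ded_26_1 L192191 (flp_e L192186) L192196
theorem L192203 : sm gb N24690 = N24481 := ded_17_1 (flp_g L190916) L190918 L159341 L160018 L192196
theorem L192205 : sm gd N20293 = N24691 := rfl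
theorem L192207 : sm gg N24691 = N23271 := ded_24_2 L191131 L191129 L192205
theorem L192209 : sm gc N24691 = N23274 := ded_28_6 L181713 (flp_a L181663) L181665 L149719 L116710 (flp_d L110708) (flp_c L160023) L192205
theorem L192211 : sm gf N20293 = N24692 := rfl
theorem L192213 : sm gc N24692 = N20295 := ded_20_1 (flp_f L160029) (flp_c L160023) L192211
theorem L192215 : sm ge N24692 = N20294 := ded_25_1 (flp_f L160025) L160021 L192211
theorem L192217 : sm gb N20294 = N24693 := rfl
theorem L192219 : sm gb N20295 = N24694 := rfl
theorem L192221 : sm gd N24694 = N21423 := ded_14_2 (flp_b L168397) (flp_d L160031) L192219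
theorem L192223 : sm ge N24694 = N20296 := ded_15_2 (flp_b L160035) (flp_e L160033) L192219
theorem L192225 : sm gf N24694 = N24694 := ded_16_2 (flp_b L192219) (flp_f L160029) L110707 L160029 L192219
theorem L192226 : sm ga N21423 = N24694 := ded_10_3 L192223 (flp_a L160040) (flp_e L168399)
theorem L192228 : sm gc N20296 = N24695 := rfl
theorem L192230 : sm ga N24695 = N21424 := ded_8_1 (flp_c L168402) L160040 L192228
theorem L192232 : sm gf N24695 = N24695 := ded_20_2 (flp_c L192228) L160039 L192228
theorem L192233 : sm gg N20296 = N24696 := rfl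
theorem L192235 : sm ga N24696 = N21425 := ded_12_1 (flp_g L168405) L160040 L192233
theorem L192237 : sm gd N24696 = N20298 := ded_24_1 (flp_g L160050) (flp_d L160037) L192233
theorem L192239 : sm gf N21425 = N24696 := ded_29_0 (flp_g L192233) L160039 L192233 L192235
theorem L192241 : sm gb N20297 = N24697 := rfl
theorem L192243 : sm gd N24697 = N20299 := ded_14_2 (flp_b L160058) (flp_d L160046) L192241
theorem L192245 : sm gb N20298 = N24698 := rfl
theorem L192247 : sm ge N24698 = N21429 := ded_15_2 (flp_b L168434) (flp_e L160054) L192245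
theorem L192249 : sm gf N24698 = N21411 := ded_16_2 (flp_b L192151) L192149 (flp_b L168434) L160056 L192245
theorem L192251 : sm gg N24698 = N20299 := ded_17_2 (flp_b L160058) (flp_g L110719) L110714 L160050 L192245
theorem L192253 : sm ga N24698 = N21408 := ded_7_1 (flp_b L168318) (flp_a L167244) L167250 (flp_a L116727) L168409 (flp_a L168456) (flp_b L168434) (flp_a L160052) L192245
theorem L192255 : sm ga N20299 = N24699 := rfl
theorem L192257 : sm ge N24699 = N21430 := ded_10_2 (flp_a L168438) (flp_e L160060) L192255
theorem L192259 : sm gg N24699 = N21408 := ded_12_2 (flp_a L192253) L192251 L192255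
theorem L192261 : sm gc N20299 = N24700 := rfl
theorem L192263 : sm ge N24700 = N21431 := ded_19_2 (flp_c L168440) (flp_e L160060) L192261
theorem L192265 : sm gb N24700 = N20301 := ded_13_1 (flp_c L160070) (flp_b L110729) (flp_c L110723) L160058 L192261
theorem L192267 : sm gf N20301 = N24701 := rfl
theorem L192269 : sm gc N24701 = N20302 := ded_20_1 (flp_f L160074) L160070 L192267
theorem L192271 : sm ge N24701 = N21449 := ded_25_1 (flp_f L168562) (flp_e L160072) L192267
theorem L192273 : sm gg N20302 = N24702 := rfl
theorem L192275 : sm ga N24702 = N21402 := ded_12_1 L168272 (flp_a L167344) L192273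
theorem L192277 : sm gd N24702 = N20370 := ded_24_1 (flp_g L160534) (flp_d L160076) L192273
theorem L192279 : sm ge N24702 = N21450 := ded_26_1 (flp_g L168566) (flp_e L160078) L192273
theorem L192281 : sm gf N21400 = N24702 := ded_29_0 (flp_g L192273) (flp_f L160074) (flp_g L116643) L168258
theorem L192283 : sm gb N24702 = N24680 := ded_17_1 L192135 L191107 (flp_g L191099) (flp_b L160080) L192273
theorem L192285 : sm gb N20305 = N24703 := rfl
theorem L192287 : sm gd N24703 = N20306 := ded_14_2 (flp_b L160112) (flp_d L160110) L192285
theorem L192289 : sm gg N24703 = N20311 := ded_17_2 (flp_b L160154) (flp_g L110809) (flp_b L110777) L160104 L192285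
theorem L192291 : sm ga N24047 = N24703 := ded_9_3 L192287 (flp_a L160120) L187617
theorem L192293 : sm gf N20306 = N24704 := rfl
theorem L192295 : sm ga N24704 = N24048 := ded_11_1 (flp_f L187619) L160120 L192293
theorem L192297 : sm gc N24704 = N24046 := ded_20_1 (flp_f L187605) (flp_c L160116) L192293
theorem L192299 : sm ge N24704 = N20582 := ded_25_1 (flp_f L161750) (flp_e L160114) L192293
theorem L192301 : sm ga N20307 = N24705 := rfl
theorem L192303 : sm gc N24705 = N23192 := ded_8_2 L181159 (flp_c L160126) L192301
theorem L192305 : sm gd N24705 = N24665 := ded_9_2 (flp_a L192035) (flp_d L160124) L192301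
theorem L192307 : sm ge N20307 = N24706 := rfl
theorem L192309 : sm gb N24706 = N20308 := ded_15_1 (flp_e L160128) L160122 L192307
theorem L192311 : sm gc N24706 = N23206 := ded_19_1 (flp_e L181249) (flp_c L160126) L192307
theorem L192313 : sm gf N20307 = N24707 := rfl
theorem L192315 : sm gc N24707 = N23207 := ded_20_1 (flp_f L181255) (flp_c L160126) L192313
theorem L192317 : sm gd N24707 = N24667 := ded_23_1 (flp_f L192047) (flp_d L160124) L192313
theorem L192319 : sm gg N20307 = N24708 := rfl
theorem L192321 : sm gc N24708 = N23208 := ded_21_1 (flp_g L181259) (flp_c L160126) L192319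
theorem L192323 : sm gd N24708 = N24668 := ded_24_1 (flp_g L192056) (flp_d L160124) L192319
theorem L192325 : sm gd N20308 = N24709 := rfl
theorem L192327 : sm ga N24709 = N20318 := ded_9_1 (flp_d L160210) (flp_a L160130) L192325
theorem L192329 : sm ge N24709 = N24669 := ded_22_2 (flp_d L192059) (flp_e L159892) L110801 L160128 L192325
theorem L192331 : sm gg N20308 = N24710 := rfl
theorem L192333 : sm ga N24710 = N20319 := ded_12_1 (flp_g L160212) (flp_a L160130) L192331
theorem L192335 : sm gc N24710 = N20310 := ded_21_1 (flp_g L160144) (flp_c L160132) L192331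
theorem L192337 : sm ge N24710 = N20309 := ded_26_1 (flp_g L160134) L160128 L192331
theorem L192339 : sm gf N24710 = N24574 := ded_29_2 (flp_g L191391) (flp_a L191351) L191355 L192331
theorem L192341 : sm gb N20309 = N24711 := rfl
theorem L192343 : sm gd N24711 = N24671 := ded_14_2 (flp_b L192071) (flp_d L160140) L192341
theorem L192345 : sm gb N20310 = N24712 := rfl
theorem L192347 : sm gd N24712 = N20583 := ded_14_2 (flp_b L161756) (flp_d L160148) L192345
theorem L192349 : sm ge N24712 = N20311 := ded_15_2 (flp_b L160154) (flp_e L160150) L192345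
theorem L192351 : sm ga N20311 = N24713 := rfl
theorem L192353 : sm gd N24713 = N20312 := ded_9_2 (flp_a L160158) (flp_d L160156) L192351
theorem L192355 : sm gg N24713 = N24047 := ded_12_2 L192291 L192289 L192351
theorem L192357 : sm gc N20311 = N24714 := rfl
theorem L192359 : sm gf N20311 = N24715 := rfl
theorem L192361 : sm gd N24715 = N20314 := ded_23_1 (flp_f L160178) (flp_d L160156) L192359
theorem L192363 : sm gb N24715 = N24579 := ded_16_1 (flp_f L191411) (flp_b L159535) (flp_f L110815) L160154 L192359
theorem L192365 : sm gb N20312 = N24716 := rfl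
theorem L192367 : sm ge N24716 = N20587 := ded_15_2 (flp_b L161774) (flp_e L160160) L192365
theorem L192369 : sm gc N24716 = N24036 := ded_13_2 (flp_b L187537) L156296 L156312 L160164 L192365
theorem L192371 : sm gf N20312 = N24717 := rfl
theorem L192373 : sm ga N24717 = N20314 := ded_11_1 (flp_f L160178) L160158 L192371
theorem L192375 : sm gc N24717 = N24037 := ded_20_1 (flp_f L187543) L160164 L192371
theorem L192377 : sm ge N24717 = N20588 := ded_25_1 (flp_f L161778) (flp_e L160160) L192371
theorem L192379 : sm gg N24717 = N24704 := ded_29_3 L192295 (flp_f L187619) (flp_g L160162) L192371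
theorem L192381 : sm gc N20315 = N24718 := rfl
theorem L192383 : sm ga N24718 = N21076 := ded_8_1 L166162 (flp_a L160190) L192381
theorem L192385 : sm ge N24718 = N20590 := ded_19_2 (flp_c L161798) (flp_e L160186) L192381
theorem L192387 : sm gf N24718 = N21074 := ded_20_2 (flp_c L166150) (flp_f L160188) L192381
theorem L192389 : sm gg N24718 = N24462 := ded_21_2 L190635 L160192 L192381
theorem L192391 : sm gb N24718 = N24123 := ded_13_1 L188117 L156731 L156134 L160184 L192381
theorem L192393 : sm gd N20316 = N24719 := rfl
theorem L192395 : sm ga N24719 = N24669 := ded_9_1 (flp_d L192059) (flp_a L160196) L192393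
theorem L192397 : sm gb N24719 = N24509 := ded_14_1 (flp_d L190939) (flp_b L160198) L192393
theorem L192399 : sm ge N24719 = N20318 := ded_22_2 (flp_d L160210) (flp_e L110843) L110837 L160194 L192393
theorem L192401 : sm gg N20316 = N24720 := rfl
theorem L192403 : sm ga N24720 = N24670 := ded_12_1 (flp_g L192065) (flp_a L160196) L192401
theorem L192405 : sm gc N24720 = N21210 := ded_21_1 L167134 (flp_c L160200) L192401
theorem L192407 : sm ge N24720 = N20317 := ded_26_1 (flp_g L160202) L160194 L192401
theorem L192409 : sm gf N24720 = N21209 := ded_29_2 L190989 L190979 L167882 L192401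
theorem L192411 : sm gb N20317 = N24721 := rfl
theorem L192413 : sm gd N24721 = N20320 := ded_14_2 (flp_b L160218) (flp_d L160208) L192411
theorem L192415 : sm gc N20318 = N24722 := rfl
theorem L192417 : sm gd N24722 = N20377 := ded_28_7 (flp_a L161828) (flp_c L161826) (flp_d L111984) L93488 (flp_d L92831) (flp_c L110845) L160210 L192415
theorem L192419 : sm gb N20375 = N24722 := ded_14_3 L192417 (flp_b L160584) (flp_d L160576)
theorem L192421 : sm gg N20318 = N24723 := rfl
theorem L192423 : sm gd N24723 = N20319 := ded_24_1 (flp_g L160212) L160210 L192421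
theorem L192425 : sm gb N20319 = N24724 := rfl
theorem L192427 : sm ge N24724 = N20320 := ded_15_2 (flp_b L160218) (flp_e L160216) L192425
theorem L192429 : sm gf N20319 = N24725 := rfl
theorem L192431 : sm ga N24725 = N24574 := ded_11_1 (flp_f L192339) L192333 L192429
theorem L192433 : sm gc N24725 = N20323 := ded_20_1 (flp_f L160236) (flp_c L160214) L192429
theorem L192435 : sm ge N24725 = N20321 := ded_25_1 (flp_f L160220) (flp_e L160216) L192429
theorem L192437 : sm gg N24725 = N24567 := ded_29_3 L191351 L159523 L160212 L192429
theorem L192439 : sm ga N20320 = N24726 := rfl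
theorem L192441 : sm gc N20320 = N24727 := rfl
theorem L192443 : sm gb N24727 = N20325 := ded_13_1 (flp_c L160252) (flp_b L110857) (flp_c L110849) L160218 L192441
theorem L192445 : sm gf N20320 = N24728 := rfl
theorem L192447 : sm ga N20322 = N24729 := rfl
theorem L192449 : sm gd N24729 = N20596 := ded_9_2 (flp_a L161858) (flp_d L160230) L192447
theorem L192451 : sm ge N24729 = N20324 := ded_10_2 (flp_a L160246) (flp_e L160232) L192447
theorem L192453 : sm gg N24729 = N20394 := ded_12_2 (flp_a L160674) (flp_g L160234) L192447
theorem L192455 : sm gc N20322 = N24730 := rfl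
theorem L192457 : sm ge N24730 = N20325 := ded_19_2 (flp_c L160252) (flp_e L160232) L192455
theorem L192459 : sm gg N24730 = N20395 := ded_21_2 (flp_c L160680) (flp_g L160234) L192455
theorem L192461 : sm gb N20323 = N24731 := rfl
theorem L192463 : sm gd N24731 = N20597 := ded_14_2 (flp_b L161864) (flp_d L160240) L192461
theorem L192465 : sm ge N24731 = N20327 := ded_15_2 (flp_b L160260) (flp_e L160242) L192461
theorem L192467 : sm gb N20324 = N24732 := rfl
theorem L192469 : sm gd N24732 = N20328 := ded_14_2 (flp_b L160264) (flp_d L160248) L192467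
theorem L192471 : sm gc N20324 = N24733 := rfl
theorem L192473 : sm ga N24733 = N20325 := ded_8_1 (flp_c L160252) L160246 L192471
theorem L192475 : sm gg N24733 = N20398 := ded_21_2 (flp_c L160696) (flp_g L160250) L192471
theorem L192477 : sm gd N20325 = N24734 := rfl
theorem L192479 : sm gg N24734 = N20400 := ded_24_2 (flp_d L160708) (flp_g L160254) L192477
theorem L192481 : sm gf N20325 = N24735 := rfl
theorem L192483 : sm gc N24735 = N20326 := ded_20_1 (flp_f L160256) L160252 L192481
theorem L192485 : sm gb N20326 = N24736 := rfl
theorem L192487 : sm gd N24736 = N20329 := ded_14_2 (flp_b L160268) (flp_d L160258) L192485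
theorem L192489 : sm gf N24736 = N20327 := ded_16_2 (flp_b L160260) (flp_f L110863) L110857 L160256 L192485
theorem L192491 : sm ga N20327 = N24737 := rfl
theorem L192493 : sm gd N24737 = N20330 := ded_9_2 (flp_a L160274) (flp_d L160262) L192491
theorem L192495 : sm gc N20327 = N24738 := rfl
theorem L192497 : sm gg N20327 = N24739 := rfl
theorem L192499 : sm gd N24739 = N20332 := ded_24_1 (flp_g L160284) (flp_d L160262) L192497
theorem L192501 : sm gb N24739 = N24564 := ded_17_1 (flp_g L191329) L159477 (flp_g L110869) L160260 L192497
theorem L192503 : sm ga N20328 = N24740 := rfl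
theorem L192505 : sm ge N24740 = N20601 := ded_10_2 (flp_a L161888) (flp_e L160266) L192503
theorem L192507 : sm gf N20328 = N24741 := rfl
theorem L192509 : sm ge N24741 = N20602 := ded_25_1 (flp_f L161890) (flp_e L160266) L192507
theorem L192511 : sm gg N23554 = N24741 := ded_26_0 L192509 (flp_g L161894) L183601
theorem L192513 : sm ga N20329 = N24742 := rfl
theorem L192515 : sm ge N24742 = N20603 := ded_10_2 (flp_a L161896) (flp_e L160270) L192513
theorem L192517 : sm gf N24742 = N20330 := ded_11_2 (flp_a L160274) (flp_f L160272) L192513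
theorem L192519 : sm gb N21110 = N24742 := ded_30_2 (flp_a L192513) L160272 L160278 L160282 (flp_a L160292) (flp_f L170714) (flp_c L170708) L159657 (flp_a L159661) (flp_f L159659) (flp_c L159647) (flp_b L166156) L166152 L166160 L166162 (flp_b L115389) L115385 L115377 L166412
theorem L192521 : sm gc N20329 = N24743 := rfl
theorem L192523 : sm ge N24743 = N20604 := ded_19_2 (flp_c L161902) (flp_e L160270) L192521
theorem L192525 : sm gf N24743 = N20331 := ded_20_2 (flp_c L160278) (flp_f L160272) L192521
theorem L192527 : sm gd N22872 = N24743 := ded_23_3 L192525 (flp_d L163679) (flp_f L178745)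
theorem L192529 : sm gg N20329 = N24744 := rfl
theorem L192531 : sm ge N24744 = N20605 := ded_26_1 (flp_g L161906) (flp_e L160270) L192529
theorem L192533 : sm gb N24744 = N23556 := ded_17_1 L183613 L152772 (flp_g L111173) L160268 L192529
theorem L192535 : sm gb N20330 = N24745 := rfl
theorem L192537 : sm ge N24745 = N20606 := ded_15_2 (flp_b L161912) (flp_e L160276) L192535
theorem L192539 : sm gf N24745 = N21771 := ded_16_2 L170614 (flp_f L166418) L192519 L192517 L192535
theorem L192541 : sm gc N21772 = N24745 := ded_19_3 L192537 (flp_c L161916) (flp_e L170618)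
theorem L192543 : sm gc N20330 = N24746 := rfl
theorem L192545 : sm ga N24746 = N20331 := ded_8_1 (flp_c L160278) L160274 L192543
theorem L192547 : sm ge N24746 = N20607 := ded_19_2 (flp_c L161918) (flp_e L160276) L192543
theorem L192549 : sm gd N22874 = N24746 := ded_9_0 L192545 (flp_d L163679) (flp_a L178753)
theorem L192551 : sm gg N20330 = N24747 := rfl
theorem L192553 : sm ga N24747 = N20332 := ded_12_1 (flp_g L160284) L160274 L192551
theorem L192555 : sm ge N24747 = N20608 := ded_26_1 (flp_g L161922) (flp_e L160276) L192551
theorem L192557 : sm gf N24747 = N24744 := ded_29_2 (flp_g L192529) L192513 L192517 L192551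
theorem L192559 : sm gg N20331 = N24748 := rfl
theorem L192561 : sm gc N24748 = N20332 := ded_21_1 (flp_g L160284) L160278 L192559
theorem L192563 : sm gd N24748 = N22876 := ded_24_1 (flp_g L178767) L163679 L192559
theorem L192565 : sm ge N24748 = N20610 := ded_26_1 (flp_g L161932) (flp_e L160280) L192559
theorem L192567 : sm gf N20332 = N24749 := rfl
theorem L192569 : sm ga N24749 = N24744 := ded_11_1 (flp_f L192557) L192553 L192567
theorem L192571 : sm ge N24749 = N20611 := ded_25_1 (flp_f L161936) (flp_e L160286) L192567
theorem L192573 : sm gg N24749 = N24742 := ded_29_3 (flp_a L192513) L160272 L160284 L192567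
theorem L192575 : sm gb N20333 = N24750 := rfl
theorem L192577 : sm gd N24750 = N23152 := ded_14_2 (flp_b L180879) L163677 L192575
theorem L192579 : sm ge N24750 = N20612 := ded_15_2 (flp_b L161942) (flp_e L160294) L192575
theorem L192581 : sm gc N24750 = N21189 := ded_13_2 (flp_b L166962) L115707 L110889 L160290 L192575
theorem L192583 : sm gf N21705 = N24750 := ded_25_0 L192579 (flp_f L161946) (flp_e L170192)
theorem L192585 : sm gb N20335 = N24751 := rfl
theorem L192587 : sm gd N24751 = N23154 := ded_14_2 (flp_b L180895) (flp_d L163612) L192585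
theorem L192589 : sm ge N24751 = N20617 := ded_15_2 (flp_b L161960) (flp_e L160302) L192585
theorem L192591 : sm gc N24751 = N24557 := ded_13_2 (flp_b L191279) L159447 (flp_b L110899) (flp_c L160300) L192585
theorem L192593 : sm gf N24751 = N22578 := ded_16_2 L176292 L142702 (flp_b L164845) L164849 L192585
theorem L192595 : sm gb N20338 = N24752 := rfl
theorem L192597 : sm gd N24752 = N20340 := ded_14_2 (flp_b L160342) (flp_d L160330) L192595
theorem L192599 : sm gf N24752 = N20345 := ded_16_2 (flp_b L160384) (flp_f L110977) (flp_b L110945) L160324 L192595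
theorem L192601 : sm ga N24098 = N24752 := ded_9_3 L192597 (flp_a L160350) L187963
theorem L192603 : sm gg N20340 = N24753 := rfl
theorem L192605 : sm ga N24753 = N24099 := ded_12_1 (flp_g L187965) L160350 L192603
theorem L192607 : sm gc N24753 = N24038 := ded_21_1 L187555 (flp_c L160346) L192603
theorem L192609 : sm ge N24753 = N20620 := ded_26_1 (flp_g L161980) (flp_e L160344) L192603
theorem L192611 : sm ga N20341 = N24754 := rfl
theorem L192613 : sm gc N24754 = N23268 := ded_8_2 L181681 (flp_c L160356) L192611
theorem L192615 : sm gd N24754 = N24687 := ded_9_2 (flp_a L192181) (flp_d L160354) L192611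
theorem L192617 : sm ge N20341 = N24755 := rfl
theorem L192619 : sm gb N24755 = N20342 := ded_15_1 (flp_e L160358) L160352 L192617
theorem L192621 : sm gc N24755 = N23281 := ded_19_1 (flp_e L181767) (flp_c L160356) L192617
theorem L192623 : sm gf N20341 = N24756 := rfl
theorem L192625 : sm gc N24756 = N23282 := ded_20_1 (flp_f L181773) (flp_c L160356) L192623
theorem L192627 : sm gd N24756 = N24689 := ded_23_1 (flp_f L192193) (flp_d L160354) L192623
theorem L192629 : sm gg N20341 = N24757 := rfl
theorem L192631 : sm gc N24757 = N23283 := ded_21_1 (flp_g L181777) (flp_c L160356) L192629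
theorem L192633 : sm gd N24757 = N24690 := ded_24_1 (flp_g L192196) (flp_d L160354) L192629
theorem L192635 : sm gd N20342 = N24758 := rfl
theorem L192637 : sm ga N24758 = N20352 := ded_9_1 (flp_d L160440) (flp_a L160360) L192635
theorem L192639 : sm ge N24758 = N24691 := ded_22_2 (flp_d L192205) (flp_e L160021) L110969 L160358 L192635
theorem L192641 : sm gf N20342 = N24759 := rfl
theorem L192643 : sm ga N24759 = N20353 := ded_11_1 (flp_f L160442) (flp_a L160360) L192641
theorem L192645 : sm gc N24759 = N20344 := ded_20_1 (flp_f L160374) (flp_c L160362) L192641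
theorem L192647 : sm ge N24759 = N20343 := ded_25_1 (flp_f L160364) L160358 L192641
theorem L192649 : sm gg N24629 = N24759 := ded_29_1 (flp_f L192641) (flp_g L191738) L191734 L191772
theorem L192651 : sm gb N20343 = N24760 := rfl
theorem L192653 : sm gd N24760 = N24693 := ded_14_2 (flp_b L192217) (flp_d L160370) L192651
theorem L192655 : sm gb N20344 = N24761 := rfl
theorem L192657 : sm gd N24761 = N20621 := ded_14_2 (flp_b L161986) (flp_d L160378) L192655
theorem L192659 : sm ge N24761 = N20345 := ded_15_2 (flp_b L160384) (flp_e L160380) L192655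
theorem L192661 : sm ga N20345 = N24762 := rfl
theorem L192663 : sm gd N24762 = N20346 := ded_9_2 (flp_a L160388) (flp_d L160386) L192661
theorem L192665 : sm gf N24762 = N24098 := ded_11_2 L192601 L192599 L192661
theorem L192667 : sm gc N20345 = N24763 := rfl
theorem L192669 : sm gg N20345 = N24764 := rfl
theorem L192671 : sm gd N24764 = N20348 := ded_24_1 (flp_g L160408) (flp_d L160386) L192669
theorem L192673 : sm gb N24764 = N24634 := ded_17_1 (flp_g L191792) (flp_b L159735) L110983 L160384 L192669
theorem L192675 : sm gb N20346 = N24765 := rfl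
theorem L192677 : sm ge N24765 = N20625 := ded_15_2 (flp_b L162004) (flp_e L160390) L192675
theorem L192679 : sm gc N24765 = N24089 := ded_13_2 (flp_b L187901) L156543 L156547 L160394 L192675
theorem L192681 : sm gg N20346 = N24766 := rfl
theorem L192683 : sm ga N24766 = N20348 := ded_12_1 (flp_g L160408) L160388 L192681
theorem L192685 : sm gc N24766 = N24090 := ded_21_1 (flp_g L187907) L160394 L192681
theorem L192687 : sm ge N24766 = N20626 := ded_26_1 (flp_g L162008) (flp_e L160390) L192681
theorem L192689 : sm gf N24753 = N24766 := ded_29_0 (flp_g L192681) L160392 L187965 (flp_a L192605)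
theorem L192691 : sm gc N20349 = N24767 := rfl
theorem L192693 : sm ga N24767 = N21073 := ded_8_1 L166146 (flp_a L160420) L192691
theorem L192695 : sm ge N24767 = N20628 := ded_19_2 (flp_c L162028) (flp_e L160416) L192691
theorem L192697 : sm gf N24767 = N24460 := ded_20_2 L190621 L160422 L192691
theorem L192699 : sm gg N24767 = N21071 := ded_21_2 (flp_c L166134) (flp_g L160418) L192691
theorem L192701 : sm gb N24767 = N24071 := ded_13_1 L187763 L156474 L156244 L160414 L192691
theorem L192703 : sm gd N20350 = N24768 := rfl
theorem L192705 : sm ga N24768 = N24691 := ded_9_1 (flp_d L192205) (flp_a L160426) L192703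
theorem L192707 : sm gb N24768 = N24529 := ded_14_1 (flp_d L191083) (flp_b L160428) L192703
theorem L192709 : sm ge N24768 = N20352 := ded_22_2 (flp_d L160440) (flp_e L111011) L111005 L160424 L192703
theorem L192711 : sm gf N20350 = N24769 := rfl
theorem L192713 : sm ga N24769 = N24692 := ded_11_1 (flp_f L192211) (flp_a L160426) L192711
theorem L192715 : sm gc N24769 = N21234 := ded_20_1 (flp_f L167272) (flp_c L160430) L192711
theorem L192717 : sm ge N24769 = N20351 := ded_25_1 (flp_f L160432) L160424 L192711
theorem L192719 : sm gg N21233 = N24769 := ded_29_1 (flp_f L192711) (flp_g L168316) (flp_a L191123) (flp_f L191133)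
theorem L192721 : sm gb N20351 = N24770 := rfl
theorem L192723 : sm gd N24770 = N20354 := ded_14_2 (flp_b L160448) (flp_d L160438) L192721
theorem L192725 : sm gc N20352 = N24771 := rfl
theorem L192727 : sm gd N24771 = N20413 := ded_28_7 (flp_a L162058) (flp_c L162056) (flp_d L112214) L93627 (flp_d L92903) (flp_c L111013) L160440 L192725
theorem L192729 : sm gb N20411 = N24771 := ded_14_3 L192727 (flp_b L160784) (flp_d L160778)
theorem L192731 : sm gf N20352 = N24772 := rfl
theorem L192733 : sm gd N24772 = N20353 := ded_23_1 (flp_f L160442) L160440 L192731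
theorem L192735 : sm gb N20353 = N24773 := rfl
theorem L192737 : sm ge N24773 = N20354 := ded_15_2 (flp_b L160448) (flp_e L160446) L192735
theorem L192739 : sm gg N20353 = N24774 := rfl
theorem L192741 : sm ga N24774 = N24629 := ded_12_1 L192649 L192643 L192739
theorem L192743 : sm gc N24774 = N20357 := ded_21_1 (flp_g L160466) (flp_c L160444) L192739
theorem L192745 : sm ge N24774 = N20355 := ded_26_1 (flp_g L160450) (flp_e L160446) L192739
theorem L192747 : sm gf N24622 = N24774 := ded_29_0 (flp_g L192739) (flp_f L160442) (flp_g L159723) (flp_a L191734)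
theorem L192749 : sm ga N20354 = N24775 := rfl
theorem L192751 : sm gc N20354 = N24776 := rfl
theorem L192753 : sm gb N24776 = N20359 := ded_13_1 (flp_c L160482) (flp_b L111025) (flp_c L111017) L160448 L192751
theorem L192755 : sm gg N20354 = N24777 := rfl
theorem L192757 : sm ga N20356 = N24778 := rfl
theorem L192759 : sm gd N24778 = N20634 := ded_9_2 (flp_a L162090) (flp_d L160460) L192757
theorem L192761 : sm ge N24778 = N20358 := ded_10_2 (flp_a L160476) (flp_e L160462) L192757
theorem L192763 : sm gf N24778 = N20429 := ded_11_2 (flp_a L160870) (flp_f L160464) L192757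
theorem L192765 : sm gc N20356 = N24779 := rfl
theorem L192767 : sm ge N24779 = N20359 := ded_19_2 (flp_c L160482) (flp_e L160462) L192765
theorem L192769 : sm gf N24779 = N20430 := ded_20_2 (flp_c L160876) (flp_f L160464) L192765
theorem L192771 : sm gb N20357 = N24780 := rfl
theorem L192773 : sm gd N24780 = N20635 := ded_14_2 (flp_b L162098) (flp_d L160470) L192771
theorem L192775 : sm ge N24780 = N20361 := ded_15_2 (flp_b L160490) (flp_e L160472) L192771
theorem L192777 : sm gc N24780 = N24737 := ded_28_2 L192493 L192543 (flp_d L192549) (flp_c L178751) (flp_d L178625) (flp_a L178623) (flp_c L162102) (flp_d L192773)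
theorem L192779 : sm ga N24780 = N24738 := ded_28_8 (flp_c L192495) L160262 L160278 (flp_d L163679) (flp_c L130030) (flp_d L129938) (flp_c L162102) (flp_d L192773)
theorem L192781 : sm gb N20358 = N24781 := rfl
theorem L192783 : sm gd N24781 = N20362 := ded_14_2 (flp_b L160494) (flp_d L160478) L192781
theorem L192785 : sm gc N20358 = N24782 := rfl
theorem L192787 : sm ga N24782 = N20359 := ded_8_1 (flp_c L160482) L160476 L192785
theorem L192789 : sm gf N24782 = N20433 := ded_20_2 (flp_c L160892) (flp_f L160480) L192785
theorem L192791 : sm gd N20359 = N24783 := rfl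
theorem L192793 : sm gf N24783 = N20435 := ded_23_2 (flp_d L160904) (flp_f L160484) L192791
theorem L192795 : sm gg N20359 = N24784 := rfl
theorem L192797 : sm gc N24784 = N20360 := ded_21_1 (flp_g L160486) L160482 L192795
theorem L192799 : sm gb N20360 = N24785 := rfl
theorem L192801 : sm gd N24785 = N20363 := ded_14_2 (flp_b L160498) (flp_d L160488) L192799
theorem L192803 : sm gg N24785 = N20361 := ded_17_2 (flp_b L160490) (flp_g L111031) L111025 L160486 L192799
theorem L192805 : sm ga N20361 = N24786 := rfl
theorem L192807 : sm gd N24786 = N20364 := ded_9_2 (flp_a L160504) (flp_d L160492) L192805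
theorem L192809 : sm ge N24786 = N24738 := ded_10_2 (flp_a L192779) L192775 L192805
theorem L192811 : sm gc N24786 = N24731 := ded_28_0 L192463 L161868 L129914 L129984 L163836 (flp_c L160508) (flp_d L160492) L192805
theorem L192813 : sm gc N20361 = N24787 := rfl
theorem L192815 : sm ga N24787 = N24731 := ded_8_1 (flp_c L192811) (flp_a L192805) L192813
theorem L192817 : sm ge N24787 = N24737 := ded_19_2 (flp_c L192777) L192775 L192813
theorem L192819 : sm gf N20361 = N24788 := rfl
theorem L192821 : sm gd N24788 = N20366 := ded_23_1 (flp_f L160514) (flp_d L160492) L192819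
theorem L192823 : sm gb N24788 = N24618 := ded_16_1 (flp_f L191702) L159677 L111037 L160490 L192819
theorem L192825 : sm ga N20362 = N24789 := rfl
theorem L192827 : sm ge N24789 = N20639 := ded_10_2 (flp_a L162122) (flp_e L160496) L192825
theorem L192829 : sm gg N20362 = N24790 := rfl
theorem L192831 : sm ge N24790 = N20640 := ded_26_1 (flp_g L162124) (flp_e L160496) L192829
theorem L192833 : sm gf N23613 = N24790 := ded_25_0 L192831 (flp_f L162128) L184043
theorem L192835 : sm ga N20363 = N24791 := rfl
theorem L192837 : sm ge N24791 = N20641 := ded_10_2 (flp_a L162130) (flp_e L160500) L192835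
theorem L192839 : sm gg N24791 = N20364 := ded_12_2 (flp_a L160504) (flp_g L160502) L192835
theorem L192841 : sm gb N21117 = N24791 := ded_15_3 L192837 L162792 (flp_e L166462)
theorem L192843 : sm gc N20363 = N24792 := rfl
theorem L192845 : sm ge N24792 = N20642 := ded_19_2 (flp_c L162134) (flp_e L160500) L192843
theorem L192847 : sm gg N24792 = N20365 := ded_21_2 (flp_c L160508) (flp_g L160502) L192843
theorem L192849 : sm gd N22861 = N24792 := ded_24_3 L192847 (flp_d L163836) (flp_g L178667)
theorem L192851 : sm gf N20363 = N24793 := rfl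
theorem L192853 : sm ge N24793 = N20643 := ded_25_1 (flp_f L162138) (flp_e L160500) L192851
theorem L192855 : sm gb N24793 = N23615 := ded_16_1 L184055 L153187 L111289 L160498 L192851
theorem L192857 : sm gb N20364 = N24794 := rfl
theorem L192859 : sm ge N24794 = N20644 := ded_15_2 (flp_b L162144) (flp_e L160506) L192857
theorem L192861 : sm gg N24794 = N21612 := ded_17_2 L169599 (flp_g L166464) L192841 L192839 L192857
theorem L192863 : sm gc N21613 = N24794 := ded_19_3 L192859 L162802 (flp_e L169603)
theorem L192865 : sm gc N20364 = N24795 := rfl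
theorem L192867 : sm ga N24795 = N20365 := ded_8_1 (flp_c L160508) L160504 L192865
theorem L192869 : sm ge N24795 = N20645 := ded_19_2 (flp_c L162146) (flp_e L160506) L192865
theorem L192871 : sm gd N24795 = N22863 := ded_28_7 L178675 (flp_c L129984) (flp_d L129914) (flp_c L161868) (flp_d L192463) (flp_c L192811) L192807 L192865
theorem L192873 : sm gf N20364 = N24796 := rfl
theorem L192875 : sm ga N24796 = N20366 := ded_11_1 (flp_f L160514) L160504 L192873
theorem L192877 : sm ge N24796 = N20646 := ded_25_1 (flp_f L162150) (flp_e L160506) L192873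
theorem L192879 : sm gg N24793 = N24796 := ded_29_1 (flp_f L192873) (flp_g L192839) (flp_a L192835) L192851
theorem L192881 : sm gf N20365 = N24797 := rfl
theorem L192883 : sm gc N24797 = N20366 := ded_20_1 (flp_f L160514) L160508 L192881
theorem L192885 : sm gd N24797 = N22865 := ded_23_1 (flp_f L178689) L163836 L192881
theorem L192887 : sm ge N24797 = N20648 := ded_25_1 (flp_f L162160) (flp_e L160510) L192881
theorem L192889 : sm gg N20366 = N24798 := rfl
theorem L192891 : sm ga N24798 = N24793 := ded_12_1 L192879 L192875 L192889
theorem L192893 : sm ge N24798 = N20649 := ded_26_1 (flp_g L162164) (flp_e L160516) L192889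
theorem L192895 : sm gf N24791 = N24798 := ded_29_0 (flp_g L192889) (flp_f L160514) (flp_g L160502) L192835
theorem L192897 : sm gb N20367 = N24799 := rfl
theorem L192899 : sm gd N24799 = N23137 := ded_14_2 (flp_b L180769) L163834 L192897
theorem L192901 : sm ge N24799 = N20650 := ded_15_2 (flp_b L162170) (flp_e L160524) L192897
theorem L192903 : sm gc N24799 = N21177 := ded_13_2 (flp_b L166879) L115633 L111057 L160520 L192897
theorem L192905 : sm gg N21546 = N24799 := ded_26_0 L192901 (flp_g L162174) (flp_e L169187)
theorem L192907 : sm gb N20369 = N24800 := rfl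
theorem L192909 : sm gd N24800 = N23139 := ded_14_2 (flp_b L180785) (flp_d L163768) L192907
theorem L192911 : sm ge N24800 = N20655 := ded_15_2 (flp_b L162188) (flp_e L160532) L192907
theorem L192913 : sm gc N24800 = N24611 := ded_13_2 (flp_b L191652) L159641 (flp_b L111067) (flp_c L160530) L192907
theorem L192915 : sm gg N24800 = N22624 := ded_17_2 L176713 L142776 (flp_b L165458) L165462 L192907
theorem L192917 : sm gg N20371 = N24801 := rfl
theorem L192919 : sm ga N24801 = N21473 := ded_12_1 (flp_g L168718) (flp_a L160546) L192917
theorem L192921 : sm gc N24801 = N22900 := ded_21_1 (flp_g L178993) L160550 L192917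
theorem L192923 : sm gd N24801 = N20372 := ded_24_1 (flp_g L160552) L160544 L192917
theorem L192925 : sm ge N24801 = N23343 := ded_26_1 L182213 L182161 L192917
theorem L192927 : sm gf N24801 = N23341 := ded_29_2 (flp_g L182189) (flp_a L182145) (flp_f L182151) L192917
theorem L192929 : sm gb N20372 = N24802 := rfl
theorem L192931 : sm ge N24802 = N20657 := ded_15_2 (flp_b L162200) (flp_e L160558) L192929
theorem L192933 : sm gg N24802 = N20378 := ded_17_2 (flp_b L160590) (flp_g L111088) L111069 L160552 L192929
theorem L192935 : sm gc N24340 = N24802 := ded_19_3 L192931 (flp_c L175458) (flp_e L189643)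
theorem L192937 : sm gb N20373 = N24803 := rfl
theorem L192939 : sm gc N24803 = N22897 := ded_13_2 L178979 L160550 L160548 L160562 L192937
theorem L192941 : sm gd N20373 = N24804 := rfl
theorem L192943 : sm ga N24804 = N20379 := ded_9_1 (flp_d L160594) (flp_a L160564) L192941
theorem L192945 : sm gc N20379 = N24804 := ded_28_0 (flp_d L192941) (flp_c L160562) (flp_d L111077) L92931 L111077 L160562 L192941 L192943
theorem L192947 : sm ge N20373 = N24805 := rfl
theorem L192949 : sm ga N24805 = N20380 := ded_10_1 (flp_e L160596) (flp_a L160564) L192947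
theorem L192951 : sm gc N24805 = N20374 := ded_19_1 (flp_e L160566) L160562 L192947
theorem L192953 : sm gf N20373 = N24806 := rfl
theorem L192955 : sm ga N24806 = N20381 := ded_11_1 (flp_f L160600) (flp_a L160564) L192953
theorem L192957 : sm gc N24806 = N20375 := ded_20_1 (flp_f L160572) L160562 L192953
theorem L192959 : sm gg N20373 = N24807 := rfl
theorem L192961 : sm ga N24807 = N20382 := ded_12_1 (flp_g L160604) (flp_a L160564) L192959
theorem L192963 : sm gc N24807 = N20376 := ded_21_1 (flp_g L160578) L160562 L192959
theorem L192965 : sm gf N20374 = N24808 := rfl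
theorem L192967 : sm ga N24808 = N20383 := ded_11_1 (flp_f L160608) (flp_a L160568) L192965
theorem L192969 : sm gd N24808 = N20660 := ded_23_1 (flp_f L162224) (flp_d L160570) L192965
theorem L192971 : sm ge N24808 = N20375 := ded_25_1 (flp_f L160572) L160566 L192965
theorem L192973 : sm gg N20374 = N24809 := rfl
theorem L192975 : sm ga N24809 = N20384 := ded_12_1 (flp_g L160614) (flp_a L160568) L192973
theorem L192977 : sm gd N24809 = N20661 := ded_24_1 (flp_g L162230) (flp_d L160570) L192973
theorem L192979 : sm ge N24809 = N20376 := ded_26_1 (flp_g L160578) L160566 L192973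
theorem L192981 : sm gb N20376 = N24810 := rfl
theorem L192983 : sm gd N24810 = N20378 := ded_14_2 (flp_b L160590) (flp_d L160582) L192981
theorem L192985 : sm gf N24339 = N24810 := ded_23_0 L192983 L175488 L189637
theorem L192987 : sm gg N20377 = N24811 := rfl
theorem L192989 : sm gc N24811 = N22115 := ded_21_1 (flp_g L172927) L160588 L192987
theorem L192991 : sm ge N24811 = N20663 := ded_26_1 (flp_g L162242) (flp_e L160586) L192987
theorem L192993 : sm gf N23531 = N24811 := ded_29_0 (flp_g L192987) (flp_f L183371) L183373 (flp_a L183377)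
theorem L192995 : sm ga N20378 = N24812 := rfl
theorem L192997 : sm gc N24812 = N24333 := ded_8_2 L189587 L175482 L192995
theorem L192999 : sm ge N24812 = N20664 := ded_10_2 (flp_a L162250) (flp_e L160592) L192995
theorem L193001 : sm gf N24812 = N24332 := ded_11_2 L189579 (flp_f L175488) L192995
theorem L193003 : sm ge N20379 = N24813 := rfl
theorem L193005 : sm gf N20379 = N24814 := rfl
theorem L193007 : sm gd N24814 = N20381 := ded_23_1 (flp_f L160600) L160594 L193005
theorem L193009 : sm gg N20379 = N24815 := rfl
theorem L193011 : sm gd N24815 = N20382 := ded_24_1 (flp_g L160604) L160594 L193009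
theorem L193013 : sm gd N20380 = N24816 := rfl
theorem L193015 : sm gc N20383 = N24816 := ded_28_0 (flp_d L193013) L160598 L111101 (flp_c L112346) L162257 (flp_c L162265) (flp_d L192969) L192967
theorem L193017 : sm ge N24816 = N20381 := ded_19_2 L160602 (flp_e L160612) L193015
theorem L193019 : sm gf N24816 = N20380 := ded_20_2 L160598 L160608 L193015
theorem L193021 : N24814 = N24813 := coi_22_2 (flp_e L193003) (flp_d L160594) L160596 L193013 L193017 (flp_d L193007)
theorem L193022 : N24814 = N24813 := eqc rfl L193021 rfl
theorem L193023 : sm gd N24813 = N20381 := trfs L193022 L193007 rfl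
theorem L193025 : sm gf N24813 = N20379 := trfs L193022 (flp_f L193005) rfl
theorem L193027 : sm gg N20380 = N24817 := rfl
theorem L193029 : sm gc N24817 = N20384 := ded_21_1 (flp_g L160614) (flp_c L160598) L193027
theorem L193031 : sm ge N24817 = N20382 := ded_26_1 (flp_g L160604) L160596 L193027
theorem L193033 : sm gg N20381 = N24818 := rfl
theorem L193035 : sm gc N24818 = N20385 := ded_21_1 (flp_g L160620) (flp_c L160602) L193033
theorem L193037 : sm gf N24807 = N24818 := ded_29_0 (flp_g L193033) (flp_f L160600) L160604 (flp_a L192961)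
theorem L193039 : sm gb N20382 = N24819 := rfl
theorem L193041 : sm gf N20382 = N24820 := rfl
theorem L193043 : sm ga N24820 = N24818 := ded_11_1 (flp_f L193037) L192961 L193041
theorem L193045 : sm gc N24820 = N20386 := ded_20_1 (flp_f L160626) (flp_c L160606) L193041
theorem L193047 : sm gg N24820 = N24806 := ded_29_3 L192955 (flp_f L160600) L160604 L193041
theorem L193049 : sm gg N20383 = N24821 := rfl
theorem L193051 : sm gd N24821 = N20670 := ded_24_1 (flp_g L162285) (flp_d L160610) L193049
theorem L193053 : sm ge N24821 = N20385 := ded_26_1 (flp_g L160620) (flp_e L160612) L193049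
theorem L193055 : sm gf N24809 = N24821 := ded_29_0 (flp_g L193049) (flp_f L160608) L160614 (flp_a L192975)
theorem L193057 : sm gf N20384 = N24822 := rfl
theorem L193059 : sm ga N24822 = N24821 := ded_11_1 (flp_f L193055) L192975 L193057
theorem L193061 : sm gd N24822 = N20672 := ded_23_1 (flp_f L162297) (flp_d L160616) L193057
theorem L193063 : sm ge N24822 = N20386 := ded_25_1 (flp_f L160626) (flp_e L160618) L193057
theorem L193065 : sm gg N24822 = N24808 := ded_29_3 L192967 (flp_f L160608) L160614 L193057
theorem L193067 : sm gb N20385 = N24823 := rfl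
theorem L193069 : sm gd N24823 = N20387 := ded_14_2 (flp_b L160634) (flp_d L160622) L193067
theorem L193071 : sm gb N20386 = N24824 := rfl
theorem L193073 : sm gd N24824 = N20390 := ded_14_2 (flp_b L160650) (flp_d L160630) L193071
theorem L193075 : sm ga N20387 = N24825 := rfl
theorem L193077 : sm ge N24825 = N20677 := ded_10_2 (flp_a L162333) (flp_e L160636) L193075
theorem L193079 : sm gb N23650 = N24825 := ded_15_3 L193077 (flp_b L183543) (flp_e L184318)
theorem L193081 : sm gb N20388 = N24826 := rfl
theorem L193083 : sm ge N24826 = N20680 := ded_15_2 (flp_b L162342) (flp_e L160640) L193081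
theorem L193085 : sm ga N20390 = N24827 := rfl
theorem L193087 : sm ge N24827 = N20681 := ded_10_2 (flp_a L162344) (flp_e L160652) L193085
theorem L193089 : sm gg N20390 = N24828 := rfl
theorem L193091 : sm ge N24828 = N20682 := ded_26_1 (flp_g L162346) (flp_e L160652) L193089
theorem L193093 : sm gb N24828 = N24811 := ded_17_1 (flp_g L192987) (flp_b L160584) (flp_g L111131) L160650 L193089
theorem L193095 : sm gf N20391 = N24829 := rfl
theorem L193097 : sm ge N24829 = N20685 := ded_25_1 (flp_f L162358) (flp_e L160656) L193095
theorem L193099 : sm gg N20391 = N24830 := rfl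
theorem L193101 : sm ge N24830 = N20686 := ded_26_1 (flp_g L162360) (flp_e L160656) L193099
theorem L193103 : sm gb N20393 = N24831 := rfl
theorem L193105 : sm ge N24831 = N20687 := ded_15_2 (flp_b L162362) (flp_e L160670) L193103
theorem L193107 : sm gg N24831 = N21834 := ded_17_2 (flp_b L171009) (flp_g L118316) (flp_b L111141) L160666 L193103
theorem L193109 : sm gb N20394 = N24832 := rfl
theorem L193111 : sm gd N24832 = N20698 := ded_14_2 (flp_b L162432) (flp_d L160676) L193109
theorem L193113 : sm ge N24832 = N20397 := ded_15_2 (flp_b L160692) (flp_e L160678) L193109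
theorem L193115 : sm gc N20394 = N24833 := rfl
theorem L193117 : sm ga N24833 = N20395 := ded_8_1 (flp_c L160680) L160674 L193115
theorem L193119 : sm ge N24833 = N20398 := ded_19_2 (flp_c L160696) (flp_e L160678) L193115
theorem L193121 : sm gd N20395 = N24834 := rfl
theorem L193123 : sm gf N20395 = N24835 := rfl
theorem L193125 : sm gc N24835 = N20396 := ded_20_1 (flp_f L160684) L160680 L193123
theorem L193127 : sm ge N24835 = N20401 := ded_25_1 (flp_f L160710) (flp_e L160682) L193123
theorem L193129 : sm gg N20396 = N24836 := rfl
theorem L193131 : sm ga N24836 = N20753 := ded_12_1 L182259 L182255 L193129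
theorem L193133 : sm gd N24836 = N20701 := ded_24_1 (flp_g L162452) (flp_d L160686) L193129
theorem L193135 : sm ge N24836 = N20402 := ded_26_1 (flp_g L160714) (flp_e L160688) L193129
theorem L193137 : sm gf N24729 = N24836 := ded_29_0 (flp_g L193129) (flp_f L160684) (flp_g L160234) L192447
theorem L193139 : sm gc N20397 = N24837 := rfl
theorem L193141 : sm ga N24837 = N23377 := ded_8_1 (flp_c L187825) L187757 L193139
theorem L193143 : sm gf N20397 = N24838 := rfl
theorem L193145 : sm gd N24838 = N20403 := ded_23_1 (flp_f L160722) (flp_d L160694) L193143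
theorem L193147 : sm gb N24838 = N23648 := ded_16_1 L184300 L182231 (flp_f L160700) L160692 L193143
theorem L193149 : sm gg N20397 = N24839 := rfl
theorem L193151 : sm gd N24839 = N20404 := ded_24_1 (flp_g L160730) (flp_d L160694) L193149
theorem L193153 : sm gb N20398 = N24840 := rfl
theorem L193155 : sm gd N20398 = N24841 := rfl
theorem L193157 : sm ga N24841 = N20400 := ded_9_1 (flp_d L160708) (flp_a L160698) L193155
theorem L193159 : sm gc N24841 = N20435 := ded_28_6 (flp_d L160904) (flp_a L160894) (flp_c L160892) L111267 L93025 (flp_d L111151) L160696 L193155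
theorem L193161 : sm gf N20398 = N24842 := rfl
theorem L193163 : sm ga N24842 = N20401 := ded_11_1 (flp_f L160710) (flp_a L160698) L193161
theorem L193165 : sm gc N24842 = N20399 := ded_20_1 (flp_f L160700) L160696 L193161
theorem L193167 : sm gg N24735 = N24842 := ded_29_1 (flp_f L193161) (flp_g L192475) L192473 L192481
theorem L193169 : sm gc N20400 = N24843 := rfl
theorem L193171 : sm ga N24843 = N20435 := ded_8_1 (flp_c L193159) L193157 L193169
theorem L193173 : sm gd N24843 = N20433 := ded_28_7 L160894 (flp_c L111269) L93021 L83374 (flp_d L92968) L111153 L160708 L193169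
theorem L193175 : sm ge N20400 = N24844 := rfl
theorem L193177 : sm gf N20400 = N24845 := rfl
theorem L193179 : sm gd N24845 = N20401 := ded_23_1 (flp_f L160710) L160708 L193177
theorem L193181 : sm gb N20401 = N24846 := rfl
theorem L193183 : sm gc N24846 = N21624 := ded_13_2 (flp_b L169653) L117471 (flp_b L111159) (flp_c L160712) L193181
theorem L193185 : sm gg N20401 = N24847 := rfl
theorem L193187 : sm ga N24847 = N24735 := ded_12_1 L193167 L193163 L193185
theorem L193189 : sm gc N24847 = N20402 := ded_21_1 (flp_g L160714) (flp_c L160712) L193185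
theorem L193191 : sm gf N24733 = N24847 := ded_29_0 (flp_g L193185) (flp_f L160710) (flp_g L160254) (flp_a L192473)
theorem L193193 : sm gb N20402 = N24848 := rfl
theorem L193195 : sm gd N24848 = N20405 := ded_14_2 (flp_b L160734) (flp_d L160718) L193193
theorem L193197 : sm gg N24848 = N21627 := ded_17_2 (flp_b L169673) (flp_g L117479) (flp_b L111159) L160714 L193193
theorem L193199 : sm gg N20403 = N24849 := rfl
theorem L193201 : sm ga N24849 = N24032 := ded_12_1 (flp_g L187767) L187761 L193199
theorem L193203 : sm gc N24849 = N23645 := ded_21_1 L184270 (flp_c L160724) L193199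
theorem L193205 : sm ge N24849 = N20706 := ded_26_1 (flp_g L162480) (flp_e L160726) L193199
theorem L193207 : sm gf N24072 = N24849 := ded_29_0 (flp_g L193199) (flp_f L160722) L160730 (flp_a L187771)
theorem L193209 : sm ga N20405 = N24850 := rfl
theorem L193211 : sm ge N24850 = N20708 := ded_10_2 (flp_a L162496) (flp_e L160736) L193209
theorem L193213 : sm gg N24850 = N21628 := ded_12_2 (flp_a L169677) (flp_g L160738) L193209
theorem L193215 : sm gb N24850 = N23531 := ded_7_2 L183377 L166244 (flp_a L166414) L192519 (flp_a L192513) (flp_b L160268) (flp_a L111177) L160734 L193209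
theorem L193217 : sm gc N20405 = N24851 := rfl
theorem L193219 : sm ge N24851 = N20709 := ded_19_2 (flp_c L162508) (flp_e L160736) L193217
theorem L193221 : sm gg N24851 = N21629 := ded_21_2 (flp_c L169681) (flp_g L160738) L193217
theorem L193223 : sm gb N24851 = N24792 := ded_13_1 (flp_c L192843) (flp_b L160498) (flp_c L111179) L160734 L193217
theorem L193225 : sm gf N20405 = N24852 := rfl
theorem L193227 : sm ge N24852 = N20710 := ded_25_1 (flp_f L162514) (flp_e L160736) L193225
theorem L193229 : sm gb N24852 = N24741 := ded_16_1 (flp_f L192507) (flp_b L160264) L111183 L160734 L193225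
theorem L193231 : sm gf N20406 = N24853 := rfl
theorem L193233 : sm ga N24853 = N21634 := ded_11_1 (flp_f L169729) (flp_a L160742) L193231
theorem L193235 : sm gc N24853 = N22929 := ded_20_1 (flp_f L179189) L160746 L193231
theorem L193237 : sm gd N24853 = N20407 := ded_23_1 (flp_f L160748) L160740 L193231
theorem L193239 : sm ge N24853 = N23401 := ded_25_1 (flp_f L182563) L182529 L193231
theorem L193241 : sm gg N23400 = N24853 := ded_29_1 (flp_f L193231) L182513 L182507 L182551
theorem L193243 : sm gb N20407 = N24854 := rfl
theorem L193245 : sm ge N24854 = N20711 := ded_15_2 (flp_b L162518) (flp_e L160754) L193243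
theorem L193247 : sm gf N24854 = N20412 := ded_16_2 (flp_b L160780) (flp_f L111197) L111185 L160748 L193243
theorem L193249 : sm gc N24392 = N24854 := ded_19_3 L193245 L163810 (flp_e L190069)
theorem L193251 : sm gb N20408 = N24855 := rfl
theorem L193253 : sm gc N24855 = N22926 := ded_13_2 L179175 L160746 L160744 L160758 L193251
theorem L193255 : sm gd N20408 = N24856 := rfl
theorem L193257 : sm ga N24856 = N20414 := ded_9_1 (flp_d L160790) (flp_a L160760) L193255
theorem L193259 : sm gc N20414 = N24856 := ded_28_0 (flp_d L193255) (flp_c L160758) (flp_d L111193) L92984 L111193 L160758 L193255 L193257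
theorem L193261 : sm ge N20408 = N24857 := rfl
theorem L193263 : sm ga N24857 = N20415 := ded_10_1 (flp_e L160792) (flp_a L160760) L193261
theorem L193265 : sm gc N24857 = N20409 := ded_19_1 (flp_e L160762) L160758 L193261
theorem L193267 : sm gf N20408 = N24858 := rfl
theorem L193269 : sm ga N24858 = N20416 := ded_11_1 (flp_f L160796) (flp_a L160760) L193267
theorem L193271 : sm gc N24858 = N20410 := ded_20_1 (flp_f L160768) L160758 L193267
theorem L193273 : sm gg N20408 = N24859 := rfl
theorem L193275 : sm ga N24859 = N20417 := ded_12_1 (flp_g L160800) (flp_a L160760) L193273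
theorem L193277 : sm gc N24859 = N20411 := ded_21_1 (flp_g L160774) L160758 L193273
theorem L193279 : sm gf N20409 = N24860 := rfl
theorem L193281 : sm ga N24860 = N20418 := ded_11_1 (flp_f L160804) (flp_a L160764) L193279
theorem L193283 : sm gd N24860 = N20714 := ded_23_1 (flp_f L162542) (flp_d L160766) L193279
theorem L193285 : sm ge N24860 = N20410 := ded_25_1 (flp_f L160768) L160762 L193279
theorem L193287 : sm gg N20409 = N24861 := rfl
theorem L193289 : sm ga N24861 = N20419 := ded_12_1 (flp_g L160810) (flp_a L160764) L193287
theorem L193291 : sm gd N24861 = N20715 := ded_24_1 (flp_g L162548) (flp_d L160766) L193287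
theorem L193293 : sm ge N24861 = N20411 := ded_26_1 (flp_g L160774) L160762 L193287
theorem L193295 : sm gb N20410 = N24862 := rfl
theorem L193297 : sm gd N24862 = N20412 := ded_14_2 (flp_b L160780) (flp_d L160772) L193295
theorem L193299 : sm gg N24391 = N24862 := ded_24_0 L193297 L163799 L190063
theorem L193301 : sm ga N20412 = N24863 := rfl
theorem L193303 : sm gc N24863 = N24385 := ded_8_2 L190013 (flp_c L163808) L193301
theorem L193305 : sm ge N24863 = N20717 := ded_10_2 (flp_a L162560) (flp_e L160782) L193301
theorem L193307 : sm gg N24863 = N24384 := ded_12_2 L190005 (flp_g L163799) L193301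
theorem L193309 : sm gf N20413 = N24864 := rfl
theorem L193311 : sm gc N24864 = N22326 := ded_20_1 (flp_f L174424) L160788 L193309
theorem L193313 : sm ge N24864 = N20720 := ded_25_1 (flp_f L162567) (flp_e L160786) L193309
theorem L193315 : sm gg N24864 = N23592 := ded_29_3 L183883 (flp_f L183877) L183879 L193309
theorem L193317 : sm ge N20414 = N24865 := rfl
theorem L193319 : sm gf N20414 = N24866 := rfl
theorem L193321 : sm gd N24866 = N20416 := ded_23_1 (flp_f L160796) L160790 L193319
theorem L193323 : sm gg N20414 = N24867 := rfl
theorem L193325 : sm gd N24867 = N20417 := ded_24_1 (flp_g L160800) L160790 L193323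
theorem L193327 : sm gd N20415 = N24868 := rfl
theorem L193329 : sm gc N20419 = N24868 := ded_28_0 (flp_d L193327) L160794 L111217 (flp_c L112590) L162575 (flp_c L162583) (flp_d L193291) L193289
theorem L193331 : sm ge N24868 = N20417 := ded_19_2 L160802 (flp_e L160814) L193329
theorem L193333 : sm gg N24868 = N20415 := ded_21_2 L160794 L160810 L193329
theorem L193335 : N24867 = N24865 := coi_22_2 (flp_e L193317) (flp_d L160790) L160792 L193327 L193331 (flp_d L193325)
theorem L193336 : N24867 = N24865 := eqc rfl L193335 rfl
theorem L193337 : sm gd N24865 = N20417 := trfs L193336 L193325 rfl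
theorem L193339 : sm gg N24865 = N20414 := trfs L193336 (flp_g L193323) rfl
theorem L193341 : sm gf N20415 = N24869 := rfl
theorem L193343 : sm gc N24869 = N20418 := ded_20_1 (flp_f L160804) (flp_c L160794) L193341
theorem L193345 : sm ge N24869 = N20416 := ded_25_1 (flp_f L160796) L160792 L193341
theorem L193347 : sm gb N20416 = N24870 := rfl
theorem L193349 : sm gg N20416 = N24871 := rfl
theorem L193351 : sm gc N24871 = N20420 := ded_21_1 (flp_g L160816) (flp_c L160798) L193349
theorem L193353 : sm gf N24859 = N24871 := ded_29_0 (flp_g L193349) (flp_f L160796) L160800 (flp_a L193275)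
theorem L193355 : sm gb N20417 = N24872 := rfl
theorem L193357 : sm gf N20417 = N24873 := rfl
theorem L193359 : sm ga N24873 = N24871 := ded_11_1 (flp_f L193353) L193275 L193357
theorem L193361 : sm gc N24873 = N20421 := ded_20_1 (flp_f L160822) (flp_c L160802) L193357
theorem L193363 : sm gg N24873 = N24858 := ded_29_3 L193269 (flp_f L160796) L160800 L193357
theorem L193365 : sm gg N20418 = N24874 := rfl
theorem L193367 : sm gd N24874 = N20725 := ded_24_1 (flp_g L162609) (flp_d L160806) L193365
theorem L193369 : sm ge N24874 = N20420 := ded_26_1 (flp_g L160816) (flp_e L160808) L193365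
theorem L193371 : sm gf N24861 = N24874 := ded_29_0 (flp_g L193365) (flp_f L160804) L160810 (flp_a L193289)
theorem L193373 : sm gf N20419 = N24875 := rfl
theorem L193375 : sm ga N24875 = N24874 := ded_11_1 (flp_f L193371) L193289 L193373
theorem L193377 : sm gd N24875 = N20726 := ded_23_1 (flp_f L162615) (flp_d L160812) L193373
theorem L193379 : sm ge N24875 = N20421 := ded_25_1 (flp_f L160822) (flp_e L160814) L193373
theorem L193381 : sm gg N24875 = N24860 := ded_29_3 L193281 (flp_f L160804) L160810 L193373
theorem L193383 : sm gb N20420 = N24876 := rfl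
theorem L193385 : sm gd N24876 = N20424 := ded_14_2 (flp_b L160842) (flp_d L160818) L193383
theorem L193387 : sm gb N20421 = N24877 := rfl
theorem L193389 : sm gd N24877 = N20425 := ded_14_2 (flp_b L160846) (flp_d L160826) L193387
theorem L193391 : sm gb N20422 = N24878 := rfl
theorem L193393 : sm ge N24878 = N20731 := ded_15_2 (flp_b L162651) (flp_e L160832) L193391
theorem L193395 : sm ga N20424 = N24879 := rfl
theorem L193397 : sm ge N24879 = N20732 := ded_10_2 (flp_a L162653) (flp_e L160844) L193395
theorem L193399 : sm gf N20424 = N24880 := rfl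
theorem L193401 : sm ge N24880 = N20733 := ded_25_1 (flp_f L162655) (flp_e L160844) L193399
theorem L193403 : sm gb N24880 = N24864 := ded_16_1 (flp_f L193309) (flp_b L160784) L111238 L160842 L193399
theorem L193405 : sm ga N20425 = N24881 := rfl
theorem L193407 : sm ge N24881 = N20734 := ded_10_2 (flp_a L162659) (flp_e L160848) L193405
theorem L193409 : sm gb N23702 = N24881 := ded_15_3 L193407 (flp_b L175838) (flp_e L184694)
theorem L193411 : sm gf N20426 = N24882 := rfl
theorem L193413 : sm ge N24882 = N20739 := ded_25_1 (flp_f L162676) (flp_e L160852) L193411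
theorem L193415 : sm gg N20426 = N24883 := rfl
theorem L193417 : sm ge N24883 = N20740 := ded_26_1 (flp_g L162678) (flp_e L160852) L193415
theorem L193419 : sm gb N20428 = N24884 := rfl
theorem L193421 : sm ge N24884 = N20741 := ded_15_2 (flp_b L162680) (flp_e L160866) L193419
theorem L193423 : sm gf N24884 = N21887 := ded_16_2 (flp_b L171358) (flp_f L118511) (flp_b L111257) L160862 L193419
theorem L193425 : sm gb N20429 = N24885 := rfl
theorem L193427 : sm gd N24885 = N20752 := ded_14_2 (flp_b L162754) (flp_d L160872) L193425
theorem L193429 : sm ge N24885 = N20432 := ded_15_2 (flp_b L160888) (flp_e L160874) L193425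
theorem L193431 : sm gc N20429 = N24886 := rfl
theorem L193433 : sm ga N24886 = N20430 := ded_8_1 (flp_c L160876) L160870 L193431
theorem L193435 : sm ge N24886 = N20433 := ded_19_2 (flp_c L160892) (flp_e L160874) L193431
theorem L193437 : sm gd N20430 = N24887 := rfl
theorem L193439 : sm gg N20430 = N24888 := rfl
theorem L193441 : sm gc N24888 = N20431 := ded_21_1 (flp_g L160880) L160876 L193439
theorem L193443 : sm ge N24888 = N20436 := ded_26_1 (flp_g L160906) (flp_e L160878) L193439
theorem L193445 : sm gf N20431 = N24889 := rfl
theorem L193447 : sm ga N24889 = N20700 := ded_11_1 L182619 L182617 L193445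
theorem L193449 : sm gd N24889 = N20699 := ded_23_1 L162442 (flp_d L160882) L193445
theorem L193451 : sm ge N24889 = N20437 := ded_25_1 (flp_f L160910) (flp_e L160884) L193445
theorem L193453 : sm gg N24889 = N24778 := ded_29_3 (flp_a L192757) L160464 L160880 L193445
theorem L193455 : sm gc N20432 = N24890 := rfl
theorem L193457 : sm ga N24890 = N23436 := ded_8_1 (flp_c L188171) L188103 L193455
theorem L193459 : sm gf N20432 = N24891 := rfl
theorem L193461 : sm gd N24891 = N20438 := ded_23_1 (flp_f L160918) (flp_d L160890) L193459
theorem L193463 : sm gg N20432 = N24892 := rfl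
theorem L193465 : sm gd N24892 = N20439 := ded_24_1 (flp_g L160922) (flp_d L160890) L193463
theorem L193467 : sm gb N24892 = N23700 := ded_17_1 L184676 L182593 (flp_g L160896) L160888 L193463
theorem L193469 : sm gb N20433 = N24893 := rfl
theorem L193471 : sm gg N20433 = N24894 := rfl
theorem L193473 : sm ga N24894 = N20436 := ded_12_1 (flp_g L160906) (flp_a L160894) L193471
theorem L193475 : sm gc N24894 = N20434 := ded_21_1 (flp_g L160896) L160892 L193471
theorem L193477 : sm gf N24894 = N24784 := ded_29_2 (flp_g L192795) (flp_a L192787) L192789 L193471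
theorem L193479 : sm ge N20435 = N24895 := rfl
theorem L193481 : sm gg N20435 = N24896 := rfl
theorem L193483 : sm gd N24896 = N20436 := ded_24_1 (flp_g L160906) L160904 L193481
theorem L193485 : sm gb N20436 = N24897 := rfl
theorem L193487 : sm gc N24897 = N21783 := ded_13_2 (flp_b L170668) L118085 (flp_b L111275) (flp_c L160908) L193485
theorem L193489 : sm gf N20436 = N24898 := rfl
theorem L193491 : sm ga N24898 = N24784 := ded_11_1 (flp_f L193477) L193473 L193489
theorem L193493 : sm gc N24898 = N20437 := ded_20_1 (flp_f L160910) (flp_c L160908) L193489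
theorem L193495 : sm gg N24898 = N24782 := ded_29_3 L192787 L160484 L160906 L193489
theorem L193497 : sm gb N20437 = N24899 := rfl
theorem L193499 : sm gd N24899 = N20440 := ded_14_2 (flp_b L160930) (flp_d L160914) L193497
theorem L193501 : sm gf N24899 = N21786 := ded_16_2 (flp_b L170688) (flp_f L118093) (flp_b L111275) L160910 L193497
theorem L193503 : sm gf N20439 = N24900 := rfl
theorem L193505 : sm ga N24900 = N24024 := ded_11_1 (flp_f L188121) L188115 L193503
theorem L193507 : sm gc N24900 = N23697 := ded_20_1 L184646 (flp_c L160924) L193503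
theorem L193509 : sm ge N24900 = N20757 := ded_25_1 (flp_f L162778) (flp_e L160926) L193503
theorem L193511 : sm gg N24900 = N24122 := ded_29_3 L188107 (flp_f L160918) L160922 L193503
theorem L193513 : sm ga N20440 = N24901 := rfl
theorem L193515 : sm ge N24901 = N20758 := ded_10_2 (flp_a L162786) (flp_e L160932) L193513
theorem L193517 : sm gf N24901 = N21787 := ded_11_2 (flp_a L170692) (flp_f L160934) L193513
theorem L193519 : sm gb N24901 = N23592 := ded_7_2 L183883 L166292 (flp_a L166460) L192841 (flp_a L192835) (flp_b L160498) (flp_a L111293) L160930 L193513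
theorem L193521 : sm gc N20440 = N24902 := rfl
theorem L193523 : sm ge N24902 = N20759 := ded_19_2 (flp_c L162804) (flp_e L160932) L193521
theorem L193525 : sm gf N24902 = N21788 := ded_20_2 (flp_c L170696) (flp_f L160934) L193521
theorem L193527 : sm gb N24902 = N24743 := ded_13_1 (flp_c L192521) (flp_b L160268) (flp_c L111295) L160930 L193521
theorem L193529 : sm gg N20440 = N24903 := rfl
theorem L193531 : sm ge N24903 = N20760 := ded_26_1 (flp_g L162810) (flp_e L160932) L193529
theorem L193533 : sm gb N24903 = N24790 := ded_17_1 (flp_g L192829) (flp_b L160494) (flp_g L111299) L160930 L193529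
theorem L193535 : sm gg N20441 = N24904 := rfl
theorem L193537 : sm ga N24904 = N23340 := ded_12_1 (flp_g L182181) (flp_a L160938) L193535
theorem L193539 : sm gc N24904 = N23338 := ded_21_1 (flp_g L182165) L160942 L193535
theorem L193541 : sm gd N24904 = N20442 := ded_24_1 (flp_g L160944) L160936 L193535
theorem L193543 : sm ge N24904 = N22906 := ded_26_1 L179039 L178645 L193535
theorem L193545 : sm gf N24904 = N22904 := ded_29_2 (flp_g L179021) (flp_a L178987) L178989 L193535
theorem L193547 : sm gb N20443 = N24905 := rfl
theorem L193549 : sm gd N24905 = N21333 := ded_14_2 (flp_b L169031) L169033 L193547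
theorem L193551 : sm gc N24905 = N23188 := ded_13_2 L181127 L160942 L160940 L160954 L193547
theorem L193553 : sm ga N23195 = N24905 := ded_9_3 L193549 (flp_a L190979) (flp_d L190987)
theorem L193555 : sm gf N24719 = N24905 := ded_23_0 L193549 L167882 L192393
theorem L193557 : sm ge N24573 = N24905 := ded_22_0 L193549 L167880 (flp_d L159511) L159519 L191387
theorem L193559 : sm ge N20443 = N24906 := rfl
theorem L193561 : sm ga N24906 = N20450 := ded_10_1 (flp_e L160994) (flp_a L160956) L193559
theorem L193563 : sm gb N24906 = N24573 := ded_15_1 L193557 (flp_b L193547) L193559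
theorem L193565 : sm gc N24906 = N20444 := ded_19_1 (flp_e L160958) L160954 L193559
theorem L193567 : sm gd N24906 = N24570 := ded_22_1 (flp_e L191371) L191361 (flp_e L191369) L169033 L193559
theorem L193569 : sm gf N20443 = N24907 := rfl
theorem L193571 : sm ga N24907 = N20451 := ded_11_1 (flp_f L161000) (flp_a L160956) L193569
theorem L193573 : sm gc N24907 = N20445 := ded_20_1 (flp_f L160964) L160954 L193569
theorem L193575 : sm gg N20443 = N24908 := rfl
theorem L193577 : sm ga N24908 = N20452 := ded_12_1 (flp_g L161004) (flp_a L160956) L193575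
theorem L193579 : sm gc N24908 = N20446 := ded_21_1 (flp_g L160970) L160954 L193575
theorem L193581 : sm gg N20444 = N24909 := rfl
theorem L193583 : sm ga N24909 = N20454 := ded_12_1 (flp_g L161016) (flp_a L160960) L193581
theorem L193585 : sm gd N24909 = N22142 := ded_24_1 L173130 (flp_d L160962) L193581
theorem L193587 : sm ge N24909 = N20446 := ded_26_1 (flp_g L160970) L160958 L193581
theorem L193589 : sm gb N20445 = N24910 := rfl
theorem L193591 : sm gd N24910 = N20447 := ded_14_2 (flp_b L160976) (flp_d L160968) L193589
theorem L193593 : sm ge N24910 = N24419 := ded_15_2 L190269 L175378 L193589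
theorem L193595 : sm gf N24910 = N24549 := ded_16_2 L191231 L178989 L160940 L160964 L193589
theorem L193597 : sm ga N24554 = N24910 := ded_9_3 L193591 L160984 (flp_d L191263)
theorem L193599 : sm gb N20446 = N24911 := rfl
theorem L193601 : sm gd N24911 = N20448 := ded_14_2 (flp_b L160986) (flp_d L160974) L193599
theorem L193603 : sm ga N20448 = N24912 := rfl
theorem L193605 : sm gc N24912 = N21764 := ded_8_2 (flp_a L179723) L179727 L193603
theorem L193607 : sm ge N24912 = N22139 := ded_10_2 (flp_a L173108) (flp_e L160988) L193603
theorem L193609 : sm gg N24912 = N21771 := ded_12_2 (flp_a L179815) L179821 L193603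
theorem L193611 : sm gf N20448 = N24913 := rfl
theorem L193613 : sm ge N24913 = N22141 := ded_25_1 (flp_f L173122) (flp_e L160988) L193611
theorem L193615 : sm gg N24745 = N24913 := ded_29_1 (flp_f L193611) (flp_g L179821) L179815 (flp_f L192539)
theorem L193617 : sm ge N20449 = N24914 := rfl
theorem L193619 : sm ga N24914 = N24569 := ded_10_1 (flp_e L191369) L169029 L193617
theorem L193621 : sm gb N24914 = N24813 := ded_15_1 (flp_e L193003) (flp_b L160992) L193617
theorem L193623 : sm gc N24914 = N23126 := ded_19_1 L180703 L169011 L193617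
theorem L193625 : sm gd N24568 = N24914 := ded_9_0 L193619 (flp_d L191361) L191357
theorem L193627 : sm gf N20449 = N24915 := rfl
theorem L193629 : sm gd N24915 = N20451 := ded_23_1 (flp_f L161000) L160990 L193627
theorem L193631 : sm gg N20449 = N24916 := rfl
theorem L193633 : sm gd N24916 = N20452 := ded_24_1 (flp_g L161004) L160990 L193631
theorem L193635 : sm gd N20450 = N24917 := rfl
theorem L193637 : sm ga N24917 = N24570 := ded_9_1 (flp_d L193567) L193561 L193635
theorem L193639 : sm gb N24917 = N24816 := ded_14_1 (flp_d L193013) (flp_b L160996) L193635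
theorem L193641 : sm ge N24917 = N24568 := ded_22_2 L193625 (flp_e L193617) (flp_d L160990) L160994 L193635
theorem L193643 : sm gf N20450 = N24918 := rfl
theorem L193645 : sm gc N24918 = N20453 := ded_20_1 (flp_f L161008) (flp_c L160998) L193643
theorem L193647 : sm ge N24918 = N20451 := ded_25_1 (flp_f L161000) L160994 L193643
theorem L193649 : sm gg N20450 = N24919 := rfl
theorem L193651 : sm gc N24919 = N20454 := ded_21_1 (flp_g L161016) (flp_c L160998) L193649
theorem L193653 : sm ge N24919 = N20452 := ded_26_1 (flp_g L161004) L160994 L193649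
theorem L193655 : sm gb N20451 = N24920 := rfl
theorem L193657 : sm gc N24920 = N24568 := ded_13_2 (flp_b L191359) L160602 (flp_b L111339) (flp_c L161002) L193655
theorem L193659 : sm gf N24920 = N24568 := ded_16_2 (flp_b L191359) (flp_f L160600) (flp_b L111327) L161000 L193655
theorem L193661 : sm ga N24920 = N23974 := ded_30_3 L187059 (flp_c L187057) (flp_b L187053) (flp_a L187037) L187039 (flp_c L156338) (flp_b L156330) L156328 L144411 (flp_c L116915) (flp_b L145320) (flp_a L182155) (flp_f L182153) L160942 L160940 L111307 L111335 (flp_c L161002) L193655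
theorem L193663 : sm gg N20451 = N24921 := rfl
theorem L193665 : sm gc N24921 = N20455 := ded_21_1 (flp_g L161024) (flp_c L161002) L193663
theorem L193667 : sm gf N24908 = N24921 := ded_29_0 (flp_g L193663) (flp_f L161000) L161004 (flp_a L193577)
theorem L193669 : sm gb N20452 = N24922 := rfl
theorem L193671 : sm gc N24922 = N21563 := ded_13_2 (flp_b L169299) (flp_c L117281) (flp_b L111345) (flp_c L161006) L193669
theorem L193673 : sm gg N24922 = N24819 := ded_17_2 (flp_b L193039) (flp_g L160604) (flp_b L111327) L161004 L193669
theorem L193675 : sm gf N20452 = N24923 := rfl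
theorem L193677 : sm ga N24923 = N24921 := ded_11_1 (flp_f L193667) L193577 L193675
theorem L193679 : sm gc N24923 = N20456 := ded_20_1 (flp_f L161030) (flp_c L161006) L193675
theorem L193681 : sm gg N24923 = N24907 := ded_29_3 L193571 (flp_f L161000) L161004 L193675
theorem L193683 : sm gg N20453 = N24924 := rfl
theorem L193685 : sm gd N24924 = N22452 := ded_24_1 (flp_g L175380) (flp_d L161010) L193683
theorem L193687 : sm ge N24924 = N20455 := ded_26_1 (flp_g L161024) (flp_e L161012) L193683
theorem L193689 : sm gf N24909 = N24924 := ded_29_0 (flp_g L193683) (flp_f L161008) L161016 (flp_a L193583)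
theorem L193691 : sm gf N20454 = N24925 := rfl
theorem L193693 : sm ga N24925 = N24924 := ded_11_1 (flp_f L193689) L193583 L193691
theorem L193695 : sm gd N24925 = N22144 := ded_23_1 L173144 (flp_d L161018) L193691
theorem L193697 : sm ge N24925 = N20456 := ded_25_1 (flp_f L161030) (flp_e L161020) L193691
theorem L193699 : sm gg N24925 = N22451 := ded_29_3 L175374 (flp_f L161008) L161016 L193691
theorem L193701 : sm gb N20455 = N24926 := rfl
theorem L193703 : sm gd N24926 = N20457 := ded_14_2 (flp_b L161038) (flp_d L161026) L193701
theorem L193705 : sm gg N24926 = N24823 := ded_17_2 (flp_b L193067) (flp_g L160620) (flp_b L111339) L161024 L193701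
theorem L193707 : sm gb N20456 = N24927 := rfl
theorem L193709 : sm gd N24927 = N20458 := ded_14_2 (flp_b L161044) (flp_d L161034) L193707
theorem L193711 : sm gf N24927 = N21568 := ded_16_2 (flp_b L169325) (flp_f L117291) (flp_b L111345) L161030 L193707
theorem L193713 : sm ga N20457 = N24928 := rfl
theorem L193715 : sm ge N24928 = N22454 := ded_10_2 (flp_a L175396) (flp_e L161040) L193713
theorem L193717 : sm gg N24928 = N24825 := ded_12_2 (flp_a L193075) (flp_g L161042) L193713
theorem L193719 : sm gf N20457 = N24929 := rfl
theorem L193721 : sm ge N24929 = N22456 := ded_25_1 (flp_f L175406) (flp_e L161040) L193719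
theorem L193723 : sm gb N24929 = N24913 := ded_16_1 (flp_f L193611) (flp_b L160986) L111353 L161038 L193719
theorem L193725 : sm ga N20458 = N24930 := rfl
theorem L193727 : sm ge N24930 = N22145 := ded_10_2 (flp_a L173148) (flp_e L161046) L193725
theorem L193729 : sm gf N24930 = N21569 := ded_11_2 (flp_a L169329) (flp_f L161048) L193725
theorem L193731 : sm gb N24048 = N24930 := ded_30_2 (flp_a L193725) L161048 L169333 L169337 (flp_a L169345) L169349 (flp_c L117319) (flp_b L150276) L150274 (flp_f L110119) L150289 L110220 (flp_a L115657) L116887 (flp_c L155154) L156370 (flp_a L156364) L156376 (flp_c L187621)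
theorem L193733 : sm gc N20458 = N24931 := rfl
theorem L193735 : sm ge N24931 = N22146 := ded_19_2 (flp_c L173154) (flp_e L161046) L193733
theorem L193737 : sm gf N24931 = N21570 := ded_20_2 (flp_c L169333) (flp_f L161048) L193733
theorem L193739 : sm gb N24931 = N21546 := ded_13_1 (flp_c L169185) (flp_b L117225) (flp_c L111359) L161044 L193733
theorem L193741 : sm gg N20458 = N24932 := rfl
theorem L193743 : sm ge N24932 = N22147 := ded_26_1 (flp_g L173160) (flp_e L161046) L193741
theorem L193745 : sm gb N24932 = N24558 := ded_17_1 L191293 (flp_b L160976) (flp_g L111363) L161044 L193741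
theorem L193747 : sm gf N20459 = N24933 := rfl
theorem L193749 : sm ga N24933 = N23399 := ded_11_1 (flp_f L182543) (flp_a L161052) L193747
theorem L193751 : sm gc N24933 = N23396 := ded_20_1 (flp_f L182515) L161056 L193747
theorem L193753 : sm gd N24933 = N20460 := ded_23_1 (flp_f L161058) L161050 L193747
theorem L193755 : sm ge N24933 = N22935 := ded_25_1 (flp_f L179235) L178723 L193747
theorem L193757 : sm gg N22933 = N24933 := ded_29_1 (flp_f L193747) (flp_g L179185) L179183 L179217
theorem L193759 : sm gb N20461 = N24934 := rfl
theorem L193761 : sm gd N24934 = N21407 := ded_14_2 (flp_b L170036) L170038 L193759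
theorem L193763 : sm gc N24934 = N23264 := ded_13_2 L181649 L161056 L161054 L161068 L193759
theorem L193765 : sm ga N23271 = N24934 := ded_9_3 L193761 (flp_a L191123) (flp_d L191131)
theorem L193767 : sm gg N24768 = N24934 := ded_24_0 L193761 L168316 L192703
theorem L193769 : sm ge N24628 = N24934 := ded_22_0 L193761 L168314 (flp_d L159711) L159719 L191768
theorem L193771 : sm ge N20461 = N24935 := rfl
theorem L193773 : sm ga N24935 = N20468 := ded_10_1 (flp_e L161108) (flp_a L161070) L193771
theorem L193775 : sm gb N24935 = N24628 := ded_15_1 L193769 (flp_b L193759) L193771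
theorem L193777 : sm gc N24935 = N20462 := ded_19_1 (flp_e L161072) L161068 L193771
theorem L193779 : sm gd N24935 = N24625 := ded_22_1 (flp_e L191752) L191742 (flp_e L191750) L170038 L193771
theorem L193781 : sm gf N20461 = N24936 := rfl
theorem L193783 : sm ga N24936 = N20469 := ded_11_1 (flp_f L161114) (flp_a L161070) L193781
theorem L193785 : sm gc N24936 = N20463 := ded_20_1 (flp_f L161078) L161068 L193781
theorem L193787 : sm gg N20461 = N24937 := rfl
theorem L193789 : sm ga N24937 = N20470 := ded_12_1 (flp_g L161118) (flp_a L161070) L193787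
theorem L193791 : sm gc N24937 = N20464 := ded_21_1 (flp_g L161084) L161068 L193787
theorem L193793 : sm gf N20462 = N24938 := rfl
theorem L193795 : sm ga N24938 = N20471 := ded_11_1 (flp_f L161122) (flp_a L161074) L193793
theorem L193797 : sm gd N24938 = N22350 := ded_23_1 L174645 (flp_d L161076) L193793
theorem L193799 : sm ge N24938 = N20463 := ded_25_1 (flp_f L161078) L161072 L193793
theorem L193801 : sm gb N20463 = N24939 := rfl
theorem L193803 : sm gd N24939 = N20465 := ded_14_2 (flp_b L161090) (flp_d L161082) L193801
theorem L193805 : sm gb N20464 = N24940 := rfl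
theorem L193807 : sm gd N24940 = N20466 := ded_14_2 (flp_b L161094) (flp_d L161088) L193805
theorem L193809 : sm ge N24940 = N24440 := ded_15_2 L190435 L175801 L193805
theorem L193811 : sm gg N24940 = N24604 := ded_17_2 L191614 L179185 L161054 L161084 L193805
theorem L193813 : sm ga N24610 = N24940 := ded_9_3 L193807 (flp_a L161102) (flp_d L191650)
theorem L193815 : sm ga N20465 = N24941 := rfl
theorem L193817 : sm gc N24941 = N21604 := ded_8_2 (flp_a L179941) L179945 L193815
theorem L193819 : sm ge N24941 = N22222 := ded_10_2 L173699 (flp_e L161092) L193815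
theorem L193821 : sm gf N24941 = N21612 := ded_11_2 (flp_a L180033) L180039 L193815
theorem L193823 : sm gg N20465 = N24942 := rfl
theorem L193825 : sm ge N24942 = N22349 := ded_26_1 (flp_g L174635) (flp_e L161092) L193823
theorem L193827 : sm gf N24942 = N24794 := ded_29_2 L192861 (flp_a L180033) L180039 L193823
theorem L193829 : sm ge N20467 = N24943 := rfl
theorem L193831 : sm ga N24943 = N24624 := ded_10_1 (flp_e L191750) L170034 L193829
theorem L193833 : sm gb N24943 = N24865 := ded_15_1 (flp_e L193317) (flp_b L161106) L193829
theorem L193835 : sm gc N24943 = N23141 := ded_19_1 L180811 L170016 L193829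
theorem L193837 : sm gd N24623 = N24943 := ded_9_0 L193831 (flp_d L191742) L191740
theorem L193839 : N24872 = N24623 := coi_14_0 L193837 L193833 L193337 L193355
theorem L193840 : N24872 = N24623 := eqc rfl L193839 rfl
theorem L193841 : sm gb N24623 = N20417 := trfs L193840 (flp_b L193355) rfl
theorem L193843 : sm gf N20467 = N24944 := rfl
theorem L193845 : sm gd N24944 = N20469 := ded_23_1 (flp_f L161114) L161104 L193843
theorem L193847 : sm gg N20467 = N24945 := rfl
theorem L193849 : sm gd N24945 = N20470 := ded_24_1 (flp_g L161118) L161104 L193847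
theorem L193851 : sm gd N20468 = N24946 := rfl
theorem L193853 : sm ga N24946 = N24625 := ded_9_1 (flp_d L193779) L193773 L193851
theorem L193855 : sm gb N24946 = N24868 := ded_14_1 (flp_d L193327) (flp_b L161110) L193851
theorem L193857 : sm ge N24946 = N24623 := ded_22_2 L193837 (flp_e L193829) (flp_d L161104) L161108 L193851
theorem L193859 : sm gf N20468 = N24947 := rfl
theorem L193861 : sm gc N24947 = N20471 := ded_20_1 (flp_f L161122) (flp_c L161112) L193859
theorem L193863 : sm ge N24947 = N20469 := ded_25_1 (flp_f L161114) L161108 L193859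
theorem L193865 : sm gg N20468 = N24948 := rfl
theorem L193867 : sm gc N24948 = N20472 := ded_21_1 (flp_g L161130) (flp_c L161112) L193865
theorem L193869 : sm ge N24948 = N20470 := ded_26_1 (flp_g L161118) L161108 L193865
theorem L193871 : sm gb N20469 = N24949 := rfl
theorem L193873 : sm gc N24949 = N21722 := ded_13_2 (flp_b L170298) (flp_c L117891) (flp_b L111403) (flp_c L161116) L193871
theorem L193875 : sm gf N24949 = N24870 := ded_16_2 (flp_b L193347) (flp_f L160796) (flp_b L111391) L161114 L193871
theorem L193877 : sm gg N20469 = N24950 := rfl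
theorem L193879 : sm gc N24950 = N20473 := ded_21_1 (flp_g L161138) (flp_c L161116) L193877
theorem L193881 : sm gf N24937 = N24950 := ded_29_0 (flp_g L193877) (flp_f L161114) L161118 (flp_a L193789)
theorem L193883 : sm gb N20470 = N24951 := rfl
theorem L193885 : sm gc N24951 = N24623 := ded_13_2 L193841 L160802 (flp_b L111409) (flp_c L161120) L193883
theorem L193887 : sm gg N24951 = N24623 := ded_17_2 L193841 (flp_g L160800) (flp_b L111391) L161118 L193883
theorem L193889 : sm ga N23999 = N24951 := ded_8_3 L193885 (flp_a L191740) (flp_c L187241)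
theorem L193891 : sm gf N20470 = N24952 := rfl
theorem L193893 : sm ga N24952 = N24950 := ded_11_1 (flp_f L193881) L193789 L193891
theorem L193895 : sm gc N24952 = N20474 := ded_20_1 (flp_f L161144) (flp_c L161120) L193891
theorem L193897 : sm gg N24952 = N24936 := ded_29_3 L193783 (flp_f L161114) L161118 L193891
theorem L193899 : sm gg N20471 = N24953 := rfl
theorem L193901 : sm gd N24953 = N22352 := ded_24_1 L174661 (flp_d L161124) L193899
theorem L193903 : sm ge N24953 = N20473 := ded_26_1 (flp_g L161138) (flp_e L161126) L193899
theorem L193905 : sm gf N22510 = N24953 := ded_29_0 (flp_g L193899) (flp_f L161122) L161130 (flp_a L175797)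
theorem L193907 : sm gf N20472 = N24954 := rfl
theorem L193909 : sm ga N24954 = N24953 := ded_11_1 (flp_f L193905) L175797 L193907
theorem L193911 : sm gd N24954 = N22511 := ded_23_1 (flp_f L175803) (flp_d L161132) L193907
theorem L193913 : sm ge N24954 = N20474 := ded_25_1 (flp_f L161144) (flp_e L161134) L193907
theorem L193915 : sm gg N24954 = N24938 := ded_29_3 L193795 (flp_f L161122) L161130 L193907
theorem L193917 : sm gb N20473 = N24955 := rfl
theorem L193919 : sm gd N24955 = N20475 := ded_14_2 (flp_b L161152) (flp_d L161140) L193917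
theorem L193921 : sm gg N24955 = N21727 := ded_17_2 (flp_b L170324) (flp_g L117901) (flp_b L111403) L161138 L193917
theorem L193923 : sm gb N20474 = N24956 := rfl
theorem L193925 : sm gd N24956 = N20476 := ded_14_2 (flp_b L161158) (flp_d L161148) L193923
theorem L193927 : sm gf N24956 = N24877 := ded_16_2 (flp_b L193387) (flp_f L160822) (flp_b L111409) L161144 L193923
theorem L193929 : sm ga N20475 = N24957 := rfl
theorem L193931 : sm ge N24957 = N22353 := ded_10_2 (flp_a L174663) (flp_e L161154) L193929
theorem L193933 : sm gg N24957 = N21728 := ded_12_2 (flp_a L170328) (flp_g L161156) L193929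
theorem L193935 : sm gb N24099 = N24957 := ded_15_3 L193931 (flp_b L174958) (flp_e L187969)
theorem L193937 : sm gc N20475 = N24958 := rfl
theorem L193939 : sm ge N24958 = N22354 := ded_19_2 (flp_c L174667) (flp_e L161154) L193937
theorem L193941 : sm gg N24958 = N21729 := ded_21_2 (flp_c L170332) (flp_g L161156) L193937
theorem L193943 : sm gb N24958 = N21705 := ded_13_1 (flp_c L170190) (flp_b L117835) (flp_c L111413) L161152 L193937
theorem L193945 : sm gf N20475 = N24959 := rfl
theorem L193947 : sm ge N24959 = N22355 := ded_25_1 (flp_f L174673) (flp_e L161154) L193945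
theorem L193949 : sm gb N24959 = N24612 := ded_16_1 (flp_f L191664) (flp_b L161094) L111417 L161152 L193945
theorem L193951 : sm ga N20476 = N24960 := rfl
theorem L193953 : sm ge N24960 = N22513 := ded_10_2 (flp_a L175819) (flp_e L161160) L193951
theorem L193955 : sm gf N24960 = N24881 := ded_11_2 (flp_a L193405) (flp_f L161162) L193951
theorem L193957 : sm gg N20476 = N24961 := rfl
theorem L193959 : sm ge N24961 = N22515 := ded_26_1 (flp_g L175829) (flp_e L161160) L193957
theorem L193961 : sm gb N24961 = N24942 := ded_17_1 (flp_g L193823) (flp_b L161090) (flp_g L111427) L161158 L193957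
theorem L193963 : sm ge N20477 = N24962 := rfl
theorem L193965 : sm gb N24962 = N23193 := ded_15_1 L181169 (flp_b L161166) L193963
theorem L193967 : sm gc N24962 = N22750 := ded_19_1 L177709 L161170 L193963
theorem L193969 : sm gf N24962 = N21912 := ded_25_2 (flp_e L171496) (flp_f L161168) L193963
theorem L193971 : sm gg N20477 = N24963 := rfl
theorem L193973 : sm ga N24963 = N22317 := ded_12_1 L174356 L172440 L193971
theorem L193975 : sm gc N24963 = N22802 := ded_21_1 (flp_g L178093) L161170 L193971
theorem L193977 : sm gd N24963 = N20478 := ded_24_1 (flp_g L161172) L161164 L193971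
theorem L193979 : sm gf N23500 = N24963 := ded_29_0 (flp_g L193971) L161168 L171500 (flp_a L183169)
theorem L193981 : sm ge N20479 = N24964 := rfl
theorem L193983 : sm gb N24964 = N23270 := ded_15_1 L181699 (flp_b L161180) L193981
theorem L193985 : sm gc N24964 = N22753 := ded_19_1 L177735 L161184 L193981
theorem L193987 : sm gg N24964 = N21915 := ded_26_2 (flp_e L171512) (flp_g L161182) L193981
theorem L193989 : sm gf N20479 = N24965 := rfl
theorem L193991 : sm ga N24965 = N22104 := ded_11_1 (flp_f L173935) L173931 L193989
theorem L193993 : sm gc N24965 = N22803 := ded_20_1 (flp_f L178103) L161184 L193989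
theorem L193995 : sm gd N24965 = N20480 := ded_23_1 (flp_f L161186) L161178 L193989
theorem L193997 : sm gg N24965 = N23501 := ded_29_3 L183177 (flp_f L171516) (flp_g L161182) L193989
theorem L193999 : sm gf N20481 = N24966 := rfl
theorem L194001 : sm ga N24966 = N22060 := ded_11_1 (flp_f L189833) L189827 L193999
theorem L194003 : sm gc N24966 = N20482 := ded_20_1 (flp_f L161196) L161192 L193999
theorem L194005 : sm gd N24966 = N22058 := ded_23_1 L175094 L175086 L193999
theorem L194007 : sm gg N24363 = N24966 := ded_29_1 (flp_f L193999) (flp_g L173538) (flp_a L173540) L189821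
theorem L194009 : sm gb N24966 = N24383 := ded_16_1 (flp_f L189995) L158361 L122144 (flp_b L161194) L193999
theorem L194011 : sm gg N20483 = N24967 := rfl
theorem L194013 : sm ga N24967 = N22274 := ded_12_1 L189393 L189387 L194011
theorem L194015 : sm gc N24967 = N20484 := ded_21_1 (flp_g L161208) L161204 L194011
theorem L194017 : sm gd N24967 = N22272 := ded_24_1 (flp_g L173978) L173572 L194011
theorem L194019 : sm gf N24967 = N24307 := ded_29_2 (flp_g L189395) L173599 L173597 L194011
theorem L194021 : sm gb N24967 = N24330 := ded_17_1 (flp_g L189563) L158061 L123047 (flp_b L161206) L194011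
theorem L194023 : sm gg N20489 = N24968 := rfl
theorem L194025 : sm ga N24968 = N23044 := ded_12_1 (flp_g L180091) (flp_a L161242) L194023
theorem L194027 : sm gc N24968 = N22841 := ded_21_1 (flp_g L178519) (flp_c L161246) L194023
theorem L194029 : sm gd N24968 = N20490 := ded_24_1 (flp_g L161256) L161240 L194023
theorem L194031 : sm gf N24968 = N20500 := ded_29_2 (flp_g L161324) (flp_a L161298) L161300 L194023
theorem L194033 : sm gb N20490 = N24969 := rfl
theorem L194035 : sm gg N24969 = N20494 := ded_17_2 (flp_b L161284) (flp_g L111583) L111571 L161256 L194033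
theorem L194037 : sm ga N24969 = N20687 := ded_7_1 (flp_b L162362) L112420 (flp_b L158619) (flp_a L190325) L190331 L173345 L172553 L161330 L194033
theorem L194039 : sm gg N20491 = N24970 := rfl
theorem L194041 : sm ga N24970 = N22898 := ded_12_1 (flp_g L178981) (flp_a L161264) L194039
theorem L194043 : sm gc N24970 = N22830 := ded_21_1 (flp_g L178391) (flp_c L161266) L194039
theorem L194045 : sm ge N24970 = N20492 := ded_26_1 (flp_g L161268) L161262 L194039
theorem L194047 : sm gf N24970 = N24420 := ded_29_2 (flp_g L190273) (flp_a L190251) L190257 L194039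
theorem L194049 : sm gb N20492 = N24971 := rfl
theorem L194051 : sm gd N24971 = N20494 := ded_14_2 (flp_b L161284) (flp_d L161274) L194049
theorem L194053 : sm ga N24971 = N22492 := ded_7_1 (flp_b L175659) (flp_a L123628) L175669 L175699 L151986 (flp_a L151998) (flp_b L152002) (flp_a L161270) L194049
theorem L194055 : sm ge N20496 = N24972 := rfl
theorem L194057 : sm ga N24972 = N20499 := ded_10_1 (flp_e L161316) (flp_a L161298) L194055
theorem L194059 : sm gc N24972 = N21107 := ded_19_1 (flp_e L178515) L178511 L194055
theorem L194061 : sm gf N24972 = N21167 := ded_25_2 L166810 (flp_f L161300) L194055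
theorem L194063 : sm gg N20496 = N24973 := rfl
theorem L194065 : sm ga N24973 = N20500 := ded_12_1 (flp_g L161324) (flp_a L161298) L194063
theorem L194067 : sm gd N24973 = N20497 := ded_24_1 (flp_g L161302) L161296 L194063
theorem L194069 : sm gf N23044 = N24973 := ded_29_0 (flp_g L194063) L161300 L194023 L194025
theorem L194071 : sm gb N24973 = N22221 := ded_17_1 L173695 (flp_b L174352) L174356 L172442 L194063
theorem L194073 : sm gg N20498 = N24974 := rfl
theorem L194075 : sm gc N24974 = N20500 := ded_21_1 (flp_g L161324) L161308 L194073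
theorem L194077 : sm gd N24974 = N21928 := ded_24_1 (flp_g L171616) L161312 L194073
theorem L194079 : sm ge N24974 = N21108 := ded_26_1 (flp_g L166402) L161314 L194073
theorem L194081 : sm gf N22841 = N24974 := ded_29_0 (flp_g L194073) L161310 L166850 (flp_a L178521)
theorem L194083 : sm gg N20499 = N24975 := rfl
theorem L194085 : sm gc N24975 = N21108 := ded_21_1 (flp_g L166402) (flp_c L161320) L194083
theorem L194087 : sm ge N24975 = N20500 := ded_26_1 (flp_g L161324) L161316 L194083
theorem L194089 : sm ga N20503 = N24976 := rfl
theorem L194091 : sm gc N24976 = N22704 := ded_8_2 (flp_a L177505) L177507 L194089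
theorem L194093 : sm ge N24976 = N20504 := ded_10_2 (flp_a L161348) (flp_e L161346) L194089
theorem L194095 : sm gb N22960 = N24976 := ded_13_5 L194091 L177364 L191487 (flp_b L191493) (flp_c L179407)
theorem L194097 : sm gb N20509 = N24977 := rfl
theorem L194099 : sm gc N24977 = N22582 := ded_13_2 (flp_b L176318) L124323 (flp_b L126356) (flp_c L163602) L194097
theorem L194101 : sm gf N24977 = N24433 := ded_16_2 L190377 L179709 (flp_b L161358) L161364 L194097
theorem L194103 : sm gg N24977 = N20681 := ded_17_2 L189301 (flp_g L189291) L157849 L161368 L194097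
theorem L194105 : sm ga N24977 = N20682 := ded_7_1 L162348 (flp_a L171478) (flp_b L175571) L175567 L175563 L161780 L111932 (flp_a L161366) L194097
theorem L194107 : sm gg N20511 = N24978 := rfl
theorem L194109 : sm ga N24978 = N22665 := ded_12_1 L177077 L163505 L194107
theorem L194111 : sm gc N24978 = N20512 := ded_21_1 (flp_g L161388) (flp_c L161384) L194107
theorem L194113 : sm gd N24978 = N22664 := ded_24_1 L177069 (flp_d L163421) L194107
theorem L194115 : sm gf N24200 = N24978 := ded_29_0 (flp_g L194107) (flp_f L161382) (flp_g L157191) (flp_a L188617)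
theorem L194117 : sm gf N20514 = N24979 := rfl
theorem L194119 : sm ga N24979 = N22625 := ded_11_1 (flp_f L176717) L163600 L194117
theorem L194121 : sm gd N24979 = N22621 := ded_23_1 (flp_f L176683) (flp_d L163501) L194117
theorem L194123 : sm gb N20518 = N24980 := rfl
theorem L194125 : sm gd N24980 = N20519 := ded_14_2 (flp_b L161422) (flp_d L161420) L194123
theorem L194127 : sm ge N24980 = N22720 := ded_15_2 L177479 L176815 L194123
theorem L194129 : sm gc N24980 = N23940 := ded_13_2 L186730 (flp_c L176488) (flp_b L176578) L176570 L194123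
theorem L194131 : sm gf N24980 = N22700 := ded_16_2 (flp_b L177328) L148870 L163254 L161418 L194123
theorem L194133 : sm ga N24980 = N23942 := ded_30_3 (flp_f L186744) (flp_c L186751) L186759 (flp_a L177548) L149502 (flp_c L149212) L126712 (flp_a L165768) (flp_f L165766) (flp_c L137024) (flp_b L149025) L118990 (flp_f L108779) (flp_c L119005) (flp_b L143137) L143271 L176568 L176570 L194123
theorem L194135 : sm gg N23939 = N24980 := ded_24_0 L194125 (flp_g L186819) L186817
theorem L194137 : sm gb N20522 = N24981 := rfl
theorem L194139 : sm gd N24981 = N24243 := ded_14_2 (flp_b L188927) L163276 L194137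
theorem L194141 : sm gf N24981 = N24221 := ded_16_2 (flp_b L188757) (flp_f L157257) (flp_b L172573) (flp_f L172575) L194137
theorem L194143 : sm gg N20522 = N24982 := rfl
theorem L194145 : sm ga N24982 = N20525 := ded_12_1 (flp_g L161448) L161440 L194143
theorem L194147 : sm gc N24982 = N22107 := ded_21_1 L172875 L172585 L194143
theorem L194149 : sm gd N24982 = N24242 := ded_24_1 L188925 L163276 L194143
theorem L194151 : sm gf N22105 = N24982 := ded_29_0 (flp_g L194143) L172575 L172571 (flp_a L172855)
theorem L194153 : sm gb N22261 = N24982 := ded_13_5 L194147 (flp_b L173288) L173284 (flp_b L122496) (flp_c L173911)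
theorem L194155 : sm gb N20524 = N24983 := rfl
theorem L194157 : sm gd N24983 = N24245 := ded_14_2 (flp_b L188945) L163278 L194155
theorem L194159 : sm gc N24983 = N22035 := ded_13_2 L172378 (flp_c L174416) L174422 (flp_c L172563) L194155
theorem L194161 : sm gf N24983 = N20528 := ded_16_2 (flp_b L161462) (flp_f L111693) L111687 L161446 L194155
theorem L194163 : sm gg N24983 = N22044 := ded_17_2 L172436 (flp_g L122512) (flp_b L172859) L172857 L194155
theorem L194165 : sm ga N24983 = N22527 := ded_7_1 L175909 (flp_a L190204) (flp_b L190212) L188617 L157193 (flp_a L157201) (flp_b L172573) L172569 L194155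
theorem L194167 : sm gg N20528 = N24984 := rfl
theorem L194169 : sm ga N24984 = N22528 := ded_12_1 (flp_g L175911) L163846 L194167
theorem L194171 : sm gc N24984 = N22030 := ded_21_1 L172344 (flp_c L161464) L194167
theorem L194173 : sm gb N24984 = N23949 := ded_17_1 L186819 (flp_b L161422) L111699 L161462 L194167
theorem L194175 : sm gb N20533 = N24985 := rfl
theorem L194177 : sm gd N24985 = N20534 := ded_14_2 (flp_b L161488) (flp_d L161484) L194175
theorem L194179 : sm ga N24985 = N24985 := ded_7_1 (flp_b L194175) L161482 L194123 L194133 L186746 (flp_a L194133) (flp_b L194123) (flp_a L161482) L194175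
theorem L194180 : sm gf N20534 = N24986 := rfl
theorem L194182 : sm ga N24986 = N24986 := ded_11_1 (flp_f L194180) L161490 L194180
theorem L194183 : sm gb N24986 = N24979 := ded_16_1 (flp_f L194117) (flp_b L161402) L111719 L161488 L194180
theorem L194185 : sm gf N20535 = N24987 := rfl
theorem L194187 : sm ga N24987 = N23048 := ded_11_1 (flp_f L180123) (flp_a L161493) L194185
theorem L194189 : sm gc N24987 = N22846 := ded_20_1 (flp_f L178553) (flp_c L161497) L194185
theorem L194191 : sm gd N24987 = N20536 := ded_23_1 (flp_f L161507) L161491 L194185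
theorem L194193 : sm gg N20546 = N24987 := ded_29_1 (flp_f L194185) (flp_g L161551) L161549 L161575
theorem L194195 : sm gb N20536 = N24988 := rfl
theorem L194197 : sm gf N24988 = N20539 := ded_16_2 (flp_b L161529) (flp_f L111731) L111725 L161507 L194195
theorem L194199 : sm ga N24988 = N20741 := ded_7_1 (flp_b L162680) L112664 (flp_b L158746) (flp_a L190521) L190525 L174862 L174030 L161581 L194195
theorem L194201 : sm gf N20537 = N24989 := rfl
theorem L194203 : sm ga N24989 = N22927 := ded_11_1 (flp_f L179177) (flp_a L161515) L194201
theorem L194205 : sm gc N24989 = N22832 := ded_20_1 (flp_f L178413) (flp_c L161517) L194201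
theorem L194207 : sm ge N24989 = N20538 := ded_25_1 (flp_f L161519) L161513 L194201
theorem L194209 : sm gg N24441 = N24989 := ded_29_1 (flp_f L194201) (flp_g L190423) L190417 L190439
theorem L194211 : sm gb N20538 = N24990 := rfl
theorem L194213 : sm gd N24990 = N20539 := ded_14_2 (flp_b L161529) (flp_d L161525) L194211
theorem L194215 : sm ga N24990 = N22552 := ded_7_1 (flp_b L176059) L124097 L176053 L176077 L152430 (flp_a L152444) (flp_b L152448) (flp_a L161521) L194211
theorem L194217 : sm ge N20542 = N24991 := rfl
theorem L194219 : sm ga N24991 = N20545 := ded_10_1 (flp_e L161567) (flp_a L161549) L194217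
theorem L194221 : sm gc N24991 = N21114 := ded_19_1 (flp_e L178569) L178565 L194217
theorem L194223 : sm gg N24991 = N21179 := ded_26_2 L166893 (flp_g L161551) L194217
theorem L194225 : sm gf N20542 = N24992 := rfl
theorem L194227 : sm ga N24992 = N20546 := ded_11_1 (flp_f L161575) (flp_a L161549) L194225
theorem L194229 : sm gd N24992 = N20543 := ded_23_1 (flp_f L161553) L161547 L194225
theorem L194231 : sm gg N24992 = N23048 := ded_29_3 (flp_a L194187) (flp_f L194185) (flp_g L161551) L194225
theorem L194233 : sm gb N24992 = N22419 := ded_16_1 (flp_f L175172) (flp_b L172847) (flp_f L173935) L173933 L194225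
theorem L194235 : sm gf N20544 = N24993 := rfl
theorem L194237 : sm gc N24993 = N20546 := ded_20_1 (flp_f L161575) L161559 L194235
theorem L194239 : sm gd N24993 = N21934 := ded_23_1 (flp_f L171660) L161563 L194235
theorem L194241 : sm ge N24993 = N21115 := ded_25_1 (flp_f L166448) L161565 L194235
theorem L194243 : sm gg N24993 = N22846 := ded_29_3 L178555 (flp_f L166933) (flp_g L161561) L194235
theorem L194245 : sm gf N20545 = N24994 := rfl
theorem L194247 : sm gc N24994 = N21115 := ded_20_1 (flp_f L166448) (flp_c L161571) L194245
theorem L194249 : sm ge N24994 = N20546 := ded_25_1 (flp_f L161575) L161567 L194245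
theorem L194251 : sm ga N20549 = N24995 := rfl
theorem L194253 : sm gc N24995 = N22659 := ded_8_2 (flp_a L177230) L177232 L194251
theorem L194255 : sm ge N24995 = N20550 := ded_10_2 (flp_a L161599) (flp_e L161597) L194251
theorem L194257 : sm gb N22967 = N24995 := ded_13_5 L194253 L177025 L191868 (flp_b L191874) (flp_c L179457)
theorem L194259 : sm gb N20555 = N24996 := rfl
theorem L194261 : sm gc N24996 = N22628 := ded_13_2 (flp_b L176739) L124702 (flp_b L125544) (flp_c L163691) L194259
theorem L194263 : sm gf N24996 = N20732 := ded_16_2 L189733 (flp_f L189723) L158155 (flp_f L161619) L194259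
theorem L194265 : sm gg N24996 = N24454 := ded_17_2 L190573 L179929 (flp_b L161609) L161615 L194259
theorem L194267 : sm ga N24996 = N20733 := ded_7_1 L162657 (flp_a L171488) (flp_b L175943) (flp_a L175959) L175965 L162010 L112168 (flp_a L161617) L194259
theorem L194269 : sm gf N20557 = N24997 := rfl
theorem L194271 : sm ga N24997 = N22651 := ded_11_1 L176951 L163639 L194269
theorem L194273 : sm gc N24997 = N20558 := ded_20_1 (flp_f L161639) (flp_c L161635) L194269
theorem L194275 : sm gd N24997 = N22650 := ded_23_1 L176945 (flp_d L163562) L194269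
theorem L194277 : sm gg N24997 = N24224 := ded_29_3 L188781 L157301 L161633 L194269
theorem L194279 : sm gg N20560 = N24998 := rfl
theorem L194281 : sm ga N24998 = N22579 := ded_12_1 (flp_g L176296) L163687 L194279
theorem L194283 : sm gd N24998 = N22576 := ded_24_1 (flp_g L176274) (flp_d L163629) L194279
theorem L194285 : sm gb N20564 = N24999 := rfl
theorem L194287 : sm gd N24999 = N20565 := ded_14_2 (flp_b L161673) (flp_d L161671) L194285
theorem L194289 : sm ge N24999 = N22685 := ded_15_2 L177206 L176392 L194285
theorem L194291 : sm gc N24999 = N23931 := ded_13_2 L186645 (flp_c L176869) L176875 L176400 L194285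
theorem L194293 : sm gg N24999 = N22655 := ded_17_2 (flp_b L176991) (flp_g L149654) L163463 L161669 L194285
theorem L194295 : sm ga N24999 = N23933 := ded_30_3 (flp_f L186653) (flp_c L155388) (flp_b L107553) (flp_a L91175) (flp_f L91173) (flp_c L91141) L146717 (flp_a L95144) L95152 L95154 (flp_b L94911) (flp_a L114644) (flp_f L114642) L114638 (flp_b L163570) (flp_a L163475) L176406 L176400 L194285
theorem L194297 : sm gf N23930 = N24999 := ded_23_0 L194287 L186789 L186787
theorem L194299 : N21059 = N23916 := coi_30_15 (flp_a L186515) L155350 L186518 L186521 (flp_a L186635) L194297 L194291 L186645 L157127 L157145 (flp_c L162901) (flp_b L143245) L103202 (flp_f L103014) L103010 L146724 L95201 L95211 (flp_c L115074) L166029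
theorem L194300 : N23916 = N21059 := (eqc rfl L194299 rfl).symm
theorem L194301 : sm ga N21059 = N19592 := trfs L194300 (flp_a L186515) rfl
theorem L194304 : N23918 = N21038 := coi_7_6 (flp_b L165846) (flp_a L114899) (flp_b L146696) (flp_a L115072) L166029 L194301 (flp_b L155348) (flp_a L107499) L155351 L186523
theorem L194305 : N23918 = N21038 := eqc rfl L194304 rfl
theorem L194306 : sm ga N21038 = N19593 := trfs L194305 (flp_a L186523) rfl
theorem L194309 : sm gb N20568 = N25000 := rfl
theorem L194311 : sm gd N25000 = N24247 := ded_14_2 (flp_b L188965) L163441 L194309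
theorem L194313 : sm gg N25000 = N24241 := ded_17_2 (flp_b L188913) L157369 (flp_b L174074) (flp_g L174078) L194309
theorem L194315 : sm gf N20568 = N25001 := rfl
theorem L194317 : sm ga N25001 = N20570 := ded_11_1 (flp_f L161697) L161691 L194315
theorem L194319 : sm gc N25001 = N22070 := ded_20_1 L174092 L174088 L194315
theorem L194321 : sm gd N25001 = N24246 := ded_23_1 L188961 L163441 L194315
theorem L194323 : sm gg N25001 = N22318 := ded_29_3 L174362 (flp_f L174072) (flp_g L174078) L194315
theorem L194325 : sm gb N22445 = N25001 := ded_30_2 L194317 (flp_f L161697) L163291 L163286 (flp_a L121729) (flp_f L121727) (flp_c L97607) (flp_b L85414) (flp_a L85394) L85412 (flp_c L97583) L121693 L172487 L184338 L184334 (flp_b L162812) (flp_a L175328) (flp_f L175326) (flp_c L175324)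
theorem L194327 : sm gb N20571 = N25002 := rfl
theorem L194329 : sm gd N25002 = N24249 := ded_14_2 (flp_b L188983) (flp_d L163445) L194327
theorem L194331 : sm gc N25002 = N21991 := ded_13_2 L172073 (flp_c L172921) (flp_b L174060) (flp_c L174066) L194327
theorem L194333 : sm gf N25002 = N22000 := ded_16_2 L172123 L123377 (flp_b L174366) L174364 L194327
theorem L194335 : sm gg N25002 = N20574 := ded_17_2 (flp_b L161713) (flp_g L111839) L111833 L161699 L194327
theorem L194337 : sm ga N25002 = N22469 := ded_7_1 L175527 (flp_a L190139) (flp_b L190147) L188781 L157303 (flp_a L157311) (flp_b L174074) L174070 L194327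
theorem L194339 : sm gf N20574 = N25003 := rfl
theorem L194341 : sm ga N25003 = N22468 := ded_11_1 (flp_f L175517) L163856 L194339
theorem L194343 : sm gc N25003 = N21986 := ded_20_1 L172039 (flp_c L161715) L194339
theorem L194345 : sm gb N25003 = N23946 := ded_16_1 (flp_f L186789) (flp_b L161673) (flp_f L111845) L161713 L194339
theorem L194347 : sm gb N20579 = N25004 := rfl
theorem L194349 : sm gd N25004 = N20580 := ded_14_2 (flp_b L161739) (flp_d L161735) L194347
theorem L194351 : sm ga N25004 = N25004 := ded_7_1 (flp_b L194347) L161733 L194285 L194295 L186661 (flp_a L194295) (flp_b L194285) (flp_a L161733) L194347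
theorem L194352 : sm gg N20580 = N25005 := rfl
theorem L194354 : sm ga N25005 = N25005 := ded_12_1 (flp_g L194352) L161741 L194352
theorem L194355 : sm gb N25005 = N24998 := ded_17_1 (flp_g L194279) (flp_b L161653) (flp_g L111861) L161739 L194352
theorem L194357 : sm gc N20581 = N25006 := rfl
theorem L194359 : sm ga N25006 = N24294 := ded_8_1 (flp_c L189303) L161748 L194357
theorem L194361 : sm gg N25006 = N20585 := ded_21_2 (flp_c L161766) (flp_g L161746) L194357
theorem L194363 : sm gb N25006 = N25006 := ded_13_1 (flp_c L194357) (flp_b L161742) L111905 L161742 L194357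
theorem L194364 : sm gd N25006 = N20936 := ded_28_7 (flp_a L165072) (flp_c L165171) L165173 (flp_c L157543) L157545 L155496 (flp_d L161744) L194357
theorem L194366 : sm ga N20583 = N25007 := rfl
theorem L194368 : sm ge N25007 = N20584 := ded_10_2 (flp_a L161760) (flp_e L161758) L194366
theorem L194370 : sm gg N25007 = N24295 := ded_12_2 L189311 L182905 L194366
theorem L194372 : sm gc N20583 = N25008 := rfl
theorem L194374 : sm ge N25008 = N20585 := ded_19_2 (flp_c L161766) (flp_e L161758) L194372
theorem L194376 : sm gf N20934 = N25008 := ded_25_0 L194374 (flp_f L163675) L165055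
theorem L194378 : sm gf N20583 = N25009 := rfl
theorem L194380 : sm gc N25009 = N20934 := ded_20_1 L194376 (flp_c L194372) L194378
theorem L194382 : sm ge N25009 = N20586 := ded_25_1 (flp_f L161768) (flp_e L161758) L194378
theorem L194384 : sm gb N25009 = N22724 := ded_16_1 L177501 (flp_b L161344) (flp_f L111918) L161756 L194378
theorem L194386 : sm gc N20584 = N25010 := rfl
theorem L194388 : sm ga N25010 = N20585 := ded_8_1 (flp_c L161766) L161760 L194386
theorem L194390 : sm gg N25010 = N24294 := ded_21_2 (flp_c L189303) (flp_g L161764) L194386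
theorem L194392 : sm gd N25010 = N20932 := ded_28_7 L165049 (flp_c L165025) L165027 L153936 L153930 (flp_c L155500) (flp_d L161762) L194386
theorem L194394 : sm gf N20931 = N25010 := ded_30_0 (flp_c L194386) L183233 L183227 (flp_f L179473) L179467 L179471 (flp_a L179483) L179529 L179527 (flp_b L176789) L176783 L165756 (flp_c L165748) (flp_b L114748) (flp_a L100511) (flp_f L100509) (flp_c L94672) (flp_b L114149) (flp_a L165045)
theorem L194396 : sm gf N20584 = N25011 := rfl
theorem L194398 : sm ga N25011 = N20586 := ded_11_1 (flp_f L161768) L161760 L194396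
theorem L194400 : sm gc N25011 = N20931 := ded_20_1 L194394 (flp_c L194386) L194396
theorem L194402 : sm gd N25011 = N20588 := ded_23_1 (flp_f L161778) (flp_d L161762) L194396
theorem L194404 : sm gg N25011 = N23666 := ded_29_3 (flp_a L189315) (flp_f L189313) (flp_g L161764) L194396
theorem L194406 : sm gc N20592 = N25012 := rfl
theorem L194408 : sm ga N25012 = N25012 := ded_8_1 (flp_c L194406) L161825 L194406
theorem L194409 : sm ge N25012 = N21077 := ded_19_2 (flp_c L166166) (flp_e L161820) L194406
theorem L194411 : sm gf N25012 = N25012 := ded_20_2 (flp_c L194406) L161822 L194406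
theorem L194412 : sm gg N25012 = N21964 := ded_21_2 (flp_c L171905) (flp_g L161823) L194406
theorem L194414 : sm gb N25012 = N20688 := ded_13_1 (flp_c L162366) (flp_b L112424) (flp_c L111968) L161816 L194406
theorem L194416 : sm gd N20593 = N25013 := rfl
theorem L194418 : sm ga N25013 = N24722 := ded_9_1 L192417 (flp_a L161828) L194416
theorem L194420 : sm gb N25013 = N21072 := ded_14_1 (flp_d L166142) (flp_b L161834) L194416
theorem L194422 : sm gf N25013 = N23196 := ded_23_2 L181183 (flp_f L161832) L194416
theorem L194424 : sm ge N25013 = N23197 := ded_22_2 L181187 L144767 L120352 (flp_e L161830) L194416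
theorem L194426 : sm gc N24709 = N25013 := ded_28_0 (flp_d L194416) (flp_c L161826) (flp_d L111984) L93488 (flp_d L92831) (flp_c L110845) L160210 (flp_a L192327)
theorem L194428 : sm gg N20593 = N25014 := rfl
theorem L194430 : sm ga N25014 = N24811 := ded_12_1 (flp_g L192987) (flp_a L161828) L194428
theorem L194432 : sm gc N25014 = N20594 := ded_21_1 (flp_g L161836) L161826 L194428
theorem L194434 : sm ge N25014 = N21910 := ded_26_1 (flp_g L171476) (flp_e L161830) L194428
theorem L194436 : sm gf N21085 = N25014 := ded_29_0 (flp_g L194428) L161832 L183375 L183377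
theorem L194438 : sm gb N20596 = N25015 := rfl
theorem L194440 : sm ge N25015 = N20598 := ded_15_2 (flp_b L161870) (flp_e L161860) L194438
theorem L194442 : sm gc N23204 = N25015 := ded_30_1 (flp_b L194438) (flp_a L161858) L149778 (flp_c L112736) (flp_b L93881) (flp_a L93843) (flp_f L93841) (flp_c L47398) (flp_b L94289) (flp_a L113390) L164246 L164250 L164292 (flp_a L179013) (flp_f L179011) L179005 L181223 (flp_a L181215) L181235
theorem L194444 : sm gf N23203 = N25015 := ded_25_0 L194440 L161876 (flp_e L181231)
theorem L194446 : sm ga N20597 = N25016 := rfl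
theorem L194448 : sm gc N25016 = N22853 := ded_8_2 (flp_a L178607) (flp_c L161868) L194446
theorem L194450 : sm gd N25016 = N24787 := ded_9_2 L192815 L192463 L194446
theorem L194452 : sm ge N25016 = N20599 := ded_10_2 (flp_a L161878) (flp_e L161866) L194446
theorem L194454 : sm gg N20597 = N25017 := rfl
theorem L194456 : sm gc N25017 = N22852 := ded_21_1 L178605 (flp_c L161868) L194454
theorem L194458 : sm ge N25017 = N20600 := ded_26_1 (flp_g L161882) (flp_e L161866) L194454
theorem L194460 : sm gb N25017 = N24975 := ded_17_1 (flp_g L194083) L161318 (flp_g L112016) L161864 L194454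
theorem L194462 : sm gb N20599 = N25018 := rfl
theorem L194464 : sm gd N25018 = N20606 := ded_14_2 (flp_b L161912) (flp_d L161880) L194462
theorem L194466 : sm gc N25018 = N22988 := ded_13_2 (flp_b L179615) (flp_c L179865) L179871 L162700 L194462
theorem L194468 : sm gf N25018 = N22422 := ded_16_2 L175196 (flp_f L171628) L171626 L162734 L194462
theorem L194470 : sm ga N25018 = N23001 := ded_7_1 (flp_b L179715) (flp_a L143757) (flp_b L161376) (flp_a L161348) (flp_b L111649) (flp_a L93506) L112032 L161878 L194462
theorem L194472 : sm gd N20604 = N25019 := rfl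
theorem L194474 : sm ga N25019 = N20978 := ded_9_1 (flp_d L174980) L174986 L194472
theorem L194476 : sm gf N25019 = N20609 := ded_23_2 (flp_d L161928) (flp_f L161904) L194472
theorem L194478 : sm ge N25019 = N22981 := ded_22_2 (flp_d L179557) (flp_e L178743) L192527 L192523 L194472
theorem L194480 : sm gc N20977 = N25019 := ded_28_0 (flp_d L194472) (flp_c L161902) (flp_d L149792) (flp_c L112724) (flp_d L94237) (flp_c L140290) (flp_d L114500) L165372
theorem L194482 : sm gg N20604 = N25020 := rfl
theorem L194484 : sm gc N25020 = N20605 := ded_21_1 (flp_g L161906) L161902 L194482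
theorem L194486 : sm gb N24403 = N25020 := ded_31_14 (flp_g L194482) L161904 L112046 L112058 (flp_f L163596) L113973 (flp_g L113190) (flp_f L141044) (flp_b L125544) L163637 (flp_f L188783) L190147 (flp_g L190137) L190129
theorem L194488 : sm gd N20607 = N25021 := rfl
theorem L194490 : sm ga N25021 = N20609 := ded_9_1 (flp_d L161928) (flp_a L161920) L194488
theorem L194492 : sm gb N25021 = N20797 := ded_14_1 (flp_d L174946) (flp_b L174948) L194488
theorem L194494 : sm gf N25021 = N20978 := ded_23_2 (flp_d L174980) L174984 L194488
theorem L194496 : sm ge N25021 = N20801 := ded_22_2 L164059 (flp_e L178755) L192549 L192547 L194488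
theorem L194498 : sm gc N20961 = N25021 := ded_28_0 (flp_d L194488) (flp_c L161918) (flp_d L161880) (flp_c L162700) (flp_d L164180) (flp_c L165478) L165480 (flp_a L165278)
theorem L194500 : sm gg N23805 = N25021 := ded_26_0 L194496 (flp_g L164057) L185535
theorem L194502 : sm gg N20607 = N25022 := rfl
theorem L194504 : sm ga N25022 = N20610 := ded_12_1 (flp_g L161932) (flp_a L161920) L194502
theorem L194506 : sm gc N25022 = N20608 := ded_21_1 (flp_g L161922) L161918 L194502
theorem L194508 : sm gd N25022 = N23805 := ded_24_1 L194500 (flp_d L194488) L194502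
theorem L194510 : sm gf N25022 = N25020 := ded_29_2 (flp_g L194482) (flp_a L174986) L174984 L194502
theorem L194512 : sm gg N20609 = N25023 := rfl
theorem L194514 : sm ga N25023 = N23805 := ded_12_1 L194500 L194490 L194512
theorem L194516 : sm gc N25023 = N21003 := ded_21_1 L165608 L163608 L194512
theorem L194518 : sm gd N25023 = N20610 := ded_24_1 (flp_g L161932) L161928 L194512
theorem L194520 : sm ge N25023 = N22984 := ded_26_1 (flp_g L179581) (flp_e L163616) L194512
theorem L194522 : sm gb N25023 = N22580 := ded_17_1 (flp_g L176300) L142780 L163538 (flp_b L161930) L194512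
theorem L194524 : sm gb N20610 = N25024 := rfl
theorem L194526 : sm gd N25024 = N22580 := ded_14_2 (flp_b L194522) L194518 L194524
theorem L194528 : sm gc N25024 = N24969 := ded_13_2 (flp_b L194033) L161258 (flp_b L112050) (flp_c L161934) L194524
theorem L194530 : sm gg N25024 = N20617 := ded_17_2 (flp_b L161960) (flp_g L112058) (flp_b L112046) L161932 L194524
theorem L194532 : sm gf N24998 = N25024 := ded_23_0 L194526 (flp_f L176306) (flp_d L194283)
theorem L194534 : sm gf N20610 = N25025 := rfl
theorem L194536 : sm ga N25025 = N25020 := ded_11_1 (flp_f L194510) L194504 L194534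
theorem L194538 : sm gc N25025 = N20611 := ded_20_1 (flp_f L161936) (flp_c L161934) L194534
theorem L194540 : sm gg N25025 = N22395 := ded_29_3 L174986 L161904 L161932 L194534
theorem L194542 : sm gb N20611 = N25026 := rfl
theorem L194544 : sm gf N25026 = N24969 := ded_16_2 (flp_b L194033) L161260 (flp_b L112050) L161936 L194542
theorem L194546 : sm gg N25026 = N22495 := ded_17_2 L175689 L161651 L161900 (flp_g L161940) L194542
theorem L194548 : sm gc N24998 = N25026 := ded_20_3 L194544 (flp_c L194528) (flp_f L194532)
theorem L194550 : sm gc N20619 = N25027 := rfl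
theorem L194552 : sm ga N25027 = N24351 := ded_8_1 (flp_c L189735) L161978 L194550
theorem L194554 : sm gf N25027 = N20623 := ded_20_2 (flp_c L161996) (flp_f L161976) L194550
theorem L194556 : sm gb N25027 = N25027 := ded_13_1 (flp_c L194550) (flp_b L161972) L112097 L161972 L194550
theorem L194557 : sm gd N25027 = N20865 := ded_28_7 (flp_a L165700) L165702 L164555 (flp_c L157675) L157677 L112137 (flp_d L161974) L194550
theorem L194559 : sm ga N20621 = N25028 := rfl
theorem L194561 : sm ge N25028 = N20622 := ded_10_2 (flp_a L161990) (flp_e L161988) L194559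
theorem L194563 : sm gf N25028 = N24352 := ded_11_2 L189743 L183044 L194559
theorem L194565 : sm gc N20621 = N25029 := rfl
theorem L194567 : sm ge N25029 = N20623 := ded_19_2 (flp_c L161996) (flp_e L161988) L194565
theorem L194569 : sm gg N21016 = N25029 := ded_26_0 L194567 (flp_g L163756) L165690
theorem L194571 : sm gg N20621 = N25030 := rfl
theorem L194573 : sm gc N25030 = N21016 := ded_21_1 L194569 (flp_c L194565) L194571
theorem L194575 : sm ge N25030 = N20624 := ded_26_1 (flp_g L161998) (flp_e L161988) L194571
theorem L194577 : sm gb N25030 = N22688 := ded_17_1 L177226 (flp_b L161595) L112117 L161986 L194571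
theorem L194579 : sm gc N20622 = N25031 := rfl
theorem L194581 : sm ga N25031 = N20623 := ded_8_1 (flp_c L161996) L161990 L194579
theorem L194583 : sm gf N25031 = N24351 := ded_20_2 (flp_c L189735) (flp_f L161994) L194579
theorem L194585 : sm gd N25031 = N21015 := ded_28_7 L165686 L164566 L164562 L153664 L153660 L112129 (flp_d L161992) L194579
theorem L194587 : sm gg N21013 = N25031 := ded_12_0 L194581 (flp_g L163756) (flp_a L165674)
theorem L194589 : sm gg N20622 = N25032 := rfl
theorem L194591 : sm ga N25032 = N20624 := ded_12_1 (flp_g L161998) L161990 L194589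
theorem L194593 : sm gc N25032 = N21013 := ded_21_1 L194587 (flp_c L194579) L194589
theorem L194595 : sm gd N25032 = N20626 := ded_24_1 (flp_g L162008) (flp_d L161992) L194589
theorem L194597 : sm gf N23718 = N25032 := ded_29_0 (flp_g L194589) L161994 L189745 L189747
theorem L194599 : sm gc N20630 = N25033 := rfl
theorem L194601 : sm ga N25033 = N25033 := ded_8_1 (flp_c L194599) L162055 L194599
theorem L194602 : sm ge N25033 = N21079 := ded_19_2 (flp_c L166182) (flp_e L162050) L194599
theorem L194604 : sm gf N25033 = N22008 := ded_20_2 (flp_c L172196) (flp_f L162052) L194599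
theorem L194606 : sm gg N25033 = N25033 := ded_21_2 (flp_c L194599) L162054 L194599
theorem L194607 : sm gb N25033 = N20742 := ded_13_1 (flp_c L162684) (flp_b L112668) (flp_c L112198) L162046 L194599
theorem L194609 : sm gd N20631 = N25034 := rfl
theorem L194611 : sm ga N25034 = N24771 := ded_9_1 L192727 (flp_a L162058) L194609
theorem L194613 : sm gb N25034 = N21075 := ded_14_1 (flp_d L166158) (flp_b L162064) L194609
theorem L194615 : sm gg N25034 = N23272 := ded_24_2 L181705 (flp_g L162062) L194609
theorem L194617 : sm ge N25034 = N23274 := ded_22_2 L181713 L145040 L149164 (flp_e L162060) L194609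
theorem L194619 : sm gc N24758 = N25034 := ded_28_0 (flp_d L194609) (flp_c L162056) (flp_d L112214) L93627 (flp_d L92903) (flp_c L111013) L160440 (flp_a L192637)
theorem L194621 : sm gf N20631 = N25035 := rfl
theorem L194623 : sm ga N25035 = N24864 := ded_11_1 (flp_f L193309) (flp_a L162058) L194621
theorem L194625 : sm gc N25035 = N20632 := ded_20_1 (flp_f L162066) L162056 L194621
theorem L194627 : sm ge N25035 = N21911 := ded_25_1 (flp_f L171486) (flp_e L162060) L194621
theorem L194629 : sm gg N25035 = N21090 := ded_29_3 (flp_a L183883) (flp_f L183881) (flp_g L162062) L194621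
theorem L194631 : sm gb N20634 = N25036 := rfl
theorem L194633 : sm ge N25036 = N20636 := ded_15_2 (flp_b L162104) (flp_e L162094) L194631
theorem L194635 : sm gc N25036 = N23280 := ded_13_2 L181765 L194442 (flp_b L194438) (flp_c L162092) L194631
theorem L194637 : sm gg N23279 = N25036 := ded_26_0 L194633 (flp_g L162110) (flp_e L181753)
theorem L194639 : sm ga N20635 = N25037 := rfl
theorem L194641 : sm gc N25037 = N22855 := ded_8_2 (flp_a L178623) (flp_c L162102) L194639
theorem L194643 : sm gd N25037 = N24738 := ded_9_2 (flp_a L192779) L192773 L194639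
theorem L194645 : sm ge N25037 = N20637 := ded_10_2 (flp_a L162112) (flp_e L162100) L194639
theorem L194647 : sm gf N20635 = N25038 := rfl
theorem L194649 : sm gc N25038 = N22854 := ded_20_1 L178621 (flp_c L162102) L194647
theorem L194651 : sm ge N25038 = N20638 := ded_25_1 (flp_f L162116) (flp_e L162100) L194647
theorem L194653 : sm gb N25038 = N24994 := ded_16_1 (flp_f L194245) L161569 L112246 L162098 L194647
theorem L194655 : sm gb N20637 = N25039 := rfl
theorem L194657 : sm gd N25039 = N20644 := ded_14_2 (flp_b L162144) (flp_d L162114) L194655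
theorem L194659 : sm gc N25039 = N22992 := ded_13_2 (flp_b L179643) (flp_c L180083) L180089 L162380 L194655
theorem L194661 : sm gg N25039 = N22231 := ded_17_2 L173747 (flp_g L171674) L171670 L162412 L194655
theorem L194663 : sm ga N25039 = N23026 := ded_7_1 (flp_b L179933) (flp_a L143867) L161627 (flp_a L161599) (flp_b L111795) (flp_a L93645) L112262 L162112 L194655
theorem L194665 : sm gd N20642 = N25040 := rfl
theorem L194667 : sm ga N25040 = N20894 := ded_9_1 (flp_d L173473) L173479 L194665
theorem L194669 : sm gg N25040 = N20647 := ded_24_2 (flp_d L162156) (flp_g L162136) L194665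
theorem L194671 : sm ge N25040 = N22972 := ded_22_2 (flp_d L179489) (flp_e L178665) L192849 L192845 L194665
theorem L194673 : sm gc N20893 = N25040 := ded_28_0 (flp_d L194665) (flp_c L162134) (flp_d L149798) (flp_c L112480) (flp_d L93986) (flp_c L133833) (flp_d L113939) L164763
theorem L194675 : sm gf N20642 = N25041 := rfl
theorem L194677 : sm gc N25041 = N20643 := ded_20_1 (flp_f L162138) L162134 L194675
theorem L194679 : sm gb N25041 = N24413 := ded_31_2 (flp_g L190214) L190202 (flp_b L190212) L188619 (flp_f L163503) L126356 L141036 L113616 (flp_b L114534) L163671 (flp_f L112288) (flp_b L112276) (flp_g L162136) L194675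
theorem L194681 : sm gd N20645 = N25042 := rfl
theorem L194683 : sm ga N25042 = N20647 := ded_9_1 (flp_d L162156) (flp_a L162148) L194681
theorem L194685 : sm gb N25042 = N20848 := ded_14_1 (flp_d L173445) (flp_b L173447) L194681
theorem L194687 : sm gg N25042 = N20894 := ded_24_2 (flp_d L173473) L173477 L194681
theorem L194689 : sm ge N25042 = N20851 := ded_22_2 L164472 (flp_e L178677) (flp_d L192871) L192869 L194681
theorem L194691 : sm gc N20874 = N25042 := ded_28_0 (flp_d L194681) (flp_c L162146) (flp_d L162114) (flp_c L162380) (flp_d L162833) (flp_c L164865) L164867 (flp_a L164649)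
theorem L194693 : sm gf N23831 = N25042 := ded_25_0 L194689 (flp_f L164470) L185797
theorem L194695 : sm gf N20645 = N25043 := rfl
theorem L194697 : sm ga N25043 = N20648 := ded_11_1 (flp_f L162160) (flp_a L162148) L194695
theorem L194699 : sm gc N25043 = N20646 := ded_20_1 (flp_f L162150) L162146 L194695
theorem L194701 : sm gd N25043 = N23831 := ded_23_1 L194693 (flp_d L194681) L194695
theorem L194703 : sm gg N25041 = N25043 := ded_29_1 (flp_f L194695) (flp_g L173477) L173479 L194675
theorem L194705 : sm gf N20647 = N25044 := rfl
theorem L194707 : sm ga N25044 = N23831 := ded_11_1 L194693 L194683 L194705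
theorem L194709 : sm gc N25044 = N20919 := ded_20_1 L164985 L163764 L194705
theorem L194711 : sm gd N25044 = N20648 := ded_23_1 (flp_f L162160) L162156 L194705
theorem L194713 : sm ge N25044 = N22975 := ded_25_1 (flp_f L179513) (flp_e L163778) L194705
theorem L194715 : sm gb N25044 = N22627 := ded_16_1 (flp_f L176729) (flp_b L142714) L163712 (flp_b L162158) L194705
theorem L194717 : sm gb N20648 = N25045 := rfl
theorem L194719 : sm gd N25045 = N22627 := ded_14_2 (flp_b L194715) L194711 L194717
theorem L194721 : sm gc N25045 = N24988 := ded_13_2 (flp_b L194195) L161509 (flp_b L112280) (flp_c L162162) L194717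
theorem L194723 : sm gf N25045 = N20655 := ded_16_2 (flp_b L162188) (flp_f L112288) (flp_b L112276) L162160 L194717
theorem L194725 : sm gg N24979 = N25045 := ded_24_0 L194719 L176737 (flp_d L194121)
theorem L194727 : sm gg N20648 = N25046 := rfl
theorem L194729 : sm ga N25046 = N25041 := ded_12_1 L194703 L194697 L194727
theorem L194731 : sm gc N25046 = N20649 := ded_21_1 (flp_g L162164) (flp_c L162162) L194727
theorem L194733 : sm gf N22190 = N25046 := ded_29_0 (flp_g L194727) (flp_f L162160) (flp_g L162136) (flp_a L173479)
theorem L194735 : sm gb N20649 = N25047 := rfl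
theorem L194737 : sm gf N25047 = N22557 := ded_16_2 L176105 L161398 (flp_b L162792) L162168 L194735
theorem L194739 : sm gg N25047 = N24988 := ded_17_2 (flp_b L194195) (flp_g L161511) (flp_b L112280) L162164 L194735
theorem L194741 : sm gc N24979 = N25047 := ded_20_3 L194737 L176101 L194117
theorem L194743 : sm gg N20658 = N25048 := rfl
theorem L194745 : sm ga N25048 = N20668 := ded_12_1 (flp_g L162267) (flp_a L162208) L194743
theorem L194747 : sm gc N25048 = N20661 := ded_21_1 (flp_g L162230) (flp_c L162212) L194743
theorem L194749 : sm gd N25048 = N22856 := ded_24_1 (flp_g L178631) (flp_d L162214) L194743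
theorem L194751 : sm ge N25048 = N20659 := ded_26_1 (flp_g L162216) L162206 L194743
theorem L194753 : sm gf N25048 = N22856 := ded_29_2 (flp_g L178631) (flp_a L162259) L162261 L194743
theorem L194755 : sm gb N20661 = N25049 := rfl
theorem L194757 : sm ge N25049 = N20662 := ded_15_2 (flp_b L162236) (flp_e L162234) L194755
theorem L194759 : sm gg N25049 = N23345 := ded_17_2 (flp_b L182221) L145338 (flp_b L145284) L162230 L194755
theorem L194761 : sm gf N24338 = N25049 := ded_25_0 L194757 L175486 L189631
theorem L194763 : sm gb N20664 = N25050 := rfl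
theorem L194765 : sm gd N25050 = N23507 := ded_14_2 (flp_b L189099) L189095 L194763
theorem L194767 : sm gc N25050 = N22214 := ded_13_2 (flp_b L173649) (flp_c L173552) L173556 L175480 L194763
theorem L194769 : sm gf N25050 = N22214 := ded_16_2 (flp_b L173649) L122376 (flp_b L173755) (flp_f L175484) L194763
theorem L194771 : sm gg N25050 = N24289 := ded_17_2 L189255 (flp_g L176009) (flp_b L189473) L189471 L194763
theorem L194773 : sm ga N25050 = N23504 := ded_7_1 (flp_b L183541) L183533 (flp_b L162342) (flp_a L112386) (flp_b L93710) (flp_a L93688) L112342 L162250 L194763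
theorem L194775 : sm gg N20667 = N25051 := rfl
theorem L194777 : sm ga N25051 = N22856 := ded_12_1 (flp_g L178631) (flp_a L162259) L194775
theorem L194779 : sm gc N25051 = N20672 := ded_21_1 L162303 L162265 L194775
theorem L194781 : sm gd N25051 = N20668 := ded_24_1 (flp_g L162267) L162257 L194775
theorem L194783 : sm ge N25051 = N20669 := ded_26_1 L162281 (flp_e L162263) L194775
theorem L194785 : sm gf N20668 = N25051 := ded_29_0 (flp_g L194775) L162261 L194743 L194745
theorem L194787 : sm gb N24439 = N25051 := ded_31_14 (flp_g L194775) L162261 L162210 (flp_g L130084) (flp_f L130078) L130070 L130076 L130097 L130103 L129454 (flp_f L129448) L129438 (flp_g L158666) L190425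
theorem L194789 : sm gb N20670 = N25052 := rfl
theorem L194791 : sm ge N25052 = N20673 := ded_15_2 (flp_b L162305) (flp_e L162287) L194789
theorem L194793 : sm ga N23370 = N25052 := ded_10_3 L194791 (flp_a L183547) (flp_e L182369)
theorem L194795 : sm ga N20671 = N25053 := rfl
theorem L194797 : sm gc N25053 = N23256 := ded_8_2 L181585 L180529 L194795
theorem L194799 : sm ge N25053 = N20674 := ded_10_2 (flp_a L162309) (flp_e L162293) L194795
theorem L194801 : sm gg N25053 = N20683 := ded_12_2 (flp_a L162350) (flp_g L162295) L194795
theorem L194803 : sm gf N25053 = N23255 := ded_29_0 (flp_g L181577) (flp_f L144933) (flp_g L162295) L194795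
theorem L194805 : sm gf N20671 = N25054 := rfl
theorem L194807 : sm ga N25054 = N23255 := ded_11_1 (flp_f L194803) (flp_a L194795) L194805
theorem L194809 : sm gc N25054 = N23254 := ded_20_1 L181573 L180529 L194805
theorem L194811 : sm ge N25054 = N20675 := ded_25_1 (flp_f L162319) (flp_e L162293) L194805
theorem L194813 : sm gg N25054 = N22958 := ded_29_3 L179387 (flp_f L144933) (flp_g L162295) L194805
theorem L194815 : sm gb N20672 = N25055 := rfl
theorem L194817 : sm ge N25055 = N20676 := ded_15_2 (flp_b L162329) (flp_e L162301) L194815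
theorem L194819 : sm gc N20673 = N25056 := rfl
theorem L194821 : sm ga N25056 = N20974 := ded_8_1 L183549 L183547 L194819
theorem L194823 : sm gb N25056 = N23008 := ded_13_1 L179777 L143381 L142921 L162305 L194819
theorem L194825 : sm gd N25056 = N20973 := ded_28_7 L165354 (flp_c L114464) (flp_d L146401) (flp_c L153795) (flp_d L158479) L175493 (flp_d L162307) L194819
theorem L194827 : sm ga N20676 = N25057 := rfl
theorem L194829 : sm gd N25057 = N20681 := ded_9_2 (flp_a L162344) (flp_d L162331) L194827
theorem L194831 : sm gf N25057 = N23709 := ded_11_2 (flp_a L190353) L190357 L194827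
theorem L194833 : sm gc N25057 = N23710 := ded_28_0 L184756 L162782 L153157 L143923 (flp_d L158633) L158631 (flp_d L162331) L194827
theorem L194835 : sm gb N25057 = N23566 := ded_7_2 (flp_a L183693) (flp_b L152078) (flp_a L105553) L152864 L183547 (flp_b L162305) (flp_a L112378) L162329 L194827
theorem L194837 : sm gc N20676 = N25058 := rfl
theorem L194839 : sm ga N25058 = N23710 := ded_8_1 (flp_c L194833) (flp_a L194827) L194837
theorem L194841 : sm gf N25058 = N23708 := ded_20_2 L190359 L190357 L194837
theorem L194843 : sm gg N25058 = N20755 := ded_21_2 (flp_c L183447) L183445 L194837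
theorem L194845 : sm gb N25058 = N23019 := ded_13_1 L179877 (flp_b L162283) L162277 L162329 L194837
theorem L194847 : sm gd N25058 = N20756 := ded_28_7 (flp_a L162780) L162782 L153157 L143923 (flp_d L158633) L158631 (flp_d L162331) L194837
theorem L194849 : sm gf N20682 = N25059 := rfl
theorem L194851 : sm ga N25059 = N24433 := ded_11_1 (flp_f L194101) L194105 L194849
theorem L194853 : sm gc N25059 = N24276 := ded_20_1 L190402 L190398 L194849
theorem L194855 : sm gd N25059 = N20754 := ded_23_1 (flp_f L183443) L183441 L194849
theorem L194857 : sm gg N25059 = N24428 := ded_29_3 L190325 (flp_f L158621) L162346 L194849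
theorem L194859 : sm gb N25059 = N22262 := ded_16_1 (flp_f L173917) L162500 L162248 (flp_b L162348) L194849
theorem L194861 : sm gb N20683 = N25060 := rfl
theorem L194863 : sm ge N25060 = N20684 := ded_15_2 (flp_b L162354) (flp_e L162352) L194861
theorem L194865 : sm gc N20684 = N25061 := rfl
theorem L194867 : sm ga N25061 = N23047 := ded_8_1 L189495 L189491 L194865
theorem L194869 : sm gf N25061 = N24319 := ded_20_2 (flp_c L189495) L180121 L194865
theorem L194871 : sm gb N25061 = N24963 := ded_13_1 L193975 L178101 L152184 L162354 L194865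
theorem L194873 : sm gd N25061 = N24320 := ded_28_7 L189499 (flp_c L189533) (flp_d L189853) L189851 (flp_d L189525) L158023 (flp_d L162356) L194865
theorem L194875 : sm gg N23544 = N25061 := ded_31_0 L194869 L189493 L189509 L189515 L184382 (flp_g L183703) L152080 (flp_b L105131) L89726 L89632 L89690 L105071 L151960 L183509
theorem L194877 : sm gg N20684 = N25062 := rfl
theorem L194879 : sm gc N25062 = N23544 := ded_21_1 L194875 (flp_c L194865) L194877
theorem L194881 : sm gd N25062 = N20686 := ded_24_1 (flp_g L162360) (flp_d L162356) L194877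
theorem L194883 : sm gf N25062 = N23544 := ded_29_2 L194875 L194867 L180121 L194877
theorem L194885 : sm gb N25062 = N23543 := ded_17_1 L183567 (flp_b L183569) L162315 L162354 L194877
theorem L194887 : sm gg N20685 = N25063 := rfl
theorem L194889 : sm gc N25063 = N24331 := ded_21_1 L189573 L189533 L194887
theorem L194891 : sm gf N22057 = N25063 := ded_29_0 (flp_g L194887) (flp_f L162358) L162360 L172515
theorem L194893 : sm gf N20686 = N25064 := rfl
theorem L194895 : sm ga N25064 = N25063 := ded_11_1 (flp_f L194891) (flp_a L172515) L194893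
theorem L194897 : sm gc N25064 = N24330 := ded_20_1 (flp_f L189565) L189539 L194893
theorem L194899 : sm gd N25064 = N23544 := ded_23_1 (flp_f L194883) L194881 L194893
theorem L194901 : sm gg N25064 = N24320 := ded_29_3 L189499 (flp_f L162358) L162360 L194893
theorem L194903 : sm gb N25064 = N23539 := ded_16_1 (flp_f L183475) L183467 L189273 (flp_b L189277) L194893
theorem L194905 : sm gc N20687 = N25065 := rfl
theorem L194907 : sm ga N25065 = N25024 := ded_8_1 L194528 L194037 L194905
theorem L194909 : sm gg N25065 = N22494 := ded_21_2 (flp_c L175675) (flp_g L162364) L194905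
theorem L194911 : sm gd N22581 = N25065 := ded_9_0 L194907 L194526 (flp_a L176310)
theorem L194913 : sm gf N22579 = N25065 := ded_11_0 L194907 (flp_f L194532) L194281
theorem L194915 : sm gf N20687 = N25066 := rfl
theorem L194917 : sm ga N25066 = N25026 := ded_11_1 L194544 L194037 L194915
theorem L194919 : sm gc N25066 = N22579 := ded_20_1 L194913 (flp_c L194905) L194915
theorem L194921 : sm gd N25066 = N23549 := ded_23_1 (flp_f L183839) L183837 L194915
theorem L194923 : sm gg N25066 = N22577 := ded_29_3 L176284 (flp_f L175683) (flp_g L162364) L194915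
theorem L194925 : sm gb N25066 = N23546 := ded_16_1 L183521 (flp_b L162342) L112422 L162362 L194915
theorem L194927 : sm gg N20688 = N25067 := rfl
theorem L194929 : sm gc N25067 = N20689 := ded_21_1 (flp_g L162372) L162366 L194927
theorem L194931 : sm gd N25067 = N22086 := ded_24_1 L172723 L172624 L194927
theorem L194933 : sm ge N25067 = N21494 := ded_26_1 L168869 (flp_e L162368) L194927
theorem L194935 : sm gf N21491 = N25067 := ded_29_0 (flp_g L194927) L162370 L178449 L178451
theorem L194937 : sm gb N25067 = N24974 := ded_17_1 (flp_g L194073) (flp_b L171911) (flp_g L194412) L194414 L194927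
theorem L194939 : sm gc N20692 = N25068 := rfl
theorem L194941 : sm ga N25068 = N20693 := ded_8_1 (flp_c L162394) L162388 L194939
theorem L194943 : sm ge N25068 = N20695 := ded_19_2 (flp_c L162408) (flp_e L162390) L194939
theorem L194945 : sm gg N25068 = N25037 := ded_21_2 L194641 L178629 L194939
theorem L194947 : sm gf N20692 = N25069 := rfl
theorem L194949 : sm ga N25069 = N20694 := ded_11_1 (flp_f L162402) L162388 L194947
theorem L194951 : sm gd N25069 = N22873 := ded_23_1 (flp_f L178765) L178761 L194947
theorem L194953 : sm ge N25069 = N20696 := ded_25_1 (flp_f L162416) (flp_e L162390) L194947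
theorem L194955 : sm gg N22854 = N25069 := ded_29_1 (flp_f L194947) (flp_g L178629) (flp_a L178623) (flp_f L178621)
theorem L194957 : sm gb N25069 = N22945 := ded_16_1 (flp_f L179291) (flp_b L130360) (flp_f L130344) (flp_b L162392) L194947
theorem L194959 : sm gd N20693 = N25070 := rfl
theorem L194961 : sm gb N25070 = N20700 := ded_14_1 (flp_d L162446) (flp_b L162400) L194959
theorem L194963 : sm gg N25070 = N24780 := ded_24_2 L192773 (flp_g L162398) L194959
theorem L194965 : sm ge N25070 = N24785 := ded_22_2 L192801 L160500 (flp_d L149798) (flp_e L162396) L194959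
theorem L194967 : sm gg N20694 = N25071 := rfl
theorem L194969 : sm ga N25071 = N22854 := ded_12_1 L194955 L194949 L194967
theorem L194971 : sm gd N25071 = N22871 := ded_24_1 (flp_g L178783) L178779 L194967
theorem L194973 : sm ge N25071 = N20697 := ded_26_1 (flp_g L162424) (flp_e L162404) L194967
theorem L194975 : sm gf N22855 = N25071 := ded_29_0 (flp_g L194967) (flp_f L162402) (flp_g L129942) L178623
theorem L194977 : sm gb N25071 = N22860 := ded_17_1 L178661 L175755 (flp_g L175749) (flp_b L162406) L194967
theorem L194979 : sm gc N20698 = N25072 := rfl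
theorem L194981 : sm ge N25072 = N20702 := ded_19_2 (flp_c L162462) (flp_e L162434) L194979
theorem L194983 : sm gg N20698 = N25073 := rfl
theorem L194985 : sm ge N25073 = N20703 := ded_26_1 (flp_g L162464) (flp_e L162434) L194983
theorem L194987 : sm gb N20699 = N25074 := rfl
theorem L194989 : sm ge N25074 = N20704 := ded_15_2 (flp_b L162468) (flp_e L162440) L194987
theorem L194991 : sm gf N25074 = N22438 := ded_16_2 (flp_b L175284) (flp_f L123341) (flp_b L112744) (flp_f L162442) L194987
theorem L194993 : sm ga N23275 = N25074 := ded_10_3 L194989 (flp_a L162800) (flp_e L181717)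
theorem L194995 : sm gc N20700 = N25075 := rfl
theorem L194997 : sm ge N25075 = N24784 := ded_19_2 L192797 (flp_e L162450) L194995
theorem L194999 : sm gg N25075 = N24779 := ded_21_2 (flp_c L192765) (flp_g L162448) L194995
theorem L195001 : sm gb N20701 = N25076 := rfl
theorem L195003 : sm ge N25076 = N20705 := ded_15_2 (flp_b L162474) (flp_e L162458) L195001
theorem L195005 : sm gg N25076 = N22254 := ded_17_2 (flp_b L173871) (flp_g L122476) (flp_b L112500) L162452 L195001
theorem L195007 : sm ga N23200 = N25076 := ded_10_3 L195003 L162506 (flp_e L181203)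
theorem L195009 : sm gd N20702 = N25077 := rfl
theorem L195011 : sm ga N25077 = N24454 := ded_9_1 L190571 L183909 L195009
theorem L195013 : sm gb N25077 = N22446 := ded_14_1 (flp_d L183903) (flp_b L183907) L195009
theorem L195015 : sm gf N25077 = N24449 := ded_23_2 (flp_d L190523) L184376 L195009
theorem L195017 : sm gg N25077 = N20733 := ded_24_2 (flp_d L183915) L183921 L195009
theorem L195019 : sm gc N24257 = N25077 := ded_28_0 (flp_d L195009) (flp_c L162462) L112504 (flp_c L120553) (flp_d L149233) L149231 (flp_d L158758) (flp_a L189043)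
theorem L195021 : sm gf N20703 = N25078 := rfl
theorem L195023 : sm ga N25078 = N23658 := ded_11_1 (flp_f L189515) L189511 L195021
theorem L195025 : sm gc N25078 = N20729 := ded_20_1 (flp_f L183919) L183917 L195021
theorem L195027 : sm gd N25078 = N20707 := ded_23_1 (flp_f L162486) (flp_d L162466) L195021
theorem L195029 : sm gg N25078 = N23656 := ded_29_3 (flp_a L184366) L152834 L162464 L195021
theorem L195031 : sm gb N25078 = N22994 := ded_16_1 (flp_f L179655) L152002 L183589 L183599 L195021
theorem L195033 : sm gc N20708 = N25079 := rfl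
theorem L195035 : sm ga N25079 = N20709 := ded_8_1 (flp_c L162508) L162496 L195033
theorem L195037 : sm gg N25079 = N22258 := ded_21_2 (flp_c L173891) (flp_g L162498) L195033
theorem L195039 : sm gb N25079 = N23861 := ded_13_1 L186077 L154892 (flp_c L151884) (flp_b L162500) L195033
theorem L195041 : sm gd N20709 = N25080 := rfl
theorem L195043 : sm gb N25080 = N25040 := ded_14_1 (flp_d L194665) (flp_b L162512) L195041
theorem L195045 : sm gg N25080 = N22260 := ded_24_2 (flp_d L173903) (flp_g L162510) L195041
theorem L195047 : sm gf N20709 = N25081 := rfl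
theorem L195049 : sm gc N25081 = N20710 := ded_20_1 (flp_f L162514) L162508 L195047
theorem L195051 : sm gb N25081 = N24416 := ded_16_1 (flp_f L190247) (flp_b L194679) (flp_f L194675) (flp_b L162512) L195047
theorem L195053 : sm gf N20712 = N25082 := rfl
theorem L195055 : sm ga N25082 = N20722 := ded_11_1 (flp_f L162585) (flp_a L162526) L195053
theorem L195057 : sm gc N25082 = N20714 := ded_20_1 (flp_f L162542) (flp_c L162530) L195053
theorem L195059 : sm gd N25082 = N22867 := ded_23_1 (flp_f L178709) (flp_d L162532) L195053
theorem L195061 : sm ge N25082 = N20713 := ded_25_1 (flp_f L162534) L162524 L195053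
theorem L195063 : sm gg N22867 = N25082 := ded_29_1 (flp_f L195053) (flp_g L162579) L162577 L178709
theorem L195065 : sm gb N20714 = N25083 := rfl
theorem L195067 : sm ge N25083 = N20716 := ded_15_2 (flp_b L162554) (flp_e L162546) L195065
theorem L195069 : sm gf N25083 = N23403 := ded_16_2 (flp_b L182577) (flp_f L145552) L150894 L162542 L195065
theorem L195071 : sm gg N24390 = N25083 := ded_26_0 L195067 L163797 L190057
theorem L195073 : sm gb N20717 = N25084 := rfl
theorem L195075 : sm gd N25084 = N23520 := ded_14_2 (flp_b L189221) L189217 L195073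
theorem L195077 : sm gc N25084 = N22414 := ded_13_2 (flp_b L175134) (flp_c L175057) L175063 (flp_c L163806) L195073
theorem L195079 : sm gf N25084 = N24346 := ded_16_2 L189687 (flp_f L175613) (flp_b L189905) (flp_f L189903) L195073
theorem L195081 : sm gg N25084 = N22414 := ded_17_2 (flp_b L175134) (flp_g L123277) L173266 (flp_g L163795) L195073
theorem L195083 : sm ga N25084 = N23518 := ded_7_1 (flp_b L184009) L184001 (flp_b L162651) (flp_a L112628) (flp_b L93825) (flp_a L93803) L112584 L162560 L195073
theorem L195085 : sm gf N20721 = N25085 := rfl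
theorem L195087 : sm ga N25085 = N22867 := ded_11_1 (flp_f L178709) (flp_a L162577) L195085
theorem L195089 : sm gc N25085 = N20725 := ded_20_1 (flp_f L162613) L162583 L195085
theorem L195091 : sm gd N25085 = N20722 := ded_23_1 (flp_f L162585) L162575 L195085
theorem L195093 : sm ge N25085 = N20723 := ded_25_1 (flp_f L162599) (flp_e L162581) L195085
theorem L195095 : sm gg N25085 = N20722 := ded_29_3 (flp_a L195055) (flp_f L195053) (flp_g L162579) L195085
theorem L195097 : sm gb N25085 = N24418 := ded_31_2 (flp_g L190259) L158539 (flp_b L129386) L129404 L129410 (flp_b L130164) (flp_g L130158) (flp_f L130137) (flp_b L130131) L130139 (flp_f L130145) (flp_b L162528) (flp_g L162579) L195085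
theorem L195099 : sm ga N20724 = N25086 := rfl
theorem L195101 : sm gc N25086 = N23327 := ded_8_2 L182067 L180477 L195099
theorem L195103 : sm ge N25086 = N20727 := ded_10_2 (flp_a L162623) (flp_e L162605) L195099
theorem L195105 : sm gf N25086 = N20737 := ded_11_2 (flp_a L162668) (flp_f L162607) L195099
theorem L195107 : sm gg N23326 = N25086 := ded_29_3 (flp_a L195099) L162607 (flp_g L151425) L182059
theorem L195109 : sm gg N20724 = N25087 := rfl
theorem L195111 : sm ga N25087 = N23326 := ded_12_1 L195107 (flp_a L195099) L195109
theorem L195113 : sm gc N25087 = N23324 := ded_21_1 L182047 L180477 L195109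
theorem L195115 : sm ge N25087 = N20728 := ded_26_1 (flp_g L162633) (flp_e L162605) L195109
theorem L195117 : sm gf N22965 = N25087 := ded_29_0 (flp_g L195109) L162607 (flp_g L151425) (flp_a L179439)
theorem L195119 : sm gb N20725 = N25088 := rfl
theorem L195121 : sm ge N25088 = N20729 := ded_15_2 (flp_b L162643) (flp_e L162611) L195119
theorem L195123 : sm gb N20726 = N25089 := rfl
theorem L195125 : sm ge N25089 = N20730 := ded_15_2 (flp_b L162647) (flp_e L162619) L195123
theorem L195127 : sm ga N23429 = N25089 := ded_10_3 L195125 (flp_a L175842) (flp_e L182737)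
theorem L195129 : sm ga N20729 = N25090 := rfl
theorem L195131 : sm gc N25090 = N23658 := ded_8_2 (flp_a L195023) L195025 L195129
theorem L195133 : sm gd N25090 = N20732 := ded_9_2 (flp_a L162653) (flp_d L162645) L195129
theorem L195135 : sm gg N25090 = N23657 := ded_12_2 (flp_a L190549) L190553 L195129
theorem L195137 : sm gb N25090 = N23621 := ded_7_2 (flp_a L184101) (flp_b L152510) (flp_a L105742) L153285 L175842 (flp_b L162647) L112622 L162643 L195129
theorem L195139 : sm gc N20730 = N25091 := rfl
theorem L195141 : sm ga N25091 = N20892 := ded_8_1 L175844 L175842 L195139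
theorem L195143 : sm gb N25091 = N23033 := ded_13_1 L179995 L143629 L149588 L162647 L195139
theorem L195145 : sm gd N25091 = N20891 := ded_28_7 L164759 (flp_c L113911) (flp_d L120140) (flp_c L154069) (flp_d L158520) L163804 (flp_d L162649) L195139
theorem L195147 : sm gb N20737 = N25092 := rfl
theorem L195149 : sm ge N25092 = N20738 := ded_15_2 (flp_b L162672) (flp_e L162670) L195147
theorem L195151 : sm gc N20738 = N25093 := rfl
theorem L195153 : sm ga N25093 = N23051 := ded_8_1 L189919 L189915 L195151
theorem L195155 : sm gg N25093 = N24373 := ded_21_2 (flp_c L189919) L180153 L195151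
theorem L195157 : sm gb N25093 = N24965 := ded_13_1 L193993 L178111 L152606 L162672 L195151
theorem L195159 : sm gd N25093 = N24374 := ded_28_7 L189923 (flp_c L189973) L189975 (flp_c L189957) (flp_d L189949) L158323 (flp_d L162674) L195151
theorem L195161 : sm gf N25093 = N23603 := ded_31_1 (flp_b L183967) (flp_g L152400) (flp_f L105262) (flp_b L89775) (flp_g L89660) L89811 L105324 (flp_g L152512) L184111 (flp_b L184758) L189939 (flp_f L189933) (flp_b L189917) (flp_g L195155)
theorem L195163 : sm gf N20738 = N25094 := rfl
theorem L195165 : sm gc N25094 = N23603 := ded_20_1 (flp_f L195161) (flp_c L195151) L195163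
theorem L195167 : sm gd N25094 = N20739 := ded_23_1 (flp_f L162676) (flp_d L162674) L195163
theorem L195169 : sm gg N23603 = N25094 := ded_29_1 (flp_f L195163) (flp_g L180153) (flp_a L195153) L195161
theorem L195171 : sm gb N25094 = N23602 := ded_16_1 (flp_f L184021) (flp_b L184023) L162629 L162672 L195163
theorem L195173 : sm gg N20739 = N25095 := rfl
theorem L195175 : sm gc N25095 = N24383 := ded_21_1 L190001 L189963 L195173
theorem L195177 : sm gd N25095 = N23603 := ded_24_1 L195169 L195167 L195173
theorem L195179 : sm gf N24374 = N25095 := ded_29_0 (flp_g L195173) (flp_f L162676) L162678 (flp_a L189923)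
theorem L195181 : sm gb N25095 = N23599 := ded_17_1 (flp_g L183943) L183935 L189709 L189707 L195173
theorem L195183 : sm gf N20740 = N25096 := rfl
theorem L195185 : sm ga N25096 = N25095 := ded_11_1 (flp_f L195179) L189923 L195183
theorem L195187 : sm gc N25096 = N24309 := ded_20_1 (flp_f L189977) L189973 L195183
theorem L195189 : sm gg N25096 = N22271 := ded_29_3 (flp_a L173970) (flp_f L162676) L162678 L195183
theorem L195191 : sm gc N20741 = N25097 := rfl
theorem L195193 : sm ga N25097 = N25045 := ded_8_1 L194721 L194199 L195191
theorem L195195 : sm gf N25097 = N22556 := ded_20_2 (flp_c L176091) (flp_f L162682) L195191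
theorem L195197 : sm gd N22626 = N25097 := ded_9_0 L195193 L194719 L176731
theorem L195199 : sm gg N22625 = N25097 := ded_12_0 L195193 (flp_g L194725) L194119
theorem L195201 : sm gg N20741 = N25098 := rfl
theorem L195203 : sm ga N25098 = N25047 := ded_12_1 L194739 L194199 L195201
theorem L195205 : sm gc N25098 = N22625 := ded_21_1 L195199 (flp_c L195191) L195201
theorem L195207 : sm gd N25098 = N23609 := ded_24_1 (flp_g L184171) L184167 L195201
theorem L195209 : sm gf N22623 = N25098 := ded_29_0 (flp_g L195201) L162682 L176099 (flp_a L176705)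
theorem L195211 : sm gb N25098 = N23606 := ded_17_1 (flp_g L183989) (flp_b L162651) (flp_g L112666) L162680 L195201
theorem L195213 : sm gf N20742 = N25099 := rfl
theorem L195215 : sm gc N25099 = N20743 := ded_20_1 (flp_f L162690) L162684 L195213
theorem L195217 : sm gd N25099 = N22300 := ded_23_1 (flp_f L174224) L174133 L195213
theorem L195219 : sm ge N25099 = N21653 := ded_25_1 (flp_f L169864) (flp_e L162686) L195213
theorem L195221 : sm gg N25099 = N21651 := ded_29_3 (flp_a L178477) (flp_f L178475) (flp_g L162688) L195213
theorem L195223 : sm gb N25099 = N24993 := ded_16_1 (flp_f L194235) (flp_b L172202) (flp_f L194604) L194607 L195213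
theorem L195225 : sm gc N20746 = N25100 := rfl
theorem L195227 : sm ga N25100 = N20747 := ded_8_1 (flp_c L162716) L162710 L195225
theorem L195229 : sm ge N25100 = N20749 := ded_19_2 (flp_c L162730) (flp_e L162712) L195225
theorem L195231 : sm gf N25100 = N25016 := ded_20_2 L194448 L178613 L195225
theorem L195233 : sm gg N20746 = N25101 := rfl
theorem L195235 : sm ga N25101 = N20748 := ded_12_1 (flp_g L162724) L162710 L195233
theorem L195237 : sm gd N25101 = N22862 := ded_24_1 L178687 L178683 L195233
theorem L195239 : sm ge N25101 = N20750 := ded_26_1 (flp_g L162738) (flp_e L162712) L195233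
theorem L195241 : sm gf N25101 = N22852 := ded_29_2 L178605 L178607 L178613 L195233
theorem L195243 : sm gb N25101 = N22917 := ded_17_1 (flp_g L179103) (flp_b L130240) (flp_g L130224) (flp_b L162714) L195233
theorem L195245 : sm gd N20747 = N25102 := rfl
theorem L195247 : sm gb N25102 = N20753 := ded_14_1 (flp_d L162758) (flp_b L162722) L195245
theorem L195249 : sm gf N25102 = N24731 := ded_23_2 L192463 (flp_f L162720) L195245
theorem L195251 : sm ge N25102 = N24736 := ded_22_2 L192487 L160270 (flp_d L149792) (flp_e L162718) L195245
theorem L195253 : sm gf N20748 = N25103 := rfl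
theorem L195255 : sm ga N25103 = N22852 := ded_11_1 (flp_f L195241) L195235 L195253
theorem L195257 : sm gd N25103 = N22860 := ded_23_1 L178705 L178701 L195253
theorem L195259 : sm ge N25103 = N20751 := ded_25_1 (flp_f L162746) (flp_e L162726) L195253
theorem L195261 : sm gg N25103 = N22853 := ded_29_3 (flp_a L178607) L148570 L162724 L195253
theorem L195263 : sm gb N25103 = N22871 := ded_16_1 L178739 L176157 (flp_f L176149) (flp_b L162728) L195253
theorem L195265 : sm gc N20752 = N25104 := rfl
theorem L195267 : sm ge N25104 = N20754 := ded_19_2 (flp_c L162764) (flp_e L162756) L195265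
theorem L195269 : sm gf N20752 = N25105 := rfl
theorem L195271 : sm ge N25105 = N20755 := ded_25_1 (flp_f L162766) (flp_e L162756) L195269
theorem L195273 : sm gc N20753 = N25106 := rfl
theorem L195275 : sm ge N25106 = N24735 := ded_19_2 L192483 (flp_e L162762) L195273
theorem L195277 : sm gf N25106 = N24730 := ded_20_2 (flp_c L192455) (flp_f L162760) L195273
theorem L195279 : sm gc N20758 = N25107 := rfl
theorem L195281 : sm ga N25107 = N20759 := ded_8_1 (flp_c L162804) L162786 L195279
theorem L195283 : sm gf N25107 = N22442 := ded_20_2 (flp_c L175304) (flp_f L162788) L195279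
theorem L195285 : sm gb N25107 = N23857 := ded_13_1 L186051 L154876 (flp_c L152328) L162790 L195279
theorem L195287 : sm gd N20759 = N25108 := rfl
theorem L195289 : sm gb N25108 = N25019 := ded_14_1 (flp_d L194472) (flp_b L162808) L195287
theorem L195291 : sm gf N25108 = N22444 := ded_23_2 (flp_d L175316) (flp_f L162806) L195287
theorem L195293 : sm gg N20759 = N25109 := rfl
theorem L195295 : sm gc N25109 = N20760 := ded_21_1 (flp_g L162810) L162804 L195293
theorem L195297 : sm gb N25109 = N24407 := ded_17_1 L190174 L194486 (flp_g L194482) (flp_b L162808) L195293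
theorem L195299 : sm gg N20769 = N25110 := rfl
theorem L195301 : sm ga N25110 = N20774 := ded_12_1 (flp_g L162953) (flp_a L162907) L195299
theorem L195303 : sm gc N25110 = N23292 := ded_21_1 L181839 L168893 L195299
theorem L195305 : sm gd N25110 = N20770 := ded_24_1 (flp_g L162915) L162905 L195299
theorem L195307 : sm ge N25110 = N20771 := ded_26_1 (flp_g L162923) (flp_e L162913) L195299
theorem L195309 : sm gb N25110 = N24443 := ded_17_1 L190463 L194787 (flp_g L194775) (flp_b L162909) L195299
theorem L195311 : sm gd N20772 = N25111 := rfl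
theorem L195313 : sm ga N25111 = N21346 := ded_9_1 (flp_d L168895) L168891 L195311
theorem L195315 : sm gb N25111 = N22738 := ded_14_1 L177627 (flp_b L162937) L195311
theorem L195317 : sm gf N25111 = N21345 := ded_23_2 L167947 L162939 L195311
theorem L195319 : sm ge N25111 = N21345 := ded_22_2 L167947 L144107 L120355 (flp_e L162935) L195311
theorem L195321 : sm gc N25111 = N25111 := ded_28_0 (flp_d L195311) (flp_c L162933) (flp_d L113008) (flp_c L112966) L162905 (flp_c L168893) L168895 (flp_a L195313)
theorem L195322 : sm gg N20772 = N25112 := rfl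
theorem L195324 : sm ga N25112 = N23292 := ded_12_1 L181839 L168891 L195322
theorem L195326 : sm gc N25112 = N20774 := ded_21_1 (flp_g L162953) L162933 L195322
theorem L195328 : sm ge N25112 = N20778 := ded_26_1 (flp_g L162983) (flp_e L162935) L195322
theorem L195330 : sm gf N21499 = N25112 := ded_29_0 (flp_g L195322) (flp_f L162939) L180203 L180205
theorem L195332 : sm gb N25112 = N23310 := ded_17_1 (flp_g L181951) (flp_b L177667) L128729 (flp_b L162937) L195322
theorem L195334 : sm gg N20773 = N25113 := rfl
theorem L195336 : sm ga N25113 = N22878 := ded_12_1 (flp_g L178787) (flp_a L162943) L195334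
theorem L195338 : sm gc N25113 = N23056 := ded_21_1 (flp_g L180203) (flp_c L162945) L195334
theorem L195340 : sm gd N25113 = N20775 := ded_24_1 (flp_g L162959) (flp_d L162947) L195334
theorem L195342 : sm ge N25113 = N20779 := ded_26_1 (flp_g L162993) (flp_e L162949) L195334
theorem L195344 : sm gf N25110 = N25113 := ded_29_0 (flp_g L195334) (flp_f L162941) L162953 (flp_a L195301)
theorem L195346 : sm gb N25113 = N20831 := ded_17_1 L164306 L180267 (flp_g L180259) (flp_b L162951) L195334
theorem L195348 : sm gb N20774 = N25114 := rfl
theorem L195350 : sm gd N25114 = N20776 := ded_14_2 (flp_b L162969) (flp_d L162955) L195348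
theorem L195352 : sm ge N25114 = N20780 := ded_15_2 (flp_b L163003) (flp_e L162957) L195348
theorem L195354 : sm gg N25114 = N20791 := ded_17_2 (flp_b L163095) (flp_g L113094) (flp_b L113010) L162953 L195348
theorem L195356 : sm ga N25114 = N22945 := ded_7_1 (flp_b L194957) L194949 L162406 (flp_a L175725) (flp_b L178421) (flp_a L190455) (flp_b L195309) L195301 L195348
theorem L195358 : sm gf N22943 = N25114 := ded_23_0 L195350 (flp_f L180345) (flp_d L180349)
theorem L195360 : sm gb N20775 = N25115 := rfl
theorem L195362 : sm gd N25115 = N20831 := ded_14_2 (flp_b L195346) L195340 L195360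
theorem L195364 : sm ge N25115 = N20777 := ded_15_2 (flp_b L162975) (flp_e L162965) L195360
theorem L195366 : sm gc N25115 = N23057 := ded_13_2 (flp_b L180309) L180303 (flp_b L178969) (flp_c L162963) L195360
theorem L195368 : sm gf N25115 = N20829 := ded_16_2 L164290 L180311 L180319 L162967 L195360
theorem L195370 : sm ga N25115 = N22887 := ded_30_3 (flp_f L178878) L130111 (flp_b L117673) L96386 L96448 L96450 L96458 L117817 L117821 (flp_c L117747) (flp_b L150768) (flp_a L144171) L144183 (flp_c L180315) L180319 L162917 (flp_f L130170) (flp_c L162963) L195360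
theorem L195372 : sm gc N20780 = N25116 := rfl
theorem L195374 : sm ga N25116 = N23036 := ded_8_1 L180017 (flp_a L163009) L195372
theorem L195376 : sm gf N25116 = N23034 := ded_20_2 (flp_c L179997) L163011 L195372
theorem L195378 : sm gg N25116 = N20796 := ded_21_2 (flp_c L164015) (flp_g L163007) L195372
theorem L195380 : sm gb N25116 = N23628 := ded_13_1 (flp_c L184141) (flp_b L162991) L162987 L163003 L195372
theorem L195382 : sm gc N20782 = N25117 := rfl
theorem L195384 : sm ga N25117 = N20783 := ded_8_1 (flp_c L163033) L163021 L195382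
theorem L195386 : sm ge N25117 = N20787 := ded_19_2 (flp_c L163071) (flp_e L163025) L195382
theorem L195388 : sm gf N25117 = N22991 := ded_20_2 (flp_c L179631) (flp_f L163029) L195382
theorem L195390 : sm gg N25117 = N20797 := ded_21_2 (flp_c L164019) (flp_g L163027) L195382
theorem L195392 : sm gf N20783 = N25118 := rfl
theorem L195394 : sm ga N25118 = N22991 := ded_11_1 (flp_f L195388) L195384 L195392
theorem L195396 : sm gc N25118 = N20784 := ded_20_1 (flp_f L163041) L163033 L195392
theorem L195398 : sm gd N25118 = N22354 := ded_23_1 (flp_f L175338) L175334 L195392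
theorem L195400 : sm ge N25118 = N20789 := ded_25_1 (flp_f L163083) (flp_e L163035) L195392
theorem L195402 : sm gg N25118 = N22391 := ded_29_3 L174930 (flp_f L164039) (flp_g L163037) L195392
theorem L195404 : sm gb N25118 = N22357 := ded_16_1 L174691 L173194 (flp_f L163588) (flp_b L163039) L195392
theorem L195406 : sm gb N20787 = N25119 := rfl
theorem L195408 : sm gc N25119 = N20917 := ded_13_2 (flp_b L164959) L163069 (flp_b L163057) L163071 L195406
theorem L195410 : sm gg N25119 = N23760 := ded_17_2 (flp_b L185155) L164057 (flp_b L164047) (flp_g L163075) L195406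
theorem L195412 : sm gd N20787 = N25120 := rfl
theorem L195414 : sm ga N25120 = N20788 := ded_9_1 (flp_d L163077) (flp_a L163073) L195412
theorem L195416 : sm gg N25120 = N20802 := ded_24_2 (flp_d L164063) (flp_g L163075) L195412
theorem L195418 : sm gc N20788 = N25121 := rfl
theorem L195420 : sm gg N25121 = N20804 := ded_21_2 (flp_c L164079) (flp_g L163081) L195418
theorem L195422 : sm gb N25121 = N23523 := ded_13_1 (flp_c L183317) (flp_b L151736) (flp_c L153422) (flp_b L163079) L195418
theorem L195424 : sm gd N25121 = N23510 := ded_28_7 L183237 L176029 L158181 (flp_c L145999) L113030 L113084 L163077 L195418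
theorem L195426 : sm ge N20788 = N25122 := rfl
theorem L195428 : sm gb N25122 = N20887 := ded_15_1 (flp_e L164725) (flp_b L163079) L195426
theorem L195430 : sm gg N25122 = N20805 := ded_26_2 (flp_e L164081) (flp_g L163081) L195426
theorem L195432 : sm gf N20788 = N25123 := rfl
theorem L195434 : sm gd N25123 = N20789 := ded_23_1 (flp_f L163083) L163077 L195432
theorem L195436 : sm gb N25123 = N23527 := ded_16_1 (flp_f L183349) (flp_b L151766) (flp_f L153424) (flp_b L163079) L195432
theorem L195438 : sm gb N20789 = N25124 := rfl
theorem L195440 : sm gd N25124 = N23527 := ded_14_2 (flp_b L195436) L195434 L195438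
theorem L195442 : sm ge N25124 = N22357 := ded_15_2 (flp_b L195404) L195400 L195438
theorem L195444 : sm gf N25124 = N20809 := ded_16_2 L164113 (flp_f L113901) (flp_b L113088) L163083 L195438
theorem L195446 : sm gg N25124 = N22360 := ded_17_2 L174725 L163862 (flp_b L164077) (flp_g L164075) L195438
theorem L195448 : sm ga N25124 = N20811 := ded_30_3 (flp_f L164123) (flp_c L142808) L124622 L141144 L90349 (flp_c L40369) L19163 L9508 L11346 (flp_c L23527) L83915 L94620 (flp_f L114061) L163069 (flp_b L163057) (flp_a L113080) L113090 (flp_c L163085) L195438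
theorem L195450 : sm gd N20790 = N25125 := rfl
theorem L195452 : sm ga N25125 = N20855 := ded_9_1 L164490 (flp_a L163089) L195450
theorem L195454 : sm gb N25125 = N20892 := ded_14_1 (flp_d L164761) (flp_b L163093) L195450
theorem L195456 : sm gg N25125 = N20852 := ded_24_2 (flp_d L164474) (flp_g L163091) L195450
theorem L195458 : sm gc N25125 = N23576 := ded_28_6 (flp_d L183753) (flp_a L183741) (flp_c L183739) L152096 L146062 L143297 L163087 L195450
theorem L195460 : sm gc N20791 = N25126 := rfl
theorem L195462 : sm ge N25126 = N20796 := ded_19_2 (flp_c L164015) (flp_e L163099) L195460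
theorem L195464 : sm gb N25126 = N22607 := ded_13_1 (flp_c L176532) L124481 (flp_c L113098) L163095 L195460
theorem L195466 : sm gd N20792 = N25127 := rfl
theorem L195468 : sm gb N25127 = N23168 := ded_14_1 L180993 (flp_b L163105) L195466
theorem L195470 : sm gf N25127 = N23170 := ded_23_2 L181003 L163107 L195466
theorem L195472 : sm gc N20795 = N25128 := rfl
theorem L195474 : sm ga N25128 = N20796 := ded_8_1 (flp_c L164015) L164009 L195472
theorem L195476 : sm gg N25128 = N23036 := ded_21_2 L180017 (flp_g L164013) L195472
theorem L195478 : sm ge N20799 = N25129 := rfl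
theorem L195480 : sm gb N25129 = N20808 := ded_15_1 (flp_e L164101) (flp_b L164037) L195478
theorem L195482 : sm gd N25129 = N20805 := ded_22_1 (flp_e L164081) (flp_d L113160) (flp_e L113138) L164035 L195478
theorem L195484 : sm gc N20802 = N25130 := rfl
theorem L195486 : sm ga N25130 = N20804 := ded_8_1 (flp_c L164079) (flp_a L164065) L195484
theorem L195488 : sm gb N25130 = N22433 := ded_13_1 L175260 L148552 L143013 (flp_b L164067) L195484
theorem L195490 : sm gd N23630 = N25130 := ded_28_1 (flp_c L195484) (flp_d L164063) (flp_c L113150) L143431 L143543 L179905 L179907 (flp_c L184153)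
theorem L195492 : sm gf N23629 = N25130 := ded_16_0 L195488 (flp_f L175256) (flp_b L152066) L152856 (flp_b L184149)
theorem L195494 : sm ge N20802 = N25131 := rfl
theorem L195496 : sm ga N25131 = N20805 := ded_10_1 (flp_e L164081) (flp_a L164065) L195494
theorem L195498 : sm gb N25131 = N22874 := ded_15_1 L178755 (flp_b L164067) L195494
theorem L195500 : sm gf N20802 = N25132 := rfl
theorem L195502 : sm ga N25132 = N20806 := ded_11_1 (flp_f L164085) (flp_a L164065) L195500
theorem L195504 : sm gc N25132 = N23629 := ded_20_1 L195492 (flp_c L195484) L195500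
theorem L195506 : sm gd N25132 = N20803 := ded_23_1 (flp_f L164069) L164063 L195500
theorem L195508 : sm gg N25123 = N25132 := ded_29_1 (flp_f L195500) (flp_g L195416) L195414 L195432
theorem L195510 : sm gb N25132 = N20974 := ded_16_1 (flp_f L185701) L185699 L179553 (flp_b L164067) L195500
theorem L195512 : sm gb N20804 = N25133 := rfl
theorem L195514 : sm gc N25133 = N20814 := ded_13_2 (flp_b L164145) (flp_c L113204) (flp_b L113162) L164079 L195512
theorem L195516 : sm gd N25133 = N23720 := ded_32_11 L184834 (flp_d L184912) L184914 (flp_b L184466) L170386 (flp_c L163840) (flp_d L154390) (flp_c L178165) L178163 (flp_d L175415) (flp_c L123477) L121990 (flp_c L121985) (flp_b L97746) (flp_e L97744) (flp_d L121961) (flp_c L162244) L162246 L151900 L151938 (flp_d L178251) (flp_c L178261) (flp_d L153339) L105778 (flp_b L146084) L123584 (flp_c L123516) (flp_d L163720) (flp_c L172259) L172261 (flp_d L155524) (flp_c L152554) L105346 (flp_c L151556) (flp_b L105798) L90377 (flp_c L90372) (flp_d L40351) (flp_c L19147) L81556 L9197 (flp_d L69512) L9029 L4593 (flp_c L4699) L9311 (flp_d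 L19285) L141934 (flp_d L141930) L141928 (flp_b L9520) L4819 L2510 L1270 (flp_c L634) (flp_b L625) (flp_d L594) (flp_c L1230) (flp_d L2388) L66689 L4609 L4611 L4753 L9433 (flp_c L141344) (flp_b L81280) (flp_e L5448) (flp_d L10811) (flp_c L22447) (flp_d L46663) (flp_c L47065) L94098 L94100 L94126 L113160 L164079 L195512
theorem L195518 : sm ga N23512 = N25133 := ded_8_3 L195514 L164480 (flp_c L183253)
theorem L195520 : sm gf N23719 = N25133 := ded_30_0 L195514 (flp_b L164145) L113206 L94413 L94955 L114728 L165706 L184539 L184535 (flp_b L178369) L178363 (flp_f L152240) (flp_c L151556) (flp_b L105798) (flp_a L90392) (flp_f L106372) (flp_c L106376) (flp_b L153309) (flp_a L184818)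
theorem L195522 : sm gd N20804 = N25134 := rfl
theorem L195524 : sm ga N25134 = N23630 := ded_9_1 L195490 L195486 L195522
theorem L195526 : sm gb N25134 = N23720 := ded_14_1 (flp_d L195516) (flp_b L195512) L195522
theorem L195528 : sm gg N25134 = N23510 := ded_24_2 (flp_d L195424) L195420 L195522
theorem L195530 : sm gc N23022 = N25134 := ded_28_0 (flp_d L195522) (flp_c L164079) (flp_d L113160) (flp_c L94126) (flp_d L94100) L113114 (flp_d L152536) (flp_a L179907)
theorem L195532 : sm gf N23628 = N25134 := ded_11_0 L195524 (flp_f L184151) (flp_a L184143)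
theorem L195534 : sm ge N20804 = N25135 := rfl
theorem L195536 : sm gc N25135 = N20805 := ded_19_1 (flp_e L164081) L164079 L195534
theorem L195538 : sm gf N20804 = N25136 := rfl
theorem L195540 : sm ga N25136 = N23629 := ded_11_1 L195492 L195486 L195538
theorem L195542 : sm gc N25136 = N20806 := ded_20_1 (flp_f L164085) L164079 L195538
theorem L195544 : sm gd N25136 = N23628 := ded_23_1 L195532 (flp_d L195522) L195538
theorem L195546 : sm gf N20805 = N25137 := rfl
theorem L195548 : sm ge N25137 = N20806 := ded_25_1 (flp_f L164085) L164081 L195546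
theorem L195550 : sm gb N25137 = N22678 := ded_16_1 L177164 L125846 (flp_f L113216) (flp_b L164083) L195546
theorem L195552 : sm gg N20806 = N25138 := rfl
theorem L195554 : sm ga N25138 = N25123 := ded_12_1 L195508 L195502 L195552
theorem L195556 : sm gd N25138 = N20807 := ded_24_1 (flp_g L164091) (flp_d L164087) L195552
theorem L195558 : sm gf N25120 = N25138 := ded_29_0 (flp_g L195552) (flp_f L164085) (flp_g L163081) (flp_a L195414)
theorem L195560 : sm gb N25138 = N24216 := ded_17_1 L188723 L179757 (flp_g L177033) (flp_b L164089) L195552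
theorem L195562 : sm gc N20810 = N25139 := rfl
theorem L195564 : sm ga N25139 = N23525 := ded_8_1 L183335 (flp_a L164119) L195562
theorem L195566 : sm gb N25139 = N20853 := ded_13_1 (flp_c L164482) L113590 (flp_c L113202) (flp_b L164121) L195562
theorem L195568 : sm gd N25139 = N23668 := ded_28_7 L184446 (flp_c L153263) (flp_d L184762) L184764 L153327 L142808 L164117 L195562
theorem L195570 : sm gg N23667 = N25139 := ded_12_0 L195564 L183337 (flp_a L184440)
theorem L195572 : sm ge N20810 = N25140 := rfl
theorem L195574 : sm ga N25140 = N23152 := ded_10_1 L180881 (flp_a L164119) L195572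
theorem L195576 : sm gb N25140 = N20813 := ded_15_1 (flp_e L164135) (flp_b L164121) L195572
theorem L195578 : sm gg N20810 = N25141 := rfl
theorem L195580 : sm ga N25141 = N23528 := ded_12_1 (flp_g L183351) (flp_a L164119) L195578
theorem L195582 : sm gc N25141 = N23667 := ded_21_1 L195570 (flp_c L195562) L195578
theorem L195584 : sm gd N25141 = N20812 := ded_24_1 (flp_g L164131) L164117 L195578
theorem L195586 : sm gf N23671 = N25141 := ded_29_0 (flp_g L195578) L184484 (flp_g L184478) L184460
theorem L195588 : sm gb N25141 = N20935 := ded_17_1 (flp_g L165059) L114149 (flp_g L113200) (flp_b L164121) L195578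
theorem L195590 : sm ge N20814 = N25142 := rfl
theorem L195592 : sm ga N25142 = N23137 := ded_10_1 L180771 (flp_a L164480) L195590
theorem L195594 : sm gb N25142 = N20815 := ded_15_1 (flp_e L164149) L164145 L195590
theorem L195596 : sm gf N20814 = N25143 := rfl
theorem L195598 : sm ga N25143 = N23514 := ded_11_1 (flp_f L183267) (flp_a L164480) L195596
theorem L195600 : sm gc N25143 = N23719 := ded_20_1 L195520 L195514 L195596
theorem L195602 : sm gd N25143 = N20859 := ded_23_1 (flp_f L164520) (flp_d L164147) L195596
theorem L195604 : sm gg N25143 = N23723 := ded_29_3 (flp_a L184850) L184870 L184876 L195596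
theorem L195606 : sm gb N25143 = N21017 := ded_16_1 (flp_f L165694) L114716 (flp_f L113208) L164145 L195596
theorem L195608 : sm gf N20824 = N25144 := rfl
theorem L195610 : sm ga N25144 = N20828 := ded_11_1 (flp_f L164274) (flp_a L164238) L195608
theorem L195612 : sm gc N25144 = N23217 := ded_20_1 (flp_f L181321) L169902 L195608
theorem L195614 : sm gd N25144 = N20825 := ded_23_1 (flp_f L164246) L164236 L195608
theorem L195616 : sm ge N25144 = N20826 := ded_25_1 (flp_f L164254) (flp_e L164244) L195608
theorem L195618 : sm gg N25144 = N25115 := ded_29_3 L195370 (flp_f L178878) (flp_g L164242) L195608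
theorem L195620 : sm gb N25144 = N24422 := ded_16_1 (flp_f L190297) (flp_b L195097) (flp_f L195085) (flp_b L164240) L195608
theorem L195622 : sm gd N20827 = N25145 := rfl
theorem L195624 : sm ga N25145 = N21419 := ded_9_1 (flp_d L169904) L169900 L195622
theorem L195626 : sm gb N25145 = N22739 := ded_14_1 L177637 (flp_b L164270) L195622
theorem L195628 : sm gg N25145 = N21418 := ded_24_2 L168371 L164272 L195622
theorem L195630 : sm ge N25145 = N21418 := ded_22_2 L168371 L144111 (flp_d L146193) (flp_e L164268) L195622
theorem L195632 : sm gc N25145 = N25145 := ded_28_0 (flp_d L195622) (flp_c L164266) (flp_d L113436) (flp_c L113394) L164236 (flp_c L169902) L169904 (flp_a L195624)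
theorem L195633 : sm gf N20827 = N25146 := rfl
theorem L195635 : sm ga N25146 = N23217 := ded_11_1 (flp_f L181321) L169900 L195633
theorem L195637 : sm gc N25146 = N20828 := ded_20_1 (flp_f L164274) L164266 L195633
theorem L195639 : sm ge N25146 = N20832 := ded_25_1 (flp_f L164308) (flp_e L164268) L195633
theorem L195641 : sm gg N25146 = N21658 := ded_29_3 (flp_a L180211) (flp_f L180209) L164272 L195633
theorem L195643 : sm gb N25146 = N23236 := ded_16_1 (flp_f L181443) (flp_b L177663) (flp_f L128715) (flp_b L164270) L195633
theorem L195645 : sm gb N20828 = N25147 := rfl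
theorem L195647 : sm gd N25147 = N20830 := ded_14_2 (flp_b L164292) (flp_d L164276) L195645
theorem L195649 : sm ge N25147 = N20833 := ded_15_2 (flp_b L164318) (flp_e L164278) L195645
theorem L195651 : sm gf N25147 = N20842 := ded_16_2 (flp_b L164400) (flp_f L113522) (flp_b L113438) L164274 L195645
theorem L195653 : sm ga N25147 = N22917 := ded_7_1 (flp_b L195243) L195235 L162728 (flp_a L176123) (flp_b L178399) (flp_a L190289) (flp_b L195620) L195610 L195645
theorem L195655 : sm gg N22914 = N25147 := ded_24_0 L195647 (flp_g L180293) (flp_d L180295)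
theorem L195657 : sm gc N20833 = N25148 := rfl
theorem L195659 : sm ga N25148 = N23012 := ded_8_1 L179807 (flp_a L164324) L195657
theorem L195661 : sm gf N25148 = N20847 := ded_20_2 (flp_c L164440) (flp_f L164322) L195657
theorem L195663 : sm gg N25148 = N23009 := ded_21_2 (flp_c L179779) (flp_g L164326) L195657
theorem L195665 : sm gb N25148 = N23574 := ded_13_1 (flp_c L183739) (flp_b L164316) L164312 L164318 L195657
theorem L195667 : sm gc N20835 = N25149 := rfl
theorem L195669 : sm ga N25149 = N20836 := ded_8_1 (flp_c L164348) L164336 L195667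
theorem L195671 : sm ge N25149 = N20839 := ded_19_2 (flp_c L164382) (flp_e L164340) L195667
theorem L195673 : sm gf N25149 = N20848 := ded_20_2 (flp_c L164444) (flp_f L164342) L195667
theorem L195675 : sm gg N25149 = N22987 := ded_21_2 (flp_c L179603) L164344 L195667
theorem L195677 : sm gg N20836 = N25150 := rfl
theorem L195679 : sm ga N25150 = N22987 := ded_12_1 (flp_g L195675) L195669 L195677
theorem L195681 : sm gc N25150 = N20837 := ded_21_1 (flp_g L164356) L164348 L195677
theorem L195683 : sm gd N25150 = N22146 := ded_24_1 (flp_g L173927) L173921 L195677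
theorem L195685 : sm ge N25150 = N20841 := ded_26_1 (flp_g L164394) (flp_e L164350) L195677
theorem L195687 : sm gf N22186 = N25150 := ded_29_0 (flp_g L195677) L164352 L164454 (flp_a L173429)
theorem L195689 : sm gb N25150 = N22149 := ded_17_1 (flp_g L174711) L174713 (flp_g L163770) (flp_b L164354) L195677
theorem L195691 : sm gb N20839 = N25151 := rfl
theorem L195693 : sm gc N25151 = N21001 := ded_13_2 (flp_b L165580) L164380 (flp_b L164368) L164382 L195691
theorem L195695 : sm gf N25151 = N23784 := ded_16_2 (flp_b L185357) L164470 (flp_b L164462) (flp_f L164386) L195691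
theorem L195697 : sm gd N20839 = N25152 := rfl
theorem L195699 : sm ga N25152 = N20840 := ded_9_1 (flp_d L164388) (flp_a L164384) L195697
theorem L195701 : sm gf N25152 = N20852 := ded_23_2 (flp_d L164474) (flp_f L164386) L195697
theorem L195703 : sm gc N20840 = N25153 := rfl
theorem L195705 : sm gf N25153 = N20853 := ded_20_2 (flp_c L164482) (flp_f L164392) L195703
theorem L195707 : sm gb N25153 = N23510 := ded_13_1 (flp_c L183235) (flp_b L151628) (flp_c L153016) (flp_b L164390) L195703
theorem L195709 : sm gd N25153 = N23523 := ded_28_7 L183319 L175635 L157883 L149570 L113452 L113510 L164388 L195703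
theorem L195711 : sm ge N20840 = N25154 := rfl
theorem L195713 : sm gb N25154 = N20969 := ded_15_1 (flp_e L165320) (flp_b L164390) L195711
theorem L195715 : sm gf N25154 = N20854 := ded_25_2 (flp_e L164484) (flp_f L164392) L195711
theorem L195717 : sm gg N20840 = N25155 := rfl
theorem L195719 : sm gd N25155 = N20841 := ded_24_1 (flp_g L164394) L164388 L195717
theorem L195721 : sm gf N25125 = N25155 := ded_29_0 (flp_g L195717) L164392 L164488 (flp_a L195452)
theorem L195723 : sm gb N25155 = N23515 := ded_17_1 (flp_g L183275) (flp_b L151656) (flp_g L153018) (flp_b L164390) L195717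
theorem L195725 : sm gb N20841 = N25156 := rfl
theorem L195727 : sm gd N25156 = N23515 := ded_14_2 (flp_b L195723) L195719 L195725
theorem L195729 : sm ge N25156 = N22149 := ded_15_2 (flp_b L195689) L195685 L195725
theorem L195731 : sm gc N25156 = N25124 := ded_13_2 (flp_b L195438) L163085 L148611 (flp_c L164396) L195725
theorem L195733 : sm gf N25156 = N22152 := ded_16_2 L173206 L163576 (flp_b L163093) L164398 L195725
theorem L195735 : sm gg N25156 = N20858 := ded_17_2 L164518 (flp_g L114454) (flp_b L113514) L164394 L195725
theorem L195737 : sm ga N25156 = N20860 := ded_30_3 (flp_f L164532) L142808 (flp_b L113192) L94154 L83451 (flp_c L29109) (flp_b L14048) (flp_a L14021) (flp_f L14019) L14005 L29032 L86611 L147163 (flp_c L86218) (flp_b L94383) (flp_a L149620) L149622 (flp_c L164396) L195725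
theorem L195739 : sm gc N20842 = N25157 := rfl
theorem L195741 : sm ge N25157 = N20847 := ded_19_2 (flp_c L164440) (flp_e L164404) L195739
theorem L195743 : sm gb N25157 = N22647 := ded_13_1 (flp_c L176913) L124874 (flp_c L113526) L164400 L195739
theorem L195745 : sm gd N20843 = N25158 := rfl
theorem L195747 : sm gb N25158 = N23185 := ded_14_1 L181105 (flp_b L164410) L195745
theorem L195749 : sm gg N25158 = N23186 := ded_24_2 L181111 L164412 L195745
theorem L195751 : sm gc N20846 = N25159 := rfl
theorem L195753 : sm ga N25159 = N20847 := ded_8_1 (flp_c L164440) L164434 L195751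
theorem L195755 : sm gf N25159 = N23012 := ded_20_2 L179807 (flp_f L164438) L195751
theorem L195757 : sm ge N20849 = N25160 := rfl
theorem L195759 : sm gb N25160 = N20857 := ded_15_1 (flp_e L164504) (flp_b L164452) L195757
theorem L195761 : sm gd N25160 = N20854 := ded_22_1 (flp_e L164484) (flp_d L113588) (flp_e L113566) L164450 L195757
theorem L195763 : sm gc N20852 = N25161 := rfl
theorem L195765 : sm ga N25161 = N20853 := ded_8_1 (flp_c L164482) (flp_a L164476) L195763
theorem L195767 : sm gg N25161 = N23576 := ded_21_2 (flp_c L195458) L195456 L195763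
theorem L195769 : sm gb N25161 = N22246 := ded_13_1 L173827 L143333 L142939 (flp_b L164478) L195763
theorem L195771 : sm gd N23578 = N25161 := ded_28_1 (flp_c L195763) (flp_d L164474) (flp_c L113578) L149615 L143325 L179687 L179689 (flp_c L183767)
theorem L195773 : sm ge N20852 = N25162 := rfl
theorem L195775 : sm ga N25162 = N20854 := ded_10_1 (flp_e L164484) (flp_a L164476) L195773
theorem L195777 : sm gb N25162 = N22863 := ded_15_1 L178677 (flp_b L164478) L195773
theorem L195779 : sm gd N20853 = N25163 := rfl
theorem L195781 : sm ga N25163 = N23578 := ded_9_1 L195771 L195765 L195779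
theorem L195783 : sm gb N25163 = N23668 := ded_14_1 (flp_d L195568) L195566 L195779
theorem L195785 : sm gf N25163 = N23523 := ded_23_2 (flp_d L195709) L195705 L195779
theorem L195787 : sm gc N22997 = N25163 := ded_28_0 (flp_d L195779) (flp_c L164482) (flp_d L113588) (flp_c L94377) (flp_d L94351) L113542 (flp_d L152110) (flp_a L179689)
theorem L195789 : sm gg N23574 = N25163 := ded_12_0 L195781 (flp_g L183765) (flp_a L183741)
theorem L195791 : sm ge N20853 = N25164 := rfl
theorem L195793 : sm gc N25164 = N20854 := ded_19_1 (flp_e L164484) L164482 L195791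
theorem L195795 : sm gg N20853 = N25165 := rfl
theorem L195797 : sm ga N25165 = N23576 := ded_12_1 (flp_g L195767) L195765 L195795
theorem L195799 : sm gc N25165 = N20855 := ded_21_1 (flp_g L164488) L164482 L195795
theorem L195801 : sm gd N25165 = N23574 := ded_24_1 L195789 (flp_d L195779) L195795
theorem L195803 : sm gg N20854 = N25166 := rfl
theorem L195805 : sm ge N25166 = N20855 := ded_26_1 (flp_g L164488) L164484 L195803
theorem L195807 : sm gb N25166 = N22714 := ded_17_1 L177439 L126658 (flp_g L113626) (flp_b L164486) L195803
theorem L195809 : sm gf N20855 = N25167 := rfl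
theorem L195811 : sm ga N25167 = N25155 := ded_11_1 (flp_f L195721) L195452 L195809
theorem L195813 : sm gd N25167 = N20856 := ded_23_1 (flp_f L164494) (flp_d L164490) L195809
theorem L195815 : sm gg N25167 = N25152 := ded_29_3 L195699 L164392 L164488 L195809
theorem L195817 : sm gb N25167 = N24237 := ded_16_1 L188873 L179975 L177372 (flp_b L164492) L195809
theorem L195819 : sm gg N20861 = N25168 := rfl
theorem L195821 : sm gc N25168 = N22086 := ded_21_1 L172723 L172622 L195819
theorem L195823 : sm gd N25168 = N20862 := ded_24_1 (flp_g L164539) L164534 L195819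
theorem L195825 : sm ge N25168 = N22083 := ded_26_1 L172701 L172605 L195819
theorem L195827 : sm gf N22081 = N25168 := ded_29_0 (flp_g L195819) L164537 L165790 (flp_a L172681)
theorem L195829 : sm gb N20862 = N25169 := rfl
theorem L195831 : sm ge N25169 = N21038 := ded_15_2 (flp_b L165846) (flp_e L164543) L195829
theorem L195833 : sm gg N25169 = N25169 := ded_17_2 (flp_b L195829) (flp_g L164539) L113636 L164539 L195829
theorem L195834 : sm ga N23915 = N25169 := ded_10_3 L195831 L194306 (flp_e L186512)
theorem L195836 : sm gb N20864 = N25170 := rfl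
theorem L195838 : sm gd N25170 = N20877 := ded_14_2 (flp_b L164661) (flp_d L164555) L195836
theorem L195840 : sm gc N25170 = N20915 := ded_13_2 L164955 (flp_c L173500) L173504 L165702 L195836
theorem L195842 : sm gg N25170 = N20914 := ded_17_2 L164947 (flp_g L164707) (flp_b L165660) L165658 L195836
theorem L195844 : sm gb N20867 = N25171 := rfl
theorem L195846 : sm gd N25171 = N20881 := ded_14_2 (flp_b L164689) (flp_d L164572) L195844
theorem L195848 : sm ge N25171 = N25170 := ded_15_2 (flp_b L195836) (flp_e L164574) L195844
theorem L195850 : sm gf N25171 = N20915 := ded_16_2 L164955 (flp_f L164753) (flp_b L185853) L185855 L195844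
theorem L195852 : sm gg N20870 = N25172 := rfl
theorem L195854 : sm ga N25172 = N25067 := ded_12_1 (flp_g L194927) (flp_a L164595) L195852
theorem L195856 : sm gc N25172 = N20871 := ded_21_1 (flp_g L164605) L164593 L195852
theorem L195858 : sm gd N25172 = N22084 := ded_24_1 (flp_g L172705) L164603 L195852
theorem L195860 : sm ge N25172 = N21492 := ded_26_1 (flp_g L168847) (flp_e L164597) L195852
theorem L195862 : sm gf N22835 = N25172 := ded_29_0 (flp_g L195852) L164599 L168841 (flp_a L178451)
theorem L195864 : sm gg N20877 = N25173 := rfl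
theorem L195866 : sm ga N25173 = N25170 := ded_12_1 L195842 (flp_a L164949) L195864
theorem L195868 : sm gc N25173 = N23796 := ded_21_1 L185829 L164951 L195864
theorem L195870 : sm gd N25173 = N20914 := ded_24_1 (flp_g L195842) L195838 L195864
theorem L195872 : sm gf N25173 = N23792 := ded_29_2 (flp_g L186893) L186895 L164841 L195864
theorem L195874 : sm gb N25173 = N23841 := ded_17_1 L185913 L185449 L164653 L164661 L195864
theorem L195876 : sm gb N20879 = N25174 := rfl
theorem L195878 : sm gd N25174 = N20880 := ded_14_2 (flp_b L164683) (flp_d L164675) L195876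
theorem L195880 : sm ge N25174 = N20890 := ded_15_2 (flp_b L164755) (flp_e L164677) L195876
theorem L195882 : sm gf N25174 = N20917 := ded_16_2 (flp_b L164959) L114061 L114073 (flp_f L164679) L195876
theorem L195884 : sm gc N20880 = N25175 := rfl
theorem L195886 : sm ge N25175 = N20884 := ded_19_2 (flp_c L164709) (flp_e L164685) L195884
theorem L195888 : sm gf N25175 = N22568 := ded_20_2 L176181 (flp_f L164687) L195884
theorem L195890 : sm ga N20881 = N25176 := rfl
theorem L195892 : sm gc N25176 = N22649 := ded_8_2 (flp_a L177140) (flp_c L185635) L195890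
theorem L195894 : sm ge N25176 = N22672 := ded_10_2 L185871 L185865 L195890
theorem L195896 : sm gf N25176 = N23954 := ded_11_2 L186881 L185891 L195890
theorem L195898 : sm gg N25176 = N23837 := ded_12_2 (flp_a L185871) L185639 L195890
theorem L195900 : sm gb N20884 = N25177 := rfl
theorem L195902 : sm gc N25177 = N20886 := ded_13_2 (flp_b L164721) (flp_c L113891) L113889 L164709 L195900
theorem L195904 : sm gf N25177 = N23767 := ded_16_2 (flp_b L185215) (flp_f L153806) (flp_b L153704) (flp_f L164711) L195900
theorem L195906 : sm ga N25177 = N24271 := ded_7_1 (flp_b L189133) L157727 (flp_b L157711) L157707 (flp_b L114045) (flp_a L114027) L164933 L164937 L195900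
theorem L195908 : sm gd N20884 = N25178 := rfl
theorem L195910 : sm ga N25178 = N23529 := ded_9_1 L183361 L164937 L195908
theorem L195912 : sm gf N25178 = N23754 := ded_23_2 L185123 (flp_f L164711) L195908
theorem L195914 : sm gc N24287 = N25178 := ded_28_0 (flp_d L195908) (flp_c L164709) (flp_d L154740) (flp_c L185819) L185815 L154622 (flp_d L185123) L189235
theorem L195916 : sm ga N20886 = N25179 := rfl
theorem L195918 : sm gc N25179 = N24271 := ded_8_2 (flp_a L195906) L195902 L195916
theorem L195920 : sm gd N25179 = N23519 := ded_9_2 L183295 (flp_d L164723) L195916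
theorem L195922 : sm gg N25179 = N25177 := ded_12_2 L195906 L189135 L195916
theorem L195924 : sm gb N24270 = N25179 := ded_13_5 L195918 (flp_b L189133) (flp_c L157725) L157721 L189125
theorem L195926 : sm gf N20886 = N25180 := rfl
theorem L195928 : sm gc N25180 = N23767 := ded_20_1 (flp_f L195904) L195902 L195926
theorem L195930 : sm gd N25180 = N22978 := ded_23_1 L179537 (flp_d L164723) L195926
theorem L195932 : sm ge N25180 = N25108 := ded_25_1 L195291 (flp_e L175320) L195926
theorem L195934 : sm gg N23767 = N25180 := ded_29_1 (flp_f L195926) (flp_g L189135) (flp_a L195906) L195904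
theorem L195936 : sm gb N25180 = N22981 := ded_16_1 L179561 L143027 (flp_f L153449) L164721 L195926
theorem L195938 : sm ga N20890 = N25181 := rfl
theorem L195940 : sm gd N25181 = N23795 := ded_9_2 (flp_a L185481) L185485 L195938
theorem L195942 : sm gg N25181 = N23799 := ded_12_2 L185471 (flp_g L165909) L195938
theorem L195944 : sm gf N25181 = N21043 := ded_29_0 L165893 L165905 (flp_g L165909) L195938
theorem L195946 : sm gb N25181 = N25176 := ded_7_2 (flp_a L195890) (flp_b L164689) (flp_a L113881) (flp_b L94534) (flp_a L83875) L94546 L113909 L164755 L195938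
theorem L195948 : sm gc N20890 = N25182 := rfl
theorem L195950 : sm gb N25182 = N24235 := ded_13_1 L188859 L188747 (flp_c L164757) L164755 L195948
theorem L195952 : sm gd N24236 = N25182 := ded_14_0 L195950 L188861 L188867
theorem L195954 : sm gf N20890 = N25183 := rfl
theorem L195956 : sm ga N25183 = N21043 := ded_11_1 (flp_f L195944) (flp_a L195938) L195954
theorem L195958 : sm gd N25183 = N23794 := ded_23_1 L185489 L185485 L195954
theorem L195960 : sm ge N25183 = N20917 := ded_25_1 (flp_f L195882) L195880 L195954
theorem L195962 : sm gg N25183 = N21044 := ded_29_3 (flp_a L165895) L165905 (flp_g L165909) L195954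
theorem L195964 : sm gb N25183 = N20903 := ded_16_1 L164859 (flp_b L164745) L164741 L164755 L195954
theorem L195966 : sm gf N20894 = N25184 := rfl
theorem L195968 : sm gc N25184 = N20895 := ded_20_1 (flp_f L164779) L164773 L195966
theorem L195970 : sm gd N25184 = N25046 := ded_23_1 (flp_f L194733) L173473 L195966
theorem L195972 : sm ge N25184 = N23803 := ded_25_1 (flp_f L185517) (flp_e L164775) L195966
theorem L195974 : sm gg N25184 = N25044 := ded_29_3 L194707 L194693 L194687 L195966
theorem L195976 : sm gb N20897 = N25185 := rfl
theorem L195978 : sm gd N25185 = N22196 := ded_14_2 (flp_b L173522) (flp_d L164799) L195976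
theorem L195980 : sm gb N20898 = N25186 := rfl
theorem L195982 : sm gd N25186 = N20901 := ded_14_2 (flp_b L164837) (flp_d L164809) L195980
theorem L195984 : sm ge N25186 = N20915 := ded_15_2 L164955 (flp_e L164811) L195980
theorem L195986 : sm gc N25186 = N25171 := ded_13_2 (flp_b L195844) L173516 (flp_b L173506) (flp_c L164807) L195980
theorem L195988 : sm gf N25186 = N25170 := ded_16_2 (flp_b L195836) L164793 (flp_b L164787) L164803 L195980
theorem L195990 : sm gg N25186 = N20901 := ded_17_2 (flp_b L164837) (flp_g L113969) (flp_b L163580) (flp_g L164813) L195980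
theorem L195992 : sm ga N25186 = N23792 := ded_7_1 (flp_b L185421) L154096 L154108 L185431 (flp_b L185811) L185803 L164785 (flp_a L164805) L195980
theorem L195994 : sm gb N20899 = N25187 := rfl
theorem L195996 : sm gd N25187 = N22192 := ded_14_2 (flp_b L173491) (flp_d L164821) L195994
theorem L195998 : sm gg N25187 = N24985 := ded_17_2 (flp_b L194175) (flp_g L161480) (flp_b L150936) (flp_g L164823) L195994
theorem L196000 : sm ga N25187 = N25187 := ded_7_1 (flp_b L195994) L164817 L173506 (flp_a L173514) L164580 L173514 (flp_b L173506) (flp_a L164817) L195994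
theorem L196001 : sm gb N20900 = N25188 := rfl
theorem L196003 : sm gd N25188 = N22000 := ded_14_2 L172123 (flp_d L164831) L196001
theorem L196005 : sm ge N25188 = N20912 := ded_15_2 (flp_b L164933) (flp_e L164833) L196001
theorem L196007 : sm gf N25188 = N24249 := ded_16_2 (flp_b L188983) (flp_f L162042) L162044 L164825 L196001
theorem L196009 : sm gg N25188 = N22567 := ded_17_2 L176177 L173200 L173194 (flp_g L164835) L196001
theorem L196011 : sm ga N25188 = N25175 := ded_30_3 L195888 L176181 (flp_b L154226) L106723 (flp_f L90656) L90652 L90654 (flp_a L90678) L139135 (flp_c L90664) (flp_b L41290) (flp_a L23541) (flp_f L23539) (flp_c L23517) L83893 L94570 L113963 (flp_c L164829) L196001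
theorem L196013 : sm gc N23835 = N25188 := ded_30_1 (flp_b L196001) L164827 (flp_f L113975) (flp_c L94574) (flp_b L83893) (flp_a L41476) L41480 L41284 L41290 (flp_a L141153) (flp_f L41302) L41300 (flp_b L90654) (flp_a L106719) L150596 L151060 L154226 L185527 L185847
theorem L196015 : sm gc N20901 = N25189 := rfl
theorem L196017 : sm ga N25189 = N20908 := ded_8_1 (flp_c L186889) L186895 L196015
theorem L196019 : sm ge N25189 = N20914 := ded_19_2 (flp_c L164945) (flp_e L164839) L196015
theorem L196021 : sm gf N25189 = N20913 := ded_20_2 L164951 (flp_f L164841) L196015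
theorem L196023 : sm gg N25189 = N25171 := ded_21_2 (flp_c L195986) L195990 L196015
theorem L196025 : sm gb N25189 = N23835 := ded_13_1 L196013 (flp_b L196001) L164829 L164837 L196015
theorem L196027 : sm gd N25189 = N22672 := ded_28_7 L185871 L185867 (flp_d L177142) (flp_c L185635) (flp_d L195846) (flp_c L195986) L195982 L196015
theorem L196029 : sm gg N20908 = N25190 := rfl
theorem L196031 : sm ga N25190 = N25171 := ded_12_1 (flp_g L196023) L196017 L196029
theorem L196033 : sm gc N25190 = N23792 := ded_21_1 (flp_g L186893) L186889 L196029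
theorem L196035 : sm gd N25190 = N25176 := ded_24_1 L195898 L185863 L196029
theorem L196037 : sm ge N25190 = N25173 := ded_26_1 (flp_g L195864) (flp_e L164903) L196029
theorem L196039 : sm gf N23796 = N25190 := ded_29_0 (flp_g L196029) L164905 L164953 L185827
theorem L196041 : sm gb N25190 = N23795 := ded_17_1 L185437 L164917 (flp_g L164907) L164901 L196029
theorem L196043 : sm ge N20910 = N25191 := rfl
theorem L196045 : sm gb N25191 = N20911 := ded_15_1 (flp_e L164925) (flp_b L164921) L196043
theorem L196047 : sm gf N25191 = N24286 := ded_25_2 L189225 (flp_f L164923) L196043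
theorem L196049 : sm ga N20917 = N25192 := rfl
theorem L196051 : sm gd N25192 = N23804 := ded_9_2 (flp_a L185527) (flp_d L164961) L196049
theorem L196053 : sm ge N25192 = N21043 := ded_10_2 (flp_a L195956) L195960 L196049
theorem L196055 : sm gg N25192 = N21041 := ded_12_2 L165875 (flp_g L164963) L196049
theorem L196057 : sm gb N25192 = N21040 := ded_7_2 (flp_a L186835) (flp_b L186845) (flp_a L164943) (flp_b L114033) L94596 L94608 L114057 L164959 L196049
theorem L196059 : sm gb N20920 = N25193 := rfl
theorem L196061 : sm ge N25193 = N20930 := ded_15_2 (flp_b L165041) (flp_e L164993) L196059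
theorem L196063 : sm ga N25193 = N24445 := ded_7_1 L190471 L174382 L162044 L113959 L94578 (flp_a L94636) L114105 L164991 L196059
theorem L196065 : sm gf N24427 = N25193 := ded_31_1 (flp_b L196059) L166120 L166116 L165187 (flp_g L165190) (flp_f L164999) (flp_b L114105) (flp_g L141142) L99259 L124345 L158613 (flp_f L158605) L158599 L190319
theorem L196067 : sm gc N24444 = N25193 := ded_8_0 L196063 (flp_c L190467) L190465
theorem L196069 : sm gf N20920 = N25194 := rfl
theorem L196071 : sm ga N25194 = N20922 := ded_11_1 (flp_f L164999) L164991 L196069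
theorem L196073 : sm gc N25194 = N23813 := ded_20_1 L185615 L166126 L196069
theorem L196075 : sm gd N25194 = N22400 := ded_23_1 L190095 L190093 L196069
theorem L196077 : sm ge N25194 = N20932 := ded_25_1 (flp_f L165047) (flp_e L164993) L196069
theorem L196079 : sm gg N25194 = N22399 := ded_29_3 L175021 (flp_f L166116) (flp_g L166120) L196069
theorem L196081 : sm ge N20921 = N25195 := rfl
theorem L196083 : sm gb N25195 = N20924 := ded_15_1 (flp_e L165007) (flp_b L164997) L196081
theorem L196085 : sm gd N25195 = N20934 := ded_22_1 (flp_e L165055) (flp_d L114147) (flp_e L114107) L164995 L196081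
theorem L196087 : sm gb N20925 = N25196 := rfl
theorem L196089 : sm gd N25196 = N23809 := ded_14_2 L185575 L165262 L196087
theorem L196091 : sm ge N25196 = N21067 := ded_15_2 (flp_b L166132) L166130 L196087
theorem L196093 : sm gg N25196 = N21062 := ded_17_2 (flp_b L166052) (flp_g L148402) L165155 L165165 L196087
theorem L196095 : sm ga N25196 = N23781 := ded_7_1 L185339 (flp_a L154536) (flp_b L106925) L90758 (flp_b L149255) L139116 L114137 L165013 L196087
theorem L196097 : sm gc N23780 = N25196 := ded_8_0 L196095 (flp_c L185337) L185335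
theorem L196099 : sm gc N20930 = N25197 := rfl
theorem L196101 : sm ga N25197 = N23779 := ded_8_1 (flp_c L189155) L189157 L196099
theorem L196103 : sm ge N25197 = N24444 := ded_19_2 L196067 L196061 L196099
theorem L196105 : sm gb N25197 = N23780 := ded_13_1 L196097 (flp_b L196087) L165015 L165041 L196099
theorem L196107 : sm gd N20930 = N25198 := rfl
theorem L196109 : sm gb N25198 = N20931 := ded_14_1 (flp_d L165043) L165041 L196107
theorem L196111 : sm gf N20930 = N25199 := rfl
theorem L196113 : sm ge N25199 = N24427 := ded_25_1 L196065 L196061 L196111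
theorem L196115 : sm gg N23755 = N25199 := ded_31_0 (flp_f L196111) (flp_b L165041) L165051 L165067 L165069 (flp_g L165063) (flp_f L114151) (flp_b L94666) (flp_g L94158) L94156 L100081 L125916 (flp_f L153724) L185127
theorem L196117 : sm gg N20930 = N25200 := rfl
theorem L196119 : sm ge N20931 = N25201 := rfl
theorem L196121 : sm ga N25201 = N20934 := ded_10_1 (flp_e L165055) (flp_a L165045) L196119
theorem L196123 : sm gg N20931 = N25202 := rfl
theorem L196125 : sm ga N25202 = N20935 := ded_12_1 (flp_g L165059) (flp_a L165045) L196123
theorem L196127 : sm gc N25202 = N23666 := ded_21_1 (flp_g L194404) L194400 L196123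
theorem L196129 : sm gd N25202 = N20933 := ded_24_1 (flp_g L165051) L165043 L196123
theorem L196131 : sm gf N25006 = N25202 := ded_29_0 (flp_g L196123) L194394 L194390 (flp_a L194359)
theorem L196133 : sm gb N20932 = N25203 := rfl
theorem L196135 : sm ga N25203 = N24279 := ded_30_3 (flp_f L189175) (flp_c L189161) (flp_b L189159) L157773 L150464 L124347 (flp_b L103600) (flp_a L90101) (flp_f L90099) L39999 L40007 L90125 L90131 L94662 L114137 L165013 L165404 (flp_c L165406) L196133
theorem L196137 : sm gf N24277 = N25203 := ded_11_0 L196135 (flp_f L189175) L189169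
theorem L196139 : sm gb N25199 = N24277 := ded_16_5 L196137 (flp_b L196133) (flp_f L165047) L165041 L196111
theorem L196141 : sm gb N20933 = N25204 := rfl
theorem L196143 : sm gf N25204 = N25204 := ded_16_2 (flp_b L196141) L165067 L165069 (flp_f L165067) L196141
theorem L196144 : sm gg N20934 = N25205 := rfl
theorem L196146 : sm ge N25205 = N20935 := ded_26_1 (flp_g L165059) L165055 L196144
theorem L196148 : sm gb N20938 = N25206 := rfl
theorem L196150 : sm gd N25206 = N22731 := ded_14_2 (flp_b L177574) (flp_d L165080) L196148
theorem L196152 : sm gf N25206 = N25206 := ded_16_2 (flp_b L196148) L165082 L129329 (flp_f L165082) L196148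
theorem L196153 : sm ge N20938 = N25207 := rfl
theorem L196155 : sm ga N25207 = N20939 := ded_10_1 (flp_e L165084) L165076 L196153
theorem L196157 : sm gc N25207 = N22801 := ded_19_1 L178089 (flp_c L165078) L196153
theorem L196159 : sm gf N25207 = N22800 := ded_25_2 L178082 (flp_f L165082) L196153
theorem L196161 : sm gd N20939 = N25208 := rfl
theorem L196163 : sm gb N25208 = N20941 := ded_14_1 (flp_d L165098) (flp_b L165086) L196161
theorem L196165 : sm gg N25208 = N24455 := ded_24_2 L190577 (flp_g L184947) L196161
theorem L196167 : sm ge N25208 = N22628 := ded_22_2 L176741 L142003 (flp_d L114163) L165084 L196161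
theorem L196169 : sm gf N20939 = N25209 := rfl
theorem L196171 : sm ga N25209 = N22800 := ded_11_1 (flp_f L196159) L196155 L196169
theorem L196173 : sm gc N25209 = N22799 := ded_20_1 (flp_f L180911) L180909 L196169
theorem L196175 : sm ge N25209 = N20940 := ded_25_1 (flp_f L165088) L165084 L196169
theorem L196177 : sm gg N25209 = N23735 := ded_29_3 L184927 L184941 (flp_g L184947) L196169
theorem L196179 : sm ga N20942 = N25210 := rfl
theorem L196181 : sm gd N25210 = N24641 := ded_9_2 (flp_a L191858) L176294 L196179
theorem L196183 : sm ge N25210 = N20943 := ded_10_2 (flp_a L165112) (flp_e L165110) L196179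
theorem L196185 : sm gb N24642 = N25210 := ded_14_3 L196181 (flp_b L191854) L191860
theorem L196187 : sm gc N20942 = N25211 := rfl
theorem L196189 : sm ge N25211 = N20944 := ded_19_2 (flp_c L165116) (flp_e L165110) L196187
theorem L196191 : sm gf N25211 = N22504 := ded_20_2 (flp_c L180899) L180901 L196187
theorem L196193 : sm gg N24269 = N25211 := ded_26_0 L196189 L165122 (flp_e L189119)
theorem L196195 : sm gd N22506 = N25211 := ded_22_5 L196189 (flp_d L165120) L157715 L124395 (flp_e L175761)
theorem L196197 : sm gg N20942 = N25212 := rfl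
theorem L196199 : sm gc N25212 = N24269 := ded_21_1 L196193 (flp_c L196187) L196197
theorem L196201 : sm ge N25212 = N20945 := ded_26_1 (flp_g L165124) (flp_e L165110) L196197
theorem L196203 : sm gg N20943 = N25213 := rfl
theorem L196205 : sm ga N25213 = N20945 := ded_12_1 (flp_g L165124) L165112 L196203
theorem L196207 : sm gc N25213 = N22586 := ded_21_1 (flp_g L179869) L179865 L196203
theorem L196209 : sm gd N25213 = N20946 := ded_24_1 (flp_g L165130) (flp_d L165114) L196203
theorem L196211 : sm gf N22585 = N25213 := ded_29_0 (flp_g L196203) L179859 L179853 L178593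
theorem L196213 : sm gb N20946 = N25214 := rfl
theorem L196215 : sm ga N25214 = N25214 := ded_7_1 (flp_b L196213) L165132 (flp_b L125918) (flp_a L153728) L153736 L153728 L125918 (flp_a L165132) L196213
theorem L196216 : sm gb N20947 = N25215 := rfl
theorem L196218 : sm ge N25215 = N24426 := ded_15_2 L190317 L176314 L196216
theorem L196220 : sm gf N25215 = N23755 := ded_16_2 (flp_b L185127) L153724 L125918 L165136 L196216
theorem L196222 : sm gg N25215 = N24274 := ded_17_2 (flp_b L189153) (flp_g L157737) (flp_b L157711) (flp_g L165142) L196216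
theorem L196224 : sm ga N25200 = N25215 := ded_29_4 L196220 L196115 (flp_f L196111) L196117
theorem L196226 : sm gf N20948 = N25216 := rfl
theorem L196228 : sm gc N25216 = N22300 := ded_20_1 (flp_f L174224) L174131 L196226
theorem L196230 : sm gd N25216 = N20949 := ded_23_1 (flp_f L165149) L165144 L196226
theorem L196232 : sm ge N25216 = N22297 := ded_25_1 (flp_f L174198) L174116 L196226
theorem L196234 : sm gg N25216 = N22295 := ded_29_3 L174174 (flp_f L165959) (flp_g L165147) L196226
theorem L196236 : sm gb N20949 = N25217 := rfl
theorem L196238 : sm ge N25217 = N21059 := ded_15_2 (flp_b L166029) (flp_e L165153) L196236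
theorem L196240 : sm gc N25217 = N25204 := ded_13_2 (flp_b L196141) L165163 (flp_b L165155) (flp_c L165151) L196236
theorem L196242 : sm gf N25217 = N25217 := ded_16_2 (flp_b L196236) (flp_f L165149) L114203 L165149 L196236
theorem L196243 : sm ga N25217 = N23914 := ded_7_1 (flp_b L186501) (flp_a L155338) L186508 L195834 (flp_b L195829) (flp_a L165798) (flp_b L165975) L165967 L196236
theorem L196245 : sm gb N20951 = N25218 := rfl
theorem L196247 : sm gd N25218 = N20962 := ded_14_2 (flp_b L165280) (flp_d L165173) L196245
theorem L196249 : sm gc N25218 = N20999 := ded_13_2 L165576 (flp_c L175007) L175011 (flp_c L165171) L196245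
theorem L196251 : sm gf N25218 = N20998 := ded_16_2 L165568 L165302 (flp_b L165035) (flp_f L165175) L196245
theorem L196253 : sm gb N20952 = N25219 := rfl
theorem L196255 : sm gd N25219 = N20975 := ded_14_2 (flp_b L165358) (flp_d L165179) L196253
theorem L196257 : sm ge N25219 = N25218 := ded_15_2 (flp_b L196245) (flp_e L165181) L196253
theorem L196259 : sm gg N25219 = N20999 := ded_17_2 L165576 L165348 (flp_b L185613) L185617 L196253
theorem L196261 : sm gf N20955 = N25220 := rfl
theorem L196263 : sm ga N25220 = N25099 := ded_11_1 (flp_f L195213) (flp_a L165206) L196261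
theorem L196265 : sm gc N25220 = N20956 := ded_20_1 (flp_f L165216) L165204 L196261
theorem L196267 : sm gd N25220 = N22301 := ded_23_1 (flp_f L174228) L165214 L196261
theorem L196269 : sm ge N25220 = N21654 := ded_25_1 (flp_f L169868) (flp_e L165208) L196261
theorem L196271 : sm gg N25220 = N22837 := ded_29_3 L178477 (flp_f L169846) (flp_g L165210) L196261
theorem L196273 : sm gf N20962 = N25221 := rfl
theorem L196275 : sm ga N25221 = N25218 := ded_11_1 L196251 (flp_a L165570) L196273
theorem L196277 : sm gc N25221 = N23827 := ded_20_1 (flp_f L185759) L165572 L196273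
theorem L196279 : sm gd N25221 = N20998 := ded_23_1 (flp_f L196251) L196247 L196273
theorem L196281 : sm gg N23823 = N25221 := ded_29_1 (flp_f L196273) (flp_g L165454) L186919 L186915
theorem L196283 : sm gb N25221 = N23819 := ded_16_1 L185687 L185607 L165254 L165280 L196273
theorem L196285 : sm gb N20963 = N25222 := rfl
theorem L196287 : sm gd N25222 = N20964 := ded_14_2 (flp_b L165292) (flp_d L165284) L196285
theorem L196289 : sm ge N25222 = N20972 := ded_15_2 (flp_b L165350) (flp_e L165286) L196285
theorem L196291 : sm gf N25222 = N25196 := ded_16_2 (flp_b L196087) L165404 (flp_b L165396) (flp_f L165288) L196285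
theorem L196293 : sm gg N25222 = N21001 := ded_17_2 (flp_b L165580) L114622 L114634 (flp_g L165290) L196285
theorem L196295 : sm gc N20964 = N25223 := rfl
theorem L196297 : sm ge N25223 = N20966 := ded_19_2 (flp_c L165304) (flp_e L165294) L196295
theorem L196299 : sm gg N25223 = N22613 := ded_21_2 L176592 (flp_g L165296) L196295
theorem L196301 : sm gb N20966 = N25224 := rfl
theorem L196303 : sm gc N25224 = N20968 := ded_13_2 (flp_b L165316) (flp_c L114444) L114442 L165304 L196301
theorem L196305 : sm gg N25224 = N23791 := ded_17_2 (flp_b L185417) (flp_g L154074) (flp_b L153974) (flp_g L165306) L196301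
theorem L196307 : sm ga N25224 = N24252 := ded_7_1 (flp_b L189011) L157593 (flp_b L157579) L157575 (flp_b L114606) (flp_a L114588) L165554 (flp_a L165560) L196301
theorem L196309 : sm gd N20966 = N25225 := rfl
theorem L196311 : sm ga N25225 = N23516 := ded_9_1 L183279 (flp_a L165560) L196309
theorem L196313 : sm gg N25225 = N23778 := ded_24_2 L185325 (flp_g L165306) L196309
theorem L196315 : sm gc N24268 = N25225 := ded_28_0 (flp_d L196309) (flp_c L165304) (flp_d L154370) (flp_c L185553) L185551 L154242 (flp_d L185325) L189113
theorem L196317 : sm ga N20968 = N25226 := rfl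
theorem L196319 : sm gc N25226 = N24252 := ded_8_2 (flp_a L196307) L196303 L196317
theorem L196321 : sm gd N25226 = N23506 := ded_9_2 L183203 (flp_d L165318) L196317
theorem L196323 : sm gf N25226 = N25224 := ded_11_2 L196307 L189013 L196317
theorem L196325 : sm gb N24251 = N25226 := ded_13_5 L196319 (flp_b L189011) (flp_c L157591) L157587 L189003
theorem L196327 : sm gg N20968 = N25227 := rfl
theorem L196329 : sm gc N25227 = N23791 := ded_21_1 (flp_g L196305) L196303 L196327
theorem L196331 : sm gd N25227 = N22969 := ded_24_1 L179469 (flp_d L165318) L196327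
theorem L196333 : sm ge N25227 = N25080 := ded_26_1 L195045 (flp_e L173907) L196327
theorem L196335 : sm gf N25227 = N23791 := ded_29_2 (flp_g L196305) L196307 L189013 L196327
theorem L196337 : sm gb N25227 = N22972 := ded_17_1 L179493 L142951 (flp_g L153006) L165316 L196327
theorem L196339 : sm ga N20972 = N25228 := rfl
theorem L196341 : sm gd N25228 = N23826 := ded_9_2 L185745 L185665 L196339
theorem L196343 : sm gf N25228 = N23828 := ded_11_2 L185763 L166094 L196339
theorem L196345 : sm gg N21064 = N25228 := ded_29_3 (flp_a L196339) (flp_f L166094) (flp_g L166090) (flp_f L166078)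
theorem L196347 : sm gc N20972 = N25229 := rfl
theorem L196349 : sm gb N25229 = N24214 := ded_13_1 (flp_c L188891) L188899 (flp_c L165352) L165350 L196347
theorem L196351 : sm gd N24215 = N25229 := ded_14_0 L196349 L188713 L188717
theorem L196353 : sm gg N20972 = N25230 := rfl
theorem L196355 : sm ga N25230 = N21064 := ded_12_1 L196345 (flp_a L196339) L196353
theorem L196357 : sm gd N25230 = N23825 := ded_24_1 (flp_g L185737) L185665 L196353
theorem L196359 : sm ge N25230 = N21001 := ded_26_1 (flp_g L196293) L196289 L196353
theorem L196361 : sm gf N21065 = N25230 := ded_29_0 (flp_g L196353) (flp_f L166094) (flp_g L166090) L166080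
theorem L196363 : sm gb N25230 = N20987 := ded_17_1 L165472 (flp_b L165340) L165336 L165350 L196353
theorem L196365 : sm ga N20975 = N25231 := rfl
theorem L196367 : sm gc N25231 = N22663 := ded_8_2 (flp_a L177411) (flp_c L185633) L196365
theorem L196369 : sm ge N25231 = N22709 := ded_10_2 (flp_a L185631) L185625 L196365
theorem L196371 : sm gf N25231 = N23814 := ded_11_2 L185631 L185637 L196365
theorem L196373 : sm gg N25231 = N23956 := ded_12_2 L186905 L185681 L196365
theorem L196375 : sm gb N25231 = N25228 := ded_7_2 (flp_a L196339) (flp_b L165350) (flp_a L114462) (flp_b L94823) (flp_a L84031) L94825 L114470 L165358 L196365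
theorem L196377 : sm gg N20978 = N25232 := rfl
theorem L196379 : sm gc N25232 = N20979 := ded_21_1 (flp_g L165388) L165382 L196377
theorem L196381 : sm gd N25232 = N25025 := ded_24_1 L194540 L174980 L196377
theorem L196383 : sm ge N25232 = N23830 := ded_26_1 (flp_g L185787) (flp_e L165384) L196377
theorem L196385 : sm gf N25023 = N25232 := ded_29_0 (flp_g L196377) (flp_f L194494) (flp_g L194500) (flp_a L194514)
theorem L196387 : sm gb N20981 = N25233 := rfl
theorem L196389 : sm gd N25233 = N22401 := ded_14_2 (flp_b L175029) (flp_d L165412) L196387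
theorem L196391 : sm gc N25233 = N25203 := ded_13_2 (flp_b L196133) L165406 (flp_b L165396) L165408 L196387
theorem L196393 : sm gb N20982 = N25234 := rfl
theorem L196395 : sm gd N25234 = N20985 := ded_14_2 (flp_b L165450) (flp_d L165422) L196393
theorem L196397 : sm ge N25234 = N20999 := ded_15_2 L165576 (flp_e L165424) L196393
theorem L196399 : sm gc N25234 = N25219 := ded_13_2 (flp_b L196253) L175023 (flp_b L175013) (flp_c L165420) L196393
theorem L196401 : sm gf N25234 = N20985 := ded_16_2 (flp_b L165450) L114530 L163760 L165426 L196393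
theorem L196403 : sm gg N25234 = N25218 := ded_17_2 (flp_b L196245) (flp_g L165400) (flp_b L165396) L165416 L196393
theorem L196405 : sm ga N25234 = N23823 := ded_7_1 (flp_b L185715) L154426 L154438 L185731 (flp_b L185739) L185541 L165394 (flp_a L165418) L196393
theorem L196407 : sm gb N20983 = N25235 := rfl
theorem L196409 : sm gd N25235 = N22397 := ded_14_2 (flp_b L174998) (flp_d L165434) L196407
theorem L196411 : sm gf N25235 = N25004 := ded_16_2 (flp_b L194347) (flp_f L161731) (flp_b L123137) L165436 L196407
theorem L196413 : sm ga N25235 = N25235 := ded_7_1 (flp_b L196407) L165430 L175013 L175021 L165187 (flp_a L175021) (flp_b L175013) (flp_a L165430) L196407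
theorem L196414 : sm gb N20984 = N25236 := rfl
theorem L196416 : sm gd N25236 = N22044 := ded_14_2 L172436 (flp_d L165444) L196414
theorem L196418 : sm ge N25236 = N20996 := ded_15_2 (flp_b L165554) (flp_e L165446) L196414
theorem L196420 : sm gf N25236 = N22614 := ded_16_2 L176608 L174719 L174713 L165448 L196414
theorem L196422 : sm gg N25236 = N24245 := ded_17_2 (flp_b L188945) (flp_g L161812) L161814 L165438 L196414
theorem L196424 : sm gc N23810 = N25236 := ded_30_1 (flp_b L196414) L165440 L163712 L163702 (flp_b L106949) (flp_a L90774) (flp_f L90750) (flp_c L150512) (flp_b L106667) (flp_a L106641) L106665 (flp_c L150530) L153928 (flp_a L161788) (flp_f L186710) L186716 (flp_b L185575) L185569 L185577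
theorem L196426 : sm ga N25223 = N25236 := ded_10_3 L196418 (flp_a L165560) (flp_e L196297)
theorem L196428 : sm gc N20985 = N25237 := rfl
theorem L196430 : sm ga N25237 = N20992 := ded_8_1 (flp_c L186913) (flp_a L186919) L196428
theorem L196432 : sm ge N25237 = N20998 := ded_19_2 (flp_c L165566) (flp_e L165452) L196428
theorem L196434 : sm gf N25237 = N25219 := ded_20_2 (flp_c L196399) L196401 L196428
theorem L196436 : sm gg N25237 = N20997 := ded_21_2 L165572 (flp_g L165454) L196428
theorem L196438 : sm gb N25237 = N23810 := ded_13_1 L196424 (flp_b L196414) L165442 L165450 L196428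
theorem L196440 : sm gd N25237 = N22709 := ded_28_7 (flp_a L185631) (flp_c L185629) (flp_d L177413) (flp_c L185633) (flp_d L196255) (flp_c L196399) L196395 L196428
theorem L196442 : sm gf N20992 = N25238 := rfl
theorem L196444 : sm ga N25238 = N25219 := ded_11_1 (flp_f L196434) L196430 L196442
theorem L196446 : sm gc N25238 = N23823 := ded_20_1 (flp_f L186915) L186913 L196442
theorem L196448 : sm gd N25238 = N25231 := ded_23_1 L196371 L185623 L196442
theorem L196450 : sm ge N25238 = N25221 := ded_25_1 (flp_f L196273) (flp_e L165518) L196442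
theorem L196452 : sm gg N25238 = N23827 := ded_29_3 L185757 (flp_f L165574) (flp_g L165520) L196442
theorem L196454 : sm gb N25238 = N23826 := ded_16_1 L185749 L165532 (flp_f L165522) L165516 L196442
theorem L196456 : sm ge N20994 = N25239 := rfl
theorem L196458 : sm gb N25239 = N20995 := ded_15_1 (flp_e L165546) (flp_b L165542) L196456
theorem L196460 : sm gg N25239 = N24267 := ded_26_2 L189103 (flp_g L165544) L196456
theorem L196462 : sm ga N21001 = N25240 := rfl
theorem L196464 : sm gd N25240 = N23808 := ded_9_2 L185561 (flp_d L165582) L196462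
theorem L196466 : sm ge N25240 = N21064 := ded_10_2 (flp_a L196355) L196359 L196462
theorem L196468 : sm gf N25240 = N21062 := ded_11_2 L166058 (flp_f L165584) L196462
theorem L196470 : sm gb N25240 = N21061 := ded_7_2 (flp_a L186861) (flp_b L186871) (flp_a L165564) (flp_b L114594) L94875 L94887 L114618 L165580 L196462
theorem L196472 : sm gb N21004 = N25241 := rfl
theorem L196474 : sm ge N25241 = N21012 := ded_15_2 (flp_b L165670) (flp_e L165614) L196472
theorem L196476 : sm ga N25241 = N24424 := ded_7_1 L190305 L172887 L161814 L114520 L94857 (flp_a L94915) L114666 L165612 L196472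
theorem L196478 : sm gg N25241 = N24447 := ded_31_3 (flp_f L190495) (flp_b L158726) L158732 L158740 (flp_b L124736) (flp_g L99319) (flp_f L142021) L114666 L165624 (flp_f L165630) L164580 (flp_g L165931) (flp_f L165935) L196472
theorem L196480 : sm gc N24423 = N25241 := ded_8_0 L196476 (flp_c L190301) L190299
theorem L196482 : sm gg N21004 = N25242 := rfl
theorem L196484 : sm ga N25242 = N21007 := ded_12_1 (flp_g L165624) L165612 L196482
theorem L196486 : sm gc N25242 = N23836 := ded_21_1 L185857 L165941 L196482
theorem L196488 : sm gd N25242 = N22195 := ded_24_1 (flp_g L189667) L189665 L196482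
theorem L196490 : sm ge N25242 = N21015 := ded_26_1 (flp_g L165684) (flp_e L165614) L196482
theorem L196492 : sm gf N22194 = N25242 := ded_29_0 (flp_g L196482) L165935 L165931 L173514
theorem L196494 : sm ge N21005 = N25243 := rfl
theorem L196496 : sm gb N25243 = N21008 := ded_15_1 (flp_e L165632) (flp_b L165618) L196494
theorem L196498 : sm gd N25243 = N21016 := ded_22_1 (flp_e L165690) (flp_d L114714) (flp_e L114668) L165616 L196494
theorem L196500 : sm gb N21009 = N25244 := rfl
theorem L196502 : sm gd N25244 = N23834 := ded_14_2 L185839 (flp_d L165644) L196500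
theorem L196504 : sm ge N25244 = N21046 := ded_15_2 (flp_b L165947) L165945 L196500
theorem L196506 : sm gf N25244 = N21041 := ded_16_2 (flp_b L165869) (flp_f L120195) L164545 (flp_f L165648) L196500
theorem L196508 : sm gg N25244 = N25174 := ded_17_2 (flp_b L195876) L164681 L164787 (flp_g L165646) L196500
theorem L196510 : sm ga N25244 = N23757 := ded_7_1 L185137 (flp_a L154168) (flp_b L106681) (flp_a L90638) (flp_b L149634) L132207 L114702 L165640 L196500
theorem L196512 : sm gc N23756 = N25244 := ded_8_0 L196510 (flp_c L185135) L185133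
theorem L196514 : sm gc N21012 = N25245 := rfl
theorem L196516 : sm ga N25245 = N23755 := ded_8_1 (flp_c L189033) L189035 L196514
theorem L196518 : sm ge N25245 = N24423 := ded_19_2 L196480 L196474 L196514
theorem L196520 : sm gb N25245 = N23756 := ded_13_1 L196512 (flp_b L196500) L165642 L165670 L196514
theorem L196522 : sm gf N25200 = N25245 := ded_30_0 (flp_c L196514) (flp_b L165670) (flp_a L114712) L114718 (flp_c L165654) L165660 (flp_a L164715) (flp_f L164717) L154260 L154262 L163457 L179625 L179621 (flp_b L176334) L176326 (flp_f L157717) (flp_c L165140) L196216 (flp_a L196224)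
theorem L196524 : sm gd N21012 = N25246 := rfl
theorem L196526 : sm gb N25246 = N21013 := ded_14_1 (flp_d L165672) L165670 L196524
theorem L196528 : sm gf N21012 = N25247 := rfl
theorem L196530 : sm gc N25247 = N25200 := ded_20_1 L196522 (flp_c L196514) L196528
theorem L196532 : sm gg N25197 = N25247 := ded_21_0 L196530 (flp_g L196117) L196099
theorem L196534 : sm gg N21012 = N25248 := rfl
theorem L196536 : sm ge N25248 = N24447 := ded_26_1 (flp_g L196478) L196474 L196534
theorem L196538 : sm gf N23779 = N25248 := ded_29_0 (flp_g L196534) L196528 (flp_g L196532) L196101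
theorem L196540 : sm ge N21013 = N25249 := rfl
theorem L196542 : sm ga N25249 = N21016 := ded_10_1 (flp_e L165690) (flp_a L165674) L196540
theorem L196544 : sm gf N21013 = N25250 := rfl
theorem L196546 : sm ga N25250 = N21017 := ded_11_1 (flp_f L165694) (flp_a L165674) L196544
theorem L196548 : sm gc N25250 = N23718 := ded_20_1 L194597 L194593 L196544
theorem L196550 : sm gd N25250 = N21014 := ded_23_1 (flp_f L165676) L165672 L196544
theorem L196552 : sm gg N25250 = N25027 := ded_29_3 L194552 (flp_f L194583) (flp_g L194587) L196544
theorem L196554 : sm gb N21014 = N25251 := rfl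
theorem L196556 : sm gc N25251 = N25169 := ded_13_2 (flp_b L195829) L164541 L164545 (flp_c L165680) L196554
theorem L196558 : sm gg N25251 = N25251 := ded_17_2 (flp_b L196554) L165682 L164559 (flp_g L165682) L196554
theorem L196559 : sm gb N21015 = N25252 := rfl
theorem L196561 : sm gc N25252 = N25185 := ded_13_2 (flp_b L195976) (flp_c L164795) L164787 (flp_c L165688) L196559
theorem L196563 : sm gf N21016 = N25253 := rfl
theorem L196565 : sm ge N25253 = N21017 := ded_25_1 (flp_f L165694) L165690 L196563
theorem L196567 : sm gb N21019 = N25254 := rfl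
theorem L196569 : sm gd N25254 = N22697 := ded_14_2 (flp_b L177311) (flp_d L165710) L196567
theorem L196571 : sm gg N25254 = N25254 := ded_17_2 (flp_b L196567) (flp_g L165712) L129252 L165712 L196567
theorem L196572 : sm ge N21019 = N25255 := rfl
theorem L196574 : sm ga N25255 = N21020 := ded_10_1 (flp_e L165714) L165706 L196572
theorem L196576 : sm gc N25255 = N22795 := ded_19_1 L178049 (flp_c L165708) L196572
theorem L196578 : sm gg N25255 = N22794 := ded_26_2 L178042 L165712 L196572
theorem L196580 : sm gd N21020 = N25256 := rfl
theorem L196582 : sm gb N25256 = N21022 := ded_14_1 (flp_d L165730) (flp_b L165716) L196580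
theorem L196584 : sm gf N25256 = N24435 := ded_23_2 L190390 (flp_f L184547) L196580
theorem L196586 : sm ge N25256 = N22582 := ded_22_2 L176320 L141048 (flp_d L114730) L165714 L196580
theorem L196588 : sm gg N21020 = N25257 := rfl
theorem L196590 : sm ga N25257 = N22794 := ded_12_1 (flp_g L196578) L196574 L196588
theorem L196592 : sm gc N25257 = N22793 := ded_21_1 (flp_g L180801) L180799 L196588
theorem L196594 : sm ge N25257 = N21021 := ded_26_1 (flp_g L165718) L165714 L196588
theorem L196596 : sm gf N23683 = N25257 := ded_29_0 (flp_g L196588) L184547 (flp_g L184541) (flp_a L184527)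
theorem L196598 : sm gb N25257 = N25212 := ded_17_1 (flp_g L196197) (flp_b L165108) (flp_g L114738) (flp_b L165716) L196588
theorem L196600 : sm ga N21023 = N25258 := rfl
theorem L196602 : sm gd N25258 = N24586 := ded_9_2 (flp_a L191477) L176715 L196600
theorem L196604 : sm ge N25258 = N21024 := ded_10_2 (flp_a L165744) (flp_e L165742) L196600
theorem L196606 : sm gb N24587 = N25258 := ded_14_3 L196602 (flp_b L191473) L191479
theorem L196608 : sm gc N21023 = N25259 := rfl
theorem L196610 : sm ge N25259 = N21025 := ded_19_2 (flp_c L165748) (flp_e L165742) L196608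
theorem L196612 : sm gg N25259 = N22562 := ded_21_2 (flp_c L180789) L180793 L196608
theorem L196614 : sm gb N25259 = N25211 := ded_13_1 (flp_c L196187) (flp_b L165108) (flp_c L114742) L165740 L196608
theorem L196616 : sm gf N24250 = N25259 := ded_25_0 L196610 (flp_f L165756) (flp_e L188997)
theorem L196618 : sm gd N22564 = N25259 := ded_22_5 L196610 (flp_d L165754) L157583 L124780 (flp_e L176143)
theorem L196620 : sm gf N21023 = N25260 := rfl
theorem L196622 : sm gc N25260 = N24250 := ded_20_1 L196616 (flp_c L196608) L196620
theorem L196624 : sm ge N25260 = N21026 := ded_25_1 (flp_f L165758) (flp_e L165742) L196620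
theorem L196626 : sm gb N25260 = N25209 := ded_16_1 (flp_f L196169) L165086 L114746 L165740 L196620
theorem L196628 : sm gf N21024 = N25261 := rfl
theorem L196630 : sm ga N25261 = N21026 := ded_11_1 (flp_f L165758) L165744 L196628
theorem L196632 : sm gc N25261 = N22632 := ded_20_1 L180087 L180083 L196628
theorem L196634 : sm gd N25261 = N21027 := ded_23_1 (flp_f L165766) (flp_d L165746) L196628
theorem L196636 : sm gg N25261 = N22631 := ded_29_3 (flp_a L178547) (flp_f L180071) (flp_g L180077) L196628
theorem L196638 : sm gb N21027 = N25262 := rfl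
theorem L196640 : sm ga N25262 = N25262 := ded_7_1 (flp_b L196638) L165768 (flp_b L126712) (flp_a L154000) L154008 L154000 L126712 (flp_a L165768) L196638
theorem L196641 : sm gb N21028 = N25263 := rfl
theorem L196643 : sm ge N25263 = N24448 := ded_15_2 L190517 L176725 L196641
theorem L196645 : sm gc N25263 = N25215 := ded_13_2 (flp_b L196216) L165140 L157719 (flp_c L165776) L196641
theorem L196647 : sm gf N25263 = N24255 := ded_16_2 (flp_b L189031) (flp_f L157603) (flp_b L157579) L165778 L196641
theorem L196649 : sm gg N25263 = N23779 := ded_17_2 (flp_b L185329) (flp_g L153996) L126712 L165772 L196641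
theorem L196651 : sm ga N25263 = N25247 := ded_30_3 (flp_f L196528) L196514 L196520 (flp_a L185133) L185151 L185153 (flp_b L154292) L106785 (flp_f L106322) L142756 (flp_b L151048) L114660 (flp_f L114628) L114624 L137017 (flp_a L150850) L157581 (flp_c L165776) L196641
theorem L196653 : sm gb N21029 = N25264 := rfl
theorem L196655 : sm ge N25264 = N21033 := ded_15_2 (flp_b L165812) (flp_e L165786) L196653
theorem L196657 : sm gg N25264 = N23914 := ded_17_2 (flp_b L186501) (flp_g L155326) (flp_b L120328) L165780 L196653
theorem L196659 : sm gf N21030 = N25265 := rfl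
theorem L196661 : sm ga N25265 = N25168 := ded_11_1 (flp_f L195827) L172681 L196659
theorem L196663 : sm gc N25265 = N22084 := ded_20_1 (flp_f L172709) L172632 L196659
theorem L196665 : sm gd N25265 = N21031 := ded_23_1 (flp_f L165796) (flp_d L165792) L196659
theorem L196667 : sm ge N25265 = N22082 := ded_25_1 (flp_f L172693) L172616 L196659
theorem L196669 : sm gg N25265 = N22080 := ded_29_3 L172669 L164537 L165790 L196659
theorem L196671 : sm gb N21032 = N25266 := rfl
theorem L196673 : sm gd N25266 = N21033 := ded_14_2 (flp_b L165812) (flp_d L165810) L196671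
theorem L196675 : sm gg N25266 = N23912 := ded_17_2 (flp_b L186483) (flp_g L155312) (flp_b L120326) L165806 L196671
theorem L196677 : sm ga N21033 = N25267 := rfl
theorem L196679 : sm gg N25267 = N21059 := ded_12_2 L194301 (flp_g L165814) L196677
theorem L196681 : sm gf N25267 = N21033 := ded_29_0 L165814 L155350 (flp_g L165814) L196677
theorem L196683 : sm gc N21033 = N25268 := rfl
theorem L196685 : sm gg N25268 = N23917 := ded_21_2 (flp_c L186518) (flp_g L165814) L196683
theorem L196687 : sm gb N25268 = N21045 := ded_13_1 (flp_c L165903) (flp_b L114971) (flp_c L114869) L165812 L196683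
theorem L196689 : sm gf N21035 = N25269 := rfl
theorem L196691 : sm ga N25269 = N23635 := ded_11_1 (flp_f L184199) L172661 L196689
theorem L196693 : sm gc N25269 = N21960 := ded_20_1 L184209 L184203 L196689
theorem L196695 : sm gd N25269 = N22082 := ded_23_1 (flp_f L172693) L172614 L196689
theorem L196697 : sm ge N25269 = N21037 := ded_25_1 (flp_f L165836) (flp_e L165826) L196689
theorem L196699 : sm gg N25269 = N21958 := ded_29_3 L171846 (flp_f L152669) L165824 L196689
theorem L196701 : sm gb N21036 = N25270 := rfl
theorem L196703 : sm gd N25270 = N21038 := ded_14_2 (flp_b L165846) (flp_d L165832) L196701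
theorem L196705 : sm gg N25270 = N25270 := ded_17_2 (flp_b L196701) (flp_g L165830) L114882 L165830 L196701
theorem L196706 : sm ga N23913 = N25270 := ded_9_3 L196703 L194306 (flp_d L186494)
theorem L196708 : sm gc N21038 = N25271 := rfl
theorem L196710 : sm ga N25271 = N23919 := ded_8_1 (flp_c L186526) (flp_a L194306) L196708
theorem L196712 : sm ge N25271 = N25251 := ded_19_2 L196556 L195831 L196708
theorem L196714 : sm gg N25271 = N25271 := ded_21_2 (flp_c L196708) L165848 L196708
theorem L196715 : sm gb N25271 = N21048 := ded_13_1 (flp_c L165925) (flp_b L114975) (flp_c L114889) L165846 L196708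
theorem L196717 : sm gd N24342 = N25271 := ded_28_5 (flp_c L196708) (flp_d L196703) (flp_a L196706) L186498 L172638 L172644 (flp_d L175497) L189650
theorem L196719 : sm gf N21038 = N25272 := rfl
theorem L196721 : sm ga N25272 = N21054 := ded_11_1 L165985 (flp_a L194306) L196719
theorem L196723 : sm gg N25272 = N21054 := ded_29_3 (flp_a L196721) (flp_f L196719) L165848 L196719
theorem L196725 : sm gb N25272 = N25267 := ded_16_1 L196681 (flp_b L165812) L114891 L165846 L196719
theorem L196727 : sm gc N21041 = N25273 := rfl
theorem L196729 : sm ga N25273 = N23760 := ded_8_1 L185153 (flp_a L165875) L196727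
theorem L196731 : sm ge N25273 = N21045 := ded_19_2 (flp_c L165903) (flp_e L165873) L196727
theorem L196733 : sm gf N25273 = N23756 := ded_20_2 L196512 L196506 L196727
theorem L196735 : sm gc N21043 = N25274 := rfl
theorem L196737 : sm gg N25274 = N21045 := ded_21_2 (flp_c L165903) (flp_g L165893) L196735
theorem L196739 : sm gb N25274 = N23927 := ded_13_1 (flp_c L186601) (flp_b L155378) L120501 L165889 L196735
theorem L196741 : sm gc N21044 = N25275 := rfl
theorem L196743 : sm ga N25275 = N21045 := ded_8_1 (flp_c L165903) L165895 L196741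
theorem L196745 : sm ge N25275 = N23760 := ded_19_2 L185153 (flp_e L165899) L196741
theorem L196747 : sm gf N25275 = N23759 := ded_20_2 (flp_c L185477) L185473 L196741
theorem L196749 : sm gb N25275 = N23805 := ded_13_1 L185537 L154234 (flp_c L154300) (flp_b L165901) L196741
theorem L196751 : sm gd N21045 = N25276 := rfl
theorem L196753 : sm gf N21045 = N25277 := rfl
theorem L196755 : sm ga N25277 = N23759 := ded_11_1 (flp_f L196747) L196743 L196753
theorem L196757 : sm gc N25277 = N21046 := ded_20_1 (flp_f L165905) L165903 L196753
theorem L196759 : sm ge N25277 = N23756 := ded_25_1 (flp_f L196733) L196731 L196753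
theorem L196761 : sm gb N25277 = N24423 := ded_31_2 (flp_g L190479) L190475 L190471 L174384 L157497 (flp_b L163301) L161705 L161711 L194285 L194293 L186607 (flp_b L196739) L196737 L196753
theorem L196763 : sm gg N25182 = N25277 := ded_31_0 (flp_f L196753) (flp_b L196687) L196685 L186520 L186521 (flp_g L186605) (flp_f L186607) (flp_b L176991) (flp_g L149654) L176921 L176931 (flp_g L188733) (flp_f L188865) (flp_b L195950)
theorem L196765 : sm gb N21050 = N25278 := rfl
theorem L196767 : sm ge N25278 = N21054 := ded_15_2 (flp_b L165983) (flp_e L165955) L196765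
theorem L196769 : sm gf N25278 = N23915 := ded_16_2 (flp_b L186508) (flp_f L155336) (flp_b L148584) L165949 L196765
theorem L196771 : sm gg N21051 = N25279 := rfl
theorem L196773 : sm ga N25279 = N25216 := ded_12_1 L196234 L174174 L196771
theorem L196775 : sm gc N25279 = N22301 := ded_21_1 L174234 L174123 L196771
theorem L196777 : sm gd N25279 = N21052 := ded_24_1 (flp_g L165965) (flp_d L165961) L196771
theorem L196779 : sm ge N25279 = N22298 := ded_26_1 L174208 L174106 L196771
theorem L196781 : sm gf N22296 = N25279 := ded_29_0 (flp_g L196771) (flp_f L165959) (flp_g L165147) (flp_a L174184)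
theorem L196783 : sm gb N25279 = N25265 := ded_17_1 L196669 L172677 (flp_g L164176) (flp_b L165963) L196771
theorem L196785 : sm gb N21053 = N25280 := rfl
theorem L196787 : sm gd N25280 = N21054 := ded_14_2 (flp_b L165983) (flp_d L165981) L196785
theorem L196789 : sm gf N25280 = N23913 := ded_16_2 (flp_b L186492) (flp_f L155318) (flp_b L148582) L165977 L196785
theorem L196791 : sm gc N21054 = N25281 := rfl
theorem L196793 : sm gf N25281 = N23919 := ded_20_2 (flp_c L186526) (flp_f L165985) L196791
theorem L196795 : sm gb N25281 = N21066 := ded_13_1 (flp_c L166088) (flp_b L115140) (flp_c L115036) L165983 L196791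
theorem L196797 : sm gg N21056 = N25282 := rfl
theorem L196799 : sm ga N25282 = N23687 := ded_12_1 L184569 L174166 L196797
theorem L196801 : sm gc N25282 = N22003 := ded_21_1 (flp_g L184591) L184585 L196797
theorem L196803 : sm gd N25282 = N22298 := ded_24_1 L174208 L174104 L196797
theorem L196805 : sm ge N25282 = N21057 := ded_26_1 (flp_g L166001) (flp_e L165997) L196797
theorem L196807 : sm gf N22002 = N25282 := ded_29_0 (flp_g L196797) (flp_f L165995) L153084 (flp_a L172137)
theorem L196809 : sm gb N25282 = N25269 := ded_17_1 L196699 L171848 (flp_g L154842) (flp_b L165999) L196797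
theorem L196811 : sm gb N21058 = N25283 := rfl
theorem L196813 : sm gd N25283 = N21059 := ded_14_2 (flp_b L166029) (flp_d L166025) L196811
theorem L196815 : sm gf N25283 = N25283 := ded_16_2 (flp_b L196811) (flp_f L166021) L115059 L166021 L196811
theorem L196816 : sm ga N25283 = N23912 := ded_7_1 (flp_b L186483) (flp_a L155320) L186492 L196706 (flp_b L196701) (flp_a L165838) (flp_b L166009) (flp_a L166023) L196811
theorem L196818 : sm gc N21059 = N25284 := rfl
theorem L196820 : sm ga N25284 = N23917 := ded_8_1 (flp_c L186518) (flp_a L194301) L196818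
theorem L196822 : sm ge N25284 = N25204 := ded_19_2 (flp_c L196240) L196238 L196818
theorem L196824 : sm gf N25284 = N25284 := ded_20_2 (flp_c L196818) L166031 L196818
theorem L196825 : sm gb N25284 = N21069 := ded_13_1 (flp_c L166110) (flp_b L115152) (flp_c L115074) L166029 L196818
theorem L196827 : sm gd N24394 = N25284 := ded_28_5 (flp_c L196818) (flp_d L196813) L196816 L186489 L174139 L174145 (flp_d L174150) L190076
theorem L196829 : sm gc N21062 = N25285 := rfl
theorem L196831 : sm ga N25285 = N23784 := ded_8_1 L185355 (flp_a L166058) L196829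
theorem L196833 : sm ge N25285 = N21066 := ded_19_2 (flp_c L166088) (flp_e L166056) L196829
theorem L196835 : sm gg N25285 = N23780 := ded_21_2 L196097 L196093 L196829
theorem L196837 : sm gc N21064 = N25286 := rfl
theorem L196839 : sm gf N25286 = N21066 := ded_20_2 (flp_c L166088) (flp_f L166078) L196837
theorem L196841 : sm gb N25286 = N23936 := ded_13_1 (flp_c L186686) (flp_b L155396) L149646 L166074 L196837
theorem L196843 : sm gc N21065 = N25287 := rfl
theorem L196845 : sm ga N25287 = N21066 := ded_8_1 (flp_c L166088) L166080 L196843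
theorem L196847 : sm ge N25287 = N23784 := ded_19_2 L185355 (flp_e L166084) L196843
theorem L196849 : sm gg N25287 = N23783 := ded_21_2 L185771 L185767 L196843
theorem L196851 : sm gb N25287 = N23831 := ded_13_1 L185799 L154608 (flp_c L154288) (flp_b L166086) L196843
theorem L196853 : sm gd N21066 = N25288 := rfl
theorem L196855 : sm gg N21066 = N25289 := rfl
theorem L196857 : sm ga N25289 = N23783 := ded_12_1 (flp_g L196849) L196845 L196855
theorem L196859 : sm gc N25289 = N21067 := ded_21_1 (flp_g L166090) L166088 L196855
theorem L196861 : sm ge N25289 = N23780 := ded_26_1 (flp_g L196835) L196833 L196855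
theorem L196863 : sm gb N24444 = N25289 := ded_31_14 (flp_g L196855) (flp_f L196839) L196841 (flp_g L186692) (flp_f L194131) (flp_b L194123) L161460 (flp_f L161454) (flp_b L163184) (flp_g L157415) (flp_f L172889) (flp_b L190305) (flp_g L190309) (flp_f L190503)
theorem L196865 : sm gf N25289 = N25229 := ded_31_1 L196349 (flp_g L188715) (flp_f L188639) (flp_b L177053) L177051 (flp_f L148870) L177328 L186692 L186690 (flp_b L186529) L186528 (flp_f L196793) L196795 L196855
theorem L196867 : sm gd N21071 = N25290 := rfl
theorem L196869 : sm ga N25290 = N21072 := ded_9_1 (flp_d L166142) (flp_a L166136) L196867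
theorem L196871 : sm gb N25290 = N24554 := ded_14_1 L191263 (flp_b L166140) L196867
theorem L196873 : sm ge N21072 = N25291 := rfl
theorem L196875 : sm gb N25291 = N23197 := ded_15_1 (flp_e L194424) L194420 L196873
theorem L196877 : sm gd N25291 = N21912 := ded_22_1 (flp_e L171496) (flp_d L118766) (flp_e L115194) L166142 L196873
theorem L196879 : sm gg N21072 = N25292 := rfl
theorem L196881 : sm gd N25292 = N21073 := ded_24_1 (flp_g L166144) L166142 L196879
theorem L196883 : sm gb N21073 = N25293 := rfl
theorem L196885 : sm ge N25293 = N21914 := ded_15_2 (flp_b L171504) (flp_e L166148) L196883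
theorem L196887 : sm gc N25293 = N21870 := ded_13_2 (flp_b L171262) L166472 L115439 (flp_c L166146) L196883
theorem L196889 : sm gf N25293 = N21596 := ded_16_2 (flp_b L169501) L169513 (flp_b L169980) L169976 L196883
theorem L196891 : sm ga N21818 = N25293 := ded_10_3 L196885 (flp_a L171510) (flp_e L170917)
theorem L196893 : sm gd N21074 = N25294 := rfl
theorem L196895 : sm ga N25294 = N21075 := ded_9_1 (flp_d L166158) (flp_a L166152) L196893
theorem L196897 : sm gb N25294 = N24610 := ded_14_1 L191650 (flp_b L166156) L196893
theorem L196899 : sm ge N21075 = N25295 := rfl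
theorem L196901 : sm gb N25295 = N23274 := ded_15_1 (flp_e L194617) L194613 L196899
theorem L196903 : sm gd N25295 = N21915 := ded_22_1 (flp_e L171512) (flp_d L118778) (flp_e L115208) L166158 L196899
theorem L196905 : sm gf N21075 = N25296 := rfl
theorem L196907 : sm gd N25296 = N21076 := ded_23_1 (flp_f L166160) L166158 L196905
theorem L196909 : sm gb N21076 = N25297 := rfl
theorem L196911 : sm ge N25297 = N21917 := ded_15_2 (flp_b L171520) (flp_e L166164) L196909
theorem L196913 : sm gc N25297 = N21819 := ded_13_2 (flp_b L170923) L166426 L115389 (flp_c L166162) L196909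
theorem L196915 : sm gg N25297 = N21755 := ded_17_2 (flp_b L170512) L170530 (flp_b L170538) L168971 L196909
theorem L196917 : sm ga N21871 = N25297 := ded_10_3 L196911 (flp_a L171526) (flp_e L171266)
theorem L196919 : sm gd N21085 = N25298 := rfl
theorem L196921 : sm gb N25298 = N21111 := ded_14_1 (flp_d L166420) (flp_b L166244) L196919
theorem L196923 : sm gd N21090 = N25299 := rfl
theorem L196925 : sm gb N25299 = N21118 := ded_14_1 (flp_d L166466) (flp_b L166292) L196923
theorem L196927 : sm gc N21091 = N25300 := rfl
theorem L196929 : sm ga N25300 = N24510 := ded_8_1 L190945 (flp_a L166300) L196927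
theorem L196931 : sm ge N25300 = N23968 := ded_19_2 (flp_c L187007) (flp_e L166298) L196927
theorem L196933 : sm gf N25300 = N24021 := ded_20_2 L187407 L166302 L196927
theorem L196935 : sm gb N21092 = N25301 := rfl
theorem L196937 : sm ge N25301 = N24497 := ded_15_2 (flp_b L190857) (flp_e L166308) L196935
theorem L196939 : sm gd N21092 = N25302 := rfl
theorem L196941 : sm ga N25302 = N21093 := ded_9_1 (flp_d L166312) (flp_a L166306) L196939
theorem L196943 : sm gf N25302 = N21148 := ded_23_2 (flp_d L166698) (flp_f L166310) L196939
theorem L196945 : sm gc N25302 = N24562 := ded_28_6 L191315 (flp_a L194057) L194059 (flp_d L166394) (flp_c L115347) (flp_d L115303) L166304 L196939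
theorem L196947 : sm ge N24561 = N25302 := ded_19_0 L196945 (flp_e L191311) L191309
theorem L196949 : sm gc N21093 = N25303 := rfl
theorem L196951 : sm ga N25303 = N24562 := ded_8_1 (flp_c L196945) L196941 L196949
theorem L196953 : sm gf N25303 = N21151 := ded_20_2 (flp_c L166722) (flp_f L166314) L196949
theorem L196955 : sm gd N25303 = N24972 := ded_28_7 L194057 L161320 (flp_d L115357) (flp_c L95338) (flp_d L95304) L115309 L166312 L196949
theorem L196957 : sm ge N24559 = N25303 := ded_10_0 L196951 (flp_e L191311) (flp_a L191297)
theorem L196959 : sm ge N21093 = N25304 := rfl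
theorem L196961 : sm ga N25304 = N24561 := ded_10_1 L196947 L196941 L196959
theorem L196963 : sm gc N25304 = N24559 := ded_19_1 L196957 (flp_c L196949) L196959
theorem L196965 : sm gf N25304 = N21152 := ded_25_2 (flp_e L166724) (flp_f L166314) L196959
theorem L196967 : sm gg N21093 = N25305 := rfl
theorem L196969 : sm gd N25305 = N21094 := ded_24_1 (flp_g L166316) L166312 L196967
theorem L196971 : sm gb N21094 = N25306 := rfl
theorem L196973 : sm gc N21095 = N25307 := rfl
theorem L196975 : sm gg N25307 = N21097 := ded_21_2 (flp_c L166332) (flp_g L166324) L196973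
theorem L196977 : sm gc N21096 = N25308 := rfl
theorem L196979 : sm ga N25308 = N21097 := ded_8_1 (flp_c L166332) L166326 L196977
theorem L196981 : sm gf N25308 = N21460 := ded_20_2 (flp_c L168634) L166330 L196977
theorem L196983 : sm gd N21097 = N25309 := rfl
theorem L196985 : sm gb N25309 = N23123 := ded_14_1 (flp_d L180677) (flp_b L166334) L196983
theorem L196987 : sm gf N21097 = N25310 := rfl
theorem L196989 : sm ga N25310 = N21460 := ded_11_1 (flp_f L196981) L196979 L196987
theorem L196991 : sm gc N25310 = N21098 := ded_20_1 (flp_f L166336) L166332 L196987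
theorem L196993 : sm gb N21341 = N25310 := ded_13_5 L196991 L166342 (flp_c L167922) (flp_b L167914) L167924
theorem L196995 : sm gg N21098 = N25311 := rfl
theorem L196997 : sm ga N25311 = N21452 := ded_12_1 L168598 (flp_a L166338) L196995
theorem L196999 : sm gd N25311 = N21113 := ded_24_1 (flp_g L166430) (flp_d L166340) L196995
theorem L197001 : sm gf N24536 = N25311 := ded_29_0 (flp_g L196995) (flp_f L166336) (flp_g L166324) (flp_a L191155)
theorem L197003 : sm gb N25311 = N21329 := ded_17_1 L167854 L167914 (flp_g L167920) (flp_b L166342) L196995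
theorem L197005 : sm gc N21099 = N25312 := rfl
theorem L197007 : sm ga N25312 = N24531 := ded_8_1 L191095 (flp_a L166350) L197005
theorem L197009 : sm ge N25312 = N23969 := ded_19_2 (flp_c L187013) (flp_e L166348) L197005
theorem L197011 : sm gg N25312 = N24029 := ded_21_2 L187479 L166352 L197005
theorem L197013 : sm gb N21100 = N25313 := rfl
theorem L197015 : sm ge N25313 = N24499 := ded_15_2 (flp_b L190867) (flp_e L166358) L197013
theorem L197017 : sm gd N21100 = N25314 := rfl
theorem L197019 : sm ga N25314 = N21101 := ded_9_1 (flp_d L166362) (flp_a L166356) L197017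
theorem L197021 : sm gg N25314 = N21158 := ded_24_2 (flp_d L166760) (flp_g L166360) L197017
theorem L197023 : sm gc N25314 = N24617 := ded_28_6 L191698 (flp_a L194219) L194221 (flp_d L166440) (flp_c L115399) (flp_d L115323) L166354 L197017
theorem L197025 : sm ge N24616 = N25314 := ded_19_0 L197023 (flp_e L191694) L191692
theorem L197027 : sm gc N21101 = N25315 := rfl
theorem L197029 : sm ga N25315 = N24617 := ded_8_1 (flp_c L197023) L197019 L197027
theorem L197031 : sm gg N25315 = N21161 := ded_21_2 (flp_c L166784) (flp_g L166364) L197027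
theorem L197033 : sm gd N25315 = N24991 := ded_28_7 L194219 L161571 (flp_d L115407) (flp_c L95358) (flp_d L95318) L115327 L166362 L197027
theorem L197035 : sm ge N24614 = N25315 := ded_10_0 L197029 (flp_e L191694) (flp_a L191680)
theorem L197037 : sm ge N21101 = N25316 := rfl
theorem L197039 : sm ga N25316 = N24616 := ded_10_1 L197025 L197019 L197037
theorem L197041 : sm gc N25316 = N24614 := ded_19_1 L197035 (flp_c L197027) L197037
theorem L197043 : sm gg N25316 = N21162 := ded_26_2 (flp_e L166786) (flp_g L166364) L197037
theorem L197045 : sm gf N21101 = N25317 := rfl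
theorem L197047 : sm gd N25317 = N21102 := ded_23_1 (flp_f L166366) L166362 L197045
theorem L197049 : sm gb N21102 = N25318 := rfl
theorem L197051 : sm gc N21103 = N25319 := rfl
theorem L197053 : sm gf N25319 = N21105 := ded_20_2 (flp_c L166382) (flp_f L166374) L197051
theorem L197055 : sm gc N21104 = N25320 := rfl
theorem L197057 : sm ga N25320 = N21105 := ded_8_1 (flp_c L166382) L166376 L197055
theorem L197059 : sm gg N25320 = N21391 := ded_21_2 (flp_c L168222) L166380 L197055
theorem L197061 : sm gd N21105 = N25321 := rfl
theorem L197063 : sm gb N25321 = N23111 := ded_14_1 (flp_d L180609) (flp_b L166384) L197061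
theorem L197065 : sm gg N21105 = N25322 := rfl
theorem L197067 : sm ga N25322 = N21391 := ded_12_1 (flp_g L197059) L197057 L197065
theorem L197069 : sm gc N25322 = N21106 := ded_21_1 (flp_g L166386) L166382 L197065
theorem L197071 : sm gb N21415 = N25322 := ded_13_5 L197069 L166392 L168356 (flp_b L168348) L168358
theorem L197073 : sm gf N21106 = N25323 := rfl
theorem L197075 : sm ga N25323 = N21382 := ded_11_1 L168180 (flp_a L166388) L197073
theorem L197077 : sm gd N25323 = N21120 := ded_23_1 (flp_f L166476) (flp_d L166390) L197073
theorem L197079 : sm gg N25323 = N24516 := ded_29_3 L191011 L166374 L166386 L197073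
theorem L197081 : sm gb N25323 = N21403 := ded_16_1 L168282 L168348 (flp_f L168354) (flp_b L166392) L197073
theorem L197083 : sm gd N21109 = N25324 := rfl
theorem L197085 : sm gg N25324 = N21111 := ded_24_2 (flp_d L166420) (flp_g L166410) L197083
theorem L197087 : sm gd N21110 = N25325 := rfl
theorem L197089 : sm ga N25325 = N21111 := ded_9_1 (flp_d L166420) (flp_a L166414) L197087
theorem L197091 : sm gf N25325 = N21773 := ded_23_2 (flp_d L170622) (flp_f L166418) L197087
theorem L197093 : sm gc N21111 = N25326 := rfl
theorem L197095 : sm ge N21111 = N25327 := rfl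
theorem L197097 : sm gd N25327 = N21931 := ded_22_1 (flp_e L171642) (flp_d L120762) (flp_e L115381) L166420 L197095
theorem L197099 : sm gf N21111 = N25328 := rfl
theorem L197101 : sm ga N25328 = N21773 := ded_11_1 (flp_f L197091) L197089 L197099
theorem L197103 : sm gd N25328 = N21112 := ded_23_1 (flp_f L166422) L166420 L197099
theorem L197105 : sm gd N21116 = N25329 := rfl
theorem L197107 : sm gf N25329 = N21118 := ded_23_2 (flp_d L166466) (flp_f L166456) L197105
theorem L197109 : sm gd N21117 = N25330 := rfl
theorem L197111 : sm ga N25330 = N21118 := ded_9_1 (flp_d L166466) (flp_a L166460) L197109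
theorem L197113 : sm gg N25330 = N21614 := ded_24_2 (flp_d L169607) (flp_g L166464) L197109
theorem L197115 : sm gc N21118 = N25331 := rfl
theorem L197117 : sm ge N21118 = N25332 := rfl
theorem L197119 : sm gd N25332 = N21937 := ded_22_1 (flp_e L171686) (flp_d L120816) (flp_e L115431) L166466 L197117
theorem L197121 : sm gg N21118 = N25333 := rfl
theorem L197123 : sm ga N25333 = N21614 := ded_12_1 (flp_g L197113) L197111 L197121
theorem L197125 : sm gd N25333 = N21119 := ded_24_1 (flp_g L166468) L166466 L197121
theorem L197127 : sm gc N21121 = N25334 := rfl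
theorem L197129 : sm ga N25334 = N25334 := ded_8_1 (flp_c L197127) L166488 L197127
theorem L197130 : sm ge N25334 = N25334 := ded_19_2 (flp_c L197127) L166493 L197127
theorem L197131 : sm gf N25334 = N25334 := ded_20_2 (flp_c L197127) L166491 L197127
theorem L197132 : sm gg N25334 = N25334 := ded_21_2 (flp_c L197127) L166492 L197127
theorem L197133 : sm gb N25334 = N25334 := ded_13_1 (flp_c L197127) L166489 L115449 (flp_b L166489) L197127
theorem L197134 : sm gd N25334 = N25334 := ded_28_7 L197129 (flp_c L197127) (flp_d L166486) (flp_c L158874) L158871 L158874 L166486 L197127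
theorem L197135 : sm gb N21125 = N25335 := rfl
theorem L197137 : sm gd N25335 = N21129 := ded_14_2 (flp_b L166548) (flp_d L166522) L197135
theorem L197139 : sm ge N25335 = N25335 := ded_15_2 (flp_b L197135) L166524 L197135
theorem L197140 : sm gf N25335 = N25335 := ded_16_2 (flp_b L197135) (flp_f L166525) L166511 L166525 L197135
theorem L197141 : sm gb N21127 = N25336 := rfl
theorem L197143 : sm gd N25336 = N21131 := ded_14_2 (flp_b L166555) (flp_d L166539) L197141
theorem L197145 : sm ge N25336 = N25336 := ded_15_2 (flp_b L197141) L166541 L197141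
theorem L197146 : sm gg N25336 = N25336 := ded_17_2 (flp_b L197141) L166542 L166502 (flp_g L166542) L197141
theorem L197147 : sm gd N21128 = N25337 := rfl
theorem L197149 : sm gf N25337 = N21140 := ded_23_2 (flp_d L166648) (flp_f L166546) L197147
theorem L197151 : sm gc N25337 = N21140 := ded_28_6 (flp_d L166648) (flp_a L166640) (flp_c L166638) (flp_d L166560) L166573 L166514 L166544 L197147
theorem L197153 : sm ga N21129 = N25338 := rfl
theorem L197155 : sm gf N25338 = N25338 := ded_11_2 (flp_a L197153) L166550 L197153
theorem L197156 : sm gc N21129 = N25339 := rfl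
theorem L197158 : sm gf N25339 = N25339 := ded_20_2 (flp_c L197156) L166550 L197156
theorem L197159 : sm gd N21130 = N25340 := rfl
theorem L197161 : sm gg N25340 = N21144 := ded_24_2 (flp_d L166668) (flp_g L166553) L197159
theorem L197163 : sm gc N25340 = N21144 := ded_28_6 (flp_d L166668) (flp_a L166660) (flp_c L166658) (flp_d L166599) L166636 L166529 L166551 L197159
theorem L197165 : sm ga N21131 = N25341 := rfl
theorem L197167 : sm gg N25341 = N25341 := ded_12_2 (flp_a L197165) L166557 L197165
theorem L197168 : sm gc N21131 = N25342 := rfl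
theorem L197170 : sm gg N25342 = N25342 := ded_21_2 (flp_c L197168) L166557 L197168
theorem L197171 : sm gg N21132 = N25343 := rfl
theorem L197173 : sm ga N25343 = N21134 := ded_12_1 (flp_g L166588) L166558 L197171
theorem L197175 : sm gc N25343 = N21190 := ded_21_1 L166973 (flp_c L166573) L197171
theorem L197177 : sm gd N25343 = N21139 := ded_24_1 (flp_g L166642) (flp_d L166560) L197171
theorem L197179 : sm ge N25343 = N25343 := ded_26_1 (flp_g L197171) L166562 L197171
theorem L197180 : sm gf N21190 = N25343 := ded_29_0 (flp_g L197171) L166571 L166586 L166968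
theorem L197182 : sm gf N21135 = N25344 := rfl
theorem L197184 : sm ga N25344 = N21137 := ded_11_1 (flp_f L166608) L166597 L197182
theorem L197186 : sm gc N25344 = N21191 := ded_20_1 L166980 (flp_c L166636) L197182
theorem L197188 : sm gd N25344 = N21143 := ded_23_1 (flp_f L166662) (flp_d L166599) L197182
theorem L197190 : sm ge N25344 = N25344 := ded_25_1 (flp_f L197182) L166601 L197182
theorem L197191 : sm gg N25344 = N21191 := ded_29_3 (flp_a L166975) (flp_f L166619) L166623 L197182
theorem L197193 : sm gd N21138 = N25345 := rfl
theorem L197195 : sm ga N25345 = N21140 := ded_9_1 (flp_d L166648) (flp_a L166640) L197193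
theorem L197197 : sm gb N25345 = N24705 := ded_14_1 L192305 L192038 L197193
theorem L197199 : sm gg N21138 = N25346 := rfl
theorem L197201 : sm ga N25346 = N21141 := ded_12_1 (flp_g L166652) (flp_a L166640) L197199
theorem L197203 : sm gc N25346 = N21139 := ded_21_1 (flp_g L166642) L166638 L197199
theorem L197205 : sm gf N21195 = N25346 := ded_29_0 (flp_g L197199) (flp_f L166998) L167000 (flp_a L167008)
theorem L197207 : sm gb N21139 = N25347 := rfl
theorem L197210 : sm ge N21140 = N25348 := rfl
theorem L197212 : sm gb N25348 = N21152 := ded_15_1 (flp_e L166724) (flp_b L166650) L197210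
theorem L197214 : sm gg N21140 = N25349 := rfl
theorem L197216 : sm gd N25349 = N21141 := ded_24_1 (flp_g L166652) L166648 L197214
theorem L197218 : sm gf N21196 = N25349 := ded_23_0 L197216 (flp_f L166656) L167012
theorem L197220 : sm gb N21141 = N25350 := rfl
theorem L197222 : sm gf N25350 = N21223 := ded_16_2 (flp_b L167188) (flp_f L115884) (flp_b L115770) L166656 L197220
theorem L197224 : sm gg N25350 = N21154 := ded_17_2 (flp_b L166730) (flp_g L115533) (flp_b L115503) L166652 L197220
theorem L197226 : sm gd N21142 = N25351 := rfl
theorem L197228 : sm ga N25351 = N21144 := ded_9_1 (flp_d L166668) (flp_a L166660) L197226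
theorem L197230 : sm gb N25351 = N24754 := ded_14_1 L192615 L192184 L197226
theorem L197232 : sm gf N21142 = N25352 := rfl
theorem L197234 : sm ga N25352 = N21145 := ded_11_1 (flp_f L166672) (flp_a L166660) L197232
theorem L197236 : sm gc N25352 = N21143 := ded_20_1 (flp_f L166662) L166658 L197232
theorem L197238 : sm gg N25352 = N21200 := ded_29_3 L167062 (flp_f L167052) L167054 L197232
theorem L197240 : sm gb N21143 = N25353 := rfl
theorem L197243 : sm ge N21144 = N25354 := rfl
theorem L197245 : sm gb N25354 = N21162 := ded_15_1 (flp_e L166786) (flp_b L166670) L197243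
theorem L197247 : sm gf N21144 = N25355 := rfl
theorem L197249 : sm gd N25355 = N21145 := ded_23_1 (flp_f L166672) L166668 L197247
theorem L197251 : sm gg N21201 = N25355 := ded_24_0 L197249 (flp_g L166676) L167066
theorem L197253 : sm gb N21145 = N25356 := rfl
theorem L197255 : sm gc N25356 = N25350 := ded_13_2 (flp_b L197220) L166654 (flp_b L151170) (flp_c L166674) L197253
theorem L197257 : sm gf N25356 = N21164 := ded_16_2 (flp_b L166792) (flp_f L115563) (flp_b L115511) L166672 L197253
theorem L197259 : sm gg N25356 = N21247 := ded_17_2 (flp_b L167326) (flp_g L115966) (flp_b L115806) L166676 L197253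
theorem L197261 : sm ge N21148 = N25357 := rfl
theorem L197263 : sm ga N25357 = N21152 := ded_10_1 (flp_e L166724) (flp_a L166700) L197261
theorem L197265 : sm gb N25357 = N24039 := ded_15_1 (flp_e L187559) (flp_b L166702) L197261
theorem L197267 : sm gc N25357 = N24563 := ded_19_1 L191325 (flp_c L166844) L197261
theorem L197269 : sm gf N25357 = N24561 := ded_25_2 L196947 L196943 L197261
theorem L197271 : sm gg N21148 = N25358 := rfl
theorem L197273 : sm ga N25358 = N21153 := ded_12_1 (flp_g L166726) (flp_a L166700) L197271
theorem L197275 : sm gd N25358 = N21149 := ded_24_1 (flp_g L166704) L166698 L197271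
theorem L197277 : sm gf N25358 = N25305 := ded_29_2 (flp_g L196967) (flp_a L196941) L196943 L197271
theorem L197279 : sm gb N21149 = N25359 := rfl
theorem L197281 : sm gc N25359 = N23171 := ded_13_2 (flp_b L181005) L166720 (flp_b L166712) (flp_c L166708) L197279
theorem L197283 : sm gg N21151 = N25360 := rfl
theorem L197285 : sm gc N25360 = N21153 := ded_21_1 (flp_g L166726) L166722 L197283
theorem L197287 : sm gg N21152 = N25361 := rfl
theorem L197289 : sm ge N25361 = N21153 := ded_26_1 (flp_g L166726) L166724 L197287
theorem L197291 : sm gb N21153 = N25362 := rfl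
theorem L197293 : sm gd N25362 = N21154 := ded_14_2 (flp_b L166730) (flp_d L166728) L197291
theorem L197295 : sm gf N21153 = N25363 := rfl
theorem L197297 : sm ga N25363 = N25305 := ded_11_1 (flp_f L197277) L197273 L197295
theorem L197299 : sm gd N25363 = N21155 := ded_23_1 (flp_f L166732) (flp_d L166728) L197295
theorem L197301 : sm gg N25363 = N25302 := ded_29_3 L196941 L166314 L166726 L197295
theorem L197303 : sm ga N21154 = N25364 := rfl
theorem L197305 : sm gf N21154 = N25365 := rfl
theorem L197307 : sm gb N21155 = N25366 := rfl
theorem L197309 : sm gc N25366 = N25321 := ded_13_2 L197063 (flp_c L180613) (flp_b L160068) (flp_c L166736) L197307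
theorem L197311 : sm ge N21158 = N25367 := rfl
theorem L197313 : sm ga N25367 = N21162 := ded_10_1 (flp_e L166786) (flp_a L166762) L197311
theorem L197315 : sm gb N25367 = N24091 := ded_15_1 (flp_e L187917) (flp_b L166764) L197311
theorem L197317 : sm gc N25367 = N24619 := ded_19_1 L191712 (flp_c L166927) L197311
theorem L197319 : sm gg N25367 = N24616 := ded_26_2 L197025 L197021 L197311
theorem L197321 : sm gf N21158 = N25368 := rfl
theorem L197323 : sm ga N25368 = N21163 := ded_11_1 (flp_f L166788) (flp_a L166762) L197321
theorem L197325 : sm gd N25368 = N21159 := ded_23_1 (flp_f L166766) L166760 L197321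
theorem L197327 : sm gg N25317 = N25368 := ded_29_1 (flp_f L197321) (flp_g L197021) L197019 L197045
theorem L197329 : sm gb N21159 = N25369 := rfl
theorem L197331 : sm gc N25369 = N23187 := ded_13_2 (flp_b L181115) L166782 (flp_b L166774) (flp_c L166770) L197329
theorem L197333 : sm gf N21161 = N25370 := rfl
theorem L197335 : sm gc N25370 = N21163 := ded_20_1 (flp_f L166788) L166784 L197333
theorem L197337 : sm gf N21162 = N25371 := rfl
theorem L197339 : sm ge N25371 = N21163 := ded_25_1 (flp_f L166788) L166786 L197337
theorem L197341 : sm gb N21163 = N25372 := rfl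
theorem L197343 : sm gd N25372 = N21164 := ded_14_2 (flp_b L166792) (flp_d L166790) L197341
theorem L197345 : sm gg N21163 = N25373 := rfl
theorem L197347 : sm ga N25373 = N25317 := ded_12_1 L197327 L197323 L197345
theorem L197349 : sm gd N25373 = N21165 := ded_24_1 (flp_g L166794) (flp_d L166790) L197345
theorem L197351 : sm gf N25314 = N25373 := ded_29_0 (flp_g L197345) (flp_f L166788) (flp_g L166364) (flp_a L197019)
theorem L197353 : sm ga N21164 = N25374 := rfl
theorem L197355 : sm gg N21164 = N25375 := rfl
theorem L197357 : sm gb N21165 = N25376 := rfl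
theorem L197359 : sm gc N25376 = N25309 := ded_13_2 L196985 (flp_c L180681) (flp_b L159938) (flp_c L166798) L197357
theorem L197361 : sm gg N21167 = N25377 := rfl
theorem L197363 : sm ga N25377 = N21172 := ded_12_1 (flp_g L166846) (flp_a L166808) L197361
theorem L197365 : sm gc N25377 = N21168 := ded_21_1 (flp_g L166816) L166806 L197361
theorem L197367 : sm gd N25377 = N25360 := ded_24_1 (flp_g L197283) L166814 L197361
theorem L197369 : sm ge N25377 = N24968 := ded_26_1 (flp_g L194023) (flp_e L166810) L197361
theorem L197371 : sm gf N25377 = N24975 := ded_29_2 (flp_g L194083) (flp_a L194057) L194061 L197361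
theorem L197373 : sm gb N21168 = N25378 := rfl
theorem L197375 : sm gd N25378 = N21169 := ded_14_2 (flp_b L166824) (flp_d L166820) L197373
theorem L197377 : sm gf N25378 = N21493 := ded_16_2 (flp_b L168855) L168861 (flp_b L168871) (flp_f L166822) L197373
theorem L197379 : sm gc N21169 = N25379 := rfl
theorem L197381 : sm ga N25379 = N22519 := ded_8_1 L175859 L168959 L197379
theorem L197383 : sm ge N25379 = N21942 := ded_19_2 (flp_c L171714) (flp_e L166826) L197379
theorem L197385 : sm gf N25379 = N21497 := ded_20_2 (flp_c L168883) (flp_f L166828) L197379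
theorem L197387 : sm gb N25379 = N21170 := ded_13_1 (flp_c L166830) (flp_b L115607) (flp_c L115601) L166824 L197379
theorem L197389 : sm gd N21170 = N25380 := rfl
theorem L197391 : sm ga N25380 = N21590 := ded_9_1 L169471 (flp_a L166832) L197389
theorem L197393 : sm gf N25380 = N21751 := ded_23_2 L170494 (flp_f L166836) L197389
theorem L197395 : sm ge N25380 = N21583 := ded_22_2 (flp_d L169415) L117355 (flp_d L163943) (flp_e L166834) L197389
theorem L197397 : sm gc N23243 = N25380 := ded_28_0 (flp_d L197389) (flp_c L166830) (flp_d L166714) (flp_c L166720) L144635 (flp_c L151486) (flp_d L145236) (flp_a L181491)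
theorem L197399 : sm gg N21171 = N25381 := rfl
theorem L197401 : sm ga N25381 = N25360 := ded_12_1 (flp_g L197283) (flp_a L166840) L197399
theorem L197403 : sm gc N25381 = N25358 := ded_21_1 (flp_g L197271) L166844 L197399
theorem L197405 : sm gd N25381 = N21172 := ded_24_1 (flp_g L166846) L166838 L197399
theorem L197407 : sm gb N21172 = N25382 := rfl
theorem L197409 : sm gg N25382 = N23453 := ded_17_2 (flp_b L182885) (flp_g L145721) (flp_b L161252) L166846 L197407
theorem L197411 : sm gf N21172 = N25383 := rfl
theorem L197413 : sm ga N25383 = N24975 := ded_11_1 (flp_f L197371) L197363 L197411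
theorem L197415 : sm gc N25383 = N21175 := ded_20_1 (flp_f L166863) (flp_c L166848) L197411
theorem L197417 : sm ge N25383 = N24973 := ded_25_1 (flp_f L194069) L180097 L197411
theorem L197419 : sm gg N25383 = N24972 := ded_29_3 L194057 L161322 L166846 L197411
theorem L197421 : sm gb N21173 = N25384 := rfl
theorem L197423 : sm gd N25384 = N21943 := ded_14_2 (flp_b L171724) (flp_d L166852) L197421
theorem L197425 : sm ge N25384 = N21174 := ded_15_2 (flp_b L166856) (flp_e L166854) L197421
theorem L197427 : sm gg N25384 = N25384 := ded_17_2 (flp_b L197421) (flp_g L166850) L115617 L166850 L197421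
theorem L197428 : sm ga N21258 = N25384 := ded_9_3 L197423 (flp_a L171729) (flp_d L167423)
theorem L197430 : sm gf N21173 = N25385 := rfl
theorem L197432 : sm ga N25385 = N24974 := ded_11_1 (flp_f L194081) L178521 L197430
theorem L197434 : sm gc N25385 = N24973 := ded_20_1 (flp_f L194069) L180093 L197430
theorem L197436 : sm gd N25385 = N21944 := ded_23_1 (flp_f L171731) (flp_d L166852) L197430
theorem L197438 : sm ge N25385 = N21175 := ded_25_1 (flp_f L166863) (flp_e L166854) L197430
theorem L197440 : sm gg N25385 = N22840 := ded_29_3 L178509 L161310 L166850 L197430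
theorem L197442 : sm gc N21174 = N25386 := rfl
theorem L197444 : sm ga N25386 = N21259 := ded_8_1 (flp_c L167428) L166861 L197442
theorem L197446 : sm gg N25386 = N25386 := ded_21_2 (flp_c L197442) L166860 L197442
theorem L197447 : sm gf N21174 = N25387 := rfl
theorem L197449 : sm ga N25387 = N21260 := ded_11_1 (flp_f L167431) L166861 L197447
theorem L197451 : sm gd N25387 = N21176 := ded_23_1 (flp_f L166871) (flp_d L166858) L197447
theorem L197453 : sm gg N25387 = N21260 := ded_29_3 (flp_a L197449) (flp_f L197447) L166860 L197447
theorem L197455 : sm gb N21175 = N25388 := rfl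
theorem L197457 : sm gd N25388 = N21177 := ded_14_2 (flp_b L166879) (flp_d L166867) L197455
theorem L197459 : sm gg N25388 = N21537 := ded_17_2 (flp_b L169139) L118141 (flp_b L166398) (flp_g L166869) L197455
theorem L197461 : sm gf N21179 = N25389 := rfl
theorem L197463 : sm ga N25389 = N21184 := ded_11_1 (flp_f L166929) (flp_a L166891) L197461
theorem L197465 : sm gc N25389 = N21180 := ded_20_1 (flp_f L166899) L166889 L197461
theorem L197467 : sm gd N25389 = N25370 := ded_23_1 (flp_f L197333) L166897 L197461
theorem L197469 : sm ge N25389 = N24987 := ded_25_1 (flp_f L194185) (flp_e L166893) L197461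
theorem L197471 : sm gg N24994 = N25389 := ded_29_1 (flp_f L197461) (flp_g L194223) L194219 L194245
theorem L197473 : sm gb N21180 = N25390 := rfl
theorem L197475 : sm gd N25390 = N21181 := ded_14_2 (flp_b L166907) (flp_d L166903) L197473
theorem L197477 : sm gg N25390 = N21652 := ded_17_2 (flp_b L169852) L169858 (flp_b L169866) L166905 L197473
theorem L197479 : sm gc N21181 = N25391 := rfl
theorem L197481 : sm ga N25391 = N22460 := ded_8_1 L175428 L169964 L197479
theorem L197483 : sm ge N25391 = N21951 := ded_19_2 (flp_c L171784) (flp_e L166909) L197479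
theorem L197485 : sm gg N25391 = N21656 := ded_21_2 (flp_c L169884) (flp_g L166911) L197479
theorem L197487 : sm gb N25391 = N21182 := ded_13_1 (flp_c L166913) (flp_b L115681) (flp_c L115675) L166907 L197479
theorem L197489 : sm gd N21182 = N25392 := rfl
theorem L197491 : sm ga N25392 = N21749 := ded_9_1 L170476 (flp_a L166915) L197489
theorem L197493 : sm gg N25392 = N21591 := ded_24_2 L169477 (flp_g L166919) L197489
theorem L197495 : sm ge N25392 = N21742 := ded_22_2 (flp_d L170416) L117969 (flp_d L163949) (flp_e L166917) L197489
theorem L197497 : sm gc N23260 = N25392 := ded_28_0 (flp_d L197489) (flp_c L166913) (flp_d L166776) (flp_c L166782) L144725 (flp_c L151528) (flp_d L144977) (flp_a L181615)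
theorem L197499 : sm gf N21183 = N25393 := rfl
theorem L197501 : sm ga N25393 = N25370 := ded_11_1 (flp_f L197333) (flp_a L166923) L197499
theorem L197503 : sm gc N25393 = N25368 := ded_20_1 (flp_f L197321) L166927 L197499
theorem L197505 : sm gd N25393 = N21184 := ded_23_1 (flp_f L166929) L166921 L197499
theorem L197507 : sm gb N21184 = N25394 := rfl
theorem L197509 : sm gf N25394 = N23477 := ded_16_2 (flp_b L183024) (flp_f L145809) (flp_b L161503) L166929 L197507
theorem L197511 : sm gg N21184 = N25395 := rfl
theorem L197513 : sm ga N25395 = N24994 := ded_12_1 L197471 L197463 L197511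
theorem L197515 : sm gc N25395 = N21187 := ded_21_1 (flp_g L166946) (flp_c L166931) L197511
theorem L197517 : sm ge N25395 = N24992 := ded_26_1 L194231 L180129 L197511
theorem L197519 : sm gf N24991 = N25395 := ded_29_0 (flp_g L197511) (flp_f L166929) (flp_g L161573) (flp_a L194219)
theorem L197521 : sm gb N21185 = N25396 := rfl
theorem L197523 : sm gd N25396 = N21952 := ded_14_2 (flp_b L171794) (flp_d L166935) L197521
theorem L197525 : sm ge N25396 = N21186 := ded_15_2 (flp_b L166939) (flp_e L166937) L197521
theorem L197527 : sm gf N25396 = N25396 := ded_16_2 (flp_b L197521) (flp_f L166933) L115691 L166933 L197521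
theorem L197528 : sm ga N21297 = N25396 := ded_9_3 L197523 L171799 (flp_d L167663)
theorem L197530 : sm gg N21185 = N25397 := rfl
theorem L197532 : sm ga N25397 = N24993 := ded_12_1 L194243 L178555 L197530
theorem L197534 : sm gc N25397 = N24992 := ded_21_1 L194231 L180125 L197530
theorem L197536 : sm gd N25397 = N21953 := ded_24_1 (flp_g L171801) (flp_d L166935) L197530
theorem L197538 : sm ge N25397 = N21187 := ded_26_1 (flp_g L166946) (flp_e L166937) L197530
theorem L197540 : sm gf N22847 = N25397 := ded_29_0 (flp_g L197530) (flp_f L166933) (flp_g L161561) (flp_a L178563)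
theorem L197542 : sm gc N21186 = N25398 := rfl
theorem L197544 : sm ga N25398 = N21298 := ded_8_1 (flp_c L167668) L166944 L197542
theorem L197546 : sm gf N25398 = N25398 := ded_20_2 (flp_c L197542) L166943 L197542
theorem L197547 : sm gg N21186 = N25399 := rfl
theorem L197549 : sm ga N25399 = N21299 := ded_12_1 (flp_g L167671) L166944 L197547
theorem L197551 : sm gd N25399 = N21188 := ded_24_1 (flp_g L166954) (flp_d L166941) L197547
theorem L197553 : sm gf N21299 = N25399 := ded_29_0 (flp_g L197547) L166943 L197547 L197549
theorem L197555 : sm gb N21187 = N25400 := rfl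
theorem L197557 : sm gd N25400 = N21189 := ded_14_2 (flp_b L166962) (flp_d L166950) L197555
theorem L197559 : sm gf N25400 = N21696 := ded_16_2 (flp_b L170144) (flp_f L118368) (flp_b L166444) L166952 L197555
theorem L197561 : sm gb N21190 = N25401 := rfl
theorem L197563 : sm gd N25401 = N21194 := ded_14_2 (flp_b L167002) (flp_d L166970) L197561
theorem L197565 : sm ge N25401 = N25401 := ded_15_2 (flp_b L197561) L166972 L197561
theorem L197566 : sm gg N25401 = N25335 := ded_17_2 (flp_b L197135) (flp_g L166519) L166512 (flp_g L166973) L197561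
theorem L197568 : sm gb N21191 = N25402 := rfl
theorem L197570 : sm gd N25402 = N21199 := ded_14_2 (flp_b L167056) (flp_d L166977) L197568
theorem L197572 : sm ge N25402 = N25402 := ded_15_2 (flp_b L197568) L166979 L197568
theorem L197573 : sm gf N25402 = N25336 := ded_16_2 (flp_b L197141) (flp_f L166534) L166527 (flp_f L166980) L197568
theorem L197575 : sm gd N21193 = N25403 := rfl
theorem L197577 : sm ga N25403 = N25337 := ded_9_1 (flp_d L197147) (flp_a L166996) L197575
theorem L197579 : sm gb N25403 = N23195 := ded_14_1 L190987 L190981 L197575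
theorem L197581 : sm gf N25403 = N25345 := ded_23_2 (flp_d L197193) (flp_f L166998) L197575
theorem L197583 : sm gg N25403 = N21196 := ded_24_2 (flp_d L167012) (flp_g L167000) L197575
theorem L197585 : sm gc N25345 = N25403 := ded_28_0 (flp_d L197575) (flp_c L166994) L166575 (flp_c L166564) L115490 L115501 L166648 (flp_a L197195)
theorem L197587 : sm ga N21194 = N25404 := rfl
theorem L197589 : sm gg N25404 = N25338 := ded_12_2 (flp_a L197153) (flp_g L167004) L197587
theorem L197591 : sm gf N25404 = N21194 := ded_29_0 L167004 L166550 (flp_g L167004) L197587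
theorem L197593 : N25353 = N25338 := coi_31_0 (flp_g L197589) L197591 (flp_b L167002) (flp_g L151284) L115472 (flp_b L95402) (flp_g L84435) (flp_f L84429) L84426 L84428 L95546 L115798 L151295 L166662 L197240
theorem L197594 : N25353 = N25338 := eqc rfl L197593 rfl
theorem L197595 : sm gb N25338 = N21143 := trfs L197594 (flp_b L197240) rfl
theorem L197598 : N25347 = N25341 := coi_7_5 (flp_a L197165) (flp_b L166555) L115484 L166548 L197153 L197595 L166664 L151170 (flp_a L166644) L197207
theorem L197599 : N25347 = N25341 := eqc rfl L197598 rfl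
theorem L197600 : sm gb N25341 = N21139 := trfs L197599 (flp_b L197207) rfl
theorem L197603 : sm gc N21194 = N25405 := rfl
theorem L197605 : sm gg N25405 = N25339 := ded_21_2 (flp_c L197156) (flp_g L167004) L197603
theorem L197607 : sm gb N21195 = N25406 := rfl
theorem L197609 : sm gd N21195 = N25407 := rfl
theorem L197611 : sm ga N25407 = N21196 := ded_9_1 (flp_d L167012) (flp_a L167008) L197609
theorem L197613 : sm gg N25407 = N25337 := ded_24_2 (flp_d L197147) (flp_g L167010) L197609
theorem L197615 : sm gc N25407 = N25349 := ded_28_6 L197216 (flp_a L197201) L197203 (flp_d L197177) L197175 L166970 L167006 L197609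
theorem L197617 : sm gc N21196 = N25408 := rfl
theorem L197619 : sm ga N25408 = N25349 := ded_8_1 (flp_c L197615) L197611 L197617
theorem L197621 : sm gf N25408 = N25407 := ded_20_2 L197615 (flp_f L197218) L197617
theorem L197623 : sm gg N25408 = N25345 := ded_21_2 L197585 L197583 L197617
theorem L197625 : sm gd N25408 = N25346 := ded_28_7 L197201 L166654 (flp_d L166592) L166590 L115727 L115768 L167012 L197617
theorem L197627 : sm ge N21196 = N25409 := rfl
theorem L197629 : sm gb N25409 = N21221 := ded_15_1 (flp_e L167182) (flp_b L167014) L197627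
theorem L197631 : sm gd N21198 = N25410 := rfl
theorem L197633 : sm ga N25410 = N25340 := ded_9_1 (flp_d L197159) (flp_a L167050) L197631
theorem L197635 : sm gb N25410 = N23271 := ded_14_1 L191131 L191125 L197631
theorem L197637 : sm gf N25410 = N21201 := ded_23_2 (flp_d L167066) (flp_f L167052) L197631
theorem L197639 : sm gg N25410 = N25351 := ded_24_2 (flp_d L197226) (flp_g L167054) L197631
theorem L197641 : sm gc N25351 = N25410 := ded_28_0 (flp_d L197631) (flp_c L167048) L166621 (flp_c L166603) L115495 L115509 L166668 (flp_a L197228)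
theorem L197643 : sm ga N21199 = N25411 := rfl
theorem L197645 : sm gf N25411 = N25341 := ded_11_2 (flp_a L197165) (flp_f L167058) L197643
theorem L197647 : sm gg N25411 = N21199 := ded_29_3 L197643 L197645 L197167 (flp_f L197645)
theorem L197649 : sm gb N25411 = N25404 := ded_7_2 (flp_a L197587) (flp_b L167002) (flp_a L115766) (flp_b L95536) (flp_a L84431) L95548 L115802 L167056 L197643
theorem L197651 : sm gc N21199 = N25412 := rfl
theorem L197653 : sm gf N25412 = N25342 := ded_20_2 (flp_c L197168) (flp_f L167058) L197651
theorem L197655 : sm gb N21200 = N25413 := rfl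
theorem L197657 : sm gd N21200 = N25414 := rfl
theorem L197659 : sm ga N25414 = N21201 := ded_9_1 (flp_d L167066) (flp_a L167062) L197657
theorem L197661 : sm gf N25414 = N25340 := ded_23_2 (flp_d L197159) (flp_f L167064) L197657
theorem L197663 : sm gc N25414 = N25355 := ded_28_6 L197249 (flp_a L197234) L197236 (flp_d L197188) L197186 L166977 L167060 L197657
theorem L197665 : sm gc N21201 = N25415 := rfl
theorem L197667 : sm ga N25415 = N25355 := ded_8_1 (flp_c L197663) L197659 L197665
theorem L197669 : sm gf N25415 = N25351 := ded_20_2 L197641 L197637 L197665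
theorem L197671 : sm gg N25415 = N25414 := ded_21_2 L197663 (flp_g L197251) L197665
theorem L197673 : sm gd N25415 = N25352 := ded_28_7 L197234 L166674 (flp_d L166610) (flp_c L166617) L115747 L115804 L167066 L197665
theorem L197675 : sm ge N21201 = N25416 := rfl
theorem L197677 : sm gb N25416 = N21245 := ded_15_1 (flp_e L167320) (flp_b L167068) L197675
theorem L197679 : sm gg N21202 = N25417 := rfl
theorem L197681 : sm gc N25417 = N21204 := ded_21_1 (flp_g L167082) (flp_c L167072) L197679
theorem L197683 : sm gd N25417 = N23976 := ded_24_1 (flp_g L187067) (flp_d L167074) L197679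
theorem L197685 : sm gf N24022 = N25417 := ded_29_0 (flp_g L197679) (flp_f L167070) L167076 (flp_a L187411)
theorem L197687 : sm gb N21203 = N25418 := rfl
theorem L197689 : sm gd N25418 = N24051 := ded_14_2 (flp_b L187637) (flp_d L167080) L197687
theorem L197691 : sm gg N25418 = N24721 := ded_17_2 (flp_b L192411) (flp_g L160202) (flp_b L115816) L167076 L197687
theorem L197693 : sm gf N21203 = N25419 := rfl
theorem L197695 : sm ga N25419 = N25417 := ded_11_1 (flp_f L197685) L187411 L197693
theorem L197697 : sm gc N25419 = N21205 := ded_20_1 (flp_f L167088) (flp_c L167078) L197693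
theorem L197699 : sm gd N25419 = N24052 := ded_23_1 (flp_f L187641) (flp_d L167080) L197693
theorem L197701 : sm gg N25419 = N23968 := ded_29_3 L187009 (flp_f L167070) L167076 L197693
theorem L197703 : sm gb N21206 = N25420 := rfl
theorem L197705 : sm gd N25420 = N21532 := ded_14_2 (flp_b L169111) (flp_d L167100) L197703
theorem L197707 : sm gb N21208 = N25421 := rfl
theorem L197709 : sm gd N25421 = N21335 := ded_14_2 (flp_b L167894) (flp_d L167116) L197707
theorem L197711 : sm ge N25421 = N24675 := ded_15_2 (flp_b L192095) (flp_e L167118) L197707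
theorem L197713 : sm gg N25421 = N21336 := ded_17_2 (flp_b L167898) (flp_g L116483) (flp_b L116473) (flp_g L167120) L197707
theorem L197715 : sm gc N21208 = N25422 := rfl
theorem L197717 : sm ga N25422 = N21209 := ded_8_1 (flp_c L167124) L167114 L197715
theorem L197719 : sm ge N25422 = N24572 := ded_19_2 L191381 (flp_e L167118) L197715
theorem L197721 : sm gf N25422 = N24670 := ded_20_2 L192067 (flp_f L167122) L197715
theorem L197723 : sm gg N25422 = N21333 := ded_21_2 (flp_c L167878) (flp_g L167120) L197715
theorem L197725 : sm gd N21209 = N25423 := rfl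
theorem L197727 : sm gb N25423 = N21213 := ded_14_1 (flp_d L167146) (flp_b L167126) L197725
theorem L197729 : sm gg N25423 = N23195 := ded_24_2 L190987 (flp_g L190989) L197725
theorem L197731 : sm gc N25423 = N23198 := ded_28_6 L181191 (flp_a L181141) L181143 (flp_d L180921) L180919 L167108 L167124 L197725
theorem L197733 : sm gc N21211 = N25424 := rfl
theorem L197735 : sm gg N21211 = N25425 := rfl
theorem L197737 : sm ga N25425 = N21435 := ded_12_1 (flp_g L190689) L190691 L197735
theorem L197739 : sm gd N25425 = N21264 := ded_24_1 (flp_g L167450) (flp_d L167138) L197735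
theorem L197741 : sm ge N25425 = N25323 := ded_26_1 L197079 L191007 L197735
theorem L197743 : sm gf N21433 = N25425 := ded_29_0 (flp_g L197735) L168490 (flp_g L168482) L168462
theorem L197745 : sm gb N25425 = N21216 := ded_17_1 (flp_g L167158) (flp_b L115866) (flp_g L115856) L167136 L197735
theorem L197747 : sm gb N21212 = N25426 := rfl
theorem L197749 : sm gd N21212 = N25427 := rfl
theorem L197751 : sm ga N25427 = N21213 := ded_9_1 (flp_d L167146) (flp_a L167142) L197749
theorem L197753 : sm gg N25427 = N21218 := ded_24_2 (flp_d L167168) (flp_g L167144) L197749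
theorem L197755 : sm gc N21213 = N25428 := rfl
theorem L197757 : sm gg N25428 = N21220 := ded_21_2 (flp_c L167180) (flp_g L167148) L197755
theorem L197759 : sm ge N21213 = N25429 := rfl
theorem L197761 : sm gg N25429 = N21221 := ded_26_2 (flp_e L167182) (flp_g L167148) L197759
theorem L197763 : sm gf N21213 = N25430 := rfl
theorem L197765 : sm gd N25430 = N21214 := ded_23_1 (flp_f L167150) L167146 L197763
theorem L197767 : sm gb N21214 = N25431 := rfl
theorem L197769 : sm gb N21215 = N25432 := rfl
theorem L197771 : sm gd N25432 = N24132 := ded_14_2 (flp_b L188199) L167156 L197769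
theorem L197773 : sm gc N25432 = N21217 := ded_13_2 (flp_b L167166) (flp_c L115870) L115866 L167154 L197769
theorem L197775 : sm gg N21215 = N25433 := rfl
theorem L197777 : sm ga N25433 = N24681 := ded_12_1 L192143 L187535 L197775
theorem L197779 : sm gc N25433 = N21216 := ded_21_1 (flp_g L167158) L167154 L197775
theorem L197781 : sm gd N25433 = N24134 := ded_24_1 (flp_g L188207) L167156 L197775
theorem L197783 : sm gf N24684 = N25433 := ded_29_0 (flp_g L197775) L192179 (flp_g L192171) (flp_a L192161)
theorem L197785 : sm ga N21217 = N25434 := rfl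
theorem L197787 : sm gd N21217 = N25435 := rfl
theorem L197789 : sm gb N25435 = N21218 := ded_14_1 (flp_d L167168) L167166 L197787
theorem L197791 : sm gf N21217 = N25436 := rfl
theorem L197793 : sm gg N21217 = N25437 := rfl
theorem L197795 : sm ge N21218 = N25438 := rfl
theorem L197797 : sm ga N25438 = N21221 := ded_10_1 (flp_e L167182) (flp_a L167170) L197795
theorem L197799 : sm gf N21218 = N25439 := rfl
theorem L197801 : sm ga N25439 = N21222 := ded_11_1 (flp_f L167184) (flp_a L167170) L197799
theorem L197803 : sm gd N25439 = N21219 := ded_23_1 (flp_f L167172) L167168 L197799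
theorem L197805 : sm gg N25430 = N25439 := ded_29_1 (flp_f L197799) (flp_g L197753) L197751 L197763
theorem L197807 : sm gb N21219 = N25440 := rfl
theorem L197809 : sm gb N21220 = N25441 := rfl
theorem L197811 : sm ge N21220 = N25442 := rfl
theorem L197813 : sm gc N25442 = N21221 := ded_19_1 (flp_e L167182) L167180 L197811
theorem L197815 : sm gf N21220 = N25443 := rfl
theorem L197817 : sm gc N25443 = N21222 := ded_20_1 (flp_f L167184) L167180 L197815
theorem L197819 : sm gf N21221 = N25444 := rfl
theorem L197821 : sm ge N25444 = N21222 := ded_25_1 (flp_f L167184) L167182 L197819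
theorem L197823 : sm gb N21222 = N25445 := rfl
theorem L197825 : sm gd N25445 = N21223 := ded_14_2 (flp_b L167188) (flp_d L167186) L197823
theorem L197827 : sm gg N21222 = N25446 := rfl
theorem L197829 : sm ga N25446 = N25430 := ded_12_1 L197805 L197801 L197827
theorem L197831 : sm gd N25446 = N21224 := ded_24_1 (flp_g L167192) (flp_d L167186) L197827
theorem L197833 : sm gf N25427 = N25446 := ded_29_0 (flp_g L197827) (flp_f L167184) (flp_g L167148) (flp_a L197751)
theorem L197835 : sm ga N21223 = N25447 := rfl
theorem L197837 : sm gc N25447 = N25374 := ded_8_2 (flp_a L197353) (flp_c L167190) L197835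
theorem L197839 : sm gg N25365 = N25447 := ded_29_3 (flp_a L197835) (flp_f L197222) L197224 L197305
theorem L197841 : sm gg N21223 = N25448 := rfl
theorem L197843 : sm ga N25448 = N25365 := ded_12_1 L197839 (flp_a L197835) L197841
theorem L197845 : sm gc N25448 = N25375 := ded_21_1 (flp_g L197355) (flp_c L167190) L197841
theorem L197847 : sm gf N25364 = N25448 := ded_29_0 (flp_g L197841) (flp_f L197222) L197224 L197303
theorem L197849 : sm gb N21224 = N25449 := rfl
theorem L197851 : sm gc N21225 = N25450 := rfl
theorem L197853 : sm ga N25450 = N24679 := ded_8_1 L192123 L167206 L197851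
theorem L197855 : sm gg N25450 = N23123 := ded_21_2 (flp_c L180681) (flp_g L167204) L197851
theorem L197857 : sm gd N23124 = N25450 := ded_28_1 (flp_c L197851) L167202 L167578 (flp_d L180889) L180887 (flp_d L180673) L180671 (flp_c L180687)
theorem L197859 : sm gb N21226 = N25451 := rfl
theorem L197861 : sm gd N25451 = N24102 := ded_14_2 (flp_b L187983) (flp_d L167212) L197859
theorem L197863 : sm gf N25451 = N24770 := ded_16_2 (flp_b L192721) (flp_f L160432) L150460 L167208 L197859
theorem L197865 : sm gg N21226 = N25452 := rfl
theorem L197867 : sm gc N25452 = N21228 := ded_21_1 (flp_g L167220) (flp_c L167210) L197865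
theorem L197869 : sm gd N25452 = N24103 := ded_24_1 (flp_g L187987) (flp_d L167212) L197865
theorem L197871 : sm gf N23969 = N25452 := ded_29_0 (flp_g L197865) (flp_f L167208) L167214 (flp_a L187015)
theorem L197873 : sm gf N21227 = N25453 := rfl
theorem L197875 : sm ga N25453 = N25452 := ded_11_1 (flp_f L197871) L187015 L197873
theorem L197877 : sm gc N25453 = N21229 := ded_20_1 (flp_f L167226) (flp_c L167216) L197873
theorem L197879 : sm gd N25453 = N24001 := ded_23_1 (flp_f L187251) (flp_d L167218) L197873
theorem L197881 : sm gg N25453 = N24030 := ded_29_3 L187483 (flp_f L167208) L167214 L197873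
theorem L197883 : sm gb N21230 = N25454 := rfl
theorem L197885 : sm gd N25454 = N21691 := ded_14_2 (flp_b L170116) (flp_d L167238) L197883
theorem L197887 : sm gb N21232 = N25455 := rfl
theorem L197889 : sm gd N25455 = N21408 := ded_14_2 (flp_b L168318) (flp_d L167254) L197887
theorem L197891 : sm ge N25455 = N24697 := ded_15_2 (flp_b L192241) (flp_e L167256) L197887
theorem L197893 : sm gf N25455 = N21410 := ded_16_2 (flp_b L168332) (flp_f L116683) (flp_b L116673) (flp_f L167258) L197887
theorem L197895 : sm gc N21232 = N25456 := rfl
theorem L197897 : sm ga N25456 = N21233 := ded_8_1 (flp_c L167262) L167252 L197895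
theorem L197899 : sm ge N25456 = N24627 := ded_19_2 L191762 (flp_e L167256) L197895
theorem L197901 : sm gf N25456 = N21407 := ded_20_2 (flp_c L168312) (flp_f L167258) L197895
theorem L197903 : sm gg N25456 = N24692 := ded_21_2 L192213 L167260 L197895
theorem L197905 : sm gd N21233 = N25457 := rfl
theorem L197907 : sm gb N25457 = N21237 := ded_14_1 (flp_d L167284) (flp_b L167264) L197905
theorem L197909 : sm gf N25457 = N23271 := ded_23_2 L191131 (flp_f L191133) L197905
theorem L197911 : sm gc N25457 = N23273 := ded_28_6 L181709 (flp_a L181653) L181655 (flp_d L181017) L181015 L167246 L167262 L197905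
theorem L197913 : sm gc N21235 = N25458 := rfl
theorem L197915 : sm gf N21235 = N25459 := rfl
theorem L197917 : sm ga N25459 = N21367 := ded_11_1 (flp_f L190657) L190661 L197915
theorem L197919 : sm gd N25459 = N21303 := ded_23_1 (flp_f L167696) (flp_d L167276) L197915
theorem L197921 : sm ge N25459 = N25311 := ded_25_1 (flp_f L197001) L191151 L197915
theorem L197923 : sm gg N25459 = N21364 := ded_29_3 (flp_a L168080) L168090 (flp_g L168098) L197915
theorem L197925 : sm gb N25459 = N21240 := ded_16_1 (flp_f L167296) (flp_b L115948) (flp_f L115938) L167274 L197915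
theorem L197927 : sm gb N21236 = N25460 := rfl
theorem L197929 : sm gd N21236 = N25461 := rfl
theorem L197931 : sm ga N25461 = N21237 := ded_9_1 (flp_d L167284) (flp_a L167280) L197929
theorem L197933 : sm gf N25461 = N21242 := ded_23_2 (flp_d L167306) (flp_f L167282) L197929
theorem L197935 : sm gc N21237 = N25462 := rfl
theorem L197937 : sm gf N25462 = N21244 := ded_20_2 (flp_c L167318) (flp_f L167286) L197935
theorem L197939 : sm ge N21237 = N25463 := rfl
theorem L197941 : sm gf N25463 = N21245 := ded_25_2 (flp_e L167320) (flp_f L167286) L197939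
theorem L197943 : sm gg N21237 = N25464 := rfl
theorem L197945 : sm gd N25464 = N21238 := ded_24_1 (flp_g L167288) L167284 L197943
theorem L197947 : sm gb N21238 = N25465 := rfl
theorem L197949 : sm gb N21239 = N25466 := rfl
theorem L197951 : sm gd N25466 = N24081 := ded_14_2 (flp_b L187853) L167294 L197949
theorem L197953 : sm gc N25466 = N21241 := ded_13_2 (flp_b L167304) (flp_c L115952) L115948 L167292 L197949
theorem L197955 : sm gf N21239 = N25467 := rfl
theorem L197957 : sm ga N25467 = N24659 := ded_11_1 L191995 L187461 L197955
theorem L197959 : sm gc N25467 = N21240 := ded_20_1 (flp_f L167296) L167292 L197955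
theorem L197961 : sm gd N25467 = N24083 := ded_23_1 (flp_f L187861) L167294 L197955
theorem L197963 : sm gg N25467 = N24662 := ded_29_3 L192015 L192025 L192033 L197955
theorem L197965 : sm ga N21241 = N25468 := rfl
theorem L197967 : sm gd N21241 = N25469 := rfl
theorem L197969 : sm gb N25469 = N21242 := ded_14_1 (flp_d L167306) L167304 L197967
theorem L197971 : sm gf N21241 = N25470 := rfl
theorem L197973 : sm gg N21241 = N25471 := rfl
theorem L197975 : sm ge N21242 = N25472 := rfl
theorem L197977 : sm ga N25472 = N21245 := ded_10_1 (flp_e L167320) (flp_a L167308) L197975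
theorem L197979 : sm gg N21242 = N25473 := rfl
theorem L197981 : sm ga N25473 = N21246 := ded_12_1 (flp_g L167322) (flp_a L167308) L197979
theorem L197983 : sm gd N25473 = N21243 := ded_24_1 (flp_g L167310) L167306 L197979
theorem L197985 : sm gf N25473 = N25464 := ded_29_2 (flp_g L197943) (flp_a L197931) L197933 L197979
theorem L197987 : sm gb N21243 = N25474 := rfl
theorem L197989 : sm gb N21244 = N25475 := rfl
theorem L197991 : sm ge N21244 = N25476 := rfl
theorem L197993 : sm gc N25476 = N21245 := ded_19_1 (flp_e L167320) L167318 L197991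
theorem L197995 : sm gg N21244 = N25477 := rfl
theorem L197997 : sm gc N25477 = N21246 := ded_21_1 (flp_g L167322) L167318 L197995
theorem L197999 : sm gg N21245 = N25478 := rfl
theorem L198001 : sm ge N25478 = N21246 := ded_26_1 (flp_g L167322) L167320 L197999
theorem L198003 : sm gb N21246 = N25479 := rfl
theorem L198005 : sm gd N25479 = N21247 := ded_14_2 (flp_b L167326) (flp_d L167324) L198003
theorem L198007 : sm gf N21246 = N25480 := rfl
theorem L198009 : sm ga N25480 = N25464 := ded_11_1 (flp_f L197985) L197981 L198007
theorem L198011 : sm gd N25480 = N21248 := ded_23_1 (flp_f L167330) (flp_d L167324) L198007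
theorem L198013 : sm gg N25480 = N25461 := ded_29_3 L197931 L167286 L167322 L198007
theorem L198015 : sm ga N21247 = N25481 := rfl
theorem L198017 : sm gc N25481 = N25364 := ded_8_2 (flp_a L197303) (flp_c L167328) L198015
theorem L198019 : sm gf N25481 = N25375 := ded_29_0 (flp_g L197355) (flp_f L197257) L197259 L198015
theorem L198021 : sm gf N21247 = N25482 := rfl
theorem L198023 : sm ga N25482 = N25375 := ded_11_1 (flp_f L198019) (flp_a L198015) L198021
theorem L198025 : sm gc N25482 = N25365 := ded_20_1 (flp_f L197305) (flp_c L167328) L198021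
theorem L198027 : sm gg N25482 = N25374 := ded_29_3 (flp_a L197353) (flp_f L197257) L197259 L198021
theorem L198029 : sm gb N21248 = N25483 := rfl
theorem L198031 : sm gc N21249 = N25484 := rfl
theorem L198033 : sm ga N25484 = N24701 := ded_8_1 L192269 L167344 L198031
theorem L198035 : sm gf N25484 = N23111 := ded_20_2 (flp_c L180613) (flp_f L167342) L198031
theorem L198037 : sm gd N23112 = N25484 := ded_28_1 (flp_c L198031) L167340 L167830 (flp_d L180779) L180777 (flp_d L180605) L180603 (flp_c L180619)
theorem L198039 : sm gb N21254 = N25485 := rfl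
theorem L198041 : sm ge N25485 = N21962 := ded_15_2 (flp_b L171886) (flp_e L167391) L198039
theorem L198043 : sm gc N25485 = N23023 := ded_13_2 (flp_b L179915) (flp_c L156563) L156571 (flp_c L167389) L198039
theorem L198045 : sm gf N25485 = N21544 := ded_16_2 L169177 L170791 L170801 L167393 L198039
theorem L198047 : sm gg N25485 = N21495 := ded_17_2 (flp_b L168873) (flp_g L117019) (flp_b L116008) L167387 L198039
theorem L198049 : sm gb N21256 = N25486 := rfl
theorem L198051 : sm gd N25486 = N21257 := ded_14_2 (flp_b L167415) (flp_d L167409) L198049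
theorem L198053 : sm ge N25486 = N23157 := ded_15_2 (flp_b L180927) (flp_e L167411) L198049
theorem L198055 : sm gg N25486 = N22784 := ded_17_2 (flp_b L177961) (flp_g L128887) (flp_b L116043) L167403 L198049
theorem L198057 : sm gc N21257 = N25487 := rfl
theorem L198059 : sm ge N25487 = N22817 := ded_19_2 (flp_c L178243) (flp_e L167417) L198057
theorem L198061 : sm gg N25487 = N22791 := ded_21_2 (flp_c L178017) (flp_g L167419) L198057
theorem L198063 : sm gb N25487 = N21259 := ded_13_1 (flp_c L167428) (flp_b L116098) (flp_c L116086) L167415 L198057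
theorem L198065 : sm gc N21258 = N25488 := rfl
theorem L198067 : sm ge N25488 = N21259 := ded_19_2 (flp_c L167428) (flp_e L167425) L198065
theorem L198069 : sm gg N25488 = N25488 := ded_21_2 (flp_c L198065) L167427 L198065
theorem L198070 : sm gb N25488 = N22817 := ded_13_1 (flp_c L178243) (flp_b L129213) (flp_c L116092) L167421 L198065
theorem L198072 : sm gd N23680 = N25488 := ded_14_0 L198070 (flp_d L178247) L184518
theorem L198074 : sm gf N21258 = N25489 := rfl
theorem L198076 : sm gd N25489 = N21965 := ded_23_1 (flp_f L171915) (flp_d L167423) L198074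
theorem L198078 : sm ge N25489 = N21260 := ded_25_1 (flp_f L167431) (flp_e L167425) L198074
theorem L198080 : sm gd N21259 = N25490 := rfl
theorem L198082 : sm gg N25490 = N25490 := ded_24_2 (flp_d L198080) L167430 L198080
theorem L198083 : sm gf N21259 = N25491 := rfl
theorem L198085 : sm gc N25491 = N21260 := ded_20_1 (flp_f L167431) L167428 L198083
theorem L198087 : sm gc N21261 = N25492 := rfl
theorem L198089 : sm gg N25492 = N25492 := ded_21_2 (flp_c L198087) L167439 L198087
theorem L198090 : sm ge N21261 = N25493 := rfl
theorem L198092 : sm gb N25493 = N21268 := ded_15_1 (flp_e L167474) (flp_b L167437) L198090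
theorem L198094 : sm gg N25493 = N25493 := ded_26_2 (flp_e L198090) L167439 L198090
theorem L198095 : sm gd N25493 = N21969 := ded_22_1 (flp_e L171933) (flp_d L121173) (flp_e L116110) L167435 L198090
theorem L198097 : sm gf N21261 = N25494 := rfl
theorem L198099 : sm gd N25494 = N21262 := ded_23_1 (flp_f L167440) L167435 L198097
theorem L198101 : sm gb N21262 = N25495 := rfl
theorem L198103 : sm ge N25495 = N21971 := ded_15_2 (flp_b L171942) (flp_e L167444) L198101
theorem L198105 : sm gc N25495 = N22525 := ded_13_2 L175899 L168953 L117091 (flp_c L167442) L198101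
theorem L198107 : sm gf N25495 = N21270 := ded_16_2 (flp_b L167484) (flp_f L116135) (flp_b L116113) L167440 L198101
theorem L198109 : sm gg N22522 = N25495 := ded_26_0 L198103 (flp_g L171948) L175875
theorem L198111 : sm gd N21263 = N25496 := rfl
theorem L198113 : sm gd N21265 = N25497 := rfl
theorem L198115 : sm gb N25497 = N21266 := ded_14_1 (flp_d L167464) L167460 L198113
theorem L198117 : sm gf N21265 = N25498 := rfl
theorem L198119 : sm ge N25498 = N21973 := ded_25_1 (flp_f L171956) (flp_e L167462) L198117
theorem L198121 : sm gg N25498 = N21270 := ded_29_1 (flp_f L198107) (flp_g L198109) L175877 L198117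
theorem L198123 : sm gg N21265 = N25499 := rfl
theorem L198125 : sm ga N25499 = N25495 := ded_12_1 (flp_g L198109) L175877 L198123
theorem L198127 : sm gc N25499 = N24065 := ded_21_1 (flp_g L187723) L175869 L198123
theorem L198129 : sm ge N25499 = N21974 := ded_26_1 (flp_g L171960) (flp_e L167462) L198123
theorem L198131 : sm gb N25499 = N21274 := ded_17_1 (flp_g L167500) (flp_b L116159) (flp_g L116129) L167460 L198123
theorem L198133 : sm gc N21266 = N25500 := rfl
theorem L198135 : sm ga N25500 = N21267 := ded_8_1 (flp_c L167470) (flp_a L167466) L198133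
theorem L198137 : sm gg N25500 = N21275 := ded_21_2 (flp_c L167508) (flp_g L167468) L198133
theorem L198139 : sm gd N25428 = N25500 := ded_28_1 (flp_c L198133) (flp_d L167464) (flp_c L116123) (flp_d L115854) L167140 L197749 L197751 L197755
theorem L198141 : sm ge N21266 = N25501 := rfl
theorem L198143 : sm ga N25501 = N21268 := ded_10_1 (flp_e L167474) (flp_a L167466) L198141
theorem L198145 : sm gg N25501 = N21276 := ded_26_2 (flp_e L167514) (flp_g L167468) L198141
theorem L198147 : sm gd N25501 = N21976 := ded_22_1 (flp_e L171978) (flp_d L121196) (flp_e L116127) L167464 L198141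
theorem L198149 : sm gb N21267 = N25502 := rfl
theorem L198151 : sm gd N21267 = N25503 := rfl
theorem L198153 : sm ga N25503 = N25428 := ded_9_1 L198139 L198135 L198151
theorem L198155 : sm gg N25503 = N21280 := ded_24_2 (flp_d L167535) (flp_g L167472) L198151
theorem L198157 : sm gc N25427 = N25503 := ded_28_0 (flp_d L198151) (flp_c L167470) (flp_d L116131) (flp_c L95668) (flp_d L95570) L115858 L167146 (flp_a L197751)
theorem L198159 : sm ge N21267 = N25504 := rfl
theorem L198161 : sm gc N25504 = N21268 := ded_19_1 (flp_e L167474) L167470 L198159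
theorem L198163 : sm gg N25504 = N21281 := ded_26_2 (flp_e L167541) (flp_g L167472) L198159
theorem L198165 : sm gf N21267 = N25505 := rfl
theorem L198167 : sm gc N25505 = N21269 := ded_20_1 (flp_f L167480) L167470 L198165
theorem L198169 : sm gf N21268 = N25506 := rfl
theorem L198171 : sm gd N25506 = N21978 := ded_23_1 (flp_f L171990) (flp_d L167478) L198169
theorem L198173 : sm ge N25506 = N21269 := ded_25_1 (flp_f L167480) L167474 L198169
theorem L198175 : sm gb N21269 = N25507 := rfl
theorem L198177 : sm gd N25507 = N21270 := ded_14_2 (flp_b L167484) (flp_d L167482) L198175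
theorem L198179 : sm ga N21270 = N25508 := rfl
theorem L198181 : sm ge N25508 = N21980 := ded_10_2 (flp_a L171998) (flp_e L167486) L198179
theorem L198183 : sm gf N25508 = N25499 := ded_11_2 L198125 L198107 L198179
theorem L198185 : sm gb N21271 = N25509 := rfl
theorem L198187 : sm ge N25509 = N21981 := ded_15_2 (flp_b L172002) (flp_e L167490) L198185
theorem L198189 : sm ga N25509 = N25509 := ded_7_1 (flp_b L198185) (flp_a L167488) (flp_b L116159) L95684 L84510 (flp_a L95684) L116159 L167488 L198185
theorem L198190 : sm gd N25509 = N23480 := ded_32_21 (flp_c L183046) (flp_d L145859) L104655 (flp_b L104568) L89429 L141664 (flp_c L26173) L12555 L13608 (flp_b L59761) L141904 L9593 (flp_d L19285) L141934 (flp_b L11686) L83120 (flp_c L11533) L5719 (flp_c L3609) (flp_b L3607) L141948 L3593 L1845 (flp_c L1902) L3712 L134931 L3715 L134937 (flp_c L3715) (flp_b L3712) L1904 L134924 L1902 (flp_d L1845) (flp_c L3593) L6991 L142141 L3609 (flp_d L5719) L11533 L142111 L141930 (flp_c L141934) L19285 (flp_c L9593) L9595 L141914 (flp_c L13608) (flp_d L12555) L26173 L85073 L141667 (flp_c L89536)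 L137834 L85094 (flp_b L85073) (flp_e L85049) L96799 L118546 (flp_d L118554) (flp_c L118266) (flp_b L118250) (flp_d L118248) L96645 L96655 L118296 L118298 L160708 L193169 L193173 (flp_c L160892) L160888 L160890 L156709 (flp_d L187509) L187507 L198185
theorem L198192 : sm gd N21271 = N25510 := rfl
theorem L198194 : sm ga N25510 = N21272 := ded_9_1 (flp_d L167492) L167488 L198192
theorem L198196 : sm gb N25510 = N23480 := ded_14_1 (flp_d L198190) (flp_b L198185) L198192
theorem L198198 : sm gc N25510 = N23481 := ded_28_6 L183057 (flp_a L193457) (flp_c L193455) L160890 L156709 (flp_d L187509) L187507 L198192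
theorem L198200 : sm gg N21271 = N25511 := rfl
theorem L198202 : sm ga N25511 = N21274 := ded_12_1 (flp_g L167500) L167488 L198200
theorem L198204 : sm gc N25511 = N23699 := ded_21_1 (flp_g L187513) L187507 L198200
theorem L198206 : sm ge N25511 = N21983 := ded_26_1 (flp_g L172013) (flp_e L167490) L198200
theorem L198208 : sm gf N24066 = N25511 := ded_29_0 (flp_g L198200) L187745 (flp_g L187737) (flp_a L187727)
theorem L198210 : sm gb N24119 = N25511 := ded_13_5 L198204 (flp_b L184662) (flp_c L155914) (flp_b L156701) (flp_c L188087)
theorem L198212 : sm gc N21272 = N25512 := rfl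
theorem L198214 : sm ga N25512 = N23481 := ded_8_1 (flp_c L198198) L198194 L198212
theorem L198216 : sm gd N25512 = N24890 := ded_28_7 L193457 (flp_c L188171) (flp_d L188101) (flp_c L156713) (flp_d L156256) L156260 L167492 L198212
theorem L198218 : sm ge N21272 = N25513 := rfl
theorem L198220 : sm gb N25513 = N21276 := ded_15_1 (flp_e L167514) (flp_b L167494) L198218
theorem L198222 : sm gd N25513 = N21984 := ded_22_1 (flp_e L172023) (flp_d L121232) (flp_e L116161) L167492 L198218
theorem L198224 : sm gf N21272 = N25514 := rfl
theorem L198226 : sm gd N25514 = N21273 := ded_23_1 (flp_f L167496) L167492 L198224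
theorem L198228 : sm gg N21272 = N25515 := rfl
theorem L198230 : sm gd N25515 = N21274 := ded_24_1 (flp_g L167500) L167492 L198228
theorem L198232 : sm gf N24067 = N25515 := ded_23_0 L198230 (flp_f L167506) L187733
theorem L198234 : sm gb N21273 = N25516 := rfl
theorem L198236 : sm ge N25516 = N21986 := ded_15_2 (flp_b L172037) (flp_e L167498) L198234
theorem L198238 : sm gf N25516 = N21278 := ded_16_2 (flp_b L167528) (flp_f L116167) L116159 L167496 L198234
theorem L198240 : sm gb N21275 = N25517 := rfl
theorem L198242 : sm gd N25517 = N25441 := ded_14_2 (flp_b L197809) L167512 L198240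
theorem L198244 : sm ge N21275 = N25518 := rfl
theorem L198246 : sm ga N25518 = N21281 := ded_10_1 (flp_e L167541) (flp_a L167510) L198244
theorem L198248 : sm gc N25518 = N21276 := ded_19_1 (flp_e L167514) L167508 L198244
theorem L198250 : sm gd N22949 = N25518 := ded_28_7 L198246 L167543 L116182 L163241 L102633 L102741 L130380 L179327
theorem L198252 : sm gf N21275 = N25519 := rfl
theorem L198254 : sm ga N25519 = N21282 := ded_11_1 (flp_f L167545) (flp_a L167510) L198252
theorem L198256 : sm gc N25519 = N21277 := ded_20_1 (flp_f L167520) L167508 L198252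
theorem L198258 : sm gd N25519 = N25443 := ded_23_1 (flp_f L197815) L167512 L198252
theorem L198260 : sm gg N25505 = N25519 := ded_29_1 (flp_f L198252) (flp_g L198137) L198135 L198165
theorem L198262 : sm gf N21276 = N25520 := rfl
theorem L198264 : sm ga N25520 = N21283 := ded_11_1 (flp_f L167549) (flp_a L167516) L198262
theorem L198266 : sm gd N25520 = N21988 := ded_23_1 (flp_f L172053) (flp_d L167518) L198262
theorem L198268 : sm ge N25520 = N21277 := ded_25_1 (flp_f L167520) L167514 L198262
theorem L198270 : sm gg N25506 = N25520 := ded_29_1 (flp_f L198262) (flp_g L198145) L198143 L198169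
theorem L198272 : sm gb N21277 = N25521 := rfl
theorem L198274 : sm gd N25521 = N21278 := ded_14_2 (flp_b L167528) (flp_d L167524) L198272
theorem L198276 : sm ga N21278 = N25522 := rfl
theorem L198278 : sm gc N25522 = N22467 := ded_8_2 (flp_a L191950) L191948 L198276
theorem L198280 : sm ge N25522 = N21990 := ded_10_2 (flp_a L172065) (flp_e L167530) L198276
theorem L198282 : sm gb N25522 = N22463 := ded_7_2 L175446 (flp_b L167706) L116357 (flp_b L116345) L151100 (flp_b L116188) (flp_a L116169) L167528 L198276
theorem L198284 : sm gg N21278 = N25523 := rfl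
theorem L198286 : sm ge N25523 = N21991 := ded_26_1 (flp_g L172071) (flp_e L167530) L198284
theorem L198288 : sm gb N25523 = N25498 := ded_17_1 L198121 (flp_b L167484) L116175 L167528 L198284
theorem L198290 : sm gf N25523 = N21287 := ded_31_1 (flp_b L167574) (flp_g L116195) (flp_f L95699) L84510 (flp_g L95672) L116135 L167484 (flp_g L198121) (flp_f L198117) (flp_b L167460) L116129 L116167 L167528 L198284
theorem L198295 : sm gd N21279 = N25525 := rfl
theorem L198297 : sm gb N25525 = N21280 := ded_14_1 (flp_d L167535) L167532 L198295
theorem L198299 : sm ge N21279 = N25526 := rfl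
theorem L198301 : sm gb N25526 = N21281 := ded_15_1 (flp_e L167541) L167532 L198299
theorem L198310 : sm ge N21280 = N25529 := rfl
theorem L198312 : sm ga N25529 = N25442 := ded_10_1 (flp_e L197811) (flp_a L167537) L198310
theorem L198314 : sm gc N25529 = N25438 := ded_19_1 (flp_e L197795) L167539 L198310
theorem L198316 : sm gf N21280 = N25530 := rfl
theorem L198318 : sm ga N25530 = N25443 := ded_11_1 (flp_f L197815) (flp_a L167537) L198316
theorem L198320 : sm gc N25530 = N25439 := ded_20_1 (flp_f L197799) L167539 L198316
theorem L198322 : sm gd N25530 = N21282 := ded_23_1 (flp_f L167545) L167535 L198316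
theorem L198324 : sm gd N21281 = N25531 := rfl
theorem L198326 : sm ga N25531 = N22949 := ded_9_1 L198250 L198246 L198324
theorem L198328 : sm gc N22947 = N25531 := ded_28_0 (flp_d L198324) L167543 L116182 L163241 L102633 L102741 L130380 (flp_a L179311)
theorem L198330 : sm gf N21281 = N25532 := rfl
theorem L198332 : sm gc N25532 = N21283 := ded_20_1 (flp_f L167549) (flp_c L167543) L198330
theorem L198334 : sm ge N25532 = N21282 := ded_25_1 (flp_f L167545) L167541 L198330
theorem L198336 : sm gb N21282 = N25533 := rfl
theorem L198338 : sm gg N21282 = N25534 := rfl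
theorem L198340 : sm ga N25534 = N25505 := ded_12_1 L198260 L198254 L198338
theorem L198342 : sm gc N25534 = N21285 := ded_21_1 (flp_g L167560) (flp_c L167547) L198338
theorem L198344 : sm gf N25500 = N25534 := ded_29_0 (flp_g L198338) (flp_f L167545) (flp_g L167472) (flp_a L198135)
theorem L198346 : sm gb N21283 = N25535 := rfl
theorem L198348 : sm gd N25535 = N21993 := ded_14_2 (flp_b L172085) (flp_d L167551) L198346
theorem L198350 : sm ge N25535 = N21284 := ded_15_2 (flp_b L167555) (flp_e L167553) L198346
theorem L198352 : sm gf N25535 = N25535 := ded_16_2 (flp_b L198346) (flp_f L167549) L116181 L167549 L198346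
theorem L198353 : sm gg N21283 = N25536 := rfl
theorem L198355 : sm ga N25536 = N25506 := ded_12_1 L198270 L198264 L198353
theorem L198357 : sm gd N25536 = N21994 := ded_24_1 (flp_g L172090) (flp_d L167551) L198353
theorem L198359 : sm ge N25536 = N21285 := ded_26_1 (flp_g L167560) (flp_e L167553) L198353
theorem L198361 : sm gf N25501 = N25536 := ded_29_0 (flp_g L198353) (flp_f L167549) (flp_g L167476) (flp_a L198143)
theorem L198363 : sm gc N21284 = N25537 := rfl
theorem L198365 : sm gf N25537 = N25537 := ded_20_2 (flp_c L198363) L167559 L198363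
theorem L198366 : sm gg N21284 = N25538 := rfl
theorem L198368 : sm gd N25538 = N21286 := ded_24_1 (flp_g L167568) (flp_d L167557) L198366
theorem L198370 : sm gb N21285 = N25539 := rfl
theorem L198372 : sm gd N25539 = N21287 := ded_14_2 (flp_b L167574) (flp_d L167564) L198370
theorem L198374 : sm gb N21286 = N25540 := rfl
theorem L198376 : sm ge N25540 = N21998 := ded_15_2 (flp_b L172109) (flp_e L167572) L198374
theorem L198378 : sm gg N25540 = N21287 := ded_17_2 (flp_b L167574) (flp_g L116195) L116188 L167568 L198374
theorem L198380 : sm ga N25516 = N25540 := ded_10_3 L198376 L172115 (flp_e L198236)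
theorem L198382 : sm gf N25522 = N25540 := ded_25_0 L198376 (flp_f L172113) (flp_e L198280)
theorem L198384 : sm ga N21287 = N25541 := rfl
theorem L198386 : sm ge N25541 = N21999 := ded_10_2 (flp_a L172117) (flp_e L167576) L198384
theorem L198388 : sm gg N25541 = N25516 := ded_12_2 L198380 L198378 L198384
theorem L198390 : sm gc N21287 = N25542 := rfl
theorem L198392 : sm ge N25542 = N22000 := ded_19_2 (flp_c L172121) (flp_e L167576) L198390
theorem L198394 : sm gb N25542 = N21288 := ded_13_1 (flp_c L167578) (flp_b L116205) (flp_c L116199) L167574 L198390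
theorem L198396 : sm gb N21294 = N25543 := rfl
theorem L198398 : sm ge N25543 = N22007 := ded_15_2 (flp_b L172180) (flp_e L167639) L198396
theorem L198400 : sm gc N25543 = N22998 := ded_13_2 (flp_b L179697) (flp_c L156302) (flp_b L156310) (flp_c L167637) L198396
theorem L198402 : sm gf N25543 = N21657 := ded_16_2 (flp_b L169890) (flp_f L117665) (flp_b L116285) L167633 L198396
theorem L198404 : sm gg N25543 = N21702 := ded_17_2 L170178 L171130 (flp_b L171140) (flp_g L167641) L198396
theorem L198406 : sm gb N21295 = N25544 := rfl
theorem L198408 : sm gd N25544 = N21296 := ded_14_2 (flp_b L167655) (flp_d L167649) L198406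
theorem L198410 : sm ge N25544 = N23173 := ded_15_2 (flp_b L181023) (flp_e L167651) L198406
theorem L198412 : sm gf N25544 = N22787 := ded_16_2 (flp_b L177987) (flp_f L128927) (flp_b L148981) L167643 L198406
theorem L198414 : sm gc N21296 = N25545 := rfl
theorem L198416 : sm ge N25545 = N22824 := ded_19_2 (flp_c L178333) (flp_e L167657) L198414
theorem L198418 : sm gf N25545 = N22797 := ded_20_2 (flp_c L178057) (flp_f L167659) L198414
theorem L198420 : sm gb N25545 = N21298 := ded_13_1 (flp_c L167668) (flp_b L116330) (flp_c L116322) L167655 L198414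
theorem L198422 : sm gc N21297 = N25546 := rfl
theorem L198424 : sm ge N25546 = N21298 := ded_19_2 (flp_c L167668) (flp_e L167665) L198422
theorem L198426 : sm gf N25546 = N25546 := ded_20_2 (flp_c L198422) L167667 L198422
theorem L198427 : sm gb N25546 = N22824 := ded_13_1 (flp_c L178333) (flp_b L129288) (flp_c L148952) L167661 L198422
theorem L198429 : sm gd N23733 = N25546 := ded_14_0 L198427 (flp_d L178337) L184920
theorem L198431 : sm gg N21297 = N25547 := rfl
theorem L198433 : sm gd N25547 = N22009 := ded_24_1 (flp_g L172206) (flp_d L167663) L198431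
theorem L198435 : sm ge N25547 = N21299 := ded_26_1 (flp_g L167671) (flp_e L167665) L198431
theorem L198437 : sm gd N21298 = N25548 := rfl
theorem L198439 : sm gf N25548 = N25548 := ded_23_2 (flp_d L198437) L167670 L198437
theorem L198440 : sm gg N21298 = N25549 := rfl
theorem L198442 : sm gc N25549 = N21299 := ded_21_1 (flp_g L167671) L167668 L198440
theorem L198444 : sm gc N21300 = N25550 := rfl
theorem L198446 : sm ga N25550 = N25537 := ded_8_1 (flp_c L198363) (flp_a L167677) L198444
theorem L198448 : sm gf N25550 = N25550 := ded_20_2 (flp_c L198444) L167681 L198444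
theorem L198449 : sm ge N21300 = N25551 := rfl
theorem L198451 : sm ga N25551 = N25535 := ded_10_1 L198350 (flp_a L167677) L198449
theorem L198453 : sm gb N25551 = N21307 := ded_15_1 (flp_e L167720) (flp_b L167679) L198449
theorem L198455 : sm gf N25551 = N25551 := ded_25_2 (flp_e L198449) L167681 L198449
theorem L198456 : sm gd N25551 = N22013 := ded_22_1 (flp_e L172226) (flp_d L121502) (flp_e L116342) L167675 L198449
theorem L198458 : sm gg N21300 = N25552 := rfl
theorem L198460 : sm ga N25552 = N25538 := ded_12_1 (flp_g L198366) (flp_a L167677) L198458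
theorem L198462 : sm gd N25552 = N21301 := ded_24_1 (flp_g L167682) L167675 L198458
theorem L198464 : sm gf N25538 = N25552 := ded_29_0 (flp_g L198458) L167681 L198458 L198460
theorem L198466 : sm gb N21301 = N25553 := rfl
theorem L198468 : sm ge N25553 = N22015 := ded_15_2 (flp_b L172241) (flp_e L167688) L198466
theorem L198470 : sm gc N25553 = N22465 := ded_13_2 L175503 L169958 L117721 (flp_c L167686) L198466
theorem L198472 : sm gf N25553 = N22463 := ded_16_2 (flp_b L198282) L198382 (flp_b L198374) L167690 L198466
theorem L198474 : sm gg N25553 = N21309 := ded_17_2 (flp_b L167730) (flp_g L116367) (flp_b L116345) L167682 L198466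
theorem L198476 : sm gd N21302 = N25554 := rfl
theorem L198478 : sm gd N21304 = N25555 := rfl
theorem L198480 : sm gb N25555 = N21305 := ded_14_1 (flp_d L167710) L167706 L198478
theorem L198482 : sm gf N21304 = N25556 := rfl
theorem L198484 : sm ga N25556 = N25553 := ded_11_1 L198472 L175446 L198482
theorem L198486 : sm gc N25556 = N24116 := ded_20_1 (flp_f L188069) L175438 L198482
theorem L198488 : sm ge N25556 = N22017 := ded_25_1 (flp_f L172255) (flp_e L167708) L198482
theorem L198490 : sm gb N25556 = N21312 := ded_16_1 (flp_f L167742) (flp_b L116393) (flp_f L116361) L167706 L198482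
theorem L198492 : sm gg N21304 = N25557 := rfl
theorem L198494 : sm ge N25557 = N22018 := ded_26_1 (flp_g L172263) (flp_e L167708) L198492
theorem L198496 : sm gf N25557 = N21309 := ded_29_2 (flp_g L198474) (flp_a L198484) (flp_f L198482) L198492
theorem L198498 : sm gc N21305 = N25558 := rfl
theorem L198500 : sm ga N25558 = N21306 := ded_8_1 (flp_c L167716) (flp_a L167712) L198498
theorem L198502 : sm gf N25558 = N21314 := ded_20_2 (flp_c L167754) (flp_f L167714) L198498
theorem L198504 : sm gd N25462 = N25558 := ded_28_1 (flp_c L198498) (flp_d L167710) (flp_c L116355) (flp_d L115936) L167278 L197929 L197931 L197935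
theorem L198506 : sm ge N21305 = N25559 := rfl
theorem L198508 : sm ga N25559 = N21307 := ded_10_1 (flp_e L167720) (flp_a L167712) L198506
theorem L198510 : sm gf N25559 = N21315 := ded_25_2 (flp_e L167760) (flp_f L167714) L198506
theorem L198512 : sm gd N25559 = N22020 := ded_22_1 (flp_e L172277) (flp_d L121525) (flp_e L116359) L167710 L198506
theorem L198514 : sm gb N21306 = N25560 := rfl
theorem L198516 : sm gd N21306 = N25561 := rfl
theorem L198518 : sm ga N25561 = N25462 := ded_9_1 L198504 L198500 L198516
theorem L198520 : sm gf N25561 = N21319 := ded_23_2 (flp_d L167781) (flp_f L167718) L198516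
theorem L198522 : sm gc N25461 = N25561 := ded_28_0 (flp_d L198516) (flp_c L167716) (flp_d L116363) (flp_c L95767) (flp_d L95606) L115940 L167284 (flp_a L197931)
theorem L198524 : sm ge N21306 = N25562 := rfl
theorem L198526 : sm gc N25562 = N21307 := ded_19_1 (flp_e L167720) L167716 L198524
theorem L198528 : sm gf N25562 = N21320 := ded_25_2 (flp_e L167787) (flp_f L167718) L198524
theorem L198530 : sm gg N21306 = N25563 := rfl
theorem L198532 : sm gc N25563 = N21308 := ded_21_1 (flp_g L167726) L167716 L198530
theorem L198534 : sm gg N21307 = N25564 := rfl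
theorem L198536 : sm gd N25564 = N22022 := ded_24_1 (flp_g L172289) (flp_d L167724) L198534
theorem L198538 : sm ge N25564 = N21308 := ded_26_1 (flp_g L167726) L167720 L198534
theorem L198540 : sm gb N21308 = N25565 := rfl
theorem L198542 : sm gd N25565 = N21309 := ded_14_2 (flp_b L167730) (flp_d L167728) L198540
theorem L198544 : sm ga N21309 = N25566 := rfl
theorem L198546 : sm ge N25566 = N22024 := ded_10_2 (flp_a L172297) (flp_e L167732) L198544
theorem L198548 : sm gg N25566 = N25556 := ded_12_2 L198484 L198474 L198544
theorem L198550 : sm gb N21310 = N25567 := rfl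
theorem L198552 : sm ge N25567 = N22025 := ded_15_2 (flp_b L172301) (flp_e L167736) L198550
theorem L198554 : sm gc N25567 = N25509 := ded_13_2 (flp_b L198185) (flp_c L187507) L187517 L187435 L198550
theorem L198556 : sm gg N25567 = N25509 := ded_17_2 (flp_b L198185) L198200 (flp_b L198210) L188091 L198550
theorem L198558 : sm ga N25567 = N25567 := ded_7_1 (flp_b L198550) (flp_a L167734) (flp_b L116393) L95783 L84554 (flp_a L95783) L116393 L167734 L198550
theorem L198559 : sm gf N25567 = N25509 := ded_30_4 (flp_c L198554) (flp_b L198550) (flp_a L167734) L167742 L167744 (flp_b L156679) (flp_a L108255) (flp_f L108253) (flp_c L108248) L108252 (flp_a L156745) L156751 L156675 L156679 L184294 (flp_f L187441) L187435 L198550 L198558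
theorem L198561 : sm gd N25567 = N23456 := ded_32_21 (flp_c L182907) (flp_d L145743) (flp_c L104655) (flp_b L104651) L89470 (flp_d L137805) (flp_c L26542) L12747 L13872 (flp_b L59764) (flp_d L141895) L9528 (flp_d L19483) (flp_c L142178) (flp_b L11543) (flp_d L11531) (flp_c L83178) L5783 (flp_c L3580) (flp_b L3578) L142153 L3564 L1825 (flp_c L1867) L3632 L134937 (flp_c L3715) L134931 L3715 (flp_b L3632) L1869 L140757 L1867 (flp_d L1825) (flp_c L3564) L6938 L131708 L3580 (flp_d L5783) L83178 L142167 (flp_d L142180) L142178 L19483 (flp_c L9528) L9530 L133331 (flp_c L13872) (flp_d L12747) L26542 L85092 (flp_d L137834) L89536 (flp_d L141667) (flp_c L85094) (flp_b L85092) (flp_e L85063) L96828 L118593 (flp_d L118601) (flp_c L118455) (flp_b L118439) (flp_d L118437) L96744 L96754 L118485 L118487 L160904 (flp_c L193159) (flp_d L193155) (flp_c L160696) L160692 L160694 L156458 (flp_d L187437) L187435 L198550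
theorem L198563 : sm gd N21310 = N25568 := rfl
theorem L198565 : sm ga N25568 = N21311 := ded_9_1 (flp_d L167738) L167734 L198563
theorem L198567 : sm gb N25568 = N23456 := ded_14_1 (flp_d L198561) (flp_b L198550) L198563
theorem L198569 : sm gc N25568 = N23457 := ded_28_6 L182914 (flp_a L193141) (flp_c L193139) L160694 L156458 (flp_d L187437) L187435 L198563
theorem L198571 : sm gf N21310 = N25569 := rfl
theorem L198573 : sm ga N25569 = N21312 := ded_11_1 (flp_f L167742) L167734 L198571
theorem L198575 : sm gc N25569 = N23647 := ded_20_1 (flp_f L187441) L187435 L198571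
theorem L198577 : sm ge N25569 = N22027 := ded_25_1 (flp_f L172318) (flp_e L167736) L198571
theorem L198579 : sm gg N25569 = N24117 := ded_29_3 L188073 L188083 L188091 L198571
theorem L198581 : sm gb N25569 = N24068 := ded_16_1 (flp_f L187745) L198185 (flp_f L198559) (flp_b L198550) L198571
theorem L198583 : sm gc N21311 = N25570 := rfl
theorem L198585 : sm ga N25570 = N23457 := ded_8_1 (flp_c L198569) L198565 L198583
theorem L198587 : sm gd N25570 = N24837 := ded_28_7 L193141 (flp_c L187825) (flp_d L187755) (flp_c L156462) (flp_d L156146) L156150 L167738 L198583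
theorem L198589 : sm ge N21311 = N25571 := rfl
theorem L198591 : sm gb N25571 = N21315 := ded_15_1 (flp_e L167760) (flp_b L167740) L198589
theorem L198593 : sm gd N25571 = N22028 := ded_22_1 (flp_e L172328) (flp_d L121567) (flp_e L116395) L167738 L198589
theorem L198595 : sm gf N21311 = N25572 := rfl
theorem L198597 : sm gd N25572 = N21312 := ded_23_1 (flp_f L167742) L167738 L198595
theorem L198599 : sm gg N24118 = N25572 := ded_24_0 L198597 (flp_g L167748) L188079
theorem L198601 : sm gg N21311 = N25573 := rfl
theorem L198603 : sm gd N25573 = N21313 := ded_24_1 (flp_g L167750) L167738 L198601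
theorem L198605 : sm gb N21313 = N25574 := rfl
theorem L198607 : sm ge N25574 = N22030 := ded_15_2 (flp_b L172342) (flp_e L167752) L198605
theorem L198609 : sm gg N25574 = N21317 := ded_17_2 (flp_b L167774) (flp_g L116401) L116393 L167750 L198605
theorem L198611 : sm gb N21314 = N25575 := rfl
theorem L198613 : sm gd N25575 = N25475 := ded_14_2 (flp_b L197989) L167758 L198611
theorem L198615 : sm ge N21314 = N25576 := rfl
theorem L198617 : sm ga N25576 = N21320 := ded_10_1 (flp_e L167787) (flp_a L167756) L198615
theorem L198619 : sm gc N25576 = N21315 := ded_19_1 (flp_e L167760) L167754 L198615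
theorem L198621 : sm gd N22920 = N25576 := ded_28_7 L198617 L167789 L116416 L163388 L102616 L102683 L130258 L179129
theorem L198623 : sm gg N21314 = N25577 := rfl
theorem L198625 : sm ga N25577 = N21321 := ded_12_1 (flp_g L167791) (flp_a L167756) L198623
theorem L198627 : sm gc N25577 = N21316 := ded_21_1 (flp_g L167766) L167754 L198623
theorem L198629 : sm gd N25577 = N25477 := ded_24_1 (flp_g L197995) L167758 L198623
theorem L198631 : sm gf N25577 = N25563 := ded_29_2 (flp_g L198530) (flp_a L198500) L198502 L198623
theorem L198633 : sm gg N21315 = N25578 := rfl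
theorem L198635 : sm ga N25578 = N21322 := ded_12_1 (flp_g L167795) (flp_a L167762) L198633
theorem L198637 : sm gd N25578 = N22032 := ded_24_1 (flp_g L172358) (flp_d L167764) L198633
theorem L198639 : sm ge N25578 = N21316 := ded_26_1 (flp_g L167766) L167760 L198633
theorem L198641 : sm gf N25578 = N25564 := ded_29_2 (flp_g L198534) (flp_a L198508) L198510 L198633
theorem L198643 : sm gb N21316 = N25579 := rfl
theorem L198645 : sm gd N25579 = N21317 := ded_14_2 (flp_b L167774) (flp_d L167770) L198643
theorem L198647 : sm ga N21317 = N25580 := rfl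
theorem L198649 : sm gc N25580 = N22526 := ded_8_2 (flp_a L191569) L191567 L198647
theorem L198651 : sm ge N25580 = N22034 := ded_10_2 (flp_a L172370) (flp_e L167776) L198647
theorem L198653 : sm gb N25580 = N22522 := ded_7_2 L175877 (flp_b L167460) L116125 (flp_b L116113) L120937 (flp_b L116422) (flp_a L116403) L167774 L198647
theorem L198655 : sm gf N21317 = N25581 := rfl
theorem L198657 : sm ge N25581 = N22035 := ded_25_1 (flp_f L172376) (flp_e L167776) L198655
theorem L198659 : sm gb N25581 = N25557 := ded_16_1 L198496 (flp_b L167730) (flp_f L116409) L167774 L198655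
theorem L198661 : sm gg N21326 = N25581 := ded_31_0 (flp_f L198655) (flp_b L167774) (flp_g L116401) (flp_f L116361) L167706 L198492 L198496 (flp_b L167730) (flp_g L116367) L95771 L84554 L95798 L116429 L167826
theorem L198666 : sm gd N21318 = N25583 := rfl
theorem L198668 : sm gb N25583 = N21319 := ded_14_1 (flp_d L167781) L167778 L198666
theorem L198670 : sm ge N21318 = N25584 := rfl
theorem L198672 : sm gb N25584 = N21320 := ded_15_1 (flp_e L167787) L167778 L198670
theorem L198681 : sm ge N21319 = N25587 := rfl
theorem L198683 : sm ga N25587 = N25476 := ded_10_1 (flp_e L197991) (flp_a L167783) L198681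
theorem L198685 : sm gc N25587 = N25472 := ded_19_1 (flp_e L197975) L167785 L198681
theorem L198687 : sm gg N21319 = N25588 := rfl
theorem L198689 : sm ga N25588 = N25477 := ded_12_1 (flp_g L197995) (flp_a L167783) L198687
theorem L198691 : sm gc N25588 = N25473 := ded_21_1 (flp_g L197979) L167785 L198687
theorem L198693 : sm gd N25588 = N21321 := ded_24_1 (flp_g L167791) L167781 L198687
theorem L198695 : sm gd N21320 = N25589 := rfl
theorem L198697 : sm ga N25589 = N22920 := ded_9_1 L198621 L198617 L198695
theorem L198699 : sm gc N22918 = N25589 := ded_28_0 (flp_d L198695) L167789 L116416 L163388 L102616 L102683 L130258 (flp_a L179113)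
theorem L198701 : sm gg N21320 = N25590 := rfl
theorem L198703 : sm gc N25590 = N21322 := ded_21_1 (flp_g L167795) (flp_c L167789) L198701
theorem L198705 : sm ge N25590 = N21321 := ded_26_1 (flp_g L167791) L167787 L198701
theorem L198707 : sm gb N21321 = N25591 := rfl
theorem L198709 : sm gf N21321 = N25592 := rfl
theorem L198711 : sm ga N25592 = N25563 := ded_11_1 (flp_f L198631) L198625 L198709
theorem L198713 : sm gc N25592 = N21324 := ded_20_1 (flp_f L167808) (flp_c L167793) L198709
theorem L198715 : sm gg N25592 = N25558 := ded_29_3 L198500 L167718 L167791 L198709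
theorem L198717 : sm gb N21322 = N25593 := rfl
theorem L198719 : sm gd N25593 = N22037 := ded_14_2 (flp_b L172390) (flp_d L167797) L198717
theorem L198721 : sm ge N25593 = N21323 := ded_15_2 (flp_b L167801) (flp_e L167799) L198717
theorem L198723 : sm gg N25593 = N25593 := ded_17_2 (flp_b L198717) (flp_g L167795) L116415 L167795 L198717
theorem L198724 : sm ga N25493 = N25593 := ded_9_3 L198719 (flp_a L172395) (flp_d L198095)
theorem L198726 : sm gf N21322 = N25594 := rfl
theorem L198728 : sm ga N25594 = N25564 := ded_11_1 (flp_f L198641) L198635 L198726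
theorem L198730 : sm gd N25594 = N22038 := ded_23_1 (flp_f L172397) (flp_d L167797) L198726
theorem L198732 : sm ge N25594 = N21324 := ded_25_1 (flp_f L167808) (flp_e L167799) L198726
theorem L198734 : sm gg N25594 = N25559 := ded_29_3 L198508 L167722 L167795 L198726
theorem L198736 : sm gc N21323 = N25595 := rfl
theorem L198738 : sm ga N25595 = N25492 := ded_8_1 (flp_c L198087) L167806 L198736
theorem L198740 : sm gg N25595 = N25595 := ded_21_2 (flp_c L198736) L167805 L198736
theorem L198741 : sm gf N21323 = N25596 := rfl
theorem L198743 : sm ga N25596 = N25494 := ded_11_1 (flp_f L198097) L167806 L198741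
theorem L198745 : sm gd N25596 = N21325 := ded_23_1 (flp_f L167816) (flp_d L167803) L198741
theorem L198747 : sm gg N25596 = N25494 := ded_29_3 (flp_a L198743) (flp_f L198741) L167805 L198741
theorem L198749 : sm gb N21324 = N25597 := rfl
theorem L198751 : sm gd N25597 = N21326 := ded_14_2 (flp_b L167826) (flp_d L167812) L198749
theorem L198753 : sm gb N21325 = N25598 := rfl
theorem L198755 : sm ge N25598 = N22042 := ded_15_2 (flp_b L172422) (flp_e L167822) L198753
theorem L198757 : sm gf N25598 = N21326 := ded_16_2 (flp_b L167826) (flp_f L116429) L116422 L167816 L198753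
theorem L198759 : sm gg N25598 = N25580 := ded_17_2 L198653 L198109 (flp_b L198101) (flp_g L167824) L198753
theorem L198761 : sm ga N25598 = N25574 := ded_7_1 (flp_b L198605) (flp_a L188085) L198210 L198202 (flp_b L198131) L198125 (flp_b L198101) (flp_a L167818) L198753
theorem L198763 : sm ga N21326 = N25599 := rfl
theorem L198765 : sm ge N25599 = N22043 := ded_10_2 (flp_a L172430) (flp_e L167828) L198763
theorem L198767 : sm gf N25599 = N25574 := ded_11_2 (flp_a L198761) L198757 L198763
theorem L198769 : sm gc N21326 = N25600 := rfl
theorem L198771 : sm ge N25600 = N22044 := ded_19_2 (flp_c L172434) (flp_e L167828) L198769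
theorem L198773 : sm gb N25600 = N21327 := ded_13_1 (flp_c L167830) (flp_b L116439) (flp_c L116433) L167826 L198769
theorem L198775 : sm gc N21328 = N25601 := rfl
theorem L198777 : sm ga N25601 = N24530 := ded_8_1 L191089 L167846 L198775
theorem L198779 : sm ge N25601 = N24030 := ded_19_2 L187485 (flp_e L167842) L198775
theorem L198781 : sm gf N25601 = N24029 := ded_20_2 L187479 (flp_f L167844) L198775
theorem L198783 : sm gb N25601 = N23165 := ded_13_1 (flp_c L180975) (flp_b L144605) (flp_c L116449) L167838 L198775
theorem L198785 : sm gc N21329 = N25602 := rfl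
theorem L198787 : sm ga N25602 = N21330 := ded_8_1 (flp_c L167858) L167848 L198785
theorem L198789 : sm ge N25602 = N25467 := ded_19_2 L197959 (flp_e L167852) L198785
theorem L198791 : sm gf N25602 = N24540 := ded_20_2 (flp_c L191177) (flp_f L167856) L198785
theorem L198793 : sm gg N25602 = N21341 := ded_21_2 (flp_c L167924) (flp_g L167854) L198785
theorem L198795 : sm gd N21330 = N25603 := rfl
theorem L198797 : sm gg N25603 = N21343 := ded_24_2 (flp_d L167938) (flp_g L167860) L198795
theorem L198799 : sm gf N21330 = N25604 := rfl
theorem L198801 : sm ga N25604 = N24540 := ded_11_1 (flp_f L198791) L198787 L198799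
theorem L198803 : sm gc N25604 = N21331 := ded_20_1 (flp_f L167862) L167858 L198799
theorem L198805 : sm ge N25604 = N24027 := ded_25_1 (flp_f L191995) L191993 L198799
theorem L198807 : sm gc N21332 = N25605 := rfl
theorem L198809 : sm ga N25605 = N21417 := ded_8_1 L168366 (flp_a L167874) L198807
theorem L198811 : sm gg N25605 = N21415 := ded_21_2 (flp_c L168358) L167876 L198807
theorem L198813 : sm gb N25605 = N23106 := ded_13_1 (flp_c L180583) (flp_b L144337) (flp_c L116465) L167870 L198807
theorem L198815 : sm gb N21334 = N25606 := rfl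
theorem L198817 : sm gd N25606 = N21339 := ded_14_2 L167910 (flp_d L167888) L198815
theorem L198819 : sm ge N25606 = N21336 := ded_15_2 (flp_b L167898) (flp_e L167890) L198815
theorem L198821 : sm gf N25606 = N21336 := ded_16_2 (flp_b L167898) L116489 (flp_b L167112) L167892 L198815
theorem L198823 : sm gg N25606 = N24675 := ded_17_2 (flp_b L192095) L159917 L159197 L167884 L198815
theorem L198825 : sm gc N21335 = N25607 := rfl
theorem L198827 : sm gg N25607 = N21338 := ded_21_2 (flp_c L167904) (flp_g L167896) L198825
theorem L198829 : sm ga N21336 = N25608 := rfl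
theorem L198831 : sm gd N25608 = N21337 := ded_9_2 (flp_a L167902) (flp_d L167900) L198829
theorem L198833 : sm gc N21336 = N25609 := rfl
theorem L198835 : sm gc N21337 = N25610 := rfl
theorem L198837 : sm ga N25610 = N21338 := ded_8_1 (flp_c L167904) L167902 L198835
theorem L198839 : sm gf N21337 = N25611 := rfl
theorem L198841 : sm ga N25611 = N21339 := ded_11_1 (flp_f L167908) L167902 L198839
theorem L198843 : sm gg N25611 = N24677 := ded_29_3 (flp_a L192109) (flp_f L192103) L192105 L198839
theorem L198845 : sm gd N21338 = N25612 := rfl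
theorem L198847 : sm gb N25612 = N21343 := ded_14_1 (flp_d L167938) (flp_b L167906) L198845
theorem L198849 : sm gf N21338 = N25613 := rfl
theorem L198851 : sm gc N25613 = N21339 := ded_20_1 (flp_f L167908) L167904 L198849
theorem L198853 : sm gg N24678 = N25613 := ded_21_0 L198851 (flp_g L167912) L192115
theorem L198855 : sm gd N21341 = N25614 := rfl
theorem L198857 : sm ga N25614 = N21343 := ded_9_1 (flp_d L167938) (flp_a L167926) L198855
theorem L198859 : sm gf N21341 = N25615 := rfl
theorem L198861 : sm ga N25615 = N21344 := ded_11_1 (flp_f L167940) (flp_a L167926) L198859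
theorem L198863 : sm gc N25615 = N21342 := ded_20_1 (flp_f L167928) L167924 L198859
theorem L198865 : sm gg N25615 = N25604 := ded_29_3 L198801 (flp_f L198791) L198793 L198859
theorem L198867 : sm gb N25615 = N23118 := ded_16_1 L180653 (flp_b L166334) L196987 (flp_b L196993) L198859
theorem L198869 : sm gc N21343 = N25616 := rfl
theorem L198871 : sm ge N21343 = N25617 := rfl
theorem L198873 : sm gf N21343 = N25618 := rfl
theorem L198875 : sm gd N25618 = N21344 := ded_23_1 (flp_f L167940) L167938 L198873
theorem L198877 : sm gb N21344 = N25619 := rfl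
theorem L198879 : sm gc N25619 = N25431 := ded_13_2 (flp_b L197767) L167152 (flp_b L116503) (flp_c L167942) L198877
theorem L198881 : sm gg N21345 = N25620 := rfl
theorem L198883 : sm ga N25620 = N21347 := ded_12_1 (flp_g L167958) L167944 L198881
theorem L198885 : sm gc N25620 = N25620 := ded_21_1 (flp_g L198881) L167946 L198881
theorem L198886 : sm gd N25620 = N23056 := ded_24_1 (flp_g L180203) (flp_d L167947) L198881
theorem L198888 : sm gg N21346 = N25621 := rfl
theorem L198890 : sm gc N25621 = N25621 := ded_21_1 (flp_g L198888) L167955 L198888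
theorem L198891 : sm gd N25621 = N23292 := ded_24_1 L181839 L168895 L198888
theorem L198893 : sm ge N25621 = N21347 := ded_26_1 (flp_g L167958) L167951 L198888
theorem L198895 : sm gf N25620 = N25621 := ded_29_0 (flp_g L198888) (flp_f L167956) L167958 (flp_a L198883)
theorem L198897 : sm gb N23174 = N25621 := ded_14_3 L198891 (flp_b L181833) (flp_d L181031)
theorem L198899 : sm gb N21347 = N25622 := rfl
theorem L198901 : sm gd N25622 = N22796 := ded_14_2 L178267 L168903 L198899
theorem L198903 : sm ge N25622 = N23174 := ded_15_2 L198897 L198893 L198899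
theorem L198905 : sm gg N25622 = N21349 := ded_17_2 (flp_b L167971) (flp_g L116512) L116505 L167958 L198899
theorem L198907 : sm ga N22787 = N25622 := ded_9_3 L198901 (flp_a L178053) (flp_d L177989)
theorem L198909 : sm gf N21347 = N25623 := rfl
theorem L198911 : sm ga N25623 = N25621 := ded_11_1 (flp_f L198895) L198883 L198909
theorem L198913 : sm gc N25623 = N25623 := ded_20_1 (flp_f L198909) L167960 L198909
theorem L198914 : sm gd N25623 = N25112 := ded_23_1 (flp_f L195330) L168903 L198909
theorem L198916 : sm ge N25623 = N25620 := ded_25_1 L198895 L198893 L198909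
theorem L198918 : sm gg N25623 = N25111 := ded_29_3 L195313 (flp_f L167956) L167958 L198909
theorem L198920 : sm gb N21348 = N25624 := rfl
theorem L198922 : sm gd N25624 = N23205 := ded_14_2 (flp_b L181241) (flp_d L167965) L198920
theorem L198924 : sm ge N25624 = N21349 := ded_15_2 (flp_b L167971) (flp_e L167967) L198920
theorem L198926 : sm gg N25624 = N23174 := ded_17_2 L198897 (flp_g L198888) L167953 L167961 L198920
theorem L198928 : sm ga N23176 = N25624 := ded_9_3 L198922 L181245 (flp_d L181039)
theorem L198930 : sm ga N21349 = N25625 := rfl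
theorem L198932 : sm gd N25625 = N22798 := ded_9_2 (flp_a L178263) L168907 L198930
theorem L198934 : sm ge N25625 = N23176 := ded_10_2 L198928 L198924 L198930
theorem L198936 : sm gg N25625 = N22787 := ded_12_2 L198907 L198905 L198930
theorem L198938 : sm gf N23108 = N25625 := ded_23_0 L198932 (flp_f L178072) (flp_d L180593)
theorem L198940 : sm gc N21349 = N25626 := rfl
theorem L198942 : sm gb N25626 = N21352 := ded_13_1 (flp_c L167983) (flp_b L116522) (flp_c L116514) L167971 L198940
theorem L198944 : sm gf N21349 = N25627 := rfl
theorem L198946 : sm ga N25627 = N23108 := ded_11_1 L198938 (flp_a L198930) L198944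
theorem L198948 : sm gd N25627 = N23134 := ded_23_1 L180751 L168907 L198944
theorem L198950 : sm gg N25544 = N25627 := ded_29_1 (flp_f L198944) (flp_g L198905) (flp_a L198907) (flp_f L198412)
theorem L198952 : sm gc N21350 = N25628 := rfl
theorem L198954 : sm ge N25628 = N21352 := ded_19_2 (flp_c L167983) (flp_e L167975) L198952
theorem L198956 : sm gg N25628 = N25628 := ded_21_2 (flp_c L198952) L167977 L198952
theorem L198957 : sm gf N21350 = N25629 := rfl
theorem L198959 : sm ge N25629 = N21353 := ded_25_1 (flp_f L167986) (flp_e L167975) L198957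
theorem L198961 : sm gb N25629 = N24677 := ded_16_1 L192113 (flp_b L167894) (flp_f L116520) L167973 L198957
theorem L198963 : sm gd N21352 = N25630 := rfl
theorem L198965 : sm gg N25630 = N25630 := ded_24_2 (flp_d L198963) L167985 L198963
theorem L198966 : sm gf N21352 = N25631 := rfl
theorem L198968 : sm gc N25631 = N21353 := ded_20_1 (flp_f L167986) L167983 L198966
theorem L198970 : sm gc N21354 = N25632 := rfl
theorem L198972 : sm ge N25632 = N25607 := ded_19_2 (flp_c L198825) (flp_e L167994) L198970
theorem L198974 : sm gg N25632 = N24661 := ded_21_2 (flp_c L192007) (flp_g L167996) L198970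
theorem L198976 : sm gc N21358 = N25633 := rfl
theorem L198978 : sm gg N25633 = N25633 := ded_21_2 (flp_c L198976) L168015 L198976
theorem L198979 : sm ge N21358 = N25634 := rfl
theorem L198981 : sm gb N25634 = N21371 := ded_15_1 (flp_e L168118) (flp_b L168013) L198979
theorem L198983 : sm gg N25634 = N25634 := ded_26_2 (flp_e L198979) L168015 L198979
theorem L198984 : sm gf N21358 = N25635 := rfl
theorem L198986 : sm gd N25635 = N21359 := ded_23_1 (flp_f L168016) L168011 L198984
theorem L198988 : sm gb N21359 = N25636 := rfl
theorem L198990 : sm gf N25636 = N21373 := ded_16_2 (flp_b L168126) (flp_f L116563) (flp_b L116543) L168016 L198988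
theorem L198992 : sm gc N21360 = N25637 := rfl
theorem L198994 : sm ga N25637 = N25632 := ded_8_1 (flp_c L198970) L168074 L198992
theorem L198996 : sm gf N25637 = N21362 := ded_20_2 (flp_c L168026) (flp_f L168022) L198992
theorem L198998 : sm gc N21361 = N25638 := rfl

end Cfsg.Agent.Helper28.SzbA
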