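import Cfsg.Agent.Helper28.SzbB17

/-! # The Suzuki group presentation, cosets of the subgroup generated by a, b, c, d, f, g: the coset enumeration, part 18 (helper28; generated) -/

set_option autoImplicit false

noncomputable section

namespace Cfsg.Agent.Helper28.SzbA

open Cfsg.Agent.Helper28.CosetTable

theorem L199000 : sm ga N25638 = N21362 := ded_8_1 (flp_c L168026) L168024 L198998
theorem L199002 : sm gf N25638 = N25632 := ded_20_2 (flp_c L198970) (flp_f L168072) L198998
theorem L199004 : sm gg N21361 = N25639 := rfl
theorem L199006 : sm ga N25639 = N21363 := ded_12_1 (flp_g L168030) L168024 L199004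
theorem L199008 : sm gd N25639 = N24660 := ded_24_1 L192003 L168076 L199004
theorem L199010 : sm ge N25639 = N25611 := ded_26_1 L198843 L192111 L199004
theorem L199012 : sm gf N24660 = N25639 := ded_29_0 (flp_g L199004) L168072 L167996 L191999
theorem L199014 : sm gb N25608 = N25639 := ded_7_0 L199006 L168036 L159859 L159906 L168061 (flp_b L116522) (flp_a L116485) L167898 L198829
theorem L199016 : sm gd N21362 = N25640 := rfl
theorem L199018 : sm gb N25640 = N21379 := ded_14_1 (flp_d L168162) (flp_b L168028) L199016
theorem L199020 : sm gg N21362 = N25641 := rfl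
theorem L199022 : sm gc N25641 = N21363 := ded_21_1 (flp_g L168030) L168026 L199020
theorem L199024 : sm ge N25641 = N25613 := ded_26_1 (flp_g L198853) L192117 L199020
theorem L199026 : sm gf N25641 = N24661 := ded_29_2 (flp_g L198974) (flp_a L198994) L198996 L199020
theorem L199028 : sm gc N21364 = N25642 := rfl
theorem L199030 : sm ga N25642 = N21365 := ded_8_1 (flp_c L168088) L168080 L199028
theorem L199032 : sm ge N25642 = N25310 := ded_19_2 L196991 (flp_e L168084) L199028
theorem L199034 : sm gf N25642 = N24466 := ded_20_2 (flp_c L190663) L168086 L199028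
theorem L199036 : sm gb N25642 = N24662 := ded_13_1 (flp_c L192013) (flp_b L180559) L180551 L177777 L199028
theorem L199038 : sm gb N21365 = N25643 := rfl
theorem L199040 : sm gc N25643 = N21368 := ded_13_2 (flp_b L168106) (flp_c L116553) L116549 L168088 L199038
theorem L199042 : sm gd N21365 = N25644 := rfl
theorem L199044 : sm gf N21365 = N25645 := rfl
theorem L199046 : sm ga N25645 = N24466 := ded_11_1 (flp_f L199034) L199030 L199044
theorem L199048 : sm gc N25645 = N21366 := ded_20_1 (flp_f L168090) L168088 L199044
theorem L199050 : sm ge N25645 = N25308 := ded_25_1 L196981 L168636 L199044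
theorem L199052 : sm gg N25458 = N25645 := ded_21_0 L199048 (flp_g L168098) L197913
theorem L199054 : sm gg N21365 = N25646 := rfl
theorem L199056 : sm gc N25646 = N21367 := ded_21_1 (flp_g L168100) L168088 L199054
theorem L199058 : sm ga N21368 = N25647 := rfl
theorem L199060 : sm gd N21368 = N25648 := rfl
theorem L199062 : sm gb N25648 = N21369 := ded_14_1 (flp_d L168108) L168106 L199060
theorem L199064 : sm gf N21368 = N25649 := rfl
theorem L199066 : sm gg N21368 = N25650 := rfl
theorem L199068 : sm gb N25650 = N21387 := ded_17_1 (flp_g L168206) (flp_b L116599) (flp_g L116557) L168106 L199066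
theorem L199070 : sm ge N21369 = N25651 := rfl
theorem L199072 : sm ga N25651 = N21371 := ded_10_1 (flp_e L168118) (flp_a L168110) L199070
theorem L199074 : sm gg N25651 = N21388 := ded_26_2 (flp_e L168208) (flp_g L168112) L199070
theorem L199076 : sm gb N21370 = N25652 := rfl
theorem L199078 : sm ge N21370 = N25653 := rfl
theorem L199080 : sm gc N25653 = N21371 := ded_19_1 (flp_e L168118) L168114 L199078
theorem L199082 : sm gg N25653 = N21393 := ded_26_2 (flp_e L168227) (flp_g L168116) L199078
theorem L199084 : sm gf N21370 = N25654 := rfl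
theorem L199086 : sm gc N25654 = N21372 := ded_20_1 (flp_f L168122) L168114 L199084
theorem L199088 : sm gd N25654 = N21625 := ded_23_1 (flp_f L169661) (flp_d L169289) L199084
theorem L199090 : sm gg N25654 = N21621 := ded_29_3 L169639 (flp_f L168231) (flp_g L168116) L199084
theorem L199092 : sm gf N21371 = N25655 := rfl
theorem L199094 : sm ge N25655 = N21372 := ded_25_1 (flp_f L168122) L168118 L199092
theorem L199096 : sm gb N21372 = N25656 := rfl
theorem L199098 : sm gd N25656 = N21373 := ded_14_2 (flp_b L168126) (flp_d L168124) L199096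
theorem L199100 : sm ga N21373 = N25657 := rfl
theorem L199102 : sm gc N21373 = N25658 := rfl
theorem L199104 : sm gb N25658 = N21375 := ded_13_1 (flp_c L168136) (flp_b L116567) (flp_c L116565) L168126 L199102
theorem L199106 : sm gg N21373 = N25659 := rfl
theorem L199108 : sm gc N21374 = N25660 := rfl
theorem L199110 : sm ga N25660 = N21375 := ded_8_1 (flp_c L168136) L168128 L199108
theorem L199112 : sm gf N25660 = N21377 := ded_20_2 (flp_c L168146) (flp_f L168132) L199108
theorem L199114 : sm gd N21375 = N25661 := rfl
theorem L199116 : sm gf N25661 = N21379 := ded_23_2 (flp_d L168162) (flp_f L168138) L199114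
theorem L199118 : sm gg N21375 = N25662 := rfl
theorem L199120 : sm gc N25662 = N21376 := ded_21_1 (flp_g L168140) L168136 L199118
theorem L199122 : sm gb N21377 = N25663 := rfl
theorem L199124 : sm ge N25663 = N25309 := ded_15_2 L196985 (flp_e L180683) L199122
theorem L199126 : sm gd N21377 = N25664 := rfl
theorem L199128 : sm ga N25664 = N21379 := ded_9_1 (flp_d L168162) (flp_a L168148) L199126
theorem L199130 : sm gg N21377 = N25665 := rfl
theorem L199132 : sm ga N25665 = N21380 := ded_12_1 (flp_g L168164) (flp_a L168148) L199130
theorem L199134 : sm gc N25665 = N21378 := ded_21_1 (flp_g L168150) L168146 L199130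
theorem L199136 : sm ge N25665 = N25450 := ded_26_1 L197855 (flp_e L180683) L199130
theorem L199138 : sm gf N25665 = N25662 := ded_29_2 (flp_g L199118) (flp_a L199110) L199112 L199130
theorem L199140 : sm gc N21379 = N25666 := rfl
theorem L199142 : sm ge N21379 = N25667 := rfl
theorem L199144 : sm gg N21379 = N25668 := rfl
theorem L199146 : sm gd N25668 = N21380 := ded_24_1 (flp_g L168164) L168162 L199144
theorem L199148 : sm gb N21380 = N25669 := rfl
theorem L199150 : sm gc N25669 = N25418 := ded_13_2 (flp_b L197687) L167078 (flp_b L116583) (flp_c L168166) L199148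
theorem L199152 : sm gf N21380 = N25670 := rfl
theorem L199154 : sm ga N25670 = N25662 := ded_11_1 (flp_f L199138) L199132 L199152
theorem L199156 : sm gc N25670 = N21381 := ded_20_1 (flp_f L168168) (flp_c L168166) L199152
theorem L199158 : sm gg N25670 = N25660 := ded_29_3 L199110 L168138 L168164 L199152
theorem L199160 : sm gc N21382 = N25671 := rfl
theorem L199162 : sm gf N25671 = N21391 := ded_20_2 (flp_c L168222) (flp_f L168180) L199160
theorem L199164 : sm gg N25671 = N25319 := ded_21_2 (flp_c L197051) (flp_g L168182) L199160
theorem L199166 : sm gb N21384 = N25672 := rfl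
theorem L199168 : sm ga N25672 = N25672 := ded_7_1 (flp_b L199166) (flp_a L168198) (flp_b L116599) L95888 L84604 (flp_a L95888) L116599 L168198 L199166
theorem L199169 : sm gd N21384 = N25673 := rfl
theorem L199171 : sm ga N25673 = N21385 := ded_9_1 (flp_d L168200) L168198 L199169
theorem L199173 : sm gf N21384 = N25674 := rfl
theorem L199175 : sm ga N25674 = N21386 := ded_11_1 (flp_f L168204) L168198 L199173
theorem L199177 : sm gg N21384 = N25675 := rfl
theorem L199179 : sm ga N25675 = N21387 := ded_12_1 (flp_g L168206) L168198 L199177
theorem L199181 : sm gc N21385 = N25676 := rfl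
theorem L199183 : sm ge N21385 = N25677 := rfl
theorem L199185 : sm gb N25677 = N21388 := ded_15_1 (flp_e L168208) (flp_b L168202) L199183
theorem L199187 : sm gf N21385 = N25678 := rfl
theorem L199189 : sm gd N25678 = N21386 := ded_23_1 (flp_f L168204) L168200 L199187
theorem L199191 : sm gg N21385 = N25679 := rfl
theorem L199193 : sm gd N25679 = N21387 := ded_24_1 (flp_g L168206) L168200 L199191
theorem L199195 : sm gb N21386 = N25680 := rfl
theorem L199197 : sm gf N25680 = N21390 := ded_16_2 (flp_b L168220) (flp_f L116605) L116599 L168204 L199195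
theorem L199199 : sm gg N21386 = N25681 := rfl
theorem L199201 : sm gf N25675 = N25681 := ded_29_0 (flp_g L199199) (flp_f L168204) L168206 (flp_a L199179)
theorem L199203 : sm gf N21387 = N25682 := rfl
theorem L199205 : sm ga N25682 = N25681 := ded_11_1 (flp_f L199201) L199179 L199203
theorem L199207 : sm gg N25682 = N25674 := ded_29_3 L199175 (flp_f L168204) L168206 L199203
theorem L199209 : sm gf N21388 = N25683 := rfl
theorem L199211 : sm ga N25683 = N21395 := ded_11_1 (flp_f L168235) (flp_a L168210) L199209
theorem L199213 : sm ge N25683 = N21389 := ded_25_1 (flp_f L168212) L168208 L199209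
theorem L199215 : sm gg N25655 = N25683 := ded_29_1 (flp_f L199209) (flp_g L199074) L199072 L199092
theorem L199217 : sm gb N21389 = N25684 := rfl
theorem L199219 : sm gd N25684 = N21390 := ded_14_2 (flp_b L168220) (flp_d L168216) L199217
theorem L199221 : sm ga N21390 = N25685 := rfl
theorem L199223 : sm gc N21390 = N25686 := rfl
theorem L199225 : sm gb N25686 = N21391 := ded_13_1 (flp_c L168222) (flp_b L116613) (flp_c L116609) L168220 L199223
theorem L199227 : sm gg N21390 = N25687 := rfl
theorem L199229 : sm gb N25687 = N25659 := ded_17_1 (flp_g L199106) (flp_b L168126) L116611 L168220 L199227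
theorem L199231 : sm gd N21391 = N25688 := rfl
theorem L199233 : sm ga N21392 = N25689 := rfl
theorem L199235 : sm gc N25689 = N25689 := ded_8_2 (flp_a L199233) L168226 L199233
theorem L199236 : sm ge N21392 = N25690 := rfl
theorem L199238 : sm gb N25690 = N21393 := ded_15_1 (flp_e L168227) L168224 L199236
theorem L199240 : sm gc N25690 = N25690 := ded_19_1 (flp_e L199236) L168226 L199236
theorem L199241 : sm gf N21392 = N25691 := rfl
theorem L199243 : sm gc N25691 = N25691 := ded_20_1 (flp_f L199241) L168226 L199241
theorem L199244 : sm gg N21392 = N25692 := rfl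
theorem L199246 : sm gc N25692 = N25692 := ded_21_1 (flp_g L199244) L168226 L199244
theorem L199247 : sm gd N21393 = N25693 := rfl
theorem L199249 : sm gf N21393 = N25694 := rfl
theorem L199251 : sm gc N25694 = N21395 := ded_20_1 (flp_f L168235) (flp_c L168229) L199249
theorem L199253 : sm ge N25694 = N21394 := ded_25_1 (flp_f L168231) L168227 L199249
theorem L199255 : sm gb N21394 = N25695 := rfl
theorem L199257 : sm gg N21394 = N25696 := rfl
theorem L199259 : sm ga N25696 = N25654 := ded_12_1 L199090 L169639 L199257
theorem L199261 : sm gc N25696 = N21397 := ded_21_1 (flp_g L168244) (flp_c L168233) L199257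
theorem L199263 : sm gd N25696 = N21566 := ded_24_1 L169579 L169577 L199257
theorem L199265 : sm gf N21564 = N25696 := ded_29_0 (flp_g L199257) (flp_f L168231) (flp_g L168116) (flp_a L169303)
theorem L199267 : sm gb N21395 = N25697 := rfl
theorem L199269 : sm ge N25697 = N21396 := ded_15_2 (flp_b L168239) (flp_e L168237) L199267
theorem L199271 : sm gf N25697 = N25697 := ded_16_2 (flp_b L199267) (flp_f L168235) L116621 L168235 L199267
theorem L199272 : sm gg N21395 = N25698 := rfl
theorem L199274 : sm ga N25698 = N25655 := ded_12_1 L199215 L199211 L199272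
theorem L199276 : sm ge N25698 = N21397 := ded_26_1 (flp_g L168244) (flp_e L168237) L199272
theorem L199278 : sm gf N25651 = N25698 := ded_29_0 (flp_g L199272) (flp_f L168235) (flp_g L168120) (flp_a L199072)
theorem L199280 : sm gc N21396 = N25699 := rfl
theorem L199282 : sm gf N25699 = N25699 := ded_20_2 (flp_c L199280) L168243 L199280
theorem L199283 : sm gg N21396 = N25700 := rfl
theorem L199285 : sm gd N25700 = N21398 := ded_24_1 (flp_g L168252) (flp_d L168241) L199283
theorem L199287 : sm gb N21397 = N25701 := rfl
theorem L199289 : sm gd N25701 = N21399 := ded_14_2 (flp_b L168256) (flp_d L168248) L199287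
theorem L199291 : sm gb N21398 = N25702 := rfl
theorem L199293 : sm gg N25702 = N21399 := ded_17_2 (flp_b L168256) (flp_g L116631) L116626 L168252 L199291
theorem L199295 : sm gf N21399 = N25687 := ded_31_4 L199229 (flp_g L199106) (flp_f L198990) (flp_b L198988) (flp_g L168678) (flp_f L168670) (flp_b L116850) (flp_g L96014) (flp_f L95977) (flp_b L116741) L168424 (flp_f L168432) L199291 L199293
theorem L199297 : sm gf N25685 = N25702 := ded_29_0 L199293 L199295 (flp_g L199227) L199221
theorem L199299 : sm ga N25702 = N25680 := ded_29_4 L199197 L199227 (flp_f L199295) (flp_g L199293)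
theorem L199301 : N25659 = N25649 := coi_16_2 (flp_f L199064) (flp_b L168106) L116637 L168256 L199295 L199229
theorem L199302 : N25659 = N25649 := eqc rfl L199301 rfl
theorem L199303 : sm gb N25649 = N25687 := trfs L199302 (flp_b L199229) rfl
theorem L199305 : sm gg N25649 = N21373 := trfs L199302 (flp_g L199106) rfl
theorem L199307 : sm gf N25657 = N25650 := ded_29_0 (flp_g L199066) L199064 L199305 L199100
theorem L199309 : sm ga N25650 = N25636 := ded_29_4 L198990 (flp_g L199305) (flp_f L199064) L199066
theorem L199311 : sm gg N25636 = N25647 := ded_29_3 (flp_a L199058) L199064 L199305 (flp_f L198990)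
theorem L199313 : sm ga N21399 = N25703 := rfl
theorem L199315 : sm gg N25703 = N25680 := ded_12_2 (flp_a L199299) L199293 L199313
theorem L199317 : sm gc N21399 = N25704 := rfl
theorem L199319 : sm gb N25704 = N21401 := ded_13_1 (flp_c L168264) (flp_b L116639) (flp_c L116635) L168256 L199317
theorem L199321 : sm gc N21400 = N25705 := rfl
theorem L199323 : sm ga N25705 = N21401 := ded_8_1 (flp_c L168264) L168258 L199321
theorem L199325 : sm gg N25705 = N23111 := ded_21_2 (flp_c L180613) (flp_g L168262) L199321
theorem L199327 : sm gd N23106 = N25705 := ded_28_1 (flp_c L199321) L168260 L169693 (flp_d L169703) L165324 (flp_d L180579) (flp_a L180577) L180583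
theorem L199329 : sm gd N21401 = N25706 := rfl
theorem L199331 : sm ga N25706 = N23106 := ded_9_1 L199327 L199323 L199329
theorem L199333 : sm gg N25706 = N23109 := ded_24_2 (flp_d L180599) (flp_g L168266) L199329
theorem L199335 : sm gc N23105 = N25706 := ded_28_0 (flp_d L199329) (flp_c L168264) L116641 L117497 (flp_d L163838) (flp_c L144429) (flp_d L144339) L180577
theorem L199337 : sm gf N21401 = N25707 := rfl
theorem L199339 : sm gc N25707 = N21402 := ded_20_1 (flp_f L168268) L168264 L199337
theorem L199341 : sm gg N25707 = N25484 := ded_29_3 L198033 (flp_f L192267) (flp_g L168266) L199337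
theorem L199343 : sm gc N21403 = N25708 := rfl
theorem L199345 : sm ga N25708 = N21404 := ded_8_1 (flp_c L168286) L168276 L199343
theorem L199347 : sm ge N25708 = N25433 := ded_19_2 L197779 (flp_e L168280) L199343
theorem L199349 : sm gf N25708 = N21415 := ded_20_2 (flp_c L168358) (flp_f L168282) L199343
theorem L199351 : sm gg N25708 = N24520 := ded_21_2 (flp_c L191033) L168284 L199343
theorem L199353 : sm gd N21404 = N25709 := rfl
theorem L199355 : sm gf N25709 = N21416 := ded_23_2 (flp_d L168362) (flp_f L168288) L199353
theorem L199357 : sm gg N21404 = N25710 := rfl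
theorem L199359 : sm ga N25710 = N24520 := ded_12_1 (flp_g L199351) L199345 L199357
theorem L199361 : sm gc N25710 = N21405 := ded_21_1 (flp_g L168290) L168286 L199357
theorem L199363 : sm ge N25710 = N24035 := ded_26_1 (flp_g L192143) L192139 L199357
theorem L199365 : sm gf N25605 = N25710 := ded_29_0 (flp_g L199357) L168288 L168364 (flp_a L198809)
theorem L199367 : sm gc N21406 = N25711 := rfl
theorem L199369 : sm ga N25711 = N24511 := ded_8_1 L190951 (flp_a L168310) L199367
theorem L199371 : sm ge N25711 = N24022 := ded_19_2 L187413 (flp_e L168306) L199367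
theorem L199373 : sm gg N25711 = N24021 := ded_21_2 L187407 (flp_g L168308) L199367
theorem L199375 : sm gb N25711 = N23181 := ded_13_1 (flp_c L181075) (flp_b L144685) (flp_c L116663) L168302 L199367
theorem L199377 : sm gc N21408 = N25712 := rfl
theorem L199379 : sm gf N25712 = N21412 := ded_20_2 (flp_c L168338) (flp_f L168320) L199377
theorem L199381 : sm gb N21409 = N25713 := rfl
theorem L199383 : sm gd N25713 = N21413 := ded_14_2 L168344 (flp_d L168326) L199381
theorem L199385 : sm ge N25713 = N21410 := ded_15_2 (flp_b L168332) (flp_e L168328) L199381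
theorem L199387 : sm gf N25713 = N24697 := ded_16_2 (flp_b L192241) (flp_f L160048) L159333 L168322 L199381
theorem L199389 : sm gg N25713 = N21410 := ded_17_2 (flp_b L168332) (flp_g L116689) (flp_b L167250) (flp_g L168330) L199381
theorem L199391 : sm ga N21410 = N25714 := rfl
theorem L199393 : sm gd N25714 = N21411 := ded_9_2 (flp_a L168336) (flp_d L168334) L199391
theorem L199395 : sm gc N21410 = N25715 := rfl
theorem L199397 : sm gc N21411 = N25716 := rfl
theorem L199399 : sm ga N25716 = N21412 := ded_8_1 (flp_c L168338) L168336 L199397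
theorem L199401 : sm gg N21411 = N25717 := rfl
theorem L199403 : sm ga N25717 = N21413 := ded_12_1 (flp_g L168342) L168336 L199401
theorem L199405 : sm gf N24699 = N25717 := ded_29_0 (flp_g L199401) (flp_f L192249) L192251 L192255
theorem L199407 : sm gd N21412 = N25718 := rfl
theorem L199409 : sm gb N25718 = N21416 := ded_14_1 (flp_d L168362) (flp_b L168340) L199407
theorem L199411 : sm gg N21412 = N25719 := rfl
theorem L199413 : sm gc N25719 = N21413 := ded_21_1 (flp_g L168342) L168338 L199411
theorem L199415 : sm gf N24700 = N25719 := ded_20_0 L199413 L168346 L192261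
theorem L199417 : sm gd N21415 = N25720 := rfl
theorem L199419 : sm ga N25720 = N21416 := ded_9_1 (flp_d L168362) (flp_a L168360) L199417
theorem L199421 : sm gc N21416 = N25721 := rfl
theorem L199423 : sm ge N21416 = N25722 := rfl
theorem L199425 : sm gg N21416 = N25723 := rfl
theorem L199427 : sm gd N25723 = N21417 := ded_24_1 (flp_g L168364) L168362 L199425
theorem L199429 : sm gb N21417 = N25724 := rfl
theorem L199431 : sm gc N25724 = N25465 := ded_13_2 (flp_b L197947) L167290 (flp_b L116703) (flp_c L168366) L199429
theorem L199433 : sm gf N21418 = N25725 := rfl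
theorem L199435 : sm ga N25725 = N21420 := ded_11_1 (flp_f L168382) L168368 L199433
theorem L199437 : sm gc N25725 = N25725 := ded_20_1 (flp_f L199433) L168370 L199433
theorem L199438 : sm gd N25725 = N23057 := ded_23_1 (flp_f L180209) (flp_d L168371) L199433
theorem L199440 : sm gf N21419 = N25726 := rfl
theorem L199442 : sm gc N25726 = N25726 := ded_20_1 (flp_f L199440) L168379 L199440
theorem L199443 : sm gd N25726 = N23217 := ded_23_1 (flp_f L181321) L169904 L199440
theorem L199445 : sm ge N25726 = N21420 := ded_25_1 (flp_f L168382) L168375 L199440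
theorem L199447 : sm gg N25726 = N25725 := ded_29_3 L199435 (flp_f L168382) L168380 L199440
theorem L199449 : sm gb N23158 = N25726 := ded_14_3 L199443 (flp_b L181315) (flp_d L180935)
theorem L199451 : sm gb N21420 = N25727 := rfl
theorem L199453 : sm gd N25727 = N22790 := ded_14_2 (flp_b L178283) L169896 L199451
theorem L199455 : sm ge N25727 = N23158 := ded_15_2 L199449 L199445 L199451
theorem L199457 : sm gf N25727 = N21422 := ded_16_2 (flp_b L168395) (flp_f L116712) L116705 L168382 L199451
theorem L199459 : sm ga N22784 = N25727 := ded_9_3 L199453 (flp_a L178013) (flp_d L177963)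
theorem L199461 : sm gg N21420 = N25728 := rfl
theorem L199463 : sm ga N25728 = N25726 := ded_12_1 L199447 L199435 L199461
theorem L199465 : sm gc N25728 = N25728 := ded_21_1 (flp_g L199461) L168384 L199461
theorem L199466 : sm gd N25728 = N25146 := ded_24_1 L195641 L169896 L199461
theorem L199468 : sm ge N25728 = N25725 := ded_26_1 (flp_g L199447) L199445 L199461
theorem L199470 : sm gf N25145 = N25728 := ded_29_0 (flp_g L199461) (flp_f L168382) L168380 (flp_a L195624)
theorem L199472 : sm gb N21421 = N25729 := rfl
theorem L199474 : sm gd N25729 = N23219 := ded_14_2 L181341 (flp_d L168389) L199472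
theorem L199476 : sm ge N25729 = N21422 := ded_15_2 (flp_b L168395) (flp_e L168391) L199472
theorem L199478 : sm gf N25729 = N23158 := ded_16_2 L199449 (flp_f L199440) L168377 L168385 L199472
theorem L199480 : sm ga N25729 = N23160 := ded_30_3 (flp_f L180941) L180937 L180939 (flp_a L198787) L198791 (flp_c L191177) (flp_b L159379) (flp_a L110381) (flp_f L110379) L159367 (flp_b L191145) (flp_a L191760) (flp_f L191758) (flp_c L159717) L159333 L149701 L116716 (flp_c L168387) L199472
theorem L199482 : sm ga N21422 = N25730 := rfl
theorem L199484 : sm gd N25730 = N22792 := ded_9_2 (flp_a L178287) L169912 L199482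
theorem L199486 : sm ge N25730 = N23160 := ded_10_2 (flp_a L199480) L199476 L199482
theorem L199488 : sm gf N25730 = N22784 := ded_11_2 L199459 L199457 L199482
theorem L199490 : sm gg N23120 = N25730 := ded_24_0 L199484 (flp_g L178032) (flp_d L180661)
theorem L199492 : sm gc N21422 = N25731 := rfl
theorem L199494 : sm gb N25731 = N21424 := ded_13_1 (flp_c L168402) (flp_b L116720) (flp_c L116714) L168395 L199492
theorem L199496 : sm gg N21422 = N25732 := rfl
theorem L199498 : sm ga N25732 = N23120 := ded_12_1 L199490 (flp_a L199482) L199496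
theorem L199500 : sm gd N25732 = N23149 := ded_24_1 L180859 L169912 L199496
theorem L199502 : sm gf N25732 = N25486 := ded_29_2 L198055 L199459 L199457 L199496
theorem L199504 : sm gb N25732 = N25627 := ded_17_1 (flp_g L198950) (flp_b L198406) L167653 L168395 L199496
theorem L199506 : sm gc N21423 = N25733 := rfl
theorem L199508 : sm ge N25733 = N21424 := ded_19_2 (flp_c L168402) (flp_e L168399) L199506
theorem L199510 : sm gf N25733 = N25733 := ded_20_2 (flp_c L199506) L168401 L199506
theorem L199511 : sm gg N21423 = N25734 := rfl
theorem L199513 : sm ge N25734 = N21425 := ded_26_1 (flp_g L168405) (flp_e L168399) L199511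
theorem L199515 : sm gb N25734 = N24699 := ded_17_1 L192259 (flp_b L168318) (flp_g L150801) L168397 L199511
theorem L199517 : sm gd N21424 = N25735 := rfl
theorem L199519 : sm gf N25735 = N25735 := ded_23_2 (flp_d L199517) L168404 L199517
theorem L199520 : sm gg N21424 = N25736 := rfl
theorem L199522 : sm gc N25736 = N21425 := ded_21_1 (flp_g L168405) L168402 L199520
theorem L199524 : sm gc N21426 = N25737 := rfl
theorem L199526 : sm ge N25737 = N25712 := ded_19_2 (flp_c L199377) (flp_e L168413) L199524
theorem L199528 : sm gf N25737 = N24683 := ded_20_2 (flp_c L192153) (flp_f L168415) L199524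
theorem L199530 : sm gc N21427 = N25738 := rfl
theorem L199532 : sm ga N25738 = N25699 := ded_8_1 (flp_c L199280) (flp_a L168419) L199530
theorem L199534 : sm gf N25738 = N25738 := ded_20_2 (flp_c L199530) L168423 L199530
theorem L199535 : sm ge N21427 = N25739 := rfl
theorem L199537 : sm ga N25739 = N25697 := ded_10_1 L199269 (flp_a L168419) L199535
theorem L199539 : sm gb N25739 = N21440 := ded_15_1 (flp_e L168506) (flp_b L168421) L199535
theorem L199541 : sm gf N25739 = N25739 := ded_25_2 (flp_e L199535) L168423 L199535
theorem L199542 : sm gd N25739 = N25697 := ded_22_1 L199269 L168241 (flp_e L116738) L168417 L199535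
theorem L199544 : sm gg N21427 = N25740 := rfl
theorem L199546 : sm ga N25740 = N25700 := ded_12_1 (flp_g L199283) (flp_a L168419) L199544
theorem L199548 : sm gd N25740 = N21428 := ded_24_1 (flp_g L168424) L168417 L199544
theorem L199550 : sm gf N25700 = N25740 := ded_29_0 (flp_g L199544) L168423 L199544 L199546
theorem L199552 : sm gb N21428 = N25741 := rfl
theorem L199554 : sm ge N25741 = N25702 := ded_15_2 (flp_b L199291) (flp_e L168430) L199552
theorem L199556 : sm gg N25741 = N21442 := ded_17_2 (flp_b L168516) (flp_g L116765) (flp_b L116741) L168424 L199552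
theorem L199558 : sm gc N21429 = N25742 := rfl
theorem L199560 : sm ga N25742 = N25737 := ded_8_1 (flp_c L199524) (flp_a L168456) L199558
theorem L199562 : sm gg N25742 = N21431 := ded_21_2 (flp_c L168440) (flp_g L168436) L199558
theorem L199564 : sm gc N21430 = N25743 := rfl
theorem L199566 : sm ga N25743 = N21431 := ded_8_1 (flp_c L168440) L168438 L199564
theorem L199568 : sm gg N25743 = N25737 := ded_21_2 (flp_c L199524) L168454 L199564
theorem L199570 : sm gf N21430 = N25744 := rfl
theorem L199572 : sm ga N25744 = N21432 := ded_11_1 (flp_f L168444) L168438 L199570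
theorem L199574 : sm gd N25744 = N24682 := ded_23_1 L192149 (flp_d L168458) L199570
theorem L199576 : sm ge N25744 = N25717 := ded_25_1 (flp_f L199405) L192257 L199570
theorem L199578 : sm gg N25744 = N24682 := ded_29_3 (flp_a L192145) (flp_f L168415) L168454 L199570
theorem L199580 : sm gb N25714 = N25744 := ded_7_0 L199572 L168450 L159988 L160035 (flp_a L160040) (flp_b L116720) (flp_a L116685) L168332 L199391
theorem L199582 : sm gd N21431 = N25745 := rfl
theorem L199584 : sm gb N25745 = N21448 := ded_14_1 (flp_d L168560) (flp_b L168442) L199582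
theorem L199586 : sm gf N21431 = N25746 := rfl
theorem L199588 : sm gc N25746 = N21432 := ded_20_1 (flp_f L168444) L168440 L199586
theorem L199590 : sm ge N25746 = N25719 := ded_25_1 (flp_f L199415) L192263 L199586
theorem L199592 : sm gg N24683 = N25746 := ded_29_1 (flp_f L199586) (flp_g L199562) L199560 L199528
theorem L199594 : sm gc N21433 = N25747 := rfl
theorem L199596 : sm ga N25747 = N21434 := ded_8_1 (flp_c L168470) L168462 L199594
theorem L199598 : sm ge N25747 = N25322 := ded_19_2 L197069 (flp_e L168466) L199594
theorem L199600 : sm gg N25747 = N24470 := ded_21_2 (flp_c L190693) L168468 L199594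
theorem L199602 : sm gb N25747 = N24684 := ded_13_1 (flp_c L192159) L180545 L180537 L177767 L199594
theorem L199604 : sm gb N21434 = N25748 := rfl
theorem L199606 : sm ge N25748 = N25686 := ded_15_2 L199225 (flp_e L168472) L199604
theorem L199608 : sm gc N25748 = N21437 := ded_13_2 (flp_b L168492) (flp_c L116753) L116747 L168470 L199604
theorem L199610 : sm gd N21434 = N25749 := rfl
theorem L199612 : sm gf N21434 = N25750 := rfl
theorem L199614 : sm gc N25750 = N21435 := ded_20_1 (flp_f L168474) L168470 L199612
theorem L199616 : sm ge N25750 = N25671 := ded_25_1 L199162 (flp_e L168472) L199612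
theorem L199618 : sm gg N21434 = N25751 := rfl
theorem L199620 : sm ga N25751 = N24470 := ded_12_1 (flp_g L199600) L199596 L199618
theorem L199622 : sm gc N25751 = N21436 := ded_21_1 (flp_g L168482) L168470 L199618
theorem L199624 : sm ge N25751 = N25320 := ded_26_1 L197059 (flp_e L168472) L199618
theorem L199626 : sm gf N25424 = N25751 := ded_20_0 L199622 (flp_f L168490) L197733
theorem L199628 : sm ga N21437 = N25752 := rfl
theorem L199630 : sm ge N25752 = N25685 := ded_10_2 (flp_a L199221) (flp_e L168494) L199628
theorem L199632 : sm gb N25752 = N25685 := ded_7_2 (flp_a L199221) (flp_b L168220) L116607 L116626 L156846 L116741 (flp_a L116755) L168492 L199628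
theorem L199634 : sm gf N25741 = N25752 := ded_25_0 L199630 L199297 (flp_e L199554)
theorem L199636 : sm gd N21437 = N25753 := rfl
theorem L199638 : sm gb N25753 = N21438 := ded_14_1 (flp_d L168496) L168492 L199636
theorem L199640 : sm gf N21437 = N25754 := rfl
theorem L199642 : sm ga N25754 = N25741 := ded_11_1 L199634 (flp_a L199628) L199640
theorem L199644 : sm ge N25754 = N25680 := ded_25_1 L199197 (flp_e L168494) L199640
theorem L199646 : sm gb N25754 = N21455 := ded_16_1 (flp_f L168608) (flp_b L116815) (flp_f L116759) L168492 L199640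
theorem L199648 : sm gg N21437 = N25755 := rfl
theorem L199650 : sm ge N25755 = N25687 := ded_26_1 (flp_g L199227) (flp_e L168494) L199648
theorem L199652 : sm gf N25755 = N21442 := ded_29_2 (flp_g L199556) (flp_a L199642) (flp_f L199640) L199648
theorem L199654 : sm ge N21438 = N25756 := rfl
theorem L199656 : sm ga N25756 = N21440 := ded_10_1 (flp_e L168506) (flp_a L168498) L199654
theorem L199658 : sm gf N25756 = N21457 := ded_25_2 (flp_e L168616) (flp_f L168500) L199654
theorem L199660 : sm gd N25756 = N25683 := ded_22_1 L199213 L168216 (flp_e L116757) L168496 L199654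
theorem L199662 : sm gb N21439 = N25757 := rfl
theorem L199664 : sm ge N21439 = N25758 := rfl
theorem L199666 : sm gc N25758 = N21440 := ded_19_1 (flp_e L168506) L168502 L199664
theorem L199668 : sm gf N25758 = N21462 := ded_25_2 (flp_e L168641) (flp_f L168504) L199664
theorem L199670 : sm gg N21439 = N25759 := rfl
theorem L199672 : sm gc N25759 = N21441 := ded_21_1 (flp_g L168512) L168502 L199670
theorem L199674 : sm gd N25759 = N21784 := ded_24_1 L170676 (flp_d L170288) L199670
theorem L199676 : sm gf N21780 = N25759 := ded_29_0 (flp_g L199670) L168504 L168645 (flp_a L170654)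
theorem L199678 : sm gg N21440 = N25760 := rfl
theorem L199680 : sm gd N25760 = N25698 := ded_24_1 (flp_g L199272) (flp_d L168510) L199678
theorem L199682 : sm ge N25760 = N21441 := ded_26_1 (flp_g L168512) L168506 L199678
theorem L199684 : sm gb N21441 = N25761 := rfl
theorem L199686 : sm gd N25761 = N21442 := ded_14_2 (flp_b L168516) (flp_d L168514) L199684
theorem L199688 : sm ga N21442 = N25762 := rfl
theorem L199690 : sm ge N25762 = N25703 := ded_10_2 (flp_a L199313) (flp_e L168518) L199688
theorem L199692 : sm gg N25762 = N25754 := ded_12_2 L199642 L199556 L199688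
theorem L199694 : sm gc N21442 = N25763 := rfl
theorem L199696 : sm ge N25763 = N25704 := ded_19_2 (flp_c L199317) (flp_e L168518) L199694
theorem L199698 : sm gb N25763 = N21444 := ded_13_1 (flp_c L168530) (flp_b L116771) (flp_c L116767) L168516 L199694
theorem L199700 : sm gc N21443 = N25764 := rfl
theorem L199702 : sm ga N25764 = N21444 := ded_8_1 (flp_c L168530) L168520 L199700
theorem L199704 : sm ge N25764 = N25705 := ded_19_2 (flp_c L199321) (flp_e L168524) L199700
theorem L199706 : sm gg N25764 = N21446 := ded_21_2 (flp_c L168544) (flp_g L168526) L199700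
theorem L199708 : sm gd N21444 = N25765 := rfl
theorem L199710 : sm gg N25765 = N21448 := ded_24_2 (flp_d L168560) (flp_g L168534) L199708
theorem L199712 : sm gf N21444 = N25766 := rfl
theorem L199714 : sm gc N25766 = N21445 := ded_20_1 (flp_f L168536) L168530 L199712
theorem L199716 : sm ge N25766 = N25707 := ded_25_1 (flp_f L199337) (flp_e L168532) L199712
theorem L199718 : sm gb N21446 = N25767 := rfl
theorem L199720 : sm ge N25767 = N25321 := ded_15_2 L197063 (flp_e L180615) L199718
theorem L199722 : sm gd N21446 = N25768 := rfl
theorem L199724 : sm ga N25768 = N21448 := ded_9_1 (flp_d L168560) (flp_a L168546) L199722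
theorem L199726 : sm gf N21446 = N25769 := rfl
theorem L199728 : sm ga N25769 = N21449 := ded_11_1 (flp_f L168562) (flp_a L168546) L199726
theorem L199730 : sm gc N25769 = N21447 := ded_20_1 (flp_f L168548) L168544 L199726
theorem L199732 : sm ge N25769 = N25484 := ded_25_1 L198035 (flp_e L180615) L199726
theorem L199734 : sm gg N25766 = N25769 := ded_29_1 (flp_f L199726) (flp_g L199706) L199702 L199712
theorem L199736 : sm gc N21448 = N25770 := rfl
theorem L199738 : sm ge N21448 = N25771 := rfl
theorem L199740 : sm gf N21448 = N25772 := rfl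
theorem L199742 : sm gd N25772 = N21449 := ded_23_1 (flp_f L168562) L168560 L199740
theorem L199744 : sm gb N21449 = N25773 := rfl
theorem L199746 : sm gc N25773 = N25451 := ded_13_2 (flp_b L197859) L167210 (flp_b L116789) (flp_c L168564) L199744
theorem L199748 : sm gg N21449 = N25774 := rfl
theorem L199750 : sm ga N25774 = N25766 := ded_12_1 L199734 L199728 L199748
theorem L199752 : sm gc N25774 = N21450 := ded_21_1 (flp_g L168566) (flp_c L168564) L199748
theorem L199754 : sm gf N25764 = N25774 := ded_29_0 (flp_g L199748) (flp_f L168562) (flp_g L168534) (flp_a L199702)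
theorem L199756 : sm gc N21452 = N25775 := rfl
theorem L199758 : sm ge N25775 = N25646 := ded_19_2 L199056 (flp_e L168594) L199756
theorem L199760 : sm gf N25775 = N25307 := ded_20_2 (flp_c L196973) (flp_f L168596) L199756
theorem L199762 : sm gg N25775 = N21460 := ded_21_2 (flp_c L168634) (flp_g L168598) L199756
theorem L199764 : sm gb N21453 = N25776 := rfl
theorem L199766 : sm ge N25776 = N25672 := ded_15_2 (flp_b L199166) (flp_e L168602) L199764
theorem L199768 : sm gc N25776 = N25672 := ded_13_2 (flp_b L199166) (flp_c L181085) L181091 L180985 L199764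
theorem L199770 : sm ga N25776 = N25776 := ded_7_1 (flp_b L199764) (flp_a L168600) (flp_b L116815) L95997 L84660 (flp_a L95997) L116815 L168600 L199764
theorem L199771 : sm gd N21453 = N25777 := rfl
theorem L199773 : sm ga N25777 = N21454 := ded_9_1 (flp_d L168604) L168600 L199771
theorem L199775 : sm gf N21453 = N25778 := rfl
theorem L199777 : sm ga N25778 = N21455 := ded_11_1 (flp_f L168608) L168600 L199775
theorem L199779 : sm ge N25778 = N25674 := ded_25_1 (flp_f L199173) (flp_e L168602) L199775
theorem L199781 : sm gb N25674 = N25778 := ded_7_0 L199777 (flp_b L199646) L199642 (flp_b L199552) L168426 L199291 L199299 (flp_b L199195) (flp_a L199175)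
theorem L199783 : sm gf N25776 = N25672 := ded_16_4 (flp_b L199166) L199173 L199781 (flp_f L199775) L199764
theorem L199785 : sm gg N21453 = N25779 := rfl
theorem L199787 : sm ga N25779 = N21456 := ded_12_1 (flp_g L168612) L168600 L199785
theorem L199789 : sm ge N25779 = N25675 := ded_26_1 (flp_g L199177) (flp_e L168602) L199785
theorem L199791 : sm gb N25675 = N25779 := ded_31_14 (flp_g L199785) L199775 (flp_b L199781) (flp_g L199207) (flp_f L199203) (flp_b L199068) (flp_g L199066) L199064 L199303 (flp_g L199227) (flp_f L199197) (flp_b L199195) L199199 (flp_f L199201)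
theorem L199793 : sm gg N25776 = N25672 := ded_17_2 (flp_b L199166) L199177 L199791 (flp_g L199785) L199764
theorem L199795 : sm gc N21454 = N25780 := rfl
theorem L199797 : sm ge N21454 = N25781 := rfl
theorem L199799 : sm gb N25781 = N21457 := ded_15_1 (flp_e L168616) (flp_b L168606) L199797
theorem L199801 : sm gd N25781 = N25677 := ded_22_1 (flp_e L199183) (flp_d L168200) (flp_e L116817) L168604 L199797
theorem L199803 : sm gf N21454 = N25782 := rfl
theorem L199805 : sm gd N25782 = N21455 := ded_23_1 (flp_f L168608) L168604 L199803
theorem L199807 : sm gg N21454 = N25783 := rfl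
theorem L199809 : sm gd N25783 = N21456 := ded_24_1 (flp_g L168612) L168604 L199807
theorem L199811 : sm gg N21455 = N25784 := rfl
theorem L199813 : sm ge N25784 = N25681 := ded_26_1 (flp_g L199199) (flp_e L168610) L199811
theorem L199815 : sm gf N25779 = N25784 := ded_29_0 (flp_g L199811) (flp_f L168608) L168612 (flp_a L199787)
theorem L199817 : sm gb N21456 = N25785 := rfl
theorem L199819 : sm ge N25785 = N25650 := ded_15_2 L199068 (flp_e L168614) L199817
theorem L199821 : sm gg N25785 = N21459 := ded_17_2 (flp_b L168630) (flp_g L116823) L116815 L168612 L199817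
theorem L199823 : sm gf N21456 = N25786 := rfl
theorem L199825 : sm ga N25786 = N25784 := ded_11_1 (flp_f L199815) L199787 L199823
theorem L199827 : sm ge N25786 = N25682 := ded_25_1 (flp_f L199203) (flp_e L168614) L199823
theorem L199829 : sm gg N25786 = N25778 := ded_29_3 L199777 (flp_f L168608) L168612 L199823
theorem L199831 : sm gg N21457 = N25787 := rfl
theorem L199833 : sm ga N25787 = N21464 := ded_12_1 (flp_g L168649) (flp_a L168618) L199831
theorem L199835 : sm gd N25787 = N25651 := ded_24_1 L199074 (flp_d L168620) L199831
theorem L199837 : sm ge N25787 = N21458 := ded_26_1 (flp_g L168622) L168616 L199831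
theorem L199839 : sm gf N25787 = N25760 := ded_29_2 (flp_g L199678) (flp_a L199656) L199658 L199831
theorem L199841 : sm gb N21458 = N25788 := rfl
theorem L199843 : sm gd N25788 = N21459 := ded_14_2 (flp_b L168630) (flp_d L168626) L199841
theorem L199845 : sm ga N21459 = N25789 := rfl
theorem L199847 : sm ge N25789 = N25647 := ded_10_2 (flp_a L199058) (flp_e L168632) L199845
theorem L199849 : sm gb N25789 = N25647 := ded_7_2 (flp_a L199058) (flp_b L168106) L116555 (flp_b L116543) (flp_a L168064) (flp_b L116850) (flp_a L116825) L168630 L199845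
theorem L199851 : sm gc N21459 = N25790 := rfl
theorem L199853 : sm ge N25790 = N25643 := ded_19_2 L199040 (flp_e L168632) L199851
theorem L199855 : sm gb N25790 = N21460 := ded_13_1 (flp_c L168634) (flp_b L116833) (flp_c L116827) L168630 L199851
theorem L199857 : sm gf N21459 = N25791 := rfl
theorem L199859 : sm ge N25791 = N25649 := ded_25_1 (flp_f L199064) (flp_e L168632) L199857
theorem L199861 : sm gb N25791 = N25755 := ded_16_1 L199652 (flp_b L168516) (flp_f L116831) L168630 L199857
theorem L199863 : sm gg N21468 = N25791 := ded_31_0 (flp_f L199857) (flp_b L168630) (flp_g L116823) (flp_f L116759) L168492 L199648 L199652 (flp_b L168516) (flp_g L116765) L95977 L84660 L96014 L116857 L168680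
theorem L199865 : sm gd N21460 = N25792 := rfl
theorem L199867 : sm ga N21461 = N25793 := rfl
theorem L199869 : sm gc N25793 = N25793 := ded_8_2 (flp_a L199867) L168640 L199867
theorem L199870 : sm ge N21461 = N25794 := rfl
theorem L199872 : sm gb N25794 = N21462 := ded_15_1 (flp_e L168641) L168638 L199870
theorem L199874 : sm gc N25794 = N25794 := ded_19_1 (flp_e L199870) L168640 L199870
theorem L199875 : sm gf N21461 = N25795 := rfl
theorem L199877 : sm gc N25795 = N25795 := ded_20_1 (flp_f L199875) L168640 L199875
theorem L199878 : sm gg N21461 = N25796 := rfl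
theorem L199881 : sm gd N21462 = N25797 := rfl
theorem L199883 : sm gg N21462 = N25798 := rfl
theorem L199885 : sm gc N25798 = N21464 := ded_21_1 (flp_g L168649) (flp_c L168643) L199883
theorem L199887 : sm ge N25798 = N21463 := ded_26_1 (flp_g L168645) L168641 L199883
theorem L199889 : sm gb N21463 = N25799 := rfl
theorem L199891 : sm gf N21463 = N25800 := rfl
theorem L199893 : sm ga N25800 = N25759 := ded_11_1 (flp_f L199676) L170654 L199891
theorem L199895 : sm gc N25800 = N21466 := ded_20_1 (flp_f L168662) (flp_c L168647) L199891
theorem L199897 : sm gd N25800 = N21725 := ded_23_1 (flp_f L170594) L170592 L199891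
theorem L199899 : sm gg N25800 = N21723 := ded_29_3 L170302 L168504 L168645 L199891
theorem L199901 : sm gb N21464 = N25801 := rfl
theorem L199903 : sm gd N25801 = N25634 := ded_14_2 L198981 (flp_d L168651) L199901
theorem L199905 : sm ge N25801 = N21465 := ded_15_2 (flp_b L168655) (flp_e L168653) L199901
theorem L199907 : sm gg N25801 = N25801 := ded_17_2 (flp_b L199901) (flp_g L168649) L116843 L168649 L199901
theorem L199908 : sm ga N25634 = N25801 := ded_10_3 L199905 (flp_a L168660) L198979
theorem L199910 : sm gf N21464 = N25802 := rfl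
theorem L199912 : sm ga N25802 = N25760 := ded_11_1 (flp_f L199839) L199833 L199910
theorem L199914 : sm gd N25802 = N25655 := ded_23_1 (flp_f L199092) (flp_d L168651) L199910
theorem L199916 : sm ge N25802 = N21466 := ded_25_1 (flp_f L168662) (flp_e L168653) L199910
theorem L199918 : sm gg N25802 = N25756 := ded_29_3 L199656 L168508 L168649 L199910
theorem L199920 : sm gc N21465 = N25803 := rfl
theorem L199922 : sm ga N25803 = N25633 := ded_8_1 (flp_c L198976) L168660 L199920
theorem L199924 : sm gg N25803 = N25803 := ded_21_2 (flp_c L199920) L168659 L199920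
theorem L199925 : sm gf N21465 = N25804 := rfl
theorem L199927 : sm ga N25804 = N25635 := ded_11_1 (flp_f L198984) L168660 L199925
theorem L199929 : sm gd N25804 = N21467 := ded_23_1 (flp_f L168670) (flp_d L168657) L199925
theorem L199931 : sm gg N25804 = N25635 := ded_29_3 (flp_a L199927) (flp_f L199925) L168659 L199925
theorem L199933 : sm gb N21466 = N25805 := rfl
theorem L199935 : sm gd N25805 = N21468 := ded_14_2 (flp_b L168680) (flp_d L168666) L199933
theorem L199937 : sm gb N21467 = N25806 := rfl
theorem L199939 : sm ge N25806 = N25636 := ded_15_2 (flp_b L198988) (flp_e L168676) L199937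
theorem L199941 : sm gf N25806 = N21468 := ded_16_2 (flp_b L168680) (flp_f L116857) L116850 L168670 L199937
theorem L199943 : sm gg N25806 = N25789 := ded_17_2 L199849 (flp_g L199311) (flp_b L198988) (flp_g L168678) L199937
theorem L199945 : sm ga N25806 = N25785 := ded_7_1 (flp_b L199817) (flp_a L199787) (flp_b L199791) L199179 (flp_b L199068) L199309 (flp_b L198988) (flp_a L168672) L199937
theorem L199947 : sm ga N21468 = N25807 := rfl
theorem L199949 : sm ge N25807 = N25657 := ded_10_2 (flp_a L199100) (flp_e L168682) L199947
theorem L199951 : sm gf N25807 = N25785 := ded_11_2 (flp_a L199945) L199941 L199947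
theorem L199953 : sm gc N21468 = N25808 := rfl
theorem L199955 : sm ge N25808 = N25658 := ded_19_2 (flp_c L199102) (flp_e L168682) L199953
theorem L199957 : sm gb N25808 = N21470 := ded_13_1 (flp_c L168692) (flp_b L116867) (flp_c L116861) L168680 L199953
theorem L199959 : sm gc N21469 = N25809 := rfl
theorem L199961 : sm ga N25809 = N21470 := ded_8_1 (flp_c L168692) L168684 L199959
theorem L199963 : sm ge N25809 = N25660 := ded_19_2 (flp_c L199108) (flp_e L168688) L199959
theorem L199965 : sm gf N25809 = N23123 := ded_20_2 (flp_c L180681) (flp_f L168690) L199959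
theorem L199967 : sm gd N23118 = N25809 := ded_28_1 (flp_c L199959) L168686 L170708 (flp_d L170718) L164729 (flp_d L180647) (flp_a L180645) L180651
theorem L199969 : sm gd N21470 = N25810 := rfl
theorem L199971 : sm ga N25810 = N23118 := ded_9_1 L199967 L199961 L199969
theorem L199973 : sm gf N25810 = N23121 := ded_23_2 (flp_d L180667) (flp_f L168696) L199969
theorem L199975 : sm gc N23117 = N25810 := ded_28_0 (flp_d L199969) (flp_c L168692) L116869 L118111 (flp_d L163661) (flp_c L144521) (flp_d L144361) L180645
theorem L199977 : sm gg N21470 = N25811 := rfl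
theorem L199979 : sm gc N25811 = N21471 := ded_21_1 (flp_g L168698) L168692 L199977
theorem L199981 : sm ge N25811 = N25662 := ded_26_1 (flp_g L199118) (flp_e L168694) L199977
theorem L199983 : sm gf N25450 = N25811 := ded_29_0 (flp_g L199977) L168696 L192121 (flp_a L197853)
theorem L199985 : sm gd N21472 = N25812 := rfl
theorem L199987 : sm ga N25812 = N24459 := ded_9_1 (flp_d L190611) (flp_a L168710) L199985
theorem L199989 : sm gb N25812 = N24559 := ded_14_1 (flp_d L191295) (flp_b L168716) L199985
theorem L199991 : sm gf N25812 = N25290 := ded_23_2 (flp_d L196867) (flp_f L168714) L199985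
theorem L199993 : sm gc N25290 = N25812 := ded_28_0 (flp_d L199985) (flp_c L168708) L144302 (flp_c L144291) L103824 L115192 L166142 (flp_a L196869)
theorem L199995 : sm gb N21473 = N25813 := rfl
theorem L199997 : sm gd N25813 = N21474 := ded_14_2 (flp_b L168724) (flp_d L168722) L199995
theorem L199999 : sm gg N25813 = N21478 := ded_17_2 (flp_b L168760) (flp_g L116925) (flp_b L116891) L168718 L199995
theorem L200001 : sm gf N21473 = N25814 := rfl
theorem L200003 : sm ga N25814 = N23341 := ded_11_1 (flp_f L192927) L192919 L200001
theorem L200005 : sm gc N25814 = N22906 := ded_20_1 (flp_f L179033) (flp_c L168720) L200001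
theorem L200007 : sm gd N25814 = N21475 := ded_23_1 (flp_f L168730) (flp_d L168722) L200001
theorem L200009 : sm ge N25814 = N23338 := ded_25_1 L182205 L182203 L200001
theorem L200011 : sm gg N25814 = N23336 := ded_29_3 L182145 (flp_f L145310) L168718 L200001
theorem L200013 : sm gb N25324 = N25814 := ded_14_3 L200007 (flp_b L168740) L197083
theorem L200015 : sm ga N21474 = N25815 := rfl
theorem L200017 : sm ge N25815 = N22046 := ded_10_2 (flp_a L172448) (flp_e L168726) L200015
theorem L200019 : sm gg N25815 = N21481 := ded_12_2 (flp_a L168780) (flp_g L168728) L200015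
theorem L200021 : sm gb N24072 = N25815 := ded_15_3 L200017 (flp_b L172466) (flp_e L187775)
theorem L200023 : sm gc N21474 = N25816 := rfl
theorem L200025 : sm ge N25816 = N22047 := ded_19_2 (flp_c L172452) (flp_e L168726) L200023
theorem L200027 : sm gg N25816 = N21482 := ded_21_2 (flp_c L168784) (flp_g L168728) L200023
theorem L200029 : sm gb N25816 = N21497 := ded_13_1 (flp_c L168883) (flp_b L117025) (flp_c L116909) L168724 L200023
theorem L200031 : sm gf N21753 = N25816 := ded_25_0 L200025 (flp_f L172458) (flp_e L170502)
theorem L200033 : sm gf N21474 = N25817 := rfl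
theorem L200035 : sm gc N25817 = N21753 := ded_20_1 L200031 (flp_c L200023) L200033
theorem L200037 : sm ge N25817 = N22048 := ded_25_1 (flp_f L172460) (flp_e L168726) L200033
theorem L200039 : sm gb N25817 = N21754 := ded_16_1 L170508 L168740 (flp_f L168730) L168724 L200033
theorem L200041 : sm gb N21476 = N25818 := rfl
theorem L200043 : sm gd N25818 = N22049 := ded_14_2 (flp_b L172468) (flp_d L168746) L200041
theorem L200045 : sm ge N25818 = N21478 := ded_15_2 (flp_b L168760) (flp_e L168748) L200041
theorem L200047 : sm gb N21477 = N25819 := rfl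
theorem L200049 : sm gd N25819 = N21480 := ded_14_2 (flp_b L168774) (flp_d L168754) L200047
theorem L200051 : sm ge N25819 = N23359 := ded_15_2 L182305 (flp_e L168756) L200047
theorem L200053 : sm gg N25819 = N23349 := ded_17_2 (flp_b L182243) L145356 (flp_b L120281) L168750 L200047
theorem L200055 : sm ga N21478 = N25820 := rfl
theorem L200057 : sm gd N25820 = N21481 := ded_9_2 (flp_a L168780) (flp_d L168762) L200055
theorem L200059 : sm gc N21478 = N25821 := rfl
theorem L200061 : sm gb N25821 = N23225 := ded_13_1 (flp_c L181375) (flp_b L144845) (flp_c L116927) L168760 L200059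
theorem L200063 : sm gf N21478 = N25822 := rfl
theorem L200065 : sm gd N25822 = N21483 := ded_23_1 (flp_f L168790) (flp_d L168762) L200063
theorem L200067 : sm gb N21479 = N25823 := rfl
theorem L200069 : sm gd N25823 = N21484 := ded_14_2 (flp_b L168794) (flp_d L168770) L200067
theorem L200071 : sm ga N21480 = N25824 := rfl
theorem L200073 : sm ge N25824 = N22054 := ded_10_2 (flp_a L172487) (flp_e L168776) L200071
theorem L200075 : sm gg N25824 = N21824 := ded_12_2 (flp_a L170951) (flp_g L168778) L200071
theorem L200077 : sm gc N23613 = N25824 := ded_19_3 L200073 L172493 L184043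
theorem L200079 : sm gc N21480 = N25825 := rfl
theorem L200081 : sm ga N25825 = N23613 := ded_8_1 L200077 (flp_a L200071) L200079
theorem L200083 : sm ge N25825 = N22055 := ded_19_2 (flp_c L172495) (flp_e L168776) L200079
theorem L200085 : sm gg N25825 = N23651 := ded_21_2 (flp_c L184322) (flp_g L168778) L200079
theorem L200087 : sm gb N25825 = N21485 := ded_13_1 (flp_c L168798) (flp_b L116957) (flp_c L116937) L168774 L200079
theorem L200089 : sm gf N21480 = N25826 := rfl
theorem L200091 : sm ge N25826 = N22056 := ded_25_1 (flp_f L172505) (flp_e L168776) L200089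
theorem L200093 : sm gb N25826 = N24704 := ded_16_1 (flp_f L192293) (flp_b L160112) L116941 L168774 L200089
theorem L200095 : sm gb N21481 = N25827 := rfl
theorem L200097 : sm ge N25827 = N22057 := ded_15_2 (flp_b L172511) (flp_e L168782) L200095
theorem L200099 : sm gg N25827 = N24069 := ded_17_2 (flp_b L187747) L187769 L200021 L200019 L200095
theorem L200101 : sm ga N24830 = N25827 := ded_10_3 L200097 (flp_a L172515) (flp_e L193101)
theorem L200103 : sm gc N24076 = N25827 := ded_19_3 L200097 (flp_c L172517) (flp_e L187795)
theorem L200105 : sm gc N21481 = N25828 := rfl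
theorem L200107 : sm ga N25828 = N21482 := ded_8_1 (flp_c L168784) L168780 L200105
theorem L200109 : sm ge N25828 = N22058 := ded_19_2 (flp_c L172519) (flp_e L168782) L200105
theorem L200111 : sm gf N21481 = N25829 := rfl
theorem L200113 : sm ga N25829 = N21483 := ded_11_1 (flp_f L168790) L168780 L200111
theorem L200115 : sm ge N25829 = N22059 := ded_25_1 (flp_f L172523) (flp_e L168782) L200111
theorem L200117 : sm gg N25817 = N25829 := ded_29_1 (flp_f L200111) (flp_g L200019) (flp_a L200015) L200033
theorem L200119 : sm gb N25829 = N24912 := ded_31_2 L193609 (flp_f L192539) (flp_b L192535) L192551 L192557 L192533 L183613 L152778 (flp_b L160728) L193199 (flp_f L193207) L200021 L200019 L200111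
theorem L200121 : sm gd N21482 = N25830 := rfl
theorem L200123 : sm gb N25830 = N21487 := ded_14_1 (flp_d L168816) (flp_b L168788) L200121
theorem L200125 : sm gf N21482 = N25831 := rfl
theorem L200127 : sm gc N25831 = N21483 := ded_20_1 (flp_f L168790) L168784 L200125
theorem L200129 : sm ge N25831 = N22061 := ded_25_1 (flp_f L172533) (flp_e L168786) L200125
theorem L200131 : sm gg N21483 = N25832 := rfl
theorem L200133 : sm ga N25832 = N25817 := ded_12_1 L200117 L200113 L200131
theorem L200135 : sm ge N25832 = N22062 := ded_26_1 (flp_g L172537) (flp_e L168792) L200131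
theorem L200137 : sm gf N25815 = N25832 := ded_29_0 (flp_g L200131) (flp_f L168790) (flp_g L168728) L200015
theorem L200139 : sm gb N24043 = N25832 := ded_7_0 L200133 L200039 L170961 (flp_b L170953) L118292 L96667 (flp_a L108049) L156360 L187589
theorem L200141 : sm gc N21484 = N25833 := rfl
theorem L200143 : sm ge N25833 = N22063 := ded_19_2 (flp_c L172545) (flp_e L168796) L200141
theorem L200145 : sm gb N25833 = N21489 := ded_13_1 (flp_c L168828) (flp_b L116985) (flp_c L116951) L168794 L200141
theorem L200147 : sm gg N21484 = N25834 := rfl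
theorem L200149 : sm ge N25834 = N22064 := ded_26_1 (flp_g L172549) (flp_e L168796) L200147
theorem L200151 : sm gf N25834 = N21560 := ded_29_2 (flp_g L169277) L169259 (flp_f L169265) L200147
theorem L200153 : sm gb N25834 = N24565 := ded_17_1 (flp_g L191333) L159487 (flp_g L116955) L168794 L200147
theorem L200155 : sm gd N21485 = N25835 := rfl
theorem L200157 : sm ga N25835 = N24609 := ded_9_1 L191646 (flp_a L168800) L200155
theorem L200159 : sm gf N25835 = N24604 := ded_23_2 (flp_d L191610) (flp_f L168804) L200155
theorem L200161 : sm gd N21486 = N25836 := rfl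
theorem L200163 : sm ga N25836 = N21487 := ded_9_1 (flp_d L168816) (flp_a L168808) L200161
theorem L200165 : sm gf N25836 = N24647 := ded_23_2 (flp_d L191898) (flp_f L168812) L200161
theorem L200167 : sm gg N25836 = N21513 := ded_24_2 (flp_d L168977) (flp_g L168814) L200161
theorem L200169 : sm gc N21487 = N25837 := rfl
theorem L200171 : sm gg N25837 = N21515 := ded_21_2 (flp_c L168991) (flp_g L168818) L200169
theorem L200173 : sm ge N21487 = N25838 := rfl
theorem L200175 : sm gg N25838 = N21516 := ded_26_2 (flp_e L168993) (flp_g L168818) L200173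
theorem L200177 : sm gd N25838 = N22067 := ded_22_1 (flp_e L172577) (flp_d L121723) (flp_e L116975) L168816 L200173
theorem L200179 : sm gf N21487 = N25839 := rfl
theorem L200181 : sm ga N25839 = N24647 := ded_11_1 (flp_f L200165) L200163 L200179
theorem L200183 : sm gd N25839 = N21488 := ded_23_1 (flp_f L168820) L168816 L200179
theorem L200185 : sm gb N21488 = N25840 := rfl
theorem L200187 : sm ge N25840 = N22069 := ded_15_2 (flp_b L172589) (flp_e L168826) L200185
theorem L200189 : sm gd N21489 = N25841 := rfl
theorem L200191 : sm ga N25841 = N21676 := ded_9_1 L170004 (flp_a L168830) L200189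
theorem L200193 : sm gg N25841 = N21673 := ded_24_2 (flp_d L169992) (flp_g L168834) L200189
theorem L200195 : sm ga N21490 = N25842 := rfl
theorem L200197 : sm ge N25842 = N22076 := ded_10_2 (flp_a L172641) (flp_e L168838) L200195
theorem L200199 : sm gg N25842 = N25842 := ded_12_2 (flp_a L200195) L168840 L200195
theorem L200200 : sm gb N21796 = N25842 := ded_15_3 L200197 L172657 (flp_e L170777)
theorem L200202 : sm gf N21505 = N25842 := ded_25_0 L200197 (flp_f L172653) (flp_e L168929)
theorem L200204 : sm gc N21490 = N25843 := rfl
theorem L200206 : sm ge N25843 = N22077 := ded_19_2 (flp_c L172644) (flp_e L168838) L200204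
theorem L200208 : sm gg N25843 = N25843 := ded_21_2 (flp_c L200204) L168840 L200204
theorem L200209 : sm gb N25843 = N24340 := ded_13_1 L192935 (flp_b L192929) L160556 L168836 L200204
theorem L200211 : sm gf N21490 = N25844 := rfl
theorem L200213 : sm ga N25844 = N21505 := ded_11_1 L200202 (flp_a L200195) L200211
theorem L200215 : sm ge N25844 = N22078 := ded_25_1 (flp_f L172647) (flp_e L168838) L200211
theorem L200217 : sm gg N25844 = N21505 := ded_29_3 (flp_a L200213) (flp_f L200211) L168840 L200211
theorem L200219 : sm gb N25844 = N21541 := ded_16_1 (flp_f L171898) (flp_b L168873) (flp_f L117023) L168836 L200211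
theorem L200221 : sm gb N21491 = N25845 := rfl
theorem L200223 : sm gd N25845 = N22085 := ded_14_2 (flp_b L172711) (flp_d L168843) L200221
theorem L200225 : sm ge N25845 = N21493 := ded_15_2 (flp_b L168855) (flp_e L168845) L200221
theorem L200227 : sm gg N25845 = N21501 := ded_17_2 (flp_b L168909) (flp_g L117063) (flp_b L117007) L168841 L200221
theorem L200229 : sm gb N21492 = N25846 := rfl
theorem L200231 : sm gd N25846 = N21495 := ded_14_2 (flp_b L168873) (flp_d L168851) L200229
theorem L200233 : sm ga N21493 = N25847 := rfl
theorem L200235 : sm gd N25847 = N21496 := ded_9_2 (flp_a L168877) (flp_d L168857) L200233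
theorem L200237 : sm gg N25847 = N21502 := ded_12_2 (flp_a L168915) (flp_g L168859) L200233
theorem L200239 : sm gc N21493 = N25848 := rfl
theorem L200241 : sm gg N25848 = N21503 := ded_21_2 (flp_c L168919) (flp_g L168859) L200239
theorem L200243 : sm gc N21495 = N25849 := rfl
theorem L200245 : sm ga N25849 = N24635 := ded_8_1 (flp_c L191800) L171900 L200243
theorem L200247 : sm ge N25849 = N22089 := ded_19_2 (flp_c L172737) (flp_e L168875) L200243
theorem L200249 : sm gg N25849 = N23023 := ded_21_2 (flp_c L198043) L198047 L200243
theorem L200251 : sm gb N21496 = N25850 := rfl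
theorem L200253 : sm ge N25850 = N22090 := ded_15_2 (flp_b L172745) (flp_e L168879) L200251
theorem L200255 : sm gg N25850 = N21541 := ded_17_2 (flp_b L200219) L200217 (flp_b L168927) (flp_g L168881) L200251
theorem L200257 : sm ga N25850 = N21544 := ded_7_1 L169177 (flp_a L170773) L200200 (flp_a L200195) (flp_b L168836) L117001 L117025 L168877 L200251
theorem L200259 : sm gc N23050 = N25850 := ded_19_3 L200253 (flp_c L172751) (flp_e L180145)
theorem L200261 : sm gc N21496 = N25851 := rfl
theorem L200263 : sm ga N25851 = N21497 := ded_8_1 (flp_c L168883) L168877 L200261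
theorem L200265 : sm ge N25851 = N22091 := ded_19_2 (flp_c L172753) (flp_e L168879) L200261
theorem L200267 : sm gf N25851 = N22519 := ded_20_2 L175859 (flp_f L168963) L200261
theorem L200269 : sm gg N25851 = N21506 := ded_21_2 (flp_c L168931) (flp_g L168881) L200261
theorem L200271 : sm gb N25851 = N24143 := ded_13_1 L188267 (flp_b L180147) L200259 (flp_b L200251) L200261
theorem L200273 : sm gd N21497 = N25852 := rfl
theorem L200275 : sm gg N25852 = N21508 := ded_24_2 (flp_d L168947) (flp_g L168887) L200273
theorem L200277 : sm ga N21501 = N25853 := rfl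
theorem L200279 : sm gd N25853 = N22093 := ded_9_2 (flp_a L172773) (flp_d L168911) L200277
theorem L200281 : sm ge N25853 = N21502 := ded_10_2 (flp_a L168915) (flp_e L168913) L200277
theorem L200283 : sm gf N25853 = N22843 := ded_30_4 L178541 (flp_b L175214) (flp_a L123303) L123313 L123315 (flp_b L109802) (flp_a L158672) (flp_f L158670) L158650 L158656 L151135 L171516 L178241 (flp_b L178229) L129203 L129219 L129223 L168909 L200277
theorem L200285 : sm gf N21501 = N25854 := rfl
theorem L200287 : sm ga N25854 = N22843 := ded_11_1 (flp_f L200283) (flp_a L200277) L200285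
theorem L200289 : sm gd N25854 = N22094 := ded_23_1 (flp_f L172777) (flp_d L168911) L200285
theorem L200291 : sm ge N25854 = N21504 := ded_25_1 (flp_f L168921) (flp_e L168913) L200285
theorem L200293 : sm gb N25854 = N25489 := ded_16_1 (flp_f L198074) (flp_b L167421) (flp_f L117071) L168909 L200285
theorem L200295 : sm gb N21502 = N25855 := rfl
theorem L200297 : sm gd N25855 = N21505 := ded_14_2 (flp_b L168927) (flp_d L168917) L200295
theorem L200299 : sm gc N21502 = N25856 := rfl
theorem L200301 : sm ga N25856 = N21503 := ded_8_1 (flp_c L168919) L168915 L200299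
theorem L200303 : sm gf N21502 = N25857 := rfl
theorem L200305 : sm ga N25857 = N21504 := ded_11_1 (flp_f L168921) L168915 L200303
theorem L200307 : sm gd N25857 = N21507 := ded_23_1 (flp_f L168937) (flp_d L168917) L200303
theorem L200309 : sm ge N25857 = N22843 := ded_25_1 (flp_f L200283) L200281 L200303
theorem L200311 : sm gg N25378 = N25857 := ded_29_1 (flp_f L200303) (flp_g L200237) (flp_a L200233) (flp_f L197377)
theorem L200313 : sm gb N22831 = N25857 := ded_14_3 L200307 (flp_b L168945) (flp_d L178407)
theorem L200315 : sm gd N21503 = N25858 := rfl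
theorem L200317 : sm gf N21503 = N25859 := rfl
theorem L200319 : sm gc N25859 = N21504 := ded_20_1 (flp_f L168921) L168919 L200317
theorem L200321 : sm gg N21504 = N25860 := rfl
theorem L200323 : sm ga N25860 = N25378 := ded_12_1 L200311 L200305 L200321
theorem L200325 : sm gd N25860 = N21510 := ded_24_1 (flp_g L168957) (flp_d L168923) L200321
theorem L200327 : sm gf N25847 = N25860 := ded_29_0 (flp_g L200321) (flp_f L168921) (flp_g L168859) L200233
theorem L200329 : sm gb N21538 = N25860 := ded_7_0 L200323 (flp_b L197373) L166818 L166856 (flp_a L166861) (flp_b L116098) (flp_a L96181) L117217 L169145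
theorem L200331 : sm gc N21505 = N25861 := rfl
theorem L200333 : sm ge N25861 = N22098 := ded_19_2 (flp_c L172809) (flp_e L168929) L200331
theorem L200335 : sm gb N21506 = N25862 := rfl
theorem L200337 : sm ge N25862 = N22099 := ded_15_2 (flp_b L172811) (flp_e L168935) L200335
theorem L200339 : sm gg N25862 = N24140 := ded_17_2 (flp_b L188247) L188263 (flp_b L200271) L200269 L200335
theorem L200341 : sm gd N21506 = N25863 := rfl
theorem L200343 : sm ga N25863 = N21508 := ded_9_1 (flp_d L168947) (flp_a L168933) L200341
theorem L200345 : sm gf N21506 = N25864 := rfl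
theorem L200347 : sm ga N25864 = N21509 := ded_11_1 (flp_f L168951) (flp_a L168933) L200345
theorem L200349 : sm gc N25864 = N21507 := ded_20_1 (flp_f L168937) L168931 L200345
theorem L200351 : sm ge N25864 = N22101 := ded_25_1 (flp_f L172823) (flp_e L168935) L200345
theorem L200353 : sm gg N25864 = N25379 := ded_29_3 L197381 (flp_f L200267) L200269 L200345
theorem L200355 : sm gc N21508 = N25865 := rfl
theorem L200357 : sm ge N21508 = N25866 := rfl
theorem L200359 : sm gb N25866 = N21516 := ded_15_1 (flp_e L168993) (flp_b L168949) L200357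
theorem L200361 : sm gd N25866 = N22103 := ded_22_1 (flp_e L172839) (flp_d L121891) (flp_e L117083) L168947 L200357
theorem L200363 : sm gf N21508 = N25867 := rfl
theorem L200365 : sm gd N25867 = N21509 := ded_23_1 (flp_f L168951) L168947 L200363
theorem L200367 : sm gd N21511 = N25868 := rfl
theorem L200369 : sm gg N25868 = N25296 := ded_24_2 L196907 (flp_g L168971) L200367
theorem L200371 : sm gd N21512 = N25869 := rfl
theorem L200373 : sm gb N25869 = N21513 := ded_14_1 (flp_d L168977) L168973 L200371
theorem L200375 : sm gc N21513 = N25870 := rfl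
theorem L200377 : sm ga N25870 = N21515 := ded_8_1 (flp_c L168991) (flp_a L168979) L200375
theorem L200379 : sm gd N25616 = N25870 := ded_28_1 (flp_c L200375) (flp_d L168977) (flp_c L117099) (flp_d L116495) L167924 L198855 L198857 L198869
theorem L200381 : sm ge N21513 = N25871 := rfl
theorem L200383 : sm ga N25871 = N21516 := ded_10_1 (flp_e L168993) (flp_a L168979) L200381
theorem L200385 : sm gd N25871 = N22106 := ded_22_1 (flp_e L172863) (flp_d L121913) (flp_e L117103) L168977 L200381
theorem L200387 : sm gf N21513 = N25872 := rfl
theorem L200389 : sm ga N25872 = N21517 := ded_11_1 (flp_f L168997) (flp_a L168979) L200387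
theorem L200391 : sm gd N25872 = N21514 := ded_23_1 (flp_f L168981) L168977 L200387
theorem L200393 : sm gg N25872 = N25839 := ded_29_3 L200181 (flp_f L200165) L200167 L200387
theorem L200395 : sm gb N21514 = N25873 := rfl
theorem L200397 : sm ge N25873 = N22108 := ded_15_2 (flp_b L172877) (flp_e L168987) L200395
theorem L200399 : sm gc N25873 = N21644 := ded_13_2 (flp_b L169799) L117575 L117113 (flp_c L168985) L200395
theorem L200401 : sm gb N21515 = N25874 := rfl
theorem L200403 : sm gd N21515 = N25875 := rfl
theorem L200405 : sm ga N25875 = N25616 := ded_9_1 L200379 L200377 L200403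
theorem L200407 : sm gc N25614 = N25875 := ded_28_0 (flp_d L200403) (flp_c L168991) (flp_d L117115) (flp_c L96127) (flp_d L95842) L116497 L167938 (flp_a L198857)
theorem L200409 : sm ge N21515 = N25876 := rfl
theorem L200411 : sm gc N25876 = N21516 := ded_19_1 (flp_e L168993) L168991 L200409
theorem L200413 : sm gf N21515 = N25877 := rfl
theorem L200415 : sm gc N25877 = N21517 := ded_20_1 (flp_f L168997) L168991 L200413
theorem L200417 : sm gf N21516 = N25878 := rfl
theorem L200419 : sm gd N25878 = N22112 := ded_23_1 (flp_f L172899) (flp_d L168995) L200417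
theorem L200421 : sm ge N25878 = N21517 := ded_25_1 (flp_f L168997) L168993 L200417
theorem L200423 : sm gb N21517 = N25879 := rfl
theorem L200425 : sm gd N25879 = N21518 := ded_14_2 (flp_b L169001) (flp_d L168999) L200423
theorem L200427 : sm ga N21518 = N25880 := rfl
theorem L200429 : sm gc N25880 = N25508 := ded_8_2 (flp_a L198179) (flp_c L169005) L200427
theorem L200431 : sm ge N25880 = N22113 := ded_10_2 (flp_a L172905) (flp_e L169003) L200427
theorem L200433 : sm gf N25880 = N24065 := ded_11_2 (flp_a L187721) (flp_f L175901) L200427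
theorem L200435 : sm gg N22524 = N25880 := ded_29_3 (flp_a L200427) L175901 (flp_g L175895) L175889
theorem L200437 : sm gb N21814 = N25880 := ded_30_2 (flp_a L200427) L175901 (flp_c L198105) (flp_b L198101) (flp_a L167818) (flp_f L167816) L116426 (flp_b L115624) (flp_a L115599) L115605 L115363 L115367 (flp_a L159759) L166436 (flp_c L170957) (flp_b L170953) L118292 L118322 (flp_c L170897)
theorem L200439 : sm gg N21518 = N25881 := rfl
theorem L200441 : sm ga N25881 = N22524 := ded_12_1 L200435 (flp_a L200427) L200439
theorem L200443 : sm gc N25881 = N25498 := ded_21_1 L198121 (flp_c L169005) L200439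
theorem L200445 : sm ge N25881 = N22114 := ded_26_1 (flp_g L172917) (flp_e L169003) L200439
theorem L200447 : sm gf N22520 = N25881 := ded_29_0 (flp_g L200439) L175901 (flp_g L175895) (flp_a L175865)
theorem L200449 : sm gf N21519 = N25882 := rfl
theorem L200451 : sm ga N25882 = N21524 := ded_11_1 (flp_f L169043) (flp_a L169009) L200449
theorem L200453 : sm gc N25882 = N24915 := ded_20_1 (flp_f L193627) (flp_c L169011) L200449
theorem L200455 : sm gd N25882 = N21520 := ded_23_1 (flp_f L169013) L169007 L200449
theorem L200457 : sm ge N25882 = N23102 := ded_25_1 (flp_f L180701) L180703 L200449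
theorem L200459 : sm gg N21519 = N25883 := rfl
theorem L200461 : sm ga N25883 = N21525 := ded_12_1 (flp_g L169051) (flp_a L169009) L200459
theorem L200463 : sm gc N25883 = N24916 := ded_21_1 (flp_g L193631) (flp_c L169011) L200459
theorem L200465 : sm gd N25883 = N21521 := ded_24_1 (flp_g L169021) L169007 L200459
theorem L200467 : sm gf N21522 = N25884 := rfl
theorem L200469 : sm ga N25884 = N24915 := ded_11_1 (flp_f L193627) (flp_a L169029) L200467
theorem L200471 : sm gc N25884 = N21524 := ded_20_1 (flp_f L169043) L169027 L200467
theorem L200473 : sm gd N25884 = N24907 := ded_23_1 (flp_f L193569) (flp_d L169033) L200467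
theorem L200475 : sm ge N25884 = N23103 := ded_25_1 (flp_f L191365) (flp_e L191369) L200467
theorem L200477 : sm gb N25884 = N24510 := ded_16_1 (flp_f L190943) (flp_b L160198) (flp_f L167882) (flp_b L169031) L200467
theorem L200479 : sm gg N21522 = N25885 := rfl
theorem L200481 : sm ga N25885 = N24916 := ded_12_1 (flp_g L193631) (flp_a L169029) L200479
theorem L200483 : sm gc N25885 = N21525 := ded_21_1 (flp_g L169051) L169027 L200479
theorem L200485 : sm gd N25885 = N24908 := ded_24_1 (flp_g L193575) (flp_d L169033) L200479
theorem L200487 : sm gg N21523 = N25886 := rfl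
theorem L200489 : sm gd N25886 = N21686 := ded_24_1 L170080 (flp_d L169039) L200487
theorem L200491 : sm ge N25886 = N21525 := ded_26_1 (flp_g L169051) L169035 L200487
theorem L200493 : sm gf N21690 = N25886 := ded_29_0 (flp_g L200487) (flp_f L169041) L180571 L180573
theorem L200495 : sm gb N21683 = N25886 := ded_31_14 (flp_g L200487) (flp_f L169041) (flp_b L144333) (flp_g L104007) (flp_f L104001) L103995 L103999 L104015 L104019 L128949 (flp_f L128957) (flp_b L170058) (flp_g L170052) L170048
theorem L200497 : sm gg N21524 = N25887 := rfl
theorem L200499 : sm gd N25887 = N21527 := ded_24_1 (flp_g L169067) (flp_d L169045) L200497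
theorem L200501 : sm ge N25887 = N23104 := ded_26_1 (flp_g L180571) (flp_e L169047) L200497
theorem L200503 : sm gf N25883 = N25887 := ded_29_0 (flp_g L200497) (flp_f L169043) L169051 (flp_a L200461)
theorem L200505 : sm gb N21525 = N25888 := rfl
theorem L200507 : sm gd N25888 = N21528 := ded_14_2 (flp_b L169075) (flp_d L169053) L200505
theorem L200509 : sm ge N25888 = N21683 := ded_15_2 L200495 L200491 L200505
theorem L200511 : sm gg N25888 = N21531 := ded_17_2 (flp_b L169107) (flp_g L117163) (flp_b L117129) L169051 L200505
theorem L200513 : sm gf N21682 = N25888 := ded_31_1 (flp_b L200505) (flp_g L169051) L169043 L169049 (flp_g L128917) (flp_f L128909) (flp_b L104079) (flp_g L104073) (flp_f L104051) (flp_b L104045) L104053 (flp_f L104059) L144355 L170046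
theorem L200515 : sm gf N21525 = N25889 := rfl
theorem L200517 : sm ga N25889 = N25887 := ded_11_1 (flp_f L200503) L200461 L200515
theorem L200519 : sm gd N25889 = N21529 := ded_23_1 (flp_f L169085) (flp_d L169053) L200515
theorem L200521 : sm ge N25889 = N21690 := ded_25_1 L200493 L200491 L200515
theorem L200523 : sm gg N25889 = N25882 := ded_29_3 L200451 (flp_f L169043) L169051 L200515
theorem L200525 : sm gb N25889 = N21689 := ded_16_1 (flp_f L170102) (flp_b L170042) L200513 (flp_b L200505) L200515
theorem L200527 : sm gb N21530 = N25890 := rfl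
theorem L200529 : sm gd N25890 = N21687 := ded_14_2 L170090 (flp_d L169103) L200527
theorem L200531 : sm ge N25890 = N21531 := ded_15_2 (flp_b L169107) (flp_e L169105) L200527
theorem L200533 : sm gg N25890 = N21683 := ded_17_2 L200495 (flp_g L200487) L169037 L169097 L200527
theorem L200535 : sm gc N21531 = N25891 := rfl
theorem L200537 : sm gb N25891 = N25609 := ded_13_1 (flp_c L198833) (flp_b L167898) (flp_c L117167) L169107 L200535
theorem L200539 : sm gc N21532 = N25892 := rfl
theorem L200541 : sm ge N25892 = N21916 := ded_19_2 L178241 L178233 L200539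
theorem L200543 : sm gf N25892 = N21915 := ded_20_2 L180487 (flp_f L180489) L200539
theorem L200545 : sm gb N25892 = N21539 := ded_13_1 (flp_c L169149) (flp_b L117217) (flp_c L117185) L169111 L200539
theorem L200547 : sm gb N21533 = N25893 := rfl
theorem L200549 : sm gd N25893 = N22125 := ded_14_2 (flp_b L173010) (flp_d L169115) L200547
theorem L200551 : sm ge N25893 = N21536 := ded_15_2 (flp_b L169135) (flp_e L169117) L200547
theorem L200553 : sm gc N25893 = N23734 := ded_13_2 (flp_b L184923) L153386 (flp_b L178125) L178117 L200547
theorem L200555 : sm gg N25893 = N22844 := ded_17_2 (flp_b L178543) L129789 L129669 (flp_g L169119) L200547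
theorem L200557 : sm gb N21534 = N25894 := rfl
theorem L200559 : sm gd N25894 = N22126 := ded_14_2 (flp_b L173014) (flp_d L169125) L200557
theorem L200561 : sm ge N25894 = N21537 := ded_15_2 (flp_b L169139) (flp_e L169127) L200557
theorem L200563 : sm gc N25894 = N23596 := ded_13_2 (flp_b L183923) L152344 L152376 (flp_c L169123) L200557
theorem L200565 : sm gf N25894 = N21535 := ded_16_2 (flp_b L169129) (flp_f L117197) L117189 L169121 L200557
theorem L200567 : sm ga N21535 = N25895 := rfl
theorem L200569 : sm gd N25895 = N22127 := ded_9_2 (flp_a L173020) (flp_d L169131) L200567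
theorem L200571 : sm ge N25895 = N21538 := ded_10_2 (flp_a L169145) (flp_e L169133) L200567
theorem L200573 : sm gg N25895 = N22529 := ded_12_2 L184189 L184187 L200567
theorem L200575 : sm gc N22532 = N25895 := ded_21_3 L200573 (flp_c L175919) L175931
theorem L200577 : sm gc N21535 = N25896 := rfl
theorem L200579 : sm ga N25896 = N22532 := ded_8_1 L200575 (flp_a L200567) L200577
theorem L200581 : sm ge N25896 = N21539 := ded_19_2 (flp_c L169149) (flp_e L169133) L200577
theorem L200583 : sm gf N25896 = N23596 := ded_20_2 (flp_c L200563) L200565 L200577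
theorem L200585 : sm gg N25896 = N22410 := ded_21_2 (flp_c L184185) L184187 L200577
theorem L200587 : sm gb N25896 = N21916 := ded_13_1 L178241 (flp_b L178229) L129205 L169129 L200577
theorem L200589 : sm gd N25896 = N21917 := ded_32_3 L171522 (flp_b L151822) (flp_d L171648) (flp_c L175168) L175170 (flp_c L164005) (flp_b L173276) (flp_d L173274) L122148 L122166 L173325 (flp_b L184348) L184350 L152826 (flp_d L120597) (flp_c L105517) (flp_b L89903) L39735 L18857 L9139 (flp_c L9183) L18983 L18985 (flp_d L19285) L141934 (flp_d L141930) L141928 (flp_b L9520) L4819 L2510 L1270 (flp_c L634) (flp_b L625) (flp_d L594) (flp_c L1230) (flp_d L2388) L66689 L4609 L4611 L4753 L9433 (flp_c L141344) (flp_b L81280) (flp_d L5342) L81210 L3218 L3428 L6679 (flp_e L13229) L27560 L86055 L99083 (flp_c L141025) (flp_b L164452) (flp_d L164450) (flp_c L113564) (flp_d L113558) L164440 L164442 L136990 (flp_c L124810) (flp_d L99371) L86200 L86904 (flp_d L147204) L125739 L163256 (flp_c L111655) (flp_b L93261) (flp_d L93259) (flp_c L111639) L111641 L97753 L97785 (flp_e L122046) (flp_d L169131) L200577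
theorem L200591 : sm ga N21536 = N25897 := rfl
theorem L200593 : sm gd N25897 = N21541 := ded_9_2 (flp_a L169157) (flp_d L169137) L200591
theorem L200595 : sm gf N25846 = N25897 := ded_23_0 L200593 (flp_f L171898) (flp_d L200231)
theorem L200597 : sm gc N21536 = N25898 := rfl
theorem L200599 : sm ge N25898 = N23734 := ded_19_2 (flp_c L200553) L200551 L200597
theorem L200601 : sm gb N25898 = N23735 := ded_13_1 L184929 L181635 L169025 L169135 L200597
theorem L200603 : sm gf N21536 = N25899 := rfl
theorem L200605 : sm ga N25899 = N25846 := ded_11_1 L200595 (flp_a L200591) L200603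
theorem L200607 : sm gd N25899 = N21543 := ded_23_1 (flp_f L169167) (flp_d L169137) L200603
theorem L200609 : sm gg N21536 = N25900 := rfl
theorem L200611 : sm gd N25900 = N21544 := ded_24_1 (flp_g L169171) (flp_d L169137) L200609
theorem L200613 : sm ge N25900 = N22844 := ded_26_1 (flp_g L200555) L200551 L200609
theorem L200615 : sm gb N25900 = N21792 := ded_17_1 (flp_g L170732) (flp_b L118125) (flp_g L117211) L169135 L200609
theorem L200617 : sm ga N21537 = N25901 := rfl
theorem L200619 : sm gd N25901 = N21545 := ded_9_2 (flp_a L169179) (flp_d L169141) L200617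
theorem L200621 : sm gf N25901 = N21538 := ded_11_2 (flp_a L169145) (flp_f L169143) L200617
theorem L200623 : sm gc N21537 = N25902 := rfl
theorem L200625 : sm ge N25902 = N23596 := ded_19_2 (flp_c L200563) L200561 L200623
theorem L200627 : sm gf N25902 = N21539 := ded_20_2 (flp_c L169149) (flp_f L169143) L200623
theorem L200629 : sm gb N25902 = N23277 := ded_13_1 L181731 (flp_b L169095) L169089 L169139 L200623
theorem L200631 : sm gc N21538 = N25903 := rfl
theorem L200633 : sm ga N25903 = N21539 := ded_8_1 (flp_c L169149) L169145 L200631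
theorem L200635 : sm ge N25903 = N22532 := ded_19_2 L200575 L200571 L200631
theorem L200637 : sm gb N23427 = N25903 := ded_15_3 L200635 L175935 (flp_e L182725)
theorem L200639 : sm gg N22530 = N25903 := ded_26_0 L200635 (flp_g L175931) L175921
theorem L200641 : sm gg N21538 = N25904 := rfl
theorem L200643 : sm ga N25904 = N21540 := ded_12_1 (flp_g L169151) L169145 L200641
theorem L200645 : sm gc N25904 = N22530 := ded_21_1 L200639 (flp_c L200631) L200641
theorem L200647 : sm gd N25904 = N21548 := ded_24_1 (flp_g L169199) (flp_d L169147) L200641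
theorem L200649 : sm ge N25904 = N22529 := ded_26_1 (flp_g L200573) L200571 L200641
theorem L200651 : sm gf N25904 = N25388 := ded_29_2 L197459 L200617 L200621 L200641
theorem L200653 : sm gb N25904 = N25387 := ded_17_1 L197453 (flp_b L168925) L200321 (flp_b L200329) L200641
theorem L200655 : sm gd N21539 = N25905 := rfl
theorem L200657 : sm gg N21539 = N25906 := rfl
theorem L200659 : sm ga N25906 = N22530 := ded_12_1 L200639 L200633 L200657
theorem L200661 : sm gc N25906 = N21540 := ded_21_1 (flp_g L169151) L169149 L200657
theorem L200663 : sm ge N25906 = N22410 := ded_26_1 (flp_g L200585) L200581 L200657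
theorem L200665 : sm gb N22412 = N25906 := ded_7_0 L200659 L175923 L124039 L98943 L85976 (flp_b L85782) (flp_a L98557) (flp_b L123255) (flp_a L175124)
theorem L200667 : sm gf N21540 = N25907 := rfl
theorem L200669 : sm ga N25907 = N25388 := ded_11_1 (flp_f L200651) L200643 L200667
theorem L200671 : sm gd N25907 = N21551 := ded_23_1 (flp_f L169219) (flp_d L169153) L200667
theorem L200673 : sm gg N25907 = N25901 := ded_29_3 (flp_a L200617) L169143 L169151 L200667
theorem L200675 : sm gc N21541 = N25908 := rfl
theorem L200677 : sm ga N25908 = N21542 := ded_8_1 (flp_c L169161) L169157 L200675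
theorem L200679 : sm ge N25908 = N22137 := ded_19_2 (flp_c L173088) (flp_e L169159) L200675
theorem L200681 : sm gf N25908 = N25849 := ded_20_2 (flp_c L200243) L171898 L200675
theorem L200683 : sm gg N25908 = N23050 := ded_21_2 L200259 L200255 L200675
theorem L200685 : sm gb N24883 = N25908 := ded_15_3 L200679 (flp_b L173098) (flp_e L193417)
theorem L200687 : sm gd N21542 = N25909 := rfl
theorem L200689 : sm gg N25909 = N22961 := ded_24_2 L179415 L169165 L200687
theorem L200691 : sm ge N25909 = N22964 := ded_22_2 L179429 L130456 (flp_d L151333) (flp_e L169163) L200687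
theorem L200693 : sm gg N21543 = N25910 := rfl
theorem L200695 : sm ga N25910 = N25485 := ded_12_1 L198047 (flp_a L171900) L200693
theorem L200697 : sm ge N25910 = N22138 := ded_26_1 (flp_g L173100) (flp_e L169169) L200693
theorem L200699 : sm gf N25850 = N25910 := ded_29_0 (flp_g L200693) (flp_f L169167) L169171 (flp_a L200257)
theorem L200701 : sm gb N21545 = N25910 := ded_31_14 (flp_g L200693) (flp_f L169167) (flp_b L117221) L96191 L96615 (flp_b L115355) (flp_g L115637) (flp_f L115629) L115624 L115628 L166871 (flp_b L169207) (flp_g L169199) (flp_f L169183)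
theorem L200703 : sm gc N21545 = N25911 := rfl
theorem L200705 : sm ga N25911 = N21546 := ded_8_1 (flp_c L169185) L169179 L200703
theorem L200707 : sm ge N25911 = N22148 := ded_19_2 (flp_c L173164) (flp_e L169181) L200703
theorem L200709 : sm gf N25911 = N21547 := ded_20_2 (flp_c L169191) (flp_f L169183) L200703
theorem L200711 : sm gb N24455 = N25911 := ded_15_3 L200707 (flp_b L173172) (flp_e L190579)
theorem L200713 : sm gd N21546 = N25912 := rfl
theorem L200715 : sm gf N25912 = N21549 := ded_23_2 (flp_d L169209) (flp_f L169189) L200713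
theorem L200717 : sm gg N25912 = N23137 := ded_24_2 (flp_d L192899) (flp_g L192905) L200713
theorem L200719 : sm ge N25912 = N23515 := ded_22_2 (flp_d L195727) L195729 (flp_d L173174) (flp_e L169187) L200713
theorem L200721 : sm gg N21547 = N25913 := rfl
theorem L200723 : sm ga N25913 = N21550 := ded_12_1 (flp_g L169213) (flp_a L169193) L200721
theorem L200725 : sm gc N25913 = N21548 := ded_21_1 (flp_g L169199) L169191 L200721
theorem L200727 : sm ge N25913 = N22150 := ded_26_1 (flp_g L173180) (flp_e L169195) L200721
theorem L200729 : sm gf N25913 = N24799 := ded_29_2 (flp_g L192905) (flp_a L200705) L200709 L200721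
theorem L200731 : sm gc N21549 = N25914 := rfl
theorem L200733 : sm ge N25914 = N23681 := ded_19_2 (flp_c L184852) (flp_e L184860) L200731
theorem L200735 : sm gb N25914 = N23388 := ded_13_1 (flp_c L182731) (flp_b L182743) (flp_c L169381) (flp_b L169211) L200731
theorem L200737 : sm gg N21549 = N25915 := rfl
theorem L200739 : sm gd N25915 = N21550 := ded_24_1 (flp_g L169213) L169209 L200737
theorem L200741 : sm ge N25915 = N25143 := ded_26_1 L195604 (flp_e L184860) L200737
theorem L200743 : sm gf N25142 = N25915 := ded_29_0 (flp_g L200737) (flp_f L200715) L200717 (flp_a L195592)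
theorem L200745 : sm gb N25253 = N25915 := ded_15_3 L200741 L195606 (flp_e L196565)
theorem L200747 : sm gb N21550 = N25916 := rfl
theorem L200749 : sm gd N25916 = N25253 := ded_14_2 L200745 L200739 L200747
theorem L200751 : sm ge N25916 = N22154 := ded_15_2 (flp_b L173226) (flp_e L169217) L200747
theorem L200753 : sm gc N25916 = N24020 := ded_13_2 (flp_b L187391) L156074 (flp_b L117245) (flp_c L169215) L200747
theorem L200755 : sm gg N25916 = N21580 := ded_17_2 (flp_b L169393) (flp_g L117337) (flp_b L117239) L169213 L200747
theorem L200757 : sm gf N25243 = N25916 := ded_23_0 L200749 (flp_f L196563) (flp_d L196498)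
theorem L200759 : sm ga N24087 = N25916 := ded_10_3 L200751 (flp_a L173234) (flp_e L187887)
theorem L200761 : sm gf N21550 = N25917 := rfl
theorem L200763 : sm ga N25917 = N24799 := ded_11_1 (flp_f L200729) L200723 L200761
theorem L200765 : sm gc N25917 = N21551 := ded_20_1 (flp_f L169219) (flp_c L169215) L200761
theorem L200767 : sm gd N25917 = N25142 := ded_23_1 L200743 L200739 L200761
theorem L200769 : sm ge N25917 = N22155 := ded_25_1 (flp_f L173238) (flp_e L169217) L200761
theorem L200771 : sm gg N25917 = N25911 := ded_29_3 L200705 L169189 L169213 L200761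
theorem L200773 : sm gb N25917 = N22569 := ded_16_1 L176193 (flp_b L196496) L200757 (flp_b L200747) L200761
theorem L200775 : sm gb N21551 = N25918 := rfl
theorem L200777 : sm ge N25918 = N22156 := ded_15_2 (flp_b L173250) (flp_e L169223) L200775
theorem L200779 : sm gf N25918 = N21799 := ded_16_2 (flp_b L172998) (flp_f L167395) (flp_b L117245) L169219 L200775
theorem L200781 : sm gg N25918 = N21801 := ded_17_2 L170817 L200693 (flp_b L200701) (flp_g L169225) L200775
theorem L200783 : sm ga N25918 = N21801 := ded_7_1 L170817 L171900 (flp_b L168873) (flp_a L117033) (flp_b L120882) (flp_a L115631) L166879 (flp_a L169221) L200775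
theorem L200785 : sm gd N21552 = N25919 := rfl
theorem L200787 : sm ga N25919 = N21554 := ded_9_1 (flp_d L169241) (flp_a L169229) L200785
theorem L200789 : sm gf N25919 = N24471 := ded_23_2 (flp_d L190699) (flp_f L169233) L200785
theorem L200791 : sm ga N21553 = N25920 := rfl
theorem L200793 : sm gc N25920 = N21557 := ded_8_2 (flp_a L169259) (flp_c L169239) L200791
theorem L200795 : sm ge N25920 = N22158 := ded_10_2 (flp_a L173268) (flp_e L169237) L200791
theorem L200797 : sm gf N25920 = N25833 := ded_30_4 (flp_c L200141) (flp_b L168794) L116949 (flp_f L116941) L110793 L116883 (flp_a L159073) (flp_f L159071) L150942 (flp_b L107236) (flp_a L107202) L107234 L107228 L110103 (flp_a L117259) (flp_f L117257) L117253 L169235 L200791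
theorem L200799 : sm gd N21553 = N25921 := rfl
theorem L200801 : sm gb N25921 = N21554 := ded_14_1 (flp_d L169241) L169235 L200799
theorem L200803 : sm gf N21553 = N25922 := rfl
theorem L200805 : sm ga N25922 = N25833 := ded_11_1 (flp_f L200797) (flp_a L200791) L200803
theorem L200807 : sm gc N25922 = N21559 := ded_20_1 (flp_f L169271) (flp_c L169239) L200803
theorem L200809 : sm ge N25922 = N22160 := ded_25_1 (flp_f L173280) (flp_e L169237) L200803
theorem L200811 : sm gg N21553 = N25923 := rfl
theorem L200813 : sm gc N25923 = N21560 := ded_21_1 (flp_g L169277) (flp_c L169239) L200811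
theorem L200815 : sm ge N25923 = N22161 := ded_26_1 (flp_g L173290) (flp_e L169237) L200811
theorem L200817 : sm gc N21554 = N25924 := rfl
theorem L200819 : sm ge N21554 = N25925 := rfl
theorem L200821 : sm gd N25925 = N22162 := ded_22_1 (flp_e L173294) (flp_d L122150) (flp_e L117255) L169241 L200819
theorem L200823 : sm gf N25869 = N25925 := ded_23_0 L200821 L173298 L200371
theorem L200825 : sm gf N21554 = N25926 := rfl
theorem L200827 : sm ga N25926 = N24471 := ded_11_1 (flp_f L200789) L200787 L200825
theorem L200829 : sm gd N25926 = N21555 := ded_23_1 (flp_f L169243) L169241 L200825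
theorem L200831 : sm ge N25926 = N25869 := ded_25_1 L200823 (flp_e L200819) L200825
theorem L200833 : sm gb N25871 = N25926 := ded_14_3 L200829 (flp_b L172867) (flp_d L200385)
theorem L200835 : sm gg N25554 = N25926 := ded_24_0 L200829 (flp_g L169251) L198476
theorem L200837 : sm gg N21554 = N25927 := rfl
theorem L200839 : sm gd N25927 = N21556 := ded_24_1 (flp_g L169253) L169241 L200837
theorem L200841 : sm gb N21556 = N25928 := rfl
theorem L200843 : sm ge N25928 = N22163 := ded_15_2 (flp_b L173302) (flp_e L169257) L200841
theorem L200845 : sm gc N25928 = N21594 := ded_13_2 (flp_b L169489) L117389 (flp_b L117269) (flp_c L169255) L200841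
theorem L200847 : sm gf N25928 = N21594 := ded_16_2 (flp_b L169489) (flp_f L163977) (flp_b L175069) L175073 L200841
theorem L200849 : sm ga N25928 = N25928 := ded_7_1 (flp_b L200841) L188197 (flp_b L188187) L156745 L108252 (flp_a L156745) L188187 (flp_a L188197) L200841
theorem L200850 : sm gd N21557 = N25929 := rfl
theorem L200852 : sm ga N25929 = N21558 := ded_9_1 (flp_d L169267) L169259 L200850
theorem L200854 : sm gb N25929 = N25822 := ded_14_1 L200065 L169263 L200850
theorem L200856 : sm gf N25929 = N25823 := ded_23_2 L200069 L169265 L200850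
theorem L200858 : sm gg N21557 = N25930 := rfl
theorem L200860 : sm ga N25930 = N21560 := ded_12_1 (flp_g L169277) L169259 L200858
theorem L200862 : sm ge N25930 = N22165 := ded_26_1 (flp_g L173321) (flp_e L169261) L200858
theorem L200864 : sm gc N21558 = N25931 := rfl
theorem L200866 : sm ge N21558 = N25932 := rfl
theorem L200868 : sm gb N25932 = N21562 := ded_15_1 (flp_e L169291) (flp_b L169269) L200866
theorem L200870 : sm gd N25932 = N22167 := ded_22_1 (flp_e L173327) (flp_d L122166) (flp_e L117273) L169267 L200866
theorem L200872 : sm gf N21558 = N25933 := rfl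
theorem L200874 : sm ga N25933 = N25823 := ded_11_1 (flp_f L200856) L200852 L200872
theorem L200876 : sm gd N25933 = N21559 := ded_23_1 (flp_f L169271) L169267 L200872
theorem L200878 : sm gg N21558 = N25934 := rfl
theorem L200880 : sm gd N25934 = N21560 := ded_24_1 (flp_g L169277) L169267 L200878
theorem L200882 : sm gb N25934 = N21603 := ded_17_1 (flp_g L169537) L117417 (flp_g L117279) (flp_b L169269) L200878
theorem L200884 : sm gg N21559 = N25935 := rfl
theorem L200886 : sm ga N25935 = N25834 := ded_12_1 (flp_g L200147) (flp_a L169273) L200884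
theorem L200888 : sm ge N25935 = N22170 := ded_26_1 (flp_g L173343) (flp_e L169275) L200884
theorem L200890 : sm gf N25930 = N25935 := ded_29_0 (flp_g L200884) (flp_f L169271) L169277 (flp_a L200860)
theorem L200892 : sm gb N21561 = N25936 := rfl
theorem L200894 : sm gd N25936 = N25652 := ded_14_2 (flp_b L199076) L169289 L200892
theorem L200896 : sm ge N21561 = N25937 := rfl
theorem L200898 : sm ga N25937 = N21565 := ded_10_1 (flp_e L169309) (flp_a L169285) L200896
theorem L200900 : sm gc N25937 = N21562 := ded_19_1 (flp_e L169291) L169283 L200896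
theorem L200902 : sm gg N25937 = N21608 := ded_26_2 (flp_e L169565) (flp_g L169287) L200896
theorem L200904 : sm ga N21563 = N25938 := rfl
theorem L200906 : sm gd N21563 = N25939 := rfl
theorem L200908 : sm gb N25939 = N21564 := ded_14_1 (flp_d L169301) L169299 L200906
theorem L200910 : sm ge N21563 = N25940 := rfl
theorem L200912 : sm gb N25940 = N21565 := ded_15_1 (flp_e L169309) L169299 L200910
theorem L200914 : sm gf N21563 = N25941 := rfl
theorem L200916 : sm gg N21563 = N25942 := rfl
theorem L200918 : sm gc N25942 = N24819 := ded_21_1 (flp_g L193673) L193671 L200916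
theorem L200920 : sm gb N25942 = N21619 := ded_17_1 (flp_g L169627) (flp_b L117455) (flp_g L117283) L169299 L200916
theorem L200922 : sm ge N21564 = N25943 := rfl
theorem L200924 : sm ga N25943 = N25653 := ded_10_1 (flp_e L199078) (flp_a L169303) L200922
theorem L200926 : sm gc N25943 = N25651 := ded_19_1 (flp_e L199070) L169307 L200922
theorem L200928 : sm gg N25943 = N21620 := ded_26_2 (flp_e L169631) (flp_g L169305) L200922
theorem L200930 : sm gd N21565 = N25944 := rfl
theorem L200932 : sm gg N25944 = N21622 := ded_24_2 (flp_d L169645) (flp_g L169313) L200930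
theorem L200934 : sm gf N21565 = N25945 := rfl
theorem L200936 : sm gc N25945 = N21567 := ded_20_1 (flp_f L169319) (flp_c L169311) L200934
theorem L200938 : sm ge N25945 = N21566 := ded_25_1 (flp_f L169315) L169309 L200934
theorem L200940 : sm gb N21566 = N25946 := rfl
theorem L200942 : sm gb N21567 = N25947 := rfl
theorem L200944 : sm gd N25947 = N22180 := ded_14_2 (flp_b L173391) (flp_d L169321) L200942
theorem L200946 : sm ge N25947 = N21568 := ded_15_2 (flp_b L169325) (flp_e L169323) L200942
theorem L200948 : sm ga N21568 = N25948 := rfl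
theorem L200950 : sm gd N25948 = N21569 := ded_9_2 (flp_a L169329) (flp_d L169327) L200948
theorem L200952 : sm gc N21568 = N25949 := rfl
theorem L200954 : sm gg N21568 = N25950 := rfl
theorem L200956 : sm gd N25950 = N21571 := ded_24_1 (flp_g L169339) (flp_d L169327) L200954
theorem L200958 : sm gb N21569 = N25951 := rfl
theorem L200960 : sm ge N25951 = N22183 := ded_15_2 (flp_b L173405) (flp_e L169331) L200958
theorem L200962 : sm gf N25951 = N24044 := ded_16_2 L187597 L187619 L193731 L193729 L200958
theorem L200964 : sm gc N24045 = N25951 := ded_19_3 L200960 (flp_c L173409) (flp_e L187601)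
theorem L200966 : sm gc N21569 = N25952 := rfl
theorem L200968 : sm ga N25952 = N21570 := ded_8_1 (flp_c L169333) L169329 L200966
theorem L200970 : sm ge N25952 = N22184 := ded_19_2 (flp_c L173411) (flp_e L169331) L200966
theorem L200972 : sm gg N25160 = N25952 := ded_26_0 L200970 L173435 L195757
theorem L200974 : sm gd N25166 = N25952 := ded_22_5 L200970 (flp_d L173433) L164458 (flp_d L164490) (flp_e L195805)
theorem L200976 : sm gg N21569 = N25953 := rfl
theorem L200978 : sm ga N25953 = N21571 := ded_12_1 (flp_g L169339) L169329 L200976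
theorem L200980 : sm gc N25953 = N25160 := ded_21_1 L200972 (flp_c L200966) L200976
theorem L200982 : sm ge N25953 = N22185 := ded_26_1 (flp_g L173415) (flp_e L169331) L200976
theorem L200984 : sm gf N25953 = N24932 := ded_29_2 (flp_g L193741) L193725 L193729 L200976
theorem L200986 : sm gd N21570 = N25954 := rfl
theorem L200988 : sm ga N25954 = N25166 := ded_9_1 L200974 L200968 L200986
theorem L200990 : sm gb N25954 = N21573 := ded_14_1 (flp_d L169353) (flp_b L169337) L200986
theorem L200992 : sm ge N25954 = N25125 := ded_22_2 (flp_d L195450) L173425 (flp_d L173421) (flp_e L169335) L200986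
theorem L200994 : sm gg N25162 = N25954 := ded_12_0 L200988 (flp_g L195803) (flp_a L195775)
theorem L200996 : sm gg N21570 = N25955 := rfl
theorem L200998 : sm ga N25955 = N25160 := ded_12_1 L200972 L200968 L200996
theorem L201000 : sm gc N25955 = N21571 := ded_21_1 (flp_g L169339) L169333 L200996
theorem L201002 : sm gd N25955 = N25162 := ded_24_1 L200994 (flp_d L200986) L200996
theorem L201004 : sm ge N25955 = N22187 := ded_26_1 (flp_g L173439) (flp_e L169335) L200996
theorem L201006 : sm gb N24795 = N25955 := ded_7_0 L200998 L195759 (flp_a L176191) (flp_b L200773) L200763 (flp_b L192897) L160522 (flp_b L160512) (flp_a L192867)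
theorem L201008 : sm gf N21571 = N25956 := rfl
theorem L201010 : sm ga N25956 = N24932 := ded_11_1 (flp_f L200984) L200978 L201008
theorem L201012 : sm ge N25956 = N22188 := ded_25_1 (flp_f L173449) (flp_e L169341) L201008
theorem L201014 : sm gg N25956 = N24930 := ded_29_3 (flp_a L193725) L161048 L169339 L201008
theorem L201016 : sm gb N25956 = N24584 := ded_31_2 (flp_g L191455) (flp_f L159549) (flp_b L110441) (flp_g L92633) L45217 L21783 L21827 L81148 (flp_b L25066) (flp_g L84745) L96217 L117295 L169339 L201008
theorem L201018 : sm gd N21572 = N25957 := rfl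
theorem L201020 : sm ga N25957 = N21573 := ded_9_1 (flp_d L169353) (flp_a L169345) L201018
theorem L201022 : sm gb N25957 = N23992 := ded_14_1 L187179 (flp_b L169351) L201018
theorem L201024 : sm gf N25957 = N21575 := ded_23_2 (flp_d L169365) (flp_f L169349) L201018
theorem L201026 : sm ge N25957 = N25091 := ded_22_2 L195145 L173469 (flp_d L173457) (flp_e L169347) L201018
theorem L201028 : sm gc N25089 = N25957 := ded_8_0 L201020 L182739 L195127
theorem L201030 : sm gg N21573 = N25958 := rfl
theorem L201032 : sm gd N25958 = N21574 := ded_24_1 (flp_g L169359) L169353 L201030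
theorem L201034 : sm ge N25958 = N23842 := ded_26_1 L185919 (flp_e L169357) L201030
theorem L201036 : sm gb N21574 = N25959 := rfl
theorem L201038 : sm ge N25959 = N22190 := ded_15_2 (flp_b L173471) (flp_e L169363) L201036
theorem L201040 : sm gc N25959 = N24791 := ded_13_2 (flp_b L192841) (flp_c L166458) (flp_b L117317) (flp_c L169361) L201036
theorem L201042 : sm gg N25959 = N24795 := ded_17_2 L201006 (flp_g L200996) L169337 L169359 L201036
theorem L201044 : sm ga N24792 = N25959 := ded_10_3 L201038 L173479 (flp_e L192845)
theorem L201046 : sm gc N21575 = N25960 := rfl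
theorem L201048 : sm ga N25960 = N21577 := ded_8_1 (flp_c L169381) (flp_a L169367) L201046
theorem L201050 : sm gf N25960 = N25089 := ded_20_2 L201028 L201024 L201046
theorem L201052 : sm gb N25960 = N22511 := ded_13_1 L175807 (flp_b L191585) L191581 (flp_b L169369) L201046
theorem L201054 : sm gd N25666 = N25960 := ded_28_1 (flp_c L201046) (flp_d L169365) (flp_c L117319) (flp_d L116575) L168146 L199126 L199128 L199140
theorem L201056 : sm ge N22512 = N25960 := ded_10_0 L201048 (flp_e L184788) (flp_a L184792)
theorem L201058 : sm gb N24954 = N25666 := ded_14_3 L201054 L201052 (flp_d L193911)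
theorem L201060 : sm ge N24956 = N25666 := ded_22_0 L201054 (flp_e L201056) L175815 (flp_e L161160) (flp_d L193925)
theorem L201062 : sm gc N25667 = N24956 := ded_19_3 L201060 (flp_c L199140) L199142
theorem L201064 : sm ge N21575 = N25961 := rfl
theorem L201066 : sm ga N25961 = N21578 := ded_10_1 (flp_e L169383) (flp_a L169367) L201064
theorem L201068 : sm gb N25961 = N24601 := ded_15_1 L191595 (flp_b L169369) L201064
theorem L201070 : sm gc N25961 = N22512 := ded_19_1 L201056 (flp_c L201046) L201064
theorem L201072 : sm gf N25961 = N25091 := ded_25_2 (flp_e L201026) L201024 L201064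
theorem L201074 : sm gd N25961 = N22191 := ded_22_1 (flp_e L173481) (flp_d L122242) (flp_e L117323) L169365 L201064
theorem L201076 : sm gg N21575 = N25962 := rfl
theorem L201078 : sm ga N25962 = N21579 := ded_12_1 (flp_g L169389) (flp_a L169367) L201076
theorem L201080 : sm gd N25962 = N21576 := ded_24_1 (flp_g L169371) L169365 L201076
theorem L201082 : sm gf N25962 = N25958 := ded_29_2 (flp_g L201030) (flp_a L201020) L201024 L201076
theorem L201084 : sm gb N21576 = N25963 := rfl
theorem L201086 : sm ge N25963 = N22192 := ded_15_2 (flp_b L173491) (flp_e L169377) L201084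
theorem L201088 : sm gc N25963 = N24603 := ded_13_2 (flp_b L191605) L159617 (flp_b L117333) (flp_c L169375) L201084
theorem L201090 : sm gg N25963 = N24603 := ded_17_2 (flp_b L191605) (flp_g L159613) (flp_b L150938) L169371 L201084
theorem L201092 : sm ga N25963 = N25963 := ded_7_1 (flp_b L201084) L169373 L169393 (flp_a L186446) L186450 L186446 (flp_b L169393) (flp_a L169373) L201084
theorem L201093 : sm gd N21577 = N25964 := rfl
theorem L201095 : sm ga N25964 = N25666 := ded_9_1 L201054 L201048 L201093
theorem L201097 : sm gc N25664 = N25964 := ded_28_0 (flp_d L201093) (flp_c L169381) (flp_d L117335) (flp_c L96233) (flp_d L95880) L116577 L168162 (flp_a L199128)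
theorem L201099 : sm gg N21577 = N25965 := rfl
theorem L201101 : sm gc N25965 = N21579 := ded_21_1 (flp_g L169389) L169381 L201099
theorem L201103 : sm gg N21578 = N25966 := rfl
theorem L201105 : sm gd N25966 = N22193 := ded_24_1 (flp_g L173498) (flp_d L169387) L201103
theorem L201107 : sm ge N25966 = N21579 := ded_26_1 (flp_g L169389) L169383 L201103
theorem L201109 : sm gb N25966 = N24351 := ded_17_1 (flp_g L189739) (flp_b L195606) L195604 (flp_b L184858) L201103
theorem L201111 : sm gb N21579 = N25967 := rfl
theorem L201113 : sm gd N25967 = N21580 := ded_14_2 (flp_b L169393) (flp_d L169391) L201111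
theorem L201115 : sm ge N25967 = N24351 := ded_15_2 (flp_b L201109) L201107 L201111
theorem L201117 : sm gg N25967 = N25253 := ded_17_2 L200745 (flp_g L200737) L169211 L169389 L201111
theorem L201119 : sm gc N24352 = N25967 := ded_19_3 L201115 (flp_c L189735) L189741
theorem L201121 : sm gf N21579 = N25968 := rfl
theorem L201123 : sm ga N25968 = N25958 := ded_11_1 (flp_f L201082) L201078 L201121
theorem L201125 : sm gd N25968 = N21581 := ded_23_1 (flp_f L169399) (flp_d L169391) L201121
theorem L201127 : sm gg N25968 = N25957 := ded_29_3 L201020 L169355 L169389 L201121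
theorem L201129 : sm gf N21580 = N25969 := rfl
theorem L201131 : sm gc N25969 = N24019 := ded_20_1 L187387 (flp_c L169397) L201129
theorem L201133 : sm ge N25969 = N22195 := ded_25_1 (flp_f L173518) (flp_e L169395) L201129
theorem L201135 : sm gb N21581 = N25970 := rfl
theorem L201137 : sm ge N25970 = N22196 := ded_15_2 (flp_b L173522) (flp_e L169405) L201135
theorem L201139 : sm gd N21582 = N25971 := rfl
theorem L201141 : sm ga N25971 = N21854 := ded_9_1 (flp_d L171158) L169413 L201139
theorem L201143 : sm gb N25971 = N21583 := ded_14_1 (flp_d L169415) L169409 L201139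
theorem L201145 : sm gf N21582 = N25972 := rfl
theorem L201147 : sm ga N25972 = N21855 := ded_11_1 (flp_f L171162) L169413 L201145
theorem L201149 : sm ge N25972 = N22092 := ded_25_1 L172769 (flp_e L169411) L201145
theorem L201151 : sm gg N25972 = N22103 := ded_29_1 L172843 (flp_g L171170) L169413 L201145
theorem L201153 : sm gg N21582 = N25973 := rfl
theorem L201155 : sm ga N25973 = N21856 := ded_12_1 (flp_g L171170) L169413 L201153
theorem L201157 : sm ge N25973 = N22197 := ded_26_1 (flp_g L173524) (flp_e L169411) L201153
theorem L201159 : sm gf N21583 = N25974 := rfl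
theorem L201161 : sm ga N25974 = N21591 := ded_11_1 (flp_f L169473) (flp_a L169417) L201159
theorem L201163 : sm gc N25974 = N23242 := ded_20_1 (flp_f L181487) L169419 L201159
theorem L201165 : sm gd N25974 = N21584 := ded_23_1 (flp_f L169421) L169415 L201159
theorem L201167 : sm ge N25974 = N21751 := ded_25_1 (flp_f L197393) L197395 L201159
theorem L201169 : sm gg N25974 = N21749 := ded_29_1 (flp_f L170478) (flp_g L169479) (flp_a L169417) L201159
theorem L201171 : sm gg N21583 = N25975 := rfl
theorem L201173 : sm ga N25975 = N21592 := ded_12_1 (flp_g L169479) (flp_a L169417) L201171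
theorem L201175 : sm gc N25975 = N23331 := ded_21_1 (flp_g L182095) L169419 L201171
theorem L201177 : sm gd N25975 = N21585 := ded_24_1 (flp_g L169431) L169415 L201171
theorem L201179 : sm gf N25392 = N25975 := ded_29_0 (flp_g L201171) L201159 L201169 (flp_a L197491)
theorem L201181 : sm gb N21584 = N25976 := rfl
theorem L201183 : sm ge N25976 = N22198 := ded_15_2 (flp_b L173532) (flp_e L169427) L201181
theorem L201185 : sm gc N25976 = N23868 := ded_13_2 (flp_b L186135) (flp_c L159057) L159063 (flp_c L169425) L201181
theorem L201187 : sm gg N25976 = N23870 := ded_17_2 L186157 (flp_g L175075) L175069 (flp_g L169429) L201181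
theorem L201189 : sm ga N24109 = N25976 := ded_10_3 L201183 (flp_a L173540) (flp_e L188027)
theorem L201191 : sm gb N21585 = N25977 := rfl
theorem L201193 : sm ge N25977 = N22199 := ded_15_2 (flp_b L173542) (flp_e L169437) L201191
theorem L201195 : sm gc N25977 = N23897 := ded_13_2 (flp_b L186357) L155122 L117371 (flp_c L169435) L201191
theorem L201197 : sm ga N23900 = N25977 := ded_10_3 L201193 (flp_a L173546) (flp_e L186387)
theorem L201199 : sm gd N21586 = N25978 := rfl
theorem L201201 : sm ga N25978 = N21587 := ded_9_1 (flp_d L169449) L169441 L201199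
theorem L201203 : sm gb N25978 = N21858 := ded_14_1 (flp_d L171188) (flp_b L169447) L201199
theorem L201205 : sm ge N25978 = N25496 := ded_22_2 (flp_d L198111) L167448 L163868 (flp_e L169445) L201199
theorem L201207 : sm gc N23448 = N25978 := ded_28_0 (flp_d L201199) L169443 L169509 L182930 (flp_d L182924) (flp_c L145902) L145900 L182862
theorem L201209 : sm gg N21586 = N25979 := rfl
theorem L201211 : sm ga N25979 = N21589 := ded_12_1 (flp_g L169461) L169441 L201209
theorem L201213 : sm gc N25979 = N21599 := ded_21_1 (flp_g L169519) (flp_c L169443) L201209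
theorem L201215 : sm ge N25979 = N22200 := ded_26_1 (flp_g L173548) (flp_e L169445) L201209
theorem L201217 : sm gb N25979 = N24333 := ded_17_1 (flp_g L189591) L189479 (flp_g L171202) (flp_b L169447) L201209
theorem L201219 : sm ge N21587 = N25980 := rfl
theorem L201221 : sm ga N25980 = N25496 := ded_10_1 (flp_e L201205) L201201 L201219
theorem L201223 : sm gb N25980 = N21590 := ded_15_1 (flp_e L169467) (flp_b L169451) L201219
theorem L201225 : sm gc N25980 = N23449 := ded_19_1 (flp_e L182864) (flp_c L169453) L201219
theorem L201227 : sm gd N25980 = N22201 := ded_22_1 (flp_e L173558) (flp_d L122298) (flp_e L117375) L169449 L201219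
theorem L201229 : sm gf N24472 = N25980 := ded_23_0 L201227 L173566 L190701
theorem L201231 : sm gf N21587 = N25981 := rfl
theorem L201233 : sm gc N25981 = N23450 := ded_20_1 (flp_f L182868) (flp_c L169453) L201231
theorem L201235 : sm gd N25981 = N21588 := ded_23_1 (flp_f L169455) L169449 L201231
theorem L201237 : sm ge N25981 = N24472 := ded_25_1 L201229 (flp_e L201219) L201231
theorem L201239 : sm gg N21587 = N25982 := rfl
theorem L201241 : sm gc N25982 = N23451 := ded_21_1 (flp_g L182870) (flp_c L169453) L201239
theorem L201243 : sm gd N25982 = N21589 := ded_24_1 (flp_g L169461) L169449 L201239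
theorem L201245 : sm gb N21588 = N25983 := rfl
theorem L201247 : sm ge N25983 = N22202 := ded_15_2 (flp_b L173570) (flp_e L169459) L201245
theorem L201249 : sm gf N25983 = N21593 := ded_16_2 (flp_b L169485) (flp_f L117381) L117373 L169455 L201245
theorem L201251 : sm gg N21588 = N25984 := rfl
theorem L201253 : sm ga N25984 = N22369 := ded_12_1 L174819 L169988 L201251
theorem L201255 : sm gc N25984 = N21605 := ded_21_1 (flp_g L169547) (flp_c L169457) L201251
theorem L201257 : sm ge N25984 = N22203 := ded_26_1 (flp_g L173576) (flp_e L169459) L201251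
theorem L201259 : sm gf N25979 = N25984 := ded_29_0 (flp_g L201251) (flp_f L169455) L169461 (flp_a L201211)
theorem L201261 : sm gb N21589 = N25985 := rfl
theorem L201263 : sm ge N25985 = N22204 := ded_15_2 (flp_b L173586) (flp_e L169465) L201261
theorem L201265 : sm gg N25985 = N21594 := ded_17_2 (flp_b L169489) (flp_g L117387) L117373 L169461 L201261
theorem L201267 : sm ga N25985 = N25985 := ded_7_1 (flp_b L201261) (flp_a L201211) L201217 L189587 L158085 (flp_a L189587) (flp_b L201217) L201211 L201261
theorem L201268 : sm gf N21590 = N25986 := rfl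
theorem L201270 : sm ga N25986 = N21751 := ded_11_1 (flp_f L197393) L197391 L201268
theorem L201272 : sm gc N25986 = N23241 := ded_20_1 L181473 (flp_c L169469) L201268
theorem L201274 : sm gd N25986 = N21744 := ded_23_1 (flp_f L170440) (flp_d L169471) L201268
theorem L201276 : sm ge N25986 = N21591 := ded_25_1 (flp_f L169473) L169467 L201268
theorem L201278 : sm gg N25986 = N21742 := ded_29_3 L170418 L170480 (flp_g L170488) L201268
theorem L201280 : sm gb N21591 = N25987 := rfl
theorem L201282 : sm gd N25987 = N21593 := ded_14_2 (flp_b L169485) (flp_d L169477) L201280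
theorem L201284 : sm gb N21592 = N25988 := rfl
theorem L201286 : sm gd N25988 = N21594 := ded_14_2 (flp_b L169489) (flp_d L169483) L201284
theorem L201288 : sm gc N25988 = N25988 := ded_13_2 (flp_b L201284) L169481 L145242 (flp_c L169481) L201284
theorem L201289 : sm ga N25988 = N25988 := ded_9_3 L201286 L173311 (flp_d L201286)
theorem L201290 : sm ga N21593 = N25989 := rfl
theorem L201292 : sm ge N25989 = N22206 := ded_10_2 (flp_a L173601) (flp_e L169487) L201290
theorem L201294 : sm gc N21593 = N25990 := rfl
theorem L201296 : sm ge N25990 = N22207 := ded_19_2 (flp_c L173605) (flp_e L169487) L201294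
theorem L201298 : sm gb N25990 = N21595 := ded_13_1 (flp_c L169493) (flp_b L117393) (flp_c L117383) L169485 L201294
theorem L201300 : sm gg N21635 = N25990 := ded_26_0 L201296 (flp_g L173609) (flp_e L169737)
theorem L201302 : sm gg N21593 = N25991 := rfl
theorem L201304 : sm gc N25991 = N21635 := ded_21_1 L201300 (flp_c L201294) L201302
theorem L201306 : sm ge N25991 = N22208 := ded_26_1 (flp_g L173611) (flp_e L169487) L201302
theorem L201308 : sm gb N25991 = N21656 := ded_17_1 (flp_g L197485) L197487 L166919 L169485 L201302
theorem L201310 : sm gf N21642 = N25991 := ded_20_0 L201304 L169739 L169789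
theorem L201312 : sm gd N21595 = N25992 := rfl
theorem L201314 : sm gf N25992 = N21614 := ded_23_2 (flp_d L169607) (flp_f L169497) L201312
theorem L201316 : sm gg N25992 = N25329 := ded_24_2 (flp_d L197105) (flp_g L169499) L201312
theorem L201318 : sm gd N21596 = N25993 := rfl
theorem L201320 : sm ga N25993 = N21817 := ded_9_1 (flp_d L170911) (flp_a L169507) L201318
theorem L201322 : sm gb N25993 = N21597 := ded_14_1 (flp_d L169509) L169501 L201318
theorem L201324 : sm gc N23374 = N25993 := ded_13_0 L201322 L182930 L182928 (flp_c L145774) (flp_b L182393)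
theorem L201326 : sm gg N21596 = N25994 := rfl
theorem L201328 : sm ga N25994 = N21819 := ded_12_1 (flp_g L170919) (flp_a L169507) L201326
theorem L201330 : sm gc N25994 = N21871 := ded_21_1 (flp_g L171264) (flp_c L169505) L201326
theorem L201332 : sm ge N25994 = N22211 := ded_26_1 (flp_g L173631) (flp_e L169503) L201326
theorem L201334 : sm ge N21597 = N25995 := rfl
theorem L201336 : sm ga N25995 = N21601 := ded_10_1 (flp_e L169527) (flp_a L169511) L201334
theorem L201338 : sm gd N25995 = N22212 := ded_22_1 (flp_e L173637) (flp_d L122344) (flp_e L117413) L169509 L201334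
theorem L201340 : sm gf N21597 = N25996 := rfl
theorem L201342 : sm ga N25996 = N21602 := ded_11_1 (flp_f L169533) (flp_a L169511) L201340
theorem L201344 : sm gd N25996 = N21598 := ded_23_1 (flp_f L169513) L169509 L201340
theorem L201346 : sm gg N21597 = N25997 := rfl
theorem L201348 : sm ga N25997 = N21603 := ded_12_1 (flp_g L169537) (flp_a L169511) L201346
theorem L201350 : sm gd N25997 = N21599 := ded_24_1 (flp_g L169519) L169509 L201346
theorem L201352 : sm gb N21599 = N25998 := rfl
theorem L201354 : sm ge N25998 = N22214 := ded_15_2 (flp_b L173649) (flp_e L169523) L201352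
theorem L201356 : sm ga N23502 = N25998 := ded_10_3 L201354 L183217 (flp_e L183185)
theorem L201358 : sm gb N21600 = N25999 := rfl
theorem L201360 : sm gc N25999 = N21607 := ded_13_2 (flp_b L169561) (flp_c L117427) (flp_b L117417) L169525 L201358
theorem L201362 : sm ge N21600 = N26000 := rfl
theorem L201364 : sm gc N26000 = N21601 := ded_19_1 (flp_e L169527) L169525 L201362
theorem L201366 : sm gf N21600 = N26001 := rfl
theorem L201368 : sm gc N26001 = N21602 := ded_20_1 (flp_f L169533) L169525 L201366
theorem L201370 : sm gg N21600 = N26002 := rfl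
theorem L201372 : sm gc N26002 = N21603 := ded_21_1 (flp_g L169537) L169525 L201370
theorem L201374 : sm gf N21601 = N26003 := rfl
theorem L201376 : sm gd N26003 = N22218 := ded_23_1 (flp_f L173671) (flp_d L169531) L201374
theorem L201378 : sm ge N26003 = N21602 := ded_25_1 (flp_f L169533) L169527 L201374
theorem L201380 : sm gg N21601 = N26004 := rfl
theorem L201382 : sm gd N26004 = N22219 := ded_24_1 (flp_g L173675) (flp_d L169531) L201380
theorem L201384 : sm ge N26004 = N21603 := ded_26_1 (flp_g L169537) L169527 L201380
theorem L201386 : sm gb N21602 = N26005 := rfl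
theorem L201388 : sm gd N26005 = N21604 := ded_14_2 (flp_b L169541) (flp_d L169535) L201386
theorem L201390 : sm gf N26005 = N21611 := ded_16_2 (flp_b L169591) (flp_f L117439) (flp_b L117417) L169533 L201386
theorem L201392 : sm gg N21602 = N26006 := rfl
theorem L201394 : sm gd N26006 = N21605 := ded_24_1 (flp_g L169547) (flp_d L169535) L201392
theorem L201396 : sm gf N25997 = N26006 := ded_29_0 (flp_g L201392) (flp_f L169533) L169537 (flp_a L201348)
theorem L201398 : sm gf N21603 = N26007 := rfl
theorem L201400 : sm ga N26007 = N26006 := ded_11_1 (flp_f L201396) L201348 L201398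
theorem L201402 : sm gd N26007 = N21606 := ded_23_1 (flp_f L169553) (flp_d L169539) L201398
theorem L201404 : sm gg N26007 = N25996 := ded_29_3 L201342 (flp_f L169533) L169537 L201398
theorem L201406 : sm gg N21604 = N26008 := rfl
theorem L201408 : sm ge N26008 = N22223 := ded_26_1 (flp_g L173703) (flp_e L169543) L201406
theorem L201410 : sm gf N23040 = N26008 := ded_29_0 (flp_g L201406) L169545 L169601 (flp_a L180053)
theorem L201412 : sm ga N21607 = N26009 := rfl
theorem L201414 : sm gd N26009 = N25689 := ded_9_2 (flp_a L199233) (flp_d L169563) L201412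
theorem L201416 : sm ge N21607 = N26010 := rfl
theorem L201418 : sm gb N26010 = N21608 := ded_15_1 (flp_e L169565) L169561 L201416
theorem L201420 : sm gf N21607 = N26011 := rfl
theorem L201422 : sm gd N26011 = N25691 := ded_23_1 (flp_f L199241) (flp_d L169563) L201420
theorem L201424 : sm gg N21607 = N26012 := rfl
theorem L201426 : sm gd N26012 = N25692 := ded_24_1 (flp_g L199244) (flp_d L169563) L201424
theorem L201428 : sm gd N21608 = N26013 := rfl
theorem L201430 : sm ga N26013 = N21622 := ded_9_1 (flp_d L169645) (flp_a L169567) L201428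
theorem L201432 : sm ge N26013 = N25693 := ded_22_2 (flp_d L199247) (flp_e L168227) L117431 L169565 L201428
theorem L201434 : sm gf N21608 = N26014 := rfl
theorem L201436 : sm ga N26014 = N21623 := ded_11_1 (flp_f L169647) (flp_a L169567) L201434
theorem L201438 : sm gc N26014 = N21610 := ded_20_1 (flp_f L169581) (flp_c L169569) L201434
theorem L201440 : sm ge N26014 = N21609 := ded_25_1 (flp_f L169571) L169565 L201434
theorem L201442 : sm gg N25945 = N26014 := ded_29_1 (flp_f L201434) (flp_g L200902) L200898 L200934
theorem L201444 : sm gb N21609 = N26015 := rfl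
theorem L201446 : sm gd N26015 = N25695 := ded_14_2 (flp_b L199255) (flp_d L169577) L201444
theorem L201448 : sm gc N21611 = N26016 := rfl
theorem L201450 : sm ge N26016 = N25531 := ded_19_2 (flp_c L198328) L179315 L201448
theorem L201452 : sm gd N25529 = N26016 := ded_22_5 L201450 (flp_d L198324) (flp_e L167541) L167535 L198310
theorem L201454 : sm gg N21611 = N26017 := rfl
theorem L201456 : sm gd N26017 = N21613 := ded_24_1 (flp_g L169601) (flp_d L169593) L201454
theorem L201458 : sm gb N26017 = N25950 := ded_17_1 (flp_g L200954) (flp_b L169325) L117445 L169591 L201454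
theorem L201460 : sm gd N21612 = N26018 := rfl
theorem L201462 : sm gb N26018 = N21614 := ded_14_1 (flp_d L169607) (flp_b L169599) L201460
theorem L201464 : sm ge N26018 = N24524 := ded_22_2 L191549 L191547 (flp_d L173743) (flp_e L169597) L201460
theorem L201466 : sm gc N26018 = N24525 := ded_28_6 L191061 (flp_a L197797) (flp_c L198314) L201452 (flp_c L201448) L169593 L169595 L201460
theorem L201468 : sm gf N21613 = N26019 := rfl
theorem L201470 : sm ga N26019 = N26008 := ded_11_1 (flp_f L201410) L180053 L201468
theorem L201472 : sm gc N26019 = N24942 := ded_20_1 L193827 (flp_c L192863) L201468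
theorem L201474 : sm ge N26019 = N22232 := ded_25_1 (flp_f L173757) (flp_e L169603) L201468
theorem L201476 : sm gg N26019 = N23027 := ded_29_3 L179941 L169545 L169601 L201468
theorem L201478 : sm gb N26019 = N23979 := ded_16_1 L191461 (flp_b L201016) (flp_f L201008) (flp_b L169605) L201468
theorem L201480 : sm gc N21614 = N26020 := rfl
theorem L201482 : sm ge N21614 = N26021 := rfl
theorem L201484 : sm gb N26021 = N24524 := ded_15_1 (flp_e L201464) L201462 L201482
theorem L201486 : sm gd N26021 = N22233 := ded_22_1 (flp_e L173767) (flp_d L122420) (flp_e L117453) L169607 L201482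
theorem L201488 : sm gb N21615 = N26022 := rfl
theorem L201490 : sm gc N26022 = N22435 := ded_13_2 (flp_b L182311) (flp_c L187823) (flp_b L171019) (flp_c L169611) L201488
theorem L201492 : sm gg N22434 = N26022 := ded_21_0 L201490 (flp_g L175266) L175264
theorem L201494 : sm gd N21615 = N26023 := rfl
theorem L201496 : sm ga N26023 = N21616 := ded_9_1 (flp_d L169613) L169609 L201494
theorem L201498 : sm ge N21615 = N26024 := rfl
theorem L201500 : sm ga N26024 = N21617 := ded_10_1 (flp_e L169617) L169609 L201498
theorem L201502 : sm gc N26024 = N21837 := ded_19_1 (flp_e L171023) (flp_c L169611) L201498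
theorem L201504 : sm gf N21615 = N26025 := rfl
theorem L201506 : sm ga N26025 = N21618 := ded_11_1 (flp_f L169623) L169609 L201504
theorem L201508 : sm gc N26025 = N21838 := ded_20_1 (flp_f L171029) (flp_c L169611) L201504
theorem L201510 : sm gg N21615 = N26026 := rfl
theorem L201512 : sm ga N26026 = N21619 := ded_12_1 (flp_g L169627) L169609 L201510
theorem L201514 : sm gc N26026 = N21839 := ded_21_1 (flp_g L171035) (flp_c L169611) L201510
theorem L201516 : sm gc N21616 = N26027 := rfl
theorem L201518 : sm gb N26027 = N25676 := ded_13_1 (flp_c L199181) L168202 L117463 (flp_b L169615) L201516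
theorem L201520 : sm ge N21616 = N26028 := rfl
theorem L201522 : sm gb N26028 = N21620 := ded_15_1 (flp_e L169631) (flp_b L169615) L201520
theorem L201524 : sm gf N21616 = N26029 := rfl
theorem L201526 : sm gd N26029 = N21618 := ded_23_1 (flp_f L169623) L169613 L201524
theorem L201528 : sm gg N21616 = N26030 := rfl
theorem L201530 : sm gd N26030 = N21619 := ded_24_1 (flp_g L169627) L169613 L201528
theorem L201532 : sm gd N21617 = N26031 := rfl
theorem L201534 : sm gb N26031 = N21622 := ded_14_1 (flp_d L169645) (flp_b L169619) L201532
theorem L201536 : sm gf N21617 = N26032 := rfl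
theorem L201538 : sm gc N26032 = N21840 := ded_20_1 (flp_f L171041) (flp_c L169621) L201536
theorem L201540 : sm ge N26032 = N21618 := ded_25_1 (flp_f L169623) L169617 L201536
theorem L201542 : sm gg N21617 = N26033 := rfl
theorem L201544 : sm gc N26033 = N21841 := ded_21_1 (flp_g L171049) (flp_c L169621) L201542
theorem L201546 : sm ge N26033 = N21619 := ded_26_1 (flp_g L169627) L169617 L201542
theorem L201548 : sm gb N21618 = N26034 := rfl
theorem L201550 : sm gf N26034 = N21624 := ded_16_2 (flp_b L169653) (flp_f L117469) L117455 L169623 L201548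
theorem L201552 : sm gg N21618 = N26035 := rfl
theorem L201554 : sm gc N26035 = N21842 := ded_21_1 (flp_g L171057) (flp_c L169625) L201552
theorem L201556 : sm gf N26026 = N26035 := ded_29_0 (flp_g L201552) (flp_f L169623) L169627 (flp_a L201512)
theorem L201558 : sm gf N21619 = N26036 := rfl
theorem L201560 : sm ga N26036 = N26035 := ded_11_1 (flp_f L201556) L201512 L201558
theorem L201562 : sm gc N26036 = N21843 := ded_20_1 (flp_f L171063) (flp_c L169629) L201558
theorem L201564 : sm gg N26036 = N26025 := ded_29_3 L201506 (flp_f L169623) L169627 L201558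
theorem L201566 : sm gd N21620 = N26037 := rfl
theorem L201568 : sm ga N26037 = N25693 := ded_9_1 (flp_d L199247) (flp_a L169633) L201566
theorem L201570 : sm ge N26037 = N21622 := ded_22_2 (flp_d L169645) (flp_e L117465) L117459 L169631 L201566
theorem L201572 : sm gf N21620 = N26038 := rfl
theorem L201574 : sm ga N26038 = N25694 := ded_11_1 (flp_f L199249) (flp_a L169633) L201572
theorem L201576 : sm gc N26038 = N25683 := ded_20_1 (flp_f L199209) (flp_c L169635) L201572
theorem L201578 : sm ge N26038 = N21621 := ded_25_1 (flp_f L169637) L169631 L201572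
theorem L201580 : sm gb N21621 = N26039 := rfl
theorem L201582 : sm gd N26039 = N21624 := ded_14_2 (flp_b L169653) (flp_d L169643) L201580
theorem L201584 : sm gc N21622 = N26040 := rfl
theorem L201586 : sm gf N21622 = N26041 := rfl
theorem L201588 : sm gd N26041 = N21623 := ded_23_1 (flp_f L169647) L169645 L201586
theorem L201590 : sm gb N21623 = N26042 := rfl
theorem L201592 : sm ge N26042 = N21624 := ded_15_2 (flp_b L169653) (flp_e L169651) L201590
theorem L201594 : sm gg N21623 = N26043 := rfl
theorem L201596 : sm ga N26043 = N25945 := ded_12_1 L201442 L201436 L201594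
theorem L201598 : sm gc N26043 = N21626 := ded_21_1 (flp_g L169663) (flp_c L169649) L201594
theorem L201600 : sm ge N26043 = N21625 := ded_26_1 (flp_g L169655) (flp_e L169651) L201594
theorem L201602 : sm gf N25937 = N26043 := ded_29_0 (flp_g L201594) (flp_f L169647) (flp_g L169313) (flp_a L200898)
theorem L201604 : sm ga N21624 = N26044 := rfl
theorem L201606 : sm gg N21624 = N26045 := rfl
theorem L201608 : sm gb N21625 = N26046 := rfl
theorem L201610 : sm gb N21626 = N26047 := rfl
theorem L201612 : sm gd N26047 = N22254 := ded_14_2 (flp_b L173871) (flp_d L169667) L201610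
theorem L201614 : sm ge N26047 = N21627 := ded_15_2 (flp_b L169673) (flp_e L169669) L201610
theorem L201616 : sm ga N21627 = N26048 := rfl
theorem L201618 : sm gd N26048 = N21628 := ded_9_2 (flp_a L169677) (flp_d L169675) L201616
theorem L201620 : sm gc N21627 = N26049 := rfl
theorem L201622 : sm gf N21627 = N26050 := rfl
theorem L201624 : sm gd N26050 = N21630 := ded_23_1 (flp_f L169687) (flp_d L169675) L201622
theorem L201626 : sm gb N26050 = N25933 := ded_16_1 (flp_f L200872) L169269 L117485 L169673 L201622
theorem L201628 : sm gc N21628 = N26051 := rfl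
theorem L201630 : sm ga N26051 = N21629 := ded_8_1 (flp_c L169681) L169677 L201628
theorem L201632 : sm ge N26051 = N22258 := ded_19_2 (flp_c L173891) (flp_e L169679) L201628
theorem L201634 : sm gb N26051 = N23892 := ded_13_1 L186317 L155024 (flp_c L186111) (flp_b L186115) L201628
theorem L201636 : sm gf N21628 = N26052 := rfl
theorem L201638 : sm ga N26052 = N21630 := ded_11_1 (flp_f L169687) L169677 L201636
theorem L201640 : sm ge N26052 = N22259 := ded_25_1 (flp_f L173897) (flp_e L169679) L201636
theorem L201642 : sm gg N24852 = N26052 := ded_29_1 (flp_f L201636) (flp_g L193213) (flp_a L193209) L193225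
theorem L201644 : sm gf N21629 = N26053 := rfl
theorem L201646 : sm gc N26053 = N21630 := ded_20_1 (flp_f L169687) L169681 L201644
theorem L201648 : sm ge N26053 = N22261 := ded_25_1 (flp_f L173909) (flp_e L169683) L201644
theorem L201650 : sm gg N21630 = N26054 := rfl
theorem L201652 : sm ga N26054 = N24852 := ded_12_1 L201642 L201638 L201650
theorem L201654 : sm ge N26054 = N22262 := ded_26_1 (flp_g L173913) (flp_e L169689) L201650
theorem L201656 : sm gf N24850 = N26054 := ded_29_0 (flp_g L201650) (flp_f L169687) (flp_g L160738) L193209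
theorem L201658 : sm gb N21631 = N26055 := rfl
theorem L201660 : sm gd N26055 = N25154 := ded_14_2 L195713 L169703 L201658
theorem L201662 : sm ge N26055 = N22263 := ded_15_2 (flp_b L173919) (flp_e L169697) L201658
theorem L201664 : sm gc N26055 = N24932 := ded_13_2 L193745 L191289 L159467 L169693 L201658
theorem L201666 : sm gf N26055 = N25160 := ded_16_2 L195759 L164508 (flp_b L165458) (flp_f L169699) L201658
theorem L201668 : sm gg N26055 = N24931 := ded_17_2 L193739 L192905 (flp_b L192897) (flp_g L169701) L201658
theorem L201670 : sm gb N21632 = N26056 := rfl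
theorem L201672 : sm gd N26056 = N25239 := ded_14_2 L196458 (flp_d L169711) L201670
theorem L201674 : sm ge N26056 = N22105 := ded_15_2 L172859 (flp_e L169713) L201670
theorem L201676 : sm gc N26056 = N22106 := ded_13_2 L172867 L169247 (flp_b L117509) (flp_c L169709) L201670
theorem L201678 : sm gg N24594 = N26056 := ded_24_0 L201672 L196460 (flp_d L191529)
theorem L201680 : sm ga N22111 = N26056 := ded_10_3 L201674 L172855 L172895
theorem L201682 : sm gd N21633 = N26057 := rfl
theorem L201684 : sm ga N26057 = N24461 := ded_9_1 (flp_d L190625) (flp_a L169719) L201682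
theorem L201686 : sm gb N26057 = N24614 := ded_14_1 (flp_d L191678) (flp_b L169727) L201682
theorem L201688 : sm gf N26057 = N25868 := ded_23_2 (flp_d L200367) (flp_f L169723) L201682
theorem L201690 : sm gg N26057 = N25294 := ded_24_2 (flp_d L196893) (flp_g L169725) L201682
theorem L201692 : sm gc N25294 = N26057 := ded_28_0 (flp_d L201682) (flp_c L169717) L144327 (flp_c L144317) L103828 L115206 L166158 (flp_a L196895)
theorem L201694 : sm gb N21634 = N26058 := rfl
theorem L201696 : sm gd N26058 = N21635 := ded_14_2 (flp_b L169735) (flp_d L169733) L201694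
theorem L201698 : sm gf N26058 = N21638 := ded_16_2 (flp_b L169761) (flp_f L117557) (flp_b L117529) L169729 L201694
theorem L201700 : sm gg N21634 = N26059 := rfl
theorem L201702 : sm ga N26059 = N23400 := ded_12_1 L193241 L193233 L201700
theorem L201704 : sm gc N26059 = N22935 := ded_21_1 (flp_g L179229) (flp_c L169731) L201700
theorem L201706 : sm gd N26059 = N21636 := ded_24_1 (flp_g L169741) (flp_d L169733) L201700
theorem L201708 : sm ge N26059 = N23396 := ded_26_1 (flp_g L182575) L182573 L201700
theorem L201710 : sm gf N23395 = N26059 := ded_29_0 (flp_g L201700) (flp_f L169729) (flp_g L150900) (flp_a L182507)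
theorem L201712 : sm gb N25329 = N26059 := ded_14_3 L201706 (flp_b L169751) L197105
theorem L201714 : sm ga N21635 = N26060 := rfl
theorem L201716 : sm ge N26060 = N22265 := ded_10_2 (flp_a L173941) (flp_e L169737) L201714
theorem L201718 : sm gf N26060 = N21641 := ded_11_2 (flp_a L169785) (flp_f L169739) L201714
theorem L201720 : sm gb N24122 = N26060 := ded_30_2 (flp_a L201714) L169739 L169789 L169793 (flp_a L169811) L169815 (flp_c L117731) L117723 (flp_a L158785) L160422 L192691 L192701 L187761 (flp_f L160722) L156458 (flp_b L156707) (flp_a L156703) L156719 (flp_c L188109)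
theorem L201722 : sm gb N21637 = N26061 := rfl
theorem L201724 : sm gd N26061 = N22266 := ded_14_2 (flp_b L173947) (flp_d L169757) L201722
theorem L201726 : sm ge N26061 = N21638 := ded_15_2 (flp_b L169761) (flp_e L169759) L201722
theorem L201728 : sm ga N21638 = N26062 := rfl
theorem L201730 : sm gd N26062 = N21641 := ded_9_2 (flp_a L169785) (flp_d L169763) L201728
theorem L201732 : sm gc N21638 = N26063 := rfl
theorem L201734 : sm gb N26063 = N23299 := ded_13_1 (flp_c L181883) (flp_b L145112) (flp_c L117559) L169761 L201732
theorem L201736 : sm gg N21638 = N26064 := rfl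
theorem L201738 : sm gd N26064 = N21643 := ded_24_1 (flp_g L169795) (flp_d L169763) L201736
theorem L201740 : sm gb N21639 = N26065 := rfl
theorem L201742 : sm gd N26065 = N21644 := ded_14_2 (flp_b L169799) (flp_d L169769) L201740
theorem L201744 : sm gb N21640 = N26066 := rfl
theorem L201746 : sm gd N26066 = N21645 := ded_14_2 (flp_b L169803) (flp_d L169779) L201744
theorem L201748 : sm ge N26066 = N23418 := ded_15_2 L182667 (flp_e L169781) L201744
theorem L201750 : sm gf N26066 = N23408 := ded_16_2 (flp_b L182605) (flp_f L145578) (flp_b L150001) L169773 L201744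
theorem L201752 : sm gb N21641 = N26067 := rfl
theorem L201754 : sm ge N26067 = N22271 := ded_15_2 (flp_b L173966) (flp_e L169787) L201752
theorem L201756 : sm gf N26067 = N24120 := ded_16_2 (flp_b L188093) L188105 L201720 L201718 L201752
theorem L201758 : sm ga N24882 = N26067 := ded_10_3 L201754 (flp_a L173970) (flp_e L193413)
theorem L201760 : sm gc N24126 = N26067 := ded_19_3 L201754 (flp_c L173972) (flp_e L188135)
theorem L201762 : sm gc N21641 = N26068 := rfl
theorem L201764 : sm ga N26068 = N21642 := ded_8_1 (flp_c L169789) L169785 L201762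
theorem L201766 : sm ge N26068 = N22272 := ded_19_2 (flp_c L173974) (flp_e L169787) L201762
theorem L201768 : sm gg N25983 = N26068 := ded_29_3 L201764 L201310 (flp_g L201302) (flp_f L201249)
theorem L201770 : sm gg N21641 = N26069 := rfl
theorem L201772 : sm ga N26069 = N21643 := ded_12_1 (flp_g L169795) L169785 L201770
theorem L201774 : sm gc N26069 = N25983 := ded_21_1 L201768 (flp_c L201762) L201770
theorem L201776 : sm ge N26069 = N22273 := ded_26_1 (flp_g L173980) (flp_e L169787) L201770
theorem L201778 : sm gf N26069 = N25990 := ded_29_2 (flp_g L201300) L201714 L201718 L201770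
theorem L201780 : sm gb N24941 = N26069 := ded_31_14 (flp_g L201770) (flp_f L201718) (flp_b L201720) (flp_g L193511) (flp_f L193503) L160928 (flp_g L153193) (flp_f L184055) (flp_b L192855) L192879 (flp_f L192873) L192857 L192861 (flp_f L193821)
theorem L201782 : sm gd N21642 = N26070 := rfl
theorem L201784 : sm gb N26070 = N21647 := ded_14_1 (flp_d L169819) (flp_b L169793) L201782
theorem L201786 : sm gg N21642 = N26071 := rfl
theorem L201788 : sm ga N26071 = N25983 := ded_12_1 L201768 L201764 L201786
theorem L201790 : sm gc N26071 = N21643 := ded_21_1 (flp_g L169795) L169789 L201786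
theorem L201792 : sm ge N26071 = N22275 := ded_26_1 (flp_g L174006) (flp_e L169791) L201786
theorem L201794 : sm gf N25989 = N26071 := ded_29_0 (flp_g L201786) L201310 (flp_g L201302) L201290
theorem L201796 : sm gf N21643 = N26072 := rfl
theorem L201798 : sm ga N26072 = N25990 := ded_11_1 (flp_f L201778) L201772 L201796
theorem L201800 : sm gc N26072 = N25989 := ded_20_1 L201794 L201790 L201796
theorem L201802 : sm ge N26072 = N22276 := ded_25_1 (flp_f L174014) (flp_e L169797) L201796
theorem L201804 : sm gg N26072 = N26060 := ded_29_3 (flp_a L201714) L169739 L169795 L201796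
theorem L201806 : sm gb N24095 = N26072 := ded_7_0 L201798 L201298 (flp_a L171298) (flp_b L171290) L118475 L96762 (flp_a L108168) L156607 L187947
theorem L201808 : sm gf N21644 = N26073 := rfl
theorem L201810 : sm ge N26073 = N22277 := ded_25_1 (flp_f L174024) (flp_e L169801) L201808
theorem L201812 : sm gg N21718 = N26073 := ded_29_1 (flp_f L201808) L173996 (flp_a L170264) L170272
theorem L201814 : sm gb N26073 = N24620 := ded_16_1 (flp_f L191716) L159691 L117579 L169799 L201808
theorem L201816 : sm ga N21645 = N26074 := rfl
theorem L201818 : sm ge N26074 = N22278 := ded_10_2 (flp_a L174032) (flp_e L169805) L201816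
theorem L201820 : sm gf N26074 = N21877 := ded_11_2 (flp_a L171304) (flp_f L169807) L201816
theorem L201822 : sm gc N23554 = N26074 := ded_19_3 L201818 L174038 L183601
theorem L201824 : sm gc N21645 = N26075 := rfl
theorem L201826 : sm ga N26075 = N23554 := ded_8_1 L201822 (flp_a L201816) L201824
theorem L201828 : sm ge N26075 = N22279 := ded_19_2 (flp_c L174040) (flp_e L169805) L201824
theorem L201830 : sm gf N26075 = N23703 := ded_20_2 (flp_c L184698) (flp_f L169807) L201824
theorem L201832 : sm gb N26075 = N21649 := ded_13_1 (flp_c L169833) (flp_b L117619) (flp_c L117589) L169803 L201824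
theorem L201834 : sm gg N21645 = N26076 := rfl
theorem L201836 : sm ge N26076 = N22280 := ded_26_1 (flp_g L174050) (flp_e L169805) L201834
theorem L201838 : sm gb N26076 = N24753 := ded_17_1 (flp_g L192603) (flp_b L160342) (flp_g L117593) L169803 L201834
theorem L201840 : sm gd N21646 = N26077 := rfl
theorem L201842 : sm ga N26077 = N21647 := ded_9_1 (flp_d L169819) (flp_a L169811) L201840
theorem L201844 : sm gf N26077 = N21673 := ded_23_2 (flp_d L169992) (flp_f L169815) L201840
theorem L201846 : sm gg N26077 = N24592 := ded_24_2 (flp_d L191517) (flp_g L169817) L201840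
theorem L201848 : sm gc N21647 = N26078 := rfl
theorem L201850 : sm gf N26078 = N21674 := ded_20_2 (flp_c L169996) (flp_f L169821) L201848
theorem L201852 : sm ge N21647 = N26079 := rfl
theorem L201854 : sm gf N26079 = N21675 := ded_25_2 (flp_e L169998) (flp_f L169821) L201852
theorem L201856 : sm gd N26079 = N22283 := ded_22_1 (flp_e L174080) (flp_d L122625) (flp_e L117605) L169819 L201852
theorem L201858 : sm gg N21647 = N26080 := rfl
theorem L201860 : sm ga N26080 = N24592 := ded_12_1 (flp_g L201846) L201842 L201858
theorem L201862 : sm gd N26080 = N21648 := ded_24_1 (flp_g L169823) L169819 L201858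
theorem L201864 : sm gf N25841 = N26080 := ded_29_0 (flp_g L201858) L169821 L170002 (flp_a L200191)
theorem L201866 : sm gb N21648 = N26081 := rfl
theorem L201868 : sm ge N26081 = N22285 := ded_15_2 (flp_b L174094) (flp_e L169829) L201866
theorem L201870 : sm gc N26081 = N25840 := ded_13_2 (flp_b L200185) L168824 (flp_b L117617) (flp_c L169827) L201866
theorem L201872 : sm gd N21649 = N26082 := rfl
theorem L201874 : sm ga N26082 = N24555 := ded_9_1 L191267 (flp_a L169835) L201872
theorem L201876 : sm gg N26082 = N24549 := ded_24_2 (flp_d L191227) (flp_g L169839) L201872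
theorem L201878 : sm ga N21650 = N26083 := rfl
theorem L201880 : sm ge N26083 = N22291 := ded_10_2 (flp_a L174142) (flp_e L169843) L201878
theorem L201882 : sm gf N26083 = N26083 := ded_11_2 (flp_a L201878) L169845 L201878
theorem L201883 : sm gb N21848 = N26083 := ded_15_3 L201880 (flp_b L174162) (flp_e L171116)
theorem L201885 : sm gg N21665 = N26083 := ded_26_0 L201880 L174158 (flp_e L169934)
theorem L201887 : sm gc N21650 = N26084 := rfl
theorem L201889 : sm ge N26084 = N22292 := ded_19_2 (flp_c L174145) (flp_e L169843) L201887
theorem L201891 : sm gf N26084 = N26084 := ded_20_2 (flp_c L201887) L169845 L201887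
theorem L201892 : sm gb N26084 = N24392 := ded_13_1 L193249 (flp_b L193243) L160752 L169841 L201887
theorem L201894 : sm gg N21650 = N26085 := rfl
theorem L201896 : sm ga N26085 = N21665 := ded_12_1 L201885 (flp_a L201878) L201894
theorem L201898 : sm ge N26085 = N22293 := ded_26_1 (flp_g L174152) (flp_e L169843) L201894
theorem L201900 : sm gf N21665 = N26085 := ded_29_0 (flp_g L201894) L169845 L201894 L201896
theorem L201902 : sm gb N26085 = N21700 := ded_17_1 L172194 (flp_b L169890) L117671 L169841 L201894
theorem L201904 : sm gb N21651 = N26086 := rfl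
theorem L201906 : sm gd N26086 = N22299 := ded_14_2 (flp_b L174212) (flp_d L169848) L201904
theorem L201908 : sm ge N26086 = N21652 := ded_15_2 (flp_b L169852) (flp_e L169850) L201904
theorem L201910 : sm gf N26086 = N21661 := ded_16_2 (flp_b L169914) (flp_f L117693) (flp_b L117641) L169846 L201904
theorem L201912 : sm ga N21652 = N26087 := rfl
theorem L201914 : sm gd N26087 = N21655 := ded_9_2 (flp_a L169878) (flp_d L169854) L201912
theorem L201916 : sm gf N26087 = N21662 := ded_11_2 (flp_a L169920) (flp_f L169856) L201912
theorem L201918 : sm gc N21652 = N26088 := rfl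
theorem L201920 : sm gf N26088 = N21663 := ded_20_2 (flp_c L169924) (flp_f L169856) L201918
theorem L201922 : sm gb N21654 = N26089 := rfl
theorem L201924 : sm gd N26089 = N21657 := ded_14_2 (flp_b L169890) (flp_d L169874) L201922
theorem L201926 : sm gb N21655 = N26090 := rfl
theorem L201928 : sm ge N26090 = N22304 := ded_15_2 (flp_b L174250) (flp_e L169880) L201926
theorem L201930 : sm gf N26090 = N21700 := ded_16_2 (flp_b L201902) (flp_f L201900) (flp_b L169932) (flp_f L169882) L201926
theorem L201932 : sm ga N26090 = N21702 := ded_7_1 L170178 (flp_a L171112) L201883 (flp_a L201878) (flp_b L169841) L117629 L117653 L169878 L201926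
theorem L201934 : sm gc N23046 = N26090 := ded_19_3 L201928 L174256 (flp_e L180113)
theorem L201936 : sm gc N21655 = N26091 := rfl
theorem L201938 : sm ga N26091 = N21656 := ded_8_1 (flp_c L169884) L169878 L201936
theorem L201940 : sm ge N26091 = N22305 := ded_19_2 (flp_c L174258) (flp_e L169880) L201936
theorem L201942 : sm gf N26091 = N21666 := ded_20_2 (flp_c L169936) (flp_f L169882) L201936
theorem L201944 : sm gg N26091 = N22460 := ded_21_2 L175428 L169968 L201936
theorem L201946 : sm gb N26091 = N24155 := ded_13_1 L188325 (flp_b L180115) L201934 (flp_b L201926) L201936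
theorem L201948 : sm gd N21656 = N26092 := rfl
theorem L201950 : sm gf N26092 = N21668 := ded_23_2 (flp_d L169952) (flp_f L169888) L201948
theorem L201952 : sm gc N21657 = N26093 := rfl
theorem L201954 : sm ga N26093 = N24580 := ded_8_1 (flp_c L191419) (flp_a L172192) L201952
theorem L201956 : sm ge N26093 = N22307 := ded_19_2 (flp_c L174280) (flp_e L169892) L201952
theorem L201958 : sm gf N26093 = N22998 := ded_20_2 (flp_c L198400) L198402 L201952
theorem L201960 : sm ga N21661 = N26094 := rfl
theorem L201962 : sm gd N26094 = N22308 := ded_9_2 (flp_a L174288) (flp_d L169916) L201960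
theorem L201964 : sm ge N26094 = N21662 := ded_10_2 (flp_a L169920) (flp_e L169918) L201960
theorem L201966 : sm gg N21661 = N26095 := rfl
theorem L201968 : sm gd N26095 = N22309 := ded_24_1 (flp_g L174294) (flp_d L169916) L201966
theorem L201970 : sm ge N26095 = N21664 := ded_26_1 (flp_g L169926) (flp_e L169918) L201966
theorem L201972 : sm gb N26095 = N25547 := ded_17_1 (flp_g L198431) (flp_b L167661) L117701 L169914 L201966
theorem L201974 : sm gb N21662 = N26096 := rfl
theorem L201976 : sm gd N26096 = N21665 := ded_14_2 (flp_b L169932) (flp_d L169922) L201974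
theorem L201978 : sm gc N21662 = N26097 := rfl
theorem L201980 : sm ga N26097 = N21663 := ded_8_1 (flp_c L169924) L169920 L201978
theorem L201982 : sm gg N21662 = N26098 := rfl
theorem L201984 : sm ga N26098 = N21664 := ded_12_1 (flp_g L169926) L169920 L201982
theorem L201986 : sm gd N26098 = N21667 := ded_24_1 (flp_g L169942) (flp_d L169922) L201982
theorem L201988 : sm gf N26098 = N25390 := ded_29_2 L197477 L201912 L201916 L201982
theorem L201990 : sm gb N22833 = N26098 := ded_14_3 L201986 (flp_b L169950) (flp_d L178429)
theorem L201992 : sm ge N26098 = N22849 := ded_15_2 (flp_b L178585) (flp_e L178431) L201990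
theorem L201994 : sm ga N22849 = N26095 := ded_10_1 L201970 (flp_a L201984) L201992
theorem L201996 : sm gg N22849 = N26094 := ded_26_2 L201964 L201982 L201992
theorem L201998 : sm gd N21663 = N26099 := rfl
theorem L202000 : sm gg N21663 = N26100 := rfl
theorem L202002 : sm gc N26100 = N21664 := ded_21_1 (flp_g L169926) L169924 L202000
theorem L202004 : sm gf N21664 = N26101 := rfl
theorem L202006 : sm ga N26101 = N25390 := ded_11_1 (flp_f L201988) L201984 L202004
theorem L202008 : sm gd N26101 = N21670 := ded_23_1 (flp_f L169962) (flp_d L169928) L202004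
theorem L202010 : sm gg N26101 = N26087 := ded_29_3 (flp_a L201912) L169856 L169926 L202004
theorem L202012 : sm gb N21697 = N26101 := ded_7_0 L202006 (flp_b L197473) L166901 L166939 (flp_a L166944) (flp_b L116330) (flp_a L96466) L117827 L170150
theorem L202014 : sm gc N21665 = N26102 := rfl
theorem L202016 : sm ge N26102 = N22313 := ded_19_2 (flp_c L174330) (flp_e L169934) L202014
theorem L202018 : sm gb N21666 = N26103 := rfl
theorem L202020 : sm ge N26103 = N22314 := ded_15_2 (flp_b L174332) (flp_e L169940) L202018
theorem L202022 : sm gf N26103 = N24153 := ded_16_2 (flp_b L188313) L188321 (flp_b L201946) L201942 L202018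
theorem L202024 : sm gd N21666 = N26104 := rfl
theorem L202026 : sm ga N26104 = N21668 := ded_9_1 (flp_d L169952) (flp_a L169938) L202024
theorem L202028 : sm gg N21666 = N26105 := rfl
theorem L202030 : sm ga N26105 = N21669 := ded_12_1 (flp_g L169956) (flp_a L169938) L202028
theorem L202032 : sm gc N26105 = N21667 := ded_21_1 (flp_g L169942) L169936 L202028
theorem L202034 : sm ge N26105 = N22315 := ded_26_1 (flp_g L174336) (flp_e L169940) L202028
theorem L202036 : sm gf N25391 = N26105 := ded_29_0 (flp_g L202028) (flp_f L201942) L201944 (flp_a L197481)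
theorem L202038 : sm gc N21668 = N26106 := rfl
theorem L202040 : sm ge N21668 = N26107 := rfl
theorem L202042 : sm gb N26107 = N21675 := ded_15_1 (flp_e L169998) (flp_b L169954) L202040
theorem L202044 : sm gd N26107 = N22316 := ded_22_1 (flp_e L174344) (flp_d L122810) (flp_e L117713) L169952 L202040
theorem L202046 : sm gg N21668 = N26108 := rfl
theorem L202048 : sm gd N26108 = N21669 := ded_24_1 (flp_g L169956) L169952 L202046
theorem L202050 : sm gd N21671 = N26109 := rfl
theorem L202052 : sm gb N26109 = N25996 := ded_14_1 L201344 (flp_b L169980) L202050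
theorem L202054 : sm gf N26109 = N25292 := ded_23_2 L196881 (flp_f L169976) L202050
theorem L202056 : sm gg N26109 = N25812 := ded_24_2 (flp_d L199985) (flp_g L169978) L202050
theorem L202058 : sm gd N21672 = N26110 := rfl
theorem L202060 : sm ga N26110 = N25981 := ded_9_1 L201235 (flp_a L169988) L202058
theorem L202062 : sm gb N26110 = N21673 := ded_14_1 (flp_d L169992) L169982 L202058
theorem L202064 : sm gf N26110 = N25978 := ded_23_2 (flp_d L201199) L169990 L202058
theorem L202066 : sm gc N21673 = N26111 := rfl
theorem L202068 : sm ga N26111 = N21674 := ded_8_1 (flp_c L169996) (flp_a L169994) L202066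
theorem L202070 : sm gd N25721 = N26111 := ded_28_1 (flp_c L202066) (flp_d L169992) (flp_c L117731) (flp_d L116695) L168358 L199417 L199419 L199421
theorem L202072 : sm ge N21673 = N26112 := rfl
theorem L202074 : sm ga N26112 = N21675 := ded_10_1 (flp_e L169998) (flp_a L169994) L202072
theorem L202076 : sm gd N26112 = N22319 := ded_22_1 (flp_e L174370) (flp_d L122840) (flp_e L117735) L169992 L202072
theorem L202078 : sm gb N21674 = N26113 := rfl
theorem L202080 : sm gd N21674 = N26114 := rfl
theorem L202082 : sm ga N26114 = N25721 := ded_9_1 L202070 L202068 L202080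
theorem L202084 : sm gc N25720 = N26114 := ded_28_0 (flp_d L202080) (flp_c L169996) (flp_d L117737) (flp_c L96412) (flp_d L95943) L116697 L168362 (flp_a L199419)
theorem L202086 : sm ge N21674 = N26115 := rfl
theorem L202088 : sm gc N26115 = N21675 := ded_19_1 (flp_e L169998) L169996 L202086
theorem L202090 : sm gg N21674 = N26116 := rfl
theorem L202092 : sm gc N26116 = N21676 := ded_21_1 (flp_g L170002) L169996 L202090
theorem L202094 : sm gg N21675 = N26117 := rfl
theorem L202096 : sm gd N26117 = N22323 := ded_24_1 (flp_g L174394) (flp_d L170000) L202094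
theorem L202098 : sm ge N26117 = N21676 := ded_26_1 (flp_g L170002) L169998 L202094
theorem L202100 : sm gb N21676 = N26118 := rfl
theorem L202102 : sm gd N26118 = N21677 := ded_14_2 (flp_b L170006) (flp_d L170004) L202100
theorem L202104 : sm ga N21677 = N26119 := rfl
theorem L202106 : sm gc N26119 = N25566 := ded_8_2 (flp_a L198544) (flp_c L170010) L202104
theorem L202108 : sm ge N26119 = N22324 := ded_10_2 (flp_a L174400) (flp_e L170008) L202104
theorem L202110 : sm gg N26119 = N24116 := ded_12_2 (flp_a L188067) (flp_g L175505) L202104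
theorem L202112 : sm gf N26119 = N22466 := ded_29_0 (flp_g L175507) L175499 (flp_g L175505) L202104
theorem L202114 : sm gb N21865 = N26119 := ded_15_3 L202108 L174410 (flp_e L171232)
theorem L202116 : sm gf N21677 = N26120 := rfl
theorem L202118 : sm ga N26120 = N22466 := ded_11_1 (flp_f L202112) (flp_a L202104) L202116
theorem L202120 : sm gc N26120 = N25557 := ded_20_1 L198496 (flp_c L170010) L202116
theorem L202122 : sm ge N26120 = N22325 := ded_25_1 (flp_f L174412) (flp_e L170008) L202116
theorem L202124 : sm gg N26120 = N22461 := ded_29_3 L175434 L175499 (flp_g L175505) L202116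
theorem L202126 : sm gf N21678 = N26121 := rfl
theorem L202128 : sm ga N26121 = N21683 := ded_11_1 (flp_f L170048) (flp_a L170014) L202126
theorem L202130 : sm gc N26121 = N24944 := ded_20_1 (flp_f L193843) (flp_c L170016) L202126
theorem L202132 : sm gd N26121 = N21679 := ded_23_1 (flp_f L170018) L170012 L202126
theorem L202134 : sm gg N21678 = N26122 := rfl
theorem L202136 : sm ga N26122 = N21684 := ded_12_1 (flp_g L170052) (flp_a L170014) L202134
theorem L202138 : sm gc N26122 = N24945 := ded_21_1 (flp_g L193847) (flp_c L170016) L202134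
theorem L202140 : sm gd N26122 = N21680 := ded_24_1 (flp_g L170024) L170012 L202134
theorem L202142 : sm ge N26122 = N23114 := ded_26_1 (flp_g L180809) L180811 L202134
theorem L202144 : sm gf N26122 = N25890 := ded_29_2 L200533 (flp_a L202128) (flp_f L202126) L202134
theorem L202146 : sm gf N21681 = N26123 := rfl
theorem L202148 : sm ga N26123 = N24944 := ded_11_1 (flp_f L193843) (flp_a L170034) L202146
theorem L202150 : sm gc N26123 = N21683 := ded_20_1 (flp_f L170048) L170032 L202146
theorem L202152 : sm gd N26123 = N24936 := ded_23_1 (flp_f L193781) (flp_d L170038) L202146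
theorem L202154 : sm gg N21681 = N26124 := rfl
theorem L202156 : sm ga N26124 = N24945 := ded_12_1 (flp_g L193847) (flp_a L170034) L202154
theorem L202158 : sm gc N26124 = N21684 := ded_21_1 (flp_g L170052) L170032 L202154
theorem L202160 : sm gd N26124 = N24937 := ded_24_1 (flp_g L193787) (flp_d L170038) L202154
theorem L202162 : sm ge N26124 = N23115 := ded_26_1 (flp_g L191746) (flp_e L191750) L202154
theorem L202164 : sm gb N26124 = N24531 := ded_17_1 (flp_g L191093) (flp_b L160428) (flp_g L168316) (flp_b L170036) L202154
theorem L202166 : sm gf N21684 = N26125 := rfl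
theorem L202168 : sm ga N26125 = N25890 := ded_11_1 (flp_f L202144) L202136 L202166
theorem L202170 : sm gd N26125 = N21688 := ded_23_1 (flp_f L170092) (flp_d L170054) L202166
theorem L202172 : sm ge N26125 = N23116 := ded_25_1 (flp_f L180639) (flp_e L170056) L202166
theorem L202174 : sm gg N26125 = N26121 := ded_29_3 L202128 (flp_f L170048) L170052 L202166
theorem L202176 : sm gc N21690 = N26126 := rfl
theorem L202178 : sm gb N26126 = N25715 := ded_13_1 (flp_c L199395) (flp_b L168332) (flp_c L117777) L170112 L202176
theorem L202180 : sm gc N21691 = N26127 := rfl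
theorem L202182 : sm ge N26127 = N21913 := ded_19_2 L178331 L178323 L202180
theorem L202184 : sm gg N26127 = N21912 := ded_21_2 L180435 (flp_g L180439) L202180
theorem L202186 : sm gb N26127 = N21698 := ded_13_1 (flp_c L170154) (flp_b L117827) (flp_c L117795) L170116 L202180
theorem L202188 : sm gb N21692 = N26128 := rfl
theorem L202190 : sm gd N26128 = N22336 := ded_14_2 (flp_b L174533) (flp_d L170120) L202188
theorem L202192 : sm ge N26128 = N21695 := ded_15_2 (flp_b L170140) (flp_e L170122) L202188
theorem L202194 : sm gc N26128 = N23682 := ded_13_2 (flp_b L184523) L152949 L178183 L178175 L202188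
theorem L202196 : sm gf N26128 = N22850 := ded_16_2 (flp_b L178589) (flp_f L129840) L150502 (flp_f L170124) L202188
theorem L202198 : sm gb N21693 = N26129 := rfl
theorem L202200 : sm gd N26129 = N22337 := ded_14_2 (flp_b L174537) (flp_d L170130) L202198
theorem L202202 : sm ge N26129 = N21696 := ded_15_2 (flp_b L170144) (flp_e L170132) L202198
theorem L202204 : sm gc N26129 = N23532 := ded_13_2 (flp_b L183383) L151890 L151904 (flp_c L170128) L202198
theorem L202206 : sm gg N26129 = N21694 := ded_17_2 (flp_b L170134) (flp_g L117807) L117799 L170126 L202198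
theorem L202208 : sm ga N21694 = N26130 := rfl
theorem L202210 : sm gd N26130 = N22338 := ded_9_2 (flp_a L174543) (flp_d L170136) L202208
theorem L202212 : sm ge N26130 = N21697 := ded_10_2 (flp_a L170150) (flp_e L170138) L202208
theorem L202214 : sm gf N26130 = N22470 := ded_11_2 (flp_a L184559) L184557 L202208
theorem L202216 : sm gc N22472 = N26130 := ded_20_3 L202214 (flp_c L175529) L175535
theorem L202218 : sm gc N21694 = N26131 := rfl
theorem L202220 : sm ga N26131 = N22472 := ded_8_1 L202216 (flp_a L202208) L202218
theorem L202222 : sm ge N26131 = N21698 := ded_19_2 (flp_c L170154) (flp_e L170138) L202218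
theorem L202224 : sm gf N26131 = N22210 := ded_20_2 (flp_c L184555) L184557 L202218
theorem L202226 : sm gg N26131 = N23532 := ded_21_2 (flp_c L202204) L202206 L202218
theorem L202228 : sm gb N26131 = N21913 := ded_13_1 L178331 (flp_b L178319) L149688 L170134 L202218
theorem L202230 : sm gd N26131 = N21914 := ded_32_3 L171506 L124061 (flp_d L171692) (flp_c L173691) L173693 L164007 (flp_b L174787) (flp_d L174785) L123051 L123069 L174842 (flp_b L184724) L184726 L153241 (flp_d L151441) (flp_c L105704) (flp_b L89991) L39833 L18905 L9153 (flp_c L9241) L19107 L19109 (flp_d L19483) (flp_c L142178) L142180 (flp_c L141920) (flp_b L9583) L4848 L2530 L1293 (flp_c L65298) (flp_b L601) (flp_d L580) (flp_c L1220) (flp_d L2376) L66619 L4595 L4597 L4713 L9347 (flp_c L141705) (flp_b L70553) (flp_d L5374) (flp_c L82422) L3260 L3477 L6796 (flp_e L13402) L27892 L86164 L99307 L141006 (flp_b L164037) (flp_d L164035) (flp_c L113136) (flp_d L113130) L164015 L164017 L142451 (flp_c L124417) (flp_d L99143) L86089 L86657 (flp_d L99834) L125404 L163465 (flp_c L111801) (flp_b L93347) (flp_d L93345) (flp_c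 L111785) L111787 L98323 L98355 (flp_e L122927) (flp_d L170136) L202218
theorem L202232 : sm ga N21695 = N26132 := rfl
theorem L202234 : sm gd N26132 = N21700 := ded_9_2 (flp_a L170162) (flp_d L170142) L202232
theorem L202236 : sm gg N26089 = N26132 := ded_24_0 L202234 L172194 (flp_d L201924)
theorem L202238 : sm gc N21695 = N26133 := rfl
theorem L202240 : sm ge N26133 = N23682 := ded_19_2 (flp_c L202194) L202192 L202238
theorem L202242 : sm gb N26133 = N23683 := ded_13_1 L184529 L182111 L170022 L170140 L202238
theorem L202244 : sm gf N21695 = N26134 := rfl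
theorem L202246 : sm gd N26134 = N21702 := ded_23_1 (flp_f L170172) (flp_d L170142) L202244
theorem L202248 : sm ge N26134 = N22850 := ded_25_1 (flp_f L202196) L202192 L202244
theorem L202250 : sm gb N26134 = N21844 := ded_16_1 (flp_f L171071) (flp_b L118352) (flp_f L117821) L170140 L202244
theorem L202252 : sm gg N21695 = N26135 := rfl
theorem L202254 : sm ga N26135 = N26089 := ded_12_1 L202236 (flp_a L202232) L202252
theorem L202256 : sm gd N26135 = N21703 := ded_24_1 (flp_g L170180) (flp_d L170142) L202252
theorem L202258 : sm ga N21696 = N26136 := rfl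
theorem L202260 : sm gd N26136 = N21704 := ded_9_2 (flp_a L170184) (flp_d L170146) L202258
theorem L202262 : sm gg N26136 = N21697 := ded_12_2 (flp_a L170150) (flp_g L170148) L202258
theorem L202264 : sm gc N21696 = N26137 := rfl
theorem L202266 : sm ge N26137 = N23532 := ded_19_2 (flp_c L202204) L202202 L202264
theorem L202268 : sm gg N26137 = N21698 := ded_21_2 (flp_c L170154) (flp_g L170148) L202264
theorem L202270 : sm gb N26137 = N23199 := ded_13_1 L181195 (flp_b L170090) L170084 L170144 L202264
theorem L202272 : sm gc N21697 = N26138 := rfl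
theorem L202274 : sm ga N26138 = N21698 := ded_8_1 (flp_c L170154) L170150 L202272
theorem L202276 : sm ge N26138 = N22472 := ded_19_2 L202216 L202212 L202272
theorem L202278 : sm gb N23368 = N26138 := ded_15_3 L202276 L175539 (flp_e L182359)
theorem L202280 : sm gf N22471 = N26138 := ded_25_0 L202276 (flp_f L175535) L175531
theorem L202282 : sm gf N21697 = N26139 := rfl
theorem L202284 : sm ga N26139 = N21699 := ded_11_1 (flp_f L170156) L170150 L202282
theorem L202286 : sm gc N26139 = N22471 := ded_20_1 L202280 (flp_c L202272) L202282
theorem L202288 : sm gd N26139 = N21707 := ded_23_1 (flp_f L170204) (flp_d L170152) L202282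
theorem L202290 : sm ge N26139 = N22470 := ded_25_1 (flp_f L202214) L202212 L202282
theorem L202292 : sm gg N25400 = N26139 := ded_29_1 (flp_f L202282) (flp_g L202262) (flp_a L202258) (flp_f L197559)
theorem L202294 : sm gb N26139 = N25399 := ded_16_1 (flp_f L197553) (flp_b L169930) L202004 (flp_b L202012) L202282
theorem L202296 : sm gd N21698 = N26140 := rfl
theorem L202298 : sm gf N21698 = N26141 := rfl
theorem L202300 : sm ga N26141 = N22471 := ded_11_1 L202280 L202274 L202298
theorem L202302 : sm gc N26141 = N21699 := ded_20_1 (flp_f L170156) L170154 L202298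
theorem L202304 : sm ge N26141 = N22210 := ded_25_1 (flp_f L202224) L202222 L202298
theorem L202306 : sm gb N22212 = N26141 := ded_7_0 L202300 L175533 L123578 L98760 L85884 (flp_b L85567) (flp_a L98007) (flp_b L122360) (flp_a L173639)
theorem L202308 : sm gg N21699 = N26142 := rfl
theorem L202310 : sm ga N26142 = N25400 := ded_12_1 L202292 L202284 L202308
theorem L202312 : sm gd N26142 = N21710 := ded_24_1 (flp_g L170224) (flp_d L170158) L202308
theorem L202314 : sm gf N26136 = N26142 := ded_29_0 (flp_g L202308) (flp_f L170156) (flp_g L170148) L202258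
theorem L202316 : sm gc N21700 = N26143 := rfl
theorem L202318 : sm ga N26143 = N21701 := ded_8_1 (flp_c L170166) L170162 L202316
theorem L202320 : sm ge N26143 = N22346 := ded_19_2 (flp_c L174607) (flp_e L170164) L202316
theorem L202322 : sm gf N26143 = N23046 := ded_20_2 L201934 L201930 L202316
theorem L202324 : sm gg N26143 = N26093 := ded_21_2 (flp_c L201952) (flp_g L172194) L202316
theorem L202326 : sm gb N24829 = N26143 := ded_15_3 L202320 (flp_b L174617) (flp_e L193097)
theorem L202328 : sm gd N21701 = N26144 := rfl
theorem L202330 : sm gf N26144 = N22954 := ded_23_2 L179365 L170170 L202328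
theorem L202332 : sm ge N26144 = N22957 := ded_22_2 L179379 L130420 (flp_d L123804) (flp_e L170168) L202328
theorem L202334 : sm gf N21703 = N26145 := rfl
theorem L202336 : sm ga N26145 = N25543 := ded_11_1 L198402 L172192 L202334
theorem L202338 : sm ge N26145 = N22347 := ded_25_1 (flp_f L174619) (flp_e L170182) L202334
theorem L202340 : sm gg N26145 = N26090 := ded_29_3 L201932 (flp_f L170172) L170180 L202334
theorem L202342 : sm gb N26145 = N21704 := ded_31_2 L170188 L170204 L170212 (flp_g L166954) L115702 (flp_b L115698) L115703 (flp_f L115711) L150738 (flp_g L96714) (flp_f L96476) L117831 L170180 L202334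
theorem L202344 : sm gc N21704 = N26146 := rfl
theorem L202346 : sm ga N26146 = N21705 := ded_8_1 (flp_c L170190) L170184 L202344
theorem L202348 : sm ge N26146 = N22356 := ded_19_2 (flp_c L174677) (flp_e L170186) L202344
theorem L202350 : sm gg N26146 = N21706 := ded_21_2 (flp_c L170196) (flp_g L170188) L202344
theorem L202352 : sm gb N24435 = N26146 := ded_15_3 L202348 (flp_b L174685) (flp_e L190392)
theorem L202354 : sm gd N21705 = N26147 := rfl
theorem L202356 : sm gf N26147 = N23152 := ded_23_2 (flp_d L192577) (flp_f L192583) L202354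
theorem L202358 : sm gg N26147 = N21708 := ded_24_2 (flp_d L170214) (flp_g L170194) L202354
theorem L202360 : sm ge N26147 = N23527 := ded_22_2 (flp_d L195440) L195442 (flp_d L174687) (flp_e L170192) L202354
theorem L202362 : sm gf N21706 = N26148 := rfl
theorem L202364 : sm ga N26148 = N21709 := ded_11_1 (flp_f L170218) (flp_a L170198) L202362
theorem L202366 : sm gc N26148 = N21707 := ded_20_1 (flp_f L170204) L170196 L202362
theorem L202368 : sm ge N26148 = N22358 := ded_25_1 (flp_f L174697) (flp_e L170200) L202362
theorem L202370 : sm gg N24750 = N26148 := ded_29_1 (flp_f L202362) (flp_g L202350) L202346 L192583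
theorem L202372 : sm gc N21708 = N26149 := rfl
theorem L202374 : sm ge N26149 = N23732 := ded_19_2 L184914 (flp_e L184468) L202372
theorem L202376 : sm gb N26149 = N23446 := ded_13_1 L182846 L183555 (flp_c L170380) (flp_b L170216) L202372
theorem L202378 : sm gf N21708 = N26150 := rfl
theorem L202380 : sm gd N26150 = N21709 := ded_23_1 (flp_f L170218) L170214 L202378
theorem L202382 : sm ge N26150 = N25141 := ded_25_1 (flp_f L195586) (flp_e L184468) L202378
theorem L202384 : sm gg N26150 = N25140 := ded_29_3 L195574 (flp_f L202356) L202358 L202378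
theorem L202386 : sm gb N25205 = N26150 := ded_15_3 L202382 L195588 (flp_e L196146)
theorem L202388 : sm gb N21709 = N26151 := rfl
theorem L202390 : sm gd N26151 = N25205 := ded_14_2 L202386 L202380 L202388
theorem L202392 : sm ge N26151 = N22362 := ded_15_2 (flp_b L174745) (flp_e L170222) L202388
theorem L202394 : sm gc N26151 = N24028 := ded_13_2 (flp_b L187463) L156184 (flp_b L117855) (flp_c L170220) L202388
theorem L202396 : sm gf N26151 = N21739 := ded_16_2 (flp_b L170392) (flp_f L117949) (flp_b L117849) L170218 L202388
theorem L202398 : sm gg N25195 = N26151 := ded_24_0 L202390 (flp_g L196144) (flp_d L196085)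
theorem L202400 : sm ga N24138 = N26151 := ded_10_3 L202392 (flp_a L174753) (flp_e L188233)
theorem L202402 : sm gg N21709 = N26152 := rfl
theorem L202404 : sm ga N26152 = N24750 := ded_12_1 L202370 L202364 L202402
theorem L202406 : sm gc N26152 = N21710 := ded_21_1 (flp_g L170224) (flp_c L170220) L202402
theorem L202408 : sm gd N26152 = N25140 := ded_24_1 (flp_g L202384) L202380 L202402
theorem L202410 : sm ge N26152 = N22363 := ded_26_1 (flp_g L174757) (flp_e L170222) L202402
theorem L202412 : sm gf N26146 = N26152 := ded_29_0 (flp_g L202402) (flp_f L170218) (flp_g L170194) (flp_a L202346)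
theorem L202414 : sm gb N26152 = N22615 := ded_17_1 L176616 (flp_b L196083) L202398 (flp_b L202388) L202402
theorem L202416 : sm gb N21710 = N26153 := rfl
theorem L202418 : sm ge N26153 = N22364 := ded_15_2 (flp_b L174769) (flp_e L170228) L202416
theorem L202420 : sm gf N26153 = N21853 := ded_16_2 L171156 L202334 L202342 L170230 L202416
theorem L202422 : sm gg N26153 = N21851 := ded_17_2 (flp_b L174509) (flp_g L167627) (flp_b L117855) L170224 L202416
theorem L202424 : sm ga N26153 = N21853 := ded_7_1 L171156 (flp_a L172192) (flp_b L169890) L117667 (flp_b L151262) (flp_a L115705) L166962 (flp_a L170226) L202416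
theorem L202426 : sm gd N21711 = N26154 := rfl
theorem L202428 : sm ga N26154 = N21713 := ded_9_1 (flp_d L170246) (flp_a L170234) L202426
theorem L202430 : sm gg N26154 = N24472 := ded_24_2 (flp_d L190701) (flp_g L170238) L202426
theorem L202432 : sm ga N21712 = N26155 := rfl
theorem L202434 : sm gc N26155 = N21716 := ded_8_2 (flp_a L170264) (flp_c L170244) L202432
theorem L202436 : sm ge N26155 = N22365 := ded_10_2 (flp_a L174779) (flp_e L170242) L202432
theorem L202438 : sm gg N25873 = N26155 := ded_21_0 L202434 (flp_g L173996) (flp_c L200399)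
theorem L202440 : sm gd N21712 = N26156 := rfl
theorem L202442 : sm gb N26156 = N21713 := ded_14_1 (flp_d L170246) L170240 L202440
theorem L202444 : sm gf N21712 = N26157 := rfl
theorem L202446 : sm gc N26157 = N21718 := ded_20_1 (flp_f L170272) (flp_c L170244) L202444
theorem L202448 : sm ge N26157 = N22367 := ded_25_1 (flp_f L174795) (flp_e L170242) L202444
theorem L202450 : sm gg N21712 = N26158 := rfl
theorem L202452 : sm ga N26158 = N25873 := ded_12_1 L202438 (flp_a L202432) L202450
theorem L202454 : sm gc N26158 = N21719 := ded_21_1 (flp_g L170278) (flp_c L170244) L202450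
theorem L202456 : sm ge N26158 = N22368 := ded_26_1 (flp_g L174803) (flp_e L170242) L202450
theorem L202458 : sm gc N21713 = N26159 := rfl
theorem L202460 : sm ge N21713 = N26160 := rfl
theorem L202462 : sm gd N26160 = N22369 := ded_22_1 (flp_e L174813) (flp_d L123053) (flp_e L117865) L170246 L202460
theorem L202464 : sm gf N25982 = N26160 := ded_23_0 L202462 L174817 (flp_d L201243)
theorem L202466 : sm gg N26110 = N26160 := ded_24_0 L202462 L174819 L202058
theorem L202468 : sm gf N21713 = N26161 := rfl
theorem L202470 : sm gd N26161 = N21714 := ded_23_1 (flp_f L170248) L170246 L202468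
theorem L202472 : sm ge N26161 = N25982 := ded_25_1 L202464 (flp_e L202460) L202468
theorem L202474 : sm gg N26161 = N25980 := ded_29_1 (flp_f L201229) (flp_g L202430) L202428 L202468
theorem L202476 : sm gg N21713 = N26162 := rfl
theorem L202478 : sm ga N26162 = N24472 := ded_12_1 (flp_g L202430) L202428 L202476
theorem L202480 : sm gd N26162 = N21715 := ded_24_1 (flp_g L170254) L170246 L202476
theorem L202482 : sm ge N26162 = N26110 := ded_26_1 L202466 (flp_e L202460) L202476
theorem L202484 : sm gf N25496 = N26162 := ded_29_0 (flp_g L202476) L202468 L202474 L201221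
theorem L202486 : sm gb N26112 = N26162 := ded_14_3 L202480 (flp_b L174374) (flp_d L202076)
theorem L202488 : sm gb N21714 = N26163 := rfl
theorem L202490 : sm ge N26163 = N22370 := ded_15_2 (flp_b L174821) (flp_e L170252) L202488
theorem L202492 : sm gc N26163 = N21752 := ded_13_2 (flp_b L170496) L117997 (flp_b L117871) (flp_c L170250) L202488
theorem L202494 : sm gg N26163 = N21752 := ded_17_2 (flp_b L170496) L163981 (flp_b L173562) L173568 L202488
theorem L202496 : sm ga N26163 = N26163 := ded_7_1 (flp_b L202488) (flp_a L187851) (flp_b L187841) L156492 L108133 (flp_a L156492) L187841 L187851 L202488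
theorem L202497 : sm gd N21716 = N26164 := rfl
theorem L202499 : sm ga N26164 = N21717 := ded_9_1 (flp_d L170268) L170264 L202497
theorem L202501 : sm gb N26164 = N26064 := ded_14_1 L201738 (flp_b L173992) L202497
theorem L202503 : sm gg N26164 = N26065 := ded_24_2 L201742 L173996 L202497
theorem L202505 : sm gf N21716 = N26165 := rfl
theorem L202507 : sm ga N26165 = N21718 := ded_11_1 (flp_f L170272) L170264 L202505
theorem L202509 : sm ge N26165 = N22372 := ded_25_1 (flp_f L174838) (flp_e L170266) L202505
theorem L202511 : sm gc N21717 = N26166 := rfl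
theorem L202513 : sm ge N21717 = N26167 := rfl
theorem L202515 : sm gb N26167 = N21721 := ded_15_1 (flp_e L170290) (flp_b L170270) L202513
theorem L202517 : sm gd N26167 = N22374 := ded_22_1 (flp_e L174844) (flp_d L123069) (flp_e L117883) L170268 L202513
theorem L202519 : sm gf N21717 = N26168 := rfl
theorem L202521 : sm gd N26168 = N21718 := ded_23_1 (flp_f L170272) L170268 L202519
theorem L202523 : sm gb N26168 = N21761 := ded_16_1 (flp_f L170548) L118031 (flp_f L117889) (flp_b L170270) L202519
theorem L202525 : sm gg N21717 = N26169 := rfl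
theorem L202527 : sm ga N26169 = N26065 := ded_12_1 (flp_g L202503) L202499 L202525
theorem L202529 : sm gd N26169 = N21719 := ded_24_1 (flp_g L170278) L170268 L202525
theorem L202531 : sm gf N21719 = N26170 := rfl
theorem L202533 : sm ga N26170 = N26073 := ded_11_1 (flp_f L201808) (flp_a L174000) L202531
theorem L202535 : sm ge N26170 = N22377 := ded_25_1 (flp_f L174860) (flp_e L170280) L202531
theorem L202537 : sm gg N26170 = N26165 := ded_29_3 L202507 (flp_f L170272) L170278 L202531
theorem L202539 : sm gb N21720 = N26171 := rfl
theorem L202541 : sm gd N26171 = N25757 := ded_14_2 (flp_b L199662) L170288 L202539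
theorem L202543 : sm ge N21720 = N26172 := rfl
theorem L202545 : sm ga N26172 = N21724 := ded_10_1 (flp_e L170308) (flp_a L170284) L202543
theorem L202547 : sm gc N26172 = N21721 := ded_19_1 (flp_e L170290) L170282 L202543
theorem L202549 : sm gf N26172 = N21767 := ded_25_2 (flp_e L170580) (flp_f L170286) L202543
theorem L202551 : sm ga N21722 = N26173 := rfl
theorem L202553 : sm gd N21722 = N26174 := rfl
theorem L202555 : sm gb N26174 = N21723 := ded_14_1 (flp_d L170300) L170298 L202553
theorem L202557 : sm ge N21722 = N26175 := rfl
theorem L202559 : sm gb N26175 = N21724 := ded_15_1 (flp_e L170308) L170298 L202557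
theorem L202561 : sm gf N21722 = N26176 := rfl
theorem L202563 : sm gc N26176 = N24870 := ded_20_1 (flp_f L193875) L193873 L202561
theorem L202565 : sm gb N26176 = N21777 := ded_16_1 (flp_f L170638) (flp_b L118069) (flp_f L117893) L170298 L202561
theorem L202567 : sm gg N21722 = N26177 := rfl
theorem L202569 : sm ge N21723 = N26178 := rfl
theorem L202571 : sm ga N26178 = N25758 := ded_10_1 (flp_e L199664) (flp_a L170302) L202569
theorem L202573 : sm gc N26178 = N25756 := ded_19_1 (flp_e L199654) L170306 L202569
theorem L202575 : sm gf N26178 = N21779 := ded_25_2 (flp_e L170646) (flp_f L170304) L202569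
theorem L202577 : sm gd N21724 = N26179 := rfl
theorem L202579 : sm gf N26179 = N21781 := ded_23_2 (flp_d L170660) (flp_f L170312) L202577
theorem L202581 : sm gg N21724 = N26180 := rfl
theorem L202583 : sm gc N26180 = N21726 := ded_21_1 (flp_g L170318) (flp_c L170310) L202581
theorem L202585 : sm ge N26180 = N21725 := ded_26_1 (flp_g L170314) L170308 L202581
theorem L202587 : sm gb N21725 = N26181 := rfl
theorem L202589 : sm gb N21726 = N26182 := rfl
theorem L202591 : sm gd N26182 = N22385 := ded_14_2 (flp_b L174896) (flp_d L170320) L202589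
theorem L202593 : sm ge N26182 = N21727 := ded_15_2 (flp_b L170324) (flp_e L170322) L202589
theorem L202595 : sm ga N21727 = N26183 := rfl
theorem L202597 : sm gd N26183 = N21728 := ded_9_2 (flp_a L170328) (flp_d L170326) L202595
theorem L202599 : sm gc N21727 = N26184 := rfl
theorem L202601 : sm gf N21727 = N26185 := rfl
theorem L202603 : sm gd N26185 = N21730 := ded_23_1 (flp_f L170338) (flp_d L170326) L202601
theorem L202605 : sm gb N21728 = N26186 := rfl
theorem L202607 : sm ge N26186 = N22388 := ded_15_2 (flp_b L174910) (flp_e L170330) L202605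
theorem L202609 : sm gg N26186 = N24096 := ded_17_2 L187955 L187965 L193935 L193933 L202605
theorem L202611 : sm gc N24097 = N26186 := ded_19_3 L202607 (flp_c L174962) (flp_e L187959)
theorem L202613 : sm gc N21728 = N26187 := rfl
theorem L202615 : sm ga N26187 = N21729 := ded_8_1 (flp_c L170332) L170328 L202613
theorem L202617 : sm ge N26187 = N22389 := ded_19_2 (flp_c L174912) (flp_e L170330) L202613
theorem L202619 : sm gf N25129 = N26187 := ded_25_0 L202617 L174924 L195478
theorem L202621 : sm gd N25137 = N26187 := ded_22_5 L202617 (flp_d L174926) L164043 (flp_d L164087) (flp_e L195548)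
theorem L202623 : sm gf N21728 = N26188 := rfl
theorem L202625 : sm ga N26188 = N21730 := ded_11_1 (flp_f L170338) L170328 L202623
theorem L202627 : sm gc N26188 = N25129 := ded_20_1 L202619 (flp_c L202613) L202623
theorem L202629 : sm ge N26188 = N22390 := ded_25_1 (flp_f L174916) (flp_e L170330) L202623
theorem L202631 : sm gg N24959 = N26188 := ded_29_1 (flp_f L202623) (flp_g L193933) (flp_a L193929) L193945
theorem L202633 : sm gd N21729 = N26189 := rfl
theorem L202635 : sm ga N26189 = N25137 := ded_9_1 L202621 L202615 L202633
theorem L202637 : sm gb N26189 = N21732 := ded_14_1 (flp_d L170352) (flp_b L170336) L202633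
theorem L202639 : sm ge N26189 = N25132 := ded_22_2 L195506 L174936 (flp_d L174928) (flp_e L170334) L202633
theorem L202641 : sm gf N25131 = N26189 := ded_11_0 L202635 (flp_f L195546) (flp_a L195496)
theorem L202643 : sm gf N21729 = N26190 := rfl
theorem L202645 : sm ga N26190 = N25129 := ded_11_1 L202619 L202615 L202643
theorem L202647 : sm gc N26190 = N21730 := ded_20_1 (flp_f L170338) L170332 L202643
theorem L202649 : sm gd N26190 = N25131 := ded_23_1 L202641 (flp_d L202633) L202643
theorem L202651 : sm ge N26190 = N22392 := ded_25_1 (flp_f L174940) (flp_e L170334) L202643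
theorem L202653 : sm gb N24746 = N26190 := ded_7_0 L202645 L195480 (flp_a L176612) (flp_b L202414) L202404 (flp_b L192575) L160292 (flp_b L160282) (flp_a L192545)
theorem L202655 : sm gg N21730 = N26191 := rfl
theorem L202657 : sm ga N26191 = N24959 := ded_12_1 L202631 L202625 L202655
theorem L202659 : sm ge N26191 = N22393 := ded_26_1 (flp_g L174950) (flp_e L170340) L202655
theorem L202661 : sm gf N24957 = N26191 := ded_29_0 (flp_g L202655) (flp_f L170338) (flp_g L161156) L193929
theorem L202663 : sm gb N24639 = N26191 := ded_31_14 (flp_g L202655) (flp_f L170338) (flp_b L117905) (flp_g L96502) L84867 L25124 L80456 (flp_f L21867) (flp_b L21797) (flp_g L45237) L92675 L110541 L159749 L191836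
theorem L202665 : sm gd N21731 = N26192 := rfl
theorem L202667 : sm ga N26192 = N21732 := ded_9_1 (flp_d L170352) (flp_a L170344) L202665
theorem L202669 : sm gb N26192 = N24017 := ded_14_1 L187367 (flp_b L170350) L202665
theorem L202671 : sm gg N26192 = N21734 := ded_24_2 (flp_d L170364) (flp_g L170348) L202665
theorem L202673 : sm ge N26192 = N25056 := ded_22_2 L194825 L174976 (flp_d L174964) (flp_e L170346) L202665
theorem L202675 : sm gc N25052 = N26192 := ded_8_0 L202667 (flp_c L183551) L194793
theorem L202677 : sm gf N21732 = N26193 := rfl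
theorem L202679 : sm gd N26193 = N21733 := ded_23_1 (flp_f L170358) L170352 L202677
theorem L202681 : sm ge N26193 = N23821 := ded_25_1 L185701 (flp_e L170356) L202677
theorem L202683 : sm gb N21733 = N26194 := rfl
theorem L202685 : sm ge N26194 = N22395 := ded_15_2 (flp_b L174978) (flp_e L170362) L202683
theorem L202687 : sm gc N26194 = N24742 := ded_13_2 (flp_b L192519) (flp_c L166412) (flp_b L117927) (flp_c L170360) L202683
theorem L202689 : sm gf N26194 = N24746 := ded_16_2 L202653 (flp_f L202643) L170336 L170358 L202683
theorem L202691 : sm ga N26194 = N24743 := ded_30_3 L192525 (flp_c L160278) (flp_b L110881) L92845 (flp_f L92819) L92815 L92821 L110821 L156128 (flp_c L156118) (flp_b L107947) (flp_a L107925) L107933 (flp_c L115990) L117915 (flp_a L117909) L117923 (flp_c L170360) L202683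
theorem L202693 : sm gc N21734 = N26195 := rfl
theorem L202695 : sm ga N26195 = N21736 := ded_8_1 (flp_c L170380) (flp_a L170366) L202693
theorem L202697 : sm gg N26195 = N25052 := ded_21_2 L202675 L202671 L202693
theorem L202699 : sm gb N26195 = N22452 := ded_13_1 L175384 (flp_b L191966) L191962 (flp_b L170368) L202693
theorem L202701 : sm gd N25770 = N26195 := ded_28_1 (flp_c L202693) (flp_d L170364) (flp_c L117929) (flp_d L116781) L168544 L199722 L199724 L199736
theorem L202703 : sm ge N22453 = N26195 := ded_10_0 L202695 (flp_e L184410) (flp_a L184414)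
theorem L202705 : sm gb N24924 = N25770 := ded_14_3 L202701 L202699 (flp_d L193685)
theorem L202707 : sm ge N24926 = N25770 := ded_22_0 L202701 (flp_e L202703) L175392 (flp_e L161040) (flp_d L193703)
theorem L202709 : sm gc N25771 = N24926 := ded_19_3 L202707 (flp_c L199736) L199738
theorem L202711 : sm ge N21734 = N26196 := rfl
theorem L202713 : sm ga N26196 = N21737 := ded_10_1 (flp_e L170382) (flp_a L170366) L202711
theorem L202715 : sm gb N26196 = N24656 := ded_15_1 L191976 (flp_b L170368) L202711
theorem L202717 : sm gc N26196 = N22453 := ded_19_1 L202703 (flp_c L202693) L202711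
theorem L202719 : sm gg N26196 = N25056 := ded_26_2 (flp_e L202673) L202671 L202711
theorem L202721 : sm gd N26196 = N22396 := ded_22_1 (flp_e L174988) (flp_d L123133) (flp_e L117933) L170364 L202711
theorem L202723 : sm gf N21734 = N26197 := rfl
theorem L202725 : sm ga N26197 = N21738 := ded_11_1 (flp_f L170388) (flp_a L170366) L202723
theorem L202727 : sm gd N26197 = N21735 := ded_23_1 (flp_f L170370) L170364 L202723
theorem L202729 : sm gg N26193 = N26197 := ded_29_1 (flp_f L202723) (flp_g L202671) L202667 L202677
theorem L202731 : sm gb N21735 = N26198 := rfl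
theorem L202733 : sm ge N26198 = N22397 := ded_15_2 (flp_b L174998) (flp_e L170376) L202731
theorem L202735 : sm gc N26198 = N24658 := ded_13_2 (flp_b L191986) L159817 (flp_b L117945) (flp_c L170374) L202731
theorem L202737 : sm gf N26198 = N24658 := ded_16_2 (flp_b L191986) (flp_f L159813) (flp_b L117935) L170370 L202731
theorem L202739 : sm ga N26198 = N26198 := ded_7_1 (flp_b L202731) L170372 L170392 (flp_a L186400) L186404 L186400 (flp_b L170392) (flp_a L170372) L202731
theorem L202740 : sm gd N21736 = N26199 := rfl
theorem L202742 : sm ga N26199 = N25770 := ded_9_1 L202701 L202695 L202740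
theorem L202744 : sm gc N25768 = N26199 := ded_28_0 (flp_d L202740) (flp_c L170380) (flp_d L117947) (flp_c L96518) (flp_d L95987) L116783 L168560 (flp_a L199724)
theorem L202746 : sm gf N21736 = N26200 := rfl
theorem L202748 : sm gc N26200 = N21738 := ded_20_1 (flp_f L170388) L170380 L202746
theorem L202750 : sm gf N21737 = N26201 := rfl
theorem L202752 : sm gd N26201 = N22398 := ded_23_1 (flp_f L175005) (flp_d L170386) L202750
theorem L202754 : sm ge N26201 = N21738 := ded_25_1 (flp_f L170388) L170382 L202750
theorem L202756 : sm gb N26201 = N24294 := ded_16_1 (flp_f L189307) (flp_b L195588) (flp_f L195586) (flp_b L184466) L202750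
theorem L202758 : sm gb N21738 = N26202 := rfl
theorem L202760 : sm gd N26202 = N21739 := ded_14_2 (flp_b L170392) (flp_d L170390) L202758
theorem L202762 : sm ge N26202 = N24294 := ded_15_2 (flp_b L202756) L202754 L202758
theorem L202764 : sm gf N26202 = N25205 := ded_16_2 L202386 (flp_f L202378) L170216 L170388 L202758
theorem L202766 : sm gc N24295 = N26202 := ded_19_3 L202762 (flp_c L189303) L189309
theorem L202768 : sm gg N21738 = N26203 := rfl
theorem L202770 : sm ga N26203 = N26193 := ded_12_1 L202729 L202725 L202768
theorem L202772 : sm gd N26203 = N21740 := ded_24_1 (flp_g L170398) (flp_d L170390) L202768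
theorem L202774 : sm gf N26192 = N26203 := ded_29_0 (flp_g L202768) (flp_f L170388) (flp_g L170354) (flp_a L202667)
theorem L202776 : sm gg N21739 = N26204 := rfl
theorem L202778 : sm gc N26204 = N23994 := ded_21_1 L187199 (flp_c L170396) L202776
theorem L202780 : sm ge N26204 = N22400 := ded_26_1 (flp_g L175025) (flp_e L170394) L202776
theorem L202782 : sm gb N21740 = N26205 := rfl
theorem L202784 : sm ge N26205 = N22401 := ded_15_2 (flp_b L175029) (flp_e L170404) L202782
theorem L202786 : sm gc N26205 = N25970 := ded_13_2 (flp_b L201135) L169403 (flp_b L117963) (flp_c L170402) L202782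
theorem L202788 : sm gd N21741 = N26206 := rfl
theorem L202790 : sm ga N26206 = N21802 := ded_9_1 (flp_d L170819) L170414 L202788
theorem L202792 : sm gb N26206 = N21742 := ded_14_1 (flp_d L170416) L170408 L202788
theorem L202794 : sm gf N21741 = N26207 := rfl
theorem L202796 : sm ga N26207 = N21803 := ded_11_1 (flp_f L170823) L170414 L202794
theorem L202798 : sm gc N26207 = N25972 := ded_20_1 (flp_f L201145) (flp_c L170412) L202794
theorem L202800 : sm ge N26207 = N22402 := ded_25_1 (flp_f L175033) (flp_e L170410) L202794
theorem L202802 : sm gg N21741 = N26208 := rfl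
theorem L202804 : sm ga N26208 = N21804 := ded_12_1 (flp_g L170829) L170414 L202802
theorem L202806 : sm gc N26208 = N25973 := ded_21_1 (flp_g L201153) (flp_c L170412) L202802
theorem L202808 : sm ge N26208 = N22306 := ded_26_1 L174276 (flp_e L170410) L202802
theorem L202810 : sm gf N26208 = N22316 := ded_29_2 L174348 (flp_a L202796) (flp_f L202794) L202802
theorem L202812 : sm gf N21742 = N26209 := rfl
theorem L202814 : sm ga N26209 = N21750 := ded_11_1 (flp_f L170480) (flp_a L170418) L202812
theorem L202816 : sm gc N26209 = N23261 := ded_20_1 (flp_f L181621) L170420 L202812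
theorem L202818 : sm gd N26209 = N21743 := ded_23_1 (flp_f L170422) L170416 L202812
theorem L202820 : sm ge N26209 = N25975 := ded_25_1 (flp_f L201179) L197495 L202812
theorem L202822 : sm gg N26209 = N25380 := ded_29_3 L197391 L201268 L201278 L202812
theorem L202824 : sm gb N21743 = N26210 := rfl
theorem L202826 : sm ge N26210 = N22403 := ded_15_2 (flp_b L175043) (flp_e L170428) L202824
theorem L202828 : sm gc N26210 = N23895 := ded_13_2 (flp_b L186339) L155068 L117979 (flp_c L170426) L202824
theorem L202830 : sm ga N23906 = N26210 := ded_10_3 L202826 (flp_a L175049) (flp_e L186433)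
theorem L202832 : sm gb N21744 = N26211 := rfl
theorem L202834 : sm ge N26211 = N22205 := ded_15_2 (flp_b L173591) (flp_e L170438) L202832
theorem L202836 : sm gc N26211 = N23872 := ded_13_2 (flp_b L186167) (flp_c L159075) L159081 (flp_c L170436) L202832
theorem L202838 : sm gf N26211 = N23874 := ded_16_2 L186189 (flp_f L173566) L173562 L170440 L202832
theorem L202840 : sm ga N24058 = N26211 := ded_10_3 L202834 (flp_a L173599) (flp_e L187681)
theorem L202842 : sm gd N21745 = N26212 := rfl
theorem L202844 : sm ga N26212 = N21746 := ded_9_1 (flp_d L170452) L170442 L202842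
theorem L202846 : sm gb N26212 = N21806 := ded_14_1 (flp_d L170845) (flp_b L170448) L202842
theorem L202848 : sm gg N26212 = N25869 := ded_24_2 (flp_d L200371) L170450 L202842
theorem L202850 : sm ge N26212 = N25554 := ded_22_2 (flp_d L198476) L167694 (flp_d L163866) (flp_e L170446) L202842
theorem L202852 : sm gc N23389 = N26212 := ded_28_0 (flp_d L202842) L170444 L170520 L183075 (flp_d L183069) L145886 L145778 L182472
theorem L202854 : sm gf N21745 = N26213 := rfl
theorem L202856 : sm ga N26213 = N21747 := ded_11_1 (flp_f L170458) L170442 L202854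
theorem L202858 : sm gc N26213 = N21757 := ded_20_1 (flp_f L170524) (flp_c L170444) L202854
theorem L202860 : sm ge N26213 = N22404 := ded_25_1 (flp_f L175053) (flp_e L170446) L202854
theorem L202862 : sm gb N26213 = N24385 := ded_16_1 L190017 (flp_b L189911) (flp_f L170849) (flp_b L170448) L202854
theorem L202864 : sm ge N21746 = N26214 := rfl
theorem L202866 : sm ga N26214 = N25554 := ded_10_1 (flp_e L202850) L202844 L202864
theorem L202868 : sm gb N26214 = N21749 := ded_15_1 (flp_e L170472) (flp_b L170454) L202864
theorem L202870 : sm gc N26214 = N23390 := ded_19_1 (flp_e L182474) (flp_c L170456) L202864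
theorem L202872 : sm gd N26214 = N22405 := ded_22_1 (flp_e L175065) (flp_d L123193) (flp_e L117989) L170452 L202864
theorem L202874 : sm gg N24471 = N26214 := ded_12_0 L202866 L200835 L200827
theorem L202876 : sm gf N26214 = N25927 := ded_29_0 (flp_g L200837) L200825 (flp_g L200835) (flp_a L202866)
theorem L202878 : sm gf N21746 = N26215 := rfl
theorem L202880 : sm gc N26215 = N23391 := ded_20_1 (flp_f L182478) (flp_c L170456) L202878
theorem L202882 : sm gd N26215 = N21747 := ded_23_1 (flp_f L170458) L170452 L202878
theorem L202884 : sm ge N26215 = N25927 := ded_25_1 (flp_f L202876) (flp_e L202864) L202878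
theorem L202886 : sm gg N26215 = N25925 := ded_29_1 (flp_f L200823) (flp_g L202848) L202844 L202878
theorem L202888 : sm gg N21746 = N26216 := rfl
theorem L202890 : sm ga N26216 = N25869 := ded_12_1 (flp_g L202848) L202844 L202888
theorem L202892 : sm gc N26216 = N23392 := ded_21_1 (flp_g L182481) (flp_c L170456) L202888
theorem L202894 : sm gd N26216 = N21748 := ded_24_1 (flp_g L170464) L170452 L202888
theorem L202896 : sm ge N26216 = N24471 := ded_26_1 L202874 (flp_e L202864) L202888
theorem L202898 : sm gb N21747 = N26217 := rfl
theorem L202900 : sm ge N26217 = N22406 := ded_15_2 (flp_b L175077) (flp_e L170462) L202898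
theorem L202902 : sm gf N26217 = N21752 := ded_16_2 (flp_b L170496) (flp_f L117995) L117987 L170458 L202898
theorem L202904 : sm ga N26217 = N26217 := ded_7_1 (flp_b L202898) (flp_a L202856) L202862 L190013 L158385 (flp_a L190013) (flp_b L202862) L202856 L202898
theorem L202905 : sm gb N21748 = N26218 := rfl
theorem L202907 : sm ge N26218 = N22407 := ded_15_2 (flp_b L175084) (flp_e L170470) L202905
theorem L202909 : sm gc N26218 = N25829 := ded_13_2 L200119 L193605 (flp_b L170562) (flp_c L170468) L202905
theorem L202911 : sm gg N26218 = N21753 := ded_17_2 (flp_b L170500) (flp_g L118001) L117987 L170464 L202905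
theorem L202913 : sm ga N26218 = N25831 := ded_30_3 (flp_f L200125) (flp_c L168784) (flp_b L116943) (flp_a L110791) L116941 L116937 L116957 (flp_a L116963) (flp_f L110507) L110503 L159631 (flp_a L159685) L191716 L191720 L191690 (flp_a L170570) (flp_f L170568) (flp_c L170468) L202905
theorem L202915 : sm gf N25828 = N26218 := ded_25_0 L202907 (flp_f L175094) (flp_e L200109)
theorem L202917 : sm gf N21748 = N26219 := rfl
theorem L202919 : sm ga N26219 = N22162 := ded_11_1 L173298 (flp_a L170466) L202917
theorem L202921 : sm gc N26219 = N21765 := ded_20_1 (flp_f L170568) (flp_c L170468) L202917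
theorem L202923 : sm ge N26219 = N22157 := ded_25_1 L173262 (flp_e L170470) L202917
theorem L202925 : sm gg N26219 = N26213 := ded_29_3 L202856 (flp_f L170458) L170464 L202917
theorem L202927 : sm gb N21750 = N26220 := rfl
theorem L202929 : sm gd N26220 = N21752 := ded_14_2 (flp_b L170496) (flp_d L170484) L202927
theorem L202931 : sm ge N26220 = N25988 := ded_15_2 (flp_b L201284) (flp_e L170486) L202927
theorem L202933 : sm gc N26220 = N26220 := ded_13_2 (flp_b L202927) L170482 L144983 (flp_c L170482) L202927
theorem L202934 : sm ga N26220 = N26220 := ded_9_3 L202929 L173312 (flp_d L202929)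
theorem L202935 : sm gb N21751 = N26221 := rfl
theorem L202937 : sm gd N26221 = N21753 := ded_14_2 (flp_b L170500) (flp_d L170494) L202935
theorem L202939 : sm ga N21753 = N26222 := rfl
theorem L202941 : sm gc N26222 = N25832 := ded_8_2 L200133 L200035 L202939
theorem L202943 : sm ge N26222 = N22408 := ded_10_2 (flp_a L175096) (flp_e L170502) L202939
theorem L202945 : sm gg N26222 = N25831 := ded_12_2 (flp_a L202913) L202911 L202939
theorem L202947 : sm gd N21754 = N26223 := rfl
theorem L202949 : sm gf N26223 = N25324 := ded_23_2 (flp_d L197083) (flp_f L170508) L202947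
theorem L202951 : sm gg N26223 = N21773 := ded_24_2 (flp_d L170622) (flp_g L170510) L202947
theorem L202953 : sm gd N21755 = N26224 := rfl
theorem L202955 : sm ga N26224 = N21869 := ded_9_1 (flp_d L171254) (flp_a L170518) L202953
theorem L202957 : sm gb N26224 = N21756 := ded_14_1 (flp_d L170520) L170512 L202953
theorem L202959 : sm gc N23433 = N26224 := ded_28_4 (flp_d L202953) L170516 L170911 (flp_a L201320) (flp_c L201324) (flp_d L182391) (flp_c L145656) L182771
theorem L202961 : sm gf N21755 = N26225 := rfl
theorem L202963 : sm ga N26225 = N21870 := ded_11_1 (flp_f L171258) (flp_a L170518) L202961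
theorem L202965 : sm gc N26225 = N21818 := ded_20_1 (flp_f L170915) (flp_c L170516) L202961
theorem L202967 : sm ge N26225 = N22411 := ded_25_1 (flp_f L175116) (flp_e L170514) L202961
theorem L202969 : sm ge N21756 = N26226 := rfl
theorem L202971 : sm ga N26226 = N21760 := ded_10_1 (flp_e L170542) (flp_a L170522) L202969
theorem L202973 : sm gd N26226 = N22412 := ded_22_1 (flp_e L175122) (flp_d L123239) (flp_e L118027) L170520 L202969
theorem L202975 : sm gf N21756 = N26227 := rfl
theorem L202977 : sm ga N26227 = N21761 := ded_11_1 (flp_f L170548) (flp_a L170522) L202975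
theorem L202979 : sm gd N26227 = N21757 := ded_23_1 (flp_f L170524) L170520 L202975
theorem L202981 : sm gg N21756 = N26228 := rfl
theorem L202983 : sm ga N26228 = N21762 := ded_12_1 (flp_g L170552) (flp_a L170522) L202981
theorem L202985 : sm gd N26228 = N21758 := ded_24_1 (flp_g L170530) L170520 L202981
theorem L202987 : sm gb N25868 = N26228 := ded_14_3 L202985 (flp_b L170538) L200367
theorem L202989 : sm gb N21757 = N26229 := rfl
theorem L202991 : sm ge N26229 = N22414 := ded_15_2 (flp_b L175134) (flp_e L170528) L202989
theorem L202993 : sm ga N26229 = N23517 := ded_30_3 (flp_f L187905) (flp_c L192679) (flp_b L192675) (flp_a L160388) (flp_f L160348) L160346 (flp_b L156617) L155098 (flp_f L155074) L155068 L117979 L117973 (flp_f L96538) L96534 L117987 L170442 L202854 L202858 L202989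
theorem L202995 : sm gb N21759 = N26230 := rfl
theorem L202997 : sm gc N26230 = N21766 := ded_13_2 (flp_b L170576) (flp_c L118041) (flp_b L118031) L170540 L202995
theorem L202999 : sm ge N21759 = N26231 := rfl
theorem L203001 : sm gc N26231 = N21760 := ded_19_1 (flp_e L170542) L170540 L202999
theorem L203003 : sm gf N21759 = N26232 := rfl
theorem L203005 : sm gc N26232 = N21761 := ded_20_1 (flp_f L170548) L170540 L203003
theorem L203007 : sm gg N21759 = N26233 := rfl
theorem L203009 : sm gc N26233 = N21762 := ded_21_1 (flp_g L170552) L170540 L203007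
theorem L203011 : sm gf N21760 = N26234 := rfl
theorem L203013 : sm gd N26234 = N22417 := ded_23_1 (flp_f L175158) (flp_d L170546) L203011
theorem L203015 : sm ge N26234 = N21761 := ded_25_1 (flp_f L170548) L170542 L203011
theorem L203017 : sm gg N21760 = N26235 := rfl
theorem L203019 : sm gd N26235 = N22418 := ded_24_1 (flp_g L175162) (flp_d L170546) L203017
theorem L203021 : sm ge N26235 = N21762 := ded_26_1 (flp_g L170552) L170542 L203017
theorem L203023 : sm gg N21761 = N26236 := rfl
theorem L203025 : sm gd N26236 = N21763 := ded_24_1 (flp_g L170556) (flp_d L170550) L203023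
theorem L203027 : sm gf N26228 = N26236 := ded_29_0 (flp_g L203023) (flp_f L170548) L170552 (flp_a L202983)
theorem L203029 : sm gb N21762 = N26237 := rfl
theorem L203031 : sm gd N26237 = N21764 := ded_14_2 (flp_b L170562) (flp_d L170554) L203029
theorem L203033 : sm gg N26237 = N21770 := ded_17_2 (flp_b L170606) (flp_g L118053) (flp_b L118031) L170552 L203029
theorem L203035 : sm gf N21762 = N26238 := rfl
theorem L203037 : sm ga N26238 = N26236 := ded_11_1 (flp_f L203027) L202983 L203035
theorem L203039 : sm gd N26238 = N21765 := ded_23_1 (flp_f L170568) (flp_d L170554) L203035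
theorem L203041 : sm gg N26238 = N26227 := ded_29_3 L202977 (flp_f L170548) L170552 L203035
theorem L203043 : sm gf N21764 = N26239 := rfl
theorem L203045 : sm ge N26239 = N22421 := ded_25_1 (flp_f L175186) (flp_e L170564) L203043
theorem L203047 : sm gg N26239 = N23015 := ded_29_3 L179835 (flp_f L170616) (flp_g L170566) L203043
theorem L203049 : sm ga N21766 = N26240 := rfl
theorem L203051 : sm gd N26240 = N25793 := ded_9_2 (flp_a L199867) (flp_d L170578) L203049
theorem L203053 : sm ge N21766 = N26241 := rfl
theorem L203055 : sm gb N26241 = N21767 := ded_15_1 (flp_e L170580) L170576 L203053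
theorem L203057 : sm gf N21766 = N26242 := rfl
theorem L203059 : sm gd N26242 = N25795 := ded_23_1 (flp_f L199875) (flp_d L170578) L203057
theorem L203061 : sm gg N21766 = N26243 := rfl
theorem L203063 : sm gd N26243 = N25796 := ded_24_1 (flp_g L199878) (flp_d L170578) L203061
theorem L203065 : sm gd N21767 = N26244 := rfl
theorem L203067 : sm ga N26244 = N21781 := ded_9_1 (flp_d L170660) (flp_a L170582) L203065
theorem L203069 : sm ge N26244 = N25797 := ded_22_2 (flp_d L199881) (flp_e L168641) L118045 L170580 L203065
theorem L203071 : sm gg N21767 = N26245 := rfl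
theorem L203073 : sm ga N26245 = N21782 := ded_12_1 (flp_g L170662) (flp_a L170582) L203071
theorem L203075 : sm gc N26245 = N21769 := ded_21_1 (flp_g L170596) (flp_c L170584) L203071
theorem L203077 : sm ge N26245 = N21768 := ded_26_1 (flp_g L170586) L170580 L203071
theorem L203079 : sm gf N26245 = N26180 := ded_29_2 (flp_g L202581) (flp_a L202545) L202549 L203071
theorem L203081 : sm gb N21768 = N26246 := rfl
theorem L203083 : sm gd N26246 = N25799 := ded_14_2 (flp_b L199889) (flp_d L170592) L203081
theorem L203085 : sm gc N21770 = N26247 := rfl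
theorem L203087 : sm ge N26247 = N25589 := ded_19_2 (flp_c L198699) L179117 L203085
theorem L203089 : sm gd N25587 = N26247 := ded_22_5 L203087 (flp_d L198695) (flp_e L167787) L167781 L198681
theorem L203091 : sm gf N21770 = N26248 := rfl
theorem L203093 : sm gd N26248 = N21772 := ded_23_1 (flp_f L170616) (flp_d L170608) L203091
theorem L203095 : sm gb N26248 = N26185 := ded_16_1 (flp_f L202601) (flp_b L170324) (flp_f L118059) L170606 L203091
theorem L203097 : sm gd N21771 = N26249 := rfl
theorem L203099 : sm gb N26249 = N21773 := ded_14_1 (flp_d L170622) (flp_b L170614) L203097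
theorem L203101 : sm ge N26249 = N24544 := ded_22_2 L191930 L191928 (flp_d L175192) (flp_e L170612) L203097
theorem L203103 : sm gc N26249 = N24545 := ded_28_6 L191205 (flp_a L197977) (flp_c L198685) L203089 (flp_c L203085) L170608 L170610 L203097
theorem L203105 : sm gg N21772 = N26250 := rfl
theorem L203107 : sm ga N26250 = N26239 := ded_12_1 L203047 L179835 L203105
theorem L203109 : sm gc N26250 = N24913 := ded_21_1 (flp_g L193615) (flp_c L192541) L203105
theorem L203111 : sm ge N26250 = N22423 := ded_26_1 (flp_g L175200) (flp_e L170618) L203105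
theorem L203113 : sm gf N23002 = N26250 := ded_29_0 (flp_g L203105) (flp_f L170616) (flp_g L170566) (flp_a L179723)
theorem L203115 : sm gb N26250 = N24004 := ded_17_1 (flp_g L191842) L202663 (flp_g L202655) (flp_b L170620) L203105
theorem L203117 : sm gc N21773 = N26251 := rfl
theorem L203119 : sm ge N21773 = N26252 := rfl
theorem L203121 : sm gb N26252 = N24544 := ded_15_1 (flp_e L203101) L203099 L203119
theorem L203123 : sm gd N26252 = N22424 := ded_22_1 (flp_e L175212) (flp_d L123301) (flp_e L118067) L170622 L203119
theorem L203125 : sm gb N21774 = N26253 := rfl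
theorem L203127 : sm gc N26253 = N22251 := ded_13_2 (flp_b L182673) (flp_c L188169) (flp_b L171362) (flp_c L170626) L203125
theorem L203129 : sm gf N22250 = N26253 := ded_20_0 L203127 (flp_f L173855) L173853
theorem L203131 : sm gd N21774 = N26254 := rfl
theorem L203133 : sm ga N26254 = N21775 := ded_9_1 (flp_d L170628) L170624 L203131
theorem L203135 : sm ge N21774 = N26255 := rfl
theorem L203137 : sm ga N26255 = N21776 := ded_10_1 (flp_e L170632) L170624 L203135
theorem L203139 : sm gc N26255 = N21889 := ded_19_1 (flp_e L171366) (flp_c L170626) L203135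
theorem L203141 : sm gf N21774 = N26256 := rfl
theorem L203143 : sm ga N26256 = N21777 := ded_11_1 (flp_f L170638) L170624 L203141
theorem L203145 : sm gc N26256 = N21890 := ded_20_1 (flp_f L171372) (flp_c L170626) L203141
theorem L203147 : sm gg N21774 = N26257 := rfl
theorem L203149 : sm ga N26257 = N21778 := ded_12_1 (flp_g L170642) L170624 L203147
theorem L203151 : sm gc N26257 = N21891 := ded_21_1 (flp_g L171378) (flp_c L170626) L203147
theorem L203153 : sm gc N21775 = N26258 := rfl
theorem L203155 : sm gb N26258 = N25780 := ded_13_1 (flp_c L199795) L168606 L118077 (flp_b L170630) L203153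
theorem L203157 : sm ge N21775 = N26259 := rfl
theorem L203159 : sm gb N26259 = N21779 := ded_15_1 (flp_e L170646) (flp_b L170630) L203157
theorem L203161 : sm gf N21775 = N26260 := rfl
theorem L203163 : sm gd N26260 = N21777 := ded_23_1 (flp_f L170638) L170628 L203161
theorem L203165 : sm gg N21775 = N26261 := rfl
theorem L203167 : sm gd N26261 = N21778 := ded_24_1 (flp_g L170642) L170628 L203165
theorem L203169 : sm gd N21776 = N26262 := rfl
theorem L203171 : sm gb N26262 = N21781 := ded_14_1 (flp_d L170660) (flp_b L170634) L203169
theorem L203173 : sm gf N21776 = N26263 := rfl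
theorem L203175 : sm gc N26263 = N21892 := ded_20_1 (flp_f L171384) (flp_c L170636) L203173
theorem L203177 : sm ge N26263 = N21777 := ded_25_1 (flp_f L170638) L170632 L203173
theorem L203179 : sm gg N21776 = N26264 := rfl
theorem L203181 : sm gc N26264 = N21893 := ded_21_1 (flp_g L171392) (flp_c L170636) L203179
theorem L203183 : sm ge N26264 = N21778 := ded_26_1 (flp_g L170642) L170632 L203179
theorem L203185 : sm gg N21777 = N26265 := rfl
theorem L203187 : sm gc N26265 = N21894 := ded_21_1 (flp_g L171400) (flp_c L170640) L203185
theorem L203189 : sm gf N26257 = N26265 := ded_29_0 (flp_g L203185) (flp_f L170638) L170642 (flp_a L203149)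
theorem L203191 : sm gb N21778 = N26266 := rfl
theorem L203193 : sm gg N26266 = N21783 := ded_17_2 (flp_b L170668) (flp_g L118083) L118069 L170642 L203191
theorem L203195 : sm gf N21778 = N26267 := rfl
theorem L203197 : sm ga N26267 = N26265 := ded_11_1 (flp_f L203189) L203149 L203195
theorem L203199 : sm gc N26267 = N21895 := ded_20_1 (flp_f L171406) (flp_c L170644) L203195
theorem L203201 : sm gg N26267 = N26256 := ded_29_3 L203143 (flp_f L170638) L170642 L203195
theorem L203203 : sm gd N21779 = N26268 := rfl
theorem L203205 : sm ga N26268 = N25797 := ded_9_1 (flp_d L199881) (flp_a L170648) L203203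
theorem L203207 : sm ge N26268 = N21781 := ded_22_2 (flp_d L170660) (flp_e L118079) L118073 L170646 L203203
theorem L203209 : sm gg N21779 = N26269 := rfl
theorem L203211 : sm ga N26269 = N25798 := ded_12_1 (flp_g L199883) (flp_a L170648) L203209
theorem L203213 : sm gc N26269 = N25787 := ded_21_1 (flp_g L199831) (flp_c L170650) L203209
theorem L203215 : sm ge N26269 = N21780 := ded_26_1 (flp_g L170652) L170646 L203209
theorem L203217 : sm gb N21780 = N26270 := rfl
theorem L203219 : sm gd N26270 = N21783 := ded_14_2 (flp_b L170668) (flp_d L170658) L203217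
theorem L203221 : sm gc N21781 = N26271 := rfl
theorem L203223 : sm gg N21781 = N26272 := rfl
theorem L203225 : sm gd N26272 = N21782 := ded_24_1 (flp_g L170662) L170660 L203223
theorem L203227 : sm gb N21782 = N26273 := rfl
theorem L203229 : sm ge N26273 = N21783 := ded_15_2 (flp_b L170668) (flp_e L170666) L203227
theorem L203231 : sm gf N21782 = N26274 := rfl
theorem L203233 : sm ga N26274 = N26180 := ded_11_1 (flp_f L203079) L203073 L203231
theorem L203235 : sm gc N26274 = N21785 := ded_20_1 (flp_f L170678) (flp_c L170664) L203231
theorem L203237 : sm ge N26274 = N21784 := ded_25_1 (flp_f L170670) (flp_e L170666) L203231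
theorem L203239 : sm gg N26274 = N26172 := ded_29_3 L202545 L170312 L170662 L203231
theorem L203241 : sm ga N21783 = N26275 := rfl
theorem L203243 : sm gf N21783 = N26276 := rfl
theorem L203245 : sm gb N21784 = N26277 := rfl
theorem L203247 : sm gb N21785 = N26278 := rfl
theorem L203249 : sm gd N26278 = N22438 := ded_14_2 (flp_b L175284) (flp_d L170682) L203247
theorem L203251 : sm ge N26278 = N21786 := ded_15_2 (flp_b L170688) (flp_e L170684) L203247
theorem L203253 : sm ga N21786 = N26279 := rfl
theorem L203255 : sm gd N26279 = N21787 := ded_9_2 (flp_a L170692) (flp_d L170690) L203253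
theorem L203257 : sm gc N21786 = N26280 := rfl
theorem L203259 : sm gg N21786 = N26281 := rfl
theorem L203261 : sm gd N26281 = N21789 := ded_24_1 (flp_g L170702) (flp_d L170690) L203259
theorem L203263 : sm gb N26281 = N26169 := ded_17_1 (flp_g L202525) L170270 (flp_g L118099) L170688 L203259
theorem L203265 : sm gc N21787 = N26282 := rfl
theorem L203267 : sm ga N26282 = N21788 := ded_8_1 (flp_c L170696) L170692 L203265
theorem L203269 : sm ge N26282 = N22442 := ded_19_2 (flp_c L175304) (flp_e L170694) L203265
theorem L203271 : sm gb N26282 = N23883 := ded_13_1 L186250 L155004 (flp_c L186129) (flp_b L186133) L203265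
theorem L203273 : sm gg N21787 = N26283 := rfl
theorem L203275 : sm ga N26283 = N21789 := ded_12_1 (flp_g L170702) L170692 L203273
theorem L203277 : sm ge N26283 = N22443 := ded_26_1 (flp_g L175310) (flp_e L170694) L203273
theorem L203279 : sm gf N26283 = N24903 := ded_29_2 (flp_g L193529) L193513 L193517 L203273
theorem L203281 : sm gg N21788 = N26284 := rfl
theorem L203283 : sm gc N26284 = N21789 := ded_21_1 (flp_g L170702) L170696 L203281
theorem L203285 : sm ge N26284 = N22445 := ded_26_1 (flp_g L175322) (flp_e L170698) L203281
theorem L203287 : sm gf N21789 = N26285 := rfl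
theorem L203289 : sm ga N26285 = N24903 := ded_11_1 (flp_f L203279) L203275 L203287
theorem L203291 : sm ge N26285 = N22446 := ded_25_1 (flp_f L175326) (flp_e L170704) L203287
theorem L203293 : sm gg N26285 = N24901 := ded_29_3 (flp_a L193513) L160934 L170702 L203287
theorem L203295 : sm gb N21790 = N26286 := rfl
theorem L203297 : sm gd N26286 = N25122 := ded_14_2 L195428 L170718 L203295
theorem L203299 : sm ge N26286 = N22447 := ded_15_2 (flp_b L175332) (flp_e L170712) L203295
theorem L203301 : sm gc N26286 = N24959 := ded_13_2 L193949 L191660 (flp_b L159657) L170708 L203295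
theorem L203303 : sm gf N26286 = N24958 := ded_16_2 L193943 L192583 (flp_b L192575) (flp_f L170714) L203295
theorem L203305 : sm gg N26286 = N25129 := ded_17_2 L195480 L164107 (flp_b L164845) (flp_g L170716) L203295
theorem L203307 : sm gb N21791 = N26287 := rfl
theorem L203309 : sm gd N26287 = N25191 := ded_14_2 L196045 (flp_d L170726) L203307
theorem L203311 : sm ge N26287 = N22318 := ded_15_2 L174366 (flp_e L170728) L203307
theorem L203313 : sm gc N26287 = N22319 := ded_13_2 L174374 L170258 (flp_b L118123) (flp_c L170724) L203307
theorem L203315 : sm gf N24650 = N26287 := ded_23_0 L203309 L196047 (flp_d L191920)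
theorem L203317 : sm ga N22322 = N26287 := ded_10_3 L203311 L174362 L174390
theorem L203319 : sm gb N21794 = N26288 := rfl
theorem L203321 : sm gd N26288 = N22119 := ded_14_2 L172970 (flp_d L170760) L203319
theorem L203323 : sm ge N26288 = N21795 := ded_15_2 (flp_b L170766) (flp_e L170762) L203319
theorem L203325 : sm gc N26288 = N25254 := ded_13_2 (flp_b L196567) L165708 L129257 (flp_c L170758) L203319
theorem L203327 : sm gg N26288 = N26288 := ded_17_2 (flp_b L203319) (flp_g L170754) L118151 L170754 L203319
theorem L203328 : sm ga N23638 = N26288 := ded_9_3 L203321 (flp_a L186009) (flp_d L186016)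
theorem L203330 : sm ga N21795 = N26289 := rfl
theorem L203332 : sm gd N26289 = N21799 := ded_9_2 (flp_a L170803) (flp_d L170768) L203330
theorem L203334 : sm ge N26289 = N23638 := ded_10_2 L203328 L203323 L203330
theorem L203336 : sm gg N26289 = N26289 := ded_12_2 (flp_a L203330) L170770 L203330
theorem L203337 : sm gb N23334 = N26289 := ded_14_3 L203332 (flp_b L172998) (flp_d L182125)
theorem L203339 : sm gc N21795 = N26290 := rfl
theorem L203341 : sm ge N26290 = N25254 := ded_19_2 (flp_c L203325) L203323 L203339
theorem L203343 : sm gg N26290 = N26290 := ded_21_2 (flp_c L203339) L170770 L203339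
theorem L203344 : sm gb N26290 = N25255 := ded_13_1 L196576 L178051 L169069 L170766 L203339
theorem L203346 : sm gf N21795 = N26291 := rfl
theorem L203348 : sm gd N26291 = N21801 := ded_23_1 (flp_f L170813) (flp_d L170768) L203346
theorem L203350 : sm gb N26291 = N25899 := ded_16_1 (flp_f L200603) (flp_b L169135) L118210 L170766 L203346
theorem L203352 : sm gc N21799 = N26292 := rfl
theorem L203354 : sm ga N26292 = N21800 := ded_8_1 (flp_c L170808) L170803 L203352
theorem L203356 : sm ge N26292 = N22457 := ded_19_2 (flp_c L175410) (flp_e L170805) L203352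
theorem L203358 : sm gg N26292 = N26292 := ded_21_2 (flp_c L203352) L170807 L203352
theorem L203359 : sm gf N21800 = N26293 := rfl
theorem L203361 : sm gc N26293 = N21801 := ded_20_1 (flp_f L170813) L170808 L203359
theorem L203363 : sm ge N26293 = N22459 := ded_25_1 (flp_f L175418) (flp_e L170810) L203359
theorem L203365 : sm gb N24636 = N26293 := ded_13_5 L203361 L170817 L191800 (flp_b L191796) L191804
theorem L203367 : sm gc N21802 = N26294 := rfl
theorem L203369 : sm ge N21802 = N26295 := rfl
theorem L203371 : sm gb N26295 = N21805 := ded_15_1 (flp_e L170835) (flp_b L170821) L203369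
theorem L203373 : sm gd N26295 = N22460 := ded_22_1 (flp_e L175424) (flp_d L123486) (flp_e L118232) L170819 L203369
theorem L203375 : sm gf N26108 = N26295 := ded_23_0 L203373 L175430 (flp_d L202048)
theorem L203377 : sm gf N21802 = N26296 := rfl
theorem L203379 : sm gd N26296 = N21803 := ded_23_1 (flp_f L170823) L170819 L203377
theorem L203381 : sm ge N26296 = N26108 := ded_25_1 L203375 (flp_e L203369) L203377
theorem L203383 : sm gb N26296 = N21811 := ded_16_1 (flp_f L170875) L118250 (flp_f L118238) (flp_b L170821) L203377
theorem L203385 : sm gg N26107 = N26296 := ded_24_0 L203379 (flp_g L174348) (flp_d L202044)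
theorem L203387 : sm gg N21802 = N26297 := rfl
theorem L203389 : sm gd N26297 = N21804 := ded_24_1 (flp_g L170829) L170819 L203387
theorem L203391 : sm gb N26297 = N24147 := ded_17_1 (flp_g L188286) L156790 (flp_g L118240) (flp_b L170821) L203387
theorem L203393 : sm gf N21804 = N26298 := rfl
theorem L203395 : sm ga N26298 = N22316 := ded_11_1 (flp_f L202810) L202804 L203393
theorem L203397 : sm gc N26298 = N22103 := ded_20_1 L172843 L171172 L203393
theorem L203399 : sm ge N26298 = N22102 := ded_25_1 L172835 (flp_e L170831) L203393
theorem L203401 : sm gg N26298 = N26207 := ded_29_3 L202796 (flp_f L170823) L170829 L203393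
theorem L203403 : sm gc N21806 = N26299 := rfl
theorem L203405 : sm ga N26299 = N21809 := ded_8_1 (flp_c L170867) (flp_a L170847) L203403
theorem L203407 : sm ge N21806 = N26300 := rfl
theorem L203409 : sm ga N26300 = N21810 := ded_10_1 (flp_e L170869) (flp_a L170847) L203407
theorem L203411 : sm gb N26300 = N25554 := ded_15_1 (flp_e L202850) L202846 L203407
theorem L203413 : sm gd N26300 = N22461 := ded_22_1 (flp_e L175432) (flp_d L123508) (flp_e L118246) L170845 L203407
theorem L203415 : sm gf N21806 = N26301 := rfl
theorem L203417 : sm ga N26301 = N21811 := ded_11_1 (flp_f L170875) (flp_a L170847) L203415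
theorem L203419 : sm gd N26301 = N21807 := ded_23_1 (flp_f L170849) L170845 L203415
theorem L203421 : sm gg N21806 = N26302 := rfl
theorem L203423 : sm ga N26302 = N21812 := ded_12_1 (flp_g L170879) (flp_a L170847) L203421
theorem L203425 : sm gd N26302 = N21808 := ded_24_1 (flp_g L170857) L170845 L203421
theorem L203427 : sm gb N26302 = N25836 := ded_17_1 L200167 (flp_b L200373) (flp_g L202848) L202846 L203421
theorem L203429 : sm gb N21809 = N26303 := rfl
theorem L203431 : sm gc N26303 = N21815 := ded_13_2 (flp_b L170903) (flp_c L118266) (flp_b L118250) L170867 L203429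
theorem L203433 : sm gd N21809 = N26304 := rfl
theorem L203435 : sm ge N21809 = N26305 := rfl
theorem L203437 : sm gc N26305 = N21810 := ded_19_1 (flp_e L170869) L170867 L203435
theorem L203439 : sm gf N21809 = N26306 := rfl
theorem L203441 : sm gc N26306 = N21811 := ded_20_1 (flp_f L170875) L170867 L203439
theorem L203443 : sm gg N21809 = N26307 := rfl
theorem L203445 : sm gc N26307 = N21812 := ded_21_1 (flp_g L170879) L170867 L203443
theorem L203447 : sm gf N21810 = N26308 := rfl
theorem L203449 : sm gd N26308 = N22465 := ded_23_1 (flp_f L175499) (flp_d L170873) L203447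
theorem L203451 : sm ge N26308 = N21811 := ded_25_1 (flp_f L170875) L170869 L203447
theorem L203453 : sm gb N26308 = N26108 := ded_16_1 L203375 L203371 L170839 (flp_b L170871) L203447
theorem L203455 : sm gg N26118 = N26308 := ded_24_0 L203449 (flp_g L175505) (flp_d L202102)
theorem L203457 : sm gg N21810 = N26309 := rfl
theorem L203459 : sm gd N26309 = N22466 := ded_24_1 (flp_g L175507) (flp_d L170873) L203457
theorem L203461 : sm ge N26309 = N21812 := ded_26_1 (flp_g L170879) L170869 L203457
theorem L203463 : sm gb N26309 = N24063 := ded_17_1 L187709 L156504 (flp_g L118272) (flp_b L170871) L203457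
theorem L203465 : sm gg N21811 = N26310 := rfl
theorem L203467 : sm gd N26310 = N21813 := ded_24_1 (flp_g L170885) (flp_d L170877) L203465
theorem L203469 : sm ge N26310 = N26118 := ded_26_1 L203455 L203451 L203465
theorem L203471 : sm gf N26302 = N26310 := ded_29_0 (flp_g L203465) (flp_f L170875) L170879 (flp_a L203423)
theorem L203473 : sm gb N26310 = N26117 := ded_17_1 (flp_g L202094) (flp_b L202042) L203385 L203383 L203465
theorem L203475 : sm gf N21812 = N26311 := rfl
theorem L203477 : sm ga N26311 = N26310 := ded_11_1 (flp_f L203471) L203423 L203475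
theorem L203479 : sm gd N26311 = N21814 := ded_23_1 (flp_f L170893) (flp_d L170881) L203475
theorem L203481 : sm gg N26311 = N26301 := ded_29_3 L203417 (flp_f L170875) L170879 L203475
theorem L203483 : sm ga N21815 = N26312 := rfl
theorem L203485 : sm ge N21815 = N26313 := rfl
theorem L203487 : sm gb N26313 = N21816 := ded_15_1 (flp_e L170905) L170903 L203485
theorem L203489 : sm gf N21815 = N26314 := rfl
theorem L203491 : sm gg N21815 = N26315 := rfl
theorem L203493 : sm gb N26315 = N24152 := ded_17_1 (flp_g L188311) (flp_b L156895) (flp_g L118268) L170903 L203491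
theorem L203495 : sm gc N21817 = N26316 := rfl
theorem L203497 : sm ga N26316 = N23374 := ded_8_1 L201324 L201320 L203495
theorem L203499 : sm gd N26316 = N23373 := ded_28_7 (flp_a L182387) (flp_c L145656) L182771 L202959 (flp_d L202953) L170516 L170911 L203495
theorem L203501 : sm ge N21817 = N26317 := rfl
theorem L203503 : sm gb N26317 = N21821 := ded_15_1 (flp_e L170929) (flp_b L170913) L203501
theorem L203505 : sm gd N26317 = N22471 := ded_22_1 (flp_e L175531) (flp_d L123564) (flp_e L118278) L170911 L203501
theorem L203507 : sm gf N21817 = N26318 := rfl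
theorem L203509 : sm gd N26318 = N21818 := ded_23_1 (flp_f L170915) L170911 L203507
theorem L203511 : sm gg N21817 = N26319 := rfl
theorem L203513 : sm gd N26319 = N21819 := ded_24_1 (flp_g L170919) L170911 L203511
theorem L203515 : sm gb N25328 = N26319 := ded_14_3 L203513 (flp_b L170923) (flp_d L197103)
theorem L203517 : sm gb N21818 = N26320 := rfl
theorem L203519 : sm ge N26320 = N22474 := ded_15_2 (flp_b L175547) (flp_e L170917) L203517
theorem L203521 : sm gf N26320 = N21824 := ded_16_2 (flp_b L170947) (flp_f L118284) L118276 L170915 L203517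
theorem L203523 : sm ga N26320 = N23649 := ded_7_1 (flp_b L184304) L152782 (flp_b L160728) (flp_a L187761) (flp_b L192701) L192693 L196883 (flp_a L196891) L203517
theorem L203525 : sm gg N26320 = N25826 := ded_31_3 (flp_f L200089) (flp_b L168774) (flp_g L116935) (flp_f L96050) L96042 L116907 L168730 (flp_b L168740) L166410 L166422 L170923 (flp_g L170919) L170915 L203517
theorem L203527 : sm gc N24789 = N26320 := ded_19_3 L203519 (flp_c L175557) (flp_e L192827)
theorem L203529 : sm gg N21818 = N26321 := rfl
theorem L203531 : sm ge N26321 = N22475 := ded_26_1 (flp_g L175559) (flp_e L170917) L203529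
theorem L203533 : sm gf N25994 = N26321 := ded_29_0 (flp_g L203529) (flp_f L170915) L170919 (flp_a L201328)
theorem L203535 : sm gb N26321 = N24717 := ded_17_1 L192379 (flp_b L200093) (flp_g L203525) (flp_b L203517) L203529
theorem L203537 : sm gf N21819 = N26322 := rfl
theorem L203539 : sm ga N26322 = N26321 := ded_11_1 (flp_f L203533) L201328 L203537
theorem L203541 : sm ge N26322 = N22476 := ded_25_1 (flp_f L175565) (flp_e L170921) L203537
theorem L203543 : sm gg N26322 = N25293 := ded_29_3 (flp_a L196891) (flp_f L170915) L170919 L203537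
theorem L203545 : sm gb N26322 = N25014 := ded_16_1 (flp_f L194436) L166244 L166422 L170923 L203537
theorem L203547 : sm gb N21820 = N26323 := rfl
theorem L203549 : sm gd N21820 = N26324 := rfl
theorem L203551 : sm ga N26324 = N21826 := ded_9_1 (flp_d L170963) (flp_a L170927) L203549
theorem L203553 : sm gc N26324 = N26304 := ded_28_6 (flp_d L203433) (flp_a L203405) (flp_c L203403) (flp_d L170845) L118244 L118280 L170925 L203549
theorem L203555 : sm ge N21820 = N26325 := rfl
theorem L203557 : sm ga N26325 = N21827 := ded_10_1 (flp_e L170967) (flp_a L170927) L203555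
theorem L203559 : sm gc N26325 = N21821 := ded_19_1 (flp_e L170929) L170925 L203555
theorem L203561 : sm gf N21820 = N26326 := rfl
theorem L203563 : sm ga N26326 = N21828 := ded_11_1 (flp_f L170973) (flp_a L170927) L203561
theorem L203565 : sm gc N26326 = N21822 := ded_20_1 (flp_f L170935) L170925 L203561
theorem L203567 : sm gg N21820 = N26327 := rfl
theorem L203569 : sm ga N26327 = N21829 := ded_12_1 (flp_g L170977) (flp_a L170927) L203567
theorem L203571 : sm gc N26327 = N21823 := ded_21_1 (flp_g L170941) L170925 L203567
theorem L203573 : sm gf N21821 = N26328 := rfl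
theorem L203575 : sm ga N26328 = N21830 := ded_11_1 (flp_f L170981) (flp_a L170931) L203573
theorem L203577 : sm gd N26328 = N22481 := ded_23_1 (flp_f L175595) (flp_d L170933) L203573
theorem L203579 : sm ge N26328 = N21822 := ded_25_1 (flp_f L170935) L170929 L203573
theorem L203581 : sm gb N23357 = N26328 := ded_14_3 L203577 (flp_b L175601) (flp_d L182295)
theorem L203583 : sm gg N21821 = N26329 := rfl
theorem L203585 : sm ga N26329 = N21831 := ded_12_1 (flp_g L170987) (flp_a L170931) L203583
theorem L203587 : sm gd N26329 = N22482 := ded_24_1 (flp_g L175603) (flp_d L170933) L203583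
theorem L203589 : sm ge N26329 = N21823 := ded_26_1 (flp_g L170941) L170929 L203583
theorem L203591 : sm gb N21822 = N26330 := rfl
theorem L203593 : sm gd N26330 = N21824 := ded_14_2 (flp_b L170947) (flp_d L170939) L203591
theorem L203595 : sm ge N26330 = N23357 := ded_15_2 L203581 L203579 L203591
theorem L203597 : sm ga N23349 = N26330 := ded_9_3 L203593 (flp_a L170951) (flp_d L182245)
theorem L203599 : sm gb N21823 = N26331 := rfl
theorem L203601 : sm gd N26331 = N21825 := ded_14_2 (flp_b L170953) (flp_d L170945) L203599
theorem L203603 : sm gg N26331 = N25328 := ded_17_2 L203515 (flp_g L203511) L170913 L170941 L203599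
theorem L203605 : sm ga N26223 = N26331 := ded_9_3 L203601 (flp_a L170961) L202947
theorem L203607 : sm gc N21824 = N26332 := rfl
theorem L203609 : sm ga N26332 = N23651 := ded_8_1 (flp_c L184322) L170951 L203607
theorem L203611 : sm ge N26332 = N22483 := ded_19_2 (flp_c L175609) (flp_e L170949) L203607
theorem L203613 : sm gf N26332 = N24789 := ded_20_2 L203527 L203521 L203607
theorem L203615 : sm gg N26332 = N23613 := ded_21_2 L200077 L200075 L203607
theorem L203617 : sm gc N21826 = N26333 := rfl
theorem L203619 : sm ga N26333 = N26304 := ded_8_1 (flp_c L203553) L203551 L203617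
theorem L203621 : sm gd N26333 = N26299 := ded_28_7 L203405 (flp_c L170867) (flp_d L118248) L96645 L96655 L118296 L170963 L203617
theorem L203623 : sm ge N21826 = N26334 := rfl
theorem L203625 : sm gb N26334 = N24844 := ded_15_1 (flp_e L193175) (flp_b L170965) L203623
theorem L203627 : sm gf N21826 = N26335 := rfl
theorem L203629 : sm gd N26335 = N21828 := ded_23_1 (flp_f L170973) L170963 L203627
theorem L203631 : sm gg N21826 = N26336 := rfl
theorem L203633 : sm gd N26336 = N21829 := ded_24_1 (flp_g L170977) L170963 L203631
theorem L203635 : sm gd N21827 = N26337 := rfl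
theorem L203637 : sm gb N26337 = N24834 := ded_14_1 (flp_d L193121) (flp_b L170969) L203635
theorem L203639 : sm gf N21827 = N26338 := rfl
theorem L203641 : sm gc N26338 = N21830 := ded_20_1 (flp_f L170981) (flp_c L170971) L203639
theorem L203643 : sm ge N26338 = N21828 := ded_25_1 (flp_f L170973) L170967 L203639
theorem L203645 : sm gg N21827 = N26339 := rfl
theorem L203647 : sm gc N26339 = N21831 := ded_21_1 (flp_g L170987) (flp_c L170971) L203645
theorem L203649 : sm ge N26339 = N21829 := ded_26_1 (flp_g L170977) L170967 L203645
theorem L203651 : sm gb N21828 = N26340 := rfl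
theorem L203653 : sm gc N26340 = N26034 := ded_13_2 (flp_b L201548) L169625 L118344 (flp_c L170975) L203651
theorem L203655 : sm gf N26340 = N24846 := ded_16_2 (flp_b L193181) (flp_f L160710) (flp_b L118298) L170973 L203651
theorem L203657 : sm gg N21828 = N26341 := rfl
theorem L203659 : sm gc N26341 = N21832 := ded_21_1 (flp_g L170995) (flp_c L170975) L203657
theorem L203661 : sm gf N26327 = N26341 := ded_29_0 (flp_g L203657) (flp_f L170973) L170977 (flp_a L203569)
theorem L203663 : sm gb N21829 = N26342 := rfl
theorem L203665 : sm gc N26342 = N24051 := ded_13_2 (flp_b L187637) L156390 (flp_b L118314) (flp_c L170979) L203663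
theorem L203667 : sm gg N26342 = N24727 := ded_17_2 L192443 L160254 (flp_b L118298) L170977 L203663
theorem L203669 : sm gf N21829 = N26343 := rfl
theorem L203671 : sm ga N26343 = N26341 := ded_11_1 (flp_f L203661) L203569 L203669
theorem L203673 : sm gc N26343 = N21833 := ded_20_1 (flp_f L171001) (flp_c L170979) L203669
theorem L203675 : sm gg N26343 = N26326 := ded_29_3 L203563 (flp_f L170973) L170977 L203669
theorem L203677 : sm gg N21830 = N26344 := rfl
theorem L203679 : sm gd N26344 = N22490 := ded_24_1 (flp_g L175645) (flp_d L170983) L203677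
theorem L203681 : sm ge N26344 = N21832 := ded_26_1 (flp_g L170995) (flp_e L170985) L203677
theorem L203683 : sm gf N26329 = N26344 := ded_29_0 (flp_g L203677) (flp_f L170981) L170987 (flp_a L203585)
theorem L203685 : sm gf N21831 = N26345 := rfl
theorem L203687 : sm ga N26345 = N26344 := ded_11_1 (flp_f L203683) L203585 L203685
theorem L203689 : sm gd N26345 = N22491 := ded_23_1 (flp_f L175651) (flp_d L170989) L203685
theorem L203691 : sm ge N26345 = N21833 := ded_25_1 (flp_f L171001) (flp_e L170991) L203685
theorem L203693 : sm gg N26345 = N26328 := ded_29_3 L203575 (flp_f L170981) L170987 L203685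
theorem L203695 : sm gb N21832 = N26346 := rfl
theorem L203697 : sm gd N26346 = N21834 := ded_14_2 (flp_b L171009) (flp_d L170997) L203695
theorem L203699 : sm gb N21833 = N26347 := rfl
theorem L203701 : sm gd N26347 = N21835 := ded_14_2 (flp_b L171013) (flp_d L171005) L203699
theorem L203703 : sm gf N26347 = N24054 := ded_16_2 (flp_b L187659) (flp_f L156398) (flp_b L118314) L171001 L203699
theorem L203705 : sm gc N21834 = N26348 := rfl
theorem L203707 : sm ga N26348 = N24751 := ded_8_1 L192591 (flp_a L191283) L203705
theorem L203709 : sm ge N26348 = N22494 := ded_19_2 (flp_c L175675) (flp_e L171011) L203705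
theorem L203711 : sm gb N26348 = N24649 := ded_13_1 L191910 L174398 L170887 L171009 L203705
theorem L203713 : sm gf N24641 = N26348 := ded_11_0 L203707 L192593 L191858
theorem L203715 : sm gf N21834 = N26349 := rfl
theorem L203717 : sm gc N26349 = N24641 := ded_20_1 L203713 (flp_c L203705) L203715
theorem L203719 : sm ge N26349 = N22495 := ded_25_1 (flp_f L175683) (flp_e L171011) L203715
theorem L203721 : sm gb N26349 = N24640 := ded_16_1 L191850 (flp_b L170953) L118320 L171009 L203715
theorem L203723 : sm ga N21835 = N26350 := rfl
theorem L203725 : sm ge N26350 = N22496 := ded_10_2 (flp_a L175691) (flp_e L171015) L203723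
theorem L203727 : sm gf N26350 = N24055 := ded_11_2 (flp_a L187663) (flp_f L171017) L203723
theorem L203729 : sm gb N26350 = N23554 := ded_7_2 (flp_a L201826) L201832 L169835 L191279 (flp_a L191283) (flp_b L171009) (flp_a L118324) L171013 L203723
theorem L203731 : sm gc N21835 = N26351 := rfl
theorem L203733 : sm ge N26351 = N22497 := ded_19_2 (flp_c L175703) (flp_e L171015) L203731
theorem L203735 : sm gf N26351 = N24056 := ded_20_2 (flp_c L187667) (flp_f L171017) L203731
theorem L203737 : sm gb N26351 = N25508 := ded_13_1 (flp_c L200429) (flp_b L200437) L170897 L171013 L203731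
theorem L203739 : sm gg N21835 = N26352 := rfl
theorem L203741 : sm ge N26352 = N22498 := ded_26_1 (flp_g L175711) (flp_e L171015) L203739
theorem L203743 : sm gb N26352 = N25824 := ded_17_1 L200075 (flp_b L170947) (flp_g L118328) L171013 L203739
theorem L203745 : sm ge N21836 = N26353 := rfl
theorem L203747 : sm gb N26353 = N21837 := ded_15_1 (flp_e L171023) L171019 L203745
theorem L203749 : sm gd N26353 = N25060 := ded_22_1 L194863 L162356 (flp_e L160656) (flp_d L171021) L203745
theorem L203751 : sm gf N21836 = N26354 := rfl
theorem L203753 : sm gd N26354 = N24829 := ded_23_1 (flp_f L193095) (flp_d L171021) L203751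
theorem L203755 : sm gg N21836 = N26355 := rfl
theorem L203757 : sm gd N26355 = N24830 := ded_24_1 (flp_g L193099) (flp_d L171021) L203755
theorem L203759 : sm gf N21837 = N26356 := rfl
theorem L203761 : sm ga N26356 = N21840 := ded_11_1 (flp_f L171041) (flp_a L171025) L203759
theorem L203763 : sm gd N26356 = N22958 := ded_23_1 (flp_f L179391) (flp_d L171027) L203759
theorem L203765 : sm ge N26356 = N21838 := ded_25_1 (flp_f L171029) L171023 L203759
theorem L203767 : sm gb N22955 = N26356 := ded_7_0 L203761 L171047 (flp_a L203575) (flp_b L203581) (flp_a L182293) (flp_b L145368) L104371 L130408 L179369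
theorem L203769 : sm gg N21837 = N26357 := rfl
theorem L203771 : sm ga N26357 = N21841 := ded_12_1 (flp_g L171049) (flp_a L171025) L203769
theorem L203773 : sm gd N26357 = N25053 := ded_24_1 L194801 (flp_d L171027) L203769
theorem L203775 : sm ge N26357 = N21839 := ded_26_1 (flp_g L171035) L171023 L203769
theorem L203777 : sm gb N21838 = N26358 := rfl
theorem L203779 : sm gd N26358 = N23046 := ded_14_2 L180115 (flp_d L171033) L203777
theorem L203781 : sm ge N26358 = N22955 := ded_15_2 L203767 L203765 L203777
theorem L203783 : sm ga N26358 = N22954 := ded_7_1 (flp_b L179363) (flp_a L145348) L182243 L203597 (flp_b L203591) L170937 (flp_b L118344) (flp_a L171031) L203777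
theorem L203785 : sm gb N21839 = N26359 := rfl
theorem L203787 : sm gd N26359 = N24826 := ded_14_2 (flp_b L193081) (flp_d L171039) L203785
theorem L203789 : sm gg N21840 = N26360 := rfl
theorem L203791 : sm gd N26360 = N23255 := ded_24_1 (flp_g L181577) (flp_d L171043) L203789
theorem L203793 : sm ge N26360 = N21842 := ded_26_1 (flp_g L171057) (flp_e L171045) L203789
theorem L203795 : sm gf N26357 = N26360 := ded_29_0 (flp_g L203789) (flp_f L171041) L171049 (flp_a L203771)
theorem L203797 : sm gf N21841 = N26361 := rfl
theorem L203799 : sm ga N26361 = N26360 := ded_11_1 (flp_f L203795) L203771 L203797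
theorem L203801 : sm gd N26361 = N25054 := ded_23_1 (flp_f L194805) (flp_d L171051) L203797
theorem L203803 : sm ge N26361 = N21843 := ded_25_1 (flp_f L171063) (flp_e L171053) L203797
theorem L203805 : sm gg N26361 = N26356 := ded_29_3 L203761 (flp_f L171041) L171049 L203797
theorem L203807 : sm gb N21842 = N26362 := rfl
theorem L203809 : sm gd N26362 = N24831 := ded_14_2 (flp_b L193103) (flp_d L171059) L203807
theorem L203811 : sm gg N26362 = N26346 := ded_17_2 (flp_b L203695) (flp_g L170995) (flp_b L118344) L171057 L203807
theorem L203813 : sm gb N21843 = N26363 := rfl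
theorem L203815 : sm gd N26363 = N24432 := ded_14_2 L190365 (flp_d L171067) L203813
theorem L203817 : sm gf N26363 = N24824 := ded_16_2 (flp_b L193071) (flp_f L160626) (flp_b L118350) L171063 L203813
theorem L203819 : sm gb N21846 = N26364 := rfl
theorem L203821 : sm gd N26364 = N22330 := ded_14_2 L174469 (flp_d L171099) L203819
theorem L203823 : sm ge N26364 = N21847 := ded_15_2 (flp_b L171105) (flp_e L171101) L203819
theorem L203825 : sm gc N26364 = N25206 := ded_13_2 (flp_b L196148) L165078 L129334 (flp_c L171097) L203819
theorem L203827 : sm gf N26364 = N26364 := ded_16_2 (flp_b L203819) (flp_f L171093) L118376 L171093 L203819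
theorem L203828 : sm ga N23691 = N26364 := ded_9_3 L203821 (flp_a L186020) (flp_d L186027)
theorem L203830 : sm ga N21847 = N26365 := rfl
theorem L203832 : sm gd N26365 = N21851 := ded_9_2 (flp_a L171142) (flp_d L171107) L203830
theorem L203834 : sm ge N26365 = N23691 := ded_10_2 L203828 L203823 L203830
theorem L203836 : sm gf N26365 = N26365 := ded_11_2 (flp_a L203830) L171109 L203830
theorem L203837 : sm gb N23394 = N26365 := ded_14_3 L203832 (flp_b L174509) (flp_d L182499)
theorem L203839 : sm gc N21847 = N26366 := rfl
theorem L203841 : sm ge N26366 = N25206 := ded_19_2 (flp_c L203825) L203823 L203839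
theorem L203843 : sm gf N26366 = N26366 := ded_20_2 (flp_c L203839) L171109 L203839
theorem L203844 : sm gb N26366 = N25207 := ded_13_1 L196157 L178091 L170096 L171105 L203839
theorem L203846 : sm gg N21847 = N26367 := rfl
theorem L203848 : sm gd N26367 = N21853 := ded_24_1 (flp_g L171152) (flp_d L171107) L203846
theorem L203850 : sm gb N26367 = N26135 := ded_17_1 (flp_g L202252) (flp_b L170140) (flp_g L118383) L171105 L203846
theorem L203852 : sm gc N21851 = N26368 := rfl
theorem L203854 : sm ga N26368 = N21852 := ded_8_1 (flp_c L171147) L171142 L203852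
theorem L203856 : sm ge N26368 = N22516 := ded_19_2 (flp_c L175833) (flp_e L171144) L203852
theorem L203858 : sm gf N26368 = N26368 := ded_20_2 (flp_c L203852) L171146 L203852
theorem L203859 : sm gg N21852 = N26369 := rfl
theorem L203861 : sm gc N26369 = N21853 := ded_21_1 (flp_g L171152) L171147 L203859
theorem L203863 : sm ge N26369 = N22518 := ded_26_1 (flp_g L175849) (flp_e L171149) L203859
theorem L203865 : sm gb N24581 = N26369 := ded_13_5 L203861 L171156 L191419 (flp_b L191415) L191423
theorem L203867 : sm gc N21854 = N26370 := rfl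
theorem L203869 : sm ge N21854 = N26371 := rfl
theorem L203871 : sm gb N26371 = N21857 := ded_15_1 (flp_e L171178) (flp_b L171160) L203869
theorem L203873 : sm gd N26371 = N22519 := ded_22_1 (flp_e L175855) (flp_d L123920) (flp_e L118419) L171158 L203869
theorem L203875 : sm gg N25867 = N26371 := ded_24_0 L203873 L175861 (flp_d L200365)
theorem L203877 : sm gf N21854 = N26372 := rfl
theorem L203879 : sm gd N26372 = N21855 := ded_23_1 (flp_f L171162) L171158 L203877
theorem L203881 : sm gb N26372 = N24159 := ded_16_1 (flp_f L188349) L156912 (flp_f L118427) (flp_b L171160) L203877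
theorem L203883 : sm gg N21854 = N26373 := rfl
theorem L203885 : sm gd N26373 = N21856 := ded_24_1 (flp_g L171170) L171158 L203883
theorem L203887 : sm ge N26373 = N25867 := ded_26_1 L203875 (flp_e L203869) L203883
theorem L203889 : sm gb N26373 = N21864 := ded_17_1 (flp_g L171224) L118439 (flp_g L118429) (flp_b L171160) L203883
theorem L203891 : sm gf N25866 = N26373 := ded_23_0 L203885 (flp_f L172843) (flp_d L200361)
theorem L203893 : sm gg N21855 = N26374 := rfl
theorem L203895 : sm ga N26374 = N22103 := ded_12_1 (flp_g L201151) L201147 L203893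
theorem L203897 : sm gc N26374 = N22316 := ded_21_1 L174348 (flp_c L171164) L203893
theorem L203899 : sm ge N26374 = N22100 := ded_26_1 L172819 (flp_e L171166) L203893
theorem L203901 : sm gf N25973 = N26374 := ded_29_0 (flp_g L203893) (flp_f L171162) L171170 (flp_a L201155)
theorem L203903 : sm gc N21858 = N26375 := rfl
theorem L203905 : sm ga N26375 = N21861 := ded_8_1 (flp_c L171210) (flp_a L171190) L203903
theorem L203907 : sm ge N21858 = N26376 := rfl
theorem L203909 : sm ga N26376 = N21862 := ded_10_1 (flp_e L171212) (flp_a L171190) L203907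
theorem L203911 : sm gb N26376 = N25496 := ded_15_1 (flp_e L201205) L201203 L203907
theorem L203913 : sm gd N26376 = N22520 := ded_22_1 (flp_e L175863) (flp_d L123946) (flp_e L118435) L171188 L203907
theorem L203915 : sm gf N21858 = N26377 := rfl
theorem L203917 : sm ga N26377 = N21863 := ded_11_1 (flp_f L171218) (flp_a L171190) L203915
theorem L203919 : sm gd N26377 = N21859 := ded_23_1 (flp_f L171192) L171188 L203915
theorem L203921 : sm gb N26377 = N26077 := ded_16_1 L201844 (flp_b L202062) L202064 L201203 L203915
theorem L203923 : sm gg N21858 = N26378 := rfl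
theorem L203925 : sm ga N26378 = N21864 := ded_12_1 (flp_g L171224) (flp_a L171190) L203923
theorem L203927 : sm gd N26378 = N21860 := ded_24_1 (flp_g L171202) L171188 L203923
theorem L203929 : sm gb N21861 = N26379 := rfl
theorem L203931 : sm gc N26379 = N21867 := ded_13_2 (flp_b L171246) (flp_c L118455) (flp_b L118439) L171210 L203929
theorem L203933 : sm gd N21861 = N26380 := rfl
theorem L203935 : sm ge N21861 = N26381 := rfl
theorem L203937 : sm gc N26381 = N21862 := ded_19_1 (flp_e L171212) L171210 L203935
theorem L203939 : sm gf N21861 = N26382 := rfl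
theorem L203941 : sm gc N26382 = N21863 := ded_20_1 (flp_f L171218) L171210 L203939
theorem L203943 : sm gg N21861 = N26383 := rfl
theorem L203945 : sm gc N26383 = N21864 := ded_21_1 (flp_g L171224) L171210 L203943
theorem L203947 : sm gf N21862 = N26384 := rfl
theorem L203949 : sm gd N26384 = N22524 := ded_23_1 (flp_f L175889) (flp_d L171216) L203947
theorem L203951 : sm ge N26384 = N21863 := ded_25_1 (flp_f L171218) L171212 L203947
theorem L203953 : sm gb N26384 = N24114 := ded_16_1 L188055 L156757 (flp_f L118461) (flp_b L171214) L203947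
theorem L203955 : sm gg N21862 = N26385 := rfl
theorem L203957 : sm gd N26385 = N22525 := ded_24_1 (flp_g L175895) (flp_d L171216) L203955
theorem L203959 : sm ge N26385 = N21864 := ded_26_1 (flp_g L171224) L171212 L203955
theorem L203961 : sm gb N26385 = N25867 := ded_17_1 L203875 L203871 L171184 (flp_b L171214) L203955
theorem L203963 : sm gf N25879 = N26385 := ded_23_0 L203957 (flp_f L175901) (flp_d L200425)
theorem L203965 : sm gg N21863 = N26386 := rfl
theorem L203967 : sm gd N26386 = N21865 := ded_24_1 (flp_g L171228) (flp_d L171220) L203965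
theorem L203969 : sm gf N26378 = N26386 := ded_29_0 (flp_g L203965) (flp_f L171218) L171224 (flp_a L203925)
theorem L203971 : sm gf N21864 = N26387 := rfl
theorem L203973 : sm ga N26387 = N26386 := ded_11_1 (flp_f L203969) L203925 L203971
theorem L203975 : sm gd N26387 = N21866 := ded_23_1 (flp_f L171236) (flp_d L171226) L203971
theorem L203977 : sm ge N26387 = N25879 := ded_25_1 L203963 L203959 L203971
theorem L203979 : sm gg N26387 = N26377 := ded_29_3 L203917 (flp_f L171218) L171224 L203971
theorem L203981 : sm gb N26387 = N25878 := ded_16_1 (flp_f L200417) (flp_b L200359) L203891 L203889 L203971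
theorem L203983 : sm ga N21867 = N26388 := rfl
theorem L203985 : sm ge N21867 = N26389 := rfl
theorem L203987 : sm gb N26389 = N21868 := ded_15_1 (flp_e L171248) L171246 L203985
theorem L203989 : sm gf N21867 = N26390 := rfl
theorem L203991 : sm gb N26390 = N24164 := ded_16_1 (flp_f L188380) (flp_b L156934) (flp_f L118457) L171246 L203989
theorem L203993 : sm gg N21867 = N26391 := rfl
theorem L203995 : sm gc N21869 = N26392 := rfl
theorem L203997 : sm ga N26392 = N23433 := ded_8_1 L202959 L202955 L203995
theorem L203999 : sm gd N26392 = N23432 := ded_28_7 (flp_a L182765) L145656 L182391 L201324 (flp_d L201318) L169505 L171254 L203995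
theorem L204001 : sm ge N21869 = N26393 := rfl
theorem L204003 : sm gb N26393 = N21873 := ded_15_1 (flp_e L171272) (flp_b L171256) L204001
theorem L204005 : sm gd N26393 = N22530 := ded_22_1 (flp_e L175921) (flp_d L124025) (flp_e L118467) L171254 L204001
theorem L204007 : sm gf N21869 = N26394 := rfl
theorem L204009 : sm gd N26394 = N21870 := ded_23_1 (flp_f L171258) L171254 L204007
theorem L204011 : sm gb N25333 = N26394 := ded_14_3 L204009 (flp_b L171262) (flp_d L197125)
theorem L204013 : sm gg N21869 = N26395 := rfl
theorem L204015 : sm gd N26395 = N21871 := ded_24_1 (flp_g L171264) L171254 L204013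
theorem L204017 : sm gg N21870 = N26396 := rfl
theorem L204019 : sm gc N26396 = N26322 := ded_21_1 L203543 L196887 L204017
theorem L204021 : sm ge N26396 = N22533 := ded_26_1 (flp_g L175937) (flp_e L171260) L204017
theorem L204023 : sm gf N25297 = N26396 := ded_29_0 (flp_g L204017) (flp_f L171258) L171264 L196917
theorem L204025 : sm gb N26396 = N25035 := ded_17_1 L194629 L166292 L166468 L171262 L204017
theorem L204027 : sm gb N21871 = N26397 := rfl
theorem L204029 : sm ge N26397 = N22534 := ded_15_2 (flp_b L175945) (flp_e L171266) L204027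
theorem L204031 : sm gg N26397 = N21877 := ded_17_2 (flp_b L171300) (flp_g L118479) L118465 L171264 L204027
theorem L204033 : sm ga N26397 = N23701 := ded_7_1 (flp_b L184680) L153197 (flp_b L160928) (flp_a L188115) (flp_b L192391) L192383 L196909 (flp_a L196917) L204027
theorem L204035 : sm gf N26076 = N26397 := ded_31_1 (flp_b L204027) (flp_g L171264) L171258 (flp_b L171262) (flp_g L166468) (flp_f L166456) L169751 (flp_g L169741) (flp_f L117539) (flp_b L96327) L96341 L117585 L169803 L201834
theorem L204037 : sm gc N24740 = N26397 := ded_19_3 L204029 (flp_c L175955) (flp_e L192505)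
theorem L204039 : sm gf N21871 = N26398 := rfl
theorem L204041 : sm ga N26398 = N26396 := ded_11_1 (flp_f L204023) (flp_a L196917) L204039
theorem L204043 : sm gc N26398 = N26321 := ded_20_1 (flp_f L203533) L201330 L204039
theorem L204045 : sm ge N26398 = N22535 := ded_25_1 (flp_f L175957) (flp_e L171266) L204039
theorem L204047 : sm gg N26398 = N26225 := ded_29_3 L202963 (flp_f L171258) L171264 L204039
theorem L204049 : sm gb N26398 = N24766 := ded_16_1 (flp_f L192689) (flp_b L201838) L204035 (flp_b L204027) L204039
theorem L204051 : sm gb N21872 = N26399 := rfl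
theorem L204053 : sm gd N21872 = N26400 := rfl
theorem L204055 : sm ga N26400 = N21878 := ded_9_1 (flp_d L171306) (flp_a L171270) L204053
theorem L204057 : sm gc N26400 = N26380 := ded_28_6 (flp_d L203933) (flp_a L203905) (flp_c L203903) (flp_d L171188) L118433 L118469 L171268 L204053
theorem L204059 : sm ge N21872 = N26401 := rfl
theorem L204061 : sm ga N26401 = N21879 := ded_10_1 (flp_e L171310) (flp_a L171270) L204059
theorem L204063 : sm gc N26401 = N21873 := ded_19_1 (flp_e L171272) L171268 L204059
theorem L204065 : sm gf N21872 = N26402 := rfl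
theorem L204067 : sm ga N26402 = N21880 := ded_11_1 (flp_f L171316) (flp_a L171270) L204065
theorem L204069 : sm gc N26402 = N21874 := ded_20_1 (flp_f L171278) L171268 L204065
theorem L204071 : sm gg N21872 = N26403 := rfl
theorem L204073 : sm ga N26403 = N21881 := ded_12_1 (flp_g L171320) (flp_a L171270) L204071
theorem L204075 : sm gc N26403 = N21875 := ded_21_1 (flp_g L171284) L171268 L204071
theorem L204077 : sm gf N21873 = N26404 := rfl
theorem L204079 : sm ga N26404 = N21882 := ded_11_1 (flp_f L171324) (flp_a L171274) L204077
theorem L204081 : sm gd N26404 = N22540 := ded_23_1 (flp_f L175989) (flp_d L171276) L204077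
theorem L204083 : sm ge N26404 = N21874 := ded_25_1 (flp_f L171278) L171272 L204077
theorem L204085 : sm gg N21873 = N26405 := rfl
theorem L204087 : sm ga N26405 = N21883 := ded_12_1 (flp_g L171332) (flp_a L171274) L204085
theorem L204089 : sm gd N26405 = N22541 := ded_24_1 (flp_g L175995) (flp_d L171276) L204085
theorem L204091 : sm ge N26405 = N21875 := ded_26_1 (flp_g L171284) L171272 L204085
theorem L204093 : sm gb N23416 = N26405 := ded_14_3 L204089 (flp_b L176001) (flp_d L182657)
theorem L204095 : sm gb N21874 = N26406 := rfl
theorem L204097 : sm gd N26406 = N21876 := ded_14_2 (flp_b L171290) (flp_d L171282) L204095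
theorem L204099 : sm gf N26406 = N25333 := ded_16_2 L204011 (flp_f L204007) L171256 L171278 L204095
theorem L204101 : sm ga N25992 = N26406 := ded_9_3 L204097 L171298 L201312
theorem L204103 : sm gb N21875 = N26407 := rfl
theorem L204105 : sm gd N26407 = N21877 := ded_14_2 (flp_b L171300) (flp_d L171288) L204103
theorem L204107 : sm ge N26407 = N23416 := ded_15_2 L204093 L204091 L204103
theorem L204109 : sm ga N23408 = N26407 := ded_9_3 L204105 (flp_a L171304) (flp_d L182607)
theorem L204111 : sm gc N21877 = N26408 := rfl
theorem L204113 : sm ga N26408 = N23703 := ded_8_1 (flp_c L184698) L171304 L204111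
theorem L204115 : sm ge N26408 = N22542 := ded_19_2 (flp_c L176003) (flp_e L171302) L204111
theorem L204117 : sm gf N26408 = N23554 := ded_20_2 L201822 L201820 L204111
theorem L204119 : sm gg N26408 = N24740 := ded_21_2 L204037 L204031 L204111
theorem L204121 : sm gc N21878 = N26409 := rfl
theorem L204123 : sm ga N26409 = N26380 := ded_8_1 (flp_c L204057) L204055 L204121
theorem L204125 : sm gd N26409 = N26375 := ded_28_7 L203905 (flp_c L171210) (flp_d L118437) L96744 L96754 L118485 L171306 L204121
theorem L204127 : sm ge N21878 = N26410 := rfl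
theorem L204129 : sm gb N26410 = N24895 := ded_15_1 (flp_e L193479) (flp_b L171308) L204127
theorem L204131 : sm gf N21878 = N26411 := rfl
theorem L204133 : sm gd N26411 = N21880 := ded_23_1 (flp_f L171316) L171306 L204131
theorem L204135 : sm gg N21878 = N26412 := rfl
theorem L204137 : sm gd N26412 = N21881 := ded_24_1 (flp_g L171320) L171306 L204135
theorem L204139 : sm gd N21879 = N26413 := rfl
theorem L204141 : sm gb N26413 = N24887 := ded_14_1 (flp_d L193437) (flp_b L171312) L204139
theorem L204143 : sm gf N21879 = N26414 := rfl
theorem L204145 : sm gc N26414 = N21882 := ded_20_1 (flp_f L171324) (flp_c L171314) L204143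
theorem L204147 : sm ge N26414 = N21880 := ded_25_1 (flp_f L171316) L171310 L204143
theorem L204149 : sm gg N21879 = N26415 := rfl
theorem L204151 : sm gc N26415 = N21883 := ded_21_1 (flp_g L171332) (flp_c L171314) L204149
theorem L204153 : sm ge N26415 = N21881 := ded_26_1 (flp_g L171320) L171310 L204149
theorem L204155 : sm gb N21880 = N26416 := rfl
theorem L204157 : sm gc N26416 = N24102 := ded_13_2 (flp_b L187983) L156637 (flp_b L118499) (flp_c L171318) L204155
theorem L204159 : sm gf N26416 = N24776 := ded_16_2 L192753 L160484 (flp_b L118487) L171316 L204155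
theorem L204161 : sm gg N21880 = N26417 := rfl
theorem L204163 : sm gc N26417 = N21884 := ded_21_1 (flp_g L171338) (flp_c L171318) L204161
theorem L204165 : sm gf N26403 = N26417 := ded_29_0 (flp_g L204161) (flp_f L171316) L171320 (flp_a L204073)
theorem L204167 : sm gb N21881 = N26418 := rfl
theorem L204169 : sm gc N26418 = N26266 := ded_13_2 (flp_b L203191) L170644 L118539 (flp_c L171322) L204167
theorem L204171 : sm gg N26418 = N24897 := ded_17_2 (flp_b L193485) (flp_g L160906) (flp_b L118487) L171320 L204167
theorem L204173 : sm gf N21881 = N26419 := rfl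
theorem L204175 : sm ga N26419 = N26417 := ded_11_1 (flp_f L204165) L204073 L204173
theorem L204177 : sm gc N26419 = N21885 := ded_20_1 (flp_f L171344) (flp_c L171322) L204173
theorem L204179 : sm gg N26419 = N26402 := ded_29_3 L204067 (flp_f L171316) L171320 L204173
theorem L204181 : sm gg N21882 = N26420 := rfl
theorem L204183 : sm gd N26420 = N22549 := ded_24_1 (flp_g L176039) (flp_d L171326) L204181
theorem L204185 : sm ge N26420 = N21884 := ded_26_1 (flp_g L171338) (flp_e L171328) L204181
theorem L204187 : sm gf N26405 = N26420 := ded_29_0 (flp_g L204181) (flp_f L171324) L171332 (flp_a L204087)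
theorem L204189 : sm gf N21883 = N26421 := rfl
theorem L204191 : sm ga N26421 = N26420 := ded_11_1 (flp_f L204187) L204087 L204189
theorem L204193 : sm gd N26421 = N22550 := ded_23_1 (flp_f L176045) (flp_d L171334) L204189
theorem L204195 : sm ge N26421 = N21885 := ded_25_1 (flp_f L171344) (flp_e L171336) L204189
theorem L204197 : sm gg N26421 = N26404 := ded_29_3 L204079 (flp_f L171324) L171332 L204189
theorem L204199 : sm gb N21884 = N26422 := rfl
theorem L204201 : sm gd N26422 = N21886 := ded_14_2 (flp_b L171352) (flp_d L171340) L204199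
theorem L204203 : sm gg N26422 = N24105 := ded_17_2 (flp_b L188005) (flp_g L156645) (flp_b L118499) L171338 L204199
theorem L204205 : sm gb N21885 = N26423 := rfl
theorem L204207 : sm gd N26423 = N21887 := ded_14_2 (flp_b L171358) (flp_d L171348) L204205
theorem L204209 : sm ga N21886 = N26424 := rfl
theorem L204211 : sm ge N26424 = N22553 := ded_10_2 (flp_a L176069) (flp_e L171354) L204209
theorem L204213 : sm gg N26424 = N24106 := ded_12_2 (flp_a L188009) (flp_g L171356) L204209
theorem L204215 : sm gb N26424 = N23613 := ded_7_2 (flp_a L200081) L200087 L168800 L191652 (flp_a L191656) (flp_b L171358) L118513 L171352 L204209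
theorem L204217 : sm gc N21886 = N26425 := rfl
theorem L204219 : sm ge N26425 = N22554 := ded_19_2 (flp_c L176081) (flp_e L171354) L204217
theorem L204221 : sm gg N26425 = N24107 := ded_21_2 (flp_c L188013) (flp_g L171356) L204217
theorem L204223 : sm gb N26425 = N25566 := ded_13_1 (flp_c L202106) (flp_b L202114) L171230 L171352 L204217
theorem L204225 : sm gf N21886 = N26426 := rfl
theorem L204227 : sm ge N26426 = N22555 := ded_25_1 (flp_f L176087) (flp_e L171354) L204225
theorem L204229 : sm gb N26426 = N26074 := ded_16_1 L201820 (flp_b L171300) L118509 L171352 L204225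
theorem L204231 : sm gc N21887 = N26427 := rfl
theorem L204233 : sm ga N26427 = N24800 := ded_8_1 L192913 (flp_a L191656) L204231
theorem L204235 : sm ge N26427 = N22556 := ded_19_2 (flp_c L176091) (flp_e L171360) L204231
theorem L204237 : sm gb N26427 = N24595 := ded_13_1 L191535 L172903 L171240 L171358 L204231
theorem L204239 : sm gg N24586 = N26427 := ded_12_0 L204233 L192915 L191477
theorem L204241 : sm gg N21887 = N26428 := rfl
theorem L204243 : sm gc N26428 = N24586 := ded_21_1 L204239 (flp_c L204231) L204241
theorem L204245 : sm ge N26428 = N22557 := ded_26_1 (flp_g L176099) (flp_e L171360) L204241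
theorem L204247 : sm gb N26428 = N24585 := ded_17_1 L191471 (flp_b L171290) (flp_g L118517) L171358 L204241
theorem L204249 : sm ge N21888 = N26429 := rfl
theorem L204251 : sm gb N26429 = N21889 := ded_15_1 (flp_e L171366) L171362 L204249
theorem L204253 : sm gd N26429 = N25092 := ded_22_1 L195149 L162674 (flp_e L160852) (flp_d L171364) L204249
theorem L204255 : sm gf N21888 = N26430 := rfl
theorem L204257 : sm gd N26430 = N24882 := ded_23_1 (flp_f L193411) (flp_d L171364) L204255
theorem L204259 : sm gg N21888 = N26431 := rfl
theorem L204261 : sm gd N26431 = N24883 := ded_24_1 (flp_g L193415) (flp_d L171364) L204259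
theorem L204263 : sm gf N21889 = N26432 := rfl
theorem L204265 : sm ga N26432 = N21892 := ded_11_1 (flp_f L171384) (flp_a L171368) L204263
theorem L204267 : sm gd N26432 = N25086 := ded_23_1 L195105 (flp_d L171370) L204263
theorem L204269 : sm ge N26432 = N21890 := ded_25_1 (flp_f L171372) L171366 L204263
theorem L204271 : sm gg N21889 = N26433 := rfl
theorem L204273 : sm ga N26433 = N21893 := ded_12_1 (flp_g L171392) (flp_a L171368) L204271
theorem L204275 : sm gd N26433 = N22965 := ded_24_1 (flp_g L179441) (flp_d L171370) L204271
theorem L204277 : sm ge N26433 = N21891 := ded_26_1 (flp_g L171378) L171366 L204271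
theorem L204279 : sm gb N22962 = N26433 := ded_7_0 L204273 L171398 (flp_a L204087) (flp_b L204093) (flp_a L182655) (flp_b L145590) L104476 L130442 L179419
theorem L204281 : sm gb N21890 = N26434 := rfl
theorem L204283 : sm gd N26434 = N24878 := ded_14_2 (flp_b L193391) (flp_d L171376) L204281
theorem L204285 : sm gb N21891 = N26435 := rfl
theorem L204287 : sm gd N26435 = N23050 := ded_14_2 L180147 (flp_d L171382) L204285
theorem L204289 : sm ge N26435 = N22962 := ded_15_2 L204279 L204277 L204285
theorem L204291 : sm ga N26435 = N22961 := ded_7_1 (flp_b L179413) (flp_a L145570) L182605 L204109 (flp_b L204103) L171286 (flp_b L118539) (flp_a L171380) L204285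
theorem L204293 : sm gg N21892 = N26436 := rfl
theorem L204295 : sm gd N26436 = N25087 := ded_24_1 (flp_g L195109) (flp_d L171386) L204293
theorem L204297 : sm ge N26436 = N21894 := ded_26_1 (flp_g L171400) (flp_e L171388) L204293
theorem L204299 : sm gf N26433 = N26436 := ded_29_0 (flp_g L204293) (flp_f L171384) L171392 (flp_a L204273)
theorem L204301 : sm gf N21893 = N26437 := rfl
theorem L204303 : sm ga N26437 = N26436 := ded_11_1 (flp_f L204299) L204273 L204301
theorem L204305 : sm gd N26437 = N23326 := ded_23_1 (flp_f L182059) (flp_d L171394) L204301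
theorem L204307 : sm ge N26437 = N21895 := ded_25_1 (flp_f L171406) (flp_e L171396) L204301
theorem L204309 : sm gg N26437 = N26432 := ded_29_3 L204265 (flp_f L171384) L171392 L204301
theorem L204311 : sm gb N21894 = N26438 := rfl
theorem L204313 : sm gd N26438 = N24453 := ded_14_2 L190561 (flp_d L171402) L204311
theorem L204315 : sm gg N26438 = N24876 := ded_17_2 (flp_b L193383) (flp_g L160816) (flp_b L118533) L171400 L204311
theorem L204317 : sm gb N21895 = N26439 := rfl
theorem L204319 : sm gd N26439 = N24884 := ded_14_2 (flp_b L193419) (flp_d L171410) L204317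
theorem L204321 : sm gf N26439 = N26423 := ded_16_2 (flp_b L204205) (flp_f L171344) (flp_b L118539) L171406 L204317
theorem L204323 : sm gb N21896 = N26440 := rfl
theorem L204325 : sm ge N26440 = N25568 := ded_15_2 L198567 L182910 L204323
theorem L204327 : sm gc N26440 = N21897 := ded_13_2 (flp_b L171417) (flp_c L118546) (flp_b L118544) L171414 L204323
theorem L204329 : sm ga N25571 = N26440 := ded_10_3 L204325 L198565 L198589
theorem L204331 : sm gd N21896 = N26441 := rfl
theorem L204333 : sm ga N26441 = N26441 := ded_9_1 (flp_d L204331) L171416 L204331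
theorem L204334 : sm ga N21897 = N26442 := rfl
theorem L204336 : sm gc N26442 = N25571 := ded_8_2 L204329 L204327 L204334
theorem L204338 : sm gd N26442 = N26312 := ded_9_2 (flp_a L203483) (flp_d L171419) L204334
theorem L204340 : sm ge N26442 = N25570 := ded_10_2 L198585 L182916 L204334
theorem L204342 : sm gf N21897 = N26443 := rfl
theorem L204344 : sm gd N26443 = N26314 := ded_23_1 (flp_f L203489) (flp_d L171419) L204342
theorem L204346 : sm gb N26443 = N21900 := ded_16_1 (flp_f L171427) (flp_b L118566) (flp_f L118550) L171417 L204342
theorem L204348 : sm gg N21897 = N26444 := rfl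
theorem L204350 : sm gd N26444 = N26315 := ded_24_1 (flp_g L203491) (flp_d L171419) L204348
theorem L204352 : sm gb N26444 = N24168 := ded_17_1 (flp_g L188402) (flp_b L156943) (flp_g L118552) L171417 L204348
theorem L204354 : sm gb N21898 = N26445 := rfl
theorem L204356 : sm gd N21898 = N26446 := rfl
theorem L204358 : sm ga N26446 = N21899 := ded_9_1 (flp_d L171423) L171421 L204356
theorem L204360 : sm gc N25435 = N26446 := ded_28_4 (flp_d L204356) (flp_c L188469) L188471 (flp_a L188372) (flp_c L188201) (flp_d L197771) L197773 L197787
theorem L204362 : sm gf N21898 = N26447 := rfl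
theorem L204364 : sm ga N26447 = N21900 := ded_11_1 (flp_f L171427) L171421 L204362
theorem L204366 : sm gg N21898 = N26448 := rfl
theorem L204368 : sm ga N26448 = N21901 := ded_12_1 (flp_g L171429) L171421 L204366
theorem L204370 : sm gc N21899 = N26449 := rfl
theorem L204372 : sm ga N26449 = N25435 := ded_8_1 L204360 L204358 L204370
theorem L204374 : sm gb N26449 = N26294 := ded_13_1 (flp_c L203367) L170821 L118576 (flp_b L171425) L204370
theorem L204376 : sm gd N26449 = N25434 := ded_28_7 (flp_a L197785) (flp_c L197773) L197771 L188201 (flp_d L156982) L156986 L171423 L204370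
theorem L204378 : sm ge N21899 = N26450 := rfl
theorem L204380 : sm gb N26450 = N21902 := ded_15_1 (flp_e L171433) (flp_b L171425) L204378
theorem L204382 : sm gf N21899 = N26451 := rfl
theorem L204384 : sm gd N26451 = N21900 := ded_23_1 (flp_f L171427) L171423 L204382
theorem L204386 : sm gb N26451 = N26314 := ded_16_1 (flp_f L203489) (flp_b L170903) (flp_f L118572) (flp_b L171425) L204382
theorem L204388 : sm gg N21899 = N26452 := rfl
theorem L204390 : sm gd N26452 = N21901 := ded_24_1 (flp_g L171429) L171423 L204388
theorem L204392 : sm gb N26452 = N24176 := ded_17_1 (flp_g L188447) L156958 (flp_g L118574) (flp_b L171425) L204388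
theorem L204394 : sm gg N21900 = N26453 := rfl
theorem L204396 : sm gf N26448 = N26453 := ded_29_0 (flp_g L204394) (flp_f L171427) L171429 (flp_a L204368)
theorem L204398 : sm gf N21901 = N26454 := rfl
theorem L204400 : sm ga N26454 = N26453 := ded_11_1 (flp_f L204396) L204368 L204398
theorem L204402 : sm gg N26454 = N26447 := ded_29_3 L204364 (flp_f L171427) L171429 L204398
theorem L204404 : sm gb N21903 = N26455 := rfl
theorem L204406 : sm ge N26455 = N25510 := ded_15_2 L198196 L183049 L204404
theorem L204408 : sm gc N26455 = N21904 := ded_13_2 (flp_b L171450) (flp_c L118593) (flp_b L118587) L171443 L204404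
theorem L204410 : sm ga N25513 = N26455 := ded_10_3 L204406 L198194 L198218
theorem L204412 : sm gd N21903 = N26456 := rfl
theorem L204414 : sm ga N26456 = N26456 := ded_9_1 (flp_d L204412) L171445 L204412
theorem L204415 : sm gf N26456 = N26441 := ded_23_2 (flp_d L204331) (flp_f L171446) L204412
theorem L204417 : sm gg N26456 = N26441 := ded_24_2 (flp_d L204331) (flp_g L171448) L204412
theorem L204419 : sm gc N26456 = N26441 := ded_28_0 (flp_d L204331) (flp_c L171414) (flp_d L118541) (flp_c L96821) L118584 L171443 L204412 L204414
theorem L204421 : sm ga N21904 = N26457 := rfl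
theorem L204423 : sm gc N26457 = N25513 := ded_8_2 L204410 L204408 L204421
theorem L204425 : sm gd N26457 = N26388 := ded_9_2 (flp_a L203983) (flp_d L171452) L204421
theorem L204427 : sm ge N26457 = N25512 := ded_10_2 L198214 L183059 L204421
theorem L204429 : sm gf N21904 = N26458 := rfl
theorem L204431 : sm gd N26458 = N26390 := ded_23_1 (flp_f L203989) (flp_d L171452) L204429
theorem L204433 : sm gb N26458 = N24180 := ded_16_1 (flp_f L188475) (flp_b L156980) (flp_f L118597) L171450 L204429
theorem L204435 : sm gg N21904 = N26459 := rfl
theorem L204437 : sm gd N26459 = N26391 := ded_24_1 (flp_g L203993) (flp_d L171452) L204435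
theorem L204439 : sm gb N26459 = N21908 := ded_17_1 (flp_g L171464) (flp_b L118613) (flp_g L118599) L171450 L204435
theorem L204441 : sm gb N21905 = N26460 := rfl
theorem L204443 : sm gd N21905 = N26461 := rfl
theorem L204445 : sm ga N26461 = N21906 := ded_9_1 (flp_d L171456) L171454 L204443
theorem L204447 : sm gc N25469 = N26461 := ded_28_4 (flp_d L204443) (flp_c L188387) L188389 (flp_a L188300) (flp_c L187855) (flp_d L197951) L197953 L197967
theorem L204449 : sm gf N21905 = N26462 := rfl
theorem L204451 : sm ga N26462 = N21907 := ded_11_1 (flp_f L171460) L171454 L204449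
theorem L204453 : sm gg N21905 = N26463 := rfl
theorem L204455 : sm ga N26463 = N21908 := ded_12_1 (flp_g L171464) L171454 L204453
theorem L204457 : sm gc N21906 = N26464 := rfl
theorem L204459 : sm ga N26464 = N25469 := ded_8_1 L204447 L204445 L204457
theorem L204461 : sm gb N26464 = N26370 := ded_13_1 (flp_c L203867) L171160 L118623 (flp_b L171458) L204457
theorem L204463 : sm gd N26464 = N25468 := ded_28_7 (flp_a L197965) (flp_c L197953) L197951 L187855 (flp_d L156945) L156949 L171456 L204457
theorem L204465 : sm ge N21906 = N26465 := rfl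
theorem L204467 : sm gb N26465 = N21909 := ded_15_1 (flp_e L171466) (flp_b L171458) L204465
theorem L204469 : sm gf N21906 = N26466 := rfl
theorem L204471 : sm gd N26466 = N21907 := ded_23_1 (flp_f L171460) L171456 L204469
theorem L204473 : sm gb N26466 = N24188 := ded_16_1 (flp_f L188524) L156995 (flp_f L118619) (flp_b L171458) L204469
theorem L204475 : sm gg N21906 = N26467 := rfl
theorem L204477 : sm gd N26467 = N21908 := ded_24_1 (flp_g L171464) L171456 L204475
theorem L204479 : sm gb N26467 = N26391 := ded_17_1 (flp_g L203993) (flp_b L171246) (flp_g L118621) (flp_b L171458) L204475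
theorem L204481 : sm gg N21907 = N26468 := rfl
theorem L204483 : sm gf N26463 = N26468 := ded_29_0 (flp_g L204481) (flp_f L171460) L171464 (flp_a L204455)
theorem L204485 : sm gf N21908 = N26469 := rfl
theorem L204487 : sm ga N26469 = N26468 := ded_11_1 (flp_f L204483) L204455 L204485
theorem L204489 : sm gg N26469 = N26462 := ded_29_3 L204451 (flp_f L171460) L171464 L204485
theorem L204491 : sm ga N21921 = N26470 := rfl
theorem L204493 : sm gc N26470 = N21943 := ded_8_2 (flp_a L171729) (flp_c L171564) L204491
theorem L204495 : sm gd N26470 = N25169 := ded_9_2 (flp_a L195834) L186510 L204491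
theorem L204497 : sm ge N26470 = N21945 := ded_10_2 L171743 (flp_e L171562) L204491
theorem L204499 : sm gg N26470 = N26470 := ded_12_2 (flp_a L204491) L171566 L204491
theorem L204500 : sm gb N25168 = N26470 := ded_13_5 L204493 (flp_b L171724) (flp_c L171618) L172725 (flp_c L195821)
theorem L204502 : sm gf N21921 = N26471 := rfl
theorem L204504 : sm gc N26471 = N21965 := ded_20_1 (flp_f L171915) (flp_c L171564) L204502
theorem L204506 : sm gd N26471 = N25278 := ded_23_1 L196769 L186510 L204502
theorem L204508 : sm ge N26471 = N21967 := ded_25_1 (flp_f L171922) (flp_e L171562) L204502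
theorem L204510 : sm gb N26471 = N22295 := ded_16_1 (flp_f L174172) (flp_b L149144) L118858 L171560 L204502
theorem L204512 : sm ga N21922 = N26472 := rfl
theorem L204514 : sm gc N26472 = N21952 := ded_8_2 L171799 (flp_c L171571) L204512
theorem L204516 : sm gd N26472 = N25217 := ded_9_2 L196243 L186503 L204512
theorem L204518 : sm ge N26472 = N21954 := ded_10_2 L171813 (flp_e L171569) L204512
theorem L204520 : sm gf N26472 = N26472 := ded_11_2 (flp_a L204512) L171573 L204512
theorem L204521 : sm gb N26472 = N25216 := ded_7_2 (flp_a L196773) L196783 L196661 L204500 (flp_a L204491) (flp_b L171560) (flp_a L118864) L171567 L204512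
theorem L204523 : sm gg N21922 = N26473 := rfl
theorem L204525 : sm gc N26473 = N22009 := ded_21_1 (flp_g L172206) (flp_c L171571) L204523
theorem L204527 : sm gd N26473 = N25264 := ded_24_1 L196657 L186503 L204523
theorem L204529 : sm ge N26473 = N22011 := ded_26_1 (flp_g L172213) (flp_e L171569) L204523
theorem L204531 : sm gb N26473 = N22081 := ded_17_1 (flp_g L172679) L121791 (flp_g L118868) L171567 L204523
theorem L204533 : sm gg N21923 = N26474 := rfl
theorem L204535 : sm ga N26474 = N26474 := ded_12_1 (flp_g L204533) L171576 L204533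
theorem L204536 : sm gc N26474 = N26474 := ded_21_1 (flp_g L204533) L171579 L204533
theorem L204537 : sm gd N26474 = N25012 := ded_24_1 L194412 L171913 L204533
theorem L204539 : sm ge N26474 = N21924 := ded_26_1 (flp_g L171581) L171574 L204533
theorem L204541 : sm gf N26474 = N26474 := ded_29_0 (flp_g L204533) L171580 L204533 L204535
theorem L204542 : sm gb N26474 = N22073 := ded_17_1 (flp_g L172723) (flp_b L172725) (flp_g L171616) (flp_b L171577) L204533
theorem L204544 : sm gf N21925 = N26475 := rfl
theorem L204546 : sm ga N26475 = N26475 := ded_11_1 (flp_f L204544) L171592 L204544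
theorem L204547 : sm gc N26475 = N26475 := ded_20_1 (flp_f L204544) L171595 L204544
theorem L204548 : sm gd N26475 = N25033 := ded_23_1 L194604 L172204 L204544
theorem L204550 : sm ge N26475 = N21926 := ded_25_1 (flp_f L171597) L171590 L204544
theorem L204552 : sm gg N26475 = N26475 := ded_29_3 L204546 (flp_f L204544) L171596 L204544
theorem L204553 : sm gb N26475 = N22289 := ded_16_1 L174224 (flp_b L174226) (flp_f L171660) (flp_b L171593) L204544
theorem L204555 : sm ge N21929 = N26476 := rfl
theorem L204557 : sm ga N26476 = N21931 := ded_10_1 (flp_e L171642) (flp_a L171624) L204555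
theorem L204559 : sm gb N26476 = N25100 := ded_15_1 L195229 (flp_b L171626) L204555
theorem L204561 : sm gc N26476 = N22418 := ded_19_1 L175164 (flp_c L171632) L204555
theorem L204563 : sm gf N26476 = N22424 := ded_25_2 (flp_e L175212) (flp_f L171628) L204555
theorem L204565 : sm gg N26476 = N22415 := ded_26_2 (flp_e L175142) (flp_g L171630) L204555
theorem L204567 : sm ge N21930 = N26477 := rfl
theorem L204569 : sm ga N26477 = N22418 := ded_10_1 L175164 (flp_a L171636) L204567
theorem L204571 : sm gc N26477 = N21931 := ded_19_1 (flp_e L171642) L171634 L204567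
theorem L204573 : sm gg N26477 = N22412 := ded_26_2 (flp_e L175122) (flp_g L171638) L204567
theorem L204575 : sm gf N21931 = N26478 := rfl
theorem L204577 : sm ga N26478 = N22424 := ded_11_1 (flp_f L204563) L204557 L204575
theorem L204579 : sm ge N26478 = N21932 := ded_25_1 (flp_f L171644) L171642 L204575
theorem L204581 : sm ge N21935 = N26479 := rfl
theorem L204583 : sm ga N26479 = N21937 := ded_10_1 (flp_e L171686) (flp_a L171668) L204581
theorem L204585 : sm gb N26479 = N25068 := ded_15_1 L194943 (flp_b L171670) L204581
theorem L204587 : sm gc N26479 = N22218 := ded_19_1 L173673 (flp_c L171676) L204581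
theorem L204589 : sm gf N26479 = N22216 := ded_25_2 (flp_e L173655) (flp_f L171672) L204581
theorem L204591 : sm gg N26479 = N22233 := ded_26_2 (flp_e L173767) (flp_g L171674) L204581
theorem L204593 : sm ge N21936 = N26480 := rfl
theorem L204595 : sm ga N26480 = N22218 := ded_10_1 L173673 (flp_a L171680) L204593
theorem L204597 : sm gc N26480 = N21937 := ded_19_1 (flp_e L171686) L171678 L204593
theorem L204599 : sm gf N26480 = N22212 := ded_25_2 (flp_e L173637) (flp_f L171682) L204593
theorem L204601 : sm gg N21937 = N26481 := rfl
theorem L204603 : sm ga N26481 = N22233 := ded_12_1 (flp_g L204591) L204583 L204601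
theorem L204605 : sm ge N26481 = N21938 := ded_26_1 (flp_g L171688) L171686 L204601
theorem L204607 : sm gb N21940 = N26482 := rfl
theorem L204609 : sm ge N26482 = N21941 := ded_15_2 (flp_b L171708) (flp_e L171704) L204607
theorem L204611 : sm gf N26482 = N22085 := ded_16_2 (flp_b L172711) L172717 (flp_b L172725) (flp_f L171706) L204607
theorem L204613 : sm gf N21943 = N26483 := rfl
theorem L204615 : sm ga N26483 = N21965 := ded_11_1 (flp_f L171915) L171729 L204613
theorem L204617 : sm ge N26483 = N21946 := ded_25_1 (flp_f L171746) (flp_e L171726) L204613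
theorem L204619 : sm gg N26483 = N21965 := ded_29_3 (flp_a L204615) (flp_f L204613) L171728 L204613
theorem L204621 : sm gb N21944 = N26484 := rfl
theorem L204623 : sm ge N26484 = N21947 := ded_15_2 (flp_b L171754) (flp_e L171737) L204621
theorem L204625 : sm gg N26484 = N22126 := ded_17_2 (flp_b L173014) (flp_g L123389) (flp_b L171610) (flp_g L171739) L204621
theorem L204627 : sm ga N22339 = N26484 := ded_10_3 L204623 (flp_a L171760) (flp_e L174549)
theorem L204629 : sm gc N22338 = N26484 := ded_19_3 L204623 L171762 (flp_e L174545)
theorem L204631 : sm gd N21945 = N26485 := rfl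
theorem L204633 : sm ga N26485 = N21966 := ded_9_1 (flp_d L171919) (flp_a L171743) L204631
theorem L204635 : sm gb N26485 = N23635 := ded_14_1 L184195 (flp_b L172703) L204631
theorem L204637 : sm gg N26485 = N26485 := ded_24_2 (flp_d L204631) L171745 L204631
theorem L204638 : sm ge N26485 = N25270 := ded_22_2 L196703 (flp_e L195831) (flp_d L204495) L204497 L204631
theorem L204640 : sm gf N21945 = N26486 := rfl
theorem L204642 : sm ga N26486 = N21967 := ded_11_1 (flp_f L171922) (flp_a L171743) L204640
theorem L204644 : sm gc N26486 = N21946 := ded_20_1 (flp_f L171746) L171741 L204640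
theorem L204646 : sm gg N26486 = N21967 := ded_29_3 (flp_a L204642) (flp_f L204640) L171745 L204640
theorem L204648 : sm gb N21949 = N26487 := rfl
theorem L204650 : sm ge N26487 = N21950 := ded_15_2 (flp_b L171778) (flp_e L171774) L204648
theorem L204652 : sm gg N26487 = N22299 := ded_17_2 (flp_b L174212) L174220 (flp_b L174226) L171776 L204648
theorem L204654 : sm gg N21952 = N26488 := rfl
theorem L204656 : sm ga N26488 = N22009 := ded_12_1 (flp_g L172206) (flp_a L171799) L204654
theorem L204658 : sm ge N26488 = N21955 := ded_26_1 (flp_g L171816) (flp_e L171796) L204654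
theorem L204660 : sm gf N22009 = N26488 := ded_29_0 (flp_g L204654) L171798 L204654 L204656
theorem L204662 : sm gb N21953 = N26489 := rfl
theorem L204664 : sm ge N26489 = N21956 := ded_15_2 (flp_b L171824) (flp_e L171807) L204662
theorem L204666 : sm gf N26489 = N22337 := ded_16_2 (flp_b L174537) (flp_f L149452) (flp_b L171654) L171809 L204662
theorem L204668 : sm ga N22128 = N26489 := ded_10_3 L204664 (flp_a L171830) (flp_e L173026)
theorem L204670 : sm gc N22127 = N26489 := ded_19_3 L204664 L171832 (flp_e L173022)
theorem L204672 : sm gd N21954 = N26490 := rfl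
theorem L204674 : sm ga N26490 = N22010 := ded_9_1 (flp_d L172210) (flp_a L171813) L204672
theorem L204676 : sm gb N26490 = N23687 := ded_14_1 L184565 (flp_b L174200) L204672
theorem L204678 : sm gf N26490 = N26490 := ded_23_2 (flp_d L204672) L171815 L204672
theorem L204679 : sm ge N26490 = N25283 := ded_22_2 L196813 (flp_e L196238) (flp_d L204516) L204518 L204672
theorem L204681 : sm gg N21954 = N26491 := rfl
theorem L204683 : sm ga N26491 = N22011 := ded_12_1 (flp_g L172213) (flp_a L171813) L204681
theorem L204685 : sm gc N26491 = N21955 := ded_21_1 (flp_g L171816) L171811 L204681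
theorem L204687 : sm gf N22011 = N26491 := ded_29_0 (flp_g L204681) L171815 L204681 L204683
theorem L204689 : sm gb N26491 = N26486 := ded_17_1 L204646 L171926 L174194 (flp_b L174200) L204681
theorem L204691 : sm gb N21961 = N26492 := rfl
theorem L204693 : sm gd N26492 = N21962 := ded_14_2 (flp_b L171886) (flp_d L171882) L204691
theorem L204695 : sm gf N26492 = N22133 := ded_16_2 L173054 L175358 L175370 L171884 L204691
theorem L204697 : sm gg N26492 = N22087 := ded_17_2 (flp_b L172727) (flp_g L121813) (flp_b L121117) L171876 L204691
theorem L204699 : sm ga N26492 = N22342 := ded_7_1 L174571 (flp_a L173056) (flp_b L122052) (flp_a L118177) (flp_b L121988) (flp_a L172986) L172989 (flp_a L171878) L204691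
theorem L204701 : sm gc N22341 = N26492 := ded_32_24 (flp_b L204691) (flp_e L184219) L184217 L152696 (flp_d L120301) L112318 L121768 (flp_d L172638) (flp_c L186498) L186494 L186526 L186529 L186732 (flp_c L186734) (flp_d L186698) L186696 (flp_b L177328) (flp_d L163421) L161384 (flp_d L163511) (flp_c L126654) L100465 (flp_d L86998) (flp_c L29279) L14128 L6912 (flp_b L5633) L2912 (flp_d L2975) (flp_c L4817) L4819 L2510 (flp_b L1297) L1293 (flp_c L65298) (flp_d L1274) L2512 (flp_b L4715) L9347 (flp_c L141705) (flp_d L10088) L20986 L79559 L141657 (flp_c L18745) L9081 L9413 (flp_b L9530) L141895 (flp_c L9589) L141904 L9593 (flp_b L9311) (flp_e L9185) (flp_d L18981) (flp_c L39999) (flp_d L90087) L90085 (flp_b L103380) (flp_d L103378) (flp_c L88756) (flp_d L88682) L103212 L103214 L109035 L157657 L158037 (flp_c L158033) (flp_b L158027) (flp_d L158025) (flp_c L158001) L189489 (flp_c L189495) (flp_b L180117) L174615 (flp_c L174607) (flp_d L174565)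
theorem L204703 : sm gc N21966 = N26493 := rfl
theorem L204705 : sm ge N26493 = N22075 := ded_19_2 (flp_c L186498) L186496 L204703
theorem L204707 : sm gg N26493 = N26493 := ded_21_2 (flp_c L204703) L171921 L204703
theorem L204708 : sm gb N26493 = N22074 := ded_13_1 L172632 L165794 (flp_c L186473) (flp_b L186481) L204703
theorem L204710 : sm gd N26493 = N22039 := ded_28_7 L172407 (flp_c L171928) (flp_d L121173) (flp_c L97296) (flp_d L97290) L121166 L171919 L204703
theorem L204712 : sm gf N21966 = N26494 := rfl
theorem L204714 : sm gd N26494 = N21967 := ded_23_1 (flp_f L171922) L171919 L204712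
theorem L204716 : sm ge N26494 = N25280 := ded_25_1 L196789 L186496 L204712
theorem L204718 : sm gb N26494 = N22294 := ded_16_1 (flp_f L174164) L155310 L186469 (flp_b L186481) L204712
theorem L204720 : sm gd N21968 = N26495 := rfl
theorem L204722 : sm ga N26495 = N26493 := ded_9_1 L204710 L172407 L204720
theorem L204724 : sm gb N26495 = N22838 := ded_14_1 L178493 (flp_b L171931) L204720
theorem L204726 : sm gg N26495 = N26495 := ded_24_2 (flp_d L204720) L171930 L204720
theorem L204727 : sm gc N26485 = N26495 := ded_28_0 (flp_d L204720) (flp_c L171928) (flp_d L121173) (flp_c L97296) (flp_d L97290) L121166 L171919 (flp_a L204633)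
theorem L204729 : sm ge N21968 = N26496 := rfl
theorem L204731 : sm ga N26496 = N22880 := ded_10_1 L178809 L172407 L204729
theorem L204733 : sm gb N26496 = N22828 := ded_15_1 L178379 (flp_b L171931) L204729
theorem L204735 : sm gc N26496 = N21969 := ded_19_1 (flp_e L171933) L171928 L204729
theorem L204737 : sm gg N26496 = N26496 := ded_26_2 (flp_e L204729) L171930 L204729
theorem L204738 : sm gd N25842 = N26496 := ded_9_0 L204731 L178807 L200195
theorem L204740 : sm gf N25855 = N26496 := ded_16_0 L204733 L178411 L200313 (flp_f L200303) L200295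
theorem L204742 : sm gf N21968 = N26497 := rfl
theorem L204744 : sm gc N26497 = N21970 := ded_20_1 (flp_f L171938) L171928 L204742
theorem L204746 : sm ge N26497 = N25855 := ded_25_1 L204740 (flp_e L204729) L204742
theorem L204748 : sm gb N26497 = N25853 := ded_16_1 L200283 (flp_b L178539) L129763 (flp_b L171931) L204742
theorem L204750 : sm gf N21969 = N26498 := rfl
theorem L204752 : sm gc N26498 = N25855 := ded_20_1 L204740 L204735 L204750
theorem L204754 : sm ge N26498 = N21970 := ded_25_1 (flp_f L171938) L171933 L204750
theorem L204756 : sm gb N21970 = N26499 := rfl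
theorem L204758 : sm gd N26499 = N21971 := ded_14_2 (flp_b L171942) (flp_d L171940) L204756
theorem L204760 : sm gf N26499 = N21979 := ded_16_2 (flp_b L171994) (flp_f L121210) (flp_b L121175) L171938 L204756
theorem L204762 : sm gc N23581 = N26499 := ded_32_19 (flp_b L204756) L171940 L121180 (flp_d L121171) (flp_c L171924) L171926 (flp_e L174180) L174178 L165953 (flp_d L146460) L146458 L143103 (flp_d L163231) L121279 L97352 L85307 L26731 (flp_d L46401) (flp_c L93215) (flp_d L150160) (flp_c L97202) L121038 (flp_d L171826) L171832 L122060 L122114 L163814 (flp_d L99271) (flp_c L86146) (flp_d L27872) (flp_c L13386) (flp_b L6572) L3389 (flp_d L3260) L82422 L5374 (flp_c L5577) (flp_b L140364) L5789 L3013 (flp_d L65338) L772 (flp_b L437) (flp_d L901) (flp_c L1834) L142153 L3564 (flp_b L1849) L1845 (flp_c L1902) L134924 L1902 L964 (flp_d L1825) (flp_c L3564) (flp_d L142153) L1834 L903 (flp_e L1494) L1493 (flp_c L2944) (flp_d L5671) (flp_c L11416) L23725 (flp_d L41324) (flp_c L90204) L106095 L153028 (flp_b L129242) L129240 (flp_c L152016) L176011 (flp_c L176003) (flp_b L124063) (flp_d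 L124051) (flp_c L152628) (flp_d L183793)
theorem L204764 : sm ga N23582 = N26499 := ded_9_3 L204758 (flp_a L171962) (flp_d L183803)
theorem L204766 : sm gg N22521 = N26499 := ded_24_0 L204758 (flp_g L171948) L175871
theorem L204768 : sm ge N21972 = N26500 := rfl
theorem L204770 : sm gb N26500 = N21976 := ded_15_1 (flp_e L171978) (flp_b L171952) L204768
theorem L204772 : sm gc N26500 = N22543 := ded_19_1 (flp_e L176013) (flp_c L171954) L204768
theorem L204774 : sm gf N21972 = N26501 := rfl
theorem L204776 : sm gc N26501 = N22544 := ded_20_1 (flp_f L176015) (flp_c L171954) L204774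
theorem L204778 : sm gd N26501 = N21973 := ded_23_1 (flp_f L171956) L171950 L204774
theorem L204780 : sm gg N21979 = N26501 := ded_29_1 (flp_f L204774) (flp_g L183799) L204764 L204760
theorem L204782 : sm gb N21978 = N26502 := rfl
theorem L204784 : sm ge N26502 = N21979 := ded_15_2 (flp_b L171994) (flp_e L171992) L204782
theorem L204786 : sm ga N21979 = N26503 := rfl
theorem L204788 : sm gd N26503 = N21980 := ded_9_2 (flp_a L171998) (flp_d L171996) L204786
theorem L204790 : sm gf N26503 = N23582 := ded_11_2 L204764 L204760 L204786
theorem L204792 : sm gc N26503 = N23565 := ded_28_0 L183689 L152634 L124099 (flp_c L124013) L163485 L121935 (flp_d L171996) L204786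
theorem L204794 : sm gb N23567 = N26503 := ded_14_3 L204788 (flp_b L175707) L183701
theorem L204796 : sm gc N21979 = N26504 := rfl
theorem L204798 : sm ga N26504 = N23565 := ded_8_1 (flp_c L204792) (flp_a L204786) L204796
theorem L204800 : sm gf N26504 = N23581 := ded_20_2 L204762 L204760 L204796
theorem L204802 : sm gg N26504 = N22544 := ded_21_2 (flp_c L204776) (flp_g L204780) L204796
theorem L204804 : sm gb N26504 = N22427 := ded_13_1 L175226 (flp_b L171988) L171986 L171994 L204796
theorem L204806 : sm gd N26504 = N22548 := ded_28_7 L176033 L152634 L124099 (flp_c L124013) L163485 L121935 (flp_d L171996) L204796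
theorem L204808 : sm gd N21981 = N26505 := rfl
theorem L204810 : sm ga N26505 = N26505 := ded_9_1 (flp_d L204808) L172004 L204808
theorem L204811 : sm gb N26505 = N21982 := ded_14_1 (flp_d L172005) L172002 L204808
theorem L204813 : sm ge N26505 = N26456 := ded_22_2 (flp_d L204412) (flp_e L183049) (flp_d L198190) L198187 L204808
theorem L204815 : sm ge N21982 = N26506 := rfl
theorem L204817 : sm ga N26506 = N21984 := ded_10_1 (flp_e L172023) (flp_a L172007) L204815
theorem L204819 : sm gb N26506 = N26456 := ded_15_1 (flp_e L204813) L204811 L204815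
theorem L204821 : sm gc N26506 = N23252 := ded_19_1 L181555 L172011 L204815
theorem L204823 : sm gf N26506 = N23251 := ded_25_2 L181549 (flp_f L172009) L204815
theorem L204825 : sm gd N26506 = N26455 := ded_22_1 L204406 (flp_d L198192) L167490 L172005 L204815
theorem L204827 : sm gf N21984 = N26507 := rfl
theorem L204829 : sm ga N26507 = N23251 := ded_11_1 (flp_f L204823) L204817 L204827
theorem L204831 : sm gc N26507 = N23249 := ded_20_1 L181539 L181521 L204827
theorem L204833 : sm ge N26507 = N21985 := ded_25_1 (flp_f L172027) L172023 L204827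
theorem L204835 : sm gg N26507 = N23248 := ded_29_3 L181529 (flp_f L181515) (flp_g L181517) L204827
theorem L204837 : sm gb N21985 = N26508 := rfl
theorem L204839 : sm gd N26508 = N21986 := ded_14_2 (flp_b L172037) (flp_d L172033) L204837
theorem L204841 : sm gc N26508 = N23758 := ded_13_2 L185145 (flp_c L153753) (flp_b L152150) (flp_c L172031) L204837
theorem L204843 : sm gf N26508 = N21989 := ded_16_2 (flp_b L172061) (flp_f L121254) (flp_b L121234) L172027 L204837
theorem L204845 : sm gb N21988 = N26509 := rfl
theorem L204847 : sm ge N26509 = N21989 := ded_15_2 (flp_b L172061) (flp_e L172057) L204845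
theorem L204849 : sm ga N21989 = N26510 := rfl
theorem L204851 : sm gd N26510 = N21990 := ded_9_2 (flp_a L172065) (flp_d L172063) L204849
theorem L204853 : sm gb N26510 = N22462 := ded_7_2 L175442 L172251 L121527 (flp_b L121504) (flp_a L151102) (flp_b L121285) (flp_a L121256) L172061 L204849
theorem L204855 : sm gc N21989 = N26511 := rfl
theorem L204857 : sm gf N26511 = N23758 := ded_20_2 (flp_c L204841) L204843 L204855
theorem L204859 : sm gb N26511 = N22983 := ded_13_1 L179575 (flp_b L172051) L172045 L172061 L204855
theorem L204861 : sm gd N26511 = N23760 := ded_28_7 (flp_a L196729) (flp_c L196727) L165871 (flp_c L176161) L176163 L161715 (flp_d L172063) L204855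
theorem L204863 : sm gg N21989 = N26512 := rfl
theorem L204865 : sm gd N26512 = N21991 := ded_24_1 (flp_g L172071) (flp_d L172063) L204863
theorem L204867 : sm gb N26512 = N26501 := ded_17_1 (flp_g L204780) (flp_b L171994) L121260 L172061 L204863
theorem L204869 : sm gf N26512 = N21997 := ded_31_1 (flp_b L172105) (flp_g L121290) (flp_f L97350) L85304 (flp_g L97313) L121210 L171994 L204780 (flp_f L204774) L171952 L121200 L121254 L172061 L204863
theorem L204871 : sm gg N21990 = N26513 := rfl
theorem L204873 : sm ga N26513 = N21991 := ded_12_1 (flp_g L172071) L172065 L204871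
theorem L204875 : sm gc N26513 = N22469 := ded_21_1 (flp_g L175525) (flp_c L172067) L204871
theorem L204877 : sm gf N21999 = N26513 := ded_29_0 (flp_g L204871) L172113 L172111 L172117
theorem L204879 : sm gg N21993 = N26514 := rfl
theorem L204881 : sm ge N26514 = N21996 := ded_26_1 (flp_g L172101) (flp_e L172087) L204879
theorem L204883 : sm gb N21994 = N26515 := rfl
theorem L204885 : sm ge N26515 = N21997 := ded_15_2 (flp_b L172105) (flp_e L172094) L204883
theorem L204887 : sm gd N21995 = N26516 := rfl
theorem L204889 : sm gb N26516 = N22288 := ded_14_1 (flp_d L178481) (flp_b L178485) L204887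
theorem L204891 : sm gf N26516 = N26516 := ded_23_2 (flp_d L204887) L172100 L204887
theorem L204892 : sm ge N26516 = N22290 := ded_22_2 L174139 (flp_e L169843) (flp_d L178898) L178900 L204887
theorem L204894 : sm gc N22010 = N26516 := ded_28_0 (flp_d L204887) (flp_c L172098) L121287 L97356 (flp_d L121022) L171811 L204672 L204674
theorem L204896 : sm gg N21995 = N26517 := rfl
theorem L204898 : sm gc N26517 = N21996 := ded_21_1 (flp_g L172101) L172098 L204896
theorem L204900 : sm gb N21996 = N26518 := rfl
theorem L204902 : sm gd N26518 = N21998 := ded_14_2 (flp_b L172109) (flp_d L172103) L204900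
theorem L204904 : sm gg N26518 = N21997 := ded_17_2 (flp_b L172105) (flp_g L121290) L121285 L172101 L204900
theorem L204906 : sm ga N26508 = N26518 := ded_9_3 L204902 L172115 (flp_d L204839)
theorem L204908 : sm gf N26510 = N26518 := ded_23_0 L204902 (flp_f L172113) (flp_d L204851)
theorem L204910 : sm ga N21997 = N26519 := rfl
theorem L204912 : sm gd N26519 = N21999 := ded_9_2 (flp_a L172117) (flp_d L172107) L204910
theorem L204914 : sm gg N26519 = N26508 := ded_12_2 L204906 L204904 L204910
theorem L204916 : sm gc N21997 = N26520 := rfl
theorem L204918 : sm gb N21999 = N26521 := rfl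
theorem L204920 : sm gg N26521 = N24318 := ded_17_2 (flp_b L189481) (flp_g L157969) L172037 (flp_g L172119) L204918
theorem L204922 : sm gc N24361 = N26521 := ded_30_1 (flp_b L204918) (flp_a L172117) (flp_f L172075) (flp_c L194331) (flp_b L194327) (flp_a L174070) L174072 (flp_c L122844) (flp_b L122812) (flp_a L172833) L172835 (flp_c L123932) L123934 (flp_a L123983) L124007 L124005 L124103 L176069 L189807
theorem L204924 : sm gc N21999 = N26522 := rfl
theorem L204926 : sm ga N26522 = N22000 := ded_8_1 (flp_c L172121) L172117 L204924
theorem L204928 : sm gf N26522 = N22469 := ded_20_2 (flp_c L204875) (flp_f L204877) L204924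
theorem L204930 : sm gg N26522 = N25003 := ded_21_2 L194343 (flp_g L172119) L204924
theorem L204932 : sm gd N25175 = N26522 := ded_9_0 L204926 (flp_d L196003) L196011
theorem L204934 : sm gb N22005 = N26523 := rfl
theorem L204936 : sm gd N26523 = N22007 := ded_14_2 (flp_b L172180) (flp_d L172173) L204934
theorem L204938 : sm gf N26523 = N22303 := ded_16_2 (flp_b L174244) (flp_f L122724) (flp_b L121410) L172167 L204934
theorem L204940 : sm gg N26523 = N22343 := ded_17_2 L174581 L175781 (flp_b L175793) (flp_g L172175) L204934
theorem L204942 : sm ga N26523 = N22131 := ded_7_1 (flp_b L173074) L173068 (flp_b L122947) (flp_a L149435) (flp_b L122903) (flp_a L174495) L174500 (flp_a L172169) L204934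
theorem L204944 : sm gc N22130 = N26523 := ded_30_1 (flp_b L204934) L172169 (flp_f L165987) (flp_c L115044) L95150 L84240 L95166 L95169 L148254 (flp_a L102920) L128605 L128601 (flp_b L149806) (flp_a L121982) L121992 (flp_c L173002) (flp_b L173048) L173044 L173038
theorem L204946 : sm gg N22010 = N26524 := rfl
theorem L204948 : sm gd N26524 = N22011 := ded_24_1 (flp_g L172213) L172210 L204946
theorem L204950 : sm ge N26524 = N25266 := ded_26_1 L196675 L186487 L204946
theorem L204952 : sm gb N26524 = N22079 := ded_17_1 (flp_g L172659) L155300 L186457 (flp_b L186467) L204946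
theorem L204954 : sm gd N22012 = N26525 := rfl
theorem L204956 : sm ga N26525 = N26516 := ded_9_1 (flp_d L204887) (flp_a L172221) L204954
theorem L204958 : sm gb N26525 = N22839 := ded_14_1 L178503 (flp_b L172224) L204954
theorem L204960 : sm gf N26525 = N26525 := ded_23_2 (flp_d L204954) L172223 L204954
theorem L204961 : sm gc N26490 = N26525 := ded_28_0 (flp_d L204954) (flp_c L172219) (flp_d L121502) (flp_c L97467) (flp_d L97461) L121482 L172210 (flp_a L204674)
theorem L204963 : sm ge N22012 = N26526 := rfl
theorem L204965 : sm ga N26526 = N22889 := ded_10_1 L178900 (flp_a L172221) L204963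
theorem L204967 : sm gb N26526 = N22829 := ded_15_1 L178389 (flp_b L172224) L204963
theorem L204969 : sm gc N26526 = N22013 := ded_19_1 (flp_e L172226) L172219 L204963
theorem L204971 : sm gf N26526 = N26526 := ded_25_2 (flp_e L204963) L172223 L204963
theorem L204972 : sm gd N26083 = N26526 := ded_9_0 L204965 L178898 L201878
theorem L204974 : sm gg N26096 = N26526 := ded_17_0 L204967 (flp_g L178433) L201990 (flp_g L201982) L201974
theorem L204976 : sm gg N22012 = N26527 := rfl
theorem L204978 : sm ga N26527 = N26517 := ded_12_1 (flp_g L204896) (flp_a L172221) L204976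
theorem L204980 : sm gc N26527 = N22014 := ded_21_1 (flp_g L172233) L172219 L204976
theorem L204982 : sm ge N26527 = N26096 := ded_26_1 L204974 (flp_e L204963) L204976
theorem L204984 : sm gf N26517 = N26527 := ded_29_0 (flp_g L204976) L172223 L204976 L204978
theorem L204986 : sm gb N26527 = N26094 := ded_17_1 (flp_g L201996) (flp_b L178585) (flp_g L129819) (flp_b L172224) L204976
theorem L204988 : sm gg N22013 = N26528 := rfl
theorem L204990 : sm ga N26528 = N26514 := ded_12_1 (flp_g L204879) (flp_a L172228) L204988
theorem L204992 : sm gc N26528 = N26096 := ded_21_1 L204974 L204969 L204988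
theorem L204994 : sm ge N26528 = N22014 := ded_26_1 (flp_g L172233) L172226 L204988
theorem L204996 : sm gf N26514 = N26528 := ded_29_0 (flp_g L204988) L172232 L204988 L204990
theorem L204998 : sm gb N22014 = N26529 := rfl
theorem L205000 : sm gd N26529 = N22015 := ded_14_2 (flp_b L172241) (flp_d L172237) L204998
theorem L205002 : sm gf N26529 = N22462 := ded_16_2 (flp_b L204853) L204908 (flp_b L204900) L172239 L204998
theorem L205004 : sm gg N26529 = N22023 := ded_17_2 (flp_b L172293) (flp_g L121539) (flp_b L121504) L172233 L204998
theorem L205006 : sm ga N26529 = N23589 := ded_7_1 L183859 (flp_a L183831) (flp_b L183823) (flp_a L172029) L204837 L204906 (flp_b L204900) (flp_a L172235) L204998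
theorem L205008 : sm gc N23588 = N26529 := ded_32_19 (flp_b L204998) L172237 L121509 (flp_d L121487) (flp_c L172215) L172217 (flp_e L172687) L172685 L165784 (flp_d L120375) L120369 L143051 (flp_d L163372) L121610 L97525 L85376 L26761 (flp_d L46391) (flp_c L93189) L93191 (flp_c L97154) L120939 (flp_d L171756) L171762 L122955 L123013 L163828 (flp_d L99037) (flp_c L86025) (flp_d L27538) (flp_c L13213) (flp_b L6497) L3354 (flp_d L3218) (flp_c L81210) L5342 (flp_c L5527) L142600 L5727 L2983 L1518 L748 (flp_b L451) (flp_d L915) (flp_c L1856) L141948 L3593 L1849 L1825 (flp_c L1867) L140757 L1867 (flp_b L964) (flp_d L1845) (flp_c L3593) (flp_d L141948) L1856 L917 (flp_e L1480) L1479 (flp_c L2910) (flp_d L5631) (flp_c L11334) L23521 (flp_d L41472) (flp_c L90388) L106418 L153465 (flp_b L129319) L129317 (flp_c L152454) L175617 (flp_c L175609) (flp_b L123592) (flp_d L123584) (flp_c L152222) L183849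
theorem L205010 : sm ge N22016 = N26530 := rfl
theorem L205012 : sm gb N26530 = N22020 := ded_15_1 (flp_e L172277) (flp_b L172251) L205010
theorem L205014 : sm gc N26530 = N22484 := ded_19_1 (flp_e L175619) (flp_c L172253) L205010
theorem L205016 : sm gg N22016 = N26531 := rfl
theorem L205018 : sm gc N26531 = N22485 := ded_21_1 (flp_g L175621) (flp_c L172253) L205016
theorem L205020 : sm gd N26531 = N22018 := ded_24_1 (flp_g L172263) L172249 L205016
theorem L205022 : sm gf N26531 = N22023 := ded_29_2 (flp_g L205004) L205006 L183857 L205016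
theorem L205024 : sm gb N22022 = N26532 := rfl
theorem L205026 : sm ge N26532 = N22023 := ded_15_2 (flp_b L172293) (flp_e L172291) L205024
theorem L205028 : sm ga N22023 = N26533 := rfl
theorem L205030 : sm gd N26533 = N22024 := ded_9_2 (flp_a L172297) (flp_d L172295) L205028
theorem L205032 : sm gg N26533 = N23589 := ded_12_2 (flp_a L205006) L205004 L205028
theorem L205034 : sm gc N26533 = N23590 := ded_28_0 L183865 L152234 L123622 (flp_c L123542) (flp_d L163546) L122854 (flp_d L172295) L205028
theorem L205036 : sm gb N23622 = N26533 := ded_14_3 L205030 (flp_b L176085) L184109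
theorem L205038 : sm gc N22023 = N26534 := rfl
theorem L205040 : sm ga N26534 = N23590 := ded_8_1 (flp_c L205034) (flp_a L205028) L205038
theorem L205042 : sm gf N26534 = N22485 := ded_20_2 (flp_c L205018) L205022 L205038
theorem L205044 : sm gg N26534 = N23588 := ded_21_2 L205008 L205004 L205038
theorem L205046 : sm gb N26534 = N22238 := ded_13_1 L173791 (flp_b L172287) L172285 L172293 L205038
theorem L205048 : sm gd N26534 = N22489 := ded_28_7 L175639 L152234 L123622 (flp_c L123542) (flp_d L163546) L122854 (flp_d L172295) L205038
theorem L205050 : sm gd N22025 = N26535 := rfl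
theorem L205052 : sm ga N26535 = N26535 := ded_9_1 (flp_d L205050) L172307 L205050
theorem L205053 : sm gb N26535 = N22026 := ded_14_1 (flp_d L172310) L172301 L205050
theorem L205055 : sm gf N26535 = N26505 := ded_23_2 (flp_d L204808) (flp_f L172308) L205050
theorem L205057 : sm gg N26535 = N26505 := ded_24_2 (flp_d L204808) (flp_g L172305) L205050
theorem L205059 : sm ge N26535 = N26441 := ded_22_2 (flp_d L204331) (flp_e L182910) (flp_d L198561) L198552 L205050
theorem L205061 : sm gc N26505 = N26535 := ded_30_5 L205053 L172312 L155526 (flp_c L152554) (flp_b L105344) (flp_a L89856) (flp_f L89854) (flp_c L89851) L89853 (flp_a L105382) (flp_f L151540) L151536 L105344 L152546 L152588 L172316 (flp_b L205053) L205052 L205055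
theorem L205063 : sm ge N22026 = N26536 := rfl
theorem L205065 : sm ga N26536 = N22028 := ded_10_1 (flp_e L172328) (flp_a L172312) L205063
theorem L205067 : sm gb N26536 = N26441 := ded_15_1 (flp_e L205059) L205053 L205063
theorem L205069 : sm gc N26536 = N23323 := ded_19_1 L182035 L172316 L205063
theorem L205071 : sm gg N26536 = N23322 := ded_26_2 L182029 (flp_g L172314) L205063
theorem L205073 : sm gd N26536 = N26440 := ded_22_1 L204325 (flp_d L198563) L167736 L172310 L205063
theorem L205075 : sm gg N22028 = N26537 := rfl
theorem L205077 : sm ga N26537 = N23322 := ded_12_1 (flp_g L205071) L205065 L205075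
theorem L205079 : sm gc N26537 = N23320 := ded_21_1 (flp_g L182019) L182001 L205075
theorem L205081 : sm ge N26537 = N22029 := ded_26_1 (flp_g L172332) L172328 L205075
theorem L205083 : sm gf N23319 = N26537 := ded_29_0 (flp_g L205075) L181997 L181995 (flp_a L182009)
theorem L205085 : sm gb N22029 = N26538 := rfl
theorem L205087 : sm gd N26538 = N22030 := ded_14_2 (flp_b L172342) (flp_d L172338) L205085
theorem L205089 : sm gc N26538 = N23782 := ded_13_2 L185347 (flp_c L154019) (flp_b L152576) (flp_c L172336) L205085
theorem L205091 : sm gg N26538 = N22033 := ded_17_2 (flp_b L172366) (flp_g L121585) (flp_b L121569) L172332 L205085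
theorem L205093 : sm gb N22032 = N26539 := rfl
theorem L205095 : sm ge N26539 = N22033 := ded_15_2 (flp_b L172366) (flp_e L172362) L205093
theorem L205097 : sm ga N22033 = N26540 := rfl
theorem L205099 : sm gd N26540 = N22034 := ded_9_2 (flp_a L172370) (flp_d L172368) L205097
theorem L205101 : sm gb N26540 = N22521 := ded_7_2 L175873 L171952 L121198 (flp_b L121175) L121621 (flp_b L121616) (flp_a L121587) L172366 L205097
theorem L205103 : sm gc N22033 = N26541 := rfl
theorem L205105 : sm gg N26541 = N23782 := ded_21_2 (flp_c L205089) L205091 L205103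
theorem L205107 : sm gb N26541 = N22974 := ded_13_1 L179507 (flp_b L172356) L172350 L172366 L205103
theorem L205109 : sm gd N26541 = N23784 := ded_28_7 (flp_a L196831) (flp_c L196829) L166054 (flp_c L176582) L176584 L161464 (flp_d L172368) L205103
theorem L205111 : sm gf N22033 = N26542 := rfl
theorem L205113 : sm gd N26542 = N22035 := ded_23_1 (flp_f L172376) (flp_d L172368) L205111
theorem L205115 : sm gb N26542 = N26531 := ded_16_1 L205022 (flp_b L172293) (flp_f L121591) L172366 L205111
theorem L205117 : sm gg N22041 = N26542 := ded_31_0 (flp_f L205111) (flp_b L172366) (flp_g L121585) (flp_f L121529) (flp_b L172251) L205016 L205022 (flp_b L172293) (flp_g L121539) L97484 L85373 L97523 L121623 L172418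
theorem L205119 : sm gf N22034 = N26543 := rfl
theorem L205121 : sm ga N26543 = N22035 := ded_11_1 (flp_f L172376) L172370 L205119
theorem L205123 : sm gc N26543 = N22527 := ded_20_1 (flp_f L175907) (flp_c L172372) L205119
theorem L205125 : sm gg N26543 = N22043 := ded_29_3 (flp_a L172430) (flp_f L172424) L172426 L205119
theorem L205127 : sm gf N22037 = N26544 := rfl
theorem L205129 : sm ga N26544 = N26498 := ded_11_1 (flp_f L204750) L172395 L205127
theorem L205131 : sm ge N26544 = N22040 := ded_25_1 (flp_f L172410) (flp_e L172392) L205127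
theorem L205133 : sm gg N26544 = N26498 := ded_29_3 (flp_a L205129) (flp_f L205127) L172394 L205127
theorem L205135 : sm gb N22038 = N26545 := rfl
theorem L205137 : sm ge N26545 = N22041 := ded_15_2 (flp_b L172418) (flp_e L172401) L205135
theorem L205139 : sm gf N22039 = N26546 := rfl
theorem L205141 : sm ga N26546 = N26497 := ded_11_1 (flp_f L204742) (flp_a L172407) L205139
theorem L205143 : sm gc N26546 = N22040 := ded_20_1 (flp_f L172410) L172405 L205139
theorem L205145 : sm gg N26546 = N26497 := ded_29_3 (flp_a L205141) (flp_f L205139) L172409 L205139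
theorem L205147 : sm gb N22040 = N26547 := rfl
theorem L205149 : sm gd N26547 = N22042 := ded_14_2 (flp_b L172422) (flp_d L172414) L205147
theorem L205151 : sm gf N26547 = N22041 := ded_16_2 (flp_b L172418) (flp_f L121623) L121616 L172410 L205147
theorem L205153 : sm gg N26547 = N26540 := ded_17_2 L205101 L204766 (flp_b L204756) (flp_g L172416) L205147
theorem L205155 : sm ga N26547 = N26538 := ded_7_1 (flp_b L205085) L172334 (flp_b L183813) L183807 (flp_b L183801) L204764 (flp_b L204756) (flp_a L172412) L205147
theorem L205157 : sm ga N22041 = N26548 := rfl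
theorem L205159 : sm gd N26548 = N22043 := ded_9_2 (flp_a L172430) (flp_d L172420) L205157
theorem L205161 : sm gf N26548 = N26538 := ded_11_2 (flp_a L205155) L205151 L205157
theorem L205163 : sm gc N22041 = N26549 := rfl
theorem L205165 : sm gb N22043 = N26550 := rfl
theorem L205167 : sm gf N26550 = N24303 := ded_16_2 L189369 L158267 L172342 (flp_f L172432) L205165
theorem L205169 : sm gc N24304 = N26550 := ded_30_1 (flp_b L205165) (flp_a L172430) (flp_f L172424) (flp_c L175913) L175915 L173182 L173238 L173242 L173250 L173256 (flp_f L123480) L123477 (flp_b L175404) (flp_a L190168) (flp_f L190166) (flp_c L189625) L189629 L189359 L189371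
theorem L205171 : sm gc N22043 = N26551 := rfl
theorem L205173 : sm ga N26551 = N22044 := ded_8_1 (flp_c L172434) L172430 L205171
theorem L205175 : sm gf N26551 = N24984 := ded_20_2 L194171 (flp_f L172432) L205171
theorem L205177 : sm gg N26551 = N22527 := ded_21_2 (flp_c L205123) L205125 L205171
theorem L205179 : sm gd N25223 = N26551 := ded_9_0 L205173 (flp_d L196416) (flp_a L196426)
theorem L205181 : sm ge N22045 = N26552 := rfl
theorem L205183 : sm ga N26552 = N24962 := ded_10_1 (flp_e L193963) (flp_a L172440) L205181
theorem L205185 : sm gb N26552 = N24972 := ded_15_1 (flp_e L194055) (flp_b L172442) L205181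
theorem L205187 : sm gc N26552 = N23090 := ded_19_1 L180451 L172446 L205181
theorem L205189 : sm gf N26552 = N23089 := ded_25_2 L180445 (flp_f L172444) L205181
theorem L205191 : sm gc N22046 = N26553 := rfl
theorem L205193 : sm ga N26553 = N22047 := ded_8_1 (flp_c L172452) L172448 L205191
theorem L205195 : sm gf N26553 = N22408 := ded_20_2 L175098 (flp_f L172541) L205191
theorem L205197 : sm gg N26553 = N22058 := ded_21_2 (flp_c L172519) (flp_g L172450) L205191
theorem L205199 : sm gb N26553 = N24307 := ded_13_1 L189397 L157931 (flp_c L158019) L172466 L205191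
theorem L205201 : sm gd N24363 = N26553 := ded_23_3 L205195 L175100 L189821
theorem L205203 : sm gd N23641 = N22682 := ded_28_3 L180177 L180171 (flp_c L189823) L205201 L205193 (flp_c L172452) (flp_d L152722) L184236
theorem L205205 : sm gc N23640 = N22683 := ded_28_6 (flp_d L177198) L177194 L180177 L180171 (flp_c L189823) L205201 (flp_c L205191) (flp_d L184232)
theorem L205207 : sm ga N23641 = N22683 := ded_28_8 (flp_c L205205) L184232 L205191 (flp_d L205201) L189823 (flp_d L180171) (flp_c L180177) (flp_d L205203)
theorem L205209 : sm ge N23882 = N23641 := ded_22_0 L205203 L177196 (flp_d L155447) (flp_e L154998) L186246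
theorem L205211 : sm gc N23344 = N23882 := ded_19_3 L205209 (flp_c L184236) (flp_e L182217)
theorem L205213 : sm gd N22047 = N26554 := rfl
theorem L205215 : sm ga N26554 = N24363 := ded_9_1 L205201 L205193 L205213
theorem L205217 : sm gb N26554 = N22092 := ded_14_1 (flp_d L172765) (flp_b L172456) L205213
theorem L205219 : sm gf N26554 = N22198 := ded_23_2 L173534 L172458 L205213
theorem L205221 : sm gg N26554 = N22060 := ded_24_2 (flp_d L172529) (flp_g L172454) L205213
theorem L205223 : sm gc N24201 = N26554 := ded_28_0 (flp_d L205213) (flp_c L172452) (flp_d L152722) L184236 L205203 L180177 L180171 (flp_a L188625)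
theorem L205225 : sm ga N22049 = N26555 := rfl
theorem L205227 : sm ge N26555 = N22050 := ded_10_2 (flp_a L172472) (flp_e L172470) L205225
theorem L205229 : sm gc N22049 = N26556 := rfl
theorem L205231 : sm ge N26556 = N22051 := ded_19_2 (flp_c L172476) (flp_e L172470) L205229
theorem L205233 : sm gg N26556 = N23882 := ded_21_2 (flp_c L205211) L182219 L205229
theorem L205235 : sm gb N26556 = N26556 := ded_13_1 (flp_c L205229) (flp_b L172468) L121677 L172468 L205229
theorem L205236 : sm gd N23877 = N26556 := ded_24_3 L205233 (flp_d L186246) (flp_g L186213)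
theorem L205238 : sm gf N22049 = N26557 := rfl
theorem L205240 : sm ge N26557 = N22052 := ded_25_1 (flp_f L172479) (flp_e L172470) L205238
theorem L205242 : sm gb N22050 = N26558 := rfl
theorem L205244 : sm gd N26558 = N22057 := ded_14_2 (flp_b L172511) (flp_d L172474) L205242
theorem L205246 : sm gg N26558 = N24319 := ded_17_2 L189493 L189509 (flp_b L189517) L184234 L205242
theorem L205248 : sm ga N26558 = N25062 := ded_7_1 L194885 (flp_a L183581) L183587 L161748 (flp_b L161742) L111903 L121680 L172472 L205242
theorem L205250 : sm gc N22050 = N26559 := rfl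
theorem L205252 : sm ga N26559 = N22051 := ded_8_1 (flp_c L172476) L172472 L205250
theorem L205254 : sm gg N26559 = N22683 := ded_21_2 (flp_c L205205) L184234 L205250
theorem L205256 : sm gd N22685 = N26559 := ded_28_1 (flp_c L205250) L172474 L172519 (flp_d L194005) L194003 (flp_d L185221) (flp_a L188561) L188555
theorem L205258 : sm gf N22050 = N26560 := rfl
theorem L205260 : sm ga N26560 = N22052 := ded_11_1 (flp_f L172479) L172472 L205258
theorem L205262 : sm gd N26560 = N22059 := ded_23_1 (flp_f L172523) (flp_d L172474) L205258
theorem L205264 : sm gg N23642 = N26560 := ded_29_1 (flp_f L205258) (flp_g L184234) (flp_a L184230) L184240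
theorem L205266 : sm gd N22051 = N26561 := rfl
theorem L205268 : sm ga N26561 = N22685 := ded_9_1 L205256 L205252 L205266
theorem L205270 : sm gb N26561 = N26561 := ded_14_1 (flp_d L205266) L172478 L205266
theorem L205271 : sm gg N26561 = N22682 := ded_24_2 (flp_d L205203) L184238 L205266
theorem L205273 : sm ge N26561 = N23933 := ded_22_2 L186657 (flp_e L186211) L205236 L205231 L205266
theorem L205275 : sm gc N23768 = N26561 := ded_28_0 (flp_d L205266) (flp_c L172476) L121682 L121701 L172529 (flp_c L172565) (flp_d L188551) L188561
theorem L205277 : sm gf N26561 = N23922 := ded_29_0 L186559 (flp_f L177202) L177204 (flp_a L205268)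
theorem L205279 : sm gf N22051 = N26562 := rfl
theorem L205281 : sm gc N26562 = N22052 := ded_20_1 (flp_f L172479) L172476 L205279
theorem L205283 : sm gd N26562 = N23922 := ded_23_1 (flp_f L205277) (flp_d L205266) L205279
theorem L205285 : sm gg N22052 = N26563 := rfl
theorem L205287 : sm ga N26563 = N23642 := ded_12_1 L205264 L205260 L205285
theorem L205289 : sm gd N26563 = N22062 := ded_24_1 (flp_g L172537) (flp_d L172481) L205285
theorem L205291 : sm gf N23640 = N26563 := ded_29_0 (flp_g L205285) (flp_f L172479) (flp_g L152724) L184230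
theorem L205293 : sm gb N26563 = N23571 := ded_17_1 (flp_g L183717) L183705 (flp_g L183711) L173317 L205285
theorem L205295 : sm gc N22053 = N26564 := rfl
theorem L205297 : sm ga N26564 = N22253 := ded_8_1 (flp_c L183419) L173333 L205295
theorem L205299 : sm gb N26564 = N26564 := ded_13_1 (flp_c L205295) (flp_b L172483) L121688 L172483 L205295
theorem L205300 : sm ga N22179 = N22179 := ded_7_5 (flp_b L173389) (flp_a L122470) L173869 (flp_a L205297) L205299 L205297 (flp_b L173869) L122470 L173389
theorem L205301 : sm ga N22384 = N22384 := ded_9_3 L174894 L205300 (flp_d L174894)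
theorem L205302 : sm gg N22053 = N26565 := rfl
theorem L205304 : sm gd N26565 = N22064 := ded_24_1 (flp_g L172549) (flp_d L172485) L205302
theorem L205306 : sm ge N26565 = N25382 := ded_26_1 L197409 L182887 L205302
theorem L205308 : sm gf N22169 = N26565 := ded_29_0 (flp_g L205302) (flp_f L173319) L183711 L183709
theorem L205310 : sm gb N26565 = N23044 := ded_17_1 (flp_g L180091) (flp_b L143701) (flp_g L121691) L172483 L205302
theorem L205312 : sm ge N22060 = N26566 := rfl
theorem L205314 : sm gb N26566 = N22067 := ded_15_1 (flp_e L172577) (flp_b L172531) L205312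
theorem L205316 : sm gc N26566 = N23982 := ded_19_1 L187105 L172565 L205312
theorem L205318 : sm gb N22061 = N26567 := rfl
theorem L205320 : sm gc N26567 = N24408 := ded_13_2 (flp_b L190178) L173270 (flp_b L151301) (flp_c L172535) L205318
theorem L205322 : sm gf N26567 = N22069 := ded_16_2 (flp_b L172589) (flp_f L121727) (flp_b L121703) L172533 L205318
theorem L205324 : sm gg N26567 = N24323 := ded_17_2 (flp_b L189519) L189535 (flp_b L189541) L175102 L205318
theorem L205326 : sm ga N26567 = N22099 := ded_7_1 (flp_b L172811) L121881 L97696 (flp_a L97706) L121911 (flp_a L151828) L175084 L175092 L205318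
theorem L205328 : sm ge N22065 = N26568 := rfl
theorem L205330 : sm ga N26568 = N22067 := ded_10_1 (flp_e L172577) (flp_a L172557) L205328
theorem L205332 : sm gb N26568 = N26120 := ded_15_1 L202122 L174422 L205328
theorem L205334 : sm gc N26568 = N24594 := ded_19_1 L191531 L172563 L205328
theorem L205336 : sm gf N26568 = N24591 := ded_25_2 L191511 (flp_f L172559) L205328
theorem L205338 : sm gg N26568 = N22106 := ded_26_2 (flp_e L172863) (flp_g L172561) L205328
theorem L205340 : sm ge N22066 = N26569 := rfl
theorem L205342 : sm ga N26569 = N24594 := ded_10_1 L191531 (flp_a L172569) L205340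
theorem L205344 : sm gb N26569 = N23983 := ded_15_1 L187115 (flp_b L172573) L205340
theorem L205346 : sm gc N26569 = N22067 := ded_19_1 (flp_e L172577) L172567 L205340
theorem L205348 : sm gf N26569 = N24593 := ded_25_2 L191525 L172575 L205340
theorem L205350 : sm gg N26569 = N22111 := ded_26_2 (flp_e L172895) (flp_g L172571) L205340
theorem L205352 : sm gf N22067 = N26570 := rfl
theorem L205354 : sm ga N26570 = N24591 := ded_11_1 (flp_f L205336) L205330 L205352
theorem L205356 : sm gc N26570 = N24593 := ded_20_1 (flp_f L205348) L205346 L205352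
theorem L205358 : sm ge N26570 = N22068 := ded_25_1 (flp_f L172581) L172577 L205352
theorem L205360 : sm gb N22068 = N26571 := rfl
theorem L205362 : sm gd N26571 = N22069 := ded_14_2 (flp_b L172589) (flp_d L172587) L205360
theorem L205364 : sm ga N22069 = N26572 := rfl
theorem L205366 : sm gf N26572 = N22099 := ded_11_2 (flp_a L205326) L205322 L205364
theorem L205368 : sm gb N24205 = N26572 := ded_30_2 (flp_a L205364) (flp_f L205322) L205320 (flp_b L190178) (flp_a L173268) L173280 L173284 (flp_b L122496) (flp_a L173899) (flp_f L173897) L173891 L173895 (flp_a L186793) L186799 (flp_c L186734) (flp_b L155783) (flp_a L186931) L186927 L188659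
theorem L205370 : sm gd N26572 = N24228 := ded_14_2 (flp_b L188813) L188665 L205368
theorem L205372 : sm ga N24228 = N26571 := ded_9_1 L205362 L205364 L205370
theorem L205374 : sm gc N26571 = N24230 := ded_8_2 (flp_a L188827) (flp_c L188815) L205372
theorem L205376 : sm ge N22070 = N26573 := rfl
theorem L205378 : sm ga N26573 = N22323 := ded_10_1 L174396 (flp_a L172593) L205376
theorem L205380 : sm gb N26573 = N26158 := ded_15_1 L202456 L174811 L205376
theorem L205382 : sm gg N26573 = N22319 := ded_26_2 (flp_e L174370) (flp_g L172595) L205376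
theorem L205384 : sm ga N22075 = N26574 := rfl
theorem L205386 : sm gc N26574 = N25270 := ded_8_2 (flp_a L196706) L186498 L205384
theorem L205388 : sm gd N26574 = N22076 := ded_9_2 (flp_a L172641) (flp_d L172638) L205384
theorem L205390 : sm ge N26574 = N26495 := ded_10_2 L204722 L204705 L205384
theorem L205392 : sm gg N26574 = N26574 := ded_12_2 (flp_a L205384) L172640 L205384
theorem L205393 : sm gb N22449 = N26574 := ded_13_5 L205386 (flp_b L196701) (flp_c L171838) (flp_b L175370) L175362
theorem L205395 : sm gf N22095 = N26574 := ded_23_0 L205388 (flp_f L172653) (flp_d L172785)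
theorem L205397 : sm gf N22075 = N26575 := rfl
theorem L205399 : sm ga N26575 = N22095 := ded_11_1 L205395 (flp_a L205384) L205397
theorem L205401 : sm gc N26575 = N25280 := ded_20_1 L196789 L186498 L205397
theorem L205403 : sm gd N26575 = N22078 := ded_23_1 (flp_f L172647) (flp_d L172638) L205397
theorem L205405 : sm gg N26575 = N22095 := ded_29_3 (flp_a L205399) (flp_f L205397) L172640 L205397
theorem L205407 : sm gb N26575 = N22130 := ded_16_1 (flp_f L173038) (flp_b L172727) (flp_f L121817) L172636 L205397
theorem L205409 : sm gc N22076 = N26576 := rfl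
theorem L205411 : sm ga N26576 = N22077 := ded_8_1 (flp_c L172644) L172641 L205409
theorem L205413 : sm gf N26576 = N22098 := ded_20_2 (flp_c L172809) L172653 L205409
theorem L205415 : sm gg N26576 = N26576 := ded_21_2 (flp_c L205409) L172643 L205409
theorem L205416 : sm gb N26576 = N23958 := ded_13_1 (flp_c L186921) (flp_b L155716) (flp_c L123406) (flp_b L172657) L205409
theorem L205418 : sm gd N26576 = N24341 := ded_28_7 (flp_a L189647) L189650 L196717 (flp_c L196708) (flp_d L196703) (flp_c L205386) L205388 L205409
theorem L205420 : sm gb N23965 = N24341 := ded_32_20 (flp_d L205418) (flp_c L205409) (flp_d L205388) L205386 (flp_b L196701) (flp_e L184197) L184195 L172699 L121829 (flp_c L121667) (flp_b L121673) (flp_d L152710) L163953 (flp_d L123239) (flp_c L123191) L123979 L123508 L163842 L172249 L172253 (flp_b L124463) (flp_d L124461) (flp_c L99165) (flp_d L86091) L27606 (flp_b L14031) (flp_d L14010) (flp_c L14005) (flp_d L6844) (flp_c L3501) L2923 L2919 L1518 L748 (flp_d L715) (flp_c L1512) L2977 (flp_d L5719) L11533 (flp_d L83120) (flp_c L6961) L14239 (flp_d L139870) L8767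 (flp_d L8643) L81503 (flp_b L8663) L4429 L2328 (flp_d L2665) L2664 L5121 L5123 L5257 (flp_d L141191) (flp_c L9423) (flp_b L81552) (flp_e L9197) (flp_d L18869) (flp_c L39743) (flp_d L89911) (flp_c L103584) L143889 L143891 (flp_c L124347) (flp_d L176320) (flp_c L194099) (flp_b L194097) (flp_d L177489) (flp_c L177483) (flp_d L126640) (flp_c L100453) L100451 (flp_d L148750) (flp_c L177104) L177106 (flp_c L186977)
theorem L205422 : sm gf N22077 = N26577 := rfl
theorem L205424 : sm ga N26577 = N22098 := ded_11_1 (flp_f L205413) L205411 L205422
theorem L205426 : sm gc N26577 = N22078 := ded_20_1 (flp_f L172647) L172644 L205422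
theorem L205428 : sm gd N26577 = N24343 := ded_23_1 (flp_f L189655) L175497 L205422
theorem L205430 : sm gg N26577 = N22098 := ded_29_3 (flp_a L205424) (flp_f L205422) L172646 L205422
theorem L205432 : sm gb N26577 = N24380 := ded_16_1 L189977 L189405 L158092 (flp_b L175478) L205422
theorem L205434 : sm gb N22084 = N26578 := rfl
theorem L205436 : sm ge N26578 = N22087 := ded_15_2 (flp_b L172727) (flp_e L172707) L205434
theorem L205438 : sm ga N22085 = N26579 := rfl
theorem L205440 : sm ge N26579 = N22088 := ded_10_2 (flp_a L172731) (flp_e L172713) L205438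
theorem L205442 : sm gg N26579 = N22093 := ded_12_2 (flp_a L172773) (flp_g L172715) L205438
theorem L205444 : sm gb N22088 = N26580 := rfl
theorem L205446 : sm gd N26580 = N22090 := ded_14_2 (flp_b L172745) (flp_d L172733) L205444
theorem L205448 : sm gc N26580 = N22343 := ded_13_2 L174581 (flp_c L171766) L174316 L174310 L205444
theorem L205450 : sm gf N26580 = N22342 := ded_16_2 L174571 L173060 L172807 (flp_f L172805) L205444
theorem L205452 : sm gg N26580 = N22130 := ded_17_2 (flp_b L205407) L205405 (flp_b L172783) (flp_g L172735) L205444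
theorem L205454 : sm ga N26580 = N22133 := ded_7_1 L173054 (flp_a L175352) L205393 (flp_a L205384) (flp_b L172636) L121764 L121819 L172731 L205444
theorem L205456 : sm gb N22093 = N26581 := rfl
theorem L205458 : sm gd N26581 = N26497 := ded_14_2 L204748 L200279 L205456
theorem L205460 : sm ge N26581 = N22095 := ded_15_2 (flp_b L172783) (flp_e L172775) L205456
theorem L205462 : sm gf N26495 = N26581 := ded_23_0 L205458 (flp_f L204742) L204720
theorem L205464 : sm gf N22093 = N26582 := rfl
theorem L205466 : sm ga N26582 = N22094 := ded_11_1 (flp_f L172777) L172773 L205464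
theorem L205468 : sm gd N26582 = N22843 := ded_23_1 (flp_f L200283) L200279 L205464
theorem L205470 : sm ge N26582 = N22096 := ded_25_1 (flp_f L172787) (flp_e L172775) L205464
theorem L205472 : sm gg N26482 = N26582 := ded_29_1 (flp_f L205464) (flp_g L205442) (flp_a L205438) (flp_f L204611)
theorem L205474 : sm gb N26582 = N22842 := ded_16_1 (flp_f L178537) (flp_b L204724) L205462 (flp_b L205456) L205464
theorem L205476 : sm gg N22094 = N26583 := rfl
theorem L205478 : sm ga N26583 = N26482 := ded_12_1 L205472 L205466 L205476
theorem L205480 : sm gc N26583 = N26487 := ded_21_1 L204652 (flp_c L174218) L205476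
theorem L205482 : sm ge N26583 = N22097 := ded_26_1 (flp_g L172797) (flp_e L172779) L205476
theorem L205484 : sm gf N26579 = N26583 := ded_29_0 (flp_g L205476) (flp_f L172777) (flp_g L172715) L205438
theorem L205486 : sm gb N22127 = N26583 := ded_7_0 L205478 (flp_b L204607) L171702 L171724 (flp_a L171729) (flp_b L121161) (flp_a L97765) L122044 L173020
theorem L205488 : sm gc N22095 = N26584 := rfl
theorem L205490 : sm ga N26584 = N25280 := ded_8_1 (flp_c L205401) L205399 L205488
theorem L205492 : sm gf N26584 = N25270 := ded_20_2 (flp_c L205386) (flp_f L205395) L205488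
theorem L205494 : sm gg N26584 = N25280 := ded_21_2 (flp_c L205401) L205405 L205488
theorem L205496 : sm gd N25272 = N26584 := ded_9_0 L205490 L196787 (flp_a L196721)
theorem L205498 : sm gb N22098 = N26585 := rfl
theorem L205500 : sm gc N26585 = N22099 := ded_13_2 (flp_b L172811) (flp_c L121879) L121877 L172809 L205498
theorem L205502 : sm gg N26585 = N24377 := ded_17_2 (flp_b L189943) L189969 (flp_b L205432) L205430 L205498
theorem L205504 : sm ga N26585 = N24408 := ded_7_1 (flp_b L190178) (flp_a L173268) (flp_b L122146) (flp_a L122142) (flp_b L158361) (flp_a L189971) (flp_b L205432) L205424 L205498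
theorem L205506 : sm gd N22098 = N26586 := rfl
theorem L205508 : sm ga N26586 = N24343 := ded_9_1 (flp_d L205428) L205424 L205506
theorem L205510 : sm gf N26586 = N24341 := ded_23_2 (flp_d L205418) L205413 L205506
theorem L205512 : sm gg N26586 = N24343 := ded_24_2 (flp_d L205428) L205430 L205506
theorem L205514 : sm gd N22099 = N26587 := rfl
theorem L205516 : sm gb N26587 = N22100 := ded_14_1 (flp_d L172815) L172811 L205514
theorem L205518 : sm gf N26587 = N24228 := ded_23_2 (flp_d L205370) L205366 L205514
theorem L205520 : sm gg N26587 = N24397 := ded_24_2 (flp_d L190097) (flp_g L172813) L205514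
theorem L205522 : sm gc N22320 = N26587 := ded_13_0 L205516 L172821 L122812 L122844 L174376
theorem L205524 : sm gb N22101 = N26588 := rfl
theorem L205526 : sm gd N26588 = N24229 := ded_14_2 (flp_b L188825) L173528 L205524
theorem L205528 : sm gc N26588 = N23959 := ded_13_2 (flp_b L186925) L155724 (flp_b L121889) (flp_c L172827) L205524
theorem L205530 : sm gf N26588 = N24205 := ded_16_2 L205368 L205366 (flp_b L172811) L172823 L205524
theorem L205532 : sm gg N26588 = N22403 := ded_17_2 (flp_b L175043) L123181 (flp_b L171720) (flp_g L172829) L205524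
theorem L205534 : sm ga N26588 = N23965 := ded_7_1 L205420 (flp_a L189647) (flp_b L158094) L109326 L157953 L163822 L163651 (flp_a L172825) L205524
theorem L205536 : sm gb N22102 = N26589 := rfl
theorem L205538 : sm gd N26589 = N22314 := ded_14_2 (flp_b L174332) (flp_d L172837) L205536
theorem L205540 : sm gc N26589 = N22109 := ded_13_2 (flp_b L172881) (flp_c L121925) (flp_b L121893) L172831 L205536
theorem L205542 : sm gf N26589 = N24400 := ded_16_2 (flp_b L190115) (flp_f L158457) (flp_b L123496) (flp_f L172835) L205536
theorem L205544 : sm gg N26589 = N24206 := ded_17_2 (flp_b L188667) L188679 (flp_b L188687) L175041 L205536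
theorem L205546 : sm ge N22104 = N26590 := rfl
theorem L205548 : sm gb N26590 = N26477 := ded_15_1 (flp_e L204567) (flp_b L172847) L205546
theorem L205550 : sm gc N26590 = N23191 := ded_19_1 L181151 L172851 L205546
theorem L205552 : sm gg N26590 = N25892 := ded_26_2 L200541 (flp_g L172849) L205546
theorem L205554 : sm gf N22106 = N26591 := rfl
theorem L205556 : sm ga N26591 = N22112 := ded_11_1 (flp_f L172899) (flp_a L172865) L205554
theorem L205558 : sm ge N26591 = N22107 := ded_25_1 (flp_f L172869) L172863 L205554
theorem L205560 : sm gg N26591 = N26570 := ded_29_3 L205354 (flp_f L205336) L205338 L205554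
theorem L205562 : sm gb N26591 = N25922 := ded_16_1 (flp_f L200803) (flp_b L169235) L169243 (flp_b L172867) L205554
theorem L205564 : sm ga N22109 = N26592 := rfl
theorem L205566 : sm gd N26592 = N25241 := ded_9_2 L196476 (flp_d L190307) L205564
theorem L205568 : sm gg N26592 = N24209 := ded_12_2 (flp_a L188689) (flp_g L172883) L205564
theorem L205570 : sm gb N26592 = N24344 := ded_7_2 L189661 L165618 L114672 (flp_b L114534) L163665 (flp_b L172859) L172855 L172881 L205564
theorem L205572 : sm ge N22109 = N26593 := rfl
theorem L205574 : sm gb N26593 = N22111 := ded_15_1 (flp_e L172895) L172881 L205572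
theorem L205576 : sm gg N26593 = N23989 := ded_26_2 L187155 (flp_g L172883) L205572
theorem L205578 : sm gf N22109 = N26594 := rfl
theorem L205580 : sm gc N26594 = N24400 := ded_20_1 (flp_f L205542) L205540 L205578
theorem L205582 : sm gd N26594 = N24448 := ded_23_1 L190515 (flp_d L190307) L205578
theorem L205584 : sm gg N26594 = N24446 := ded_29_3 L190509 (flp_f L188695) (flp_g L172883) L205578
theorem L205586 : sm gb N26594 = N25097 := ded_16_1 L195195 L176095 L163483 L172881 L205578
theorem L205588 : sm gd N22111 = N26595 := rfl
theorem L205590 : sm ga N26595 = N25239 := ded_9_1 (flp_d L201672) (flp_a L201680) L205588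
theorem L205592 : sm gf N26595 = N24254 := ded_23_2 (flp_d L191537) (flp_f L191541) L205588
theorem L205594 : sm ge N26595 = N23643 := ded_22_2 L184252 L172893 (flp_d L172885) L172895 L205588
theorem L205596 : sm gc N23345 = N26595 := ded_19_3 L205594 (flp_c L184246) (flp_e L182223)
theorem L205598 : sm gc N22116 = N26596 := rfl
theorem L205600 : sm ga N26596 = N22734 := ded_8_1 (flp_c L177591) L172942 L205598
theorem L205602 : sm ge N26596 = N22117 := ded_19_2 (flp_c L172944) (flp_e L172939) L205598
theorem L205604 : sm gg N26596 = N26596 := ded_21_2 (flp_c L205598) L172941 L205598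
theorem L205605 : sm gb N26596 = N25008 := ded_13_1 (flp_c L194372) (flp_b L161756) (flp_c L121948) L172937 L205598
theorem L205607 : sm gd N26292 = N26596 := ded_9_0 L205600 (flp_d L177598) (flp_a L203354)
theorem L205609 : sm gf N22699 = N26596 := ded_25_0 L205602 (flp_f L172953) (flp_e L177326)
theorem L205611 : sm gf N22116 = N26597 := rfl
theorem L205613 : sm ga N26597 = N22735 := ded_11_1 (flp_f L177600) L172942 L205611
theorem L205615 : sm gc N26597 = N22699 := ded_20_1 L205609 (flp_c L205598) L205611
theorem L205617 : sm ge N26597 = N22118 := ded_25_1 (flp_f L172955) (flp_e L172939) L205611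
theorem L205619 : sm gg N26597 = N22735 := ded_29_3 (flp_a L205613) (flp_f L205611) L172941 L205611
theorem L205621 : sm gf N22119 = N26598 := rfl
theorem L205623 : sm gc N26598 = N22120 := ded_20_1 (flp_f L172972) L172965 L205621
theorem L205625 : sm ge N26598 = N22123 := ded_25_1 (flp_f L173000) (flp_e L172967) L205621
theorem L205627 : sm gc N22121 = N26599 := rfl
theorem L205629 : sm ge N26599 = N22124 := ded_19_2 (flp_c L173006) (flp_e L172980) L205627
theorem L205631 : sm gg N26599 = N23853 := ded_21_2 (flp_c L186018) (flp_g L172982) L205627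
theorem L205633 : sm gb N26599 = N22128 := ded_13_1 (flp_c L173024) (flp_b L122044) (flp_c L121974) L172976 L205627
theorem L205635 : sm ga N22125 = N26600 := rfl
theorem L205637 : sm ge N26600 = N22130 := ded_10_2 (flp_a L173034) (flp_e L173012) L205635
theorem L205639 : sm gf N26578 = N26600 := ded_25_0 L205637 (flp_f L173038) (flp_e L205436)
theorem L205641 : sm gc N22125 = N26601 := rfl
theorem L205643 : sm ge N26601 = N22131 := ded_19_2 (flp_c L173040) (flp_e L173012) L205641
theorem L205645 : sm gf N22125 = N26602 := rfl
theorem L205647 : sm ga N26602 = N26578 := ded_11_1 L205639 (flp_a L205635) L205645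
theorem L205649 : sm ge N26602 = N22132 := ded_25_1 (flp_f L173042) (flp_e L173012) L205645
theorem L205651 : sm gb N26602 = N26598 := ded_16_1 (flp_f L205621) L172970 (flp_f L122008) L173010 L205645
theorem L205653 : sm gg N22125 = N26603 := rfl
theorem L205655 : sm gd N26603 = N22844 := ded_24_1 (flp_g L200555) L200549 L205653
theorem L205657 : sm ge N26603 = N22133 := ded_26_1 (flp_g L173050) (flp_e L173012) L205653
theorem L205659 : sm gb N26603 = N22448 := ded_17_1 (flp_g L175342) (flp_b L123379) (flp_g L122000) L173010 L205653
theorem L205661 : sm ga N22126 = N26604 := rfl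
theorem L205663 : sm ge N26604 = N22134 := ded_10_2 (flp_a L173056) (flp_e L173016) L205661
theorem L205665 : sm gf N26604 = N22127 := ded_11_2 (flp_a L173020) (flp_f L173018) L205661
theorem L205667 : sm gg N26604 = N22339 := ded_12_2 L204627 L204625 L205661
theorem L205669 : sm gc N26604 = N22337 := ded_28_0 (flp_d L202200) L202204 L183385 (flp_c L175939) (flp_d L183925) (flp_c L200563) L200559 L205661
theorem L205671 : sm gc N22126 = N26605 := rfl
theorem L205673 : sm ga N26605 = N22337 := ded_8_1 (flp_c L205669) (flp_a L205661) L205671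
theorem L205675 : sm ge N26605 = N22135 := ded_19_2 (flp_c L173066) (flp_e L173016) L205671
theorem L205677 : sm gf N26605 = N22128 := ded_20_2 (flp_c L173024) (flp_f L173018) L205671
theorem L205679 : sm gg N26605 = N22338 := ded_21_2 L204629 L204625 L205671
theorem L205681 : sm gb N26605 = N26601 := ded_13_1 (flp_c L205641) (flp_b L173010) (flp_c L122040) L173014 L205671
theorem L205683 : sm gg N22127 = N26606 := rfl
theorem L205685 : sm ga N26606 = N22129 := ded_12_1 (flp_g L173028) L173020 L205683
theorem L205687 : sm gd N26606 = N22529 := ded_24_1 (flp_g L200573) L200569 L205683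
theorem L205689 : sm ge N26606 = N22136 := ded_26_1 (flp_g L173078) (flp_e L173022) L205683
theorem L205691 : sm gf N26484 = N26606 := ded_29_0 (flp_g L205683) (flp_f L205665) L205667 L204627
theorem L205693 : sm gb N26606 = N26483 := ded_17_1 L204619 (flp_b L172781) L205476 (flp_b L205486) L205683
theorem L205695 : sm gd N22128 = N26607 := rfl
theorem L205697 : sm gg N26607 = N23686 := ded_24_2 L184551 (flp_g L174561) L205695
theorem L205699 : sm ge N26607 = N26142 := ded_22_2 L202312 L170228 L166019 (flp_e L173026) L205695
theorem L205701 : sm gg N22131 = N26608 := rfl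
theorem L205703 : sm ga N26608 = N22343 := ded_12_1 (flp_g L204940) L204942 L205701
theorem L205705 : sm gc N26608 = N22133 := ded_21_1 (flp_g L173050) L173040 L205701
theorem L205707 : sm gd N26608 = N22304 := ded_24_1 (flp_g L174625) L174623 L205701
theorem L205709 : sm gf N22341 = N26608 := ded_29_0 (flp_g L205701) (flp_f L174593) (flp_g L174583) L174563
theorem L205711 : sm gb N26608 = N22302 := ded_17_1 (flp_g L174326) (flp_b L174328) (flp_g L173072) L173074 L205701
theorem L205713 : sm gd N22139 = N26609 := rfl
theorem L205715 : sm ga N26609 = N22140 := ded_9_1 (flp_d L173116) L173108 L205713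
theorem L205717 : sm gb N26609 = N26560 := ded_14_1 L205262 (flp_b L173114) L205713
theorem L205719 : sm gg N26609 = N22422 := ded_24_2 (flp_d L175192) (flp_g L173112) L205713
theorem L205721 : sm gc N22986 = N26609 := ded_28_0 (flp_d L205713) L173110 L151397 (flp_c L143357) (flp_d L143149) (flp_c L163467) (flp_d L191974) L191970
theorem L205723 : sm gf N22139 = N26610 := rfl
theorem L205725 : sm ga N26610 = N22141 := ded_11_1 (flp_f L173122) L173108 L205723
theorem L205727 : sm gc N26610 = N22421 := ded_20_1 (flp_f L175186) (flp_c L173110) L205723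
theorem L205729 : sm gg N26610 = N23014 := ded_29_3 L179825 L161914 (flp_g L173112) L205723
theorem L205731 : sm gb N26610 = N25063 := ded_16_1 (flp_f L194891) (flp_b L172511) L172523 (flp_b L173114) L205723
theorem L205733 : sm gf N22140 = N26611 := rfl
theorem L205735 : sm gd N26611 = N22141 := ded_23_1 (flp_f L173122) L173116 L205733
theorem L205737 : sm gg N26611 = N25018 := ded_29_3 L194470 L179719 (flp_g L173120) L205733
theorem L205739 : sm ga N22143 = N26612 := rfl
theorem L205741 : sm gc N26612 = N22172 := ded_8_2 (flp_a L173357) (flp_c L173136) L205739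
theorem L205743 : sm gd N26612 = N22145 := ded_9_2 (flp_a L173148) (flp_d L173134) L205739
theorem L205745 : sm gf N26612 = N22181 := ded_11_2 (flp_a L173395) (flp_f L173138) L205739
theorem L205747 : sm gb N26612 = N24296 := ded_7_2 L189315 (flp_b L184432) L152874 L184406 (flp_a L184414) (flp_b L175390) L123462 L173132 L205739
theorem L205749 : sm ge N22143 = N26613 := rfl
theorem L205751 : sm gb N26613 = N22144 := ded_15_1 (flp_e L173140) L173132 L205749
theorem L205753 : sm gc N26613 = N22173 := ded_19_1 (flp_e L173359) (flp_c L173136) L205749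
theorem L205755 : sm gf N26613 = N22180 := ded_25_2 L173393 (flp_f L173138) L205749
theorem L205757 : sm gd N22158 = N26614 := rfl
theorem L205759 : sm ga N26614 = N22159 := ded_9_1 (flp_d L173274) L173268 L205757
theorem L205761 : sm gf N26614 = N22368 := ded_23_2 L174809 (flp_f L173272) L205757
theorem L205763 : sm gg N26614 = N24399 := ded_24_2 (flp_d L190184) L190188 L205757
theorem L205765 : sm gc N26614 = N22377 := ded_32_14 (flp_b L190525) (flp_d L190523) (flp_c L184374) L152832 L120559 (flp_b L105497) L89897 (flp_c L88962) (flp_d L37544) (flp_c L17964) (flp_b L8747) L4469 (flp_d L4429) L4427 L4413 L2316 L2715 (flp_d L5104) L10090 L141660 (flp_c L9049) (flp_b L4595) L2376 L1220 L580 L65182 L625 (flp_d L1301) L2534 L4856 (flp_c L5725) (flp_b L142600) L142602 L142553 (flp_d L3438) (flp_c L1749) (flp_b L868) (flp_e L841) (flp_d L1687) (flp_c L3285) (flp_d L3297) L3295 L3329 L3331 L3391 L6590 L13426 L27936 L86202 L99393 L124854 (flp_c L147258) (flp_b L171974) L171976 L163151 (flp_d L111675) (flp_c L93269) (flp_b L46421) L22333 (flp_c L26718) (flp_d L85275) (flp_c L97282)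 L120631 L118878 L96986 L85155 (flp_d L46365) (flp_c L93129) L111461 (flp_d L155362) L186555 (flp_d L205283) L205281 (flp_b L173317) (flp_d L173313) (flp_c L173270) L205757
theorem L205767 : sm ge N22159 = N26615 := rfl
theorem L205769 : sm gb N26615 = N22162 := ded_15_1 (flp_e L173294) (flp_b L173276) L205767
theorem L205771 : sm gc N26615 = N26073 := ded_19_1 L201810 L174026 L205767
theorem L205773 : sm gf N26615 = N25873 := ded_25_2 L200397 L173278 L205767
theorem L205775 : sm gg N26615 = N26157 := ded_26_2 L202448 L174801 L205767
theorem L205777 : sm gg N22160 = N26616 := rfl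
theorem L205779 : sm ga N26616 = N22366 := ded_12_1 (flp_g L174791) (flp_a L173282) L205777
theorem L205781 : sm gc N26616 = N22170 := ded_21_1 (flp_g L173343) (flp_c L173284) L205777
theorem L205783 : sm gd N26616 = N22365 := ded_24_1 (flp_g L174783) (flp_d L173286) L205777
theorem L205785 : sm gf N24409 = N26616 := ded_29_0 (flp_g L205777) (flp_f L173280) L173290 L190190
theorem L205787 : sm gb N22161 = N26617 := rfl
theorem L205789 : sm gc N26617 = N22204 := ded_13_2 (flp_b L173586) L122308 (flp_b L122174) (flp_c L173292) L205787
theorem L205791 : sm gf N26617 = N22204 := ded_16_2 (flp_b L173586) L164003 (flp_b L174787) (flp_f L174793) L205787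
theorem L205793 : sm gg N26617 = N22163 := ded_17_2 (flp_b L173302) (flp_g L122160) L122146 L173290 L205787
theorem L205795 : sm ga N26617 = N26617 := ded_7_1 (flp_b L205787) L190190 (flp_b L190182) L158490 L109628 (flp_a L158490) L190182 (flp_a L190190) L205787
theorem L205796 : sm gc N22164 = N26618 := rfl
theorem L205798 : sm ga N26618 = N22166 := ded_8_1 (flp_c L173325) (flp_a L173315) L205796
theorem L205800 : sm gf N26618 = N26564 := ded_20_2 (flp_c L205295) (flp_f L173319) L205796
theorem L205802 : sm ge N22164 = N26619 := rfl
theorem L205804 : sm ga N26619 = N22167 := ded_10_1 (flp_e L173327) (flp_a L173315) L205802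
theorem L205806 : sm gb N26619 = N26557 := ded_15_1 L205240 (flp_b L173317) L205802
theorem L205808 : sm gf N26619 = N23453 := ded_25_2 L182887 (flp_f L173319) L205802
theorem L205810 : sm ge N22166 = N26620 := rfl
theorem L205812 : sm gc N26620 = N22167 := ded_19_1 (flp_e L173327) L173325 L205810
theorem L205814 : sm gg N22166 = N26621 := rfl
theorem L205816 : sm gc N26621 = N22169 := ded_21_1 (flp_g L173337) L173325 L205814
theorem L205818 : sm gb N26621 = N22539 := ded_17_1 (flp_g L175987) (flp_b L183685) (flp_g L184346) L184348 L205814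
theorem L205820 : sm gf N22167 = N26622 := rfl
theorem L205822 : sm ga N26622 = N23453 := ded_11_1 (flp_f L205808) L205804 L205820
theorem L205824 : sm ge N26622 = N22168 := ded_25_1 (flp_f L173331) L173327 L205820
theorem L205826 : sm gg N22167 = N26623 := rfl
theorem L205828 : sm ge N26623 = N22169 := ded_26_1 (flp_g L173337) L173327 L205826
theorem L205830 : sm gf N26623 = N25382 := ded_29_2 L197409 (flp_a L205822) (flp_f L205820) L205826
theorem L205832 : sm gb N26623 = N22219 := ded_17_1 (flp_g L173675) L122360 (flp_g L122188) (flp_b L173329) L205826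
theorem L205834 : sm gg N22168 = N26624 := rfl
theorem L205836 : sm ga N26624 = N26565 := ded_12_1 (flp_g L205302) (flp_a L173333) L205834
theorem L205838 : sm gc N26624 = N23707 := ded_21_1 L184740 (flp_c L183419) L205834
theorem L205840 : sm gd N26624 = N22170 := ded_24_1 (flp_g L173343) (flp_d L173335) L205834
theorem L205842 : sm gf N23569 = N26624 := ded_29_0 (flp_g L205834) (flp_f L173331) L173337 (flp_a L183709)
theorem L205844 : sm gb N26624 = N23709 := ded_17_1 L184752 L183417 (flp_g L183415) L183409 L205834
theorem L205846 : sm gd N22171 = N26625 := rfl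
theorem L205848 : sm ga N26625 = N22177 := ded_9_1 (flp_d L173379) (flp_a L173351) L205846
theorem L205850 : sm gg N26625 = N22229 := ded_24_2 (flp_d L173727) (flp_g L173355) L205846
theorem L205852 : sm ge N26625 = N22435 := ded_22_2 L175268 L123327 L122182 L173349 L205846
theorem L205854 : sm ge N22172 = N26626 := rfl
theorem L205856 : sm ga N26626 = N22173 := ded_10_1 (flp_e L173359) L173357 L205854
theorem L205858 : sm gg N22172 = N26627 := rfl
theorem L205860 : sm ga N26627 = N22175 := ded_12_1 (flp_g L173367) L173357 L205858
theorem L205862 : sm gd N26627 = N25148 := ded_24_1 L195663 (flp_d L179783) L205858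
theorem L205864 : sm gf N26627 = N22637 := ded_29_2 (flp_g L176839) L184906 (flp_f L184908) L205858
theorem L205866 : sm gb N26627 = N25165 := ded_17_1 (flp_g L195795) (flp_b L195566) (flp_g L195570) L184442 L205858
theorem L205868 : sm gd N22173 = N26628 := rfl
theorem L205870 : sm gb N26628 = N22177 := ded_14_1 (flp_d L173379) (flp_b L173361) L205868
theorem L205872 : sm gf N22173 = N26629 := rfl
theorem L205874 : sm gc N26629 = N22180 := ded_20_1 (flp_f L205755) L205753 L205872
theorem L205876 : sm ge N26629 = N22174 := ded_25_1 (flp_f L173363) L173359 L205872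
theorem L205878 : sm gg N22173 = N26630 := rfl
theorem L205880 : sm ge N26630 = N22175 := ded_26_1 (flp_g L173367) L173359 L205878
theorem L205882 : sm gb N26630 = N22245 := ded_17_1 (flp_g L173819) L122432 (flp_g L122204) (flp_b L173361) L205878
theorem L205884 : sm gb N22174 = N26631 := rfl
theorem L205886 : sm gc N26631 = N22179 := ded_13_2 (flp_b L173389) L122208 L122214 (flp_c L173365) L205884
theorem L205888 : sm gf N26631 = N22179 := ded_16_2 (flp_b L173389) (flp_f L122206) L122190 L173363 L205884
theorem L205890 : sm ga N26631 = N26631 := ded_7_1 (flp_b L205884) L184906 (flp_b L184902) L153351 L105792 (flp_a L153351) L184902 (flp_a L184906) L205884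
theorem L205891 : sm gf N22175 = N26632 := rfl
theorem L205893 : sm ga N26632 = N22637 := ded_11_1 (flp_f L205864) L205860 L205891
theorem L205895 : sm gd N26632 = N25159 := ded_23_1 L195755 L179809 L205891
theorem L205897 : sm gg N26632 = N23731 := ded_29_3 (flp_a L184906) (flp_f L173363) L173367 L205891
theorem L205899 : sm gb N23728 = N26632 := ded_17_5 L205897 (flp_b L184902) (flp_g L153349) L153337 L184890
theorem L205901 : sm gd N22176 = N26633 := rfl
theorem L205903 : sm ga N26633 = N22435 := ded_9_1 L175268 (flp_a L173373) L205901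
theorem L205905 : sm gg N26633 = N22248 := ded_24_2 (flp_d L173839) (flp_g L173377) L205901
theorem L205907 : sm ge N26633 = N22177 := ded_22_2 (flp_d L173379) (flp_e L122200) L122192 L173371 L205901
theorem L205909 : sm gc N22177 = N26634 := rfl
theorem L205911 : sm gg N26634 = N22250 := ded_21_2 (flp_c L173853) (flp_g L173381) L205909
theorem L205913 : sm gf N22177 = N26635 := rfl
theorem L205915 : sm gd N26635 = N22178 := ded_23_1 (flp_f L173383) L173379 L205913
theorem L205917 : sm gb N22178 = N26636 := rfl
theorem L205919 : sm ge N26636 = N22179 := ded_15_2 (flp_b L173389) (flp_e L173387) L205917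
theorem L205921 : sm ga N26636 = N26636 := ded_10_3 L205919 L205300 (flp_e L205919)
theorem L205922 : sm gg N22179 = N26637 := rfl
theorem L205924 : sm ga N26637 = N26637 := ded_12_1 (flp_g L205922) L205300 L205922
theorem L205925 : sm gb N26637 = N23037 := ded_17_1 (flp_g L180023) L143637 (flp_g L122402) L173389 L205922
theorem L205927 : sm ga N22180 = N26638 := rfl
theorem L205929 : sm ge N26638 = N22181 := ded_10_2 (flp_a L173395) (flp_e L173393) L205927
theorem L205931 : sm gg N22180 = N26639 := rfl
theorem L205933 : sm ge N26639 = N22182 := ded_26_1 (flp_g L173399) (flp_e L173393) L205931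
theorem L205935 : sm gb N26639 = N22948 := ded_17_1 (flp_g L179317) (flp_b L130370) (flp_g L122410) L173391 L205931
theorem L205937 : sm gg N22181 = N26640 := rfl
theorem L205939 : sm ga N26640 = N22182 := ded_12_1 (flp_g L173399) L173395 L205937
theorem L205941 : sm gc N26640 = N26632 := ded_21_1 L205897 L184904 L205937
theorem L205943 : sm gd N26640 = N22185 := ded_24_1 (flp_g L173415) (flp_d L173397) L205937
theorem L205945 : sm gf N26640 = N24421 := ded_29_2 L190285 L205739 L205745 L205937
theorem L205947 : sm gf N22182 = N26641 := rfl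
theorem L205949 : sm ga N26641 = N24421 := ded_11_1 (flp_f L205945) L205939 L205947
theorem L205951 : sm gc N26641 = N26627 := ded_20_1 L205864 L176837 L205947
theorem L205953 : sm gd N26641 = N22188 := ded_23_1 (flp_f L173449) (flp_d L173401) L205947
theorem L205955 : sm gg N26641 = N26612 := ded_29_3 (flp_a L205739) L173138 L173399 L205947
theorem L205957 : sm gb N26641 = N22713 := ded_16_1 L179955 (flp_b L179949) (flp_f L143659) (flp_b L173403) L205947
theorem L205959 : sm gf N22187 = N26642 := rfl
theorem L205961 : sm ga N26642 = N22263 := ded_11_1 L173925 (flp_a L173441) L205959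
theorem L205963 : sm gc N26642 = N22188 := ded_20_1 (flp_f L173449) (flp_c L173443) L205959
theorem L205965 : sm gd N26642 = N25149 := ded_23_1 L195673 (flp_d L173445) L205959
theorem L205967 : sm gg N26642 = N24204 := ded_29_3 L188657 L173156 L173439 L205959
theorem L205969 : sm gf N22192 = N26643 := rfl
theorem L205971 : sm ga N26643 = N26643 := ded_11_1 (flp_f L205969) L173497 L205969
theorem L205972 : sm gc N26643 = N24986 := ded_20_1 (flp_f L194180) (flp_c L173493) L205969
theorem L205974 : sm gg N24986 = N26643 := ded_29_3 L205971 (flp_f L205969) L173495 L194180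
theorem L205976 : sm gb N26643 = N25046 := ded_16_1 (flp_f L194733) (flp_b L173471) (flp_f L122252) L173491 L205969
theorem L205978 : sm gb N22195 = N26644 := rfl
theorem L205980 : sm gc N26644 = N24241 := ded_13_2 (flp_b L188913) L157367 L157371 (flp_c L173520) L205978
theorem L205982 : sm gf N26644 = N22196 := ded_16_2 (flp_b L173522) (flp_f L122266) L122262 L173518 L205978
theorem L205984 : sm ga N22196 = N26645 := rfl
theorem L205986 : sm gf N22199 = N26646 := rfl
theorem L205988 : sm ga N26646 = N23961 := ded_11_1 (flp_f L186941) L173546 L205986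
theorem L205990 : sm gc N26646 = N23960 := ded_20_1 (flp_f L186933) (flp_c L173544) L205986
theorem L205992 : sm gd N26646 = N24208 := ded_23_1 (flp_f L188685) L175045 L205986
theorem L205994 : sm gg N26646 = N24207 := ded_29_3 L188673 L188817 L188823 L205986
theorem L205996 : sm gb N26646 = N22315 := ded_16_1 (flp_f L174342) L171790 (flp_f L122292) L173542 L205986
theorem L205998 : sm gg N22205 = N26647 := rfl
theorem L206000 : sm ga N26647 = N24307 := ded_12_1 (flp_g L189395) L173599 L205998
theorem L206002 : sm gc N26647 = N24225 := ded_21_1 L188793 (flp_c L173595) L205998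
theorem L206004 : sm gd N26647 = N22208 := ded_24_1 (flp_g L173611) (flp_d L173593) L205998
theorem L206006 : sm gf N22274 = N26647 := ded_29_0 (flp_g L205998) L173597 L194011 L194013
theorem L206008 : sm gb N26647 = N22306 := ded_17_1 L174276 (flp_b L123167) (flp_g L163929) L173591 L205998
theorem L206010 : sm gg N22206 = N26648 := rfl
theorem L206012 : sm ga N26648 = N22208 := ded_12_1 (flp_g L173611) L173601 L206010
theorem L206014 : sm gc N26648 = N22265 := ded_21_1 (flp_g L174020) L174018 L206010
theorem L206016 : sm gd N26648 = N24307 := ded_24_1 (flp_g L189395) (flp_d L173603) L206010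
theorem L206018 : sm gf N22272 = N26648 := ded_29_0 (flp_g L206010) L174012 (flp_g L174006) (flp_a L173976)
theorem L206020 : sm gb N26648 = N24363 := ded_17_1 L194007 L194009 L190001 (flp_b L189967) L206010
theorem L206022 : sm ge N22209 = N26649 := rfl
theorem L206024 : sm gf N26649 = N22233 := ded_25_2 (flp_e L173767) (flp_f L173621) L206022
theorem L206026 : sm gg N26649 = N23398 := ded_26_2 L182535 (flp_g L173623) L206022
theorem L206028 : sm gg N22210 = N26650 := rfl
theorem L206030 : sm ga N26650 = N22473 := ded_12_1 (flp_g L175541) (flp_a L173627) L206028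
theorem L206032 : sm gc N26650 = N26607 := ded_21_1 L205697 L184555 L206028
theorem L206034 : sm gd N26650 = N22211 := ded_24_1 (flp_g L173631) L173625 L206028
theorem L206036 : sm gb N26650 = N22968 := ded_17_1 L179465 (flp_b L183213) (flp_g L173641) (flp_b L173629) L206028
theorem L206038 : sm gg N22212 = N26651 := rfl
theorem L206040 : sm ga N26651 = N22219 := ded_12_1 (flp_g L173675) (flp_a L173639) L206038
theorem L206042 : sm gc N26651 = N26649 := ded_21_1 L206026 (flp_c L182541) L206038
theorem L206044 : sm ge N26651 = N22213 := ded_26_1 (flp_g L173641) L173637 L206038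
theorem L206046 : sm gb N23130 = N26651 := ded_15_3 L206044 L183213 (flp_e L180729)
theorem L206048 : sm ga N22215 = N26652 := rfl
theorem L206050 : sm gc N26652 = N22225 := ded_8_2 (flp_a L173711) (flp_c L173653) L206048
theorem L206052 : sm gd N26652 = N22623 := ded_9_2 L176705 L176103 L206048
theorem L206054 : sm gg N26652 = N24990 := ded_12_2 L194215 L176063 L206048
theorem L206056 : sm gf N26652 = N23609 := ded_29_0 (flp_g L184171) L184169 L176063 L206048
theorem L206058 : sm ge N22215 = N26653 := rfl
theorem L206060 : sm gb N26653 = N22216 := ded_15_1 (flp_e L173655) L173651 L206058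
theorem L206062 : sm gc N26653 = N22226 := ded_19_1 (flp_e L173715) (flp_c L173653) L206058
theorem L206064 : sm gf N22215 = N26654 := rfl
theorem L206066 : sm ga N26654 = N23609 := ded_11_1 (flp_f L206056) (flp_a L206048) L206064
theorem L206068 : sm gc N26654 = N22227 := ded_20_1 (flp_f L173719) (flp_c L173653) L206064
theorem L206070 : sm gd N26654 = N25047 := ded_23_1 L194737 L176103 L206064
theorem L206072 : sm gb N26654 = N23619 := ded_16_1 L184087 (flp_b L171670) L171672 L173651 L206064
theorem L206074 : sm gd N22216 = N26655 := rfl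
theorem L206076 : sm gg N22216 = N26656 := rfl
theorem L206078 : sm ga N26656 = N26649 := ded_12_1 L206026 (flp_a L182539) L206076
theorem L206080 : sm gc N26656 = N22219 := ded_21_1 (flp_g L173675) (flp_c L173657) L206076
theorem L206082 : sm ge N26656 = N22217 := ded_26_1 (flp_g L173659) L173655 L206076
theorem L206084 : sm gf N26481 = N26656 := ded_29_0 (flp_g L206076) (flp_f L204589) L204591 (flp_a L204603)
theorem L206086 : sm gb N22540 = N26656 := ded_15_3 L206082 (flp_b L173669) (flp_e L175993)
theorem L206088 : sm gg N22218 = N26657 := rfl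
theorem L206090 : sm gc N26657 = N22233 := ded_21_1 (flp_g L204591) L204587 L206088
theorem L206092 : sm ge N26657 = N22220 := ded_26_1 (flp_g L173679) (flp_e L173673) L206088
theorem L206094 : sm gf N26651 = N26657 := ded_29_0 (flp_g L206088) (flp_f L173671) L173675 (flp_a L206040)
theorem L206096 : sm gb N24265 = N26657 := ded_13_5 L206090 L191551 (flp_c L191543) L163433 (flp_c L189087)
theorem L206098 : sm gf N22219 = N26658 := rfl
theorem L206100 : sm ga N26658 = N26657 := ded_11_1 (flp_f L206094) L206040 L206098
theorem L206102 : sm gc N26658 = N26481 := ded_20_1 L206084 L206080 L206098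
theorem L206104 : sm ge N26658 = N22221 := ded_25_1 (flp_f L173687) (flp_e L173677) L206098
theorem L206106 : sm gg N26658 = N26480 := ded_29_3 L204595 (flp_f L173671) L173675 L206098
theorem L206108 : sm gb N26658 = N25383 := ded_16_1 (flp_f L197411) L197407 (flp_f L205830) L205832 L206098
theorem L206110 : sm gd N22222 = N26659 := rfl
theorem L206112 : sm ga N26659 = N22348 := ded_9_1 (flp_d L174629) (flp_a L173699) L206110
theorem L206114 : sm gf N26659 = N22231 := ded_23_2 (flp_d L173743) (flp_f L173701) L206110
theorem L206116 : sm gc N22990 = N26659 := ded_28_0 (flp_d L206110) (flp_c L173697) L143601 (flp_c L143595) (flp_d L143233) L163260 (flp_d L191593) L191589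
theorem L206118 : sm gg N22222 = N26660 := rfl
theorem L206120 : sm ga N26660 = N22349 := ded_12_1 (flp_g L174635) (flp_a L173699) L206118
theorem L206122 : sm gc N26660 = N22223 := ded_21_1 (flp_g L173703) L173697 L206118
theorem L206124 : sm gf N23039 = N26660 := ded_29_0 (flp_g L206118) L173701 L162798 (flp_a L180043)
theorem L206126 : sm gb N26660 = N25096 := ded_17_1 L195189 (flp_b L173966) L173980 (flp_b L173988) L206118
theorem L206128 : sm gb N22225 = N26661 := rfl
theorem L206130 : sm gd N26661 = N22425 := ded_14_2 (flp_b L175214) (flp_d L173713) L206128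
theorem L206132 : sm ga N26661 = N23727 := ded_30_3 (flp_f L184888) (flp_c L183845) (flp_b L183843) (flp_a L152220) L143417 (flp_c L98756) L85874 L27087 (flp_f L80547) (flp_c L46687) L93759 L112478 L162416 (flp_c L184083) (flp_b L206072) L206066 (flp_f L206056) L206050 L206128
theorem L206134 : sm gc N23675 = N26661 := ded_30_1 (flp_b L206128) (flp_a L173711) L173719 (flp_c L206068) L206072 (flp_a L184081) L152494 (flp_c L112480) (flp_b L93759) (flp_a L47063) (flp_f L82681) (flp_c L27612) (flp_b L85874) (flp_a L98746) L123580 (flp_c L152222) L183843 L183847 L184496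
theorem L206136 : sm gf N23633 = N26661 := ded_11_0 L206132 (flp_f L184888) (flp_a L184177)
theorem L206138 : sm ge N22225 = N26662 := rfl
theorem L206140 : sm ga N26662 = N22226 := ded_10_1 (flp_e L173715) L173711 L206138
theorem L206142 : sm gf N22225 = N26663 := rfl
theorem L206144 : sm ga N26663 = N22227 := ded_11_1 (flp_f L173719) L173711 L206142
theorem L206146 : sm gc N26663 = N23609 := ded_20_1 (flp_f L206056) L206050 L206142
theorem L206148 : sm gd N26663 = N22427 := ded_23_1 (flp_f L175222) (flp_d L173713) L206142
theorem L206150 : sm gb N26663 = N22548 := ded_16_1 (flp_f L176037) L184173 L206136 (flp_b L206128) L206142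
theorem L206152 : sm gg N22225 = N26664 := rfl
theorem L206154 : sm ga N26664 = N22228 := ded_12_1 (flp_g L173723) L173711 L206152
theorem L206156 : sm gc N26664 = N24990 := ded_21_1 (flp_g L206054) L206050 L206152
theorem L206158 : sm gd N26664 = N22428 := ded_24_1 (flp_g L175228) (flp_d L173713) L206152
theorem L206160 : sm gb N22237 = N26664 := ded_31_14 (flp_g L206152) L206142 L206150 (flp_g L176031) (flp_f L124071) (flp_b L99395) L124868 L148848 L124463 L175621 (flp_f L205042) L205046 (flp_g L173787) L173781
theorem L206162 : sm gd N22226 = N26665 := rfl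
theorem L206164 : sm gb N26665 = N22229 := ded_14_1 (flp_d L173727) (flp_b L173717) L206162
theorem L206166 : sm ge N26665 = N22429 := ded_22_2 (flp_d L175234) (flp_e L123307) (flp_d L122386) L173715 L206162
theorem L206168 : sm gf N22226 = N26666 := rfl
theorem L206170 : sm ge N26666 = N22227 := ded_25_1 (flp_f L173719) L173715 L206168
theorem L206172 : sm gg N22226 = N26667 := rfl
theorem L206174 : sm ge N26667 = N22228 := ded_26_1 (flp_g L173723) L173715 L206172
theorem L206176 : sm gg N22227 = N26668 := rfl
theorem L206178 : sm gd N26668 = N22432 := ded_24_1 (flp_g L175250) (flp_d L173721) L206176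
theorem L206180 : sm gf N26664 = N26668 := ded_29_0 (flp_g L206176) (flp_f L173719) L173723 (flp_a L206154)
theorem L206182 : sm gf N22228 = N26669 := rfl
theorem L206184 : sm ga N26669 = N26668 := ded_11_1 (flp_f L206180) L206154 L206182
theorem L206186 : sm gc N26669 = N23632 := ded_20_1 L184169 (flp_c L176065) L206182
theorem L206188 : sm gd N26669 = N22433 := ded_23_1 (flp_f L175256) (flp_d L173725) L206182
theorem L206190 : sm gg N26669 = N26663 := ded_29_3 L206144 (flp_f L173719) L173723 L206182
theorem L206192 : sm gb N26669 = N23630 := ded_16_1 (flp_f L184151) (flp_b L183671) (flp_f L183675) L183663 L206182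
theorem L206194 : sm gc N22229 = N26670 := rfl
theorem L206196 : sm ga N26670 = N22250 := ded_8_1 (flp_c L173853) (flp_a L173729) L206194
theorem L206198 : sm ge N26670 = N22434 := ded_19_2 (flp_c L175264) (flp_e L173731) L206194
theorem L206200 : sm gd N26040 = N26670 := ded_28_1 (flp_c L206194) (flp_d L173727) L122392 (flp_d L117437) (flp_c L169569) L201428 L201430 L201584
theorem L206202 : sm gf N22229 = N26671 := rfl
theorem L206204 : sm ga N26671 = N22251 := ded_11_1 (flp_f L173855) (flp_a L173729) L206202
theorem L206206 : sm gd N26671 = N22230 := ded_23_1 (flp_f L173733) L173727 L206202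
theorem L206208 : sm ge N26671 = N22382 := ded_25_1 L174882 (flp_e L173731) L206202
theorem L206210 : sm gg N26635 = N26671 := ded_29_1 (flp_f L206202) (flp_g L205850) L205848 L205913
theorem L206212 : sm ga N22234 = N26672 := rfl
theorem L206214 : sm gc N26672 = N26095 := ded_8_2 (flp_a L201994) L178587 L206212
theorem L206216 : sm gb N26672 = N23727 := ded_7_2 (flp_a L206132) (flp_b L206128) (flp_a L173711) (flp_b L122384) L98001 L98021 L122422 L173769 L206212
theorem L206218 : sm ge N26100 = N26672 := ded_19_0 L206214 L201970 (flp_c L202002)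
theorem L206220 : sm gg N23674 = N26672 := ded_21_0 L206214 (flp_g L201966) L184492
theorem L206222 : sm gf N23730 = N26672 := ded_16_0 L206216 (flp_f L184888) (flp_b L153337) L153343 L184900
theorem L206224 : sm gd N26672 = N23676 := ded_24_1 (flp_g L184498) L184488 L206220
theorem L206226 : sm gd N22234 = N26673 := rfl
theorem L206228 : sm ga N26673 = N23676 := ded_9_1 (flp_d L206224) (flp_a L206212) L206226
theorem L206230 : sm gb N26673 = N22235 := ded_14_1 (flp_d L173771) L173769 L206226
theorem L206232 : sm gg N23587 = N26673 := ded_12_0 L206228 (flp_g L184498) (flp_a L183847)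
theorem L206234 : sm gc N26673 = N23728 := ded_21_1 (flp_g L184890) (flp_c L183845) L206232
theorem L206236 : sm ge N22234 = N26674 := rfl
theorem L206238 : sm ga N26674 = N26100 := ded_10_1 L206218 (flp_a L206212) L206236
theorem L206240 : sm gb N26674 = N22236 := ded_15_1 (flp_e L173775) L173769 L206236
theorem L206242 : sm gc N26674 = N26098 := ded_19_1 L201992 L178587 L206236
theorem L206244 : sm gg N26097 = N26674 := ded_12_0 L206238 (flp_g L202000) (flp_a L201980)
theorem L206246 : sm gf N22234 = N26675 := rfl
theorem L206248 : sm ga N26675 = N23730 := ded_11_1 L206222 (flp_a L206212) L206246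
theorem L206250 : sm gb N26675 = N26668 := ded_16_1 (flp_f L206180) (flp_b L206160) (flp_f L173781) L173769 L206246
theorem L206252 : sm gg N22234 = N26676 := rfl
theorem L206254 : sm ga N26676 = N23674 := ded_12_1 L206220 (flp_a L206212) L206252
theorem L206256 : sm gc N26676 = N26094 := ded_21_1 (flp_g L201996) L178587 L206252
theorem L206258 : sm gd N26676 = N23587 := ded_24_1 L206232 (flp_d L206226) L206252
theorem L206260 : sm ge N26676 = N26097 := ded_26_1 L206244 (flp_e L206236) L206252
theorem L206262 : sm gb N26676 = N23588 := ded_17_1 (flp_g L205044) L205046 (flp_g L173787) L173769 L206252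
theorem L206264 : sm gc N22235 = N26677 := rfl
theorem L206266 : sm ga N26677 = N22239 := ded_8_1 (flp_c L173793) (flp_a L173773) L206264
theorem L206268 : sm gb N26677 = N26640 := ded_13_1 L205941 (flp_b L205899) (flp_c L206234) L206230 L206264
theorem L206270 : sm gd N26677 = N22577 := ded_28_7 L176284 L175685 L163629 L124285 L99117 (flp_c L122424) L173771 L206264
theorem L206272 : sm gf N24971 = N26677 := ded_11_0 L206266 (flp_f L175663) (flp_a L194053)
theorem L206274 : sm gg N23549 = N26677 := ded_29_3 L206266 (flp_f L175663) (flp_g L183841) L183839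
theorem L206276 : sm ge N22235 = N26678 := rfl
theorem L206278 : sm ga N26678 = N22240 := ded_10_1 (flp_e L173797) (flp_a L173773) L206276
theorem L206280 : sm gf N22235 = N26679 := rfl
theorem L206282 : sm ga N26679 = N22241 := ded_11_1 (flp_f L173801) (flp_a L173773) L206280
theorem L206284 : sm gc N26679 = N24971 := ded_20_1 L206272 (flp_c L206264) L206280
theorem L206286 : sm gd N26679 = N22237 := ded_23_1 (flp_f L173781) L173771 L206280
theorem L206288 : sm gb N22428 = N26679 := ded_7_0 L206282 L183779 (flp_a L183771) (flp_b L152114) L105137 (flp_b L105127) (flp_a L152062) L152066 (flp_a L175230)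
theorem L206290 : sm gg N22235 = N26680 := rfl
theorem L206292 : sm ga N26680 = N22242 := ded_12_1 (flp_g L173805) (flp_a L173773) L206290
theorem L206294 : sm gc N26680 = N23549 := ded_21_1 L206274 (flp_c L206264) L206290
theorem L206296 : sm gd N26680 = N22238 := ded_24_1 (flp_g L173787) L173771 L206290
theorem L206298 : sm gb N26680 = N22489 := ded_17_1 L175643 L183843 L206232 L206230 L206290
theorem L206300 : sm gd N22236 = N26681 := rfl
theorem L206302 : sm ga N26681 = N22243 := ded_9_1 (flp_d L173809) (flp_a L173777) L206300
theorem L206304 : sm gf N22236 = N26682 := rfl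
theorem L206306 : sm ga N26682 = N22244 := ded_11_1 (flp_f L173813) (flp_a L173777) L206304
theorem L206308 : sm gc N26682 = N22500 := ded_20_1 (flp_f L175723) (flp_c L173779) L206304
theorem L206310 : sm ge N26682 = N22237 := ded_25_1 (flp_f L173781) L173775 L206304
theorem L206312 : sm gg N22236 = N26683 := rfl
theorem L206314 : sm ga N26683 = N22245 := ded_12_1 (flp_g L173819) (flp_a L173777) L206312
theorem L206316 : sm gc N26683 = N22501 := ded_21_1 (flp_g L175729) (flp_c L173779) L206312
theorem L206318 : sm ge N26683 = N22238 := ded_26_1 (flp_g L173787) L173775 L206312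
theorem L206320 : sm ge N22239 = N26684 := rfl
theorem L206322 : sm gb N26684 = N22415 := ded_15_1 (flp_e L175142) (flp_b L173795) L206320
theorem L206324 : sm gc N26684 = N22240 := ded_19_1 (flp_e L173797) L173793 L206320
theorem L206326 : sm gg N22239 = N26685 := rfl
theorem L206328 : sm ga N26685 = N23549 := ded_12_1 L206274 L206266 L206326
theorem L206330 : sm gc N26685 = N22242 := ded_21_1 (flp_g L173805) L173793 L206326
theorem L206332 : sm gd N26685 = N25026 := ded_24_1 L194546 L175687 L206326
theorem L206334 : sm gb N26685 = N23560 := ded_17_1 L183645 (flp_b L171626) L171630 (flp_b L173795) L206326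
theorem L206336 : sm gd N22240 = N26686 := rfl
theorem L206338 : sm gb N26686 = N22248 := ded_14_1 (flp_d L173839) (flp_b L173799) L206336
theorem L206340 : sm ge N26686 = N22243 := ded_22_2 (flp_d L173809) (flp_e L122430) L122426 L173797 L206336
theorem L206342 : sm gf N22240 = N26687 := rfl
theorem L206344 : sm ge N26687 = N22241 := ded_25_1 (flp_f L173801) L173797 L206342
theorem L206346 : sm gg N22240 = N26688 := rfl
theorem L206348 : sm ge N26688 = N22242 := ded_26_1 (flp_g L173805) L173797 L206346
theorem L206350 : sm gg N22241 = N26689 := rfl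
theorem L206352 : sm gc N26689 = N23586 := ded_21_1 L183841 (flp_c L175665) L206350
theorem L206354 : sm gd N26689 = N22246 := ded_24_1 (flp_g L173825) (flp_d L173803) L206350
theorem L206356 : sm gf N26680 = N26689 := ded_29_0 (flp_g L206350) (flp_f L173801) L173805 (flp_a L206292)
theorem L206358 : sm gb N26689 = N23578 := ded_17_1 (flp_g L183765) L183745 L183777 (flp_b L183779) L206350
theorem L206360 : sm gf N22242 = N26690 := rfl
theorem L206362 : sm ga N26690 = N26689 := ded_11_1 (flp_f L206356) L206292 L206360
theorem L206364 : sm gd N26690 = N22247 := ded_23_1 (flp_f L173831) (flp_d L173807) L206360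
theorem L206366 : sm gg N26690 = N26679 := ded_29_3 L206282 (flp_f L173801) L173805 L206360
theorem L206368 : sm gc N22243 = N26691 := rfl
theorem L206370 : sm gf N22243 = N26692 := rfl
theorem L206372 : sm gd N26692 = N22244 := ded_23_1 (flp_f L173813) L173809 L206370
theorem L206374 : sm gg N22243 = N26693 := rfl
theorem L206376 : sm gd N26693 = N22245 := ded_24_1 (flp_g L173819) L173809 L206374
theorem L206378 : sm gc N26346 = N26693 := ded_28_2 L206376 L173821 (flp_d L175743) (flp_c L180899) (flp_d L192587) (flp_a L203707) (flp_c L203705) (flp_d L203697)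
theorem L206380 : N26691 = N26362 := coi_21_0 L203811 L206378 (flp_g L206374) L206368
theorem L206381 : N26691 = N26362 := eqc rfl L206380 rfl
theorem L206382 : sm gc N26362 = N22243 := trfs L206381 (flp_c L206368) rfl
theorem L206384 : sm gb N22250 = N26035 := ded_13_3 L201554 L203807 L206382 L173811 L173853
theorem L206386 : sm gb N26026 = N26256 := ded_16_3 (flp_f L203141) L203125 (flp_f L203129) L206384 (flp_f L201556)
theorem L206388 : sm gc N26434 = N26359 := ded_13_4 (flp_b L203785) (flp_c L201514) L206386 L203145 L204281
theorem L206390 : sm gb N26267 = N22434 := ded_17_3 L201492 (flp_b L201488) L201510 L206386 (flp_g L203201)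
theorem L206392 : sm gc N22429 = N26439 := ded_13_4 (flp_b L204317) (flp_c L203199) L206390 (flp_c L175264) (flp_b L175236)
theorem L206394 : sm gg N22244 = N26694 := rfl
theorem L206396 : sm gc N26694 = N22505 := ded_21_1 (flp_g L175749) (flp_c L173815) L206394
theorem L206398 : sm ge N26694 = N22246 := ded_26_1 (flp_g L173825) (flp_e L173817) L206394
theorem L206400 : sm gf N26683 = N26694 := ded_29_0 (flp_g L206394) (flp_f L173813) L173819 (flp_a L206314)
theorem L206402 : sm gf N22245 = N26695 := rfl
theorem L206404 : sm ga N26695 = N26694 := ded_11_1 (flp_f L206400) L206314 L206402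
theorem L206406 : sm gc N26695 = N22506 := ded_20_1 (flp_f L175757) (flp_c L173821) L206402
theorem L206408 : sm ge N26695 = N22247 := ded_25_1 (flp_f L173831) (flp_e L173823) L206402
theorem L206410 : sm gg N26695 = N26682 := ded_29_3 L206306 (flp_f L173813) L173819 L206402
theorem L206412 : sm gb N22247 = N26696 := rfl
theorem L206414 : sm gf N26696 = N23728 := ded_16_2 L205899 (flp_f L205891) L173369 L173831 L206412
theorem L206416 : sm gg N26696 = N26661 := ded_17_2 (flp_b L206128) L206152 (flp_b L206160) (flp_g L173837) L206412
theorem L206418 : sm gc N22248 = N26697 := rfl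
theorem L206420 : sm ga N26697 = N22434 := ded_8_1 (flp_c L175264) (flp_a L173841) L206418
theorem L206422 : sm ge N26697 = N22250 := ded_19_2 (flp_c L173853) (flp_e L173843) L206418
theorem L206424 : sm gd N26271 = N26697 := ded_28_1 (flp_c L206418) (flp_d L173839) L122448 (flp_d L118051) (flp_c L170584) L203065 L203067 L203221
theorem L206426 : sm gf N22248 = N26698 := rfl
theorem L206428 : sm ga N26698 = N22382 := ded_11_1 L174882 (flp_a L173841) L206426
theorem L206430 : sm gd N26698 = N22249 := ded_23_1 (flp_f L173845) L173839 L206426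
theorem L206432 : sm ge N26698 = N22251 := ded_25_1 (flp_f L173855) (flp_e L173843) L206426
theorem L206434 : sm gd N22250 = N26699 := rfl
theorem L206436 : sm ga N26699 = N26040 := ded_9_1 L206200 L206196 L206434
theorem L206438 : sm gc N26013 = N26699 := ded_28_0 (flp_d L206434) (flp_c L173853) (flp_d L122458) L98033 (flp_d L96287) (flp_c L117467) L169645 (flp_a L201430)
theorem L206440 : sm gg N22251 = N26700 := rfl
theorem L206442 : sm ga N26700 = N26635 := ded_12_1 L206210 L206204 L206440
theorem L206444 : sm gd N26700 = N22252 := ded_24_1 (flp_g L173859) (flp_d L173857) L206440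
theorem L206446 : sm gf N26625 = N26700 := ded_29_0 (flp_g L206440) (flp_f L173855) (flp_g L173381) (flp_a L205848)
theorem L206448 : sm gb N22252 = N26701 := rfl
theorem L206450 : sm ge N26701 = N22253 := ded_15_2 (flp_b L173869) (flp_e L173865) L206448
theorem L206452 : sm gc N26622 = N26701 := ded_19_3 L206450 (flp_c L183419) (flp_e L205824)
theorem L206454 : sm gf N26620 = N26701 := ded_25_0 L206450 L183423 L205810
theorem L206456 : sm ga N22254 = N26702 := rfl
theorem L206458 : sm ge N26702 = N22255 := ded_10_2 (flp_a L173875) (flp_e L173873) L206456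
theorem L206460 : sm gg N26702 = N23200 := ded_12_2 L195007 L195005 L206456
theorem L206462 : sm gb N23194 = N26702 := ded_15_3 L206458 (flp_b L173881) (flp_e L181177)
theorem L206464 : sm gc N22254 = N26703 := rfl
theorem L206466 : sm ge N26703 = N22256 := ded_19_2 (flp_c L173883) (flp_e L173873) L206464
theorem L206468 : sm gb N26703 = N26622 := ded_13_1 L206452 (flp_b L206448) L173863 L173871 L206464
theorem L206470 : sm gf N22254 = N26703 := ded_25_0 L206466 L183413 (flp_e L173873)
theorem L206472 : sm gc N22255 = N26704 := rfl
theorem L206474 : sm ga N26704 = N22256 := ded_8_1 (flp_c L173883) L173875 L206472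
theorem L206476 : sm gg N26704 = N23533 := ded_21_2 (flp_c L183389) (flp_g L173879) L206472
theorem L206478 : sm gb N26704 = N23542 := ded_13_1 (flp_c L183499) (flp_b L151956) (flp_c L151876) L173881 L206472
theorem L206480 : sm gd N22259 = N26704 := ded_9_0 L206474 L183411 (flp_a L173899)
theorem L206482 : sm gf N22255 = N26704 := ded_11_0 L206474 L183413 L173875
theorem L206484 : sm gd N22258 = N26705 := rfl
theorem L206486 : sm ga N26705 = N22260 := ded_9_1 (flp_d L173903) (flp_a L173893) L206484
theorem L206488 : sm gb N26705 = N23948 := ded_14_1 L186807 (flp_b L173895) L206484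
theorem L206490 : sm ge N25226 = N26705 := ded_10_0 L206486 (flp_e L173907) L196317
theorem L206492 : sm gf N22258 = N26706 := rfl
theorem L206494 : sm ga N26706 = N22261 := ded_11_1 (flp_f L173909) (flp_a L173893) L206492
theorem L206496 : sm gc N26706 = N22259 := ded_20_1 (flp_f L173897) L173891 L206492
theorem L206498 : sm gg N25081 = N26706 := ded_29_1 (flp_f L206492) (flp_g L195037) L195035 L195047
theorem L206500 : sm gb N26706 = N26551 := ded_16_1 L205175 L194173 (flp_f L186811) (flp_b L173895) L206492
theorem L206502 : sm gc N22260 = N26707 := rfl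
theorem L206504 : sm ge N26707 = N25224 := ded_19_2 L196303 L173907 L206502
theorem L206506 : sm gb N26707 = N25223 := ded_13_1 (flp_c L196295) (flp_b L165292) L163762 (flp_b L173905) L206502
theorem L206508 : sm gd N26707 = N26706 := ded_28_7 L206494 L173911 (flp_d L183411) (flp_c L173883) L122486 L122490 L173903 L206502
theorem L206510 : sm gf N26705 = N26707 := ded_30_0 (flp_c L206502) L173905 L163772 L114428 (flp_c L94853) (flp_b L84049) (flp_a L41328) L41332 L23705 L78063 L11404 L11418 (flp_c L23721) L84049 L94849 (flp_f L114422) L163762 (flp_b L173905) (flp_a L206486)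
theorem L206512 : sm gf N22260 = N26708 := rfl
theorem L206514 : sm ga N26708 = N26707 := ded_11_1 (flp_f L206510) L206486 L206512
theorem L206516 : sm gc N26708 = N26705 := ded_20_1 L206510 (flp_c L206502) L206512
theorem L206518 : sm gd N26708 = N22261 := ded_23_1 (flp_f L173909) L173903 L206512
theorem L206520 : sm ge N26708 = N24252 := ded_25_1 L189013 L173907 L206512
theorem L206522 : sm gb N26708 = N24242 := ded_16_1 L188923 L161814 L163774 (flp_b L173905) L206512
theorem L206524 : sm gg N22261 = N26709 := rfl
theorem L206526 : sm ga N26709 = N25081 := ded_12_1 L206498 L206494 L206524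
theorem L206528 : sm gc N26709 = N22262 := ded_21_1 (flp_g L173913) (flp_c L173911) L206524
theorem L206530 : sm gf N25079 = N26709 := ded_29_0 (flp_g L206524) (flp_f L173909) (flp_g L162510) (flp_a L195035)
theorem L206532 : sm ge N22264 = N26710 := rfl
theorem L206534 : sm ga N26710 = N24964 := ded_10_1 (flp_e L193981) (flp_a L173931) L206532
theorem L206536 : sm gb N26710 = N24991 := ded_15_1 (flp_e L194217) (flp_b L173933) L206532
theorem L206538 : sm gc N26710 = N23097 := ded_19_1 L180509 L173939 L206532
theorem L206540 : sm gf N26710 = N26590 := ded_25_2 (flp_e L205546) (flp_f L173935) L206532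
theorem L206542 : sm gg N26710 = N23095 := ded_26_2 L180497 (flp_g L173937) L206532
theorem L206544 : sm ga N22266 = N26711 := rfl
theorem L206546 : sm ge N26711 = N22267 := ded_10_2 (flp_a L173951) (flp_e L173949) L206544
theorem L206548 : sm gc N22266 = N26712 := rfl
theorem L206550 : sm ge N26712 = N22268 := ded_19_2 (flp_c L173955) (flp_e L173949) L206548
theorem L206552 : sm gf N26712 = N23891 := ded_20_2 (flp_c L186313) L182585 L206548
theorem L206554 : sm gb N26712 = N26712 := ded_13_1 (flp_c L206548) (flp_b L173947) L122569 L173947 L206548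
theorem L206555 : sm gd N23886 = N26712 := ded_23_3 L206552 (flp_d L186309) (flp_f L186276)
theorem L206557 : sm gg N22266 = N26713 := rfl
theorem L206559 : sm ge N26713 = N22269 := ded_26_1 (flp_g L173958) (flp_e L173949) L206557
theorem L206561 : sm gb N22267 = N26714 := rfl
theorem L206563 : sm gd N26714 = N22271 := ded_14_2 (flp_b L173966) (flp_d L173953) L206561
theorem L206565 : sm gf N26714 = N24373 := ded_16_2 L189917 L189933 (flp_b L189941) L184612 L206561
theorem L206567 : sm ga N26714 = N25094 := ded_7_1 L195171 (flp_a L184035) L184041 L161978 (flp_b L161972) L112095 L122577 L173951 L206561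
theorem L206569 : sm gc N22267 = N26715 := rfl
theorem L206571 : sm ga N26715 = N22268 := ded_8_1 (flp_c L173955) L173951 L206569
theorem L206573 : sm gf N26715 = N22719 := ded_20_2 (flp_c L184614) L184612 L206569
theorem L206575 : sm gd N22720 = N26715 := ded_28_1 (flp_c L206569) L173953 L173974 (flp_d L194017) L194015 (flp_d L184951) (flp_a L188583) L188577
theorem L206577 : sm gg N22267 = N26716 := rfl
theorem L206579 : sm ga N26716 = N22269 := ded_12_1 (flp_g L173958) L173951 L206577
theorem L206581 : sm gd N26716 = N22273 := ded_24_1 (flp_g L173980) (flp_d L173953) L206577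
theorem L206583 : sm gf N26716 = N23695 := ded_29_2 (flp_g L184624) L184608 L184612 L206577
theorem L206585 : sm gb N26659 = N26716 := ded_31_14 (flp_g L206577) (flp_f L184612) L189941 (flp_g L189939) (flp_f L184754) (flp_b L153245) (flp_g L105720) (flp_f L105314) L152492 L184091 (flp_f L184099) L194655 L194661 (flp_f L206114)
theorem L206587 : sm gd N22268 = N26717 := rfl
theorem L206589 : sm ga N26717 = N22720 := ded_9_1 L206575 L206571 L206587
theorem L206591 : sm gb N26717 = N26717 := ded_14_1 (flp_d L206587) L173957 L206587
theorem L206592 : sm gf N26717 = N22718 := ded_23_2 L184622 L184620 L206587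
theorem L206594 : sm ge N26717 = N23942 := ded_22_2 L186742 (flp_e L186274) L206555 L206550 L206587
theorem L206596 : sm gc N23738 = N26717 := ded_28_0 (flp_d L206587) (flp_c L173955) L122579 L122603 L174002 L174076 (flp_d L188573) L188583
theorem L206598 : sm gg N23925 = N26717 := ded_29_3 L206589 (flp_f L177477) L177481 (flp_f L186589)
theorem L206600 : sm gg N22268 = N26718 := rfl
theorem L206602 : sm gc N26718 = N22269 := ded_21_1 (flp_g L173958) L173955 L206600
theorem L206604 : sm gd N26718 = N23925 := ded_24_1 L206598 (flp_d L206587) L206600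
theorem L206606 : sm gf N22269 = N26719 := rfl
theorem L206608 : sm ga N26719 = N23695 := ded_11_1 (flp_f L206583) L206579 L206606
theorem L206610 : sm gd N26719 = N22276 := ded_23_1 (flp_f L174014) (flp_d L173960) L206606
theorem L206612 : sm gg N26719 = N23693 := ded_29_3 (flp_a L184608) L153141 L173958 L206606
theorem L206614 : sm gb N26719 = N23626 := ded_16_1 (flp_f L184125) L184113 (flp_f L184119) L174834 L206606
theorem L206616 : sm gc N22270 = N26720 := rfl
theorem L206618 : sm ga N26720 = N22437 := ded_8_1 (flp_c L183425) L174856 L206616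
theorem L206620 : sm gb N26720 = N26720 := ded_13_1 (flp_c L206616) (flp_b L173962) L122583 L173962 L206616
theorem L206621 : sm gd N26720 = N26564 := ded_28_7 L205297 (flp_c L183419) L173335 (flp_c L173284) L173286 L172879 (flp_d L173964) L206616
theorem L206623 : sm gf N22270 = N26721 := rfl
theorem L206625 : sm gd N26721 = N22277 := ded_23_1 (flp_f L174024) (flp_d L173964) L206623
theorem L206627 : sm ge N26721 = N25394 := ded_25_1 L197509 L183026 L206623
theorem L206629 : sm gg N26721 = N22375 := ded_29_3 (flp_a L184117) (flp_f L184119) L174836 L206623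
theorem L206631 : sm gb N26721 = N23048 := ded_16_1 (flp_f L180123) (flp_b L143763) L150397 L173962 L206623
theorem L206633 : sm ge N22274 = N26722 := rfl
theorem L206635 : sm gb N26722 = N22283 := ded_15_1 (flp_e L174080) (flp_b L174004) L206633
theorem L206637 : sm gc N26722 = N24007 := ded_19_1 L187289 (flp_c L174076) L206633
theorem L206639 : sm gb N22275 = N26723 := rfl
theorem L206641 : sm gc N26723 = N24398 := ded_13_2 L190103 L174781 (flp_b L173990) (flp_c L174010) L206639
theorem L206643 : sm gf N26723 = N24377 := ded_16_2 (flp_b L189943) L189959 (flp_b L189967) L174012 L206639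
theorem L206645 : sm gg N26723 = N22285 := ded_17_2 (flp_b L174094) (flp_g L122629) (flp_b L122605) L174006 L206639
theorem L206647 : sm ga N26723 = N22314 := ded_7_1 (flp_b L174332) L122802 L98270 (flp_a L98284) L122830 L122832 L173570 (flp_a L174008) L206639
theorem L206649 : sm ge N22281 = N26724 := rfl
theorem L206651 : sm ga N26724 = N22283 := ded_10_1 (flp_e L174080) (flp_a L174058) L206649
theorem L206653 : sm gb N26724 = N25881 := ded_15_1 L200445 (flp_b L174060) L206649
theorem L206655 : sm gc N26724 = N24650 := ded_19_1 L191922 L174066 L206649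
theorem L206657 : sm gf N26724 = N22319 := ded_25_2 (flp_e L174370) (flp_f L174062) L206649
theorem L206659 : sm gg N26724 = N24646 := ded_26_2 L191892 (flp_g L174064) L206649
theorem L206661 : sm ge N22282 = N26725 := rfl
theorem L206663 : sm ga N26725 = N24650 := ded_10_1 L191922 (flp_a L174070) L206661
theorem L206665 : sm gb N26725 = N24008 := ded_15_1 L187299 (flp_b L174074) L206661
theorem L206667 : sm gc N26725 = N22283 := ded_19_1 (flp_e L174080) L174068 L206661
theorem L206669 : sm gf N26725 = N22322 := ded_25_2 (flp_e L174390) (flp_f L174072) L206661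
theorem L206671 : sm gg N26725 = N24648 := ded_26_2 L191906 L174078 L206661
theorem L206673 : sm gg N22283 = N26726 := rfl
theorem L206675 : sm ga N26726 = N24646 := ded_12_1 (flp_g L206659) L206651 L206673
theorem L206677 : sm gc N26726 = N24648 := ded_21_1 (flp_g L206671) L206667 L206673
theorem L206679 : sm ge N26726 = N22284 := ded_26_1 (flp_g L174084) L174080 L206673
theorem L206681 : sm gf N26573 = N26726 := ded_29_0 (flp_g L206673) L174082 L174394 (flp_a L205378)
theorem L206683 : sm gb N22284 = N26727 := rfl
theorem L206685 : sm gd N26727 = N22285 := ded_14_2 (flp_b L174094) (flp_d L174090) L206683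
theorem L206687 : sm ga N26727 = N24206 := ded_7_1 (flp_b L188667) (flp_a L188661) L205368 (flp_a L205364) (flp_b L172589) L121729 (flp_b L163286) (flp_a L174086) L206683
theorem L206689 : sm gc N26727 = N24209 := ded_28_2 (flp_d L190501) L190497 (flp_d L188829) (flp_c L188815) (flp_d L205370) (flp_a L205364) (flp_c L174096) (flp_d L206685)
theorem L206691 : sm ga N22285 = N26728 := rfl
theorem L206693 : sm gc N26728 = N26572 := ded_8_2 (flp_a L205364) (flp_c L174096) L206691
theorem L206695 : sm gd N26728 = N24206 := ded_9_2 (flp_a L206687) L206685 L206691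
theorem L206697 : sm gf N26728 = N26585 := ded_11_2 L205504 L190180 L206691
theorem L206699 : sm gg N26728 = N22314 := ded_12_2 (flp_a L206647) L206645 L206691
theorem L206701 : sm gb N26728 = N24207 := ded_7_2 L188673 L188813 L205372 (flp_b L205360) L172583 (flp_b L161430) (flp_a L122631) L174094 L206691
theorem L206703 : sm ga N22290 = N26729 := rfl
theorem L206705 : sm gc N26729 = N25283 := ded_8_2 L196816 L186489 L206703
theorem L206707 : sm gd N26729 = N22291 := ded_9_2 (flp_a L174142) (flp_d L174139) L206703
theorem L206709 : sm ge N26729 = N26525 := ded_10_2 L204956 L204892 L206703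
theorem L206711 : sm gf N26729 = N26729 := ded_11_2 (flp_a L206703) L174141 L206703
theorem L206712 : sm gb N26729 = N22508 := ded_7_2 L175775 (flp_b L174581) (flp_a L205703) L205711 (flp_a L174236) (flp_b L122712) (flp_a L122662) L174137 L206703
theorem L206714 : sm gg N22310 = N26729 := ded_24_0 L206707 L174158 (flp_d L174304)
theorem L206716 : sm gg N22290 = N26730 := rfl
theorem L206718 : sm ga N26730 = N22310 := ded_12_1 L206714 (flp_a L206703) L206716
theorem L206720 : sm gc N26730 = N25266 := ded_21_1 L196675 L186489 L206716
theorem L206722 : sm gd N26730 = N22293 := ded_24_1 (flp_g L174152) (flp_d L174139) L206716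
theorem L206724 : sm gf N22310 = N26730 := ded_29_0 (flp_g L206716) L174141 L206716 L206718
theorem L206726 : sm gb N26730 = N22341 := ded_17_1 (flp_g L174567) (flp_b L174244) L122730 L174137 L206716
theorem L206728 : sm gc N22291 = N26731 := rfl
theorem L206730 : sm ga N26731 = N22292 := ded_8_1 (flp_c L174145) L174142 L206728
theorem L206732 : sm gf N26731 = N26731 := ded_20_2 (flp_c L206728) L174144 L206728
theorem L206733 : sm gg N26731 = N22313 := ded_21_2 (flp_c L174330) (flp_g L174158) L206728
theorem L206735 : sm gb N26731 = N23964 := ded_13_1 (flp_c L186969) (flp_b L155752) (flp_c L123774) L174162 L206728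
theorem L206737 : sm gd N26731 = N24393 := ded_28_7 (flp_a L190073) L190076 L196827 (flp_c L196818) (flp_d L196813) (flp_c L206705) L206707 L206728
theorem L206739 : sm gg N22292 = N26732 := rfl
theorem L206741 : sm ga N26732 = N22313 := ded_12_1 (flp_g L206733) L206730 L206739
theorem L206743 : sm gc N26732 = N22293 := ded_21_1 (flp_g L174152) L174145 L206739
theorem L206745 : sm gd N26732 = N24395 := ded_24_1 (flp_g L190083) L174150 L206739
theorem L206747 : sm gf N22313 = N26732 := ded_29_0 (flp_g L206739) L174147 L206739 L206741
theorem L206749 : sm gb N26732 = N24325 := ded_17_1 (flp_g L189573) L189575 (flp_g L158392) (flp_b L174148) L206739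
theorem L206751 : sm ga N22299 = N26733 := rfl
theorem L206753 : sm gc N26733 = N26582 := ded_8_2 L205466 L174218 L206751
theorem L206755 : sm ge N26733 = N22302 := ded_10_2 (flp_a L174236) (flp_e L174214) L206751
theorem L206757 : sm gf N26733 = N22308 := ded_11_2 (flp_a L174288) (flp_f L174216) L206751
theorem L206759 : sm gb N22301 = N26734 := rfl
theorem L206761 : sm ge N26734 = N22303 := ded_15_2 (flp_b L174244) (flp_e L174232) L206759
theorem L206763 : sm gc N26734 = N26578 := ded_13_2 (flp_b L205434) (flp_c L196663) (flp_b L196783) L196775 L206759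
theorem L206765 : sm gb N22308 = N26735 := rfl
theorem L206767 : sm gd N26735 = N26527 := ded_14_2 L204986 L201962 L206765
theorem L206769 : sm ge N26735 = N22310 := ded_15_2 (flp_b L174302) (flp_e L174292) L206765
theorem L206771 : sm gg N26525 = N26735 := ded_24_0 L206767 (flp_g L204976) L204954
theorem L206773 : sm gg N22308 = N26736 := rfl
theorem L206775 : sm ga N26736 = N22309 := ded_12_1 (flp_g L174294) L174288 L206773
theorem L206777 : sm gc N26736 = N26579 := ded_21_1 L205442 (flp_c L174290) L206773
theorem L206779 : sm gd N26736 = N22849 := ded_24_1 L201996 L201962 L206773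
theorem L206781 : sm ge N26736 = N22311 := ded_26_1 (flp_g L174306) (flp_e L174292) L206773
theorem L206783 : sm gf N26736 = N26487 := ded_29_2 L204652 L206751 L206757 L206773
theorem L206785 : sm gb N26736 = N22848 := ded_17_1 L178583 (flp_b L204958) L206771 (flp_b L206765) L206773
theorem L206787 : sm gf N22309 = N26737 := rfl
theorem L206789 : sm ga N26737 = N26487 := ded_11_1 (flp_f L206783) L206775 L206787
theorem L206791 : sm gc N26737 = N26482 := ded_20_1 L204611 (flp_c L174296) L206787
theorem L206793 : sm ge N26737 = N22312 := ded_25_1 (flp_f L174318) (flp_e L174298) L206787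
theorem L206795 : sm gg N26737 = N26733 := ded_29_3 (flp_a L206751) L174216 L174294 L206787
theorem L206797 : sm gb N26737 = N22338 := ded_31_2 (flp_g L205679) L205677 (flp_b L205633) L205631 L186024 L186025 L184591 (flp_f L172147) L121400 L97431 L98254 L122782 L174294 L206787
theorem L206799 : sm gc N22310 = N26738 := rfl
theorem L206801 : sm ga N26738 = N25266 := ded_8_1 (flp_c L206720) L206718 L206799
theorem L206803 : sm gf N26738 = N25266 := ded_20_2 (flp_c L206720) (flp_f L206724) L206799
theorem L206805 : sm gg N26738 = N25283 := ded_21_2 (flp_c L206705) (flp_g L206714) L206799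
theorem L206807 : sm gb N26738 = N26584 := ded_13_1 (flp_c L205488) (flp_b L172783) L149768 L174302 L206799
theorem L206809 : sm gd N25267 = N26738 := ded_9_0 L206801 L196673 L196677
theorem L206811 : sm gb N22313 = N26739 := rfl
theorem L206813 : sm gc N26739 = N22314 := ded_13_2 (flp_b L174332) (flp_c L122800) L122798 L174330 L206811
theorem L206815 : sm gf N26739 = N24323 := ded_16_2 (flp_b L189519) L189529 (flp_b L206749) (flp_f L206747) L206811
theorem L206817 : sm gg N26739 = N26572 := ded_17_2 (flp_b L205368) L188663 (flp_b L206735) L206733 L206811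
theorem L206819 : sm ga N26739 = N24398 := ded_7_1 L190103 (flp_a L174779) (flp_b L123049) (flp_a L123045) (flp_b L158061) (flp_a L189531) (flp_b L206749) L206741 L206811
theorem L206821 : sm gd N22313 = N26740 := rfl
theorem L206823 : sm ga N26740 = N24395 := ded_9_1 (flp_d L206745) L206741 L206821
theorem L206825 : sm gf N26740 = N24395 := ded_23_2 (flp_d L206745) (flp_f L206747) L206821
theorem L206827 : sm gg N26740 = N24393 := ded_24_2 (flp_d L206737) L206733 L206821
theorem L206829 : sm ge N22317 = N26741 := rfl
theorem L206831 : sm gb N26741 = N26480 := ded_15_1 (flp_e L204593) (flp_b L174352) L206829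
theorem L206833 : sm gc N26741 = N23267 := ded_19_1 L181673 L174358 L206829
theorem L206835 : sm gf N26741 = N26127 := ded_25_2 L202182 (flp_f L174354) L206829
theorem L206837 : sm gg N26741 = N26552 := ded_26_2 (flp_e L205181) (flp_g L174356) L206829
theorem L206839 : sm ga N22320 = N26742 := rfl
theorem L206841 : sm gd N26742 = N25193 := ded_9_2 L196063 (flp_d L190473) L206839
theorem L206843 : sm gf N26742 = N24230 := ded_11_2 (flp_a L188827) (flp_f L174378) L206839
theorem L206845 : sm gb N26742 = N24396 := ded_7_2 L190089 L164997 L114111 (flp_b L113973) L163592 (flp_b L174366) L174362 L174376 L206839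
theorem L206847 : sm ge N22320 = N26743 := rfl
theorem L206849 : sm gb N26743 = N22322 := ded_15_1 (flp_e L174390) L174376 L206847
theorem L206851 : sm gf N26743 = N24014 := ded_25_2 L187343 (flp_f L174378) L206847
theorem L206853 : sm gg N22320 = N26744 := rfl
theorem L206855 : sm gc N26744 = N24397 := ded_21_1 (flp_g L205520) (flp_c L205522) L206853
theorem L206857 : sm gd N26744 = N24426 := ded_24_1 L190477 (flp_d L190473) L206853
theorem L206859 : sm gf N24425 = N26744 := ded_29_0 (flp_g L206853) L174378 L188833 L190487
theorem L206861 : sm gb N26744 = N25065 := ded_17_1 L194909 L175679 L163550 L174376 L206853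
theorem L206863 : sm gd N22322 = N26745 := rfl
theorem L206865 : sm ga N26745 = N25191 := ded_9_1 (flp_d L203309) (flp_a L203317) L206863
theorem L206867 : sm gg N26745 = N24273 := ded_24_2 (flp_d L191912) (flp_g L191916) L206863
theorem L206869 : sm ge N26745 = N23692 := ded_22_2 L184606 L174388 (flp_d L174380) L174390 L206863
theorem L206871 : sm gc N23403 = N26745 := ded_19_3 L206869 (flp_c L184600) (flp_e L182579)
theorem L206873 : sm gc N22327 = N26746 := rfl
theorem L206875 : sm ga N26746 = N22736 := ded_8_1 (flp_c L177606) (flp_a L174439) L206873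
theorem L206877 : sm ge N26746 = N22328 := ded_19_2 (flp_c L174441) (flp_e L174436) L206873
theorem L206879 : sm gf N26746 = N26746 := ded_20_2 (flp_c L206873) L174438 L206873
theorem L206880 : sm gb N26746 = N25029 := ded_13_1 (flp_c L194565) (flp_b L161986) (flp_c L122867) L174434 L206873
theorem L206882 : sm gd N26368 = N26746 := ded_9_0 L206875 (flp_d L177613) (flp_a L203854)
theorem L206884 : sm gg N22733 = N26746 := ded_26_0 L206877 (flp_g L174450) (flp_e L177589)
theorem L206886 : sm gg N22327 = N26747 := rfl
theorem L206888 : sm ga N26747 = N22737 := ded_12_1 (flp_g L177615) (flp_a L174439) L206886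
theorem L206890 : sm gc N26747 = N22733 := ded_21_1 L206884 (flp_c L206873) L206886
theorem L206892 : sm ge N26747 = N22329 := ded_26_1 (flp_g L174452) (flp_e L174436) L206886
theorem L206894 : sm gf N22737 = N26747 := ded_29_0 (flp_g L206886) L174438 L206886 L206888
theorem L206896 : sm gb N26747 = N26597 := ded_17_1 L205619 L177604 L161593 L174434 L206886
theorem L206898 : sm gg N22330 = N26748 := rfl
theorem L206900 : sm ga N26748 = N26599 := ded_12_1 L205631 L186020 L206898
theorem L206902 : sm gc N26748 = N22331 := ded_21_1 (flp_g L174471) L174464 L206898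
theorem L206904 : sm ge N26748 = N22334 := ded_26_1 (flp_g L174511) (flp_e L174466) L206898
theorem L206906 : sm gf N26599 = N26748 := ded_29_0 (flp_g L206898) L174468 L206898 L206900
theorem L206908 : sm gc N22332 = N26749 := rfl
theorem L206910 : sm ga N26749 = N26598 := ded_8_1 L205623 (flp_a L174491) L206908
theorem L206912 : sm ge N26749 = N22335 := ded_19_2 (flp_c L174521) (flp_e L174485) L206908
theorem L206914 : sm gf N26749 = N23852 := ded_20_2 (flp_c L186007) (flp_f L174487) L206908
theorem L206916 : sm gg N26749 = N26598 := ded_21_2 L205623 (flp_g L174489) L206908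
theorem L206918 : sm gb N26749 = N22339 := ded_13_1 (flp_c L174547) (flp_b L122925) (flp_c L122891) L174481 L206908
theorem L206920 : sm ga N22336 = N26750 := rfl
theorem L206922 : sm ge N26750 = N22341 := ded_10_2 (flp_a L174563) (flp_e L174535) L206920
theorem L206924 : sm gg N26734 = N26750 := ded_26_0 L206922 (flp_g L174567) (flp_e L206761)
theorem L206926 : sm gc N22336 = N26751 := rfl
theorem L206928 : sm ge N26751 = N22342 := ded_19_2 (flp_c L174569) (flp_e L174535) L206926
theorem L206930 : sm gb N26751 = N26604 := ded_13_1 L205669 (flp_b L174537) L150742 L174533 L206926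
theorem L206932 : sm gg N26602 = N26751 := ded_26_0 L206928 (flp_g L174575) (flp_e L205649)
theorem L206934 : sm gf N22336 = N26752 := rfl
theorem L206936 : sm gd N26752 = N22850 := ded_23_1 (flp_f L202196) L202190 L206934
theorem L206938 : sm ge N26752 = N22343 := ded_25_1 (flp_f L174577) (flp_e L174535) L206934
theorem L206940 : sm gb N26752 = N22507 := ded_16_1 (flp_f L175765) (flp_b L123676) (flp_f L122913) L174533 L206934
theorem L206942 : sm gg N22336 = N26753 := rfl
theorem L206944 : sm ga N26753 = N26734 := ded_12_1 L206924 (flp_a L206920) L206942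
theorem L206946 : sm gc N26753 = N26602 := ded_21_1 L206932 (flp_c L206926) L206942
theorem L206948 : sm ge N26753 = N22344 := ded_26_1 (flp_g L174583) (flp_e L174535) L206942
theorem L206950 : sm gb N26753 = N26748 := ded_17_1 (flp_g L206898) L174469 L149422 L174533 L206942
theorem L206952 : sm gf N26753 = N26601 := ded_30_4 (flp_c L205641) (flp_b L173010) (flp_a L121996) L122036 L122040 L173010 L205635 (flp_f L205639) (flp_c L206763) (flp_b L206759) L174230 (flp_f L174224) L174131 L165146 (flp_a L174184) L196781 L196775 L206759 (flp_a L206944)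
theorem L206954 : sm gf N22338 = N26754 := rfl
theorem L206956 : sm ga N26754 = N22340 := ded_11_1 (flp_f L174553) L174543 L206954
theorem L206958 : sm gc N26754 = N26606 := ded_20_1 (flp_f L205691) (flp_c L204629) L206954
theorem L206960 : sm gd N26754 = N22470 := ded_23_1 (flp_f L202214) L202210 L206954
theorem L206962 : sm ge N26754 = N22345 := ded_25_1 (flp_f L174595) (flp_e L174545) L206954
theorem L206964 : sm gg N26754 = N26489 := ded_29_3 (flp_a L204668) (flp_f L205677) L205679 L206954
theorem L206966 : sm gb N26754 = N26488 := ded_16_1 (flp_f L204660) (flp_b L174300) L206787 L206797 L206954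
theorem L206968 : sm gd N22339 = N26755 := rfl
theorem L206970 : sm gf N26755 = N23634 := ded_23_2 L184181 L174551 L206968
theorem L206972 : sm ge N26755 = N25907 := ded_22_2 L200671 L169223 (flp_d L166017) (flp_e L174549) L206968
theorem L206974 : sm gg N22348 = N26756 := rfl
theorem L206976 : sm gd N26756 = N22349 := ded_24_1 (flp_g L174635) L174629 L206974
theorem L206978 : sm gf N25039 = N26756 := ded_29_0 (flp_g L206974) L174633 (flp_g L179937) (flp_a L194663)
theorem L206980 : sm ga N22351 = N26757 := rfl
theorem L206982 : sm gc N26757 = N22378 := ded_8_2 (flp_a L174866) (flp_c L174651) L206980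
theorem L206984 : sm gd N26757 = N22353 := ded_9_2 (flp_a L174663) (flp_d L174649) L206980
theorem L206986 : sm gg N26757 = N22386 := ded_12_2 (flp_a L174900) (flp_g L174653) L206980
theorem L206988 : sm gb N26757 = N24353 := ded_7_2 L189747 (flp_b L184810) L153297 L184784 (flp_a L184792) (flp_b L175813) (flp_a L149335) L174647 L206980
theorem L206990 : sm ge N22351 = N26758 := rfl
theorem L206992 : sm gb N26758 = N22352 := ded_15_1 (flp_e L174655) L174647 L206990
theorem L206994 : sm gc N26758 = N22379 := ded_19_1 (flp_e L174868) (flp_c L174651) L206990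
theorem L206996 : sm gg N26758 = N22385 := ded_26_2 L174898 (flp_g L174653) L206990
theorem L206998 : sm ge N22366 = N26759 := rfl
theorem L207000 : sm gb N26759 = N22369 := ded_15_1 (flp_e L174813) (flp_b L174787) L206998
theorem L207002 : sm gc N26759 = N25834 := ded_19_1 L200149 L174789 L206998
theorem L207004 : sm gf N26759 = N25923 := ded_25_2 L200815 L174793 L206998
theorem L207006 : sm gg N26759 = N25833 := ded_26_2 L200143 L174791 L206998
theorem L207008 : sm gb N22367 = N26760 := rfl
theorem L207010 : sm gd N26760 = N26617 := ded_14_2 (flp_b L205787) (flp_d L174799) L207008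
theorem L207012 : sm gc N26760 = N22406 := ded_13_2 (flp_b L175077) L123199 (flp_b L123075) (flp_c L174797) L207008
theorem L207014 : sm gf N26760 = N22370 := ded_16_2 (flp_b L174821) (flp_f L123055) L123049 L174795 L207008
theorem L207016 : sm gg N26760 = N22406 := ded_17_2 (flp_b L175077) L164001 (flp_b L173276) (flp_g L174801) L207008
theorem L207018 : sm ga N26760 = N26760 := ded_7_1 (flp_b L207008) (flp_a L190113) (flp_b L190107) L158427 L109565 (flp_a L158427) L190107 L190113 L207008
theorem L207019 : sm gc N22371 = N26761 := rfl
theorem L207021 : sm ga N26761 = N22373 := ded_8_1 (flp_c L174842) (flp_a L174832) L207019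
theorem L207023 : sm gg N26761 = N26720 := ded_21_2 (flp_c L206616) (flp_g L174836) L207019
theorem L207025 : sm ge N22371 = N26762 := rfl
theorem L207027 : sm ga N26762 = N22374 := ded_10_1 (flp_e L174844) (flp_a L174832) L207025
theorem L207029 : sm gb N26762 = N26713 := ded_15_1 L206559 (flp_b L174834) L207025
theorem L207031 : sm gg N26762 = N23477 := ded_26_2 L183026 (flp_g L174836) L207025
theorem L207033 : sm ge N22373 = N26763 := rfl
theorem L207035 : sm gc N26763 = N22374 := ded_19_1 (flp_e L174844) L174842 L207033
theorem L207037 : sm gf N22373 = N26764 := rfl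
theorem L207039 : sm gc N26764 = N22375 := ded_20_1 (flp_f L174848) L174842 L207037
theorem L207041 : sm gb N26764 = N22480 := ded_16_1 L175593 (flp_b L183789) (flp_f L184722) L184724 L207037
theorem L207043 : sm gf N22374 = N26765 := rfl
theorem L207045 : sm ge N26765 = N22375 := ded_25_1 (flp_f L174848) L174844 L207043
theorem L207047 : sm gg N26765 = N25394 := ded_29_1 L197509 (flp_g L207031) L207027 L207043
theorem L207049 : sm gb N26765 = N22417 := ded_16_1 (flp_f L175158) L123255 (flp_f L123083) (flp_b L174846) L207043
theorem L207051 : sm gg N22374 = N26766 := rfl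
theorem L207053 : sm ga N26766 = N23477 := ded_12_1 (flp_g L207031) L207027 L207051
theorem L207055 : sm ge N26766 = N22376 := ded_26_1 (flp_g L174854) L174844 L207051
theorem L207057 : sm gf N22376 = N26767 := rfl
theorem L207059 : sm ga N26767 = N26721 := ded_11_1 (flp_f L206623) (flp_a L174856) L207057
theorem L207061 : sm gc N26767 = N23655 := ded_20_1 L184364 (flp_c L183425) L207057
theorem L207063 : sm gd N26767 = N22377 := ded_23_1 (flp_f L174860) (flp_d L174858) L207057
theorem L207065 : sm gg N26767 = N23624 := ded_29_3 L184117 (flp_f L174848) L174854 L207057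
theorem L207067 : sm gb N26767 = N23657 := ded_16_1 L184376 L183907 L183905 L183433 L207057
theorem L207069 : sm ge N22378 = N26768 := rfl
theorem L207071 : sm ga N26768 = N22379 := ded_10_1 (flp_e L174868) L174866 L207069
theorem L207073 : sm gf N22378 = N26769 := rfl
theorem L207075 : sm ga N26769 = N22380 := ded_11_1 (flp_f L174872) L174866 L207073
theorem L207077 : sm gd N26769 = N25116 := ded_23_1 L195376 (flp_d L180003) L207073
theorem L207079 : sm gg N22592 = N26769 := ded_29_1 (flp_f L207073) L184514 L184510 L176426
theorem L207081 : sm gb N26769 = N25136 := ded_16_1 (flp_f L195538) L195512 (flp_f L195520) L184820 L207073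
theorem L207083 : sm gd N22379 = N26770 := rfl
theorem L207085 : sm gb N26770 = N22382 := ded_14_1 (flp_d L174880) (flp_b L174870) L207083
theorem L207087 : sm gf N22379 = N26771 := rfl
theorem L207089 : sm ge N26771 = N22380 := ded_25_1 (flp_f L174872) L174868 L207087
theorem L207091 : sm gb N26771 = N22430 := ded_16_1 (flp_f L175238) L123309 (flp_f L123091) (flp_b L174870) L207087
theorem L207093 : sm gg N22379 = N26772 := rfl
theorem L207095 : sm gc N26772 = N22385 := ded_21_1 (flp_g L206996) L206994 L207093
theorem L207097 : sm ge N26772 = N22381 := ded_26_1 (flp_g L174876) L174868 L207093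
theorem L207099 : sm gg N22380 = N26773 := rfl
theorem L207101 : sm ga N26773 = N22592 := ded_12_1 L207079 L207075 L207099
theorem L207103 : sm gd N26773 = N25128 := ded_24_1 L195476 L180019 L207099
theorem L207105 : sm gf N23678 = N26773 := ded_29_0 (flp_g L207099) (flp_f L174872) L174876 (flp_a L184510)
theorem L207107 : sm gb N23675 = N26773 := ded_30_2 L207101 (flp_f L176426) L174878 (flp_b L123105) (flp_a L98589) (flp_f L98587) (flp_c L98581) (flp_b L149786) L105531 L105543 L105545 L105547 L152858 L152860 (flp_c L105778) L153337 (flp_a L184177) L206136 (flp_c L206134)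
theorem L207109 : sm gb N22381 = N26774 := rfl
theorem L207111 : sm gd N26774 = N26637 := ded_14_2 L205925 L180027 L207109
theorem L207113 : sm gc N26774 = N22384 := ded_13_2 (flp_b L174892) L123095 L123105 (flp_c L174878) L207109
theorem L207115 : sm gg N26774 = N22384 := ded_17_2 (flp_b L174892) (flp_g L123093) L123085 L174876 L207109
theorem L207117 : sm ga N26774 = N26774 := ded_7_1 (flp_b L207109) (flp_a L184510) (flp_b L184508) L152916 L105589 (flp_a L152916) L184508 L184510 L207109
theorem L207118 : sm gc N22382 = N26775 := rfl
theorem L207120 : sm gf N26775 = N22434 := ded_20_2 (flp_c L175264) (flp_f L174882) L207118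
theorem L207122 : sm gg N22382 = N26776 := rfl
theorem L207124 : sm gd N26776 = N22383 := ded_24_1 (flp_g L174884) L174880 L207122
theorem L207126 : sm ge N26776 = N26635 := ded_26_1 L206210 L206208 L207122
theorem L207128 : sm gf N26633 = N26776 := ded_29_0 (flp_g L207122) L174882 L175266 (flp_a L205903)
theorem L207130 : sm gb N22383 = N26777 := rfl
theorem L207132 : sm ge N26777 = N22384 := ded_15_2 (flp_b L174892) (flp_e L174888) L207130
theorem L207134 : sm ga N26777 = N26777 := ded_10_3 L207132 L205301 (flp_e L207132)
theorem L207135 : sm gf N22384 = N26778 := rfl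
theorem L207137 : sm ga N26778 = N26778 := ded_11_1 (flp_f L207135) L205301 L207135
theorem L207138 : sm gd N26778 = N26631 := ded_23_1 L205888 (flp_d L174894) L207135
theorem L207140 : sm gb N26778 = N23011 := ded_16_1 (flp_f L179797) L151401 L123099 L174892 L207135
theorem L207142 : sm ga N22385 = N26779 := rfl
theorem L207144 : sm ge N26779 = N22386 := ded_10_2 (flp_a L174900) (flp_e L174898) L207142
theorem L207146 : sm gf N22385 = N26780 := rfl
theorem L207148 : sm ge N26780 = N22387 := ded_25_1 (flp_f L174904) (flp_e L174898) L207146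
theorem L207150 : sm gb N26780 = N22919 := ded_16_1 (flp_f L179119) L151399 L123285 L174896 L207146
theorem L207152 : sm gf N22386 = N26781 := rfl
theorem L207154 : sm ga N26781 = N22387 := ded_11_1 (flp_f L174904) L174900 L207152
theorem L207156 : sm gc N26781 = N26773 := ded_20_1 (flp_f L207105) (flp_c L184512) L207152
theorem L207158 : sm gd N26781 = N22390 := ded_23_1 (flp_f L174916) (flp_d L174902) L207152
theorem L207160 : sm gg N24442 = N26781 := ded_29_1 (flp_f L207152) (flp_g L206986) (flp_a L206980) (flp_f L190451)
theorem L207162 : sm gb N26781 = N26652 := ded_16_1 L206056 (flp_b L184011) (flp_f L183957) L183959 L207152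
theorem L207164 : sm gg N22387 = N26782 := rfl
theorem L207166 : sm ga N26782 = N24442 := ded_12_1 L207160 L207154 L207164
theorem L207168 : sm gc N26782 = N26769 := ded_21_1 (flp_g L207079) L176424 L207164
theorem L207170 : sm gd N26782 = N22393 := ded_24_1 (flp_g L174950) (flp_d L174906) L207164
theorem L207172 : sm gf N26757 = N26782 := ded_29_0 (flp_g L207164) (flp_f L174904) (flp_g L174653) L206980
theorem L207174 : sm gb N26782 = N22677 := ded_17_1 (flp_g L179737) (flp_b L179731) L143407 (flp_b L174908) L207164
theorem L207176 : sm gg N22392 = N26783 := rfl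
theorem L207178 : sm ga N26783 = N22447 := ded_12_1 L175340 (flp_a L174942) L207176
theorem L207180 : sm gc N26783 = N22393 := ded_21_1 (flp_g L174950) (flp_c L174944) L207176
theorem L207182 : sm gd N26783 = N25117 := ded_24_1 L195390 (flp_d L174946) L207176
theorem L207184 : sm gf N24227 = N26783 := ded_29_0 (flp_g L207176) (flp_f L174940) (flp_g L174669) (flp_a L188811)
theorem L207186 : sm gg N22397 = N26784 := rfl
theorem L207188 : sm ga N26784 = N26784 := ded_12_1 (flp_g L207186) L175004 L207186
theorem L207189 : sm gc N26784 = N25005 := ded_21_1 (flp_g L194352) (flp_c L175000) L207186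
theorem L207191 : sm gf N26784 = N25005 := ded_29_0 (flp_g L194352) (flp_f L175002) L207186 L207188
theorem L207193 : sm gb N26784 = N25025 := ded_17_1 L194540 (flp_b L174978) L123145 L174998 L207186
theorem L207195 : sm gb N22400 = N26785 := rfl
theorem L207197 : sm gc N26785 = N24221 := ded_13_2 (flp_b L188757) L157255 L157259 (flp_c L175027) L207195
theorem L207199 : sm gg N26785 = N22401 := ded_17_2 (flp_b L175029) (flp_g L123159) L123155 L175025 L207195
theorem L207201 : sm ga N22401 = N26786 := rfl
theorem L207203 : sm gc N26786 = N26645 := ded_8_2 (flp_a L205984) (flp_c L175031) L207201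
theorem L207205 : sm ge N22409 = N26787 := rfl
theorem L207207 : sm gf N26787 = N23339 := ded_25_2 L182173 (flp_f L175106) L207205
theorem L207209 : sm gg N26787 = N22424 := ded_26_2 (flp_e L175212) (flp_g L175108) L207205
theorem L207211 : sm gf N22410 = N26788 := rfl
theorem L207213 : sm ga N26788 = N22531 := ded_11_1 (flp_f L175925) (flp_a L175112) L207211
theorem L207215 : sm gc N26788 = N26755 := ded_20_1 L206970 L184185 L207211
theorem L207217 : sm gd N26788 = N22411 := ded_23_1 (flp_f L175116) L175110 L207211
theorem L207219 : sm gb N26788 = N22977 := ded_16_1 L179533 (flp_b L175140) (flp_f L175126) (flp_b L175114) L207211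
theorem L207221 : sm gf N22412 = N26789 := rfl
theorem L207223 : sm ga N26789 = N22417 := ded_11_1 (flp_f L175158) (flp_a L175124) L207221
theorem L207225 : sm gc N26789 = N26787 := ded_20_1 L207207 (flp_c L182179) L207221
theorem L207227 : sm ge N26789 = N22413 := ded_25_1 (flp_f L175126) L175122 L207221
theorem L207229 : sm gb N23145 = N26789 := ded_15_3 L207227 L175140 (flp_e L180837)
theorem L207231 : sm gd N22415 = N26790 := rfl
theorem L207233 : sm gf N22415 = N26791 := rfl
theorem L207235 : sm ga N26791 = N26787 := ded_11_1 L207207 (flp_a L182177) L207233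
theorem L207237 : sm gc N26791 = N22417 := ded_20_1 (flp_f L175158) (flp_c L175144) L207233
theorem L207239 : sm ge N26791 = N22416 := ded_25_1 (flp_f L175146) L175142 L207233
theorem L207241 : sm gg N26791 = N26478 := ded_29_3 L204577 (flp_f L204563) L204565 L207233
theorem L207243 : sm gb N22482 = N26791 := ded_15_3 L207239 (flp_b L175156) (flp_e L175607)
theorem L207245 : sm gg N22417 = N26792 := rfl
theorem L207247 : sm gc N26792 = N26478 := ded_21_1 (flp_g L207241) L207237 L207245
theorem L207249 : sm ge N26792 = N22419 := ded_26_1 (flp_g L175166) (flp_e L175160) L207245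
theorem L207251 : sm gf N26477 = N26792 := ded_29_0 (flp_g L207245) (flp_f L175158) L175162 (flp_a L204569)
theorem L207253 : sm gb N26792 = N25395 := ded_17_1 (flp_g L197511) L197507 (flp_g L207047) L207049 L207245
theorem L207255 : sm gf N22418 = N26793 := rfl
theorem L207257 : sm ga N26793 = N26792 := ded_11_1 (flp_f L207251) L204569 L207255
theorem L207259 : sm gc N26793 = N22424 := ded_20_1 (flp_f L204563) L204561 L207255
theorem L207261 : sm ge N26793 = N22420 := ded_25_1 (flp_f L175174) (flp_e L175164) L207255
theorem L207263 : sm gg N26793 = N26789 := ded_29_3 L207223 (flp_f L175158) L175162 L207255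
theorem L207265 : sm gb N24284 = N26793 := ded_13_5 L207259 L191932 (flp_c L191924) (flp_b L163552) (flp_c L189209)
theorem L207267 : sm ga N22425 = N26794 := rfl
theorem L207269 : sm gc N26794 = N25854 := ded_8_2 L200287 L178541 L207267
theorem L207271 : sm gd N26794 = N23727 := ded_9_2 (flp_a L206132) L206130 L207267
theorem L207273 : sm gb N26794 = N23676 := ded_7_2 (flp_a L206228) L206230 L173773 L122428 L98027 L98571 L123303 L175214 L207267
theorem L207275 : sm gf N26794 = N23726 := ded_30_4 L184884 (flp_b L168909) L117065 L117197 (flp_c L129205) L178229 (flp_a L178239) (flp_f L146148) L146146 (flp_b L158656) L158652 L158692 L158694 L109802 (flp_a L124117) (flp_f L124115) (flp_c L123305) L175214 L207267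
theorem L207277 : sm ge N25859 = N26794 := ded_19_0 L207269 L200291 (flp_c L200319)
theorem L207279 : sm gg N23679 = N26794 := ded_17_0 L207273 (flp_g L184498) (flp_b L152908) L152918 L184516
theorem L207281 : sm ge N22425 = N26795 := rfl
theorem L207283 : sm ga N26795 = N25859 := ded_10_1 L207277 (flp_a L207267) L207281
theorem L207285 : sm gb N26795 = N22426 := ded_15_1 (flp_e L175216) L175214 L207281
theorem L207287 : sm gc N26795 = N25857 := ded_19_1 L200309 L178541 L207281
theorem L207289 : sm gf N25856 = N26795 := ded_11_0 L207283 (flp_f L200317) (flp_a L200301)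
theorem L207291 : sm gf N22425 = N26796 := rfl
theorem L207293 : sm ga N26796 = N23726 := ded_11_1 (flp_f L207275) (flp_a L207267) L207291
theorem L207295 : sm gc N26796 = N25853 := ded_20_1 L200283 L178541 L207291
theorem L207297 : sm gd N26796 = N23633 := ded_23_1 L206136 L206130 L207291
theorem L207299 : sm ge N26796 = N25856 := ded_25_1 L207289 (flp_e L207281) L207291
theorem L207301 : sm gb N26796 = N23581 := ded_16_1 (flp_f L204800) L204804 (flp_f L175222) L175214 L207291
theorem L207303 : sm gg N22425 = N26797 := rfl
theorem L207305 : sm ga N26797 = N23679 := ded_12_1 L207279 (flp_a L207267) L207303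
theorem L207307 : sm gd N26797 = N26696 := ded_24_1 L206416 L206130 L207303
theorem L207309 : sm gb N26797 = N26690 := ded_17_1 L206366 (flp_b L206288) (flp_g L175228) L175214 L207303
theorem L207311 : sm gd N22426 = N26798 := rfl
theorem L207313 : sm ga N26798 = N22429 := ded_9_1 (flp_d L175234) (flp_a L175218) L207311
theorem L207315 : sm gf N22426 = N26799 := rfl
theorem L207317 : sm ga N26799 = N22430 := ded_11_1 (flp_f L175238) (flp_a L175218) L207315
theorem L207319 : sm gc N26799 = N22559 := ded_20_1 (flp_f L176115) (flp_c L175220) L207315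
theorem L207321 : sm ge N26799 = N22427 := ded_25_1 (flp_f L175222) L175216 L207315
theorem L207323 : sm gg N22426 = N26800 := rfl
theorem L207325 : sm ga N26800 = N22431 := ded_12_1 (flp_g L175244) (flp_a L175218) L207323
theorem L207327 : sm gc N26800 = N22560 := ded_21_1 (flp_g L176121) (flp_c L175220) L207323
theorem L207329 : sm ge N26800 = N22428 := ded_26_1 (flp_g L175228) L175216 L207323
theorem L207331 : sm gf N22429 = N26801 := rfl
theorem L207333 : sm gc N26801 = N26423 := ded_20_1 (flp_f L204321) (flp_c L206392) L207331
theorem L207335 : sm gd N26801 = N22430 := ded_23_1 (flp_f L175238) L175234 L207331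
theorem L207337 : sm gg N22429 = N26802 := rfl
theorem L207339 : sm gd N26802 = N22431 := ded_24_1 (flp_g L175244) L175234 L207337
theorem L207341 : sm gg N22430 = N26803 := rfl
theorem L207343 : sm gc N26803 = N22564 := ded_21_1 (flp_g L176141) (flp_c L175240) L207341
theorem L207345 : sm ge N26803 = N22432 := ded_26_1 (flp_g L175250) (flp_e L175242) L207341
theorem L207347 : sm gf N26800 = N26803 := ded_29_0 (flp_g L207341) (flp_f L175238) L175244 (flp_a L207325)
theorem L207349 : sm gf N22431 = N26804 := rfl
theorem L207351 : sm ga N26804 = N26803 := ded_11_1 (flp_f L207347) L207325 L207349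
theorem L207353 : sm gc N26804 = N22565 := ded_20_1 (flp_f L176149) (flp_c L175246) L207349
theorem L207355 : sm ge N26804 = N22433 := ded_25_1 (flp_f L175256) (flp_e L175248) L207349
theorem L207357 : sm gg N26804 = N26799 := ded_29_3 L207317 (flp_f L175238) L175244 L207349
theorem L207359 : sm gb N22432 = N26805 := rfl
theorem L207361 : sm gd N26805 = N26675 := ded_14_2 L206250 L206178 L207359
theorem L207363 : sm gc N26805 = N26696 := ded_13_2 (flp_b L206412) L173835 L149556 (flp_c L175252) L207359
theorem L207365 : sm gf N26805 = N26673 := ded_16_2 L206230 L206280 (flp_b L206288) L175254 L207359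
theorem L207367 : sm gg N26805 = N23675 := ded_17_2 L207107 (flp_g L207099) L174874 L175250 L207359
theorem L207369 : sm gd N22434 = N26806 := rfl
theorem L207371 : sm ga N26806 = N26271 := ded_9_1 L206424 L206420 L207369
theorem L207373 : sm gc N26244 = N26806 := ded_28_0 (flp_d L207369) (flp_c L175264) (flp_d L123321) L98577 (flp_d L96574) (flp_c L118081) L170660 (flp_a L203067)
theorem L207375 : sm gf N22435 = N26807 := rfl
theorem L207377 : sm ga N26807 = N26776 := ded_11_1 (flp_f L207128) L205903 L207375
theorem L207379 : sm gd N26807 = N22436 := ded_23_1 (flp_f L175270) (flp_d L175268) L207375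
theorem L207381 : sm ge N26807 = N26700 := ded_25_1 (flp_f L206446) L205852 L207375
theorem L207383 : sm gg N26807 = N26698 := ded_29_3 L206428 L174882 L175266 L207375
theorem L207385 : sm gb N22436 = N26808 := rfl
theorem L207387 : sm ge N26808 = N22437 := ded_15_2 (flp_b L175280) (flp_e L175276) L207385
theorem L207389 : sm gc N26766 = N26808 := ded_19_3 L207387 (flp_c L183425) (flp_e L207055)
theorem L207391 : sm gg N26763 = N26808 := ded_26_0 L207387 L183429 L207033
theorem L207393 : sm ga N22438 = N26809 := rfl
theorem L207395 : sm ge N26809 = N22439 := ded_10_2 (flp_a L175288) (flp_e L175286) L207393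
theorem L207397 : sm gf N26809 = N23275 := ded_11_2 L194993 L194991 L207393
theorem L207399 : sm gb N23269 = N26809 := ded_15_3 L207395 (flp_b L175294) (flp_e L181691)
theorem L207401 : sm gc N22438 = N26810 := rfl
theorem L207403 : sm ge N26810 = N22440 := ded_19_2 (flp_c L175296) (flp_e L175286) L207401
theorem L207405 : sm gb N26810 = N26766 := ded_13_1 L207389 (flp_b L207385) L175274 L175284 L207401
theorem L207407 : sm gg N22438 = N26810 := ded_26_0 L207403 L183437 (flp_e L175286)
theorem L207409 : sm gc N22439 = N26811 := rfl
theorem L207411 : sm ga N26811 = N22440 := ded_8_1 (flp_c L175296) L175288 L207409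
theorem L207413 : sm gf N26811 = N23593 := ded_20_2 (flp_c L183889) (flp_f L175292) L207409
theorem L207415 : sm gb N26811 = N23601 := ded_13_1 (flp_c L183961) (flp_b L152396) (flp_c L152314) L175294 L207409
theorem L207417 : sm gd N22443 = N26811 := ded_9_0 L207411 L183435 (flp_a L175312)
theorem L207419 : sm gg N22439 = N26811 := ded_12_0 L207411 L183437 L175288
theorem L207421 : sm gd N22442 = N26812 := rfl
theorem L207423 : sm ga N26812 = N22444 := ded_9_1 (flp_d L175316) (flp_a L175306) L207421
theorem L207425 : sm gb N26812 = N23945 := ded_14_1 L186777 (flp_b L175308) L207421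
theorem L207427 : sm ge N25179 = N26812 := ded_10_0 L207423 (flp_e L175320) L195916
theorem L207429 : sm gg N22442 = N26813 := rfl
theorem L207431 : sm ga N26813 = N22445 := ded_12_1 (flp_g L175322) (flp_a L175306) L207429
theorem L207433 : sm gc N26813 = N22443 := ded_21_1 (flp_g L175310) L175304 L207429
theorem L207435 : sm gf N26813 = N25109 := ded_29_2 (flp_g L195293) (flp_a L195281) L195283 L207429
theorem L207437 : sm gb N26813 = N26522 := ded_17_1 L204930 L194345 (flp_g L186781) (flp_b L175308) L207429
theorem L207439 : sm gc N22444 = N26814 := rfl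
theorem L207441 : sm ge N26814 = N25177 := ded_19_2 L195902 L175320 L207439
theorem L207443 : sm gb N26814 = N25175 := ded_13_1 (flp_c L195884) (flp_b L164683) L163495 (flp_b L175318) L207439
theorem L207445 : sm gd N26814 = N26813 := ded_28_7 L207431 L175324 (flp_d L183435) (flp_c L175296) L123351 L123355 L175316 L207439
theorem L207447 : sm gg N26812 = N26814 := ded_26_0 L207441 (flp_g L195922) L207427
theorem L207449 : sm gg N22444 = N26815 := rfl
theorem L207451 : sm ga N26815 = N26814 := ded_12_1 (flp_g L207447) L207423 L207449
theorem L207453 : sm gc N26815 = N26812 := ded_21_1 L207447 (flp_c L207439) L207449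
theorem L207455 : sm gd N26815 = N22445 := ded_24_1 (flp_g L175322) L175316 L207449
theorem L207457 : sm ge N26815 = N24271 := ded_26_1 L189135 L175320 L207449
theorem L207459 : sm gb N26815 = N24246 := ded_17_1 L188963 L162044 (flp_g L163586) (flp_b L175318) L207449
theorem L207461 : sm gf N22445 = N26816 := rfl
theorem L207463 : sm ga N26816 = N25109 := ded_11_1 (flp_f L207435) L207431 L207461
theorem L207465 : sm gc N26816 = N22446 := ded_20_1 (flp_f L175326) (flp_c L175324) L207461
theorem L207467 : sm gg N26816 = N25107 := ded_29_3 L195281 L162806 L175322 L207461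
theorem L207469 : sm gc N22451 = N26817 := rfl
theorem L207471 : sm ga N26817 = N24918 := ded_8_1 L193645 (flp_a L175374) L207469
theorem L207473 : sm ge N26817 = N24907 := ded_19_2 L193573 (flp_e L175378) L207469
theorem L207475 : sm gf N26817 = N24906 := ded_20_2 L193565 (flp_f L175376) L207469
theorem L207477 : sm gf N22453 = N26818 := rfl
theorem L207479 : sm gd N26818 = N22456 := ded_23_1 (flp_f L175406) (flp_d L175392) L207477
theorem L207481 : sm gg N26818 = N23664 := ded_29_3 (flp_a L189607) L189611 (flp_g L175394) L207477
theorem L207483 : sm gb N26818 = N26611 := ded_16_1 (flp_f L205733) L173118 L123468 L175390 L207477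
theorem L207485 : sm ge N22462 = N26819 := rfl
theorem L207487 : sm ga N26819 = N26530 := ded_10_1 (flp_e L205010) (flp_a L175442) L207485
theorem L207489 : sm gg N22462 = N26820 := rfl
theorem L207491 : sm ga N26820 = N26531 := ded_12_1 (flp_g L205016) (flp_a L175442) L207489
theorem L207493 : sm gd N26820 = N22464 := ded_24_1 (flp_g L175450) L175440 L207489
theorem L207495 : sm gf N26533 = N26820 := ded_29_0 (flp_g L207489) (flp_f L205002) L205004 L205028
theorem L207497 : sm gb N23570 = N26820 := ded_30_2 L207491 L205022 L205038 L205046 L173789 L173831 L173835 L149556 (flp_a L124141) (flp_f L124139) (flp_c L123319) (flp_b L152066) L152062 L152074 L152076 L152078 L183693 L183695 L183713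
theorem L207499 : sm gd N22463 = N26821 := rfl
theorem L207501 : sm ga N26821 = N25555 := ded_9_1 (flp_d L198478) (flp_a L175446) L207499
theorem L207503 : sm gg N22463 = N26822 := rfl
theorem L207505 : sm ga N26822 = N25557 := ded_12_1 (flp_g L198492) (flp_a L175446) L207503
theorem L207507 : sm gc N26822 = N22466 := ded_21_1 (flp_g L175507) (flp_c L175448) L207503
theorem L207509 : sm ge N26822 = N22464 := ded_26_1 (flp_g L175450) L175444 L207503
theorem L207511 : sm gf N25566 = N26822 := ded_29_0 (flp_g L207503) (flp_f L198472) L198474 L198544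
theorem L207513 : sm gf N22467 = N26823 := rfl
theorem L207515 : sm gc N26823 = N25540 := ded_20_1 (flp_f L198382) L198278 L207513
theorem L207517 : sm ge N26823 = N22468 := ded_25_1 (flp_f L175517) L175513 L207513
theorem L207519 : sm gb N26823 = N26148 := ded_16_1 (flp_f L202362) (flp_b L170202) L124235 (flp_b L175515) L207513
theorem L207521 : sm gg N25542 = N26823 := ded_21_0 L207515 L198378 L198390
theorem L207523 : sm gg N22467 = N26824 := rfl
theorem L207525 : sm ge N26824 = N22469 := ded_26_1 (flp_g L175525) L175513 L207523
theorem L207527 : sm gb N26824 = N24406 := ded_17_1 (flp_g L190160) L158473 (flp_g L123560) (flp_b L175515) L207523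
theorem L207529 : sm gb N22470 = N26825 := rfl
theorem L207531 : sm gd N26825 = N26488 := ded_14_2 (flp_b L206966) L206960 L207529
theorem L207533 : sm ge N26825 = N25399 := ded_15_2 (flp_b L202294) L202290 L207529
theorem L207535 : sm gc N26825 = N22477 := ded_13_2 (flp_b L175573) (flp_c L123572) (flp_b L123566) L175529 L207529
theorem L207537 : sm ga N26825 = N25547 := ded_7_1 (flp_b L201972) (flp_a L201994) (flp_b L178585) L129815 (flp_b L105616) (flp_a L153069) L184549 L184559 L207529
theorem L207539 : sm gf N25547 = N26825 := ded_30_4 L207535 (flp_b L175573) L123574 (flp_f L143417) L143415 (flp_b L143437) (flp_a L146076) (flp_f L146082) (flp_c L152184) (flp_b L178101) L178095 (flp_f L178325) (flp_c L178331) (flp_b L202228) L202220 (flp_f L175535) L175529 L207529 L207537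
theorem L207541 : sm gg N25396 = N26825 := ded_24_0 L207531 (flp_g L204654) (flp_d L197523)
theorem L207543 : sm gg N22470 = N26826 := rfl
theorem L207545 : sm ga N26826 = N26607 := ded_12_1 L205697 L184559 L207543
theorem L207547 : sm gc N26826 = N22473 := ded_21_1 (flp_g L175541) L175529 L207543
theorem L207549 : sm gd N26826 = N26489 := ded_24_1 (flp_g L206964) L206960 L207543
theorem L207551 : sm ge N26826 = N25400 := ded_26_1 L202292 L202290 L207543
theorem L207553 : sm gf N26826 = N26129 := ded_29_2 L202206 L202208 L202214 L207543
theorem L207555 : sm gb N26826 = N25397 := ded_17_1 (flp_g L197530) L197521 L207541 (flp_b L207529) L207543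
theorem L207557 : sm gg N22471 = N26827 := rfl
theorem L207559 : sm gc N26827 = N25400 := ded_21_1 L202292 L202286 L207557
theorem L207561 : sm ge N26827 = N22473 := ded_26_1 (flp_g L175541) L175531 L207557
theorem L207563 : sm gf N26827 = N26137 := ded_29_2 L202268 (flp_a L202274) (flp_f L202280) L207557
theorem L207565 : sm gb N26827 = N26478 := ded_17_1 (flp_g L207241) (flp_b L207243) (flp_g L175603) (flp_b L175533) L207557
theorem L207567 : sm gg N22472 = N26828 := rfl
theorem L207569 : sm ga N26828 = N23532 := ded_12_1 (flp_g L202226) L202220 L207567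
theorem L207571 : sm gd N26828 = N22475 := ded_24_1 (flp_g L175559) (flp_d L175537) L207567
theorem L207573 : sm gf N26650 = N26828 := ded_29_0 (flp_g L207567) (flp_f L175535) L175541 (flp_a L206030)
theorem L207575 : sm gb N26828 = N25011 := ded_17_1 L194404 (flp_b L184432) L152876 (flp_b L175539) L207567
theorem L207577 : sm ga N22477 = N26829 := rfl
theorem L207579 : sm gc N26829 = N25547 := ded_8_2 (flp_a L207537) L207535 L207577
theorem L207581 : sm gf N26829 = N22477 := ded_30_4 (flp_c L207535) (flp_b L207529) (flp_a L184559) L184557 L202218 L202228 (flp_a L183169) L193979 L193975 L178101 L152182 (flp_f L105165) L105163 L143437 (flp_a L123582) (flp_f L123580) L123572 L175573 L207577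
theorem L207583 : sm ge N25549 = N26829 := ded_19_0 L207579 L198435 (flp_c L198442)
theorem L207585 : sm gg N25546 = N26829 := ded_21_0 L207579 (flp_g L198431) L198422
theorem L207587 : sm gd N22477 = N26830 := rfl
theorem L207589 : sm gb N26830 = N22478 := ded_14_1 (flp_d L175575) L175573 L207587
theorem L207591 : sm ge N22477 = N26831 := rfl
theorem L207593 : sm ga N26831 = N25549 := ded_10_1 L207583 (flp_a L207577) L207591
theorem L207595 : sm gb N26831 = N22479 := ded_15_1 (flp_e L175581) L175573 L207591
theorem L207597 : sm gc N26831 = N25399 := ded_19_1 (flp_e L207533) L207535 L207591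
theorem L207599 : sm gf N26831 = N25549 := ded_25_2 L207583 L207581 L207591
theorem L207601 : sm gg N25398 = N26831 := ded_12_0 L207593 (flp_g L198440) (flp_a L197544)
theorem L207603 : sm gg N22477 = N26832 := rfl
theorem L207605 : sm ga N26832 = N25546 := ded_12_1 L207585 (flp_a L207577) L207603
theorem L207607 : sm gc N26832 = N25396 := ded_21_1 L207541 L207535 L207603
theorem L207609 : sm ge N26832 = N25398 := ded_26_1 L207601 (flp_e L207591) L207603
theorem L207611 : sm gf N26832 = N26832 := ded_29_0 (flp_g L207603) (flp_f L207581) (flp_g L207585) (flp_a L207605)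
theorem L207612 : sm ge N22478 = N26833 := rfl
theorem L207614 : sm ga N26833 = N22484 := ded_10_1 (flp_e L175619) (flp_a L175577) L207612
theorem L207616 : sm gc N26833 = N26819 := ded_19_1 (flp_e L207485) L175579 L207612
theorem L207618 : sm gg N22478 = N26834 := rfl
theorem L207620 : sm ga N26834 = N22485 := ded_12_1 (flp_g L175621) (flp_a L175577) L207618
theorem L207622 : sm gc N26834 = N26820 := ded_21_1 (flp_g L207489) L175579 L207618
theorem L207624 : sm gd N26834 = N22480 := ded_24_1 (flp_g L175587) L175575 L207618
theorem L207626 : sm gf N23590 = N26834 := ded_29_0 (flp_g L207618) (flp_f L183853) (flp_g L205044) L205040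
theorem L207628 : sm gd N22479 = N26835 := rfl
theorem L207630 : sm ga N26835 = N22486 := ded_9_1 (flp_d L175625) (flp_a L175583) L207628
theorem L207632 : sm gg N22479 = N26836 := rfl
theorem L207634 : sm ga N26836 = N22487 := ded_12_1 (flp_g L175627) (flp_a L175583) L207632
theorem L207636 : sm gc N26836 = N22482 := ded_21_1 (flp_g L175603) (flp_c L175585) L207632
theorem L207638 : sm ge N26836 = N22480 := ded_26_1 (flp_g L175587) L175581 L207632
theorem L207640 : sm gf N26836 = N23259 := ded_29_2 (flp_g L181607) L181593 L181599 L207632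
theorem L207642 : sm gd N22484 = N26837 := rfl
theorem L207644 : sm ge N26837 = N22486 := ded_22_2 (flp_d L175625) (flp_e L123598) L123596 L175619 L207642
theorem L207646 : sm gg N22484 = N26838 := rfl
theorem L207648 : sm ge N26838 = N22485 := ded_26_1 (flp_g L175621) L175619 L207646
theorem L207650 : sm gb N22485 = N26839 := rfl
theorem L207652 : sm gd N26839 = N22488 := ded_14_2 (flp_b L175633) (flp_d L175623) L207650
theorem L207654 : sm gf N26839 = N25161 := ded_16_2 L195769 (flp_f L173829) (flp_b L205046) L205042 L207650
theorem L207656 : sm ga N26839 = N25153 := ded_30_3 L195705 (flp_c L164482) L113590 (flp_a L113206) L113208 L94953 (flp_b L100041) (flp_a L125830) (flp_f L177154) (flp_c L188771) L188777 L184135 (flp_f L184111) L184105 L205036 (flp_a L205028) (flp_f L205022) L205018 L207650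
theorem L207658 : sm gc N25152 = N26839 := ded_28_6 L207652 (flp_a L183319) (flp_c L183317) (flp_d L178187) (flp_c L178195) L150780 L164382 L195697
theorem L207660 : sm gc N22486 = N26840 := rfl
theorem L207662 : sm gg N22486 = N26841 := rfl
theorem L207664 : sm gd N26841 = N22487 := ded_24_1 (flp_g L175627) L175625 L207662
theorem L207666 : sm gb N22487 = N26842 := rfl
theorem L207668 : sm ge N26842 = N22488 := ded_15_2 (flp_b L175633) (flp_e L175631) L207666
theorem L207670 : sm gc N26842 = N24299 := ded_13_2 (flp_b L189335) L157877 (flp_b L123618) (flp_c L175629) L207666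
theorem L207672 : sm gf N22487 = N26843 := rfl
theorem L207674 : sm ga N26843 = N23259 := ded_11_1 (flp_f L207640) L207634 L207672
theorem L207676 : sm gc N26843 = N22491 := ded_20_1 (flp_f L175651) (flp_c L175629) L207672
theorem L207678 : sm ge N26843 = N22489 := ded_25_1 (flp_f L175637) (flp_e L175631) L207672
theorem L207680 : sm gg N26843 = N23257 := ded_29_3 (flp_a L181593) (flp_f L144951) L175627 L207672
theorem L207682 : sm gb N22490 = N26844 := rfl
theorem L207684 : sm ge N26844 = N22492 := ded_15_2 (flp_b L175659) (flp_e L175647) L207682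
theorem L207686 : sm gf N26844 = N26684 := ded_16_2 L206322 L207233 (flp_b L207243) L175649 L207682
theorem L207688 : sm gc N26687 = N26844 := ded_19_3 L207684 (flp_c L175665) (flp_e L206344)
theorem L207690 : sm gb N22491 = N26845 := rfl
theorem L207692 : sm ge N26845 = N22493 := ded_15_2 (flp_b L175669) (flp_e L175655) L207690
theorem L207694 : sm gf N26845 = N24300 := ded_16_2 (flp_b L189345) (flp_f L157891) (flp_b L123618) L175651 L207690
theorem L207696 : sm ga N23215 = N26845 := ded_10_3 L207692 L175699 (flp_e L181305)
theorem L207698 : sm gc N23214 = N26845 := ded_19_3 L207692 (flp_c L175701) (flp_e L181301)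
theorem L207700 : sm gc N22496 = N26846 := rfl
theorem L207702 : sm ga N26846 = N22497 := ded_8_1 (flp_c L175703) L175691 L207700
theorem L207704 : sm gf N26846 = N24301 := ded_20_2 (flp_c L189349) (flp_f L175693) L207700
theorem L207706 : sm gg N26846 = N26550 := ded_21_2 (flp_c L205169) L189377 L207700
theorem L207708 : sm gg N22497 = N26847 := rfl
theorem L207710 : sm ga N26847 = N26550 := ded_12_1 (flp_g L207706) L207702 L207708
theorem L207712 : sm gc N26847 = N22498 := ded_21_1 (flp_g L175711) L175703 L207708
theorem L207714 : sm gc N22499 = N26848 := rfl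
theorem L207716 : sm ga N26848 = N22502 := ded_8_1 (flp_c L175735) (flp_a L175717) L207714
theorem L207718 : sm ge N26848 = N22851 := ded_19_2 (flp_c L178591) (flp_e L175721) L207714
theorem L207720 : sm gf N26848 = N25212 := ded_20_2 L196199 L189121 L207714
theorem L207722 : sm gd N22502 = N26849 := rfl
theorem L207724 : sm gb N26849 = N24748 := ded_14_1 L192563 (flp_b L178773) L207722
theorem L207726 : sm gg N26849 = N24751 := ded_24_2 L192587 L180903 L207722
theorem L207728 : sm ge N26849 = N25024 := ded_22_2 L194526 L176304 (flp_d L176356) L176350 L207722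
theorem L207730 : sm gf N22502 = N26850 := rfl
theorem L207732 : sm ga N26850 = N25212 := ded_11_1 (flp_f L207720) L207716 L207730
theorem L207734 : sm gc N26850 = N22503 := ded_20_1 (flp_f L175737) L175735 L207730
theorem L207736 : sm ge N26850 = N25213 := ded_25_1 (flp_f L196211) L176350 L207730
theorem L207738 : sm gg N26850 = N25210 := ded_29_3 (flp_a L196179) (flp_f L180901) L180903 L207730
theorem L207740 : sm gg N22503 = N26851 := rfl
theorem L207742 : sm ga N26851 = N25211 := ded_12_1 (flp_g L196193) L189123 L207740
theorem L207744 : sm gc N26851 = N25210 := ded_21_1 (flp_g L207738) L207734 L207740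
theorem L207746 : sm gd N26851 = N22505 := ded_24_1 (flp_g L175749) (flp_d L175739) L207740
theorem L207748 : sm ge N26851 = N23018 := ded_26_1 L179869 L176364 L207740
theorem L207750 : sm gf N22924 = N26851 := ded_29_0 (flp_g L207740) (flp_f L175737) L175741 L179163
theorem L207752 : sm gb N26851 = N22853 := ded_17_1 (flp_g L195261) L195263 (flp_g L178783) L178785 L207740
theorem L207754 : sm gc N22510 = N26852 := rfl
theorem L207756 : sm ga N26852 = N24948 := ded_8_1 L193867 (flp_a L175797) L207754
theorem L207758 : sm ge N26852 = N24937 := ded_19_2 L193791 (flp_e L175801) L207754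
theorem L207760 : sm gg N26852 = N24935 := ded_21_2 L193777 (flp_g L175799) L207754
theorem L207762 : sm gg N22512 = N26853 := rfl
theorem L207764 : sm gd N26853 = N22515 := ded_24_1 (flp_g L175829) (flp_d L175815) L207762
theorem L207766 : sm gf N23716 = N26853 := ded_29_0 (flp_g L207762) L175817 (flp_g L190037) L190033
theorem L207768 : sm gb N26853 = N26756 := ded_17_1 (flp_g L206974) L174631 (flp_g L123900) L175813 L207762
theorem L207770 : sm ge N22521 = N26854 := rfl
theorem L207772 : sm ga N26854 = N26500 := ded_10_1 (flp_e L204768) (flp_a L175873) L207770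
theorem L207774 : sm gf N22521 = N26855 := rfl
theorem L207776 : sm ga N26855 = N26501 := ded_11_1 (flp_f L204774) (flp_a L175873) L207774
theorem L207778 : sm gd N26855 = N22523 := ded_23_1 (flp_f L175881) L175871 L207774
theorem L207780 : sm gg N26855 = N26503 := ded_29_3 (flp_a L204786) (flp_f L204760) (flp_g L204766) L207774
theorem L207782 : sm gb N23625 = N26855 := ded_30_2 L207776 (flp_f L204774) L171954 (flp_b L124856) (flp_a L136988) L149039 L124477 (flp_b L119053) L102833 (flp_f L147511) (flp_c L147528) (flp_b L147533) (flp_a L109388) L148195 L149053 (flp_b L152524) (flp_a L184127) (flp_f L184125) L184121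
theorem L207784 : sm gd N22522 = N26856 := rfl
theorem L207786 : sm ga N26856 = N25497 := ded_9_1 (flp_d L198113) (flp_a L175877) L207784
theorem L207788 : sm gf N22522 = N26857 := rfl
theorem L207790 : sm ga N26857 = N25498 := ded_11_1 (flp_f L198117) (flp_a L175877) L207788
theorem L207792 : sm gc N26857 = N22524 := ded_20_1 (flp_f L175889) (flp_c L175879) L207788
theorem L207794 : sm ge N26857 = N22523 := ded_25_1 (flp_f L175881) L175875 L207788
theorem L207796 : sm gg N26857 = N25508 := ded_29_3 (flp_a L198179) (flp_f L198107) (flp_g L198109) L207788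
theorem L207798 : sm gf N22526 = N26858 := rfl
theorem L207800 : sm ge N26858 = N22527 := ded_25_1 (flp_f L175907) L175903 L207798
theorem L207802 : sm gb N26858 = N24414 := ded_16_1 (flp_f L190222) L158510 (flp_f L124023) (flp_b L175905) L207798
theorem L207804 : sm gg N22526 = N26859 := rfl
theorem L207806 : sm gc N26859 = N25598 := ded_21_1 L198759 L198649 L207804
theorem L207808 : sm ge N26859 = N22528 := ded_26_1 (flp_g L175911) L175903 L207804
theorem L207810 : sm gb N26859 = N25913 := ded_17_1 (flp_g L200721) (flp_b L169197) L124638 (flp_b L175905) L207804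
theorem L207812 : sm gf N25600 = N26859 := ded_20_0 L207806 L198757 L198769
theorem L207814 : sm gb N22529 = N26860 := rfl
theorem L207816 : sm gd N26860 = N26483 := ded_14_2 (flp_b L205693) L205687 L207814
theorem L207818 : sm ge N26860 = N25387 := ded_15_2 (flp_b L200653) L200649 L207814
theorem L207820 : sm gc N26860 = N22536 := ded_13_2 (flp_b L175967) (flp_c L124033) (flp_b L124027) L175919 L207814
theorem L207822 : sm ga N26860 = N25489 := ded_7_1 (flp_b L200293) L200287 (flp_b L178539) L129759 (flp_b L105434) (flp_a L152660) L184179 (flp_a L184189) L207814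
theorem L207824 : sm gf N25384 = N26860 := ded_23_0 L207816 (flp_f L204613) (flp_d L197423)
theorem L207826 : sm gg N25489 = N26860 := ded_24_0 L207816 L204619 (flp_d L198076)
theorem L207828 : sm gf N22529 = N26861 := rfl
theorem L207830 : sm ga N26861 = N26755 := ded_11_1 L206970 (flp_a L184189) L207828
theorem L207832 : sm gc N26861 = N22531 := ded_20_1 (flp_f L175925) L175919 L207828
theorem L207834 : sm gd N26861 = N26484 := ded_23_1 L205691 L205687 L207828
theorem L207836 : sm ge N26861 = N25388 := ded_25_1 (flp_f L200651) L200649 L207828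
theorem L207838 : sm gg N25894 = N26861 := ded_29_1 (flp_f L207828) (flp_g L200573) (flp_a L200567) (flp_f L200565)
theorem L207840 : sm gb N26861 = N25385 := ded_16_1 (flp_f L197430) L197421 L207824 (flp_b L207814) L207828
theorem L207842 : sm gf N22530 = N26862 := rfl
theorem L207844 : sm gc N26862 = N25388 := ded_20_1 (flp_f L200651) L200645 L207842
theorem L207846 : sm ge N26862 = N22531 := ded_25_1 (flp_f L175925) L175921 L207842
theorem L207848 : sm gg N25902 = N26862 := ded_29_1 (flp_f L207842) L200639 L200633 (flp_f L200627)
theorem L207850 : sm gb N26862 = N26481 := ded_16_1 L206084 (flp_b L206086) (flp_f L175989) (flp_b L175923) L207842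
theorem L207852 : sm gf N22532 = N26863 := rfl
theorem L207854 : sm ga N26863 = N23596 := ded_11_1 (flp_f L200583) L200579 L207852
theorem L207856 : sm gd N26863 = N22535 := ded_23_1 (flp_f L175957) (flp_d L175933) L207852
theorem L207858 : sm gg N26863 = N26788 := ded_29_3 L207213 (flp_f L175925) L175931 L207852
theorem L207860 : sm gb N26863 = N25032 := ded_16_1 (flp_f L194597) (flp_b L184810) (flp_f L153301) (flp_b L175935) L207852
theorem L207862 : sm ga N22536 = N26864 := rfl
theorem L207864 : sm gc N26864 = N25489 := ded_8_2 (flp_a L207822) L207820 L207862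
theorem L207866 : sm gf N26864 = N25488 := ded_30_4 (flp_c L198065) (flp_b L167421) (flp_a L117199) (flp_f L117197) (flp_c L117173) (flp_b L151698) L151696 (flp_f L104955) L104953 L149486 L109388 L109428 L109430 (flp_b L98949) (flp_a L124043) (flp_f L124041) L124033 L175967 L207862
theorem L207868 : sm gg N26864 = N22536 := ded_29_3 L207862 L207866 L198069 (flp_f L207866)
theorem L207870 : sm ge N25491 = N26864 := ded_19_0 L207864 L198078 (flp_c L198085)
theorem L207872 : sm gd N22536 = N26865 := rfl
theorem L207874 : sm gb N26865 = N22537 := ded_14_1 (flp_d L175969) L175967 L207872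
theorem L207876 : sm ge N22536 = N26866 := rfl
theorem L207878 : sm ga N26866 = N25491 := ded_10_1 L207870 (flp_a L207862) L207876
theorem L207880 : sm gb N26866 = N22538 := ded_15_1 (flp_e L175975) L175967 L207876
theorem L207882 : sm gc N26866 = N25387 := ded_19_1 (flp_e L207818) L207820 L207876
theorem L207884 : sm gg N26866 = N25491 := ded_26_2 L207870 L207868 L207876
theorem L207886 : sm gf N25386 = N26866 := ded_11_0 L207878 (flp_f L198083) (flp_a L197444)
theorem L207888 : sm gf N22536 = N26867 := rfl
theorem L207890 : sm ga N26867 = N25488 := ded_11_1 (flp_f L207866) (flp_a L207862) L207888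
theorem L207892 : sm gc N26867 = N25384 := ded_20_1 L207824 L207820 L207888
theorem L207894 : sm ge N26867 = N25386 := ded_25_1 L207886 (flp_e L207876) L207888
theorem L207896 : sm gg N26867 = N26867 := ded_29_3 L207890 (flp_f L207866) L207868 L207888
theorem L207897 : sm ge N22537 = N26868 := rfl
theorem L207899 : sm ga N26868 = N22543 := ded_10_1 (flp_e L176013) (flp_a L175971) L207897
theorem L207901 : sm gc N26868 = N26854 := ded_19_1 (flp_e L207770) L175973 L207897
theorem L207903 : sm gf N22537 = N26869 := rfl
theorem L207905 : sm ga N26869 = N22544 := ded_11_1 (flp_f L176015) (flp_a L175971) L207903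
theorem L207907 : sm gc N26869 = N26855 := ded_20_1 (flp_f L207774) L175973 L207903
theorem L207909 : sm gd N26869 = N22539 := ded_23_1 (flp_f L175981) L175969 L207903
theorem L207911 : sm gg N26869 = N23565 := ded_29_3 (flp_a L204798) L204800 L183795 L207903
theorem L207913 : sm gd N22538 = N26870 := rfl
theorem L207915 : sm ga N26870 = N22545 := ded_9_1 (flp_d L176019) (flp_a L175977) L207913
theorem L207917 : sm gf N22538 = N26871 := rfl
theorem L207919 : sm ga N26871 = N22546 := ded_11_1 (flp_f L176021) (flp_a L175977) L207917
theorem L207921 : sm gc N26871 = N22540 := ded_20_1 (flp_f L175989) (flp_c L175979) L207917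
theorem L207923 : sm ge N26871 = N22539 := ded_25_1 (flp_f L175981) L175975 L207917
theorem L207925 : sm gg N23330 = N26871 := ded_29_1 (flp_f L207917) (flp_g L182081) (flp_a L182075) L182089
theorem L207927 : sm gd N22543 = N26872 := rfl
theorem L207929 : sm ge N26872 = N22545 := ded_22_2 (flp_d L176019) (flp_e L124067) L124065 L176013 L207927
theorem L207931 : sm gf N22543 = N26873 := rfl
theorem L207933 : sm ge N26873 = N22544 := ded_25_1 (flp_f L176015) L176013 L207931
theorem L207935 : sm gb N22544 = N26874 := rfl
theorem L207937 : sm gd N26874 = N22547 := ded_14_2 (flp_b L176027) (flp_d L176017) L207935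
theorem L207939 : sm gg N26874 = N25130 := ded_17_2 L195488 L175262 (flp_b L204804) L204802 L207935
theorem L207941 : sm ga N25121 = N26874 := ded_9_3 L207937 (flp_a L183237) (flp_d L195424)
theorem L207943 : sm gc N25120 = N26874 := ded_28_6 L207937 (flp_a L183237) (flp_c L183235) (flp_d L178129) (flp_c L178137) L143551 L163071 L195412
theorem L207945 : sm gc N22545 = N26875 := rfl
theorem L207947 : sm gf N22545 = N26876 := rfl
theorem L207949 : sm gd N26876 = N22546 := ded_23_1 (flp_f L176021) L176019 L207947
theorem L207951 : sm gb N22546 = N26877 := rfl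
theorem L207953 : sm ge N26877 = N22547 := ded_15_2 (flp_b L176027) (flp_e L176025) L207951
theorem L207955 : sm gc N26877 = N24356 := ded_13_2 (flp_b L189767) L158175 (flp_b L124083) (flp_c L176023) L207951
theorem L207957 : sm gg N22546 = N26878 := rfl
theorem L207959 : sm ga N26878 = N23330 := ded_12_1 L207925 L207919 L207957
theorem L207961 : sm gc N26878 = N22549 := ded_21_1 (flp_g L176039) (flp_c L176023) L207957
theorem L207963 : sm ge N26878 = N22548 := ded_26_1 (flp_g L176031) (flp_e L176025) L207957
theorem L207965 : sm gf N23328 = N26878 := ded_29_0 (flp_g L207957) (flp_f L176021) L151546 L182075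
theorem L207967 : sm gb N22549 = N26879 := rfl
theorem L207969 : sm ge N26879 = N22551 := ded_15_2 (flp_b L176053) (flp_e L176041) L207967
theorem L207971 : sm gg N26879 = N24357 := ded_17_2 (flp_b L189777) (flp_g L158189) (flp_b L124083) L176039 L207967
theorem L207973 : sm ga N23290 = N26879 := ded_10_3 L207969 L176077 (flp_e L181823)
theorem L207975 : sm gc N23289 = N26879 := ded_19_3 L207969 (flp_c L176079) (flp_e L181819)
theorem L207977 : sm gb N22550 = N26880 := rfl
theorem L207979 : sm ge N26880 = N22552 := ded_15_2 (flp_b L176059) (flp_e L176049) L207977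
theorem L207981 : sm gg N26880 = N26653 := ded_17_2 L206060 L206076 (flp_b L206086) (flp_g L176051) L207977
theorem L207983 : sm gc N26667 = N26880 := ded_19_3 L207979 (flp_c L176065) (flp_e L206174)
theorem L207985 : sm gc N22553 = N26881 := rfl
theorem L207987 : sm ga N26881 = N22554 := ded_8_1 (flp_c L176081) L176069 L207985
theorem L207989 : sm gf N26881 = N26521 := ded_20_2 (flp_c L204922) (flp_f L189807) L207985
theorem L207991 : sm gg N26881 = N24359 := ded_21_2 (flp_c L189783) (flp_g L176071) L207985
theorem L207993 : sm gb N26881 = N26847 := ded_13_1 L207712 L175713 L172493 (flp_b L176073) L207985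
theorem L207995 : sm gf N22554 = N26882 := rfl
theorem L207997 : sm ga N26882 = N26521 := ded_11_1 (flp_f L207989) L207987 L207995
theorem L207999 : sm gc N26882 = N22555 := ded_20_1 (flp_f L176087) L176081 L207995
theorem L208001 : sm gb N26882 = N26846 := ded_16_1 L207704 L189353 (flp_f L175456) (flp_b L176085) L207995
theorem L208003 : sm gc N22558 = N26883 := rfl
theorem L208005 : sm ga N26883 = N22561 := ded_8_1 (flp_c L176127) (flp_a L176109) L208003
theorem L208007 : sm ge N26883 = N22845 := ded_19_2 (flp_c L178545) (flp_e L176113) L208003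
theorem L208009 : sm gg N26883 = N25260 := ded_21_2 L196622 L188999 L208003
theorem L208011 : sm gd N22561 = N26884 := rfl
theorem L208013 : sm gb N26884 = N24797 := ded_14_1 L192885 (flp_b L178695) L208011
theorem L208015 : sm gf N26884 = N24800 := ded_23_2 L192909 L180791 L208011
theorem L208017 : sm ge N26884 = N25045 := ded_22_2 L194719 L176735 (flp_d L176779) L176773 L208011
theorem L208019 : sm gg N22561 = N26885 := rfl
theorem L208021 : sm ga N26885 = N25260 := ded_12_1 (flp_g L208009) L208005 L208019
theorem L208023 : sm gc N26885 = N22563 := ded_21_1 (flp_g L176137) L176127 L208019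
theorem L208025 : sm ge N26885 = N25261 := ded_26_1 L196636 L176773 L208019
theorem L208027 : sm gf N25258 = N26885 := ded_29_0 (flp_g L208019) (flp_f L180791) L180793 L196600
theorem L208029 : sm gf N22563 = N26886 := rfl
theorem L208031 : sm ga N26886 = N25259 := ded_11_1 (flp_f L196616) L189001 L208029
theorem L208033 : sm gc N26886 = N25258 := ded_20_1 L208027 L208023 L208029
theorem L208035 : sm gd N26886 = N22565 := ded_23_1 (flp_f L176149) (flp_d L176139) L208029
theorem L208037 : sm ge N26886 = N23043 := ded_25_1 (flp_f L180087) L176787 L208029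
theorem L208039 : sm gg N26886 = N22953 := ded_29_3 (flp_a L179361) (flp_f L176129) L176137 L208029
theorem L208041 : sm gb N26886 = N22855 := ded_16_1 L194975 L194977 L178705 L178707 L208029
theorem L208043 : sm gf N22566 = N26887 := rfl
theorem L208045 : sm ga N26887 = N22567 := ded_11_1 (flp_f L176169) L176159 L208043
theorem L208047 : sm gc N26887 = N23834 := ded_20_1 (flp_f L185831) (flp_c L176161) L208043
theorem L208049 : sm gd N26887 = N25003 := ded_23_1 (flp_f L194339) (flp_d L176163) L208043
theorem L208051 : sm ge N26887 = N23751 := ded_25_1 (flp_f L185095) (flp_e L176165) L208043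
theorem L208053 : sm gg N26887 = N25175 := ded_29_3 (flp_a L196011) L196007 L188989 L208043
theorem L208055 : sm gb N26887 = N23930 := ded_16_1 L194297 (flp_b L194285) (flp_f L161711) (flp_b L176167) L208043
theorem L208057 : sm ge N22572 = N26888 := rfl
theorem L208059 : sm ga N26888 = N26293 := ded_10_1 L203363 (flp_a L176227) L208057
theorem L208061 : sm gb N26888 = N22574 := ded_15_1 (flp_e L176250) (flp_b L176229) L208057
theorem L208063 : sm gc N26888 = N25918 := ded_19_1 L200777 L176233 L208057
theorem L208065 : sm gf N26888 = N26292 := ded_25_2 L203356 L176235 L208057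
theorem L208067 : sm gg N26888 = N26293 := ded_26_2 L203363 (flp_g L176231) L208057
theorem L208069 : sm gd N26888 = N22699 := ded_22_1 L177326 L125930 (flp_e L141102) L176225 L208057
theorem L208071 : sm gb N22576 = N26889 := rfl
theorem L208073 : sm gd N26889 = N25005 := ded_14_2 L194355 L194283 L208071
theorem L208075 : sm ge N26889 = N25214 := ded_15_2 (flp_b L196213) (flp_e L176280) L208071
theorem L208077 : sm gc N26889 = N25004 := ded_13_2 (flp_b L194347) L176346 (flp_b L176336) (flp_c L176278) L208071
theorem L208079 : sm gg N26889 = N25004 := ded_17_2 (flp_b L194347) L161737 (flp_b L163554) L176274 L208071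
theorem L208081 : sm ga N26889 = N26889 := ded_7_1 (flp_b L208071) L176276 L158615 L158607 L109759 (flp_a L158607) (flp_b L158615) (flp_a L176276) L208071
theorem L208082 : sm ge N22577 = N26890 := rfl
theorem L208084 : sm ga N26890 = N26349 := ded_10_1 L203719 (flp_a L176284) L208082
theorem L208086 : sm gb N26890 = N25953 := ded_15_1 L200982 (flp_b L176288) L208082
theorem L208088 : sm gc N26890 = N22578 := ded_19_1 (flp_e L176290) L176282 L208082
theorem L208090 : sm gf N26890 = N24557 := ded_25_2 L191281 (flp_f L176286) L208082
theorem L208092 : sm gg N22578 = N26891 := rfl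
theorem L208094 : sm gd N26891 = N25212 := ded_24_1 (flp_g L196197) (flp_d L176294) L208092
theorem L208096 : sm ge N26891 = N22579 := ded_26_1 (flp_g L176296) L176290 L208092
theorem L208098 : sm gg N22588 = N26892 := rfl
theorem L208100 : sm gd N26892 = N22589 := ded_24_1 (flp_g L176388) L176380 L208098
theorem L208102 : sm ge N26892 = N24644 := ded_26_1 (flp_g L191876) (flp_e L176386) L208098
theorem L208104 : sm gf N22986 = N26892 := ded_29_0 (flp_g L208098) L176384 L191968 L191970
theorem L208106 : sm gb N26892 = N26559 := ded_17_1 L205254 L177200 (flp_g L149666) (flp_b L176382) L208098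
theorem L208108 : sm ge N22592 = N26893 := rfl
theorem L208110 : sm gb N26893 = N22593 := ded_15_1 (flp_e L176428) L176420 L208108
theorem L208112 : sm gc N26893 = N26780 := ded_19_1 L207148 (flp_c L176424) L208108
theorem L208114 : sm gf N26893 = N26772 := ded_25_2 L207097 L176426 L208108
theorem L208116 : sm gd N22593 = N26894 := rfl
theorem L208118 : sm ga N26894 = N22603 := ded_9_1 (flp_d L176508) (flp_a L176430) L208116
theorem L208120 : sm gf N22593 = N26895 := rfl
theorem L208122 : sm ga N26895 = N22604 := ded_11_1 (flp_f L176512) (flp_a L176430) L208120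
theorem L208124 : sm gc N26895 = N22597 := ded_20_1 (flp_f L176460) (flp_c L176432) L208120
theorem L208126 : sm ge N26895 = N22594 := ded_25_1 (flp_f L176434) L176428 L208120
theorem L208128 : sm gg N26895 = N22647 := ded_29_1 L176919 (flp_g L176520) (flp_a L176430) L208120
theorem L208130 : sm gg N22593 = N26896 := rfl
theorem L208132 : sm ga N26896 = N22605 := ded_12_1 (flp_g L176520) (flp_a L176430) L208130
theorem L208134 : sm gc N26896 = N22598 := ded_21_1 (flp_g L176470) (flp_c L176432) L208130
theorem L208136 : sm ge N26896 = N22595 := ded_26_1 (flp_g L176442) L176428 L208130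
theorem L208138 : sm gf N22642 = N26896 := ded_29_0 (flp_g L208130) L208120 L208128 L176915
theorem L208140 : sm gb N22594 = N26897 := rfl
theorem L208142 : sm gc N26897 = N26778 := ded_13_2 L207140 L179799 L143391 (flp_c L176438) L208140
theorem L208144 : sm gf N26897 = N26774 := ded_16_2 (flp_b L207109) L176426 (flp_b L176420) L176434 L208140
theorem L208146 : sm gg N26897 = N26778 := ded_17_2 L207140 (flp_g L179803) L164442 (flp_g L176440) L208140
theorem L208148 : sm ga N26897 = N26897 := ded_7_1 (flp_b L208140) L176436 L143409 L105177 L89760 (flp_a L105177) (flp_b L143409) (flp_a L176436) L208140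
theorem L208149 : sm gb N22595 = N26898 := rfl
theorem L208151 : sm gd N26898 = N22646 := ded_14_2 (flp_b L176907) (flp_d L176448) L208149
theorem L208153 : sm gc N26898 = N25138 := ded_13_2 L195560 (flp_c L188725) (flp_b L176476) (flp_c L176446) L208149
theorem L208155 : sm gf N26898 = N26874 := ded_16_2 (flp_b L207935) (flp_f L176015) (flp_b L124856) L176450 L208149
theorem L208157 : sm gg N26898 = N25136 := ded_17_2 (flp_b L207081) (flp_g L207079) (flp_b L176420) L176442 L208149
theorem L208159 : sm gb N22598 = N26899 := rfl
theorem L208161 : sm ge N26899 = N22599 := ded_15_2 (flp_b L176476) (flp_e L176474) L208159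
theorem L208163 : sm gg N26899 = N22912 := ded_17_2 (flp_b L179071) L130256 (flp_b L130508) L176470 L208159
theorem L208165 : sm ga N24194 = N26899 := ded_10_3 L208161 (flp_a L176482) L188567
theorem L208167 : sm gd N22601 = N26900 := rfl
theorem L208169 : sm gb N26900 = N26837 := ded_14_1 (flp_d L207642) (flp_b L176494) L208167
theorem L208171 : sm ge N26900 = N22603 := ded_22_2 (flp_d L176508) (flp_e L124465) L124461 L176492 L208167
theorem L208173 : sm gg N22601 = N26901 := rfl
theorem L208175 : sm ga N26901 = N22644 := ded_12_1 (flp_g L176895) L176534 L208173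
theorem L208177 : sm gc N26901 = N22639 := ded_21_1 L176855 (flp_c L176496) L208173
theorem L208179 : sm ge N26901 = N22602 := ded_26_1 (flp_g L176498) L176492 L208173
theorem L208181 : sm gf N22638 = N26901 := ded_29_0 (flp_g L208173) L176903 (flp_g L176897) (flp_a L176843)
theorem L208183 : sm gb N22602 = N26902 := rfl
theorem L208185 : sm gd N26902 = N22606 := ded_14_2 (flp_b L176526) (flp_d L176504) L208183
theorem L208187 : sm gc N26902 = N25167 := ded_13_2 L195817 (flp_c L188875) (flp_b L176857) (flp_c L176502) L208183
theorem L208189 : sm gf N26902 = N25165 := ded_16_2 (flp_b L205866) L205864 (flp_b L176833) L176506 L208183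
theorem L208191 : sm gg N26902 = N26839 := ded_17_2 (flp_b L207650) (flp_g L175621) (flp_b L124463) L176498 L208183
theorem L208193 : sm gc N22603 = N26903 := rfl
theorem L208195 : sm gf N22603 = N26904 := rfl
theorem L208197 : sm gd N26904 = N22604 := ded_23_1 (flp_f L176512) L176508 L208195
theorem L208199 : sm gb N26904 = N23261 := ded_16_1 (flp_f L181621) (flp_b L181603) L181605 (flp_b L176510) L208195
theorem L208201 : sm gg N22603 = N26905 := rfl
theorem L208203 : sm gd N26905 = N22605 := ded_24_1 (flp_g L176520) L176508 L208201
theorem L208205 : sm gb N22605 = N26906 := rfl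
theorem L208207 : sm ge N26906 = N22606 := ded_15_2 (flp_b L176526) (flp_e L176524) L208205
theorem L208209 : sm gc N26906 = N22742 := ded_13_2 (flp_b L177663) (flp_c L129862) (flp_b L129870) (flp_c L176522) L208205
theorem L208211 : sm gg N26906 = N26842 := ded_17_2 (flp_b L207666) (flp_g L175627) (flp_b L124467) L176520 L208205
theorem L208213 : sm gd N22607 = N26907 := rfl
theorem L208215 : sm ga N26907 = N26900 := ded_9_1 (flp_d L208167) (flp_a L176534) L208213
theorem L208217 : sm ge N26907 = N26894 := ded_22_2 (flp_d L208116) (flp_e L176428) (flp_d L142451) (flp_e L176536) L208213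
theorem L208219 : sm gf N22607 = N26908 := rfl
theorem L208221 : sm ga N26908 = N22645 := ded_11_1 (flp_f L176903) (flp_a L176534) L208219
theorem L208223 : sm gc N26908 = N22608 := ded_20_1 (flp_f L176538) L176532 L208219
theorem L208225 : sm ge N26908 = N22610 := ded_25_1 (flp_f L176558) (flp_e L176536) L208219
theorem L208227 : sm gg N26908 = N22638 := ded_29_3 L176843 L176889 (flp_g L176895) L208219
theorem L208229 : sm gb N22610 = N26909 := rfl
theorem L208231 : sm gd N26909 = N26897 := ded_14_2 (flp_b L208140) (flp_d L176564) L208229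
theorem L208233 : sm gc N26909 = N26637 := ded_13_2 L205925 L180025 (flp_b L143647) (flp_c L176562) L208229
theorem L208235 : sm gf N26909 = N26637 := ded_16_2 L205925 (flp_f L180029) L164017 L176558 L208229
theorem L208237 : sm gg N26909 = N26631 := ded_17_2 (flp_b L205884) L176839 (flp_b L176833) (flp_g L176566) L208229
theorem L208239 : sm ga N26909 = N26909 := ded_7_1 (flp_b L208229) L176560 (flp_b L151360) L105382 L89853 (flp_a L105382) L151360 (flp_a L176560) L208229
theorem L208240 : sm gg N22612 = N26910 := rfl
theorem L208242 : sm ga N26910 = N22614 := ded_12_1 (flp_g L176600) L176580 L208240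
theorem L208244 : sm gc N26910 = N23809 := ded_21_1 (flp_g L185567) (flp_c L176582) L208240
theorem L208246 : sm gd N26910 = N24984 := ded_24_1 (flp_g L194167) (flp_d L176584) L208240
theorem L208248 : sm ge N26910 = N23775 := ded_26_1 (flp_g L185297) (flp_e L176586) L208240
theorem L208250 : sm gf N25223 = N26910 := ded_29_0 (flp_g L208240) (flp_f L188951) (flp_g L196422) (flp_a L196426)
theorem L208252 : sm gb N26910 = N23939 := ded_17_1 L194135 (flp_b L194123) L161460 (flp_b L176588) L208240
theorem L208254 : sm ge N22618 = N26911 := rfl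
theorem L208256 : sm ga N26911 = N26369 := ded_10_1 L203863 (flp_a L176648) L208254
theorem L208258 : sm gb N26911 = N22620 := ded_15_1 (flp_e L176671) (flp_b L176650) L208254
theorem L208260 : sm gc N26911 = N26153 := ded_19_1 L202418 L176654 L208254
theorem L208262 : sm gf N26911 = N26369 := ded_25_2 L203863 (flp_f L176652) L208254
theorem L208264 : sm gg N26911 = N26368 := ded_26_2 L203856 L176656 L208254
theorem L208266 : sm gd N26911 = N22733 := ded_22_1 L177589 L126728 (flp_e L142036) L176646 L208254
theorem L208268 : sm gb N22621 = N26912 := rfl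
theorem L208270 : sm gd N26912 = N24986 := ded_14_2 L194183 L194121 L208268
theorem L208272 : sm ge N26912 = N25262 := ded_15_2 (flp_b L196638) (flp_e L176689) L208268
theorem L208274 : sm gc N26912 = N24985 := ded_13_2 (flp_b L194175) L176769 (flp_b L176757) (flp_c L176687) L208268
theorem L208276 : sm gf N26912 = N24985 := ded_16_2 (flp_b L194175) (flp_f L161486) (flp_b L163417) L176683 L208268
theorem L208278 : sm ga N26912 = N26912 := ded_7_1 (flp_b L208268) L176685 L158742 L158734 L109892 (flp_a L158734) (flp_b L158742) (flp_a L176685) L208268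
theorem L208279 : sm ge N22623 = N26913 := rfl
theorem L208281 : sm ga N26913 = N26428 := ded_10_1 L204245 (flp_a L176705) L208279
theorem L208283 : sm gb N26913 = N26188 := ded_15_1 L202629 (flp_b L176709) L208279
theorem L208285 : sm gc N26913 = N22624 := ded_19_1 (flp_e L176711) L176703 L208279
theorem L208287 : sm gg N26913 = N24611 := ded_26_2 L191654 (flp_g L176707) L208279
theorem L208289 : sm gf N22624 = N26914 := rfl
theorem L208291 : sm gd N26914 = N25260 := ded_23_1 (flp_f L196620) (flp_d L176715) L208289
theorem L208293 : sm ge N26914 = N22625 := ded_25_1 (flp_f L176717) L176711 L208289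
theorem L208295 : sm gf N22634 = N26915 := rfl
theorem L208297 : sm gd N26915 = N22635 := ded_23_1 (flp_f L176811) L176803 L208295
theorem L208299 : sm ge N26915 = N24589 := ded_25_1 (flp_f L191495) (flp_e L176809) L208295
theorem L208301 : sm gg N26915 = N22990 := ded_29_3 (flp_a L191589) (flp_f L191587) (flp_g L176807) L208295
theorem L208303 : sm gb N26915 = N26715 := ded_16_1 L206573 L177475 L149660 (flp_b L176805) L208295
theorem L208305 : sm ge N22637 = N26916 := rfl
theorem L208307 : sm gb N26916 = N22638 := ded_15_1 (flp_e L176841) L176833 L208305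
theorem L208309 : sm gc N26916 = N26639 := ded_19_1 L205933 (flp_c L176837) L208305
theorem L208311 : sm gg N26916 = N26629 := ded_26_2 L205876 L176839 L208305
theorem L208313 : sm gd N22638 = N26917 := rfl
theorem L208315 : sm ga N26917 = N22643 := ded_9_1 (flp_d L176885) (flp_a L176843) L208313
theorem L208317 : sm gb N22639 = N26918 := rfl
theorem L208319 : sm gd N26918 = N26899 := ded_14_2 (flp_b L208159) (flp_d L176851) L208317
theorem L208321 : sm ge N26918 = N22640 := ded_15_2 (flp_b L176857) (flp_e L176853) L208317
theorem L208323 : sm gf N26918 = N22941 := ded_16_2 (flp_b L179267) (flp_f L130378) (flp_b L148854) L176847 L208317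
theorem L208325 : sm ga N26918 = N24197 := ded_7_1 L188591 L208165 (flp_b L208159) L176472 L129870 L129860 (flp_b L149043) (flp_a L176849) L208317
theorem L208327 : sm gd N22642 = N26919 := rfl
theorem L208329 : sm gb N26919 = N26872 := ded_14_1 (flp_d L207927) (flp_b L176879) L208327
theorem L208331 : sm gg N26919 = N26904 := ded_24_2 L208197 (flp_g L176883) L208327
theorem L208333 : sm ge N26919 = N22643 := ded_22_2 (flp_d L176885) (flp_e L124858) L124854 L176877 L208327
theorem L208335 : sm gc N22643 = N26920 := rfl
theorem L208337 : sm gf N22643 = N26921 := rfl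
theorem L208339 : sm gd N26921 = N22644 := ded_23_1 (flp_f L176889) L176885 L208337
theorem L208341 : sm gg N26907 = N26921 := ded_24_0 L208339 (flp_g L176895) L208213
theorem L208343 : sm gg N22643 = N26922 := rfl
theorem L208345 : sm gd N26922 = N22645 := ded_24_1 (flp_g L176897) L176885 L208343
theorem L208347 : sm ge N26922 = N26904 := ded_26_1 (flp_g L208331) L208333 L208343
theorem L208349 : sm gf N26900 = N26922 := ded_29_0 (flp_g L208343) L208337 (flp_g L208341) L208215
theorem L208351 : sm gb N26922 = N23331 := ded_17_1 (flp_g L182095) (flp_b L182085) L182087 (flp_b L176887) L208343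
theorem L208353 : sm gb N22644 = N26923 := rfl
theorem L208355 : sm ge N26923 = N22646 := ded_15_2 (flp_b L176907) (flp_e L176893) L208353
theorem L208357 : sm gc N26923 = N22743 := ded_13_2 (flp_b L177667) (flp_c L129846) (flp_b L149043) (flp_c L176891) L208353
theorem L208359 : sm gf N26923 = N26877 := ded_16_2 (flp_b L207951) (flp_f L176021) (flp_b L124860) L176889 L208353
theorem L208361 : sm gd N22647 = N26924 := rfl
theorem L208363 : sm ga N26924 = N26919 := ded_9_1 (flp_d L208327) (flp_a L176915) L208361
theorem L208365 : sm gf N26924 = N26905 := ded_23_2 L208203 (flp_f L176919) L208361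
theorem L208367 : sm ge N26924 = N26917 := ded_22_2 (flp_d L208313) (flp_e L176841) (flp_d L136990) (flp_e L176917) L208361
theorem L208369 : sm gf N22649 = N26925 := rfl
theorem L208371 : sm ga N26925 = N22703 := ded_11_1 L177358 L177140 L208369
theorem L208373 : sm gc N26925 = N23954 := ded_20_1 (flp_f L195896) L195892 L208369
theorem L208375 : sm gd N26925 = N22673 := ded_23_1 (flp_f L177132) (flp_d L176935) L208369
theorem L208377 : sm ge N26925 = N22673 := ded_25_1 (flp_f L177132) (flp_e L176937) L208369
theorem L208379 : sm gg N26925 = N22673 := ded_29_3 L177134 (flp_f L177126) (flp_g L177128) L208369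
theorem L208381 : sm gb N26925 = N22654 := ded_16_1 (flp_f L176979) (flp_b L125526) (flp_f L125485) L176933 L208369
theorem L208383 : sm gb N22650 = N26926 := rfl
theorem L208385 : sm ge N26926 = N22675 := ded_15_2 (flp_b L177146) (flp_e L176943) L208383
theorem L208387 : sm gc N26926 = N25181 := ded_13_2 L195946 L195892 (flp_b L176933) L176939 L208383
theorem L208389 : sm gf N26926 = N25274 := ded_16_2 L196739 (flp_f L186607) (flp_b L176991) (flp_f L176945) L208383
theorem L208391 : sm gg N26926 = N23759 := ded_17_2 L185149 L185173 (flp_b L185183) L177013 L208383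
theorem L208393 : sm ga N26926 = N25182 := ded_7_1 L195950 L188857 (flp_b L174968) L174966 (flp_b L174932) L174930 L164045 (flp_a L176941) L208383
theorem L208395 : sm ge N22651 = N26927 := rfl
theorem L208397 : sm gb N26927 = N26187 := ded_15_1 L202617 (flp_b L176949) L208395
theorem L208399 : sm gc N26927 = N24006 := ded_19_1 L187283 L176955 L208395
theorem L208401 : sm gf N26927 = N22656 := ded_25_2 (flp_e L176999) (flp_f L176951) L208395
theorem L208403 : sm gg N26927 = N24005 := ded_26_2 L187275 (flp_g L176953) L208395
theorem L208405 : sm gd N26927 = N22678 := ded_22_1 (flp_e L177162) (flp_d L125725) (flp_e L134533) L176947 L208395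
theorem L208407 : sm gc N22652 = N26928 := rfl
theorem L208409 : sm ga N26928 = N22653 := ded_8_1 (flp_c L176969) L176957 L208407
theorem L208411 : sm ge N26928 = N22679 := ded_19_2 (flp_c L177166) (flp_e L176961) L208407
theorem L208413 : sm gf N26928 = N22717 := ded_20_2 L177461 (flp_f L176965) L208407
theorem L208415 : sm gg N26928 = N22708 := ded_21_2 (flp_c L177395) (flp_g L176963) L208407
theorem L208417 : sm gb N26928 = N23747 := ded_13_1 L185057 L177176 (flp_c L177166) (flp_b L176967) L208407
theorem L208419 : sm gd N26928 = N23960 := ded_28_7 L186935 (flp_c L186943) L186973 (flp_c L186969) L177174 (flp_c L177166) (flp_d L176959) L208407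
theorem L208421 : sm ga N22658 = N26929 := rfl
theorem L208423 : sm gc N26929 = N23956 := ded_8_2 L186905 L185677 L208421
theorem L208425 : sm gd N26929 = N22693 := ded_9_2 (flp_a L177273) (flp_d L177017) L208421
theorem L208427 : sm ge N26929 = N22693 := ded_10_2 (flp_a L177273) (flp_e L177019) L208421
theorem L208429 : sm gf N26929 = N22693 := ded_11_2 (flp_a L177273) (flp_f L177021) L208421
theorem L208431 : sm gg N26929 = N22663 := ded_12_2 (flp_a L177411) (flp_g L177417) L208421
theorem L208433 : sm gb N26929 = N22670 := ded_7_2 L177114 (flp_b L177136) L177134 (flp_b L126676) L148793 L148692 L148663 L177015 L208421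
theorem L208435 : sm gf N22659 = N26930 := rfl
theorem L208437 : sm gd N26930 = N24005 := ded_23_1 L187277 (flp_d L177027) L208435
theorem L208439 : sm ge N26930 = N22660 := ded_25_1 (flp_f L177029) L177023 L208435
theorem L208441 : sm gg N22678 = N26930 := ded_29_1 (flp_f L208435) (flp_g L177220) L177218 (flp_f L177164)
theorem L208443 : sm gb N26930 = N24009 := ded_16_1 L187305 L156002 (flp_f L159771) (flp_b L177025) L208435
theorem L208445 : sm gb N22664 = N26931 := rfl
theorem L208447 : sm ge N26931 = N22711 := ded_15_2 (flp_b L177421) (flp_e L177067) L208445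
theorem L208449 : sm gc N26931 = N25228 := ded_13_2 (flp_b L196375) L196367 (flp_b L177057) L177063 L208445
theorem L208451 : sm gf N26931 = N23783 := ded_16_2 L185351 L185367 (flp_b L185377) (flp_f L177350) L208445
theorem L208453 : sm gg N26931 = N25286 := ded_17_2 L196841 (flp_g L186692) (flp_b L177328) (flp_g L177069) L208445
theorem L208455 : sm ga N26931 = N25229 := ded_7_1 L196349 L188711 (flp_b L173461) L173459 (flp_b L173423) L173429 L164460 (flp_a L177065) L208445
theorem L208457 : sm ge N22665 = N26932 := rfl
theorem L208459 : sm gb N26932 = N25952 := ded_15_1 L200970 (flp_b L177073) L208457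
theorem L208461 : sm gc N26932 = N23981 := ded_19_1 L187099 L177079 L208457
theorem L208463 : sm gf N26932 = N23980 := ded_25_2 L187091 (flp_f L177075) L208457
theorem L208465 : sm gg N26932 = N22701 := ded_26_2 (flp_e L177336) (flp_g L177077) L208457
theorem L208467 : sm gd N26932 = N22714 := ded_22_1 (flp_e L177437) (flp_d L126547) (flp_e L147051) L177071 L208457
theorem L208469 : sm gf N22667 = N26933 := rfl
theorem L208471 : sm ga N26933 = N22669 := ded_11_1 (flp_f L177102) (flp_a L177086) L208469
theorem L208473 : sm gc N26933 = N22668 := ded_20_1 (flp_f L177090) L177084 L208469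
theorem L208475 : sm gd N26933 = N23959 := ded_23_1 L186927 L177088 L208469
theorem L208477 : sm ge N26933 = N22715 := ded_25_1 L177445 L177399 L208469
theorem L208479 : sm gg N26933 = N22681 := ded_29_3 L177184 (flp_f L177170) L177172 L208469
theorem L208481 : sm gb N26933 = N23771 := ded_16_1 L185263 (flp_b L177449) L177445 L177401 L208469
theorem L208483 : sm gb N22672 = N26934 := rfl
theorem L208485 : sm gd N26934 = N23835 := ded_14_2 (flp_b L196025) L196027 L208483
theorem L208487 : sm ge N26934 = N25181 := ded_15_2 L195946 L195894 L208483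
theorem L208489 : sm gc N26934 = N22675 := ded_13_2 (flp_b L177146) (flp_c L125719) L125717 L177130 L208483
theorem L208491 : sm gf N26934 = N25192 := ded_16_2 L196057 (flp_f L186829) (flp_b L186831) L185901 L208483
theorem L208493 : sm gg N26934 = N23757 := ded_17_2 L185137 L154170 L164689 (flp_g L185639) L208483
theorem L208495 : sm ga N26934 = N25174 := ded_7_1 (flp_b L195876) (flp_a L164673) (flp_b L113843) L119975 L113857 (flp_a L154694) L185861 (flp_a L185871) L208483
theorem L208497 : sm ga N22675 = N26935 := rfl
theorem L208499 : sm gc N26935 = N25174 := ded_8_2 (flp_a L208495) L208489 L208497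
theorem L208501 : sm ge N26935 = N25182 := ded_10_2 (flp_a L208393) L208385 L208497
theorem L208503 : sm gg N26935 = N23756 := ded_12_2 (flp_a L185133) (flp_g L177148) L208497
theorem L208505 : sm gf N26935 = N25119 := ded_29_0 L195410 (flp_f L185151) (flp_g L177148) L208497
theorem L208507 : sm gd N26520 = N26935 := ded_28_7 (flp_a L208497) (flp_c L208489) L208485 L196013 L196003 (flp_c L172121) (flp_d L172107) L204916
theorem L208509 : sm gb N26935 = N24218 := ded_7_2 (flp_a L188889) L188899 L165354 (flp_b L164077) L164071 L113168 (flp_a L125721) L177146 L208497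
theorem L208511 : sm gd N22675 = N26936 := rfl
theorem L208513 : sm ga N26936 = N26520 := ded_9_1 L208507 (flp_a L208497) L208511
theorem L208515 : sm gb N26936 = N22676 := ded_14_1 (flp_d L177150) L177146 L208511
theorem L208517 : sm gg N26936 = N23758 := ded_24_2 (flp_d L185143) (flp_g L177148) L208511
theorem L208519 : sm gc N26519 = N26936 := ded_28_0 (flp_d L208511) (flp_c L208489) L208485 L196013 L196003 (flp_c L172121) (flp_d L172107) L204910
theorem L208521 : sm gf N22675 = N26937 := rfl
theorem L208523 : sm ga N26937 = N25119 := ded_11_1 (flp_f L208505) (flp_a L208497) L208521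
theorem L208525 : sm gc N26937 = N25192 := ded_20_1 (flp_f L208491) L208489 L208521
theorem L208527 : sm ge N26937 = N25274 := ded_25_1 (flp_f L208389) L208385 L208521
theorem L208529 : sm gg N26937 = N25273 := ded_29_3 L196729 (flp_f L185151) (flp_g L177148) L208521
theorem L208531 : sm gb N26937 = N22684 := ded_16_1 (flp_f L177202) (flp_b L125826) (flp_f L125723) L177146 L208521
theorem L208533 : sm ge N22676 = N26938 := rfl
theorem L208535 : sm ga N26938 = N22678 := ded_10_1 (flp_e L177162) (flp_a L177152) L208533
theorem L208537 : sm gf N26938 = N22687 := ded_25_2 (flp_e L177216) (flp_f L177154) L208533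
theorem L208539 : sm ge N22677 = N26939 := rfl
theorem L208541 : sm gc N26939 = N22678 := ded_19_1 (flp_e L177162) L177156 L208539
theorem L208543 : sm gf N26939 = N22688 := ded_25_2 (flp_e L177222) (flp_f L177158) L208539
theorem L208545 : sm gb N22682 = N26940 := rfl
theorem L208547 : sm ge N26940 = N23856 := ded_15_2 L186044 (flp_e L177196) L208545
theorem L208549 : sm gc N26940 = N24437 := ded_13_2 (flp_b L190406) L158644 L180169 (flp_c L180177) L208545
theorem L208551 : sm gg N26940 = N26940 := ded_17_2 (flp_b L208545) (flp_g L205271) L205270 L205271 L208545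
theorem L208552 : sm ga N26940 = N22697 := ded_7_1 (flp_b L177311) (flp_a L125912) (flp_b L100081) L86747 (flp_b L86715) (flp_a L100031) L125826 L177194 L208545
theorem L208554 : sm ge N22683 = N26941 := rfl
theorem L208556 : sm ga N26941 = N23882 := ded_10_1 L205209 L205207 L208554
theorem L208558 : sm gb N26941 = N22687 := ded_15_1 (flp_e L177216) (flp_b L177200) L208554
theorem L208560 : sm gd N26941 = N23880 := ded_22_1 L186234 (flp_d L176993) L176995 L177198 L208554
theorem L208562 : sm gf N22683 = N26942 := rfl
theorem L208564 : sm gc N26942 = N26563 := ded_20_1 (flp_f L205291) L205205 L208562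
theorem L208566 : sm gd N26942 = N22684 := ded_23_1 (flp_f L177202) L177198 L208562
theorem L208568 : sm gg N26562 = N26942 := ded_29_1 (flp_f L208562) (flp_g L205254) L205252 L205279
theorem L208570 : sm gf N22685 = N26943 := rfl
theorem L208572 : sm ga N26943 = N23922 := ded_11_1 (flp_f L205277) L205268 L208570
theorem L208574 : sm gc N26943 = N23921 := ded_20_1 (flp_f L188557) L188555 L208570
theorem L208576 : sm ge N26943 = N23930 := ded_25_1 L194297 L194289 L208570
theorem L208578 : sm gg N26943 = N24270 := ded_29_3 L189127 (flp_f L177202) L177204 L208570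
theorem L208580 : sm gb N26943 = N23751 := ded_16_1 (flp_f L185095) L154262 L176394 (flp_b L177206) L208570
theorem L208582 : sm gb N22686 = N26944 := rfl
theorem L208584 : sm gd N26944 = N24996 := ded_14_2 (flp_b L194259) (flp_d L177214) L208582
theorem L208586 : sm gc N26944 = N24322 := ded_13_2 (flp_b L189517) L205205 L177200 L177208 L208582
theorem L208588 : sm gf N26944 = N25090 := ded_16_2 L195137 L184139 (flp_b L188777) (flp_f L188775) L208582
theorem L208590 : sm gg N26944 = N23025 := ded_17_2 (flp_b L179931) (flp_g L143871) L161627 (flp_g L177212) L208582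
theorem L208592 : sm ga N26944 = N23595 := ded_7_1 (flp_b L183913) (flp_a L152342) L183923 (flp_a L207854) L207860 L194591 (flp_b L163643) (flp_a L177210) L208582
theorem L208594 : sm ge N22686 = N26945 := rfl
theorem L208596 : sm ga N26945 = N22688 := ded_10_1 (flp_e L177222) (flp_a L177210) L208594
theorem L208598 : sm gc N26945 = N22687 := ded_19_1 (flp_e L177216) L177208 L208594
theorem L208600 : sm gg N26945 = N24995 := ded_26_2 L194255 (flp_g L177212) L208594
theorem L208602 : sm gd N22688 = N26946 := rfl
theorem L208604 : sm gg N26946 = N24631 := ded_24_2 L191782 (flp_g L177226) L208602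
theorem L208606 : sm ge N26946 = N24634 := ded_22_2 L191794 L159751 (flp_d L163645) L177222 L208602
theorem L208608 : sm gb N22689 = N26947 := rfl
theorem L208610 : sm gd N26947 = N26293 := ded_14_2 (flp_b L203365) (flp_d L191810) L208608
theorem L208612 : sm ge N26947 = N22690 := ded_15_2 (flp_b L177236) (flp_e L177234) L208608
theorem L208614 : sm gc N26947 = N22735 := ded_13_2 L177604 L161589 L161595 (flp_c L177232) L208608
theorem L208616 : sm gg N26947 = N22699 := ded_17_2 (flp_b L177324) (flp_g L125920) (flp_b L125846) L177228 L208608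
theorem L208618 : sm ga N26947 = N22699 := ded_7_1 (flp_b L177324) L125922 L165108 L196179 (flp_b L196185) L191862 (flp_b L177025) (flp_a L177230) L208608
theorem L208620 : sm gf N22734 = N26947 := ded_23_0 L208610 (flp_f L203359) L177598
theorem L208622 : sm gf N22689 = N26948 := rfl
theorem L208624 : sm ga N26948 = N26930 := ded_11_1 (flp_f L208435) (flp_a L177230) L208622
theorem L208626 : sm gc N26948 = N24222 := ded_20_1 L188765 (flp_c L177232) L208622
theorem L208628 : sm ge N26948 = N22691 := ded_25_1 (flp_f L177248) (flp_e L177234) L208622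
theorem L208630 : sm gg N26948 = N26938 := ded_29_3 L208535 L177164 L177228 L208622
theorem L208632 : sm gb N26948 = N22773 := ded_16_1 (flp_f L177882) (flp_b L177596) L208620 (flp_b L208608) L208622
theorem L208634 : sm gf N22697 = N26949 := rfl
theorem L208636 : sm gb N22698 = N26950 := rfl
theorem L208638 : sm ge N26950 = N24275 := ded_15_2 (flp_b L189159) (flp_e L177320) L208636
theorem L208640 : sm gc N26950 = N24247 := ded_13_2 (flp_b L188965) (flp_c L157515) L157509 (flp_c L177318) L208636
theorem L208642 : sm gg N26950 = N24277 := ded_17_2 (flp_b L196139) (flp_g L196115) (flp_b L185127) (flp_g L177322) L208636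
theorem L208644 : sm ga N26950 = N24280 := ded_7_1 L189205 L188699 L164099 L164093 L195438 L195448 L164127 (flp_a L177316) L208636
theorem L208646 : sm gg N22704 = N26951 := rfl
theorem L208648 : sm gd N26951 = N23980 := ded_24_1 L187093 (flp_d L177366) L208646
theorem L208650 : sm ge N26951 = N22705 := ded_26_1 (flp_g L177368) L177362 L208646
theorem L208652 : sm gf N26951 = N22714 := ded_29_2 L177439 (flp_a L177493) L177495 L208646
theorem L208654 : sm gb N26951 = N23984 := ded_17_1 L187121 L155896 (flp_g L159571) (flp_b L177364) L208646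
theorem L208656 : sm gb N22709 = N26952 := rfl
theorem L208658 : sm gd N26952 = N23810 := ded_14_2 (flp_b L196438) L196440 L208656
theorem L208660 : sm ge N26952 = N25228 := ded_15_2 (flp_b L196375) L196369 L208656
theorem L208662 : sm gc N26952 = N22711 := ded_13_2 (flp_b L177421) (flp_c L126541) L126539 L177407 L208656
theorem L208664 : sm gf N26952 = N23781 := ded_16_2 L185339 L154538 L165358 (flp_f L185637) L208656
theorem L208666 : sm gg N26952 = N25240 := ded_17_2 L196470 L186855 L186857 L185695 L208656
theorem L208668 : sm ga N26952 = N25222 := ded_7_1 (flp_b L196285) (flp_a L165282) (flp_b L114398) (flp_a L148454) (flp_b L149754) (flp_a L154492) L185621 L185631 L208656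
theorem L208670 : sm ga N22711 = N26953 := rfl
theorem L208672 : sm gc N26953 = N25222 := ded_8_2 (flp_a L208668) L208662 L208670
theorem L208674 : sm ge N26953 = N25229 := ded_10_2 (flp_a L208455) L208447 L208670
theorem L208676 : sm gf N26953 = N23780 := ded_11_2 (flp_a L185335) (flp_f L177423) L208670
theorem L208678 : sm gg N25151 = N26953 := ded_29_3 (flp_a L208670) L177423 L185353 (flp_f L195695)
theorem L208680 : sm gd N26549 = N26953 := ded_28_7 (flp_a L208670) (flp_c L208662) L208658 L196424 L196416 (flp_c L172434) (flp_d L172420) L205163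
theorem L208682 : sm gb N26953 = N24238 := ded_7_2 L188879 L188747 L164759 (flp_b L163093) L163089 L113596 (flp_a L126543) L177421 L208670
theorem L208684 : sm gd N22711 = N26954 := rfl
theorem L208686 : sm ga N26954 = N26549 := ded_9_1 L208680 (flp_a L208670) L208684
theorem L208688 : sm gb N26954 = N22712 := ded_14_1 (flp_d L177425) L177421 L208684
theorem L208690 : sm gf N26954 = N23782 := ded_23_2 (flp_d L185345) (flp_f L177423) L208684
theorem L208692 : sm gc N26548 = N26954 := ded_28_0 (flp_d L208684) (flp_c L208662) L208658 L196424 L196416 (flp_c L172434) (flp_d L172420) L205157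
theorem L208694 : sm gg N22711 = N26955 := rfl
theorem L208696 : sm ga N26955 = N25151 := ded_12_1 L208678 (flp_a L208670) L208694
theorem L208698 : sm gc N26955 = N25240 := ded_21_1 (flp_g L208666) L208662 L208694
theorem L208700 : sm ge N26955 = N25286 := ded_26_1 (flp_g L208453) L208447 L208694
theorem L208702 : sm gf N25285 = N26955 := ded_29_0 (flp_g L208694) L177423 L185353 (flp_a L196831)
theorem L208704 : sm gb N26955 = N22721 := ded_17_1 (flp_g L177481) (flp_b L126638) (flp_g L126545) L177421 L208694
theorem L208706 : sm ge N22712 = N26956 := rfl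
theorem L208708 : sm ga N26956 = N22714 := ded_10_1 (flp_e L177437) (flp_a L177427) L208706
theorem L208710 : sm gg N26956 = N22723 := ded_26_2 (flp_e L177491) (flp_g L177429) L208706
theorem L208712 : sm ge N22713 = N26957 := rfl
theorem L208714 : sm gc N26957 = N22714 := ded_19_1 (flp_e L177437) L177431 L208712
theorem L208716 : sm gg N26957 = N22724 := ded_26_2 (flp_e L177497) (flp_g L177433) L208712
theorem L208718 : sm gb N22718 = N26958 := rfl
theorem L208720 : sm ge N26958 = N23860 := ded_15_2 L186070 (flp_e L177471) L208718
theorem L208722 : sm gc N26958 = N24458 := ded_13_2 (flp_b L190602) L158771 L180193 (flp_c L180201) L208718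
theorem L208724 : sm gf N26958 = N26958 := ded_16_2 (flp_b L208718) (flp_f L206592) L206591 L206592 L208718
theorem L208725 : sm ga N26958 = N22731 := ded_7_1 (flp_b L177574) (flp_a L126708) (flp_b L100505) L86994 (flp_b L86962) (flp_a L100455) L126638 L177469 L208718
theorem L208727 : sm ge N22719 = N26959 := rfl
theorem L208729 : sm ga N26959 = N23891 := ded_10_1 L186311 L184618 L208727
theorem L208731 : sm gb N26959 = N22723 := ded_15_1 (flp_e L177491) (flp_b L177475) L208727
theorem L208733 : sm gd N26959 = N23889 := ded_22_1 L186297 (flp_d L177330) L177332 L177473 L208727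
theorem L208735 : sm gg N22719 = N26960 := rfl
theorem L208737 : sm gc N26960 = N26719 := ded_21_1 L206612 L184614 L208735
theorem L208739 : sm gd N26960 = N22721 := ded_24_1 (flp_g L177481) L177473 L208735
theorem L208741 : sm gf N26960 = N26718 := ded_29_2 (flp_g L206600) (flp_a L206571) L206573 L208735
theorem L208743 : sm gg N22720 = N26961 := rfl
theorem L208745 : sm ga N26961 = N23925 := ded_12_1 L206598 L206589 L208743
theorem L208747 : sm gc N26961 = N23924 := ded_21_1 (flp_g L188581) L188577 L208743
theorem L208749 : sm ge N26961 = N23939 := ded_26_1 L194135 L194127 L208743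
theorem L208751 : sm gf N24251 = N26961 := ded_29_0 (flp_g L208743) (flp_f L177477) L177481 (flp_a L189005)
theorem L208753 : sm gb N26961 = N23775 := ded_17_1 (flp_g L185297) L154468 (flp_g L176817) (flp_b L177479) L208743
theorem L208755 : sm gb N22722 = N26962 := rfl
theorem L208757 : sm gd N26962 = N24977 := ded_14_2 (flp_b L194097) (flp_d L177489) L208755
theorem L208759 : sm gc N26962 = N24376 := ded_13_2 (flp_b L189941) L184614 L177475 L177483 L208755
theorem L208761 : sm gf N26962 = N23000 := ded_16_2 (flp_b L179713) L143761 (flp_b L161376) (flp_f L177487) L208755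
theorem L208763 : sm gg N26962 = N25057 := ded_17_2 L194835 (flp_g L183737) (flp_b L188613) L188611 L208755
theorem L208765 : sm ga N26962 = N23535 := ded_7_1 (flp_b L183439) L151898 L183383 (flp_a L207569) L207575 L194398 (flp_b L163509) (flp_a L177485) L208755
theorem L208767 : sm ge N22722 = N26963 := rfl
theorem L208769 : sm ga N26963 = N22724 := ded_10_1 (flp_e L177497) (flp_a L177485) L208767
theorem L208771 : sm gc N26963 = N22723 := ded_19_1 (flp_e L177491) L177483 L208767
theorem L208773 : sm gf N26963 = N24976 := ded_25_2 L194093 (flp_f L177487) L208767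
theorem L208775 : sm gd N22724 = N26964 := rfl
theorem L208777 : sm gf N26964 = N24576 := ded_23_2 L191401 (flp_f L177501) L208775
theorem L208779 : sm ge N26964 = N24579 := ded_22_2 L191413 L159551 (flp_d L163511) L177497 L208775
theorem L208781 : sm gb N22725 = N26965 := rfl
theorem L208783 : sm gd N26965 = N26369 := ded_14_2 (flp_b L203865) (flp_d L191429) L208781
theorem L208785 : sm ge N26965 = N22726 := ded_15_2 (flp_b L177511) (flp_e L177509) L208781
theorem L208787 : sm gc N26965 = N22737 := ded_13_2 L177619 L161338 L161344 (flp_c L177507) L208781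
theorem L208789 : sm gf N26965 = N22733 := ded_16_2 (flp_b L177587) (flp_f L126716) (flp_b L126658) L177503 L208781
theorem L208791 : sm ga N26965 = N22733 := ded_7_1 (flp_b L177587) L126718 L165740 L196600 (flp_b L196606) L191481 (flp_b L177364) (flp_a L177505) L208781
theorem L208793 : sm gg N22736 = N26965 := ded_24_0 L208783 (flp_g L203859) L177613
theorem L208795 : sm gg N22725 = N26966 := rfl
theorem L208797 : sm ga N26966 = N26951 := ded_12_1 (flp_g L208646) (flp_a L177505) L208795
theorem L208799 : sm gc N26966 = N24198 := ded_21_1 L188601 (flp_c L177507) L208795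
theorem L208801 : sm ge N26966 = N22727 := ded_26_1 (flp_g L177523) (flp_e L177509) L208795
theorem L208803 : sm gf N26956 = N26966 := ded_29_0 (flp_g L208795) (flp_f L177503) (flp_g L177439) (flp_a L208708)
theorem L208805 : sm gb N26966 = N22782 := ded_17_1 (flp_g L177947) (flp_b L177611) L208793 (flp_b L208781) L208795
theorem L208807 : sm gg N22731 = N26967 := rfl
theorem L208809 : sm gb N22732 = N26968 := rfl
theorem L208811 : sm ge N26968 = N24256 := ded_15_2 (flp_b L189037) (flp_e L177583) L208809
theorem L208813 : sm gc N26968 = N24243 := ded_13_2 (flp_b L188927) (flp_c L157433) L157427 (flp_c L177581) L208809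
theorem L208815 : sm ga N26968 = N24260 := ded_7_1 L189083 L188837 L164502 L164496 L195725 L195737 L164530 (flp_a L177579) L208809
theorem L208817 : sm gf N24258 = N26968 := ded_30_0 L208813 (flp_b L188927) L157435 L157453 L157455 L108891 (flp_a L155610) (flp_f L155608) L155600 L155606 L107671 L107685 L107687 (flp_b L91890) (flp_a L109029) (flp_f L109027) L109023 L157643 L189047
theorem L208819 : sm gb N25248 = N24258 := ded_16_5 L208817 (flp_b L208809) (flp_f L177585) L185329 L196538
theorem L208821 : sm gg N25252 = N24258 := ded_31_0 L208817 (flp_b L208809) (flp_g L177577) L154006 L154008 (flp_g L153998) L151236 (flp_b L164530) (flp_g L164524) L164520 L164522 L165698 (flp_f L165704) L196559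
theorem L208823 : sm ga N24261 = N25252 := ded_12_3 L208821 (flp_a L189047) L189055
theorem L208825 : sm gb N22740 = N26969 := rfl
theorem L208827 : sm gd N26969 = N22742 := ded_14_2 (flp_b L177663) (flp_d L177645) L208825
theorem L208829 : sm ge N26969 = N23061 := ded_15_2 (flp_b L180233) (flp_e L177647) L208825
theorem L208831 : sm gb N22741 = N26970 := rfl
theorem L208833 : sm gd N26970 = N22743 := ded_14_2 (flp_b L177667) (flp_d L177657) L208831
theorem L208835 : sm ge N26970 = N23065 := ded_15_2 (flp_b L180255) (flp_e L177659) L208831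
theorem L208837 : sm gb N22744 = N26971 := rfl
theorem L208839 : sm gd N26971 = N22750 := ded_14_2 (flp_b L177707) (flp_d L177673) L208837
theorem L208841 : sm ge N26971 = N23076 := ded_15_2 (flp_b L180365) (flp_e L177675) L208837
theorem L208843 : sm gc N22744 = N26972 := rfl
theorem L208845 : sm ga N26972 = N22745 := ded_8_1 (flp_c L177677) L177671 L208843
theorem L208847 : sm ge N26972 = N23077 := ded_19_2 (flp_c L180369) (flp_e L177675) L208843
theorem L208849 : sm gb N26972 = N23077 := ded_30_2 L180371 (flp_f L180225) (flp_c L180223) (flp_b L144113) (flp_a L144091) (flp_f L144089) (flp_c L103732) L115441 L115443 L144304 (flp_c L158874) (flp_b L158869) (flp_a L110127) L110132 (flp_c L128697) (flp_b L157869) (flp_a L189259) L189263 L208843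
theorem L208851 : sm gc N26971 = N23076 := ded_13_2 (flp_b L180365) L180369 (flp_b L208849) (flp_c L208843) L208837
theorem L208853 : sm ga N24497 = N25301 := ded_7_5 (flp_b L196935) L166306 (flp_b L144197) (flp_a L180371) (flp_b L208849) L208845 L177681 (flp_a L159067) L190857
theorem L208855 : sm gg N22744 = N26973 := rfl
theorem L208857 : sm ga N26973 = N22746 := ded_12_1 (flp_g L177683) L177671 L208855
theorem L208859 : sm gd N26973 = N22751 := ded_24_1 (flp_g L177711) (flp_d L177673) L208855
theorem L208861 : sm ge N26973 = N23078 := ded_26_1 (flp_g L180373) (flp_e L177675) L208855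
theorem L208863 : sm gf N26973 = N24298 := ded_29_2 (flp_g L189329) (flp_a L189259) L189263 L208855
theorem L208865 : sm gd N22745 = N26974 := rfl
theorem L208867 : sm gb N26974 = N24463 := ded_14_1 (flp_d L190639) (flp_b L177681) L208865
theorem L208869 : sm gg N22745 = N26975 := rfl
theorem L208871 : sm gc N26975 = N22746 := ded_21_1 (flp_g L177683) L177677 L208869
theorem L208873 : sm ge N26975 = N23080 := ded_26_1 (flp_g L180385) (flp_e L177679) L208869
theorem L208875 : sm gf N22746 = N26976 := rfl
theorem L208877 : sm ga N26976 = N24298 := ded_11_1 (flp_f L208863) L208857 L208875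
theorem L208879 : sm gd N26976 = N22752 := ded_23_1 (flp_f L177721) (flp_d L177685) L208875
theorem L208881 : sm ge N26976 = N23081 := ded_25_1 (flp_f L180389) (flp_e L177687) L208875
theorem L208883 : sm gg N26976 = N24290 := ded_29_3 L189259 L157871 L177683 L208875
theorem L208885 : sm gb N23180 = N26976 := ded_14_3 L208879 (flp_b L177731) (flp_d L181073)
theorem L208887 : sm gb N22747 = N26977 := rfl
theorem L208889 : sm gd N26977 = N22753 := ded_14_2 (flp_b L177733) (flp_d L177691) L208887
theorem L208891 : sm ge N26977 = N23082 := ded_15_2 (flp_b L180397) (flp_e L177693) L208887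
theorem L208893 : sm gc N22747 = N26978 := rfl
theorem L208895 : sm ga N26978 = N22748 := ded_8_1 (flp_c L177695) L177689 L208893
theorem L208897 : sm ge N26978 = N23083 := ded_19_2 (flp_c L180401) (flp_e L177693) L208893
theorem L208899 : sm gf N22747 = N26979 := rfl
theorem L208901 : sm ga N26979 = N22749 := ded_11_1 (flp_f L177701) L177689 L208899
theorem L208903 : sm gd N26979 = N22754 := ded_23_1 (flp_f L177737) (flp_d L177691) L208899
theorem L208905 : sm ge N26979 = N23084 := ded_25_1 (flp_f L180405) (flp_e L177693) L208899
theorem L208907 : sm gg N24355 = N26979 := ded_29_1 (flp_f L208899) (flp_g L189695) L189691 L189761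
theorem L208909 : sm gd N22748 = N26980 := rfl
theorem L208911 : sm gb N26980 = N24467 := ded_14_1 (flp_d L190669) (flp_b L177699) L208909
theorem L208913 : sm gf N22748 = N26981 := rfl
theorem L208915 : sm gc N26981 = N22749 := ded_20_1 (flp_f L177701) L177695 L208913
theorem L208917 : sm ge N26981 = N23086 := ded_25_1 (flp_f L180417) (flp_e L177697) L208913
theorem L208919 : sm gg N22749 = N26982 := rfl
theorem L208921 : sm ga N26982 = N24355 := ded_12_1 L208907 L208901 L208919
theorem L208923 : sm gd N26982 = N22755 := ded_24_1 (flp_g L177747) (flp_d L177703) L208919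
theorem L208925 : sm ge N26982 = N23087 := ded_26_1 (flp_g L180421) (flp_e L177705) L208919
theorem L208927 : sm gf N24347 = N26982 := ded_29_0 (flp_g L208919) (flp_f L177701) (flp_g L158169) (flp_a L189691)
theorem L208929 : sm gb N23164 = N26982 := ded_14_3 L208923 (flp_b L177757) (flp_d L180973)
theorem L208931 : sm gg N22750 = N26983 := rfl
theorem L208933 : sm ga N26983 = N23267 := ded_12_1 L181677 L180449 L208931
theorem L208935 : sm ge N26983 = N22802 := ded_26_1 (flp_g L178093) (flp_e L177709) L208931
theorem L208937 : sm gf N23091 = N26983 := ded_29_0 (flp_g L208931) L180437 (flp_g L180439) (flp_a L180457)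
theorem L208939 : sm gb N26983 = N23253 := ded_17_1 (flp_g L181589) L181591 (flp_g L177711) L177707 L208931
theorem L208941 : sm gf N22753 = N26984 := rfl
theorem L208943 : sm ga N26984 = N23191 := ded_11_1 L181153 L180507 L208941
theorem L208945 : sm ge N26984 = N22803 := ded_25_1 (flp_f L178103) (flp_e L177735) L208941
theorem L208947 : sm gg N26984 = N23096 := ded_29_3 L180501 L180489 (flp_g L180491) L208941
theorem L208949 : sm gb N26984 = N23325 := ded_16_1 L182071 (flp_b L182073) (flp_f L177737) L177733 L208941
theorem L208951 : sm ga N22758 = N26985 := rfl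
theorem L208953 : sm gd N26985 = N22766 := ded_9_2 (flp_a L177831) (flp_d L177781) L208951
theorem L208955 : sm ge N26985 = N23105 := ded_10_2 (flp_a L180577) (flp_e L177783) L208951
theorem L208957 : sm gg N26985 = N22759 := ded_12_2 (flp_a L177787) (flp_g L177785) L208951
theorem L208959 : sm gc N22758 = N26986 := rfl
theorem L208961 : sm ge N26986 = N23106 := ded_19_2 (flp_c L180583) (flp_e L177783) L208959
theorem L208963 : sm gg N26986 = N22760 := ded_21_2 (flp_c L177793) (flp_g L177785) L208959
theorem L208965 : sm gf N22758 = N26987 := rfl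
theorem L208967 : sm gd N26987 = N22768 := ded_23_1 (flp_f L177846) (flp_d L177781) L208965
theorem L208969 : sm ge N26987 = N23107 := ded_25_1 (flp_f L180587) (flp_e L177783) L208965
theorem L208971 : sm gb N26987 = N25730 := ded_16_1 L199488 (flp_b L177961) L128897 L177779 L208965
theorem L208973 : sm gb N22759 = N26988 := rfl
theorem L208975 : sm gd N26988 = N22769 := ded_14_2 (flp_b L177852) (flp_d L177789) L208973
theorem L208977 : sm ge N26988 = N23108 := ded_15_2 (flp_b L180591) (flp_e L177791) L208973
theorem L208979 : sm gf N23176 = N26988 := ded_23_0 L208975 (flp_f L177856) (flp_d L181039)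
theorem L208981 : sm gc N22759 = N26989 := rfl
theorem L208983 : sm ga N26989 = N22760 := ded_8_1 (flp_c L177793) L177787 L208981
theorem L208985 : sm ge N26989 = N23109 := ded_19_2 (flp_c L180595) (flp_e L177791) L208981
theorem L208987 : sm gd N26989 = N25771 := ded_28_3 L202709 L193703 L177880 (flp_d L177874) (flp_a L177860) (flp_c L177858) (flp_d L177789) L208981
theorem L208989 : sm gf N22759 = N26990 := rfl
theorem L208991 : sm ga N26990 = N22761 := ded_11_1 (flp_f L177797) L177787 L208989
theorem L208993 : sm gd N26990 = N22771 := ded_23_1 (flp_f L177864) (flp_d L177789) L208989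
theorem L208995 : sm ge N26990 = N23110 := ded_25_1 (flp_f L180601) (flp_e L177791) L208989
theorem L208997 : sm gg N26987 = N26990 := ded_29_1 (flp_f L208989) (flp_g L208957) (flp_a L208951) L208965
theorem L208999 : sm gb N26990 = N23122 := ded_16_1 L180675 (flp_b L181041) L208979 (flp_b L208973) L208989
theorem L209001 : sm gd N22760 = N26991 := rfl
theorem L209003 : sm ga N26991 = N25771 := ded_9_1 (flp_d L208987) L208983 L209001
theorem L209005 : sm ge N26991 = N25768 := ded_22_2 (flp_d L199722) L180615 (flp_d L180609) (flp_e L177795) L209001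
theorem L209007 : sm gf N22760 = N26992 := rfl
theorem L209009 : sm gc N26992 = N22761 := ded_20_1 (flp_f L177797) L177793 L209007
theorem L209011 : sm ge N26992 = N23112 := ded_25_1 (flp_f L180617) (flp_e L177795) L209007
theorem L209013 : sm gg N22761 = N26993 := rfl
theorem L209015 : sm ga N26993 = N26987 := ded_12_1 L208997 L208991 L209013
theorem L209017 : sm gd N26993 = N22774 := ded_24_1 (flp_g L177888) (flp_d L177799) L209013
theorem L209019 : sm ge N26993 = N23113 := ded_26_1 (flp_g L180621) (flp_e L177801) L209013
theorem L209021 : sm gf N26985 = N26993 := ded_29_0 (flp_g L209013) (flp_f L177797) (flp_g L177785) L208951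
theorem L209023 : sm ga N22762 = N26994 := rfl
theorem L209025 : sm gd N26994 = N22775 := ded_9_2 (flp_a L177896) (flp_d L177807) L209023
theorem L209027 : sm ge N26994 = N23117 := ded_10_2 (flp_a L180645) (flp_e L177809) L209023
theorem L209029 : sm gf N26994 = N22763 := ded_11_2 (flp_a L177813) (flp_f L177811) L209023
theorem L209031 : sm gc N22762 = N26995 := rfl
theorem L209033 : sm ge N26995 = N23118 := ded_19_2 (flp_c L180651) (flp_e L177809) L209031
theorem L209035 : sm gf N26995 = N22764 := ded_20_2 (flp_c L177819) (flp_f L177811) L209031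
theorem L209037 : sm gg N22762 = N26996 := rfl
theorem L209039 : sm gd N26996 = N22777 := ded_24_1 (flp_g L177911) (flp_d L177807) L209037
theorem L209041 : sm ge N26996 = N23119 := ded_26_1 (flp_g L180655) (flp_e L177809) L209037
theorem L209043 : sm gb N26996 = N25625 := ded_17_1 L198936 (flp_b L177987) (flp_g L128937) L177805 L209037
theorem L209045 : sm gb N22763 = N26997 := rfl
theorem L209047 : sm gd N26997 = N22778 := ded_14_2 (flp_b L177917) (flp_d L177815) L209045
theorem L209049 : sm ge N26997 = N23120 := ded_15_2 (flp_b L180659) (flp_e L177817) L209045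
theorem L209051 : sm gg N23160 = N26997 := ded_24_0 L209047 (flp_g L177921) (flp_d L180943)
theorem L209053 : sm gc N22763 = N26998 := rfl
theorem L209055 : sm ga N26998 = N22764 := ded_8_1 (flp_c L177819) L177813 L209053
theorem L209057 : sm ge N26998 = N23121 := ded_19_2 (flp_c L180663) (flp_e L177817) L209053
theorem L209059 : sm gd N26998 = N25667 := ded_28_3 L201062 L193925 L177945 (flp_d L177939) (flp_a L177925) (flp_c L177923) (flp_d L177815) L209053
theorem L209061 : sm gg N22763 = N26999 := rfl
theorem L209063 : sm ga N26999 = N22765 := ded_12_1 (flp_g L177823) L177813 L209061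
theorem L209065 : sm gd N26999 = N22780 := ded_24_1 (flp_g L177929) (flp_d L177815) L209061
theorem L209067 : sm ge N26999 = N23122 := ded_26_1 (flp_g L180669) (flp_e L177817) L209061
theorem L209069 : sm gf N26999 = N26996 := ded_29_2 (flp_g L209037) L209023 L209029 L209061
theorem L209071 : sm gb N26999 = N23110 := ded_17_1 (flp_g L180607) (flp_b L180945) L209051 (flp_b L209045) L209061
theorem L209073 : sm gd N22764 = N27000 := rfl
theorem L209075 : sm ga N27000 = N25667 := ded_9_1 (flp_d L209059) L209055 L209073
theorem L209077 : sm ge N27000 = N25664 := ded_22_2 (flp_d L199126) L180683 (flp_d L180677) (flp_e L177821) L209073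
theorem L209079 : sm gg N22764 = N27001 := rfl
theorem L209081 : sm gc N27001 = N22765 := ded_21_1 (flp_g L177823) L177819 L209079
theorem L209083 : sm ge N27001 = N23124 := ded_26_1 (flp_g L180685) (flp_e L177821) L209079
theorem L209085 : sm gf N22765 = N27002 := rfl
theorem L209087 : sm ga N27002 = N26996 := ded_11_1 (flp_f L209069) L209063 L209085
theorem L209089 : sm gd N27002 = N22783 := ded_23_1 (flp_f L177953) (flp_d L177825) L209085
theorem L209091 : sm ge N27002 = N23125 := ded_25_1 (flp_f L180689) (flp_e L177827) L209085
theorem L209093 : sm gg N27002 = N26994 := ded_29_3 (flp_a L209023) L177811 L177823 L209085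
theorem L209095 : sm gb N22766 = N27003 := rfl
theorem L209097 : sm ge N27003 = N22805 := ded_15_2 (flp_b L178127) (flp_e L177833) L209095
theorem L209099 : sm gf N27003 = N23073 := ded_16_2 (flp_b L181525) (flp_f L181539) L181541 (flp_f L177894) L209095
theorem L209101 : sm gg N27003 = N22931 := ded_17_2 L181745 (flp_g L181743) (flp_b L177852) (flp_g L177835) L209095
theorem L209103 : sm ga N27003 = N23072 := ded_7_1 (flp_b L180321) (flp_a L144277) L178038 (flp_a L178034) (flp_b L128963) L102135 L128843 L177831 L209095
theorem L209105 : sm gc N22932 = N27003 := ded_30_1 (flp_b L209095) (flp_a L177831) L177846 L177848 L153781 L106116 L105603 L105601 (flp_b L105189) L151526 (flp_f L145224) L145220 L145226 (flp_a L180301) (flp_f L180299) L180287 (flp_b L180347) L180341 (flp_f L179213)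
theorem L209107 : sm gc N22766 = N27004 := rfl
theorem L209109 : sm ga N27004 = N22767 := ded_8_1 (flp_c L177837) L177831 L209107
theorem L209111 : sm ge N27004 = N22806 := ded_19_2 (flp_c L178139) (flp_e L177833) L209107
theorem L209113 : sm gf N27004 = N23761 := ded_20_2 L185161 (flp_f L177894) L209107
theorem L209115 : sm gg N27004 = N22770 := ded_21_2 (flp_c L177858) (flp_g L177835) L209107
theorem L209117 : sm gc N22769 = N27005 := rfl
theorem L209119 : sm ga N27005 = N25036 := ded_8_1 L194635 L181759 L209117
theorem L209121 : sm ge N27005 = N22807 := ded_19_2 (flp_c L178149) (flp_e L177854) L209117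
theorem L209123 : sm gf N27005 = N23295 := ded_20_2 L181855 L177856 L209117
theorem L209125 : sm gg N27005 = N22930 := ded_21_2 L181747 (flp_g L181743) L209117
theorem L209127 : sm gb N22770 = N27006 := rfl
theorem L209129 : sm ge N27006 = N22808 := ded_15_2 (flp_b L178159) (flp_e L177862) L209127
theorem L209131 : sm gd N22770 = N27007 := rfl
theorem L209133 : sm ga N27007 = N22772 := ded_9_1 (flp_d L177874) (flp_a L177860) L209131
theorem L209135 : sm gf N27007 = N24406 := ded_23_2 L190162 (flp_f L185203) L209131
theorem L209137 : sm ge N27007 = N24407 := ded_22_2 L190172 L185211 L153812 (flp_e L177862) L209131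
theorem L209139 : sm gc N24928 = N27007 := ded_28_0 (flp_d L209131) (flp_c L177858) (flp_d L177789) L208981 L208987 L202709 L193703 L193713
theorem L209141 : sm gf N22772 = N27008 := rfl
theorem L209143 : sm ga N27008 = N24406 := ded_11_1 (flp_f L209135) L209133 L209141
theorem L209145 : sm gc N27008 = N24929 := ded_20_1 (flp_f L193719) L177880 L209141
theorem L209147 : sm gd N27008 = N22773 := ded_23_1 (flp_f L177882) L177874 L209141
theorem L209149 : sm ge N27008 = N24404 := ded_25_1 L190145 L177878 L209141
theorem L209151 : sm gg N27008 = N24402 := ded_29_3 L190125 L190149 (flp_g L190158) L209141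
theorem L209153 : sm gb N22775 = N27009 := rfl
theorem L209155 : sm ge N27009 = N22811 := ded_15_2 (flp_b L178185) (flp_e L177898) L209153
theorem L209157 : sm gf N27009 = N22902 := ded_16_2 L181223 L181221 (flp_b L177917) (flp_f L177900) L209153
theorem L209159 : sm gg N27009 = N23068 := ded_17_2 (flp_b L182005) L182019 L182021 L177959 L209153
theorem L209161 : sm ga N27009 = N23067 := ded_7_1 (flp_b L180269) (flp_a L144243) L178078 (flp_a L178074) (flp_b L128990) L102157 L128867 L177896 L209153
theorem L209163 : sm gc N22903 = N27009 := ded_30_1 (flp_b L209153) (flp_a L177896) L128871 L128877 (flp_b L177611) (flp_a L206875) L206879 (flp_c L206873) (flp_b L174434) L122865 (flp_f L112216) L93627 L46573 (flp_a L46785) L93841 (flp_c L94343) L113534 L150774 L179011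
theorem L209165 : sm gc N22775 = N27010 := rfl
theorem L209167 : sm ga N27010 = N22776 := ded_8_1 (flp_c L177902) L177896 L209165
theorem L209169 : sm ge N27010 = N22812 := ded_19_2 (flp_c L178197) (flp_e L177898) L209165
theorem L209171 : sm gf N27010 = N22779 := ded_20_2 (flp_c L177923) (flp_f L177900) L209165
theorem L209173 : sm gg N27010 = N23785 := ded_21_2 L185363 L177959 L209165
theorem L209175 : sm gc N22778 = N27011 := rfl
theorem L209177 : sm ga N27011 = N25015 := ded_8_1 (flp_c L194442) L181237 L209175
theorem L209179 : sm ge N27011 = N22813 := ded_19_2 (flp_c L178207) (flp_e L177919) L209175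
theorem L209181 : sm gf N27011 = N22901 := ded_20_2 L181225 L181221 L209175
theorem L209183 : sm gg N27011 = N23221 := ded_21_2 L181347 L177921 L209175
theorem L209185 : sm gb N22779 = N27012 := rfl
theorem L209187 : sm ge N27012 = N22814 := ded_15_2 (flp_b L178217) (flp_e L177927) L209185
theorem L209189 : sm gd N22779 = N27013 := rfl
theorem L209191 : sm ga N27013 = N22781 := ded_9_1 (flp_d L177939) (flp_a L177925) L209189
theorem L209193 : sm gg N27013 = N24414 := ded_24_2 L190224 L185405 L209189
theorem L209195 : sm ge N27013 = N24416 := ded_22_2 L190245 L185413 L154080 (flp_e L177927) L209189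
theorem L209197 : sm gc N24960 = N27013 := ded_28_0 (flp_d L209189) (flp_c L177923) (flp_d L177815) L209053 L209059 L201062 L193925 L193951
theorem L209199 : sm gg N22781 = N27014 := rfl
theorem L209201 : sm ga N27014 = N24414 := ded_12_1 (flp_g L209193) L209191 L209199
theorem L209203 : sm gc N27014 = N24961 := ded_21_1 (flp_g L193957) L177945 L209199
theorem L209205 : sm gd N27014 = N22782 := ded_24_1 (flp_g L177947) L177939 L209199
theorem L209207 : sm ge N27014 = N24412 := ded_26_1 L190210 L177943 L209199
theorem L209209 : sm gf N24411 = N27014 := ded_29_0 (flp_g L209199) L190237 (flp_g L190228) (flp_a L190198)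
theorem L209211 : sm gc N22784 = N27015 := rfl
theorem L209213 : sm ge N27015 = N23159 := ded_19_2 (flp_c L180937) (flp_e L177965) L209211
theorem L209215 : sm gb N27015 = N24659 := ded_13_1 (flp_c L191991) (flp_b L159835) (flp_c L128891) L177961 L209211
theorem L209217 : sm ga N22786 = N27016 := rfl
theorem L209219 : sm gd N27016 = N22793 := ded_9_2 (flp_a L178034) (flp_d L177983) L209217
theorem L209221 : sm ge N27016 = N23164 := ded_10_2 (flp_a L180971) (flp_e L177985) L209217
theorem L209223 : sm gb N23087 = N27016 := ded_14_3 L209219 (flp_b L178038) (flp_d L180425)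
theorem L209225 : sm gc N22786 = N27017 := rfl
theorem L209227 : sm ge N27017 = N23165 := ded_19_2 (flp_c L180975) (flp_e L177985) L209225
theorem L209229 : sm gf N27017 = N25369 := ded_20_2 L197331 L181121 L209225
theorem L209231 : sm gb N27017 = N24030 := ded_13_1 L187485 L159833 L159825 L177981 L209225
theorem L209233 : sm gg N22786 = N27018 := rfl
theorem L209235 : sm gd N27018 = N22795 := ded_24_1 (flp_g L178047) (flp_d L177983) L209233
theorem L209237 : sm ge N27018 = N23166 := ded_26_1 (flp_g L180977) (flp_e L177985) L209233
theorem L209239 : sm gb N27018 = N25887 := ded_17_1 (flp_g L200497) L169049 (flp_g L128917) L177981 L209233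
theorem L209241 : sm gc N22787 = N27019 := rfl
theorem L209243 : sm ge N27019 = N23175 := ded_19_2 (flp_c L181033) (flp_e L177991) L209241
theorem L209245 : sm gb N27019 = N24681 := ded_13_1 (flp_c L192137) (flp_b L159952) (flp_c L128931) L177987 L209241
theorem L209247 : sm ga N22789 = N27020 := rfl
theorem L209249 : sm gd N27020 = N22799 := ded_9_2 (flp_a L178074) (flp_d L178009) L209247
theorem L209251 : sm ge N27020 = N23180 := ded_10_2 (flp_a L181071) (flp_e L178011) L209247
theorem L209253 : sm gb N23081 = N27020 := ded_14_3 L209249 (flp_b L178078) (flp_d L180393)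
theorem L209255 : sm gc N22789 = N27021 := rfl
theorem L209257 : sm ge N27021 = N23181 := ded_19_2 (flp_c L181075) (flp_e L178011) L209255
theorem L209259 : sm gg N27021 = N25359 := ded_21_2 L197281 L181009 L209255
theorem L209261 : sm gb N27021 = N24022 := ded_13_1 L187413 (flp_b L159984) L159976 L178007 L209255
theorem L209263 : sm gf N22789 = N27022 := rfl
theorem L209265 : sm gd N27022 = N22801 := ded_23_1 (flp_f L178087) (flp_d L178009) L209263
theorem L209267 : sm ge N27022 = N23182 := ded_25_1 (flp_f L181077) (flp_e L178011) L209263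
theorem L209269 : sm gb N27022 = N26125 := ded_16_1 (flp_f L202166) L170058 L128957 L178007 L209263
theorem L209271 : sm gc N22790 = N27023 := rfl
theorem L209273 : sm ga N27023 = N22791 := ded_8_1 (flp_c L178017) L178013 L209271
theorem L209275 : sm ge N27023 = N22820 := ded_19_2 (flp_c L178289) (flp_e L178015) L209271
theorem L209277 : sm gf N27023 = N23677 := ded_20_2 L184506 (flp_f L178285) L209271
theorem L209279 : sm gd N22791 = N27024 := rfl
theorem L209281 : sm gb N27024 = N27024 := ded_14_1 (flp_d L209279) L178021 L209279
theorem L209282 : sm gf N27024 = N23384 := ded_23_2 L182447 L178022 L209279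
theorem L209284 : sm ge N27024 = N23385 := ded_22_2 L182451 L145460 (flp_d L153057) (flp_e L178019) L209279
theorem L209286 : sm gf N22795 = N27025 := rfl
theorem L209288 : sm ga N27025 = N23333 := ded_11_1 (flp_f L182117) (flp_a L180803) L209286
theorem L209290 : sm ge N27025 = N22822 := ded_25_1 (flp_f L178311) (flp_e L178049) L209286
theorem L209292 : sm gg N27025 = N23332 := ded_29_3 (flp_a L182105) L145257 L178047 L209286
theorem L209294 : sm gc N22796 = N27026 := rfl
theorem L209296 : sm ga N27026 = N22797 := ded_8_1 (flp_c L178057) L178053 L209294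
theorem L209298 : sm ge N27026 = N22826 := ded_19_2 (flp_c L178353) (flp_e L178055) L209294
theorem L209300 : sm gg N27026 = N23729 := ded_21_2 L184898 L178265 L209294
theorem L209302 : sm gd N22797 = N27027 := rfl
theorem L209304 : sm gb N27027 = N27027 := ded_14_1 (flp_d L209302) L178061 L209302
theorem L209305 : sm gg N27027 = N23443 := ded_24_2 L182833 L178062 L209302
theorem L209307 : sm ge N27027 = N23445 := ded_22_2 L182841 L145696 (flp_d L153500) (flp_e L178059) L209302
theorem L209309 : sm gg N22801 = N27028 := rfl
theorem L209311 : sm ga N27028 = N23263 := ded_12_1 L181641 (flp_a L180913) L209309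
theorem L209313 : sm ge N27028 = N22827 := ded_26_1 (flp_g L178361) (flp_e L178089) L209309
theorem L209315 : sm gf N23262 = N27028 := ded_29_0 (flp_g L209309) (flp_f L178087) (flp_g L144998) L181629
theorem L209317 : sm gb N27028 = N27025 := ded_17_1 L209292 L182111 (flp_g L170100) (flp_b L178091) L209309
theorem L209319 : sm ga N22808 = N27029 := rfl
theorem L209321 : sm gc N27029 = N23522 := ded_8_2 L183309 (flp_c L179545) L209319
theorem L209323 : sm gf N27029 = N23521 := ded_29_0 (flp_g L183303) (flp_f L179537) L179547 L209319
theorem L209325 : sm gf N22808 = N27030 := rfl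
theorem L209327 : sm ga N27030 = N23521 := ded_11_1 (flp_f L209323) (flp_a L209319) L209325
theorem L209329 : sm gc N27030 = N23520 := ded_20_1 L183301 (flp_c L179545) L209325
theorem L209331 : sm gd N27030 = N25177 := ded_23_1 L195904 L185217 L209325
theorem L209333 : sm gg N27030 = N23519 := ded_29_3 L183295 (flp_f L179537) L179547 L209325
theorem L209335 : sm gb N27030 = N25178 := ded_16_1 L195912 L185125 (flp_f L153791) L178159 L209325
theorem L209337 : sm ga N22814 = N27031 := rfl
theorem L209339 : sm gc N27031 = N23509 := ded_8_2 L183227 (flp_c L179477) L209337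
theorem L209341 : sm gg N23508 = N27031 := ded_29_3 (flp_a L209337) (flp_f L179479) L179469 L183221
theorem L209343 : sm gg N22814 = N27032 := rfl
theorem L209345 : sm ga N27032 = N23508 := ded_12_1 L209341 (flp_a L209337) L209343
theorem L209347 : sm gc N27032 = N23507 := ded_21_1 (flp_g L183209) (flp_c L179477) L209343
theorem L209349 : sm gd N27032 = N25224 := ded_24_1 L196305 L185419 L209343
theorem L209351 : sm gf N23506 = N27032 := ded_29_0 (flp_g L209343) (flp_f L179479) L179469 (flp_a L183203)
theorem L209353 : sm gb N27032 = N25225 := ded_17_1 L196313 L185327 L154059 L178217 L209343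
theorem L209355 : sm gb N22820 = N27033 := rfl
theorem L209357 : sm gd N27033 = N23678 := ded_14_2 (flp_b L184508) (flp_d L178293) L209355
theorem L209359 : sm gc N27033 = N23035 := ded_13_2 L180013 L178277 (flp_b L178269) L178289 L209355
theorem L209361 : sm gg N27033 = N23034 := ded_17_2 L180001 (flp_g L184778) (flp_b L184828) L183347 L209355
theorem L209363 : sm gf N25128 = N27033 := ded_31_1 (flp_b L209355) (flp_g L183347) (flp_f L183339) L183331 L183337 (flp_f L184390) (flp_b L184384) (flp_g L183669) (flp_f L183675) L183663 (flp_g L173723) L173719 (flp_b L180021) (flp_g L195476)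
theorem L209365 : sm ga N27033 = N23037 := ded_30_3 (flp_f L180029) (flp_c L164015) (flp_b L113128) (flp_a L140991) L140999 (flp_c L140995) L140993 (flp_a L143019) L143023 (flp_c L179567) L179569 L178141 L153046 L153028 (flp_b L129242) (flp_a L178299) (flp_f L178297) L178289 L209355
theorem L209367 : sm gb N22826 = N27034 := rfl
theorem L209369 : sm gd N27034 = N23731 := ded_14_2 (flp_b L184902) (flp_d L178359) L209367
theorem L209371 : sm gc N27034 = N23010 := ded_13_2 L179795 L178351 (flp_b L178339) L178353 L209367
theorem L209373 : sm gf N27034 = N23009 := ded_16_2 (flp_b L179785) (flp_f L184400) (flp_b L184402) (flp_f L183265) L209367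
theorem L209375 : sm gg N27034 = N25159 := ded_31_3 L195755 L179811 (flp_g L173805) L173801 L183779 (flp_g L183777) (flp_f L183749) L184760 L184766 (flp_f L183255) (flp_b L183249) L183257 (flp_f L183265) L209367
theorem L209377 : sm ga N27034 = N23011 := ded_30_3 (flp_f L179797) (flp_c L143385) (flp_b L103280) (flp_a L88714) L88720 (flp_c L103298) L103300 (flp_a L105636) (flp_f L105634) (flp_c L105606) (flp_b L148961) L116297 L116324 L148952 L129288 (flp_a L151652) (flp_f L151654) L178353 L209367
theorem L209379 : sm gb N22841 = N27035 := rfl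
theorem L209381 : sm gd N27035 = N26482 := ded_14_2 (flp_b L204607) (flp_d L178523) L209379
theorem L209383 : sm ge N27035 = N25378 := ded_15_2 (flp_b L197373) (flp_e L178525) L209379
theorem L209385 : sm gf N27035 = N25845 := ded_16_2 (flp_b L200221) L194935 L194937 (flp_f L194081) L209379
theorem L209387 : sm gg N27035 = N22843 := ded_17_2 (flp_b L178539) (flp_g L129757) L129737 L178519 L209379
theorem L209389 : sm gc N26797 = N27035 := ded_21_3 L209387 L178541 L207303
theorem L209391 : sm ga N22844 = N27036 := rfl
theorem L209393 : sm gc N22844 = N27037 := rfl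
theorem L209395 : sm gg N27037 = N23734 := ded_21_2 (flp_c L200553) L200555 L209393
theorem L209397 : sm gb N27037 = N22845 := ded_13_1 (flp_c L178545) (flp_b L129791) (flp_c L129787) L178543 L209393
theorem L209399 : sm gd N27037 = N25263 := ded_32_3 L196645 (flp_b L196216) L178597 (flp_c L178591) L130516 L140974 L149531 (flp_d L179613) (flp_c L194466) L194464 (flp_c L161916) L123299 (flp_d L174906) (flp_c L176424) L176422 (flp_c L164015) (flp_b L113128) L94116 L47073 L22665 (flp_c L80856) (flp_b L131591) L11360 L142232 (flp_c L13622) (flp_d L142098) L82018 L142189 (flp_d L13888) (flp_c L6790) (flp_d L6290) L12751 (flp_b L79559) (flp_d L132431) (flp_c L18663) L9047 L9337 (flp_b L139795) (flp_d L18035) (flp_c L8775) (flp_d L8647) (flp_c L78837) (flp_b L81665) L8643 (flp_c L8767) L139870 L139244 L19283 L141936 L139086 L105971 L149257 (flp_c L148576) (flp_b L114981) L95121 (flp_c L105903) (flp_d L153602) L153600 (flp_b L123428) (flp_d L175364) L175362 L175354 L123406 L155716 L177451 (flp_c L177441) (flp_d L177094) (flp_c L208473) L208481 L185259 L155724 (flp_d L171698) L171696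 (flp_b L173054) (flp_e L205657) L205655 L209393
theorem L209401 : sm gb N22846 = N27038 := rfl
theorem L209403 : sm gd N27038 = N26487 := ded_14_2 (flp_b L204648) (flp_d L178557) L209401
theorem L209405 : sm ge N27038 = N25390 := ded_15_2 (flp_b L197473) (flp_e L178559) L209401
theorem L209407 : sm gf N27038 = N22849 := ded_16_2 (flp_b L178585) (flp_f L129813) L129807 L178553 L209401
theorem L209409 : sm gg N27038 = N26086 := ded_17_2 (flp_b L201904) (flp_g L195221) L195223 L194243 L209401
theorem L209411 : sm gc N26675 = N27038 := ded_28_6 L209403 (flp_a L206789) L206791 (flp_d L209381) (flp_c L209389) L207307 (flp_c L207363) L207361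
theorem L209413 : sm ga N22850 = N27039 := rfl
theorem L209415 : sm gc N22850 = N27040 := rfl
theorem L209417 : sm gf N27040 = N23682 := ded_20_2 (flp_c L202194) L202196 L209415
theorem L209419 : sm gb N27040 = N22851 := ded_13_1 (flp_c L178591) (flp_b L129842) (flp_c L129838) L178589 L209415
theorem L209421 : sm gd N27040 = N25215 := ded_32_3 (flp_c L196645) (flp_b L196641) L178551 (flp_c L178545) (flp_d L149748) L137024 (flp_b L149664) (flp_d L179641) (flp_c L194659) L194657 L162802 L122418 (flp_d L173401) (flp_c L176837) L176835 (flp_c L164440) (flp_b L113556) L94367 L47412 L22842 L79330 (flp_b L141972) L11442 L142158 (flp_c L13886) (flp_d L142191) (flp_c L82018) L142095 (flp_d L13624) (flp_c L6673) (flp_d L6201) L12557 (flp_b L81218) (flp_d L141593) (flp_c L18761) L9095 L9423 L141189 (flp_d L18119) (flp_c L8807) (flp_d L8665) (flp_c L81503) L81665 L8661 (flp_c L8799) L142088 (flp_c L139632) L19481 L141944 (flp_d L141867) L106290 L149636 L148576 (flp_b L115148) L95207 (flp_c L149291) (flp_d L153640) (flp_c L153648) (flp_b L151252) (flp_d L175787) L175785 L175777 L123774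 L155752 L177174 (flp_c L177166) (flp_d L176959) L208407 L208417 L185059 L155758 (flp_d L171768) L171766 (flp_b L174581) (flp_e L206938) L206936 L209415
theorem L209423 : sm gb N22858 = N27041 := rfl
theorem L209425 : sm gd N27041 = N22859 := ded_14_2 (flp_b L178651) (flp_d L178649) L209423
theorem L209427 : sm gg N27041 = N23129 := ded_17_2 (flp_b L180723) (flp_g L144415) (flp_b L129964) L178647 L209423
theorem L209429 : sm ga N22859 = N27042 := rfl
theorem L209431 : sm ge N27042 = N22968 := ded_10_2 (flp_a L179463) (flp_e L178653) L209429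
theorem L209433 : sm gg N27042 = N23130 := ded_12_2 (flp_a L180727) (flp_g L178655) L209429
theorem L209435 : sm gc N22859 = N27043 := rfl
theorem L209437 : sm ge N27043 = N22969 := ded_19_2 (flp_c L179467) (flp_e L178653) L209435
theorem L209439 : sm gg N27043 = N23131 := ded_21_2 (flp_c L180731) (flp_g L178655) L209435
theorem L209441 : sm gb N27043 = N22861 := ded_13_1 (flp_c L178663) (flp_b L129974) (flp_c L129970) L178651 L209435
theorem L209443 : sm gf N27012 = N27043 := ded_25_0 L209437 L179479 (flp_e L209187)
theorem L209445 : sm gd N24851 = N27043 := ded_22_5 L209437 (flp_d L196331) L196333 (flp_d L195041) (flp_e L193219)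
theorem L209447 : sm gf N22859 = N27044 := rfl
theorem L209449 : sm gc N27044 = N27012 := ded_20_1 L209443 (flp_c L209435) L209447
theorem L209451 : sm ge N27044 = N22970 := ded_25_1 (flp_f L179473) (flp_e L178653) L209447
theorem L209453 : sm gb N27044 = N27011 := ded_16_1 L209181 (flp_b L179001) L130188 L178651 L209447
theorem L209455 : sm gc N22860 = N27045 := rfl
theorem L209457 : sm ga N27045 = N22861 := ded_8_1 (flp_c L178663) L178657 L209455
theorem L209459 : sm ge N27045 = N22971 := ded_19_2 (flp_c L179481) (flp_e L178659) L209455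
theorem L209461 : sm gg N27045 = N22863 := ded_21_2 (flp_c L178673) (flp_g L178661) L209455
theorem L209463 : sm gd N25959 = N27045 := ded_9_0 L209457 L192849 L201044
theorem L209465 : sm gb N25958 = N27045 := ded_15_3 L209459 (flp_b L185917) (flp_e L201034)
theorem L209467 : sm gf N22861 = N27046 := rfl
theorem L209469 : sm gc N27046 = N22862 := ded_20_1 (flp_f L178669) L178663 L209467
theorem L209471 : sm ge N27046 = N22973 := ded_25_1 (flp_f L179497) (flp_e L178665) L209467
theorem L209473 : sm gb N27046 = N27010 := ded_16_1 L209171 L209185 L209443 L209441 L209467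
theorem L209475 : sm gf N22863 = N27047 := rfl
theorem L209477 : sm ga N27047 = N22865 := ded_11_1 (flp_f L178689) (flp_a L178675) L209475
theorem L209479 : sm gc N27047 = N22864 := ded_20_1 (flp_f L178679) L178673 L209475
theorem L209481 : sm ge N27047 = N22974 := ded_25_1 (flp_f L179503) (flp_e L178677) L209475
theorem L209483 : sm gg N27046 = N27047 := ded_29_1 (flp_f L209475) (flp_g L209461) L209457 L209467
theorem L209485 : sm gg N22865 = N27048 := rfl
theorem L209487 : sm ga N27048 = N27046 := ded_12_1 L209483 L209477 L209485
theorem L209489 : sm gc N27048 = N22866 := ded_21_1 (flp_g L178697) (flp_c L178691) L209485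
theorem L209491 : sm ge N27048 = N22976 := ded_26_1 (flp_g L179523) (flp_e L178693) L209485
theorem L209493 : sm gf N27045 = N27048 := ded_29_0 (flp_g L209485) (flp_f L178689) (flp_g L178667) (flp_a L209457)
theorem L209495 : sm gb N22869 = N27049 := rfl
theorem L209497 : sm gd N27049 = N22870 := ded_14_2 (flp_b L178729) (flp_d L178727) L209495
theorem L209499 : sm gf N27049 = N23144 := ded_16_2 (flp_b L180831) (flp_f L144507) (flp_b L130010) L178725 L209495
theorem L209501 : sm ga N22870 = N27050 := rfl
theorem L209503 : sm ge N27050 = N22977 := ded_10_2 (flp_a L179531) (flp_e L178731) L209501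
theorem L209505 : sm gf N27050 = N23145 := ded_11_2 (flp_a L180835) (flp_f L178733) L209501
theorem L209507 : sm gc N22870 = N27051 := rfl
theorem L209509 : sm ge N27051 = N22978 := ded_19_2 (flp_c L179535) (flp_e L178731) L209507
theorem L209511 : sm gf N27051 = N23146 := ded_20_2 (flp_c L180839) (flp_f L178733) L209507
theorem L209513 : sm gb N27051 = N22872 := ded_13_1 (flp_c L178741) (flp_b L130020) (flp_c L130016) L178729 L209507
theorem L209515 : sm gg N27006 = N27051 := ded_26_0 L209509 L179547 (flp_e L209129)
theorem L209517 : sm gd N24902 = N27051 := ded_22_5 L209509 (flp_d L195930) L195932 (flp_d L195287) (flp_e L193523)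
theorem L209519 : sm gg N22870 = N27052 := rfl
theorem L209521 : sm gc N27052 = N27006 := ded_21_1 L209515 (flp_c L209507) L209519
theorem L209523 : sm ge N27052 = N22979 := ded_26_1 (flp_g L179541) (flp_e L178731) L209519
theorem L209525 : sm gb N27052 = N27005 := ded_17_1 L209125 (flp_b L179197) (flp_g L130308) L178729 L209519
theorem L209527 : sm gc N22871 = N27053 := rfl
theorem L209529 : sm ga N27053 = N22872 := ded_8_1 (flp_c L178741) L178735 L209527
theorem L209531 : sm ge N27053 = N22980 := ded_19_2 (flp_c L179549) (flp_e L178737) L209527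
theorem L209533 : sm gf N27053 = N22874 := ded_20_2 (flp_c L178751) (flp_f L178739) L209527
theorem L209535 : sm gb N27053 = N26193 := ded_30_2 (flp_a L202770) (flp_f L202774) (flp_c L202675) (flp_b L194789) (flp_a L162299) (flp_f L162297) (flp_c L162269) (flp_b L180523) L180515 (flp_f L144269) (flp_c L103814) (flp_b L89050) L38676 L38708 (flp_c L88374) L102599 L130026 (flp_f L178739) L209527
theorem L209537 : sm gd N26194 = N27053 := ded_9_0 L209529 L192527 (flp_a L202691)
theorem L209539 : sm gg N22872 = N27054 := rfl
theorem L209541 : sm gc N27054 = N22873 := ded_21_1 (flp_g L178747) L178741 L209539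
theorem L209543 : sm ge N27054 = N22982 := ded_26_1 (flp_g L179565) (flp_e L178743) L209539
theorem L209545 : sm gb N27054 = N27004 := ded_17_1 L209115 L209127 L209515 L209513 L209539
theorem L209547 : sm gg N22874 = N27055 := rfl
theorem L209549 : sm ga N27055 = N22876 := ded_12_1 (flp_g L178767) (flp_a L178753) L209547
theorem L209551 : sm gc N27055 = N22875 := ded_21_1 (flp_g L178757) L178751 L209547
theorem L209553 : sm ge N27055 = N22983 := ded_26_1 (flp_g L179571) (flp_e L178755) L209547
theorem L209555 : sm gf N27055 = N27054 := ded_29_2 (flp_g L209539) (flp_a L209529) L209533 L209547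
theorem L209557 : sm gf N22876 = N27056 := rfl
theorem L209559 : sm ga N27056 = N27054 := ded_11_1 (flp_f L209555) L209549 L209557
theorem L209561 : sm gc N27056 = N22877 := ded_20_1 (flp_f L178775) (flp_c L178769) L209557
theorem L209563 : sm ge N27056 = N22985 := ded_25_1 (flp_f L179591) (flp_e L178771) L209557
theorem L209565 : sm gg N27056 = N27053 := ded_29_3 L209529 L178745 L178767 L209557
theorem L209567 : sm gb N22878 = N27057 := rfl
theorem L209569 : sm gd N27057 = N22896 := ded_14_2 (flp_b L178969) (flp_d L178791) L209567
theorem L209571 : sm ge N27057 = N23010 := ded_15_2 L179795 (flp_e L178793) L209567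
theorem L209573 : sm gf N27057 = N22914 := ded_16_2 (flp_b L179283) L195358 (flp_b L195348) (flp_f L178795) L209567
theorem L209575 : sm gg N27057 = N22879 := ded_17_2 (flp_b L178797) (flp_g L130052) L130044 L178787 L209567
theorem L209577 : sm ga N27057 = N22916 := ded_7_1 L179099 L176462 (flp_b L163115) L179171 (flp_b L179165) (flp_a L164300) (flp_b L195346) L195336 L209567
theorem L209579 : sm gc N22879 = N27058 := rfl
theorem L209581 : sm ga N27058 = N25157 := ded_8_1 (flp_c L195739) L178803 L209579
theorem L209583 : sm ge N27058 = N25159 := ded_19_2 (flp_c L195751) (flp_e L178801) L209579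
theorem L209585 : sm gb N27058 = N25848 := ded_13_1 (flp_c L200239) (flp_b L168855) (flp_c L130056) L178797 L209579
theorem L209587 : sm gf N22880 = N27059 := rfl
theorem L209589 : sm ga N27059 = N25855 := ded_11_1 L204740 L204731 L209587
theorem L209591 : sm gc N27059 = N26544 := ded_20_1 (flp_f L205127) (flp_c L178811) L209587
theorem L209593 : sm gd N27059 = N25844 := ded_23_1 (flp_f L200211) (flp_d L178807) L209587
theorem L209595 : sm ge N27059 = N26546 := ded_25_1 (flp_f L205139) (flp_e L178809) L209587
theorem L209597 : sm gg N27059 = N25855 := ded_29_3 (flp_a L209589) (flp_f L209587) L178813 L209587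
theorem L209599 : sm gb N27059 = N25897 := ded_16_1 (flp_f L200595) (flp_b L200229) (flp_f L168853) L178805 L209587
theorem L209601 : sm gb N22882 = N27060 := rfl
theorem L209603 : sm gd N27060 = N22912 := ded_14_2 (flp_b L179071) (flp_d L178830) L209601
theorem L209605 : sm ge N27060 = N23032 := ded_15_2 L179991 (flp_e L178832) L209601
theorem L209607 : sm gf N27060 = N22883 := ded_16_2 (flp_b L178834) (flp_f L130078) L130070 L178826 L209601
theorem L209609 : sm gg N27060 = N26918 := ded_17_2 (flp_b L208317) L176855 (flp_b L178862) (flp_g L178860) L209601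
theorem L209611 : sm ga N27060 = N22942 := ded_7_1 L179277 (flp_a L195087) L195097 L190261 L158587 (flp_a L175731) (flp_b L178876) L178866 L209601
theorem L209613 : sm gg N22883 = N27061 := rfl
theorem L209615 : sm ga N27061 = N22941 := ded_12_1 L179271 (flp_a L178840) L209613
theorem L209617 : sm gd N27061 = N22913 := ded_24_1 (flp_g L179077) (flp_d L178836) L209613
theorem L209619 : sm ge N27061 = N23029 := ded_26_1 L179967 (flp_e L178838) L209613
theorem L209621 : sm gf N24197 = N27061 := ded_29_0 (flp_g L209613) (flp_f L209607) L209609 L208325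
theorem L209623 : sm gb N27061 = N25048 := ded_17_1 (flp_g L194743) L162210 (flp_g L130084) L178834 L209613
theorem L209625 : sm gb N22887 = N27062 := rfl
theorem L209627 : sm gd N27062 = N22925 := ded_14_2 (flp_b L179165) (flp_d L178882) L209625
theorem L209629 : sm ge N27062 = N23035 := ded_15_2 L180013 (flp_e L178884) L209625
theorem L209631 : sm gf N27062 = N22888 := ded_16_2 (flp_b L178888) (flp_f L130113) L130105 L178878 L209625
theorem L209633 : sm gg N27062 = N22943 := ded_17_2 L179283 L195655 (flp_b L195645) L178886 L209625
theorem L209635 : sm ga N27062 = N22946 := ded_7_1 L179307 L176540 (flp_b L164420) L178975 (flp_b L178969) (flp_a L162961) L195360 L195370 L209625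
theorem L209637 : sm gc N22888 = N27063 := rfl
theorem L209639 : sm ga N27063 = N25126 := ded_8_1 (flp_c L195460) L178894 L209637
theorem L209641 : sm ge N27063 = N25128 := ded_19_2 (flp_c L195472) (flp_e L178892) L209637
theorem L209643 : sm gb N27063 = N26088 := ded_13_1 (flp_c L201918) (flp_b L169852) (flp_c L130117) L178888 L209637
theorem L209645 : sm gg N22889 = N27064 := rfl
theorem L209647 : sm ga N27064 = N26096 := ded_12_1 L204974 L204965 L209645
theorem L209649 : sm gc N27064 = N26514 := ded_21_1 (flp_g L204879) (flp_c L178902) L209645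
theorem L209651 : sm gd N27064 = N26085 := ded_24_1 (flp_g L201894) (flp_d L178898) L209645
theorem L209653 : sm ge N27064 = N26517 := ded_26_1 (flp_g L204896) (flp_e L178900) L209645
theorem L209655 : sm gf N26096 = N27064 := ded_29_0 (flp_g L209645) L178904 L209645 L209647
theorem L209657 : sm gb N27064 = N26132 := ded_17_1 (flp_g L202236) (flp_b L201922) L169876 L178896 L209645
theorem L209659 : sm gb N22891 = N27065 := rfl
theorem L209661 : sm gd N27065 = N22941 := ded_14_2 (flp_b L179267) (flp_d L178921) L209659
theorem L209663 : sm ge N27065 = N23007 := ded_15_2 L179773 (flp_e L178923) L209659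
theorem L209665 : sm gf N27065 = N26899 := ded_16_2 (flp_b L208159) L176556 (flp_b L178953) L178951 L209659
theorem L209667 : sm gg N27065 = N22892 := ded_17_2 (flp_b L178925) (flp_g L130139) L130131 L178917 L209659
theorem L209669 : sm ga N27065 = N22913 := ded_7_1 L179081 (flp_a L194777) (flp_b L194787) L190427 L158702 (flp_a L176117) (flp_b L178967) L178957 L209659
theorem L209671 : sm gf N22892 = N27066 := rfl
theorem L209673 : sm ga N27066 = N22912 := ded_11_1 L179075 L178931 L209671
theorem L209675 : sm gd N27066 = N22942 := ded_23_1 (flp_f L179273) (flp_d L178927) L209671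
theorem L209677 : sm ge N27066 = N23004 := ded_25_1 L179747 (flp_e L178929) L209671
theorem L209679 : sm gg N27066 = N24194 := ded_29_3 L208165 (flp_f L209665) L209667 L209671
theorem L209681 : sm gb N27066 = N25082 := ded_16_1 (flp_f L195053) L162528 L130145 L178925 L209671
theorem L209683 : sm gg N22897 = N27067 := rfl
theorem L209685 : sm gd N27067 = N22898 := ded_24_1 (flp_g L178981) L178977 L209683
theorem L209687 : sm ge N27067 = N26082 := ded_26_1 L201876 L191233 L209683
theorem L209689 : sm gf N22898 = N27068 := rfl
theorem L209691 : sm ga N27068 = N24420 := ded_11_1 (flp_f L194047) L194041 L209689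
theorem L209693 : sm gc N27068 = N24418 := ded_20_1 L190297 L190291 L209689
theorem L209695 : sm ge N27068 = N22994 := ded_25_1 (flp_f L179655) (flp_e L178983) L209689
theorem L209697 : sm gg N27068 = N24417 := ded_29_3 L190251 L158563 L178981 L209689
theorem L209699 : sm gg N22899 = N27069 := rfl
theorem L209701 : sm ga N27069 = N22904 := ded_12_1 (flp_g L179021) (flp_a L178987) L209699
theorem L209703 : sm gc N27069 = N23343 := ded_21_1 L182213 L182157 L209699
theorem L209705 : sm gd N27069 = N22995 := ded_24_1 (flp_g L179665) (flp_d L178991) L209699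
theorem L209707 : sm ge N27069 = N22900 := ded_26_1 (flp_g L178993) L178985 L209699
theorem L209709 : sm gf N23340 = N27069 := ded_29_0 (flp_g L209699) L178989 L193535 L193537
theorem L209711 : sm gb N22900 = N27070 := rfl
theorem L209713 : sm gd N27070 = N22901 := ded_14_2 (flp_b L179001) (flp_d L178997) L209711
theorem L209715 : sm gd N22902 = N27071 := rfl
theorem L209717 : sm ga N27071 = N25158 := ded_9_1 (flp_d L195745) (flp_a L179007) L209715
theorem L209719 : sm gb N22904 = N27072 := rfl
theorem L209721 : sm gd N27072 = N22998 := ded_14_2 (flp_b L179697) (flp_d L179023) L209719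
theorem L209723 : sm ge N27072 = N22905 := ded_15_2 (flp_b L179027) (flp_e L179025) L209719
theorem L209725 : sm gg N27072 = N22954 := ded_17_2 (flp_b L179363) (flp_g L130400) (flp_b L130196) L179021 L209719
theorem L209727 : sm ga N22905 = N27073 := rfl
theorem L209729 : sm gd N27073 = N22907 := ded_9_2 (flp_a L179041) (flp_d L179029) L209727
theorem L209731 : sm gg N27073 = N22955 := ded_12_2 (flp_a L179369) (flp_g L179031) L209727
theorem L209733 : sm gc N22905 = N27074 := rfl
theorem L209735 : sm gg N27074 = N22956 := ded_21_2 (flp_c L179373) (flp_g L179031) L209733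
theorem L209737 : sm gf N22905 = N27075 := rfl
theorem L209739 : sm gd N27075 = N22908 := ded_23_1 (flp_f L179047) (flp_d L179029) L209737
theorem L209741 : sm gb N22907 = N27076 := rfl
theorem L209743 : sm ge N27076 = N23000 := ded_15_2 (flp_b L179713) (flp_e L179043) L209741
theorem L209745 : sm ga N25104 = N27076 := ded_10_3 L209743 L183421 (flp_e L195267)
theorem L209747 : sm gc N24375 = N27076 := ded_19_3 L209743 (flp_c L183427) L189929
theorem L209749 : sm gd N22909 = N27077 := rfl
theorem L209751 : sm ga N27077 = N22910 := ded_9_1 (flp_d L179061) (flp_a L179053) L209749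
theorem L209753 : sm gb N27077 = N26235 := ded_14_1 L203019 L179059 L209749
theorem L209755 : sm gg N27077 = N22918 := ded_24_2 (flp_d L179111) (flp_g L179057) L209749
theorem L209757 : sm ge N27077 = N26237 := ded_22_2 L203031 L170564 L151397 (flp_e L179055) L209749
theorem L209759 : sm gc N22910 = N27078 := rfl
theorem L209761 : sm gg N27078 = N22920 := ded_21_2 (flp_c L179129) (flp_g L179063) L209759
theorem L209763 : sm ge N22910 = N27079 := rfl
theorem L209765 : sm ga N27079 = N26237 := ded_10_1 (flp_e L209757) L209751 L209763
theorem L209767 : sm gb N27079 = N25909 := ded_15_1 L200691 L179431 L209763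
theorem L209769 : sm gg N27079 = N22921 := ded_26_2 (flp_e L179131) (flp_g L179063) L209763
theorem L209771 : sm gd N27079 = N23002 := ded_22_1 (flp_e L179721) (flp_d L143363) (flp_e L130228) L179061 L209763
theorem L209773 : sm gf N22910 = N27080 := rfl
theorem L209775 : sm gd N27080 = N22911 := ded_23_1 (flp_f L179065) L179061 L209773
theorem L209777 : sm gb N22911 = N27081 := rfl
theorem L209779 : sm ge N27081 = N23003 := ded_15_2 (flp_b L179731) (flp_e L179069) L209777
theorem L209781 : sm gc N27081 = N26930 := ded_13_2 L208443 (flp_c L187309) (flp_b L179071) (flp_c L179067) L209777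
theorem L209783 : sm gf N27081 = N24995 := ded_16_2 (flp_b L194257) (flp_f L179453) L130458 L179065 L209777
theorem L209785 : sm gg N27081 = N26939 := ded_31_3 L208543 (flp_b L194577) (flp_g L194571) (flp_f L183044) (flp_b L183040) (flp_g L145843) (flp_f L104629) (flp_b L89453) L82693 (flp_f L88462) (flp_b L102687) (flp_g L130230) L179065 L209777
theorem L209787 : sm ga N27081 = N24222 := ded_30_3 L188765 (flp_c L177232) L208608 L208618 L205609 (flp_c L205598) (flp_b L172937) L121946 L161844 L161848 L161864 L194446 (flp_f L195231) (flp_c L195225) L162714 (flp_a L130220) L130232 (flp_c L179067) L209777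
theorem L209789 : sm gc N22914 = N27082 := rfl
theorem L209791 : sm ga N27082 = N22915 := ded_8_1 (flp_c L179087) L179083 L209789
theorem L209793 : sm ge N27082 = N23009 := ded_19_2 (flp_c L179779) (flp_e L179085) L209789
theorem L209795 : sm gb N27082 = N23373 := ded_30_2 (flp_a L182387) (flp_f L182345) (flp_c L182777) L182781 (flp_a L182813) (flp_f L182811) L145678 L175601 L175597 (flp_f L123610) (flp_c L123600) (flp_b L124467) (flp_a L176430) L208120 L208124 (flp_b L179099) (flp_a L209577) L209573 L209789
theorem L209797 : sm gd N22915 = N27083 := rfl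
theorem L209799 : sm gb N27083 = N26633 := ded_14_1 (flp_d L205901) (flp_b L179091) L209797
theorem L209801 : sm ge N27083 = N26628 := ded_22_2 (flp_d L205868) (flp_e L173359) L151445 (flp_e L179089) L209797
theorem L209803 : sm gf N22915 = N27084 := rfl
theorem L209805 : sm gc N27084 = N22916 := ded_20_1 (flp_f L179093) L179087 L209803
theorem L209807 : sm ge N27084 = N23011 := ded_25_1 (flp_f L179797) (flp_e L179089) L209803
theorem L209809 : sm gg N25157 = N27084 := ded_21_0 L209805 (flp_g L179101) L195739
theorem L209811 : sm gg N22915 = N27085 := rfl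
theorem L209813 : sm gc N27085 = N22917 := ded_21_1 (flp_g L179103) L179087 L209811
theorem L209815 : sm ge N27085 = N23012 := ded_26_1 (flp_g L179805) (flp_e L179089) L209811
theorem L209817 : sm gf N27058 = N27085 := ded_29_0 (flp_g L209811) L209803 (flp_g L209809) (flp_a L209581)
theorem L209819 : sm gb N27085 = N26688 := ded_17_1 (flp_g L206346) L173799 (flp_g L173377) (flp_b L179091) L209811
theorem L209821 : sm gf N22918 = N27086 := rfl
theorem L209823 : sm ga N27086 = N22922 := ded_11_1 (flp_f L179139) (flp_a L179113) L209821
theorem L209825 : sm gd N27086 = N22919 := ded_23_1 (flp_f L179119) L179111 L209821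
theorem L209827 : sm ge N27086 = N26248 := ded_25_1 (flp_f L203091) (flp_e L179117) L209821
theorem L209829 : sm gg N27080 = N27086 := ded_29_1 (flp_f L209821) (flp_g L209755) L209751 L209773
theorem L209831 : sm ge N22920 = N27087 := rfl
theorem L209833 : sm ga N27087 = N26247 := ded_10_1 L203087 L198697 L209831
theorem L209835 : sm gc N27087 = N22921 := ded_19_1 (flp_e L179131) L179129 L209831
theorem L209837 : sm gd N27087 = N25476 := ded_22_1 (flp_e L197991) L167758 L198615 (flp_d L198621) L209831
theorem L209839 : sm gf N22920 = N27088 := rfl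
theorem L209841 : sm gc N27088 = N22922 := ded_20_1 (flp_f L179139) L179129 L209839
theorem L209843 : sm gf N22921 = N27089 := rfl
theorem L209845 : sm ga N27089 = N26248 := ded_11_1 (flp_f L203091) (flp_a L179133) L209843
theorem L209847 : sm gd N27089 = N23015 := ded_23_1 (flp_f L179833) (flp_d L179137) L209843
theorem L209849 : sm ge N27089 = N22922 := ded_25_1 (flp_f L179139) L179131 L209843
theorem L209851 : sm gb N27089 = N23400 := ded_16_1 (flp_f L182551) L145536 (flp_f L130428) (flp_b L179135) L209843
theorem L209853 : sm gg N22922 = N27090 := rfl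
theorem L209855 : sm ga N27090 = N27080 := ded_12_1 L209829 L209823 L209853
theorem L209857 : sm gd N27090 = N22923 := ded_24_1 (flp_g L179145) (flp_d L179141) L209853
theorem L209859 : sm gf N27077 = N27090 := ded_29_0 (flp_g L209853) (flp_f L179139) (flp_g L179063) (flp_a L209751)
theorem L209861 : sm gb N22923 = N27091 := rfl
theorem L209863 : sm ge N27091 = N23016 := ded_15_2 (flp_b L179841) (flp_e L179151) L209861
theorem L209865 : sm gf N27091 = N24284 := ded_16_2 L207265 (flp_f L207255) L179059 L179153 L209861
theorem L209867 : sm gg N27091 = N23403 := ded_17_2 (flp_b L182577) (flp_g L145548) (flp_b L130268) L179145 L209861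
theorem L209869 : sm gc N24273 = N27091 := ded_19_3 L209863 (flp_c L179847) L189149
theorem L209871 : sm gc N22924 = N27092 := rfl
theorem L209873 : sm ga N27092 = N23154 := ded_8_1 L180899 L179163 L209871
theorem L209875 : sm ge N27092 = N23017 := ded_19_2 (flp_c L179849) (flp_e L179159) L209871
theorem L209877 : sm gf N27092 = N25210 := ded_20_2 (flp_c L207744) (flp_f L207750) L209871
theorem L209879 : sm gg N27092 = N26848 := ded_21_2 (flp_c L207714) (flp_g L179161) L209871
theorem L209881 : sm gb N27092 = N24273 := ded_13_1 L209869 (flp_b L209861) L179149 L179155 L209871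
theorem L209883 : sm gd N27092 = N26348 := ded_28_3 (flp_c L203705) (flp_d L203697) L206378 L206376 (flp_a L206314) L206316 (flp_d L179157) L209871
theorem L209885 : sm gf N22926 = N27093 := rfl
theorem L209887 : sm gd N27093 = N22927 := ded_23_1 (flp_f L179177) L179173 L209885
theorem L209889 : sm ge N27093 = N25835 := ded_25_1 L200159 L191616 L209885
theorem L209891 : sm gg N22927 = N27094 := rfl
theorem L209893 : sm ga N27094 = N24441 := ded_12_1 L194209 L194203 L209891
theorem L209895 : sm gc N27094 = N24439 := ded_21_1 (flp_g L190463) L190457 L209891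
theorem L209897 : sm ge N27094 = N23019 := ded_26_1 (flp_g L179873) (flp_e L179179) L209891
theorem L209899 : sm gf N24438 = N27094 := ded_29_0 (flp_g L209891) (flp_f L179177) (flp_g L158690) (flp_a L190417)
theorem L209901 : sm gf N22928 = N27095 := rfl
theorem L209903 : sm ga N27095 = N22933 := ded_11_1 (flp_f L179217) (flp_a L179183) L209901
theorem L209905 : sm gc N27095 = N23401 := ded_20_1 (flp_f L182563) L182525 L209901
theorem L209907 : sm gd N27095 = N23020 := ded_23_1 (flp_f L179883) (flp_d L179187) L209901
theorem L209909 : sm ge N27095 = N22929 := ded_25_1 (flp_f L179189) L179181 L209901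
theorem L209911 : sm gg N27095 = N23399 := ded_29_3 (flp_a L193749) (flp_f L193747) (flp_g L179185) L209901
theorem L209913 : sm gb N22929 = N27096 := rfl
theorem L209915 : sm gd N27096 = N22930 := ded_14_2 (flp_b L179197) (flp_d L179193) L209913
theorem L209917 : sm gd N22931 = N27097 := rfl
theorem L209919 : sm ga N27097 = N25127 := ded_9_1 (flp_d L195466) (flp_a L179203) L209917
theorem L209921 : sm gb N22933 = N27098 := rfl
theorem L209923 : sm gd N27098 = N23023 := ded_14_2 (flp_b L179915) (flp_d L179219) L209921
theorem L209925 : sm ge N27098 = N22934 := ded_15_2 (flp_b L179223) (flp_e L179221) L209921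
theorem L209927 : sm gf N27098 = N22961 := ded_16_2 (flp_b L179413) (flp_f L130432) (flp_b L130316) L179217 L209921
theorem L209929 : sm ga N22934 = N27099 := rfl
theorem L209931 : sm gd N27099 = N22936 := ded_9_2 (flp_a L179237) (flp_d L179225) L209929
theorem L209933 : sm gf N27099 = N22962 := ded_11_2 (flp_a L179419) (flp_f L179227) L209929
theorem L209935 : sm gc N22934 = N27100 := rfl
theorem L209937 : sm gf N27100 = N22963 := ded_20_2 (flp_c L179423) (flp_f L179227) L209935
theorem L209939 : sm gg N22934 = N27101 := rfl
theorem L209941 : sm gd N27101 = N22937 := ded_24_1 (flp_g L179243) (flp_d L179225) L209939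
theorem L209943 : sm gb N22936 = N27102 := rfl
theorem L209945 : sm ge N27102 = N23025 := ded_15_2 (flp_b L179931) (flp_e L179239) L209943
theorem L209947 : sm ga N25072 = N27102 := ded_10_3 L209945 L183909 (flp_e L194981)
theorem L209949 : sm gc N24321 = N27102 := ded_19_3 L209945 (flp_c L183911) L189505
theorem L209951 : sm gd N22938 = N27103 := rfl
theorem L209953 : sm ga N27103 = N22939 := ded_9_1 (flp_d L179257) (flp_a L179249) L209951
theorem L209955 : sm gb N27103 = N26003 := ded_14_1 L201376 L179255 L209951
theorem L209957 : sm gf N27103 = N22947 := ded_23_2 (flp_d L179309) (flp_f L179253) L209951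
theorem L209959 : sm ge N27103 = N26005 := ded_22_2 L201388 L169543 L143601 (flp_e L179251) L209951
theorem L209961 : sm gc N22939 = N27104 := rfl
theorem L209963 : sm gf N27104 = N22949 := ded_20_2 (flp_c L179327) (flp_f L179259) L209961
theorem L209965 : sm ge N22939 = N27105 := rfl
theorem L209967 : sm ga N27105 = N26005 := ded_10_1 (flp_e L209959) L209953 L209965
theorem L209969 : sm gb N27105 = N26144 := ded_15_1 L202332 L179381 L209965
theorem L209971 : sm gf N27105 = N22950 := ded_25_2 (flp_e L179329) (flp_f L179259) L209965
theorem L209973 : sm gd N27105 = N23027 := ded_22_1 (flp_e L179939) (flp_d L143605) (flp_e L130348) L179257 L209965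
theorem L209975 : sm gg N22939 = N27106 := rfl
theorem L209977 : sm gd N27106 = N22940 := ded_24_1 (flp_g L179261) L179257 L209975
theorem L209979 : sm gb N22940 = N27107 := rfl
theorem L209981 : sm ge N27107 = N23028 := ded_15_2 (flp_b L179949) (flp_e L179265) L209979
theorem L209983 : sm gc N27107 = N26951 := ded_13_2 L208654 (flp_c L187125) (flp_b L179267) (flp_c L179263) L209979
theorem L209985 : sm gg N27107 = N24976 := ded_17_2 (flp_b L194095) (flp_g L179403) L130422 L179261 L209979
theorem L209987 : sm gf N26957 = N27107 := ded_31_1 (flp_b L209979) (flp_g L179261) L130350 L102745 L88486 (flp_f L72128) L89412 L104553 L145734 L182901 L182905 L194378 L194384 (flp_g L208716)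
theorem L209989 : sm ga N24198 = N27107 := ded_10_3 L209981 (flp_a L179957) (flp_e L188599)
theorem L209991 : sm gc N22943 = N27108 := rfl
theorem L209993 : sm ga N27108 = N22944 := ded_8_1 (flp_c L179285) L179279 L209991
theorem L209995 : sm ge N27108 = N23034 := ded_19_2 (flp_c L179997) (flp_e L179281) L209991
theorem L209997 : sm gb N27108 = N23432 := ded_13_1 L182767 (flp_b L209795) (flp_c L209789) (flp_b L179283) L209991
theorem L209999 : sm gd N22944 = N27109 := rfl
theorem L210001 : sm gb N27109 = N26671 := ded_14_1 L206206 (flp_b L179289) L209999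
theorem L210003 : sm ge N27109 = N26770 := ded_22_2 (flp_d L207083) (flp_e L174868) L143639 (flp_e L179287) L209999
theorem L210005 : sm gf N22944 = N27110 := rfl
theorem L210007 : sm gc N27110 = N22945 := ded_20_1 (flp_f L179291) L179285 L210005
theorem L210009 : sm ge N27110 = N23036 := ded_25_1 (flp_f L180015) (flp_e L179287) L210005
theorem L210011 : sm gb N27110 = N26666 := ded_16_1 (flp_f L206168) L173717 L173733 (flp_b L179289) L210005
theorem L210013 : sm gg N27063 = N27110 := ded_21_0 L210007 (flp_g L179297) L209637
theorem L210015 : sm gg N22944 = N27111 := rfl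
theorem L210017 : sm gc N27111 = N22946 := ded_21_1 (flp_g L179299) L179285 L210015
theorem L210019 : sm ge N27111 = N23037 := ded_26_1 (flp_g L180023) (flp_e L179287) L210015
theorem L210021 : sm gf N25126 = N27111 := ded_29_0 (flp_g L210015) L210005 (flp_g L210013) L209639
theorem L210023 : sm gg N22947 = N27112 := rfl
theorem L210025 : sm ga N27112 = N22951 := ded_12_1 (flp_g L179337) (flp_a L179311) L210023
theorem L210027 : sm gd N27112 = N22948 := ded_24_1 (flp_g L179317) L179309 L210023
theorem L210029 : sm ge N27112 = N26017 := ded_26_1 (flp_g L201454) (flp_e L179315) L210023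
theorem L210031 : sm gf N27112 = N27106 := ded_29_2 (flp_g L209975) (flp_a L209953) L209957 L210023
theorem L210033 : sm ge N22949 = N27113 := rfl
theorem L210035 : sm ga N27113 = N26016 := ded_10_1 L201450 L198326 L210033
theorem L210037 : sm gc N27113 = N22950 := ded_19_1 (flp_e L179329) L179327 L210033
theorem L210039 : sm gd N27113 = N25442 := ded_22_1 (flp_e L197811) L167512 L198244 (flp_d L198250) L210033
theorem L210041 : sm gg N22949 = N27114 := rfl
theorem L210043 : sm gc N27114 = N22951 := ded_21_1 (flp_g L179337) L179327 L210041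
theorem L210045 : sm gg N22950 = N27115 := rfl
theorem L210047 : sm ga N27115 = N26017 := ded_12_1 (flp_g L201454) (flp_a L179331) L210045
theorem L210049 : sm gd N27115 = N23040 := ded_24_1 (flp_g L180051) (flp_d L179335) L210045
theorem L210051 : sm ge N27115 = N22951 := ded_26_1 (flp_g L179337) L179329 L210045
theorem L210053 : sm gb N27115 = N23341 := ded_17_1 (flp_g L182189) L145304 (flp_g L130466) (flp_b L179333) L210045
theorem L210055 : sm gf N22951 = N27116 := rfl
theorem L210057 : sm ga N27116 = N27106 := ded_11_1 (flp_f L210031) L210025 L210055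
theorem L210059 : sm gd N27116 = N22952 := ded_23_1 (flp_f L179343) (flp_d L179339) L210055
theorem L210061 : sm gg N27116 = N27103 := ded_29_3 L209953 L179259 L179337 L210055
theorem L210063 : sm gb N22952 = N27117 := rfl
theorem L210065 : sm ge N27117 = N23041 := ded_15_2 (flp_b L180059) (flp_e L179349) L210063
theorem L210067 : sm gf N27117 = N23345 := ded_16_2 (flp_b L182221) (flp_f L145332) (flp_b L130390) L179343 L210063
theorem L210069 : sm gg N27117 = N24265 := ded_17_2 L206096 (flp_g L206088) L179255 (flp_g L179351) L210063
theorem L210071 : sm gc N24254 = N27117 := ded_19_3 L210065 (flp_c L180065) L189027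
theorem L210073 : sm gc N22953 = N27118 := rfl
theorem L210075 : sm ga N27118 = N23139 := ded_8_1 L180789 L179361 L210073
theorem L210077 : sm ge N27118 = N23042 := ded_19_2 (flp_c L180067) (flp_e L179357) L210073
theorem L210079 : sm gf N27118 = N26883 := ded_20_2 (flp_c L208003) (flp_f L179359) L210073
theorem L210081 : sm gg N27118 = N25258 := ded_21_2 (flp_c L208033) L208039 L210073
theorem L210083 : sm gb N27118 = N24254 := ded_13_1 L210071 (flp_b L210063) L179347 L179353 L210073
theorem L210085 : sm gd N27118 = N26427 := ded_28_3 (flp_c L204231) (flp_d L204207) (flp_c L207333) L207335 (flp_a L207317) L207319 (flp_d L179355) L210073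
theorem L210087 : sm gc N22954 = N27119 := rfl
theorem L210089 : sm ge N27119 = N22956 := ded_19_2 (flp_c L179373) (flp_e L179367) L210087
theorem L210091 : sm gb N27119 = N23347 := ded_13_1 (flp_c L182233) (flp_b L145340) (flp_c L130402) L179363 L210087
theorem L210093 : sm gc N22955 = N27120 := rfl
theorem L210095 : sm ga N27120 = N22956 := ded_8_1 (flp_c L179373) L179369 L210093
theorem L210097 : sm gb N24141 = N27120 := ded_7_0 L210095 L179375 (flp_a L182263) L187811 L156488 L108125 (flp_a L108269) (flp_b L156790) (flp_a L188253)
theorem L210099 : sm gd N27120 = N24140 := ded_14_2 (flp_b L188247) L188251 L210097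
theorem L210101 : sm gf N22955 = N27121 := rfl
theorem L210103 : sm ga N27121 = N22957 := ded_11_1 (flp_f L179377) L179369 L210101
theorem L210105 : sm gd N27121 = N22959 := ded_23_1 (flp_f L179393) (flp_d L179371) L210101
theorem L210107 : sm gg N27075 = N27121 := ded_29_1 (flp_f L210101) (flp_g L209731) (flp_a L209727) L209737
theorem L210109 : sm gd N22956 = N27122 := rfl
theorem L210111 : sm ga N27122 = N24140 := ded_9_1 (flp_d L210099) L210095 L210109
theorem L210113 : sm gb N27122 = N23353 := ded_14_1 (flp_d L182273) (flp_b L179375) L210109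
theorem L210115 : sm ge N24323 = N27122 := ded_10_0 L210111 L188249 (flp_a L189523)
theorem L210117 : sm gc N24153 = N27122 := ded_13_0 L210113 L187819 (flp_b L160654) (flp_c L156906) L188313
theorem L210119 : sm gf N22956 = N27123 := rfl
theorem L210121 : sm gc N27123 = N22957 := ded_20_1 (flp_f L179377) L179373 L210119
theorem L210123 : sm gg N22957 = N27124 := rfl
theorem L210125 : sm ga N27124 = N27075 := ded_12_1 L210107 L210103 L210123
theorem L210127 : sm gd N27124 = N22960 := ded_24_1 (flp_g L179403) (flp_d L179379) L210123
theorem L210129 : sm gf N27073 = N27124 := ded_29_0 (flp_g L210123) (flp_f L179377) (flp_g L179031) L209727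
theorem L210131 : sm gb N22959 = N27125 := rfl
theorem L210133 : sm ge N27125 = N23047 := ded_15_2 (flp_b L180117) (flp_e L179399) L210131
theorem L210135 : sm gf N27125 = N25060 := ded_16_2 (flp_b L194861) L179391 (flp_b L179383) L179393 L210131
theorem L210137 : sm gc N22961 = N27126 := rfl
theorem L210139 : sm ge N27126 = N22963 := ded_19_2 (flp_c L179423) (flp_e L179417) L210137
theorem L210141 : sm gb N27126 = N23406 := ded_13_1 (flp_c L182595) (flp_b L145562) (flp_c L130434) L179413 L210137
theorem L210143 : sm gc N22962 = N27127 := rfl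
theorem L210145 : sm ga N27127 = N22963 := ded_8_1 (flp_c L179423) L179419 L210143
theorem L210147 : sm gd N24153 = N27127 := ded_28_1 (flp_c L210143) L179421 L130448 (flp_d L179371) L210093 L210099 (flp_a L210111) (flp_c L210117)
theorem L210149 : sm gb N24154 = N27127 := ded_7_0 L210145 L179425 (flp_a L182625) L188157 L156741 L108244 (flp_a L108288) (flp_b L156912) (flp_a L188319)
theorem L210151 : sm gg N22962 = N27128 := rfl
theorem L210153 : sm ga N27128 = N22964 := ded_12_1 (flp_g L179427) L179419 L210151
theorem L210155 : sm gd N27128 = N22966 := ded_24_1 (flp_g L179443) (flp_d L179421) L210151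
theorem L210157 : sm gf N27128 = N27101 := ded_29_2 (flp_g L209939) L209929 L209933 L210151
theorem L210159 : sm gd N22963 = N27129 := rfl
theorem L210161 : sm ga N27129 = N24153 := ded_9_1 L210147 L210145 L210159
theorem L210163 : sm gb N27129 = N23412 := ded_14_1 (flp_d L182635) (flp_b L179425) L210159
theorem L210165 : sm gc N24140 = N27129 := ded_28_0 (flp_d L210159) (flp_c L179423) L130444 L102797 (flp_d L130410) L179373 L210109 L210111
theorem L210167 : sm ge N24377 = N27129 := ded_10_0 L210161 L188315 (flp_a L189947)
theorem L210169 : sm gg N22963 = N27130 := rfl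
theorem L210171 : sm gc N27130 = N22964 := ded_21_1 (flp_g L179427) L179423 L210169
theorem L210173 : sm gf N22964 = N27131 := rfl
theorem L210175 : sm ga N27131 = N27101 := ded_11_1 (flp_f L210157) L210153 L210173
theorem L210177 : sm gd N27131 = N22967 := ded_23_1 (flp_f L179453) (flp_d L179429) L210173
theorem L210179 : sm gg N27131 = N27099 := ded_29_3 (flp_a L209929) L179227 L179427 L210173
theorem L210181 : sm gb N22966 = N27132 := rfl
theorem L210183 : sm ge N27132 = N23051 := ded_15_2 (flp_b L180149) (flp_e L179449) L210181
theorem L210185 : sm gg N27132 = N25092 := ded_17_2 (flp_b L195147) L179441 (flp_b L179433) L179443 L210181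
theorem L210187 : sm gc N22968 = N27133 := rfl
theorem L210189 : sm ga N27133 = N22969 := ded_8_1 (flp_c L179467) L179463 L210187
theorem L210191 : sm gf N27133 = N27031 := ded_20_2 L209339 (flp_f L183231) L210187
theorem L210193 : sm gg N27133 = N23506 := ded_21_2 (flp_c L183201) (flp_g L179465) L210187
theorem L210195 : sm gb N22976 = N27134 := rfl
theorem L210197 : sm ga N27134 = N27134 := ded_7_1 (flp_b L210195) L179525 L179501 L178199 L129162 (flp_a L178199) (flp_b L179501) (flp_a L179525) L210195
theorem L210198 : sm gc N22977 = N27135 := rfl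
theorem L210200 : sm ga N27135 = N22978 := ded_8_1 (flp_c L179535) L179531 L210198
theorem L210202 : sm gf N27135 = N23519 := ded_20_2 (flp_c L183293) (flp_f L179533) L210198
theorem L210204 : sm gg N27135 = N27029 := ded_21_2 L209321 L183313 L210198
theorem L210206 : sm gb N22985 = N27136 := rfl
theorem L210208 : sm ga N27136 = N27136 := ded_7_1 (flp_b L210206) L179593 L179569 L178141 L129096 (flp_a L178141) (flp_b L179569) (flp_a L179593) L210206
theorem L210209 : sm gg N22988 = N27137 := rfl
theorem L210211 : sm ga N27137 = N26892 := ded_12_1 (flp_g L208098) (flp_a L179611) L210209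
theorem L210213 : sm gc N27137 = N26611 := ded_21_1 L205737 L194466 L210209
theorem L210215 : sm gd N27137 = N22989 := ded_24_1 (flp_g L179617) (flp_d L179613) L210209
theorem L210217 : sm ge N27137 = N24657 := ded_26_1 L191984 L191866 L210209
theorem L210219 : sm gf N24656 = N27137 := ded_29_0 (flp_g L210209) (flp_f L179609) (flp_g L179601) (flp_a L191970)
theorem L210221 : sm gb N22989 = N27138 := rfl
theorem L210223 : sm ge N27138 = N25004 := ded_15_2 (flp_b L194347) (flp_e L179623) L210221
theorem L210225 : sm gc N27138 = N25214 := ded_13_2 (flp_b L196213) (flp_c L176328) L176334 (flp_c L179621) L210221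
theorem L210227 : sm gg N27138 = N25214 := ded_17_2 (flp_b L196213) (flp_g L165130) L149531 L179617 L210221
theorem L210229 : sm ga N27138 = N27138 := ded_7_1 (flp_b L210221) L179619 (flp_b L177206) (flp_a L205268) L205270 L205268 L177206 (flp_a L179619) L210221
theorem L210230 : sm gf N22992 = N27139 := rfl
theorem L210232 : sm ga N27139 = N26915 := ded_11_1 (flp_f L208295) (flp_a L179639) L210230
theorem L210234 : sm gc N27139 = N26756 := ded_20_1 (flp_f L206978) L194659 L210230
theorem L210236 : sm gd N27139 = N22993 := ded_23_1 (flp_f L179645) (flp_d L179641) L210230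
theorem L210238 : sm ge N27139 = N24602 := ded_25_1 (flp_f L191603) L191485 L210230
theorem L210240 : sm gg N27139 = N24601 := ded_29_3 L191589 L179629 L179637 L210230
theorem L210242 : sm gb N22993 = N27140 := rfl
theorem L210244 : sm ge N27140 = N24985 := ded_15_2 (flp_b L194175) (flp_e L179651) L210242
theorem L210246 : sm gc N27140 = N25262 := ded_13_2 (flp_b L196638) (flp_c L176749) L176755 (flp_c L179649) L210242
theorem L210248 : sm gf N27140 = N25262 := ded_16_2 (flp_b L196638) (flp_f L165766) (flp_b L149664) L179645 L210242
theorem L210250 : sm ga N27140 = N27140 := ded_7_1 (flp_b L210242) L179647 (flp_b L177479) (flp_a L206589) L206591 L206589 L177479 (flp_a L179647) L210242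
theorem L210251 : sm gb N22995 = N27141 := rfl
theorem L210253 : sm ge N27141 = N22996 := ded_15_2 (flp_b L179675) (flp_e L179671) L210251
theorem L210255 : sm gc N27141 = N26076 := ded_13_2 L201838 L192607 (flp_b L187549) (flp_c L179669) L210251
theorem L210257 : sm gg N27141 = N26075 := ded_17_2 L201832 L169839 L159429 L179665 L210251
theorem L210259 : sm ga N27141 = N24741 := ded_30_3 (flp_f L192507) (flp_c L184684) (flp_b L184680) L153197 (flp_f L184061) (flp_c L184057) (flp_b L152456) (flp_a L152414) (flp_f L152412) L105270 L89795 (flp_a L89973) (flp_f L103451) (flp_c L106236) L153910 (flp_a L153914) L156318 (flp_c L179669) L210251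
theorem L210261 : sm gf N24740 = N27141 := ded_25_0 L210253 (flp_f L179685) (flp_e L192505)
theorem L210263 : sm ge N22997 = N27142 := rfl
theorem L210265 : sm ga N27142 = N23239 := ded_10_1 L181459 (flp_a L179689) L210263
theorem L210267 : sm gb N27142 = N23151 := ded_15_1 L180875 (flp_b L179691) L210263
theorem L210269 : sm gf N27142 = N23148 := ded_25_2 L180853 (flp_f L179693) L210263
theorem L210271 : sm gg N27142 = N23236 := ded_26_2 L181441 (flp_g L179695) L210263
theorem L210273 : sm ga N22998 = N27143 := rfl
theorem L210275 : sm gc N27143 = N26145 := ded_8_2 L202336 L198400 L210273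
theorem L210277 : sm ge N27143 = N22999 := ded_10_2 (flp_a L179703) (flp_e L179699) L210273
theorem L210279 : sm gf N27143 = N24580 := ded_11_2 (flp_a L201954) L201958 L210273
theorem L210281 : sm gg N27143 = N23046 := ded_12_2 (flp_a L180111) (flp_g L179701) L210273
theorem L210283 : sm gg N23001 = N27144 := rfl
theorem L210285 : sm ga N27144 = N26611 := ded_12_1 L205737 L194470 L210283
theorem L210287 : sm gc N27144 = N26892 := ded_21_1 (flp_g L208098) (flp_c L179717) L210283
theorem L210289 : sm gd N27144 = N26610 := ded_24_1 L205729 L179829 L210283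
theorem L210291 : sm gf N26609 = N27144 := ded_29_0 (flp_g L210283) L179719 (flp_g L173120) (flp_a L205715)
theorem L210293 : sm gc N23004 = N27145 := rfl
theorem L210295 : sm ga N27145 = N23005 := ded_8_1 (flp_c L179753) L179743 L210293
theorem L210297 : sm gf N27145 = N23006 := ded_20_2 (flp_c L179761) (flp_f L179747) L210293
theorem L210299 : sm gg N27145 = N24193 := ded_21_2 (flp_c L188563) (flp_g L179749) L210293
theorem L210301 : sm gb N27145 = N24282 := ded_13_1 L189187 (flp_b L162554) (flp_c L162538) (flp_b L179751) L210293
theorem L210303 : sm gd N27145 = N24283 := ded_28_7 L189199 (flp_c L177043) (flp_d L157205) (flp_c L108617) (flp_d L108509) L157047 (flp_d L179745) L210293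
theorem L210305 : sm gb N23006 = N27146 := rfl
theorem L210307 : sm gg N23006 = N27147 := rfl
theorem L210309 : sm ga N27147 = N23008 := ded_12_1 (flp_g L179775) (flp_a L179763) L210307
theorem L210311 : sm gc N27147 = N23007 := ded_21_1 (flp_g L179765) L179761 L210307
theorem L210313 : sm gd N27147 = N24218 := ded_24_1 L188853 L188851 L210307
theorem L210315 : sm gf N24216 = N27147 := ded_29_0 (flp_g L210307) (flp_f L210297) L210299 (flp_a L188721)
theorem L210317 : sm gb N26520 = N27147 := ded_7_0 L210309 (flp_b L194823) L194821 (flp_b L195510) L195502 L164089 (flp_a L177152) (flp_b L208515) L208513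
theorem L210319 : sm gd N23013 = N27148 := rfl
theorem L210321 : sm ga N27148 = N26249 := ded_9_1 (flp_d L203097) (flp_a L179815) L210319
theorem L210323 : sm gb N27148 = N24904 := ded_14_1 L193541 (flp_b L179817) L210319
theorem L210325 : sm gg N27148 = N24911 := ded_24_2 L193601 (flp_g L179821) L210319
theorem L210327 : sm ge N27148 = N24654 := ded_22_2 (flp_d L191952) L163556 (flp_d L151238) L179813 L210319
theorem L210329 : sm gf N23013 = N27149 := rfl
theorem L210331 : sm ga N27149 = N24745 := ded_11_1 L192539 (flp_a L179815) L210329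
theorem L210333 : sm gc N27149 = N23015 := ded_20_1 (flp_f L179833) (flp_c L179819) L210329
theorem L210335 : sm ge N27149 = N23014 := ded_25_1 (flp_f L179823) L179813 L210329
theorem L210337 : sm gb N27149 = N26093 := ded_16_1 L201958 (flp_b L179697) (flp_f L160952) (flp_b L179817) L210329
theorem L210339 : sm gb N23020 = N27150 := rfl
theorem L210341 : sm ge N27150 = N23021 := ded_15_2 (flp_b L179893) (flp_e L179889) L210339
theorem L210343 : sm gc N27150 = N25826 := ded_13_2 L200093 L192297 L187615 (flp_c L179887) L210339
theorem L210345 : sm gf N27150 = N25825 := ded_16_2 L200087 L168804 L159629 L179883 L210339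
theorem L210347 : sm ga N24790 = N27150 := ded_10_3 L210341 (flp_a L179901) (flp_e L192831)
theorem L210349 : sm gg N24789 = N27150 := ded_26_0 L210341 (flp_g L179903) (flp_e L192827)
theorem L210351 : sm ge N23022 = N27151 := rfl
theorem L210353 : sm ga N27151 = N23312 := ded_10_1 L181959 (flp_a L179907) L210351
theorem L210355 : sm gb N27151 = N23136 := ded_15_1 L180765 (flp_b L179909) L210351
theorem L210357 : sm gf N27151 = N23310 := ded_25_2 L181949 (flp_f L179911) L210351
theorem L210359 : sm gg N27151 = N23133 := ded_26_2 L180745 (flp_g L179913) L210351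
theorem L210361 : sm ga N23023 = N27152 := rfl
theorem L210363 : sm gc N27152 = N25910 := ded_8_2 L200695 L198043 L210361
theorem L210365 : sm ge N27152 = N23024 := ded_10_2 (flp_a L179921) (flp_e L179917) L210361
theorem L210367 : sm gf N27152 = N23050 := ded_11_2 (flp_a L180143) (flp_f L179919) L210361
theorem L210369 : sm gg N27152 = N24635 := ded_12_2 (flp_a L200245) L200249 L210361
theorem L210371 : sm gf N23026 = N27153 := rfl
theorem L210373 : sm ga N27153 = N26756 := ded_11_1 (flp_f L206978) L194663 L210371
theorem L210375 : sm gc N27153 = N26915 := ded_20_1 (flp_f L208295) (flp_c L179935) L210371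
theorem L210377 : sm gd N27153 = N26660 := ded_23_1 (flp_f L206124) L180047 L210371
theorem L210379 : sm gg N27153 = N26659 := ded_29_3 L206112 L174633 (flp_g L179937) L210371
theorem L210381 : sm gc N23029 = N27154 := rfl
theorem L210383 : sm ga N27154 = N23030 := ded_8_1 (flp_c L179971) L179961 L210381
theorem L210385 : sm gf N27154 = N24196 := ded_20_2 (flp_c L188585) (flp_f L179965) L210381
theorem L210387 : sm gg N27154 = N23031 := ded_21_2 (flp_c L179979) (flp_g L179967) L210381
theorem L210389 : sm gb N27154 = N24263 := ded_13_1 L189065 (flp_b L162236) (flp_c L162220) (flp_b L179969) L210381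
theorem L210391 : sm gd N27154 = N24264 := ded_28_7 L189077 L177378 (flp_d L157315) (flp_c L108689) (flp_d L108545) L157113 (flp_d L179963) L210381
theorem L210393 : sm gb N23031 = N27155 := rfl
theorem L210395 : sm gf N23031 = N27156 := rfl
theorem L210397 : sm ga N27156 = N23033 := ded_11_1 (flp_f L179993) (flp_a L179981) L210395
theorem L210399 : sm gc N27156 = N23032 := ded_20_1 (flp_f L179983) L179979 L210395
theorem L210401 : sm gd N27156 = N24238 := ded_23_1 (flp_f L188885) L188707 L210395
theorem L210403 : sm gg N27156 = N24237 := ded_29_3 L188871 (flp_f L210385) L210387 L210395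
theorem L210405 : sm gb N26549 = N27156 := ded_7_0 L210397 (flp_b L195143) L195141 (flp_b L195454) L195452 L164492 (flp_a L177427) (flp_b L208688) L208686
theorem L210407 : sm gd N23038 = N27157 := rfl
theorem L210409 : sm ga N27157 = N26018 := ded_9_1 (flp_d L201460) (flp_a L180033) L210407
theorem L210411 : sm gb N27157 = N24933 := ded_14_1 L193753 (flp_b L180035) L210407
theorem L210413 : sm gf N27157 = N24939 := ded_23_2 L193803 (flp_f L180039) L210407
theorem L210415 : sm ge N27157 = N24599 := ded_22_2 (flp_d L191571) (flp_e L163429) L149305 L180031 L210407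
theorem L210417 : sm gg N23038 = N27158 := rfl
theorem L210419 : sm ga N27158 = N24794 := ded_12_1 L192861 (flp_a L180033) L210417
theorem L210421 : sm gc N27158 = N23040 := ded_21_1 (flp_g L180051) (flp_c L180037) L210417
theorem L210423 : sm ge N27158 = N23039 := ded_26_1 (flp_g L180041) L180031 L210417
theorem L210425 : sm gb N27158 = N25849 := ded_17_1 L200249 (flp_b L179915) L161066 (flp_b L180035) L210417
theorem L210427 : sm gg N23047 = N27159 := rfl
theorem L210429 : sm ga N27159 = N23544 := ded_12_1 L194875 L194867 L210427
theorem L210431 : sm gc N27159 = N26558 := ded_21_1 L205246 (flp_c L189495) L210427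
theorem L210433 : sm gd N27159 = N25063 := ded_24_1 (flp_g L194887) (flp_d L180119) L210427
theorem L210435 : sm gf N26558 = N27159 := ded_29_0 (flp_g L210427) L180121 L194877 (flp_a L205248)
theorem L210437 : sm gb N27159 = N27144 := ded_17_1 (flp_g L210283) (flp_b L179715) L143753 L180117 L210427
theorem L210439 : sm gf N23051 = N27160 := rfl
theorem L210441 : sm ga N27160 = N23603 := ded_11_1 (flp_f L195161) L195153 L210439
theorem L210443 : sm gc N27160 = N26714 := ded_20_1 L206565 (flp_c L189919) L210439
theorem L210445 : sm gd N27160 = N25096 := ded_23_1 (flp_f L195183) (flp_d L180151) L210439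
theorem L210447 : sm gg N27160 = N26714 := ded_29_3 L206567 (flp_f L195163) (flp_g L180153) L210439
theorem L210449 : sm gb N27160 = N27153 := ded_16_1 (flp_f L210371) (flp_b L179933) (flp_f L143863) L180149 L210439
theorem L210451 : sm gc N23058 = N27161 := rfl
theorem L210453 : sm ga N27161 = N23059 := ded_8_1 (flp_c L180223) L180215 L210451
theorem L210455 : sm gf N27161 = N23077 := ded_20_2 (flp_c L180369) (flp_f L180219) L210451
theorem L210457 : sm gb N27161 = N24804 := ded_13_1 (flp_c L192945) (flp_b L160992) (flp_c L169011) (flp_b L180221) L210451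
theorem L210459 : sm gd N24803 = N27161 := ded_28_1 (flp_c L210451) L180217 (flp_c L144149) (flp_d L129388) (flp_c L161266) (flp_d L191259) L191255 (flp_c L192939)
theorem L210461 : sm gd N23059 = N27162 := rfl
theorem L210463 : sm ga N27162 = N24803 := ded_9_1 L210459 L210453 L210461
theorem L210465 : sm gb N27162 = N25337 := ded_14_1 (flp_d L197147) (flp_b L180227) L210461
theorem L210467 : sm gf N27162 = N23079 := ded_23_2 (flp_d L180381) (flp_f L180225) L210461
theorem L210469 : sm gc N24553 = N27162 := ded_28_0 (flp_d L210461) (flp_c L180223) L144115 L144155 (flp_d L158575) L158573 L178977 (flp_a L191255)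
theorem L210471 : sm ge N27162 = N24552 := ded_19_2 (flp_c L191251) L191253 L210469
theorem L210473 : sm gg N23059 = N27163 := rfl
theorem L210475 : sm gc N27163 = N23060 := ded_21_1 (flp_g L180229) L180223 L210473
theorem L210477 : sm gb N23060 = N27164 := rfl
theorem L210479 : sm gd N27164 = N23067 := ded_14_2 (flp_b L180269) (flp_d L180231) L210477
theorem L210481 : sm gg N27164 = N23061 := ded_17_2 (flp_b L180233) (flp_g L144119) L144113 L180229 L210477
theorem L210483 : sm gf N25158 = N27164 := ded_31_1 (flp_b L210477) (flp_g L180229) L144117 (flp_b L103790) (flp_g L89094) (flp_f L89088) L89082 L89086 L89156 L104045 L144679 (flp_f L144709) L181109 (flp_g L195749)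
theorem L210485 : sm ga N23061 = N27165 := rfl
theorem L210487 : sm gd N27165 = N23068 := ded_9_2 (flp_a L180279) (flp_d L180235) L210485
theorem L210489 : sm gf N27165 = N23186 := ded_29_0 (flp_g L195749) L210483 L210481 L210485
theorem L210491 : sm gc N23061 = N27166 := rfl
theorem L210493 : sm gb N27166 = N25339 := ded_13_1 (flp_c L197156) (flp_b L166548) (flp_c L144121) L180233 L210491
theorem L210495 : sm gf N23061 = N27167 := rfl
theorem L210497 : sm ga N27167 = N23186 := ded_11_1 (flp_f L210489) (flp_a L210485) L210495
theorem L210499 : sm gd N27167 = N23070 := ded_23_1 (flp_f L180299) (flp_d L180235) L210495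
theorem L210501 : sm gg N27167 = N27071 := ded_29_3 L209717 L210483 L210481 L210495
theorem L210503 : sm gb N27167 = N25725 := ded_16_1 (flp_f L199433) (flp_b L168373) L144125 L180233 L210495
theorem L210505 : sm gc N23062 = N27168 := rfl
theorem L210507 : sm ga N27168 = N23063 := ded_8_1 (flp_c L180245) L180237 L210505
theorem L210509 : sm gg N27168 = N23083 := ded_21_2 (flp_c L180401) (flp_g L180241) L210505
theorem L210511 : sm gb N27168 = N24856 := ded_13_1 (flp_c L193259) (flp_b L161106) (flp_c L170016) (flp_b L180243) L210505
theorem L210513 : sm gd N24855 = N27168 := ded_28_1 (flp_c L210505) L180239 (flp_c L149539) L149537 (flp_c L161517) (flp_d L191642) L191638 (flp_c L193253)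
theorem L210515 : sm gd N23063 = N27169 := rfl
theorem L210517 : sm ga N27169 = N24855 := ded_9_1 L210513 L210507 L210515
theorem L210519 : sm gb N27169 = N25340 := ded_14_1 (flp_d L197159) (flp_b L180249) L210515
theorem L210521 : sm gg N27169 = N23085 := ded_24_2 (flp_d L180413) (flp_g L180247) L210515
theorem L210523 : sm gc N24608 = N27169 := ded_28_0 (flp_d L210515) (flp_c L180245) L144129 L144177 (flp_d L158710) L158708 L179173 (flp_a L191638)
theorem L210525 : sm ge N27169 = N24607 := ded_19_2 (flp_c L191634) L191636 L210523
theorem L210527 : sm gf N23063 = N27170 := rfl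
theorem L210529 : sm gc N27170 = N23064 := ded_20_1 (flp_f L180251) L180245 L210527
theorem L210531 : sm gb N23064 = N27171 := rfl
theorem L210533 : sm gd N27171 = N23072 := ded_14_2 (flp_b L180321) (flp_d L180253) L210531
theorem L210535 : sm gf N27171 = N23065 := ded_16_2 (flp_b L180255) (flp_f L144133) L144127 L180251 L210531
theorem L210537 : sm gg N27171 = N25127 := ded_31_3 L195470 (flp_b L181001) (flp_g L144623) (flp_f L144601) (flp_b L103995) (flp_g L89142) (flp_f L89074) (flp_b L89070) L89076 (flp_f L89080) L103794 (flp_g L144131) L180251 L210531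
theorem L210539 : sm ga N23065 = N27172 := rfl
theorem L210541 : sm gd N27172 = N23073 := ded_9_2 (flp_a L180331) (flp_d L180257) L210539
theorem L210543 : sm gg N23170 = N27172 := ded_29_3 (flp_a L210539) (flp_f L210535) L210537 L195470
theorem L210545 : sm gc N23065 = N27173 := rfl
theorem L210547 : sm gb N27173 = N25342 := ded_13_1 (flp_c L197168) (flp_b L166555) (flp_c L144137) L180255 L210545
theorem L210549 : sm gg N23065 = N27174 := rfl
theorem L210551 : sm ga N27174 = N23170 := ded_12_1 L210543 (flp_a L210539) L210549
theorem L210553 : sm gd N27174 = N23075 := ded_24_1 (flp_g L180353) (flp_d L180257) L210549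
theorem L210555 : sm gf N27097 = N27174 := ded_29_0 (flp_g L210549) (flp_f L210535) L210537 (flp_a L209919)
theorem L210557 : sm gb N27174 = N25620 := ded_17_1 (flp_g L198881) (flp_b L167949) (flp_g L144141) L180255 L210549
theorem L210559 : sm ga N23076 = N27175 := rfl
theorem L210561 : sm gd N27175 = N23088 := ded_9_2 (flp_a L180429) (flp_d L180367) L210559
theorem L210563 : sm gb N27175 = N23102 := ded_7_2 (flp_a L180561) (flp_b L144333) (flp_a L103830) (flp_b L89070) (flp_a L89032) L103790 L144191 L180365 L210559
theorem L210565 : sm gf N27175 = N26971 := ded_30_4 L208851 (flp_b L180365) (flp_a L144191) (flp_f L144117) L180223 L180227 (flp_a L166996) L166998 (flp_c L166638) L115500 (flp_a L115498) (flp_f L115472) L166544 (flp_b L180227) (flp_a L210453) L210455 (flp_c L180369) L180365 L210559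
theorem L210567 : sm gg N25454 = N27175 := ded_24_0 L210561 (flp_g L180439) (flp_d L197885)
theorem L210569 : sm gf N23076 = N27176 := rfl
theorem L210571 : sm ga N27176 = N26971 := ded_11_1 (flp_f L210565) (flp_a L210559) L210569
theorem L210573 : sm gc N27176 = N27175 := ded_20_1 L210565 L208851 L210569
theorem L210575 : sm gd N27176 = N23090 := ded_23_1 (flp_f L180447) (flp_d L180367) L210569
theorem L210577 : sm ge N27176 = N27175 := ded_25_1 L210565 L208841 L210569
theorem L210579 : sm gb N27176 = N25882 := ded_16_1 (flp_f L200449) (flp_b L180221) L180219 L180365 L210569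
theorem L210581 : sm gg N23076 = N27177 := rfl
theorem L210583 : sm ga N27177 = N25454 := ded_12_1 L210567 (flp_a L210559) L210581
theorem L210585 : sm gd N27177 = N23091 := ded_24_1 (flp_g L180455) (flp_d L180367) L210581
theorem L210587 : sm gd N23077 = N27178 := rfl
theorem L210589 : sm ga N27178 = N23079 := ded_9_1 (flp_d L180381) (flp_a L180371) L210587
theorem L210591 : sm gf N27178 = N24803 := ded_23_2 L210459 L210455 L210587
theorem L210593 : sm gc N27178 = N24419 := ded_28_6 (flp_d L190267) (flp_a L190251) L190255 L158541 (flp_c L144219) (flp_d L144193) L180369 L210587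
theorem L210595 : sm gg N23077 = N27179 := rfl
theorem L210597 : sm ga N27179 = N23080 := ded_12_1 (flp_g L180385) (flp_a L180371) L210595
theorem L210599 : sm gc N27179 = N23078 := ded_21_1 (flp_g L180373) L180369 L210595
theorem L210601 : sm gf N27179 = N27163 := ded_29_2 (flp_g L210473) (flp_a L210453) L210455 L210595
theorem L210603 : sm gb N23078 = N27180 := rfl
theorem L210605 : sm gd N27180 = N23093 := ded_14_2 (flp_b L180473) (flp_d L180377) L210603
theorem L210607 : sm gf N27180 = N23185 := ded_16_2 (flp_b L195747) L210483 (flp_b L210477) (flp_f L180379) L210603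
theorem L210609 : sm gc N25682 = N27180 := ded_20_3 L210607 L181103 L199203
theorem L210611 : sm gc N23079 = N27181 := rfl
theorem L210613 : sm ga N27181 = N24419 := ded_8_1 (flp_c L210593) L210589 L210611
theorem L210615 : sm gf N27181 = N24553 := ded_20_2 L210469 L210467 L210611
theorem L210617 : sm gd N27181 = N24417 := ded_28_7 L190251 L158561 (flp_d L119763) (flp_c L103802) (flp_d L103792) L144195 L180381 L210611
theorem L210619 : sm ge N24554 = N27181 := ded_10_0 L210613 (flp_e L193593) (flp_a L193597)
theorem L210621 : sm ge N23079 = N27182 := rfl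
theorem L210623 : sm gb N27182 = N25304 := ded_15_1 (flp_e L196959) (flp_b L180383) L210621
theorem L210625 : sm gc N27182 = N24554 := ded_19_1 L210619 (flp_c L210611) L210621
theorem L210627 : sm gf N27182 = N24552 := ded_25_2 (flp_e L210471) L210467 L210621
theorem L210629 : sm gg N23079 = N27183 := rfl
theorem L210631 : sm gd N27183 = N23080 := ded_24_1 (flp_g L180385) L180381 L210629
theorem L210633 : sm gb N23080 = N27184 := rfl
theorem L210635 : sm gg N27184 = N25306 := ded_17_2 (flp_b L196971) (flp_g L166316) (flp_b L144197) L180385 L210633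
theorem L210637 : sm gf N23080 = N27185 := rfl
theorem L210639 : sm ga N27185 = N27163 := ded_11_1 (flp_f L210601) L210597 L210637
theorem L210641 : sm gc N27185 = N23081 := ded_20_1 (flp_f L180389) (flp_c L180387) L210637
theorem L210643 : sm gg N27185 = N27161 := ded_29_3 L210453 L180225 L180385 L210637
theorem L210645 : sm ga N23082 = N27186 := rfl
theorem L210647 : sm gd N27186 = N23094 := ded_9_2 (flp_a L180481) (flp_d L180399) L210645
theorem L210649 : sm gb N27186 = N23114 := ded_7_2 (flp_a L180629) (flp_b L144355) (flp_a L103863) (flp_b L89082) (flp_a L89040) L103794 L144203 L180397 L210645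
theorem L210651 : sm gf N25420 = N27186 := ded_23_0 L210647 (flp_f L180489) (flp_d L197705)
theorem L210653 : sm gg N26977 = N27186 := ded_24_0 L210647 (flp_g L180491) (flp_d L208889)
theorem L210655 : sm gc N23082 = N27187 := rfl
theorem L210657 : sm gf N23082 = N27188 := rfl
theorem L210659 : sm ga N27188 = N25420 := ded_11_1 L210651 (flp_a L210645) L210657
theorem L210661 : sm gd N27188 = N23096 := ded_23_1 (flp_f L180499) (flp_d L180399) L210657
theorem L210663 : sm gg N23082 = N27189 := rfl
theorem L210665 : sm ga N27189 = N26977 := ded_12_1 L210653 (flp_a L210645) L210663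
theorem L210667 : sm gd N27189 = N23097 := ded_24_1 (flp_g L180505) (flp_d L180399) L210663
theorem L210669 : sm ge N27189 = N27186 := ded_26_1 (flp_g L210653) L208891 L210663
theorem L210671 : sm gb N27189 = N26122 := ded_17_1 (flp_g L202134) (flp_b L180243) L180241 L180397 L210663
theorem L210673 : sm gc N27186 = N27189 := ded_32_2 L210667 (flp_c L206538) L206536 (flp_d L197033) (flp_c L197027) (flp_d L166362) (flp_c L115327) (flp_b L95316) L84312 (flp_c L84300) (flp_d L95272) L95270 L102545 L102547 L102587 L130008 (flp_c L150898) L145536 L104462 (flp_c L90255) L106226 (flp_c L143811) L143809 (flp_e L103476) L88920 (flp_c L88914) (flp_d L37470) (flp_c L17934) L81757 (flp_d L17868) L37305 L88796 L88940 L147842 (flp_d L148090) L88932 L92231 L109790 L109792 (flp_d L149347) L98858 (flp_d L149364) (flp_c L98812) L98808 L98810 L98842 L123782 (flp_c L153888) (flp_b L153882) L149259 L120477 (flp_c L112135) L148017 (flp_c L103056) L103054 (flp_d L148492) L149562 (flp_d L149582) L149584 (flp_b L152292) L152290 L150922 (flp_d L98307) L85674 L26875 (flp_d L25310) (flp_c L84985) L84990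 L82687 L85894 (flp_d L96703) (flp_c L117757) L148942 (flp_c L149709) (flp_b L146144) (flp_e L180483) (flp_d L210647)
theorem L210675 : N26977 = N27187 := coi_8_2 (flp_c L210655) L210645 L210673 L210665
theorem L210676 : N27187 = N26977 := (eqc rfl L210675 rfl).symm
theorem L210677 : sm gc N26977 = N23082 := trfs L210676 (flp_c L210655) rfl
theorem L210679 : sm gb N23083 = N26978 := ded_13_3 (flp_c L208893) L208887 L210677 (flp_b L180397) L180401
theorem L210681 : sm ga N24499 = N25313 := ded_7_5 (flp_b L197013) L166356 (flp_b L144209) (flp_a L180403) L210679 L208895 L177699 (flp_a L159085) L190867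
theorem L210683 : sm gd N23083 = N27190 := rfl
theorem L210685 : sm ga N27190 = N23085 := ded_9_1 (flp_d L180413) (flp_a L180403) L210683
theorem L210687 : sm gg N27190 = N24855 := ded_24_2 L210513 L210509 L210683
theorem L210689 : sm gc N27190 = N24440 := ded_28_6 (flp_d L190433) (flp_a L190417) L190421 L158668 (flp_c L144253) (flp_d L144205) L180401 L210683
theorem L210691 : sm gf N23083 = N27191 := rfl
theorem L210693 : sm ga N27191 = N23086 := ded_11_1 (flp_f L180417) (flp_a L180403) L210691
theorem L210695 : sm gc N27191 = N23084 := ded_20_1 (flp_f L180405) L180401 L210691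
theorem L210697 : sm gg N27170 = N27191 := ded_29_1 (flp_f L210691) (flp_g L210509) L210507 L210527
theorem L210699 : sm gb N23084 = N27192 := rfl
theorem L210701 : sm gd N27192 = N23099 := ded_14_2 (flp_b L180525) (flp_d L180409) L210699
theorem L210703 : sm gg N27192 = N23168 := ded_17_2 (flp_b L195468) (flp_g L210537) (flp_b L210531) L180411 L210699
theorem L210705 : sm gc N25784 = N27192 := ded_21_3 L210703 L180991 L199811
theorem L210707 : sm gc N23085 = N27193 := rfl
theorem L210709 : sm ga N27193 = N24440 := ded_8_1 (flp_c L210689) L210685 L210707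
theorem L210711 : sm gg N27193 = N24608 := ded_21_2 L210523 L210521 L210707
theorem L210713 : sm gd N27193 = N24438 := ded_28_7 L190417 L158688 L148884 (flp_c L103814) (flp_d L103796) L144207 L180413 L210707
theorem L210715 : sm ge N24610 = N27193 := ded_10_0 L210709 (flp_e L193809) (flp_a L193813)
theorem L210717 : sm ge N23085 = N27194 := rfl
theorem L210719 : sm gb N27194 = N25316 := ded_15_1 (flp_e L197037) (flp_b L180415) L210717
theorem L210721 : sm gc N27194 = N24610 := ded_19_1 L210715 (flp_c L210707) L210717
theorem L210723 : sm gg N27194 = N24607 := ded_26_2 (flp_e L210525) L210521 L210717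
theorem L210725 : sm gf N23085 = N27195 := rfl
theorem L210727 : sm gd N27195 = N23086 := ded_23_1 (flp_f L180417) L180413 L210725
theorem L210729 : sm gb N23086 = N27196 := rfl
theorem L210731 : sm gf N27196 = N25318 := ded_16_2 (flp_b L197049) (flp_f L166366) (flp_b L144209) L180417 L210729
theorem L210733 : sm gg N23086 = N27197 := rfl
theorem L210735 : sm ga N27197 = N27170 := ded_12_1 L210697 L210693 L210733
theorem L210737 : sm gc N27197 = N23087 := ded_21_1 (flp_g L180421) (flp_c L180419) L210733
theorem L210739 : sm gf N27168 = N27197 := ded_29_0 (flp_g L210733) (flp_f L180417) (flp_g L180247) (flp_a L210507)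
theorem L210741 : sm gd N23089 = N27198 := rfl
theorem L210743 : sm ga N27198 = N25291 := ded_9_1 L196877 (flp_a L180443) L210741
theorem L210745 : sm gb N27198 = N27181 := ded_14_1 L210617 L190253 L210741
theorem L210747 : sm ge N27198 = N25290 := ded_22_2 (flp_d L196867) L166138 L146108 (flp_e L180445) L210741
theorem L210749 : sm gg N23089 = N27199 := rfl
theorem L210751 : sm ga N27199 = N26127 := ded_12_1 L202184 (flp_a L180443) L210749
theorem L210753 : sm gc N27199 = N23091 := ded_21_1 (flp_g L180455) L180441 L210749
theorem L210755 : sm ge N27199 = N23500 := ded_26_1 (flp_g L183167) (flp_e L180445) L210749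
theorem L210757 : sm gd N23095 = N27200 := rfl
theorem L210759 : sm ga N27200 = N25295 := ded_9_1 L196903 (flp_a L180495) L210757
theorem L210761 : sm gb N27200 = N27193 := ded_14_1 L210713 L190419 L210757
theorem L210763 : sm ge N27200 = N25294 := ded_22_2 (flp_d L196893) L166154 L151282 (flp_e L180497) L210757
theorem L210765 : sm gf N23095 = N27201 := rfl
theorem L210767 : sm ga N27201 = N25892 := ded_11_1 L200543 (flp_a L180495) L210765
theorem L210769 : sm gc N27201 = N23096 := ded_20_1 (flp_f L180499) L180493 L210765
theorem L210771 : sm ge N27201 = N23501 := ded_25_1 (flp_f L183175) (flp_e L180497) L210765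
theorem L210773 : sm gc N23102 = N27202 := rfl
theorem L210775 : sm ga N27202 = N23103 := ded_8_1 (flp_c L180567) L180561 L210773
theorem L210777 : sm ge N27202 = N24915 := ded_19_2 (flp_c L200453) L200457 L210773
theorem L210779 : sm gf N27202 = N24914 := ded_20_2 L193623 L180701 L210773
theorem L210781 : sm gg N27202 = N26126 := ded_21_2 (flp_c L202176) L180565 L210773
theorem L210783 : sm gb N27202 = N24915 := ded_13_1 (flp_c L200453) (flp_b L210579) L210573 L210563 L210773
theorem L210785 : sm gd N27202 = N24920 := ded_28_7 L193661 L187057 L191361 (flp_c L191367) L169039 L144391 (flp_d L180563) L210773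
theorem L210787 : sm gg N23103 = N27203 := rfl
theorem L210789 : sm ga N27203 = N26126 := ded_12_1 (flp_g L210781) L210775 L210787
theorem L210791 : sm gc N27203 = N23104 := ded_21_1 (flp_g L180571) L180567 L210787
theorem L210793 : sm gf N23104 = N27204 := rfl
theorem L210795 : sm ga N27204 = N25886 := ded_11_1 (flp_f L200493) (flp_a L180573) L210793
theorem L210797 : sm gd N27204 = N23127 := ded_23_1 (flp_f L180713) (flp_d L180575) L210793
theorem L210799 : sm ge N27204 = N25883 := ded_25_1 L200503 L200501 L210793
theorem L210801 : sm gg N27204 = N23126 := ded_29_3 L180699 (flp_f L169041) L180571 L210793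
theorem L210803 : sm gb N23105 = N27205 := rfl
theorem L210805 : sm gd N27205 = N23133 := ded_14_2 (flp_b L180743) (flp_d L180579) L210803
theorem L210807 : sm gf N23106 = N27206 := rfl
theorem L210809 : sm gc N27206 = N23107 := ded_20_1 (flp_f L180587) L180583 L210807
theorem L210811 : sm gc N23108 = N27207 := rfl
theorem L210813 : sm gg N23108 = N27208 := rfl
theorem L210815 : sm ga N27208 = N25544 := ded_12_1 L198950 L198946 L210813
theorem L210817 : sm gd N27208 = N23136 := ded_24_1 (flp_g L180761) (flp_d L180593) L210813
theorem L210819 : sm gf N25622 = N27208 := ded_29_0 (flp_g L210813) L198938 L198936 L198907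
theorem L210821 : sm gb N23109 = N27209 := rfl
theorem L210823 : sm gd N27209 = N24700 := ded_14_2 L192265 L180599 L210821
theorem L210825 : sm gf N23109 = N27210 := rfl
theorem L210827 : sm ga N27210 = N23112 := ded_11_1 (flp_f L180617) (flp_a L180597) L210825
theorem L210829 : sm gc N27210 = N23110 := ded_20_1 (flp_f L180601) L180595 L210825
theorem L210831 : sm gd N27210 = N24701 := ded_23_1 (flp_f L192267) L180599 L210825
theorem L210833 : sm gg N27206 = N27210 := ded_29_1 (flp_f L210825) (flp_g L199333) L199331 L210807
theorem L210835 : sm gb N23112 = N27211 := rfl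
theorem L210837 : sm gc N27211 = N27196 := ded_13_2 (flp_b L210729) L180419 (flp_b L144353) (flp_c L180619) L210835
theorem L210839 : sm gg N23112 = N27212 := rfl
theorem L210841 : sm ga N27212 = N27206 := ded_12_1 L210833 L210827 L210839
theorem L210843 : sm gc N27212 = N23113 := ded_21_1 (flp_g L180621) (flp_c L180619) L210839
theorem L210845 : sm gd N27212 = N25707 := ded_24_1 L199341 (flp_d L198037) L210839
theorem L210847 : sm gf N25706 = N27212 := ded_29_0 (flp_g L210839) (flp_f L180617) (flp_g L180585) (flp_a L199331)
theorem L210849 : sm gb N23113 = N27213 := rfl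
theorem L210851 : sm gd N27213 = N23140 := ded_14_2 (flp_b L180795) (flp_d L180625) L210849
theorem L210853 : sm gg N27213 = N27016 := ded_17_2 (flp_b L209223) (flp_g L180421) (flp_b L144353) L180621 L210849
theorem L210855 : sm ga N27213 = N27018 := ded_7_1 L209239 (flp_a L200517) L200525 L170104 L199472 L199480 L180945 (flp_a L180623) L210849
theorem L210857 : sm gc N23114 = N27214 := rfl
theorem L210859 : sm ga N27214 = N23115 := ded_8_1 (flp_c L180635) L180629 L210857
theorem L210861 : sm ge N27214 = N24945 := ded_19_2 (flp_c L202138) L202142 L210857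
theorem L210863 : sm gf N27214 = N25891 := ded_20_2 (flp_c L200535) L180633 L210857
theorem L210865 : sm gg N27214 = N24943 := ded_21_2 L193835 L180809 L210857
theorem L210867 : sm gb N27214 = N24945 := ded_13_1 (flp_c L202138) (flp_b L210671) (flp_c L210673) L210649 L210857
theorem L210869 : sm gd N27214 = N24951 := ded_28_7 (flp_a L193889) L187241 L191742 (flp_c L191748) L170044 L150805 (flp_d L180631) L210857
theorem L210871 : sm gf N23115 = N27215 := rfl
theorem L210873 : sm ga N27215 = N25891 := ded_11_1 (flp_f L210863) L210859 L210871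
theorem L210875 : sm gc N27215 = N23116 := ded_20_1 (flp_f L180639) L180635 L210871
theorem L210877 : sm gg N23116 = N27216 := rfl
theorem L210879 : sm ga N27216 = N25888 := ded_12_1 L200511 (flp_a L180641) L210877
theorem L210881 : sm gd N27216 = N23142 := ded_24_1 L180821 (flp_d L180643) L210877
theorem L210883 : sm ge N27216 = N26121 := ded_26_1 (flp_g L202174) L202172 L210877
theorem L210885 : sm gf N23141 = N27216 := ded_29_0 (flp_g L210877) (flp_f L180639) L170046 (flp_a L180807)
theorem L210887 : sm gb N23117 = N27217 := rfl
theorem L210889 : sm gd N27217 = N23148 := ded_14_2 (flp_b L180851) (flp_d L180647) L210887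
theorem L210891 : sm gg N23118 = N27218 := rfl
theorem L210893 : sm gc N27218 = N23119 := ded_21_1 (flp_g L180655) L180651 L210891

end Cfsg.Agent.Helper28.SzbA
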