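import Cfsg.Agent.Helper28.SzbB18

/-! # The Suzuki group presentation, cosets of the subgroup generated by a, b, c, d, f, g: the coset enumeration, part 19 (helper28; generated) -/

set_option autoImplicit false

noncomputable section

namespace Cfsg.Agent.Helper28.SzbA

open Cfsg.Agent.Helper28.CosetTable

theorem L210895 : sm gc N23120 = N27219 := rfl
theorem L210897 : sm gf N23120 = N27220 := rfl
theorem L210899 : sm ga N27220 = N25486 := ded_11_1 (flp_f L199502) L199498 L210897
theorem L210901 : sm gd N27220 = N23151 := ded_23_1 (flp_f L180871) (flp_d L180661) L210897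
theorem L210903 : sm gg N27220 = N25727 := ded_29_3 (flp_a L199459) (flp_f L199488) (flp_g L199490) L210897
theorem L210905 : sm gb N23121 = N27221 := rfl
theorem L210907 : sm gd N27221 = N24678 := ded_14_2 L192119 L180667 L210905
theorem L210909 : sm gg N23121 = N27222 := rfl
theorem L210911 : sm ga N27222 = N23124 := ded_12_1 (flp_g L180685) (flp_a L180665) L210909
theorem L210913 : sm gc N27222 = N23122 := ded_21_1 (flp_g L180669) L180663 L210909
theorem L210915 : sm gd N27222 = N24679 := ded_24_1 (flp_g L192121) L180667 L210909
theorem L210917 : sm gf N27222 = N27218 := ded_29_2 (flp_g L210891) (flp_a L199971) L199973 L210909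
theorem L210919 : sm gb N23124 = N27223 := rfl
theorem L210921 : sm gc N27223 = N27184 := ded_13_2 (flp_b L210633) L180387 (flp_b L144375) (flp_c L180687) L210919
theorem L210923 : sm gf N23124 = N27224 := rfl
theorem L210925 : sm ga N27224 = N27218 := ded_11_1 (flp_f L210917) L210911 L210923
theorem L210927 : sm gc N27224 = N23125 := ded_20_1 (flp_f L180689) (flp_c L180687) L210923
theorem L210929 : sm gd N27224 = N25811 := ded_23_1 (flp_f L199983) (flp_d L197857) L210923
theorem L210931 : sm gg N27224 = N25810 := ded_29_3 L199971 L180653 L180685 L210923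
theorem L210933 : sm gb N23125 = N27225 := rfl
theorem L210935 : sm gd N27225 = N23155 := ded_14_2 (flp_b L180905) (flp_d L180693) L210933
theorem L210937 : sm gf N27225 = N27020 := ded_16_2 (flp_b L209253) (flp_f L180389) (flp_b L144375) L180689 L210933
theorem L210939 : sm ga N27225 = N27022 := ded_7_1 L209269 L202168 (flp_b L200527) L169099 L198920 (flp_a L198928) L181041 (flp_a L180691) L210933
theorem L210941 : sm gb N23128 = N27226 := rfl
theorem L210943 : sm gd N27226 = N23502 := ded_14_2 (flp_b L183183) (flp_d L180719) L210941
theorem L210945 : sm ge N27226 = N23129 := ded_15_2 (flp_b L180723) (flp_e L180721) L210941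
theorem L210947 : sm ga N23129 = N27227 := rfl
theorem L210949 : sm gd N27227 = N23130 := ded_9_2 (flp_a L180727) (flp_d L180725) L210947
theorem L210951 : sm gc N23129 = N27228 := rfl
theorem L210953 : sm gf N23129 = N27229 := rfl
theorem L210955 : sm gd N27229 = N23132 := ded_23_1 (flp_f L180739) (flp_d L180725) L210953
theorem L210957 : sm gc N23130 = N27230 := rfl
theorem L210959 : sm ga N27230 = N23131 := ded_8_1 (flp_c L180731) L180727 L210957
theorem L210961 : sm ge N27230 = N23506 := ded_19_2 (flp_c L183201) (flp_e L180729) L210957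
theorem L210963 : sm gd N26051 = N27230 := ded_9_0 L210959 (flp_d L180737) (flp_a L201630)
theorem L210965 : sm gf N23130 = N27231 := rfl
theorem L210967 : sm ga N27231 = N23132 := ded_11_1 (flp_f L180739) L180727 L210965
theorem L210969 : sm ge N27231 = N23507 := ded_25_1 (flp_f L183205) (flp_e L180729) L210965
theorem L210971 : sm gg N27044 = N27231 := ded_29_1 (flp_f L210965) (flp_g L209433) (flp_a L209429) L209447
theorem L210973 : sm gf N23131 = N27232 := rfl
theorem L210975 : sm gc N27232 = N23132 := ded_20_1 (flp_f L180739) L180731 L210973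
theorem L210977 : sm gd N27232 = N26053 := ded_23_1 (flp_f L201644) L180737 L210973
theorem L210979 : sm ge N27232 = N23508 := ded_25_1 (flp_f L183221) (flp_e L180733) L210973
theorem L210981 : sm gg N23132 = N27233 := rfl
theorem L210983 : sm ga N27233 = N27044 := ded_12_1 L210971 L210967 L210981
theorem L210985 : sm ge N27233 = N23509 := ded_26_1 (flp_g L183225) (flp_e L180741) L210981
theorem L210987 : sm gf N27042 = N27233 := ded_29_0 (flp_g L210981) (flp_f L180739) (flp_g L178655) L209429
theorem L210989 : sm gb N25007 = N27233 := ded_7_0 L210983 L209453 L209177 (flp_b L194438) (flp_a L161858) (flp_b L112004) (flp_a L111914) L161756 L194366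
theorem L210991 : sm gc N23133 = N27234 := rfl
theorem L210993 : sm ga N27234 = N26877 := ded_8_1 L207955 L189775 L210991
theorem L210995 : sm ge N27234 = N23510 := ded_19_2 (flp_c L183235) (flp_e L180745) L210991
theorem L210997 : sm gc N23134 = N27235 := rfl
theorem L210999 : sm ga N27235 = N23135 := ded_8_1 (flp_c L180755) L180747 L210997
theorem L211001 : sm ge N27235 = N23511 := ded_19_2 (flp_c L183239) (flp_e L180749) L210997
theorem L211003 : sm gf N27235 = N23729 := ded_20_2 L184898 (flp_f L180751) L210997
theorem L211005 : sm gg N27235 = N25545 := ded_21_2 (flp_c L198414) L180753 L210997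
theorem L211007 : sm gb N23135 = N27236 := rfl
theorem L211009 : sm ge N27236 = N23512 := ded_15_2 (flp_b L183249) (flp_e L180757) L211007
theorem L211011 : sm gc N27236 = N23137 := ded_13_2 (flp_b L180769) (flp_c L144443) L144439 L180755 L211007
theorem L211013 : sm gf N27236 = N23721 := ded_16_2 L184840 L153321 (flp_b L153359) (flp_f L180759) L211007
theorem L211015 : sm gd N23135 = N27237 := rfl
theorem L211017 : sm gf N27237 = N23443 := ded_23_2 L182833 (flp_f L180759) L211015
theorem L211019 : sm ge N27237 = N23444 := ded_22_2 L182837 L145690 (flp_d L153493) (flp_e L180757) L211015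
theorem L211021 : sm gg N23135 = N27238 := rfl
theorem L211023 : sm ga N27238 = N25545 := ded_12_1 (flp_g L211005) L210999 L211021
theorem L211025 : sm gc N27238 = N23136 := ded_21_1 (flp_g L180761) L180755 L211021
theorem L211027 : sm ge N27238 = N23513 := ded_26_1 (flp_g L183257) (flp_e L180757) L211021
theorem L211029 : sm gf N27026 = N27238 := ded_29_0 (flp_g L211021) L180759 L178062 (flp_a L209296)
theorem L211031 : sm gf N23137 = N27239 := rfl
theorem L211033 : sm ga N27239 = N25915 := ded_11_1 (flp_f L200743) L195592 L211031
theorem L211035 : sm gc N27239 = N23721 := ded_20_1 (flp_f L211013) L211011 L211031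
theorem L211037 : sm gd N27239 = N25913 := ded_23_1 L200729 L192899 L211031
theorem L211039 : sm ge N27239 = N23514 := ded_25_1 (flp_f L183267) (flp_e L180771) L211031
theorem L211041 : sm gg N27239 = N23724 := ded_29_3 L184864 (flp_f L200715) L200717 L211031
theorem L211043 : sm gb N23138 = N27240 := rfl
theorem L211045 : sm gd N27240 = N25600 := ded_14_2 L198773 (flp_d L180779) L211043
theorem L211047 : sm ge N27240 = N23516 := ded_15_2 (flp_b L183277) (flp_e L180781) L211043
theorem L211049 : sm gb N23143 = N27241 := rfl
theorem L211051 : sm gd N27241 = N23517 := ded_14_2 (flp_b L183281) (flp_d L180827) L211049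
theorem L211053 : sm ge N27241 = N23144 := ded_15_2 (flp_b L180831) (flp_e L180829) L211049
theorem L211055 : sm ga N23144 = N27242 := rfl
theorem L211057 : sm gd N27242 = N23145 := ded_9_2 (flp_a L180835) (flp_d L180833) L211055
theorem L211059 : sm gc N23144 = N27243 := rfl
theorem L211061 : sm gg N23144 = N27244 := rfl
theorem L211063 : sm gd N27244 = N23147 := ded_24_1 (flp_g L180847) (flp_d L180833) L211061
theorem L211065 : sm gc N23145 = N27245 := rfl
theorem L211067 : sm ga N27245 = N23146 := ded_8_1 (flp_c L180839) L180835 L211065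
theorem L211069 : sm ge N27245 = N23519 := ded_19_2 (flp_c L183293) (flp_e L180837) L211065
theorem L211071 : sm gd N26282 = N27245 := ded_9_0 L211067 (flp_d L180845) (flp_a L203267)
theorem L211073 : sm gg N23145 = N27246 := rfl
theorem L211075 : sm ga N27246 = N23147 := ded_12_1 (flp_g L180847) L180835 L211073
theorem L211077 : sm ge N27246 = N23520 := ded_26_1 (flp_g L183297) (flp_e L180837) L211073
theorem L211079 : sm gf N27246 = N27052 := ded_29_2 (flp_g L209519) L209501 L209505 L211073
theorem L211081 : sm gg N23146 = N27247 := rfl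
theorem L211083 : sm gc N27247 = N23147 := ded_21_1 (flp_g L180847) L180839 L211081
theorem L211085 : sm gd N27247 = N26284 := ded_24_1 (flp_g L203281) L180845 L211081
theorem L211087 : sm ge N27247 = N23521 := ded_26_1 (flp_g L183303) (flp_e L180841) L211081
theorem L211089 : sm gf N23147 = N27248 := rfl
theorem L211091 : sm ga N27248 = N27052 := ded_11_1 (flp_f L211079) L211075 L211089
theorem L211093 : sm ge N27248 = N23522 := ded_25_1 (flp_f L183307) (flp_e L180849) L211089
theorem L211095 : sm gg N27248 = N27050 := ded_29_3 (flp_a L209501) L178733 L180847 L211089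
theorem L211097 : sm gb N25028 = N27248 := ded_7_0 L211091 L209525 L209119 (flp_b L194631) (flp_a L162090) (flp_b L112234) (flp_a L112113) L161986 L194559
theorem L211099 : sm gc N23148 = N27249 := rfl
theorem L211101 : sm ga N27249 = N26842 := ded_8_1 L207670 L189343 L211099
theorem L211103 : sm ge N27249 = N23523 := ded_19_2 (flp_c L183317) (flp_e L180853) L211099
theorem L211105 : sm gc N23149 = N27250 := rfl
theorem L211107 : sm ga N27250 = N23150 := ded_8_1 (flp_c L180865) L180855 L211105
theorem L211109 : sm ge N27250 = N23524 := ded_19_2 (flp_c L183321) (flp_e L180857) L211105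
theorem L211111 : sm gf N27250 = N25487 := ded_20_2 (flp_c L198057) (flp_f L180861) L211105
theorem L211113 : sm gg N27250 = N23677 := ded_21_2 L184506 (flp_g L180859) L211105
theorem L211115 : sm gb N23150 = N27251 := rfl
theorem L211117 : sm ge N27251 = N23525 := ded_15_2 (flp_b L183331) (flp_e L180867) L211115
theorem L211119 : sm gc N27251 = N23152 := ded_13_2 (flp_b L180879) (flp_c L144535) L144531 L180865 L211115
theorem L211121 : sm gg N27251 = N23669 := ded_17_2 L184452 L152894 (flp_b L152926) (flp_g L180869) L211115
theorem L211123 : sm gd N23150 = N27252 := rfl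
theorem L211125 : sm gg N27252 = N23384 := ded_24_2 L182447 (flp_g L180869) L211123
theorem L211127 : sm ge N27252 = N23386 := ded_22_2 L182456 L145465 (flp_d L153063) (flp_e L180867) L211123
theorem L211129 : sm gf N23150 = N27253 := rfl
theorem L211131 : sm ga N27253 = N25487 := ded_11_1 (flp_f L211111) L211107 L211129
theorem L211133 : sm gc N27253 = N23151 := ded_20_1 (flp_f L180871) L180865 L211129
theorem L211135 : sm ge N27253 = N23526 := ded_25_1 (flp_f L183339) (flp_e L180867) L211129
theorem L211137 : sm gg N27253 = N27023 := ded_29_3 L209273 (flp_f L178022) (flp_g L180869) L211129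
theorem L211139 : sm gg N23152 = N27254 := rfl
theorem L211141 : sm ga N27254 = N26150 := ded_12_1 L202384 L195574 L211139
theorem L211143 : sm gc N27254 = N23669 := ded_21_1 (flp_g L211121) L211119 L211139
theorem L211145 : sm gd N27254 = N26148 := ded_24_1 (flp_g L202370) L192577 L211139
theorem L211147 : sm ge N27254 = N23528 := ded_26_1 (flp_g L183351) (flp_e L180881) L211139
theorem L211149 : sm gf N23672 = N27254 := ded_29_0 (flp_g L211139) (flp_f L202356) L202358 (flp_a L184472)
theorem L211151 : sm gb N23153 = N27255 := rfl
theorem L211153 : sm gd N27255 = N25542 := ded_14_2 L198394 (flp_d L180889) L211151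
theorem L211155 : sm ge N27255 = N23529 := ded_15_2 (flp_b L183359) (flp_e L180891) L211151
theorem L211157 : sm gb N23156 = N27256 := rfl
theorem L211159 : sm gd N27256 = N23191 := ded_14_2 (flp_b L181149) (flp_d L180921) L211157
theorem L211161 : sm ge N27256 = N25420 := ded_15_2 (flp_b L197703) (flp_e L180923) L211157
theorem L211163 : sm gc N27256 = N25420 := ded_13_2 (flp_b L197703) L167098 (flp_b L167112) (flp_c L180919) L211157
theorem L211165 : sm gf N27256 = N27189 := ded_16_2 L210671 L202144 (flp_b L200527) L180925 L211157
theorem L211167 : sm gg N27256 = N25420 := ded_17_2 (flp_b L197703) (flp_g L167096) (flp_b L144575) L180915 L211157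
theorem L211169 : sm ga N23157 = N27257 := rfl
theorem L211171 : sm gd N27257 = N23202 := ded_9_2 (flp_a L181215) (flp_d L180929) L211169
theorem L211173 : sm ge N27257 = N27220 := ded_10_2 L210899 L198053 L211169
theorem L211175 : sm gg N27257 = N23158 := ded_12_2 (flp_a L180933) (flp_g L180931) L211169
theorem L211177 : sm gf N27257 = N26997 := ded_29_0 (flp_g L209051) (flp_f L180941) (flp_g L180931) L211169
theorem L211179 : sm gb N27071 = N27257 := ded_14_3 L211171 (flp_b L181223) L209715
theorem L211181 : sm gc N23157 = N27258 := rfl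
theorem L211183 : sm gg N27258 = N23159 := ded_21_2 (flp_c L180937) (flp_g L180931) L211181
theorem L211185 : sm gb N27258 = N25607 := ded_13_1 (flp_c L198825) (flp_b L167894) (flp_c L144579) L180927 L211181
theorem L211187 : sm gf N23157 = N27259 := rfl
theorem L211189 : sm ga N27259 = N26997 := ded_11_1 (flp_f L211177) (flp_a L211169) L211187
theorem L211191 : sm gd N27259 = N23204 := ded_23_1 (flp_f L181235) (flp_d L180929) L211187
theorem L211193 : sm ge N27259 = N25732 := ded_25_1 L199502 L198053 L211187
theorem L211195 : sm gg N27259 = N25729 := ded_29_3 L199480 (flp_f L180941) (flp_g L180931) L211187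
theorem L211197 : sm gc N23158 = N27260 := rfl
theorem L211199 : sm ga N27260 = N23159 := ded_8_1 (flp_c L180937) L180933 L211197
theorem L211201 : sm gb N27260 = N27260 := ded_13_1 (flp_c L211197) L199449 L199442 (flp_b L199449) L211197
theorem L211202 : sm gd N23159 = N27261 := rfl
theorem L211204 : sm gb N27261 = N25603 := ded_14_1 (flp_d L198795) (flp_b L180939) L211202
theorem L211206 : sm gf N23159 = N27262 := rfl
theorem L211208 : sm gc N27262 = N23160 := ded_20_1 (flp_f L180941) L180937 L211206
theorem L211210 : sm ga N23162 = N27263 := rfl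
theorem L211212 : sm gd N27263 = N23236 := ded_9_2 (flp_a L181439) (flp_d L180963) L211210
theorem L211214 : sm ge N27263 = N27167 := ded_10_2 L210497 L181113 L211210
theorem L211216 : sm gb N27263 = N25728 := ded_7_2 L199463 (flp_b L199449) (flp_a L180933) (flp_b L144583) L103979 L103995 L144591 L180961 L211210
theorem L211218 : sm gf N26969 = N27263 := ded_23_0 L211212 (flp_f L181443) (flp_d L208827)
theorem L211220 : sm gc N23162 = N27264 := rfl
theorem L211222 : sm gb N27264 = N25775 := ded_13_1 (flp_c L199756) (flp_b L168590) L156863 L180961 L211220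
theorem L211224 : sm gf N23162 = N27265 := rfl
theorem L211226 : sm ga N27265 = N26969 := ded_11_1 L211218 (flp_a L211210) L211224
theorem L211228 : sm gd N27265 = N23238 := ded_23_1 (flp_f L181449) (flp_d L180963) L211224
theorem L211230 : sm ge N27265 = N27165 := ded_25_1 L210489 L181113 L211224
theorem L211232 : sm gg N27217 = N27265 := ded_24_0 L211228 (flp_g L181455) (flp_d L210889)
theorem L211234 : sm gg N23162 = N27266 := rfl
theorem L211236 : sm gd N27266 = N23239 := ded_24_1 (flp_g L181457) (flp_d L180963) L211234
theorem L211238 : sm ge N27266 = N25158 := ded_26_1 L195749 L181113 L211234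
theorem L211240 : sm gb N27266 = N23169 := ded_17_1 (flp_g L180995) (flp_b L144609) (flp_g L144595) L180961 L211234
theorem L211242 : sm ga N23163 = N27267 := rfl
theorem L211244 : sm gd N27267 = N23245 := ded_9_2 (flp_a L181503) (flp_d L180967) L211242
theorem L211246 : sm gf N27267 = N23164 := ded_11_2 (flp_a L180971) (flp_f L180969) L211242
theorem L211248 : sm gb N27216 = N27267 := ded_14_3 L211244 (flp_b L181509) (flp_d L210881)
theorem L211250 : sm gc N23163 = N27268 := rfl
theorem L211252 : sm ge N27268 = N25369 := ded_19_2 L197331 L181119 L211250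
theorem L211254 : sm gf N27268 = N23165 := ded_20_2 (flp_c L180975) (flp_f L180969) L211250
theorem L211256 : sm gb N27268 = N24492 := ded_13_1 L190829 L168588 L168580 L180965 L211250
theorem L211258 : sm gg N23163 = N27269 := rfl
theorem L211260 : sm gd N27269 = N23247 := ded_24_1 (flp_g L181519) (flp_d L180967) L211258
theorem L211262 : sm gb N27269 = N27172 := ded_17_1 (flp_g L210543) (flp_b L181001) (flp_g L144623) L180965 L211258
theorem L211264 : sm gc N23164 = N27270 := rfl
theorem L211266 : sm ga N27270 = N23165 := ded_8_1 (flp_c L180975) L180971 L211264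
theorem L211268 : sm gg N23164 = N27271 := rfl
theorem L211270 : sm ga N27271 = N23166 := ded_12_1 (flp_g L180977) L180971 L211268
theorem L211272 : sm gd N27271 = N23249 := ded_24_1 (flp_g L181533) (flp_d L180973) L211268
theorem L211274 : sm ge N27271 = N27213 := ded_26_1 L210853 L209221 L211268
theorem L211276 : sm gf N27271 = N27269 := ded_29_2 (flp_g L211258) L211242 L211246 L211268
theorem L211278 : sm gb N27271 = N26993 := ded_17_1 (flp_g L209013) L177803 L208919 (flp_b L208929) L211268
theorem L211280 : sm gd N23165 = N27272 := rfl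
theorem L211282 : sm gg N23165 = N27273 := rfl
theorem L211284 : sm gc N27273 = N23166 := ded_21_1 (flp_g L180977) L180975 L211282
theorem L211286 : sm gf N23166 = N27274 := rfl
theorem L211288 : sm ga N27274 = N27269 := ded_11_1 (flp_f L211276) L211270 L211286
theorem L211290 : sm gd N27274 = N23252 := ded_23_1 (flp_f L181551) (flp_d L180979) L211286
theorem L211292 : sm gg N27274 = N27267 := ded_29_3 (flp_a L211242) L180969 L180977 L211286
theorem L211294 : sm gf N23167 = N27275 := rfl
theorem L211296 : sm ga N27275 = N23168 := ded_11_1 (flp_f L180989) L180983 L211294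
theorem L211298 : sm gc N27275 = N25778 := ded_20_1 (flp_f L199775) (flp_c L180985) L211294
theorem L211300 : sm gd N27275 = N23253 := ded_23_1 (flp_f L181559) (flp_d L180987) L211294
theorem L211302 : sm gg N23167 = N27276 := rfl
theorem L211304 : sm ga N27276 = N23169 := ded_12_1 (flp_g L180995) L180983 L211302
theorem L211306 : sm gc N27276 = N25779 := ded_21_1 (flp_g L199785) (flp_c L180985) L211302
theorem L211308 : sm gd N27276 = N23254 := ded_24_1 (flp_g L181567) (flp_d L180987) L211302
theorem L211310 : sm gf N27276 = N27192 := ded_29_2 L210703 (flp_a L211296) (flp_f L211294) L211302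
theorem L211312 : sm gb N27188 = N27276 := ded_14_3 L211308 (flp_b L181575) (flp_d L210661)
theorem L211314 : sm gf N23169 = N27277 := rfl
theorem L211316 : sm ga N27277 = N27192 := ded_11_1 (flp_f L211310) L211304 L211314
theorem L211318 : sm gc N27277 = N25786 := ded_20_1 (flp_f L199823) (flp_c L180997) L211314
theorem L211320 : sm gd N27277 = N23256 := ded_23_1 (flp_f L181583) (flp_d L180999) L211314
theorem L211322 : sm ge N27277 = N27180 := ded_25_1 L210607 L181107 L211314
theorem L211324 : sm gg N27277 = N27275 := ded_29_3 L211296 (flp_f L180989) L180995 L211314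
theorem L211326 : sm gb N27277 = N26973 := ded_31_2 (flp_g L208855) (flp_f L189263) L189261 (flp_g L210801) (flp_f L210793) (flp_b L180981) (flp_g L180977) (flp_f L180969) (flp_b L180965) L144623 (flp_f L144617) L144609 L180995 L211314
theorem L211328 : sm gc N23170 = N27278 := rfl
theorem L211330 : sm gb N27278 = N25750 := ded_13_1 L199614 L168480 L156861 L181001 L211328
theorem L211332 : sm ga N23171 = N27279 := rfl
theorem L211334 : sm gd N27279 = N23262 := ded_9_2 (flp_a L181629) (flp_d L181007) L211332
theorem L211336 : sm gg N27279 = N27020 := ded_12_2 (flp_a L209247) (flp_g L181009) L211332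
theorem L211338 : sm gb N27279 = N25883 := ded_7_2 L200461 L200505 (flp_a L210879) L211248 (flp_a L211242) (flp_b L180965) (flp_a L144633) L181005 L211332
theorem L211340 : sm gf N23171 = N27280 := rfl
theorem L211342 : sm gd N27280 = N23263 := ded_23_1 (flp_f L181637) (flp_d L181007) L211340
theorem L211344 : sm gg N27280 = N27225 := ded_29_3 L210939 (flp_f L209263) (flp_g L181009) L211340
theorem L211346 : sm gb N27280 = N27265 := ded_16_1 (flp_f L211224) (flp_b L180961) L144637 L181005 L211340
theorem L211348 : sm gb N23172 = N27281 := rfl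
theorem L211350 : sm gd N27281 = N23267 := ded_14_2 (flp_b L181671) (flp_d L181017) L211348
theorem L211352 : sm ge N27281 = N25454 := ded_15_2 (flp_b L197883) (flp_e L181019) L211348
theorem L211354 : sm gc N27281 = N25454 := ded_13_2 (flp_b L197883) L167236 (flp_b L167250) (flp_c L181015) L211348
theorem L211356 : sm gf N27281 = N25454 := ded_16_2 (flp_b L197883) (flp_f L167234) (flp_b L149731) L181011 L211348
theorem L211358 : sm gg N27281 = N27176 := ded_17_2 L210579 (flp_g L200523) L200525 (flp_g L181021) L211348
theorem L211360 : sm ga N23173 = N27282 := rfl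
theorem L211362 : sm gd N27282 = N23278 := ded_9_2 (flp_a L181737) (flp_d L181025) L211360
theorem L211364 : sm ge N27282 = N27208 := ded_10_2 L210815 L198410 L211360
theorem L211366 : sm gf N27282 = N23174 := ded_11_2 (flp_a L181029) (flp_f L181027) L211360
theorem L211368 : sm gg N26988 = N27282 := ded_29_3 (flp_a L211360) L181027 L181037 L208979
theorem L211370 : sm gb N27097 = N27282 := ded_14_3 L211362 (flp_b L181745) L209917
theorem L211372 : sm gc N23173 = N27283 := rfl
theorem L211374 : sm gf N27283 = N23175 := ded_20_2 (flp_c L181033) (flp_f L181027) L211372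
theorem L211376 : sm gb N27283 = N25712 := ded_13_1 (flp_c L199377) (flp_b L168318) (flp_c L144647) L181023 L211372
theorem L211378 : sm gg N23173 = N27284 := rfl
theorem L211380 : sm ga N27284 = N26988 := ded_12_1 L211368 (flp_a L211360) L211378
theorem L211382 : sm gd N27284 = N23280 := ded_24_1 (flp_g L181757) (flp_d L181025) L211378
theorem L211384 : sm ge N27284 = N25627 := ded_26_1 (flp_g L198950) L198410 L211378
theorem L211386 : sm gf N25624 = N27284 := ded_29_0 (flp_g L211378) L181027 L181037 L198928
theorem L211388 : sm gb N27284 = N27259 := ded_17_1 L211195 (flp_b L199472) (flp_g L168393) L181023 L211378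
theorem L211390 : sm gc N23174 = N27285 := rfl
theorem L211392 : sm ga N27285 = N23175 := ded_8_1 (flp_c L181033) L181029 L211390
theorem L211394 : sm gb N27285 = N27285 := ded_13_1 (flp_c L211390) L198897 L198890 (flp_b L198897) L211390
theorem L211395 : sm gd N23175 = N27286 := rfl
theorem L211397 : sm gb N27286 = N25709 := ded_14_1 (flp_d L199353) (flp_b L181035) L211395
theorem L211399 : sm gg N23175 = N27287 := rfl
theorem L211401 : sm gc N27287 = N23176 := ded_21_1 (flp_g L181037) L181033 L211399
theorem L211403 : sm ga N23178 = N27288 := rfl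
theorem L211405 : sm gd N27288 = N23310 := ded_9_2 (flp_a L181947) (flp_d L181059) L211403
theorem L211407 : sm ge N27288 = N27174 := ded_10_2 L210551 (flp_e L181061) L211403
theorem L211409 : sm gb N27288 = N25623 := ded_7_2 L198911 (flp_b L198897) (flp_a L181029) (flp_b L144657) L104029 L104045 L144665 L181057 L211403
theorem L211411 : sm gg N26970 = N27288 := ded_24_0 L211405 (flp_g L181951) (flp_d L208833)
theorem L211413 : sm gc N23178 = N27289 := rfl
theorem L211415 : sm ge N27289 = N27278 := ded_19_2 (flp_c L211328) (flp_e L181061) L211413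
theorem L211417 : sm gb N27289 = N25671 := ded_13_1 (flp_c L199160) (flp_b L168176) L156836 L181057 L211413
theorem L211419 : sm gf N23178 = N27290 := rfl
theorem L211421 : sm gd N27290 = N23312 := ded_23_1 (flp_f L181957) (flp_d L181059) L211419
theorem L211423 : sm ge N27290 = N25127 := ded_25_1 L195470 (flp_e L181061) L211419
theorem L211425 : sm gb N27290 = N23184 := ded_16_1 (flp_f L181093) (flp_b L144689) (flp_f L144671) L181057 L211419
theorem L211427 : sm gg N23178 = N27291 := rfl
theorem L211429 : sm ga N27291 = N26970 := ded_12_1 L211411 (flp_a L211403) L211427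
theorem L211431 : sm gd N27291 = N23313 := ded_24_1 (flp_g L181963) (flp_d L181059) L211427
theorem L211433 : sm ge N27291 = N27172 := ded_26_1 (flp_g L210543) (flp_e L181061) L211427
theorem L211435 : sm gf N27205 = N27291 := ded_23_0 L211431 (flp_f L181969) (flp_d L210805)
theorem L211437 : sm ga N23179 = N27292 := rfl
theorem L211439 : sm gd N27292 = N23316 := ded_9_2 (flp_a L181983) (flp_d L181065) L211437
theorem L211441 : sm ge N27292 = N27279 := ded_10_2 (flp_a L211332) (flp_e L181067) L211437
theorem L211443 : sm gg N27292 = N23180 := ded_12_2 (flp_a L181071) (flp_g L181069) L211437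
theorem L211445 : sm gb N27204 = N27292 := ded_14_3 L211439 (flp_b L181989) (flp_d L210797)
theorem L211447 : sm gc N23179 = N27293 := rfl
theorem L211449 : sm ge N27293 = N25359 := ded_19_2 L197281 (flp_e L181067) L211447
theorem L211451 : sm gg N27293 = N23181 := ded_21_2 (flp_c L181075) (flp_g L181069) L211447
theorem L211453 : sm gb N27293 = N24486 := ded_13_1 L190793 (flp_b L168196) L168188 L181063 L211447
theorem L211455 : sm gf N23179 = N27294 := rfl
theorem L211457 : sm gd N27294 = N23318 := ded_23_1 (flp_f L181999) (flp_d L181065) L211455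
theorem L211459 : sm ge N27294 = N27280 := ded_25_1 (flp_f L211340) (flp_e L181067) L211455
theorem L211461 : sm gb N27294 = N27165 := ded_16_1 L210489 (flp_b L181109) L144709 L181063 L211455
theorem L211463 : sm gc N23180 = N27295 := rfl
theorem L211465 : sm ga N27295 = N23181 := ded_8_1 (flp_c L181075) L181071 L211463
theorem L211467 : sm gf N23180 = N27296 := rfl
theorem L211469 : sm ga N27296 = N23182 := ded_11_1 (flp_f L181077) L181071 L211467
theorem L211471 : sm gd N27296 = N23320 := ded_23_1 (flp_f L182013) (flp_d L181073) L211467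
theorem L211473 : sm ge N27296 = N27225 := ded_25_1 L210937 L209251 L211467
theorem L211475 : sm gg N27294 = N27296 := ded_29_1 (flp_f L211467) (flp_g L211443) (flp_a L211437) L211455
theorem L211477 : sm gb N27296 = N27002 := ded_16_1 (flp_f L209085) L177829 L208875 (flp_b L208885) L211467
theorem L211479 : sm gd N23181 = N27297 := rfl
theorem L211481 : sm gf N23181 = N27298 := rfl
theorem L211483 : sm gc N27298 = N23182 := ded_20_1 (flp_f L181077) L181075 L211481
theorem L211485 : sm gg N23182 = N27299 := rfl
theorem L211487 : sm ga N27299 = N27294 := ded_12_1 L211475 L211469 L211485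
theorem L211489 : sm gd N27299 = N23323 := ded_24_1 (flp_g L182031) (flp_d L181079) L211485
theorem L211491 : sm gf N27292 = N27299 := ded_29_0 (flp_g L211485) (flp_f L181077) (flp_g L181069) L211437
theorem L211493 : sm gb N27299 = N27274 := ded_17_1 L211292 (flp_b L211248) (flp_g L210877) (flp_b L181081) L211485
theorem L211495 : sm gf N23183 = N27300 := rfl
theorem L211497 : sm ga N27300 = N23184 := ded_11_1 (flp_f L181093) L181083 L211495
theorem L211499 : sm gc N27300 = N25674 := ded_20_1 (flp_f L199173) (flp_c L181085) L211495
theorem L211501 : sm gd N27300 = N23324 := ded_23_1 (flp_f L182041) (flp_d L181087) L211495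
theorem L211503 : sm ge N27300 = N27275 := ded_25_1 (flp_f L211294) (flp_e L181089) L211495
theorem L211505 : sm gg N27300 = N27180 := ded_29_1 L210607 (flp_g L181101) L181083 L211495
theorem L211507 : sm gb N27300 = N27177 := ded_30_2 L210583 (flp_f L211356) L211354 (flp_b L197883) (flp_a L167645) (flp_f L167643) (flp_c L148990) (flp_b L110679) L92750 L92767 L92769 (flp_b L84609) (flp_a L95892) (flp_f L95890) L95886 L116599 L168198 L199173 (flp_c L211499)
theorem L211509 : sm gg N23183 = N27301 := rfl
theorem L211511 : sm ga N27301 = N23185 := ded_12_1 (flp_g L181101) L181083 L211509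
theorem L211513 : sm gc N27301 = N25675 := ded_21_1 (flp_g L199177) (flp_c L181085) L211509
theorem L211515 : sm gd N27301 = N23325 := ded_24_1 (flp_g L182051) (flp_d L181087) L211509
theorem L211517 : sm ge N27301 = N27276 := ded_26_1 (flp_g L211302) (flp_e L181089) L211509
theorem L211519 : sm gg N23184 = N27302 := rfl
theorem L211521 : sm ga N27302 = N27180 := ded_12_1 (flp_g L211505) L211497 L211519
theorem L211523 : sm gc N27302 = N25681 := ded_21_1 (flp_g L199199) (flp_c L181095) L211519
theorem L211525 : sm gd N27302 = N23327 := ded_24_1 (flp_g L182065) (flp_d L181097) L211519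
theorem L211527 : sm ge N27302 = N27192 := ded_26_1 L210703 (flp_e L181099) L211519
theorem L211529 : sm gf N27301 = N27302 := ded_29_0 (flp_g L211519) (flp_f L181093) L181101 (flp_a L211511)
theorem L211531 : sm gb N26979 = N27302 := ded_31_14 (flp_g L211519) (flp_f L181093) (flp_b L144689) L144701 L144709 L181063 L181069 L181077 L181081 L210877 (flp_f L210885) (flp_b L189693) L189695 L208899
theorem L211533 : sm gc N23186 = N27303 := rfl
theorem L211535 : sm ge N27303 = N27264 := ded_19_2 (flp_c L211220) (flp_e L181113) L211533
theorem L211537 : sm gb N27303 = N25646 := ded_13_1 L199056 L168104 L156838 L181109 L211533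
theorem L211539 : sm ga N23187 = N27304 := rfl
theorem L211541 : sm gd N27304 = N23332 := ded_9_2 (flp_a L182105) (flp_d L181117) L211539
theorem L211543 : sm ge N27304 = N27267 := ded_10_2 (flp_a L211242) (flp_e L181119) L211539
theorem L211545 : sm gf N27304 = N27016 := ded_11_2 (flp_a L209217) (flp_f L181121) L211539
theorem L211547 : sm gb N27304 = N26121 := ded_7_2 L202128 L200495 (flp_a L210795) L211445 (flp_a L211437) (flp_b L181063) (flp_a L144723) L181115 L211539
theorem L211549 : sm gg N23187 = N27305 := rfl
theorem L211551 : sm gd N27305 = N23333 := ded_24_1 (flp_g L182113) (flp_d L181117) L211549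
theorem L211553 : sm ge N27305 = N27269 := ded_26_1 (flp_g L211258) (flp_e L181119) L211549
theorem L211555 : sm gf N27213 = N27305 := ded_29_0 (flp_g L211549) L181121 L209233 (flp_a L210855)
theorem L211557 : sm gb N27305 = N27291 := ded_17_1 (flp_g L211427) (flp_b L181057) (flp_g L144729) L181115 L211549
theorem L211559 : sm ge N23188 = N27306 := rfl
theorem L211561 : sm ga N27306 = N23196 := ded_10_1 (flp_e L181181) (flp_a L181125) L211559
theorem L211563 : sm gb N27306 = N23336 := ded_15_1 (flp_e L182143) (flp_b L181127) L211559
theorem L211565 : sm gc N27306 = N24573 := ded_19_1 L193557 L193551 L211559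
theorem L211567 : sm gd N27306 = N23530 := ded_22_1 (flp_e L183363) (flp_d L151804) (flp_e L144735) L181123 L211559
theorem L211569 : sm gf N24722 = N27306 := ded_11_0 L211561 (flp_f L194422) L194418
theorem L211571 : sm gg N25298 = N27306 := ded_17_0 L211563 (flp_g L200011) (flp_b L200013) L197085 (flp_b L196921)
theorem L211573 : sm gf N23188 = N27307 := rfl
theorem L211575 : sm ga N27307 = N23197 := ded_11_1 (flp_f L181185) (flp_a L181125) L211573
theorem L211577 : sm gc N27307 = N24719 := ded_20_1 L193555 L193551 L211573
theorem L211579 : sm gd N27307 = N23189 := ded_23_1 (flp_f L181129) L181123 L211573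
theorem L211581 : sm ge N27307 = N24722 := ded_25_1 L211569 (flp_e L211559) L211573
theorem L211583 : sm gb N27307 = N24808 := ded_16_1 (flp_f L192965) L182163 (flp_f L182153) (flp_b L181127) L211573
theorem L211585 : sm gg N23188 = N27308 := rfl
theorem L211587 : sm ga N27308 = N23198 := ded_12_1 (flp_g L181189) (flp_a L181125) L211585
theorem L211589 : sm gd N27308 = N23190 := ded_24_1 (flp_g L181139) L181123 L211585
theorem L211591 : sm ge N27308 = N25298 := ded_26_1 L211571 (flp_e L211559) L211585
theorem L211593 : sm gb N25327 = N27308 := ded_14_3 L211589 (flp_b L181147) (flp_d L197097)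
theorem L211595 : sm gf N23192 = N27309 := rfl
theorem L211597 : sm ga N27309 = N23207 := ded_11_1 (flp_f L181255) (flp_a L181159) L211595
theorem L211599 : sm gd N27309 = N23193 := ded_23_1 (flp_f L181163) L181157 L211595
theorem L211601 : sm gg N23192 = N27310 := rfl
theorem L211603 : sm ga N27310 = N23208 := ded_12_1 (flp_g L181259) (flp_a L181159) L211601
theorem L211605 : sm gd N27310 = N23194 := ded_24_1 (flp_g L181171) L181157 L211601
theorem L211607 : sm ge N23195 = N27311 := rfl
theorem L211609 : sm ga N27311 = N24573 := ded_10_1 L193557 (flp_a L193553) L211607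
theorem L211611 : sm gc N27311 = N23196 := ded_19_1 (flp_e L181181) L181179 L211607
theorem L211613 : sm gf N27311 = N24709 := ded_25_2 L192329 L192061 L211607
theorem L211615 : sm gd N27311 = N24567 := ded_22_1 (flp_e L191349) (flp_d L159499) L190977 (flp_d L190987) L211607
theorem L211617 : sm gg N23196 = N27312 := rfl
theorem L211619 : sm ga N27312 = N25298 := ded_12_1 L211571 L211561 L211617
theorem L211621 : sm gd N27312 = N23531 := ded_24_1 (flp_g L183375) (flp_d L181183) L211617
theorem L211623 : sm ge N27312 = N23198 := ded_26_1 (flp_g L181189) L181181 L211617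
theorem L211625 : sm gg N23197 = N27313 := rfl
theorem L211627 : sm gd N27313 = N23199 := ded_24_1 (flp_g L181193) (flp_d L181187) L211625
theorem L211629 : sm gf N27308 = N27313 := ded_29_0 (flp_g L211625) (flp_f L181185) L181189 (flp_a L211587)
theorem L211631 : sm gb N23198 = N27314 := rfl
theorem L211633 : sm gd N27314 = N23200 := ded_14_2 (flp_b L181201) (flp_d L181191) L211631
theorem L211635 : sm gf N23198 = N27315 := rfl
theorem L211637 : sm ga N27315 = N27313 := ded_11_1 (flp_f L211629) L211587 L211635
theorem L211639 : sm gd N27315 = N23201 := ded_23_1 (flp_f L181205) (flp_d L181191) L211635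
theorem L211641 : sm gg N27315 = N27307 := ded_29_3 L211575 (flp_f L181185) L181189 L211635
theorem L211643 : sm gc N23200 = N27316 := rfl
theorem L211645 : sm ge N27316 = N23533 := ded_19_2 (flp_c L183389) (flp_e L181203) L211643
theorem L211647 : sm gb N27316 = N23203 := ded_13_1 (flp_c L181227) (flp_b L144781) (flp_c L144771) L181201 L211643
theorem L211649 : sm gf N25076 = N27316 := ded_30_0 (flp_c L211643) (flp_b L181201) (flp_a L181141) L181199 L181195 (flp_b L170090) (flp_a L170094) (flp_f L170092) L117765 L96709 (flp_a L118364) L118368 (flp_c L170084) L170090 (flp_a L144789) (flp_f L144787) (flp_c L144771) L181201 L195007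
theorem L211651 : sm gf N23200 = N27317 := rfl
theorem L211653 : sm ga N27317 = N27316 := ded_11_1 (flp_f L211649) (flp_a L195007) L211651
theorem L211655 : sm gc N27317 = N25076 := ded_20_1 L211649 (flp_c L211643) L211651
theorem L211657 : sm ge N27317 = N23534 := ded_25_1 (flp_f L183397) (flp_e L181203) L211651
theorem L211659 : sm gg N26703 = N27317 := ded_29_1 (flp_f L211651) (flp_g L206460) (flp_a L206456) L206470
theorem L211661 : sm gb N25104 = N27317 := ded_7_0 L211653 L211647 L181229 (flp_b L179001) L130182 L130204 L179041 L209741 (flp_a L209745)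
theorem L211663 : sm gb N23201 = N27318 := rfl
theorem L211665 : sm ge N27318 = N23535 := ded_15_2 (flp_b L183439) (flp_e L181211) L211663
theorem L211667 : sm gf N27318 = N25104 := ded_16_2 L211661 (flp_f L211651) (flp_b L181201) L181205 L211663
theorem L211669 : sm gg N27318 = N25055 := ded_17_2 (flp_b L194815) L162303 (flp_b L181137) (flp_g L181213) L211663
theorem L211671 : sm gc N25105 = N27318 := ded_19_3 L211665 L183447 (flp_e L195271)
theorem L211673 : sm gd N23203 = N27319 := rfl
theorem L211675 : sm ga N27319 = N27070 := ded_9_1 L209713 (flp_a L181229) L211673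
theorem L211677 : sm gg N27319 = N23220 := ded_24_2 (flp_d L181343) (flp_g L181233) L211673
theorem L211679 : sm gc N23205 = N27320 := rfl
theorem L211681 : sm ga N27320 = N23295 := ded_8_1 L181855 (flp_a L181245) L211679
theorem L211683 : sm ge N27320 = N23536 := ded_19_2 (flp_c L183449) (flp_e L181243) L211679
theorem L211685 : sm gf N27320 = N25036 := ded_20_2 L194635 (flp_f L181763) L211679
theorem L211687 : sm gg N27320 = N23293 := ded_21_2 (flp_c L181841) L181247 L211679
theorem L211689 : sm gb N27320 = N25105 := ded_13_1 L211671 (flp_b L211663) L181209 L181241 L211679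
theorem L211691 : sm gg N23206 = N27321 := rfl
theorem L211693 : sm gd N27321 = N23537 := ded_24_1 (flp_g L183461) (flp_d L181253) L211691
theorem L211695 : sm ge N27321 = N23208 := ded_26_1 (flp_g L181259) L181249 L211691
theorem L211697 : sm gg N23207 = N27322 := rfl
theorem L211699 : sm gd N27322 = N23209 := ded_24_1 (flp_g L181263) (flp_d L181257) L211697
theorem L211701 : sm gf N27310 = N27322 := ded_29_0 (flp_g L211697) (flp_f L181255) L181259 (flp_a L211603)
theorem L211703 : sm gb N23208 = N27323 := rfl
theorem L211705 : sm gd N27323 = N23210 := ded_14_2 (flp_b L181269) (flp_d L181261) L211703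
theorem L211707 : sm gg N27323 = N23213 := ded_17_2 (flp_b L181295) (flp_g L144813) (flp_b L144797) L181259 L211703
theorem L211709 : sm gf N23208 = N27324 := rfl
theorem L211711 : sm ga N27324 = N27322 := ded_11_1 (flp_f L211701) L211603 L211709
theorem L211713 : sm gd N27324 = N23211 := ded_23_1 (flp_f L181275) (flp_d L181261) L211709
theorem L211715 : sm gg N27324 = N27309 := ded_29_3 L211597 (flp_f L181255) L181259 L211709
theorem L211717 : sm gb N23209 = N27325 := rfl
theorem L211719 : sm ge N27325 = N23540 := ded_15_2 (flp_b L183485) (flp_e L181265) L211717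
theorem L211721 : sm gg N27325 = N24300 := ded_17_2 (flp_b L189345) L157897 L157167 L181263 L211717
theorem L211723 : sm ga N23210 = N27326 := rfl
theorem L211725 : sm ge N27326 = N23541 := ded_10_2 (flp_a L183491) (flp_e L181271) L211723
theorem L211727 : sm gg N27326 = N23214 := ded_12_2 (flp_a L181299) (flp_g L181273) L211723
theorem L211729 : sm gb N27326 = N26638 := ded_7_2 (flp_a L205927) (flp_b L173391) (flp_a L122478) L173871 L206456 (flp_b L206462) L181173 L181269 L211723
theorem L211731 : sm gc N23210 = N27327 := rfl
theorem L211733 : sm ge N27327 = N23542 := ded_19_2 (flp_c L183499) (flp_e L181271) L211731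
theorem L211735 : sm gg N27327 = N23215 := ded_21_2 (flp_c L181303) (flp_g L181273) L211731
theorem L211737 : sm gf N27325 = N27327 := ded_25_0 L211733 (flp_f L183503) (flp_e L211719)
theorem L211739 : sm gf N23210 = N27328 := rfl
theorem L211741 : sm gc N27328 = N27325 := ded_20_1 L211737 (flp_c L211731) L211739
theorem L211743 : sm ge N27328 = N23543 := ded_25_1 (flp_f L183505) (flp_e L181271) L211739
theorem L211745 : sm gb N23211 = N27329 := rfl
theorem L211747 : sm ge N27329 = N23544 := ded_15_2 (flp_b L183509) (flp_e L181281) L211745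
theorem L211749 : sm gb N23212 = N27330 := rfl
theorem L211751 : sm gd N27330 = N23545 := ded_14_2 (flp_b L183511) (flp_d L181289) L211749
theorem L211753 : sm ge N27330 = N23213 := ded_15_2 (flp_b L181295) (flp_e L181291) L211749
theorem L211755 : sm ga N23213 = N27331 := rfl
theorem L211757 : sm gd N27331 = N23214 := ded_9_2 (flp_a L181299) (flp_d L181297) L211755
theorem L211759 : sm gc N23213 = N27332 := rfl
theorem L211761 : sm gf N23213 = N27333 := rfl
theorem L211763 : sm gd N27333 = N23216 := ded_23_1 (flp_f L181309) (flp_d L181297) L211761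
theorem L211765 : sm gb N27333 = N27229 := ded_16_1 (flp_f L210953) (flp_b L180723) (flp_f L144819) L181295 L211761
theorem L211767 : sm gb N23214 = N27334 := rfl
theorem L211769 : sm ge N27334 = N23549 := ded_15_2 (flp_b L183557) (flp_e L181301) L211767
theorem L211771 : sm gf N23214 = N27335 := rfl
theorem L211773 : sm ga N27335 = N23216 := ded_11_1 (flp_f L181309) L181299 L211771
theorem L211775 : sm gc N27335 = N24300 := ded_20_1 (flp_f L207694) (flp_c L207698) L211771
theorem L211777 : sm ge N27335 = N23550 := ded_25_1 (flp_f L183559) (flp_e L181301) L211771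
theorem L211779 : sm gg N27328 = N27335 := ded_29_1 (flp_f L211771) (flp_g L211727) (flp_a L211723) L211739
theorem L211781 : sm gb N25053 = N27335 := ded_13_5 L211775 (flp_b L189345) (flp_c L177715) (flp_b L181591) (flp_c L194797)
theorem L211783 : sm gd N23215 = N27336 := rfl
theorem L211785 : sm gb N27336 = N23220 := ded_14_1 (flp_d L181343) (flp_b L181307) L211783
theorem L211787 : sm gf N23215 = N27337 := rfl
theorem L211789 : sm ga N27337 = N24300 := ded_11_1 (flp_f L207694) (flp_a L207696) L211787
theorem L211791 : sm gc N27337 = N23216 := ded_20_1 (flp_f L181309) L181303 L211787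
theorem L211793 : sm ge N27337 = N23551 := ded_25_1 (flp_f L183571) (flp_e L181305) L211787
theorem L211795 : sm gg N23216 = N27338 := rfl
theorem L211797 : sm ga N27338 = N27328 := ded_12_1 L211779 L211773 L211795
theorem L211799 : sm ge N27338 = N23552 := ded_26_1 (flp_g L183579) (flp_e L181311) L211795
theorem L211801 : sm gf N27326 = N27338 := ded_29_0 (flp_g L211795) (flp_f L181309) (flp_g L181273) L211723
theorem L211803 : sm gb N27338 = N24295 := ded_17_1 (flp_g L194370) L210989 (flp_g L210981) (flp_b L181313) L211795
theorem L211805 : sm gd N23218 = N27339 := rfl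
theorem L211807 : sm ga N27339 = N23220 := ded_9_1 (flp_d L181343) (flp_a L181325) L211805
theorem L211809 : sm gb N27339 = N27067 := ded_14_1 L209685 L181331 L211805
theorem L211811 : sm gg N27339 = N27070 := ded_24_2 L209713 (flp_g L181329) L211805
theorem L211813 : sm gf N23218 = N27340 := rfl
theorem L211815 : sm ga N27340 = N23221 := ded_11_1 (flp_f L181345) (flp_a L181325) L211813
theorem L211817 : sm gc N27340 = N23219 := ded_20_1 (flp_f L181333) L181323 L211813
theorem L211819 : sm ge N27340 = N23553 := ded_25_1 (flp_f L183589) (flp_e L181327) L211813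
theorem L211821 : sm gg N27340 = N25015 := ded_29_3 (flp_a L209177) L209181 (flp_g L181329) L211813
theorem L211823 : sm gb N27340 = N25073 := ded_31_2 (flp_g L194983) (flp_f L182327) (flp_b L182323) (flp_g L145392) (flp_f L144873) (flp_b L104129) (flp_g L89188) (flp_f L89106) (flp_b L102571) L129968 (flp_f L130188) L179001 (flp_g L181329) L211813
theorem L211825 : sm gc N23220 = N27341 := rfl
theorem L211827 : sm ge N23220 = N27342 := rfl
theorem L211829 : sm gd N27342 = N23554 := ded_22_1 (flp_e L183601) (flp_d L152012) (flp_e L144831) L181343 L211827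
theorem L211831 : sm gf N23220 = N27343 := rfl
theorem L211833 : sm gd N27343 = N23221 := ded_23_1 (flp_f L181345) L181343 L211831
theorem L211835 : sm gb N23221 = N27344 := rfl
theorem L211837 : sm ge N27344 = N23555 := ded_15_2 (flp_b L183603) (flp_e L181349) L211835
theorem L211839 : sm gc N27344 = N25239 := ded_13_2 L196458 L165550 (flp_b L144837) (flp_c L181347) L211835
theorem L211841 : sm ga N27344 = N23345 := ded_30_3 (flp_f L210067) (flp_c L210071) (flp_b L210083) L210075 L180791 (flp_c L176127) L124125 (flp_a L99441) (flp_f L109604) (flp_c L109610) (flp_b L113438) (flp_a L164238) L195608 L195612 (flp_b L181315) (flp_a L144825) L144833 (flp_c L181347) L211835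
theorem L211843 : sm ga N23222 = N27345 := rfl
theorem L211845 : sm gd N27345 = N23556 := ded_9_2 (flp_a L183609) (flp_d L181353) L211843
theorem L211847 : sm ge N27345 = N23224 := ded_10_2 (flp_a L181369) (flp_e L181355) L211843
theorem L211849 : sm gg N27345 = N23346 := ded_12_2 (flp_a L182225) (flp_g L181357) L211843
theorem L211851 : sm gc N23222 = N27346 := rfl
theorem L211853 : sm ge N27346 = N23225 := ded_19_2 (flp_c L181375) (flp_e L181355) L211851
theorem L211855 : sm gg N27346 = N23347 := ded_21_2 (flp_c L182233) (flp_g L181357) L211851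
theorem L211857 : sm gf N23222 = N27347 := rfl
theorem L211859 : sm gd N27347 = N23557 := ded_23_1 (flp_f L183621) (flp_d L181353) L211857
theorem L211861 : sm ge N27347 = N23226 := ded_25_1 (flp_f L181379) (flp_e L181355) L211857
theorem L211863 : sm gg N27347 = N23648 := ded_29_3 L184298 (flp_f L182237) (flp_g L181357) L211857
theorem L211865 : sm gb N23223 = N27348 := rfl
theorem L211867 : sm gd N27348 = N23558 := ded_14_2 (flp_b L183623) (flp_d L181363) L211865
theorem L211869 : sm ge N27348 = N23227 := ded_15_2 (flp_b L181383) (flp_e L181365) L211865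
theorem L211871 : sm gg N27348 = N24042 := ded_17_2 (flp_b L187585) (flp_g L156352) (flp_b L156330) (flp_g L181367) L211865
theorem L211873 : sm gb N23224 = N27349 := rfl
theorem L211875 : sm gd N27349 = N23228 := ded_14_2 (flp_b L181387) (flp_d L181371) L211873
theorem L211877 : sm gg N27349 = N25102 := ded_17_2 L195247 L182259 (flp_b L182249) (flp_g L181373) L211873
theorem L211879 : sm gc N23224 = N27350 := rfl
theorem L211881 : sm ga N27350 = N23225 := ded_8_1 (flp_c L181375) L181369 L211879
theorem L211883 : sm gg N27350 = N23351 := ded_21_2 (flp_c L182261) (flp_g L181373) L211879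
theorem L211885 : sm gd N24076 = N27350 := ded_24_3 L211883 L187813 L187793
theorem L211887 : sm gd N23225 = N27351 := rfl
theorem L211889 : sm ga N27351 = N24076 := ded_9_1 L211885 L211881 L211887
theorem L211891 : sm gg N27351 = N23353 := ded_24_2 (flp_d L182273) (flp_g L181377) L211887
theorem L211893 : sm gc N24830 = N27351 := ded_8_0 L211889 L200103 (flp_a L200101)
theorem L211895 : sm ge N24326 = N27351 := ded_10_0 L211889 L187795 (flp_a L189537)
theorem L211897 : sm gb N27351 = N26222 := ded_15_1 L202943 L189541 L211895
theorem L211899 : sm gd N26222 = N25821 := ded_14_2 L200061 L211887 L211897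
theorem L211901 : sm ga N25821 = N26221 := ded_9_1 L202937 L202939 L211899
theorem L211903 : sm gc N26221 = N25820 := ded_8_2 (flp_a L200055) L200059 L211901
theorem L211905 : sm gf N23225 = N27352 := rfl
theorem L211907 : sm gc N27352 = N23226 := ded_20_1 (flp_f L181379) L181375 L211905
theorem L211909 : sm gb N23226 = N27353 := rfl
theorem L211911 : sm gd N27353 = N23232 := ded_14_2 (flp_b L181417) (flp_d L181381) L211909
theorem L211913 : sm gf N27353 = N23227 := ded_16_2 (flp_b L181383) (flp_f L144851) L144845 L181379 L211909
theorem L211915 : sm ga N23227 = N27354 := rfl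
theorem L211917 : sm gd N27354 = N23233 := ded_9_2 (flp_a L181423) (flp_d L181385) L211915
theorem L211919 : sm gc N23227 = N27355 := rfl
theorem L211921 : sm gg N23227 = N27356 := rfl
theorem L211923 : sm gd N27356 = N23235 := ded_24_1 (flp_g L181433) (flp_d L181385) L211921
theorem L211925 : sm ge N27356 = N24042 := ded_26_1 (flp_g L211871) L211869 L211921
theorem L211927 : sm gb N27356 = N24041 := ded_17_1 (flp_g L187575) L156348 (flp_g L144857) L181383 L211921
theorem L211929 : sm ga N23228 = N27357 := rfl
theorem L211931 : sm gc N27357 = N25101 := ded_8_2 L195235 L181393 L211929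
theorem L211933 : sm ge N27357 = N23560 := ded_10_2 (flp_a L183639) (flp_e L181389) L211929
theorem L211935 : sm gg N27357 = N25100 := ded_12_2 L195227 (flp_g L181391) L211929
theorem L211937 : sm gf N27357 = N25017 := ded_29_0 (flp_g L194454) (flp_f L162720) (flp_g L181391) L211929
theorem L211939 : sm gf N23228 = N27358 := rfl
theorem L211941 : sm ga N27358 = N25017 := ded_11_1 (flp_f L211937) (flp_a L211929) L211939
theorem L211943 : sm gc N27358 = N25103 := ded_20_1 (flp_f L195253) L181393 L211939
theorem L211945 : sm ge N27358 = N23561 := ded_25_1 (flp_f L183649) (flp_e L181389) L211939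
theorem L211947 : sm gg N27358 = N25016 := ded_29_3 (flp_a L194446) (flp_f L162720) (flp_g L181391) L211939
theorem L211949 : sm gd N23229 = N27359 := rfl
theorem L211951 : sm ga N27359 = N23230 := ded_9_1 (flp_d L181405) (flp_a L181397) L211949
theorem L211953 : sm gb N27359 = N26802 := ded_14_1 L207339 (flp_b L181403) L211949
theorem L211955 : sm gg N27359 = N23360 := ded_24_2 (flp_d L182307) (flp_g L181401) L211949
theorem L211957 : sm gc N27359 = N26355 := ded_28_6 L203757 L200101 (flp_c L200103) L211885 (flp_c L211879) L181371 L181395 L211949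
theorem L211959 : sm gc N23230 = N27360 := rfl
theorem L211961 : sm ga N27360 = N26355 := ded_8_1 (flp_c L211957) L211951 L211959
theorem L211963 : sm gg N27360 = N23363 := ded_21_2 (flp_c L182329) (flp_g L181409) L211959
theorem L211965 : sm gb N27360 = N25820 := ded_13_1 (flp_c L211903) (flp_b L202935) L170492 (flp_b L181407) L211959
theorem L211967 : sm gd N27360 = N25827 := ded_28_7 (flp_a L200101) L211893 (flp_d L211887) (flp_c L181375) L144847 L144865 L181405 L211959
theorem L211969 : sm ge N23230 = N27361 := rfl
theorem L211971 : sm gb N27361 = N23242 := ded_15_1 (flp_e L181479) (flp_b L181407) L211969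
theorem L211973 : sm gg N27361 = N23364 := ded_26_2 (flp_e L182331) (flp_g L181409) L211969
theorem L211975 : sm gd N27361 = N23314 := ded_22_1 L181973 (flp_d L152068) (flp_e L144867) L181405 L211969
theorem L211977 : sm gf N23230 = N27362 := rfl
theorem L211979 : sm gd N27362 = N23231 := ded_23_1 (flp_f L181411) L181405 L211977
theorem L211981 : sm gb N23231 = N27363 := rfl
theorem L211983 : sm ge N27363 = N23565 := ded_15_2 (flp_b L183687) (flp_e L181415) L211981
theorem L211985 : sm gf N27363 = N23244 := ded_16_2 (flp_b L181497) (flp_f L144897) (flp_b L144871) L181411 L211981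
theorem L211987 : sm ga N23232 = N27364 := rfl
theorem L211989 : sm ge N27364 = N23566 := ded_10_2 (flp_a L183693) (flp_e L181419) L211987
theorem L211991 : sm gf N27364 = N23233 := ded_11_2 (flp_a L181423) (flp_f L181421) L211987
theorem L211993 : sm gc N23232 = N27365 := rfl
theorem L211995 : sm ge N27365 = N23567 := ded_19_2 (flp_c L183697) (flp_e L181419) L211993
theorem L211997 : sm gf N27365 = N23234 := ded_20_2 (flp_c L181427) (flp_f L181421) L211993
theorem L211999 : sm gg N23232 = N27366 := rfl
theorem L212001 : sm ge N27366 = N23568 := ded_26_1 (flp_g L183703) (flp_e L181419) L211999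
theorem L212003 : sm gb N23233 = N27367 := rfl
theorem L212005 : sm ge N27367 = N23569 := ded_15_2 (flp_b L183705) (flp_e L181425) L212003
theorem L212007 : sm ga N27367 = N26623 := ded_7_1 L205832 (flp_a L206040) (flp_b L206046) (flp_a L180727) (flp_b L144419) (flp_a L104137) L144877 L181423 L212003
theorem L212009 : sm gg N26619 = N27367 := ded_26_0 L212005 (flp_g L183711) L205802
theorem L212011 : sm gc N23233 = N27368 := rfl
theorem L212013 : sm ga N27368 = N23234 := ded_8_1 (flp_c L181427) L181423 L212011
theorem L212015 : sm ge N27368 = N23570 := ded_19_2 (flp_c L183713) (flp_e L181425) L212011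
theorem L212017 : sm gg N23233 = N27369 := rfl
theorem L212019 : sm ga N27369 = N23235 := ded_12_1 (flp_g L181433) L181423 L212017
theorem L212021 : sm ge N27369 = N23571 := ded_26_1 (flp_g L183717) (flp_e L181425) L212017
theorem L212023 : sm gf N27369 = N27366 := ded_29_2 (flp_g L211999) L211987 L211991 L212017
theorem L212025 : sm gd N23234 = N27370 := rfl
theorem L212027 : sm gb N27370 = N23250 := ded_14_1 (flp_d L181543) (flp_b L181431) L212025
theorem L212029 : sm gg N23234 = N27371 := rfl
theorem L212031 : sm gc N27371 = N23235 := ded_21_1 (flp_g L181433) L181427 L212029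
theorem L212033 : sm ge N27371 = N23572 := ded_26_1 (flp_g L183725) (flp_e L181429) L212029
theorem L212035 : sm gb N23319 = N27371 := ded_13_5 L212031 L181437 (flp_c L177725) (flp_b L177731) L182007
theorem L212037 : sm gf N23235 = N27372 := rfl
theorem L212039 : sm ga N27372 = N27366 := ded_11_1 (flp_f L212023) L212019 L212037
theorem L212041 : sm ge N27372 = N23573 := ded_25_1 (flp_f L183731) (flp_e L181435) L212037
theorem L212043 : sm gg N27372 = N27364 := ded_29_3 (flp_a L211987) L181421 L181433 L212037
theorem L212045 : sm gc N23236 = N27373 := rfl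
theorem L212047 : sm ga N27373 = N23237 := ded_8_1 (flp_c L181445) L181439 L212045
theorem L212049 : sm ge N27373 = N23574 := ded_19_2 (flp_c L183739) (flp_e L181441) L212045
theorem L212051 : sm gf N27373 = N26906 := ded_20_2 L208209 L181443 L212045
theorem L212053 : sm gb N23237 = N27374 := rfl
theorem L212055 : sm ge N27374 = N23575 := ded_15_2 (flp_b L183745) (flp_e L181447) L212053
theorem L212057 : sm gc N27374 = N23240 := ded_13_2 (flp_b L181463) (flp_c L144885) L144881 L181445 L212053
theorem L212059 : sm gf N23712 = N27374 := ded_25_0 L212055 (flp_f L183749) L184768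
theorem L212061 : sm gd N23237 = N27375 := rfl
theorem L212063 : sm gf N23237 = N27376 := rfl
theorem L212065 : sm ga N27376 = N26906 := ded_11_1 (flp_f L212051) L212047 L212063
theorem L212067 : sm gc N27376 = N23238 := ded_20_1 (flp_f L181449) L181445 L212063
theorem L212069 : sm ge N27376 = N23577 := ded_25_1 (flp_f L183757) (flp_e L181447) L212063
theorem L212071 : sm gg N27249 = N27376 := ded_12_0 L212065 L208211 (flp_a L211101)
theorem L212073 : sm gg N23237 = N27377 := rfl
theorem L212075 : sm gc N27377 = N23239 := ded_21_1 (flp_g L181457) L181445 L212073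
theorem L212077 : sm ge N27377 = N23578 := ded_26_1 (flp_g L183765) (flp_e L181447) L212073
theorem L212079 : sm gf N26842 = N27377 := ded_29_0 (flp_g L212073) L212063 (flp_g L212071) L211101
theorem L212081 : sm ga N23240 = N27378 := rfl
theorem L212083 : sm ge N27378 = N23579 := ded_10_2 (flp_a L183771) (flp_e L181465) L212081
theorem L212085 : sm gf N27378 = N23706 := ded_11_2 L184732 (flp_f L181467) L212081
theorem L212087 : sm gg N27374 = N27378 := ded_29_3 (flp_a L212081) L181467 (flp_g L184772) L212059
theorem L212089 : sm gb N26687 = N27378 := ded_15_3 L212083 (flp_b L183779) (flp_e L206344)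
theorem L212091 : sm gd N23240 = N27379 := rfl
theorem L212093 : sm gb N27379 = N23241 := ded_14_1 (flp_d L181469) L181463 L212091
theorem L212095 : sm gf N27379 = N23423 := ded_23_2 L182697 (flp_f L181467) L212091
theorem L212097 : sm ge N27379 = N23304 := ded_22_2 (flp_d L181913) L145134 (flp_d L152116) (flp_e L181465) L212091
theorem L212099 : sm gg N23240 = N27380 := rfl
theorem L212101 : sm ga N27380 = N27374 := ded_12_1 L212087 (flp_a L212081) L212099
theorem L212103 : sm gc N27380 = N27378 := ded_21_1 (flp_g L212087) L212057 L212099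
theorem L212105 : sm ge N27380 = N23580 := ded_26_1 (flp_g L183781) (flp_e L181465) L212099
theorem L212107 : sm gb N27380 = N23259 := ded_17_1 (flp_g L181607) (flp_b L144945) (flp_g L144891) L181463 L212099
theorem L212109 : sm gb N23243 = N27381 := rfl
theorem L212111 : sm gd N27381 = N23244 := ded_14_2 (flp_b L181497) (flp_d L181493) L212109
theorem L212113 : sm ge N27381 = N23329 := ded_15_2 L182085 (flp_e L181495) L212109
theorem L212115 : sm gg N27381 = N26872 := ded_17_2 (flp_b L208329) L208331 L208199 L181627 L212109
theorem L212117 : sm ga N23244 = N27382 := rfl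
theorem L212119 : sm ge N27382 = N23581 := ded_10_2 (flp_a L183791) (flp_e L181499) L212117
theorem L212121 : sm gg N27382 = N26868 := ded_12_2 L207899 (flp_g L181501) L212117
theorem L212123 : sm gb N27382 = N25856 := ded_7_2 L200301 (flp_b L184896) L184894 L153359 L105795 (flp_b L105396) L151484 L181497 L212117
theorem L212125 : sm gc N23244 = N27383 := rfl
theorem L212127 : sm ge N27383 = N23582 := ded_19_2 (flp_c L183797) (flp_e L181499) L212125
theorem L212129 : sm gg N27383 = N26500 := ded_21_2 L204772 (flp_g L181501) L212125
theorem L212131 : sm gb N27383 = N23246 := ded_13_1 (flp_c L181511) (flp_b L144903) (flp_c L144899) L181497 L212125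
theorem L212133 : sm gc N23245 = N27384 := rfl
theorem L212135 : sm ga N27384 = N23246 := ded_8_1 (flp_c L181511) L181503 L212133
theorem L212137 : sm ge N27384 = N23583 := ded_19_2 (flp_c L183805) (flp_e L181505) L212133
theorem L212139 : sm gf N27384 = N23248 := ded_20_2 (flp_c L181527) (flp_f L181507) L212133
theorem L212141 : sm gg N27384 = N26506 := ded_21_2 L204821 L181557 L212133
theorem L212143 : sm gb N27384 = N23322 := ded_13_1 L182027 L145188 (flp_c L180817) L181509 L212133
theorem L212145 : sm gd N23246 = N27385 := rfl
theorem L212147 : sm gf N27385 = N23250 := ded_23_2 (flp_d L181543) (flp_f L181515) L212145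
theorem L212149 : sm gg N27385 = N25513 := ded_24_2 L198222 L181517 L212145
theorem L212151 : sm ge N27385 = N25515 := ded_22_2 L198230 L167504 (flp_d L153741) (flp_e L181513) L212145
theorem L212153 : sm gb N23248 = N27386 := rfl
theorem L212155 : sm ge N27386 = N23584 := ded_15_2 (flp_b L183817) (flp_e L181531) L212153
theorem L212157 : sm gc N27386 = N23309 := ded_13_2 L181945 (flp_c L177751) (flp_b L177757) L181527 L212153
theorem L212159 : sm gf N27386 = N23308 := ded_16_2 L181939 L182025 (flp_b L212143) L212139 L212153
theorem L212161 : sm gd N23248 = N27387 := rfl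
theorem L212163 : sm ga N27387 = N23250 := ded_9_1 (flp_d L181543) (flp_a L181529) L212161
theorem L212165 : sm gc N23250 = N27388 := rfl
theorem L212167 : sm gg N23250 = N27389 := rfl
theorem L212169 : sm gd N27389 = N23251 := ded_24_1 (flp_g L181545) L181543 L212167
theorem L212171 : sm gf N26455 = N27389 := ded_29_0 (flp_g L212167) (flp_f L212147) L212149 L204410
theorem L212173 : sm gc N27389 = N26458 := ded_20_1 (flp_f L204429) (flp_c L204408) L212171
theorem L212175 : sm gg N26458 = N27388 := ded_21_2 (flp_c L212165) L212167 L212173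
theorem L212177 : sm gb N23251 = N27390 := rfl
theorem L212179 : sm ge N27390 = N23585 := ded_15_2 (flp_b L183823) (flp_e L181549) L212177
theorem L212181 : sm gc N27390 = N23316 := ded_13_2 (flp_b L181989) L180709 (flp_b L144921) (flp_c L181547) L212177
theorem L212183 : sm gf N27390 = N26536 := ded_16_2 L205067 (flp_f L204415) (flp_b L204819) L204823 L212177
theorem L212185 : sm gg N27390 = N23319 := ded_17_2 L212035 (flp_g L212029) L181431 L181545 L212177
theorem L212187 : sm ga N27390 = N23317 := ded_30_3 (flp_f L181997) (flp_c L182001) L182005 (flp_a L180279) L180299 L180303 (flp_b L178969) (flp_a L162961) (flp_f L162967) L162919 L162969 (flp_a L179209) L179213 L180337 (flp_b L181525) (flp_a L181553) (flp_f L181551) (flp_c L181547) L212177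
theorem L212189 : sm gb N23255 = N27391 := rfl
theorem L212191 : sm ge N27391 = N23586 := ded_15_2 (flp_b L183835) (flp_e L181581) L212189
theorem L212193 : sm gf N27391 = N27334 := ded_16_2 (flp_b L211767) L211771 (flp_b L211781) L194803 L212189
theorem L212195 : sm gg N27391 = N26844 := ded_17_2 (flp_b L207682) (flp_g L175645) L144931 L181577 L212189
theorem L212197 : sm gb N23257 = N27392 := rfl
theorem L212199 : sm ge N27392 = N23587 := ded_15_2 (flp_b L183843) (flp_e L181597) L212197
theorem L212201 : sm gc N27392 = N23438 := ded_13_2 (flp_b L182803) L145678 L175601 (flp_c L181595) L212197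
theorem L212203 : sm ga N27392 = N23379 := ded_7_1 (flp_b L182421) (flp_a L145450) (flp_b L104411) L89338 (flp_b L89216) (flp_a L104171) L144945 L181593 L212197
theorem L212205 : sm gd N23257 = N27393 := rfl
theorem L212207 : sm ga N27393 = N23258 := ded_9_1 (flp_d L181601) L181593 L212205
theorem L212209 : sm gf N27393 = N26835 := ded_23_2 (flp_d L207628) (flp_f L181599) L212205
theorem L212211 : sm gc N23258 = N27394 := rfl
theorem L212213 : sm gf N27394 = N26840 := ded_20_2 (flp_c L207660) (flp_f L181605) L212211
theorem L212215 : sm ge N23258 = N27395 := rfl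
theorem L212217 : sm gb N27395 = N23260 := ded_15_1 (flp_e L181613) (flp_b L181603) L212215
theorem L212219 : sm gf N27395 = N26837 := ded_25_2 L207644 (flp_f L181605) L212215
theorem L212221 : sm gd N27395 = N23315 := ded_22_1 L181979 (flp_d L152226) (flp_e L144947) L181601 L212215
theorem L212223 : sm gg N23258 = N27396 := rfl
theorem L212225 : sm gd N27396 = N23259 := ded_24_1 (flp_g L181607) L181601 L212223
theorem L212227 : sm ge N23264 = N27397 := rfl
theorem L212229 : sm ga N27397 = N23272 := ded_10_1 (flp_e L181703) (flp_a L181647) L212227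
theorem L212231 : sm gb N27397 = N23395 := ded_15_1 (flp_e L182505) (flp_b L181649) L212227
theorem L212233 : sm gc N27397 = N24628 := ded_19_1 L193769 L193763 L212227
theorem L212235 : sm gd N27397 = N23591 := ded_22_1 (flp_e L183869) (flp_d L152262) (flp_e L145004) L181645 L212227
theorem L212237 : sm gg N24771 = N27397 := ded_12_0 L212229 (flp_g L194615) L194611
theorem L212239 : sm gf N25299 = N27397 := ded_16_0 L212231 L201710 (flp_b L201712) L197107 (flp_b L196925)
theorem L212241 : sm gf N23264 = N27398 := rfl
theorem L212243 : sm ga N27398 = N23273 := ded_11_1 (flp_f L181707) (flp_a L181647) L212241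
theorem L212245 : sm gd N27398 = N23265 := ded_23_1 (flp_f L181651) L181645 L212241
theorem L212247 : sm ge N27398 = N25299 := ded_25_1 L212239 (flp_e L212227) L212241
theorem L212249 : sm gb N25332 = N27398 := ded_14_3 L212245 (flp_b L181659) (flp_d L197119)
theorem L212251 : sm gg N23264 = N27399 := rfl
theorem L212253 : sm ga N27399 = N23274 := ded_12_1 (flp_g L181711) (flp_a L181647) L212251
theorem L212255 : sm gc N27399 = N24768 := ded_21_1 L193767 L193763 L212251
theorem L212257 : sm gd N27399 = N23266 := ded_24_1 (flp_g L181661) L181645 L212251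
theorem L212259 : sm ge N27399 = N24771 := ded_26_1 L212237 (flp_e L212227) L212251
theorem L212261 : sm gb N27399 = N24861 := ded_17_1 (flp_g L193287) L182531 (flp_g L182521) (flp_b L181649) L212251
theorem L212263 : sm gf N23268 = N27400 := rfl
theorem L212265 : sm ga N27400 = N23282 := ded_11_1 (flp_f L181773) (flp_a L181681) L212263
theorem L212267 : sm gd N27400 = N23269 := ded_23_1 (flp_f L181685) L181679 L212263
theorem L212269 : sm gg N23268 = N27401 := rfl
theorem L212271 : sm ga N27401 = N23283 := ded_12_1 (flp_g L181777) (flp_a L181681) L212269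
theorem L212273 : sm gd N27401 = N23270 := ded_24_1 (flp_g L181693) L181679 L212269
theorem L212275 : sm ge N23271 = N27402 := rfl
theorem L212277 : sm ga N27402 = N24628 := ded_10_1 L193769 (flp_a L193765) L212275
theorem L212279 : sm gc N27402 = N23272 := ded_19_1 (flp_e L181703) L181701 L212275
theorem L212281 : sm gg N27402 = N24758 := ded_26_2 L192639 L192207 L212275
theorem L212283 : sm gd N27402 = N24622 := ded_22_1 (flp_e L191732) (flp_d L159699) L191121 (flp_d L191131) L212275
theorem L212285 : sm gf N23272 = N27403 := rfl
theorem L212287 : sm ga N27403 = N25299 := ded_11_1 L212239 L212229 L212285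
theorem L212289 : sm gd N27403 = N23592 := ded_23_1 (flp_f L183881) (flp_d L181705) L212285
theorem L212291 : sm ge N27403 = N23273 := ded_25_1 (flp_f L181707) L181703 L212285
theorem L212293 : sm gb N23273 = N27404 := rfl
theorem L212295 : sm gd N27404 = N23275 := ded_14_2 (flp_b L181715) (flp_d L181709) L212293
theorem L212297 : sm gg N23273 = N27405 := rfl
theorem L212299 : sm gd N27405 = N23276 := ded_24_1 (flp_g L181719) (flp_d L181709) L212297
theorem L212301 : sm gf N27399 = N27405 := ded_29_0 (flp_g L212297) (flp_f L181707) L181711 (flp_a L212253)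
theorem L212303 : sm gf N23274 = N27406 := rfl
theorem L212305 : sm ga N27406 = N27405 := ded_11_1 (flp_f L212301) L212253 L212303
theorem L212307 : sm gd N27406 = N23277 := ded_23_1 (flp_f L181727) (flp_d L181713) L212303
theorem L212309 : sm gg N27406 = N27398 := ded_29_3 L212243 (flp_f L181707) L181711 L212303
theorem L212311 : sm gc N23275 = N27407 := rfl
theorem L212313 : sm ge N27407 = N23593 := ded_19_2 (flp_c L183889) (flp_e L181717) L212311
theorem L212315 : sm gb N27407 = N23279 := ded_13_1 (flp_c L181749) (flp_b L145042) (flp_c L145032) L181715 L212311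
theorem L212317 : sm gg N25074 = N27407 := ded_26_0 L212313 (flp_g L183895) (flp_e L194989)
theorem L212319 : sm gg N23275 = N27408 := rfl
theorem L212321 : sm ga N27408 = N27407 := ded_12_1 (flp_g L212317) (flp_a L194993) L212319
theorem L212323 : sm gc N27408 = N25074 := ded_21_1 L212317 (flp_c L212311) L212319
theorem L212325 : sm ge N27408 = N23594 := ded_26_1 (flp_g L183897) (flp_e L181717) L212319
theorem L212327 : sm gf N27408 = N26810 := ded_29_2 (flp_g L207407) L207393 L207397 L212319
theorem L212329 : sm gb N25072 = N27408 := ded_7_0 L212321 L212315 L181751 (flp_b L179197) L130302 L130324 L179237 L209943 (flp_a L209947)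
theorem L212331 : sm gb N23276 = N27409 := rfl
theorem L212333 : sm ge N27409 = N23595 := ded_15_2 (flp_b L183913) (flp_e L181723) L212331
theorem L212335 : sm gc N27409 = N25073 := ded_13_2 (flp_b L211823) L211817 L181341 (flp_c L181721) L212331
theorem L212337 : sm gf N27409 = N25088 := ded_16_2 (flp_b L195119) (flp_f L162613) (flp_b L181669) L181725 L212331
theorem L212339 : sm gg N27409 = N25072 := ded_17_2 L212329 (flp_g L212319) (flp_b L181715) L181719 L212331
theorem L212341 : sm gd N23279 = N27410 := rfl
theorem L212343 : sm ga N27410 = N27096 := ded_9_1 L209915 (flp_a L181751) L212341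
theorem L212345 : sm gf N27410 = N23294 := ded_23_2 (flp_d L181851) (flp_f L181755) L212341
theorem L212347 : sm gf N23281 = N27411 := rfl
theorem L212349 : sm gd N27411 = N23597 := ded_23_1 (flp_f L183929) (flp_d L181771) L212347
theorem L212351 : sm ge N27411 = N23282 := ded_25_1 (flp_f L181773) L181767 L212347
theorem L212353 : sm gb N23282 = N27412 := rfl
theorem L212355 : sm gd N27412 = N23284 := ded_14_2 (flp_b L181781) (flp_d L181775) L212353
theorem L212357 : sm gf N27412 = N23288 := ded_16_2 (flp_b L181813) (flp_f L145080) (flp_b L145064) L181773 L212353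
theorem L212359 : sm gg N23282 = N27413 := rfl
theorem L212361 : sm gd N27413 = N23285 := ded_24_1 (flp_g L181787) (flp_d L181775) L212359
theorem L212363 : sm gf N27401 = N27413 := ded_29_0 (flp_g L212359) (flp_f L181773) L181777 (flp_a L212271)
theorem L212365 : sm gf N23283 = N27414 := rfl
theorem L212367 : sm ga N27414 = N27413 := ded_11_1 (flp_f L212363) L212271 L212365
theorem L212369 : sm gd N27414 = N23286 := ded_23_1 (flp_f L181793) (flp_d L181779) L212365
theorem L212371 : sm gg N27414 = N27400 := ded_29_3 L212265 (flp_f L181773) L181777 L212365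
theorem L212373 : sm ga N23284 = N27415 := rfl
theorem L212375 : sm ge N27415 = N23600 := ded_10_2 (flp_a L183953) (flp_e L181783) L212373
theorem L212377 : sm gf N27415 = N23289 := ded_11_2 (flp_a L181817) (flp_f L181785) L212373
theorem L212379 : sm gb N27415 = N26779 := ded_7_2 (flp_a L207142) (flp_b L174896) (flp_a L123343) L175284 L207393 (flp_b L207399) L181687 L181781 L212373
theorem L212381 : sm gc N23284 = N27416 := rfl
theorem L212383 : sm ge N27416 = N23601 := ded_19_2 (flp_c L183961) (flp_e L181783) L212381
theorem L212385 : sm gf N27416 = N23290 := ded_20_2 (flp_c L181821) (flp_f L181785) L212381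
theorem L212387 : sm gg N23284 = N27417 := rfl
theorem L212389 : sm ge N27417 = N23602 := ded_26_1 (flp_g L183965) (flp_e L181783) L212387
theorem L212391 : sm gb N23285 = N27418 := rfl
theorem L212393 : sm ge N27418 = N23603 := ded_15_2 (flp_b L183967) (flp_e L181789) L212391
theorem L212395 : sm gb N23286 = N27419 := rfl
theorem L212397 : sm ge N27419 = N23604 := ded_15_2 (flp_b L183969) (flp_e L181799) L212395
theorem L212399 : sm gf N27419 = N24357 := ded_16_2 (flp_b L189777) (flp_f L158195) L157277 L181793 L212395
theorem L212401 : sm gg N27419 = N27416 := ded_31_3 L212385 L181825 L181853 (flp_f L209123) (flp_b L209525) (flp_g L209519) L178733 (flp_b L144511) L104234 (flp_f L104226) L104218 L145070 L181793 L212395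
theorem L212403 : sm gc N27417 = N27419 := ded_19_3 L212397 (flp_c L183977) (flp_e L212389)
theorem L212405 : sm gb N23287 = N27420 := rfl
theorem L212407 : sm gd N27420 = N23605 := ded_14_2 (flp_b L183979) (flp_d L181807) L212405
theorem L212409 : sm ge N27420 = N23288 := ded_15_2 (flp_b L181813) (flp_e L181809) L212405
theorem L212411 : sm ga N23288 = N27421 := rfl
theorem L212413 : sm gd N27421 = N23289 := ded_9_2 (flp_a L181817) (flp_d L181815) L212411
theorem L212415 : sm gc N23288 = N27422 := rfl
theorem L212417 : sm gg N23288 = N27423 := rfl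
theorem L212419 : sm gd N27423 = N23291 := ded_24_1 (flp_g L181827) (flp_d L181815) L212417
theorem L212421 : sm gb N27423 = N27244 := ded_17_1 (flp_g L211061) (flp_b L180831) L145086 L181813 L212417
theorem L212423 : sm gb N23289 = N27424 := rfl
theorem L212425 : sm ge N27424 = N23609 := ded_15_2 (flp_b L184011) (flp_e L181819) L212423
theorem L212427 : sm gg N23289 = N27425 := rfl
theorem L212429 : sm ga N27425 = N23291 := ded_12_1 (flp_g L181827) L181817 L212427
theorem L212431 : sm gc N27425 = N24357 := ded_21_1 (flp_g L207971) (flp_c L207975) L212427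
theorem L212433 : sm ge N27425 = N23610 := ded_26_1 (flp_g L184013) (flp_e L181819) L212427
theorem L212435 : sm gf N27425 = N27417 := ded_29_2 (flp_g L212387) L212373 L212377 L212427
theorem L212437 : sm gb N25086 = N27425 := ded_13_5 L212431 (flp_b L189777) (flp_c L177741) L182073 (flp_c L195101)
theorem L212439 : sm gd N23290 = N27426 := rfl
theorem L212441 : sm gb N27426 = N23294 := ded_14_1 (flp_d L181851) (flp_b L181825) L212439
theorem L212443 : sm gg N23290 = N27427 := rfl
theorem L212445 : sm ga N27427 = N24357 := ded_12_1 (flp_g L207971) (flp_a L207973) L212443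
theorem L212447 : sm gc N27427 = N23291 := ded_21_1 (flp_g L181827) L181821 L212443
theorem L212449 : sm ge N27427 = N23611 := ded_26_1 (flp_g L184025) (flp_e L181823) L212443
theorem L212451 : sm gf N23291 = N27428 := rfl
theorem L212453 : sm ga N27428 = N27417 := ded_11_1 (flp_f L212435) L212429 L212451
theorem L212455 : sm ge N27428 = N23612 := ded_25_1 (flp_f L184033) (flp_e L181829) L212451
theorem L212457 : sm gg N27428 = N27415 := ded_29_3 (flp_a L212373) L181785 L181827 L212451
theorem L212459 : sm gb N27428 = N24352 := ded_16_1 (flp_f L194563) L211097 (flp_f L211089) (flp_b L181831) L212451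
theorem L212461 : sm gd N23293 = N27429 := rfl
theorem L212463 : sm ga N27429 = N23294 := ded_9_1 (flp_d L181851) (flp_a L181843) L212461
theorem L212465 : sm gb N27429 = N27093 := ded_14_1 L209887 L181849 L212461
theorem L212467 : sm gf N27429 = N27096 := ded_23_2 L209915 (flp_f L181847) L212461
theorem L212469 : sm gc N23294 = N27430 := rfl
theorem L212471 : sm ge N23294 = N27431 := rfl
theorem L212473 : sm gd N27431 = N23613 := ded_22_1 (flp_e L184043) (flp_d L152450) (flp_e L145098) L181851 L212471
theorem L212475 : sm gg N23294 = N27432 := rfl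
theorem L212477 : sm gd N27432 = N23295 := ded_24_1 (flp_g L181853) L181851 L212475
theorem L212479 : sm gb N23295 = N27433 := rfl
theorem L212481 : sm ge N27433 = N23614 := ded_15_2 (flp_b L184045) (flp_e L181857) L212479
theorem L212483 : sm gc N27433 = N25191 := ded_13_2 L196045 L164929 (flp_b L145104) (flp_c L181855) L212479
theorem L212485 : sm ga N23403 = N27433 := ded_10_3 L212481 (flp_a L184049) (flp_e L182579)
theorem L212487 : sm ga N23296 = N27434 := rfl
theorem L212489 : sm gd N27434 = N23615 := ded_9_2 (flp_a L184051) (flp_d L181861) L212487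
theorem L212491 : sm ge N27434 = N23298 := ded_10_2 (flp_a L181877) (flp_e L181863) L212487
theorem L212493 : sm gf N27434 = N23405 := ded_11_2 (flp_a L182587) (flp_f L181865) L212487
theorem L212495 : sm gc N23296 = N27435 := rfl
theorem L212497 : sm ge N27435 = N23299 := ded_19_2 (flp_c L181883) (flp_e L181863) L212495
theorem L212499 : sm gf N27435 = N23406 := ded_20_2 (flp_c L182595) (flp_f L181865) L212495
theorem L212501 : sm gg N23296 = N27436 := rfl
theorem L212503 : sm gd N27436 = N23616 := ded_24_1 (flp_g L184063) (flp_d L181861) L212501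
theorem L212505 : sm ge N27436 = N23300 := ded_26_1 (flp_g L181887) (flp_e L181863) L212501
theorem L212507 : sm gf N23700 = N27436 := ded_29_0 (flp_g L212501) L181865 L182599 (flp_a L184674)
theorem L212509 : sm gb N23297 = N27437 := rfl
theorem L212511 : sm gd N27437 = N23617 := ded_14_2 (flp_b L184065) (flp_d L181871) L212509
theorem L212513 : sm ge N27437 = N23301 := ded_15_2 (flp_b L181891) (flp_e L181873) L212509
theorem L212515 : sm gf N27437 = N24094 := ded_16_2 (flp_b L187943) (flp_f L156599) (flp_b L156577) L181875 L212509
theorem L212517 : sm gb N23298 = N27438 := rfl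
theorem L212519 : sm gd N27438 = N23302 := ded_14_2 (flp_b L181895) (flp_d L181879) L212517
theorem L212521 : sm gf N27438 = N25070 := ded_16_2 L194961 L182619 (flp_b L182611) (flp_f L181881) L212517
theorem L212523 : sm gc N23298 = N27439 := rfl
theorem L212525 : sm ga N27439 = N23299 := ded_8_1 (flp_c L181883) L181877 L212523
theorem L212527 : sm gf N27439 = N23410 := ded_20_2 (flp_c L182623) (flp_f L181881) L212523
theorem L212529 : sm gd N24126 = N27439 := ded_23_3 L212527 L188159 L188133
theorem L212531 : sm gd N23299 = N27440 := rfl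
theorem L212533 : sm ga N27440 = N24126 := ded_9_1 L212529 L212525 L212531
theorem L212535 : sm gf N27440 = N23412 := ded_23_2 (flp_d L182635) (flp_f L181885) L212531
theorem L212537 : sm gc N24882 = N27440 := ded_8_0 L212533 L201760 (flp_a L201758)
theorem L212539 : sm ge N24379 = N27440 := ded_10_0 L212533 L188135 (flp_a L189961)
theorem L212541 : sm gb N25989 = N27440 := ded_30_2 L212533 (flp_f L188133) (flp_c L188097) (flp_b L188093) L156715 L160918 L180167 (flp_b L180155) L143881 (flp_f L143735) L105917 (flp_b L143679) L143677 (flp_f L169545) (flp_c L193817) L201780 L201772 L201796 L201800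
theorem L212543 : sm gd N26063 = N25989 := ded_14_0 L212541 (flp_d L212531) (flp_b L201734)
theorem L212545 : sm ga N25987 = N26063 := ded_9_3 L212543 (flp_a L201290) (flp_d L201282)
theorem L212547 : sm gc N26062 = N25987 := ded_8_0 L212545 (flp_c L201732) L201728
theorem L212549 : sm gg N23299 = N27441 := rfl
theorem L212551 : sm gc N27441 = N23300 := ded_21_1 (flp_g L181887) L181883 L212549
theorem L212553 : sm gb N23300 = N27442 := rfl
theorem L212555 : sm gd N27442 = N23306 := ded_14_2 (flp_b L181925) (flp_d L181889) L212553
theorem L212557 : sm gg N27442 = N23301 := ded_17_2 (flp_b L181891) (flp_g L145118) L145112 L181887 L212553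
theorem L212559 : sm ga N23301 = N27443 := rfl
theorem L212561 : sm gd N27443 = N23307 := ded_9_2 (flp_a L181931) (flp_d L181893) L212559
theorem L212563 : sm gc N23301 = N27444 := rfl
theorem L212565 : sm gf N23301 = N27445 := rfl
theorem L212567 : sm gd N27445 = N23309 := ded_23_1 (flp_f L181941) (flp_d L181893) L212565
theorem L212569 : sm ge N27445 = N24094 := ded_25_1 (flp_f L212515) L212513 L212565
theorem L212571 : sm gb N27445 = N24093 := ded_16_1 (flp_f L187933) L156595 L145124 L181891 L212565
theorem L212573 : sm ga N23302 = N27446 := rfl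
theorem L212575 : sm gc N27446 = N25069 := ded_8_2 L194949 L181901 L212573
theorem L212577 : sm ge N27446 = N23619 := ded_10_2 (flp_a L184081) (flp_e L181897) L212573
theorem L212579 : sm gf N27446 = N25068 := ded_11_2 L194941 (flp_f L181899) L212573
theorem L212581 : sm gg N25038 = N27446 := ded_29_3 (flp_a L212573) L181899 L162398 L194647
theorem L212583 : sm gg N23302 = N27447 := rfl
theorem L212585 : sm ga N27447 = N25038 := ded_12_1 L212581 (flp_a L212573) L212583
theorem L212587 : sm gc N27447 = N25071 := ded_21_1 (flp_g L194967) L181901 L212583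
theorem L212589 : sm ge N27447 = N23620 := ded_26_1 (flp_g L184091) (flp_e L181897) L212583
theorem L212591 : sm gf N25037 = N27447 := ded_29_0 (flp_g L212583) L181899 L162398 L194639
theorem L212593 : sm gd N23303 = N27448 := rfl
theorem L212595 : sm ga N27448 = N23304 := ded_9_1 (flp_d L181913) (flp_a L181905) L212593
theorem L212597 : sm gb N27448 = N26692 := ded_14_1 L206372 (flp_b L181911) L212593
theorem L212599 : sm gf N27448 = N23419 := ded_23_2 (flp_d L182669) (flp_f L181909) L212593
theorem L212601 : sm gc N27448 = N26430 := ded_28_6 L204257 L201758 (flp_c L201760) L212529 (flp_c L212523) L181879 L181903 L212593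
theorem L212603 : sm gc N23304 = N27449 := rfl
theorem L212605 : sm ga N27449 = N26430 := ded_8_1 (flp_c L212601) L212595 L212603
theorem L212607 : sm gf N27449 = N23422 := ded_20_2 (flp_c L182691) (flp_f L181917) L212603
theorem L212609 : sm gb N27449 = N26062 := ded_13_1 L212547 (flp_b L201280) L169475 (flp_b L181915) L212603
theorem L212611 : sm gd N27449 = N26067 := ded_28_7 (flp_a L201758) L212537 (flp_d L212531) (flp_c L181883) L145114 L145132 L181913 L212603
theorem L212613 : sm gg N23304 = N27450 := rfl
theorem L212615 : sm gd N27450 = N23305 := ded_24_1 (flp_g L181919) L181913 L212613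
theorem L212617 : sm gb N23305 = N27451 := rfl
theorem L212619 : sm ge N27451 = N23590 := ded_15_2 L183867 (flp_e L181923) L212617
theorem L212621 : sm gg N27451 = N23315 := ded_17_2 (flp_b L181977) (flp_g L145164) (flp_b L145138) L181919 L212617
theorem L212623 : sm ga N23306 = N27452 := rfl
theorem L212625 : sm ge N27452 = N23621 := ded_10_2 (flp_a L184101) (flp_e L181927) L212623
theorem L212627 : sm gg N27452 = N23307 := ded_12_2 (flp_a L181931) (flp_g L181929) L212623
theorem L212629 : sm gc N23306 = N27453 := rfl
theorem L212631 : sm ge N27453 = N23622 := ded_19_2 (flp_c L184105) (flp_e L181927) L212629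
theorem L212633 : sm gg N27453 = N23308 := ded_21_2 (flp_c L181935) (flp_g L181929) L212629
theorem L212635 : sm gf N23306 = N27454 := rfl
theorem L212637 : sm ge N27454 = N23623 := ded_25_1 (flp_f L184111) (flp_e L181927) L212635
theorem L212639 : sm gb N23307 = N27455 := rfl
theorem L212641 : sm ge N27455 = N23624 := ded_15_2 (flp_b L184113) (flp_e L181933) L212639
theorem L212643 : sm ga N27455 = N26765 := ded_7_1 L207049 (flp_a L207223) (flp_b L207229) (flp_a L180835) (flp_b L144511) (flp_a L104258) L145144 L181931 L212639
theorem L212645 : sm gf N26762 = N27455 := ded_25_0 L212641 (flp_f L184119) L207025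
theorem L212647 : sm gc N23307 = N27456 := rfl
theorem L212649 : sm ga N27456 = N23308 := ded_8_1 (flp_c L181935) L181931 L212647
theorem L212651 : sm ge N27456 = N23625 := ded_19_2 (flp_c L184121) (flp_e L181933) L212647
theorem L212653 : sm gf N23307 = N27457 := rfl
theorem L212655 : sm ga N27457 = N23309 := ded_11_1 (flp_f L181941) L181931 L212653
theorem L212657 : sm ge N27457 = N23626 := ded_25_1 (flp_f L184125) (flp_e L181933) L212653
theorem L212659 : sm gg N27454 = N27457 := ded_29_1 (flp_f L212653) (flp_g L212627) (flp_a L212623) L212635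
theorem L212661 : sm gd N23308 = N27458 := rfl
theorem L212663 : sm gb N27458 = N23321 := ded_14_1 (flp_d L182023) (flp_b L181939) L212661
theorem L212665 : sm gg N23309 = N27459 := rfl
theorem L212667 : sm ga N27459 = N27454 := ded_12_1 L212659 L212655 L212665
theorem L212669 : sm ge N27459 = N23627 := ded_26_1 (flp_g L184133) (flp_e L181943) L212665
theorem L212671 : sm gf N27452 = N27459 := ded_29_0 (flp_g L212665) (flp_f L181941) (flp_g L181929) L212623
theorem L212673 : sm gc N23310 = N27460 := rfl
theorem L212675 : sm ga N27460 = N23311 := ded_8_1 (flp_c L181953) L181947 L212673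
theorem L212677 : sm ge N27460 = N23628 := ded_19_2 (flp_c L184141) (flp_e L181949) L212673
theorem L212679 : sm gg N27460 = N26923 := ded_21_2 L208357 L181951 L212673
theorem L212681 : sm gb N23311 = N27461 := rfl
theorem L212683 : sm ge N27461 = N23563 := ded_15_2 L183671 (flp_e L181955) L212681
theorem L212685 : sm gc N27461 = N23314 := ded_13_2 (flp_b L181971) (flp_c L145152) L145148 L181953 L212681
theorem L212687 : sm gg N23660 = N27461 := ded_26_0 L212683 L183669 L184392
theorem L212689 : sm gd N23311 = N27462 := rfl
theorem L212691 : sm gf N23311 = N27463 := rfl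
theorem L212693 : sm gc N27463 = N23312 := ded_20_1 (flp_f L181957) L181953 L212691
theorem L212695 : sm ge N27463 = N23630 := ded_25_1 (flp_f L184151) (flp_e L181955) L212691
theorem L212697 : sm gg N27463 = N26877 := ded_29_1 (flp_f L208359) (flp_g L212679) L212675 L212691
theorem L212699 : sm gg N23311 = N27464 := rfl
theorem L212701 : sm ga N27464 = N26923 := ded_12_1 (flp_g L212679) L212675 L212699
theorem L212703 : sm gc N27464 = N23313 := ded_21_1 (flp_g L181963) L181953 L212699
theorem L212705 : sm ge N27464 = N23631 := ded_26_1 (flp_g L184157) (flp_e L181955) L212699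
theorem L212707 : sm gf N27234 = N27464 := ded_29_0 (flp_g L212699) L212691 L212697 (flp_a L210993)
theorem L212709 : sm ga N23314 = N27465 := rfl
theorem L212711 : sm ge N27465 = N23562 := ded_10_2 L183661 (flp_e L181973) L212709
theorem L212713 : sm gg N27465 = N23654 := ded_12_2 L184356 (flp_g L181975) L212709
theorem L212715 : sm gf N27465 = N27461 := ded_29_0 (flp_g L212687) L184396 (flp_g L181975) L212709
theorem L212717 : sm gb N26667 = N27465 := ded_15_3 L212711 L183663 (flp_e L206174)
theorem L212719 : sm gf N23314 = N27466 := rfl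
theorem L212721 : sm ga N27466 = N27461 := ded_11_1 (flp_f L212715) (flp_a L212709) L212719
theorem L212723 : sm gc N27466 = N27465 := ded_20_1 L212715 L212685 L212719
theorem L212725 : sm ge N27466 = N23564 := ded_25_1 (flp_f L183677) (flp_e L181973) L212719
theorem L212727 : sm gb N27466 = N23330 := ded_16_1 (flp_f L182089) (flp_b L145208) (flp_f L145158) L181971 L212719
theorem L212729 : sm ga N23315 = N27467 := rfl
theorem L212731 : sm ge N27467 = N23588 := ded_10_2 L183851 (flp_e L181979) L212729
theorem L212733 : sm gf N27467 = N26833 := ded_11_2 L207614 (flp_f L181981) L212729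
theorem L212735 : sm gb N27467 = N26097 := ded_7_2 L201980 (flp_b L184504) L184502 L152926 L105594 (flp_b L105189) L151526 L181977 L212729
theorem L212737 : sm gc N23315 = N27468 := rfl
theorem L212739 : sm ge N27468 = N23589 := ded_19_2 (flp_c L183855) (flp_e L181979) L212737
theorem L212741 : sm gf N27468 = N26530 := ded_20_2 L205014 (flp_f L181981) L212737
theorem L212743 : sm gb N27468 = N23317 := ded_13_1 (flp_c L181991) (flp_b L145170) (flp_c L145166) L181977 L212737
theorem L212745 : sm gd N23317 = N27469 := rfl
theorem L212747 : sm gf N27469 = N25571 := ded_23_2 L198593 L181997 L212745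
theorem L212749 : sm gg N27469 = N23321 := ded_24_2 (flp_d L182023) (flp_g L181995) L212745
theorem L212751 : sm ge N27469 = N25572 := ded_22_2 L198597 L167746 (flp_d L155524) (flp_e L181993) L212745
theorem L212753 : sm gd N23319 = N27470 := rfl
theorem L212755 : sm ga N27470 = N23321 := ded_9_1 (flp_d L182023) (flp_a L182009) L212753
theorem L212757 : sm gc N23321 = N27471 := rfl
theorem L212759 : sm gf N23321 = N27472 := rfl
theorem L212761 : sm gd N27472 = N23322 := ded_23_1 (flp_f L182025) L182023 L212759
theorem L212763 : sm gg N27472 = N26440 := ded_29_3 (flp_a L204329) (flp_f L212747) L212749 L212759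
theorem L212765 : sm gc N26444 = N27472 := ded_21_3 L212763 L204327 L204348
theorem L212767 : sm gf N27471 = N26444 := ded_20_0 L212765 (flp_f L212759) L212757
theorem L212769 : sm gb N23326 = N27473 := rfl
theorem L212771 : sm ge N27473 = N23632 := ded_15_2 (flp_b L184165) (flp_e L182063) L212769
theorem L212773 : sm gf N27473 = N26880 := ded_16_2 (flp_b L207977) (flp_f L176045) L151427 L182059 L212769
theorem L212775 : sm gg N27473 = N27424 := ded_17_2 (flp_b L212423) L212427 (flp_b L212437) (flp_g L195107) L212769
theorem L212777 : sm gb N23328 = N27474 := rfl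
theorem L212779 : sm ge N27474 = N23633 := ded_15_2 (flp_b L184173) (flp_e L182079) L212777
theorem L212781 : sm gc N27474 = N23379 := ded_13_2 (flp_b L182421) (flp_c L145640) L176001 (flp_c L182077) L212777
theorem L212783 : sm ga N27474 = N23438 := ded_7_1 (flp_b L182803) (flp_a L145676) (flp_b L104518) L89404 (flp_b L89274) (flp_a L104292) L145208 L182075 L212777
theorem L212785 : sm gd N23328 = N27475 := rfl
theorem L212787 : sm ga N27475 = N23329 := ded_9_1 (flp_d L182083) L182075 L212785
theorem L212789 : sm gg N27475 = N26870 := ded_24_2 (flp_d L207913) (flp_g L182081) L212785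
theorem L212791 : sm gc N23329 = N27476 := rfl
theorem L212793 : sm gg N27476 = N26875 := ded_21_2 (flp_c L207945) (flp_g L182087) L212791
theorem L212795 : sm gf N23329 = N27477 := rfl
theorem L212797 : sm gd N27477 = N23330 := ded_23_1 (flp_f L182089) L182083 L212795
theorem L212799 : sm gb N23335 = N27478 := rfl
theorem L212801 : sm gd N27478 = N25485 := ded_14_2 (flp_b L198039) (flp_d L182137) L212799
theorem L212803 : sm ge N27478 = N23639 := ded_15_2 (flp_b L184226) (flp_e L182139) L212799
theorem L212805 : sm gf N27478 = N25900 := ded_16_2 L200615 L170740 (flp_b L145272) L182131 L212799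
theorem L212807 : sm gg N27478 = N25846 := ded_17_2 (flp_b L200229) (flp_g L168847) (flp_b L167375) (flp_g L182141) L212799
theorem L212809 : sm gb N23338 = N27479 := rfl
theorem L212811 : sm gd N27479 = N23339 := ded_14_2 (flp_b L182171) (flp_d L182169) L212809
theorem L212813 : sm ge N27479 = N25324 := ded_15_2 L200013 L200009 L212809
theorem L212815 : sm gg N27479 = N25327 := ded_17_2 L211593 (flp_g L211585) L181127 L182165 L212809
theorem L212817 : sm ga N26790 = N27479 := ded_9_3 L212811 (flp_a L182177) L207231
theorem L212819 : sm gb N23340 = N27480 := rfl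
theorem L212821 : sm gd N27480 = N24036 := ded_14_2 (flp_b L187537) (flp_d L182185) L212819
theorem L212823 : sm ge N27480 = N27041 := ded_15_2 (flp_b L209423) (flp_e L182187) L212819
theorem L212825 : sm gg N27480 = N27226 := ded_17_2 (flp_b L210941) (flp_g L180715) (flp_b L145294) L182181 L212819
theorem L212827 : sm gb N23342 = N27481 := rfl
theorem L212829 : sm gd N27481 = N23344 := ded_14_2 (flp_b L182215) (flp_d L182201) L212827
theorem L212831 : sm ge N27481 = N25813 := ded_15_2 (flp_b L199995) (flp_e L182203) L212827
theorem L212833 : sm gg N27481 = N25818 := ded_17_2 (flp_b L200041) (flp_g L168742) (flp_b L145320) L182197 L212827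
theorem L212835 : sm gb N23343 = N27482 := rfl
theorem L212837 : sm gd N27482 = N23345 := ded_14_2 (flp_b L182221) (flp_d L182211) L212835
theorem L212839 : sm ga N23344 = N27483 := rfl
theorem L212841 : sm gc N27483 = N26941 := ded_8_2 L208556 (flp_c L205211) L212839
theorem L212843 : sm ge N27483 = N23640 := ded_10_2 (flp_a L184230) (flp_e L182217) L212839
theorem L212845 : sm gg N27483 = N26555 := ded_12_2 (flp_a L205225) (flp_g L182219) L212839
theorem L212847 : sm gf N23344 = N27484 := rfl
theorem L212849 : sm ge N27484 = N23642 := ded_25_1 (flp_f L184240) (flp_e L182217) L212847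
theorem L212851 : sm gb N27484 = N26787 := ded_16_1 L207207 (flp_b L182171) L145330 L182215 L212847
theorem L212853 : sm gc N23346 = N27485 := rfl
theorem L212855 : sm ga N27485 = N23347 := ded_8_1 (flp_c L182233) L182225 L212853
theorem L212857 : sm ge N27485 = N23351 := ded_19_2 (flp_c L182261) (flp_e L182229) L212853
theorem L212859 : sm gb N24078 = N27485 := ded_15_3 L212857 L187811 L187827
theorem L212861 : sm gd N24328 = N27485 := ded_22_5 L212857 L187813 L156484 L158025 L189551
theorem L212863 : sm gd N23347 = N27486 := rfl
theorem L212865 : sm ga N27486 = N24328 := ded_9_1 L212861 L212855 L212863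
theorem L212867 : sm ge N27486 = N24324 := ded_22_2 (flp_d L189525) (flp_e L187821) (flp_d L182273) (flp_e L182235) L212863
theorem L212869 : sm gf N23347 = N27487 := rfl
theorem L212871 : sm gc N27487 = N23348 := ded_20_1 (flp_f L182237) L182233 L212869
theorem L212873 : sm ge N27487 = N23354 := ded_25_1 (flp_f L182275) (flp_e L182235) L212869
theorem L212875 : sm gb N23348 = N27488 := rfl
theorem L212877 : sm gd N27488 = N23649 := ded_14_2 (flp_b L184304) (flp_d L182239) L212875
theorem L212879 : sm ge N27488 = N23355 := ded_15_2 (flp_b L182279) (flp_e L182241) L212875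
theorem L212881 : sm gf N27488 = N23349 := ded_16_2 (flp_b L182243) (flp_f L145346) L145340 L182237 L212875
theorem L212883 : sm gg N23348 = N27489 := rfl
theorem L212885 : sm ga N27489 = N27347 := ded_12_1 L211863 L184298 L212883
theorem L212887 : sm gd N27489 = N23650 := ded_24_1 (flp_g L184312) (flp_d L182239) L212883
theorem L212889 : sm ge N27489 = N23356 := ded_26_1 (flp_g L182285) (flp_e L182241) L212883
theorem L212891 : sm gf N27345 = N27489 := ded_29_0 (flp_g L212883) (flp_f L182237) (flp_g L181357) L211843
theorem L212893 : sm gc N23349 = N27490 := rfl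
theorem L212895 : sm ge N27490 = N23358 := ded_19_2 (flp_c L182297) (flp_e L182247) L212893
theorem L212897 : sm gb N27490 = N27113 := ded_13_1 L210037 L179333 (flp_c L145350) L182243 L212893
theorem L212899 : sm gc N23350 = N27491 := rfl
theorem L212901 : sm ga N27491 = N24835 := ded_8_1 L193125 (flp_a L182255) L212899
theorem L212903 : sm ge N27491 = N24842 := ded_19_2 L193165 (flp_e L182253) L212899
theorem L212905 : sm gf N27491 = N24833 := ded_20_2 (flp_c L193115) L182257 L212899
theorem L212907 : sm gg N27491 = N25106 := ded_21_2 (flp_c L195273) L182259 L212899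
theorem L212909 : sm gb N27491 = N24077 := ded_13_1 (flp_c L187797) (flp_b L187811) (flp_c L182261) L182249 L212899
theorem L212911 : sm gf N23351 = N27492 := rfl
theorem L212913 : sm ga N27492 = N23354 := ded_11_1 (flp_f L182275) (flp_a L182263) L212911
theorem L212915 : sm gc N27492 = N23352 := ded_20_1 (flp_f L182265) L182261 L212911
theorem L212917 : sm gd N27492 = N24075 := ded_23_1 (flp_f L187787) (flp_d L187813) L212911
theorem L212919 : sm gg N27352 = N27492 := ded_29_1 (flp_f L212911) (flp_g L211883) L211881 L211905
theorem L212921 : sm gb N26154 = N27492 := ded_14_3 L212917 (flp_b L187791) L202426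
theorem L212923 : sm gb N23352 = N27493 := rfl
theorem L212925 : sm gd N27493 = N23362 := ded_14_2 (flp_b L182323) (flp_d L182269) L212923
theorem L212927 : sm ge N27493 = N24838 := ded_15_2 L193147 L184302 L212923
theorem L212929 : sm gf N27493 = N24832 := ded_16_2 (flp_b L193109) L182257 (flp_b L182249) L182265 L212923
theorem L212931 : sm gf N23353 = N27494 := rfl
theorem L212933 : sm ga N27494 = N24075 := ded_11_1 (flp_f L187787) (flp_a L187817) L212931
theorem L212935 : sm gc N27494 = N24829 := ded_20_1 (flp_f L193095) (flp_c L187819) L212931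
theorem L212937 : sm gd N27494 = N23354 := ded_23_1 (flp_f L182275) L182273 L212931
theorem L212939 : sm ge N27494 = N24325 := ded_25_1 (flp_f L189529) (flp_e L187821) L212931
theorem L212941 : sm gb N23354 = N27495 := rfl
theorem L212943 : sm gg N23354 = N27496 := rfl
theorem L212945 : sm ga N27496 = N27352 := ded_12_1 L212919 L212913 L212943
theorem L212947 : sm gc N27496 = N23356 := ded_21_1 (flp_g L182285) (flp_c L182277) L212943
theorem L212949 : sm gf N27350 = N27496 := ded_29_0 (flp_g L212943) (flp_f L182275) (flp_g L181377) (flp_a L211881)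
theorem L212951 : sm ga N23355 = N27497 := rfl
theorem L212953 : sm gd N27497 = N23368 := ded_9_2 (flp_a L182357) (flp_d L182281) L212951
theorem L212955 : sm gf N27497 = N23357 := ded_11_2 (flp_a L182293) (flp_f L182283) L212951
theorem L212957 : sm gc N23355 = N27498 := rfl
theorem L212959 : sm gf N27498 = N23358 := ded_20_2 (flp_c L182297) (flp_f L182283) L212957
theorem L212961 : sm gg N23355 = N27499 := rfl
theorem L212963 : sm gd N27499 = N23369 := ded_24_1 (flp_g L182363) (flp_d L182281) L212961
theorem L212965 : sm gb N26199 = N27499 := ded_14_3 L212963 L183555 L202740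
theorem L212967 : sm gb N23356 = N27500 := rfl
theorem L212969 : sm gd N27500 = N23370 := ded_14_2 (flp_b L182367) (flp_d L182289) L212967
theorem L212971 : sm gg N27500 = N26199 := ded_17_2 L212965 (flp_g L212961) (flp_b L182279) L182285 L212967
theorem L212973 : sm gc N23357 = N27501 := rfl
theorem L212975 : sm ga N27501 = N23358 := ded_8_1 (flp_c L182297) L182293 L212973
theorem L212977 : sm gg N23357 = N27502 := rfl
theorem L212979 : sm ga N27502 = N23359 := ded_12_1 (flp_g L182301) L182293 L212977
theorem L212981 : sm gd N27502 = N23371 := ded_24_1 (flp_g L182371) (flp_d L182295) L212977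
theorem L212983 : sm gf N27502 = N27499 := ded_29_2 (flp_g L212961) L212951 L212955 L212977
theorem L212985 : sm gd N23358 = N27503 := rfl
theorem L212987 : sm gb N27503 = N25518 := ded_14_1 (flp_d L198250) (flp_b L182299) L212985
theorem L212989 : sm ge N25517 = N27503 := ded_15_0 L212987 (flp_e L198244) L198240
theorem L212991 : sm gg N23358 = N27504 := rfl
theorem L212993 : sm gc N27504 = N23359 := ded_21_1 (flp_g L182301) L182297 L212991
theorem L212995 : sm gf N23359 = N27505 := rfl
theorem L212997 : sm ga N27505 = N27499 := ded_11_1 (flp_f L212983) L212979 L212995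
theorem L212999 : sm gd N27505 = N23372 := ded_23_1 (flp_f L182379) (flp_d L182303) L212995
theorem L213001 : sm gg N27505 = N27497 := ded_29_3 (flp_a L212951) L182283 L182301 L212995
theorem L213003 : sm ge N23360 = N27506 := rfl
theorem L213005 : sm ga N27506 = N23364 := ded_10_1 (flp_e L182331) (flp_a L182309) L213003
theorem L213007 : sm gb N27506 = N26625 := ded_15_1 L205852 (flp_b L182311) L213003
theorem L213009 : sm gc N27506 = N26353 := ded_19_1 (flp_e L203745) L187823 L213003
theorem L213011 : sm gd N27506 = N23654 := ded_22_1 (flp_e L184354) (flp_d L152816) (flp_e L145384) L182307 L213003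
theorem L213013 : sm gf N23360 = N27507 := rfl
theorem L213015 : sm ga N27507 = N23365 := ded_11_1 (flp_f L182337) (flp_a L182309) L213013
theorem L213017 : sm gc N27507 = N26354 := ded_20_1 (flp_f L203751) L187823 L213013
theorem L213019 : sm gd N27507 = N23361 := ded_23_1 (flp_f L182313) L182307 L213013
theorem L213021 : sm gg N27362 = N27507 := ded_29_1 (flp_f L213013) (flp_g L211955) L211951 L211977
theorem L213023 : sm gb N23361 = N27508 := rfl
theorem L213025 : sm ge N27508 = N23655 := ded_15_2 (flp_b L184360) (flp_e L182319) L213023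
theorem L213027 : sm gf N27508 = N26808 := ded_16_2 (flp_b L207385) (flp_f L175270) (flp_b L150861) L182313 L213023
theorem L213029 : sm ga N23362 = N27509 := rfl
theorem L213031 : sm ge N27509 = N23656 := ded_10_2 (flp_a L184366) (flp_e L182325) L213029
theorem L213033 : sm gf N27509 = N24321 := ded_11_2 L189507 (flp_f L182327) L213029
theorem L213035 : sm gb N27509 = N27199 := ded_7_2 L210751 L202186 (flp_a L202274) (flp_b L202278) (flp_a L182357) (flp_b L145404) (flp_a L145388) L182323 L213029
theorem L213037 : sm gc N23362 = N27510 := rfl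
theorem L213039 : sm ge N27510 = N23657 := ded_19_2 (flp_c L184374) (flp_e L182325) L213037
theorem L213041 : sm gf N27510 = N25072 := ded_20_2 (flp_c L194979) (flp_f L182327) L213037
theorem L213043 : sm gg N23362 = N27511 := rfl
theorem L213045 : sm ge N27511 = N23658 := ded_26_1 (flp_g L184378) (flp_e L182325) L213043
theorem L213047 : sm gb N27511 = N27366 := ded_17_1 (flp_g L211999) (flp_b L181417) L145392 L182323 L213043
theorem L213049 : sm ge N23363 = N27512 := rfl
theorem L213051 : sm ga N27512 = N26353 := ded_10_1 (flp_e L203745) (flp_a L187805) L213049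
theorem L213053 : sm gc N27512 = N23364 := ded_19_1 (flp_e L182331) L182329 L213049
theorem L213055 : sm gf N23363 = N27513 := rfl
theorem L213057 : sm ga N27513 = N26354 := ded_11_1 (flp_f L203751) (flp_a L187805) L213055
theorem L213059 : sm gc N27513 = N23365 := ded_20_1 (flp_f L182337) L182329 L213055
theorem L213061 : sm gf N23364 = N27514 := rfl
theorem L213063 : sm gd N27514 = N23660 := ded_23_1 L184396 (flp_d L182335) L213061
theorem L213065 : sm ge N27514 = N23365 := ded_25_1 (flp_f L182337) L182331 L213061
theorem L213067 : sm gb N23365 = N27515 := rfl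
theorem L213069 : sm gd N27515 = N23366 := ded_14_2 (flp_b L182341) (flp_d L182339) L213067
theorem L213071 : sm gf N27515 = N23374 := ded_16_2 L182393 L145436 (flp_b L145396) L182337 L213067
theorem L213073 : sm gg N23365 = N27516 := rfl
theorem L213075 : sm ga N27516 = N27362 := ded_12_1 L213021 L213015 L213073
theorem L213077 : sm gd N27516 = N23367 := ded_24_1 (flp_g L182347) (flp_d L182339) L213073
theorem L213079 : sm gf N27359 = N27516 := ded_29_0 (flp_g L213073) (flp_f L182337) (flp_g L181409) (flp_a L211951)
theorem L213081 : sm ga N23366 = N27517 := rfl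
theorem L213083 : sm ge N27517 = N23661 := ded_10_2 (flp_a L184398) (flp_e L182343) L213081
theorem L213085 : sm gf N27517 = N23373 := ded_11_2 (flp_a L182387) (flp_f L182345) L213081
theorem L213087 : sm gb N27238 = N27517 := ded_30_2 (flp_a L213081) L182345 (flp_c L145656) (flp_b L145652) L104506 L89400 (flp_c L38896) (flp_b L18477) L8969 (flp_f L8959) (flp_c L15812) L32848 L88100 L102146 L102150 L128986 L178053 L180767 (flp_c L211025)
theorem L213089 : sm gg N23366 = N27518 := rfl
theorem L213091 : sm ge N27518 = N23662 := ded_26_1 (flp_g L184404) (flp_e L182343) L213089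
theorem L213093 : sm gb N23367 = N27519 := rfl
theorem L213095 : sm ge N27519 = N23629 := ded_15_2 L184149 (flp_e L182353) L213093
theorem L213097 : sm gc N27519 = N26189 := ded_13_2 L202637 (flp_c L183551) (flp_b L182367) (flp_c L182351) L213093
theorem L213099 : sm gf N23370 = N27520 := rfl
theorem L213101 : sm gc N27520 = N26193 := ded_20_1 (flp_f L202677) (flp_c L183551) L213099
theorem L213103 : sm ge N27520 = N23664 := ded_25_1 (flp_f L184418) (flp_e L182369) L213099
theorem L213105 : sm gb N27520 = N27358 := ded_16_1 (flp_f L211939) (flp_b L181387) L145416 L182367 L213099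
theorem L213107 : sm gb N23371 = N27521 := rfl
theorem L213109 : sm ge N27521 = N23665 := ded_15_2 (flp_b L184422) (flp_e L182375) L213107
theorem L213111 : sm gg N27521 = N26845 := ded_17_2 (flp_b L207690) L175657 (flp_b L175601) L182371 L213107
theorem L213113 : sm ga N27327 = N27521 := ded_10_3 L213109 (flp_a L184428) (flp_e L211733)
theorem L213115 : sm gc N27326 = N27521 := ded_19_3 L213109 (flp_c L184430) (flp_e L211725)
theorem L213117 : sm gb N23372 = N27522 := rfl
theorem L213119 : sm ge N27522 = N23666 := ded_15_2 (flp_b L184432) (flp_e L182383) L213117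
theorem L213121 : sm gf N27522 = N23455 := ded_16_2 (flp_b L182901) (flp_f L145734) (flp_b L145426) L182379 L213117
theorem L213123 : sm gg N23373 = N27523 := rfl
theorem L213125 : sm ga N27523 = N23375 := ded_12_1 (flp_g L182395) L182387 L213123
theorem L213127 : sm ge N27523 = N23668 := ded_26_1 (flp_g L184444) (flp_e L182389) L213123
theorem L213129 : sm gf N27523 = N27518 := ded_29_2 (flp_g L213089) L213081 L213085 L213123
theorem L213131 : sm ge N23374 = N27524 := rfl
theorem L213133 : sm gb N27524 = N23376 := ded_15_1 (flp_e L182401) (flp_b L182393) L213131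
theorem L213135 : sm gd N27524 = N23669 := ded_22_1 (flp_e L184450) (flp_d L152880) (flp_e L145430) L182391 L213131
theorem L213137 : sm gg N23374 = N27525 := rfl
theorem L213139 : sm gd N27525 = N23375 := ded_24_1 (flp_g L182395) L182391 L213137
theorem L213141 : sm gb N27525 = N23386 := ded_17_1 (flp_g L182454) L145456 (flp_g L145438) (flp_b L182393) L213137
theorem L213143 : sm gf N23375 = N27526 := rfl
theorem L213145 : sm ga N27526 = N27518 := ded_11_1 (flp_f L213129) L213125 L213143
theorem L213147 : sm ge N27526 = N23670 := ded_25_1 (flp_f L184454) (flp_e L182397) L213143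
theorem L213149 : sm gg N27526 = N27517 := ded_29_3 (flp_a L213081) L182345 L182395 L213143
theorem L213151 : sm ge N23377 = N27527 := rfl
theorem L213153 : sm gb N27527 = N23378 := ded_15_1 (flp_e L182413) L182411 L213151
theorem L213155 : sm gd N27527 = N26313 := ded_22_1 (flp_e L203485) (flp_d L171419) (flp_e L182916) L182914 L213151
theorem L213157 : sm gf N23377 = N27528 := rfl
theorem L213159 : sm gg N23377 = N27529 := rfl
theorem L213161 : sm gb N27529 = N23392 := ded_17_1 (flp_g L182481) (flp_b L145474) (flp_g L145442) L182411 L213159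
theorem L213163 : sm gd N23379 = N27530 := rfl
theorem L213165 : sm gb N27530 = N23380 := ded_14_1 (flp_d L182425) L182421 L213163
theorem L213167 : sm ge N27530 = N26099 := ded_22_2 (flp_d L201998) (flp_e L184494) (flp_d L184488) (flp_e L182423) L213163
theorem L213169 : sm gf N23379 = N27531 := rfl
theorem L213171 : sm ge N27531 = N23675 := ded_25_1 (flp_f L184496) (flp_e L182423) L213169
theorem L213173 : sm gg N23379 = N27532 := rfl
theorem L213175 : sm ge N27532 = N23676 := ded_26_1 (flp_g L184498) (flp_e L182423) L213173
theorem L213177 : sm gb N25859 = N27532 := ded_15_3 L213175 (flp_b L207273) (flp_e L207277)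
theorem L213179 : sm gc N23380 = N27533 := rfl
theorem L213181 : sm ga N27533 = N23383 := ded_8_1 (flp_c L182441) (flp_a L182427) L213179
theorem L213183 : sm ge N23380 = N27534 := rfl
theorem L213185 : sm ga N27534 = N23384 := ded_10_1 (flp_e L182443) (flp_a L182427) L213183
theorem L213187 : sm gb N27534 = N26099 := ded_15_1 (flp_e L213167) L213165 L213183
theorem L213189 : sm gd N27534 = N23677 := ded_22_1 (flp_e L184500) (flp_d L152910) (flp_e L145452) L182425 L213183
theorem L213191 : sm gf N23380 = N27535 := rfl
theorem L213193 : sm ga N27535 = N23385 := ded_11_1 (flp_f L182449) (flp_a L182427) L213191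
theorem L213195 : sm gd N27535 = N23381 := ded_23_1 (flp_f L182429) L182425 L213191
theorem L213197 : sm gg N23380 = N27536 := rfl
theorem L213199 : sm ga N27536 = N23386 := ded_12_1 (flp_g L182454) (flp_a L182427) L213197
theorem L213201 : sm gd N27536 = N23382 := ded_24_1 (flp_g L182435) L182425 L213197
theorem L213203 : sm gb N23381 = N27537 := rfl
theorem L213205 : sm ge N27537 = N23678 := ded_15_2 (flp_b L184508) (flp_e L182433) L213203
theorem L213207 : sm ga N27537 = N26772 := ded_30_3 (flp_f L208114) L208112 L207150 L179121 (flp_f L130262) (flp_c L102683) (flp_b L88422) (flp_a L36843) (flp_f L36841) L17652 L17672 (flp_a L77407) (flp_f L77425) (flp_c L89378) L104498 L145638 L182745 L182749 L213203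
theorem L213209 : sm gc N26779 = N27537 := ded_19_3 L213205 (flp_c L184512) (flp_e L207144)
theorem L213211 : sm gg N26768 = N27537 := ded_26_0 L213205 (flp_g L184514) L207069
theorem L213213 : sm gb N23382 = N27538 := rfl
theorem L213215 : sm ge N27538 = N23679 := ded_15_2 (flp_b L184516) (flp_e L182439) L213213
theorem L213217 : sm gc N27538 = N25860 := ded_13_2 (flp_b L200329) L200631 (flp_b L200637) L182723 L213213
theorem L213219 : sm gg N27538 = N25859 := ded_17_2 L213177 (flp_g L213173) (flp_b L182421) L182435 L213213
theorem L213221 : sm gd N23383 = N27539 := rfl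
theorem L213223 : sm ge N23383 = N27540 := rfl
theorem L213225 : sm gc N27540 = N23384 := ded_19_1 (flp_e L182443) L182441 L213223
theorem L213227 : sm gf N23383 = N27541 := rfl
theorem L213229 : sm gc N27541 = N23385 := ded_20_1 (flp_f L182449) L182441 L213227
theorem L213231 : sm gg N23383 = N27542 := rfl
theorem L213233 : sm gc N27542 = N23386 := ded_21_1 (flp_g L182454) L182441 L213231
theorem L213235 : sm gg N23385 = N27543 := rfl
theorem L213237 : sm gd N27543 = N23387 := ded_24_1 (flp_g L182458) (flp_d L182451) L213235
theorem L213239 : sm gf N27536 = N27543 := ded_29_0 (flp_g L213235) (flp_f L182449) L182454 (flp_a L213199)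
theorem L213241 : sm gf N23386 = N27544 := rfl
theorem L213243 : sm ga N27544 = N27543 := ded_11_1 (flp_f L213239) L213199 L213241
theorem L213245 : sm gd N27544 = N23388 := ded_23_1 (flp_f L182464) (flp_d L182456) L213241
theorem L213247 : sm gg N27544 = N27535 := ded_29_3 L213193 (flp_f L182449) L182454 L213241
theorem L213249 : sm gb N23387 = N27545 := rfl
theorem L213251 : sm ge N27545 = N23680 := ded_15_2 (flp_b L184518) (flp_e L182460) L213249
theorem L213253 : sm gg N27545 = N27545 := ded_17_2 (flp_b L213249) (flp_g L182458) L145462 L182458 L213249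
theorem L213254 : sm gb N23389 = N27546 := rfl
theorem L213256 : sm ge N23389 = N27547 := rfl
theorem L213258 : sm ga N27547 = N23390 := ded_10_1 (flp_e L182474) L182472 L213256
theorem L213260 : sm gc N27547 = N25554 := ded_19_1 (flp_e L202850) (flp_c L202852) L213256
theorem L213262 : sm gf N23389 = N27548 := rfl
theorem L213264 : sm ga N27548 = N23391 := ded_11_1 (flp_f L182478) L182472 L213262
theorem L213266 : sm gg N23389 = N27549 := rfl
theorem L213268 : sm ga N27549 = N23392 := ded_12_1 (flp_g L182481) L182472 L213266
theorem L213270 : sm gc N27549 = N25869 := ded_21_1 (flp_g L202848) (flp_c L202852) L213266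
theorem L213272 : sm gf N23390 = N27550 := rfl
theorem L213274 : sm gc N27550 = N25927 := ded_20_1 (flp_f L202876) L202870 L213272
theorem L213276 : sm ge N27550 = N23391 := ded_25_1 (flp_f L182478) L182474 L213272
theorem L213278 : sm gb N27550 = N27550 := ded_16_1 (flp_f L213272) L182476 L145480 (flp_b L182476) L213272
theorem L213279 : sm gg N25924 = N27550 := ded_21_0 L213274 (flp_g L200837) L200817
theorem L213281 : sm gg N23390 = N27551 := rfl
theorem L213283 : sm gc N27551 = N24471 := ded_21_1 L202874 L202870 L213281
theorem L213285 : sm ge N27551 = N23392 := ded_26_1 (flp_g L182481) L182474 L213281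
theorem L213287 : sm gg N23391 = N27552 := rfl
theorem L213289 : sm gc N27552 = N25925 := ded_21_1 (flp_g L202886) L202880 L213287
theorem L213291 : sm ge N27552 = N25924 := ded_26_1 L213279 L213276 L213287
theorem L213293 : sm gf N27549 = N27552 := ded_29_0 (flp_g L213287) (flp_f L182478) L182481 (flp_a L213268)
theorem L213295 : sm gf N23392 = N27553 := rfl
theorem L213297 : sm ga N27553 = N27552 := ded_11_1 (flp_f L213293) L213268 L213295
theorem L213299 : sm gg N27553 = N27548 := ded_29_3 L213264 (flp_f L182478) L182481 L213295
theorem L213301 : sm gb N23393 = N27554 := rfl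
theorem L213303 : sm gd N27554 = N25543 := ded_14_2 (flp_b L198396) (flp_d L182487) L213301
theorem L213305 : sm ge N27554 = N23690 := ded_15_2 (flp_b L184593) (flp_e L182489) L213301
theorem L213307 : sm gf N27554 = N26089 := ded_16_2 (flp_b L201922) (flp_f L169868) (flp_b L167625) L182491 L213301
theorem L213309 : sm gg N27554 = N26134 := ded_17_2 L202250 (flp_g L171079) (flp_b L145497) L182483 L213301
theorem L213311 : sm gb N23396 = N27555 := rfl
theorem L213313 : sm gd N27555 = N23398 := ded_14_2 (flp_b L182533) (flp_d L182519) L213311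
theorem L213315 : sm ge N27555 = N25329 := ded_15_2 L201712 L201708 L213311
theorem L213317 : sm gf N27555 = N25332 := ded_16_2 L212249 (flp_f L212241) L181649 L182515 L213311
theorem L213319 : sm ga N26655 = N27555 := ded_9_3 L213313 (flp_a L182539) L206074
theorem L213321 : sm gb N23399 = N27556 := rfl
theorem L213323 : sm gd N27556 = N24089 := ded_14_2 (flp_b L187901) (flp_d L182547) L213321
theorem L213325 : sm ge N27556 = N27049 := ded_15_2 (flp_b L209495) (flp_e L182549) L213321
theorem L213327 : sm gf N27556 = N27241 := ded_16_2 (flp_b L211049) (flp_f L180823) L150904 L182543 L213321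
theorem L213329 : sm gb N23401 = N27557 := rfl
theorem L213331 : sm gd N27557 = N23403 := ded_14_2 (flp_b L182577) (flp_d L182561) L213329
theorem L213333 : sm gb N23402 = N27558 := rfl
theorem L213335 : sm gd N27558 = N23404 := ded_14_2 (flp_b L182581) (flp_d L182571) L213333
theorem L213337 : sm ge N27558 = N26058 := ded_15_2 (flp_b L201694) (flp_e L182573) L213333
theorem L213339 : sm gf N27558 = N26061 := ded_16_2 (flp_b L201722) (flp_f L169753) L150406 L182565 L213333
theorem L213341 : sm ga N23404 = N27559 := rfl
theorem L213343 : sm gc N27559 = N26959 := ded_8_2 L208729 (flp_c L186313) L213341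
theorem L213345 : sm ge N27559 = N23693 := ded_10_2 (flp_a L184608) (flp_e L182583) L213341
theorem L213347 : sm gf N27559 = N26711 := ded_11_2 (flp_a L206544) (flp_f L182585) L213341
theorem L213349 : sm gg N23404 = N27560 := rfl
theorem L213351 : sm ge N27560 = N23695 := ded_26_1 (flp_g L184624) (flp_e L182583) L213349
theorem L213353 : sm gb N27560 = N26649 := ded_17_1 L206026 (flp_b L182533) (flp_g L145560) L182581 L213349
theorem L213355 : sm gc N23405 = N27561 := rfl
theorem L213357 : sm ga N27561 = N23406 := ded_8_1 (flp_c L182595) L182587 L213355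
theorem L213359 : sm ge N27561 = N23410 := ded_19_2 (flp_c L182623) (flp_e L182591) L213355
theorem L213361 : sm gb N24129 = N27561 := ded_15_3 L213359 L188157 L188173
theorem L213363 : sm gd N24382 = N27561 := ded_22_5 L213359 L188159 L156737 L158325 L189991
theorem L213365 : sm gd N23406 = N27562 := rfl
theorem L213367 : sm ga N27562 = N24382 := ded_9_1 L213363 L213357 L213365
theorem L213369 : sm ge N27562 = N24378 := ded_22_2 (flp_d L189949) (flp_e L188167) (flp_d L182635) (flp_e L182597) L213365
theorem L213371 : sm gg N23406 = N27563 := rfl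
theorem L213373 : sm gc N27563 = N23407 := ded_21_1 (flp_g L182599) L182595 L213371
theorem L213375 : sm ge N27563 = N23413 := ded_26_1 (flp_g L182637) (flp_e L182597) L213371
theorem L213377 : sm gb N23407 = N27564 := rfl
theorem L213379 : sm gd N27564 = N23701 := ded_14_2 (flp_b L184680) (flp_d L182601) L213377
theorem L213381 : sm ge N27564 = N23414 := ded_15_2 (flp_b L182641) (flp_e L182603) L213377
theorem L213383 : sm gg N27564 = N23408 := ded_17_2 (flp_b L182605) (flp_g L145568) L145562 L182599 L213377
theorem L213385 : sm gf N23407 = N27565 := rfl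
theorem L213387 : sm ga N27565 = N27436 := ded_11_1 (flp_f L212507) L184674 L213385
theorem L213389 : sm gd N27565 = N23702 := ded_23_1 (flp_f L184688) (flp_d L182601) L213385
theorem L213391 : sm ge N27565 = N23415 := ded_25_1 (flp_f L182647) (flp_e L182603) L213385
theorem L213393 : sm gg N27565 = N27434 := ded_29_3 (flp_a L212487) L181865 L182599 L213385
theorem L213395 : sm gc N23408 = N27566 := rfl
theorem L213397 : sm ge N27566 = N23417 := ded_19_2 (flp_c L182659) (flp_e L182609) L213395
theorem L213399 : sm gb N27566 = N27087 := ded_13_1 L209835 L179135 (flp_c L145572) L182605 L213395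
theorem L213401 : sm gc N23409 = N27567 := rfl
theorem L213403 : sm ga N27567 = N24888 := ded_8_1 L193441 (flp_a L182617) L213401
theorem L213405 : sm ge N27567 = N24894 := ded_19_2 L193475 (flp_e L182615) L213401
theorem L213407 : sm gf N27567 = N25075 := ded_20_2 (flp_c L194995) L182619 L213401
theorem L213409 : sm gg N27567 = N24886 := ded_21_2 (flp_c L193431) L182621 L213401
theorem L213411 : sm gb N27567 = N24128 := ded_13_1 (flp_c L188143) (flp_b L188157) (flp_c L182623) L182611 L213401
theorem L213413 : sm gg N23410 = N27568 := rfl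
theorem L213415 : sm ga N27568 = N23413 := ded_12_1 (flp_g L182637) (flp_a L182625) L213413
theorem L213417 : sm gc N27568 = N23411 := ded_21_1 (flp_g L182627) L182623 L213413
theorem L213419 : sm gd N27568 = N24127 := ded_24_1 (flp_g L188137) (flp_d L188159) L213413
theorem L213421 : sm gf N27568 = N27441 := ded_29_2 (flp_g L212549) (flp_a L212525) L212527 L213413
theorem L213423 : sm gb N25919 = N27568 := ded_14_3 L213419 (flp_b L188141) L200785
theorem L213425 : sm gb N23411 = N27569 := rfl
theorem L213427 : sm gd N27569 = N23421 := ded_14_2 (flp_b L182685) (flp_d L182631) L213425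
theorem L213429 : sm ge N27569 = N24892 := ded_15_2 L193467 L184678 L213425
theorem L213431 : sm gg N27569 = N24885 := ded_17_2 (flp_b L193425) L182621 (flp_b L182611) L182627 L213425
theorem L213433 : sm gg N23412 = N27570 := rfl
theorem L213435 : sm ga N27570 = N24127 := ded_12_1 (flp_g L188137) (flp_a L188163) L213433
theorem L213437 : sm gc N27570 = N24883 := ded_21_1 (flp_g L193415) (flp_c L188165) L213433
theorem L213439 : sm gd N27570 = N23413 := ded_24_1 (flp_g L182637) L182635 L213433
theorem L213441 : sm ge N27570 = N24380 := ded_26_1 (flp_g L189969) (flp_e L188167) L213433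
theorem L213443 : sm gb N23413 = N27571 := rfl
theorem L213445 : sm gf N23413 = N27572 := rfl
theorem L213447 : sm ga N27572 = N27441 := ded_11_1 (flp_f L213421) L213415 L213445
theorem L213449 : sm gc N27572 = N23415 := ded_20_1 (flp_f L182647) (flp_c L182639) L213445
theorem L213451 : sm gg N27572 = N27439 := ded_29_3 L212525 L181885 L182637 L213445
theorem L213453 : sm ga N23414 = N27573 := rfl
theorem L213455 : sm gd N27573 = N23427 := ded_9_2 (flp_a L182721) (flp_d L182643) L213453
theorem L213457 : sm gg N27573 = N23416 := ded_12_2 (flp_a L182655) (flp_g L182645) L213453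
theorem L213459 : sm gc N23414 = N27574 := rfl
theorem L213461 : sm gg N27574 = N23417 := ded_21_2 (flp_c L182659) (flp_g L182645) L213459
theorem L213463 : sm gf N23414 = N27575 := rfl
theorem L213465 : sm gd N27575 = N23428 := ded_23_1 (flp_f L182729) (flp_d L182643) L213463
theorem L213467 : sm gb N25964 = N27575 := ded_14_3 L213465 (flp_b L182743) L201093
theorem L213469 : sm gb N23415 = N27576 := rfl
theorem L213471 : sm gd N27576 = N23429 := ded_14_2 (flp_b L182735) (flp_d L182651) L213469
theorem L213473 : sm gf N27576 = N25964 := ded_16_2 L213467 (flp_f L213463) (flp_b L182641) L182647 L213469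
theorem L213475 : sm gc N23416 = N27577 := rfl
theorem L213477 : sm ga N27577 = N23417 := ded_8_1 (flp_c L182659) L182655 L213475
theorem L213479 : sm gf N23416 = N27578 := rfl
theorem L213481 : sm ga N27578 = N23418 := ded_11_1 (flp_f L182663) L182655 L213479
theorem L213483 : sm gd N27578 = N23430 := ded_23_1 (flp_f L182745) (flp_d L182657) L213479
theorem L213485 : sm gg N27575 = N27578 := ded_29_1 (flp_f L213479) (flp_g L213457) (flp_a L213453) L213463
theorem L213487 : sm gd N23417 = N27579 := rfl
theorem L213489 : sm gb N27579 = N25576 := ded_14_1 (flp_d L198621) (flp_b L182661) L213487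
theorem L213491 : sm ge N25575 = N27579 := ded_15_0 L213489 (flp_e L198615) L198611
theorem L213493 : sm gf N23417 = N27580 := rfl
theorem L213495 : sm gc N27580 = N23418 := ded_20_1 (flp_f L182663) L182659 L213493
theorem L213497 : sm gg N23418 = N27581 := rfl
theorem L213499 : sm ga N27581 = N27575 := ded_12_1 L213485 L213481 L213497
theorem L213501 : sm gd N27581 = N23431 := ded_24_1 (flp_g L182755) (flp_d L182665) L213497
theorem L213503 : sm gf N27573 = N27581 := ded_29_0 (flp_g L213497) (flp_f L182663) (flp_g L182645) L213453
theorem L213505 : sm ge N23419 = N27582 := rfl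
theorem L213507 : sm ga N27582 = N23423 := ded_10_1 (flp_e L182693) (flp_a L182671) L213505
theorem L213509 : sm gb N27582 = N26698 := ded_15_1 L206432 (flp_b L182673) L213505
theorem L213511 : sm gc N27582 = N26429 := ded_19_1 (flp_e L204249) L188169 L213505
theorem L213513 : sm gd N27582 = N23706 := ded_22_1 (flp_e L184730) (flp_d L153231) (flp_e L145602) L182669 L213505
theorem L213515 : sm gg N23419 = N27583 := rfl
theorem L213517 : sm ga N27583 = N23424 := ded_12_1 (flp_g L182699) (flp_a L182671) L213515
theorem L213519 : sm gc N27583 = N26431 := ded_21_1 (flp_g L204259) L188169 L213515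
theorem L213521 : sm gd N27583 = N23420 := ded_24_1 (flp_g L182675) L182669 L213515
theorem L213523 : sm gf N27583 = N27450 := ded_29_2 (flp_g L212613) (flp_a L212595) L212599 L213515
theorem L213525 : sm gb N23420 = N27584 := rfl
theorem L213527 : sm ge N27584 = N23707 := ded_15_2 (flp_b L184736) (flp_e L182681) L213525
theorem L213529 : sm gg N27584 = N26701 := ded_17_2 (flp_b L206448) (flp_g L173859) (flp_b L151552) L182675 L213525
theorem L213531 : sm ga N23421 = N27585 := rfl
theorem L213533 : sm ge N27585 = N23708 := ded_10_2 (flp_a L184742) (flp_e L182687) L213531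
theorem L213535 : sm gg N27585 = N24375 := ded_12_2 L189931 (flp_g L182689) L213531
theorem L213537 : sm gb N27585 = N27201 := ded_7_2 L210767 L200545 (flp_a L200633) (flp_b L200637) (flp_a L182721) (flp_b L145622) (flp_a L145606) L182685 L213531
theorem L213539 : sm gc N23421 = N27586 := rfl
theorem L213541 : sm ge N27586 = N23709 := ded_19_2 (flp_c L184750) (flp_e L182687) L213539
theorem L213543 : sm gg N27586 = N25104 := ded_21_2 (flp_c L195265) (flp_g L182689) L213539
theorem L213545 : sm gf N23421 = N27587 := rfl
theorem L213547 : sm ge N27587 = N23710 := ded_25_1 (flp_f L184754) (flp_e L182687) L213545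
theorem L213549 : sm gb N27587 = N27454 := ded_16_1 (flp_f L212635) (flp_b L181925) (flp_f L145610) L182685 L213545
theorem L213551 : sm ge N23422 = N27588 := rfl
theorem L213553 : sm ga N27588 = N26429 := ded_10_1 (flp_e L204249) (flp_a L188151) L213551
theorem L213555 : sm gc N27588 = N23423 := ded_19_1 (flp_e L182693) L182691 L213551
theorem L213557 : sm gg N23422 = N27589 := rfl
theorem L213559 : sm ga N27589 = N26431 := ded_12_1 (flp_g L204259) (flp_a L188151) L213557
theorem L213561 : sm gc N27589 = N23424 := ded_21_1 (flp_g L182699) L182691 L213557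
theorem L213563 : sm gg N23423 = N27590 := rfl
theorem L213565 : sm gd N27590 = N23712 := ded_24_1 L184772 (flp_d L182697) L213563
theorem L213567 : sm ge N27590 = N23424 := ded_26_1 (flp_g L182699) L182693 L213563
theorem L213569 : sm gb N23424 = N27591 := rfl
theorem L213571 : sm gd N27591 = N23425 := ded_14_2 (flp_b L182703) (flp_d L182701) L213569
theorem L213573 : sm gg N27591 = N23433 := ded_17_2 L182773 L145664 (flp_b L145614) L182699 L213569
theorem L213575 : sm gf N23424 = N27592 := rfl
theorem L213577 : sm ga N27592 = N27450 := ded_11_1 (flp_f L213523) L213517 L213575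
theorem L213579 : sm gd N27592 = N23426 := ded_23_1 (flp_f L182711) (flp_d L182701) L213575
theorem L213581 : sm gg N27592 = N27448 := ded_29_3 L212595 L181917 L182699 L213575
theorem L213583 : sm ga N23425 = N27593 := rfl
theorem L213585 : sm gc N27593 = N27523 := ded_8_2 L213125 (flp_c L182707) L213583
theorem L213587 : sm ge N27593 = N23713 := ded_10_2 (flp_a L184774) (flp_e L182705) L213583
theorem L213589 : sm gg N27593 = N23432 := ded_12_2 (flp_a L182765) (flp_g L182709) L213583
theorem L213591 : sm gb N27253 = N27593 := ded_15_3 L213587 (flp_b L184828) (flp_e L211135)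
theorem L213593 : sm gf N23425 = N27594 := rfl
theorem L213595 : sm gc N27594 = N27526 := ded_20_1 (flp_f L213143) (flp_c L182707) L213593
theorem L213597 : sm ge N27594 = N23714 := ded_25_1 (flp_f L184780) (flp_e L182705) L213593
theorem L213599 : sm gb N23426 = N27595 := rfl
theorem L213601 : sm ge N27595 = N23576 := ded_15_2 L183755 (flp_e L182717) L213599
theorem L213603 : sm gc N27595 = N25954 := ded_13_2 L200990 L182739 (flp_b L182735) (flp_c L182715) L213599
theorem L213605 : sm gg N23429 = N27596 := rfl
theorem L213607 : sm gc N27596 = N25958 := ded_21_1 (flp_g L201030) L182739 L213605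
theorem L213609 : sm ge N27596 = N23716 := ded_26_1 (flp_g L184796) (flp_e L182737) L213605
theorem L213611 : sm gb N27596 = N27447 := ded_17_1 (flp_g L212583) (flp_b L181895) (flp_g L145636) L182735 L213605
theorem L213613 : sm gb N23430 = N27597 := rfl
theorem L213615 : sm ge N27597 = N23717 := ded_15_2 (flp_b L184800) (flp_e L182751) L213613
theorem L213617 : sm gc N27597 = N27415 := ded_13_2 L212379 L213209 (flp_b L213203) (flp_c L182749) L213613
theorem L213619 : sm gf N27597 = N26879 := ded_16_2 (flp_b L207967) (flp_f L176043) (flp_b L176001) L182745 L213613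
theorem L213621 : sm ga N27597 = N27416 := ded_30_3 L212385 (flp_c L181821) (flp_b L145088) L104228 (flp_f L89246) (flp_c L38762) (flp_b L18425) (flp_a L15810) L18423 L18419 L18455 L38824 L82696 L89336 L104411 L145450 L182429 (flp_c L182749) L213613
theorem L213623 : sm gb N23431 = N27598 := rfl
theorem L213625 : sm ge N27598 = N23718 := ded_15_2 (flp_b L184810) (flp_e L182761) L213623
theorem L213627 : sm gg N27598 = N23479 := ded_17_2 (flp_b L183040) (flp_g L145843) (flp_b L145650) L182755 L213623
theorem L213629 : sm gf N23432 = N27599 := rfl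
theorem L213631 : sm ga N27599 = N23434 := ded_11_1 (flp_f L182775) L182765 L213629
theorem L213633 : sm gc N27599 = N27517 := ded_20_1 L213085 (flp_c L182767) L213629
theorem L213635 : sm ge N27599 = N23720 := ded_25_1 (flp_f L184830) (flp_e L182769) L213629
theorem L213637 : sm gg N27594 = N27599 := ded_29_1 (flp_f L213629) (flp_g L213589) (flp_a L213583) L213593
theorem L213639 : sm ge N23433 = N27600 := rfl
theorem L213641 : sm gb N27600 = N23435 := ded_15_1 (flp_e L182783) (flp_b L182773) L213639
theorem L213643 : sm gd N27600 = N23721 := ded_22_1 (flp_e L184838) (flp_d L153307) (flp_e L145654) L182771 L213639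
theorem L213645 : sm gf N23433 = N27601 := rfl
theorem L213647 : sm gd N27601 = N23434 := ded_23_1 (flp_f L182775) L182771 L213645
theorem L213649 : sm gb N27601 = N23444 := ded_16_1 (flp_f L182835) L145684 (flp_f L145662) (flp_b L182773) L213645
theorem L213651 : sm gg N23434 = N27602 := rfl
theorem L213653 : sm ga N27602 = N27594 := ded_12_1 L213637 L213631 L213651
theorem L213655 : sm gc N27602 = N27518 := ded_21_1 (flp_g L213089) (flp_c L182777) L213651
theorem L213657 : sm ge N27602 = N23722 := ded_26_1 (flp_g L184842) (flp_e L182779) L213651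
theorem L213659 : sm gf N27593 = N27602 := ded_29_0 (flp_g L213651) (flp_f L182775) (flp_g L182709) L213583
theorem L213661 : sm ge N23436 = N27603 := rfl
theorem L213663 : sm gb N27603 = N23437 := ded_15_1 (flp_e L182795) L182793 L213661
theorem L213665 : sm gd N27603 = N26389 := ded_22_1 (flp_e L203985) (flp_d L171452) (flp_e L183059) L183057 L213661
theorem L213667 : sm gf N23436 = N27604 := rfl
theorem L213669 : sm gb N27604 = N23450 := ded_16_1 (flp_f L182868) (flp_b L145706) (flp_f L145668) L182793 L213667
theorem L213671 : sm gg N23436 = N27605 := rfl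
theorem L213673 : sm gd N23438 = N27606 := rfl
theorem L213675 : sm gb N27606 = N23439 := ded_14_1 (flp_d L182807) L182803 L213673
theorem L213677 : sm ge N27606 = N25858 := ded_22_2 (flp_d L200315) L184886 (flp_d L184880) (flp_e L182805) L213673
theorem L213679 : sm gf N23438 = N27607 := rfl
theorem L213681 : sm ge N27607 = N23727 := ded_25_1 (flp_f L184888) (flp_e L182805) L213679
theorem L213683 : sm gb N26100 = N27607 := ded_15_3 L213681 (flp_b L206216) (flp_e L206218)
theorem L213685 : sm gg N23438 = N27608 := rfl
theorem L213687 : sm ge N27608 = N23728 := ded_26_1 (flp_g L184890) (flp_e L182805) L213685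
theorem L213689 : sm gc N23439 = N27609 := rfl
theorem L213691 : sm ga N27609 = N23442 := ded_8_1 (flp_c L182827) (flp_a L182809) L213689
theorem L213693 : sm ge N23439 = N27610 := rfl
theorem L213695 : sm ga N27610 = N23443 := ded_10_1 (flp_e L182829) (flp_a L182809) L213693
theorem L213697 : sm gb N27610 = N25858 := ded_15_1 (flp_e L213677) L213675 L213693
theorem L213699 : sm gd N27610 = N23729 := ded_22_1 (flp_e L184892) (flp_d L153339) (flp_e L145680) L182807 L213693
theorem L213701 : sm gf N23439 = N27611 := rfl
theorem L213703 : sm ga N27611 = N23444 := ded_11_1 (flp_f L182835) (flp_a L182809) L213701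
theorem L213705 : sm gd N27611 = N23440 := ded_23_1 (flp_f L182811) L182807 L213701
theorem L213707 : sm gg N23439 = N27612 := rfl
theorem L213709 : sm ga N27612 = N23445 := ded_12_1 (flp_g L182839) (flp_a L182809) L213707
theorem L213711 : sm gd N27612 = N23441 := ded_24_1 (flp_g L182819) L182807 L213707
theorem L213713 : sm gb N23440 = N27613 := rfl
theorem L213715 : sm ge N27613 = N23730 := ded_15_2 (flp_b L184900) (flp_e L182817) L213713
theorem L213717 : sm gc N27613 = N26101 := ded_13_2 (flp_b L202012) L202272 (flp_b L202278) (flp_c L182815) L213713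
theorem L213719 : sm gf N27613 = N26100 := ded_16_2 L213683 (flp_f L213679) (flp_b L182803) L182811 L213713
theorem L213721 : sm gb N23441 = N27614 := rfl
theorem L213723 : sm ge N27614 = N23731 := ded_15_2 (flp_b L184902) (flp_e L182825) L213721
theorem L213725 : sm gc N27614 = N26638 := ded_13_2 (flp_b L211729) L213115 (flp_b L213107) (flp_c L182823) L213721
theorem L213727 : sm ga N26629 = N27614 := ded_10_3 L213723 (flp_a L184906) (flp_e L205876)
theorem L213729 : sm gf N26626 = N27614 := ded_25_0 L213723 (flp_f L184908) L205854
theorem L213731 : sm gd N23442 = N27615 := rfl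
theorem L213733 : sm ge N23442 = N27616 := rfl
theorem L213735 : sm gc N27616 = N23443 := ded_19_1 (flp_e L182829) L182827 L213733
theorem L213737 : sm gf N23442 = N27617 := rfl
theorem L213739 : sm gc N27617 = N23444 := ded_20_1 (flp_f L182835) L182827 L213737
theorem L213741 : sm gg N23442 = N27618 := rfl
theorem L213743 : sm gc N27618 = N23445 := ded_21_1 (flp_g L182839) L182827 L213741
theorem L213745 : sm gg N23444 = N27619 := rfl
theorem L213747 : sm gd N27619 = N23446 := ded_24_1 (flp_g L182844) (flp_d L182837) L213745
theorem L213749 : sm gf N27612 = N27619 := ded_29_0 (flp_g L213745) (flp_f L182835) L182839 (flp_a L213709)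
theorem L213751 : sm gf N23445 = N27620 := rfl
theorem L213753 : sm ga N27620 = N27619 := ded_11_1 (flp_f L213749) L213709 L213751
theorem L213755 : sm gd N27620 = N23447 := ded_23_1 (flp_f L182852) (flp_d L182841) L213751
theorem L213757 : sm gg N27620 = N27611 := ded_29_3 L213703 (flp_f L182835) L182839 L213751
theorem L213759 : sm gb N23447 = N27621 := rfl
theorem L213761 : sm ge N27621 = N23733 := ded_15_2 (flp_b L184920) (flp_e L182858) L213759
theorem L213763 : sm gf N27621 = N27621 := ded_16_2 (flp_b L213759) (flp_f L182852) L145698 L182852 L213759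
theorem L213764 : sm gb N23448 = N27622 := rfl
theorem L213766 : sm ge N23448 = N27623 := rfl
theorem L213768 : sm ga N27623 = N23449 := ded_10_1 (flp_e L182864) L182862 L213766
theorem L213770 : sm gc N27623 = N25496 := ded_19_1 (flp_e L201205) (flp_c L201207) L213766
theorem L213772 : sm gf N23448 = N27624 := rfl
theorem L213774 : sm ga N27624 = N23450 := ded_11_1 (flp_f L182868) L182862 L213772
theorem L213776 : sm gc N27624 = N26110 := ded_20_1 L202064 (flp_c L201207) L213772
theorem L213778 : sm gg N23448 = N27625 := rfl
theorem L213780 : sm ga N27625 = N23451 := ded_12_1 (flp_g L182870) L182862 L213778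
theorem L213782 : sm gf N23449 = N27626 := rfl
theorem L213784 : sm gc N27626 = N24472 := ded_20_1 L201229 L201225 L213782
theorem L213786 : sm ge N27626 = N23450 := ded_25_1 (flp_f L182868) L182864 L213782
theorem L213788 : sm gg N23449 = N27627 := rfl
theorem L213790 : sm gc N27627 = N26161 := ded_21_1 L202474 L201225 L213788
theorem L213792 : sm ge N27627 = N23451 := ded_26_1 (flp_g L182870) L182864 L213788
theorem L213794 : sm gb N27627 = N27627 := ded_17_1 (flp_g L213788) L182866 L145712 (flp_b L182866) L213788
theorem L213795 : sm gf N26159 = N27627 := ded_20_0 L213790 (flp_f L202468) L202458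
theorem L213797 : sm gg N23450 = N27628 := rfl
theorem L213799 : sm gf N27625 = N27628 := ded_29_0 (flp_g L213797) (flp_f L182868) L182870 (flp_a L213780)
theorem L213801 : sm gf N23451 = N27629 := rfl
theorem L213803 : sm ga N27629 = N27628 := ded_11_1 (flp_f L213799) L213780 L213801
theorem L213805 : sm gc N27629 = N26160 := ded_20_1 (flp_f L202464) L201241 L213801
theorem L213807 : sm ge N27629 = N26159 := ded_25_1 L213795 L213792 L213801
theorem L213809 : sm gg N27629 = N27624 := ded_29_3 L213774 (flp_f L182868) L182870 L213801
theorem L213811 : sm gb N23452 = N27630 := rfl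
theorem L213813 : sm gd N27630 = N23453 := ded_14_2 (flp_b L182885) (flp_d L182879) L213811
theorem L213815 : sm ge N27630 = N25823 := ded_15_2 (flp_b L200067) (flp_e L182881) L213811
theorem L213817 : sm gc N23453 = N27631 := rfl
theorem L213819 : sm ga N27631 = N26701 := ded_8_1 (flp_c L206452) L205822 L213817
theorem L213821 : sm ge N27631 = N26564 := ded_19_2 (flp_c L205295) (flp_e L182887) L213817
theorem L213823 : sm gb N27631 = N27631 := ded_13_1 (flp_c L213817) (flp_b L182885) L145725 L182885 L213817
theorem L213824 : sm gb N23454 = N27632 := rfl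
theorem L213826 : sm gd N27632 = N23455 := ded_14_2 (flp_b L182901) (flp_d L182895) L213824
theorem L213828 : sm ge N27632 = N24703 := ded_15_2 (flp_b L192285) (flp_e L182897) L213824
theorem L213830 : sm gg N27632 = N24712 := ded_17_2 (flp_b L192345) (flp_g L160144) (flp_b L160086) (flp_g L182899) L213824
theorem L213832 : sm gc N24098 = N27632 := ded_28_6 L213826 (flp_a L189311) L202766 L202760 L170396 L156192 L156619 L187963
theorem L213834 : sm gc N23455 = N27633 := rfl
theorem L213836 : sm ga N27633 = N26202 := ded_8_1 (flp_c L202766) L189311 L213834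
theorem L213838 : sm ge N27633 = N25006 := ded_19_2 (flp_c L194357) (flp_e L182903) L213834
theorem L213840 : sm gg N27633 = N25008 := ded_21_2 (flp_c L194372) (flp_g L182905) L213834
theorem L213842 : sm gb N27633 = N27633 := ded_13_1 (flp_c L213834) (flp_b L182901) L145738 L182901 L213834
theorem L213843 : sm gd N27633 = N23902 := ded_28_7 L186400 L170396 L156192 L156619 L187963 L213832 L213826 L213834
theorem L213845 : sm gf N23457 = N27634 := rfl
theorem L213847 : sm gd N27634 = N27528 := ded_23_1 (flp_f L213157) (flp_d L182914) L213845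
theorem L213849 : sm ge N27634 = N26443 := ded_25_1 (flp_f L204342) (flp_e L182916) L213845
theorem L213851 : sm gb N27634 = N23460 := ded_16_1 (flp_f L182932) (flp_b L145762) (flp_f L145756) L182912 L213845
theorem L213853 : sm gg N23457 = N27635 := rfl
theorem L213855 : sm gd N27635 = N27529 := ded_24_1 (flp_g L213159) (flp_d L182914) L213853
theorem L213857 : sm ge N27635 = N26444 := ded_26_1 (flp_g L204348) (flp_e L182916) L213853
theorem L213859 : sm gb N27635 = N23465 := ded_17_1 (flp_g L182963) (flp_b L145776) (flp_g L145758) L182912 L213853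
theorem L213861 : sm gb N23458 = N27636 := rfl
theorem L213863 : sm gd N27636 = N25999 := ded_14_2 (flp_b L201358) L182922 L213861
theorem L213865 : sm ge N27636 = N26445 := ded_15_2 (flp_b L204354) (flp_e L182920) L213861
theorem L213867 : sm gf N23458 = N27637 := rfl
theorem L213869 : sm ga N27637 = N23460 := ded_11_1 (flp_f L182932) L182918 L213867
theorem L213871 : sm gd N27637 = N26001 := ded_23_1 (flp_f L201366) L182922 L213867
theorem L213873 : sm ge N27637 = N26447 := ded_25_1 (flp_f L204362) (flp_e L182920) L213867
theorem L213875 : sm gg N23458 = N27638 := rfl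
theorem L213877 : sm ga N27638 = N23461 := ded_12_1 (flp_g L182936) L182918 L213875
theorem L213879 : sm gd N27638 = N26002 := ded_24_1 (flp_g L201370) L182922 L213875
theorem L213881 : sm ge N27638 = N26448 := ded_26_1 (flp_g L204366) (flp_e L182920) L213875
theorem L213883 : sm ge N23459 = N27639 := rfl
theorem L213885 : sm ga N27639 = N26000 := ded_10_1 (flp_e L201362) (flp_a L182926) L213883
theorem L213887 : sm gb N27639 = N23462 := ded_15_1 (flp_e L182942) (flp_b L182928) L213883
theorem L213889 : sm gc N27639 = N25995 := ded_19_1 (flp_e L201334) L182930 L213883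
theorem L213891 : sm gd N27639 = N26450 := ded_22_1 (flp_e L204378) (flp_d L171423) (flp_e L145764) L182924 L213883
theorem L213893 : sm gf N23459 = N27640 := rfl
theorem L213895 : sm ga N27640 = N26001 := ded_11_1 (flp_f L201366) (flp_a L182926) L213893
theorem L213897 : sm gc N27640 = N25996 := ded_20_1 (flp_f L201340) L182930 L213893
theorem L213899 : sm gd N27640 = N23460 := ded_23_1 (flp_f L182932) L182924 L213893
theorem L213901 : sm gb N27640 = N27528 := ded_16_1 (flp_f L213157) (flp_b L182411) (flp_f L145770) (flp_b L182928) L213893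
theorem L213903 : sm gg N23459 = N27641 := rfl
theorem L213905 : sm ga N27641 = N26002 := ded_12_1 (flp_g L201370) (flp_a L182926) L213903
theorem L213907 : sm gc N27641 = N25997 := ded_21_1 (flp_g L201346) L182930 L213903
theorem L213909 : sm gd N27641 = N23461 := ded_24_1 (flp_g L182936) L182924 L213903
theorem L213911 : sm gb N27641 = N23473 := ded_17_1 (flp_g L182996) L145785 (flp_g L145772) (flp_b L182928) L213903
theorem L213913 : sm gg N23460 = N27642 := rfl
theorem L213915 : sm ge N27642 = N26453 := ded_26_1 (flp_g L204394) (flp_e L182934) L213913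
theorem L213917 : sm gf N27638 = N27642 := ded_29_0 (flp_g L213913) (flp_f L182932) L182936 (flp_a L213877)
theorem L213919 : sm gf N23461 = N27643 := rfl
theorem L213921 : sm ga N27643 = N27642 := ded_11_1 (flp_f L213917) L213877 L213919
theorem L213923 : sm ge N27643 = N26454 := ded_25_1 (flp_f L204398) (flp_e L182938) L213919
theorem L213925 : sm gg N27643 = N27637 := ded_29_3 L213869 (flp_f L182932) L182936 L213919
theorem L213927 : sm gb N23463 = N27644 := rfl
theorem L213929 : sm gd N27644 = N27546 := ded_14_2 (flp_b L213254) (flp_d L182956) L213927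
theorem L213931 : sm gf N23463 = N27645 := rfl
theorem L213933 : sm ga N27645 = N23464 := ded_11_1 (flp_f L182958) L182954 L213931
theorem L213935 : sm gd N27645 = N27548 := ded_23_1 (flp_f L213262) (flp_d L182956) L213931
theorem L213937 : sm gg N23463 = N27646 := rfl
theorem L213939 : sm ga N27646 = N23465 := ded_12_1 (flp_g L182963) L182954 L213937
theorem L213941 : sm gd N27646 = N27549 := ded_24_1 (flp_g L213266) (flp_d L182956) L213937
theorem L213943 : sm gg N23464 = N27647 := rfl
theorem L213945 : sm gd N27647 = N27552 := ded_24_1 (flp_g L213287) (flp_d L182960) L213943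
theorem L213947 : sm gf N27646 = N27647 := ded_29_0 (flp_g L213943) (flp_f L182958) L182963 (flp_a L213939)
theorem L213949 : sm gf N23465 = N27648 := rfl
theorem L213951 : sm ga N27648 = N27647 := ded_11_1 (flp_f L213947) L213939 L213949
theorem L213953 : sm gd N27648 = N27553 := ded_23_1 (flp_f L213295) (flp_d L182965) L213949
theorem L213955 : sm gg N27648 = N27645 := ded_29_3 L213933 (flp_f L182958) L182963 L213949
theorem L213962 : sm gd N23466 = N27651 := rfl
theorem L213964 : sm gb N27651 = N23467 := ded_14_1 (flp_d L182969) L182967 L213962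
theorem L213970 : sm gc N23467 = N27654 := rfl
theorem L213972 : sm ga N27654 = N23470 := ded_8_1 (flp_c L182983) (flp_a L182971) L213970
theorem L213974 : sm ge N23467 = N27655 := rfl
theorem L213976 : sm ga N27655 = N23471 := ded_10_1 (flp_e L182987) (flp_a L182971) L213974
theorem L213978 : sm gf N23467 = N27656 := rfl
theorem L213980 : sm ga N27656 = N23472 := ded_11_1 (flp_f L182991) (flp_a L182971) L213978
theorem L213982 : sm gd N27656 = N23468 := ded_23_1 (flp_f L182973) L182969 L213978
theorem L213984 : sm gg N23467 = N27657 := rfl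
theorem L213986 : sm ga N27657 = N23473 := ded_12_1 (flp_g L182996) (flp_a L182971) L213984
theorem L213988 : sm gd N27657 = N23469 := ded_24_1 (flp_g L182978) L182969 L213984
theorem L213990 : sm gb N23468 = N27658 := rfl
theorem L213992 : sm gb N23469 = N27659 := rfl
theorem L213994 : sm gd N23470 = N27660 := rfl
theorem L213996 : sm gb N27660 = N27539 := ded_14_1 (flp_d L213221) (flp_b L182985) L213994
theorem L213998 : sm gc N27660 = N26445 := ded_32_9 (flp_b L204354) L204356 (flp_c L204360) (flp_d L197787) (flp_c L197773) (flp_b L197769) (flp_d L167156) (flp_c L156753) (flp_d L108242) (flp_c L91495) (flp_b L43416) (flp_d L43380) L43378 L43366 L20763 L20803 L20807 L10203 L10257 L21363 L44490 L92215 L109749 L158617 L190351 (flp_c L190359) (flp_b L184748) L183181 (flp_c L161798) L111936 L121907 L151832 (flp_d L171640) (flp_c L171634) (flp_d L120762) (flp_c L97070) (flp_b L85182) (flp_d L46365) (flp_c L93129) (flp_d L107515) (flp_c L155328) L186501 L186505 (flp_d L186485) L186489 L174139 L174145 L174148 L158390 L109515 (flp_d L109143) (flp_c L157479) (flp_b L114019) L114021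 L153457 (flp_d L129165) (flp_c L153465) L106420 (flp_d L90390) (flp_c L40369) (flp_d L19161) (flp_c L9263) (flp_b L4677) (flp_d L4641) (flp_c L9125) L9127 L9115 L9141 (flp_e L18459) L18457 L18527 L39008 L89444 L104605 L145783 L182983 L213994
theorem L214000 : sm gd N27654 = N26445 := ded_28_5 (flp_c L213998) (flp_d L213994) (flp_a L213972) (flp_c L213970) (flp_d L182969) L145782 L182969 L213970
theorem L214002 : sm ga N27660 = N26445 := ded_28_8 (flp_c L213998) (flp_d L213994) (flp_c L182983) (flp_d L145783) L104607 L145783 L182983 L213994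
theorem L214004 : N23467 = N25525 := coi_32_20 L198297 (flp_d L167535) (flp_c L116177) (flp_d L95696) (flp_c L84506) (flp_b L24959) L12010 (flp_d L10757) (flp_c L21127) (flp_d L44010) (flp_c L44024) L91700 L91702 L91762 L108707 L157353 L164502 (flp_d L195813) (flp_c L208187) L208185 L176528 (flp_b L129002) L102209 (flp_c L89610) (flp_d L102223) (flp_c L102823) L147467 L99403 L86214 (flp_d L147459) (flp_c L86107) (flp_b L98993) L146796 (flp_d L147469) L102823 L102223 L89610 L104819 (flp_d L129004) (flp_c L176528) (flp_d L208185) L208187 L195817 (flp_d L188869) (flp_c L157353) (flp_d L108707) (flp_c L91762) (flp_b L44056) (flp_d L44026) L44024 L44010 L21127 L22335 L22337 L26726 L85302 L97345 (flp_b L163245) (flp_e L88404) L88402 L36845 L17684 L8625 L17706 (flp_d L36873) L88456 L102771 (flp_c L104478) L145590 L145592 L104502 L145454 L182441 (flp_b L182985) L213994 L213998 (flp_d L214000) (flp_c L213970)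
theorem L214005 : N25525 = N23467 := (eqc rfl L214004 rfl).symm
theorem L214006 : sm gb N23467 = N21280 := trfs L214005 L198297 rfl
theorem L214007 : N21280 = N27651 := eqes L214006 (flp_b L213964)
theorem L214008 : N27651 = N21280 := (eqc rfl L214007 rfl).symm
theorem L214009 : sm gd N23467 = N21279 := trfs L214005 (flp_d L198295) rfl
theorem L214010 : N21279 = N18993 := eqes L214009 (flp_d L182969)
theorem L214011 : N21279 = N18993 := eqc rfl L214010 rfl
theorem L214015 : sm gb N18993 = N16110 := trfs L214011 (flp_b L167532) rfl
theorem L214016 : N16110 = N23466 := eqes L214015 L182967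
theorem L214017 : N23466 = N16110 := (eqc rfl L214016 rfl).symm
theorem L214019 : sm ge N18993 = N25526 := trfs L214011 L198299 rfl
theorem L214020 : N25526 = N19815 := eqes L214019 (flp_e L156954)
theorem L214021 : N25526 = N19815 := eqc rfl L214020 rfl
theorem L214030 : sm gb N19815 = N21281 := trfs L214021 L198301 rfl
theorem L214031 : N21281 = N24169 := eqes L214030 L188410
theorem L214032 : N24169 = N21281 := (eqc rfl L214031 rfl).symm
theorem L214034 : sm gb N21281 = N19815 := trfs L214032 (flp_b L188410) rfl
theorem L214040 : sm gb N16110 = N18993 := trfs L214017 (flp_b L182967) rfl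
theorem L214054 : sm gb N21280 = N23467 := trfs L214008 L213964 rfl
theorem L214056 : sm gb N26446 = N27654 := ded_32_15 L214000 (flp_c L213998) (flp_d L213994) (flp_c L182983) L145785 (flp_d L104608) (flp_c L89444) (flp_d L39008) (flp_c L18527) (flp_b L8989) L4569 L2376 L1220 L580 L65182 L625 (flp_d L1301) L2534 L4856 (flp_c L5725) (flp_b L142600) L142602 L142553 (flp_d L3438) (flp_c L1749) (flp_b L868) (flp_d L802) (flp_c L815) L817 L395 L420 L422 L443 L140459 (flp_c L443) (flp_b L203) L109 (flp_d L195) (flp_c L395) (flp_d L817) L815 L1649 L1651 L1749 L3438 (flp_c L142553) (flp_b L5735) (flp_d L5727) L5725 (flp_d L4856) (flp_c L2534) (flp_b L1299) L594 (flp_c L65182) (flp_d L580) (flp_c L1220) L2436 (flp_d L4597) L9049 (flp_d L141660) (flp_c L10090) (flp_b L5102) (flp_e L5068) (flp_d L9995) (flp_c L20763) (flp_d L43366) (flp_c L43378) L91387 L91389 L91495 L108242 L156753 L188199 (flp_d L197771) L197773 L197787 L204360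
theorem L214058 : sm gb N24170 = N25531 := ded_14_3 (flp_d L198324) L214034 L188414
theorem L214060 : sm gf N27658 = N25533 := ded_16_4 (flp_b L198336) (flp_f L167545) L214040 L182973 L213990
theorem L214062 : sm gg N27659 = N25502 := ded_17_4 (flp_b L198149) L167472 L214040 L182978 L213992
theorem L214064 : sm ga N27644 = N25517 := ded_7_7 (flp_b L198240) L167510 L214040 (flp_a L145780) (flp_b L104605) (flp_a L104593) L145776 L182954 L213927
theorem L214066 : sm gb N27655 = N25529 := ded_15_3 (flp_e L198310) L214054 L213974
theorem L214068 : sm ga N27546 = N25441 := ded_7_7 (flp_b L197809) (flp_a L167537) L214054 L182971 L145785 L104610 L145474 L182472 L213254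
theorem L214070 : sm gb N27533 = N26312 := ded_7_4 (flp_a L203483) (flp_b L170903) (flp_a L118570) (flp_b L171425) (flp_a L204358) L214056 L213972 L182985 (flp_a L213181)
theorem L214072 : sm gb N27501 = N24149 := ded_7_4 (flp_a L188300) (flp_b L156895) (flp_a L108320) (flp_b L156958) (flp_a L188416) L214058 L198326 (flp_b L182299) (flp_a L212975)
theorem L214074 : sm ge N23470 = N27661 := rfl
theorem L214076 : sm gb N27661 = N27540 := ded_15_1 (flp_e L213223) (flp_b L182985) L214074
theorem L214078 : sm gc N27661 = N23471 := ded_19_1 (flp_e L182987) L182983 L214074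
theorem L214080 : sm gf N23470 = N27662 := rfl
theorem L214082 : sm gc N27662 = N23472 := ded_20_1 (flp_f L182991) L182983 L214080
theorem L214084 : sm gg N23470 = N27663 := rfl
theorem L214086 : sm gc N27663 = N23473 := ded_21_1 (flp_g L182996) L182983 L214084
theorem L214088 : sm gf N23471 = N27664 := rfl
theorem L214090 : sm ge N27664 = N23472 := ded_25_1 (flp_f L182991) L182987 L214088
theorem L214092 : sm gb N27664 = N27664 := ded_16_1 (flp_f L214088) L182989 L145800 (flp_b L182989) L214088
theorem L214093 : sm gg N23471 = N27665 := rfl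
theorem L214095 : sm ge N27665 = N23473 := ded_26_1 (flp_g L182996) L182987 L214093
theorem L214097 : sm gg N23472 = N27666 := rfl
theorem L214099 : sm gd N27666 = N23474 := ded_24_1 (flp_g L183000) (flp_d L182993) L214097
theorem L214101 : sm gf N27657 = N27666 := ded_29_0 (flp_g L214097) (flp_f L182991) L182996 (flp_a L213986)
theorem L214103 : sm gf N23473 = N27667 := rfl
theorem L214105 : sm ga N27667 = N27666 := ded_11_1 (flp_f L214101) L213986 L214103
theorem L214116 : sm gb N23476 = N27670 := rfl
theorem L214118 : sm gd N27670 = N23477 := ded_14_2 (flp_b L183024) (flp_d L183018) L214116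
theorem L214120 : sm ge N27670 = N26065 := ded_15_2 (flp_b L201740) (flp_e L183020) L214116
theorem L214122 : sm gc N23477 = N27671 := rfl
theorem L214124 : sm ga N27671 = N26808 := ded_8_1 (flp_c L207389) L207053 L214122
theorem L214126 : sm ge N27671 = N26720 := ded_19_2 (flp_c L206616) (flp_e L183026) L214122
theorem L214128 : sm gb N27671 = N27671 := ded_13_1 (flp_c L214122) (flp_b L183024) L145813 L183024 L214122
theorem L214129 : sm gb N23478 = N27672 := rfl
theorem L214131 : sm gd N27672 = N23479 := ded_14_2 (flp_b L183040) (flp_d L183034) L214129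
theorem L214133 : sm ge N27672 = N24752 := ded_15_2 (flp_b L192595) (flp_e L183036) L214129
theorem L214135 : sm gf N27672 = N24761 := ded_16_2 (flp_b L192655) (flp_f L160374) (flp_b L160316) L183038 L214129
theorem L214137 : sm gc N24047 = N27672 := ded_28_6 L214131 (flp_a L189743) L201119 L201113 L169397 L156082 L156372 L187617
theorem L214139 : sm gc N23479 = N27673 := rfl
theorem L214141 : sm ga N27673 = N25967 := ded_8_1 (flp_c L201119) L189743 L214139
theorem L214143 : sm ge N27673 = N25027 := ded_19_2 (flp_c L194550) (flp_e L183042) L214139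
theorem L214145 : sm gf N27673 = N25029 := ded_20_2 (flp_c L194565) (flp_f L183044) L214139
theorem L214147 : sm gb N27673 = N27673 := ded_13_1 (flp_c L214139) (flp_b L183040) L145845 L183040 L214139
theorem L214148 : sm gd N27673 = N23908 := ded_28_7 L186446 L169397 L156082 L156372 L187617 L214137 L214131 L214139
theorem L214150 : sm gf N23481 = N27674 := rfl
theorem L214152 : sm gd N27674 = N27604 := ded_23_1 (flp_f L213667) (flp_d L183057) L214150
theorem L214154 : sm ge N27674 = N26458 := ded_25_1 (flp_f L204429) (flp_e L183059) L214150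
theorem L214156 : sm gb N27674 = N23488 := ded_16_1 (flp_f L183109) (flp_b L145898) (flp_f L145876) L183055 L214150
theorem L214158 : sm gg N23481 = N27675 := rfl
theorem L214160 : sm gd N27675 = N27605 := ded_24_1 (flp_g L213671) (flp_d L183057) L214158
theorem L214162 : sm ge N27675 = N26459 := ded_26_1 (flp_g L204435) (flp_e L183059) L214158
theorem L214164 : sm gb N27675 = N23485 := ded_17_1 (flp_g L183085) (flp_b L145882) (flp_g L145878) L183055 L214158
theorem L214166 : sm gb N23482 = N27676 := rfl
theorem L214168 : sm gd N27676 = N26230 := ded_14_2 (flp_b L202995) L183067 L214166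
theorem L214170 : sm ge N27676 = N26460 := ded_15_2 (flp_b L204441) (flp_e L183065) L214166
theorem L214172 : sm gf N23482 = N27677 := rfl
theorem L214174 : sm ga N27677 = N23484 := ded_11_1 (flp_f L183077) L183061 L214172
theorem L214176 : sm gc N27677 = N27645 := ded_20_1 (flp_f L213931) (flp_c L183063) L214172
theorem L214178 : sm gd N27677 = N26232 := ded_23_1 (flp_f L203003) L183067 L214172
theorem L214180 : sm ge N27677 = N26462 := ded_25_1 (flp_f L204449) (flp_e L183065) L214172
theorem L214182 : sm gg N23482 = N27678 := rfl
theorem L214184 : sm ga N27678 = N23485 := ded_12_1 (flp_g L183085) L183061 L214182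
theorem L214186 : sm gc N27678 = N27646 := ded_21_1 (flp_g L213937) (flp_c L183063) L214182
theorem L214188 : sm gd N27678 = N26233 := ded_24_1 (flp_g L203007) L183067 L214182
theorem L214190 : sm ge N27678 = N26463 := ded_26_1 (flp_g L204453) (flp_e L183065) L214182
theorem L214192 : sm ge N23483 = N27679 := rfl
theorem L214194 : sm ga N27679 = N26231 := ded_10_1 (flp_e L202999) (flp_a L183071) L214192
theorem L214196 : sm gb N27679 = N23486 := ded_15_1 (flp_e L183091) (flp_b L183073) L214192
theorem L214198 : sm gc N27679 = N26226 := ded_19_1 (flp_e L202969) L183075 L214192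
theorem L214200 : sm gd N27679 = N26465 := ded_22_1 (flp_e L204465) (flp_d L171456) (flp_e L145884) L183069 L214192
theorem L214202 : sm gf N23483 = N27680 := rfl
theorem L214204 : sm ga N27680 = N26232 := ded_11_1 (flp_f L203003) (flp_a L183071) L214202
theorem L214206 : sm gc N27680 = N26227 := ded_20_1 (flp_f L202975) L183075 L214202
theorem L214208 : sm gd N27680 = N23484 := ded_23_1 (flp_f L183077) L183069 L214202
theorem L214210 : sm gb N27680 = N23496 := ded_16_1 (flp_f L183146) L145909 (flp_f L145892) (flp_b L183073) L214202
theorem L214212 : sm gg N23483 = N27681 := rfl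
theorem L214214 : sm ga N27681 = N26233 := ded_12_1 (flp_g L203007) (flp_a L183071) L214212
theorem L214216 : sm gc N27681 = N26228 := ded_21_1 (flp_g L202981) L183075 L214212
theorem L214218 : sm gd N27681 = N23485 := ded_24_1 (flp_g L183085) L183069 L214212
theorem L214220 : sm gb N27681 = N27605 := ded_17_1 (flp_g L213671) (flp_b L182793) (flp_g L145894) (flp_b L183073) L214212
theorem L214222 : sm gg N23484 = N27682 := rfl
theorem L214224 : sm gc N27682 = N27647 := ded_21_1 (flp_g L213943) (flp_c L183079) L214222
theorem L214226 : sm ge N27682 = N26468 := ded_26_1 (flp_g L204481) (flp_e L183081) L214222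
theorem L214228 : sm gf N27678 = N27682 := ded_29_0 (flp_g L214222) (flp_f L183077) L183085 (flp_a L214184)
theorem L214230 : sm gf N23485 = N27683 := rfl
theorem L214232 : sm ga N27683 = N27682 := ded_11_1 (flp_f L214228) L214184 L214230
theorem L214234 : sm gc N27683 = N27648 := ded_20_1 (flp_f L213949) (flp_c L183087) L214230
theorem L214236 : sm ge N27683 = N26469 := ded_25_1 (flp_f L204485) (flp_e L183089) L214230
theorem L214238 : sm gg N27683 = N27677 := ded_29_3 L214174 (flp_f L183077) L183085 L214230
theorem L214240 : sm gb N23487 = N27684 := rfl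
theorem L214242 : sm gd N27684 = N27622 := ded_14_2 (flp_b L213764) (flp_d L183107) L214240
theorem L214244 : sm gf N23487 = N27685 := rfl
theorem L214246 : sm ga N27685 = N23488 := ded_11_1 (flp_f L183109) L183103 L214244
theorem L214248 : sm gc N27685 = N27637 := ded_20_1 (flp_f L213867) (flp_c L183105) L214244
theorem L214250 : sm gd N27685 = N27624 := ded_23_1 (flp_f L213772) (flp_d L183107) L214244
theorem L214252 : sm gg N23487 = N27686 := rfl
theorem L214254 : sm ga N27686 = N23489 := ded_12_1 (flp_g L183115) L183103 L214252
theorem L214256 : sm gc N27686 = N27638 := ded_21_1 (flp_g L213875) (flp_c L183105) L214252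
theorem L214258 : sm gd N27686 = N27625 := ded_24_1 (flp_g L213778) (flp_d L183107) L214252
theorem L214260 : sm gg N23488 = N27687 := rfl
theorem L214262 : sm gc N27687 = N27642 := ded_21_1 (flp_g L213913) (flp_c L183111) L214260
theorem L214264 : sm gd N27687 = N27628 := ded_24_1 (flp_g L213797) (flp_d L183113) L214260
theorem L214266 : sm gf N27686 = N27687 := ded_29_0 (flp_g L214260) (flp_f L183109) L183115 (flp_a L214254)
theorem L214268 : sm gf N23489 = N27688 := rfl
theorem L214270 : sm ga N27688 = N27687 := ded_11_1 (flp_f L214266) L214254 L214268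
theorem L214272 : sm gc N27688 = N27643 := ded_20_1 (flp_f L213919) (flp_c L183117) L214268
theorem L214274 : sm gd N27688 = N27629 := ded_23_1 (flp_f L213801) (flp_d L183119) L214268
theorem L214276 : sm gg N27688 = N27685 := ded_29_3 L214246 (flp_f L183109) L183115 L214268
theorem L214283 : sm gd N23490 = N27691 := rfl
theorem L214285 : sm gb N27691 = N23491 := ded_14_1 (flp_d L183124) L183122 L214283
theorem L214291 : sm gc N23491 = N27694 := rfl
theorem L214293 : sm ga N27694 = N23494 := ded_8_1 (flp_c L183138) (flp_a L183126) L214291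
theorem L214295 : sm ge N23491 = N27695 := rfl
theorem L214297 : sm ga N27695 = N23495 := ded_10_1 (flp_e L183142) (flp_a L183126) L214295
theorem L214305 : sm gg N23491 = N27697 := rfl
theorem L214309 : sm gd N27697 = N23493 := ded_24_1 (flp_g L183133) L183124 L214305
theorem L214311 : sm gb N23492 = N27698 := rfl
theorem L214313 : sm gb N23493 = N27699 := rfl
theorem L214315 : sm gd N23494 = N27700 := rfl
theorem L214317 : sm gb N27700 = N27615 := ded_14_1 (flp_d L213731) (flp_b L183140) L214315
theorem L214319 : sm gc N27700 = N26460 := ded_32_9 (flp_b L204441) L204443 (flp_c L204447) (flp_d L197967) (flp_c L197953) (flp_b L197949) (flp_d L167294) (flp_c L156500) (flp_d L108123) (flp_c L91437) (flp_b L43398) (flp_d L43366) (flp_c L43378) L43380 L20777 L20829 L20833 L10221 L10299 L21458 L44653 L92288 L109880 L158744 L190547 (flp_c L190555) (flp_b L184372) L183173 (flp_c L162028) L112172 L122824 L122836 (flp_d L171684) (flp_c L171678) (flp_d L120816) (flp_c L97098) (flp_b L85194) (flp_d L46379) (flp_c L93139) (flp_d L107533) (flp_c L155340) L186508 L186512 (flp_d L186494)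 L186498 L172638 L172644 L175478 L158090 L109328 (flp_d L109045) (flp_c L157397) (flp_b L114580) L114582 L153020 (flp_d L129099) (flp_c L153028) L106097 (flp_d L90206) (flp_c L40119) (flp_d L19037) (flp_c L9205) (flp_b L4659) (flp_d L4629) (flp_c L9115) (flp_d L9127) L9125 L9155 (flp_e L18481) L18479 L18581 L39124 L89489 L104698 L145907 L183138 L214315
theorem L214321 : sm gd N27694 = N26460 := ded_28_5 (flp_c L214319) (flp_d L214315) (flp_a L214293) (flp_c L214291) (flp_d L183124) L145906 L183124 L214291
theorem L214323 : sm ga N27700 = N26460 := ded_28_8 (flp_c L214319) (flp_d L214315) (flp_c L183138) (flp_d L145907) L104700 L145907 L183138 L214315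
theorem L214325 : N23491 = N25583 := coi_32_20 L198668 (flp_d L167781) (flp_c L116411) (flp_d L95795) (flp_c L84550) (flp_b L24980) L12025 (flp_d L10771) (flp_c L21139) (flp_d L44026) L44024 L91682 L91684 L91730 L108635 L157241 L164099 (flp_d L195556) (flp_c L208153) L208151 L176909 (flp_b L129020) L102223 L89610 (flp_d L102209) (flp_c L102835) L119053 L99179 L86107 L147459 (flp_c L86214) (flp_b L99228) (flp_e L146796) (flp_d L119055) L102835 L102209 (flp_c L89610) L104831 (flp_d L129022) (flp_c L176909) (flp_d L208151) L208153 L195560 (flp_d L188719) (flp_c L157241) (flp_d L108635) (flp_c L91730) (flp_b L44042) (flp_d L44010) (flp_c L44024) L44026 L21139 L22353 L22355 L26756 L85371 L97518 (flp_b L163392) (flp_e L88389) L88387 L36831 L17666 (flp_c L8625) L17726 (flp_d L36899) L88478 L102799 (flp_c L104373) L145368 L145370 (flp_c L104522) L145682 L182827 (flp_b L183140) L214315 L214319 (flp_d L214321) (flp_c L214291)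
theorem L214326 : N25583 = N23491 := (eqc rfl L214325 rfl).symm
theorem L214327 : sm gb N23491 = N21319 := trfs L214326 L198668 rfl
theorem L214328 : N21319 = N27691 := eqes L214327 (flp_b L214285)
theorem L214329 : N27691 = N21319 := (eqc rfl L214328 rfl).symm
theorem L214330 : sm gd N23491 = N21318 := trfs L214326 (flp_d L198666) rfl
theorem L214331 : N21318 = N19013 := eqes L214330 (flp_d L183124)
theorem L214332 : N21318 = N19013 := eqc rfl L214331 rfl
theorem L214336 : sm gb N19013 = N16150 := trfs L214332 (flp_b L167778) rfl
theorem L214337 : N16150 = N23490 := eqes L214336 L183122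
theorem L214338 : N23490 = N16150 := (eqc rfl L214337 rfl).symm
theorem L214340 : sm ge N19013 = N25584 := trfs L214332 L198670 rfl
theorem L214341 : N25584 = N19821 := eqes L214340 (flp_e L156991)
theorem L214342 : N25584 = N19821 := eqc rfl L214341 rfl
theorem L214351 : sm gb N19821 = N21320 := trfs L214342 L198672 rfl
theorem L214352 : N21320 = N24182 := eqes L214351 L188492
theorem L214353 : N24182 = N21320 := (eqc rfl L214352 rfl).symm
theorem L214355 : sm gb N21320 = N19821 := trfs L214353 (flp_b L188492) rfl
theorem L214361 : sm gb N16150 = N19013 := trfs L214338 (flp_b L183122) rfl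
theorem L214375 : sm gb N21319 = N23491 := trfs L214329 L214285 rfl
theorem L214377 : sm gb N26461 = N27694 := ded_32_15 L214321 (flp_c L214319) (flp_d L214315) (flp_c L183138) L145909 (flp_d L104701) (flp_c L89489) (flp_d L39124) (flp_c L18581) (flp_b L9005) L4581 L2388 L1230 L594 (flp_c L65182) L601 (flp_d L1274) L2512 L4823 (flp_c L65522) L140364 (flp_d L140375) (flp_c L140496) (flp_d L3487) (flp_c L1772) (flp_b L877) (flp_d L817) L815 L802 L383 L415 L417 L429 L134980 (flp_c L429) (flp_b L199) L101 (flp_d L187) (flp_c L383) (flp_d L802) (flp_c L815) L1665 L1667 L1772 L3487 L140496 (flp_b L5797) (flp_d L5789) L65522 (flp_d L4823) (flp_c L2512) (flp_b L1272) L580 L65182 (flp_d L594) (flp_c L1230) L2446 (flp_d L4611) L9097 (flp_d L132594) (flp_c L10128) (flp_b L5121) (flp_e L5083) (flp_d L10013) (flp_c L20777) (flp_d L43380) L43378 L91373 L91375 L91437 L108123 L156500 L187853 (flp_d L197951) L197953 L197967 L204447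
theorem L214379 : sm gb N24183 = N25589 := ded_14_3 (flp_d L198695) L214355 L188496
theorem L214381 : sm gf N27698 = N25560 := ded_16_4 (flp_b L198514) L167718 L214361 L183128 L214311
theorem L214383 : sm gg N27699 = N25591 := ded_17_4 (flp_b L198707) (flp_g L167791) L214361 L183133 L214313
theorem L214385 : sm ga N27684 = N25575 := ded_7_7 (flp_b L198611) L167756 L214361 (flp_a L145904) (flp_b L104698) (flp_a L104684) L145898 L183103 L214240
theorem L214387 : sm gb N27695 = N25587 := ded_15_3 (flp_e L198681) L214375 L214295
theorem L214389 : sm ga N27622 = N25475 := ded_7_7 (flp_b L197989) (flp_a L167783) L214375 L183126 L145909 L104703 L145706 L182862 L213764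
theorem L214391 : sm gb N27609 = N26388 := ded_7_4 (flp_a L203983) (flp_b L171246) (flp_a L118617) (flp_b L171458) (flp_a L204445) L214377 L214293 L183140 (flp_a L213691)
theorem L214393 : sm gb N27577 = N24162 := ded_7_4 (flp_a L188372) (flp_b L156934) (flp_a L108351) (flp_b L156995) (flp_a L188498) L214379 L198697 (flp_b L182661) (flp_a L213477)
theorem L214395 : sm ge N23494 = N27701 := rfl
theorem L214397 : sm gb N27701 = N27616 := ded_15_1 (flp_e L213733) (flp_b L183140) L214395
theorem L214399 : sm gc N27701 = N23495 := ded_19_1 (flp_e L183142) L183138 L214395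
theorem L214401 : sm gf N23494 = N27702 := rfl
theorem L214403 : sm gc N27702 = N23496 := ded_20_1 (flp_f L183146) L183138 L214401
theorem L214405 : sm gg N23494 = N27703 := rfl
theorem L214407 : sm gc N27703 = N23497 := ded_21_1 (flp_g L183150) L183138 L214405
theorem L214409 : sm gf N23495 = N27704 := rfl
theorem L214411 : sm ge N27704 = N23496 := ded_25_1 (flp_f L183146) L183142 L214409
theorem L214413 : sm gg N23495 = N27705 := rfl
theorem L214415 : sm ge N27705 = N23497 := ded_26_1 (flp_g L183150) L183142 L214413
theorem L214418 : sm gg N23496 = N27706 := rfl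
theorem L214420 : sm gd N27706 = N23498 := ded_24_1 (flp_g L183155) (flp_d L183148) L214418
theorem L214434 : sm gb N23499 = N27709 := rfl
theorem L214437 : sm gc N23502 = N27710 := rfl
theorem L214439 : sm ge N27710 = N23504 := ded_19_2 (flp_c L183191) (flp_e L183185) L214437
theorem L214441 : sm gg N27710 = N24716 := ded_21_2 L192369 L187541 L214437
theorem L214443 : sm gf N23502 = N27710 := ded_25_0 L214439 L183195 (flp_e L183185)
theorem L214445 : sm gb N23506 = N27711 := rfl
theorem L214447 : sm gd N27711 = N24251 := ded_14_2 L196325 L196321 L214445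
theorem L214449 : sm gc N27711 = N23695 := ded_13_2 L184628 (flp_c L173645) L183213 L183201 L214445
theorem L214451 : sm ga N27711 = N26960 := ded_30_3 L208741 L206602 (flp_b L174834) L174832 L174848 (flp_c L207039) L207041 L175589 L175637 L175641 L175669 L175699 L183571 L183575 L151990 (flp_a L183207) (flp_f L183205) L183201 L214445
theorem L214453 : sm gg N23694 = N27711 := ded_24_0 L214447 L189009 L184622
theorem L214455 : sm gb N23511 = N27712 := rfl
theorem L214457 : sm gd N27712 = N23730 := ded_14_2 (flp_b L184900) (flp_d L183247) L214455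
theorem L214459 : sm gf N27712 = N23676 := ded_16_2 (flp_b L207273) L207275 L184882 (flp_f L183243) L214455
theorem L214461 : sm ga N27712 = N26805 := ded_7_1 (flp_b L207359) (flp_a L175258) (flp_b L195488) L195486 L195512 (flp_a L195518) (flp_b L183249) (flp_a L183241) L214455
theorem L214463 : sm gg N23512 = N27713 := rfl
theorem L214465 : sm gc N27713 = N23515 := ded_21_1 (flp_g L183275) (flp_c L183253) L214463
theorem L214467 : sm gd N27713 = N23722 := ded_24_1 (flp_g L184842) (flp_d L183251) L214463
theorem L214469 : sm gf N23681 = N27713 := ded_29_0 (flp_g L214463) L183255 (flp_g L184766) L184824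
theorem L214471 : sm gb N27713 = N23670 := ded_17_1 L184458 (flp_b L184402) (flp_g L183257) L183249 L214463
theorem L214473 : sm gc N23517 = N27714 := rfl
theorem L214475 : sm ge N27714 = N23518 := ded_19_2 (flp_c L183285) (flp_e L183283) L214473
theorem L214477 : sm gf N27714 = N24765 := ded_20_2 L192679 L187905 L214473
theorem L214479 : sm gg N23517 = N27714 := ded_26_0 L214475 (flp_g L183289) (flp_e L183283)
theorem L214481 : sm gb N23519 = N27715 := rfl
theorem L214483 : sm gd N27715 = N24270 := ded_14_2 L195924 L195920 L214481
theorem L214485 : sm gc N27715 = N23642 := ded_13_2 L184244 (flp_c L175130) L175140 L183293 L214481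
theorem L214487 : sm ga N27715 = N26942 := ded_30_3 (flp_f L208562) (flp_c L205205) L189517 L189511 L195021 L195025 (flp_b L162643) (flp_a L112622) (flp_f L112620) L148494 (flp_b L103054) (flp_a L88612) L88622 (flp_c L103070) L142997 L179531 L179533 L183293 L214481
theorem L214489 : sm gf N23641 = N27715 := ded_23_0 L214483 L189131 (flp_d L205203)
theorem L214491 : sm gb N23524 = N27716 := rfl
theorem L214493 : sm gd N27716 = N23679 := ded_14_2 (flp_b L184516) (flp_d L183329) L214491
theorem L214495 : sm gc N27716 = N27712 := ded_13_2 (flp_b L214455) (flp_c L183239) (flp_b L151756) L183321 L214491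
theorem L214497 : sm gg N27716 = N23727 := ded_17_2 (flp_b L206216) (flp_g L206220) L184490 (flp_g L183327) L214491
theorem L214499 : sm ga N27716 = N26696 := ded_7_1 (flp_b L206412) L173833 (flp_b L195769) L195765 (flp_b L195566) L195564 (flp_b L183331) (flp_a L183323) L214491
theorem L214501 : sm gf N23525 = N27717 := rfl
theorem L214503 : sm gc N27717 = N23527 := ded_20_1 (flp_f L183349) (flp_c L183335) L214501
theorem L214505 : sm gd N27717 = N23670 := ded_23_1 (flp_f L184454) (flp_d L183333) L214501
theorem L214507 : sm gg N27717 = N23732 := ded_29_3 (flp_a L184918) L184390 (flp_g L183337) L214501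
theorem L214509 : sm gb N27717 = N23722 := ded_16_1 (flp_f L184848) (flp_b L184828) (flp_f L183339) L183331 L214501
theorem L214511 : sm gb N23537 = N27718 := rfl
theorem L214513 : sm ge N27718 = N23538 := ded_15_2 (flp_b L183467) (flp_e L183465) L214511
theorem L214515 : sm gg N27718 = N23545 := ded_17_2 (flp_b L183511) (flp_g L151968) (flp_b L151942) L183461 L214511
theorem L214517 : sm ga N27718 = N25951 := ded_7_1 (flp_b L200958) (flp_a L169329) (flp_b L117295) (flp_a L96295) L117487 L169677 L186115 L186109 L214511
theorem L214519 : sm gf N23537 = N27719 := rfl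
theorem L214521 : sm ga N27719 = N23971 := ded_11_1 (flp_f L187033) L186109 L214519
theorem L214523 : sm gc N27719 = N23646 := ded_20_1 (flp_f L184276) (flp_c L183463) L214519
theorem L214525 : sm ge N27719 = N23539 := ded_25_1 (flp_f L183475) (flp_e L183465) L214519
theorem L214527 : sm gg N27719 = N23862 := ded_29_3 L186081 L155830 L183461 L214519
theorem L214529 : sm ga N23540 = N27720 := rfl
theorem L214531 : sm gc N27720 = N23552 := ded_8_2 L183581 L183507 L214529
theorem L214533 : sm gd N27720 = N24302 := ded_9_2 L189359 (flp_d L183487) L214529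
theorem L214535 : sm gf N27720 = N23665 := ded_11_2 (flp_a L184428) (flp_f L183503) L214529
theorem L214537 : sm gg N27720 = N23551 := ded_12_2 L183573 (flp_g L183489) L214529
theorem L214539 : sm ga N23545 = N27721 := rfl
theorem L214541 : sm ge N27721 = N23546 := ded_10_2 (flp_a L183515) (flp_e L183513) L214539
theorem L214543 : sm gg N27721 = N25951 := ded_12_2 (flp_a L214517) L214515 L214539
theorem L214545 : sm gf N24826 = N27721 := ded_25_0 L214541 L183521 (flp_e L193083)
theorem L214547 : sm gc N23545 = N27722 := rfl
theorem L214549 : sm ge N27722 = N23547 := ded_19_2 (flp_c L183523) (flp_e L183513) L214547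
theorem L214551 : sm gb N27722 = N23557 := ded_13_1 (flp_c L183615) (flp_b L152018) (flp_c L151972) L183511 L214547
theorem L214553 : sm gf N23558 = N27722 := ded_25_0 L214549 (flp_f L183529) (flp_e L183625)
theorem L214555 : sm gf N23545 = N27723 := rfl
theorem L214557 : sm ga N27723 = N24826 := ded_11_1 L214545 (flp_a L214539) L214555
theorem L214559 : sm gc N27723 = N23558 := ded_20_1 L214553 (flp_c L214547) L214555
theorem L214561 : sm ge N27723 = N23548 := ded_25_1 (flp_f L183531) (flp_e L183513) L214555
theorem L214563 : sm gg N24044 = N27723 := ded_29_1 (flp_f L214555) (flp_g L214515) L214517 L200962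
theorem L214565 : sm gb N27723 = N27710 := ded_16_1 (flp_f L214443) (flp_b L183183) (flp_f L151976) L183511 L214555
theorem L214567 : sm ga N23558 = N27724 := rfl
theorem L214569 : sm gc N27724 = N24826 := ded_8_2 (flp_a L214557) L214559 L214567
theorem L214571 : sm ge N27724 = N23559 := ded_10_2 (flp_a L183629) (flp_e L183625) L214567
theorem L214573 : sm gg N27724 = N24043 := ded_12_2 (flp_a L187589) (flp_g L183627) L214567
theorem L214575 : sm gb N27724 = N25930 := ded_7_2 L200860 L169281 (flp_a L169521) L201352 (flp_a L201356) (flp_b L183183) (flp_a L152026) L183623 L214567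
theorem L214577 : sm gc N23566 = N27725 := rfl
theorem L214579 : sm ga N27725 = N23567 := ded_8_1 (flp_c L183697) L183693 L214577
theorem L214581 : sm gf N27725 = N23570 := ded_20_2 (flp_c L183713) (flp_f L183695) L214577
theorem L214583 : sm gd N27725 = N26846 := ded_28_7 L207702 (flp_c L175703) (flp_d L175671) (flp_c L175701) (flp_d L183517) (flp_c L189295) L189297 L214577
theorem L214585 : sm gg N23567 = N27726 := rfl
theorem L214587 : sm gc N27726 = N23568 := ded_21_1 (flp_g L183703) L183697 L214585
theorem L214589 : sm gd N27726 = N26847 := ded_24_1 (flp_g L207708) L183701 L214585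
theorem L214591 : sm gc N23569 = N27727 := rfl
theorem L214593 : sm ga N27727 = N26621 := ded_8_1 L205816 (flp_a L183709) L214591
theorem L214595 : sm gf N27727 = N23707 := ded_20_2 (flp_c L205838) (flp_f L205842) L214591
theorem L214597 : sm gg N27727 = N26618 := ded_21_2 (flp_c L205796) L183711 L214591
theorem L214599 : sm gb N27727 = N26834 := ded_13_1 L207622 (flp_b L207497) (flp_c L183713) L183705 L214591
theorem L214601 : sm gd N26764 = N27727 := ded_28_1 (flp_c L214591) L183707 (flp_c L190186) L190184 L190109 (flp_d L184115) L184117 (flp_c L207039)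
theorem L214603 : sm gg N23570 = N27728 := rfl
theorem L214605 : sm ga N27728 = N23572 := ded_12_1 (flp_g L183725) (flp_a L183715) L214603
theorem L214607 : sm gc N27728 = N23571 := ded_21_1 (flp_g L183717) L183713 L214603
theorem L214609 : sm gf N27728 = N27726 := ded_29_2 (flp_g L214585) (flp_a L214579) L214581 L214603
theorem L214611 : sm gf N23572 = N27729 := rfl
theorem L214613 : sm ga N27729 = N27726 := ded_11_1 (flp_f L214609) L214605 L214611
theorem L214615 : sm gc N27729 = N23573 := ded_20_1 (flp_f L183731) (flp_c L183727) L214611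
theorem L214617 : sm gd N27729 = N26550 := ded_23_1 L205167 L189367 L214611
theorem L214619 : sm gg N27729 = N27725 := ded_29_3 L214579 L183699 L183725 L214611
theorem L214621 : sm gb N27729 = N26548 := ded_16_1 L205161 (flp_b L205085) (flp_f L172340) L183729 L214611
theorem L214623 : sm gf N23576 = N27730 := rfl
theorem L214625 : sm ga N27730 = N26902 := ded_11_1 L208189 L195797 L214623
theorem L214627 : sm gc N27730 = N25155 := ded_20_1 (flp_f L195721) L195458 L214623
theorem L214629 : sm gd N27730 = N23577 := ded_23_1 (flp_f L183757) L183753 L214623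
theorem L214631 : sm gg N27730 = N25153 := ded_29_3 (flp_a L207656) L207654 L195767 L214623
theorem L214633 : sm gb N27730 = N23714 := ded_16_1 (flp_f L184780) (flp_b L153261) L153267 (flp_b L183755) L214623
theorem L214635 : sm gb N23577 = N27731 := rfl
theorem L214637 : sm gd N27731 = N23714 := ded_14_2 (flp_b L214633) L214629 L214635
theorem L214639 : sm gc N27731 = N23725 := ded_13_2 L184878 L153396 L152242 (flp_c L183761) L214635
theorem L214641 : sm gf N27731 = N23711 := ded_16_2 (flp_b L184760) L183749 (flp_b L183745) L183757 L214635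
theorem L214643 : sm gg N27731 = N25133 := ded_17_2 (flp_b L195512) (flp_g L195420) L195422 L183763 L214635
theorem L214645 : sm ga N27731 = N27713 := ded_30_3 (flp_f L214469) (flp_c L184852) (flp_b L184858) (flp_a L201066) L201072 (flp_c L195139) (flp_b L162647) L112622 (flp_f L112618) (flp_c L149584) L149592 L113414 L113474 (flp_c L164312) L164316 (flp_a L152094) L152102 (flp_c L183761) L214635
theorem L214647 : sm ga N23584 = N27732 := rfl
theorem L214649 : sm gc N27732 = N23626 := ded_8_2 L184127 (flp_c L183819) L214647
theorem L214651 : sm gf N27732 = N23625 := ded_11_2 L184123 (flp_f L183821) L214647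
theorem L214653 : sm gg N23584 = N27733 := rfl
theorem L214655 : sm gc N27733 = N23627 := ded_21_1 (flp_g L184133) (flp_c L183819) L214653
theorem L214657 : sm gd N27733 = N26521 := ded_24_1 L204920 L189483 L214653
theorem L214659 : sm gb N27733 = N26519 := ded_17_1 L204914 (flp_b L204837) L172035 L183817 L214653
theorem L214661 : sm ga N23586 = N27734 := rfl
theorem L214663 : sm gc N27734 = N26690 := ded_8_2 L206362 L206352 L214661
theorem L214665 : sm gd N27734 = N24969 := ded_9_2 L194037 (flp_d L183837) L214661
theorem L214667 : sm gf N27734 = N26685 := ded_11_2 L206328 (flp_f L183839) L214661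
theorem L214669 : sm gg N27734 = N24971 := ded_12_2 L194053 (flp_g L183841) L214661
theorem L214671 : sm gb N27734 = N24968 := ded_7_2 L194025 (flp_b L205310) (flp_a L205836) L205844 (flp_a L190353) L190355 L162321 L183835 L214661
theorem L214673 : sm gf N23587 = N27735 := rfl
theorem L214675 : sm ga N27735 = N23675 := ded_11_1 (flp_f L184496) (flp_a L183847) L214673
theorem L214677 : sm gc N27735 = N23727 := ded_20_1 (flp_f L184888) (flp_c L183845) L214673
theorem L214679 : sm gg N27735 = N27712 := ded_29_3 L214461 L207365 (flp_g L206232) L214673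
theorem L214681 : sm gb N27735 = N26829 := ded_16_1 L207581 (flp_b L175573) (flp_f L152224) L183843 L214673
theorem L214683 : sm gb N23597 = N27736 := rfl
theorem L214685 : sm ge N27736 = N23598 := ded_15_2 (flp_b L183935) (flp_e L183933) L214683
theorem L214687 : sm gf N27736 = N23605 := ded_16_2 (flp_b L183979) (flp_f L152412) (flp_b L152386) L183929 L214683
theorem L214689 : sm ga N27736 = N26186 := ded_7_1 (flp_b L202605) (flp_a L170328) (flp_b L117905) (flp_a L96582) L118101 L170692 L186133 L186127 L214683
theorem L214691 : sm gg N23597 = N27737 := rfl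
theorem L214693 : sm ga N27737 = N23996 := ded_12_1 L187217 L186127 L214691
theorem L214695 : sm gc N27737 = N23698 := ded_21_1 (flp_g L184652) (flp_c L183931) L214691
theorem L214697 : sm ge N27737 = N23599 := ded_26_1 (flp_g L183943) (flp_e L183933) L214691
theorem L214699 : sm gf N23863 = N27737 := ded_29_0 (flp_g L214691) (flp_f L183929) (flp_g L155928) (flp_a L186091)
theorem L214701 : sm ga N23604 = N27738 := rfl
theorem L214703 : sm gc N27738 = N23612 := ded_8_2 L184035 L183977 L214701
theorem L214705 : sm gd N27738 = N24360 := ded_9_2 L189797 (flp_d L183971) L214701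
theorem L214707 : sm gf N27738 = N23611 := ded_11_2 L184027 (flp_f L183973) L214701
theorem L214709 : sm gg N27738 = N23717 := ded_12_2 L184808 (flp_g L183975) L214701
theorem L214711 : sm ga N23605 = N27739 := rfl
theorem L214713 : sm ge N27739 = N23606 := ded_10_2 (flp_a L183983) (flp_e L183981) L214711
theorem L214715 : sm gf N27739 = N26186 := ded_11_2 (flp_a L214689) L214687 L214711
theorem L214717 : sm gg N24878 = N27739 := ded_26_0 L214713 (flp_g L183989) (flp_e L193393)
theorem L214719 : sm gc N23605 = N27740 := rfl
theorem L214721 : sm ge N27740 = N23607 := ded_19_2 (flp_c L183991) (flp_e L183981) L214719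
theorem L214723 : sm gb N27740 = N23616 := ded_13_1 (flp_c L184057) (flp_b L152456) (flp_c L152416) L183979 L214719
theorem L214725 : sm gg N23617 = N27740 := ded_26_0 L214721 (flp_g L183997) (flp_e L184067)
theorem L214727 : sm gg N23605 = N27741 := rfl
theorem L214729 : sm ga N27741 = N24878 := ded_12_1 L214717 (flp_a L214711) L214727
theorem L214731 : sm gc N27741 = N23617 := ded_21_1 L214725 (flp_c L214719) L214727
theorem L214733 : sm ge N27741 = N23608 := ded_26_1 (flp_g L183999) (flp_e L183981) L214727
theorem L214735 : sm gf N27741 = N24096 := ded_29_2 (flp_g L202609) (flp_a L214689) L214687 L214727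
theorem L214737 : sm gb N27741 = N27714 := ded_17_1 (flp_g L214479) (flp_b L183281) L152420 L183979 L214727
theorem L214739 : sm ga N23617 = N27742 := rfl
theorem L214741 : sm gc N27742 = N24878 := ded_8_2 (flp_a L214729) L214731 L214739
theorem L214743 : sm ge N27742 = N23618 := ded_10_2 (flp_a L184071) (flp_e L184067) L214739
theorem L214745 : sm gf N27742 = N24095 := ded_11_2 (flp_a L187947) (flp_f L184069) L214739
theorem L214747 : sm gb N27742 = N26165 := ded_7_2 L202507 L170276 (flp_a L170526) L202989 L202993 (flp_b L183281) (flp_a L152464) L184065 L214739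
theorem L214749 : sm gc N23621 = N27743 := rfl
theorem L214751 : sm ga N27743 = N23622 := ded_8_1 (flp_c L184105) L184101 L214749
theorem L214753 : sm gf N27743 = N27733 := ded_20_2 L214655 (flp_f L184139) L214749
theorem L214755 : sm gg N27743 = N23625 := ded_21_2 (flp_c L184121) (flp_g L184103) L214749
theorem L214757 : sm gb N27743 = N27726 := ded_13_1 L214587 (flp_b L184382) (flp_c L195131) L195137 L214749
theorem L214759 : sm gd N27743 = N26881 := ded_28_7 L207987 (flp_c L176081) (flp_d L176055) (flp_c L176079) (flp_d L183985) (flp_c L189727) L189729 L214749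
theorem L214761 : sm gf N23622 = N27744 := rfl
theorem L214763 : sm ga N27744 = N27733 := ded_11_1 (flp_f L214753) L214751 L214761
theorem L214765 : sm gc N27744 = N23623 := ded_20_1 (flp_f L184111) L184105 L214761
theorem L214767 : sm gd N27744 = N26882 := ded_23_1 (flp_f L207995) L184109 L214761
theorem L214769 : sm gg N27744 = N27732 := ded_29_3 (flp_a L214647) L183821 (flp_g L184107) L214761
theorem L214771 : sm gb N27744 = N27725 := ded_16_1 L214581 L207497 (flp_f L207495) (flp_b L205036) L214761
theorem L214773 : sm gc N23624 = N27745 := rfl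
theorem L214775 : sm ga N27745 = N26764 := ded_8_1 L207039 (flp_a L184117) L214773
theorem L214777 : sm gf N27745 = N26761 := ded_20_2 (flp_c L207019) L184119 L214773
theorem L214779 : sm gg N27745 = N23655 := ded_21_2 (flp_c L207061) L207065 L214773
theorem L214781 : sm gb N27745 = N26869 := ded_13_1 L207907 (flp_b L207782) (flp_c L184121) L184113 L214773
theorem L214783 : sm gd N27745 = N26621 := ded_28_7 (flp_a L214593) (flp_c L214591) L183707 (flp_c L190186) L190184 L190109 (flp_d L184115) L214773
theorem L214785 : sm gg N23629 = N27746 := rfl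
theorem L214787 : sm ga N27746 = N26898 := ded_12_1 L208157 L195540 L214785
theorem L214789 : sm gc N27746 = N25123 := ded_21_1 L195508 L195504 L214785
theorem L214791 : sm gd N27746 = N23631 := ded_24_1 (flp_g L184157) L184147 L214785
theorem L214793 : sm gf N25121 = N27746 := ded_29_0 (flp_g L214785) L195492 (flp_g L207939) (flp_a L207941)
theorem L214795 : sm gb N27746 = N23662 := ded_17_1 (flp_g L184404) (flp_b L152846) L152850 (flp_b L184149) L214785
theorem L214797 : sm gb N23631 = N27747 := rfl
theorem L214799 : sm gd N27747 = N23662 := ded_14_2 (flp_b L214795) L214791 L214797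
theorem L214801 : sm gc N27747 = N23673 := ded_13_2 L184486 L152959 L152648 (flp_c L184161) L214797
theorem L214803 : sm gf N27747 = N25139 := ded_16_2 L195566 (flp_f L195705) L195707 L184163 L214797
theorem L214805 : sm gg N27747 = N23659 := ded_17_2 (flp_b L184384) (flp_g L183669) L183671 L184157 L214797
theorem L214807 : sm ga N27747 = N27717 := ded_7_1 L214509 L184844 (flp_b L214633) L214625 (flp_b L208183) L176500 L176907 (flp_a L184159) L214797
theorem L214809 : sm ga N23632 = N27748 := rfl
theorem L214811 : sm gc N27748 = N26668 := ded_8_2 (flp_a L206184) L206186 L214809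
theorem L214813 : sm gd N27748 = N24988 := ded_9_2 L194199 (flp_d L184167) L214809
theorem L214815 : sm gf N27748 = N24990 := ded_11_2 L194215 (flp_f L184169) L214809
theorem L214817 : sm gg N27748 = N26654 := ded_12_2 L206066 (flp_g L184171) L214809
theorem L214819 : sm gb N27748 = N24987 := ded_7_2 L194187 (flp_b L206631) (flp_a L207059) L207067 (flp_a L190549) L190551 L162635 L184165 L214809
theorem L214821 : sm gg N23633 = N27749 := rfl
theorem L214823 : sm ga N27749 = N23728 := ded_12_1 (flp_g L184890) (flp_a L184177) L214821
theorem L214825 : sm gc N27749 = N23676 := ded_21_1 (flp_g L184498) (flp_c L184175) L214821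
theorem L214827 : sm gf N27716 = N27749 := ded_29_0 (flp_g L214821) L206136 (flp_g L206416) (flp_a L214499)
theorem L214829 : sm gb N27749 = N26864 := ded_17_1 L207868 (flp_b L175967) (flp_g L152630) L184173 L214821
theorem L214831 : sm gb N23637 = N27750 := rfl
theorem L214833 : sm gd N27750 = N23639 := ded_14_2 (flp_b L184226) (flp_d L184217) L214831
theorem L214835 : sm ge N27750 = N26492 := ded_15_2 (flp_b L204691) (flp_e L184219) L214831
theorem L214837 : sm gf N27750 = N26603 := ded_16_2 L205659 L175348 (flp_b L152684) L184211 L214831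
theorem L214839 : sm gg N27750 = N26578 := ded_17_2 (flp_b L205434) (flp_g L172705) (flp_b L171866) (flp_g L184221) L214831
theorem L214841 : sm ga N27750 = N26751 := ded_7_1 L206930 (flp_a L205661) (flp_b L173014) L122038 (flp_b L172970) (flp_a L186009) L186014 (flp_a L184213) L214831
theorem L214843 : sm gc N26750 = N27750 := ded_19_3 L214835 (flp_c L204701) (flp_e L206922)
theorem L214845 : sm gc N23638 = N27751 := rfl
theorem L214847 : sm ga N27751 = N25254 := ded_8_1 (flp_c L203325) (flp_a L203328) L214845
theorem L214849 : sm gg N27751 = N27751 := ded_21_2 (flp_c L214845) L184225 L214845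
theorem L214850 : sm gb N27751 = N23641 := ded_13_1 (flp_c L184236) (flp_b L152720) (flp_c L152688) L184223 L214845
theorem L214852 : sm gd N27751 = N26940 := ded_28_7 L208552 (flp_c L186047) (flp_d L186042) (flp_c L154869) (flp_d L154846) L186007 (flp_d L186016) L214845
theorem L214854 : sm gf N23638 = N27752 := rfl
theorem L214856 : sm gd N27752 = N26749 := ded_23_1 L206914 (flp_d L186016) L214854
theorem L214858 : sm gb N27752 = N26755 := ded_16_1 L206970 (flp_b L184179) L152690 L184223 L214854
theorem L214860 : sm ga N23639 = N27753 := rfl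
theorem L214862 : sm gd N27753 = N26751 := ded_9_2 (flp_a L214841) L214833 L214860
theorem L214864 : sm gf N27753 = N27036 := ded_11_2 (flp_a L209391) (flp_f L184228) L214860
theorem L214866 : sm gc N25246 = N27753 := ded_28_2 L214862 (flp_c L206926) (flp_d L202190) L202194 (flp_d L185129) (flp_a L196516) (flp_c L196514) L196524
theorem L214868 : sm gc N23639 = N27754 := rfl
theorem L214870 : sm ga N27754 = N25246 := ded_8_1 L214866 (flp_a L214860) L214868
theorem L214872 : sm gf N27754 = N27037 := ded_20_2 (flp_c L209393) (flp_f L184228) L214868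
theorem L214874 : sm gb N27754 = N23643 := ded_13_1 (flp_c L184246) (flp_b L152726) (flp_c L152696) L184226 L214868
theorem L214876 : sm gd N27754 = N24255 := ded_28_3 L189033 L185129 (flp_c L202194) L202190 L206920 L214843 L214833 L214868
theorem L214878 : sm gg N27155 = N27754 := ded_31_0 L214872 L209397 L178549 (flp_f L165758) (flp_b L114748) (flp_g L94965) (flp_f L94413) (flp_b L113590) L164488 L195809 L195817 (flp_g L210403) (flp_f L210395) L210393
theorem L214880 : sm gg N23639 = N27755 := rfl
theorem L214882 : sm gc N27755 = N27155 := ded_21_1 L214878 (flp_c L214868) L214880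
theorem L214884 : sm gd N27755 = N26578 := ded_24_1 (flp_g L214839) L214833 L214880
theorem L214886 : sm ge N27755 = N25846 := ded_26_1 (flp_g L212807) L212803 L214880
theorem L214888 : sm gb N27755 = N25172 := ded_17_1 (flp_g L195852) L164601 (flp_g L152698) L184226 L214880
theorem L214890 : sm gc N23648 = N27756 := rfl
theorem L214892 : sm ga N27756 = N27487 := ded_8_1 L212871 (flp_a L184298) L214890
theorem L214894 : sm ge N27756 = N27492 := ded_19_2 L212915 (flp_e L184302) L214890
theorem L214896 : sm gf N27756 = N27485 := ded_20_2 (flp_c L212853) (flp_f L184300) L214890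
theorem L214898 : sm gg N23649 = N27757 := rfl
theorem L214900 : sm ga N27757 = N25826 := ded_12_1 (flp_g L203525) L203523 L214898
theorem L214902 : sm gc N27757 = N24790 := ded_21_1 (flp_g L192829) (flp_c L184308) L214898
theorem L214904 : sm ge N27757 = N23652 := ded_26_1 (flp_g L184330) (flp_e L184306) L214898
theorem L214906 : sm gf N25824 = N27757 := ded_29_0 (flp_g L214898) L184310 (flp_g L168778) L200071
theorem L214908 : sm gb N27757 = N24928 := ded_17_1 L193717 (flp_b L193079) (flp_g L184312) L184304 L214898
theorem L214910 : sm gd N23651 = N27758 := rfl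
theorem L214912 : sm gb N27758 = N24891 := ded_14_1 L193461 (flp_b L184328) L214910
theorem L214914 : sm gf N27758 = N24781 := ded_23_2 L192783 (flp_f L184326) L214910
theorem L214916 : sm ge N23653 = N27759 := rfl
theorem L214918 : sm ga N27759 = N23660 := ded_10_1 (flp_e L184392) (flp_a L184344) L214916
theorem L214920 : sm gb N27759 = N26620 := ded_15_1 (flp_e L205810) (flp_b L184348) L214916
theorem L214922 : sm gc N27759 = N23654 := ded_19_1 (flp_e L184354) L184342 L214916
theorem L214924 : sm gf N27759 = N23654 := ded_25_2 (flp_e L184354) L184352 L214916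
theorem L214926 : sm gg N27759 = N27466 := ded_26_2 L212725 (flp_g L184346) L214916
theorem L214928 : sm ga N23655 = N27760 := rfl
theorem L214930 : sm gc N27760 = N26721 := ded_8_2 (flp_a L207059) L207061 L214928
theorem L214932 : sm gd N27760 = N26618 := ded_9_2 L205798 (flp_d L184362) L214928
theorem L214934 : sm gf N27760 = N26720 := ded_11_2 L206618 (flp_f L184364) L214928
theorem L214936 : sm gg N27760 = N26764 := ded_12_2 (flp_a L214775) L214779 L214928
theorem L214938 : sm gb N27760 = N26832 := ded_7_2 L207605 L198427 (flp_a L183259) L184402 (flp_a L184398) (flp_b L152846) (flp_a L152824) L184360 L214928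
theorem L214940 : sm ge N23659 = N27761 := rfl
theorem L214942 : sm ga N27761 = N26149 := ded_10_1 L202374 (flp_a L184918) L214940
theorem L214944 : sm gb N27761 = N23660 := ded_15_1 (flp_e L184392) L184384 L214940
theorem L214946 : sm gc N27761 = N23672 := ded_19_1 (flp_e L184470) (flp_c L184388) L214940
theorem L214948 : sm gf N27761 = N23669 := ded_25_2 (flp_e L184450) (flp_f L184390) L214940
theorem L214950 : sm gf N23663 = N27762 := rfl
theorem L214952 : sm ga N27762 = N26818 := ded_11_1 (flp_f L207477) L184414 L214950
theorem L214954 : sm gc N27762 = N26201 := ded_20_1 (flp_f L202750) L184416 L214950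
theorem L214956 : sm gd N27762 = N24337 := ded_23_1 (flp_f L189627) (flp_d L184408) L214950
theorem L214958 : sm ge N27762 = N26200 := ded_25_1 (flp_f L202746) (flp_e L184410) L214950
theorem L214960 : sm gg N27762 = N24335 := ded_29_3 L189607 (flp_f L184418) (flp_g L184412) L214950
theorem L214962 : sm gb N27762 = N27720 := ded_16_1 L214535 (flp_b L184422) L152870 L184406 L214950
theorem L214964 : sm ge N23667 = N27763 := rfl
theorem L214966 : sm ga N27763 = N23669 := ded_10_1 (flp_e L184450) (flp_a L184440) L214964
theorem L214968 : sm gb N27763 = N26626 := ded_15_1 (flp_e L205854) (flp_b L184442) L214964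
theorem L214970 : sm gc N27763 = N26150 := ded_19_1 L202382 L195582 L214964
theorem L214972 : sm gf N27763 = N26149 := ded_25_2 L202374 L184916 L214964
theorem L214974 : sm gg N23672 = N27764 := rfl
theorem L214976 : sm ga N27764 = N26147 := ded_12_1 L202358 (flp_a L184472) L214974
theorem L214978 : sm gd N27764 = N26146 := ded_24_1 L202350 (flp_d L184476) L214974
theorem L214980 : sm ge N27764 = N23673 := ded_26_1 (flp_g L184478) L184470 L214974
theorem L214982 : sm gf N25140 = N27764 := ded_29_0 (flp_g L214974) L211149 (flp_g L211139) (flp_a L195574)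
theorem L214984 : sm gb N27764 = N23685 := ded_17_1 (flp_g L184541) L152953 (flp_g L152904) (flp_b L184474) L214974
theorem L214986 : sm gf N23674 = N27765 := rfl
theorem L214988 : sm gc N27765 = N26086 := ded_20_1 L201910 L184492 L214986
theorem L214990 : sm gd N27765 = N23675 := ded_23_1 (flp_f L184496) L184488 L214986
theorem L214992 : sm ge N27765 = N26088 := ded_25_1 L201920 (flp_e L184494) L214986
theorem L214994 : sm gg N27765 = N26675 := ded_29_3 L206248 L206222 (flp_g L206220) L214986
theorem L214996 : sm gb N27765 = N25128 := ded_16_1 L209363 (flp_b L209355) (flp_f L178295) (flp_b L184490) L214986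
theorem L214998 : sm gc N23679 = N27766 := rfl
theorem L215000 : sm ga N27766 = N27035 := ded_8_1 (flp_c L209389) L207305 L214998
theorem L215002 : sm ge N27766 = N25860 := ded_19_2 (flp_c L213217) L213215 L214998
theorem L215004 : sm gg N27766 = N25854 := ded_21_2 (flp_c L207269) (flp_g L207279) L214998
theorem L215006 : sm gb N27766 = N25895 := ded_13_1 (flp_c L200575) L175935 L153277 L184516 L214998
theorem L215008 : sm gd N26583 = N27766 := ded_28_3 (flp_c L214998) (flp_d L214493) L214495 L214457 (flp_a L206248) L209411 L209403 (flp_c L205480)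
theorem L215010 : sm gf N23679 = N27767 := rfl
theorem L215012 : sm gd N27767 = N27749 := ded_23_1 (flp_f L214827) L214493 L215010
theorem L215014 : sm gg N27767 = N26796 := ded_29_3 L207293 (flp_f L207275) (flp_g L207279) L215010
theorem L215016 : sm ga N23680 = N27768 := rfl
theorem L215018 : sm gd N27768 = N26867 := ded_9_2 L207890 (flp_d L198072) L215016
theorem L215020 : sm gg N27768 = N27768 := ded_12_2 (flp_a L215016) L184520 L215016
theorem L215021 : sm gb N27768 = N26761 := ded_7_2 L207021 (flp_b L184724) L184720 L184760 L184824 (flp_b L184521) L152943 L184518 L215016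
theorem L215023 : sm gf N26865 = N27768 := ded_23_0 L215018 (flp_f L207888) L207872
theorem L215025 : sm gc N23680 = N27769 := rfl
theorem L215027 : sm gg N27769 = N27769 := ded_21_2 (flp_c L215025) L184520 L215025
theorem L215028 : sm gb N27769 = N25250 := ded_13_1 L196548 (flp_b L184810) L153299 L184518 L215025
theorem L215030 : sm gd N25251 = N27769 := ded_28_1 (flp_c L215025) L198072 (flp_c L198065) L167423 (flp_c L171564) (flp_d L186510) L195834 (flp_c L196556)
theorem L215032 : sm gf N23680 = N27770 := rfl
theorem L215034 : sm ga N27770 = N26865 := ded_11_1 L215023 (flp_a L215016) L215032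
theorem L215036 : sm gd N27770 = N26864 := ded_23_1 L207866 (flp_d L198072) L215032
theorem L215038 : sm gg N27770 = N26865 := ded_29_3 (flp_a L215034) (flp_f L215032) L184520 L215032
theorem L215040 : sm gb N27770 = N27767 := ded_16_1 (flp_f L215010) (flp_b L184516) L152939 L184518 L215032
theorem L215042 : sm ga N23682 = N27771 := rfl
theorem L215044 : sm gd N27771 = N25245 := ded_9_2 L196516 L185129 L215042
theorem L215046 : sm gg N23682 = N27772 := rfl
theorem L215048 : sm gd N27772 = N25199 := ded_24_1 (flp_g L196115) L185129 L215046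
theorem L215050 : sm gf N27772 = N25198 := ded_31_1 L196109 L196123 (flp_f L196131) L194363 L194361 (flp_f L163675) L114149 (flp_g L113200) L113198 L114728 L165718 (flp_f L165726) L184523 L215046
theorem L215052 : sm gg N23683 = N27773 := rfl
theorem L215054 : sm ga N27773 = N23685 := ded_12_1 (flp_g L184541) (flp_a L184527) L215052
theorem L215056 : sm gc N27773 = N27025 := ded_21_1 L209292 (flp_c L184529) L215052
theorem L215058 : sm ge N27773 = N23684 := ded_26_1 (flp_g L184531) L184525 L215052
theorem L215060 : sm gf N25255 = N27773 := ded_29_0 (flp_g L215052) L196596 (flp_g L196588) (flp_a L196574)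
theorem L215062 : sm gb N23684 = N27774 := rfl
theorem L215064 : sm gd N27774 = N26950 := ded_14_2 (flp_b L208636) (flp_d L184537) L215062
theorem L215066 : sm gb N23688 = N27775 := rfl
theorem L215068 : sm gd N27775 = N23690 := ded_14_2 (flp_b L184593) (flp_d L184575) L215066
theorem L215070 : sm ge N27775 = N26523 := ded_15_2 (flp_b L204934) (flp_e L184577) L215066
theorem L215072 : sm gf N27775 = N26734 := ded_16_2 (flp_b L206759) (flp_f L174228) (flp_b L172165) L184579 L215066
theorem L215074 : sm gg N27775 = N26752 := ded_17_2 L206940 (flp_g L175771) (flp_b L153090) L184571 L215066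
theorem L215076 : sm ga N27775 = N26601 := ded_7_1 (flp_b L205681) L205673 (flp_b L174537) (flp_a L149419) (flp_b L174469) (flp_a L186020) L186025 L184583 L215066
theorem L215078 : sm gc N26600 = N27775 := ded_30_1 (flp_b L215066) (flp_a L184583) (flp_f L184581) L153094 L115049 L95163 L115078 L115081 (flp_b L149550) (flp_a L130608) L154832 L154828 L154844 (flp_a L154851) L172972 (flp_c L205623) (flp_b L205651) L205647 L205639
theorem L215080 : sm ga N23690 = N27776 := rfl
theorem L215082 : sm gd N27776 = N26601 := ded_9_2 (flp_a L215076) L215068 L215080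
theorem L215084 : sm gg N27776 = N27039 := ded_12_2 (flp_a L209413) (flp_g L184595) L215080
theorem L215086 : sm gc N25198 = N27776 := ded_28_2 L215082 (flp_c L205641) (flp_d L200549) L200553 (flp_d L185331) (flp_a L196101) (flp_c L196099) L196107
theorem L215088 : sm gc N23690 = N27777 := rfl
theorem L215090 : sm ga N27777 = N25198 := ded_8_1 L215086 (flp_a L215080) L215088
theorem L215092 : sm gg N27777 = N27040 := ded_21_2 (flp_c L209415) (flp_g L184595) L215088
theorem L215094 : sm gb N27777 = N23692 := ded_13_1 (flp_c L184600) (flp_b L153135) (flp_c L153103) L184593 L215088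
theorem L215096 : sm gd N27777 = N24274 := ded_28_3 L189155 L185331 (flp_c L200553) L200549 L205635 L215078 L215068 L215088
theorem L215098 : sm gf N27777 = N27146 := ded_31_1 (flp_b L210305) L210307 (flp_f L210315) (flp_b L195560) (flp_g L195552) (flp_f L164085) L113162 L94164 L94682 L114175 L165124 (flp_f L178595) (flp_b L209419) (flp_g L215092)
theorem L215100 : sm ga N27772 = N27146 := ded_29_4 (flp_f L215098) L215092 L209417 L215046
theorem L215102 : sm gg N27146 = N27771 := ded_29_3 (flp_a L215042) (flp_f L209417) (flp_g L215092) L215098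
theorem L215104 : sm gf N23690 = N27778 := rfl
theorem L215106 : sm gc N27778 = N27146 := ded_20_1 (flp_f L215098) (flp_c L215088) L215104
theorem L215108 : sm gd N27778 = N26734 := ded_23_1 (flp_f L215072) L215068 L215104
theorem L215110 : sm ge N27778 = N26089 := ded_25_1 (flp_f L213307) L213305 L215104
theorem L215112 : sm gb N27778 = N25220 := ded_16_1 (flp_f L196261) L165212 L153105 L184593 L215104
theorem L215114 : sm gc N23691 = N27779 := rfl
theorem L215116 : sm ga N27779 = N25206 := ded_8_1 (flp_c L203825) (flp_a L203828) L215114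
theorem L215118 : sm gf N27779 = N27779 := ded_20_2 (flp_c L215114) L184599 L215114
theorem L215119 : sm gb N27779 = N23694 := ded_13_1 (flp_c L184616) (flp_b L153137) (flp_c L153111) L184597 L215114
theorem L215121 : sm gd N27779 = N26958 := ded_28_7 L208725 (flp_c L186073) (flp_d L186068) (flp_c L154885) (flp_d L154855) L186018 (flp_d L186027) L215114
theorem L215123 : sm gg N23691 = N27780 := rfl
theorem L215125 : sm gd N27780 = N26599 := ded_24_1 L205631 (flp_d L186027) L215123
theorem L215127 : sm gb N27780 = N26607 := ded_17_1 L205697 (flp_b L184549) (flp_g L153113) L184597 L215123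
theorem L215129 : sm gc N23700 = N27781 := rfl
theorem L215131 : sm ga N27781 = N27563 := ded_8_1 L213373 (flp_a L184674) L215129
theorem L215133 : sm ge N27781 = N27568 := ded_19_2 L213417 (flp_e L184678) L215129
theorem L215135 : sm gg N27781 = N27561 := ded_21_2 (flp_c L213355) (flp_g L184676) L215129
theorem L215137 : sm gf N23701 = N27782 := rfl
theorem L215139 : sm ga N27782 = N26076 := ded_11_1 L204035 L204033 L215137
theorem L215141 : sm gc N27782 = N24741 := ded_20_1 (flp_f L192507) (flp_c L184684) L215137
theorem L215143 : sm ge N27782 = N23704 := ded_25_1 (flp_f L184706) (flp_e L184682) L215137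
theorem L215145 : sm gg N27782 = N26074 := ded_29_3 (flp_a L201816) L169807 (flp_g L184686) L215137
theorem L215147 : sm gb N27782 = N24960 := ded_16_1 L193955 (flp_b L193409) (flp_f L184688) L184680 L215137
theorem L215149 : sm gd N23703 = N27783 := rfl
theorem L215151 : sm gb N27783 = N24839 := ded_14_1 L193151 (flp_b L184704) L215149
theorem L215153 : sm gg N27783 = N24732 := ded_24_2 L192469 (flp_g L184702) L215149
theorem L215155 : sm ge N23705 = N27784 := rfl
theorem L215157 : sm ga N27784 = N23712 := ded_10_1 (flp_e L184768) (flp_a L184720) L215155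
theorem L215159 : sm gb N27784 = N26763 := ded_15_1 (flp_e L207033) (flp_b L184724) L215155
theorem L215161 : sm gc N27784 = N23706 := ded_19_1 (flp_e L184730) L184718 L215155
theorem L215163 : sm gf N27784 = N27380 := ded_25_2 L212105 (flp_f L184722) L215155
theorem L215165 : sm gg N27784 = N23706 := ded_26_2 (flp_e L184730) L184728 L215155
theorem L215167 : sm ga N23707 = N27785 := rfl
theorem L215169 : sm gc N27785 = N26565 := ded_8_2 (flp_a L205836) L205838 L215167
theorem L215171 : sm gd N27785 = N26761 := ded_9_2 L207021 (flp_d L184738) L215167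
theorem L215173 : sm gf N27785 = N26621 := ded_11_2 (flp_a L214593) L214595 L215167
theorem L215175 : sm gg N27785 = N26564 := ded_12_2 L205297 (flp_g L184740) L215167
theorem L215177 : sm gb N27785 = N26867 := ded_7_2 L207890 L198070 (flp_a L183341) L184828 (flp_a L184774) (flp_b L153261) (flp_a L153239) L184736 L215167
theorem L215179 : sm ge N23711 = N27786 := rfl
theorem L215181 : sm ga N27786 = N25914 := ded_10_1 L200733 (flp_a L184824) L215179
theorem L215183 : sm gb N27786 = N23712 := ded_15_1 (flp_e L184768) L184760 L215179
theorem L215185 : sm gc N27786 = N23724 := ded_19_1 (flp_e L184862) (flp_c L184764) L215179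
theorem L215187 : sm gg N27786 = N23721 := ded_26_2 (flp_e L184838) (flp_g L184766) L215179
theorem L215189 : sm gg N23715 = N27787 := rfl
theorem L215191 : sm ga N27787 = N26853 := ded_12_1 (flp_g L207762) L184792 L215189
theorem L215193 : sm gc N27787 = N25966 := ded_21_1 (flp_g L201103) L184794 L215189
theorem L215195 : sm gd N27787 = N24389 := ded_24_1 L190053 (flp_d L184786) L215189
theorem L215197 : sm ge N27787 = N25965 := ded_26_1 (flp_g L201099) (flp_e L184788) L215189
theorem L215199 : sm gf N24387 = N27787 := ded_29_0 (flp_g L215189) L184790 L184796 (flp_a L190033)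
theorem L215201 : sm gb N27787 = N27738 := ded_17_1 L214709 (flp_b L184800) (flp_g L153293) L184784 L215189
theorem L215203 : sm ge N23719 = N27788 := rfl
theorem L215205 : sm ga N27788 = N23721 := ded_10_1 (flp_e L184838) (flp_a L184818) L215203
theorem L215207 : sm gb N27788 = N26768 := ded_15_1 (flp_e L207069) (flp_b L184820) L215203
theorem L215209 : sm gc N27788 = N25915 := ded_19_1 L200741 L195600 L215203
theorem L215211 : sm gg N27788 = N25914 := ded_26_2 L200733 L184822 L215203
theorem L215213 : sm gf N23724 = N27789 := rfl
theorem L215215 : sm ga N27789 = N25912 := ded_11_1 L200715 (flp_a L184864) L215213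
theorem L215217 : sm gd N27789 = N25911 := ded_23_1 L200709 (flp_d L184868) L215213
theorem L215219 : sm ge N27789 = N23725 := ded_25_1 (flp_f L184870) L184862 L215213
theorem L215221 : sm gg N27789 = N25142 := ded_29_3 L195592 L211031 L211041 L215213
theorem L215223 : sm gb N27789 = N23737 := ded_16_1 (flp_f L184941) L153390 (flp_f L153333) (flp_b L184866) L215213
theorem L215225 : sm gg N23726 = N27790 := rfl
theorem L215227 : sm ga N27790 = N27767 := ded_12_1 L215014 L207293 L215225
theorem L215229 : sm gc N27790 = N25845 := ded_21_1 L200227 (flp_c L184884) L215225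
theorem L215231 : sm gd N27790 = N23728 := ded_24_1 (flp_g L184890) L184880 L215225
theorem L215233 : sm ge N27790 = N25848 := ded_26_1 L200241 L184886 L215225
theorem L215235 : sm gf N26797 = N27790 := ded_29_0 (flp_g L215225) (flp_f L207275) (flp_g L207279) (flp_a L207305)
theorem L215237 : sm gb N27790 = N25159 := ded_17_1 (flp_g L209375) (flp_b L209367) L178357 (flp_b L184882) L215225
theorem L215239 : sm gc N23730 = N27791 := rfl
theorem L215241 : sm ga N27791 = N27038 := ded_8_1 (flp_c L209411) L206248 L215239
theorem L215243 : sm ge N27791 = N26101 := ded_19_2 (flp_c L213717) L213715 L215239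
theorem L215245 : sm gf N27791 = N26095 := ded_20_2 (flp_c L206214) (flp_f L206222) L215239
theorem L215247 : sm gb N27791 = N26130 := ded_13_1 (flp_c L202216) L175539 (flp_c L153347) L184900 L215239
theorem L215249 : sm gd N27791 = N26737 := ded_28_7 L206789 (flp_c L205480) L215008 (flp_c L214998) (flp_d L214493) L214495 L214457 L215239
theorem L215251 : sm gg N23730 = N27792 := rfl
theorem L215253 : sm ga N27792 = N27765 := ded_12_1 L214994 L206248 L215251
theorem L215255 : sm gd N27792 = N27735 := ded_24_1 L214679 L214457 L215251
theorem L215257 : sm gf N26676 = N27792 := ded_29_0 (flp_g L215251) L206222 (flp_g L206220) (flp_a L206254)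
theorem L215259 : sm ga N23733 = N27793 := rfl
theorem L215261 : sm gd N27793 = N26832 := ded_9_2 L207605 (flp_d L198429) L215259
theorem L215263 : sm gf N27793 = N27793 := ded_11_2 (flp_a L215259) L184922 L215259
theorem L215264 : sm gb N27793 = N26618 := ded_7_2 L205798 (flp_b L184348) L184344 L184384 L184918 (flp_b L184910) (flp_a L153378) L184920 L215259
theorem L215266 : sm gg N26830 = N27793 := ded_24_0 L215261 (flp_g L207603) L207587
theorem L215268 : sm gc N23733 = N27794 := rfl
theorem L215270 : sm gf N27794 = N27794 := ded_20_2 (flp_c L215268) L184922 L215268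
theorem L215271 : sm gb N27794 = N25202 := ded_13_1 L196127 (flp_b L184432) (flp_c L153380) L184920 L215268
theorem L215273 : sm gd N25204 = N27794 := ded_28_1 (flp_c L215268) L198429 (flp_c L198422) L167663 (flp_c L171571) (flp_d L186503) (flp_a L196243) L196240
theorem L215275 : sm gg N23733 = N27795 := rfl
theorem L215277 : sm ga N27795 = N26830 := ded_12_1 L215266 (flp_a L215259) L215275
theorem L215279 : sm gd N27795 = N26829 := ded_24_1 (flp_g L207585) (flp_d L198429) L215275
theorem L215281 : sm gf N26830 = N27795 := ded_29_0 (flp_g L215275) L184922 L215275 L215277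
theorem L215283 : sm gb N27795 = N27792 := ded_17_1 (flp_g L215251) (flp_b L184900) (flp_g L153382) L184920 L215275
theorem L215285 : sm ga N23734 = N27796 := rfl
theorem L215287 : sm gd N27796 = N25197 := ded_9_2 L196101 L185331 L215285
theorem L215289 : sm gf N27796 = N27155 := ded_29_0 L214878 L214872 L209395 L215285
theorem L215291 : sm gf N23734 = N27797 := rfl
theorem L215293 : sm ga N27797 = N27155 := ded_11_1 (flp_f L215289) (flp_a L215285) L215291
theorem L215295 : sm gd N27797 = N25248 := ded_23_1 (flp_f L196538) L185331 L215291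
theorem L215297 : sm gg N27797 = N25246 := ded_29_3 (flp_a L214870) L214872 L209395 L215291
theorem L215299 : sm gf N23735 = N27798 := rfl
theorem L215301 : sm ga N27798 = N23737 := ded_11_1 (flp_f L184941) (flp_a L184927) L215299
theorem L215303 : sm gc N27798 = N27028 := ded_20_1 (flp_f L209315) (flp_c L184929) L215299
theorem L215305 : sm ge N27798 = N23736 := ded_25_1 (flp_f L184931) L184925 L215299
theorem L215307 : sm gg N27798 = N25207 := ded_29_3 L196155 L196169 L196177 L215299
theorem L215309 : sm gb N23736 = N27799 := rfl
theorem L215311 : sm gd N27799 = N26968 := ded_14_2 (flp_b L208809) (flp_d L184937) L215309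
theorem L215313 : sm gc N27799 = N27774 := ded_13_2 (flp_b L215062) L184535 (flp_b L178369) (flp_c L184935) L215309
theorem L215315 : sm gc N23750 = N27800 := rfl
theorem L215317 : sm ga N27800 = N23752 := ded_8_1 (flp_c L185103) (flp_a L185091) L215315
theorem L215319 : sm gg N27800 = N25178 := ded_21_2 (flp_c L195914) L189233 L215315
theorem L215321 : sm gd N27800 = N23751 := ded_28_7 L185097 (flp_c L154678) L185451 (flp_c L185445) L154124 L154260 L185089 L215315
theorem L215323 : sm gf N23750 = N27800 := ded_30_0 (flp_c L215315) L185093 (flp_a L191970) L210219 L210213 (flp_b L207483) (flp_a L214952) (flp_f L214950) (flp_c L184416) L184466 (flp_a L184460) (flp_f L183357) L183353 L152882 L105567 (flp_f L105569) L106055 (flp_b L153698) (flp_a L185091)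
theorem L215325 : sm ge N23750 = N27801 := rfl
theorem L215327 : sm ga N27801 = N23753 := ded_10_1 (flp_e L185113) (flp_a L185091) L215325
theorem L215329 : sm gb N27801 = N24652 := ded_15_1 L191940 (flp_b L185093) L215325
theorem L215331 : sm gd N27801 = N24653 := ded_22_1 L191946 (flp_d L176163) L176165 L185089 L215325
theorem L215333 : sm ge N23752 = N27802 := rfl
theorem L215335 : sm gb N27802 = N27254 := ded_15_1 L211147 (flp_b L185105) L215333
theorem L215337 : sm gc N27802 = N23753 := ded_19_1 (flp_e L185113) L185103 L215333
theorem L215339 : sm gf N27802 = N23753 := ded_25_2 (flp_e L185113) L185109 L215333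
theorem L215341 : sm gg N27802 = N27255 := ded_26_2 L211155 L185111 L215333
theorem L215343 : sm gd N27802 = N26823 := ded_22_1 L207517 (flp_d L176173) L176175 L185107 L215333
theorem L215345 : sm gg N23753 = N27803 := rfl
theorem L215347 : sm gc N27803 = N27255 := ded_21_1 (flp_g L215341) L215337 L215345
theorem L215349 : sm gd N27803 = N26824 := ded_24_1 (flp_g L207523) (flp_d L185117) L215345
theorem L215351 : sm ge N27803 = N23754 := ded_26_1 (flp_g L185119) L185113 L215345
theorem L215353 : sm gb N27803 = N23765 := ded_17_1 (flp_g L185195) L153781 (flp_g L153714) (flp_b L185115) L215345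
theorem L215355 : sm gd N23756 = N27804 := rfl
theorem L215357 : sm ga N27804 = N23758 := ded_9_1 (flp_d L185143) L185133 L215355
theorem L215359 : sm gb N27804 = N27771 := ded_14_1 L215044 L196520 L215355
theorem L215361 : sm gg N27804 = N26520 := ded_24_2 L208507 L208503 L215355
theorem L215363 : sm gc N26518 = N27804 := ded_28_0 (flp_d L215355) L196512 L196502 (flp_c L208047) L208049 L194343 (flp_d L204839) L204906
theorem L215365 : sm ge N23758 = N27805 := rfl
theorem L215367 : sm gb N27805 = N23761 := ded_15_1 (flp_e L185157) (flp_b L185145) L215365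
theorem L215369 : sm gb N23762 = N27806 := rfl
theorem L215371 : sm gd N27806 = N25020 := ded_14_2 (flp_b L194486) L190135 L215369
theorem L215373 : sm ge N27806 = N23764 := ded_15_2 (flp_b L185185) (flp_e L185171) L215369
theorem L215375 : sm gc N27806 = N23806 := ded_13_2 L185739 (flp_c L185741) (flp_b L185663) (flp_c L185169) L215369
theorem L215377 : sm gf N27806 = N23805 := ded_16_2 (flp_b L196749) L196747 L185149 L185165 L215369
theorem L215379 : sm gg N27806 = N25019 := ded_31_3 L194476 L161930 (flp_g L163538) (flp_f L113975) L94578 (flp_g L94150) (flp_f L141089) (flp_b L99907) L125546 L177005 L185183 (flp_g L185173) L185165 L215369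
theorem L215381 : sm ga N27806 = N25232 := ded_30_3 (flp_f L196385) L194516 (flp_b L165600) L114644 (flp_f L94907) L94903 L94905 (flp_a L137349) (flp_f L47410) L22834 L10976 (flp_a L11404) (flp_f L19637) (flp_c L41330) (flp_b L90700) (flp_a L106805) L154354 (flp_c L185169) L215369
theorem L215383 : sm gb N23766 = N27807 := rfl
theorem L215385 : sm gd N27807 = N25109 := ded_14_2 L195297 L190172 L215383
theorem L215387 : sm ge N27807 = N23767 := ded_15_2 (flp_b L185215) (flp_e L185211) L215383
theorem L215389 : sm gc N27807 = N25108 := ded_13_2 L195289 (flp_c L194480) L165380 (flp_c L185209) L215383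
theorem L215391 : sm gf N27807 = N26814 := ded_16_2 L207443 L195888 L176187 L185205 L215383
theorem L215393 : sm gg N27807 = N25108 := ded_17_2 L195289 (flp_g L215379) (flp_b L215369) (flp_g L185213) L215383
theorem L215395 : sm ga N23767 = N27808 := rfl
theorem L215397 : sm gd N27808 = N27029 := ded_9_2 (flp_a L209319) (flp_d L185217) L215395
theorem L215399 : sm gf N27808 = N24271 := ded_11_2 (flp_a L195906) L195904 L215395
theorem L215401 : sm gb N27808 = N24279 := ded_7_2 (flp_a L196135) (flp_b L196133) L165049 (flp_b L125936) (flp_a L177262) L177271 (flp_a L153808) L185215 L215395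
theorem L215403 : sm gc N23774 = N27809 := rfl
theorem L215405 : sm ga N27809 = N23776 := ded_8_1 (flp_c L185305) (flp_a L185293) L215403
theorem L215407 : sm gf N27809 = N25225 := ded_20_2 (flp_c L196315) L189109 L215403
theorem L215409 : sm gd N27809 = N23775 := ded_28_7 L185299 (flp_c L154322) (flp_d L185603) L185601 L154454 L154464 L185291 L215403
theorem L215411 : sm gg N23774 = N27809 := ded_12_0 L215405 (flp_g L185313) (flp_a L185293)
theorem L215413 : sm ge N23774 = N27810 := rfl
theorem L215415 : sm ga N27810 = N23777 := ded_10_1 (flp_e L185315) (flp_a L185293) L215413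
theorem L215417 : sm gb N27810 = N24597 := ded_15_1 L191559 (flp_b L185295) L215413
theorem L215419 : sm gd N27810 = N24598 := ded_22_1 L191565 (flp_d L176584) L176586 L185291 L215413
theorem L215421 : sm ge N23776 = N27811 := rfl
theorem L215423 : sm gb N27811 = N27239 := ded_15_1 L211039 (flp_b L185307) L215421
theorem L215425 : sm gc N27811 = N23777 := ded_19_1 (flp_e L185315) L185305 L215421
theorem L215427 : sm gf N27811 = N27240 := ded_25_2 L211047 L185311 L215421
theorem L215429 : sm gg N27811 = N23777 := ded_26_2 (flp_e L185315) L185313 L215421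
theorem L215431 : sm gd N27811 = N26859 := ded_22_1 L207808 (flp_d L176604) L176606 L185309 L215421
theorem L215433 : sm gf N23777 = N27812 := rfl
theorem L215435 : sm gc N27812 = N27240 := ded_20_1 (flp_f L215427) L215425 L215433
theorem L215437 : sm gd N27812 = N26858 := ded_23_1 (flp_f L207798) (flp_d L185319) L215433
theorem L215439 : sm ge N27812 = N23778 := ded_25_1 (flp_f L185321) L185315 L215433
theorem L215441 : sm gb N27812 = N23789 := ded_16_1 (flp_f L185397) L154049 (flp_f L153984) (flp_b L185317) L215433
theorem L215443 : sm gd N23780 = N27813 := rfl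
theorem L215445 : sm ga N27813 = N23782 := ded_9_1 (flp_d L185345) L185335 L215443
theorem L215447 : sm gb N27813 = N27796 := ded_14_1 L215287 L196105 L215443
theorem L215449 : sm gf N27813 = N26549 := ded_23_2 L208680 L208676 L215443
theorem L215451 : sm gc N26547 = N27813 := ded_28_0 (flp_d L215443) L196097 L196089 (flp_c L208244) L208246 L194171 (flp_d L205087) (flp_a L205155)
theorem L215453 : sm ge N23782 = N27814 := rfl
theorem L215455 : sm gb N27814 = N23785 := ded_15_1 (flp_e L185359) (flp_b L185347) L215453
theorem L215457 : sm gb N23787 = N27815 := rfl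
theorem L215459 : sm gd N27815 = N25041 := ded_14_2 L194679 L190220 L215457
theorem L215461 : sm ge N27815 = N23788 := ded_15_2 (flp_b L185387) (flp_e L185385) L215457
theorem L215463 : sm gc N27815 = N23832 := ded_13_2 L185811 (flp_c L185483) L185491 (flp_c L185383) L215457
theorem L215465 : sm gg N27815 = N23831 := ded_17_2 (flp_b L196851) L196849 L185351 L185379 L215457
theorem L215467 : sm gf N25040 = N27815 := ded_31_1 (flp_b L215457) (flp_g L185379) L185367 (flp_b L185377) (flp_g L177342) (flp_f L126358) L100331 (flp_g L136746) L94399 (flp_b L94857) L114536 L163712 (flp_b L162158) (flp_g L194669)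
theorem L215469 : sm ga N27815 = N25184 := ded_30_3 (flp_f L195966) (flp_c L164773) (flp_b L113937) L94556 (flp_f L90844) L90850 L106697 L154208 L154616 L185395 (flp_b L185387) L154043 L153489 (flp_c L153481) (flp_b L154774) L154766 (flp_f L154762) (flp_c L185383) L215457
theorem L215471 : sm gb N23790 = N27816 := rfl
theorem L215473 : sm gd N27816 = N25081 := ded_14_2 L195051 L190245 L215471
theorem L215475 : sm ge N27816 = N23791 := ded_15_2 (flp_b L185417) (flp_e L185413) L215471
theorem L215477 : sm gc N27816 = N25080 := ded_13_2 L195043 (flp_c L194673) L164771 (flp_c L185411) L215471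
theorem L215479 : sm gf N27816 = N25080 := ded_16_2 L195043 L215467 (flp_b L215457) L185415 L215471
theorem L215481 : sm gg N27816 = N26707 := ded_17_2 L206506 L196299 L176598 L185407 L215471
theorem L215483 : sm ga N23791 = N27817 := rfl
theorem L215485 : sm gd N27817 = N27031 := ded_9_2 (flp_a L209337) (flp_d L185419) L215483
theorem L215487 : sm gg N27817 = N24252 := ded_12_2 (flp_a L196307) L196305 L215483
theorem L215489 : sm gb N27817 = N24261 := ded_7_2 L208823 (flp_b L196559) L165686 (flp_b L126734) (flp_a L177537) L177546 (flp_a L154076) L185417 L215483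
theorem L215491 : sm gb N23803 = N27818 := rfl
theorem L215493 : sm gd N27818 = N27134 := ded_14_2 (flp_b L210195) (flp_d L185523) L215491
theorem L215495 : sm gg N27818 = N25262 := ded_17_2 (flp_b L196638) (flp_g L165770) (flp_b L179521) (flp_g L185525) L215491
theorem L215497 : sm ga N27818 = N27818 := ded_7_1 (flp_b L215491) L185519 (flp_b L185387) L154043 L106436 (flp_a L154043) L185387 (flp_a L185519) L215491
theorem L215498 : sm gb N23816 = N27819 := rfl
theorem L215500 : sm ge N27819 = N25233 := ded_15_2 (flp_b L196387) (flp_e L185657) L215498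
theorem L215502 : sm gf N27819 = N24280 := ded_16_2 L189205 L188897 L188899 (flp_f L185659) L215498
theorem L215504 : sm gg N27819 = N25203 := ded_17_2 (flp_b L196133) (flp_g L165074) (flp_b L175011) (flp_g L185661) L215498
theorem L215506 : sm gd N23816 = N27820 := rfl
theorem L215508 : sm ga N27820 = N23821 := ded_9_1 (flp_d L185697) (flp_a L185655) L215506
theorem L215510 : sm gf N27820 = N25056 := ded_23_2 L194825 (flp_f L185659) L215506
theorem L215512 : sm gg N27820 = N26201 := ded_24_2 L202752 (flp_g L185661) L215506
theorem L215514 : sm ge N27820 = N26203 := ded_22_2 L202772 L170404 (flp_d L165412) (flp_e L185657) L215506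
theorem L215516 : sm gc N24335 = N27820 := ded_28_0 (flp_d L215506) (flp_c L185653) (flp_d L154346) (flp_c L153761) (flp_d L158469) (flp_c L189595) (flp_d L189601) (flp_a L189607)
theorem L215518 : sm gg N23821 = N27821 := rfl
theorem L215520 : sm ga N27821 = N26201 := ded_12_1 (flp_g L215512) L215508 L215518
theorem L215522 : sm gc N27821 = N26818 := ded_21_1 L207481 L185703 L215518
theorem L215524 : sm gd N27821 = N23822 := ded_24_1 (flp_g L185705) L185697 L215518
theorem L215526 : sm ge N27821 = N26197 := ded_26_1 (flp_g L202729) L202681 L215518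
theorem L215528 : sm gf N26196 = N27821 := ded_29_0 (flp_g L215518) L185701 (flp_g L170384) (flp_a L202713)
theorem L215530 : sm gb N23822 = N27822 := rfl
theorem L215532 : sm ge N27822 = N25235 := ded_15_2 (flp_b L196407) (flp_e L185711) L215530
theorem L215534 : sm gf N27822 = N27138 := ded_16_2 (flp_b L210221) (flp_f L179625) (flp_b L174992) L185713 L215530
theorem L215536 : sm ga N27822 = N27822 := ded_7_1 (flp_b L215530) L185707 L175011 L165072 L165069 (flp_a L165072) (flp_b L175011) (flp_a L185707) L215530
theorem L215537 : sm gb N23830 = N27823 := rfl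
theorem L215539 : sm gd N27823 = N27136 := ded_14_2 (flp_b L210206) (flp_d L185793) L215537
theorem L215541 : sm gc N27823 = N27822 := ded_13_2 (flp_b L215530) L185709 (flp_b L154590) (flp_c L185791) L215537
theorem L215543 : sm gf N27823 = N25214 := ded_16_2 (flp_b L196213) L165134 (flp_b L179589) L185795 L215537
theorem L215545 : sm gg N27823 = N27822 := ded_17_2 (flp_b L215530) (flp_g L185705) (flp_b L154580) L185787 L215537
theorem L215547 : sm ga N27823 = N27823 := ded_7_1 (flp_b L215537) L185789 (flp_b L185185) L153765 L106109 (flp_a L153765) L185185 (flp_a L185789) L215537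
theorem L215548 : sm gb N23838 = N27824 := rfl
theorem L215550 : sm ge N27824 = N25185 := ded_15_2 (flp_b L195976) (flp_e L185877) L215548
theorem L215552 : sm gf N27824 = N25252 := ded_16_2 (flp_b L196559) L165704 (flp_b L173504) (flp_f L185879) L215548
theorem L215554 : sm gg N27824 = N24260 := ded_17_2 L189083 (flp_g L188843) L188747 (flp_g L185881) L215548
theorem L215556 : sm gd N23838 = N27825 := rfl
theorem L215558 : sm ga N27825 = N23842 := ded_9_1 (flp_d L185915) (flp_a L185875) L215556
theorem L215560 : sm gf N27825 = N25966 := ded_23_2 L201105 (flp_f L185879) L215556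
theorem L215562 : sm gg N27825 = N25091 := ded_24_2 L195145 (flp_g L185881) L215556
theorem L215564 : sm ge N27825 = N25968 := ded_22_2 L201125 L169405 (flp_d L164799) (flp_e L185877) L215556
theorem L215566 : sm gc N24387 = N27825 := ded_28_0 (flp_d L215556) (flp_c L185873) (flp_d L154710) (flp_c L154027) (flp_d L158506) (flp_c L190021) (flp_d L190027) (flp_a L190033)
theorem L215568 : sm gf N23842 = N27826 := rfl
theorem L215570 : sm ga N27826 = N25966 := ded_11_1 (flp_f L215560) L215558 L215568
theorem L215572 : sm gc N27826 = N26853 := ded_20_1 (flp_f L207766) L185921 L215568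
theorem L215574 : sm gd N27826 = N23843 := ded_23_1 (flp_f L185923) L185915 L215568
theorem L215576 : sm ge N27826 = N25962 := ded_25_1 L201082 L201034 L215568
theorem L215578 : sm gg N27826 = N25961 := ded_29_3 L201066 L169385 (flp_g L185919) L215568
theorem L215580 : sm gb N23843 = N27827 := rfl
theorem L215582 : sm ge N27827 = N25187 := ded_15_2 (flp_b L195994) (flp_e L185929) L215580
theorem L215584 : sm gc N27827 = N27818 := ded_13_2 (flp_b L215491) L185521 (flp_b L154756) (flp_c L185927) L215580
theorem L215586 : sm gf N27827 = N27818 := ded_16_2 (flp_b L215491) (flp_f L185517) (flp_b L154748) L185923 L215580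
theorem L215588 : sm gg N27827 = N27140 := ded_17_2 (flp_b L210242) L179653 (flp_b L173485) (flp_g L185931) L215580
theorem L215590 : sm ga N27827 = N27827 := ded_7_1 (flp_b L215580) L185925 L173504 L165700 L164559 (flp_a L165700) (flp_b L173504) (flp_a L185925) L215580
theorem L215591 : sm gc N23844 = N27828 := rfl
theorem L215593 : sm ga N27828 = N23845 := ded_8_1 (flp_c L185942) L185933 L215591
theorem L215595 : sm ge N27828 = N23854 := ded_19_2 (flp_c L186029) (flp_e L185937) L215591
theorem L215597 : sm gg N27828 = N27828 := ded_21_2 (flp_c L215591) L185939 L215591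
theorem L215598 : sm gd N26290 = N27828 := ded_28_1 (flp_c L215591) L185935 L205598 (flp_d L205607) (flp_c L203352) (flp_d L203332) (flp_a L203330) L203339
theorem L215600 : sm gf N23844 = N27829 := rfl
theorem L215602 : sm ga N27829 = N23846 := ded_11_1 (flp_f L185949) L185933 L215600
theorem L215604 : sm gd N27829 = N26597 := ded_23_1 (flp_f L205611) (flp_d L185935) L215600
theorem L215606 : sm ge N27829 = N23855 := ded_25_1 (flp_f L186034) (flp_e L185937) L215600
theorem L215608 : sm gg N27829 = N23846 := ded_29_3 (flp_a L215602) (flp_f L215600) L185939 L215600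
theorem L215610 : sm gd N23845 = N27830 := rfl
theorem L215612 : sm ga N27830 = N26290 := ded_9_1 L215598 L215593 L215610
theorem L215614 : sm gb N27830 = N23882 := ded_14_1 (flp_d L186246) (flp_b L185947) L215610
theorem L215616 : sm gg N27830 = N27830 := ded_24_2 (flp_d L215610) L185946 L215610
theorem L215617 : sm ge N27830 = N27751 := ded_22_2 L214852 L208547 (flp_d L186042) (flp_e L185944) L215610
theorem L215619 : sm gc N26289 = N27830 := ded_28_0 (flp_d L215610) (flp_c L185942) L154798 L177591 (flp_d L177598) (flp_c L170808) (flp_d L170768) L203330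
theorem L215621 : sm gf N23845 = N27831 := rfl
theorem L215623 : sm gc N27831 = N23846 := ded_20_1 (flp_f L185949) L185942 L215621
theorem L215625 : sm ge N27831 = N23857 := ded_25_1 (flp_f L186049) (flp_e L185944) L215621
theorem L215627 : sm gc N23847 = N27832 := rfl
theorem L215629 : sm ga N27832 = N23848 := ded_8_1 (flp_c L185966) L185957 L215627
theorem L215631 : sm ge N27832 = N23858 := ded_19_2 (flp_c L186053) (flp_e L185961) L215627
theorem L215633 : sm gf N27832 = N27832 := ded_20_2 (flp_c L215627) L185963 L215627
theorem L215634 : sm gd N26366 = N27832 := ded_28_1 (flp_c L215627) L185959 L206873 (flp_d L206882) (flp_c L203852) (flp_d L203832) (flp_a L203830) L203839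
theorem L215636 : sm gg N23847 = N27833 := rfl
theorem L215638 : sm ga N27833 = N23849 := ded_12_1 (flp_g L185973) L185957 L215636
theorem L215640 : sm gd N27833 = N26747 := ded_24_1 (flp_g L206886) (flp_d L185959) L215636
theorem L215642 : sm ge N27833 = N23859 := ded_26_1 (flp_g L186058) (flp_e L185961) L215636
theorem L215644 : sm gf N23849 = N27833 := ded_29_0 (flp_g L215636) L185963 L215636 L215638
theorem L215646 : sm gb N27833 = N27829 := ded_17_1 L215608 L185955 (flp_g L174432) (flp_b L185964) L215636
theorem L215648 : sm gd N23848 = N27834 := rfl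
theorem L215650 : sm ga N27834 = N26366 := ded_9_1 L215634 L215629 L215648
theorem L215652 : sm gb N27834 = N23891 := ded_14_1 (flp_d L186309) (flp_b L185971) L215648
theorem L215654 : sm gf N27834 = N27834 := ded_23_2 (flp_d L215648) L185970 L215648
theorem L215655 : sm ge N27834 = N27779 := ded_22_2 L215121 L208720 (flp_d L186068) (flp_e L185968) L215648
theorem L215657 : sm gc N26365 = N27834 := ded_28_0 (flp_d L215648) (flp_c L185966) L154805 L177606 (flp_d L177613) (flp_c L171147) (flp_d L171107) L203830
theorem L215659 : sm gg N23848 = N27835 := rfl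
theorem L215661 : sm gc N27835 = N23849 := ded_21_1 (flp_g L185973) L185966 L215659
theorem L215663 : sm ge N27835 = N23861 := ded_26_1 (flp_g L186075) (flp_e L185968) L215659
theorem L215665 : sm gf N23854 = N27836 := rfl
theorem L215667 : sm ga N27836 = N23857 := ded_11_1 (flp_f L186049) (flp_a L186031) L215665
theorem L215669 : sm gc N27836 = N23855 := ded_20_1 (flp_f L186034) L186029 L215665
theorem L215671 : sm gg N27836 = N23857 := ded_29_3 (flp_a L215667) (flp_f L215665) L186033 L215665
theorem L215673 : sm gb N26786 = N27836 := ded_7_0 L215667 (flp_b L195285) L195281 L162808 (flp_a L174986) (flp_b L174978) (flp_a L123161) L175029 L207201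
theorem L215675 : sm gf N23856 = N27837 := rfl
theorem L215677 : sm gc N27837 = N26949 := ded_20_1 (flp_f L208634) (flp_c L186047) L215675
theorem L215679 : sm gd N27837 = N23857 := ded_23_1 (flp_f L186049) L186042 L215675
theorem L215681 : sm gg N23858 = N27838 := rfl
theorem L215683 : sm ga N27838 = N23861 := ded_12_1 (flp_g L186075) (flp_a L186055) L215681
theorem L215685 : sm gc N27838 = N23859 := ded_21_1 (flp_g L186058) L186053 L215681
theorem L215687 : sm gf N23861 = N27838 := ded_29_0 (flp_g L215681) L186057 L215681 L215683
theorem L215689 : sm gb N26645 = N27838 := ded_7_0 L215683 (flp_b L195039) L195035 L162512 (flp_a L173479) (flp_b L173471) (flp_a L122268) L173522 L205984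
theorem L215691 : sm gg N23860 = N27839 := rfl
theorem L215693 : sm gc N27839 = N26967 := ded_21_1 (flp_g L208807) (flp_c L186073) L215691
theorem L215695 : sm gd N27839 = N23861 := ded_24_1 (flp_g L186075) L186068 L215691
theorem L215697 : sm gd N23862 = N27840 := rfl
theorem L215699 : sm ga N27840 = N23970 := ded_9_1 (flp_d L187019) (flp_a L186081) L215697
theorem L215701 : sm gb N27840 = N24459 := ded_14_1 (flp_d L190611) (flp_b L186087) L215697
theorem L215703 : sm gf N27840 = N23864 := ded_23_2 (flp_d L186099) (flp_f L186085) L215697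
theorem L215705 : sm ge N27840 = N27309 := ded_22_2 L211599 L181169 (flp_d L155214) (flp_e L186083) L215697
theorem L215707 : sm gd N23863 = N27841 := rfl
theorem L215709 : sm ga N27841 = N23995 := ded_9_1 (flp_d L187203) (flp_a L186091) L215707
theorem L215711 : sm gb N27841 = N24461 := ded_14_1 (flp_d L190625) (flp_b L186097) L215707
theorem L215713 : sm gg N27841 = N23866 := ded_24_2 (flp_d L186117) (flp_g L186095) L215707
theorem L215715 : sm ge N27841 = N27401 := ded_22_2 L212273 L181699 (flp_d L155224) (flp_e L186093) L215707
theorem L215717 : sm gc N23864 = N27842 := rfl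
theorem L215719 : sm ga N27842 = N24706 := ded_8_1 L192311 (flp_a L186101) L215717
theorem L215721 : sm ge N27842 = N24705 := ded_19_2 L192303 (flp_e L186105) L215717
theorem L215723 : sm gg N23864 = N27843 := rfl
theorem L215725 : sm ga N27843 = N27321 := ded_12_1 (flp_g L211691) (flp_a L186101) L215723
theorem L215727 : sm gd N27843 = N23865 := ded_24_1 (flp_g L186107) L186099 L215723
theorem L215729 : sm ge N27843 = N27310 := ded_26_1 (flp_g L211601) (flp_e L186105) L215723
theorem L215731 : sm gb N26048 = N27843 := ded_14_3 L215727 (flp_b L186115) (flp_d L201618)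
theorem L215733 : sm gc N23866 = N27844 := rfl
theorem L215735 : sm ga N27844 = N24755 := ded_8_1 L192621 (flp_a L186119) L215733
theorem L215737 : sm ge N27844 = N24754 := ded_19_2 L192613 (flp_e L186123) L215733
theorem L215739 : sm gf N23866 = N27845 := rfl
theorem L215741 : sm ga N27845 = N27411 := ded_11_1 (flp_f L212347) (flp_a L186119) L215739
theorem L215743 : sm gd N27845 = N23867 := ded_23_1 (flp_f L186125) L186117 L215739
theorem L215745 : sm ge N27845 = N27400 := ded_25_1 (flp_f L212263) (flp_e L186123) L215739
theorem L215747 : sm gb N26279 = N27845 := ded_14_3 L215743 (flp_b L186133) (flp_d L203255)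
theorem L215749 : sm gf N23868 = N27846 := rfl
theorem L215751 : sm ga N27846 = N24110 := ded_11_1 (flp_f L188029) (flp_a L186143) L215749
theorem L215753 : sm gd N27846 = N23878 := ded_23_1 (flp_f L186216) (flp_d L186137) L215749
theorem L215755 : sm ge N27846 = N24201 := ded_25_1 (flp_f L188629) (flp_e L186139) L215749
theorem L215757 : sm gg N27846 = N23982 := ded_29_3 L187107 (flp_f L186159) (flp_g L186141) L215749
theorem L215759 : sm gb N27846 = N23988 := ded_16_1 (flp_f L187151) (flp_b L186339) L155074 L186135 L215749
theorem L215761 : sm gc N23869 = N27847 := rfl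
theorem L215763 : sm ga N27847 = N23870 := ded_8_1 (flp_c L186153) L186145 L215761
theorem L215765 : sm ge N27847 = N24364 := ded_19_2 L189829 (flp_e L186149) L215761
theorem L215767 : sm gf N27847 = N26566 := ded_20_2 L205316 (flp_f L187109) L215761
theorem L215769 : sm gg N27847 = N24109 := ded_21_2 (flp_c L188025) (flp_g L186151) L215761
theorem L215771 : sm gd N23870 = N27848 := rfl
theorem L215773 : sm gb N27848 = N24471 := ded_14_1 (flp_d L190699) (flp_b L186157) L215771
theorem L215775 : sm gf N23870 = N27849 := rfl
theorem L215777 : sm ga N27849 = N26566 := ded_11_1 (flp_f L215767) L215763 L215775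
theorem L215779 : sm gc N27849 = N23871 := ded_20_1 (flp_f L186159) L186153 L215775
theorem L215781 : sm ge N27849 = N24966 := ded_25_1 (flp_f L193999) (flp_e L186155) L215775
theorem L215783 : sm gg N23872 = N27850 := rfl
theorem L215785 : sm ga N27850 = N24059 := ded_12_1 (flp_g L187683) (flp_a L186175) L215783
theorem L215787 : sm gd N27850 = N23887 := ded_24_1 (flp_g L186279) (flp_d L186169) L215783
theorem L215789 : sm ge N27850 = N24225 := ded_26_1 L188793 (flp_e L186171) L215783
theorem L215791 : sm gf N24007 = N27850 := ded_29_0 (flp_g L215783) L186173 L186191 (flp_a L187291)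
theorem L215793 : sm gb N27850 = N24013 := ded_17_1 L187339 (flp_b L186357) (flp_g L155128) L186167 L215783
theorem L215795 : sm gc N23873 = N27851 := rfl
theorem L215797 : sm ga N27851 = N23874 := ded_8_1 (flp_c L186185) L186177 L215795
theorem L215799 : sm ge N27851 = N24306 := ded_19_2 L189389 (flp_e L186181) L215795
theorem L215801 : sm gf N27851 = N24058 := ded_20_2 (flp_c L187679) (flp_f L186183) L215795
theorem L215803 : sm gg N27851 = N26722 := ded_21_2 L206637 L187293 L215795
theorem L215805 : sm gd N23874 = N27852 := rfl
theorem L215807 : sm gb N27852 = N24472 := ded_14_1 (flp_d L190701) (flp_b L186189) L215805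
theorem L215809 : sm gg N23874 = N27853 := rfl
theorem L215811 : sm ga N27853 = N26722 := ded_12_1 (flp_g L215803) L215797 L215809
theorem L215813 : sm gc N27853 = N23875 := ded_21_1 (flp_g L186191) L186185 L215809
theorem L215815 : sm ge N27853 = N24967 := ded_26_1 (flp_g L194011) (flp_e L186187) L215809
theorem L215817 : sm gf N23877 = N27854 := rfl
theorem L215819 : sm gc N27854 = N23878 := ded_20_1 (flp_f L186216) L186209 L215817
theorem L215821 : sm ge N27854 = N23932 := ded_25_1 L186651 (flp_e L186211) L215817
theorem L215823 : sm gf N23880 = N27855 := rfl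
theorem L215825 : sm ga N27855 = N23883 := ded_11_1 (flp_f L186248) (flp_a L186232) L215823
theorem L215827 : sm gc N27855 = N23881 := ded_20_1 (flp_f L186236) L186230 L215823
theorem L215829 : sm ge N27855 = N23944 := ded_25_1 (flp_f L186761) (flp_e L186234) L215823
theorem L215831 : sm gg N27854 = N27855 := ded_29_1 (flp_f L215823) (flp_g L191886) (flp_a L191888) L215817
theorem L215833 : sm gf N23882 = N27856 := rfl
theorem L215835 : sm gc N27856 = N27484 := ded_20_1 (flp_f L212847) L205211 L215833
theorem L215837 : sm gd N27856 = N23883 := ded_23_1 (flp_f L186248) L186246 L215833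
theorem L215839 : sm ge N27856 = N27715 := ded_25_1 (flp_f L214489) (flp_e L205209) L215833
theorem L215841 : sm gb N27245 = N27856 := ded_13_5 L215835 L212851 (flp_c L207225) (flp_b L207229) L211065
theorem L215843 : sm gg N23883 = N27857 := rfl
theorem L215845 : sm ga N27857 = N27854 := ded_12_1 L215831 L215825 L215843
theorem L215847 : sm gc N27857 = N23884 := ded_21_1 (flp_g L186254) (flp_c L186250) L215843
theorem L215849 : sm ge N27857 = N23946 := ded_26_1 (flp_g L186781) (flp_e L186252) L215843
theorem L215851 : sm gf N24645 = N27857 := ded_29_0 (flp_g L215843) (flp_f L186248) (flp_g L186213) L191888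
theorem L215853 : sm gg N23886 = N27858 := rfl
theorem L215855 : sm gc N27858 = N23887 := ded_21_1 (flp_g L186279) L186272 L215853
theorem L215857 : sm ge N27858 = N23941 := ded_26_1 L186736 (flp_e L186274) L215853
theorem L215859 : sm gg N23889 = N27859 := rfl
theorem L215861 : sm ga N27859 = N23892 := ded_12_1 (flp_g L186315) (flp_a L186295) L215859
theorem L215863 : sm gc N27859 = N23890 := ded_21_1 (flp_g L186299) L186293 L215859
theorem L215865 : sm ge N27859 = N23947 := ded_26_1 (flp_g L186791) (flp_e L186297) L215859
theorem L215867 : sm gf N27859 = N27858 := ded_29_2 (flp_g L215853) (flp_a L191507) L191505 L215859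
theorem L215869 : sm gg N23891 = N27860 := rfl
theorem L215871 : sm gc N27860 = N27560 := ded_21_1 (flp_g L213349) L186313 L215869
theorem L215873 : sm gd N27860 = N23892 := ded_24_1 (flp_g L186315) L186309 L215869
theorem L215875 : sm ge N27860 = N27711 := ded_26_1 (flp_g L214453) (flp_e L186311) L215869
theorem L215877 : sm gb N27230 = N27860 := ded_13_5 L215871 L213353 (flp_c L206042) (flp_b L206046) L210957
theorem L215879 : sm gf N23892 = N27861 := rfl
theorem L215881 : sm ga N27861 = N27858 := ded_11_1 (flp_f L215867) L215861 L215879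
theorem L215883 : sm gc N27861 = N23893 := ded_20_1 (flp_f L186321) (flp_c L186317) L215879
theorem L215885 : sm ge N27861 = N23949 := ded_25_1 (flp_f L186811) (flp_e L186319) L215879
theorem L215887 : sm gg N27861 = N24590 := ded_29_3 L191507 L186276 L186315 L215879
theorem L215889 : sm gb N23894 = N27862 := rfl
theorem L215891 : sm gd N27862 = N23899 := ded_14_2 (flp_b L186379) (flp_d L186333) L215889
theorem L215893 : sm ge N27862 = N23959 := ded_15_2 (flp_b L186925) (flp_e L186335) L215889
theorem L215895 : sm gf N27862 = N23986 := ded_16_2 (flp_b L187325) L187323 (flp_b L186379) L186337 L215889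
theorem L215897 : sm gg N27862 = N23895 := ded_17_2 (flp_b L186339) (flp_g L155064) L155054 L186329 L215889
theorem L215899 : sm ga N27862 = N23907 := ded_7_1 L186440 (flp_a L186323) (flp_b L187457) L187447 L156701 (flp_a L180133) (flp_b L186377) L186367 L215889
theorem L215901 : sm gb N23896 = N27863 := rfl
theorem L215903 : sm gd N27863 = N23904 := ded_14_2 (flp_b L186411) (flp_d L186351) L215901
theorem L215905 : sm ge N27863 = N23960 := ded_15_2 L186939 (flp_e L186353) L215901
theorem L215907 : sm gf N27863 = N23897 := ded_16_2 (flp_b L186357) (flp_f L155118) L155108 L186347 L215901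
theorem L215909 : sm gg N27863 = N24011 := ded_17_2 L187325 (flp_g L187137) (flp_b L186411) (flp_g L186355) L215901
theorem L215911 : sm ga N27863 = N23901 := ded_7_1 L186394 (flp_a L186256) (flp_b L187531) L187521 L156452 (flp_a L180101) (flp_b L186429) L186419 L215901
theorem L215913 : sm gc N23899 = N27864 := rfl
theorem L215915 : sm ge N27864 = N23958 := ded_19_2 (flp_c L186921) (flp_e L186381) L215913
theorem L215917 : sm gg N27864 = N23900 := ded_21_2 (flp_c L186385) (flp_g L186383) L215913
theorem L215919 : sm gd N23900 = N27865 := rfl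
theorem L215921 : sm gb N27865 = N27865 := ded_14_1 (flp_d L215919) L186389 L215919
theorem L215922 : sm gf N23900 = N27866 := rfl
theorem L215924 : sm gc N27866 = N23901 := ded_20_1 (flp_f L186390) L186385 L215922
theorem L215926 : sm ge N27866 = N23961 := ded_25_1 (flp_f L186941) (flp_e L186387) L215922
theorem L215928 : sm gg N24012 = N27866 := ded_21_0 L215924 (flp_g L186396) L187327
theorem L215930 : sm gg N23902 = N27867 := rfl
theorem L215932 : sm ga N27867 = N26204 := ded_12_1 (flp_g L202776) (flp_a L186400) L215930
theorem L215934 : sm gc N27867 = N23903 := ded_21_1 (flp_g L186405) L186398 L215930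
theorem L215936 : sm gd N27867 = N25008 := ded_24_1 (flp_g L213840) L213843 L215930
theorem L215938 : sm ge N27867 = N23962 := ded_26_1 (flp_g L186947) (flp_e L186402) L215930
theorem L215940 : sm gf N27867 = N25195 := ded_29_2 L202398 (flp_a L202400) L188235 L215930
theorem L215942 : sm gb N26292 = N27867 := ded_13_5 L215934 L186409 L184963 L172998 L203352
theorem L215944 : sm gf N23903 = N27868 := rfl
theorem L215946 : sm ga N27868 = N24139 := ded_11_1 (flp_f L188243) (flp_a L187201) L215944
theorem L215948 : sm gc N27868 = N25195 := ded_20_1 (flp_f L215940) L215934 L215944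
theorem L215950 : sm gd N27868 = N24090 := ded_23_1 (flp_f L187913) L187551 L215944
theorem L215952 : sm ge N27868 = N23963 := ded_25_1 (flp_f L186959) (flp_e L186407) L215944
theorem L215954 : sm gg N27868 = N24028 := ded_29_3 L187471 L156780 L186405 L215944
theorem L215956 : sm gc N23904 = N27869 := rfl
theorem L215958 : sm ge N27869 = N23964 := ded_19_2 (flp_c L186969) (flp_e L186413) L215956
theorem L215960 : sm gf N27869 = N23906 := ded_20_2 (flp_c L186431) (flp_f L186415) L215956
theorem L215962 : sm gd N23906 = N27870 := rfl
theorem L215964 : sm gb N27870 = N27870 := ded_14_1 (flp_d L215962) L186435 L215962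
theorem L215965 : sm ge N27870 = N27865 := ded_22_2 (flp_d L215919) L186387 L175051 (flp_e L186433) L215962
theorem L215967 : sm gg N23906 = N27871 := rfl
theorem L215969 : sm gc N27871 = N23907 := ded_21_1 (flp_g L186436) L186431 L215967
theorem L215971 : sm ge N27871 = N23965 := ded_26_1 (flp_g L186975) (flp_e L186433) L215967
theorem L215973 : sm gf N23987 = N27871 := ded_20_0 L215969 (flp_f L186442) L187139
theorem L215975 : sm gf N23908 = N27872 := rfl
theorem L215977 : sm ga N27872 = N25969 := ded_11_1 (flp_f L201129) (flp_a L186446) L215975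
theorem L215979 : sm gc N27872 = N23909 := ded_20_1 (flp_f L186451) L186444 L215975
theorem L215981 : sm gd N27872 = N25029 := ded_23_1 (flp_f L214145) L214148 L215975
theorem L215983 : sm ge N27872 = N23966 := ded_25_1 (flp_f L186983) (flp_e L186448) L215975
theorem L215985 : sm gg N25243 = N27872 := ded_29_1 (flp_f L215975) (flp_g L187889) L200759 (flp_f L200757)
theorem L215987 : sm gb N26368 = N27872 := ded_30_2 L215977 (flp_f L201129) L169397 (flp_b L156080) L107925 L107953 (flp_c L115980) (flp_b L159667) L159661 (flp_f L159655) (flp_c L161098) (flp_b L161094) L111383 L111419 L111423 L118412 L171142 L171146 L203852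
theorem L215989 : sm gg N23909 = N27873 := rfl
theorem L215991 : sm ga N27873 = N24088 := ded_12_1 L187897 (flp_a L187389) L215989
theorem L215993 : sm gc N27873 = N25243 := ded_21_1 L215985 L215979 L215989
theorem L215995 : sm gd N27873 = N24037 := ded_24_1 (flp_g L187613) L187609 L215989
theorem L215997 : sm ge N27873 = N23967 := ded_26_1 (flp_g L186995) (flp_e L186453) L215989
theorem L215999 : sm gf N24020 = N27873 := ded_29_0 (flp_g L215989) (flp_f L186451) (flp_g L156527) (flp_a L187399)
theorem L216001 : sm gb N27873 = N27868 := ded_17_1 L215954 (flp_b L187463) (flp_g L185239) (flp_b L186455) L215989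
theorem L216003 : sm gc N23914 = N27874 := rfl
theorem L216005 : sm ga N27874 = N25204 := ded_8_1 (flp_c L196240) L196243 L216003
theorem L216007 : sm ge N27874 = N23917 := ded_19_2 (flp_c L186518) (flp_e L186505) L216003
theorem L216009 : sm gf N27874 = N27874 := ded_20_2 (flp_c L216003) L186507 L216003
theorem L216010 : sm gb N27874 = N23922 := ded_13_1 (flp_c L186555) (flp_b L155360) (flp_c L155328) L186501 L216003
theorem L216012 : sm gc N23915 = N27875 := rfl
theorem L216014 : sm ga N27875 = N25251 := ded_8_1 L196556 (flp_a L195834) L216012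
theorem L216016 : sm ge N27875 = N23919 := ded_19_2 (flp_c L186526) (flp_e L186512) L216012
theorem L216018 : sm gg N27875 = N27875 := ded_21_2 (flp_c L216012) L186514 L216012
theorem L216019 : sm gb N27875 = N23925 := ded_13_1 (flp_c L186585) (flp_b L155372) (flp_c L155340) L186508 L216012
theorem L216021 : sm gd N23917 = N27876 := rfl
theorem L216023 : sm ga N27876 = N24394 := ded_9_1 L196827 L196820 L216021
theorem L216025 : sm gb N27876 = N23932 := ded_14_1 (flp_d L186647) (flp_b L186521) L216021
theorem L216027 : sm gf N27876 = N27876 := ded_23_2 (flp_d L216021) L186520 L216021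
theorem L216028 : sm gc N24393 = N27876 := ded_28_0 (flp_d L216021) (flp_c L186518) (flp_d L186485) L186489 L174139 L174145 (flp_d L174150) L190073
theorem L216030 : sm gd N23919 = N27877 := rfl
theorem L216032 : sm ga N27877 = N24342 := ded_9_1 L196717 L196710 L216030
theorem L216034 : sm gb N27877 = N23941 := ded_14_1 (flp_d L186732) (flp_b L186529) L216030
theorem L216036 : sm gg N27877 = N27877 := ded_24_2 (flp_d L216030) L186528 L216030
theorem L216037 : sm gc N24341 = N27877 := ded_28_0 (flp_d L216030) (flp_c L186526) (flp_d L186494) L186498 L172638 L172644 (flp_d L175497) L189647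
theorem L216039 : sm gb N23944 = N27878 := rfl
theorem L216041 : sm gd N27878 = N25274 := ded_14_2 L196739 (flp_d L186767) L216039
theorem L216043 : sm gc N27878 = N24236 := ded_13_2 (flp_b L188867) L157349 L155437 (flp_c L186765) L216039
theorem L216045 : sm gg N25276 = N27878 := ded_24_0 L216041 L196737 L196751
theorem L216047 : sm gb N23947 = N27879 := rfl
theorem L216049 : sm gd N27879 = N25286 := ded_14_2 L196841 (flp_d L186797) L216047
theorem L216051 : sm gc N27879 = N24215 := ded_13_2 (flp_b L188717) L157237 (flp_b L155482) (flp_c L186795) L216047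
theorem L216053 : sm gf N25288 = N27879 := ded_23_0 L216049 L196839 L196853
theorem L216055 : sm gb N23968 = N27880 := rfl
theorem L216057 : sm gc N27880 = N24497 := ded_13_2 (flp_b L190857) (flp_c L159065) (flp_b L155802) L187007 L216055
theorem L216059 : sm gf N27880 = N25301 := ded_16_2 (flp_b L196935) L166310 (flp_b L156092) (flp_f L187011) L216055
theorem L216061 : sm gb N23969 = N27881 := rfl
theorem L216063 : sm gc N27881 = N24499 := ded_13_2 (flp_b L190867) (flp_c L159083) (flp_b L155810) L187013 L216061
theorem L216065 : sm gg N27881 = N25313 := ded_17_2 (flp_b L197013) L166360 (flp_b L156202) (flp_g L187017) L216061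
theorem L216067 : sm gc N23970 = N27882 := rfl
theorem L216069 : sm ge N27882 = N24707 := ded_19_2 L192315 (flp_e L187025) L216067
theorem L216071 : sm gf N27882 = N24706 := ded_20_2 L192311 (flp_f L187023) L216067
theorem L216073 : sm gd N27882 = N27842 := ded_28_7 L215719 L192311 L181253 L151944 L152728 (flp_c L155828) L187019 L216067
theorem L216075 : sm gg N23970 = N27883 := rfl
theorem L216077 : sm gd N27883 = N23971 := ded_24_1 (flp_g L187027) L187019 L216075
theorem L216079 : sm ge N27883 = N27322 := ded_26_1 (flp_g L211697) (flp_e L187025) L216075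
theorem L216081 : sm gf N27843 = N27883 := ded_29_0 (flp_g L216075) L187023 L211691 (flp_a L215725)
theorem L216083 : sm gb N23972 = N27884 := rfl
theorem L216085 : sm gd N27884 = N27880 := ded_14_2 (flp_b L216055) (flp_d L187041) L216083
theorem L216087 : sm ge N23972 = N27885 := rfl
theorem L216089 : sm ga N27885 = N23975 := ded_10_1 (flp_e L187061) (flp_a L187037) L216087
theorem L216091 : sm gc N27885 = N23973 := ded_19_1 (flp_e L187043) L187035 L216087
theorem L216093 : sm gf N27885 = N24039 := ded_25_2 (flp_e L187559) (flp_f L187039) L216087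
theorem L216095 : sm ge N23974 = N27886 := rfl
theorem L216097 : sm gb N27886 = N23975 := ded_15_1 (flp_e L187061) L187053 L216095
theorem L216099 : sm gc N27886 = N24570 := ded_19_1 (flp_e L191371) (flp_c L187057) L216095
theorem L216101 : sm gf N27886 = N24570 := ded_25_2 (flp_e L191371) (flp_f L187059) L216095
theorem L216103 : sm gd N27886 = N26817 := ded_22_1 L207473 (flp_d L200473) L200475 (flp_d L187055) L216095
theorem L216105 : sm gg N23974 = N27887 := rfl
theorem L216107 : sm gc N27887 = N24571 := ded_21_1 (flp_g L191375) (flp_c L187057) L216105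
theorem L216109 : sm gd N27887 = N27203 := ded_24_1 (flp_g L210787) (flp_d L187055) L216105
theorem L216111 : sm gd N23975 = N27888 := rfl
theorem L216113 : sm gb N27888 = N26817 := ded_14_1 (flp_d L216103) L216097 L216111
theorem L216115 : sm gf N27888 = N24049 := ded_23_2 (flp_d L187627) (flp_f L187065) L216111
theorem L216117 : sm gg N23975 = N27889 := rfl
theorem L216119 : sm gc N27889 = N23977 := ded_21_1 (flp_g L187071) (flp_c L187063) L216117
theorem L216121 : sm ge N27889 = N23976 := ded_26_1 (flp_g L187067) L187061 L216117
theorem L216123 : sm gb N23976 = N27890 := rfl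
theorem L216125 : sm gb N23977 = N27891 := rfl
theorem L216127 : sm gd N27891 = N24198 := ded_14_2 (flp_b L188597) (flp_d L187073) L216125
theorem L216129 : sm ge N27891 = N23978 := ded_15_2 (flp_b L187077) (flp_e L187075) L216125
theorem L216131 : sm gg N27891 = N24576 := ded_17_2 (flp_b L191399) (flp_g L159529) (flp_b L155844) L187071 L216125
theorem L216133 : sm ga N23978 = N27892 := rfl
theorem L216135 : sm gd N27892 = N23979 := ded_9_2 (flp_a L187083) (flp_d L187079) L216133
theorem L216137 : sm gg N27892 = N24577 := ded_12_2 (flp_a L191405) (flp_g L187081) L216133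
theorem L216139 : sm gc N23978 = N27893 := rfl
theorem L216141 : sm gg N27893 = N24578 := ded_21_2 (flp_c L191409) (flp_g L187081) L216139
theorem L216143 : sm gf N23978 = N27894 := rfl
theorem L216145 : sm gd N27894 = N23981 := ded_23_1 (flp_f L187097) (flp_d L187079) L216143
theorem L216147 : sm gc N23979 = N27895 := rfl
theorem L216149 : sm ga N27895 = N23980 := ded_8_1 (flp_c L187089) L187083 L216147
theorem L216151 : sm ge N27895 = N24200 := ded_19_2 (flp_c L188615) (flp_e L187085) L216147
theorem L216153 : sm gg N27895 = N24581 := ded_21_2 (flp_c L191423) (flp_g L187087) L216147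
theorem L216155 : sm gb N27895 = N27014 := ded_13_1 L209203 L193961 (flp_c L201472) L201478 L216147
theorem L216157 : sm gd N26966 = N27895 := ded_9_0 L216149 (flp_d L208648) (flp_a L208797)
theorem L216159 : sm gd N23983 = N27896 := rfl
theorem L216161 : sm ga N27896 = N23984 := ded_9_1 (flp_d L187119) (flp_a L187113) L216159
theorem L216163 : sm gg N27896 = N23990 := ded_24_2 (flp_d L187157) (flp_g L187117) L216159
theorem L216165 : sm ge N27896 = N27154 := ded_22_2 L210391 L189073 (flp_d L188633) (flp_e L187115) L216159
theorem L216167 : sm gc N27896 = N27061 := ded_28_4 L209617 (flp_c L187365) L187367 (flp_a L187355) L187357 L155994 L187111 L216159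
theorem L216169 : sm gf N23984 = N27897 := rfl
theorem L216171 : sm gc N27897 = N26918 := ded_20_1 L208323 L187125 L216169
theorem L216173 : sm gd N27897 = N23985 := ded_23_1 (flp_f L187127) L187119 L216169
theorem L216175 : sm ge N27897 = N24237 := ded_25_1 L188873 (flp_e L187123) L216169
theorem L216177 : sm gb N23985 = N27898 := rfl
theorem L216179 : sm ge N27898 = N24204 := ded_15_2 (flp_b L188649) (flp_e L187131) L216177
theorem L216181 : sm gc N27898 = N24930 := ded_13_2 (flp_b L193731) L187621 L156380 (flp_c L187129) L216177
theorem L216183 : sm gf N27898 = N25952 := ded_16_2 (flp_b L208459) L208463 L187095 L187127 L216177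
theorem L216185 : sm ga N27898 = N24931 := ded_30_3 L193737 (flp_c L169333) (flp_b L117295) (flp_a L96295) (flp_f L96301) (flp_c L96205) L96201 L117247 (flp_f L117251) L158851 (flp_b L186157) (flp_a L215763) L215767 L205316 (flp_b L187101) (flp_a L155860) L155872 (flp_c L187129) L216177
theorem L216187 : sm gc N23986 = N27899 := rfl
theorem L216189 : sm ga N27899 = N23987 := ded_8_1 (flp_c L187139) L187133 L216187
theorem L216191 : sm ge N27899 = N24205 := ded_19_2 (flp_c L188659) (flp_e L187135) L216187
theorem L216193 : sm gg N27899 = N27869 := ded_21_2 (flp_c L215956) L187137 L216187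
theorem L216195 : sm gb N23987 = N27900 := rfl
theorem L216197 : sm ge N27900 = N24206 := ded_15_2 (flp_b L188667) (flp_e L187141) L216195
theorem L216199 : sm gc N27900 = N23989 := ded_13_2 (flp_b L187153) (flp_c L155880) L155876 L187139 L216195
theorem L216201 : sm gd N23987 = N27901 := rfl
theorem L216203 : sm gg N23987 = N27902 := rfl
theorem L216205 : sm ga N27902 = N27869 := ded_12_1 (flp_g L216193) L216189 L216203
theorem L216207 : sm gc N27902 = N23988 := ded_21_1 (flp_g L187143) L187139 L216203
theorem L216209 : sm ge N27902 = N24208 := ded_26_1 (flp_g L188679) (flp_e L187141) L216203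
theorem L216211 : sm gf N26210 = N27902 := ded_29_0 (flp_g L216203) L215973 (flp_g L215967) L202830
theorem L216213 : sm gb N26207 = N27902 := ded_30_2 L216205 L215960 (flp_c L186431) (flp_b L155198) L107368 (flp_f L91080) L83392 (flp_b L42696) L20395 L20773 L20777 L20829 L43502 (flp_f L85007) L96730 L118417 L169413 L201145 (flp_c L202798)
theorem L216215 : sm ga N23989 = N27903 := rfl
theorem L216217 : sm ge N27903 = N24209 := ded_10_2 (flp_a L188689) (flp_e L187155) L216215
theorem L216219 : sm gd N23989 = N27904 := rfl
theorem L216221 : sm gb N27904 = N23990 := ded_14_1 (flp_d L187157) L187153 L216219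
theorem L216223 : sm ge N27155 = N27904 := ded_15_0 L216221 (flp_e L187163) L210393
theorem L216225 : sm gc N25846 = N27904 := ded_13_0 L216221 L187161 (flp_b L178834) (flp_c L168849) L200229
theorem L216227 : sm gf N23989 = N27905 := rfl
theorem L216229 : sm ge N27905 = N24211 := ded_25_1 (flp_f L188695) (flp_e L187155) L216227
theorem L216231 : sm gf N23990 = N27906 := rfl
theorem L216233 : sm ga N27906 = N23992 := ded_11_1 (flp_f L187175) (flp_a L187159) L216231
theorem L216235 : sm gc N27906 = N27060 := ded_20_1 L209607 (flp_c L187161) L216231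
theorem L216237 : sm gd N27906 = N23991 := ded_23_1 (flp_f L187165) L187157 L216231
theorem L216239 : sm ge N27906 = N27156 := ded_25_1 (flp_f L210395) L187163 L216231
theorem L216241 : sm gg N27897 = N27906 := ded_29_1 (flp_f L216231) (flp_g L216163) L216161 L216169
theorem L216243 : sm gb N23991 = N27907 := rfl
theorem L216245 : sm ge N27907 = N24215 := ded_15_2 (flp_b L188717) (flp_e L187171) L216243
theorem L216247 : sm gg N23992 = N27908 := rfl
theorem L216249 : sm ga N27908 = N27897 := ded_12_1 L216241 L216233 L216247
theorem L216251 : sm gc N27908 = N24197 := ded_21_1 L188593 (flp_c L187177) L216247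
theorem L216253 : sm gd N27908 = N23993 := ded_24_1 (flp_g L187183) (flp_d L187179) L216247
theorem L216255 : sm ge N27908 = N24196 := ded_26_1 L188587 (flp_e L187181) L216247
theorem L216257 : sm gf N27896 = N27908 := ded_29_0 (flp_g L216247) (flp_f L187175) (flp_g L187121) (flp_a L216161)
theorem L216259 : sm gb N23993 = N27909 := rfl
theorem L216261 : sm ge N27909 = N24221 := ded_15_2 (flp_b L188757) (flp_e L187189) L216259
theorem L216263 : sm gg N27909 = N25970 := ded_17_2 (flp_b L201135) L169407 L169351 L187183 L216259
theorem L216265 : sm gc N23995 = N27910 := rfl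
theorem L216267 : sm ge N27910 = N24757 := ded_19_2 L192631 (flp_e L187209) L216265
theorem L216269 : sm gg N27910 = N24755 := ded_21_2 L192621 (flp_g L187207) L216265
theorem L216271 : sm gd N27910 = N27844 := ded_28_7 L215735 L192621 L181771 L152388 L153143 (flp_c L155926) L187203 L216265
theorem L216273 : sm gf N23995 = N27911 := rfl
theorem L216275 : sm gd N27911 = N23996 := ded_23_1 (flp_f L187211) L187203 L216273
theorem L216277 : sm ge N27911 = N27414 := ded_25_1 (flp_f L212365) (flp_e L187209) L216273
theorem L216279 : sm gg N27911 = N27845 := ded_29_3 L215741 (flp_f L212347) (flp_g L187207) L216273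
theorem L216281 : sm gb N23997 = N27912 := rfl
theorem L216283 : sm gd N27912 = N27881 := ded_14_2 (flp_b L216061) (flp_d L187225) L216281
theorem L216285 : sm ge N23997 = N27913 := rfl
theorem L216287 : sm ga N27913 = N24000 := ded_10_1 (flp_e L187245) (flp_a L187221) L216285
theorem L216289 : sm gc N27913 = N23998 := ded_19_1 (flp_e L187227) L187219 L216285
theorem L216291 : sm gg N27913 = N24091 := ded_26_2 (flp_e L187917) (flp_g L187223) L216285
theorem L216293 : sm ge N23999 = N27914 := rfl
theorem L216295 : sm gb N27914 = N24000 := ded_15_1 (flp_e L187245) L187237 L216293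
theorem L216297 : sm gc N27914 = N24625 := ded_19_1 (flp_e L191752) (flp_c L187241) L216293
theorem L216299 : sm gg N27914 = N24625 := ded_26_2 (flp_e L191752) (flp_g L187243) L216293
theorem L216301 : sm gd N27914 = N26852 := ded_22_1 L207758 (flp_d L202160) L202162 (flp_d L187239) L216293
theorem L216303 : sm gf N23999 = N27915 := rfl
theorem L216305 : sm gc N27915 = N24626 := ded_20_1 (flp_f L191756) (flp_c L187241) L216303
theorem L216307 : sm gd N27915 = N27215 := ded_23_1 (flp_f L210871) (flp_d L187239) L216303
theorem L216309 : sm gd N24000 = N27916 := rfl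
theorem L216311 : sm gb N27916 = N26852 := ded_14_1 (flp_d L216301) L216295 L216309
theorem L216313 : sm gg N27916 = N24100 := ded_24_2 (flp_d L187973) (flp_g L187249) L216309
theorem L216315 : sm gf N24000 = N27917 := rfl
theorem L216317 : sm gc N27917 = N24002 := ded_20_1 (flp_f L187255) (flp_c L187247) L216315
theorem L216319 : sm ge N27917 = N24001 := ded_25_1 (flp_f L187251) L187245 L216315
theorem L216321 : sm gb N24001 = N27918 := rfl
theorem L216323 : sm gb N24002 = N27919 := rfl
theorem L216325 : sm gd N27919 = N24222 := ded_14_2 (flp_b L188761) (flp_d L187257) L216323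
theorem L216327 : sm ge N27919 = N24003 := ded_15_2 (flp_b L187261) (flp_e L187259) L216323
theorem L216329 : sm gf N27919 = N24631 := ded_16_2 (flp_b L191780) (flp_f L159729) (flp_b L155942) L187255 L216323
theorem L216331 : sm ga N24003 = N27920 := rfl
theorem L216333 : sm gd N27920 = N24004 := ded_9_2 (flp_a L187267) (flp_d L187263) L216331
theorem L216335 : sm gf N27920 = N24632 := ded_11_2 (flp_a L191786) (flp_f L187265) L216331
theorem L216337 : sm gc N24003 = N27921 := rfl
theorem L216339 : sm gf N27921 = N24633 := ded_20_2 (flp_c L191790) (flp_f L187265) L216337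
theorem L216341 : sm gg N24003 = N27922 := rfl
theorem L216343 : sm gd N27922 = N24006 := ded_24_1 (flp_g L187281) (flp_d L187263) L216341
theorem L216345 : sm gc N24004 = N27923 := rfl
theorem L216347 : sm ga N27923 = N24005 := ded_8_1 (flp_c L187273) L187267 L216345
theorem L216349 : sm ge N27923 = N24224 := ded_19_2 (flp_c L188779) (flp_e L187269) L216345
theorem L216351 : sm gf N27923 = N24636 := ded_20_2 (flp_c L191804) (flp_f L187271) L216345
theorem L216353 : sm gb N27923 = N27008 := ded_13_1 L209145 L193723 (flp_c L203109) L203115 L216345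
theorem L216355 : sm gd N26948 = N27923 := ded_9_0 L216347 (flp_d L208437) (flp_a L208624)
theorem L216357 : sm gd N24008 = N27924 := rfl
theorem L216359 : sm ga N27924 = N24009 := ded_9_1 (flp_d L187303) (flp_a L187297) L216357
theorem L216361 : sm gf N27924 = N24015 := ded_23_2 (flp_d L187345) (flp_f L187301) L216357
theorem L216363 : sm ge N27924 = N27145 := ded_22_2 L210303 L189195 (flp_d L188797) (flp_e L187299) L216357
theorem L216365 : sm gc N27066 = N27924 := ded_28_0 (flp_d L216357) (flp_c L187295) L155960 (flp_c L187169) (flp_d L216237) L216235 L209603 (flp_a L209673)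
theorem L216367 : sm gg N24009 = N27925 := rfl
theorem L216369 : sm gc N27925 = N26899 := ded_21_1 L208163 L187309 L216367
theorem L216371 : sm gd N27925 = N24010 := ded_24_1 (flp_g L187311) L187303 L216367
theorem L216373 : sm ge N27925 = N24216 := ded_26_1 L188723 (flp_e L187307) L216367
theorem L216375 : sm gb N24010 = N27926 := rfl
theorem L216377 : sm ge N27926 = N24227 := ded_15_2 (flp_b L188803) (flp_e L187315) L216375
theorem L216379 : sm gc N27926 = N24957 := ded_13_2 (flp_b L193935) L187967 L156627 (flp_c L187313) L216375
theorem L216381 : sm gg N27926 = N26187 := ded_17_2 (flp_b L208397) L208403 L187279 L187311 L216375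
theorem L216383 : sm ga N27926 = N24958 := ded_30_3 (flp_f L203303) L203301 L193949 (flp_a L191668) (flp_f L191666) L159647 L110515 (flp_a L110911) L110927 (flp_c L110933) L110939 L107941 L115986 L115990 (flp_b L107871) (flp_a L155992) L155998 (flp_c L187313) L216375
theorem L216385 : sm gc N24011 = N27927 := rfl
theorem L216387 : sm ga N27927 = N24012 := ded_8_1 (flp_c L187327) L187317 L216385
theorem L216389 : sm ge N27927 = N24207 := ded_19_2 (flp_c L188677) (flp_e L187321) L216385
theorem L216391 : sm gf N27927 = N27864 := ded_20_2 (flp_c L215913) (flp_f L187323) L216385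
theorem L216393 : sm gb N24012 = N27928 := rfl
theorem L216395 : sm ge N27928 = N24228 := ded_15_2 (flp_b L188813) (flp_e L187329) L216393
theorem L216397 : sm gc N27928 = N24014 := ded_13_2 (flp_b L187341) (flp_c L155984) L155978 L187327 L216393
theorem L216399 : sm gd N24012 = N27929 := rfl
theorem L216401 : sm gf N24012 = N27930 := rfl
theorem L216403 : sm ga N27930 = N27864 := ded_11_1 (flp_f L216391) L216387 L216401
theorem L216405 : sm gc N27930 = N24013 := ded_20_1 (flp_f L187331) L187327 L216401
theorem L216407 : sm ge N27930 = N24229 := ded_25_1 (flp_f L188817) (flp_e L187329) L216401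
theorem L216409 : sm gg N27930 = N25977 := ded_29_3 (flp_a L201197) L215922 (flp_g L215928) L216401
theorem L216411 : sm gb N25973 = N27930 := ded_15_3 L216407 (flp_b L188825) (flp_e L201157)
theorem L216413 : sm ga N24014 = N27931 := rfl
theorem L216415 : sm ge N27931 = N24230 := ded_10_2 (flp_a L188827) (flp_e L187343) L216413
theorem L216417 : sm gd N24014 = N27932 := rfl
theorem L216419 : sm gb N27932 = N24015 := ded_14_1 (flp_d L187345) L187341 L216417
theorem L216421 : sm ge N27146 = N27932 := ded_15_0 L216419 (flp_e L187351) L210305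
theorem L216423 : sm gc N26089 = N27932 := ded_13_0 L216419 (flp_c L187349) (flp_b L178925) (flp_c L169872) L201922
theorem L216425 : sm gg N24014 = N27933 := rfl
theorem L216427 : sm ge N27933 = N24232 := ded_26_1 (flp_g L188833) (flp_e L187343) L216425
theorem L216429 : sm gg N24015 = N27934 := rfl
theorem L216431 : sm ga N27934 = N24017 := ded_12_1 (flp_g L187363) (flp_a L187347) L216429
theorem L216433 : sm gc N27934 = N27065 := ded_21_1 L209667 L187349 L216429
theorem L216435 : sm gd N27934 = N24016 := ded_24_1 (flp_g L187353) L187345 L216429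
theorem L216437 : sm ge N27934 = N27147 := ded_26_1 (flp_g L210307) L187351 L216429
theorem L216439 : sm gf N27934 = N27925 := ded_29_2 (flp_g L216367) (flp_a L216359) L216361 L216429
theorem L216441 : sm gb N24016 = N27935 := rfl
theorem L216443 : sm ge N27935 = N24236 := ded_15_2 (flp_b L188867) (flp_e L187359) L216441
theorem L216445 : sm gf N24017 = N27936 := rfl
theorem L216447 : sm ga N27936 = N27925 := ded_11_1 (flp_f L216439) L216431 L216445
theorem L216449 : sm gc N27936 = N24194 := ded_20_1 L188569 (flp_c L187365) L216445
theorem L216451 : sm gd N27936 = N24018 := ded_23_1 (flp_f L187371) (flp_d L187367) L216445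
theorem L216453 : sm ge N27936 = N24193 := ded_25_1 L188565 (flp_e L187369) L216445
theorem L216455 : sm gg N27936 = N27924 := ded_29_3 L216359 L187305 L187363 L216445
theorem L216457 : sm gb N24018 = N27937 := rfl
theorem L216459 : sm ge N27937 = N24241 := ded_15_2 (flp_b L188913) (flp_e L187377) L216457
theorem L216461 : sm gf N27937 = N26205 := ded_16_2 (flp_b L202782) (flp_f L170406) L170350 L187371 L216457
theorem L216463 : sm gd N24021 = N27938 := rfl
theorem L216465 : sm ga N27938 = N24509 := ded_9_1 (flp_d L190939) (flp_a L187403) L216463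
theorem L216467 : sm gb N27938 = N24485 := ded_14_1 (flp_d L190785) (flp_b L187405) L216463
theorem L216469 : sm gc N24023 = N27939 := rfl
theorem L216471 : sm ga N27939 = N24664 := ded_8_1 L192027 (flp_a L187417) L216469
theorem L216473 : sm ge N27939 = N25615 := ded_19_2 L198863 (flp_e L187425) L216469
theorem L216475 : sm gf N27939 = N24662 := ded_20_2 (flp_c L192013) (flp_f L187421) L216469
theorem L216477 : sm gg N27939 = N24027 := ded_21_2 (flp_c L187459) (flp_g L187423) L216469
theorem L216479 : sm gb N27939 = N26995 := ded_13_1 (flp_c L209031) (flp_b L177805) (flp_c L159964) (flp_b L187419) L216469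
theorem L216481 : sm gd N24024 = N27940 := rfl
theorem L216483 : sm gg N27940 = N24891 := ded_24_2 L193461 (flp_g L187431) L216481
theorem L216485 : sm gb N24027 = N27941 := rfl
theorem L216487 : sm gd N27941 = N27491 := ded_14_2 L212909 L187801 L216485
theorem L216489 : sm gd N24029 = N27942 := rfl
theorem L216491 : sm ga N27942 = N24529 := ded_9_1 (flp_d L191083) (flp_a L187475) L216489
theorem L216493 : sm gb N27942 = N24491 := ded_14_1 (flp_d L190821) (flp_b L187477) L216489
theorem L216495 : sm gc N24031 = N27943 := rfl
theorem L216497 : sm ga N27943 = N24686 := ded_8_1 L192173 (flp_a L187489) L216495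
theorem L216499 : sm ge N27943 = N25605 := ded_19_2 (flp_c L198807) (flp_e L187497) L216495
theorem L216501 : sm gf N27943 = N24035 := ded_20_2 (flp_c L187533) (flp_f L187493) L216495
theorem L216503 : sm gg N27943 = N24684 := ded_21_2 (flp_c L192159) (flp_g L187495) L216495
theorem L216505 : sm gb N27943 = N26986 := ded_13_1 (flp_c L208959) (flp_b L177779) (flp_c L159849) (flp_b L187491) L216495
theorem L216507 : sm gd N24032 = N27944 := rfl
theorem L216509 : sm gf N27944 = N24839 := ded_23_2 L193151 (flp_f L187503) L216507
theorem L216511 : sm gb N24035 = N27945 := rfl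
theorem L216513 : sm gd N27945 = N27567 := ded_14_2 L213411 L188147 L216511
theorem L216515 : sm gc N27945 = N27941 := ded_13_2 (flp_b L216485) (flp_c L187459) (flp_b L156280) L187533 L216511
theorem L216517 : sm ga N24036 = N27946 := rfl
theorem L216519 : sm ge N27946 = N24288 := ded_10_2 (flp_a L189237) (flp_e L187539) L216517
theorem L216521 : sm gg N27946 = N25998 := ded_12_2 (flp_a L201356) (flp_g L187541) L216517
theorem L216523 : sm gf N27946 = N24716 := ded_29_0 (flp_g L214441) (flp_f L214443) (flp_g L187541) L216517
theorem L216525 : sm gb N27946 = N25994 := ded_7_2 L201328 (flp_b L170923) L166424 (flp_b L170614) (flp_a L179815) L179817 L160946 L187537 L216517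
theorem L216527 : sm gf N24036 = N27947 := rfl
theorem L216529 : sm ga N27947 = N24716 := ded_11_1 (flp_f L216523) (flp_a L216517) L216527
theorem L216531 : sm gc N27947 = N27946 := ded_20_1 L216523 L192369 L216527
theorem L216533 : sm ge N27947 = N24289 := ded_25_1 (flp_f L189247) (flp_e L187539) L216527
theorem L216535 : sm gb N27947 = N24740 := ded_16_1 L210261 (flp_b L210251) (flp_f L179673) L187537 L216527
theorem L216537 : sm gd N24039 = N27948 := rfl
theorem L216539 : sm ga N27948 = N24049 := ded_9_1 (flp_d L187627) (flp_a L187561) L216537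
theorem L216541 : sm ge N27948 = N27938 := ded_22_2 (flp_d L216463) (flp_e L187401) (flp_d L156342) L187559 L216537
theorem L216543 : sm gg N24039 = N27949 := rfl
theorem L216545 : sm ga N27949 = N24050 := ded_12_1 (flp_g L187631) (flp_a L187561) L216543
theorem L216547 : sm gc N27949 = N24041 := ded_21_1 (flp_g L187575) (flp_c L187563) L216543
theorem L216549 : sm ge N27949 = N24040 := ded_26_1 (flp_g L187565) L187559 L216543
theorem L216551 : sm gf N27949 = N27889 := ded_29_2 (flp_g L216117) (flp_a L216089) L216093 L216543
theorem L216553 : sm gb N24040 = N27950 := rfl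
theorem L216555 : sm gd N27950 = N27021 := ded_14_2 L209261 (flp_d L187571) L216553
theorem L216557 : sm ga N24042 = N27951 := rfl
theorem L216559 : sm gd N27951 = N24043 := ded_9_2 (flp_a L187589) (flp_d L187587) L216557
theorem L216561 : sm gc N24042 = N27952 := rfl
theorem L216563 : sm gf N24042 = N27953 := rfl
theorem L216565 : sm gd N27953 = N24045 := ded_23_1 (flp_f L187599) (flp_d L187587) L216563
theorem L216567 : sm gb N27953 = N27894 := ded_16_1 (flp_f L216143) (flp_b L187077) (flp_f L156358) L187585 L216563
theorem L216569 : sm gc N24043 = N27954 := rfl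
theorem L216571 : sm ga N27954 = N24044 := ded_8_1 (flp_c L187593) L187589 L216569
theorem L216573 : sm ge N27954 = N24291 := ded_19_2 (flp_c L189267) (flp_e L187591) L216569
theorem L216575 : sm gg N27954 = N24826 := ded_21_2 (flp_c L214569) L214573 L216569
theorem L216577 : sm gb N27954 = N24830 := ded_13_1 L211893 L211897 L202941 (flp_b L200139) L216569
theorem L216579 : sm gf N27718 = N27954 := ded_30_0 (flp_c L216569) L200139 L200133 (flp_f L200033) L200023 L200029 (flp_a L200263) L200267 L175859 (flp_b L168965) (flp_a L117231) (flp_f L117229) L169185 (flp_b L193739) (flp_a L216185) L216183 (flp_c L200966) L200958 (flp_a L214517)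
theorem L216581 : sm gf N24043 = N27955 := rfl
theorem L216583 : sm ga N27955 = N24045 := ded_11_1 (flp_f L187599) L187589 L216581
theorem L216585 : sm gc N27955 = N27718 := ded_20_1 L216579 (flp_c L216569) L216581
theorem L216587 : sm ge N27955 = N24292 := ded_25_1 (flp_f L189279) (flp_e L187591) L216581
theorem L216589 : sm gg N27722 = N27955 := ded_29_1 (flp_f L216581) (flp_g L214573) (flp_a L214567) L214553
theorem L216591 : sm gb N27955 = N24849 := ded_16_1 (flp_f L193207) L200021 L200137 (flp_b L200139) L216581
theorem L216593 : sm gd N24044 = N27956 := rfl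
theorem L216595 : sm gb N27956 = N24047 := ded_14_1 (flp_d L187617) (flp_b L187597) L216593
theorem L216597 : sm gc N27956 = N27420 := ded_32_14 (flp_b L212405) L181807 L152416 (flp_d L145108) (flp_c L169755) L201722 L201724 L206548 (flp_d L206555) (flp_c L186272) (flp_b L155006) L107282 (flp_d L107569) L149646 L115134 (flp_c L154428) L185715 (flp_d L186909) L186913 (flp_d L185623) (flp_c L185629) L177277 L177142 (flp_c L185867) L185863 (flp_c L186889) (flp_b L186883) L155660 L154098 (flp_d L114965) (flp_c L120501) L155378 L155380 L155418 (flp_d L186657) L186655 L155394 (flp_e L153850) L153848 (flp_c L183947) L183949 (flp_c L152408) L183969 L183971 (flp_c L189485) L189483 L183819 L152524 L109400 L92039 (flp_d L91904) (flp_c L109073) L148120 (flp_d L112982) L112980 L94046 L47053 L83869 (flp_d L90836) (flp_c L106434) (flp_d L153467) (flp_c L129158) (flp_b L102273) (flp_e L101979) (flp_d L128833) (flp_c L159964) L159966 (flp_c L110933) L110939 (flp_d L156104) (flp_c L187413) (flp_d L187571) L187569 L187585 L187587 L187593 L216593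
theorem L216599 : sm ge N27422 = N27956 := ded_19_0 L216597 L212409 L212415
theorem L216601 : sm gd N27338 = N27422 := ded_22_5 L216599 (flp_d L216593) L187595 (flp_d L183583) (flp_e L211799)
theorem L216603 : sm gg N27422 = N27333 := ded_24_2 L211763 L211795 L216601
theorem L216605 : sm gc N27333 = N27423 := ded_21_1 (flp_g L212417) L212415 L216603
theorem L216607 : sm gf N27423 = N27332 := ded_20_2 (flp_c L211759) L211761 L216605
theorem L216609 : sm gd N27332 = N27428 := ded_23_1 (flp_f L212451) (flp_d L212419) L216607
theorem L216611 : sm gg N24045 = N27957 := rfl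
theorem L216613 : sm ga N27957 = N27722 := ded_12_1 L216589 L216583 L216611
theorem L216615 : sm gc N27957 = N27721 := ded_21_1 L214543 (flp_c L200964) L216611
theorem L216617 : sm ge N27957 = N24293 := ded_26_1 (flp_g L189291) (flp_e L187601) L216611
theorem L216619 : sm gf N27724 = N27957 := ded_29_0 (flp_g L216611) (flp_f L187599) (flp_g L183627) L214567
theorem L216621 : sm gb N24827 = N27957 := ded_7_0 L216613 L214551 (flp_a L184314) L193079 (flp_a L193075) (flp_b L160634) (flp_a L111126) L160650 L193085
theorem L216623 : sm ge N24047 = N27958 := rfl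
theorem L216625 : sm ga N27958 = N27632 := ded_10_1 L213828 (flp_a L192291) L216623
theorem L216627 : sm gb N27958 = N27422 := ded_15_1 L216599 L216595 L216623
theorem L216629 : sm gc N27958 = N24752 := ded_19_1 (flp_e L214133) (flp_c L214137) L216623
theorem L216631 : sm gd N27958 = N24295 := ded_22_1 (flp_e L189309) (flp_d L157859) (flp_e L156374) L187617 L216623
theorem L216633 : sm gf N24763 = N27958 := ded_20_0 L216629 L192599 L192667
theorem L216635 : sm gf N24047 = N27959 := rfl
theorem L216637 : sm gc N27959 = N24761 := ded_20_1 (flp_f L214135) (flp_c L214137) L216635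
theorem L216639 : sm gd N27959 = N24048 := ded_23_1 (flp_f L187619) L187617 L216635
theorem L216641 : sm ge N27959 = N24763 := ded_25_1 L216633 (flp_e L216623) L216635
theorem L216643 : sm gg N24715 = N27959 := ded_29_1 (flp_f L216635) (flp_g L192355) (flp_a L192351) L192359
theorem L216645 : sm gc N24049 = N27960 := rfl
theorem L216647 : sm gb N27960 = N24806 := ded_13_1 L192957 L192419 (flp_c L192415) (flp_b L187629) L216645
theorem L216649 : sm gg N24049 = N27961 := rfl
theorem L216651 : sm gd N27961 = N24050 := ded_24_1 (flp_g L187631) L187627 L216649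
theorem L216653 : sm gb N24050 = N27962 := rfl
theorem L216655 : sm ge N27962 = N24051 := ded_15_2 (flp_b L187637) (flp_e L187635) L216653
theorem L216657 : sm gg N27962 = N24724 := ded_17_2 (flp_b L192425) (flp_g L160212) (flp_b L156384) L187631 L216653
theorem L216659 : sm gf N24050 = N27963 := rfl
theorem L216661 : sm ga N27963 = N27889 := ded_11_1 (flp_f L216551) L216545 L216659
theorem L216663 : sm gc N27963 = N24053 := ded_20_1 (flp_f L187649) (flp_c L187633) L216659
theorem L216665 : sm ge N27963 = N24052 := ded_25_1 (flp_f L187641) (flp_e L187635) L216659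
theorem L216667 : sm gg N27963 = N27885 := ded_29_3 L216089 L187065 L187631 L216659
theorem L216669 : sm ga N24051 = N27964 := rfl
theorem L216671 : sm gg N27964 = N24726 := ded_12_2 (flp_a L192439) (flp_g L187639) L216669
theorem L216673 : sm gf N24051 = N27965 := rfl
theorem L216675 : sm gb N24052 = N27966 := rfl
theorem L216677 : sm gb N24053 = N27967 := rfl
theorem L216679 : sm gd N27967 = N24300 := ded_14_2 (flp_b L189345) (flp_d L187653) L216677
theorem L216681 : sm ge N27967 = N24054 := ded_15_2 (flp_b L187659) (flp_e L187655) L216677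
theorem L216683 : sm ga N24054 = N27968 := rfl
theorem L216685 : sm gd N27968 = N24055 := ded_9_2 (flp_a L187663) (flp_d L187661) L216683
theorem L216687 : sm gc N24054 = N27969 := rfl
theorem L216689 : sm gg N24054 = N27970 := rfl
theorem L216691 : sm gd N27970 = N24057 := ded_24_1 (flp_g L187673) (flp_d L187661) L216689
theorem L216693 : sm gb N27970 = N27883 := ded_17_1 (flp_g L216075) L187021 (flp_g L156404) L187659 L216689
theorem L216695 : sm gc N24055 = N27971 := rfl
theorem L216697 : sm ga N27971 = N24056 := ded_8_1 (flp_c L187667) L187663 L216695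
theorem L216699 : sm ge N27971 = N24301 := ded_19_2 (flp_c L189349) (flp_e L187665) L216695
theorem L216701 : sm gb N27971 = N26822 := ded_13_1 L207507 L175511 (flp_c L189459) L189457 L216695
theorem L216703 : sm gg N24055 = N27972 := rfl
theorem L216705 : sm ga N27972 = N24057 := ded_12_1 (flp_g L187673) L187663 L216703
theorem L216707 : sm ge N27972 = N24302 := ded_26_1 (flp_g L189357) (flp_e L187665) L216703
theorem L216709 : sm gf N27972 = N26352 := ded_29_2 (flp_g L203739) L203723 L203727 L216703
theorem L216711 : sm gd N24056 = N27973 := rfl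
theorem L216713 : sm gb N27973 = N24067 := ded_14_1 (flp_d L187733) (flp_b L187671) L216711
theorem L216715 : sm ge N27973 = N27370 := ded_22_2 (flp_d L212025) L181429 L157909 (flp_e L187669) L216711
theorem L216717 : sm gg N24056 = N27974 := rfl
theorem L216719 : sm gc N27974 = N24057 := ded_21_1 (flp_g L187673) L187667 L216717
theorem L216721 : sm ge N27974 = N24303 := ded_26_1 (flp_g L189363) (flp_e L187669) L216717
theorem L216723 : sm gb N27974 = N24117 := ded_17_1 (flp_g L198579) L198581 (flp_g L187737) (flp_b L187671) L216717
theorem L216725 : sm gf N24057 = N27975 := rfl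
theorem L216727 : sm ga N27975 = N26352 := ded_11_1 (flp_f L216709) L216705 L216725
theorem L216729 : sm ge N27975 = N24304 := ded_25_1 (flp_f L189371) (flp_e L187675) L216725
theorem L216731 : sm gg N27975 = N26350 := ded_29_3 (flp_a L203723) L171017 L187673 L216725
theorem L216733 : sm gb N27975 = N26052 := ded_16_1 (flp_f L201636) L186115 L187033 (flp_b L187677) L216725
theorem L216735 : sm gb N24058 = N27976 := rfl
theorem L216737 : sm ge N27976 = N24305 := ded_15_2 (flp_b L189381) (flp_e L187681) L216735
theorem L216739 : sm gc N27976 = N24060 := ded_13_2 (flp_b L187693) (flp_c L156414) L156410 L187679 L216735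
theorem L216741 : sm gf N27562 = N27976 := ded_25_0 L216737 L189953 (flp_e L213369)
theorem L216743 : sm gd N27435 = N27976 := ded_22_5 L216737 (flp_d L189965) L212539 (flp_d L212531) (flp_e L212497)
theorem L216745 : sm gd N24058 = N27977 := rfl
theorem L216747 : sm gb N27977 = N27435 := ded_14_1 L216743 (flp_b L216735) L216745
theorem L216749 : sm ge N27977 = N26063 := ded_22_2 L212543 L201292 L173603 (flp_e L187681) L216745
theorem L216751 : sm gc N27977 = N26061 := ded_28_4 L201724 L206548 (flp_d L206555) (flp_a L191507) L191503 L186264 L187679 L216745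
theorem L216753 : sm gg N24058 = N27978 := rfl
theorem L216755 : sm gc N27978 = N24059 := ded_21_1 (flp_g L187683) L187679 L216753
theorem L216757 : sm ge N27978 = N24307 := ded_26_1 (flp_g L189395) (flp_e L187681) L216753
theorem L216759 : sm gf N27853 = N27978 := ded_29_0 (flp_g L216753) (flp_f L215801) L215803 (flp_a L215811)
theorem L216761 : sm ga N24060 = N27979 := rfl
theorem L216763 : sm ge N27979 = N24308 := ded_10_2 (flp_a L189399) (flp_e L187695) L216761
theorem L216765 : sm gb N27979 = N25828 := ded_7_2 L200107 L168788 (flp_a L168808) (flp_b L170865) L170859 L118264 (flp_a L156416) L187693 L216761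
theorem L216767 : sm gg N27976 = N27979 := ded_26_0 L216763 (flp_g L189423) (flp_e L216737)
theorem L216769 : sm gd N24060 = N27980 := rfl
theorem L216771 : sm gb N27980 = N24061 := ded_14_1 (flp_d L187697) L187693 L216769
theorem L216773 : sm gc N27565 = N27980 := ded_28_0 (flp_d L216769) (flp_c L216739) (flp_d L216743) (flp_c L212495) L181861 L184057 (flp_d L212503) (flp_a L213387)
theorem L216775 : sm ge N27980 = N27572 := ded_19_2 L213449 (flp_e L213391) L216773
theorem L216777 : sm gf N27980 = N27563 := ded_20_2 L213373 L213385 L216773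
theorem L216779 : sm gf N24060 = N27981 := rfl
theorem L216781 : sm gc N27981 = N27562 := ded_20_1 L216741 L216739 L216779
theorem L216783 : sm gd N27981 = N27563 := ded_23_1 (flp_f L216777) (flp_d L216769) L216779
theorem L216785 : sm ge N27981 = N24310 := ded_25_1 (flp_f L189409) (flp_e L187695) L216779
theorem L216787 : sm gg N27981 = N27562 := ded_29_1 L216741 L216767 (flp_a L216761) L216779
theorem L216789 : sm gg N24060 = N27982 := rfl
theorem L216791 : sm ga N27982 = N27976 := ded_12_1 L216767 (flp_a L216761) L216789
theorem L216793 : sm gc N27982 = N27979 := ded_21_1 (flp_g L216767) L216739 L216789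
theorem L216795 : sm ge N27982 = N24311 := ded_26_1 (flp_g L189411) (flp_e L187695) L216789
theorem L216797 : sm gf N24382 = N27982 := ded_29_0 (flp_g L216789) L216779 L216787 L213367
theorem L216799 : sm gb N27982 = N24076 := ded_17_1 (flp_g L187793) (flp_b L156482) (flp_g L156420) L187693 L216789
theorem L216801 : sm gc N24061 = N27983 := rfl
theorem L216803 : sm ga N27983 = N24062 := ded_8_1 (flp_c L187703) (flp_a L187699) L216801
theorem L216805 : sm gg N27983 = N24077 := ded_21_2 (flp_c L187797) (flp_g L187701) L216801
theorem L216807 : sm gd N27983 = N27939 := ded_28_7 L216471 L192027 L159881 L156116 L156108 L156414 L187697 L216801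
theorem L216809 : sm ge N24061 = N27984 := rfl
theorem L216811 : sm ga N27984 = N24063 := ded_10_1 (flp_e L187707) (flp_a L187699) L216809
theorem L216813 : sm gb N27984 = N27572 := ded_15_1 (flp_e L216775) L216771 L216809
theorem L216815 : sm gg N27984 = N24078 := ded_26_2 (flp_e L187827) (flp_g L187701) L216809
theorem L216817 : sm gd N27984 = N24313 := ded_22_1 (flp_e L189437) (flp_d L157935) (flp_e L156418) L187697 L216809
theorem L216819 : sm gb N24062 = N27985 := rfl
theorem L216821 : sm ge N24062 = N27986 := rfl
theorem L216823 : sm gc N27986 = N24063 := ded_19_1 (flp_e L187707) L187703 L216821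
theorem L216825 : sm gg N27986 = N24082 := ded_26_2 (flp_e L187857) (flp_g L187705) L216821
theorem L216827 : sm gf N24063 = N27987 := rfl
theorem L216829 : sm gd N27987 = N24317 := ded_23_1 (flp_f L189475) (flp_d L187711) L216827
theorem L216831 : sm ge N27987 = N24064 := ded_25_1 (flp_f L187713) L187707 L216827
theorem L216833 : sm gb N27987 = N26378 := ded_31_2 (flp_g L203923) L203915 L203921 L201846 L191519 L202100 L203455 (flp_f L203447) L170871 L118272 L108277 (flp_b L156504) (flp_g L187709) L216827
theorem L216835 : sm gb N24064 = N27988 := rfl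
theorem L216837 : sm gd N27988 = N24065 := ded_14_2 (flp_b L187717) (flp_d L187715) L216835
theorem L216839 : sm ge N27988 = N26378 := ded_15_2 (flp_b L216833) L216831 L216835
theorem L216841 : sm ga N26385 = N27988 := ded_9_3 L216837 (flp_a L187721) (flp_d L203957)
theorem L216843 : sm gg N26376 = N27988 := ded_24_0 L216837 (flp_g L187723) (flp_d L203913)
theorem L216845 : sm gb N24066 = N27989 := rfl
theorem L216847 : sm ge N27989 = N24318 := ded_15_2 (flp_b L189481) (flp_e L187729) L216845
theorem L216849 : sm gc N27989 = N24108 := ded_13_2 L188023 L187213 (flp_b L184638) L187725 L216845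
theorem L216851 : sm gf N27989 = N24107 := ded_16_2 L188017 L188083 L198210 (flp_f L198208) L216845
theorem L216853 : sm gd N24066 = N27990 := rfl
theorem L216855 : sm ga N27990 = N24067 := ded_9_1 (flp_d L187733) (flp_a L187727) L216853
theorem L216857 : sm gg N27990 = N25514 := ded_24_2 L198226 (flp_g L187731) L216853
theorem L216859 : sm ge N27990 = N27387 := ded_22_2 (flp_d L212161) L181531 (flp_d L157967) (flp_e L187729) L216853
theorem L216861 : sm gc N24067 = N27991 := rfl
theorem L216863 : sm ge N27991 = N27388 := ded_19_2 (flp_c L212165) (flp_e L187735) L216861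
theorem L216865 : sm gg N27674 = N27991 := ded_26_0 L216863 (flp_g L212175) (flp_e L214154)
theorem L216867 : sm gg N24067 = N27992 := rfl
theorem L216869 : sm ga N27992 = N25514 := ded_12_1 (flp_g L216857) L216855 L216867
theorem L216871 : sm gc N27992 = N27674 := ded_21_1 L216865 (flp_c L216861) L216867
theorem L216873 : sm gd N27992 = N24068 := ded_24_1 (flp_g L187737) L187733 L216867
theorem L216875 : sm ge N27992 = N27389 := ded_26_1 (flp_g L212167) (flp_e L187735) L216867
theorem L216877 : sm gf N25510 = N27992 := ded_29_0 (flp_g L216867) L198232 (flp_g L198228) (flp_a L198194)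
theorem L216879 : sm gf N24069 = N27993 := rfl
theorem L216881 : sm ga N27993 = N24829 := ded_11_1 (flp_f L193095) (flp_a L187753) L216879
theorem L216883 : sm gc N27993 = N24075 := ded_20_1 (flp_f L187787) (flp_c L187751) L216879
theorem L216885 : sm gd N27993 = N27513 := ded_23_1 (flp_f L213055) (flp_d L187803) L216879
theorem L216887 : sm ge N27993 = N24320 := ded_25_1 (flp_f L189497) (flp_e L187749) L216879
theorem L216889 : sm gb N27993 = N24460 := ded_16_1 (flp_f L192697) L192701 (flp_f L187759) L187747 L216879
theorem L216891 : sm ge N24070 = N27994 := rfl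
theorem L216893 : sm ga N27994 = N24832 := ded_10_1 L193113 (flp_a L187757) L216891
theorem L216895 : sm gb N27994 = N27512 := ded_15_1 (flp_e L213049) L187807 L216891
theorem L216897 : sm gc N27994 = N27527 := ded_19_1 (flp_e L213151) (flp_c L187825) L216891
theorem L216899 : sm gd N27994 = N24321 := ded_22_1 (flp_e L189505) (flp_d L158005) (flp_e L156466) L187755 L216891
theorem L216901 : sm gf N24070 = N27995 := rfl
theorem L216903 : sm ga N27995 = N24838 := ded_11_1 (flp_f L193143) (flp_a L187757) L216901
theorem L216905 : sm gc N27995 = N27528 := ded_20_1 (flp_f L213157) (flp_c L187825) L216901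
theorem L216907 : sm gd N27995 = N24071 := ded_23_1 (flp_f L187759) L187755 L216901
theorem L216909 : sm gg N27995 = N27944 := ded_29_1 L216509 (flp_g L193149) (flp_a L187757) L216901
theorem L216911 : N26044 = N26034 := coi_30_12 L201550 (flp_c L193183) (flp_b L193181) (flp_a L193163) (flp_f L193161) (flp_c L160696) L160692 (flp_a L187757) L216901 L216905 (flp_b L213901) L213895 (flp_f L201366) (flp_c L169525) L117417 L96265 L96289 (flp_c L117471) L169653 L201604
theorem L216912 : N26044 = N26034 := eqc rfl L216911 rfl
theorem L216913 : sm ga N26034 = N21624 := trfs L216912 (flp_a L201604) rfl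
theorem L216915 : sm ga N24846 = N26340 := ded_8_3 L203653 L216913 (flp_c L193183)
theorem L216917 : sm gf N26045 = N26045 := ded_29_2 (flp_g L201606) (flp_a L216913) L201550 L201606
theorem L216918 : sm gg N24070 = N27996 := rfl
theorem L216920 : sm ga N27996 = N24839 := ded_12_1 (flp_g L193149) (flp_a L187757) L216918
theorem L216922 : sm gc N27996 = N27529 := ded_21_1 (flp_g L213159) (flp_c L187825) L216918
theorem L216924 : sm gd N27996 = N24072 := ded_24_1 (flp_g L187769) L187755 L216918
theorem L216926 : sm gg N24075 = N27997 := rfl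
theorem L216928 : sm gd N27997 = N27352 := ded_24_1 L212919 L212917 L216926
theorem L216930 : sm ge N27997 = N24330 := ded_26_1 (flp_g L189563) (flp_e L187789) L216926
theorem L216932 : sm gf N27351 = N27997 := ded_29_0 (flp_g L216926) (flp_f L187787) L187793 (flp_a L211889)
theorem L216934 : sm gb N27997 = N27853 := ded_17_1 (flp_g L215809) L186189 (flp_g L170238) L187791 L216926
theorem L216936 : sm gf N24076 = N27998 := rfl
theorem L216938 : sm ga N27998 = N27997 := ded_11_1 (flp_f L216932) L211889 L216936
theorem L216940 : sm gd N27998 = N27496 := ded_23_1 (flp_f L212949) (flp_d L211885) L216936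
theorem L216942 : sm ge N27998 = N24331 := ded_25_1 (flp_f L189567) (flp_e L187795) L216936
theorem L216944 : sm gg N27998 = N27494 := ded_29_3 L212933 (flp_f L187787) L187793 L216936
theorem L216946 : sm gb N27998 = N24368 := ded_16_1 L189873 (flp_b L189993) L216797 L216799 L216936
theorem L216948 : sm ge N24077 = N27999 := rfl
theorem L216950 : sm ga N27999 = N24082 := ded_10_1 (flp_e L187857) (flp_a L187799) L216948
theorem L216952 : sm gb N27999 = N24842 := ded_15_1 (flp_e L212903) L212909 L216948
theorem L216954 : sm gc N27999 = N24078 := ded_19_1 (flp_e L187827) L187797 L216948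
theorem L216956 : sm gf N24077 = N28000 := rfl
theorem L216958 : sm ga N28000 = N24083 := ded_11_1 (flp_f L187861) (flp_a L187799) L216956
theorem L216960 : sm gc N28000 = N24079 := ded_20_1 (flp_f L187833) L187797 L216956
theorem L216962 : sm gd N28000 = N24659 := ded_23_1 L191995 (flp_d L187801) L216956
theorem L216964 : sm gg N24663 = N28000 := ded_29_1 (flp_f L216956) (flp_g L216805) L216803 (flp_f L192023)
theorem L216966 : sm gf N24078 = N28001 := rfl
theorem L216968 : sm ga N28001 = N24084 := ded_11_1 (flp_f L187865) (flp_a L187829) L216966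
theorem L216970 : sm gd N28001 = N24333 := ded_23_1 (flp_f L189585) (flp_d L187831) L216966
theorem L216972 : sm ge N28001 = N24079 := ded_25_1 (flp_f L187833) L187827 L216966
theorem L216974 : sm gg N27987 = N28001 := ded_29_1 (flp_f L216966) (flp_g L216815) L216811 L216827
theorem L216976 : sm gb N24079 = N28002 := rfl
theorem L216978 : sm gd N28002 = N24080 := ded_14_2 (flp_b L187841) (flp_d L187837) L216976
theorem L216980 : sm gf N28002 = N26154 := ded_16_2 L212921 (flp_f L212911) L187811 L187833 L216976
theorem L216982 : sm gg N28002 = N25496 := ded_17_2 (flp_b L203911) L216843 (flp_b L216835) L187839 L216976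
theorem L216984 : sm ga N26161 = N28002 := ded_9_3 L216978 L187851 (flp_d L202470)
theorem L216986 : sm ga N24081 = N28003 := rfl
theorem L216988 : sm gc N28003 = N24149 := ded_8_2 (flp_a L188300) (flp_c L187855) L216986
theorem L216990 : sm ge N24081 = N28004 := rfl
theorem L216992 : sm gb N28004 = N24082 := ded_15_1 (flp_e L187857) L187853 L216990
theorem L216994 : sm gc N28004 = N24150 := ded_19_1 (flp_e L188302) (flp_c L187855) L216990
theorem L216996 : sm gd N25458 = N28004 := ded_28_5 L216994 L188306 (flp_a L213258) L213260 (flp_d L198476) (flp_c L167692) (flp_d L167276) L197913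
theorem L216998 : sm gf N24081 = N28005 := rfl
theorem L217000 : sm gc N28005 = N24151 := ded_20_1 (flp_f L188308) (flp_c L187855) L216998
theorem L217002 : sm gg N24081 = N28006 := rfl
theorem L217004 : sm gc N28006 = N24152 := ded_21_1 (flp_g L188311) (flp_c L187855) L217002
theorem L217006 : sm gd N24082 = N28007 := rfl
theorem L217008 : sm gb N28007 = N25458 := ded_14_1 L216996 L216992 L217006
theorem L217010 : sm gc N25460 = N28007 := ded_13_0 L217008 (flp_c L197913) (flp_b L167274) L167278 L197927
theorem L217012 : sm gf N24082 = N28008 := rfl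
theorem L217014 : sm gc N28008 = N24084 := ded_20_1 (flp_f L187865) (flp_c L187859) L217012
theorem L217016 : sm ge N28008 = N24083 := ded_25_1 (flp_f L187861) L187857 L217012
theorem L217018 : sm gb N24083 = N28009 := rfl
theorem L217020 : sm gc N28009 = N28009 := ded_13_2 (flp_b L217018) L187863 L156512 (flp_c L187863) L217018
theorem L217021 : sm gg N24083 = N28010 := rfl
theorem L217023 : sm ga N28010 = N24663 := ded_12_1 L216964 L216958 L217021
theorem L217025 : sm gc N28010 = N24085 := ded_21_1 (flp_g L187872) (flp_c L187863) L217021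
theorem L217027 : sm gd N28010 = N24662 := ded_24_1 (flp_g L197963) L197961 L217021
theorem L217029 : sm gf N27983 = N28010 := ded_29_0 (flp_g L217021) (flp_f L187861) (flp_g L187705) (flp_a L216803)
theorem L217031 : sm gg N24084 = N28011 := rfl
theorem L217033 : sm ga N28011 = N27987 := ded_12_1 L216974 L216968 L217031
theorem L217035 : sm gd N28011 = N24340 := ded_24_1 (flp_g L189639) (flp_d L187867) L217031
theorem L217037 : sm ge N28011 = N24085 := ded_26_1 (flp_g L187872) (flp_e L187869) L217031
theorem L217039 : sm gf N27984 = N28011 := ded_29_0 (flp_g L217031) (flp_f L187865) (flp_g L187709) (flp_a L216811)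
theorem L217041 : sm gb N24085 = N28012 := rfl
theorem L217043 : sm gd N28012 = N24086 := ded_14_2 (flp_b L187880) (flp_d L187876) L217041
theorem L217045 : sm gg N28012 = N28012 := ded_17_2 (flp_b L217041) (flp_g L187872) L156512 L187872 L217041
theorem L217046 : sm ga N24086 = N28013 := rfl
theorem L217048 : sm ge N28013 = N24341 := ded_10_2 (flp_a L189647) (flp_e L187882) L217046
theorem L217050 : sm gg N28013 = N28013 := ded_12_2 (flp_a L217046) L187884 L217046
theorem L217051 : sm gb N27871 = N28013 := ded_15_3 L217048 (flp_b L205420) (flp_e L215971)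
theorem L217053 : sm gc N24086 = N28014 := rfl
theorem L217055 : sm ge N28014 = N24342 := ded_19_2 (flp_c L189650) (flp_e L187882) L217053
theorem L217057 : sm gg N28014 = N28014 := ded_21_2 (flp_c L217053) L187884 L217053
theorem L217058 : sm gb N28014 = N24087 := ded_13_1 (flp_c L187885) (flp_b L156523) (flp_c L156517) L187880 L217053
theorem L217060 : sm gf N24086 = N28015 := rfl
theorem L217062 : sm ge N28015 = N24343 := ded_25_1 (flp_f L189655) (flp_e L187882) L217060
theorem L217064 : sm gb N28015 = N27981 := ded_16_1 (flp_f L216779) (flp_b L187693) L156521 L187880 L217060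
theorem L217066 : sm gd N24087 = N28016 := rfl
theorem L217068 : sm ga N28016 = N25253 := ded_9_1 (flp_d L200749) (flp_a L200759) L217066
theorem L217070 : sm gg N28016 = N27673 := ded_24_2 L214148 (flp_g L187889) L217066
theorem L217072 : sm ge N28016 = N25250 := ded_22_2 L196550 (flp_e L165929) (flp_d L165933) (flp_e L187887) L217066
theorem L217074 : sm gf N25249 = N28016 := ded_11_0 L217068 (flp_f L196563) (flp_a L196542)
theorem L217076 : sm gc N27598 = N28016 := ded_21_3 L217070 (flp_c L214139) (flp_g L213627)
theorem L217078 : sm gf N24087 = N28017 := rfl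
theorem L217080 : sm ga N28017 = N25243 := ded_11_1 L200757 (flp_a L200759) L217078
theorem L217082 : sm gc N28017 = N24088 := ded_20_1 (flp_f L187891) L187885 L217078
theorem L217084 : sm gd N28017 = N25249 := ded_23_1 L217074 (flp_d L217066) L217078
theorem L217086 : sm ge N28017 = N24344 := ded_25_1 (flp_f L189659) (flp_e L187887) L217078
theorem L217088 : sm gg N28017 = N25969 := ded_29_3 (flp_a L215977) (flp_f L215975) (flp_g L187889) L217078
theorem L217090 : sm ga N24089 = N28018 := rfl
theorem L217092 : sm ge N28018 = N24345 := ded_10_2 (flp_a L189669) (flp_e L187903) L217090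
theorem L217094 : sm gf N28018 = N26229 := ded_11_2 L202993 (flp_f L187905) L217090
theorem L217096 : sm gg N24765 = N28018 := ded_29_3 (flp_a L217090) L187905 L214479 L214477
theorem L217098 : sm gb N28018 = N26225 := ded_7_2 L202963 (flp_b L171262) L166470 (flp_b L169599) (flp_a L180033) L180035 L161060 L187901 L217090
theorem L217100 : sm gg N24089 = N28019 := rfl
theorem L217102 : sm ga N28019 = N24765 := ded_12_1 L217096 (flp_a L217090) L217100
theorem L217104 : sm gc N28019 = N28018 := ded_21_1 (flp_g L217096) L192679 L217100
theorem L217106 : sm ge N28019 = N24346 := ded_26_1 (flp_g L189679) (flp_e L187903) L217100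
theorem L217108 : sm gb N28019 = N24789 := ded_17_1 L210349 (flp_b L210339) L179891 L187901 L217100
theorem L217110 : sm gd N24091 = N28020 := rfl
theorem L217112 : sm ga N28020 = N24100 := ded_9_1 (flp_d L187973) (flp_a L187919) L217110
theorem L217114 : sm ge N28020 = N27942 := ded_22_2 (flp_d L216489) (flp_e L187473) (flp_d L156589) L187917 L217110
theorem L217116 : sm gf N24091 = N28021 := rfl
theorem L217118 : sm ga N28021 = N24101 := ded_11_1 (flp_f L187977) (flp_a L187919) L217116
theorem L217120 : sm gc N28021 = N24093 := ded_20_1 (flp_f L187933) (flp_c L187921) L217116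
theorem L217122 : sm ge N28021 = N24092 := ded_25_1 (flp_f L187923) L187917 L217116
theorem L217124 : sm gg N27917 = N28021 := ded_29_1 (flp_f L217116) (flp_g L216291) L216287 L216315
theorem L217126 : sm gb N24092 = N28022 := rfl
theorem L217128 : sm gd N28022 = N27017 := ded_14_2 L209231 (flp_d L187929) L217126
theorem L217130 : sm ga N24094 = N28023 := rfl
theorem L217132 : sm gd N28023 = N24095 := ded_9_2 (flp_a L187947) (flp_d L187945) L217130
theorem L217134 : sm gc N24094 = N28024 := rfl
theorem L217136 : sm gg N24094 = N28025 := rfl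
theorem L217138 : sm gd N28025 = N24097 := ded_24_1 (flp_g L187957) (flp_d L187945) L217136
theorem L217140 : sm gb N28025 = N27922 := ded_17_1 (flp_g L216341) (flp_b L187261) L156605 L187943 L217136
theorem L217142 : sm gc N24095 = N28026 := rfl
theorem L217144 : sm ga N28026 = N24096 := ded_8_1 (flp_c L187951) L187947 L217142
theorem L217146 : sm ge N28026 = N24348 := ded_19_2 (flp_c L189699) (flp_e L187949) L217142
theorem L217148 : sm gf N28026 = N24878 := ded_20_2 (flp_c L214741) L214745 L217142
theorem L217150 : sm gb N28026 = N24882 := ded_13_1 L212537 (flp_b L212541) (flp_c L201800) (flp_b L201806) L217142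
theorem L217152 : sm gg N27736 = N28026 := ded_12_0 L217144 (flp_g L202609) (flp_a L214689)
theorem L217154 : sm gg N24095 = N28027 := rfl
theorem L217156 : sm ga N28027 = N24097 := ded_12_1 (flp_g L187957) L187947 L217154
theorem L217158 : sm gc N28027 = N27736 := ded_21_1 L217152 (flp_c L217142) L217154
theorem L217160 : sm ge N28027 = N24349 := ded_26_1 (flp_g L189711) (flp_e L187949) L217154
theorem L217162 : sm gf N28027 = N27740 := ded_29_2 (flp_g L214725) L214739 L214745 L217154
theorem L217164 : sm gb N28027 = N24900 := ded_17_1 L193511 L201720 (flp_g L201804) (flp_b L201806) L217154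
theorem L217166 : sm gd N24096 = N28028 := rfl
theorem L217168 : sm gb N28028 = N24098 := ded_14_1 (flp_d L187963) (flp_b L187955) L217166
theorem L217170 : sm ge N28028 = N27332 := ded_22_2 L216609 L212455 L184037 (flp_e L187953) L217166
theorem L217172 : sm gc N28028 = N27330 := ded_32_14 (flp_b L211749) L181289 L151972 (flp_d L144841) (flp_c L168744) L200041 L200043 L205229 (flp_d L205236) (flp_c L186209) (flp_b L154986) L107266 (flp_d L107551) L120501 L114965 (flp_c L154098) L185421 (flp_d L186885) L186889 (flp_d L185863) L185867 (flp_b L177419) L177413 L185629 L185623 (flp_c L186913) (flp_b L186907) L155696 L154428 (flp_d L115134) (flp_c L149646) L155396 L155398 L155463 (flp_d L186742) L186740 L155412 (flp_e L153538) L153536 (flp_c L183479) L183481 L151964 L183485 L183487 (flp_c L189365) L189367 L183727 L152092 L109211 L91958 (flp_d L91856) (flp_c L108975) L149568 (flp_d L113402) L113400 L94293 L47388 L84021 (flp_d L90704) (flp_c L106107) L153040 (flp_c L129092) (flp_b L102251) (flp_e L101963) (flp_d L128801) (flp_c L159849) L159851 L110767 (flp_b L150293) (flp_d L156214)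 (flp_c L187485) (flp_d L187929) L187927 L187943 L187945 L187951 L217166
theorem L217174 : sm gd N28024 = N27957 := ded_28_7 L216613 (flp_c L214547) (flp_d L211751) (flp_c L217172) (flp_d L217166) (flp_c L187951) (flp_d L187945) L217134
theorem L217176 : sm gg N27953 = N28024 := ded_24_0 L217174 (flp_g L216611) (flp_d L216565)
theorem L217178 : sm gc N28025 = N27953 := ded_21_3 L217176 (flp_c L217134) L217136
theorem L217180 : sm gf N27952 = N28025 := ded_20_0 L217178 (flp_f L216563) L216561
theorem L217182 : sm gf N24097 = N28029 := rfl
theorem L217184 : sm ga N28029 = N27740 := ded_11_1 (flp_f L217162) L217156 L217182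
theorem L217186 : sm gc N28029 = N27739 := ded_20_1 L214715 (flp_c L202611) L217182
theorem L217188 : sm gd N28029 = N27952 := ded_23_1 L217180 L217138 L217182
theorem L217190 : sm ge N28029 = N24350 := ded_25_1 (flp_f L189723) (flp_e L187959) L217182
theorem L217192 : sm gg N28029 = N27742 := ded_29_3 (flp_a L214739) L184069 L187957 L217182
theorem L217194 : sm gb N24879 = N28029 := ded_7_0 L217184 L214723 (flp_a L184690) L193409 (flp_a L193405) (flp_b L160846) L111242 L160842 L193395
theorem L217196 : sm ge N24098 = N28030 := rfl
theorem L217198 : sm ga N28030 = N27672 := ded_10_1 L214133 (flp_a L192601) L217196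
theorem L217200 : sm gb N28030 = N27332 := ded_15_1 (flp_e L217170) L217168 L217196
theorem L217202 : sm gc N28030 = N24703 := ded_19_1 (flp_e L213828) (flp_c L213832) L217196
theorem L217204 : sm gd N28030 = N24352 := ded_22_1 (flp_e L189741) (flp_d L158157) (flp_e L156621) L187963 L217196
theorem L217206 : sm gg N24714 = N28030 := ded_21_0 L217202 L192289 L192357
theorem L217208 : sm gg N24098 = N28031 := rfl
theorem L217210 : sm gc N28031 = N24712 := ded_21_1 (flp_g L213830) (flp_c L213832) L217208
theorem L217212 : sm gd N28031 = N24099 := ded_24_1 (flp_g L187965) L187963 L217208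
theorem L217214 : sm ge N28031 = N24714 := ded_26_1 L217206 (flp_e L217196) L217208
theorem L217216 : sm gf N28031 = N24764 := ded_29_2 (flp_g L192669) L192661 L192665 L217208
theorem L217218 : sm gc N24100 = N28032 := rfl
theorem L217220 : sm gb N28032 = N24859 := ded_13_1 L193277 L192729 (flp_c L192725) (flp_b L187975) L217218
theorem L217222 : sm gf N24100 = N28033 := rfl
theorem L217224 : sm gd N28033 = N24101 := ded_23_1 (flp_f L187977) L187973 L217222
theorem L217226 : sm gb N24101 = N28034 := rfl
theorem L217228 : sm ge N28034 = N24102 := ded_15_2 (flp_b L187983) (flp_e L187981) L217226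
theorem L217230 : sm gf N28034 = N24773 := ded_16_2 (flp_b L192735) (flp_f L160442) (flp_b L156631) L187977 L217226
theorem L217232 : sm gg N24101 = N28035 := rfl
theorem L217234 : sm ga N28035 = N27917 := ded_12_1 L217124 L217118 L217232
theorem L217236 : sm gc N28035 = N24104 := ded_21_1 (flp_g L187995) (flp_c L187979) L217232
theorem L217238 : sm ge N28035 = N24103 := ded_26_1 (flp_g L187987) (flp_e L187981) L217232
theorem L217240 : sm gf N27913 = N28035 := ded_29_0 (flp_g L217232) (flp_f L187977) (flp_g L187249) (flp_a L216287)
theorem L217242 : sm ga N24102 = N28036 := rfl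
theorem L217244 : sm gf N28036 = N24775 := ded_11_2 (flp_a L192749) (flp_f L187985) L217242
theorem L217246 : sm gg N24102 = N28037 := rfl
theorem L217248 : sm gb N24103 = N28038 := rfl
theorem L217250 : sm gb N24104 = N28039 := rfl
theorem L217252 : sm gd N28039 = N24357 := ded_14_2 (flp_b L189777) (flp_d L187999) L217250
theorem L217254 : sm ge N28039 = N24105 := ded_15_2 (flp_b L188005) (flp_e L188001) L217250
theorem L217256 : sm ga N24105 = N28040 := rfl
theorem L217258 : sm gd N28040 = N24106 := ded_9_2 (flp_a L188009) (flp_d L188007) L217256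
theorem L217260 : sm gc N24105 = N28041 := rfl
theorem L217262 : sm gf N24105 = N28042 := rfl
theorem L217264 : sm gd N28042 = N24108 := ded_23_1 (flp_f L188019) (flp_d L188007) L217262
theorem L217266 : sm gb N28042 = N27911 := ded_16_1 (flp_f L216273) L187205 L156651 L188005 L217262
theorem L217268 : sm gc N24106 = N28043 := rfl
theorem L217270 : sm ga N28043 = N24107 := ded_8_1 (flp_c L188013) L188009 L217268
theorem L217272 : sm ge N28043 = N24359 := ded_19_2 (flp_c L189783) (flp_e L188011) L217268
theorem L217274 : sm gb N28043 = N26857 := ded_13_1 L207792 L175893 (flp_c L189891) L189889 L217268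
theorem L217276 : sm gf N24106 = N28044 := rfl
theorem L217278 : sm ga N28044 = N24108 := ded_11_1 (flp_f L188019) L188009 L217276
theorem L217280 : sm ge N28044 = N24360 := ded_25_1 (flp_f L189795) (flp_e L188011) L217276
theorem L217282 : sm gg N26426 = N28044 := ded_29_1 (flp_f L217276) (flp_g L204213) (flp_a L204209) L204225
theorem L217284 : sm gd N24107 = N28045 := rfl
theorem L217286 : sm gb N28045 = N24118 := ded_14_1 (flp_d L188079) (flp_b L188017) L217284
theorem L217288 : sm ge N28045 = N27458 := ded_22_2 (flp_d L212661) L181937 L158207 (flp_e L188015) L217284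
theorem L217290 : sm gg N24108 = N28046 := rfl
theorem L217292 : sm ga N28046 = N26426 := ded_12_1 L217282 L217278 L217290
theorem L217294 : sm ge N28046 = N24361 := ded_26_1 (flp_g L189801) (flp_e L188021) L217290
theorem L217296 : sm gf N26424 = N28046 := ded_29_0 (flp_g L217290) (flp_f L188019) (flp_g L171356) L204209
theorem L217298 : sm gb N28046 = N26283 := ded_17_1 (flp_g L203273) L186133 (flp_g L187217) (flp_b L188023) L217290
theorem L217300 : sm gb N24109 = N28047 := rfl
theorem L217302 : sm ge N28047 = N24362 := ded_15_2 (flp_b L189811) (flp_e L188027) L217300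
theorem L217304 : sm gc N28047 = N24111 := ded_13_2 (flp_b L188039) (flp_c L156661) L156657 L188025 L217300
theorem L217306 : sm gg N27486 = N28047 := ded_26_0 L217302 (flp_g L189819) (flp_e L212867)
theorem L217308 : sm gd N27346 = N28047 := ded_22_5 L217302 L189813 L211895 (flp_d L211887) (flp_e L211853)
theorem L217310 : sm gd N24109 = N28048 := rfl
theorem L217312 : sm gb N28048 = N27346 := ded_14_1 L217308 (flp_b L217300) L217310
theorem L217314 : sm ge N28048 = N25821 := ded_22_2 (flp_d L211899) L202943 L175100 (flp_e L188027) L217310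
theorem L217316 : sm gc N28048 = N25818 := ded_28_4 L200043 L205229 (flp_d L205236) L191888 L191884 L186201 L188025 L217310
theorem L217318 : sm gf N24109 = N28049 := rfl
theorem L217320 : sm gc N28049 = N24110 := ded_20_1 (flp_f L188029) L188025 L217318
theorem L217322 : sm ge N28049 = N24363 := ded_25_1 (flp_f L189821) (flp_e L188027) L217318
theorem L217324 : sm gg N28049 = N27849 := ded_29_3 L215777 (flp_f L215767) L215769 L217318
theorem L217326 : sm ga N24111 = N28050 := rfl
theorem L217328 : sm ge N28050 = N24365 := ded_10_2 (flp_a L189835) (flp_e L188041) L217326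
theorem L217330 : sm gb N28050 = N26068 := ded_7_2 L201764 L169793 (flp_a L169811) (flp_b L171200) L171194 L118447 (flp_a L156663) L188039 L217326
theorem L217332 : sm gf N28050 = N28047 := ded_30_4 L217304 (flp_b L188039) L156663 L108214 (flp_c L91495) (flp_b L43416) L20775 (flp_f L20767) L20397 L81046 L9829 L10009 (flp_c L20777) L43416 L91491 (flp_f L108208) L156661 L188039 L217326
theorem L217334 : sm gd N24111 = N28051 := rfl
theorem L217336 : sm gb N28051 = N24112 := ded_14_1 (flp_d L188043) L188039 L217334
theorem L217338 : sm ge N28051 = N27496 := ded_22_2 (flp_d L216940) L216942 L189571 (flp_e L188041) L217334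
theorem L217340 : sm gc N27489 = N28051 := ded_28_0 (flp_d L217334) (flp_c L217304) (flp_d L217308) (flp_c L211851) L181353 L183615 (flp_d L211859) (flp_a L212885)
theorem L217342 : sm gg N27487 = N28051 := ded_26_0 L217338 (flp_g L212943) (flp_e L212873)
theorem L217344 : sm gf N24111 = N28052 := rfl
theorem L217346 : sm ga N28052 = N28047 := ded_11_1 (flp_f L217332) (flp_a L217326) L217344
theorem L217348 : sm gc N28052 = N28050 := ded_20_1 L217332 L217304 L217344
theorem L217350 : sm ge N28052 = N24329 := ded_25_1 L189561 (flp_e L188041) L217344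
theorem L217352 : sm gb N28052 = N24126 := ded_16_1 (flp_f L188133) (flp_b L156735) (flp_f L156667) L188039 L217344
theorem L217354 : sm gg N24328 = N28052 := ded_31_0 (flp_f L217344) (flp_b L188039) (flp_g L156774) (flp_f L156766) L108252 (flp_g L108246) (flp_f L108214) (flp_b L118447) L171228 (flp_f L171234) (flp_b L189479) L189591 (flp_f L189585) (flp_b L189553)
theorem L217356 : sm gg N24111 = N28053 := rfl
theorem L217358 : sm gc N28053 = N27486 := ded_21_1 L217306 L217304 L217356
theorem L217360 : sm gd N28053 = N27487 := ded_24_1 L217342 (flp_d L217334) L217356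
theorem L217362 : sm ge N28053 = N24366 := ded_26_1 (flp_g L189847) (flp_e L188041) L217356
theorem L217364 : sm gf N27486 = N28053 := ded_29_0 (flp_g L217356) L217344 (flp_g L217354) (flp_a L212865)
theorem L217366 : sm gc N24112 = N28054 := rfl
theorem L217368 : sm ga N28054 = N24113 := ded_8_1 (flp_c L188049) (flp_a L188045) L217366
theorem L217370 : sm gf N28054 = N24128 := ded_20_2 (flp_c L188143) (flp_f L188047) L217366
theorem L217372 : sm gd N28054 = N27943 := ded_28_7 L216497 L192173 L160010 L156226 L156218 L156661 L188043 L217366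
theorem L217374 : sm ge N24112 = N28055 := rfl
theorem L217376 : sm ga N28055 = N24114 := ded_10_1 (flp_e L188053) (flp_a L188045) L217374
theorem L217378 : sm gb N28055 = N27496 := ded_15_1 (flp_e L217338) L217336 L217374
theorem L217380 : sm gf N28055 = N24129 := ded_25_2 (flp_e L188173) (flp_f L188047) L217374
theorem L217382 : sm gd N28055 = N24368 := ded_22_1 (flp_e L189869) (flp_d L158233) (flp_e L156665) L188043 L217374
theorem L217384 : sm gb N24113 = N28056 := rfl
theorem L217386 : sm ga N28056 = N26416 := ded_30_3 L204159 (flp_c L192751) (flp_b L160448) (flp_a L160366) (flp_f L160364) (flp_c L110965) (flp_b L110945) L110943 L117557 L117559 L145112 L181877 L181881 L182623 L188157 L156741 (flp_f L156671) L188049 L217384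
theorem L217388 : sm gc N28036 = N28056 := ded_30_1 (flp_b L217384) (flp_a L217368) L217370 (flp_c L188143) (flp_b L188157) L182625 (flp_f L181885) (flp_c L181883) (flp_b L145112) (flp_a L145082) (flp_f L145080) L110947 L110945 L92881 L92905 (flp_c L111017) L160448 L192749 (flp_f L217244)
theorem L217390 : sm gb N26382 = N28036 := ded_13_5 L217388 (flp_b L217384) (flp_c L188049) (flp_b L171222) (flp_c L203941)
theorem L217392 : sm ge N24113 = N28057 := rfl
theorem L217394 : sm gc N28057 = N24114 := ded_19_1 (flp_e L188053) L188049 L217392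
theorem L217396 : sm gf N28057 = N24133 := ded_25_2 (flp_e L188203) (flp_f L188051) L217392
theorem L217398 : sm gg N24114 = N28058 := rfl
theorem L217400 : sm gd N28058 = N24372 := ded_24_1 (flp_g L189907) (flp_d L188057) L217398
theorem L217402 : sm ge N28058 = N24115 := ded_26_1 (flp_g L188059) L188053 L217398
theorem L217404 : sm gb N26301 = N28058 := ded_31_14 (flp_g L217398) L188055 L156757 L108296 (flp_f L118461) (flp_b L171214) L203955 (flp_f L203963) (flp_b L200423) (flp_g L191900) (flp_f L200165) (flp_b L203427) (flp_g L203421) L203415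
theorem L217406 : sm gb N24115 = N28059 := rfl
theorem L217408 : sm gd N28059 = N24116 := ded_14_2 (flp_b L188063) (flp_d L188061) L217406
theorem L217410 : sm ge N28059 = N26301 := ded_15_2 L217404 L217402 L217406
theorem L217412 : sm ga N26308 = N28059 := ded_9_3 L217408 (flp_a L188067) (flp_d L203449)
theorem L217414 : sm gf N26300 = N28059 := ded_23_0 L217408 (flp_f L188069) (flp_d L203413)
theorem L217416 : sm gd N24117 = N28060 := rfl
theorem L217418 : sm ga N28060 = N24118 := ded_9_1 (flp_d L188079) (flp_a L188073) L217416
theorem L217420 : sm gf N28060 = N25573 := ded_23_2 L198603 (flp_f L188077) L217416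
theorem L217422 : sm ge N28060 = N27470 := ded_22_2 (flp_d L212753) L182011 (flp_d L158265) (flp_e L188075) L217416
theorem L217424 : sm gc N24118 = N28061 := rfl
theorem L217426 : sm ge N28061 = N27471 := ded_19_2 (flp_c L212757) (flp_e L188081) L217424
theorem L217428 : sm gf N27635 = N28061 := ded_25_0 L217426 L212767 (flp_e L213857)
theorem L217430 : sm gf N24118 = N28062 := rfl
theorem L217432 : sm ga N28062 = N25573 := ded_11_1 (flp_f L217420) L217418 L217430
theorem L217434 : sm gc N28062 = N27635 := ded_20_1 L217428 (flp_c L217424) L217430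
theorem L217436 : sm gd N28062 = N24119 := ded_23_1 (flp_f L188083) L188079 L217430
theorem L217438 : sm ge N28062 = N27472 := ded_25_1 (flp_f L212759) (flp_e L188081) L217430
theorem L217440 : sm gg N28062 = N25568 := ded_29_3 L198565 L198595 (flp_g L198599) L217430
theorem L217442 : sm gg N24120 = N28063 := rfl
theorem L217444 : sm ga N28063 = N24883 := ded_12_1 (flp_g L193415) (flp_a L188099) L217442
theorem L217446 : sm gc N28063 = N24127 := ded_21_1 (flp_g L188137) (flp_c L188097) L217442
theorem L217448 : sm gd N28063 = N27589 := ded_24_1 (flp_g L213557) (flp_d L188149) L217442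
theorem L217450 : sm ge N28063 = N24374 := ded_26_1 (flp_g L189921) (flp_e L188095) L217442
theorem L217452 : sm gb N28063 = N24462 := ded_17_1 (flp_g L192389) L192391 (flp_g L188113) L188093 L217442
theorem L217454 : sm ge N24121 = N28064 := rfl
theorem L217456 : sm ga N28064 = N24885 := ded_10_1 L193429 (flp_a L188103) L217454
theorem L217458 : sm gb N28064 = N27588 := ded_15_1 (flp_e L213551) L188153 L217454
theorem L217460 : sm gc N28064 = N27603 := ded_19_1 (flp_e L213661) (flp_c L188171) L217454
theorem L217462 : sm gd N28064 = N24375 := ded_22_1 (flp_e L189929) (flp_d L158305) (flp_e L156717) L188101 L217454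
theorem L217464 : sm gf N24121 = N28065 := rfl
theorem L217466 : sm ga N28065 = N24891 := ded_11_1 (flp_f L193459) (flp_a L188103) L217464
theorem L217468 : sm gc N28065 = N27604 := ded_20_1 (flp_f L213667) (flp_c L188171) L217464
theorem L217470 : sm gd N28065 = N24122 := ded_23_1 (flp_f L188105) L188101 L217464
theorem L217472 : sm gg N24121 = N28066 := rfl
theorem L217474 : sm ga N28066 = N24892 := ded_12_1 (flp_g L193463) (flp_a L188103) L217472
theorem L217476 : sm gc N28066 = N27605 := ded_21_1 (flp_g L213671) (flp_c L188171) L217472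
theorem L217478 : sm gd N28066 = N24123 := ded_24_1 (flp_g L188113) L188101 L217472
theorem L217480 : sm gf N28066 = N27940 := ded_29_2 L216483 (flp_a L217466) (flp_f L217464) L217472
theorem L217482 : sm gg N24126 = N28067 := rfl
theorem L217484 : sm gd N28067 = N27572 := ded_24_1 L213451 (flp_d L212529) L217482
theorem L217486 : sm ge N28067 = N24309 := ded_26_1 L189407 (flp_e L188135) L217482
theorem L217488 : sm gf N27570 = N28067 := ded_29_0 (flp_g L217482) (flp_f L188133) L188137 (flp_a L213435)
theorem L217490 : sm gb N28067 = N24313 := ded_17_1 L189441 (flp_b L189553) L217354 L217352 L217482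
theorem L217492 : sm gf N24127 = N28068 := rfl
theorem L217494 : sm ga N28068 = N28067 := ded_11_1 (flp_f L217488) L213435 L217492
theorem L217496 : sm gd N28068 = N27441 := ded_23_1 (flp_f L213421) L213419 L217492
theorem L217498 : sm ge N28068 = N24383 := ded_25_1 (flp_f L189995) (flp_e L188139) L217492
theorem L217500 : sm gg N28068 = N27440 := ded_29_3 L212533 (flp_f L188133) L188137 L217492
theorem L217502 : sm gb N28068 = N27849 := ded_16_1 (flp_f L215775) L186157 (flp_f L169233) L188141 L217492
theorem L217504 : sm ge N24128 = N28069 := rfl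
theorem L217506 : sm ga N28069 = N24133 := ded_10_1 (flp_e L188203) (flp_a L188145) L217504
theorem L217508 : sm gb N28069 = N24894 := ded_15_1 (flp_e L213405) L213411 L217504
theorem L217510 : sm gc N28069 = N24129 := ded_19_1 (flp_e L188173) L188143 L217504
theorem L217512 : sm gg N24128 = N28070 := rfl
theorem L217514 : sm ga N28070 = N24134 := ded_12_1 (flp_g L188207) (flp_a L188145) L217512
theorem L217516 : sm gc N28070 = N24130 := ded_21_1 (flp_g L188179) L188143 L217512
theorem L217518 : sm gd N28070 = N24681 := ded_24_1 L192143 (flp_d L188147) L217512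
theorem L217520 : sm gf N28070 = N24685 := ded_29_2 L192169 (flp_a L217368) L217370 L217512
theorem L217522 : sm gg N24129 = N28071 := rfl
theorem L217524 : sm ga N28071 = N24135 := ded_12_1 (flp_g L188211) (flp_a L188175) L217522
theorem L217526 : sm gd N28071 = N24385 := ded_24_1 (flp_g L190011) (flp_d L188177) L217522
theorem L217528 : sm ge N28071 = N24130 := ded_26_1 (flp_g L188179) L188173 L217522
theorem L217530 : sm gf N28071 = N28058 := ded_29_2 (flp_g L217398) (flp_a L217376) L217380 L217522
theorem L217532 : sm gb N24130 = N28072 := rfl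
theorem L217534 : sm gd N28072 = N24131 := ded_14_2 (flp_b L188187) (flp_d L188183) L217532
theorem L217536 : sm gf N28072 = N25554 := ded_16_2 (flp_b L203411) L217414 (flp_b L217406) (flp_f L188185) L217532
theorem L217538 : sm gg N28072 = N25919 := ded_17_2 L213423 (flp_g L213413) L188157 L188179 L217532
theorem L217540 : sm ga N25927 = N28072 := ded_9_3 L217534 (flp_a L188197) (flp_d L200839)
theorem L217542 : sm ga N24132 = N28073 := rfl
theorem L217544 : sm gc N28073 = N24162 := ded_8_2 (flp_a L188372) (flp_c L188201) L217542
theorem L217546 : sm ge N24132 = N28074 := rfl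
theorem L217548 : sm gb N28074 = N24133 := ded_15_1 (flp_e L188203) L188199 L217546
theorem L217550 : sm gc N28074 = N24163 := ded_19_1 (flp_e L188374) (flp_c L188201) L217546
theorem L217552 : sm gd N25424 = N28074 := ded_28_5 L217550 L188378 (flp_a L213768) L213770 (flp_d L198111) (flp_c L167446) (flp_d L167138) L197733
theorem L217554 : sm gf N24132 = N28075 := rfl
theorem L217556 : sm gc N28075 = N24164 := ded_20_1 (flp_f L188380) (flp_c L188201) L217554
theorem L217558 : sm gg N24132 = N28076 := rfl
theorem L217560 : sm gc N28076 = N24165 := ded_21_1 (flp_g L188382) (flp_c L188201) L217558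
theorem L217562 : sm gd N24133 = N28077 := rfl
theorem L217564 : sm gb N28077 = N25424 := ded_14_1 L217552 L217548 L217562
theorem L217566 : sm gc N25426 = N28077 := ded_13_0 L217564 (flp_c L197733) (flp_b L167136) L167140 L197747
theorem L217568 : sm gg N24133 = N28078 := rfl
theorem L217570 : sm gc N28078 = N24135 := ded_21_1 (flp_g L188211) (flp_c L188205) L217568
theorem L217572 : sm ge N28078 = N24134 := ded_26_1 (flp_g L188207) L188203 L217568
theorem L217574 : sm gb N24134 = N28079 := rfl
theorem L217576 : sm gc N28079 = N28079 := ded_13_2 (flp_b L217574) L188209 L156765 (flp_c L188209) L217574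
theorem L217577 : sm gf N24134 = N28080 := rfl
theorem L217579 : sm ga N28080 = N24685 := ded_11_1 (flp_f L217520) L217514 L217577
theorem L217581 : sm gc N28080 = N24136 := ded_20_1 (flp_f L188218) (flp_c L188209) L217577
theorem L217583 : sm gd N28080 = N24684 := ded_23_1 L197783 L197781 L217577
theorem L217585 : sm gg N28080 = N28054 := ded_29_3 L217368 L188051 L188207 L217577
theorem L217587 : sm gf N24135 = N28081 := rfl
theorem L217589 : sm ga N28081 = N28058 := ded_11_1 (flp_f L217530) L217524 L217587
theorem L217591 : sm gd N28081 = N24392 := ded_23_1 (flp_f L190065) (flp_d L188213) L217587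
theorem L217593 : sm ge N28081 = N24136 := ded_25_1 (flp_f L188218) (flp_e L188215) L217587
theorem L217595 : sm gg N28081 = N28055 := ded_29_3 L217376 L188055 L188211 L217587
theorem L217597 : sm gb N24136 = N28082 := rfl
theorem L217599 : sm gd N28082 = N24137 := ded_14_2 (flp_b L188226) (flp_d L188222) L217597
theorem L217601 : sm gf N28082 = N28082 := ded_16_2 (flp_b L217597) (flp_f L188218) L156765 L188218 L217597
theorem L217602 : sm ga N24137 = N28083 := rfl
theorem L217604 : sm ge N28083 = N24393 := ded_10_2 (flp_a L190073) (flp_e L188228) L217602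
theorem L217606 : sm gf N28083 = N28083 := ded_11_2 (flp_a L217602) L188230 L217602
theorem L217607 : sm gb N27866 = N28083 := ded_15_3 L217604 (flp_b L190081) (flp_e L215926)
theorem L217609 : sm gc N24137 = N28084 := rfl
theorem L217611 : sm ge N28084 = N24394 := ded_19_2 (flp_c L190076) (flp_e L188228) L217609
theorem L217613 : sm gf N28084 = N28084 := ded_20_2 (flp_c L217609) L188230 L217609
theorem L217614 : sm gb N28084 = N24138 := ded_13_1 (flp_c L188231) (flp_b L156776) (flp_c L156770) L188226 L217609
theorem L217616 : sm gg N24137 = N28085 := rfl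
theorem L217618 : sm ge N28085 = N24395 := ded_26_1 (flp_g L190083) (flp_e L188228) L217616
theorem L217620 : sm gb N28085 = N28053 := ded_17_1 (flp_g L217356) (flp_b L188039) (flp_g L156774) L188226 L217616
theorem L217622 : sm gd N24138 = N28086 := rfl
theorem L217624 : sm ga N28086 = N25205 := ded_9_1 (flp_d L202390) (flp_a L202400) L217622
theorem L217626 : sm gf N28086 = N27633 := ded_23_2 L213843 (flp_f L188235) L217622
theorem L217628 : sm ge N28086 = N25202 := ded_22_2 L196129 (flp_e L166114) (flp_d L166118) (flp_e L188233) L217622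
theorem L217630 : sm gg N25201 = N28086 := ded_12_0 L217624 (flp_g L196144) (flp_a L196121)
theorem L217632 : sm gc N27522 = N28086 := ded_20_3 L217626 (flp_c L213834) (flp_f L213121)
theorem L217634 : sm gg N24138 = N28087 := rfl
theorem L217636 : sm ga N28087 = N25195 := ded_12_1 L202398 (flp_a L202400) L217634
theorem L217638 : sm gc N28087 = N24139 := ded_21_1 (flp_g L188237) L188231 L217634
theorem L217640 : sm gd N28087 = N25201 := ded_24_1 L217630 (flp_d L217622) L217634
theorem L217642 : sm ge N28087 = N24396 := ded_26_1 (flp_g L190087) (flp_e L188233) L217634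
theorem L217644 : sm gf N26204 = N28087 := ded_29_0 (flp_g L217634) L188235 L215930 L215932
theorem L217646 : sm gf N24140 = N28088 := rfl
theorem L217648 : sm ge N28088 = N24398 := ded_25_1 (flp_f L190101) (flp_e L188249) L217646
theorem L217650 : sm gb N28088 = N26155 := ded_31_2 (flp_g L202438) (flp_f L205773) L205769 L173300 (flp_f L170458) (flp_b L117987) L118001 (flp_f L166836) (flp_b L197387) (flp_g L200353) (flp_f L200345) L200335 L200339 L217646
theorem L217652 : sm gg N25840 = N28088 := ded_31_0 (flp_f L217646) (flp_b L188247) L188263 L188271 L158500 L109633 (flp_f L123940) (flp_b L175857) L175861 (flp_f L168951) L117085 (flp_g L116977) L168820 L200185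
theorem L217654 : sm gc N24141 = N28089 := rfl
theorem L217656 : sm ga N28089 = N24144 := ded_8_1 (flp_c L188273) (flp_a L188253) L217654
theorem L217658 : sm gd N26258 = N28089 := ded_28_1 (flp_c L217654) (flp_d L188251) L156784 (flp_d L118521) (flp_c L170626) L203131 L203133 L203153
theorem L217660 : sm ge N24141 = N28090 := rfl
theorem L217662 : sm ga N28090 = N24145 := ded_10_1 (flp_e L188275) (flp_a L188253) L217660
theorem L217664 : sm gd N28090 = N24161 := ded_22_1 L188368 (flp_d L158417) (flp_e L156786) L188251 L217660
theorem L217666 : sm gg N24159 = N28090 := ded_29_3 L217662 L188360 (flp_g L188353) L188349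
theorem L217668 : sm gf N24141 = N28091 := rfl
theorem L217670 : sm ga N28091 = N24146 := ded_11_1 (flp_f L188281) (flp_a L188253) L217668
theorem L217672 : sm gd N28091 = N24142 := ded_23_1 (flp_f L188255) L188251 L217668
theorem L217674 : sm gg N24141 = N28092 := rfl
theorem L217676 : sm ga N28092 = N24147 := ded_12_1 (flp_g L188286) (flp_a L188253) L217674
theorem L217678 : sm gd N28092 = N24143 := ded_24_1 (flp_g L188263) L188251 L217674
theorem L217680 : sm ge N28092 = N24159 := ded_26_1 L217666 (flp_e L217660) L217674
theorem L217682 : sm gf N28092 = N24158 := ded_29_2 (flp_g L188347) (flp_a L217670) (flp_f L217668) L217674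
theorem L217684 : sm gb N24142 = N28093 := rfl
theorem L217686 : sm ge N28093 = N24399 := ded_15_2 (flp_b L190107) (flp_e L188261) L217684
theorem L217688 : sm gc N28093 = N26165 := ded_13_2 (flp_b L214747) L214741 (flp_b L193391) (flp_c L188259) L217684
theorem L217690 : sm gf N28093 = N26155 := ded_16_2 (flp_b L217650) (flp_f L217646) (flp_b L188247) L188255 L217684
theorem L217692 : sm ga N28093 = N26157 := ded_30_3 (flp_f L202444) L170244 (flp_b L117881) L96492 L84867 (flp_c L25120) (flp_b L12087) L5986 (flp_f L5978) L5286 L5296 L10523 L21855 (flp_c L45467) L93007 L111249 (flp_f L160834) (flp_c L188259) L217684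
theorem L217694 : sm gd N24144 = N28094 := rfl
theorem L217696 : sm ga N28094 = N26258 := ded_9_1 L217658 L217656 L217694
theorem L217698 : sm gc N26254 = N28094 := ded_28_0 (flp_d L217694) (flp_c L188273) (flp_d L156788) L108265 (flp_d L96780) (flp_c L118071) L170628 (flp_a L203133)
theorem L217700 : sm ge N24144 = N28095 := rfl
theorem L217702 : sm gc N28095 = N24145 := ded_19_1 (flp_e L188275) L188273 L217700
theorem L217704 : sm gf N24144 = N28096 := rfl
theorem L217706 : sm gc N28096 = N24146 := ded_20_1 (flp_f L188281) L188273 L217704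
theorem L217708 : sm gg N24144 = N28097 := rfl
theorem L217710 : sm gc N28097 = N24147 := ded_21_1 (flp_g L188286) L188273 L217708
theorem L217712 : sm gg N24145 = N28098 := rfl
theorem L217714 : sm ga N28098 = N24159 := ded_12_1 L217666 L217662 L217712
theorem L217716 : sm gd N28098 = N24155 := ded_24_1 L188329 (flp_d L188279) L217712
theorem L217718 : sm ge N28098 = N24147 := ded_26_1 (flp_g L188286) L188275 L217712
theorem L217720 : sm gf N24154 = N28098 := ded_29_0 (flp_g L217712) L188360 (flp_g L188353) (flp_a L188319)
theorem L217722 : sm gf N24147 = N28099 := rfl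
theorem L217724 : sm ga N28099 = N24158 := ded_11_1 (flp_f L217682) L217676 L217722
theorem L217726 : sm gd N28099 = N24148 := ded_23_1 (flp_f L188290) (flp_d L188288) L217722
theorem L217728 : sm ge N28099 = N24154 := ded_25_1 L217720 L217718 L217722
theorem L217730 : sm gg N28099 = N28091 := ded_29_3 L217670 (flp_f L188281) L188286 L217722
theorem L217732 : sm gb N24148 = N28100 := rfl
theorem L217734 : sm ge N28100 = N24400 := ded_15_2 (flp_b L190115) (flp_e L188296) L217732
theorem L217736 : sm ge N24149 = N28101 := rfl
theorem L217738 : sm ga N28101 = N24150 := ded_10_1 (flp_e L188302) L188300 L217736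
theorem L217740 : sm gd N28101 = N27547 := ded_22_1 (flp_e L213256) (flp_d L182956) (flp_e L188391) L188389 L217736
theorem L217742 : sm gf N24149 = N28102 := rfl
theorem L217744 : sm ga N28102 = N24151 := ded_11_1 (flp_f L188308) L188300 L217742
theorem L217746 : sm gg N24149 = N28103 := rfl
theorem L217748 : sm ga N28103 = N24152 := ded_12_1 (flp_g L188311) L188300 L217746
theorem L217750 : sm gf N24150 = N28104 := rfl
theorem L217752 : sm gd N28104 = N27550 := ded_23_1 (flp_f L213272) (flp_d L188306) L217750
theorem L217754 : sm ge N28104 = N24151 := ded_25_1 (flp_f L188308) L188302 L217750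
theorem L217756 : sm gb N28104 = N28104 := ded_16_1 (flp_f L217750) L188304 L156901 (flp_b L188304) L217750
theorem L217757 : sm gg N24150 = N28105 := rfl
theorem L217759 : sm gd N28105 = N27551 := ded_24_1 (flp_g L213281) (flp_d L188306) L217757
theorem L217761 : sm ge N28105 = N24152 := ded_26_1 (flp_g L188311) L188302 L217757
theorem L217763 : sm gg N24151 = N28106 := rfl
theorem L217765 : sm gf N28103 = N28106 := ded_29_0 (flp_g L217763) (flp_f L188308) L188311 (flp_a L217748)
theorem L217767 : sm gf N24152 = N28107 := rfl
theorem L217769 : sm ga N28107 = N28106 := ded_11_1 (flp_f L217765) L217748 L217767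
theorem L217771 : sm gg N28107 = N28102 := ded_29_3 L217744 (flp_f L188308) L188311 L217767
theorem L217773 : sm gg N24153 = N28108 := rfl
theorem L217775 : sm ge N28108 = N24408 := ded_26_1 (flp_g L190176) (flp_e L188315) L217773
theorem L217777 : sm gb N25920 = N28108 := ded_31_14 (flp_g L217773) (flp_f L202022) (flp_b L202018) L202028 (flp_f L202036) L197487 L166919 (flp_f L117381) L117373 L169461 (flp_f L174817) (flp_b L207000) L207006 (flp_f L200797)
theorem L217779 : sm gf N28108 = N26081 := ded_31_1 (flp_b L201866) (flp_g L169823) L117607 (flp_b L117715) L169956 (flp_f L175430) L175426 L123504 L109574 (flp_b L158443) (flp_g L188329) (flp_f L188321) L188313 L217773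
theorem L217781 : sm gc N24154 = N28109 := rfl
theorem L217783 : sm ga N28109 = N24157 := ded_8_1 (flp_c L188339) (flp_a L188319) L217781
theorem L217785 : sm gd N26027 = N28109 := ded_28_1 (flp_c L217781) (flp_d L188317) L156906 (flp_d L118332) (flp_c L169611) L201494 L201496 L201516
theorem L217787 : sm gg N24154 = N28110 := rfl
theorem L217789 : sm ga N28110 = N24160 := ded_12_1 (flp_g L188353) (flp_a L188319) L217787
theorem L217791 : sm gd N28110 = N24156 := ded_24_1 (flp_g L188331) L188317 L217787
theorem L217793 : sm ge N28110 = N28091 := ded_26_1 (flp_g L217730) L217728 L217787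
theorem L217795 : sm gf N28090 = N28110 := ded_29_0 (flp_g L217787) L217720 (flp_g L217712) (flp_a L217662)
theorem L217797 : sm gb N24156 = N28111 := rfl
theorem L217799 : sm ge N28111 = N24409 := ded_15_2 (flp_b L190182) (flp_e L188337) L217797
theorem L217801 : sm gc N28111 = N25930 := ded_13_2 (flp_b L214575) L214569 (flp_b L193081) (flp_c L188335) L217797
theorem L217803 : sm gg N28111 = N25920 := ded_17_2 L217777 (flp_g L217773) (flp_b L188313) L188331 L217797
theorem L217805 : sm ga N25923 = N28111 := ded_10_3 L217799 (flp_a L190190) (flp_e L200815)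
theorem L217807 : sm gd N24157 = N28112 := rfl
theorem L217809 : sm ga N28112 = N26027 := ded_9_1 L217785 L217783 L217807
theorem L217811 : sm gc N26023 = N28112 := ded_28_0 (flp_d L217807) (flp_c L188339) (flp_d L156910) L108284 (flp_d L96681) (flp_c L117457) L169613 (flp_a L201496)
theorem L217813 : sm ge N24157 = N28113 := rfl
theorem L217815 : sm gc N28113 = N24158 := ded_19_1 (flp_e L188341) L188339 L217813
theorem L217817 : sm gg N28096 = N28113 := ded_21_0 L217815 (flp_g L188347) (flp_c L217706)
theorem L217819 : sm gf N24157 = N28114 := rfl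
theorem L217821 : sm gc N28114 = N24159 := ded_20_1 (flp_f L188349) L188339 L217819
theorem L217823 : sm gb N28114 = N26173 := ded_30_2 (flp_a L202551) L202561 L202563 (flp_b L193347) (flp_a L193269) (flp_f L193267) (flp_c L160758) (flp_b L160744) L160742 L169729 L169731 L179223 L209929 L209933 L210143 (flp_b L210149) L188319 L188349 (flp_c L217821)
theorem L217825 : sm gg N24157 = N28115 := rfl
theorem L217827 : sm gc N28115 = N24160 := ded_21_1 (flp_g L188353) L188339 L217825
theorem L217829 : sm ge N28115 = N28096 := ded_26_1 L217817 (flp_e L217813) L217825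
theorem L217831 : sm gf N28095 = N28115 := ded_20_0 L217827 (flp_f L188360) (flp_c L217702)
theorem L217833 : sm gb N24161 = N28116 := rfl
theorem L217835 : sm ge N28116 = N24397 := ded_15_2 L190099 (flp_e L188368) L217833
theorem L217837 : sm ge N24162 = N28117 := rfl
theorem L217839 : sm ga N28117 = N24163 := ded_10_1 (flp_e L188374) L188372 L217837
theorem L217841 : sm gd N28117 = N27623 := ded_22_1 (flp_e L213766) (flp_d L183107) (flp_e L188473) L188471 L217837
theorem L217843 : sm gf N24162 = N28118 := rfl
theorem L217845 : sm ga N28118 = N24164 := ded_11_1 (flp_f L188380) L188372 L217843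
theorem L217847 : sm gg N24162 = N28119 := rfl
theorem L217849 : sm ga N28119 = N24165 := ded_12_1 (flp_g L188382) L188372 L217847
theorem L217851 : sm gf N24163 = N28120 := rfl
theorem L217853 : sm gd N28120 = N27626 := ded_23_1 (flp_f L213782) (flp_d L188378) L217851
theorem L217855 : sm ge N28120 = N24164 := ded_25_1 (flp_f L188380) L188374 L217851
theorem L217857 : sm gg N24163 = N28121 := rfl
theorem L217859 : sm gd N28121 = N27627 := ded_24_1 (flp_g L213788) (flp_d L188378) L217857
theorem L217861 : sm ge N28121 = N24165 := ded_26_1 (flp_g L188382) L188374 L217857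
theorem L217863 : sm gb N28121 = N28121 := ded_17_1 (flp_g L217857) L188376 L156940 (flp_b L188376) L217857
theorem L217864 : sm gg N24164 = N28122 := rfl
theorem L217866 : sm gf N28119 = N28122 := ded_29_0 (flp_g L217864) (flp_f L188380) L188382 (flp_a L217849)
theorem L217868 : sm gf N24165 = N28123 := rfl
theorem L217870 : sm ga N28123 = N28122 := ded_11_1 (flp_f L217866) L217849 L217868
theorem L217872 : sm gg N28123 = N28118 := ded_29_3 L217845 (flp_f L188380) L188382 L217868
theorem L217874 : sm gb N24166 = N28124 := rfl
theorem L217876 : sm gd N28124 = N27501 := ded_14_2 L214072 (flp_d L188389) L217874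
theorem L217878 : sm ge N28124 = N27644 := ded_15_2 (flp_b L213927) (flp_e L188391) L217874
theorem L217880 : sm gc N28124 = N27615 := ded_13_2 (flp_b L214317) L214319 (flp_b L204441) (flp_c L188387) L217874
theorem L217882 : sm ga N28124 = N27503 := ded_7_1 L212987 L198246 L214034 (flp_a L156951) (flp_b L108315) (flp_a L108301) L156943 L188385 L217874
theorem L217884 : sm gf N24166 = N28125 := rfl
theorem L217886 : sm ga N28125 = N24167 := ded_11_1 (flp_f L188393) L188385 L217884
theorem L217888 : sm gc N28125 = N26462 := ded_20_1 (flp_f L204449) (flp_c L188387) L217884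
theorem L217890 : sm gd N28125 = N28102 := ded_23_1 (flp_f L217742) (flp_d L188389) L217884
theorem L217892 : sm ge N28125 = N27645 := ded_25_1 (flp_f L213931) (flp_e L188391) L217884
theorem L217894 : sm gg N24166 = N28126 := rfl
theorem L217896 : sm ga N28126 = N24168 := ded_12_1 (flp_g L188402) L188385 L217894
theorem L217898 : sm gc N28126 = N26463 := ded_21_1 (flp_g L204453) (flp_c L188387) L217894
theorem L217900 : sm gd N28126 = N28103 := ded_24_1 (flp_g L217746) (flp_d L188389) L217894
theorem L217902 : sm ge N28126 = N27646 := ded_26_1 (flp_g L213937) (flp_e L188391) L217894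
theorem L217904 : sm gg N24167 = N28127 := rfl
theorem L217906 : sm gc N28127 = N26468 := ded_21_1 (flp_g L204481) (flp_c L188395) L217904
theorem L217908 : sm gd N28127 = N28106 := ded_24_1 (flp_g L217763) (flp_d L188397) L217904
theorem L217910 : sm ge N28127 = N27647 := ded_26_1 (flp_g L213943) (flp_e L188399) L217904
theorem L217912 : sm gf N28126 = N28127 := ded_29_0 (flp_g L217904) (flp_f L188393) L188402 (flp_a L217896)
theorem L217914 : sm gf N24168 = N28128 := rfl
theorem L217916 : sm ga N28128 = N28127 := ded_11_1 (flp_f L217912) L217896 L217914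
theorem L217918 : sm gc N28128 = N26469 := ded_20_1 (flp_f L204485) (flp_c L188404) L217914
theorem L217920 : sm gd N28128 = N28107 := ded_23_1 (flp_f L217767) (flp_d L188406) L217914
theorem L217922 : sm ge N28128 = N27648 := ded_25_1 (flp_f L213949) (flp_e L188408) L217914
theorem L217924 : sm gg N28128 = N28125 := ded_29_3 L217886 (flp_f L188393) L188402 L217914
theorem L217926 : sm gc N24170 = N28129 := rfl
theorem L217928 : sm ga N28129 = N24173 := ded_8_1 (flp_c L188432) (flp_a L188416) L217926
theorem L217930 : sm gb N28129 = N26014 := ded_13_1 L201438 (flp_b L179313) L198328 (flp_b L214058) L217926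
theorem L217932 : sm ge N26015 = N28129 := ded_15_0 L217930 L201440 L201444
theorem L217934 : sm ge N24170 = N28130 := rfl
theorem L217936 : sm ga N28130 = N24174 := ded_10_1 (flp_e L188436) (flp_a L188416) L217934
theorem L217938 : sm gb N28130 = N26016 := ded_15_1 L201450 (flp_b L214058) L217934
theorem L217940 : sm gc N28130 = N26015 := ded_19_1 L217932 (flp_c L217926) L217934
theorem L217942 : sm gd N28130 = N27655 := ded_22_1 (flp_e L213974) (flp_d L182969) (flp_e L156954) L188414 L217934
theorem L217944 : sm gf N24170 = N28131 := rfl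
theorem L217946 : sm ga N28131 = N24175 := ded_11_1 (flp_f L188442) (flp_a L188416) L217944
theorem L217948 : sm gd N28131 = N24171 := ded_23_1 (flp_f L188418) L188414 L217944
theorem L217950 : sm gg N24170 = N28132 := rfl
theorem L217952 : sm ga N28132 = N24176 := ded_12_1 (flp_g L188447) (flp_a L188416) L217950
theorem L217956 : sm gb N24171 = N28133 := rfl
theorem L217958 : sm ge N28133 = N27658 := ded_15_2 (flp_b L213990) (flp_e L188423) L217956
theorem L217964 : sm gd N24173 = N28135 := rfl
theorem L217966 : sm gb N28135 = N28094 := ded_14_1 (flp_d L217694) (flp_b L188434) L217964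
theorem L217968 : sm ge N24173 = N28136 := rfl
theorem L217970 : sm ga N28136 = N26015 := ded_10_1 L217932 L217928 L217968
theorem L217972 : sm gb N28136 = N28095 := ded_15_1 (flp_e L217700) (flp_b L188434) L217968
theorem L217974 : sm gc N28136 = N24174 := ded_19_1 (flp_e L188436) L188432 L217968
theorem L217976 : sm gf N24173 = N28137 := rfl
theorem L217978 : sm gc N28137 = N24175 := ded_20_1 (flp_f L188442) L188432 L217976
theorem L217980 : sm gg N24173 = N28138 := rfl
theorem L217982 : sm gc N28138 = N24176 := ded_21_1 (flp_g L188447) L188432 L217980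
theorem L217984 : sm gf N24174 = N28139 := rfl
theorem L217986 : sm gd N28139 = N27664 := ded_23_1 (flp_f L214088) (flp_d L188440) L217984
theorem L217988 : sm ge N28139 = N24175 := ded_25_1 (flp_f L188442) L188436 L217984
theorem L217990 : sm gb N28139 = N28139 := ded_16_1 (flp_f L217984) L188438 L156977 (flp_b L188438) L217984
theorem L217991 : sm gg N24174 = N28140 := rfl
theorem L217993 : sm gd N28140 = N27665 := ded_24_1 (flp_g L214093) (flp_d L188440) L217991
theorem L217995 : sm ge N28140 = N24176 := ded_26_1 (flp_g L188447) L188436 L217991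
theorem L217997 : sm gg N24175 = N28141 := rfl
theorem L218001 : sm gf N28132 = N28141 := ded_29_0 (flp_g L217997) (flp_f L188442) L188447 (flp_a L217952)
theorem L218003 : sm gf N24176 = N28142 := rfl
theorem L218007 : sm gd N28142 = N24178 := ded_23_1 (flp_f L188458) (flp_d L188449) L218003
theorem L218009 : sm gg N28142 = N28131 := ded_29_3 L217946 (flp_f L188442) L188447 L218003
theorem L218020 : sm gb N24179 = N28145 := rfl
theorem L218022 : sm gd N28145 = N27577 := ded_14_2 L214393 (flp_d L188471) L218020
theorem L218024 : sm ge N28145 = N27684 := ded_15_2 (flp_b L214240) (flp_e L188473) L218020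
theorem L218026 : sm gc N28145 = N27539 := ded_13_2 (flp_b L213996) L213998 (flp_b L204354) (flp_c L188469) L218020
theorem L218028 : sm ga N28145 = N27579 := ded_7_1 L213489 L198617 L214355 (flp_a L156988) (flp_b L108346) (flp_a L108332) L156980 L188467 L218020
theorem L218030 : sm gf N24179 = N28146 := rfl
theorem L218032 : sm ga N28146 = N24180 := ded_11_1 (flp_f L188475) L188467 L218030
theorem L218034 : sm gc N28146 = N26447 := ded_20_1 (flp_f L204362) (flp_c L188469) L218030
theorem L218036 : sm gd N28146 = N28118 := ded_23_1 (flp_f L217843) (flp_d L188471) L218030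
theorem L218038 : sm ge N28146 = N27685 := ded_25_1 (flp_f L214244) (flp_e L188473) L218030
theorem L218040 : sm gg N24179 = N28147 := rfl
theorem L218042 : sm ga N28147 = N24181 := ded_12_1 (flp_g L188483) L188467 L218040
theorem L218044 : sm gc N28147 = N26448 := ded_21_1 (flp_g L204366) (flp_c L188469) L218040
theorem L218046 : sm gd N28147 = N28119 := ded_24_1 (flp_g L217847) (flp_d L188471) L218040
theorem L218048 : sm ge N28147 = N27686 := ded_26_1 (flp_g L214252) (flp_e L188473) L218040
theorem L218050 : sm gg N24180 = N28148 := rfl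
theorem L218052 : sm gc N28148 = N26453 := ded_21_1 (flp_g L204394) (flp_c L188477) L218050
theorem L218054 : sm gd N28148 = N28122 := ded_24_1 (flp_g L217864) (flp_d L188479) L218050
theorem L218056 : sm ge N28148 = N27687 := ded_26_1 (flp_g L214260) (flp_e L188481) L218050
theorem L218058 : sm gf N28147 = N28148 := ded_29_0 (flp_g L218050) (flp_f L188475) L188483 (flp_a L218042)
theorem L218060 : sm gf N24181 = N28149 := rfl
theorem L218062 : sm ga N28149 = N28148 := ded_11_1 (flp_f L218058) L218042 L218060
theorem L218064 : sm gc N28149 = N26454 := ded_20_1 (flp_f L204398) (flp_c L188485) L218060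
theorem L218066 : sm gd N28149 = N28123 := ded_23_1 (flp_f L217868) (flp_d L188487) L218060
theorem L218068 : sm ge N28149 = N27688 := ded_25_1 (flp_f L214268) (flp_e L188489) L218060
theorem L218070 : sm gg N28149 = N28146 := ded_29_3 L218032 (flp_f L188475) L188483 L218060
theorem L218072 : sm gc N24183 = N28150 := rfl
theorem L218074 : sm ga N28150 = N24186 := ded_8_1 (flp_c L188514) (flp_a L188498) L218072
theorem L218076 : sm gb N28150 = N26245 := ded_13_1 L203075 (flp_b L179115) L198699 (flp_b L214379) L218072
theorem L218078 : sm ge N26246 = N28150 := ded_15_0 L218076 L203077 L203081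
theorem L218080 : sm ge N24183 = N28151 := rfl
theorem L218082 : sm ga N28151 = N24187 := ded_10_1 (flp_e L188518) (flp_a L188498) L218080
theorem L218084 : sm gb N28151 = N26247 := ded_15_1 L203087 (flp_b L214379) L218080
theorem L218086 : sm gc N28151 = N26246 := ded_19_1 L218078 (flp_c L218072) L218080
theorem L218088 : sm gd N28151 = N27695 := ded_22_1 (flp_e L214295) (flp_d L183124) (flp_e L156991) L188496 L218080
theorem L218090 : sm gf N24183 = N28152 := rfl
theorem L218092 : sm ga N28152 = N24188 := ded_11_1 (flp_f L188524) (flp_a L188498) L218090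
theorem L218094 : sm gd N28152 = N24184 := ded_23_1 (flp_f L188500) L188496 L218090
theorem L218110 : sm gd N24186 = N28156 := rfl
theorem L218112 : sm gb N28156 = N28112 := ded_14_1 (flp_d L217807) (flp_b L188516) L218110
theorem L218114 : sm ge N24186 = N28157 := rfl
theorem L218116 : sm ga N28157 = N26246 := ded_10_1 L218078 L218074 L218114
theorem L218118 : sm gb N28157 = N28113 := ded_15_1 (flp_e L217813) (flp_b L188516) L218114
theorem L218120 : sm gc N28157 = N24187 := ded_19_1 (flp_e L188518) L188514 L218114
theorem L218122 : sm gf N24186 = N28158 := rfl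
theorem L218124 : sm gc N28158 = N24188 := ded_20_1 (flp_f L188524) L188514 L218122
theorem L218126 : sm gg N24186 = N28159 := rfl
theorem L218128 : sm gc N28159 = N24189 := ded_21_1 (flp_g L188528) L188514 L218126
theorem L218130 : sm gf N24187 = N28160 := rfl
theorem L218132 : sm gd N28160 = N27704 := ded_23_1 (flp_f L214409) (flp_d L188522) L218130
theorem L218134 : sm ge N28160 = N24188 := ded_25_1 (flp_f L188524) L188518 L218130
theorem L218136 : sm gg N24187 = N28161 := rfl
theorem L218138 : sm gd N28161 = N27705 := ded_24_1 (flp_g L214413) (flp_d L188522) L218136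
theorem L218140 : sm ge N28161 = N24189 := ded_26_1 (flp_g L188528) L188518 L218136
theorem L218143 : sm gg N24188 = N28162 := rfl
theorem L218161 : sm gb N24191 = N28165 := rfl
theorem L218163 : sm ge N28165 = N27709 := ded_15_2 (flp_b L214434) (flp_e L188545) L218161
theorem L218166 : sm gb N24193 = N28166 := rfl
theorem L218168 : sm gd N28166 = N24280 := ded_14_2 L189205 (flp_d L188701) L218166
theorem L218170 : sm gg N28166 = N24278 := ded_17_2 L189173 L189183 (flp_b L210301) L210299 L218166
theorem L218172 : sm ga N28166 = N27774 := ded_7_1 (flp_b L215062) L184533 (flp_b L184486) L184480 (flp_b L195436) (flp_a L195554) L195560 L188721 L218166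
theorem L218174 : sm gb N24196 = N28167 := rfl
theorem L218176 : sm gd N28167 = N24260 := ded_14_2 L189083 (flp_d L188839) L218174
theorem L218178 : sm gc N28167 = N28166 := ded_13_2 (flp_b L218166) (flp_c L188563) (flp_b L157137) L188585 L218174
theorem L218180 : sm gf N28167 = N24259 := ded_16_2 L189051 L189061 (flp_b L210389) L210385 L218174
theorem L218182 : sm ga N28167 = N27799 := ded_7_1 (flp_b L215309) L184933 (flp_b L184878) L184872 (flp_b L195723) (flp_a L195811) L195817 L188871 L218174
theorem L218184 : sm gf N24198 = N28168 := rfl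
theorem L218186 : sm ga N28168 = N26957 := ded_11_1 L209987 (flp_a L209989) L218184
theorem L218188 : sm gc N28168 = N26956 := ded_20_1 L208803 L208799 L218184
theorem L218190 : sm ge N28168 = N24199 := ded_25_1 (flp_f L188603) (flp_e L188599) L218184
theorem L218192 : sm gg N28168 = N26963 := ded_29_3 L208769 L177501 (flp_g L188601) L218184
theorem L218194 : sm gb N28168 = N27372 := ded_16_1 (flp_f L212037) L181437 L157839 L188597 L218184
theorem L218196 : sm gf N24206 = N28169 := rfl
theorem L218198 : sm gc N28169 = N24211 := ded_20_1 (flp_f L188695) (flp_c L188669) L218196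
theorem L218200 : sm gd N28169 = N26585 := ded_23_1 (flp_f L206697) L206695 L218196
theorem L218202 : sm gb N28169 = N26586 := ded_16_1 L205510 (flp_b L205420) (flp_f L186981) L188667 L218196
theorem L218204 : sm gb N24209 = N28170 := rfl
theorem L218206 : sm gc N28170 = N25000 := ded_13_2 (flp_b L194309) (flp_c L174088) L206683 L206689 L218204
theorem L218208 : sm gg N28170 = N26644 := ded_17_2 (flp_b L205978) (flp_g L189667) (flp_b L205570) L205568 L218204
theorem L218210 : sm ga N28170 = N24981 := ded_7_1 (flp_b L194137) (flp_a L161440) (flp_b L111687) L93283 (flp_b L91732) (flp_a L108627) L157227 L188689 L218204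
theorem L218212 : sm ge N24210 = N28171 := rfl
theorem L218214 : sm ga N28171 = N25248 := ded_10_1 L196536 (flp_a L190499) L218212
theorem L218216 : sm gb N28171 = N24213 := ded_15_1 (flp_e L188703) (flp_b L188693) L218212
theorem L218218 : sm gc N28171 = N25199 := ded_19_1 L196113 L190321 L218212
theorem L218220 : sm gf N28171 = N25197 := ded_25_2 L196103 L190503 L218212
theorem L218222 : sm gg N28171 = N24255 := ded_26_2 (flp_e L190303) (flp_g L190309) L218212
theorem L218224 : sm gd N28171 = N27155 := ded_22_1 L216223 (flp_d L216219) L187155 L188691 L218212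
theorem L218226 : sm gb N24211 = N28172 := rfl
theorem L218228 : sm gd N28172 = N25289 := ded_14_2 (flp_b L196863) (flp_d L190507) L218226
theorem L218230 : sm gf N28172 = N24215 := ded_16_2 (flp_b L188717) (flp_f L157233) L157227 L188695 L218226
theorem L218232 : sm ga N28172 = N24410 := ded_7_1 (flp_b L190192) (flp_a L158504) (flp_b L109634) (flp_a L92292) (flp_b L109882) (flp_a L158730) (flp_b L190493) L190509 L218226
theorem L218234 : sm gg N28172 = N25288 := ded_31_3 L216053 (flp_b L216047) (flp_g L186791) (flp_f L161426) (flp_b L161422) L111699 (flp_f L111693) L111687 L161448 L163483 L172881 L172883 L188695 L218226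
theorem L218236 : sm gc N25288 = N28172 := ded_28_6 L218228 L196857 L185771 (flp_d L185761) (flp_c L154478) (flp_d L115142) L166088 L196853
theorem L218238 : sm gg N24211 = N28173 := rfl
theorem L218240 : sm ga N28173 = N26594 := ded_12_1 L205584 L190509 L218238
theorem L218242 : sm gf N26592 = N28173 := ded_29_0 (flp_g L218238) (flp_f L188695) (flp_g L172883) L205564
theorem L218244 : sm ga N24215 = N28174 := rfl
theorem L218246 : sm gd N28174 = N26931 := ded_9_2 L208455 (flp_d L196351) L218244
theorem L218248 : sm gf N28174 = N24410 := ded_11_2 (flp_a L218232) L218230 L218244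
theorem L218250 : sm gg N27879 = N28174 := ded_29_3 (flp_a L218244) (flp_f L218230) L218234 L216053
theorem L218252 : sm gb N28174 = N24978 := ded_7_2 L194109 L177073 L173413 L122222 (flp_a L122228) L150940 (flp_a L157235) L188717 L218244
theorem L218254 : sm gg N24215 = N28175 := rfl
theorem L218256 : sm ga N28175 = N27879 := ded_12_1 L218250 (flp_a L218244) L218254
theorem L218258 : sm gc N28175 = N28174 := ded_21_1 (flp_g L218250) L216051 L218254
theorem L218260 : sm gb N28175 = N26642 := ded_17_1 L205967 (flp_b L188649) L157239 L188717 L218254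
theorem L218262 : sm gb N24220 = N28176 := rfl
theorem L218264 : sm gd N28176 = N24221 := ded_14_2 (flp_b L188757) (flp_d L188753) L218262
theorem L218266 : sm ge N28176 = N24260 := ded_15_2 L189083 (flp_e L188841) L218262
theorem L218268 : sm gf N28176 = N24243 := ded_16_2 (flp_b L188927) L188931 L188943 L188755 L218262
theorem L218270 : sm gg N28176 = N25185 := ded_17_2 (flp_b L195976) (flp_g L173465) L173461 L188749 L218262
theorem L218272 : sm ga N28176 = N24256 := ded_7_1 (flp_b L189037) L157639 (flp_b L124626) (flp_a L173176) (flp_b L195689) L195679 (flp_b L188647) (flp_a L188751) L218262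
theorem L218274 : sm gc N24258 = N28176 := ded_30_1 (flp_b L218262) L188751 (flp_f L188639) L177043 (flp_b L177035) L148795 (flp_f L125856) L100045 (flp_b L99913) L148819 L125410 (flp_c L176923) L176931 (flp_a L188799) L188801 L188835 (flp_b L189083) (flp_a L208815) (flp_f L208817)
theorem L218276 : sm ga N24221 = N28177 := rfl
theorem L218278 : sm gd N28177 = N24256 := ded_9_2 (flp_a L218272) L218264 L218276
theorem L218280 : sm gf N28177 = N28170 := ded_11_2 L218210 L194141 L218276
theorem L218282 : sm gg N28177 = N26645 := ded_12_2 (flp_a L205984) (flp_g L188759) L218276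
theorem L218284 : sm gb N28177 = N24257 := ded_7_2 L189043 L173172 L173166 (flp_b L173158) (flp_a L188657) (flp_b L188649) (flp_a L157253) L188757 L218276
theorem L218286 : sm gg N24222 = N28178 := rfl
theorem L218288 : sm ga N28178 = N26939 := ded_12_1 (flp_g L209785) L209787 L218286
theorem L218290 : sm gc N28178 = N26938 := ded_21_1 (flp_g L208630) L208626 L218286
theorem L218292 : sm ge N28178 = N24223 := ded_26_1 (flp_g L188767) (flp_e L188763) L218286
theorem L218294 : sm gf N26945 = N28178 := ded_29_0 (flp_g L218286) L188765 (flp_g L177226) (flp_a L208596)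
theorem L218296 : sm gb N28178 = N27459 := ded_17_1 (flp_g L212665) L181945 (flp_g L158145) L188761 L218286
theorem L218298 : sm gg N24228 = N28179 := rfl
theorem L218300 : sm gc N28179 = N24232 := ded_21_1 (flp_g L188833) (flp_c L188815) L218298
theorem L218302 : sm gd N28179 = N26739 := ded_24_1 L206817 L205370 L218298
theorem L218304 : sm gb N28179 = N26740 := ded_17_1 L206827 (flp_b L190081) (flp_g L186945) L188813 L218298
theorem L218306 : sm gb N24230 = N28180 := rfl
theorem L218308 : sm gc N28180 = N24981 := ded_13_2 (flp_b L194137) (flp_c L172585) L205360 L205374 L218306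
theorem L218310 : sm gf N28180 = N26785 := ded_16_2 (flp_b L207195) L190095 (flp_b L206845) L206843 L218306
theorem L218312 : sm ga N28180 = N25000 := ded_7_1 (flp_b L194309) (flp_a L161691) (flp_b L111833) L93369 (flp_b L91764) (flp_a L108699) L157339 L188827 L218306
theorem L218314 : sm ge N24231 = N28181 := rfl
theorem L218316 : sm ga N28181 = N25199 := ded_10_1 L196113 L190481 L218314
theorem L218318 : sm gb N28181 = N24234 := ded_15_1 (flp_e L188845) (flp_b L188831) L218314
theorem L218320 : sm gc N28181 = N25248 := ded_19_1 L196536 L190497 L218314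
theorem L218322 : sm gf N28181 = N24274 := ded_25_2 (flp_e L190469) (flp_f L190475) L218314
theorem L218324 : sm gg N28181 = N25245 := ded_26_2 L196518 (flp_g L190479) L218314
theorem L218326 : sm gd N28181 = N27146 := ded_22_1 L216421 (flp_d L216417) L187343 L188829 L218314
theorem L218328 : sm gb N24232 = N28182 := rfl
theorem L218330 : sm gd N28182 = N25277 := ded_14_2 L196761 L190483 L218328
theorem L218332 : sm gg N28182 = N24236 := ded_17_2 (flp_b L188867) (flp_g L157345) L157339 L188833 L218328
theorem L218334 : sm ga N28182 = N24401 := ded_7_1 (flp_b L190119) (flp_a L158467) (flp_b L109575) (flp_a L92219) (flp_b L109751) (flp_a L158603) (flp_b L190313) (flp_a L190487) L218328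
theorem L218336 : sm gf N25276 = N28182 := ded_31_1 (flp_b L218328) (flp_g L188833) (flp_f L174378) (flp_b L174376) (flp_g L163550) (flp_f L161697) (flp_b L111833) L111839 L111845 L161673 L161677 L186761 L216039 (flp_g L216045)
theorem L218338 : sm gc N25276 = N28182 := ded_30_1 (flp_b L218328) L190487 L206859 L206855 L190099 L158419 L152202 L109626 (flp_b L93710) (flp_a L93688) L93708 L93707 L112384 L162333 (flp_f L189597) L189595 L190119 (flp_a L218334) (flp_f L218336)
theorem L218340 : sm gf N24232 = N28183 := rfl
theorem L218342 : sm ga N28183 = N26744 := ded_11_1 (flp_f L206859) (flp_a L190487) L218340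
theorem L218344 : sm gg N28183 = N26742 := ded_29_3 (flp_a L206839) L174378 L188833 L218340
theorem L218346 : sm ga N24236 = N28184 := rfl
theorem L218348 : sm gd N28184 = N26926 := ded_9_2 L208393 (flp_d L195952) L218346
theorem L218350 : sm gg N28184 = N24401 := ded_12_2 (flp_a L218334) L218332 L218346
theorem L218352 : sm gf N28184 = N27878 := ded_29_0 (flp_g L216045) L218336 L218332 L218346
theorem L218354 : sm gb N28184 = N24997 := ded_7_2 L194271 L176949 L174914 L123113 (flp_a L123119) L123123 (flp_a L157347) L188867 L218346
theorem L218356 : sm gf N24236 = N28185 := rfl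
theorem L218358 : sm ga N28185 = N27878 := ded_11_1 (flp_f L218352) (flp_a L218346) L218356
theorem L218360 : sm gc N28185 = N28184 := ded_20_1 L218352 L216043 L218356
theorem L218362 : sm gb N28185 = N26783 := ded_16_1 (flp_f L207184) (flp_b L188803) (flp_f L157351) L188867 L218356
theorem L218364 : sm gb N24240 = N28186 := rfl
theorem L218366 : sm gd N28186 = N24241 := ded_14_2 (flp_b L188913) (flp_d L188907) L218364
theorem L218368 : sm ge N28186 = N24280 := ded_15_2 L189205 (flp_e L188909) L218364
theorem L218370 : sm gc N28186 = N24277 := ded_13_2 (flp_b L196139) (flp_c L218218) L218216 (flp_c L188905) L218364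
theorem L218372 : sm gf N28186 = N25233 := ded_16_2 (flp_b L196387) (flp_f L174970) L174968 L188901 L218364
theorem L218374 : sm gg N28186 = N24247 := ded_17_2 (flp_b L188965) L188969 L188981 (flp_g L188911) L218364
theorem L218376 : sm ga N28186 = N24275 := ded_7_1 (flp_b L189159) L157773 (flp_b L124227) (flp_a L174689) (flp_b L195404) L195394 (flp_b L188729) (flp_a L188903) L218364
theorem L218378 : sm ga N24241 = N28187 := rfl
theorem L218380 : sm gd N28187 = N24275 := ded_9_2 (flp_a L218376) L218366 L218378
theorem L218382 : sm gf N28187 = N26786 := ded_11_2 (flp_a L207201) (flp_f L188915) L218378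
theorem L218384 : sm gg N28187 = N28180 := ded_12_2 L218312 L194313 L218378
theorem L218386 : sm gb N28187 = N24276 := ded_7_2 L189165 L174685 L174679 (flp_b L174671) (flp_a L188811) (flp_b L188803) (flp_a L157365) L188913 L218378
theorem L218388 : sm ga N24243 = N28188 := rfl
theorem L218390 : sm gc N28188 = N24260 := ded_8_2 (flp_a L208815) L208813 L218388
theorem L218392 : sm gd N28188 = N28170 := ded_9_2 L218210 L194139 L218388
theorem L218394 : sm ge N28188 = N24258 := ded_10_2 (flp_a L189047) (flp_e L188929) L218388
theorem L218396 : sm gf N28188 = N24256 := ded_11_2 (flp_a L218272) L218268 L218388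
theorem L218398 : sm gb N28188 = N24447 := ded_7_2 (flp_a L190499) L188693 L157231 L108637 (flp_a L111691) (flp_b L163184) (flp_a L157435) L188927 L218388
theorem L218400 : sm gg N24243 = N28189 := rfl
theorem L218402 : sm ge N28189 = N24261 := ded_26_1 (flp_g L189055) (flp_e L188929) L218400
theorem L218404 : sm ga N24247 = N28190 := rfl
theorem L218406 : sm gc N28190 = N24280 := ded_8_2 (flp_a L208644) L208640 L218404
theorem L218408 : sm gd N28190 = N28180 := ded_9_2 L218312 L194311 L218404
theorem L218410 : sm ge N28190 = N24277 := ded_10_2 (flp_a L189169) (flp_e L188967) L218404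
theorem L218412 : sm gg N28190 = N24275 := ded_12_2 (flp_a L218376) L218374 L218404
theorem L218414 : sm gb N28190 = N24427 := ded_7_2 L190481 L188831 L157343 L108709 (flp_a L111837) L163301 (flp_a L157517) L188965 L218404
theorem L218416 : sm gf N24247 = N28191 := rfl
theorem L218418 : sm ge N28191 = N24279 := ded_25_1 (flp_f L189175) (flp_e L188967) L218416
theorem L218420 : sm ge N24253 = N28192 := rfl
theorem L218422 : sm ga N28192 = N24254 := ded_10_1 (flp_e L189027) (flp_a L189019) L218420
theorem L218424 : sm gb N28192 = N27232 := ded_15_1 L210979 (flp_b L189021) L218420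
theorem L218426 : sm gf N28192 = N25239 := ded_25_2 (flp_e L196456) (flp_f L189023) L218420
theorem L218428 : sm gg N28192 = N24262 := ded_26_2 (flp_e L189057) (flp_g L189025) L218420
theorem L218430 : sm gg N24256 = N28193 := rfl
theorem L218432 : sm ga N28193 = N25185 := ded_12_1 (flp_g L218270) L218272 L218430
theorem L218434 : sm gc N28193 = N24261 := ded_21_1 (flp_g L189055) (flp_c L189039) L218430
theorem L218436 : sm gd N28193 = N26645 := ded_24_1 (flp_g L218282) L218278 L218430
theorem L218438 : sm gf N28193 = N28189 := ded_29_2 (flp_g L218400) L218388 L218396 L218430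
theorem L218440 : sm ge N24257 = N28194 := rfl
theorem L218442 : sm ga N28194 = N24455 := ded_10_1 L190579 (flp_a L189043) L218440
theorem L218444 : sm gf N28194 = N24450 := ded_25_2 (flp_e L190529) (flp_f L189045) L218440
theorem L218446 : sm gd N28194 = N27798 := ded_22_1 L215305 L184937 L177583 L189041 L218440
theorem L218448 : sm gd N24258 = N28195 := rfl
theorem L218450 : sm ga N28195 = N24259 := ded_9_1 (flp_d L189049) L189047 L218448
theorem L218452 : sm gb N28195 = N27797 := ded_14_1 L215295 L208819 L218448
theorem L218454 : sm gf N28195 = N27799 := ded_23_2 L215311 (flp_f L208817) L218448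
theorem L218456 : sm gc N24259 = N28196 := rfl
theorem L218458 : sm gf N28196 = N28166 := ded_20_2 (flp_c L218178) L218180 L218456
theorem L218460 : sm gb N28196 = N27820 := ded_13_1 (flp_c L215516) L189609 (flp_c L158071) (flp_b L189051) L218456
theorem L218462 : sm gd N27819 = N28196 := ded_23_3 L218458 L218168 (flp_f L215502)
theorem L218464 : sm ge N24259 = N28197 := rfl
theorem L218466 : sm gb N28197 = N24262 := ded_15_1 (flp_e L189057) (flp_b L189051) L218464
theorem L218468 : sm gg N24259 = N28198 := rfl
theorem L218470 : sm gd N28198 = N24261 := ded_24_1 (flp_g L189055) L189049 L218468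
theorem L218472 : sm gb N28198 = N27031 := ded_17_1 (flp_g L209341) (flp_b L189021) L189025 (flp_b L189051) L218468
theorem L218474 : sm gf N24261 = N28199 := rfl
theorem L218476 : sm ga N28199 = N27824 := ded_11_1 L215552 (flp_a L208823) L218474
theorem L218478 : sm gc N28199 = N28189 := ded_20_1 (flp_f L218438) L218434 L218474
theorem L218480 : sm ge N28199 = N28193 := ded_25_1 L218438 L218402 L218474
theorem L218482 : sm gg N28199 = N26968 := ded_29_3 L208815 (flp_f L189053) L189055 L218474
theorem L218484 : sm gb N28199 = N26967 := ded_31_2 (flp_g L208807) L177576 (flp_b L177574) L177577 (flp_f L177585) L185329 (flp_g L196649) L196647 (flp_b L189031) (flp_g L157655) (flp_f L157649) L157643 L189055 L218474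
theorem L218486 : sm gf N24262 = N28200 := rfl
theorem L218488 : sm ga N28200 = N24267 := ded_11_1 (flp_f L189101) (flp_a L189059) L218486
theorem L218490 : sm gc N28200 = N25049 := ded_20_1 (flp_f L194761) L189635 L218486
theorem L218492 : sm gd N28200 = N26569 := ded_23_1 L205348 L191523 L218486
theorem L218494 : sm ge N28200 = N24263 := ded_25_1 (flp_f L189061) L189057 L218486
theorem L218496 : sm gg N28200 = N26595 := ded_29_3 L205590 (flp_f L218426) L218428 L218486
theorem L218498 : sm gb N27896 = N28200 := ded_30_2 L218488 (flp_f L189101) (flp_c L189087) L206096 (flp_a L206100) (flp_f L206098) (flp_c L206080) (flp_b L206086) L175991 (flp_f L124079) (flp_c L124069) (flp_b L124860) (flp_a L176843) L208181 L208177 L208317 L208325 L209621 (flp_c L216167)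
theorem L218500 : sm gd N24265 = N28201 := rfl
theorem L218502 : sm gf N24265 = N28202 := rfl
theorem L218504 : sm ga N28202 = N25049 := ded_11_1 (flp_f L194761) L189633 L218502
theorem L218506 : sm gc N28202 = N24267 := ded_20_1 (flp_f L189101) (flp_c L189087) L218502
theorem L218508 : sm ge N28202 = N24266 := ded_25_1 (flp_f L189089) L189085 L218502
theorem L218510 : sm gg N28202 = N27344 := ded_29_3 L211841 (flp_f L210067) L210069 L218502
theorem L218512 : sm gb N28202 = N27231 := ded_16_1 (flp_f L210965) L206046 L206094 (flp_b L206096) L218502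
theorem L218514 : sm gb N24267 = N28203 := rfl
theorem L218516 : sm ge N28203 = N24268 := ded_15_2 (flp_b L189105) (flp_e L189103) L218514
theorem L218518 : sm gf N28203 = N27810 := ded_16_2 L215417 (flp_f L191553) L163433 L189101 L218514
theorem L218520 : sm gg N28203 = N27240 := ded_17_2 (flp_b L211043) L180783 (flp_b L196458) L196460 L218514
theorem L218522 : sm ga N28203 = N27812 := ded_7_1 L215441 L185399 (flp_b L208805) L208797 L208654 (flp_a L216161) L218498 L218488 L218514
theorem L218524 : sm ge N24272 = N28204 := rfl
theorem L218526 : sm ga N28204 = N24273 := ded_10_1 (flp_e L189149) (flp_a L189141) L218524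
theorem L218528 : sm gb N28204 = N27247 := ded_15_1 L211087 (flp_b L189143) L218524
theorem L218530 : sm gf N28204 = N24281 := ded_25_2 (flp_e L189179) (flp_f L189145) L218524
theorem L218532 : sm gg N28204 = N25191 := ded_26_2 (flp_e L196043) (flp_g L189147) L218524
theorem L218534 : sm gf N24275 = N28205 := rfl
theorem L218536 : sm ga N28205 = N25233 := ded_11_1 (flp_f L218372) L218376 L218534
theorem L218538 : sm gc N28205 = N24279 := ded_20_1 (flp_f L189175) (flp_c L189161) L218534
theorem L218540 : sm gd N28205 = N26786 := ded_23_1 (flp_f L218382) L218380 L218534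
theorem L218542 : sm gg N28191 = N28205 := ded_29_1 (flp_f L218534) (flp_g L218412) (flp_a L218404) L218416
theorem L218544 : sm ge N24276 = N28206 := rfl
theorem L218546 : sm ga N28206 = N24435 := ded_10_1 L190392 (flp_a L189165) L218544
theorem L218548 : sm gg N28206 = N24429 := ded_26_2 (flp_e L190333) (flp_g L189167) L218544
theorem L218550 : sm gd N28206 = N27773 := ded_22_1 L215058 L184537 L177320 L189163 L218544
theorem L218552 : sm gd N24277 = N28207 := rfl
theorem L218554 : sm ga N28207 = N24278 := ded_9_1 (flp_d L189171) L189169 L218552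
theorem L218556 : sm gb N28207 = N27772 := ded_14_1 L215048 L196139 L218552
theorem L218558 : sm gg N28207 = N27774 := ded_24_2 L215064 L208642 L218552
theorem L218560 : sm gc N24278 = N28208 := rfl
theorem L218562 : sm gg N28208 = N28167 := ded_21_2 L218178 L218170 L218560
theorem L218564 : sm gb N28208 = N27825 := ded_13_1 (flp_c L215566) L190035 (flp_c L158371) (flp_b L189173) L218560
theorem L218566 : sm gd N27824 = N28208 := ded_24_3 L218562 L218176 (flp_g L215554)
theorem L218568 : sm ge N24278 = N28209 := rfl
theorem L218570 : sm gb N28209 = N24281 := ded_15_1 (flp_e L189179) (flp_b L189173) L218568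
theorem L218572 : sm gf N24278 = N28210 := rfl
theorem L218574 : sm gd N28210 = N24279 := ded_23_1 (flp_f L189175) L189171 L218572
theorem L218576 : sm gb N28210 = N27029 := ded_16_1 L209323 (flp_b L189143) L189145 (flp_b L189173) L218572
theorem L218578 : sm gg N24279 = N28211 := rfl
theorem L218580 : sm ga N28211 = N27819 := ded_12_1 L215504 L196135 L218578
theorem L218582 : sm gc N28211 = N28191 := ded_21_1 L218542 L218538 L218578
theorem L218584 : sm ge N28211 = N28205 := ded_26_1 (flp_g L218542) L218418 L218578
theorem L218586 : sm gf N26950 = N28211 := ded_29_0 (flp_g L218578) (flp_f L189175) L189177 (flp_a L208644)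
theorem L218588 : sm gb N26949 = N28211 := ded_31_14 (flp_g L218578) (flp_f L189175) (flp_b L157777) L157783 (flp_f L157789) L189153 (flp_g L196222) L196220 (flp_b L185127) (flp_g L177322) (flp_f L177314) L177311 L177313 L208634
theorem L218590 : sm gg N24281 = N28212 := rfl
theorem L218592 : sm ga N28212 = N24286 := ded_12_1 (flp_g L189223) (flp_a L189181) L218590
theorem L218594 : sm gc N28212 = N25083 := ded_21_1 (flp_g L195071) L190061 L218590
theorem L218596 : sm gd N28212 = N26725 := ded_24_1 L206671 L191904 L218590
theorem L218598 : sm ge N28212 = N24282 := ded_26_1 (flp_g L189183) L189179 L218590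
theorem L218600 : sm gf N26745 = N28212 := ded_29_0 (flp_g L218590) (flp_f L218530) L218532 (flp_a L206865)
theorem L218602 : sm gb N27924 = N28212 := ded_30_2 L218592 (flp_f L196047) (flp_c L212483) (flp_b L212479) (flp_a L211681) L211685 L194635 L181765 L181237 (flp_f L181221) (flp_c L181225) (flp_b L179001) L130182 L130210 L130214 L130236 L178931 L209671 L216365
theorem L218604 : sm gd N24284 = N28213 := rfl
theorem L218606 : sm gg N24284 = N28214 := rfl
theorem L218608 : sm ga N28214 = N25083 := ded_12_1 (flp_g L195071) L190059 L218606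
theorem L218610 : sm gc N28214 = N24286 := ded_21_1 (flp_g L189223) (flp_c L189209) L218606
theorem L218612 : sm ge N28214 = N24285 := ded_26_1 (flp_g L189211) L189207 L218606
theorem L218614 : sm gf N27433 = N28214 := ded_29_0 (flp_g L218606) (flp_f L209865) L209867 L212485
theorem L218616 : sm gb N28214 = N27246 := ded_17_1 (flp_g L211073) L207229 (flp_g L207263) (flp_b L207265) L218606
theorem L218618 : sm gb N24286 = N28215 := rfl
theorem L218620 : sm ge N28215 = N24287 := ded_15_2 (flp_b L189227) (flp_e L189225) L218618
theorem L218622 : sm gf N28215 = N27255 := ded_16_2 (flp_b L211151) (flp_f L180893) (flp_b L196045) L196047 L218618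
theorem L218624 : sm gg N28215 = N27801 := ded_17_2 L215329 (flp_g L191934) (flp_b L163552) L189223 L218618
theorem L218626 : sm ga N28215 = N27803 := ded_7_1 L215353 L185197 (flp_b L208632) L208624 L208443 (flp_a L216359) L218602 L218592 L218618
theorem L218628 : sm gc N24290 = N28216 := rfl
theorem L218630 : sm ga N28216 = N24297 := ded_8_1 (flp_c L189323) (flp_a L189259) L218628
theorem L218632 : sm ge N28216 = N27161 := ded_19_2 (flp_c L210451) (flp_e L189265) L218628
theorem L218634 : sm gf N28216 = N26972 := ded_20_2 (flp_c L208843) (flp_f L189263) L218628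
theorem L218636 : sm gd N27960 = N28216 := ded_28_1 (flp_c L218628) (flp_d L189257) L157829 (flp_d L156350) (flp_c L187563) L216537 L216539 L216645
theorem L218638 : sm gf N24295 = N28217 := rfl
theorem L218640 : sm ga N28217 = N27522 := ded_11_1 L213121 (flp_a L189311) L218638
theorem L218642 : sm gc N28217 = N25205 := ded_20_1 (flp_f L202764) (flp_c L202766) L218638
theorem L218644 : sm gd N28217 = N24763 := ded_23_1 L216633 L216631 L218638
theorem L218646 : sm ge N28217 = N24296 := ded_25_1 (flp_f L189313) L189309 L218638
theorem L218648 : sm gg N25009 = N28217 := ded_29_1 (flp_f L218638) (flp_g L194370) (flp_a L194366) L194378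
theorem L218650 : sm gd N24297 = N28218 := rfl
theorem L218652 : sm ga N28218 = N27960 := ded_9_1 L218636 L218630 L218650
theorem L218654 : sm gf N28218 = N26974 := ded_23_2 (flp_d L208865) (flp_f L189327) L218650
theorem L218656 : sm gc N27948 = N28218 := ded_28_0 (flp_d L218650) (flp_c L189323) (flp_d L157867) L109237 (flp_d L108069) (flp_c L156386) L187627 (flp_a L216539)
theorem L218658 : sm gg N24297 = N28219 := rfl
theorem L218660 : sm gc N28219 = N24298 := ded_21_1 (flp_g L189329) L189323 L218658
theorem L218662 : sm ge N28219 = N27163 := ded_26_1 (flp_g L210473) (flp_e L189325) L218658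
theorem L218664 : sm gb N24298 = N28220 := rfl
theorem L218666 : sm gd N28220 = N24299 := ded_14_2 (flp_b L189335) (flp_d L189331) L218664
theorem L218668 : sm ge N28220 = N27164 := ded_15_2 (flp_b L210477) (flp_e L189333) L218664
theorem L218670 : sm gf N28220 = N27266 := ded_16_2 L211240 L211314 L211326 L208863 L218664
theorem L218672 : sm gg N28220 = N26969 := ded_17_2 (flp_b L208825) (flp_g L177641) (flp_b L157869) L189329 L218664
theorem L218674 : sm ga N28220 = N27217 := ded_7_1 (flp_b L210887) (flp_a L180645) (flp_b L144359) (flp_a L104055) L144685 L181071 L208885 L208877 L218664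
theorem L218676 : sm gg N24301 = N28221 := rfl
theorem L218678 : sm ga N28221 = N24303 := ded_12_1 (flp_g L189363) (flp_a L189351) L218676
theorem L218680 : sm gc N28221 = N24302 := ded_21_1 (flp_g L189357) L189349 L218676
theorem L218682 : sm gd N28221 = N27728 := ded_24_1 (flp_g L214603) (flp_d L189355) L218676
theorem L218684 : sm gf N26847 = N28221 := ded_29_0 (flp_g L218676) (flp_f L207704) L207706 (flp_a L207710)
theorem L218686 : sm gb N28221 = N26513 := ded_17_1 (flp_g L204871) L172069 L175450 (flp_b L189353) L218676
theorem L218688 : sm gb N24306 = N28222 := rfl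
theorem L218690 : sm gd N28222 = N26723 := ded_14_2 (flp_b L206639) (flp_d L189391) L218688
theorem L218692 : sm gc N28222 = N26592 := ded_13_2 L205570 L189663 L158113 (flp_c L189389) L218688
theorem L218694 : sm gg N28222 = N26727 := ded_17_2 (flp_b L206683) (flp_g L174084) (flp_b L174004) L189393 L218688
theorem L218696 : sm ga N28222 = N26589 := ded_7_1 (flp_b L205536) L172833 L122812 (flp_a L122842) (flp_b L163997) L123061 (flp_b L161206) (flp_a L189387) L218688
theorem L218698 : sm ge N24312 = N28223 := rfl
theorem L218700 : sm ga N28223 = N24315 := ded_10_1 (flp_e L189455) (flp_a L189427) L218698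
theorem L218702 : sm gb N28223 = N26008 := ded_15_1 L201408 L189435 L218698
theorem L218704 : sm gc N28223 = N24313 := ded_19_1 (flp_e L189437) L189425 L218698
theorem L218706 : sm gf N28223 = N24802 := ded_25_2 L192931 (flp_f L189429) L218698
theorem L218708 : sm gg N28223 = N24332 := ded_26_2 (flp_e L189577) (flp_g L189431) L218698
theorem L218710 : sm ge N24314 = N28224 := rfl
theorem L218712 : sm ga N28224 = N27117 := ded_10_1 L210065 (flp_a L189445) L218710
theorem L218714 : sm gb N28224 = N27337 := ded_15_1 L211793 (flp_b L189447) L218710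
theorem L218716 : sm gc N28224 = N28192 := ded_19_1 (flp_e L218420) L189451 L218710
theorem L218718 : sm gf N28224 = N27344 := ded_25_2 L211837 L189453 L218710
theorem L218720 : sm gg N28224 = N24338 := ded_26_2 (flp_e L189631) (flp_g L189449) L218710
theorem L218722 : sm gd N24315 = N28225 := rfl
theorem L218724 : sm gb N28225 = N27968 := ded_14_1 L216685 (flp_b L189457) L218722
theorem L218726 : sm gg N28225 = N24339 := ded_24_2 (flp_d L189637) (flp_g L189461) L218722
theorem L218728 : sm gf N24315 = N28226 := rfl
theorem L218730 : sm ga N28226 = N24802 := ded_11_1 (flp_f L218706) L218700 L218728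
theorem L218732 : sm gc N28226 = N24317 := ded_20_1 (flp_f L189475) (flp_c L189459) L218728
theorem L218734 : sm ge N28226 = N24316 := ded_25_1 (flp_f L189463) L189455 L218728
theorem L218736 : sm gg N28226 = N24812 := ded_29_3 (flp_a L192995) L175488 (flp_g L189461) L218728
theorem L218738 : sm gb N28226 = N26408 := ded_16_1 L204117 (flp_b L203729) L203727 (flp_b L189457) L218728
theorem L218740 : sm ga N24318 = N28227 := rfl
theorem L218742 : sm gc N28227 = N24360 := ded_8_2 L189797 (flp_c L189485) L218740
theorem L218744 : sm gd N28227 = N27732 := ded_9_2 (flp_a L214647) (flp_d L189483) L218740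
theorem L218746 : sm gf N28227 = N24359 := ded_11_2 L189785 (flp_f L189487) L218740
theorem L218748 : sm gg N28227 = N26882 := ded_12_2 L207997 L204920 L218740
theorem L218750 : sm gb N28227 = N26543 := ded_7_2 L205121 L172378 (flp_a L175452) (flp_b L189353) L189351 L157907 (flp_a L157965) L189481 L218740
theorem L218752 : sm ge N24319 = N28228 := rfl
theorem L218754 : sm ga N28228 = N25060 := ded_10_1 L194863 (flp_a L189491) L218752
theorem L218756 : sm gb N28228 = N24321 := ded_15_1 (flp_e L189505) (flp_b L189493) L218752
theorem L218758 : sm gc N28228 = N27125 := ded_19_1 L210133 L189495 L218752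
theorem L218760 : sm gd N28228 = N27512 := ded_22_1 (flp_e L213049) (flp_d L187803) L187749 L189489 L218752
theorem L218762 : sm gg N24321 = N28229 := rfl
theorem L218764 : sm ga N28229 = N25073 := ded_12_1 (flp_g L194983) (flp_a L189507) L218762
theorem L218766 : sm ge N28229 = N24322 := ded_26_1 (flp_g L189509) L189505 L218762
theorem L218768 : sm gf N28229 = N27511 := ded_29_2 (flp_g L213043) L213029 L213033 L218762
theorem L218770 : sm gb N27483 = N28229 := ded_7_0 L218764 (flp_b L211823) L211815 L211835 L211841 (flp_b L182221) L145334 L182215 L212839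
theorem L218772 : sm gd N24323 = N28230 := rfl
theorem L218774 : sm ga N28230 = N24397 := ded_9_1 (flp_d L190097) (flp_a L189523) L218772
theorem L218776 : sm gb N28230 = N24324 := ded_14_1 (flp_d L189525) L189519 L218772
theorem L218778 : sm gf N28230 = N28179 := ded_23_2 L218302 L206815 L218772
theorem L218780 : sm gc N28183 = N28230 := ded_28_0 (flp_d L218772) L189521 (flp_d L190117) (flp_c L205580) L205582 L190513 (flp_d L206857) (flp_a L218342)
theorem L218782 : sm ge N24327 = N28231 := rfl
theorem L218784 : sm ga N28231 = N28053 := ded_10_1 L217362 L189849 L218782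
theorem L218786 : sm gb N28231 = N25984 := ded_15_1 L201257 (flp_b L189545) L218782
theorem L218788 : sm gc N28231 = N24328 := ded_19_1 (flp_e L189551) L189543 L218782
theorem L218790 : sm gf N28231 = N24328 := ded_25_2 (flp_e L189551) L189549 L218782
theorem L218792 : sm gg N28231 = N28050 := ded_26_2 L217328 (flp_g L189843) L218782
theorem L218794 : sm gd N28231 = N27756 := ded_22_1 L214894 L212917 L187789 (flp_d L189547) L218782
theorem L218796 : sm gd N24332 = N28232 := rfl
theorem L218798 : sm ga N28232 = N24339 := ded_9_1 (flp_d L189637) (flp_a L189579) L218796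
theorem L218800 : sm gb N28232 = N26006 := ded_14_1 L201394 (flp_b L189581) L218796
theorem L218802 : sm ge N28232 = N28201 := ded_22_2 (flp_d L218500) (flp_e L189085) L158037 L189577 L218796
theorem L218804 : sm ge N24334 = N28233 := rfl
theorem L218806 : sm ga N28233 = N24336 := ded_10_1 (flp_e L189613) L189593 L218804
theorem L218808 : sm gb N28233 = N24747 := ded_15_1 L192555 (flp_b L189603) L218804
theorem L218810 : sm gc N28233 = N24402 := ded_19_1 (flp_e L190123) (flp_c L189595) L218804
theorem L218812 : sm gf N28233 = N24825 := ded_25_2 L193077 (flp_f L189597) L218804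
theorem L218814 : sm gg N28233 = N24929 := ded_26_2 L193721 L189599 L218804
theorem L218816 : sm ge N24335 = N28234 := rfl
theorem L218818 : sm ga N28234 = N27520 := ded_10_1 L213103 (flp_a L189607) L218816
theorem L218820 : sm gb N28234 = N24338 := ded_15_1 (flp_e L189631) (flp_b L189609) L218816
theorem L218822 : sm gc N28234 = N26203 := ded_19_1 (flp_e L215514) (flp_c L215516) L218816
theorem L218824 : sm gf N28234 = N25052 := ded_25_2 L194791 (flp_f L189611) L218816
theorem L218826 : sm gg N28234 = N26200 := ded_26_2 (flp_e L214958) L214960 L218816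
theorem L218828 : sm gd N24336 = N28235 := rfl
theorem L218830 : sm gb N28235 = N24339 := ded_14_1 (flp_d L189637) (flp_b L189615) L218828
theorem L218832 : sm gf N28235 = N24823 := ded_23_2 L193069 (flp_f L189619) L218828
theorem L218834 : sm gg N24336 = N28236 := rfl
theorem L218836 : sm ga N28236 = N24929 := ded_12_1 (flp_g L218814) L218806 L218834
theorem L218838 : sm gc N28236 = N24406 := ded_21_1 (flp_g L190160) (flp_c L189617) L218834
theorem L218840 : sm ge N28236 = N24337 := ded_26_1 (flp_g L189621) L189613 L218834
theorem L218842 : sm gf N24928 = N28236 := ded_29_0 (flp_g L218834) L189619 (flp_g L161042) L193713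
theorem L218844 : sm gb N28236 = N27972 := ded_17_1 (flp_g L216703) (flp_b L189457) L189461 (flp_b L189615) L218834
theorem L218846 : sm gd N24338 = N28237 := rfl
theorem L218848 : sm ga N28237 = N28201 := ded_9_1 (flp_d L218500) (flp_a L189633) L218846
theorem L218850 : sm ge N28237 = N24339 := ded_22_2 (flp_d L189637) (flp_e L158073) L158067 L189631 L218846
theorem L218852 : sm gc N24339 = N28238 := rfl
theorem L218854 : sm gf N24342 = N28239 := rfl
theorem L218856 : sm gc N28239 = N24343 := ded_20_1 (flp_f L189655) L189650 L218854
theorem L218858 : sm gb N28239 = N28173 := ded_16_1 (flp_f L218242) L205570 (flp_f L189659) (flp_b L189653) L218854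
theorem L218860 : sm gc N24347 = N28240 := rfl
theorem L218862 : sm ga N28240 = N24354 := ded_8_1 (flp_c L189755) (flp_a L189691) L218860
theorem L218864 : sm ge N28240 = N27168 := ded_19_2 (flp_c L210505) (flp_e L189697) L218860
theorem L218866 : sm gg N28240 = N26978 := ded_21_2 (flp_c L208893) (flp_g L189695) L218860
theorem L218868 : sm gd N28032 = N28240 := ded_28_1 (flp_c L218860) (flp_d L189689) L158135 (flp_d L156597) (flp_c L187921) L217110 L217112 L217218
theorem L218870 : sm gg N24352 = N28241 := rfl
theorem L218872 : sm ga N28241 = N27598 := ded_12_1 L213627 (flp_a L189743) L218870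
theorem L218874 : sm gc N28241 = N25253 := ded_21_1 (flp_g L201117) (flp_c L201119) L218870
theorem L218876 : sm gd N28241 = N24714 := ded_24_1 L217206 L217204 L218870
theorem L218878 : sm ge N28241 = N24353 := ded_26_1 (flp_g L189745) L189741 L218870
theorem L218880 : sm gf N28241 = N25030 := ded_29_2 (flp_g L194571) L194559 L194563 L218870
theorem L218882 : sm gd N24354 = N28242 := rfl
theorem L218884 : sm ga N28242 = N28032 := ded_9_1 L218868 L218862 L218882
theorem L218886 : sm gg N28242 = N26980 := ded_24_2 (flp_d L208909) (flp_g L189759) L218882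
theorem L218888 : sm gc N28020 = N28242 := ded_28_0 (flp_d L218882) (flp_c L189755) (flp_d L158165) L109426 (flp_d L108188) (flp_c L156633) L187973 (flp_a L217112)
theorem L218890 : sm gf N24354 = N28243 := rfl
theorem L218892 : sm gc N28243 = N24355 := ded_20_1 (flp_f L189761) L189755 L218890
theorem L218894 : sm ge N28243 = N27170 := ded_25_1 (flp_f L210527) (flp_e L189757) L218890
theorem L218896 : sm gb N24355 = N28244 := rfl
theorem L218898 : sm gd N28244 = N24356 := ded_14_2 (flp_b L189767) (flp_d L189763) L218896
theorem L218900 : sm ge N28244 = N27171 := ded_15_2 (flp_b L210531) (flp_e L189765) L218896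
theorem L218902 : sm gf N28244 = N26970 := ded_16_2 (flp_b L208831) (flp_f L177651) (flp_b L158167) L189761 L218896
theorem L218904 : sm gg N28244 = N27290 := ded_17_2 L211425 L211519 (flp_b L211531) (flp_g L208907) L218896
theorem L218906 : sm ga N28244 = N27205 := ded_7_1 (flp_b L210803) (flp_a L180577) (flp_b L144337) (flp_a L104003) L144605 L180971 L208929 L208921 L218896
theorem L218908 : sm gb N24364 = N28245 := rfl
theorem L218910 : sm gd N28245 = N26567 := ded_14_2 (flp_b L205318) (flp_d L189831) L218908
theorem L218912 : sm gc N28245 = N26742 := ded_13_2 L206845 L190091 L158413 (flp_c L189829) L218908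
theorem L218914 : sm gf N28245 = N26571 := ded_16_2 (flp_b L205360) (flp_f L172581) (flp_b L172531) (flp_f L189833) L218908
theorem L218916 : sm gg N28245 = N28230 := ded_17_2 L218776 L189819 (flp_b L189811) L189825 L218908
theorem L218918 : sm ga N28245 = N26587 := ded_7_1 L205516 L172817 L121893 (flp_a L121915) L163993 L122154 (flp_b L161194) (flp_a L189827) L218908
theorem L218920 : sm ge N24367 = N28246 := rfl
theorem L218922 : sm ga N28246 = N24370 := ded_10_1 (flp_e L189887) (flp_a L189859) L218920
theorem L218924 : sm gb N28246 = N26239 := ded_15_1 L203045 (flp_b L189867) L218920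
theorem L218926 : sm gc N28246 = N24368 := ded_19_1 (flp_e L189869) L189857 L218920
theorem L218928 : sm gf N28246 = N24384 := ded_25_2 (flp_e L190003) (flp_f L189861) L218920
theorem L218930 : sm gg N28246 = N24854 := ded_26_2 L193245 (flp_g L189863) L218920
theorem L218932 : sm ge N24369 = N28247 := rfl
theorem L218934 : sm ga N28247 = N27091 := ded_10_1 L209863 (flp_a L189877) L218932
theorem L218936 : sm gb N28247 = N27427 := ded_15_1 L212449 (flp_b L189879) L218932
theorem L218938 : sm gc N28247 = N28204 := ded_19_1 (flp_e L218524) L189883 L218932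
theorem L218940 : sm gf N28247 = N24390 := ded_25_2 (flp_e L190057) (flp_f L189881) L218932
theorem L218942 : sm gg N28247 = N27433 := ded_26_2 L212481 L189885 L218932
theorem L218944 : sm gd N24370 = N28248 := rfl
theorem L218946 : sm gb N28248 = N28040 := ded_14_1 L217258 (flp_b L189889) L218944
theorem L218948 : sm gf N28248 = N24391 := ded_23_2 (flp_d L190063) (flp_f L189893) L218944
theorem L218950 : sm gg N24370 = N28249 := rfl
theorem L218952 : sm ga N28249 = N24854 := ded_12_1 (flp_g L218930) L218922 L218950
theorem L218954 : sm gc N28249 = N24372 := ded_21_1 (flp_g L189907) (flp_c L189891) L218950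
theorem L218956 : sm ge N28249 = N24371 := ded_26_1 (flp_g L189895) L189887 L218950
theorem L218958 : sm gf N24863 = N28249 := ded_29_0 (flp_g L218950) L189893 (flp_g L163799) L193301
theorem L218960 : sm gb N28249 = N26332 := ded_17_1 L203615 (flp_b L204215) L204213 (flp_b L189889) L218950
theorem L218962 : sm ge N24373 = N28250 := rfl
theorem L218964 : sm ga N28250 = N25092 := ded_10_1 L195149 (flp_a L189915) L218962
theorem L218966 : sm gb N28250 = N24375 := ded_15_1 (flp_e L189929) (flp_b L189917) L218962
theorem L218968 : sm gc N28250 = N27132 := ded_19_1 L210183 L189919 L218962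
theorem L218970 : sm gd N28250 = N27588 := ded_22_1 (flp_e L213551) (flp_d L188149) L188095 L189913 L218962
theorem L218972 : sm gf N24375 = N28251 := rfl
theorem L218974 : sm ga N28251 = N25105 := ded_11_1 (flp_f L195269) (flp_a L189931) L218972
theorem L218976 : sm ge N28251 = N24376 := ded_25_1 (flp_f L189933) L189929 L218972
theorem L218978 : sm gg N27587 = N28251 := ded_29_1 (flp_f L218972) (flp_g L213535) (flp_a L213531) L213545
theorem L218980 : sm gb N27559 = N28251 := ded_7_0 L218974 (flp_b L211689) L211681 L212479 (flp_a L212485) (flp_b L182577) (flp_a L145556) L182581 L213341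
theorem L218982 : sm gd N24377 = N28252 := rfl
theorem L218984 : sm ga N28252 = N24400 := ded_9_1 L190117 (flp_a L189947) L218982
theorem L218986 : sm gb N28252 = N24378 := ded_14_1 (flp_d L189949) L189943 L218982
theorem L218988 : sm gf N28252 = N28222 := ded_23_2 L218690 L206643 L218982
theorem L218990 : sm gg N28252 = N28169 := ded_24_2 L218200 L205502 L218982
theorem L218992 : sm gc N28173 = N28252 := ded_28_0 (flp_d L218982) L189945 L190097 (flp_c L206855) L206857 (flp_c L190513) (flp_d L205582) (flp_a L218240)
theorem L218994 : sm ge N24381 = N28253 := rfl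
theorem L218996 : sm ga N28253 = N27981 := ded_10_1 L216785 (flp_a L189981) L218994
theorem L218998 : sm gb N28253 = N26219 := ded_15_1 L202923 (flp_b L189985) L218994
theorem L219000 : sm gc N28253 = N24382 := ded_19_1 (flp_e L189991) L189979 L218994
theorem L219002 : sm gf N28253 = N27979 := ded_25_2 L216763 (flp_f L189983) L218994
theorem L219004 : sm gg N28253 = N24382 := ded_26_2 (flp_e L189991) L189989 L218994
theorem L219006 : sm gd N28253 = N27781 := ded_22_1 L215133 L213419 L188139 (flp_d L189987) L218994
theorem L219008 : sm gd N24384 = N28254 := rfl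
theorem L219010 : sm ga N28254 = N24391 := ded_9_1 (flp_d L190063) (flp_a L190005) L219008
theorem L219012 : sm gb N28254 = N26238 := ded_14_1 L203039 (flp_b L190007) L219008
theorem L219014 : sm ge N28254 = N28213 := ded_22_2 (flp_d L218604) (flp_e L189207) L158337 L190003 L219008
theorem L219016 : sm ge N24386 = N28255 := rfl
theorem L219018 : sm ga N28255 = N24388 := ded_10_1 (flp_e L190039) L190019 L219016
theorem L219020 : sm gb N28255 = N24796 := ded_15_1 L192877 (flp_b L190029) L219016
theorem L219022 : sm gc N28255 = N24411 := ded_19_1 (flp_e L190196) (flp_c L190021) L219016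
theorem L219024 : sm gf N28255 = N24961 := ded_25_2 L193959 (flp_f L190025) L219016
theorem L219026 : sm gg N28255 = N24881 := ded_26_2 L193407 (flp_g L190023) L219016
theorem L219028 : sm ge N24387 = N28256 := rfl
theorem L219030 : sm ga N28256 = N27596 := ded_10_1 L213609 (flp_a L190033) L219028
theorem L219032 : sm gb N28256 = N24390 := ded_15_1 (flp_e L190057) (flp_b L190035) L219028
theorem L219034 : sm gc N28256 = N25968 := ded_19_1 (flp_e L215564) (flp_c L215566) L219028
theorem L219036 : sm gf N28256 = N25965 := ded_25_2 (flp_e L215197) (flp_f L215199) L219028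
theorem L219038 : sm gg N28256 = N25089 := ded_26_2 L195125 (flp_g L190037) L219028
theorem L219040 : sm gd N24388 = N28257 := rfl
theorem L219042 : sm gb N28257 = N24391 := ded_14_1 (flp_d L190063) (flp_b L190041) L219040
theorem L219044 : sm gg N28257 = N24877 := ded_24_2 L193389 (flp_g L190045) L219040
theorem L219046 : sm gf N24388 = N28258 := rfl
theorem L219048 : sm ga N28258 = N24961 := ded_11_1 (flp_f L219024) L219018 L219046
theorem L219050 : sm gc N28258 = N24414 := ded_20_1 (flp_f L190222) (flp_c L190043) L219046
theorem L219052 : sm ge N28258 = N24389 := ded_25_1 (flp_f L190047) L190039 L219046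
theorem L219054 : sm gg N28258 = N24960 := ded_29_3 (flp_a L193951) L161162 (flp_g L190045) L219046
theorem L219056 : sm gb N28258 = N28044 := ded_16_1 (flp_f L217276) (flp_b L189889) L189893 (flp_b L190041) L219046
theorem L219058 : sm gd N24390 = N28259 := rfl
theorem L219060 : sm ga N28259 = N28213 := ded_9_1 (flp_d L218604) (flp_a L190059) L219058
theorem L219062 : sm ge N28259 = N24391 := ded_22_2 (flp_d L190063) (flp_e L158373) L158367 L190057 L219058
theorem L219064 : sm gc N24391 = N28260 := rfl
theorem L219066 : sm gg N24394 = N28261 := rfl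
theorem L219068 : sm gc N28261 = N24395 := ded_21_1 (flp_g L190083) L190076 L219066
theorem L219070 : sm gb N28261 = N28183 := ded_17_1 L218344 L206845 (flp_g L190087) (flp_b L190079) L219066
theorem L219072 : sm gf N24397 = N28262 := rfl
theorem L219074 : sm ga N28262 = N28179 := ded_11_1 (flp_f L218778) L218774 L219072
theorem L219076 : sm gc N28262 = N24425 := ded_20_1 L206859 L206855 L219072
theorem L219078 : sm gd N28262 = N24398 := ded_23_1 (flp_f L190101) L190097 L219072
theorem L219080 : sm gg N28262 = N26571 := ded_29_3 (flp_a L205372) (flp_f L205518) L205520 L219072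
theorem L219082 : sm gb N28262 = N26616 := ded_16_1 (flp_f L205785) (flp_b L190182) (flp_f L158496) (flp_b L190099) L219072
theorem L219084 : sm gg N24400 = N28263 := rfl
theorem L219086 : sm ga N28263 = N28169 := ded_12_1 (flp_g L218990) L218984 L219084
theorem L219088 : sm gc N28263 = N24446 := ded_21_1 (flp_g L205584) L205580 L219084
theorem L219090 : sm gd N28263 = N24408 := ded_24_1 (flp_g L190176) (flp_d L190117) L219084
theorem L219092 : sm gf N26727 = N28263 := ded_29_0 (flp_g L219084) (flp_f L205542) L205544 (flp_a L206687)
theorem L219094 : sm gb N28263 = N26614 := ded_17_1 L205763 (flp_b L190107) (flp_g L158465) L190115 L219084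
theorem L219096 : sm gc N24401 = N28264 := rfl
theorem L219098 : sm ga N28264 = N25276 := ded_8_1 L218338 L218334 L219096
theorem L219100 : sm gg N28264 = N28185 := ded_21_2 L218360 L218350 L219096
theorem L219102 : sm gb N28264 = N25022 := ded_13_1 L194506 (flp_b L189603) L189595 L190119 L219096
theorem L219104 : sm gd N28264 = N25275 := ded_28_7 L196743 (flp_c L165903) L114973 L154130 L185469 L185477 (flp_d L190121) L219096
theorem L219106 : sm gf N24401 = N28264 := ded_30_0 (flp_c L219096) (flp_b L190119) (flp_a L158467) L158477 L175493 (flp_b L112384) (flp_a L93716) (flp_f L93714) L70901 L93710 L112386 L112422 L158421 (flp_b L190099) (flp_a L218774) L218778 L218300 L218328 L218334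
theorem L219108 : sm ge N24401 = N28265 := rfl
theorem L219110 : sm gb N28265 = N24402 := ded_15_1 (flp_e L190123) L190119 L219108
theorem L219112 : sm gd N28265 = N27805 := ded_22_1 (flp_e L215365) (flp_d L185143) L185147 (flp_d L190121) L219108
theorem L219114 : sm gf N24402 = N28266 := rfl
theorem L219116 : sm ga N28266 = N24405 := ded_11_1 (flp_f L190149) (flp_a L190125) L219114
theorem L219118 : sm gc N28266 = N24825 := ded_20_1 (flp_f L218812) L218810 L219114
theorem L219120 : sm gd N28266 = N27004 := ded_23_1 L209113 (flp_d L190127) L219114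
theorem L219122 : sm ge N28266 = N24403 := ded_25_1 (flp_f L190129) L190123 L219114
theorem L219124 : sm gg N28266 = N27007 := ded_29_3 L209133 L209141 L209151 L219114
theorem L219126 : sm gc N24410 = N28267 := rfl
theorem L219128 : sm ga N28267 = N25288 := ded_8_1 L218236 L218232 L219126
theorem L219130 : sm gf N28267 = N28175 := ded_20_2 L218258 L218248 L219126
theorem L219132 : sm gb N28267 = N25043 := ded_13_1 L194699 (flp_b L190029) L190021 L190192 L219126
theorem L219134 : sm gd N28267 = N25287 := ded_28_7 L196845 (flp_c L166088) L115142 L154478 L185761 (flp_c L185771) (flp_d L190194) L219126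
theorem L219136 : sm gg N24410 = N28267 := ded_12_0 L219128 (flp_g L218234) L218232
theorem L219138 : sm ge N24410 = N28268 := rfl
theorem L219140 : sm gb N28268 = N24411 := ded_15_1 (flp_e L190196) L190192 L219138
theorem L219142 : sm gd N28268 = N27814 := ded_22_1 (flp_e L215453) (flp_d L185345) L185349 (flp_d L190194) L219138
theorem L219144 : sm gg N24411 = N28269 := rfl
theorem L219146 : sm ga N28269 = N24415 := ded_12_1 (flp_g L190228) (flp_a L190198) L219144
theorem L219148 : sm gc N28269 = N24881 := ded_21_1 (flp_g L219026) L219022 L219144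
theorem L219150 : sm gd N28269 = N27010 := ded_24_1 L209173 (flp_d L190200) L219144
theorem L219152 : sm ge N28269 = N24413 := ded_26_1 (flp_g L190214) L190196 L219144
theorem L219154 : sm gf N27013 = N28269 := ded_29_0 (flp_g L219144) L209209 (flp_g L209199) (flp_a L209191)
theorem L219156 : sm gg N24419 = N28270 := rfl
theorem L219158 : sm gd N28270 = N24420 := ded_24_1 (flp_g L190273) L190267 L219156
theorem L219160 : sm gb N24420 = N28271 := rfl
theorem L219162 : sm ge N28271 = N24421 := ded_15_2 (flp_b L190279) (flp_e L190277) L219160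
theorem L219164 : sm gc N28271 = N26630 := ded_13_2 L205882 L173821 (flp_b L158587) (flp_c L190275) L219160
theorem L219166 : sm gg N28271 = N26613 := ded_17_2 L205751 L173146 (flp_b L158559) L190273 L219160
theorem L219168 : sm gf N24423 = N28272 := rfl
theorem L219170 : sm ga N28272 = N24426 := ded_11_1 (flp_f L190315) L190299 L219168
theorem L219172 : sm gd N28272 = N28183 := ded_23_1 (flp_f L218340) (flp_d L190483) L219168
theorem L219174 : sm ge N28272 = N25200 := ded_25_1 L196522 L196518 L219168
theorem L219176 : sm gg N28272 = N25193 := ded_29_3 L196063 (flp_f L190475) L190479 L219168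
theorem L219178 : sm ge N24425 = N28273 := rfl
theorem L219180 : sm ga N28273 = N27933 := ded_10_1 L216427 L190487 L219178
theorem L219182 : sm gb N28273 = N24429 := ded_15_1 (flp_e L190333) (flp_b L190313) L219178
theorem L219184 : sm gg N28273 = N27931 := ded_26_2 L216415 (flp_g L190489) L219178
theorem L219186 : sm gd N28273 = N26133 := ded_22_1 L202240 (flp_d L185129) L185131 L190311 L219178
theorem L219188 : sm ge N24428 = N28274 := rfl
theorem L219190 : sm ga N28274 = N24432 := ded_10_1 (flp_e L190363) (flp_a L190325) L219188
theorem L219192 : sm gb N28274 = N25935 := ded_15_1 L200888 (flp_b L190331) L219188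
theorem L219194 : sm gc N28274 = N24429 := ded_19_1 (flp_e L190333) L190323 L219188
theorem L219196 : sm gf N28274 = N24827 := ded_25_2 L193087 L190329 L219188
theorem L219198 : sm gf N24429 = N28275 := rfl
theorem L219200 : sm ga N28275 = N24434 := ded_11_1 (flp_f L190379) (flp_a L190335) L219198
theorem L219202 : sm gc N28275 = N24827 := ded_20_1 (flp_f L219196) L219194 L219198
theorem L219204 : sm gd N28275 = N25257 := ded_23_1 (flp_f L196596) (flp_d L190337) L219198
theorem L219206 : sm ge N28275 = N24430 := ded_25_1 (flp_f L190339) L190333 L219198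
theorem L219208 : sm gg N25256 = N28275 := ded_29_1 (flp_f L219198) (flp_g L218548) L218546 (flp_f L196584)
theorem L219210 : sm gb N26891 = N28275 := ded_14_3 L219204 L196598 (flp_d L208094)
theorem L219212 : sm ge N24431 = N28276 := rfl
theorem L219214 : sm ga N28276 = N27586 := ded_10_1 L213541 (flp_a L190353) L219212
theorem L219216 : sm gb N28276 = N25054 := ded_15_1 L194811 (flp_b L190355) L219212
theorem L219218 : sm gc N28276 = N27585 := ded_19_1 L213533 L190359 L219212
theorem L219220 : sm gf N28276 = N25055 := ded_25_2 L194817 (flp_f L190357) L219212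
theorem L219222 : sm gg N28276 = N27076 := ded_26_2 L209743 L190361 L219212
theorem L219224 : sm gg N24432 = N28277 := rfl
theorem L219226 : sm gc N28277 = N24435 := ded_21_1 (flp_g L190388) (flp_c L190367) L219224
theorem L219228 : sm ge N28277 = N24433 := ded_26_1 (flp_g L190371) L190363 L219224
theorem L219230 : sm gb N28277 = N27143 := ded_17_1 L210281 L180115 (flp_g L160664) (flp_b L190365) L219224
theorem L219232 : sm gg N24434 = N28278 := rfl
theorem L219234 : sm ga N28278 = N25256 := ded_12_1 L219208 L219200 L219232
theorem L219236 : sm gc N28278 = N24828 := ded_21_1 (flp_g L193089) (flp_c L190381) L219232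
theorem L219238 : sm gd N28278 = N25255 := ded_24_1 L196578 (flp_d L190383) L219232
theorem L219240 : sm ge N28278 = N24436 := ded_26_1 (flp_g L190394) (flp_e L190385) L219232
theorem L219242 : sm gf N28206 = N28278 := ded_29_0 (flp_g L219232) (flp_f L190379) L190388 (flp_a L218546)
theorem L219244 : sm gb N27828 = N28278 := ded_7_0 L219234 L196582 L165732 (flp_b L177001) (flp_a L191826) (flp_b L191834) L186232 (flp_b L185947) (flp_a L215593)
theorem L219246 : sm gf N24437 = N28279 := rfl
theorem L219248 : sm ga N28279 = N27837 := ded_11_1 (flp_f L215675) (flp_a L190413) L219246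
theorem L219250 : sm gd N28279 = N27836 := ded_23_1 (flp_f L215665) (flp_d L190408) L219246
theorem L219252 : sm ge N28279 = N26949 := ded_25_1 (flp_f L208634) (flp_e L190410) L219246
theorem L219254 : sm gg N28279 = N27837 := ded_29_3 (flp_a L219248) (flp_f L219246) L190412 L219246
theorem L219256 : sm gb N28279 = N28205 := ded_16_1 (flp_f L218534) (flp_b L189159) L158648 L190406 L219246
theorem L219258 : sm gf N24440 = N28280 := rfl
theorem L219260 : sm gd N28280 = N24441 := ded_23_1 (flp_f L190439) L190433 L219258
theorem L219262 : sm gb N24441 = N28281 := rfl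
theorem L219264 : sm ge N28281 = N24442 := ded_15_2 (flp_b L190445) (flp_e L190443) L219262
theorem L219266 : sm gc N28281 = N26771 := ded_13_2 L207091 L175240 (flp_b L158702) (flp_c L190441) L219262
theorem L219268 : sm gf N28281 = N26758 := ded_16_2 L206992 L174659 (flp_b L158686) L190439 L219262
theorem L219270 : sm gg N24444 = N28282 := rfl
theorem L219272 : sm ga N28282 = N24448 := ded_12_1 (flp_g L190511) L190465 L219270
theorem L219274 : sm gc N28282 = N28272 := ded_21_1 L219176 (flp_c L196067) L219270
theorem L219276 : sm gd N28282 = N28173 := ded_24_1 (flp_g L218238) L190507 L219270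
theorem L219278 : sm ge N28282 = N25247 := ded_26_1 (flp_g L196532) L196103 L219270
theorem L219280 : sm gf N25241 = N28282 := ded_29_0 (flp_g L219270) L190503 L190309 (flp_a L196476)
theorem L219282 : sm ge N24446 = N28283 := rfl
theorem L219284 : sm ga N28283 = N27905 := ded_10_1 L216229 (flp_a L190509) L219282
theorem L219286 : sm gb N28283 = N24450 := ded_15_1 (flp_e L190529) (flp_b L190493) L219282
theorem L219288 : sm gf N28283 = N27903 := ded_25_2 L216217 L190505 L219282
theorem L219290 : sm gd N28283 = N25898 := ded_22_1 L200599 (flp_d L185331) L185333 L190491 L219282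
theorem L219292 : sm ge N24449 = N28284 := rfl
theorem L219294 : sm ga N28284 = N24453 := ded_10_1 (flp_e L190559) (flp_a L190521) L219292
theorem L219296 : sm gb N28284 = N26170 := ded_15_1 L202535 (flp_b L190525) L219292
theorem L219298 : sm gc N28284 = N24450 := ded_19_1 (flp_e L190529) L190519 L219292
theorem L219300 : sm gg N28284 = N24879 := ded_26_2 L193397 L190527 L219292
theorem L219302 : sm gg N24450 = N28285 := rfl
theorem L219304 : sm ga N28285 = N24456 := ded_12_1 (flp_g L190581) (flp_a L190531) L219302
theorem L219306 : sm gc N28285 = N24879 := ded_21_1 (flp_g L219300) L219298 L219302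
theorem L219308 : sm gd N28285 = N25209 := ded_24_1 L196177 (flp_d L190533) L219302
theorem L219310 : sm ge N28285 = N24451 := ded_26_1 (flp_g L190535) L190529 L219302
theorem L219312 : sm gf N28285 = N25208 := ded_29_2 L196165 (flp_a L218442) L218444 L219302
theorem L219314 : sm gb N26914 = N28285 := ded_14_3 L219308 (flp_b L196626) (flp_d L208291)
theorem L219316 : sm ge N24452 = N28286 := rfl
theorem L219318 : sm ga N28286 = N27510 := ded_10_1 L213039 (flp_a L190549) L219316
theorem L219320 : sm gb N28286 = N25087 := ded_15_1 L195115 (flp_b L190551) L219316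
theorem L219322 : sm gc N28286 = N27509 := ded_19_1 L213031 L190555 L219316
theorem L219324 : sm gf N28286 = N27102 := ded_25_2 L209945 L190557 L219316
theorem L219326 : sm gg N28286 = N25088 := ded_26_2 L195121 (flp_g L190553) L219316
theorem L219328 : sm gf N24453 = N28287 := rfl
theorem L219330 : sm gc N28287 = N24455 := ded_20_1 (flp_f L190575) (flp_c L190563) L219328
theorem L219332 : sm ge N28287 = N24454 := ded_25_1 (flp_f L190567) L190559 L219328
theorem L219334 : sm gb N28287 = N27152 := ded_16_1 L210367 L180147 L160860 (flp_b L190561) L219328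
theorem L219336 : sm gf N24456 = N28288 := rfl
theorem L219338 : sm ga N28288 = N25208 := ded_11_1 (flp_f L219312) L219304 L219336
theorem L219340 : sm gc N28288 = N24880 := ded_20_1 (flp_f L193399) (flp_c L190583) L219336
theorem L219342 : sm gd N28288 = N25207 := ded_23_1 L196159 (flp_d L190585) L219336
theorem L219344 : sm ge N28288 = N24457 := ded_25_1 (flp_f L190590) (flp_e L190587) L219336
theorem L219346 : sm gg N28288 = N28194 := ded_29_3 L218442 (flp_f L190575) L190581 L219336
theorem L219348 : sm gb N27832 = N28288 := ded_7_0 L219338 L196163 L165100 (flp_b L177338) (flp_a L191445) (flp_b L191453) L186295 (flp_b L185971) (flp_a L215629)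
theorem L219350 : sm gg N24458 = N28289 := rfl
theorem L219352 : sm ga N28289 = N27839 := ded_12_1 (flp_g L215691) (flp_a L190609) L219350
theorem L219354 : sm gd N28289 = N27838 := ded_24_1 (flp_g L215681) (flp_d L190604) L219350
theorem L219356 : sm ge N28289 = N26967 := ded_26_1 (flp_g L208807) (flp_e L190606) L219350
theorem L219358 : sm gf N27839 = N28289 := ded_29_0 (flp_g L219350) L190608 L219350 L219352
theorem L219360 : sm gb N28289 = N28193 := ded_17_1 (flp_g L218430) (flp_b L189037) (flp_g L158775) L190602 L219350
theorem L219362 : sm ge N24459 = N28290 := rfl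
theorem L219364 : sm gb N28290 = N27309 := ded_15_1 (flp_e L215705) L215701 L219362
theorem L219366 : sm gc N28290 = N25291 := ded_19_1 (flp_e L196873) (flp_c L190615) L219362
theorem L219368 : sm gf N28290 = N25291 := ded_25_2 (flp_e L196873) (flp_f L190613) L219362
theorem L219370 : sm gd N28290 = N24962 := ded_22_1 (flp_e L193963) (flp_d L161164) (flp_e L158779) L190611 L219362
theorem L219372 : sm gg N24459 = N28291 := rfl
theorem L219374 : sm ga N28291 = N26109 := ded_12_1 L202056 L199987 L219372
theorem L219376 : sm gc N28291 = N25292 := ded_21_1 (flp_g L196879) (flp_c L190615) L219372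
theorem L219378 : sm gd N28291 = N24460 := ded_24_1 (flp_g L190617) L190611 L219372
theorem L219380 : sm gb N27513 = N28291 := ded_14_3 L219378 (flp_b L216889) L216885
theorem L219382 : sm ge N24461 = N28292 := rfl
theorem L219384 : sm gb N28292 = N27401 := ded_15_1 (flp_e L215715) L215711 L219382
theorem L219386 : sm gc N28292 = N25295 := ded_19_1 (flp_e L196899) (flp_c L190629) L219382
theorem L219388 : sm gg N28292 = N25295 := ded_26_2 (flp_e L196899) (flp_g L190627) L219382
theorem L219390 : sm gd N28292 = N24964 := ded_22_1 (flp_e L193981) (flp_d L161178) (flp_e L158793) L190625 L219382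
theorem L219392 : sm gf N24461 = N28293 := rfl
theorem L219394 : sm ga N28293 = N25868 := ded_11_1 (flp_f L201688) L201684 L219392
theorem L219396 : sm gc N28293 = N25296 := ded_20_1 (flp_f L196905) (flp_c L190629) L219392
theorem L219398 : sm gd N28293 = N24462 := ded_23_1 (flp_f L190631) L190625 L219392
theorem L219400 : sm gb N27589 = N28293 := ded_14_3 L219398 (flp_b L217452) L217448
theorem L219402 : sm ge N24463 = N28294 := rfl
theorem L219404 : sm gc N28294 = N24487 := ded_19_1 (flp_e L190799) (flp_c L190643) L219402
theorem L219406 : sm gf N28294 = N24487 := ded_25_2 (flp_e L190799) (flp_f L190641) L219402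
theorem L219408 : sm gd N28294 = N25304 := ded_22_1 (flp_e L196959) (flp_d L166312) (flp_e L158807) L190639 L219402
theorem L219410 : sm gg N24463 = N28295 := rfl
theorem L219412 : sm gc N28295 = N24488 := ded_21_1 (flp_g L190803) (flp_c L190643) L219410
theorem L219414 : sm gd N28295 = N24464 := ded_24_1 (flp_g L190645) L190639 L219410
theorem L219416 : sm gb N24464 = N28296 := rfl
theorem L219418 : sm ge N28296 = N25306 := ded_15_2 (flp_b L196971) (flp_e L190649) L219416
theorem L219420 : sm gc N24465 = N28297 := rfl
theorem L219422 : sm ga N28297 = N25458 := ded_8_1 (flp_c L197913) (flp_a L190661) L219420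
theorem L219424 : sm ge N28297 = N25307 := ded_19_2 (flp_c L196973) (flp_e L190655) L219420
theorem L219426 : sm gf N28297 = N25646 := ded_20_2 L199056 (flp_f L190657) L219420
theorem L219428 : sm gg N28297 = N24466 := ded_21_2 (flp_c L190663) (flp_g L190659) L219420
theorem L219430 : sm gd N24466 = N28298 := rfl
theorem L219432 : sm gb N28298 = N27000 := ded_14_1 (flp_d L209073) (flp_b L190667) L219430
theorem L219434 : sm ge N24467 = N28299 := rfl
theorem L219436 : sm gc N28299 = N24493 := ded_19_1 (flp_e L190835) (flp_c L190673) L219434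
theorem L219438 : sm gg N28299 = N24493 := ded_26_2 (flp_e L190835) (flp_g L190671) L219434
theorem L219440 : sm gd N28299 = N25316 := ded_22_1 (flp_e L197037) (flp_d L166362) (flp_e L158825) L190669 L219434
theorem L219442 : sm gf N24467 = N28300 := rfl
theorem L219444 : sm gc N28300 = N24494 := ded_20_1 (flp_f L190839) (flp_c L190673) L219442
theorem L219446 : sm gd N28300 = N24468 := ded_23_1 (flp_f L190675) L190669 L219442
theorem L219448 : sm gb N24468 = N28301 := rfl
theorem L219450 : sm ge N28301 = N25318 := ded_15_2 (flp_b L197049) (flp_e L190679) L219448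
theorem L219452 : sm gc N24469 = N28302 := rfl
theorem L219454 : sm ga N28302 = N25424 := ded_8_1 (flp_c L197733) (flp_a L190691) L219452
theorem L219456 : sm ge N28302 = N25319 := ded_19_2 (flp_c L197051) (flp_e L190685) L219452
theorem L219458 : sm gf N28302 = N24470 := ded_20_2 (flp_c L190693) (flp_f L190687) L219452
theorem L219460 : sm gg N28302 = N25750 := ded_21_2 L199614 (flp_g L190689) L219452
theorem L219462 : sm gd N24470 = N28303 := rfl
theorem L219464 : sm gb N28303 = N26991 := ded_14_1 (flp_d L209001) (flp_b L190697) L219462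
theorem L219466 : sm gd N24473 = N28304 := rfl
theorem L219468 : sm ga N28304 = N24566 := ded_9_1 L191345 L190879 L219466
theorem L219470 : sm gb N28304 = N28218 := ded_14_1 (flp_d L218650) (flp_b L190709) L219466
theorem L219472 : sm gf N28304 = N24479 := ded_23_2 (flp_d L190746) (flp_f L190707) L219466
theorem L219474 : sm ga N24474 = N28305 := rfl
theorem L219476 : sm gd N28305 = N28305 := ded_9_2 (flp_a L219474) L190713 L219474
theorem L219477 : sm ge N28305 = N25338 := ded_10_2 (flp_a L197153) (flp_e L190714) L219474
theorem L219479 : sm gf N28305 = N28305 := ded_11_2 (flp_a L219474) L190716 L219474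
theorem L219480 : sm gb N24482 = N28305 := ded_15_3 L219477 L197595 (flp_e L190769)
theorem L219482 : sm gc N24474 = N28306 := rfl
theorem L219484 : sm ge N28306 = N25339 := ded_19_2 (flp_c L197156) (flp_e L190714) L219482
theorem L219486 : sm gf N28306 = N28306 := ded_20_2 (flp_c L219482) L190716 L219482
theorem L219487 : sm gd N24475 = N28307 := rfl
theorem L219489 : sm ga N28307 = N24621 := ded_9_1 L191728 L190910 L219487
theorem L219491 : sm gb N28307 = N28242 := ded_14_1 (flp_d L218882) (flp_b L190723) L219487
theorem L219493 : sm gg N28307 = N24483 := ded_24_2 (flp_d L190773) (flp_g L190721) L219487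
theorem L219495 : sm ga N24476 = N28308 := rfl
theorem L219497 : sm gd N28308 = N28308 := ded_9_2 (flp_a L219495) L190727 L219495
theorem L219498 : sm ge N28308 = N25341 := ded_10_2 (flp_a L197165) (flp_e L190728) L219495
theorem L219500 : sm gg N28308 = N28308 := ded_12_2 (flp_a L219495) L190730 L219495
theorem L219501 : sm gb N28308 = N24478 := ded_7_2 L190739 (flp_b L158961) (flp_a L190766) L219480 (flp_a L219474) (flp_b L190711) (flp_a L158918) L190725 L219495
theorem L219503 : sm gc N24476 = N28309 := rfl
theorem L219505 : sm ge N28309 = N25342 := ded_19_2 (flp_c L197168) (flp_e L190728) L219503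
theorem L219507 : sm gg N28309 = N28309 := ded_21_2 (flp_c L219503) L190730 L219503
theorem L219508 : sm gd N24477 = N28310 := rfl
theorem L219510 : sm ga N28310 = N24479 := ded_9_1 (flp_d L190746) (flp_a L190733) L219508
theorem L219512 : sm gb N28310 = N24707 := ded_14_1 L192317 L192054 L219508
theorem L219514 : sm gf N28310 = N24566 := ded_23_2 L191345 L190883 L219508
theorem L219516 : sm gg N24477 = N28311 := rfl
theorem L219518 : sm ga N28311 = N24480 := ded_12_1 (flp_g L190750) (flp_a L190733) L219516
theorem L219520 : sm gc N28311 = N24478 := ded_21_1 (flp_g L190737) L190731 L219516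
theorem L219522 : sm ge N28311 = N25346 := ded_26_1 (flp_g L197199) (flp_e L190735) L219516
theorem L219524 : sm gf N24503 = N28311 := ded_29_0 (flp_g L219516) (flp_f L190883) L190885 (flp_a L190898)
theorem L219526 : sm gc N24479 = N28312 := rfl
theorem L219528 : sm ge N24479 = N28313 := rfl
theorem L219530 : sm gb N28313 = N24487 := ded_15_1 (flp_e L190799) (flp_b L190748) L219528
theorem L219532 : sm gd N28313 = N25348 := ded_22_1 (flp_e L197210) (flp_d L166648) (flp_e L158933) L190746 L219528
theorem L219534 : sm gg N24479 = N28314 := rfl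
theorem L219536 : sm gd N28314 = N24480 := ded_24_1 (flp_g L190750) L190746 L219534
theorem L219538 : sm gf N28314 = N24504 := ded_29_2 (flp_g L191347) (flp_a L219468) L219472 L219534
theorem L219540 : sm gb N24480 = N28315 := rfl
theorem L219542 : sm ge N28315 = N25350 := ded_15_2 (flp_b L197220) (flp_e L190754) L219540
theorem L219544 : sm gf N28315 = N24527 := ded_16_2 (flp_b L191067) (flp_f L159285) (flp_b L159125) L190756 L219540
theorem L219546 : sm gg N28315 = N24489 := ded_17_2 (flp_b L190807) (flp_g L158991) (flp_b L158935) L190750 L219540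
theorem L219548 : sm gd N24481 = N28316 := rfl
theorem L219550 : sm ga N28316 = N24483 := ded_9_1 (flp_d L190773) (flp_a L190760) L219548
theorem L219552 : sm gb N28316 = N24757 := ded_14_1 L192633 L192203 L219548
theorem L219554 : sm gg N28316 = N24621 := ded_24_2 L191728 L190916 L219548
theorem L219556 : sm gf N24481 = N28317 := rfl
theorem L219558 : sm ga N28317 = N24484 := ded_11_1 (flp_f L190777) (flp_a L190760) L219556
theorem L219560 : sm gc N28317 = N24482 := ded_20_1 (flp_f L190764) L190758 L219556
theorem L219562 : sm ge N28317 = N25352 := ded_25_1 (flp_f L197232) (flp_e L190762) L219556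
theorem L219564 : sm gg N28317 = N24507 := ded_29_3 L190929 (flp_f L190914) L190916 L219556
theorem L219566 : sm gc N24483 = N28318 := rfl
theorem L219568 : sm ge N24483 = N28319 := rfl
theorem L219570 : sm gb N28319 = N24493 := ded_15_1 (flp_e L190835) (flp_b L190775) L219568
theorem L219572 : sm gd N28319 = N25354 := ded_22_1 (flp_e L197243) (flp_d L166668) (flp_e L158952) L190773 L219568
theorem L219574 : sm gf N24483 = N28320 := rfl
theorem L219576 : sm gd N28320 = N24484 := ded_23_1 (flp_f L190777) L190773 L219574
theorem L219578 : sm gg N24508 = N28320 := ded_29_1 (flp_f L219574) (flp_g L219493) L219489 L191730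
theorem L219580 : sm gb N24484 = N28321 := rfl
theorem L219582 : sm ge N28321 = N25356 := ded_15_2 (flp_b L197253) (flp_e L190781) L219580
theorem L219584 : sm gc N28321 = N28315 := ded_13_2 (flp_b L219540) L190752 (flp_b L158961) (flp_c L190779) L219580
theorem L219586 : sm gf N28321 = N24495 := ded_16_2 (flp_b L190843) (flp_f L159035) (flp_b L158954) L190777 L219580
theorem L219588 : sm gg N28321 = N24547 := ded_17_2 (flp_b L191211) (flp_g L159407) (flp_b L159163) L190783 L219580
theorem L219590 : sm ge N24485 = N28322 := rfl
theorem L219592 : sm ga N28322 = N24487 := ded_10_1 (flp_e L190799) (flp_a L190787) L219590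
theorem L219594 : sm gb N28322 = N27948 := ded_15_1 L216541 L216467 L219590
theorem L219596 : sm gd N28322 = N25357 := ded_22_1 (flp_e L197261) (flp_d L166698) (flp_e L158977) L190785 L219590
theorem L219598 : sm gg N24485 = N28323 := rfl
theorem L219600 : sm ga N28323 = N24488 := ded_12_1 (flp_g L190803) (flp_a L190787) L219598
theorem L219602 : sm gd N28323 = N24486 := ded_24_1 (flp_g L190789) L190785 L219598
theorem L219604 : sm gf N28323 = N28295 := ded_29_2 (flp_g L219410) (flp_a L190861) L190863 L219598
theorem L219606 : sm gg N24487 = N28324 := rfl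
theorem L219608 : sm gd N28324 = N25361 := ded_24_1 (flp_g L197287) (flp_d L190801) L219606
theorem L219610 : sm ge N28324 = N24488 := ded_26_1 (flp_g L190803) L190799 L219606
theorem L219612 : sm gb N24488 = N28325 := rfl
theorem L219614 : sm gd N28325 = N24489 := ded_14_2 (flp_b L190807) (flp_d L190805) L219612
theorem L219616 : sm gf N24488 = N28326 := rfl
theorem L219618 : sm ga N28326 = N28295 := ded_11_1 (flp_f L219604) L219600 L219616
theorem L219620 : sm gc N28326 = N28323 := ded_20_1 L219604 L219412 L219616
theorem L219622 : sm gd N28326 = N24490 := ded_23_1 (flp_f L190811) (flp_d L190805) L219616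
theorem L219624 : sm gg N28326 = N24498 := ded_29_3 L190861 L190641 L190803 L219616
theorem L219626 : sm ga N24489 = N28327 := rfl
theorem L219628 : sm ge N28327 = N25364 := ded_10_2 (flp_a L197303) (flp_e L190809) L219626
theorem L219630 : sm gf N24489 = N28328 := rfl
theorem L219632 : sm ge N28328 = N25365 := ded_25_1 (flp_f L197305) (flp_e L190809) L219630
theorem L219634 : sm gb N24490 = N28329 := rfl
theorem L219636 : sm ge N28329 = N25366 := ded_15_2 (flp_b L197307) (flp_e L190817) L219634
theorem L219638 : sm gc N28329 = N25767 := ded_13_2 (flp_b L199718) (flp_c L168544) L159007 (flp_c L190815) L219634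
theorem L219640 : sm ga N28329 = N25436 := ded_30_3 (flp_f L197791) (flp_c L197773) (flp_b L197769) (flp_a L187535) (flp_f L216501) (flp_c L216495) L187491 L159847 (flp_f L159831) L128903 (flp_b L104079) (flp_a L144703) L144709 (flp_c L168188) L168196 L158981 L158997 (flp_c L190815) L219634
theorem L219642 : sm gf N25434 = N28329 := ded_30_0 L219638 (flp_b L199718) L168546 L168562 L168564 L116789 (flp_a L156212) (flp_f L156210) L156198 L156202 L115551 L115563 L115565 (flp_b L95584) (flp_a L115876) (flp_f L115874) L115870 L167166 L197785
theorem L219644 : sm gb N28328 = N25434 := ded_16_5 L219642 (flp_b L219634) (flp_f L190811) L190807 L219630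
theorem L219646 : sm gd N26294 = N28328 := ded_14_0 L219644 (flp_d L204376) L204374
theorem L219648 : sm gf N28325 = N26294 := ded_23_0 L219646 (flp_f L219630) (flp_d L219614)
theorem L219650 : sm gc N26296 = N28325 := ded_20_3 L219648 (flp_c L203367) L203377
theorem L219652 : sm gb N28295 = N26306 := ded_13_3 L203441 (flp_b L203383) L219650 (flp_b L219612) (flp_c L219412)
theorem L219654 : sm gd N26306 = N28296 := ded_14_2 (flp_b L219416) (flp_d L219414) L219652
theorem L219656 : sm gf N28296 = N26304 := ded_23_2 (flp_d L203433) L203439 L219654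
theorem L219658 : sm ge N24491 = N28330 := rfl
theorem L219660 : sm ga N28330 = N24493 := ded_10_1 (flp_e L190835) (flp_a L190823) L219658
theorem L219662 : sm gb N28330 = N28020 := ded_15_1 L217114 L216493 L219658
theorem L219664 : sm gd N28330 = N25367 := ded_22_1 (flp_e L197311) (flp_d L166760) (flp_e L159021) L190821 L219658
theorem L219666 : sm gf N24491 = N28331 := rfl
theorem L219668 : sm ga N28331 = N24494 := ded_11_1 (flp_f L190839) (flp_a L190823) L219666
theorem L219670 : sm gd N28331 = N24492 := ded_23_1 (flp_f L190825) L190821 L219666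
theorem L219672 : sm gg N28300 = N28331 := ded_29_1 (flp_f L219666) (flp_g L190873) L190871 L219442
theorem L219674 : sm gf N24493 = N28332 := rfl
theorem L219676 : sm gd N28332 = N25371 := ded_23_1 (flp_f L197337) (flp_d L190837) L219674
theorem L219678 : sm ge N28332 = N24494 := ded_25_1 (flp_f L190839) L190835 L219674
theorem L219680 : sm gb N24494 = N28333 := rfl
theorem L219682 : sm gd N28333 = N24495 := ded_14_2 (flp_b L190843) (flp_d L190841) L219680
theorem L219684 : sm gg N24494 = N28334 := rfl
theorem L219686 : sm ga N28334 = N28300 := ded_12_1 L219672 L219668 L219684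
theorem L219688 : sm gc N28334 = N28331 := ded_21_1 (flp_g L219672) L219444 L219684
theorem L219690 : sm gd N28334 = N24496 := ded_24_1 (flp_g L190847) (flp_d L190841) L219684
theorem L219692 : sm gf N24500 = N28334 := ded_29_0 (flp_g L219684) (flp_f L190839) (flp_g L190671) (flp_a L190871)
theorem L219694 : sm ga N24495 = N28335 := rfl
theorem L219696 : sm ge N28335 = N25374 := ded_10_2 (flp_a L197353) (flp_e L190845) L219694
theorem L219698 : sm gg N24495 = N28336 := rfl
theorem L219700 : sm ge N28336 = N25375 := ded_26_1 (flp_g L197355) (flp_e L190845) L219698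
theorem L219702 : sm gb N24496 = N28337 := rfl
theorem L219704 : sm ge N28337 = N25376 := ded_15_2 (flp_b L197357) (flp_e L190853) L219702
theorem L219706 : sm gc N28337 = N25663 := ded_13_2 (flp_b L199122) (flp_c L168146) L159051 (flp_c L190851) L219702
theorem L219708 : sm gd N24497 = N28338 := rfl
theorem L219710 : sm gb N28338 = N24498 := ded_14_1 (flp_d L190859) L190857 L219708
theorem L219712 : sm gf N24497 = N28339 := rfl
theorem L219714 : sm ga N28339 = N27880 := ded_11_1 L216059 (flp_a L208853) L219712
theorem L219716 : sm gc N28339 = N25301 := ded_20_1 (flp_f L216059) L216057 L219712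
theorem L219718 : sm ge N28339 = N27880 := ded_25_1 L216059 L196937 L219712
theorem L219720 : sm gb N28339 = N25300 := ded_16_1 L196933 L187405 (flp_f L159069) L190857 L219712
theorem L219722 : sm gg N24497 = N28340 := rfl
theorem L219724 : sm ge N24498 = N28341 := rfl
theorem L219726 : sm ga N28341 = N28294 := ded_10_1 (flp_e L219402) (flp_a L190861) L219724
theorem L219728 : sm gc N28341 = N28322 := ded_19_1 (flp_e L219590) L190865 L219724
theorem L219730 : sm gf N28341 = N28322 := ded_25_2 (flp_e L219590) (flp_f L190863) L219724
theorem L219732 : sm gd N28341 = N24561 := ded_22_1 L196947 (flp_d L196939) L166308 L190859 L219724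
theorem L219734 : sm gd N24499 = N28342 := rfl
theorem L219736 : sm gb N28342 = N24500 := ded_14_1 (flp_d L190869) L190867 L219734
theorem L219738 : sm gf N24499 = N28343 := rfl
theorem L219740 : sm gg N24499 = N28344 := rfl
theorem L219742 : sm ga N28344 = N27881 := ded_12_1 L216065 (flp_a L210681) L219740
theorem L219744 : sm gc N28344 = N25313 := ded_21_1 (flp_g L216065) L216063 L219740
theorem L219746 : sm ge N28344 = N27881 := ded_26_1 L216065 L197015 L219740
theorem L219748 : sm gb N28344 = N25312 := ded_17_1 L197011 L187477 (flp_g L159087) L190867 L219740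
theorem L219750 : sm ge N24500 = N28345 := rfl
theorem L219752 : sm ga N28345 = N28299 := ded_10_1 (flp_e L219434) (flp_a L190871) L219750
theorem L219754 : sm gc N28345 = N28330 := ded_19_1 (flp_e L219658) L190875 L219750
theorem L219756 : sm gg N28345 = N28330 := ded_26_2 (flp_e L219658) (flp_g L190873) L219750
theorem L219758 : sm gd N28345 = N24616 := ded_22_1 L197025 (flp_d L197017) L166358 L190869 L219750
theorem L219760 : sm ga N24502 = N28346 := rfl
theorem L219762 : sm gd N28346 = N28346 := ded_9_2 (flp_a L219760) L190891 L219760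
theorem L219763 : sm ge N28346 = N25404 := ded_10_2 (flp_a L197587) (flp_e L190892) L219760
theorem L219765 : sm gg N28346 = N28305 := ded_12_2 (flp_a L219474) (flp_g L190894) L219760
theorem L219767 : sm gf N28346 = N24502 := ded_29_0 L190894 L190716 (flp_g L190894) L219760
theorem L219769 : sm gc N24502 = N28347 := rfl
theorem L219771 : sm ge N28347 = N25405 := ded_19_2 (flp_c L197603) (flp_e L190892) L219769
theorem L219773 : sm gg N28347 = N28306 := ded_21_2 (flp_c L219482) (flp_g L190894) L219769
theorem L219775 : sm gb N24503 = N28348 := rfl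
theorem L219777 : sm ge N28348 = N25406 := ded_15_2 (flp_b L197607) (flp_e L190900) L219775
theorem L219779 : sm gd N24503 = N28349 := rfl
theorem L219781 : sm ga N28349 = N24504 := ded_9_1 (flp_d L190904) (flp_a L190898) L219779
theorem L219783 : sm gg N28349 = N28304 := ded_24_2 (flp_d L219466) (flp_g L190902) L219779
theorem L219785 : sm gc N24504 = N28350 := rfl
theorem L219787 : sm ge N24504 = N28351 := rfl
theorem L219789 : sm gb N28351 = N24525 := ded_15_1 (flp_e L191059) (flp_b L190906) L219787
theorem L219791 : sm gd N28351 = N25409 := ded_22_1 (flp_e L197627) (flp_d L167012) (flp_e L159123) L190904 L219787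
theorem L219793 : sm ga N24506 = N28352 := rfl
theorem L219795 : sm gd N28352 = N28352 := ded_9_2 (flp_a L219793) L190922 L219793
theorem L219796 : sm ge N28352 = N25411 := ded_10_2 (flp_a L197643) (flp_e L190923) L219793
theorem L219798 : sm gf N28352 = N28308 := ded_11_2 (flp_a L219495) (flp_f L190925) L219793
theorem L219800 : sm gg N28352 = N24506 := ded_29_3 L219793 L219798 L219500 (flp_f L219798)
theorem L219802 : sm gb N28352 = N28346 := ded_7_2 (flp_a L219760) (flp_b L190889) (flp_a L159114) (flp_b L110271) (flp_a L92556) L110294 L159152 L190920 L219793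
theorem L219804 : sm gc N24506 = N28353 := rfl
theorem L219806 : sm ge N28353 = N25412 := ded_19_2 (flp_c L197651) (flp_e L190923) L219804
theorem L219808 : sm gf N28353 = N28309 := ded_20_2 (flp_c L219503) (flp_f L190925) L219804
theorem L219810 : sm gb N24507 = N28354 := rfl
theorem L219812 : sm ge N28354 = N25413 := ded_15_2 (flp_b L197655) (flp_e L190931) L219810
theorem L219814 : sm gd N24507 = N28355 := rfl
theorem L219816 : sm ga N28355 = N24508 := ded_9_1 (flp_d L190935) (flp_a L190929) L219814
theorem L219818 : sm gf N28355 = N28307 := ded_23_2 (flp_d L219487) (flp_f L190933) L219814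
theorem L219820 : sm gc N24508 = N28356 := rfl
theorem L219822 : sm ge N24508 = N28357 := rfl
theorem L219824 : sm gb N28357 = N24545 := ded_15_1 (flp_e L191203) (flp_b L190937) L219822
theorem L219826 : sm gd N28357 = N25416 := ded_22_1 (flp_e L197675) (flp_d L167066) (flp_e L159161) L190935 L219822
theorem L219828 : sm gc N24509 = N28358 := rfl
theorem L219830 : sm ge N28358 = N27960 := ded_19_2 (flp_c L216645) (flp_e L190941) L219828
theorem L219832 : sm gf N24509 = N28359 := rfl
theorem L219834 : sm gd N28359 = N24510 := ded_23_1 (flp_f L190943) L190939 L219832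
theorem L219836 : sm ge N28359 = N27888 := ded_25_1 L216115 (flp_e L190941) L219832
theorem L219838 : sm gb N28359 = N24907 := ded_16_1 (flp_f L193569) L193547 (flp_f L193555) L192397 L219832
theorem L219840 : sm gg N24509 = N28360 := rfl
theorem L219842 : sm gd N28360 = N24511 := ded_24_1 (flp_g L190949) L190939 L219840
theorem L219844 : sm ge N28360 = N27961 := ded_26_1 (flp_g L216649) (flp_e L190941) L219840
theorem L219846 : sm gg N24510 = N28361 := rfl
theorem L219848 : sm gc N28361 = N24512 := ded_21_1 (flp_g L190955) (flp_c L190945) L219846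
theorem L219850 : sm ge N28361 = N25417 := ded_26_1 (flp_g L197679) (flp_e L190947) L219846
theorem L219852 : sm gf N25711 = N28361 := ded_29_0 (flp_g L219846) (flp_f L190943) L190949 (flp_a L199369)
theorem L219854 : sm gb N24511 = N28362 := rfl
theorem L219856 : sm ge N28362 = N25418 := ded_15_2 (flp_b L197687) (flp_e L190953) L219854
theorem L219858 : sm gf N24511 = N28363 := rfl
theorem L219860 : sm ga N28363 = N28361 := ded_11_1 (flp_f L219852) L199369 L219858
theorem L219862 : sm gc N28363 = N24513 := ded_20_1 (flp_f L190965) (flp_c L190951) L219858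
theorem L219864 : sm ge N28363 = N25419 := ded_25_1 (flp_f L197693) (flp_e L190953) L219858
theorem L219866 : sm gg N28363 = N25300 := ded_29_3 L196929 (flp_f L190943) L190949 L219858
theorem L219868 : sm gc N24516 = N28364 := rfl
theorem L219870 : sm ga N28364 = N25319 := ded_8_1 (flp_c L197051) (flp_a L191011) L219868
theorem L219872 : sm ge N28364 = N25424 := ded_19_2 (flp_c L197733) (flp_e L191007) L219868
theorem L219874 : sm gf N28364 = N25320 := ded_20_2 (flp_c L197055) (flp_f L191009) L219868
theorem L219876 : sm gb N24517 = N28365 := rfl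
theorem L219878 : sm ge N28365 = N25426 := ded_15_2 (flp_b L197747) (flp_e L191017) L219876
theorem L219880 : sm gd N24517 = N28366 := rfl
theorem L219882 : sm ga N28366 = N24518 := ded_9_1 (flp_d L191021) (flp_a L191015) L219880
theorem L219884 : sm gg N28366 = N24522 := ded_24_2 (flp_d L191043) (flp_g L191019) L219880
theorem L219886 : sm gc N24518 = N28367 := rfl
theorem L219888 : sm gg N28367 = N24524 := ded_21_2 (flp_c L191057) (flp_g L191025) L219886
theorem L219890 : sm gb N28367 = N24738 := ded_13_1 (flp_c L192495) (flp_b L160260) (flp_c L160224) (flp_b L191023) L219886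
theorem L219892 : sm ge N24518 = N28368 := rfl
theorem L219894 : sm gb N28368 = N24725 := ded_15_1 L192435 (flp_b L191023) L219892
theorem L219896 : sm gg N28368 = N24525 := ded_26_2 (flp_e L191059) (flp_g L191025) L219892
theorem L219898 : sm gd N28368 = N25429 := ded_22_1 (flp_e L197759) (flp_d L167146) (flp_e L159247) L191021 L219892
theorem L219900 : sm gf N24518 = N28369 := rfl
theorem L219902 : sm gd N28369 = N24519 := ded_23_1 (flp_f L191027) L191021 L219900
theorem L219904 : sm gb N28369 = N24728 := ded_16_1 (flp_f L192445) (flp_b L160218) L160220 (flp_b L191023) L219900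
theorem L219906 : sm gb N24519 = N28370 := rfl
theorem L219908 : sm gd N28370 = N24728 := ded_14_2 (flp_b L219904) L219902 L219906
theorem L219910 : sm ge N28370 = N25431 := ded_15_2 (flp_b L197767) (flp_e L191031) L219906
theorem L219912 : sm gf N28370 = N24721 := ded_16_2 (flp_b L192411) L190999 L191001 L191027 L219906
theorem L219914 : sm gb N24520 = N28371 := rfl
theorem L219916 : sm ge N28371 = N25432 := ded_15_2 (flp_b L197769) (flp_e L191035) L219914
theorem L219918 : sm gc N28371 = N24521 := ded_13_2 (flp_b L191039) (flp_c L159265) L159257 L191033 L219914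
theorem L219920 : sm gd N28364 = N28371 := ded_22_5 L219916 L197771 L217546 (flp_d L217552) (flp_e L219872)
theorem L219922 : sm gd N24520 = N28372 := rfl
theorem L219924 : sm gb N28372 = N28364 := ded_14_1 L219920 (flp_b L219914) L219922
theorem L219926 : sm gf N28372 = N25723 := ded_23_2 L199427 (flp_f L191037) L219922
theorem L219928 : sm ge N28372 = N28077 := ded_22_2 (flp_d L217562) (flp_e L188203) L167156 (flp_e L191035) L219922
theorem L219930 : sm gc N28365 = N28372 := ded_13_0 L219924 (flp_c L219868) (flp_b L191003) L191013 L219876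
theorem L219932 : sm ga N24521 = N28373 := rfl
theorem L219934 : sm ge N28373 = N25434 := ded_10_2 (flp_a L197785) (flp_e L191041) L219932
theorem L219936 : sm gf N28373 = N25366 := ded_30_4 L197309 L197063 L180611 L192267 L192269 L160080 L167846 L167844 (flp_c L187479) L187477 L159019 L159035 L159037 (flp_b L110347) (flp_a L159273) (flp_f L159271) L159265 L191039 L219932
theorem L219938 : sm gb N25365 = N28373 := ded_15_3 L219934 (flp_b L219644) L219632
theorem L219940 : sm gd N24521 = N28374 := rfl
theorem L219942 : sm gb N28374 = N24522 := ded_14_1 (flp_d L191043) L191039 L219940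
theorem L219944 : sm gc N28374 = N25329 := ded_28_6 (flp_d L197105) (flp_a L191465) (flp_c L191463) (flp_d L191005) L219868 L219920 L219918 L219940
theorem L219946 : sm gf N25331 = N28374 := ded_20_0 L219944 L197107 L197115
theorem L219948 : sm gf N24521 = N28375 := rfl
theorem L219950 : sm ga N28375 = N25366 := ded_11_1 (flp_f L219936) (flp_a L219932) L219948
theorem L219952 : sm gd N28375 = N25331 := ded_23_1 L219946 (flp_d L219940) L219948
theorem L219954 : sm ge N28375 = N25436 := ded_25_1 (flp_f L197791) (flp_e L191041) L219948
theorem L219956 : sm gg N24521 = N28376 := rfl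
theorem L219958 : sm ge N28376 = N25437 := ded_26_1 (flp_g L197793) (flp_e L191041) L219956
theorem L219960 : sm ge N24522 = N28377 := rfl
theorem L219962 : sm ga N28377 = N24525 := ded_10_1 (flp_e L191059) (flp_a L191045) L219960
theorem L219964 : sm gc N28377 = N27157 := ded_19_1 L210415 (flp_c L191577) L219960
theorem L219966 : sm gd N28377 = N25438 := ded_22_1 (flp_e L197795) (flp_d L167168) (flp_e L159269) L191043 L219960
theorem L219968 : sm gf N24522 = N28378 := rfl
theorem L219970 : sm ga N28378 = N24526 := ded_11_1 (flp_f L191063) (flp_a L191045) L219968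
theorem L219972 : sm gd N28378 = N24523 := ded_23_1 (flp_f L191047) L191043 L219968
theorem L219974 : sm gg N28369 = N28378 := ded_29_1 (flp_f L219968) (flp_g L219884) L219882 L219900
theorem L219976 : sm gb N24523 = N28379 := rfl
theorem L219978 : sm ge N28379 = N25440 := ded_15_2 (flp_b L197807) (flp_e L191053) L219976
theorem L219980 : sm gc N28379 = N25474 := ded_13_2 (flp_b L197987) L167314 (flp_b L159281) (flp_c L191051) L219976
theorem L219982 : sm gf N24524 = N28380 := rfl
theorem L219984 : sm gc N28380 = N24526 := ded_20_1 (flp_f L191063) L191057 L219982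
theorem L219986 : sm gf N24525 = N28381 := rfl
theorem L219988 : sm gd N28381 = N25444 := ded_23_1 (flp_f L197819) (flp_d L191061) L219986
theorem L219990 : sm ge N28381 = N24526 := ded_25_1 (flp_f L191063) L191059 L219986
theorem L219992 : sm gb N24526 = N28382 := rfl
theorem L219994 : sm gd N28382 = N24527 := ded_14_2 (flp_b L191067) (flp_d L191065) L219992
theorem L219996 : sm gg N24526 = N28383 := rfl
theorem L219998 : sm ga N28383 = N28369 := ded_12_1 L219974 L219970 L219996
theorem L220000 : sm gd N28383 = N24528 := ded_24_1 (flp_g L191073) (flp_d L191065) L219996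
theorem L220002 : sm gf N28366 = N28383 := ded_29_0 (flp_g L219996) (flp_f L191063) (flp_g L191025) (flp_a L219882)
theorem L220004 : sm ga N24527 = N28384 := rfl
theorem L220006 : sm gc N28384 = N28335 := ded_8_2 (flp_a L219694) (flp_c L191071) L220004
theorem L220008 : sm ge N28384 = N25447 := ded_10_2 (flp_a L197835) (flp_e L191069) L220004
theorem L220010 : sm gg N28328 = N28384 := ded_29_3 (flp_a L220004) (flp_f L219544) L219546 L219630
theorem L220012 : sm gg N24527 = N28385 := rfl
theorem L220014 : sm ga N28385 = N28328 := ded_12_1 L220010 (flp_a L220004) L220012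
theorem L220016 : sm gc N28385 = N28336 := ded_21_1 (flp_g L219698) (flp_c L191071) L220012
theorem L220018 : sm ge N28385 = N25448 := ded_26_1 (flp_g L197841) (flp_e L191069) L220012
theorem L220020 : sm gf N28327 = N28385 := ded_29_0 (flp_g L220012) (flp_f L219544) L219546 L219626
theorem L220022 : sm gd N28336 = N26370 := ded_28_1 (flp_c L203867) (flp_d L171158) L118421 L170819 L203367 L219646 (flp_a L220014) L220016
theorem L220024 : sm gb N25468 = N28336 := ded_14_3 L220022 (flp_b L204461) L204463
theorem L220026 : sm gg N26370 = N28333 := ded_24_2 L219682 L219698 L220022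
theorem L220028 : sm gg N28337 = N25468 := ded_17_0 L220024 (flp_g L219698) (flp_b L190843) L190847 L219702
theorem L220030 : sm gc N28333 = N26373 := ded_21_1 (flp_g L203883) L203867 L220026
theorem L220032 : sm ga N25471 = N28337 := ded_12_3 L220028 (flp_a L197965) L197973
theorem L220034 : sm gb N26383 = N28300 := ded_13_3 L219444 L219680 L220030 L203889 (flp_c L203945)
theorem L220036 : sm gd N28301 = N26383 := ded_14_0 L220034 L219446 L219448
theorem L220038 : sm gg N26380 = N28301 := ded_24_0 L220036 (flp_g L203943) L203933
theorem L220040 : sm gb N24528 = N28386 := rfl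
theorem L220042 : sm ge N28386 = N25449 := ded_15_2 (flp_b L197849) (flp_e L191079) L220040
theorem L220044 : sm gc N24529 = N28387 := rfl
theorem L220046 : sm ge N28387 = N28032 := ded_19_2 (flp_c L217218) (flp_e L191085) L220044
theorem L220048 : sm gf N24529 = N28388 := rfl
theorem L220050 : sm gd N28388 = N24530 := ded_23_1 (flp_f L191087) L191083 L220048
theorem L220052 : sm ge N28388 = N28033 := ded_25_1 (flp_f L217222) (flp_e L191085) L220048
theorem L220054 : sm gg N24529 = N28389 := rfl
theorem L220056 : sm gd N28389 = N24531 := ded_24_1 (flp_g L191093) L191083 L220054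
theorem L220058 : sm ge N28389 = N27916 := ded_26_1 L216313 (flp_e L191085) L220054
theorem L220060 : sm gb N28389 = N24937 := ded_17_1 (flp_g L193787) L193759 (flp_g L193767) L192707 L220054
theorem L220062 : sm gb N24530 = N28390 := rfl
theorem L220064 : sm ge N28390 = N25451 := ded_15_2 (flp_b L197859) (flp_e L191091) L220062
theorem L220066 : sm gg N24530 = N28391 := rfl
theorem L220068 : sm gc N28391 = N24532 := ded_21_1 (flp_g L191099) (flp_c L191089) L220066
theorem L220070 : sm ge N28391 = N25452 := ded_26_1 (flp_g L197865) (flp_e L191091) L220066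
theorem L220072 : sm gf N25312 = N28391 := ded_29_0 (flp_g L220066) (flp_f L191087) L191093 (flp_a L197007)
theorem L220074 : sm gf N24531 = N28392 := rfl
theorem L220076 : sm ga N28392 = N28391 := ded_11_1 (flp_f L220072) L197007 L220074
theorem L220078 : sm gc N28392 = N24533 := ded_20_1 (flp_f L191109) (flp_c L191095) L220074
theorem L220080 : sm ge N28392 = N25453 := ded_25_1 (flp_f L197873) (flp_e L191097) L220074
theorem L220082 : sm gg N28392 = N25601 := ded_29_3 L198777 (flp_f L191087) L191093 L220074
theorem L220084 : sm gc N24536 = N28393 := rfl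
theorem L220086 : sm ga N28393 = N25307 := ded_8_1 (flp_c L196973) (flp_a L191155) L220084
theorem L220088 : sm ge N28393 = N25458 := ded_19_2 (flp_c L197913) (flp_e L191151) L220084
theorem L220090 : sm gg N28393 = N25308 := ded_21_2 (flp_c L196977) (flp_g L191153) L220084
theorem L220092 : sm gb N24537 = N28394 := rfl
theorem L220094 : sm ge N28394 = N25460 := ded_15_2 (flp_b L197927) (flp_e L191161) L220092
theorem L220096 : sm gd N24537 = N28395 := rfl
theorem L220098 : sm ga N28395 = N24538 := ded_9_1 (flp_d L191165) (flp_a L191159) L220096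
theorem L220100 : sm gf N28395 = N24542 := ded_23_2 (flp_d L191187) (flp_f L191163) L220096
theorem L220102 : sm gc N24538 = N28396 := rfl
theorem L220104 : sm gf N28396 = N24544 := ded_20_2 (flp_c L191201) (flp_f L191169) L220102
theorem L220106 : sm gb N28396 = N24787 := ded_13_1 (flp_c L192813) (flp_b L160490) (flp_c L160454) (flp_b L191167) L220102
theorem L220108 : sm ge N24538 = N28397 := rfl
theorem L220110 : sm gb N28397 = N24774 := ded_15_1 L192745 (flp_b L191167) L220108
theorem L220112 : sm gf N28397 = N24545 := ded_25_2 (flp_e L191203) (flp_f L191169) L220108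
theorem L220114 : sm gd N28397 = N25463 := ded_22_1 (flp_e L197939) (flp_d L167284) (flp_e L159369) L191165 L220108
theorem L220116 : sm gg N24538 = N28398 := rfl
theorem L220118 : sm gd N28398 = N24539 := ded_24_1 (flp_g L191171) L191165 L220116
theorem L220120 : sm gb N28398 = N24777 := ded_17_1 (flp_g L192755) (flp_b L160448) L160450 (flp_b L191167) L220116
theorem L220122 : sm gb N24539 = N28399 := rfl
theorem L220124 : sm gd N28399 = N24777 := ded_14_2 (flp_b L220120) L220118 L220122
theorem L220126 : sm ge N28399 = N25465 := ded_15_2 (flp_b L197947) (flp_e L191175) L220122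
theorem L220128 : sm gg N28399 = N24770 := ded_17_2 (flp_b L192721) (flp_g L191143) L191145 L191171 L220122
theorem L220130 : sm gb N24540 = N28400 := rfl
theorem L220132 : sm ge N28400 = N25466 := ded_15_2 (flp_b L197949) (flp_e L191179) L220130
theorem L220134 : sm gc N28400 = N24541 := ded_13_2 (flp_b L191183) (flp_c L159387) L159379 L191177 L220130
theorem L220136 : sm gd N28393 = N28400 := ded_22_5 L220132 L197951 L216990 (flp_d L216996) (flp_e L220088)
theorem L220138 : sm gd N24540 = N28401 := rfl
theorem L220140 : sm gb N28401 = N28393 := ded_14_1 L220136 (flp_b L220130) L220138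
theorem L220142 : sm gg N28401 = N25618 := ded_24_2 L198875 (flp_g L191181) L220138
theorem L220144 : sm ge N28401 = N28007 := ded_22_2 (flp_d L217006) (flp_e L187857) L167294 (flp_e L191179) L220138
theorem L220146 : sm gc N28394 = N28401 := ded_13_0 L220140 (flp_c L220084) (flp_b L191147) L191157 L220092
theorem L220148 : sm ga N24541 = N28402 := rfl
theorem L220150 : sm ge N28402 = N25468 := ded_10_2 (flp_a L197965) (flp_e L191185) L220148
theorem L220152 : sm gb N25375 = N28402 := ded_15_3 L220150 L220024 L219700
theorem L220154 : sm gg N25376 = N28402 := ded_26_0 L220150 (flp_g L220028) L219704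
theorem L220156 : sm gd N24541 = N28403 := rfl
theorem L220158 : sm gb N28403 = N24542 := ded_14_1 (flp_d L191187) L191183 L220156
theorem L220160 : sm gc N28403 = N25324 := ded_28_6 (flp_d L197083) (flp_a L191846) (flp_c L191844) (flp_d L191149) L220084 L220136 L220134 L220156
theorem L220162 : sm gg N25326 = N28403 := ded_21_0 L220160 L197085 L197093
theorem L220164 : sm gf N24541 = N28404 := rfl
theorem L220166 : sm ge N28404 = N25470 := ded_25_1 (flp_f L197971) (flp_e L191185) L220164
theorem L220168 : sm gg N24541 = N28405 := rfl
theorem L220170 : sm ga N28405 = N25376 := ded_12_1 L220154 (flp_a L220148) L220168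
theorem L220172 : sm gd N28405 = N25326 := ded_24_1 L220162 (flp_d L220156) L220168
theorem L220174 : sm ge N28405 = N25471 := ded_26_1 (flp_g L197973) (flp_e L191185) L220168
theorem L220176 : sm ge N24542 = N28406 := rfl
theorem L220178 : sm ga N28406 = N24545 := ded_10_1 (flp_e L191203) (flp_a L191189) L220176
theorem L220180 : sm gc N28406 = N27148 := ded_19_1 L210327 (flp_c L191958) L220176
theorem L220182 : sm gd N28406 = N25472 := ded_22_1 (flp_e L197975) (flp_d L167306) (flp_e L159391) L191187 L220176
theorem L220184 : sm gg N24542 = N28407 := rfl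
theorem L220186 : sm ga N28407 = N24546 := ded_12_1 (flp_g L191207) (flp_a L191189) L220184
theorem L220188 : sm gd N28407 = N24543 := ded_24_1 (flp_g L191191) L191187 L220184
theorem L220190 : sm gf N28407 = N28398 := ded_29_2 (flp_g L220116) (flp_a L220098) L220100 L220184
theorem L220192 : sm gb N24543 = N28408 := rfl
theorem L220194 : sm ge N28408 = N25474 := ded_15_2 (flp_b L197987) (flp_e L191197) L220192
theorem L220196 : sm gc N28408 = N25440 := ded_13_2 (flp_b L197807) L167176 (flp_b L159403) (flp_c L191195) L220192
theorem L220198 : sm gg N24544 = N28409 := rfl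
theorem L220200 : sm gc N28409 = N24546 := ded_21_1 (flp_g L191207) L191201 L220198
theorem L220202 : sm gg N24545 = N28410 := rfl
theorem L220204 : sm gd N28410 = N25478 := ded_24_1 (flp_g L197999) (flp_d L191205) L220202
theorem L220206 : sm ge N28410 = N24546 := ded_26_1 (flp_g L191207) L191203 L220202
theorem L220208 : sm gb N24546 = N28411 := rfl
theorem L220210 : sm gd N28411 = N24547 := ded_14_2 (flp_b L191211) (flp_d L191209) L220208
theorem L220212 : sm gf N24546 = N28412 := rfl
theorem L220214 : sm ga N28412 = N28398 := ded_11_1 (flp_f L220190) L220186 L220212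
theorem L220216 : sm gd N28412 = N24548 := ded_23_1 (flp_f L191217) (flp_d L191209) L220212
theorem L220218 : sm gg N28412 = N28395 := ded_29_3 L220098 L191169 L191207 L220212
theorem L220220 : sm ga N24547 = N28413 := rfl
theorem L220222 : sm gc N28413 = N28327 := ded_8_2 (flp_a L219626) (flp_c L191215) L220220
theorem L220224 : sm ge N28413 = N25481 := ded_10_2 (flp_a L198015) (flp_e L191213) L220220
theorem L220226 : sm gf N28413 = N28336 := ded_29_0 (flp_g L219698) (flp_f L219586) L219588 L220220
theorem L220228 : sm gf N24547 = N28414 := rfl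
theorem L220230 : sm ga N28414 = N28336 := ded_11_1 (flp_f L220226) (flp_a L220220) L220228
theorem L220232 : sm gc N28414 = N28328 := ded_20_1 (flp_f L219630) (flp_c L191215) L220228
theorem L220234 : sm ge N28414 = N25482 := ded_25_1 (flp_f L198021) (flp_e L191213) L220228
theorem L220236 : sm gg N28414 = N28335 := ded_29_3 (flp_a L219694) (flp_f L219586) L219588 L220228
theorem L220238 : sm gb N24548 = N28415 := rfl
theorem L220240 : sm ge N28415 = N25483 := ded_15_2 (flp_b L198029) (flp_e L191223) L220238
theorem L220242 : sm gc N24549 = N28416 := rfl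
theorem L220244 : sm ga N28416 = N24552 := ded_8_1 (flp_c L191251) (flp_a L191229) L220242
theorem L220246 : sm ge N28416 = N24803 := ded_19_2 L192939 (flp_e L191233) L220242
theorem L220248 : sm gb N28416 = N24805 := ded_13_1 L192951 L182163 L182157 (flp_b L191231) L220242
theorem L220250 : sm gd N28358 = N28416 := ded_28_1 (flp_c L220242) (flp_d L191227) (flp_c L159423) (flp_d L156098) (flp_c L187407) L216463 L216465 L219828
theorem L220252 : sm gg N24550 = N28417 := rfl
theorem L220254 : sm gc N28417 = N25361 := ded_21_1 (flp_g L197287) L191241 L220252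
theorem L220256 : sm gd N28417 = N24551 := ded_24_1 (flp_g L191243) L191235 L220252
theorem L220258 : sm ge N28417 = N25360 := ded_26_1 (flp_g L197283) (flp_e L191239) L220252
theorem L220260 : sm gf N28417 = N24564 := ded_29_2 (flp_g L191329) (flp_a L191297) L191299 L220252
theorem L220262 : sm gb N24551 = N28418 := rfl
theorem L220264 : sm ge N28418 = N24969 := ded_15_2 (flp_b L194033) (flp_e L191247) L220262
theorem L220266 : sm gc N28418 = N26849 := ded_13_2 L207724 L192561 L160288 (flp_c L191245) L220262
theorem L220268 : sm gg N28418 = N24557 := ded_17_2 (flp_b L191279) (flp_g L159445) L159431 L191243 L220262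
theorem L220270 : sm ga N28418 = N24831 := ded_7_1 (flp_b L193103) L160668 (flp_b L190365) (flp_a L219190) L219192 L200886 L200153 L191335 L220262
theorem L220272 : sm gb N24552 = N28419 := rfl
theorem L220274 : sm ge N28419 = N25337 := ded_15_2 (flp_b L210465) L210471 L220272
theorem L220276 : sm gc N28419 = N25348 := ded_13_2 L197212 L191241 L191237 L191251 L220272
theorem L220278 : sm gf N28419 = N25348 := ded_16_2 L197212 (flp_f L196965) (flp_b L210623) L210627 L220272
theorem L220280 : sm gd N24552 = N28420 := rfl
theorem L220282 : sm ga N28420 = N28358 := ded_9_1 L220250 L220244 L220280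
theorem L220284 : sm ge N28420 = N28218 := ded_22_2 (flp_d L218650) L189325 L210461 L210471 L220280
theorem L220286 : sm gc N27938 = N28420 := ded_28_0 (flp_d L220280) (flp_c L191251) (flp_d L159437) (flp_c L110403) (flp_d L110301) L159165 L190939 (flp_a L216465)
theorem L220288 : sm gg N24552 = N28421 := rfl
theorem L220290 : sm gc N28421 = N24555 := ded_21_1 (flp_g L191265) L191251 L220288
theorem L220292 : sm gg N24553 = N28422 := rfl
theorem L220294 : sm ga N28422 = N27067 := ded_12_1 (flp_g L209683) (flp_a L191255) L220292
theorem L220296 : sm gd N28422 = N24970 := ded_24_1 (flp_g L194039) (flp_d L191259) L220292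
theorem L220298 : sm ge N28422 = N24555 := ded_26_1 (flp_g L191265) L191253 L220292
theorem L220300 : sm gf N28422 = N28270 := ded_29_2 (flp_g L219156) (flp_a L210613) L210615 L220292
theorem L220302 : sm gg N24554 = N28423 := rfl
theorem L220304 : sm gd N28423 = N24556 := ded_24_1 (flp_g L191269) (flp_d L191263) L220302
theorem L220306 : sm gf N26082 = N28423 := ded_29_0 (flp_g L220302) (flp_f L191261) L191265 (flp_a L201874)
theorem L220308 : sm gb N27944 = N28423 := ded_31_14 (flp_g L220302) (flp_f L191261) (flp_b L191237) L220252 L220260 (flp_b L192501) (flp_g L192497) (flp_f L192489) (flp_b L192485) L160706 (flp_f L160700) L160692 L193149 (flp_f L216509)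
theorem L220310 : sm gb N24555 = N28424 := rfl
theorem L220312 : sm gd N28424 = N24557 := ded_14_2 (flp_b L191279) (flp_d L191267) L220310
theorem L220314 : sm ga N26346 = N28424 := ded_9_3 L220312 (flp_a L191283) (flp_d L203697)
theorem L220316 : sm gf N24555 = N28425 := rfl
theorem L220318 : sm ga N28425 = N28423 := ded_11_1 (flp_f L220306) L201874 L220316
theorem L220320 : sm gd N28425 = N24558 := ded_23_1 (flp_f L191285) (flp_d L191267) L220316
theorem L220322 : sm ge N28425 = N28270 := ded_25_1 (flp_f L220300) L220298 L220316
theorem L220324 : sm gg N28425 = N24910 := ded_29_3 (flp_a L193597) (flp_f L191261) L191265 L220316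
theorem L220326 : sm gg N24559 = N28426 := rfl
theorem L220328 : sm ga N28426 = N24564 := ded_12_1 (flp_g L191329) (flp_a L191297) L220326
theorem L220330 : sm gd N28426 = N24560 := ded_24_1 (flp_g L191301) L191295 L220326
theorem L220332 : sm gb N28426 = N26007 := ded_17_1 L201404 (flp_b L202052) L202056 L199989 L220326
theorem L220334 : sm gb N24561 = N28427 := rfl
theorem L220336 : sm gc N28427 = N24566 := ded_13_2 (flp_b L191343) (flp_c L159493) (flp_b L159477) L191309 L220334
theorem L220338 : sm gg N28350 = N28427 := ded_21_0 L220336 L191347 L219785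
theorem L220340 : sm gg N24561 = N28428 := rfl
theorem L220342 : sm gc N28428 = N24564 := ded_21_1 (flp_g L191329) L191309 L220340
theorem L220344 : sm ge N28428 = N25363 := ded_26_1 L197301 (flp_e L196947) L220340
theorem L220346 : sm gf N28428 = N25361 := ded_29_2 (flp_g L197287) (flp_a L197263) L197269 L220340
theorem L220348 : sm gg N24562 = N28429 := rfl
theorem L220350 : sm gc N28429 = N25363 := ded_21_1 L197301 L196945 L220348
theorem L220352 : sm gd N28429 = N24975 := ded_24_1 (flp_g L194083) (flp_d L191315) L220348
theorem L220354 : sm ge N28429 = N24564 := ded_26_1 (flp_g L191329) L191311 L220348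
theorem L220356 : sm gf N25360 = N28429 := ded_29_0 (flp_g L220348) (flp_f L191317) L197399 L197401
theorem L220358 : sm gg N24563 = N28430 := rfl
theorem L220360 : sm ga N28430 = N28417 := ded_12_1 (flp_g L220252) (flp_a L191321) L220358
theorem L220362 : sm gd N28430 = N24565 := ded_24_1 (flp_g L191333) (flp_d L191323) L220358
theorem L220364 : sm ge N28430 = N25381 := ded_26_1 (flp_g L197399) (flp_e L191325) L220358
theorem L220366 : sm gf N28426 = N28430 := ded_29_0 (flp_g L220358) (flp_f L191319) L191329 (flp_a L220328)
theorem L220368 : sm ge N24566 = N28431 := rfl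
theorem L220370 : sm gb N28431 = N24567 := ded_15_1 (flp_e L191349) L191343 L220368
theorem L220372 : sm gg N28431 = N28351 := ded_26_2 (flp_e L219787) (flp_g L191347) L220368
theorem L220374 : sm gg N24568 = N28432 := rfl
theorem L220376 : sm ga N28432 = N24571 := ded_12_1 (flp_g L191375) L191357 L220374
theorem L220378 : sm gf N28432 = N27887 := ded_29_2 (flp_g L216105) (flp_a L193661) L193659 L220374
theorem L220380 : sm gg N24569 = N28433 := rfl
theorem L220382 : sm gc N28433 = N25886 := ded_21_1 (flp_g L200487) L191367 L220380
theorem L220384 : sm gd N28433 = N24571 := ded_24_1 (flp_g L191375) L191361 L220380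
theorem L220386 : sm ge N28433 = N25885 := ded_26_1 (flp_g L200479) L191369 L220380
theorem L220388 : sm gf N26126 = N28433 := ded_29_0 (flp_g L220380) L191365 L210787 L210789
theorem L220390 : sm gg N24570 = N28434 := rfl
theorem L220392 : sm ge N28434 = N24571 := ded_26_1 (flp_g L191375) L191371 L220390
theorem L220394 : sm gb N24571 = N28435 := rfl
theorem L220396 : sm gg N28435 = N24575 := ded_17_2 (flp_b L191397) (flp_g L159525) L159509 L191375 L220394
theorem L220398 : sm gf N24571 = N28436 := rfl
theorem L220400 : sm ga N28436 = N27887 := ded_11_1 (flp_f L220378) L220376 L220398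
theorem L220402 : sm gc N28436 = N28432 := ded_20_1 L220378 L216107 L220398
theorem L220404 : sm gd N28436 = N26126 := ded_23_1 L220388 L220384 L220398
theorem L220406 : sm gg N28436 = N24920 := ded_29_3 L193661 L187059 L191375 L220398
theorem L220408 : sm gb N24572 = N28437 := rfl
theorem L220410 : sm gd N28437 = N24575 := ded_14_2 (flp_b L191397) (flp_d L191383) L220408
theorem L220412 : sm gg N24573 = N28438 := rfl
theorem L220414 : sm gc N28438 = N25298 := ded_21_1 L211571 L211565 L220412
theorem L220416 : sm gd N28438 = N24574 := ded_24_1 (flp_g L191391) L191387 L220412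
theorem L220418 : sm gb N24574 = N28439 := rfl
theorem L220420 : sm ge N28439 = N24575 := ded_15_2 (flp_b L191397) (flp_e L191395) L220418
theorem L220422 : sm ga N24575 = N28440 := rfl
theorem L220424 : sm gc N24575 = N28441 := rfl
theorem L220426 : sm gb N28441 = N24578 := ded_13_1 (flp_c L191409) (flp_b L159535) (flp_c L159527) L191397 L220424
theorem L220428 : sm gf N24575 = N28442 := rfl
theorem L220430 : sm ga N24576 = N28443 := rfl
theorem L220432 : sm gd N28443 = N24976 := ded_9_2 (flp_a L194089) (flp_d L191401) L220430
theorem L220434 : sm ge N28443 = N24577 := ded_10_2 (flp_a L191405) (flp_e L191403) L220430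
theorem L220436 : sm gb N27124 = N28443 := ded_14_3 L220432 (flp_b L194095) (flp_d L210127)
theorem L220438 : sm gc N24576 = N28444 := rfl
theorem L220440 : sm ge N28444 = N24578 := ded_19_2 (flp_c L191409) (flp_e L191403) L220438
theorem L220442 : sm gd N24578 = N28444 := ded_28_1 (flp_c L220438) L191401 (flp_c L177507) L191429 (flp_c L191423) (flp_d L191407) (flp_a L191405) L191409
theorem L220444 : sm gb N24577 = N28445 := rfl
theorem L220446 : sm gd N28445 = N24580 := ded_14_2 (flp_b L191415) (flp_d L191407) L220444
theorem L220448 : sm ge N28445 = N27124 := ded_15_2 L220436 L220434 L220444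
theorem L220450 : sm gg N26144 = N28445 := ded_24_0 L220446 (flp_g L191421) L202328
theorem L220452 : sm gc N24577 = N28446 := rfl
theorem L220454 : sm ga N28446 = N24578 := ded_8_1 (flp_c L191409) L191405 L220452
theorem L220456 : sm gf N24577 = N28447 := rfl
theorem L220458 : sm ga N28447 = N24579 := ded_11_1 (flp_f L191411) L191405 L220456
theorem L220460 : sm gd N28447 = N24582 := ded_23_1 (flp_f L191433) (flp_d L191407) L220456
theorem L220462 : sm gg N27894 = N28447 := ded_29_1 (flp_f L220456) (flp_g L216137) (flp_a L216133) L216143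
theorem L220464 : sm gf N24578 = N28448 := rfl
theorem L220466 : sm gc N28448 = N24579 := ded_20_1 (flp_f L191411) L191409 L220464
theorem L220468 : sm gg N24579 = N28449 := rfl
theorem L220470 : sm ga N28449 = N27894 := ded_12_1 L220462 L220458 L220468
theorem L220472 : sm gd N28449 = N24584 := ded_24_1 (flp_g L191455) (flp_d L191413) L220468
theorem L220474 : sm gf N27892 = N28449 := ded_29_0 (flp_g L220468) (flp_f L191411) (flp_g L187081) L216133
theorem L220476 : sm gb N24582 = N28450 := rfl
theorem L220478 : sm ge N28450 = N24977 := ded_15_2 (flp_b L194097) (flp_e L191439) L220476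
theorem L220480 : sm gc N28450 = N25256 := ded_13_2 L196582 (flp_c L165738) (flp_b L177338) (flp_c L191437) L220476
theorem L220482 : sm gf N28450 = N28277 := ded_16_2 L219230 L210279 (flp_b L191415) L191433 L220476
theorem L220484 : sm gg N28450 = N24827 := ded_17_2 L216621 (flp_g L216611) L187603 L191441 L220476
theorem L220486 : sm ga N28450 = N24828 := ded_7_1 L193093 (flp_a L194430) (flp_b L203545) L203539 L203535 L192373 L160182 (flp_a L191435) L220476
theorem L220488 : sm gg N24583 = N28451 := rfl
theorem L220490 : sm ga N28451 = N26932 := ded_12_1 L208465 (flp_a L191445) L220488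
theorem L220492 : sm gc N28451 = N24584 := ded_21_1 (flp_g L191455) (flp_c L191447) L220488
theorem L220494 : sm gd N28451 = N26956 := ded_24_1 L208710 (flp_d L191449) L220488
theorem L220496 : sm ge N28451 = N24978 := ded_26_1 (flp_g L194107) (flp_e L191451) L220488
theorem L220498 : sm gf N27895 = N28451 := ded_29_0 (flp_g L220488) (flp_f L191443) (flp_g L187093) (flp_a L216149)
theorem L220500 : sm gd N24585 = N28452 := rfl
theorem L220502 : sm ga N28452 = N25329 := ded_9_1 (flp_d L197105) (flp_a L191465) L220500
theorem L220504 : sm gf N28452 = N25330 := ded_23_2 (flp_d L197109) (flp_f L191469) L220500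
theorem L220506 : sm gg N28452 = N26406 := ded_24_2 L204097 (flp_g L191471) L220500
theorem L220508 : sm ge N28452 = N26655 := ded_22_2 (flp_d L206074) (flp_e L173655) L163961 (flp_e L191467) L220500
theorem L220510 : sm gf N24586 = N28453 := rfl
theorem L220512 : sm ga N28453 = N26914 := ded_11_1 (flp_f L208289) L191477 L220510
theorem L220514 : sm gd N28453 = N26885 := ded_23_1 (flp_f L208027) L196602 L220510
theorem L220516 : sm ge N28453 = N24979 := ded_25_1 (flp_f L194117) (flp_e L191475) L220510
theorem L220518 : sm gg N26884 = N28453 := ded_29_1 (flp_f L220510) L204239 L204233 (flp_f L208015)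
theorem L220520 : sm gc N24587 = N28454 := rfl
theorem L220522 : sm ga N28454 = N24588 := ded_8_1 (flp_c L191487) (flp_a L191481) L220520
theorem L220524 : sm ge N28454 = N25039 := ded_19_2 L194659 (flp_e L191485) L220520
theorem L220526 : sm gg N28454 = N24596 := ded_21_2 (flp_c L191543) (flp_g L191483) L220520
theorem L220528 : sm gb N28454 = N25037 := ded_13_1 L194641 (flp_b L208041) L208033 (flp_b L196606) L220520
theorem L220530 : sm gd N28367 = N28454 := ded_28_1 (flp_c L220520) (flp_d L191479) (flp_c L159561) (flp_d L159239) L191013 L219880 L219882 L219886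
theorem L220532 : sm gd N24588 = N28455 := rfl
theorem L220534 : sm ga N28455 = N28367 := ded_9_1 L220530 L220522 L220532
theorem L220536 : sm gb N28455 = N27101 := ded_14_1 L209941 L191493 L220532
theorem L220538 : sm gg N28455 = N24599 := ded_24_2 (flp_d L191571) (flp_g L191491) L220532
theorem L220540 : sm gc N28366 = N28455 := ded_28_0 (flp_d L220532) (flp_c L191487) (flp_d L159569) (flp_c L110451) (flp_d L110325) L159245 L191021 (flp_a L219882)
theorem L220542 : sm gf N24588 = N28456 := rfl
theorem L220544 : sm gc N28456 = N24589 := ded_20_1 (flp_f L191495) L191487 L220542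
theorem L220546 : sm ge N28456 = N27153 := ded_25_1 (flp_f L210371) (flp_e L191489) L220542
theorem L220548 : sm gb N24589 = N28457 := rfl
theorem L220550 : sm gd N28457 = N24590 := ded_14_2 (flp_b L191499) (flp_d L191497) L220548
theorem L220552 : sm ge N28457 = N26715 := ded_15_2 (flp_b L208303) L208299 L220548
theorem L220554 : sm gf N28457 = N26959 := ded_16_2 L208731 L177495 L177364 L191495 L220548
theorem L220556 : sm ga N28457 = N26712 := ded_30_3 L206552 (flp_c L186313) (flp_b L182581) L145556 (flp_f L145552) (flp_c L167619) L167625 (flp_a L129926) L169864 L169860 L178615 (flp_a L194969) (flp_f L194975) (flp_c L194641) (flp_b L220528) L220522 L220542 L220544 L220548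
theorem L220558 : sm gc N26711 = N28457 := ded_30_1 (flp_b L220548) (flp_a L191599) (flp_f L191603) L220520 L220528 (flp_a L194639) L194647 L194649 (flp_b L178615) (flp_a L130141) (flp_f L130145) (flp_c L129922) (flp_b L167625) L167617 L182493 L182497 L182581 L213341 L213347
theorem L220560 : sm gd N24591 = N28458 := rfl
theorem L220562 : sm gb N28458 = N24592 := ded_14_1 (flp_d L191517) L191509 L220560
theorem L220564 : sm gg N28458 = N25878 := ded_24_2 L200419 (flp_g L191515) L220560
theorem L220566 : sm ge N28458 = N24647 := ded_22_2 (flp_d L191898) L159781 (flp_d L163194) (flp_e L191511) L220560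
theorem L220568 : sm gc N24592 = N28459 := rfl
theorem L220570 : sm gf N28459 = N26116 := ded_20_2 L202092 (flp_f L191519) L220568
theorem L220572 : sm ge N24592 = N28460 := rfl
theorem L220574 : sm gb N28460 = N24647 := ded_15_1 (flp_e L220566) L220562 L220572
theorem L220576 : sm gf N28460 = N26117 := ded_25_2 L202098 (flp_f L191519) L220572
theorem L220578 : sm gd N28460 = N24646 := ded_22_1 L191892 (flp_d L161434) (flp_e L159581) L191517 L220572
theorem L220580 : sm gb N24593 = N28461 := rfl
theorem L220582 : sm gd N28461 = N28197 := ded_14_2 L218466 (flp_d L191523) L220580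
theorem L220584 : sm ge N28461 = N24981 := ded_15_2 (flp_b L194137) (flp_e L191525) L220580
theorem L220586 : sm gf N28461 = N27909 := ded_16_2 (flp_b L216259) (flp_f L187191) (flp_b L205344) L205348 L220580
theorem L220588 : sm gg N24593 = N28462 := rfl
theorem L220590 : sm ga N28462 = N24595 := ded_12_1 (flp_g L191533) L191521 L220588
theorem L220592 : sm gc N28462 = N26591 := ded_21_1 L205560 L205356 L220588
theorem L220594 : sm gd N28462 = N28192 := ded_24_1 L218428 (flp_d L191523) L220588
theorem L220596 : sm ge N28462 = N24982 := ded_26_1 (flp_g L194143) (flp_e L191525) L220588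
theorem L220598 : sm gf N26056 = N28462 := ded_29_0 (flp_g L220588) (flp_f L205348) L205350 L201680
theorem L220600 : sm gb N26053 = N28462 := ded_13_5 L220592 L205562 L200807 (flp_b L169691) (flp_c L201646)
theorem L220602 : sm gb N24594 = N28463 := rfl
theorem L220604 : sm gd N28463 = N28203 := ded_14_2 (flp_b L218514) (flp_d L191529) L220602
theorem L220606 : sm ge N28463 = N24983 := ded_15_2 (flp_b L194155) (flp_e L191531) L220602
theorem L220608 : sm gc N28463 = N25581 := ded_13_2 L198659 (flp_c L202120) (flp_b L205332) L205334 L220602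
theorem L220610 : sm gf N28463 = N24598 := ded_16_2 (flp_b L191563) (flp_f L159593) L159585 L191527 L220602
theorem L220612 : sm gg N28463 = N25600 := ded_17_2 L198773 (flp_g L169715) L201670 (flp_g L201678) L220602
theorem L220614 : sm ga N28463 = N26858 := ded_7_1 L207802 (flp_a L209201) (flp_b L216155) L216149 L187095 (flp_a L187113) (flp_b L205344) L205342 L220602
theorem L220616 : sm gf N24596 = N28464 := rfl
theorem L220618 : sm ga N28464 = N24600 := ded_11_1 (flp_f L191579) (flp_a L191545) L220616
theorem L220620 : sm gc N28464 = N24597 := ded_20_1 (flp_f L191553) L191543 L220616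
theorem L220622 : sm gd N28464 = N28380 := ded_23_1 (flp_f L219982) L191549 L220616
theorem L220624 : sm ge N28464 = N26659 := ded_25_1 L206114 (flp_e L191547) L220616
theorem L220626 : sm gg N28456 = N28464 := ded_29_1 (flp_f L220616) (flp_g L220526) L220522 L220542
theorem L220628 : sm gg N24598 = N28465 := rfl
theorem L220630 : sm ga N28465 = N26859 := ded_12_1 (flp_g L207804) (flp_a L191569) L220628
theorem L220632 : sm gc N28465 = N25574 := ded_21_1 L198609 (flp_c L191567) L220628
theorem L220634 : sm ge N28465 = N24984 := ded_26_1 (flp_g L194167) (flp_e L191565) L220628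
theorem L220636 : sm gb N28465 = N27861 := ded_17_1 L215887 (flp_b L191499) L159601 L191563 L220628
theorem L220638 : sm gf N24599 = N28466 := rfl
theorem L220640 : sm ga N28466 = N28380 := ded_11_1 (flp_f L219982) (flp_a L191573) L220638
theorem L220642 : sm gc N28466 = N28378 := ded_20_1 (flp_f L219968) L191577 L220638
theorem L220644 : sm gd N28466 = N24600 := ded_23_1 (flp_f L191579) L191571 L220638
theorem L220646 : sm ge N28466 = N24939 := ded_25_1 (flp_f L210413) L210415 L220638
theorem L220648 : sm gb N28466 = N24938 := ded_16_1 (flp_f L193793) (flp_b L178719) L179235 (flp_b L191575) L220638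
theorem L220650 : sm gg N24600 = N28467 := rfl
theorem L220652 : sm ga N28467 = N28456 := ded_12_1 L220626 L220618 L220650
theorem L220654 : sm gc N28467 = N24602 := ded_21_1 (flp_g L191597) (flp_c L191581) L220650
theorem L220656 : sm ge N28467 = N26756 := ded_26_1 (flp_g L206974) (flp_e L191583) L220650
theorem L220658 : sm gf N28454 = N28467 := ded_29_0 (flp_g L220650) (flp_f L191579) (flp_g L191491) (flp_a L220522)
theorem L220660 : sm gb N24602 = N28468 := rfl
theorem L220662 : sm gd N28468 = N24603 := ded_14_2 (flp_b L191605) (flp_d L191601) L220660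
theorem L220664 : sm ga N28468 = N28468 := ded_7_1 (flp_b L220660) L191599 L220548 L220556 L206554 (flp_a L220556) (flp_b L220548) (flp_a L191599) L220660
theorem L220665 : sm gf N24603 = N28469 := rfl
theorem L220667 : sm ga N28469 = N28469 := ded_11_1 (flp_f L220665) L191609 L220665
theorem L220668 : sm ge N28469 = N24986 := ded_25_1 (flp_f L194180) (flp_e L191607) L220665
theorem L220670 : sm gb N28469 = N28453 := ded_16_1 (flp_f L220510) (flp_b L191473) L159621 L191605 L220665
theorem L220672 : sm gc N24604 = N28470 := rfl
theorem L220674 : sm ga N28470 = N24607 := ded_8_1 (flp_c L191634) (flp_a L191612) L220672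
theorem L220676 : sm ge N28470 = N24855 := ded_19_2 L193253 (flp_e L191616) L220672
theorem L220678 : sm gb N28470 = N24857 := ded_13_1 L193265 L182531 L182525 (flp_b L191614) L220672
theorem L220680 : sm gd N28387 = N28470 := ded_28_1 (flp_c L220672) (flp_d L191610) (flp_c L159623) (flp_d L156208) (flp_c L187479) L216489 L216491 L220044
theorem L220682 : sm gf N24605 = N28471 := rfl
theorem L220684 : sm gc N28471 = N25371 := ded_20_1 (flp_f L197337) L191624 L220682
theorem L220686 : sm gd N28471 = N24606 := ded_23_1 (flp_f L191626) L191618 L220682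
theorem L220688 : sm ge N28471 = N25370 := ded_25_1 (flp_f L197333) (flp_e L191622) L220682
theorem L220690 : sm gg N24618 = N28471 := ded_29_1 (flp_f L220682) (flp_g L191682) L191680 L191702
theorem L220692 : sm gb N24606 = N28472 := rfl
theorem L220694 : sm ge N28472 = N24988 := ded_15_2 (flp_b L194195) (flp_e L191630) L220692
theorem L220696 : sm gc N28472 = N26884 := ded_13_2 L208013 L192883 L160518 (flp_c L191628) L220692
theorem L220698 : sm gf N28472 = N24611 := ded_16_2 (flp_b L191652) (flp_f L159639) L159631 L191626 L220692
theorem L220700 : sm ga N28472 = N24884 := ded_7_1 (flp_b L193419) L160864 (flp_b L190561) (flp_a L219294) L219296 L202533 L201814 L191718 L220692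
theorem L220702 : sm gb N24607 = N28473 := rfl
theorem L220704 : sm ge N28473 = N25340 := ded_15_2 (flp_b L210519) L210525 L220702
theorem L220706 : sm gc N28473 = N25354 := ded_13_2 L197245 L191624 L191620 L191634 L220702
theorem L220708 : sm gg N28473 = N25354 := ded_17_2 L197245 (flp_g L197043) (flp_b L210719) L210723 L220702
theorem L220710 : sm gd N24607 = N28474 := rfl
theorem L220712 : sm ga N28474 = N28387 := ded_9_1 L220680 L220674 L220710
theorem L220714 : sm ge N28474 = N28242 := ded_22_2 (flp_d L218882) L189757 L210515 L210525 L220710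
theorem L220716 : sm gc N27942 = N28474 := ded_28_0 (flp_d L220710) (flp_c L191634) (flp_d L159637) (flp_c L110503) (flp_d L110351) L159301 L191083 (flp_a L216491)
theorem L220718 : sm gf N24607 = N28475 := rfl
theorem L220720 : sm gc N28475 = N24609 := ded_20_1 (flp_f L191644) L191634 L220718
theorem L220722 : sm gf N24608 = N28476 := rfl
theorem L220724 : sm ga N28476 = N27093 := ded_11_1 (flp_f L209885) (flp_a L191638) L220722
theorem L220726 : sm gd N28476 = N24989 := ded_23_1 (flp_f L194201) (flp_d L191642) L220722
theorem L220728 : sm ge N28476 = N24609 := ded_25_1 (flp_f L191644) L191636 L220722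
theorem L220730 : sm gg N28280 = N28476 := ded_29_1 (flp_f L220722) (flp_g L210711) L210709 L219258
theorem L220732 : sm gb N24609 = N28477 := rfl
theorem L220734 : sm gd N28477 = N24611 := ded_14_2 (flp_b L191652) (flp_d L191646) L220732
theorem L220736 : sm ga N26423 = N28477 := ded_9_3 L220734 (flp_a L191656) (flp_d L204207)
theorem L220738 : sm gg N24609 = N28478 := rfl
theorem L220740 : sm gd N28478 = N24612 := ded_24_1 (flp_g L191658) (flp_d L191646) L220738
theorem L220742 : sm ge N28478 = N28280 := ded_26_1 L220730 L220728 L220738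
theorem L220744 : sm gf N24940 = N28478 := ded_29_0 (flp_g L220738) (flp_f L191644) L191648 L193813
theorem L220746 : sm gf N24610 = N28479 := rfl
theorem L220748 : sm ga N28479 = N28478 := ded_11_1 (flp_f L220744) (flp_a L193813) L220746
theorem L220750 : sm gd N28479 = N24613 := ded_23_1 (flp_f L191666) (flp_d L191650) L220746
theorem L220752 : sm gg N28479 = N25835 := ded_29_3 L200157 (flp_f L191644) L191648 L220746
theorem L220754 : sm gb N28479 = N27940 := ded_31_2 L216483 (flp_f L193459) (flp_b L160888) L160896 L160902 L192799 L192803 L192819 L192823 L220690 (flp_f L220682) L191620 L191648 L220746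
theorem L220756 : sm gf N24614 = N28480 := rfl
theorem L220758 : sm ga N28480 = N24618 := ded_11_1 (flp_f L191702) (flp_a L191680) L220756
theorem L220760 : sm gd N28480 = N24615 := ded_23_1 (flp_f L191684) L191678 L220756
theorem L220762 : sm gb N28480 = N26236 := ded_16_1 (flp_f L203027) (flp_b L202987) (flp_f L201688) L201686 L220756
theorem L220764 : sm gb N24616 = N28481 := rfl
theorem L220766 : sm gc N28481 = N24621 := ded_13_2 (flp_b L191726) (flp_c L159693) (flp_b L159677) L191692 L220764
theorem L220768 : sm gf N28356 = N28481 := ded_20_0 L220766 L191730 L219820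
theorem L220770 : sm gf N24616 = N28482 := rfl
theorem L220772 : sm gc N28482 = N24618 := ded_20_1 (flp_f L191702) L191692 L220770
theorem L220774 : sm ge N28482 = N25373 := ded_25_1 (flp_f L197351) (flp_e L197025) L220770
theorem L220776 : sm gg N25371 = N28482 := ded_29_1 (flp_f L220770) (flp_g L197319) L197313 L197337
theorem L220778 : sm gf N24617 = N28483 := rfl
theorem L220780 : sm gc N28483 = N25373 := ded_20_1 (flp_f L197351) L197023 L220778
theorem L220782 : sm gd N28483 = N24994 := ded_23_1 (flp_f L194245) (flp_d L191698) L220778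
theorem L220784 : sm ge N28483 = N24618 := ded_25_1 (flp_f L191702) L191694 L220778
theorem L220786 : sm gg N28483 = N25370 := ded_29_3 (flp_a L197501) (flp_f L197499) L191700 L220778
theorem L220788 : sm gf N24619 = N28484 := rfl
theorem L220790 : sm ga N28484 = N28471 := ded_11_1 (flp_f L220682) (flp_a L191708) L220788
theorem L220792 : sm gd N28484 = N24620 := ded_23_1 (flp_f L191716) (flp_d L191710) L220788
theorem L220794 : sm ge N28484 = N25393 := ded_25_1 (flp_f L197499) (flp_e L191712) L220788
theorem L220796 : sm gg N28484 = N28480 := ded_29_3 L220758 (flp_f L191702) L191706 L220788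
theorem L220798 : sm ge N24621 = N28485 := rfl
theorem L220800 : sm gb N28485 = N24622 := ded_15_1 (flp_e L191732) L191726 L220798
theorem L220802 : sm gf N28485 = N28357 := ded_25_2 (flp_e L219822) (flp_f L191730) L220798
theorem L220804 : sm gf N24623 = N28486 := rfl
theorem L220806 : sm ga N28486 = N24626 := ded_11_1 (flp_f L191756) L191740 L220804
theorem L220808 : sm gg N27915 = N28486 := ded_29_1 (flp_f L220804) (flp_g L193887) (flp_a L193889) L216303
theorem L220810 : sm gf N24624 = N28487 := rfl
theorem L220812 : sm gc N28487 = N25888 := ded_20_1 (flp_f L200513) L191748 L220810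
theorem L220814 : sm gd N28487 = N24626 := ded_23_1 (flp_f L191756) L191742 L220810
theorem L220816 : sm ge N28487 = N26123 := ded_25_1 (flp_f L202146) L191750 L220810
theorem L220818 : sm gg N28487 = N25891 := ded_29_3 (flp_a L210873) (flp_f L210871) (flp_g L191746) L220810
theorem L220820 : sm gf N24625 = N28488 := rfl
theorem L220822 : sm ge N28488 = N24626 := ded_25_1 (flp_f L191756) L191752 L220820
theorem L220824 : sm gb N24626 = N28489 := rfl
theorem L220826 : sm gf N28489 = N24630 := ded_16_2 (flp_b L191778) (flp_f L159725) L159709 L191756 L220824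
theorem L220828 : sm gg N24626 = N28490 := rfl
theorem L220830 : sm ga N28490 = N27915 := ded_12_1 L220808 L220806 L220828
theorem L220832 : sm gc N28490 = N28486 := ded_21_1 (flp_g L220808) L216305 L220828
theorem L220834 : sm gd N28490 = N25891 := ded_24_1 (flp_g L220818) L220814 L220828
theorem L220836 : sm gf N24951 = N28490 := ded_29_0 (flp_g L220828) (flp_f L191756) (flp_g L187243) L193889
theorem L220838 : sm gb N24627 = N28491 := rfl
theorem L220840 : sm gd N28491 = N24630 := ded_14_2 (flp_b L191778) (flp_d L191764) L220838
theorem L220842 : sm gf N24628 = N28492 := rfl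
theorem L220844 : sm gc N28492 = N25299 := ded_20_1 L212239 L212233 L220842
theorem L220846 : sm gd N28492 = N24629 := ded_23_1 (flp_f L191772) L191768 L220842
theorem L220848 : sm gb N24629 = N28493 := rfl
theorem L220850 : sm ge N28493 = N24630 := ded_15_2 (flp_b L191778) (flp_e L191776) L220848
theorem L220852 : sm ga N24630 = N28494 := rfl
theorem L220854 : sm gc N24630 = N28495 := rfl
theorem L220856 : sm gb N28495 = N24633 := ded_13_1 (flp_c L191790) (flp_b L159735) (flp_c L159727) L191778 L220854
theorem L220858 : sm gg N24630 = N28496 := rfl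
theorem L220860 : sm ga N24631 = N28497 := rfl
theorem L220862 : sm gd N28497 = N24995 := ded_9_2 (flp_a L194251) (flp_d L191782) L220860
theorem L220864 : sm ge N28497 = N24632 := ded_10_2 (flp_a L191786) (flp_e L191784) L220860
theorem L220866 : sm gb N28497 = N27131 := ded_7_2 L210175 (flp_b L220536) L220534 L219890 (flp_a L192779) (flp_b L192771) L160468 L191780 L220860
theorem L220868 : sm gc N24631 = N28498 := rfl
theorem L220870 : sm ge N28498 = N24633 := ded_19_2 (flp_c L191790) (flp_e L191784) L220868
theorem L220872 : sm gd N24633 = N28498 := ded_28_1 (flp_c L220868) L191782 (flp_c L177232) L191810 (flp_c L191804) (flp_d L191788) (flp_a L191786) L191790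
theorem L220874 : sm gb N24632 = N28499 := rfl
theorem L220876 : sm gd N28499 = N24635 := ded_14_2 (flp_b L191796) (flp_d L191788) L220874
theorem L220878 : sm ge N28499 = N27131 := ded_15_2 (flp_b L220866) L220864 L220874
theorem L220880 : sm gf N25909 = N28499 := ded_23_0 L220876 (flp_f L191802) L200687
theorem L220882 : sm gc N24632 = N28500 := rfl
theorem L220884 : sm ga N28500 = N24633 := ded_8_1 (flp_c L191790) L191786 L220882
theorem L220886 : sm gg N24632 = N28501 := rfl
theorem L220888 : sm ga N28501 = N24634 := ded_12_1 (flp_g L191792) L191786 L220886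
theorem L220890 : sm gd N28501 = N24637 := ded_24_1 (flp_g L191814) (flp_d L191788) L220886
theorem L220892 : sm gf N28501 = N27922 := ded_29_2 (flp_g L216341) L216331 L216335 L220886
theorem L220894 : sm gg N24633 = N28502 := rfl
theorem L220896 : sm gc N28502 = N24634 := ded_21_1 (flp_g L191792) L191790 L220894
theorem L220898 : sm gf N24634 = N28503 := rfl
theorem L220900 : sm ga N28503 = N27922 := ded_11_1 (flp_f L220892) L220888 L220898
theorem L220902 : sm gd N28503 = N24639 := ded_23_1 (flp_f L191836) (flp_d L191794) L220898
theorem L220904 : sm gg N28503 = N27920 := ded_29_3 (flp_a L216331) L187265 L191792 L220898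
theorem L220906 : sm gb N24637 = N28504 := rfl
theorem L220908 : sm ge N28504 = N24996 := ded_15_2 (flp_b L194259) (flp_e L191820) L220906
theorem L220910 : sm gc N28504 = N25208 := ded_13_2 L196163 L165106 (flp_b L177001) (flp_c L191818) L220906
theorem L220912 : sm gf N28504 = N24879 := ded_16_2 L217194 (flp_f L217182) L187961 (flp_f L191822) L220906
theorem L220914 : sm gg N28504 = N28287 := ded_17_2 L219334 L210369 (flp_b L191796) L191814 L220906
theorem L220916 : sm ga N28504 = N24880 := ded_7_1 L193403 (flp_a L194623) (flp_b L204025) (flp_a L204041) L204049 L192683 L160412 (flp_a L191816) L220906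
theorem L220918 : sm gf N24638 = N28505 := rfl
theorem L220920 : sm ga N28505 = N26927 := ded_11_1 L208401 (flp_a L191826) L220918
theorem L220922 : sm gc N28505 = N24639 := ded_20_1 (flp_f L191836) (flp_c L191828) L220918
theorem L220924 : sm gd N28505 = N26938 := ded_23_1 L208537 (flp_d L191830) L220918
theorem L220926 : sm ge N28505 = N24997 := ded_25_1 (flp_f L194269) (flp_e L191832) L220918
theorem L220928 : sm gg N28505 = N27923 := ded_29_3 L216347 L187277 L191824 L220918
theorem L220930 : sm gd N24640 = N28506 := rfl
theorem L220932 : sm ga N28506 = N25324 := ded_9_1 (flp_d L197083) (flp_a L191846) L220930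
theorem L220934 : sm gf N28506 = N26331 := ded_23_2 L203601 (flp_f L191850) L220930
theorem L220936 : sm gg N28506 = N25325 := ded_24_2 (flp_d L197087) (flp_g L191852) L220930
theorem L220938 : sm ge N28506 = N26790 := ded_22_2 (flp_d L207231) (flp_e L175142) L163955 (flp_e L191848) L220930
theorem L220940 : sm gg N24641 = N28507 := rfl
theorem L220942 : sm ga N28507 = N26891 := ded_12_1 (flp_g L208092) L191858 L220940
theorem L220944 : sm gd N28507 = N26850 := ded_24_1 L207738 L196181 L220940
theorem L220946 : sm ge N28507 = N24998 := ded_26_1 (flp_g L194279) (flp_e L191856) L220940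
theorem L220948 : sm gf N28507 = N26849 := ded_29_2 L207726 (flp_a L203707) (flp_f L203713) L220940
theorem L220950 : sm gc N24642 = N28508 := rfl
theorem L220952 : sm ga N28508 = N24643 := ded_8_1 (flp_c L191868) (flp_a L191862) L220950
theorem L220954 : sm ge N28508 = N25018 := ded_19_2 L194466 (flp_e L191866) L220950
theorem L220956 : sm gf N28508 = N24651 := ded_20_2 (flp_c L191924) (flp_f L191864) L220950
theorem L220958 : sm gb N28508 = N25016 := ded_13_1 L194448 (flp_b L207752) L207744 (flp_b L196185) L220950
theorem L220960 : sm gd N28396 = N28508 := ded_28_1 (flp_c L220950) (flp_d L191860) (flp_c L159761) (flp_d L159361) L191157 L220096 L220098 L220102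
theorem L220962 : sm gd N24643 = N28509 := rfl
theorem L220964 : sm ga N28509 = N28396 := ded_9_1 L220960 L220952 L220962
theorem L220966 : sm gb N28509 = N27075 := ded_14_1 L209739 L191874 L220962
theorem L220968 : sm gf N28509 = N24654 := ded_23_2 (flp_d L191952) (flp_f L191872) L220962
theorem L220970 : sm gc N28395 = N28509 := ded_28_0 (flp_d L220962) (flp_c L191868) (flp_d L159769) (flp_c L110551) (flp_d L110375) L159367 L191165 (flp_a L220098)
theorem L220972 : sm gg N24643 = N28510 := rfl
theorem L220974 : sm gc N28510 = N24644 := ded_21_1 (flp_g L191876) L191868 L220972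
theorem L220976 : sm ge N28510 = N27144 := ded_26_1 (flp_g L210283) (flp_e L191870) L220972
theorem L220978 : sm gb N24644 = N28511 := rfl
theorem L220980 : sm gd N28511 = N24645 := ded_14_2 (flp_b L191880) (flp_d L191878) L220978
theorem L220982 : sm ge N28511 = N26559 := ded_15_2 (flp_b L208106) L208102 L220978
theorem L220984 : sm gg N28511 = N26941 := ded_17_2 L208558 L177220 L177025 L191876 L220978
theorem L220986 : sm ga N26556 = N28511 := ded_9_3 L220980 (flp_a L191888) L205236
theorem L220988 : sm gc N26555 = N28511 := ded_28_0 L220980 L191884 L186201 L188025 L217310 L217316 L200043 L205225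
theorem L220990 : sm gc N24647 = N28512 := rfl
theorem L220992 : sm gg N28512 = N25877 := ded_21_2 L200415 (flp_g L191900) L220990
theorem L220994 : sm gb N24648 = N28513 := rfl
theorem L220996 : sm gd N28513 = N28209 := ded_14_2 L218570 (flp_d L191904) L220994
theorem L220998 : sm ge N28513 = N25000 := ded_15_2 (flp_b L194309) (flp_e L191906) L220994
theorem L221000 : sm gg N28513 = N27937 := ded_17_2 (flp_b L216457) L187379 (flp_b L206665) L206671 L220994
theorem L221002 : sm gf N24648 = N28514 := rfl
theorem L221004 : sm ga N28514 = N24649 := ded_11_1 (flp_f L191908) L191902 L221002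
theorem L221006 : sm gc N28514 = N26573 := ded_20_1 L206681 L206677 L221002
theorem L221008 : sm gd N28514 = N28204 := ded_23_1 L218530 (flp_d L191904) L221002
theorem L221010 : sm ge N28514 = N25001 := ded_25_1 (flp_f L194315) (flp_e L191906) L221002
theorem L221012 : sm gg N28514 = N26287 := ded_29_3 (flp_a L203317) (flp_f L206669) L206671 L221002
theorem L221014 : sm gb N26284 = N28514 := ded_30_2 L221004 (flp_f L191908) (flp_c L191894) (flp_b L191890) (flp_a L168822) (flp_f L168820) (flp_c L116973) (flp_b L96068) (flp_a L96038) L96066 (flp_c L116937) L168774 L200071 L214906 L214902 (flp_b L193533) (flp_a L203289) (flp_f L203287) (flp_c L203283)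
theorem L221016 : sm gb N24650 = N28515 := rfl
theorem L221018 : sm gd N28515 = N28215 := ded_14_2 (flp_b L218618) (flp_d L191920) L221016
theorem L221020 : sm ge N28515 = N25002 := ded_15_2 (flp_b L194327) (flp_e L191922) L221016
theorem L221022 : sm gc N28515 = N25523 := ded_13_2 L198288 (flp_c L200443) (flp_b L206653) L206655 L221016
theorem L221024 : sm gf N28515 = N25542 := ded_16_2 L198394 L170730 L203307 (flp_f L203315) L221016
theorem L221026 : sm gg N28515 = N24653 := ded_17_2 (flp_b L191944) (flp_g L159793) L159785 L191918 L221016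
theorem L221028 : sm ga N28515 = N26824 := ded_7_1 L207527 (flp_a L209143) (flp_b L216353) L216347 L187279 (flp_a L187297) (flp_b L206665) L206663 L221016
theorem L221030 : sm gg N24651 = N28516 := rfl
theorem L221032 : sm ga N28516 = N24655 := ded_12_1 (flp_g L191960) (flp_a L191926) L221030
theorem L221034 : sm gc N28516 = N24652 := ded_21_1 (flp_g L191934) L191924 L221030
theorem L221036 : sm gd N28516 = N28409 := ded_24_1 (flp_g L220198) L191930 L221030
theorem L221038 : sm ge N28516 = N26609 := ded_26_1 L205719 (flp_e L191928) L221030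
theorem L221040 : sm gf N28516 = N28510 := ded_29_2 (flp_g L220972) (flp_a L220952) L220956 L221030
theorem L221042 : sm gf N24653 = N28517 := rfl
theorem L221044 : sm ga N28517 = N26823 := ded_11_1 (flp_f L207513) (flp_a L191950) L221042
theorem L221046 : sm gc N28517 = N25516 := ded_20_1 L198238 (flp_c L191948) L221042
theorem L221048 : sm ge N28517 = N25003 := ded_25_1 (flp_f L194339) (flp_e L191946) L221042
theorem L221050 : sm gb N28517 = N27857 := ded_16_1 (flp_f L215851) (flp_b L191880) (flp_f L159801) L191944 L221042
theorem L221052 : sm gg N24654 = N28518 := rfl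
theorem L221054 : sm ga N28518 = N28409 := ded_12_1 (flp_g L220198) (flp_a L191954) L221052
theorem L221056 : sm gc N28518 = N28407 := ded_21_1 (flp_g L220184) L191958 L221052
theorem L221058 : sm gd N28518 = N24655 := ded_24_1 (flp_g L191960) L191952 L221052
theorem L221060 : sm ge N28518 = N24911 := ded_26_1 (flp_g L210325) L210327 L221052
theorem L221062 : sm gb N28518 = N24909 := ded_17_1 (flp_g L193581) (flp_b L178641) (flp_g L179039) (flp_b L191956) L221052
theorem L221064 : sm gf N24655 = N28519 := rfl
theorem L221066 : sm ga N28519 = N28510 := ded_11_1 (flp_f L221040) L221032 L221064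
theorem L221068 : sm gc N28519 = N24657 := ded_20_1 (flp_f L191978) (flp_c L191962) L221064
theorem L221070 : sm ge N28519 = N26611 := ded_25_1 (flp_f L205733) (flp_e L191964) L221064
theorem L221072 : sm gg N28519 = N28508 := ded_29_3 L220952 L191872 L191960 L221064
theorem L221074 : sm gb N24657 = N28520 := rfl
theorem L221076 : sm gd N28520 = N24658 := ded_14_2 (flp_b L191986) (flp_d L191982) L221074
theorem L221078 : sm ga N28520 = N28520 := ded_7_1 (flp_b L221074) L191980 L220978 (flp_a L220986) L205235 L220986 (flp_b L220978) (flp_a L191980) L221074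
theorem L221079 : sm gg N24658 = N28521 := rfl
theorem L221081 : sm ga N28521 = N28521 := ded_12_1 (flp_g L221079) L191990 L221079
theorem L221082 : sm ge N28521 = N25005 := ded_26_1 (flp_g L194352) (flp_e L191988) L221079
theorem L221084 : sm gb N28521 = N28507 := ded_17_1 (flp_g L220940) (flp_b L191854) (flp_g L159821) L191986 L221079
theorem L221086 : sm gc N24660 = N28522 := rfl
theorem L221088 : sm ga N28522 = N24661 := ded_8_1 (flp_c L192007) L191999 L221086
theorem L221090 : sm ge N28522 = N25610 := ded_19_2 (flp_c L198835) (flp_e L192001) L221086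
theorem L221092 : sm gg N28522 = N25637 := ded_21_2 (flp_c L198992) (flp_g L192003) L221086
theorem L221094 : sm gd N24661 = N28523 := rfl
theorem L221096 : sm gb N28523 = N24663 := ded_14_1 (flp_d L192019) (flp_b L192011) L221094
theorem L221098 : sm ge N24663 = N28524 := rfl
theorem L221100 : sm gc N28524 = N27987 := ded_19_1 L216831 L192021 L221098
theorem L221102 : sm gf N28524 = N27986 := ded_25_2 (flp_e L216821) (flp_f L192023) L221098
theorem L221104 : sm gd N28524 = N25617 := ded_22_1 (flp_e L198871) (flp_d L167938) (flp_e L159877) L192019 L221098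
theorem L221106 : sm gb N24664 = N28525 := rfl
theorem L221108 : sm gd N28525 = N27985 := ded_14_2 (flp_b L216819) (flp_d L192029) L221106
theorem L221110 : sm ge N28525 = N25619 := ded_15_2 (flp_b L198877) (flp_e L192031) L221106
theorem L221112 : sm gc N28525 = N28370 := ded_13_2 (flp_b L219906) L191029 (flp_b L159887) (flp_c L192027) L221106
theorem L221114 : sm gg N24665 = N28526 := rfl
theorem L221116 : sm ga N28526 = N24668 := ded_12_1 (flp_g L192056) L192035 L221114
theorem L221118 : sm gc N28526 = N28526 := ded_21_1 (flp_g L221114) L192037 L221114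
theorem L221119 : sm gd N24666 = N28527 := rfl
theorem L221121 : sm ga N28527 = N24707 := ded_9_1 L192317 L192049 L221119
theorem L221123 : sm gb N28527 = N24669 := ded_14_1 (flp_d L192059) (flp_b L192042) L221119
theorem L221125 : sm gf N28527 = N24705 := ded_23_2 L192305 L192045 L221119
theorem L221127 : sm gc N27309 = N28527 := ded_28_4 (flp_d L221119) L192044 L221119 L221121 L192315 L181257 (flp_c L181167) (flp_d L211599)
theorem L221129 : sm gg N24666 = N28528 := rfl
theorem L221131 : sm gc N28528 = N28528 := ded_21_1 (flp_g L221129) L192044 L221129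
theorem L221132 : sm ge N28528 = N24668 := ded_26_1 (flp_g L192056) L192040 L221129
theorem L221134 : sm gf N24668 = N28528 := ded_29_0 (flp_g L221129) (flp_f L192045) L221114 L221116
theorem L221136 : sm gg N24667 = N28529 := rfl
theorem L221138 : sm ga N28529 = N28528 := ded_12_1 (flp_g L221129) (flp_a L192049) L221136
theorem L221140 : sm gc N28529 = N28529 := ded_21_1 (flp_g L221136) L192051 L221136
theorem L221141 : sm ge N28529 = N28526 := ded_26_1 (flp_g L221114) (flp_e L192052) L221136
theorem L221143 : sm gf N28526 = N28529 := ded_29_0 (flp_g L221136) (flp_f L192047) L192056 (flp_a L221116)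
theorem L221145 : sm gb N24668 = N28530 := rfl
theorem L221147 : sm gg N28530 = N24671 := ded_17_2 (flp_b L192071) (flp_g L159896) L159889 L192056 L221145
theorem L221149 : sm gg N24669 = N28531 := rfl
theorem L221151 : sm gc N28531 = N27313 := ded_21_1 (flp_g L211625) (flp_c L192063) L221149
theorem L221153 : sm gd N28531 = N24670 := ded_24_1 (flp_g L192065) L192059 L221149
theorem L221155 : sm gb N24670 = N28532 := rfl
theorem L221157 : sm ge N28532 = N24671 := ded_15_2 (flp_b L192071) (flp_e L192069) L221155
theorem L221159 : sm ga N24671 = N28533 := rfl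
theorem L221161 : sm gc N24671 = N28534 := rfl
theorem L221163 : sm gb N28534 = N24673 := ded_13_1 (flp_c L192082) (flp_b L159906) (flp_c L159898) L192071 L221161
theorem L221165 : sm gf N24671 = N28535 := rfl
theorem L221167 : sm gc N24672 = N28536 := rfl
theorem L221169 : sm ga N28536 = N25628 := ded_8_1 (flp_c L198952) L192080 L221167
theorem L221171 : sm ge N28536 = N24673 := ded_19_2 (flp_c L192082) (flp_e L192077) L221167
theorem L221173 : sm gg N28536 = N28536 := ded_21_2 (flp_c L221167) L192079 L221167
theorem L221174 : sm gf N24672 = N28537 := rfl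
theorem L221176 : sm ga N28537 = N25629 := ded_11_1 (flp_f L198957) L192080 L221174
theorem L221178 : sm gd N28537 = N25629 := ded_23_1 (flp_f L198957) (flp_d L192075) L221174
theorem L221180 : sm ge N28537 = N24674 := ded_25_1 (flp_f L192087) (flp_e L192077) L221174
theorem L221182 : sm gg N28537 = N25629 := ded_29_3 (flp_a L221176) (flp_f L221174) L192079 L221174
theorem L221184 : sm gd N24673 = N28538 := rfl
theorem L221186 : sm ga N28538 = N25630 := ded_9_1 (flp_d L198963) (flp_a L192084) L221184
theorem L221188 : sm gg N28538 = N28538 := ded_24_2 (flp_d L221184) L192086 L221184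
theorem L221189 : sm gf N24673 = N28539 := rfl
theorem L221191 : sm ga N28539 = N25631 := ded_11_1 (flp_f L198966) (flp_a L192084) L221189
theorem L221193 : sm gc N28539 = N24674 := ded_20_1 (flp_f L192087) L192082 L221189
theorem L221195 : sm gg N28539 = N25631 := ded_29_3 (flp_a L221191) (flp_f L221189) L192086 L221189
theorem L221197 : sm gb N24674 = N28540 := rfl
theorem L221199 : sm gd N28540 = N24676 := ded_14_2 (flp_b L192099) (flp_d L192091) L221197
theorem L221201 : sm gf N28540 = N24675 := ded_16_2 (flp_b L192095) (flp_f L159911) L159906 L192087 L221197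
theorem L221203 : sm gg N28540 = N25608 := ded_17_2 L199014 (flp_g L199004) (flp_b L168078) (flp_g L192093) L221197
theorem L221205 : sm ga N28540 = N25421 := ded_7_1 (flp_b L197707) (flp_a L167114) (flp_b L115850) (flp_a L95858) L116547 L168024 (flp_b L168078) (flp_a L192089) L221197
theorem L221207 : sm ga N24675 = N28541 := rfl
theorem L221209 : sm gd N28541 = N24677 := ded_9_2 (flp_a L192109) (flp_d L192097) L221207
theorem L221211 : sm ge N28541 = N28540 := ded_10_2 L221205 L197711 L221207
theorem L221213 : sm gf N28541 = N25421 := ded_11_2 (flp_a L221205) L221201 L221207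
theorem L221215 : sm gb N28541 = N28537 := ded_7_2 L221176 L198961 (flp_a L192109) (flp_b L159928) L110653 (flp_b L159235) (flp_a L159913) L192095 L221207
theorem L221217 : sm gc N24675 = N28542 := rfl
theorem L221219 : sm gc N24676 = N28543 := rfl
theorem L221221 : sm ga N28543 = N25607 := ded_8_1 (flp_c L198825) (flp_a L192107) L221219
theorem L221223 : sm ge N28543 = N25637 := ded_19_2 (flp_c L198992) (flp_e L192101) L221219
theorem L221225 : sm gf N28543 = N24678 := ded_20_2 (flp_c L192115) (flp_f L192103) L221219
theorem L221227 : sm gg N28543 = N25610 := ded_21_2 (flp_c L198835) (flp_g L192105) L221219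
theorem L221229 : sm gc N24677 = N28544 := rfl
theorem L221231 : sm ga N28544 = N24678 := ded_8_1 (flp_c L192115) L192109 L221229
theorem L221233 : sm ge N28544 = N25638 := ded_19_2 (flp_c L198998) (flp_e L192111) L221229
theorem L221235 : sm gf N28544 = N25607 := ded_20_2 (flp_c L198825) (flp_f L192113) L221229
theorem L221237 : sm gb N24679 = N28545 := rfl
theorem L221239 : sm ge N28545 = N25669 := ded_15_2 (flp_b L199148) (flp_e L192125) L221237
theorem L221241 : sm gc N28545 = N28362 := ded_13_2 (flp_b L219854) L190951 (flp_b L159950) (flp_c L192123) L221237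
theorem L221243 : sm gf N24679 = N28546 := rfl
theorem L221245 : sm ga N28546 = N25811 := ded_11_1 (flp_f L199983) L197853 L221243
theorem L221247 : sm gc N28546 = N24680 := ded_20_1 (flp_f L192127) (flp_c L192123) L221243
theorem L221249 : sm gd N28546 = N27218 := ded_23_1 (flp_f L210917) L210915 L221243
theorem L221251 : sm ge N28546 = N25670 := ded_25_1 (flp_f L199152) (flp_e L192125) L221243
theorem L221253 : sm gg N28546 = N25809 := ded_29_3 L199961 L168696 L192121 L221243
theorem L221255 : sm gc N24682 = N28547 := rfl
theorem L221257 : sm ga N28547 = N24683 := ded_8_1 (flp_c L192153) L192145 L221255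
theorem L221259 : sm ge N28547 = N25716 := ded_19_2 (flp_c L199397) (flp_e L192147) L221255
theorem L221261 : sm gf N28547 = N25742 := ded_20_2 (flp_c L199558) (flp_f L192149) L221255
theorem L221263 : sm gd N24683 = N28548 := rfl
theorem L221265 : sm gb N28548 = N24685 := ded_14_1 (flp_d L192165) (flp_b L192157) L221263
theorem L221267 : sm ge N24685 = N28549 := rfl
theorem L221269 : sm gc N28549 = N28058 := ded_19_1 L217402 L192167 L221267
theorem L221271 : sm gg N28549 = N28057 := ded_26_2 (flp_e L217392) (flp_g L192169) L221267
theorem L221273 : sm gd N28549 = N25722 := ded_22_1 (flp_e L199423) (flp_d L168362) (flp_e L160006) L192165 L221267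
theorem L221275 : sm gb N24686 = N28550 := rfl
theorem L221277 : sm gd N28550 = N28056 := ded_14_2 (flp_b L217384) (flp_d L192175) L221275
theorem L221279 : sm ge N28550 = N25724 := ded_15_2 (flp_b L199429) (flp_e L192177) L221275
theorem L221281 : sm gc N28550 = N28399 := ded_13_2 (flp_b L220122) L191173 (flp_b L160016) (flp_c L192173) L221275
theorem L221283 : sm gf N24687 = N28551 := rfl
theorem L221285 : sm ga N28551 = N24689 := ded_11_1 (flp_f L192193) L192181 L221283
theorem L221287 : sm gc N28551 = N28551 := ded_20_1 (flp_f L221283) L192183 L221283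
theorem L221288 : sm gd N24688 = N28552 := rfl
theorem L221290 : sm ga N28552 = N24757 := ded_9_1 L192633 L192198 L221288
theorem L221292 : sm gb N28552 = N24691 := ded_14_1 (flp_d L192205) (flp_b L192188) L221288
theorem L221294 : sm gg N28552 = N24754 := ded_24_2 L192615 L192191 L221288
theorem L221296 : sm gc N27401 = N28552 := ded_28_4 (flp_d L221288) L192190 L221288 L221290 L192631 L181779 (flp_c L181697) (flp_d L212273)
theorem L221298 : sm gf N24688 = N28553 := rfl
theorem L221300 : sm gc N28553 = N28553 := ded_20_1 (flp_f L221298) L192190 L221298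
theorem L221301 : sm ge N28553 = N24689 := ded_25_1 (flp_f L192193) L192186 L221298
theorem L221303 : sm gg N28553 = N24689 := ded_29_3 (flp_a L221285) (flp_f L221283) L192191 L221298
theorem L221305 : sm gb N24689 = N28554 := rfl
theorem L221307 : sm gf N28554 = N24693 := ded_16_2 (flp_b L192217) (flp_f L160025) L160018 L192193 L221305
theorem L221309 : sm gf N24690 = N28555 := rfl
theorem L221311 : sm ga N28555 = N28553 := ded_11_1 (flp_f L221298) (flp_a L192198) L221309
theorem L221313 : sm gc N28555 = N28555 := ded_20_1 (flp_f L221309) L192200 L221309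
theorem L221314 : sm ge N28555 = N28551 := ded_25_1 (flp_f L221283) (flp_e L192201) L221309
theorem L221316 : sm gg N28555 = N28551 := ded_29_3 L221285 (flp_f L192193) L192196 L221309
theorem L221318 : sm gf N24691 = N28556 := rfl
theorem L221320 : sm gc N28556 = N27406 := ded_20_1 (flp_f L212303) (flp_c L192209) L221318
theorem L221322 : sm gd N28556 = N24692 := ded_23_1 (flp_f L192211) L192205 L221318
theorem L221324 : sm gb N24692 = N28557 := rfl
theorem L221326 : sm ge N28557 = N24693 := ded_15_2 (flp_b L192217) (flp_e L192215) L221324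
theorem L221328 : sm ga N24693 = N28558 := rfl
theorem L221330 : sm gc N24693 = N28559 := rfl
theorem L221332 : sm gb N28559 = N24695 := ded_13_1 (flp_c L192228) (flp_b L160035) (flp_c L160027) L192217 L221330
theorem L221334 : sm gg N24693 = N28560 := rfl
theorem L221336 : sm gc N24694 = N28561 := rfl
theorem L221338 : sm ga N28561 = N25733 := ded_8_1 (flp_c L199506) L192226 L221336
theorem L221340 : sm ge N28561 = N24695 := ded_19_2 (flp_c L192228) (flp_e L192223) L221336
theorem L221342 : sm gf N28561 = N28561 := ded_20_2 (flp_c L221336) L192225 L221336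
theorem L221343 : sm gg N24694 = N28562 := rfl
theorem L221345 : sm ga N28562 = N25734 := ded_12_1 (flp_g L199511) L192226 L221343
theorem L221347 : sm gd N28562 = N25734 := ded_24_1 (flp_g L199511) (flp_d L192221) L221343
theorem L221349 : sm ge N28562 = N24696 := ded_26_1 (flp_g L192233) (flp_e L192223) L221343
theorem L221351 : sm gf N25734 = N28562 := ded_29_0 (flp_g L221343) L192225 L221343 L221345
theorem L221353 : sm gd N24695 = N28563 := rfl
theorem L221355 : sm ga N28563 = N25735 := ded_9_1 (flp_d L199517) (flp_a L192230) L221353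
theorem L221357 : sm gf N28563 = N28563 := ded_23_2 (flp_d L221353) L192232 L221353
theorem L221358 : sm gg N24695 = N28564 := rfl
theorem L221360 : sm ga N28564 = N25736 := ded_12_1 (flp_g L199520) (flp_a L192230) L221358
theorem L221362 : sm gc N28564 = N24696 := ded_21_1 (flp_g L192233) L192228 L221358
theorem L221364 : sm gf N25736 = N28564 := ded_29_0 (flp_g L221358) L192232 L221358 L221360
theorem L221366 : sm gb N24696 = N28565 := rfl
theorem L221368 : sm gd N28565 = N24698 := ded_14_2 (flp_b L192245) (flp_d L192237) L221366
theorem L221370 : sm gf N28565 = N25714 := ded_16_2 L199580 (flp_f L199570) L168460 L192239 L221366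
theorem L221372 : sm gg N28565 = N24697 := ded_17_2 (flp_b L192241) (flp_g L160042) L160035 L192233 L221366
theorem L221374 : sm ga N28565 = N25455 := ded_7_1 (flp_b L197887) (flp_a L167252) (flp_b L115932) (flp_a L95959) L116745 L168438 L168460 (flp_a L192235) L221366
theorem L221376 : sm ga N24697 = N28566 := rfl
theorem L221378 : sm gd N28566 = N24699 := ded_9_2 (flp_a L192255) (flp_d L192243) L221376
theorem L221380 : sm ge N28566 = N28565 := ded_10_2 L221374 L197891 L221376
theorem L221382 : sm gg N28566 = N25455 := ded_12_2 (flp_a L221374) L221372 L221376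
theorem L221384 : sm gb N28566 = N28562 := ded_7_2 L221345 L199515 (flp_a L192255) (flp_b L160058) L110721 (flp_b L167044) (flp_a L160044) L192241 L221376
theorem L221386 : sm gc N24697 = N28567 := rfl
theorem L221388 : sm gc N24698 = N28568 := rfl
theorem L221390 : sm ga N28568 = N25712 := ded_8_1 (flp_c L199377) (flp_a L192253) L221388
theorem L221392 : sm ge N28568 = N25742 := ded_19_2 (flp_c L199558) (flp_e L192247) L221388
theorem L221394 : sm gf N28568 = N25716 := ded_20_2 (flp_c L199397) (flp_f L192249) L221388
theorem L221396 : sm gg N28568 = N24700 := ded_21_2 (flp_c L192261) (flp_g L192251) L221388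
theorem L221398 : sm gc N24699 = N28569 := rfl
theorem L221400 : sm ga N28569 = N24700 := ded_8_1 (flp_c L192261) L192255 L221398
theorem L221402 : sm ge N28569 = N25743 := ded_19_2 (flp_c L199564) (flp_e L192257) L221398
theorem L221404 : sm gg N28569 = N25712 := ded_21_2 (flp_c L199377) (flp_g L192259) L221398
theorem L221406 : sm gb N24701 = N28570 := rfl
theorem L221408 : sm ge N28570 = N25773 := ded_15_2 (flp_b L199744) (flp_e L192271) L221406
theorem L221410 : sm gc N28570 = N28390 := ded_13_2 (flp_b L220062) L191089 (flp_b L160080) (flp_c L192269) L221406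
theorem L221412 : sm gg N24701 = N28571 := rfl
theorem L221414 : sm ga N28571 = N25707 := ded_12_1 L199341 L198033 L221412
theorem L221416 : sm gc N28571 = N24702 := ded_21_1 (flp_g L192273) (flp_c L192269) L221412
theorem L221418 : sm gd N28571 = N27206 := ded_24_1 L210833 L210831 L221412
theorem L221420 : sm ge N28571 = N25774 := ded_26_1 (flp_g L199748) (flp_e L192271) L221412
theorem L221422 : sm gf N25705 = N28571 := ded_29_0 (flp_g L221412) (flp_f L192267) (flp_g L168266) (flp_a L199323)
theorem L221424 : sm gf N24703 = N28572 := rfl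
theorem L221426 : sm ga N28572 = N27959 := ded_11_1 (flp_f L216635) L192291 L221424
theorem L221428 : sm gd N28572 = N24704 := ded_23_1 (flp_f L192293) (flp_d L192287) L221424
theorem L221430 : sm gg N24705 = N28573 := rfl
theorem L221432 : sm ga N28573 = N24708 := ded_12_1 (flp_g L192319) L192301 L221430
theorem L221434 : sm gc N28573 = N27310 := ded_21_1 (flp_g L211601) (flp_c L192303) L221430
theorem L221436 : sm gd N28573 = N28526 := ded_24_1 (flp_g L221114) (flp_d L192305) L221430
theorem L221438 : sm gd N24706 = N28574 := rfl
theorem L221440 : sm ga N28574 = N27882 := ded_9_1 L216073 L215719 L221438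
theorem L221442 : sm gb N28574 = N24709 := ded_14_1 (flp_d L192325) (flp_b L192309) L221438
theorem L221444 : sm gf N28574 = N27842 := ded_23_2 (flp_d L216073) L216071 L221438
theorem L221446 : sm ge N28574 = N28527 := ded_22_2 (flp_d L221119) (flp_e L192040) (flp_d L160124) L192307 L221438
theorem L221448 : sm gc N27840 = N28574 := ded_28_0 (flp_d L221438) L192311 L181253 L151944 L152728 (flp_c L155828) L187019 (flp_a L215699)
theorem L221450 : sm gg N24706 = N28575 := rfl
theorem L221452 : sm gc N28575 = N27321 := ded_21_1 (flp_g L211691) (flp_c L192311) L221450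
theorem L221454 : sm ge N28575 = N24708 := ded_26_1 (flp_g L192319) L192307 L221450
theorem L221456 : sm gg N24707 = N28576 := rfl
theorem L221458 : sm gc N28576 = N27322 := ded_21_1 (flp_g L211697) (flp_c L192315) L221456
theorem L221460 : sm gd N28576 = N28529 := ded_24_1 (flp_g L221136) (flp_d L192317) L221456
theorem L221462 : sm gf N28573 = N28576 := ded_29_0 (flp_g L221456) (flp_f L192313) L192319 (flp_a L221432)
theorem L221464 : sm gb N24708 = N28577 := rfl
theorem L221466 : sm gd N28577 = N28530 := ded_14_2 (flp_b L221145) (flp_d L192323) L221464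
theorem L221468 : sm gg N28577 = N24711 := ded_17_2 (flp_b L192341) (flp_g L160134) L160122 L192319 L221464
theorem L221470 : sm gf N24708 = N28578 := rfl
theorem L221472 : sm ga N28578 = N28576 := ded_11_1 (flp_f L221462) L221432 L221470
theorem L221474 : sm gc N28578 = N27324 := ded_20_1 (flp_f L211709) (flp_c L192321) L221470
theorem L221476 : sm gd N28578 = N28528 := ded_23_1 (flp_f L221134) (flp_d L192323) L221470
theorem L221478 : sm gg N28578 = N28527 := ded_29_3 L221121 (flp_f L192313) L192319 L221470
theorem L221480 : sm gg N24709 = N28579 := rfl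
theorem L221482 : sm ga N28579 = N24723 := ded_12_1 (flp_g L192421) (flp_a L192327) L221480
theorem L221484 : sm gd N28579 = N24710 := ded_24_1 (flp_g L192331) L192325 L221480
theorem L221486 : sm ge N28579 = N28531 := ded_26_1 (flp_g L221149) (flp_e L192329) L221480
theorem L221488 : sm gf N28579 = N28438 := ded_29_2 (flp_g L220412) (flp_a L211609) L211613 L221480
theorem L221490 : sm gb N24710 = N28580 := rfl
theorem L221492 : sm ge N28580 = N24711 := ded_15_2 (flp_b L192341) (flp_e L192337) L221490
theorem L221494 : sm ga N24711 = N28581 := rfl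
theorem L221496 : sm gd N28581 = N28533 := ded_9_2 (flp_a L221159) (flp_d L192343) L221494
theorem L221498 : sm gc N24711 = N28582 := rfl
theorem L221500 : sm gb N28582 = N24714 := ded_13_1 (flp_c L192357) (flp_b L160154) (flp_c L160138) L192341 L221498
theorem L221502 : sm gf N24711 = N28583 := rfl
theorem L221504 : sm gd N28583 = N28535 := ded_23_1 (flp_f L221165) (flp_d L192343) L221502
theorem L221506 : sm gb N28583 = N28442 := ded_16_1 (flp_f L220428) (flp_b L191397) (flp_f L160142) L192341 L221502
theorem L221508 : sm ga N24712 = N28584 := rfl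
theorem L221510 : sm gd N28584 = N25007 := ded_9_2 (flp_a L194366) (flp_d L192347) L221508
theorem L221512 : sm ge N28584 = N24713 := ded_10_2 (flp_a L192351) (flp_e L192349) L221508
theorem L221514 : sm gg N28584 = N27958 := ded_12_2 L216625 L213830 L221508
theorem L221516 : sm gf N24712 = N28585 := rfl
theorem L221518 : sm gc N28585 = N24764 := ded_20_1 (flp_f L217216) L217210 L221516
theorem L221520 : sm gd N28585 = N25009 := ded_23_1 (flp_f L194378) (flp_d L192347) L221516
theorem L221522 : sm ge N28585 = N24715 := ded_25_1 (flp_f L192359) (flp_e L192349) L221516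
theorem L221524 : sm gg N24763 = N28585 := ded_29_1 (flp_f L221516) (flp_g L213830) (flp_a L216625) (flp_f L216633)
theorem L221526 : sm gb N28585 = N26964 := ded_16_1 L208777 (flp_b L191399) (flp_f L160152) L192345 L221516
theorem L221528 : sm gb N24713 = N28586 := rfl
theorem L221530 : sm gd N28586 = N24716 := ded_14_2 (flp_b L192365) (flp_d L192353) L221528
theorem L221532 : sm gc N24713 = N28587 := rfl
theorem L221534 : sm ga N28587 = N24714 := ded_8_1 (flp_c L192357) L192351 L221532
theorem L221536 : sm gg N28587 = N27672 := ded_21_2 (flp_c L214137) (flp_g L192355) L221532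
theorem L221538 : sm gd N28587 = N27598 := ded_28_7 (flp_a L218872) L218874 (flp_d L200749) L200753 L187393 L160164 (flp_d L192353) L221532
theorem L221540 : sm gb N27581 = N28587 := ded_17_5 L221536 (flp_b L214129) (flp_g L183028) (flp_b L182667) L213497
theorem L221542 : sm gf N24713 = N28588 := rfl
theorem L221544 : sm ga N28588 = N24715 := ded_11_1 (flp_f L192359) L192351 L221542
theorem L221546 : sm gd N28588 = N24717 := ded_23_1 (flp_f L192371) (flp_d L192353) L221542
theorem L221548 : sm gg N28588 = N28572 := ded_29_3 L221426 (flp_f L216635) (flp_g L192355) L221542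
theorem L221550 : sm gf N24714 = N28589 := rfl
theorem L221552 : sm gc N28589 = N24715 := ded_20_1 (flp_f L192359) L192357 L221550
theorem L221554 : sm gd N28589 = N25030 := ded_23_1 (flp_f L218880) L218876 L221550
theorem L221556 : sm ge N28589 = N24764 := ded_25_1 (flp_f L217216) L217214 L221550
theorem L221558 : sm gg N24761 = N28589 := ded_29_1 (flp_f L221550) L217206 L217198 L214135
theorem L221560 : sm gb N28589 = N26946 := ded_31_2 L208604 (flp_f L216329) (flp_b L216323) L187941 (flp_f L187933) L156595 L144499 L145080 L181813 L212417 L216607 (flp_b L217200) (flp_g L217206) L221550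
theorem L221562 : sm gd N24718 = N28590 := rfl
theorem L221564 : sm ga N28590 = N25296 := ded_9_1 L196907 (flp_a L192383) L221562
theorem L221566 : sm gb N28590 = N28066 := ded_14_1 L217478 (flp_b L192391) L221562
theorem L221568 : sm gf N28590 = N25294 := ded_23_2 (flp_d L196893) (flp_f L192387) L221562
theorem L221570 : sm gg N28590 = N28293 := ded_24_2 L219398 (flp_g L192389) L221562
theorem L221572 : sm gc N25868 = N28590 := ded_28_0 (flp_d L221562) (flp_c L192381) (flp_d L180553) L180551 L177773 (flp_c L190635) (flp_d L219398) L219394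
theorem L221574 : sm gg N24719 = N28591 := rfl
theorem L221576 : sm ga N28591 = N28531 := ded_12_1 (flp_g L221149) (flp_a L192395) L221574
theorem L221578 : sm gc N28591 = N27315 := ded_21_1 L211641 L211577 L221574
theorem L221580 : sm gd N28591 = N24720 := ded_24_1 (flp_g L192401) L192393 L221574
theorem L221582 : sm ge N28591 = N24723 := ded_26_1 (flp_g L192421) (flp_e L192399) L221574
theorem L221584 : sm gf N28591 = N25423 := ded_29_2 L197729 L193553 (flp_f L193555) L221574
theorem L221586 : sm gb N24720 = N28592 := rfl
theorem L221588 : sm ge N28592 = N24721 := ded_15_2 (flp_b L192411) (flp_e L192407) L221586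
theorem L221590 : sm gf N28592 = N25431 := ded_16_2 (flp_b L197767) (flp_f L167150) (flp_b L167126) (flp_f L192409) L221586
theorem L221592 : sm gg N28592 = N28362 := ded_17_2 (flp_b L219854) (flp_g L190949) (flp_b L160198) L192401 L221586
theorem L221594 : sm ga N24721 = N28593 := rfl
theorem L221596 : sm gd N28593 = N24726 := ded_9_2 (flp_a L192439) (flp_d L192413) L221594
theorem L221598 : sm gc N24721 = N28594 := rfl
theorem L221600 : sm gf N28594 = N28525 := ded_20_2 L221112 L219912 L221598
theorem L221602 : sm gg N28594 = N25669 := ded_21_2 L199150 L197691 L221598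
theorem L221604 : sm gb N28594 = N25641 := ded_13_1 L199022 L168036 (flp_c L160206) L192411 L221598
theorem L221606 : sm gg N24722 = N28595 := rfl
theorem L221608 : sm gc N28595 = N24723 := ded_21_1 (flp_g L192421) L192415 L221606
theorem L221610 : sm gd N28595 = N24811 := ded_24_1 (flp_g L192987) (flp_d L192417) L221606
theorem L221612 : sm ge N28595 = N27315 := ded_26_1 L211641 L211581 L221606
theorem L221614 : sm gf N27312 = N28595 := ded_29_0 (flp_g L221606) L211569 (flp_g L211571) (flp_a L211619)
theorem L221616 : sm gb N24723 = N28596 := rfl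
theorem L221618 : sm gd N28596 = N24724 := ded_14_2 (flp_b L192425) (flp_d L192423) L221616
theorem L221620 : sm gf N24723 = N28597 := rfl
theorem L221622 : sm ga N28597 = N28438 := ded_11_1 (flp_f L221488) L221482 L221620
theorem L221624 : sm gc N28597 = N27312 := ded_20_1 L221614 L221608 L221620
theorem L221626 : sm gd N28597 = N24725 := ded_23_1 (flp_f L192429) (flp_d L192423) L221620
theorem L221628 : sm ge N28597 = N25423 := ded_25_1 (flp_f L221584) L221582 L221620
theorem L221630 : sm gg N28597 = N27311 := ded_29_3 L211609 L191389 L192421 L221620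
theorem L221632 : sm gb N25429 = N28597 := ded_14_3 L221626 (flp_b L219894) L219898
theorem L221634 : sm ga N24724 = N28598 := rfl
theorem L221636 : sm ge N28598 = N24726 := ded_10_2 (flp_a L192439) (flp_e L192427) L221634
theorem L221638 : sm gc N24724 = N28599 := rfl
theorem L221640 : sm ge N28599 = N24727 := ded_19_2 (flp_c L192441) (flp_e L192427) L221638
theorem L221642 : sm gb N28599 = N24730 := ded_13_1 (flp_c L192455) (flp_b L160228) (flp_c L160214) L192425 L221638
theorem L221644 : sm gf N24724 = N28600 := rfl
theorem L221646 : sm ge N28600 = N24728 := ded_25_1 (flp_f L192445) (flp_e L192427) L221644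
theorem L221648 : sm gb N24726 = N28601 := rfl
theorem L221650 : sm gc N24726 = N28602 := rfl
theorem L221652 : sm ga N28602 = N24727 := ded_8_1 (flp_c L192441) L192439 L221650
theorem L221654 : sm gf N24726 = N28603 := rfl
theorem L221656 : sm ga N28603 = N24728 := ded_11_1 (flp_f L192445) L192439 L221654
theorem L221658 : sm gg N27965 = N28603 := ded_29_1 (flp_f L221654) (flp_g L216671) (flp_a L216669) L216673
theorem L221660 : sm gd N24727 = N28604 := rfl
theorem L221662 : sm gb N28604 = N24734 := ded_14_1 (flp_d L192477) (flp_b L192443) L221660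
theorem L221664 : sm gf N24727 = N28605 := rfl
theorem L221666 : sm gc N28605 = N24728 := ded_20_1 (flp_f L192445) L192441 L221664
theorem L221668 : sm gd N25669 = N28605 := ded_32_16 L221666 (flp_d L219908) (flp_c L221112) (flp_b L221106) L192029 (flp_c L187703) (flp_d L156422) (flp_c L108091) (flp_b L91419) L43396 (flp_d L44135) (flp_c L91864) (flp_d L108989) L119421 (flp_b L152248) L129325 L152564 (flp_d L158265) (flp_c L158261) L157769 (flp_d L153525) L153524 L153525 (flp_c L157157) (flp_b L157913) (flp_d L183487) (flp_c L183507) L189275 (flp_c L189267) L172543 (flp_d L205289) (flp_c L208564) L208566 L186543 (flp_b L186531) L155358 L107551 L91188 (flp_d L107551) L120501 L165889 L165891 L185435 (flp_d L195940) (flp_c L208387) (flp_b L208383) (flp_d L194275) L194273 (flp_d L177160) (flp_c L177156) (flp_b L164089) L164087 L113166 (flp_d L113120) (flp_c L143411) (flp_b L105183) (flp_d L89815) (flp_c L151520) (flp_d L105141) (flp_c L89732) (flp_b L39631) (flp_e L38752) (flp_d L89144) (flp_c L103991) L103993 (flp_c L110793) L160112 (flp_d L192287) (flp_c L217202) L217204 L201119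 (flp_b L201111) L169391 L117339 (flp_d L116581) (flp_c L168166) L199148
theorem L221670 : sm gc N27964 = N27985 := ded_28_0 (flp_d L221108) L221112 L219908 (flp_c L221666) (flp_d L221668) L199150 L197689 L216669
theorem L221672 : sm ga N27985 = N26342 := ded_28_8 L203665 (flp_d L197689) (flp_c L199150) L221668 L221666 (flp_d L219908) (flp_c L221112) L221108
theorem L221674 : sm gb N28605 = N25668 := ded_14_1 L199146 L199148 L221668
theorem L221676 : sm gf N28604 = N25669 := ded_23_0 L221668 (flp_f L221664) L221660
theorem L221678 : sm gg N27985 = N28602 := ded_21_2 (flp_c L221650) (flp_g L216671) L221670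
theorem L221680 : sm gb N26307 = N27964 := ded_13_5 L221670 (flp_b L216819) (flp_c L187703) (flp_b L170883) (flp_c L203445)
theorem L221682 : sm gb N28602 = N28006 := ded_17_1 (flp_g L217002) (flp_b L187853) (flp_g L187705) L216819 L221678
theorem L221684 : sm gg N28601 = N26303 := ded_17_4 (flp_b L203429) L203443 L221680 L216671 L221648
theorem L221686 : sm gc N26315 = N28601 := ded_13_4 (flp_b L221648) L221650 L221682 L217004 (flp_b L203493)
theorem L221688 : sm gg N24728 = N28606 := rfl
theorem L221690 : sm ga N28606 = N27965 := ded_12_1 L221658 L221656 L221688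
theorem L221692 : sm gf N27964 = N28606 := ded_29_0 (flp_g L221688) (flp_f L192445) (flp_g L187639) L216669
theorem L221694 : sm gb N24729 = N28607 := rfl
theorem L221696 : sm gd N28607 = N25015 := ded_14_2 (flp_b L194438) (flp_d L192449) L221694
theorem L221698 : sm ge N28607 = N24732 := ded_15_2 (flp_b L192467) (flp_e L192451) L221694
theorem L221700 : sm gf N27319 = N28607 := ded_23_0 L221696 (flp_f L194444) L211673
theorem L221702 : sm gc N24729 = N28608 := rfl
theorem L221704 : sm ga N28608 = N24730 := ded_8_1 (flp_c L192455) L192447 L221702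
theorem L221706 : sm ge N28608 = N24733 := ded_19_2 (flp_c L192471) (flp_e L192451) L221702
theorem L221708 : sm gg N28608 = N24833 := ded_21_2 (flp_c L193115) (flp_g L192453) L221702
theorem L221710 : sm gd N24730 = N28609 := rfl
theorem L221712 : sm gg N28609 = N24834 := ded_24_2 (flp_d L193121) (flp_g L192459) L221710
theorem L221714 : sm gg N24731 = N28610 := rfl
theorem L221716 : sm gd N28610 = N25017 := ded_24_1 (flp_g L194454) (flp_d L192463) L221714
theorem L221718 : sm ge N28610 = N24739 := ded_26_1 (flp_g L192497) (flp_e L192465) L221714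
theorem L221720 : sm gb N28610 = N28429 := ded_17_1 (flp_g L220348) L191313 (flp_g L160244) L192461 L221714
theorem L221722 : sm ga N24732 = N28611 := rfl
theorem L221724 : sm gd N28611 = N24740 := ded_9_2 (flp_a L192503) (flp_d L192469) L221722
theorem L221726 : sm gc N24732 = N28612 := rfl
theorem L221728 : sm gf N24732 = N28613 := rfl
theorem L221730 : sm gd N28613 = N24741 := ded_23_1 (flp_f L192507) (flp_d L192469) L221728
theorem L221732 : sm ge N28613 = N27319 := ded_25_1 L221700 L221698 L221728
theorem L221734 : sm gg N27342 = N28613 := ded_24_0 L221730 (flp_g L192511) (flp_d L211829)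
theorem L221736 : sm gb N24733 = N28614 := rfl
theorem L221738 : sm gd N24733 = N28615 := rfl
theorem L221740 : sm ga N28615 = N24734 := ded_9_1 (flp_d L192477) (flp_a L192473) L221738
theorem L221742 : sm gg N28615 = N24841 := ded_24_2 (flp_d L193155) (flp_g L192475) L221738
theorem L221744 : sm gc N28615 = N24896 := ded_28_6 L193483 (flp_a L193473) L193475 L160900 L111285 (flp_d L160248) L192471 L221738
theorem L221746 : sm gc N24734 = N28616 := rfl
theorem L221748 : sm ga N28616 = N24896 := ded_8_1 (flp_c L221744) L221740 L221746
theorem L221750 : sm gg N28616 = N24843 := ded_21_2 (flp_c L193169) (flp_g L192479) L221746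
theorem L221752 : sm gd N28616 = N24894 := ded_28_7 L193473 L160908 L111273 L93031 (flp_d L110859) L160252 L192477 L221746
theorem L221754 : sm ge N24734 = N28617 := rfl
theorem L221756 : sm gg N28617 = N24844 := ded_26_2 (flp_e L193175) (flp_g L192479) L221754
theorem L221758 : sm gf N24734 = N28618 := rfl
theorem L221760 : sm gd N28618 = N24735 := ded_23_1 (flp_f L192481) L192477 L221758
theorem L221762 : sm gb N28618 = N25670 := ded_16_1 (flp_f L199152) L199148 (flp_f L221676) L221662 L221758
theorem L221764 : sm gb N24735 = N28619 := rfl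
theorem L221766 : sm gd N28619 = N25670 := ded_14_2 (flp_b L221762) L221760 L221764
theorem L221768 : sm gf N28619 = N25668 := ded_16_2 (flp_b L221674) (flp_f L221664) L192443 L192481 L221764
theorem L221770 : sm ga N24736 = N28620 := rfl
theorem L221772 : sm gd N28620 = N24742 := ded_9_2 (flp_a L192513) (flp_d L192487) L221770
theorem L221774 : sm gf N28620 = N24737 := ded_11_2 (flp_a L192491) (flp_f L192489) L221770
theorem L221776 : sm gb N25325 = N28620 := ded_14_3 L221772 (flp_b L192519) L197087
theorem L221778 : sm gc N24736 = N28621 := rfl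
theorem L221780 : sm gf N28621 = N24738 := ded_20_2 (flp_c L192495) (flp_f L192489) L221778
theorem L221782 : sm gd N28621 = N27447 := ded_28_7 L212585 L194649 L178617 L178741 L192527 (flp_c L192521) (flp_d L192487) L221778
theorem L221784 : sm gg N28621 = N27438 := ded_29_1 L212521 L194963 L192779 (flp_f L221780)
theorem L221786 : sm gg N24736 = N28622 := rfl
theorem L221788 : sm gc N28622 = N27438 := ded_21_1 (flp_g L221784) (flp_c L221778) L221786
theorem L221790 : sm gd N28622 = N24744 := ded_24_1 (flp_g L192529) (flp_d L192487) L221786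
theorem L221792 : sm ge N28622 = N27349 := ded_26_1 L211877 L195251 L221786
theorem L221794 : sm gb N28622 = N27345 := ded_17_1 L211849 L182231 (flp_g L160706) L192485 L221786
theorem L221796 : sm gb N24737 = N28623 := rfl
theorem L221798 : sm gd N28623 = N24745 := ded_14_2 (flp_b L192535) (flp_d L192493) L221796
theorem L221800 : sm ge N28623 = N28396 := ded_15_2 L220106 L192817 L221796
theorem L221802 : sm gc N28623 = N28397 := ded_13_2 L220110 L192743 L192771 L192777 L221796
theorem L221804 : sm gf N28623 = N26249 := ded_16_2 L203099 (flp_f L197091) L221776 L221774 L221796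
theorem L221806 : sm gg N24737 = N28624 := rfl
theorem L221808 : sm ga N28624 = N24739 := ded_12_1 (flp_g L192497) L192491 L221806
theorem L221810 : sm gc N28624 = N25070 := ded_21_1 L194963 L192777 L221806
theorem L221812 : sm gd N28624 = N24747 := ded_24_1 (flp_g L192551) (flp_d L192493) L221806
theorem L221814 : sm gf N28624 = N28622 := ded_29_2 (flp_g L221786) L221770 L221774 L221806
theorem L221816 : sm gg N24738 = N28625 := rfl
theorem L221818 : sm ga N28625 = N25070 := ded_12_1 L194963 L192779 L221816
theorem L221820 : sm gc N28625 = N24739 := ded_21_1 (flp_g L192497) L192495 L221816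
theorem L221822 : sm gd N28625 = N25068 := ded_24_1 L194945 L194643 L221816
theorem L221824 : sm gf N24739 = N28626 := rfl
theorem L221826 : sm ga N28626 = N28622 := ded_11_1 (flp_f L221814) L221808 L221824
theorem L221828 : sm gd N28626 = N24749 := ded_23_1 (flp_f L192567) (flp_d L192499) L221824
theorem L221830 : sm gg N28626 = N28620 := ded_29_3 (flp_a L221770) L192489 L192497 L221824
theorem L221832 : sm gg N24743 = N28627 := rfl
theorem L221834 : sm gc N28627 = N24744 := ded_21_1 (flp_g L192529) L192521 L221832
theorem L221836 : sm gd N28627 = N27054 := ded_24_1 (flp_g L209539) L192527 L221832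
theorem L221838 : sm ge N28627 = N25020 := ded_26_1 (flp_g L194482) (flp_e L192523) L221832
theorem L221840 : sm gb N28266 = N28627 := ded_31_14 (flp_g L221832) L192525 L160282 L160298 (flp_f L164849) L164845 (flp_g L164107) L164105 (flp_b L177001) L191812 (flp_f L216351) L216353 L209151 L219114
theorem L221842 : sm gg N24746 = N28628 := rfl
theorem L221844 : sm ga N28628 = N24748 := ded_12_1 (flp_g L192559) (flp_a L192545) L221842
theorem L221846 : sm gc N28628 = N24747 := ded_21_1 (flp_g L192551) L192543 L221842
theorem L221848 : sm gd N28628 = N27055 := ded_24_1 (flp_g L209547) L192549 L221842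
theorem L221850 : sm ge N28628 = N25022 := ded_26_1 (flp_g L194502) (flp_e L192547) L221842
theorem L221852 : sm gf N28628 = N28627 := ded_29_2 (flp_g L221832) (flp_a L202691) L202689 L221842
theorem L221854 : sm gf N24748 = N28629 := rfl
theorem L221856 : sm ga N28629 = N28627 := ded_11_1 (flp_f L221852) L221844 L221854
theorem L221858 : sm gc N28629 = N24749 := ded_20_1 (flp_f L192567) (flp_c L192561) L221854
theorem L221860 : sm gd N28629 = N27056 := ded_23_1 (flp_f L209557) (flp_d L192563) L221854
theorem L221862 : sm ge N28629 = N25025 := ded_25_1 (flp_f L194534) (flp_e L192565) L221854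
theorem L221864 : sm gg N28629 = N26194 := ded_29_3 L202691 L192525 L192559 L221854
theorem L221866 : sm gb N24749 = N28630 := rfl
theorem L221868 : sm ge N28630 = N25026 := ded_15_2 (flp_b L194542) (flp_e L192571) L221866
theorem L221870 : sm gf N28630 = N28418 := ded_16_2 (flp_b L220262) L191249 (flp_b L160288) L192567 L221866
theorem L221872 : sm gg N28630 = N26349 := ded_17_2 L203721 L191852 L192519 (flp_g L192573) L221866
theorem L221874 : sm gc N28507 = N28630 := ded_19_3 L221868 (flp_c L194548) (flp_e L220946)
theorem L221876 : sm gg N24752 = N28631 := rfl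
theorem L221878 : sm ga N28631 = N28031 := ded_12_1 (flp_g L217208) L192601 L221876
theorem L221880 : sm gc N28631 = N28584 := ded_21_1 L221514 L216629 L221876
theorem L221882 : sm gd N28631 = N24753 := ded_24_1 (flp_g L192603) (flp_d L192597) L221876
theorem L221884 : sm ge N28631 = N28587 := ded_26_1 L221536 L214133 L221876
theorem L221886 : sm gf N24754 = N28632 := rfl
theorem L221888 : sm ga N28632 = N24756 := ded_11_1 (flp_f L192623) L192611 L221886
theorem L221890 : sm gc N28632 = N27400 := ded_20_1 (flp_f L212263) (flp_c L192613) L221886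
theorem L221892 : sm gd N28632 = N28551 := ded_23_1 (flp_f L221283) (flp_d L192615) L221886
theorem L221894 : sm gd N24755 = N28633 := rfl
theorem L221896 : sm ga N28633 = N27910 := ded_9_1 L216271 L215735 L221894
theorem L221898 : sm gb N28633 = N24758 := ded_14_1 (flp_d L192635) (flp_b L192619) L221894
theorem L221900 : sm gg N28633 = N27844 := ded_24_2 (flp_d L216271) L216269 L221894
theorem L221902 : sm ge N28633 = N28552 := ded_22_2 (flp_d L221288) (flp_e L192186) (flp_d L160354) L192617 L221894
theorem L221904 : sm gc N27841 = N28633 := ded_28_0 (flp_d L221894) L192621 L181771 L152388 L153143 (flp_c L155926) L187203 (flp_a L215709)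
theorem L221906 : sm gf N24755 = N28634 := rfl
theorem L221908 : sm gc N28634 = N27411 := ded_20_1 (flp_f L212347) (flp_c L192621) L221906
theorem L221910 : sm ge N28634 = N24756 := ded_25_1 (flp_f L192623) L192617 L221906
theorem L221912 : sm gb N24756 = N28635 := rfl
theorem L221914 : sm gd N28635 = N28554 := ded_14_2 (flp_b L221305) (flp_d L192627) L221912
theorem L221916 : sm gf N28635 = N24760 := ded_16_2 (flp_b L192651) (flp_f L160364) L160352 L192623 L221912
theorem L221918 : sm gg N24756 = N28636 := rfl
theorem L221920 : sm gc N28636 = N27413 := ded_21_1 (flp_g L212359) (flp_c L192625) L221918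
theorem L221922 : sm gd N28636 = N28553 := ded_24_1 L221303 (flp_d L192627) L221918
theorem L221924 : sm gf N28552 = N28636 := ded_29_0 (flp_g L221918) (flp_f L192623) L192629 (flp_a L221290)
theorem L221926 : sm gf N24757 = N28637 := rfl
theorem L221928 : sm ga N28637 = N28636 := ded_11_1 (flp_f L221924) L221290 L221926
theorem L221930 : sm gc N28637 = N27414 := ded_20_1 (flp_f L212365) (flp_c L192631) L221926
theorem L221932 : sm gd N28637 = N28555 := ded_23_1 (flp_f L221309) (flp_d L192633) L221926
theorem L221934 : sm gg N28637 = N28632 := ded_29_3 L221888 (flp_f L192623) L192629 L221926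
theorem L221936 : sm gf N24758 = N28638 := rfl
theorem L221938 : sm ga N28638 = N24772 := ded_11_1 (flp_f L192731) (flp_a L192637) L221936
theorem L221940 : sm gd N28638 = N24759 := ded_23_1 (flp_f L192641) L192635 L221936
theorem L221942 : sm ge N28638 = N28556 := ded_25_1 (flp_f L221318) (flp_e L192639) L221936
theorem L221944 : sm gg N28492 = N28638 := ded_29_1 (flp_f L221936) (flp_g L212281) L212277 L220842
theorem L221946 : sm gb N24759 = N28639 := rfl
theorem L221948 : sm ge N28639 = N24760 := ded_15_2 (flp_b L192651) (flp_e L192647) L221946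
theorem L221950 : sm ga N24760 = N28640 := rfl
theorem L221952 : sm gd N28640 = N28558 := ded_9_2 (flp_a L221328) (flp_d L192653) L221950
theorem L221954 : sm gc N24760 = N28641 := rfl
theorem L221956 : sm gb N28641 = N24763 := ded_13_1 (flp_c L192667) (flp_b L160384) (flp_c L160368) L192651 L221954
theorem L221958 : sm gg N24760 = N28642 := rfl
theorem L221960 : sm gd N28642 = N28560 := ded_24_1 (flp_g L221334) (flp_d L192653) L221958
theorem L221962 : sm gb N28642 = N28496 := ded_17_1 (flp_g L220858) (flp_b L191778) L160372 L192651 L221958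
theorem L221964 : sm ga N24761 = N28643 := rfl
theorem L221966 : sm gc N28643 = N28572 := ded_8_2 L221426 L216637 L221964
theorem L221968 : sm gd N28643 = N25028 := ded_9_2 (flp_a L194559) (flp_d L192657) L221964
theorem L221970 : sm ge N28643 = N24762 := ded_10_2 (flp_a L192661) (flp_e L192659) L221964
theorem L221972 : sm gf N28643 = N28030 := ded_11_2 L217198 L214135 L221964
theorem L221974 : sm gb N24762 = N28644 := rfl
theorem L221976 : sm gd N28644 = N24765 := ded_14_2 (flp_b L192675) (flp_d L192663) L221974
theorem L221978 : sm gc N24762 = N28645 := rfl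
theorem L221980 : sm ga N28645 = N24763 := ded_8_1 (flp_c L192667) L192661 L221978
theorem L221982 : sm ge N28645 = N28572 := ded_19_2 (flp_c L221966) L221970 L221978
theorem L221984 : sm gf N28645 = N27632 := ded_20_2 (flp_c L213832) (flp_f L192665) L221978
theorem L221986 : sm gd N28645 = N27522 := ded_28_7 (flp_a L218640) L218642 (flp_d L202390) L202394 L187465 L160394 (flp_d L192663) L221978
theorem L221988 : sm gb N27505 = N28645 := ded_16_5 L221984 (flp_b L213824) (flp_f L182889) (flp_b L182305) L212995
theorem L221990 : sm gg N24762 = N28646 := rfl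
theorem L221992 : sm ga N28646 = N24764 := ded_12_1 (flp_g L192669) L192661 L221990
theorem L221994 : sm gd N28646 = N24766 := ded_24_1 (flp_g L192681) (flp_d L192663) L221990
theorem L221996 : sm gf N28631 = N28646 := ded_29_0 (flp_g L221990) L192665 L217208 (flp_a L221878)
theorem L221998 : sm gd N24767 = N28647 := rfl
theorem L222000 : sm ga N28647 = N25292 := ded_9_1 L196881 (flp_a L192693) L221998
theorem L222002 : sm gb N28647 = N27995 := ded_14_1 L216907 (flp_b L192701) L221998
theorem L222004 : sm gf N28647 = N28291 := ded_23_2 L219378 (flp_f L192697) L221998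
theorem L222006 : sm gg N28647 = N25290 := ded_24_2 (flp_d L196867) (flp_g L192699) L221998
theorem L222008 : sm gc N26109 = N28647 := ded_28_0 (flp_d L221998) (flp_c L192691) (flp_d L180539) L180537 L177763 (flp_c L190621) (flp_d L219378) L219374
theorem L222010 : sm gf N24768 = N28648 := rfl
theorem L222012 : sm ga N28648 = N28556 := ded_11_1 (flp_f L221318) (flp_a L192705) L222010
theorem L222014 : sm gc N28648 = N27405 := ded_20_1 (flp_f L212301) L212255 L222010
theorem L222016 : sm gd N28648 = N24769 := ded_23_1 (flp_f L192711) L192703 L222010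
theorem L222018 : sm ge N28648 = N24772 := ded_25_1 (flp_f L192731) (flp_e L192709) L222010
theorem L222020 : sm gg N25457 = N28648 := ded_29_1 (flp_f L222010) L193767 (flp_a L193765) (flp_f L197909)
theorem L222022 : sm gb N24769 = N28649 := rfl
theorem L222024 : sm ge N28649 = N24770 := ded_15_2 (flp_b L192721) (flp_e L192717) L222022
theorem L222026 : sm gf N28649 = N28390 := ded_16_2 (flp_b L220062) (flp_f L191087) (flp_b L160428) L192711 L222022
theorem L222028 : sm gg N28649 = N25465 := ded_17_2 (flp_b L197947) (flp_g L167288) (flp_b L167264) L192719 L222022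
theorem L222030 : sm ga N24770 = N28650 := rfl
theorem L222032 : sm gd N28650 = N24775 := ded_9_2 (flp_a L192749) (flp_d L192723) L222030
theorem L222034 : sm gc N24770 = N28651 := rfl
theorem L222036 : sm gf N28651 = N25773 := ded_20_2 L199746 L197863 L222034
theorem L222038 : sm gg N28651 = N28550 := ded_21_2 L221281 L220128 L222034
theorem L222040 : sm gb N28651 = N25746 := ded_13_1 L199588 L168450 (flp_c L160436) L192721 L222034
theorem L222042 : sm gf N24771 = N28652 := rfl
theorem L222044 : sm gc N28652 = N24772 := ded_20_1 (flp_f L192731) L192725 L222042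
theorem L222046 : sm gd N28652 = N24864 := ded_23_1 (flp_f L193309) (flp_d L192727) L222042
theorem L222048 : sm ge N28652 = N27405 := ded_25_1 (flp_f L212301) L212259 L222042
theorem L222050 : sm gg N28652 = N27403 := ded_29_3 L212287 L212239 (flp_g L212237) L222042
theorem L222052 : sm gb N24772 = N28653 := rfl
theorem L222054 : sm gd N28653 = N24773 := ded_14_2 (flp_b L192735) (flp_d L192733) L222052
theorem L222056 : sm gg N24772 = N28654 := rfl
theorem L222058 : sm ga N28654 = N28492 := ded_12_1 L221944 L221938 L222056
theorem L222060 : sm gc N28654 = N27403 := ded_21_1 (flp_g L222050) L222044 L222056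
theorem L222062 : sm gd N28654 = N24774 := ded_24_1 (flp_g L192739) (flp_d L192733) L222056
theorem L222064 : sm ge N28654 = N25457 := ded_26_1 L222020 L222018 L222056
theorem L222066 : sm gf N27402 = N28654 := ded_29_0 (flp_g L222056) (flp_f L192731) (flp_g L191770) (flp_a L212277)
theorem L222068 : sm gb N25463 = N28654 := ded_14_3 L222062 (flp_b L220110) L220114
theorem L222070 : sm ga N24773 = N28655 := rfl
theorem L222072 : sm ge N28655 = N24775 := ded_10_2 (flp_a L192749) (flp_e L192737) L222070
theorem L222074 : sm gc N24773 = N28656 := rfl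
theorem L222076 : sm ge N28656 = N24776 := ded_19_2 (flp_c L192751) (flp_e L192737) L222074
theorem L222078 : sm gb N28656 = N24779 := ded_13_1 (flp_c L192765) (flp_b L160458) (flp_c L160444) L192735 L222074
theorem L222080 : sm gg N24773 = N28657 := rfl
theorem L222082 : sm ge N28657 = N24777 := ded_26_1 (flp_g L192755) (flp_e L192737) L222080
theorem L222084 : sm gb N24775 = N28658 := rfl
theorem L222086 : sm gf N28658 = N26379 := ded_16_2 (flp_b L203929) L203939 L217390 L217244 L222084
theorem L222088 : sm gc N26390 = N28658 := ded_20_3 L222086 L203931 L203989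
theorem L222090 : sm gc N24775 = N28659 := rfl
theorem L222092 : sm ga N28659 = N24776 := ded_8_1 (flp_c L192751) L192749 L222090
theorem L222094 : sm gf N28659 = N28056 := ded_20_2 (flp_c L217388) L217244 L222090
theorem L222096 : sm gb N28659 = N28075 := ded_13_1 L217556 (flp_b L203991) L222088 (flp_b L222084) L222090
theorem L222098 : sm gg N24775 = N28660 := rfl
theorem L222100 : sm ga N28660 = N24777 := ded_12_1 (flp_g L192755) L192749 L222098
theorem L222102 : sm gf N28660 = N28037 := ded_29_2 (flp_g L217246) L217242 L217244 L222098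
theorem L222104 : sm gd N24776 = N28661 := rfl
theorem L222106 : sm gb N28661 = N24783 := ded_14_1 (flp_d L192791) (flp_b L192753) L222104
theorem L222108 : sm gg N24776 = N28662 := rfl
theorem L222110 : sm gc N28662 = N24777 := ded_21_1 (flp_g L192755) L192751 L222108
theorem L222112 : sm gd N25773 = N28662 := ded_28_3 L222110 (flp_d L220124) (flp_c L221281) L221277 L217386 L204157 (flp_d L197861) (flp_c L199746)
theorem L222114 : sm gb N28662 = N25772 := ded_14_1 L199742 L199744 L222112
theorem L222116 : sm gg N28661 = N25773 := ded_24_0 L222112 (flp_g L222108) L222104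
theorem L222118 : sm gf N24777 = N28663 := rfl
theorem L222120 : sm ga N28663 = N28037 := ded_11_1 (flp_f L222102) L222100 L222118
theorem L222122 : sm gg N28663 = N28036 := ded_29_3 (flp_a L217242) L187985 L192755 L222118
theorem L222124 : sm gb N24778 = N28664 := rfl
theorem L222126 : sm gd N28664 = N25036 := ded_14_2 (flp_b L194631) (flp_d L192759) L222124
theorem L222128 : sm ge N28664 = N24781 := ded_15_2 (flp_b L192781) (flp_e L192761) L222124
theorem L222130 : sm gg N27410 = N28664 := ded_24_0 L222126 (flp_g L194637) L212341
theorem L222132 : sm gc N24778 = N28665 := rfl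
theorem L222134 : sm ga N28665 = N24779 := ded_8_1 (flp_c L192765) L192757 L222132
theorem L222136 : sm ge N28665 = N24782 := ded_19_2 (flp_c L192785) (flp_e L192761) L222132
theorem L222138 : sm gf N28665 = N24886 := ded_20_2 (flp_c L193431) (flp_f L192763) L222132
theorem L222140 : sm gd N24779 = N28666 := rfl
theorem L222142 : sm gf N28666 = N24887 := ded_23_2 (flp_d L193437) (flp_f L192769) L222140
theorem L222144 : sm gf N24780 = N28667 := rfl
theorem L222146 : sm ga N28667 = N28621 := ded_11_1 L221780 (flp_a L192779) L222144
theorem L222148 : sm gc N28667 = N28620 := ded_20_1 L221774 (flp_c L192777) L222144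
theorem L222150 : sm gd N28667 = N25038 := ded_23_1 (flp_f L194647) (flp_d L192773) L222144
theorem L222152 : sm ge N28667 = N24788 := ded_25_1 (flp_f L192819) (flp_e L192775) L222144
theorem L222154 : sm gb N28667 = N28483 := ded_16_1 (flp_f L220778) L191696 L160474 L192771 L222144
theorem L222156 : sm ga N24781 = N28668 := rfl
theorem L222158 : sm gd N28668 = N24789 := ded_9_2 (flp_a L192825) (flp_d L192783) L222156
theorem L222160 : sm gc N24781 = N28669 := rfl
theorem L222162 : sm gg N24781 = N28670 := rfl
theorem L222164 : sm gd N28670 = N24790 := ded_24_1 (flp_g L192829) (flp_d L192783) L222162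
theorem L222166 : sm ge N28670 = N27410 := ded_26_1 L222130 L222128 L222162
theorem L222168 : sm gf N27431 = N28670 := ded_23_0 L222164 (flp_f L192833) (flp_d L212473)
theorem L222170 : sm gb N24782 = N28671 := rfl
theorem L222172 : sm gd N24782 = N28672 := rfl
theorem L222174 : sm ga N28672 = N24783 := ded_9_1 (flp_d L192791) (flp_a L192787) L222172
theorem L222176 : sm gf N28672 = N24843 := ded_23_2 L193173 (flp_f L192789) L222172
theorem L222178 : sm gc N28672 = N24845 := ded_28_6 L193179 (flp_a L193163) L193165 L160704 L111169 (flp_d L160478) L192785 L222172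
theorem L222180 : sm gc N24783 = N28673 := rfl
theorem L222182 : sm ga N28673 = N24845 := ded_8_1 (flp_c L222178) L222174 L222180
theorem L222184 : sm gf N28673 = N24841 := ded_20_2 L193159 (flp_f L192793) L222180
theorem L222186 : sm gd N28673 = N24842 := ded_28_7 L193163 L160712 L111157 L92976 (flp_d L111027) L160482 L192791 L222180
theorem L222188 : sm gg N28618 = N28673 := ded_29_3 L222182 (flp_f L193177) (flp_g L192479) L221758
theorem L222190 : sm ge N24783 = N28674 := rfl
theorem L222192 : sm gf N28674 = N24895 := ded_25_2 (flp_e L193479) (flp_f L192793) L222190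
theorem L222194 : sm gg N24783 = N28675 := rfl
theorem L222196 : sm gc N28675 = N28618 := ded_21_1 L222188 (flp_c L222180) L222194
theorem L222198 : sm gd N28675 = N24784 := ded_24_1 (flp_g L192795) L192791 L222194
theorem L222200 : sm gf N28616 = N28675 := ded_29_0 (flp_g L222194) L192793 L193481 (flp_a L221748)
theorem L222202 : sm gb N28675 = N25774 := ded_17_1 (flp_g L199748) L199744 (flp_g L222116) L222106 L222194
theorem L222204 : sm gb N25631 = N24896 := ded_30_18 (flp_a L221748) L222200 L222196 L221762 L199154 (flp_f L199138) L199134 L168160 L159293 (flp_f L159251) L159245 (flp_b L191001) (flp_a L191379) (flp_f L191385) L159898 L159906 L168061 L167986 (flp_c L198968)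
theorem L222206 : sm gb N25638 = N28615 := ded_30_18 L221740 L221758 (flp_c L222196) L222202 L199750 (flp_f L199712) (flp_c L168530) (flp_b L116771) (flp_a L96022) (flp_f L96020) (flp_c L96016) L116850 L168064 L168016 L168018 L168020 (flp_a L168074) (flp_f L168072) L198998
theorem L222208 : sm gd N24897 = N25631 := ded_14_0 L222204 L193483 L193485
theorem L222210 : sm gb N26412 = N28539 := ded_17_5 L221195 L222204 (flp_g L193481) (flp_b L171308) L204135
theorem L222212 : sm gd N28614 = N25638 := ded_14_0 L222206 (flp_d L221738) L221736
theorem L222214 : sm gf N25630 = N24897 := ded_23_0 L222208 (flp_f L198966) L198963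
theorem L222216 : sm gd N28539 = N26418 := ded_24_3 L204171 L222208 (flp_g L221195)
theorem L222218 : sm gc N25804 = N26270 := ded_28_4 L203219 (flp_c L193487) L222208 (flp_a L221191) L221193 L192091 (flp_c L168674) (flp_d L199929)
theorem L222220 : sm ga N24897 = N26418 := ded_9_1 (flp_d L222216) L221191 (flp_d L222208)
theorem L222222 : sm ga N25640 = N28614 := ded_9_3 L222212 L199000 L199016
theorem L222224 : sm gf N26418 = N28538 := ded_11_2 L221186 L222214 L222220
theorem L222226 : sm gc N26276 = N25630 := ded_20_3 L222214 L193487 L203243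
theorem L222228 : N26275 = N26266 := coi_28_0 (flp_c L204169) (flp_d L222216) L221193 L192091 (flp_c L168674) (flp_d L199929) L222218 L203219 L203241
theorem L222229 : N26275 = N26266 := eqc rfl L222228 rfl
theorem L222230 : sm ga N26266 = N21783 := trfs L222229 (flp_a L203241) rfl
theorem L222232 : sm gf N26270 = N25803 := ded_20_2 (flp_c L199920) L199925 L222218
theorem L222234 : sm gg N26276 = N26276 := ded_21_0 L222226 L198965 (flp_c L222226)
theorem L222235 : sm gd N26276 = N25803 := ded_28_1 (flp_c L199920) L168657 L116854 (flp_d L159908) L192082 L221184 L221186 (flp_c L222226)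
theorem L222237 : sm gb N24784 = N28676 := rfl
theorem L222239 : sm gd N28676 = N25774 := ded_14_2 (flp_b L222202) L222198 L222237
theorem L222241 : sm gg N28676 = N25772 := ded_17_2 (flp_b L222114) (flp_g L222108) L192753 L192795 L222237
theorem L222243 : sm ga N24785 = N28677 := rfl
theorem L222245 : sm gd N28677 = N24791 := ded_9_2 (flp_a L192835) (flp_d L192801) L222243
theorem L222247 : sm ge N28677 = N28625 := ded_10_2 L221818 L194965 L222243
theorem L222249 : sm gg N28677 = N24786 := ded_12_2 (flp_a L192805) (flp_g L192803) L222243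
theorem L222251 : sm gc N28677 = N28610 := ded_28_0 L221716 L194456 L178601 L178663 L192849 (flp_c L192843) (flp_d L192801) L222243
theorem L222253 : sm gb N25330 = N28677 := ded_14_3 L222245 (flp_b L192841) L197109
theorem L222255 : sm gc N24785 = N28678 := rfl
theorem L222257 : sm ga N28678 = N28610 := ded_8_1 (flp_c L222251) (flp_a L222243) L222255
theorem L222259 : sm ge N28678 = N28624 := ded_19_2 L221810 L194965 L222255
theorem L222261 : sm gg N28678 = N24787 := ded_21_2 (flp_c L192813) (flp_g L192803) L222255
theorem L222263 : sm gd N28678 = N27358 := ded_28_7 L211941 L194456 L178601 L178663 L192849 (flp_c L192843) (flp_d L192801) L222255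
theorem L222265 : sm gf N28678 = N27349 := ded_29_0 L211877 L195249 L221714 (flp_a L222257)
theorem L222267 : sm gf N24785 = N28679 := rfl
theorem L222269 : sm gc N28679 = N27349 := ded_20_1 (flp_f L222265) (flp_c L222255) L222267
theorem L222271 : sm gd N28679 = N24793 := ded_23_1 (flp_f L192851) (flp_d L192801) L222267
theorem L222273 : sm ge N28679 = N27438 := ded_25_1 L212521 L194965 L222267
theorem L222275 : sm gb N28679 = N27434 := ded_16_1 L212493 L182593 L160902 L192799 L222267
theorem L222277 : sm gb N24786 = N28680 := rfl
theorem L222279 : sm gd N28680 = N24794 := ded_14_2 (flp_b L192857) (flp_d L192807) L222277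
theorem L222281 : sm ge N28680 = N28367 := ded_15_2 L219890 (flp_e L192809) L222277
theorem L222283 : sm gc N28680 = N28368 := ded_13_2 L219894 L192433 L192461 (flp_c L192811) L222277
theorem L222285 : sm gg N28680 = N26018 := ded_17_2 L201462 (flp_g L197113) L222253 L222249 L222277
theorem L222287 : sm gf N24786 = N28681 := rfl
theorem L222289 : sm ga N28681 = N24788 := ded_11_1 (flp_f L192819) L192805 L222287
theorem L222291 : sm gc N28681 = N25102 := ded_20_1 L195249 (flp_c L192811) L222287
theorem L222293 : sm gd N28681 = N24796 := ded_23_1 (flp_f L192873) (flp_d L192807) L222287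
theorem L222295 : sm ge N28681 = N28621 := ded_25_1 L221780 (flp_e L192809) L222287
theorem L222297 : sm gg N28679 = N28681 := ded_29_1 (flp_f L222287) (flp_g L222249) (flp_a L222243) L222267
theorem L222299 : sm gf N24787 = N28682 := rfl
theorem L222301 : sm ga N28682 = N25102 := ded_11_1 L195249 (flp_a L192815) L222299
theorem L222303 : sm gc N28682 = N24788 := ded_20_1 (flp_f L192819) L192813 L222299
theorem L222305 : sm gd N28682 = N25100 := ded_23_1 L195231 L194450 L222299
theorem L222307 : sm ge N28682 = N28620 := ded_25_1 L221774 (flp_e L192817) L222299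
theorem L222309 : sm gg N24788 = N28683 := rfl
theorem L222311 : sm ga N28683 = N28679 := ded_12_1 L222297 L222289 L222309
theorem L222313 : sm gd N28683 = N24798 := ded_24_1 (flp_g L192889) (flp_d L192821) L222309
theorem L222315 : sm gf N28677 = N28683 := ded_29_0 (flp_g L222309) (flp_f L192819) (flp_g L192803) L222243
theorem L222317 : sm gf N24792 = N28684 := rfl
theorem L222319 : sm gc N28684 = N24793 := ded_20_1 (flp_f L192851) L192843 L222317
theorem L222321 : sm gd N28684 = N27046 := ded_23_1 (flp_f L209467) L192849 L222317
theorem L222323 : sm ge N28684 = N25041 := ded_25_1 (flp_f L194675) (flp_e L192845) L222317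
theorem L222325 : sm gb N28684 = N28269 := ded_31_2 (flp_g L219144) L209209 (flp_b L216155) L216153 (flp_f L191431) L177338 (flp_g L164510) L164508 (flp_b L165458) L165462 (flp_f L160528) (flp_b L160512) (flp_g L192847) L222317
theorem L222327 : sm gf N24795 = N28685 := rfl
theorem L222329 : sm ga N28685 = N24797 := ded_11_1 (flp_f L192881) (flp_a L192867) L222327
theorem L222331 : sm gc N28685 = N24796 := ded_20_1 (flp_f L192873) L192865 L222327
theorem L222333 : sm gd N28685 = N27047 := ded_23_1 (flp_f L209475) (flp_d L192871) L222327
theorem L222335 : sm ge N28685 = N25043 := ded_25_1 (flp_f L194695) (flp_e L192869) L222327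
theorem L222337 : sm gg N28684 = N28685 := ded_29_1 (flp_f L222327) (flp_g L201042) (flp_a L201044) L222317
theorem L222339 : sm gg N24797 = N28686 := rfl
theorem L222341 : sm ga N28686 = N28684 := ded_12_1 L222337 L222329 L222339
theorem L222343 : sm gc N28686 = N24798 := ded_21_1 (flp_g L192889) (flp_c L192883) L222339
theorem L222345 : sm gd N28686 = N27048 := ded_24_1 (flp_g L209485) (flp_d L192885) L222339
theorem L222347 : sm ge N28686 = N25046 := ded_26_1 (flp_g L194727) (flp_e L192887) L222339
theorem L222349 : sm gf N25959 = N28686 := ded_29_0 (flp_g L222339) (flp_f L192881) (flp_g L192847) L201044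
theorem L222351 : sm gb N24798 = N28687 := rfl
theorem L222353 : sm ge N28687 = N25047 := ded_15_2 (flp_b L194735) (flp_e L192893) L222351
theorem L222355 : sm gf N28687 = N26428 := ded_16_2 L204247 L191469 L192841 L192895 L222351
theorem L222357 : sm gg N28687 = N28472 := ded_17_2 (flp_b L220692) (flp_g L191632) (flp_b L160518) L192889 L222351
theorem L222359 : sm gc N28453 = N28687 := ded_19_3 L222353 (flp_c L194741) (flp_e L220516)
theorem L222361 : sm gb N24801 = N28688 := rfl
theorem L222363 : sm gd N28688 = N24802 := ded_14_2 (flp_b L192929) (flp_d L192923) L222361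
theorem L222365 : sm ge N28688 = N27482 := ded_15_2 (flp_b L212835) (flp_e L192925) L222361
theorem L222367 : sm gg N28688 = N24810 := ded_17_2 (flp_b L192981) (flp_g L160578) (flp_b L160548) L192917 L222361
theorem L222369 : sm gg N24803 = N28689 := rfl
theorem L222371 : sm gc N28689 = N27067 := ded_21_1 (flp_g L209683) (flp_c L192939) L222369
theorem L222373 : sm gd N28689 = N27185 := ded_24_1 L210643 (flp_d L210459) L222369
theorem L222375 : sm gf N28689 = N27183 := ded_29_2 (flp_g L210629) (flp_a L210589) L210591 L222369
theorem L222377 : sm ge N24804 = N28690 := rfl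
theorem L222379 : sm ga N28690 = N24813 := ded_10_1 (flp_e L193003) (flp_a L192943) L222377
theorem L222381 : sm gb N28690 = N28216 := ded_15_1 L218632 L210457 L222377
theorem L222383 : sm gc N28690 = N24813 := ded_19_1 (flp_e L193003) L192945 L222377
theorem L222385 : sm gd N24806 = N28690 := ded_9_0 L222379 L193023 (flp_a L192955)
theorem L222387 : sm gf N24804 = N28690 := ded_11_0 L222379 L193025 (flp_a L192943)
theorem L222389 : sm gg N24804 = N28691 := rfl
theorem L222391 : sm ga N28691 = N24815 := ded_12_1 (flp_g L193009) (flp_a L192943) L222389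
theorem L222393 : sm gc N28691 = N24815 := ded_21_1 (flp_g L193009) L192945 L222389
theorem L222395 : sm gd N28691 = N24807 := ded_24_1 (flp_g L192959) L192941 L222389
theorem L222397 : sm gd N24805 = N28692 := rfl
theorem L222399 : sm ga N28692 = N24816 := ded_9_1 (flp_d L193013) (flp_a L192949) L222397
theorem L222401 : sm gb N28692 = N28358 := ded_14_1 L220250 L220248 L222397
theorem L222403 : sm ge N28692 = N24806 := ded_22_2 L222385 (flp_e L222377) (flp_d L192941) L192947 L222397
theorem L222405 : sm gc N24808 = N28692 := ded_28_0 (flp_d L222397) L192951 L160570 (flp_c L162212) L162214 (flp_c L129950) (flp_d L160610) (flp_a L192967)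
theorem L222407 : sm gf N24805 = N28692 := ded_11_0 L222399 L193019 (flp_a L192949)
theorem L222409 : sm gg N24805 = N28693 := rfl
theorem L222411 : sm ga N28693 = N24817 := ded_12_1 (flp_g L193027) (flp_a L192949) L222409
theorem L222413 : sm gc N28693 = N24809 := ded_21_1 (flp_g L192973) (flp_c L192951) L222409
theorem L222415 : sm ge N28693 = N24807 := ded_26_1 (flp_g L192959) L192947 L222409
theorem L222417 : sm gb N24807 = N28694 := rfl
theorem L222419 : sm gb N24809 = N28695 := rfl
theorem L222421 : sm gd N28695 = N25049 := ded_14_2 (flp_b L194755) (flp_d L192977) L222419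
theorem L222423 : sm ge N28695 = N24810 := ded_15_2 (flp_b L192981) (flp_e L192979) L222419
theorem L222425 : sm gg N28695 = N27482 := ded_17_2 (flp_b L212835) L182213 (flp_b L182163) L192973 L222419
theorem L222427 : sm gf N28237 = N28695 := ded_23_0 L222421 (flp_f L194761) L218846
theorem L222429 : sm ga N24810 = N28696 := rfl
theorem L222431 : sm gd N28696 = N24812 := ded_9_2 (flp_a L192995) (flp_d L192983) L222429
theorem L222433 : sm gf N28696 = N28232 := ded_11_2 L218798 L192985 L222429
theorem L222435 : sm gc N24810 = N28697 := rfl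
theorem L222437 : sm gf N28697 = N28238 := ded_20_2 (flp_c L218852) L192985 L222435
theorem L222439 : sm gb N24812 = N28698 := rfl
theorem L222441 : sm ge N28698 = N25050 := ded_15_2 (flp_b L194763) (flp_e L192999) L222439
theorem L222443 : sm gc N28698 = N25998 := ded_13_2 (flp_b L201352) (flp_c L201213) L201217 (flp_c L192997) L222439
theorem L222445 : sm gf N28698 = N25998 := ded_16_2 (flp_b L201352) L169551 (flp_b L189581) (flp_f L193001) L222439
theorem L222447 : sm gg N28698 = N27947 := ded_17_2 L216535 (flp_g L204119) (flp_b L218738) L218736 L222439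
theorem L222449 : sm ga N28698 = N27710 := ded_7_1 (flp_b L214565) L214557 (flp_b L193081) (flp_a L160638) (flp_b L111118) (flp_a L111090) L160590 L192995 L222439
theorem L222451 : sm gg N24813 = N28699 := rfl
theorem L222453 : sm gd N28699 = N24818 := ded_24_1 (flp_g L193033) (flp_d L193023) L222451
theorem L222455 : sm ge N28699 = N24815 := ded_26_1 (flp_g L193009) L193003 L222451
theorem L222457 : sm gf N28691 = N28699 := ded_29_0 (flp_g L222451) L193025 L193009 (flp_a L222391)
theorem L222459 : sm gb N24815 = N28700 := rfl
theorem L222461 : sm gd N28700 = N24819 := ded_14_2 (flp_b L193039) (flp_d L193011) L222459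
theorem L222463 : sm gf N24815 = N28701 := rfl
theorem L222465 : sm ga N28701 = N28699 := ded_11_1 (flp_f L222457) L222391 L222463
theorem L222467 : sm gc N28701 = N28699 := ded_20_1 (flp_f L222457) L222393 L222463
theorem L222469 : sm gd N28701 = N24820 := ded_23_1 (flp_f L193041) (flp_d L193011) L222463
theorem L222471 : sm ge N28701 = N28691 := ded_25_1 L222457 L222455 L222463
theorem L222473 : sm gg N28701 = N28690 := ded_29_3 L222379 L193025 L193009 L222463
theorem L222475 : sm gg N24816 = N28702 := rfl
theorem L222477 : sm gc N28702 = N24821 := ded_21_1 (flp_g L193049) L193015 L222475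
theorem L222479 : sm gd N28702 = N24817 := ded_24_1 (flp_g L193027) L193013 L222475
theorem L222481 : sm ge N28702 = N24818 := ded_26_1 (flp_g L193033) (flp_e L193017) L222475
theorem L222483 : sm gf N28693 = N28702 := ded_29_0 (flp_g L222475) L193019 L193027 (flp_a L222411)
theorem L222485 : sm gb N24817 = N28703 := rfl
theorem L222487 : sm ge N28703 = N24819 := ded_15_2 (flp_b L193039) (flp_e L193031) L222485
theorem L222489 : sm gf N24817 = N28704 := rfl
theorem L222491 : sm ga N28704 = N28702 := ded_11_1 (flp_f L222483) L222411 L222489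
theorem L222493 : sm gc N28704 = N24822 := ded_20_1 (flp_f L193057) (flp_c L193029) L222489
theorem L222495 : sm gd N28704 = N28693 := ded_23_1 L222483 L222479 L222489
theorem L222497 : sm ge N28704 = N24820 := ded_25_1 (flp_f L193041) (flp_e L193031) L222489
theorem L222499 : sm gg N28704 = N28692 := ded_29_3 L222399 L193019 L193027 L222489
theorem L222501 : sm gb N24818 = N28705 := rfl
theorem L222503 : sm ga N24819 = N28706 := rfl
theorem L222505 : sm gf N24819 = N28707 := rfl
theorem L222507 : sm gb N24820 = N28708 := rfl
theorem L222509 : sm gb N24821 = N28709 := rfl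
theorem L222511 : sm gd N28709 = N25052 := ded_14_2 (flp_b L194789) (flp_d L193051) L222509
theorem L222513 : sm ge N28709 = N24823 := ded_15_2 (flp_b L193067) (flp_e L193053) L222509
theorem L222515 : sm gg N28709 = N25770 := ded_17_2 (flp_b L202705) (flp_g L193683) L161014 L193049 L222509
theorem L222517 : sm gc N27973 = N28045 := ded_32_19 L217286 (flp_d L188079) (flp_c L156693) (flp_d L156252) L187499 L191277 L191273 (flp_d L179661) L179659 L158547 (flp_c L120255) (flp_b L108569) L108565 (flp_c L108713) (flp_d L157361) (flp_c L188881) (flp_b L208682) (flp_d L208680) (flp_c L205163) L172420 L172434 L172436 (flp_d L165444) L165442 (flp_d L165422) L165420 L175013 L175015 L123157 (flp_d L157461) L157465 (flp_b L113799) L94498 (flp_d L94438) L94437 L94438 (flp_c L94034) (flp_b L148120) L148122 L145991 (flp_d L147703) L109430 (flp_b L98949) L98947 (flp_c L98909) (flp_d L123995) (flp_c L175885) L189789 L189787 (flp_c L184121) (flp_d L184075) L184073 (flp_b L162651) (flp_d L162627) L162625 L152620 L151572 (flp_b L112370) (flp_e L112362) (flp_d L160616) (flp_c L193029) (flp_d L222479)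 L222477 L222509 L222511 L202675 (flp_d L202665) (flp_c L170342) (flp_b L117915) (flp_d L167092) (flp_c L197697) L197699 L187645 L187659 L187661 L187667 L216711
theorem L222519 : sm ga N27500 = N28709 := ded_9_3 L222511 (flp_a L194793) (flp_d L212969)
theorem L222521 : sm gc N25765 = N28709 := ded_28_6 L222511 (flp_a L194793) L183551 (flp_d L170352) (flp_c L117917) (flp_d L116773) L168530 L199708
theorem L222523 : sm gc N27458 = N27370 := ded_19_3 (flp_e L216715) L222517 L217288
theorem L222525 : sm gb N28061 = N27991 := ded_13_3 (flp_c L216861) (flp_b L216713) L222517 L217286 L217424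
theorem L222527 : N28040 = N27969 := coi_28_2 (flp_c L216687) L187661 L187667 L216711 L222517 (flp_d L217284) (flp_a L217270) (flp_c L217268) (flp_d L217258)
theorem L222528 : N28040 = N27969 := eqc rfl L222527 rfl
theorem L222529 : sm ga N27969 = N24105 := trfs L222528 (flp_a L217256) rfl
theorem L222531 : sm gb N27969 = N28248 := trfs L222528 (flp_b L218946) rfl
theorem L222533 : sm gd N27969 = N24106 := trfs L222528 L217258 rfl
theorem L222535 : N27968 = N28041 := coi_28_0 (flp_c L217260) L188007 L188013 L217284 (flp_c L222517) (flp_d L216711) (flp_c L187667) (flp_d L187661) L216683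
theorem L222536 : N28041 = N27968 := (eqc rfl L222535 rfl).symm
theorem L222537 : sm gc N27968 = N24105 := trfs L222536 (flp_c L217260) rfl
theorem L222539 : sm gb N27388 = N27471 := ded_13_3 (flp_c L212757) (flp_b L212663) L222523 L212027 L212165
theorem L222541 : N27354 = N27444 := coi_28_2 (flp_c L212563) L181893 L181935 L212661 L222523 (flp_d L212025) (flp_a L212013) (flp_c L212011) (flp_d L211917)
theorem L222542 : N27444 = N27354 := (eqc rfl L222541 rfl).symm
theorem L222543 : sm gc N27354 = N23301 := trfs L222542 (flp_c L212563) rfl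
theorem L222545 : N27443 = N27355 := coi_28_0 (flp_c L211919) L181385 L181427 L212025 (flp_c L222523) (flp_d L212661) (flp_c L181935) (flp_d L181893) L212559
theorem L222546 : N27443 = N27355 := eqc rfl L222545 rfl
theorem L222547 : sm ga N27355 = N23301 := trfs L222546 (flp_a L212559) rfl
theorem L222549 : sm gd N27355 = N23307 := trfs L222546 L212561 rfl
theorem L222551 : N27709 = N10907 := coi_31_12 (flp_g L104583) (flp_f L145756) L182912 L213853 L217428 L222525 (flp_g L216865) (flp_f L214150) (flp_b L183055) L145878 L104672 L104698 L145914 L183160 L214434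
theorem L222552 : N27709 = N10907 := eqc rfl L222551 rfl
theorem L222556 : sm ge N10907 = N28165 := trfs L222552 (flp_e L218163) rfl
theorem L222557 : N28165 = N11309 := eqes L222556 L141626
theorem L222558 : N28165 = N11309 := eqc rfl L222557 rfl
theorem L222560 : sm gb N11309 = N24191 := trfs L222558 (flp_b L218161) rfl
theorem L222561 : N24191 = N14550 := eqes L222560 L108315
theorem L222562 : N24191 = N14550 := eqc rfl L222561 rfl
theorem L222564 : sm ga N14550 = N24190 := trfs L222562 L188542 rfl
theorem L222565 : N24190 = N19815 := eqes L222564 L156951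
theorem L222566 : N24190 = N19815 := eqc rfl L222565 rfl
theorem L222572 : sm gf N14550 = N19824 := trfs L222562 (flp_f L188540) rfl
theorem L222573 : N19824 = N19817 := eqes L222572 L156960
theorem L222574 : N19824 = N19817 := eqc rfl L222573 rfl
theorem L222575 : sm gg N14550 = N24184 := trfs L222562 L188547 rfl
theorem L222576 : N24184 = N19818 := eqes L222575 L156966
theorem L222577 : N24184 = N19818 := eqc rfl L222576 rfl
theorem L222578 : sm ga N19818 = N19823 := trfs L222577 L188502 rfl
theorem L222579 : N19823 = N24172 := eqes L222578 (flp_a L188427)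
theorem L222580 : N24172 = N19823 := (eqc rfl L222579 rfl).symm
theorem L222585 : sm gd N19818 = N28152 := trfs L222577 (flp_d L218094) rfl
theorem L222586 : N28152 = N24176 := eqes L222585 (flp_d L188449)
theorem L222587 : N28152 = N24176 := eqc rfl L222586 rfl
theorem L222588 : sm ge N19818 = N23492 := trfs L222577 L188505 rfl
theorem L222589 : N23492 = N18996 := eqes L222588 L156969
theorem L222590 : N23492 = N18996 := eqc rfl L222589 rfl
theorem L222591 : sm gf N19818 = N19821 := trfs L222577 (flp_f L188500) rfl
theorem L222592 : N19821 = N24178 := eqes L222591 L188458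
theorem L222593 : N24178 = N19821 := (eqc rfl L222592 rfl).symm
theorem L222601 : sm gd N19821 = N28142 := trfs L222593 (flp_d L218007) rfl
theorem L222602 : N28142 = N24183 := eqes L222601 L188496
theorem L222603 : N28142 = N24183 := eqc rfl L222602 rfl
theorem L222604 : sm ge N19821 = N23475 := trfs L222593 L188463 rfl
theorem L222605 : N23475 = N19013 := eqes L222604 L156991
theorem L222606 : N23475 = N19013 := eqc rfl L222605 rfl
theorem L222607 : sm gf N19821 = N19818 := trfs L222593 (flp_f L188458) rfl
theorem L222609 : sm gg N19821 = N24171 := trfs L222593 L188465 rfl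
theorem L222610 : N24171 = N24185 := eqes L222609 L188507
theorem L222611 : N24185 = N24171 := (eqc rfl L222610 rfl).symm
theorem L222620 : sm ge N24171 = N23493 := trfs L222611 L188512 rfl
theorem L222621 : N23493 = N23468 := eqes L222620 L188423
theorem L222622 : N23493 = N23468 := eqc rfl L222621 rfl
theorem L222624 : sm gg N24171 = N19821 := trfs L222611 (flp_g L188507) rfl
theorem L222626 : sm ga N23468 = N19016 := trfs L222622 L183135 rfl
theorem L222627 : N19016 = N18995 := eqes L222626 L182975
theorem L222628 : N19016 = N18995 := eqc rfl L222627 rfl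
theorem L222629 : sm gb N23468 = N27699 := trfs L222622 L214313 rfl
theorem L222630 : N27699 = N27658 := eqes L222629 L213990
theorem L222631 : N27699 = N27658 := eqc rfl L222630 rfl
theorem L222633 : sm gd N23468 = N27697 := trfs L222622 (flp_d L214309) rfl
theorem L222634 : N27697 = N27656 := eqes L222633 (flp_d L213982)
theorem L222635 : N27697 = N27656 := eqc rfl L222634 rfl
theorem L222636 : sm gf N23468 = N23498 := trfs L222622 L183158 rfl
theorem L222637 : N23498 = N18993 := eqes L222636 (flp_f L182973)
theorem L222638 : N23498 = N18993 := eqc rfl L222637 rfl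
theorem L222646 : sm gd N18993 = N27706 := trfs L222638 (flp_d L214420) rfl
theorem L222647 : N27706 = N23467 := eqes L222646 L182969
theorem L222648 : N27706 = N23467 := eqc rfl L222647 rfl
theorem L222650 : sm gg N18993 = N19015 := trfs L222638 (flp_g L183155) rfl
theorem L222651 : N19015 = N23469 := eqes L222650 L182978
theorem L222652 : N23469 = N19015 := (eqc rfl L222651 rfl).symm
theorem L222655 : sm gb N19015 = N27659 := trfs L222652 L213992 rfl
theorem L222656 : N27659 = N23484 := eqes L222655 (flp_b L183083)
theorem L222657 : N27659 = N23484 := eqc rfl L222656 rfl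
theorem L222659 : sm gd N19015 = N27657 := trfs L222652 (flp_d L213988) rfl
theorem L222660 : N27657 = N23496 := eqes L222659 (flp_d L183148)
theorem L222661 : N27657 = N23496 := eqc rfl L222660 rfl
theorem L222663 : sm gf N19015 = N23474 := trfs L222652 L183003 rfl
theorem L222664 : N23474 = N13821 := eqes L222663 (flp_f L145911)
theorem L222665 : N23474 = N13821 := eqc rfl L222664 rfl
theorem L222666 : sm gg N19015 = N18993 := trfs L222652 (flp_g L182978) rfl
theorem L222673 : sm gd N13821 = N27666 := trfs L222665 (flp_d L214099) rfl
theorem L222674 : N27666 = N19014 := eqes L222673 L145907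
theorem L222675 : N27666 = N19014 := eqc rfl L222674 rfl
theorem L222679 : sm ga N19014 = N27667 := trfs L222675 (flp_a L214105) rfl
theorem L222680 : N27667 = N23491 := eqes L222679 (flp_a L183126)
theorem L222681 : N27667 = N23491 := eqc rfl L222680 rfl
theorem L222683 : sm gg N19014 = N23472 := trfs L222675 (flp_g L214097) rfl
theorem L222684 : N23472 = N23497 := eqes L222683 L183150
theorem L222685 : N23497 = N23472 := (eqc rfl L222684 rfl).symm
theorem L222688 : sm gc N23472 = N27703 := trfs L222685 (flp_c L214407) rfl
theorem L222689 : N27703 = N27662 := eqes L222688 (flp_c L214082)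
theorem L222690 : N27703 = N27662 := eqc rfl L222689 rfl
theorem L222692 : sm ge N23472 = N27705 := trfs L222685 (flp_e L214415) rfl
theorem L222693 : N27705 = N27664 := eqes L222692 (flp_e L214090)
theorem L222694 : N27705 = N27664 := eqc rfl L222693 rfl
theorem L222698 : sm gg N23472 = N19014 := trfs L222685 (flp_g L183150) rfl
theorem L222711 : sm gd N27664 = N28161 := trfs L222694 (flp_d L218138) rfl
theorem L222712 : N28161 = N28139 := eqes L222711 (flp_d L217986)
theorem L222713 : N28161 = N28139 := eqc rfl L222712 rfl
theorem L222714 : sm gg N27664 = N23495 := trfs L222694 (flp_g L214413) rfl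
theorem L222717 : sm ge N28139 = N24189 := trfs L222713 L218140 rfl
theorem L222718 : N24189 = N24175 := eqes L222717 L217988
theorem L222719 : N24189 = N24175 := eqc rfl L222718 rfl
theorem L222720 : sm gg N28139 = N24187 := trfs L222713 (flp_g L218136) rfl
theorem L222724 : sm gc N24175 = N28159 := trfs L222719 (flp_c L218128) rfl
theorem L222725 : N28159 = N28137 := eqes L222724 (flp_c L217978)
theorem L222726 : N28159 = N28137 := eqc rfl L222725 rfl
theorem L222729 : sm gg N24175 = N19822 := trfs L222719 (flp_g L188528) rfl
theorem L222730 : N19822 = N28141 := eqes L222729 L217997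
theorem L222731 : N28141 = N19822 := (eqc rfl L222730 rfl).symm
theorem L222734 : sm gf N19822 = N28132 := trfs L222731 (flp_f L218001) rfl
theorem L222735 : N28132 = N24188 := eqes L222734 L188524
theorem L222736 : N28132 = N24188 := eqc rfl L222735 rfl
theorem L222737 : sm gg N19822 = N24175 := trfs L222731 (flp_g L217997) rfl
theorem L222742 : sm gg N24188 = N24170 := trfs L222736 (flp_g L217950) rfl
theorem L222743 : N24170 = N28162 := eqes L222742 L218143
theorem L222744 : N28162 = N24170 := (eqc rfl L222743 rfl).symm
theorem L222748 : sm gg N24170 = N24188 := trfs L222744 (flp_g L218143) rfl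
theorem L222750 : sm gg N28137 = N24186 := trfs L222726 (flp_g L218126) rfl
theorem L222752 : sm gg N27662 = N23494 := trfs L222690 (flp_g L214405) rfl
theorem L222755 : sm gf N23491 = N23473 := trfs L222681 (flp_f L214103) rfl
theorem L222765 : sm ga N23496 = N23473 := trfs L222661 L213986 rfl
theorem L222772 : sm gg N23484 = N25502 := trfs L222657 L214062 rfl
theorem L222773 : N25502 = N27682 := eqes L222772 L214222
theorem L222774 : N27682 = N25502 := (eqc rfl L222773 rfl).symm
theorem L222775 : sm ga N25502 = N27683 := trfs L222774 (flp_a L214232) rfl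
theorem L222777 : sm gc N25502 = N27647 := trfs L222774 L214224 rfl
theorem L222779 : sm ge N25502 = N26468 := trfs L222774 L214226 rfl
theorem L222781 : sm gf N25502 = N27678 := trfs L222774 (flp_f L214228) rfl
theorem L222783 : sm gg N25502 = N23484 := trfs L222774 (flp_g L214222) rfl
theorem L222787 : sm gg N23467 = N23496 := trfs L222648 (flp_g L214418) rfl
theorem L222793 : sm gg N27656 = N23491 := trfs L222635 (flp_g L214305) rfl
theorem L222796 : sm gg N27658 = N25591 := trfs L222631 L214383 rfl
theorem L222802 : sm gg N18995 = N13821 := trfs L222628 (flp_g L145914) rfl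
theorem L222812 : sm gg N19013 = N23468 := trfs L222606 L183010 rfl
theorem L222817 : sm gg N24183 = N28131 := trfs L222603 L218009 rfl
theorem L222823 : sm ga N18996 = N19015 := trfs L222590 L183130 rfl
theorem L222825 : sm gb N18996 = N27698 := trfs L222590 L214311 rfl
theorem L222826 : N27698 = N23461 := eqes L222825 (flp_b L182940)
theorem L222827 : N27698 = N23461 := eqc rfl L222826 rfl
theorem L222829 : sm gf N18996 = N19013 := trfs L222590 (flp_f L183128) rfl
theorem L222833 : sm gf N23461 = N25560 := trfs L222827 L214381 rfl
theorem L222834 : N25560 = N27643 := eqes L222833 L213919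
theorem L222835 : N27643 = N25560 := (eqc rfl L222834 rfl).symm
theorem L222836 : sm ga N25560 = N27642 := trfs L222835 L213921 rfl
theorem L222838 : sm gc N25560 = N27688 := trfs L222835 (flp_c L214272) rfl
theorem L222840 : sm ge N25560 = N26454 := trfs L222835 L213923 rfl
theorem L222842 : sm gf N25560 = N23461 := trfs L222835 (flp_f L213919) rfl
theorem L222844 : sm gg N25560 = N27637 := trfs L222835 L213925 rfl
theorem L222846 : sm ga N24176 = N24188 := trfs L222587 L218092 rfl
theorem L222848 : sm gf N24176 = N24183 := trfs L222587 (flp_f L218090) rfl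
theorem L222851 : sm ga N19823 = N19818 := trfs L222580 L188427 rfl
theorem L222858 : sm gg N19817 = N14555 := trfs L222574 (flp_g L157002) rfl
theorem L222861 : sm gg N19815 = N19823 := trfs L222566 (flp_g L188533) rfl
theorem L222864 : sm gc N28248 = N27966 := ded_13_2 (flp_b L216675) L187645 L187659 L216687 L222531
theorem L222866 : sm gc N28038 = N28225 := ded_13_4 L218724 L222537 (flp_b L188005) (flp_c L187991) L217248
theorem L222868 : sm gb N26454 = N25562 := ded_16_3 L198528 L214355 L222607 (flp_b L171431) L204398
theorem L222870 : sm gf N27695 = N27665 := ded_29_0 (flp_g L214093) L214088 L222714 (flp_a L214297)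
theorem L222872 : sm ga N27665 = N27704 := ded_29_4 (flp_f L214409) (flp_g L222714) (flp_f L214088) L214093
theorem L222874 : sm gg N27704 = N27655 := ded_29_3 L213976 L214088 L222714 L214409
theorem L222876 : sm gf N28151 = N28140 := ded_29_0 (flp_g L217991) L217984 L222720 (flp_a L218082)
theorem L222878 : sm ga N28140 = N28160 := ded_29_4 (flp_f L218130) (flp_g L222720) (flp_f L217984) L217991
theorem L222880 : sm gg N28160 = N28130 := ded_29_3 L217936 L217984 L222720 L218130
theorem L222882 : sm gg N28158 = N28129 := ded_21_2 (flp_c L217926) L222748 (flp_c L218124)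
theorem L222884 : sm gf N28150 = N28138 := ded_29_0 (flp_g L217980) L217976 L222750 (flp_a L218074)
theorem L222886 : sm ga N28138 = N28158 := ded_29_4 (flp_f L218122) (flp_g L222750) (flp_f L217976) L217980
theorem L222888 : sm gf N27694 = N27663 := ded_29_0 (flp_g L214084) L214080 L222752 (flp_a L214293)
theorem L222890 : sm ga N27663 = N27702 := ded_29_4 (flp_f L214401) (flp_g L222752) (flp_f L214080) L214084
theorem L222892 : sm gg N27702 = N27654 := ded_29_3 L213972 L214080 L222752 L214401
theorem L222894 : sm gb N27647 = N25492 := ded_13_1 (flp_c L198087) L167437 L167470 L198149 L222777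
theorem L222896 : sm gb N26468 = N25504 := ded_15_1 (flp_e L198159) L198149 L222779
theorem L222898 : sm gb N27688 = N25550 := ded_13_1 (flp_c L198444) L167679 L167716 L198514 L222838
theorem L222900 : sm gf N27966 = N28260 := ded_20_2 (flp_c L219064) (flp_f L218948) L222864
theorem L222902 : sm gg N28238 = N28038 := ded_21_0 L222866 L218726 L218852
theorem L222904 : sm gb N28260 = N27965 := ded_16_1 (flp_f L216673) (flp_b L187637) L187641 L216675 L222900
theorem L222906 : sm gb N28037 = N28238 := ded_17_5 L222902 (flp_b L217248) (flp_g L187987) L187983 L217246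
theorem L222908 : sm gb N24822 = N28710 := rfl
theorem L222910 : sm gd N28710 = N25055 := ded_14_2 (flp_b L194815) (flp_d L193061) L222908
theorem L222912 : sm ge N28710 = N24824 := ded_15_2 (flp_b L193071) (flp_e L193063) L222908
theorem L222914 : sm ga N24823 = N28711 := rfl
theorem L222916 : sm gd N28711 = N24825 := ded_9_2 (flp_a L193075) (flp_d L193069) L222914
theorem L222918 : sm ge N28711 = N27500 := ded_10_2 L222519 L222513 L222914
theorem L222920 : sm gb N27489 = N28711 := ded_14_3 L222916 (flp_b L193079) (flp_d L212887)
theorem L222922 : sm gc N24823 = N28712 := rfl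
theorem L222924 : sm ge N28712 = N25765 := ded_19_2 L222521 L222513 L222922
theorem L222926 : sm gg N28712 = N25771 := ded_21_2 L202709 L193705 L222922
theorem L222928 : sm ga N24824 = N28713 := rfl
theorem L222930 : sm gd N28713 = N24827 := ded_9_2 (flp_a L193085) (flp_d L193073) L222928
theorem L222932 : sm gc N28713 = N28022 := ded_28_0 L217128 (flp_c L209225) L177983 L178040 (flp_d L190383) L190381 (flp_d L193073) L222928
theorem L222934 : sm gb N28024 = N28713 := ded_14_3 L222930 L216621 (flp_d L217174)
theorem L222936 : sm gc N24824 = N28714 := rfl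
theorem L222938 : sm ga N28714 = N28022 := ded_8_1 (flp_c L222932) (flp_a L222928) L222936
theorem L222940 : sm gg N24824 = N28715 := rfl
theorem L222942 : sm gd N28715 = N24828 := ded_24_1 (flp_g L193089) (flp_d L193073) L222940
theorem L222944 : sm gb N28715 = N28595 := ded_17_1 (flp_g L221606) (flp_b L192419) (flp_g L160632) L193071 L222940
theorem L222946 : sm gf N24828 = N28716 := rfl
theorem L222948 : sm ga N28716 = N28277 := ded_11_1 (flp_f L220482) L220486 L222946
theorem L222950 : sm gc N28716 = N28206 := ded_20_1 L219242 L219236 L222946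
theorem L222952 : sm ge N28716 = N25059 := ded_25_1 (flp_f L194849) (flp_e L193091) L222946
theorem L222954 : sm gg N28716 = N28274 := ded_29_3 L219190 L190369 L193089 L222946
theorem L222956 : sm gb N28716 = N26054 := ded_16_1 (flp_f L201656) L193215 L192993 (flp_b L193093) L222946
theorem L222958 : sm gg N24829 = N28717 := rfl
theorem L222960 : sm gc N28717 = N27998 := ded_21_1 L216944 L212935 L222958
theorem L222962 : sm ge N28717 = N25063 := ded_26_1 (flp_g L194887) (flp_e L193097) L222958

end Cfsg.Agent.Helper28.SzbA
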