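import Cfsg.Agent.Helper28.SzbB1

/-! # The Suzuki group presentation, cosets of the subgroup generated by a, b, c, d, f, g: the coset enumeration, part 2 (helper28; generated) -/

set_option autoImplicit false

noncomputable section

namespace Cfsg.Agent.Helper28.SzbA

open Cfsg.Agent.Helper28.CosetTable

def N15365 : Q := sm gf N11745
def N15366 : Q := sm gb N11746
def N15367 : Q := sm gc N11746
def N15368 : Q := sm gf N11746
def N15369 : Q := sm gd N11747
def N15370 : Q := sm gf N11747
def N15371 : Q := sm gg N11748
def N15372 : Q := sm ga N11749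
def N15373 : Q := sm gc N11749
def N15374 : Q := sm gf N11749
def N15375 : Q := sm gg N11749
def N15376 : Q := sm gb N11750
def N15377 : Q := sm gb N11751
def N15378 : Q := sm gd N11752
def N15379 : Q := sm gf N11752
def N15380 : Q := sm gg N11752
def N15381 : Q := sm gc N11753
def N15382 : Q := sm ge N11753
def N15383 : Q := sm gf N11753
def N15384 : Q := sm gg N11753
def N15385 : Q := sm gb N11754
def N15386 : Q := sm gb N11755
def N15387 : Q := sm ge N11756
def N15388 : Q := sm gf N11756
def N15389 : Q := sm gg N11756
def N15390 : Q := sm gf N11757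
def N15391 : Q := sm gg N11757
def N15392 : Q := sm gb N11758
def N15393 : Q := sm gg N11758
def N15394 : Q := sm gf N11759
def N15395 : Q := sm ga N11760
def N15396 : Q := sm gg N11760
def N15397 : Q := sm gb N11761
def N15398 : Q := sm gb N11762
def N15399 : Q := sm gb N11763
def N15400 : Q := sm ga N11764
def N15401 : Q := sm gc N11764
def N15402 : Q := sm gg N11764
def N15403 : Q := sm gb N11765
def N15404 : Q := sm gg N11765
def N15405 : Q := sm gf N11766
def N15406 : Q := sm gb N11767
def N15407 : Q := sm ge N11767
def N15408 : Q := sm gf N11767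
def N15409 : Q := sm gg N11767
def N15410 : Q := sm gd N11768
def N15411 : Q := sm gf N11768
def N15412 : Q := sm gg N11768
def N15413 : Q := sm gb N11769
def N15414 : Q := sm gg N11769
def N15416 : Q := sm gf N11771
def N15417 : Q := sm gb N11772
def N15418 : Q := sm ga N11773
def N15419 : Q := sm gc N11773
def N15420 : Q := sm gg N11773
def N15421 : Q := sm ga N11774
def N15422 : Q := sm gc N11774
def N15423 : Q := sm gg N11774
def N15424 : Q := sm gb N11775
def N15425 : Q := sm gc N11775
def N15426 : Q := sm gg N11775
def N15427 : Q := sm gd N11776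
def N15428 : Q := sm gg N11776
def N15429 : Q := sm gf N11777
def N15430 : Q := sm ga N11778
def N15431 : Q := sm gc N11778
def N15432 : Q := sm gf N11778
def N15433 : Q := sm gg N11778
def N15434 : Q := sm gb N11779
def N15435 : Q := sm gb N11780
def N15436 : Q := sm ga N11781
def N15437 : Q := sm gd N11781
def N15438 : Q := sm ge N11781
def N15439 : Q := sm gf N11781
def N15440 : Q := sm gg N11781
def N15441 : Q := sm ge N11782
def N15443 : Q := sm gd N11783
def N15444 : Q := sm gg N11783
def N15447 : Q := sm gc N11786
def N15448 : Q := sm gb N11788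
def N15449 : Q := sm ge N11788
def N15451 : Q := sm gg N11788
def N15452 : Q := sm gd N11789
def N15455 : Q := sm gg N11790
def N15456 : Q := sm gb N11791
def N15457 : Q := sm gf N11791
def N15458 : Q := sm ga N11793
def N15459 : Q := sm gc N11793
def N15460 : Q := sm gf N11793
def N15464 : Q := sm ga N11797
def N15465 : Q := sm ge N11797
def N15466 : Q := sm gf N11797
def N15467 : Q := sm gg N11797
def N15468 : Q := sm ge N11798
def N15469 : Q := sm gf N11798
def N15470 : Q := sm gg N11798
def N15471 : Q := sm gd N11799
def N15472 : Q := sm gf N11799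
def N15473 : Q := sm gg N11799
def N15474 : Q := sm gb N11800
def N15475 : Q := sm gb N11801
def N15476 : Q := sm gd N11802
def N15477 : Q := sm gf N11802
def N15478 : Q := sm gg N11802
def N15479 : Q := sm gg N11803
def N15480 : Q := sm gb N11804
def N15481 : Q := sm gf N11804
def N15482 : Q := sm gc N11805
def N15483 : Q := sm gf N11805
def N15484 : Q := sm gg N11805
def N15485 : Q := sm gg N11806
def N15486 : Q := sm gb N11807
def N15487 : Q := sm gf N11807
def N15488 : Q := sm gb N11808
def N15489 : Q := sm ga N11809
def N15490 : Q := sm gc N11809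
def N15491 : Q := sm gf N11809
def N15492 : Q := sm gb N11810
def N15493 : Q := sm gg N11811
def N15494 : Q := sm gb N11812
def N15495 : Q := sm ga N11813
def N15496 : Q := sm gc N11813
def N15497 : Q := sm gf N11813
def N15498 : Q := sm gb N11814
def N15499 : Q := sm gb N11815
def N15500 : Q := sm ga N11816
def N15501 : Q := sm gc N11816
def N15502 : Q := sm gf N11816
def N15503 : Q := sm gb N11817
def N15504 : Q := sm gc N11817
def N15505 : Q := sm gf N11817
def N15506 : Q := sm gd N11818
def N15507 : Q := sm gf N11818
def N15508 : Q := sm gg N11819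
def N15509 : Q := sm gc N11820
def N15510 : Q := sm gd N11821
def N15511 : Q := sm gb N11822
def N15512 : Q := sm gd N11822
def N15513 : Q := sm gc N11823
def N15514 : Q := sm ge N11823
def N15515 : Q := sm ga N11824
def N15516 : Q := sm gd N11824
def N15517 : Q := sm ge N11824
def N15518 : Q := sm gf N11824
def N15519 : Q := sm gg N11824
def N15520 : Q := sm ge N11825
def N15527 : Q := sm gb N11831
def N15531 : Q := sm gd N11832
def N15533 : Q := sm gg N11832
def N15534 : Q := sm gb N11833
def N15535 : Q := sm gg N11833
def N15537 : Q := sm ga N11836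
def N15538 : Q := sm gc N11836
def N15539 : Q := sm gg N11836
def N15542 : Q := sm gg N11838
def N15543 : Q := sm ga N11840
def N15544 : Q := sm ge N11840
def N15545 : Q := sm gf N11840
def N15546 : Q := sm gg N11840
def N15547 : Q := sm ge N11841
def N15548 : Q := sm gf N11841
def N15549 : Q := sm gg N11841
def N15550 : Q := sm gd N11842
def N15551 : Q := sm gf N11842
def N15552 : Q := sm gg N11842
def N15553 : Q := sm gb N11843
def N15554 : Q := sm gb N11844
def N15555 : Q := sm gd N11845
def N15556 : Q := sm gf N11845
def N15557 : Q := sm gg N11845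
def N15558 : Q := sm gb N11846
def N15559 : Q := sm gg N11846
def N15560 : Q := sm gf N11847
def N15561 : Q := sm gc N11848
def N15562 : Q := sm gf N11848
def N15563 : Q := sm gg N11848
def N15564 : Q := sm gb N11849
def N15565 : Q := sm gg N11849
def N15566 : Q := sm gf N11850
def N15567 : Q := sm ga N11851
def N15568 : Q := sm gc N11851
def N15569 : Q := sm gg N11851
def N15570 : Q := sm gb N11852
def N15571 : Q := sm gb N11853
def N15572 : Q := sm gf N11854
def N15573 : Q := sm gb N11855
def N15574 : Q := sm ga N11856
def N15575 : Q := sm gc N11856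
def N15576 : Q := sm gg N11856
def N15577 : Q := sm gb N11857
def N15578 : Q := sm gb N11858
def N15579 : Q := sm ga N11859
def N15580 : Q := sm gc N11859
def N15581 : Q := sm gg N11859
def N15582 : Q := sm gb N11860
def N15583 : Q := sm gc N11860
def N15584 : Q := sm gg N11860
def N15585 : Q := sm gd N11861
def N15586 : Q := sm gg N11861
def N15587 : Q := sm gf N11862
def N15588 : Q := sm gc N11863
def N15589 : Q := sm gd N11864
def N15590 : Q := sm gb N11865
def N15591 : Q := sm ge N11866
def N15592 : Q := sm ga N11867
def N15593 : Q := sm gc N11867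
def N15595 : Q := sm gf N11867
def N15596 : Q := sm gg N11867
def N15599 : Q := sm gg N11868
def N15601 : Q := sm gb N11870
def N15602 : Q := sm gc N11871
def N15604 : Q := sm gg N11871
def N15605 : Q := sm gg N11872
def N15607 : Q := sm gb N11874
def N15608 : Q := sm gb N11875
def N15609 : Q := sm ge N11876
def N15610 : Q := sm gf N11876
def N15611 : Q := sm gg N11876
def N15612 : Q := sm gd N11877
def N15613 : Q := sm ge N11877
def N15614 : Q := sm gf N11877
def N15615 : Q := sm gg N11877
def N15616 : Q := sm gd N11878
def N15617 : Q := sm gf N11878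
def N15618 : Q := sm gg N11878
def N15619 : Q := sm gb N11879
def N15620 : Q := sm gg N11879
def N15621 : Q := sm gb N11880
def N15622 : Q := sm gf N11880
def N15623 : Q := sm gc N11881
def N15625 : Q := sm gg N11881
def N15627 : Q := sm gb N11883
def N15630 : Q := sm gg N11884
def N15631 : Q := sm ga N11885
def N15632 : Q := sm gc N11885
def N15633 : Q := sm gf N11885
def N15634 : Q := sm gb N11886
def N15635 : Q := sm gd N11886
def N15636 : Q := sm gf N11886
def N15637 : Q := sm gg N11886
def N15638 : Q := sm gg N11887
def N15639 : Q := sm gb N11888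
def N15641 : Q := sm gb N11889
def N15642 : Q := sm ga N11890
def N15643 : Q := sm gc N11890
def N15644 : Q := sm gf N11890
def N15645 : Q := sm gb N11891
def N15646 : Q := sm ga N11892
def N15647 : Q := sm gc N11892
def N15648 : Q := sm gf N11892
def N15649 : Q := sm gb N11893
def N15650 : Q := sm gc N11893
def N15651 : Q := sm gd N11894
def N15652 : Q := sm gf N11894
def N15653 : Q := sm gb N11895
def N15654 : Q := sm ga N11896
def N15655 : Q := sm gc N11896
def N15656 : Q := sm gg N11896
def N15657 : Q := sm ga N11897
def N15658 : Q := sm gf N11897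
def N15659 : Q := sm gg N11897
def N15660 : Q := sm gb N11898
def N15661 : Q := sm ga N11899
def N15662 : Q := sm gc N11899
def N15663 : Q := sm gf N11899
def N15664 : Q := sm gb N11900
def N15665 : Q := sm gc N11900
def N15666 : Q := sm gf N11900
def N15667 : Q := sm gd N11901
def N15668 : Q := sm gf N11901
def N15669 : Q := sm gb N11902
def N15670 : Q := sm gg N11902
def N15671 : Q := sm ga N11903
def N15672 : Q := sm gc N11903
def N15673 : Q := sm gg N11903
def N15674 : Q := sm ga N11904
def N15675 : Q := sm gc N11904
def N15676 : Q := sm gf N11904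
def N15677 : Q := sm gg N11904
def N15678 : Q := sm gb N11905
def N15679 : Q := sm gd N11905
def N15680 : Q := sm gf N11905
def N15681 : Q := sm gb N11906
def N15682 : Q := sm gc N11907
def N15683 : Q := sm ge N11907
def N15684 : Q := sm gf N11907
def N15685 : Q := sm gb N11908
def N15686 : Q := sm gg N11908
def N15687 : Q := sm ga N11909
def N15688 : Q := sm gc N11909
def N15689 : Q := sm gg N11909
def N15690 : Q := sm gb N11910
def N15691 : Q := sm gb N11911
def N15692 : Q := sm gc N11911
def N15693 : Q := sm gg N11911
def N15694 : Q := sm gd N11912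
def N15695 : Q := sm gg N11912
def N15696 : Q := sm gf N11913
def N15697 : Q := sm gb N11914
def N15698 : Q := sm gd N11914
def N15699 : Q := sm ge N11915
def N15700 : Q := sm gf N11915
def N15704 : Q := sm gb N11919
def N15705 : Q := sm gd N11919
def N15706 : Q := sm ga N11920
def N15707 : Q := sm gd N11920
def N15708 : Q := sm gf N11920
def N15709 : Q := sm gg N11920
def N15710 : Q := sm ge N11921
def N15711 : Q := sm gb N11922
def N15712 : Q := sm ge N11922
def N15713 : Q := sm gf N11923
def N15714 : Q := sm gb N11924
def N15715 : Q := sm ga N11925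
def N15716 : Q := sm gg N11925
def N15719 : Q := sm gb N11927
def N15720 : Q := sm ga N11928
def N15721 : Q := sm gc N11928
def N15723 : Q := sm gf N11928
def N15724 : Q := sm gg N11928
def N15726 : Q := sm gf N11929
def N15728 : Q := sm gb N11930
def N15729 : Q := sm gb N11931
def N15730 : Q := sm gc N11932
def N15731 : Q := sm gf N11932
def N15732 : Q := sm gg N11932
def N15733 : Q := sm gg N11933
def N15734 : Q := sm gf N11934
def N15735 : Q := sm gb N11935
def N15736 : Q := sm gb N11936
def N15737 : Q := sm ge N11937
def N15738 : Q := sm gf N11937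
def N15739 : Q := sm gg N11937
def N15740 : Q := sm gd N11938
def N15741 : Q := sm ge N11938
def N15742 : Q := sm gf N11938
def N15743 : Q := sm gg N11938
def N15744 : Q := sm gd N11939
def N15745 : Q := sm gf N11939
def N15746 : Q := sm gg N11939
def N15747 : Q := sm gb N11940
def N15748 : Q := sm gg N11940
def N15749 : Q := sm gb N11941
def N15750 : Q := sm gf N11941
def N15751 : Q := sm gc N11942
def N15752 : Q := sm gf N11942
def N15754 : Q := sm gb N11943
def N15756 : Q := sm ga N11945
def N15757 : Q := sm gc N11945
def N15758 : Q := sm gg N11945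
def N15761 : Q := sm gf N11946
def N15762 : Q := sm gb N11947
def N15763 : Q := sm gd N11947
def N15764 : Q := sm gf N11947
def N15766 : Q := sm gb N11948
def N15767 : Q := sm gg N11948
def N15769 : Q := sm ga N11950
def N15770 : Q := sm gc N11950
def N15771 : Q := sm gg N11950
def N15772 : Q := sm gb N11951
def N15773 : Q := sm gb N11952
def N15774 : Q := sm gb N11953
def N15775 : Q := sm gc N11953
def N15776 : Q := sm gd N11954
def N15777 : Q := sm gg N11954
def N15778 : Q := sm gb N11955
def N15779 : Q := sm ga N11956
def N15780 : Q := sm gc N11956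
def N15781 : Q := sm gf N11956
def N15782 : Q := sm ga N11957
def N15783 : Q := sm gc N11957
def N15784 : Q := sm gg N11957
def N15785 : Q := sm ga N11958
def N15786 : Q := sm gf N11958
def N15787 : Q := sm gg N11958
def N15788 : Q := sm gb N11959
def N15789 : Q := sm ga N11960
def N15790 : Q := sm gc N11960
def N15791 : Q := sm gg N11960
def N15792 : Q := sm gb N11961
def N15793 : Q := sm gc N11961
def N15794 : Q := sm gg N11961
def N15795 : Q := sm gd N11962
def N15796 : Q := sm gg N11962
def N15797 : Q := sm gb N11963
def N15798 : Q := sm gf N11963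
def N15799 : Q := sm ga N11964
def N15800 : Q := sm gc N11964
def N15801 : Q := sm gf N11964
def N15802 : Q := sm ga N11965
def N15803 : Q := sm gc N11965
def N15804 : Q := sm gf N11965
def N15805 : Q := sm gg N11965
def N15806 : Q := sm gb N11966
def N15807 : Q := sm gd N11966
def N15808 : Q := sm gg N11966
def N15809 : Q := sm gb N11967
def N15810 : Q := sm gc N11968
def N15811 : Q := sm ge N11968
def N15812 : Q := sm gg N11968
def N15813 : Q := sm gb N11969
def N15814 : Q := sm gf N11969
def N15815 : Q := sm ga N11970
def N15816 : Q := sm gc N11970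
def N15817 : Q := sm gf N11970
def N15818 : Q := sm gb N11971
def N15819 : Q := sm gb N11972
def N15820 : Q := sm gc N11972
def N15821 : Q := sm gf N11972
def N15822 : Q := sm gd N11973
def N15823 : Q := sm gf N11973
def N15824 : Q := sm gg N11974
def N15825 : Q := sm gb N11975
def N15826 : Q := sm gd N11975
def N15827 : Q := sm ge N11976
def N15828 : Q := sm gg N11976
def N15829 : Q := sm gb N11977
def N15832 : Q := sm gb N11980
def N15833 : Q := sm gd N11980
def N15834 : Q := sm ga N11981
def N15835 : Q := sm gd N11981
def N15836 : Q := sm gf N11981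
def N15837 : Q := sm gg N11981
def N15838 : Q := sm ge N11982
def N15839 : Q := sm gb N11983
def N15840 : Q := sm ge N11983
def N15841 : Q := sm gg N11984
def N15842 : Q := sm gb N11985
def N15843 : Q := sm ga N11986
def N15844 : Q := sm gf N11986
def N15846 : Q := sm gf N11987
def N15847 : Q := sm gb N11988
def N15848 : Q := sm gc N11989
def N15851 : Q := sm gg N11991
def N15856 : Q := sm ga N11997
def N15857 : Q := sm gd N11997
def N15858 : Q := sm gf N11997
def N15859 : Q := sm gg N11997
def N15860 : Q := sm ge N11998
def N15861 : Q := sm gg N11998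
def N15862 : Q := sm gb N11999
def N15863 : Q := sm gb N12000
def N15864 : Q := sm gd N12000
def N15865 : Q := sm gf N12000
def N15866 : Q := sm gg N12000
def N15867 : Q := sm gc N12001
def N15868 : Q := sm ge N12001
def N15869 : Q := sm gf N12001
def N15870 : Q := sm gg N12001
def N15871 : Q := sm gg N12002
def N15872 : Q := sm gb N12003
def N15873 : Q := sm gf N12003
def N15874 : Q := sm gg N12004
def N15875 : Q := sm gb N12005
def N15876 : Q := sm ga N12006
def N15877 : Q := sm gf N12006
def N15878 : Q := sm gb N12007
def N15879 : Q := sm gf N12007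
def N15880 : Q := sm gg N12007
def N15881 : Q := sm gg N12008
def N15882 : Q := sm gf N12009
def N15883 : Q := sm ga N12010
def N15884 : Q := sm gc N12010
def N15885 : Q := sm gf N12010
def N15886 : Q := sm gg N12010
def N15887 : Q := sm gb N12011
def N15888 : Q := sm gb N12012
def N15889 : Q := sm gb N12013
def N15890 : Q := sm gb N12014
def N15891 : Q := sm ga N12015
def N15892 : Q := sm gd N12015
def N15893 : Q := sm gf N12015
def N15894 : Q := sm gg N12015
def N15895 : Q := sm ge N12016
def N15896 : Q := sm gf N12016
def N15897 : Q := sm gb N12017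
def N15898 : Q := sm gb N12018
def N15899 : Q := sm gd N12018
def N15900 : Q := sm gf N12018
def N15901 : Q := sm gg N12018
def N15902 : Q := sm gc N12019
def N15903 : Q := sm ge N12019
def N15904 : Q := sm gf N12019
def N15905 : Q := sm gg N12019
def N15906 : Q := sm gb N12020
def N15907 : Q := sm gg N12020
def N15908 : Q := sm gf N12021
def N15909 : Q := sm gf N12022
def N15910 : Q := sm gb N12023
def N15913 : Q := sm gb N12025
def N15914 : Q := sm gf N12025
def N15915 : Q := sm gg N12025
def N15916 : Q := sm gg N12026
def N15917 : Q := sm gf N12027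
def N15918 : Q := sm ga N12028
def N15919 : Q := sm gc N12028
def N15920 : Q := sm gf N12028
def N15921 : Q := sm gg N12028
def N15922 : Q := sm gb N12029
def N15923 : Q := sm gb N12030
def N15924 : Q := sm gb N12031
def N15925 : Q := sm gb N12032
def N15926 : Q := sm gf N12033
def N15927 : Q := sm gg N12033
def N15928 : Q := sm gb N12034
def N15929 : Q := sm gb N12035
def N15930 : Q := sm ga N12036
def N15931 : Q := sm gc N12036
def N15932 : Q := sm gg N12036
def N15933 : Q := sm ga N12037
def N15934 : Q := sm gc N12037
def N15935 : Q := sm gf N12037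
def N15936 : Q := sm gf N12038
def N15937 : Q := sm gg N12038
def N15938 : Q := sm gb N12039
def N15939 : Q := sm gg N12039
def N15940 : Q := sm gb N12040
def N15941 : Q := sm gf N12040
def N15942 : Q := sm gc N12041
def N15943 : Q := sm gg N12041
def N15944 : Q := sm gb N12042
def N15945 : Q := sm ga N12043
def N15946 : Q := sm gc N12043
def N15947 : Q := sm gf N12043
def N15948 : Q := sm gb N12044
def N15949 : Q := sm ga N12045
def N15950 : Q := sm gc N12045
def N15951 : Q := sm gg N12045
def N15952 : Q := sm gb N12046
def N15953 : Q := sm ga N12047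
def N15954 : Q := sm gc N12047
def N15955 : Q := sm gf N12047
def N15956 : Q := sm gb N12048
def N15957 : Q := sm gb N12049
def N15958 : Q := sm gc N12049
def N15959 : Q := sm gd N12050
def N15960 : Q := sm gg N12050
def N15961 : Q := sm gb N12051
def N15962 : Q := sm ga N12052
def N15963 : Q := sm gc N12052
def N15964 : Q := sm gf N12052
def N15965 : Q := sm gb N12053
def N15966 : Q := sm gc N12053
def N15967 : Q := sm gd N12054
def N15968 : Q := sm gf N12054
def N15969 : Q := sm gb N12055
def N15970 : Q := sm ga N12056
def N15971 : Q := sm gc N12056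
def N15972 : Q := sm gg N12056
def N15973 : Q := sm gb N12057
def N15974 : Q := sm gd N12057
def N15975 : Q := sm gf N12057
def N15976 : Q := sm gg N12057
def N15977 : Q := sm gf N12058
def N15978 : Q := sm gg N12058
def N15979 : Q := sm gb N12059
def N15980 : Q := sm gg N12059
def N15981 : Q := sm gb N12060
def N15982 : Q := sm gf N12060
def N15983 : Q := sm gb N12061
def N15984 : Q := sm gb N12062
def N15985 : Q := sm ga N12063
def N15986 : Q := sm gc N12063
def N15987 : Q := sm gg N12063
def N15988 : Q := sm ga N12064
def N15989 : Q := sm gc N12064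
def N15990 : Q := sm gf N12064
def N15991 : Q := sm gb N12065
def N15992 : Q := sm gc N12065
def N15993 : Q := sm gg N12065
def N15994 : Q := sm gd N12066
def N15995 : Q := sm gg N12066
def N15996 : Q := sm gf N12067
def N15997 : Q := sm gb N12068
def N15998 : Q := sm gc N12068
def N15999 : Q := sm gf N12068
def N16000 : Q := sm gd N12069
def N16001 : Q := sm gf N12069
def N16002 : Q := sm gg N12070
def N16003 : Q := sm gf N12071
def N16004 : Q := sm gg N12071
def N16005 : Q := sm gb N12072
def N16006 : Q := sm gd N12072
def N16007 : Q := sm gg N12072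
def N16008 : Q := sm gb N12073
def N16009 : Q := sm gc N12074
def N16010 : Q := sm ge N12074
def N16011 : Q := sm gg N12074
def N16012 : Q := sm gb N12075
def N16013 : Q := sm gf N12075
def N16014 : Q := sm ga N12077
def N16015 : Q := sm gc N12077
def N16016 : Q := sm gf N12077
def N16017 : Q := sm gg N12077
def N16018 : Q := sm gb N12078
def N16019 : Q := sm gd N12078
def N16020 : Q := sm gf N12078
def N16021 : Q := sm gb N12079
def N16022 : Q := sm gc N12080
def N16023 : Q := sm ge N12080
def N16024 : Q := sm gf N12080
def N16025 : Q := sm gb N12081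
def N16026 : Q := sm gg N12081
def N16027 : Q := sm gc N12083
def N16028 : Q := sm gg N12083
def N16029 : Q := sm gb N12084
def N16030 : Q := sm ga N12085
def N16031 : Q := sm gc N12085
def N16032 : Q := sm gf N12085
def N16033 : Q := sm gb N12086
def N16034 : Q := sm gd N12088
def N16035 : Q := sm gg N12088
def N16036 : Q := sm gb N12089
def N16037 : Q := sm ga N12090
def N16038 : Q := sm gc N12090
def N16039 : Q := sm gf N12090
def N16041 : Q := sm gc N12091
def N16042 : Q := sm gf N12091
def N16043 : Q := sm gd N12092
def N16044 : Q := sm gf N12092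
def N16045 : Q := sm gb N12093
def N16046 : Q := sm ga N12094
def N16047 : Q := sm gc N12094
def N16048 : Q := sm gg N12094
def N16049 : Q := sm gc N12095
def N16050 : Q := sm gf N12095
def N16051 : Q := sm gg N12095
def N16052 : Q := sm gc N12097
def N16053 : Q := sm ge N12097
def N16054 : Q := sm gg N12097
def N16055 : Q := sm gb N12098
def N16056 : Q := sm ga N12099
def N16057 : Q := sm gc N12099
def N16058 : Q := sm gf N12099
def N16059 : Q := sm gb N12100
def N16060 : Q := sm gc N12100
def N16061 : Q := sm gf N12100
def N16062 : Q := sm gd N12101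
def N16063 : Q := sm gf N12101
def N16064 : Q := sm gg N12102
def N16065 : Q := sm ga N12103
def N16066 : Q := sm gc N12103
def N16067 : Q := sm gf N12103
def N16068 : Q := sm gg N12103
def N16069 : Q := sm gb N12104
def N16070 : Q := sm gd N12104
def N16071 : Q := sm gc N12105
def N16072 : Q := sm ge N12105
def N16073 : Q := sm gf N12105
def N16074 : Q := sm gb N12106
def N16075 : Q := sm ga N12107
def N16076 : Q := sm gc N12107
def N16077 : Q := sm gg N12107
def N16078 : Q := sm gb N12108
def N16079 : Q := sm gc N12108
def N16080 : Q := sm gg N12108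
def N16081 : Q := sm gd N12109
def N16082 : Q := sm gg N12109
def N16083 : Q := sm gf N12110
def N16084 : Q := sm gg N12111
def N16085 : Q := sm gf N12112
def N16086 : Q := sm ga N12113
def N16087 : Q := sm gd N12113
def N16088 : Q := sm gf N12113
def N16089 : Q := sm gg N12113
def N16090 : Q := sm gc N12114
def N16091 : Q := sm ge N12114
def N16092 : Q := sm gb N12115
def N16093 : Q := sm gd N12115
def N16094 : Q := sm gg N12115
def N16095 : Q := sm gg N12116
def N16096 : Q := sm gb N12117
def N16097 : Q := sm ga N12118
def N16098 : Q := sm gc N12118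
def N16099 : Q := sm gf N12118
def N16100 : Q := sm gb N12119
def N16101 : Q := sm gc N12119
def N16102 : Q := sm gd N12120
def N16103 : Q := sm gf N12120
def N16104 : Q := sm ga N12122
def N16105 : Q := sm gc N12122
def N16106 : Q := sm gg N12122
def N16107 : Q := sm gb N12123
def N16108 : Q := sm gd N12123
def N16109 : Q := sm gf N12123
def N16110 : Q := sm gc N12125
def N16111 : Q := sm ge N12125
def N16112 : Q := sm gf N12125
def N16113 : Q := sm gb N12126
def N16114 : Q := sm gg N12126
def N16115 : Q := sm gb N12127
def N16116 : Q := sm gc N12128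
def N16117 : Q := sm gf N12128
def N16118 : Q := sm gg N12128
def N16119 : Q := sm gb N12129
def N16121 : Q := sm gf N12129
def N16122 : Q := sm gg N12129
def N16123 : Q := sm gg N12130
def N16124 : Q := sm gf N12131
def N16125 : Q := sm ga N12132
def N16126 : Q := sm gd N12132
def N16127 : Q := sm gf N12132
def N16128 : Q := sm gg N12132
def N16129 : Q := sm gc N12133
def N16130 : Q := sm ge N12133
def N16131 : Q := sm gb N12134
def N16132 : Q := sm gd N12134
def N16133 : Q := sm ge N12134
def N16134 : Q := sm gf N12134
def N16135 : Q := sm gf N12135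
def N16136 : Q := sm gb N12136
def N16137 : Q := sm ga N12137
def N16138 : Q := sm gc N12137
def N16139 : Q := sm gg N12137
def N16140 : Q := sm gb N12138
def N16141 : Q := sm gc N12138
def N16142 : Q := sm gd N12139
def N16143 : Q := sm gg N12139
def N16144 : Q := sm ga N12141
def N16145 : Q := sm gc N12141
def N16146 : Q := sm gf N12141
def N16147 : Q := sm gb N12142
def N16148 : Q := sm gd N12142
def N16149 : Q := sm gg N12142
def N16150 : Q := sm gc N12144
def N16151 : Q := sm ge N12144
def N16152 : Q := sm gg N12144
def N16153 : Q := sm gb N12145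
def N16154 : Q := sm gf N12145
def N16155 : Q := sm gb N12146
def N16156 : Q := sm gg N12149
def N16157 : Q := sm gb N12150
def N16158 : Q := sm gf N12150
def N16159 : Q := sm gd N12151
def N16160 : Q := sm gf N12151
def N16161 : Q := sm gg N12151
def N16162 : Q := sm gg N12152
def N16163 : Q := sm gb N12153
def N16164 : Q := sm ga N12154
def N16165 : Q := sm gc N12154
def N16166 : Q := sm gf N12154
def N16167 : Q := sm gb N12155
def N16168 : Q := sm ge N12155
def N16169 : Q := sm gg N12155
def N16170 : Q := sm gg N12156
def N16171 : Q := sm gb N12157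
def N16172 : Q := sm gf N12157
def N16173 : Q := sm ga N12158
def N16174 : Q := sm gc N12158
def N16175 : Q := sm gf N12158
def N16176 : Q := sm gb N12159
def N16177 : Q := sm gb N12160
def N16178 : Q := sm gc N12160
def N16179 : Q := sm gd N12161
def N16180 : Q := sm gf N12161
def N16181 : Q := sm gb N12162
def N16182 : Q := sm ga N12163
def N16183 : Q := sm gc N12163
def N16184 : Q := sm gg N12163
def N16185 : Q := sm ga N12164
def N16186 : Q := sm gc N12164
def N16187 : Q := sm gf N12164
def N16188 : Q := sm gg N12164
def N16189 : Q := sm gb N12165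
def N16190 : Q := sm gd N12165
def N16191 : Q := sm gf N12165
def N16192 : Q := sm gb N12166
def N16193 : Q := sm gc N12167
def N16194 : Q := sm ge N12167
def N16195 : Q := sm gf N12167
def N16196 : Q := sm gb N12168
def N16197 : Q := sm gg N12168
def N16198 : Q := sm gb N12169
def N16199 : Q := sm gb N12172
def N16200 : Q := sm gg N12172
def N16201 : Q := sm gf N12173
def N16202 : Q := sm ga N12174
def N16203 : Q := sm gd N12174
def N16204 : Q := sm gf N12174
def N16205 : Q := sm gg N12174
def N16206 : Q := sm ge N12175
def N16207 : Q := sm gf N12175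
def N16208 : Q := sm gb N12176
def N16209 : Q := sm ga N12177
def N16210 : Q := sm gc N12177
def N16211 : Q := sm gg N12177
def N16212 : Q := sm gb N12178
def N16213 : Q := sm ge N12178
def N16214 : Q := sm gf N12178
def N16215 : Q := sm gf N12179
def N16216 : Q := sm gb N12180
def N16217 : Q := sm gg N12180
def N16218 : Q := sm ga N12181
def N16219 : Q := sm gc N12181
def N16220 : Q := sm gg N12181
def N16221 : Q := sm gb N12182
def N16222 : Q := sm gb N12183
def N16223 : Q := sm gc N12183
def N16224 : Q := sm gd N12184
def N16225 : Q := sm gg N12184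
def N16226 : Q := sm gb N12185
def N16227 : Q := sm ga N12186
def N16228 : Q := sm gc N12186
def N16229 : Q := sm gf N12186
def N16230 : Q := sm ga N12187
def N16231 : Q := sm gc N12187
def N16232 : Q := sm gf N12187
def N16233 : Q := sm gg N12187
def N16234 : Q := sm gb N12188
def N16235 : Q := sm gd N12188
def N16236 : Q := sm gg N12188
def N16237 : Q := sm gb N12189
def N16238 : Q := sm gc N12190
def N16239 : Q := sm ge N12190
def N16240 : Q := sm gg N12190
def N16241 : Q := sm gb N12191
def N16242 : Q := sm gf N12191
def N16243 : Q := sm gb N12192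
def N16244 : Q := sm gb N12193
def N16245 : Q := sm gb N12194
def N16246 : Q := sm gd N12195
def N16247 : Q := sm gf N12195
def N16248 : Q := sm gg N12195
def N16249 : Q := sm ge N12196
def N16250 : Q := sm gf N12196
def N16251 : Q := sm gg N12196
def N16252 : Q := sm gb N12197
def N16253 : Q := sm gg N12197
def N16254 : Q := sm gb N12198
def N16255 : Q := sm gf N12198
def N16256 : Q := sm gb N12199
def N16257 : Q := sm ga N12200
def N16258 : Q := sm gc N12200
def N16259 : Q := sm gf N12200
def N16260 : Q := sm gb N12201
def N16261 : Q := sm gf N12202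
def N16262 : Q := sm gg N12202
def N16263 : Q := sm ge N12203
def N16264 : Q := sm gf N12203
def N16265 : Q := sm gg N12203
def N16266 : Q := sm gg N12204
def N16267 : Q := sm gb N12205
def N16268 : Q := sm gf N12205
def N16269 : Q := sm gb N12206
def N16270 : Q := sm ge N12206
def N16271 : Q := sm gg N12206
def N16272 : Q := sm gg N12207
def N16273 : Q := sm gb N12208
def N16274 : Q := sm ga N12209
def N16275 : Q := sm gc N12209
def N16276 : Q := sm gf N12209
def N16277 : Q := sm gb N12210
def N16278 : Q := sm gc N12210
def N16279 : Q := sm gf N12210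
def N16280 : Q := sm gd N12211
def N16281 : Q := sm gf N12211
def N16282 : Q := sm ga N12213
def N16283 : Q := sm gd N12213
def N16284 : Q := sm ge N12213
def N16285 : Q := sm gf N12213
def N16286 : Q := sm gg N12213
def N16287 : Q := sm ge N12214
def N16288 : Q := sm gg N12214
def N16289 : Q := sm gg N12215
def N16290 : Q := sm gb N12216
def N16291 : Q := sm gf N12216
def N16292 : Q := sm gb N12217
def N16293 : Q := sm gf N12217
def N16294 : Q := sm ga N12218
def N16295 : Q := sm gf N12218
def N16296 : Q := sm gb N12219
def N16297 : Q := sm gb N12220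
def N16298 : Q := sm gb N12221
def N16299 : Q := sm ga N12222
def N16300 : Q := sm gc N12222
def N16301 : Q := sm gg N12222
def N16302 : Q := sm ga N12223
def N16303 : Q := sm gc N12223
def N16304 : Q := sm gf N12223
def N16305 : Q := sm gg N12223
def N16306 : Q := sm gb N12224
def N16307 : Q := sm gd N12224
def N16308 : Q := sm gc N12225
def N16309 : Q := sm ge N12225
def N16310 : Q := sm gf N12225
def N16311 : Q := sm gb N12226
def N16312 : Q := sm ga N12227
def N16313 : Q := sm gc N12227
def N16314 : Q := sm gg N12227
def N16315 : Q := sm gc N12228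
def N16316 : Q := sm gg N12228
def N16317 : Q := sm gd N12229
def N16318 : Q := sm gg N12229
def N16319 : Q := sm gf N12230
def N16320 : Q := sm gc N12231
def N16321 : Q := sm gf N12231
def N16322 : Q := sm gg N12231
def N16323 : Q := sm gb N12232
def N16324 : Q := sm gd N12232
def N16325 : Q := sm gf N12232
def N16326 : Q := sm gg N12232
def N16327 : Q := sm gb N12233
def N16328 : Q := sm gf N12234
def N16329 : Q := sm ga N12235
def N16330 : Q := sm gd N12235
def N16331 : Q := sm gf N12235
def N16332 : Q := sm gg N12235
def N16333 : Q := sm gc N12236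
def N16334 : Q := sm ge N12236
def N16335 : Q := sm gf N12236
def N16336 : Q := sm gb N12237
def N16337 : Q := sm gc N12238
def N16338 : Q := sm gb N12239
def N16339 : Q := sm gd N12239
def N16340 : Q := sm ge N12239
def N16341 : Q := sm gf N12239
def N16342 : Q := sm gf N12240
def N16343 : Q := sm gg N12241
def N16344 : Q := sm gb N12242
def N16345 : Q := sm ga N12243
def N16346 : Q := sm gc N12243
def N16347 : Q := sm gf N12243
def N16348 : Q := sm gb N12245
def N16349 : Q := sm gb N12246
def N16350 : Q := sm gd N12247
def N16351 : Q := sm gf N12247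
def N16352 : Q := sm gg N12247
def N16353 : Q := sm ge N12248
def N16354 : Q := sm gf N12248
def N16355 : Q := sm gg N12248
def N16356 : Q := sm gb N12249
def N16357 : Q := sm gg N12249
def N16358 : Q := sm gb N12250
def N16359 : Q := sm gf N12250
def N16360 : Q := sm ga N12251
def N16361 : Q := sm gc N12251
def N16362 : Q := sm gg N12251
def N16363 : Q := sm gb N12253
def N16364 : Q := sm gf N12254
def N16365 : Q := sm gg N12254
def N16366 : Q := sm ge N12255
def N16367 : Q := sm gf N12255
def N16368 : Q := sm gg N12255
def N16369 : Q := sm gb N12256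
def N16370 : Q := sm gg N12256
def N16371 : Q := sm gf N12257
def N16372 : Q := sm gb N12258
def N16373 : Q := sm ge N12258
def N16374 : Q := sm gf N12258
def N16375 : Q := sm gf N12259
def N16376 : Q := sm gb N12260
def N16377 : Q := sm ga N12261
def N16378 : Q := sm gc N12261
def N16379 : Q := sm gg N12261
def N16380 : Q := sm gb N12262
def N16381 : Q := sm gc N12262
def N16382 : Q := sm gd N12263
def N16383 : Q := sm gg N12263
def N16384 : Q := sm ga N12265
def N16385 : Q := sm gd N12265
def N16386 : Q := sm ge N12265
def N16387 : Q := sm gf N12265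
def N16388 : Q := sm gg N12265
def N16389 : Q := sm ge N12266
def N16390 : Q := sm gf N12266
def N16391 : Q := sm gd N12267
def N16392 : Q := sm gf N12267
def N16393 : Q := sm gb N12268
def N16394 : Q := sm gg N12268
def N16395 : Q := sm gb N12269
def N16396 : Q := sm gg N12269
def N16397 : Q := sm ga N12270
def N16398 : Q := sm gg N12270
def N16399 : Q := sm gb N12271
def N16400 : Q := sm gb N12272
def N16401 : Q := sm gb N12273
def N16402 : Q := sm ga N12274
def N16403 : Q := sm gc N12274
def N16404 : Q := sm gf N12274
def N16405 : Q := sm ga N12275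
def N16406 : Q := sm gc N12275
def N16407 : Q := sm gf N12275
def N16408 : Q := sm gg N12275
def N16409 : Q := sm gb N12276
def N16410 : Q := sm gd N12276
def N16411 : Q := sm gc N12277
def N16412 : Q := sm ge N12277
def N16413 : Q := sm gg N12277
def N16414 : Q := sm gb N12278
def N16415 : Q := sm ga N12279
def N16416 : Q := sm gc N12279
def N16417 : Q := sm gf N12279
def N16418 : Q := sm gc N12280
def N16419 : Q := sm gf N12280
def N16420 : Q := sm gd N12281
def N16421 : Q := sm gf N12281
def N16422 : Q := sm gg N12282
def N16423 : Q := sm gc N12283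
def N16424 : Q := sm gf N12283
def N16425 : Q := sm gg N12283
def N16426 : Q := sm gb N12284
def N16427 : Q := sm gd N12284
def N16428 : Q := sm gf N12284
def N16429 : Q := sm gg N12284
def N16430 : Q := sm gg N12285
def N16431 : Q := sm gb N12286
def N16432 : Q := sm ga N12287
def N16433 : Q := sm gd N12287
def N16434 : Q := sm gf N12287
def N16435 : Q := sm gg N12287
def N16436 : Q := sm gc N12288
def N16437 : Q := sm ge N12288
def N16438 : Q := sm gg N12288
def N16439 : Q := sm gb N12289
def N16440 : Q := sm gc N12290
def N16441 : Q := sm gb N12291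
def N16442 : Q := sm gd N12291
def N16443 : Q := sm ge N12291
def N16444 : Q := sm gg N12291
def N16445 : Q := sm gg N12292
def N16446 : Q := sm gf N12293
def N16447 : Q := sm gb N12294
def N16448 : Q := sm ga N12295
def N16449 : Q := sm gc N12295
def N16450 : Q := sm gg N12295
def N16451 : Q := sm gb N12296
def N16452 : Q := sm ge N12296
def N16453 : Q := sm gf N12296
def N16454 : Q := sm gf N12297
def N16455 : Q := sm gg N12298
def N16456 : Q := sm ga N12299
def N16457 : Q := sm gc N12299
def N16458 : Q := sm gg N12299
def N16459 : Q := sm gb N12301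
def N16460 : Q := sm gb N12302
def N16461 : Q := sm gd N12302
def N16462 : Q := sm ga N12303
def N16463 : Q := sm gd N12303
def N16464 : Q := sm gf N12303
def N16465 : Q := sm gg N12303
def N16466 : Q := sm gc N12304
def N16467 : Q := sm ge N12304
def N16468 : Q := sm gb N12305
def N16469 : Q := sm gd N12305
def N16470 : Q := sm gf N12305
def N16471 : Q := sm gg N12305
def N16472 : Q := sm gc N12306
def N16473 : Q := sm ge N12306
def N16474 : Q := sm gf N12306
def N16475 : Q := sm gg N12306
def N16476 : Q := sm gg N12307
def N16477 : Q := sm gf N12308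
def N16478 : Q := sm ga N12310
def N16479 : Q := sm ge N12310
def N16480 : Q := sm gf N12310
def N16481 : Q := sm gg N12310
def N16482 : Q := sm gb N12312
def N16483 : Q := sm ge N12312
def N16484 : Q := sm gg N12312
def N16485 : Q := sm gg N12313
def N16486 : Q := sm gf N12314
def N16487 : Q := sm ga N12315
def N16488 : Q := sm gc N12315
def N16489 : Q := sm gf N12315
def N16490 : Q := sm gg N12315
def N16491 : Q := sm gb N12316
def N16492 : Q := sm gb N12317
def N16493 : Q := sm gb N12318
def N16494 : Q := sm gd N12318
def N16495 : Q := sm ga N12319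
def N16496 : Q := sm gd N12319
def N16497 : Q := sm gf N12319
def N16498 : Q := sm gg N12319
def N16499 : Q := sm gc N12320
def N16500 : Q := sm ge N12320
def N16501 : Q := sm gb N12321
def N16502 : Q := sm gd N12321
def N16503 : Q := sm gf N12321
def N16504 : Q := sm gg N12321
def N16505 : Q := sm gc N12322
def N16506 : Q := sm ge N12322
def N16507 : Q := sm gf N12322
def N16508 : Q := sm gg N12322
def N16509 : Q := sm gg N12323
def N16510 : Q := sm gf N12324
def N16511 : Q := sm ga N12326
def N16512 : Q := sm ge N12326
def N16513 : Q := sm gf N12326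
def N16514 : Q := sm gg N12326
def N16515 : Q := sm gd N12328
def N16516 : Q := sm gc N12329
def N16517 : Q := sm ge N12329
def N16518 : Q := sm gb N12330
def N16519 : Q := sm gd N12330
def N16520 : Q := sm ge N12330
def N16521 : Q := sm gd N12332
def N16522 : Q := sm gc N12333
def N16523 : Q := sm ge N12333
def N16524 : Q := sm gb N12334
def N16525 : Q := sm gd N12334
def N16526 : Q := sm ge N12334
def N16535 : Q := sm ge N12344
def N16536 : Q := sm gf N12344
def N16537 : Q := sm gg N12344
def N16538 : Q := sm gf N12345
def N16539 : Q := sm gg N12345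
def N16540 : Q := sm gb N12346
def N16541 : Q := sm gb N12347
def N16542 : Q := sm ga N12348
def N16543 : Q := sm gc N12348
def N16544 : Q := sm gg N12348
def N16545 : Q := sm ga N12349
def N16546 : Q := sm gc N12349
def N16547 : Q := sm gf N12349
def N16548 : Q := sm gc N12350
def N16549 : Q := sm gd N12351
def N16550 : Q := sm gg N12351
def N16551 : Q := sm gc N12353
def N16552 : Q := sm gd N12354
def N16553 : Q := sm gf N12354
def N16554 : Q := sm ga N12356
def N16555 : Q := sm gd N12356
def N16556 : Q := sm ge N12356
def N16557 : Q := sm gf N12356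
def N16558 : Q := sm gg N12356
def N16559 : Q := sm gf N12357
def N16560 : Q := sm gg N12357
def N16561 : Q := sm gd N12358
def N16562 : Q := sm gf N12358
def N16563 : Q := sm gg N12358
def N16564 : Q := sm gb N12359
def N16565 : Q := sm gg N12359
def N16566 : Q := sm gb N12360
def N16567 : Q := sm gf N12360
def N16568 : Q := sm gb N12361
def N16569 : Q := sm gg N12361
def N16570 : Q := sm gb N12362
def N16571 : Q := sm gf N12362
def N16572 : Q := sm gc N12363
def N16573 : Q := sm gg N12363
def N16574 : Q := sm gb N12364
def N16575 : Q := sm ga N12365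
def N16576 : Q := sm gc N12365
def N16577 : Q := sm gf N12365
def N16578 : Q := sm gb N12366
def N16579 : Q := sm gd N12368
def N16580 : Q := sm gg N12368
def N16581 : Q := sm gb N12369
def N16582 : Q := sm ga N12370
def N16583 : Q := sm gc N12370
def N16585 : Q := sm gc N12371
def N16586 : Q := sm gf N12371
def N16587 : Q := sm gd N12372
def N16588 : Q := sm gf N12372
def N16589 : Q := sm gb N12373
def N16590 : Q := sm ga N12374
def N16591 : Q := sm gc N12374
def N16592 : Q := sm gc N12375
def N16593 : Q := sm gd N12376
def N16594 : Q := sm ge N12377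
def N16595 : Q := sm gg N12377
def N16596 : Q := sm gb N12378
def N16597 : Q := sm gc N12379
def N16598 : Q := sm gc N12380
def N16599 : Q := sm gd N12381
def N16600 : Q := sm gf N12381
def N16601 : Q := sm gg N12382
def N16602 : Q := sm gc N12383
def N16603 : Q := sm gb N12384
def N16604 : Q := sm gd N12384
def N16605 : Q := sm gc N12385
def N16606 : Q := sm ge N12385
def N16607 : Q := sm gf N12385
def N16608 : Q := sm gb N12386
def N16609 : Q := sm gc N12387
def N16610 : Q := sm gc N12388
def N16611 : Q := sm gd N12389
def N16612 : Q := sm gg N12389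
def N16613 : Q := sm gf N12390
def N16614 : Q := sm gb N12392
def N16615 : Q := sm gg N12392
def N16616 : Q := sm ga N12395
def N16617 : Q := sm gd N12395
def N16618 : Q := sm gg N12395
def N16619 : Q := sm ge N12396
def N16620 : Q := sm gg N12396
def N16621 : Q := sm gb N12397
def N16622 : Q := sm gc N12398
def N16623 : Q := sm gg N12399
def N16624 : Q := sm gb N12400
def N16625 : Q := sm gf N12400
def N16626 : Q := sm ga N12401
def N16627 : Q := sm gf N12401
def N16628 : Q := sm gb N12402
def N16629 : Q := sm gc N12404
def N16630 : Q := sm gb N12405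
def N16631 : Q := sm gd N12405
def N16632 : Q := sm gf N12405
def N16633 : Q := sm gg N12405
def N16634 : Q := sm ga N12408
def N16635 : Q := sm gd N12408
def N16636 : Q := sm gf N12408
def N16637 : Q := sm gg N12408
def N16638 : Q := sm gc N12409
def N16639 : Q := sm ge N12409
def N16640 : Q := sm gf N12409
def N16641 : Q := sm gb N12410
def N16642 : Q := sm gc N12411
def N16645 : Q := sm ge N12412
def N16646 : Q := sm gf N12412
def N16647 : Q := sm gf N12413
def N16648 : Q := sm gb N12414
def N16649 : Q := sm gg N12414
def N16650 : Q := sm ga N12415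
def N16651 : Q := sm gg N12415
def N16652 : Q := sm gb N12416
def N16653 : Q := sm ga N12419
def N16654 : Q := sm gg N12419
def N16655 : Q := sm gb N12420
def N16656 : Q := sm gb N12423
def N16657 : Q := sm gd N12423
def N16658 : Q := sm gf N12423
def N16659 : Q := sm gg N12423
def N16660 : Q := sm gc N12424
def N16661 : Q := sm ge N12424
def N16662 : Q := sm gf N12424
def N16663 : Q := sm gg N12424
def N16664 : Q := sm gg N12425
def N16665 : Q := sm gf N12426
def N16666 : Q := sm ge N12427
def N16667 : Q := sm gd N12429
def N16668 : Q := sm ge N12430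
def N16669 : Q := sm gb N12433
def N16670 : Q := sm gc N12434
def N16671 : Q := sm gf N12434
def N16672 : Q := sm gd N12436
def N16673 : Q := sm gf N12436
def N16674 : Q := sm gc N12438
def N16675 : Q := sm gg N12438
def N16676 : Q := sm gb N12439
def N16677 : Q := sm gd N12439
def N16678 : Q := sm gc N12440
def N16679 : Q := sm ge N12440
def N16680 : Q := sm gf N12440
def N16681 : Q := sm gb N12441
def N16682 : Q := sm gc N12442
def N16683 : Q := sm gb N12443
def N16684 : Q := sm gd N12443
def N16685 : Q := sm ga N12445
def N16686 : Q := sm gd N12445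
def N16687 : Q := sm gf N12445
def N16688 : Q := sm gg N12445
def N16689 : Q := sm gc N12446
def N16690 : Q := sm ge N12446
def N16691 : Q := sm gf N12446
def N16692 : Q := sm gb N12447
def N16693 : Q := sm gb N12448
def N16694 : Q := sm gd N12448
def N16695 : Q := sm ge N12448
def N16696 : Q := sm gf N12448
def N16697 : Q := sm gf N12449
def N16698 : Q := sm gb N12450
def N16699 : Q := sm gg N12450
def N16700 : Q := sm ga N12451
def N16701 : Q := sm gg N12451
def N16702 : Q := sm gb N12452
def N16703 : Q := sm gc N12453
def N16706 : Q := sm gf N12454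
def N16707 : Q := sm gg N12454
def N16708 : Q := sm ga N12457
def N16709 : Q := sm gd N12457
def N16710 : Q := sm gf N12457
def N16711 : Q := sm gg N12457
def N16716 : Q := sm gb N12459
def N16717 : Q := sm gg N12459
def N16719 : Q := sm gf N12460
def N16720 : Q := sm gb N12463
def N16721 : Q := sm gd N12463
def N16722 : Q := sm gf N12463
def N16723 : Q := sm gg N12463
def N16724 : Q := sm gc N12464
def N16725 : Q := sm ge N12464
def N16726 : Q := sm gf N12464
def N16727 : Q := sm gg N12464
def N16728 : Q := sm gg N12465
def N16729 : Q := sm gf N12466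
def N16730 : Q := sm gb N12467
def N16731 : Q := sm ge N12467
def N16732 : Q := sm ga N12469
def N16733 : Q := sm gd N12469
def N16734 : Q := sm ge N12469
def N16735 : Q := sm gf N12469
def N16736 : Q := sm ge N12470
def N16737 : Q := sm gd N12471
def N16738 : Q := sm gf N12471
def N16739 : Q := sm gb N12472
def N16740 : Q := sm gb N12473
def N16741 : Q := sm ga N12474
def N16742 : Q := sm gc N12474
def N16743 : Q := sm gg N12474
def N16744 : Q := sm gb N12475
def N16745 : Q := sm gc N12475
def N16746 : Q := sm gg N12475
def N16747 : Q := sm gd N12476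
def N16748 : Q := sm gg N12476
def N16749 : Q := sm gc N12478
def N16750 : Q := sm gf N12478
def N16751 : Q := sm gb N12479
def N16752 : Q := sm gd N12479
def N16753 : Q := sm gc N12480
def N16754 : Q := sm ge N12480
def N16755 : Q := sm gg N12480
def N16756 : Q := sm gb N12481
def N16757 : Q := sm gc N12482
def N16758 : Q := sm gb N12483
def N16759 : Q := sm gd N12483
def N16760 : Q := sm gf N12483
def N16761 : Q := sm ga N12485
def N16762 : Q := sm gd N12485
def N16763 : Q := sm gf N12485
def N16764 : Q := sm gg N12485
def N16765 : Q := sm gc N12486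
def N16766 : Q := sm ge N12486
def N16767 : Q := sm gg N12486
def N16768 : Q := sm gb N12487
def N16769 : Q := sm gb N12488
def N16770 : Q := sm gd N12488
def N16771 : Q := sm ge N12488
def N16772 : Q := sm gg N12488
def N16773 : Q := sm gg N12489
def N16774 : Q := sm gb N12490
def N16775 : Q := sm gf N12490
def N16776 : Q := sm gf N12491
def N16777 : Q := sm gb N12492
def N16778 : Q := sm gc N12493
def N16779 : Q := sm gc N12494
def N16780 : Q := sm gc N12495
def N16781 : Q := sm gb N12498
def N16782 : Q := sm gf N12498
def N16783 : Q := sm gg N12499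
def N16784 : Q := sm gb N12501
def N16785 : Q := sm gf N12501
def N16786 : Q := sm gb N12503
def N16787 : Q := sm ga N12504
def N16788 : Q := sm gc N12504
def N16789 : Q := sm gf N12504
def N16790 : Q := sm gb N12505
def N16791 : Q := sm gc N12506
def N16792 : Q := sm gc N12507
def N16793 : Q := sm gd N12508
def N16794 : Q := sm gf N12508
def N16795 : Q := sm gc N12510
def N16796 : Q := sm gc N12511
def N16797 : Q := sm ge N12511
def N16798 : Q := sm gf N12511
def N16799 : Q := sm gg N12511
def N16800 : Q := sm gb N12513
def N16801 : Q := sm gb N12514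
def N16802 : Q := sm gd N12514
def N16803 : Q := sm ge N12514
def N16804 : Q := sm gf N12514
def N16805 : Q := sm gg N12514
def N16806 : Q := sm gf N12515
def N16807 : Q := sm gg N12515
def N16808 : Q := sm gg N12516
def N16809 : Q := sm gb N12517
def N16810 : Q := sm gf N12517
def N16811 : Q := sm gb N12518
def N16812 : Q := sm ga N12519
def N16813 : Q := sm gc N12519
def N16814 : Q := sm gg N12522
def N16815 : Q := sm gb N12523
def N16816 : Q := sm gb N12524
def N16817 : Q := sm ga N12525
def N16818 : Q := sm gc N12525
def N16819 : Q := sm gf N12525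
def N16820 : Q := sm gb N12526
def N16821 : Q := sm gc N12526
def N16822 : Q := sm gf N12526
def N16823 : Q := sm gd N12527
def N16824 : Q := sm gf N12527
def N16825 : Q := sm gg N12528
def N16826 : Q := sm gc N12529
def N16827 : Q := sm gb N12530
def N16828 : Q := sm gd N12530
def N16829 : Q := sm gf N12530
def N16830 : Q := sm gc N12532
def N16831 : Q := sm ge N12532
def N16832 : Q := sm gf N12532
def N16833 : Q := sm gb N12533
def N16834 : Q := sm gd N12534
def N16835 : Q := sm gg N12534
def N16836 : Q := sm gb N12535
def N16837 : Q := sm gg N12536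
def N16838 : Q := sm gb N12537
def N16839 : Q := sm gf N12537
def N16840 : Q := sm ga N12538
def N16841 : Q := sm gc N12538
def N16842 : Q := sm gf N12538
def N16843 : Q := sm gb N12539
def N16844 : Q := sm ga N12540
def N16845 : Q := sm gc N12540
def N16846 : Q := sm gf N12540
def N16847 : Q := sm gb N12541
def N16848 : Q := sm gb N12542
def N16849 : Q := sm gb N12544
def N16850 : Q := sm ga N12545
def N16851 : Q := sm gc N12545
def N16852 : Q := sm gg N12545
def N16853 : Q := sm ga N12546
def N16854 : Q := sm gc N12546
def N16855 : Q := sm gf N12546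
def N16856 : Q := sm gg N12546
def N16857 : Q := sm gb N12547
def N16858 : Q := sm gd N12547
def N16859 : Q := sm gc N12548
def N16860 : Q := sm ge N12548
def N16861 : Q := sm gb N12549
def N16862 : Q := sm ga N12550
def N16863 : Q := sm gc N12550
def N16864 : Q := sm gc N12551
def N16865 : Q := sm gg N12551
def N16866 : Q := sm gd N12552
def N16867 : Q := sm gg N12552
def N16868 : Q := sm gf N12553
def N16869 : Q := sm gc N12554
def N16870 : Q := sm gb N12555
def N16871 : Q := sm gd N12555
def N16872 : Q := sm gf N12555
def N16873 : Q := sm gg N12555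
def N16874 : Q := sm ga N12558
def N16875 : Q := sm gd N12558
def N16876 : Q := sm gf N12558
def N16877 : Q := sm gg N12558
def N16878 : Q := sm gc N12559
def N16879 : Q := sm ge N12559
def N16880 : Q := sm gb N12560
def N16881 : Q := sm gd N12560
def N16882 : Q := sm ge N12560
def N16883 : Q := sm gf N12560
def N16884 : Q := sm gf N12561
def N16885 : Q := sm gb N12562
def N16886 : Q := sm ga N12563
def N16887 : Q := sm gc N12563
def N16888 : Q := sm gg N12563
def N16889 : Q := sm gc N12564
def N16890 : Q := sm gd N12565
def N16891 : Q := sm gg N12565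
def N16892 : Q := sm gb N12568
def N16893 : Q := sm gd N12568
def N16894 : Q := sm gg N12568
def N16895 : Q := sm gc N12570
def N16896 : Q := sm ge N12570
def N16897 : Q := sm gg N12570
def N16898 : Q := sm gb N12571
def N16899 : Q := sm gf N12571
def N16900 : Q := sm gb N12573
def N16901 : Q := sm gd N12573
def N16902 : Q := sm gf N12573
def N16903 : Q := sm gg N12573
def N16904 : Q := sm ga N12576
def N16905 : Q := sm gd N12576
def N16906 : Q := sm gf N12576
def N16907 : Q := sm gg N12576
def N16908 : Q := sm gc N12577
def N16909 : Q := sm ge N12577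
def N16910 : Q := sm gf N12577
def N16911 : Q := sm gg N12577
def N16912 : Q := sm gb N12578
def N16913 : Q := sm gb N12579
def N16914 : Q := sm gf N12579
def N16915 : Q := sm gc N12580
def N16916 : Q := sm gb N12582
def N16917 : Q := sm gd N12582
def N16918 : Q := sm gf N12582
def N16919 : Q := sm gg N12582
def N16920 : Q := sm gc N12583
def N16921 : Q := sm ge N12583
def N16922 : Q := sm gf N12583
def N16923 : Q := sm gg N12583
def N16924 : Q := sm gb N12584
def N16925 : Q := sm gg N12584
def N16926 : Q := sm gf N12585
def N16927 : Q := sm gb N12586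
def N16928 : Q := sm ge N12586
def N16929 : Q := sm gf N12586
def N16930 : Q := sm gf N12587
def N16931 : Q := sm gc N12589
def N16932 : Q := sm gg N12589
def N16933 : Q := sm gd N12590
def N16934 : Q := sm ga N12591
def N16935 : Q := sm gd N12591
def N16936 : Q := sm ge N12591
def N16937 : Q := sm gf N12591
def N16938 : Q := sm gg N12591
def N16939 : Q := sm ge N12592
def N16940 : Q := sm gf N12592
def N16941 : Q := sm gd N12593
def N16942 : Q := sm gf N12593
def N16943 : Q := sm gb N12594
def N16944 : Q := sm gg N12594
def N16945 : Q := sm gg N12595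
def N16946 : Q := sm gb N12596
def N16947 : Q := sm ga N12597
def N16948 : Q := sm gc N12597
def N16949 : Q := sm gf N12597
def N16950 : Q := sm gc N12598
def N16951 : Q := sm gd N12599
def N16952 : Q := sm gf N12599
def N16953 : Q := sm gc N12605
def N16954 : Q := sm gc N12606
def N16956 : Q := sm ge N12608
def N16957 : Q := sm gf N12608
def N16959 : Q := sm gb N12609
def N16960 : Q := sm gg N12609
def N16962 : Q := sm gf N12610
def N16963 : Q := sm gf N12612
def N16964 : Q := sm gg N12612
def N16965 : Q := sm gb N12613
def N16966 : Q := sm gg N12613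
def N16968 : Q := sm gf N12614
def N16969 : Q := sm ga N12615
def N16970 : Q := sm gc N12615
def N16971 : Q := sm gg N12615
def N16972 : Q := sm gb N12616
def N16975 : Q := sm gb N12618
def N16976 : Q := sm gc N12619
def N16977 : Q := sm gd N12620
def N16978 : Q := sm gg N12620
def N16979 : Q := sm gc N12622
def N16980 : Q := sm gc N12623
def N16981 : Q := sm ge N12623
def N16982 : Q := sm gf N12623
def N16983 : Q := sm gg N12623
def N16984 : Q := sm gb N12624
def N16985 : Q := sm gb N12625
def N16986 : Q := sm gb N12626
def N16987 : Q := sm gd N12626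
def N16988 : Q := sm ge N12626
def N16989 : Q := sm gf N12626
def N16990 : Q := sm gg N12626
def N16991 : Q := sm gf N12627
def N16992 : Q := sm gg N12627
def N16993 : Q := sm gb N12628
def N16994 : Q := sm gg N12628
def N16995 : Q := sm gf N12629
def N16996 : Q := sm ga N12630
def N16997 : Q := sm gc N12630
def N16998 : Q := sm gg N12630
def N16999 : Q := sm gb N12631
def N17000 : Q := sm gb N12632
def N17001 : Q := sm ga N12633
def N17002 : Q := sm ge N12633
def N17003 : Q := sm gf N12633
def N17005 : Q := sm gd N12634
def N17006 : Q := sm gf N12634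
def N17007 : Q := sm gb N12635
def N17008 : Q := sm gb N12636
def N17009 : Q := sm ga N12637
def N17010 : Q := sm gc N12637
def N17011 : Q := sm gg N12637
def N17012 : Q := sm gb N12638
def N17013 : Q := sm gc N12638
def N17014 : Q := sm gg N12638
def N17015 : Q := sm gd N12639
def N17016 : Q := sm gg N12639
def N17017 : Q := sm gf N12640
def N17018 : Q := sm gc N12641
def N17019 : Q := sm gb N12642
def N17020 : Q := sm gd N12642
def N17021 : Q := sm gc N12643
def N17022 : Q := sm ge N12643
def N17023 : Q := sm gg N12643
def N17024 : Q := sm gb N12644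
def N17025 : Q := sm gd N12645
def N17026 : Q := sm gf N12645
def N17027 : Q := sm gb N12646
def N17028 : Q := sm gc N12647
def N17029 : Q := sm gf N12647
def N17030 : Q := sm gb N12648
def N17031 : Q := sm gg N12648
def N17032 : Q := sm ga N12649
def N17033 : Q := sm gc N12649
def N17034 : Q := sm gg N12649
def N17035 : Q := sm gb N12650
def N17036 : Q := sm ga N12651
def N17037 : Q := sm gc N12651
def N17038 : Q := sm gg N12651
def N17039 : Q := sm gb N12652
def N17040 : Q := sm gb N12653
def N17041 : Q := sm gc N12653
def N17042 : Q := sm gd N12654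
def N17043 : Q := sm gg N12654
def N17044 : Q := sm gb N12655
def N17045 : Q := sm ga N12656
def N17046 : Q := sm gc N12656
def N17047 : Q := sm gf N12656
def N17048 : Q := sm ga N12657
def N17049 : Q := sm gc N12657
def N17050 : Q := sm gf N12657
def N17051 : Q := sm gg N12657
def N17052 : Q := sm gb N12658
def N17053 : Q := sm gd N12658
def N17054 : Q := sm gc N12659
def N17055 : Q := sm ge N12659
def N17056 : Q := sm gg N12659
def N17057 : Q := sm gb N12660
def N17058 : Q := sm ga N12661
def N17059 : Q := sm gc N12661
def N17060 : Q := sm gf N12661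
def N17061 : Q := sm gb N12662
def N17062 : Q := sm gc N12662
def N17063 : Q := sm gf N12662
def N17064 : Q := sm gd N12663
def N17065 : Q := sm gf N12663
def N17066 : Q := sm gg N12664
def N17067 : Q := sm gc N12665
def N17068 : Q := sm gb N12666
def N17069 : Q := sm gd N12666
def N17070 : Q := sm gf N12666
def N17071 : Q := sm gg N12666
def N17072 : Q := sm ga N12669
def N17073 : Q := sm gd N12669
def N17074 : Q := sm gf N12669
def N17075 : Q := sm gg N12669
def N17076 : Q := sm ge N12670
def N17077 : Q := sm gb N12671
def N17078 : Q := sm ge N12671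
def N17079 : Q := sm gg N12671
def N17080 : Q := sm gg N12672
def N17081 : Q := sm gb N12673
def N17082 : Q := sm ga N12674
def N17083 : Q := sm gc N12674
def N17084 : Q := sm gf N12674
def N17085 : Q := sm gc N12675
def N17086 : Q := sm gd N12676
def N17087 : Q := sm gf N12676
def N17088 : Q := sm gd N12678
def N17089 : Q := sm gf N12678
def N17090 : Q := sm gc N12680
def N17091 : Q := sm ge N12680
def N17092 : Q := sm gf N12680
def N17093 : Q := sm gb N12681
def N17094 : Q := sm gg N12681
def N17095 : Q := sm gb N12683
def N17096 : Q := sm gd N12683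
def N17097 : Q := sm gf N12683
def N17098 : Q := sm gg N12683
def N17099 : Q := sm ga N12686
def N17100 : Q := sm gd N12686
def N17101 : Q := sm gf N12686
def N17102 : Q := sm gg N12686
def N17103 : Q := sm gc N12687
def N17104 : Q := sm ge N12687
def N17105 : Q := sm gf N12687
def N17106 : Q := sm gg N12687
def N17107 : Q := sm gb N12688
def N17108 : Q := sm gg N12688
def N17109 : Q := sm gb N12689
def N17110 : Q := sm gc N12691
def N17111 : Q := sm gb N12692
def N17112 : Q := sm gd N12692
def N17113 : Q := sm gf N12692
def N17114 : Q := sm gg N12692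
def N17115 : Q := sm gc N12693
def N17116 : Q := sm ge N12693
def N17117 : Q := sm gf N12693
def N17118 : Q := sm gg N12693
def N17119 : Q := sm gg N12694
def N17120 : Q := sm gb N12695
def N17121 : Q := sm gf N12695
def N17122 : Q := sm gg N12696
def N17123 : Q := sm gb N12697
def N17124 : Q := sm ga N12698
def N17125 : Q := sm gc N12698
def N17126 : Q := sm gf N12698
def N17127 : Q := sm gd N12699
def N17128 : Q := sm ga N12700
def N17129 : Q := sm ge N12700
def N17130 : Q := sm gf N12700
def N17131 : Q := sm gg N12700
def N17132 : Q := sm gd N12701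
def N17133 : Q := sm gg N12701
def N17134 : Q := sm gb N12702
def N17135 : Q := sm gf N12702
def N17136 : Q := sm gf N12703
def N17137 : Q := sm gb N12704
def N17138 : Q := sm ga N12705
def N17139 : Q := sm gc N12705
def N17140 : Q := sm gg N12705
def N17141 : Q := sm gc N12706
def N17142 : Q := sm gd N12707
def N17143 : Q := sm gg N12707
def N17144 : Q := sm gb N12709
def N17145 : Q := sm gc N12709
def N17146 : Q := sm ga N12712
def N17147 : Q := sm gg N12712
def N17148 : Q := sm gg N12718
def N17149 : Q := sm gd N12719
def N17150 : Q := sm gg N12719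
def N17151 : Q := sm gf N12720
def N17152 : Q := sm gg N12721
def N17153 : Q := sm ge N12722
def N17154 : Q := sm ge N12724
def N17155 : Q := sm gf N12725
def N17156 : Q := sm gg N12726
def N17157 : Q := sm gb N12727
def N17158 : Q := sm ga N12728
def N17159 : Q := sm gc N12728
def N17160 : Q := sm gf N12728
def N17161 : Q := sm ga N12729
def N17162 : Q := sm gd N12729
def N17163 : Q := sm gf N12729
def N17164 : Q := sm gg N12729
def N17165 : Q := sm ge N12730
def N17166 : Q := sm gb N12731
def N17167 : Q := sm gd N12731
def N17168 : Q := sm gf N12731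
def N17169 : Q := sm gg N12731
def N17170 : Q := sm gc N12732
def N17171 : Q := sm ge N12732
def N17172 : Q := sm gf N12732
def N17173 : Q := sm gg N12732
def N17174 : Q := sm gg N12733
def N17175 : Q := sm gf N12734
def N17176 : Q := sm gb N12735
def N17177 : Q := sm ge N12735
def N17178 : Q := sm gc N12737
def N17179 : Q := sm gd N12737
def N17180 : Q := sm gf N12737
def N17181 : Q := sm gg N12737
def N17182 : Q := sm gc N12738
def N17183 : Q := sm ge N12738
def N17184 : Q := sm gf N12738
def N17185 : Q := sm gg N12738
def N17186 : Q := sm gb N12739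
def N17187 : Q := sm gb N12740
def N17188 : Q := sm gd N12741
def N17189 : Q := sm ge N12741
def N17190 : Q := sm gf N12741
def N17191 : Q := sm gg N12741
def N17192 : Q := sm gf N12742
def N17193 : Q := sm gg N12742
def N17194 : Q := sm gg N12743
def N17195 : Q := sm gf N12744
def N17196 : Q := sm gb N12745
def N17197 : Q := sm gb N12746
def N17198 : Q := sm gb N12747
def N17199 : Q := sm ge N12747
def N17200 : Q := sm gf N12747
def N17201 : Q := sm gg N12747
def N17202 : Q := sm gd N12748
def N17203 : Q := sm gf N12748
def N17204 : Q := sm gg N12748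
def N17205 : Q := sm gg N12749
def N17206 : Q := sm gf N12750
def N17207 : Q := sm gb N12752
def N17208 : Q := sm gc N12752
def N17209 : Q := sm gg N12752
def N17210 : Q := sm gd N12753
def N17211 : Q := sm gg N12753
def N17212 : Q := sm gf N12754
def N17213 : Q := sm ga N12755
def N17214 : Q := sm gc N12755
def N17215 : Q := sm gf N12755
def N17216 : Q := sm gg N12755
def N17217 : Q := sm gb N12756
def N17218 : Q := sm gd N12756
def N17219 : Q := sm gg N12756
def N17220 : Q := sm gb N12757
def N17225 : Q := sm gf N12759
def N17226 : Q := sm gb N12760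
def N17227 : Q := sm gf N12761
def N17228 : Q := sm gg N12761
def N17229 : Q := sm gd N12762
def N17230 : Q := sm gf N12762
def N17231 : Q := sm gg N12762
def N17232 : Q := sm gg N12763
def N17233 : Q := sm gb N12764
def N17234 : Q := sm gf N12764
def N17235 : Q := sm gd N12765
def N17236 : Q := sm gf N12765
def N17237 : Q := sm gg N12765
def N17238 : Q := sm gc N12766
def N17239 : Q := sm ge N12766
def N17240 : Q := sm gg N12766
def N17241 : Q := sm gb N12767
def N17244 : Q := sm gf N12768
def N17245 : Q := sm gd N12769
def N17246 : Q := sm ge N12769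
def N17247 : Q := sm gg N12769
def N17248 : Q := sm gg N12770
def N17249 : Q := sm gf N12771
def N17250 : Q := sm gb N12772
def N17251 : Q := sm ga N12773
def N17252 : Q := sm gc N12773
def N17253 : Q := sm gg N12773
def N17254 : Q := sm ga N12774
def N17255 : Q := sm gd N12774
def N17256 : Q := sm gf N12774
def N17257 : Q := sm gg N12774
def N17258 : Q := sm ge N12775
def N17259 : Q := sm gb N12776
def N17260 : Q := sm gd N12776
def N17261 : Q := sm gf N12776
def N17262 : Q := sm gg N12776
def N17263 : Q := sm gc N12777
def N17264 : Q := sm ge N12777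
def N17265 : Q := sm gf N12777
def N17266 : Q := sm gg N12777
def N17267 : Q := sm gg N12778
def N17268 : Q := sm gf N12779
def N17269 : Q := sm gb N12780
def N17270 : Q := sm ge N12780
def N17271 : Q := sm gd N12782
def N17272 : Q := sm gf N12782
def N17273 : Q := sm gg N12782
def N17274 : Q := sm gc N12783
def N17275 : Q := sm ge N12783
def N17276 : Q := sm gf N12783
def N17277 : Q := sm gg N12783
def N17278 : Q := sm gb N12784
def N17279 : Q := sm gb N12785
def N17280 : Q := sm gd N12786
def N17281 : Q := sm ge N12786
def N17282 : Q := sm gf N12786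
def N17283 : Q := sm gg N12786
def N17284 : Q := sm gf N12787
def N17285 : Q := sm gg N12787
def N17286 : Q := sm gg N12788
def N17287 : Q := sm gf N12789
def N17288 : Q := sm gb N12790
def N17289 : Q := sm gb N12791
def N17290 : Q := sm gb N12792
def N17291 : Q := sm ge N12792
def N17292 : Q := sm gf N12792
def N17293 : Q := sm gg N12792
def N17294 : Q := sm gd N12793
def N17295 : Q := sm gf N12793
def N17296 : Q := sm gg N12793
def N17297 : Q := sm gg N12794
def N17298 : Q := sm gf N12795
def N17299 : Q := sm gg N12797
def N17300 : Q := sm gg N12799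
def N17301 : Q := sm gb N12801
def N17302 : Q := sm ge N12801
def N17303 : Q := sm gb N12803
def N17304 : Q := sm gd N12803
def N17306 : Q := sm gf N12803
def N17308 : Q := sm ga N12806
def N17309 : Q := sm gd N12806
def N17310 : Q := sm ge N12806
def N17311 : Q := sm gf N12806
def N17312 : Q := sm gg N12806
def N17313 : Q := sm ge N12807
def N17314 : Q := sm gd N12808
def N17315 : Q := sm gb N12809
def N17316 : Q := sm gd N12809
def N17318 : Q := sm gf N12809
def N17320 : Q := sm ga N12812
def N17321 : Q := sm gd N12812
def N17322 : Q := sm ge N12812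
def N17323 : Q := sm gf N12812
def N17324 : Q := sm gg N12812
def N17325 : Q := sm gc N12813
def N17326 : Q := sm ge N12813
def N17327 : Q := sm gf N12813
def N17328 : Q := sm gg N12813
def N17330 : Q := sm gf N12814
def N17331 : Q := sm gg N12814
def N17333 : Q := sm gb N12816
def N17334 : Q := sm gb N12819
def N17335 : Q := sm ge N12819
def N17336 : Q := sm gf N12819
def N17337 : Q := sm gg N12819
def N17338 : Q := sm gd N12820
def N17339 : Q := sm gf N12820
def N17340 : Q := sm gg N12820
def N17341 : Q := sm gg N12821
def N17342 : Q := sm gf N12822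
def N17343 : Q := sm ga N12824
def N17344 : Q := sm gc N12824
def N17345 : Q := sm gd N12824
def N17346 : Q := sm ge N12824
def N17347 : Q := sm gf N12824
def N17348 : Q := sm gg N12824
def N17349 : Q := sm gc N12825
def N17350 : Q := sm ge N12825
def N17351 : Q := sm gf N12825
def N17352 : Q := sm gg N12825
def N17353 : Q := sm gd N12826
def N17354 : Q := sm gf N12826
def N17355 : Q := sm gg N12826
def N17356 : Q := sm gb N12827
def N17357 : Q := sm gb N12828
def N17358 : Q := sm gd N12829
def N17359 : Q := sm ge N12829
def N17360 : Q := sm gf N12829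
def N17361 : Q := sm gg N12829
def N17362 : Q := sm gd N12830
def N17363 : Q := sm gf N12830
def N17364 : Q := sm gg N12830
def N17365 : Q := sm gg N12831
def N17366 : Q := sm gf N12832
def N17367 : Q := sm gc N12833
def N17368 : Q := sm gf N12833
def N17369 : Q := sm gg N12833
def N17370 : Q := sm gg N12834
def N17372 : Q := sm gb N12836
def N17373 : Q := sm gb N12837
def N17374 : Q := sm gb N12839
def N17375 : Q := sm ge N12839
def N17376 : Q := sm gf N12839
def N17377 : Q := sm gg N12839
def N17378 : Q := sm gf N12840
def N17380 : Q := sm gg N12841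
def N17382 : Q := sm gb N12843
def N17383 : Q := sm ge N12843
def N17384 : Q := sm gb N12845
def N17385 : Q := sm gd N12845
def N17387 : Q := sm ga N12847
def N17388 : Q := sm gd N12847
def N17389 : Q := sm ge N12847
def N17390 : Q := sm gf N12847
def N17391 : Q := sm gg N12847
def N17392 : Q := sm ge N12848
def N17394 : Q := sm gb N12850
def N17395 : Q := sm gd N12850
def N17397 : Q := sm ga N12852
def N17398 : Q := sm gd N12852
def N17399 : Q := sm ge N12852
def N17400 : Q := sm gf N12852
def N17401 : Q := sm gg N12852
def N17402 : Q := sm gc N12853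
def N17403 : Q := sm ge N12853
def N17404 : Q := sm gf N12853
def N17405 : Q := sm gg N12853
def N17409 : Q := sm gb N12855
def N17411 : Q := sm gb N12859
def N17412 : Q := sm ge N12859
def N17413 : Q := sm gf N12859
def N17414 : Q := sm gg N12859
def N17415 : Q := sm gd N12860
def N17416 : Q := sm gf N12860
def N17417 : Q := sm gg N12860
def N17418 : Q := sm gg N12861
def N17419 : Q := sm gf N12862
def N17420 : Q := sm ga N12864
def N17421 : Q := sm gc N12864
def N17422 : Q := sm gd N12864
def N17423 : Q := sm ge N12864
def N17424 : Q := sm gf N12864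
def N17425 : Q := sm gg N12864
def N17426 : Q := sm gc N12865
def N17427 : Q := sm ge N12865
def N17428 : Q := sm gf N12865
def N17429 : Q := sm gg N12865
def N17430 : Q := sm gd N12866
def N17431 : Q := sm gf N12866
def N17432 : Q := sm gg N12866
def N17433 : Q := sm gb N12867
def N17435 : Q := sm gd N12869
def N17436 : Q := sm ge N12869
def N17437 : Q := sm gf N12869
def N17438 : Q := sm gg N12869
def N17439 : Q := sm gd N12870
def N17440 : Q := sm gf N12870
def N17441 : Q := sm gg N12870
def N17442 : Q := sm gg N12871
def N17443 : Q := sm gf N12872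
def N17444 : Q := sm gc N12873
def N17445 : Q := sm gf N12873
def N17446 : Q := sm gg N12873
def N17447 : Q := sm gg N12874
def N17448 : Q := sm gf N12875
def N17452 : Q := sm gd N12881
def N17455 : Q := sm gg N12884
def N17463 : Q := sm ga N12892
def N17464 : Q := sm gf N12892
def N17466 : Q := sm gd N12895
def N17468 : Q := sm gc N12897
def N17472 : Q := sm gd N12900
def N17477 : Q := sm ga N12905
def N17479 : Q := sm gf N12905
def N17480 : Q := sm gg N12905
def N17481 : Q := sm ga N12907
def N17484 : Q := sm gf N12907
def N17485 : Q := sm gg N12907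
def N17487 : Q := sm gg N12908
def N17492 : Q := sm gc N12912
def N17493 : Q := sm gf N12912
def N17495 : Q := sm gd N12914
def N17497 : Q := sm gf N12914
def N17498 : Q := sm gg N12914
def N17499 : Q := sm gc N12915
def N17507 : Q := sm gg N12917
def N17508 : Q := sm gb N12918
def N17510 : Q := sm gb N12919
def N17512 : Q := sm gg N12919
def N17520 : Q := sm gg N12923
def N17521 : Q := sm gb N12924
def N17523 : Q := sm gc N12925
def N17530 : Q := sm ga N12932
def N17531 : Q := sm gc N12932
def N17533 : Q := sm gf N12932
def N17534 : Q := sm gg N12932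
def N17536 : Q := sm gf N12933
def N17537 : Q := sm gg N12933
def N17538 : Q := sm gb N12934
def N17539 : Q := sm gb N12935
def N17540 : Q := sm gc N12936
def N17541 : Q := sm gf N12936
def N17543 : Q := sm gb N12937
def N17545 : Q := sm gf N12938
def N17546 : Q := sm ga N12939
def N17547 : Q := sm gc N12939
def N17548 : Q := sm gg N12939
def N17549 : Q := sm gb N12940
def N17552 : Q := sm ga N12943
def N17553 : Q := sm gc N12943
def N17554 : Q := sm gg N12943
def N17555 : Q := sm gb N12944
def N17556 : Q := sm gc N12944
def N17557 : Q := sm gg N12944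
def N17558 : Q := sm gd N12945
def N17559 : Q := sm gg N12945
def N17560 : Q := sm gf N12946
def N17562 : Q := sm ge N12948
def N17563 : Q := sm gc N12949
def N17565 : Q := sm gf N12949
def N17566 : Q := sm gg N12949
def N17567 : Q := sm gd N12950
def N17568 : Q := sm ge N12950
def N17569 : Q := sm gf N12950
def N17570 : Q := sm gg N12950
def N17572 : Q := sm gf N12951
def N17574 : Q := sm gb N12952
def N17575 : Q := sm gg N12952
def N17576 : Q := sm gb N12953
def N17581 : Q := sm gb N12955
def N17582 : Q := sm gb N12956
def N17583 : Q := sm ga N12957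
def N17584 : Q := sm gc N12957
def N17585 : Q := sm gg N12957
def N17586 : Q := sm ga N12958
def N17587 : Q := sm gc N12958
def N17588 : Q := sm gf N12958
def N17596 : Q := sm ga N12962
def N17597 : Q := sm gc N12962
def N17601 : Q := sm gb N12965
def N17602 : Q := sm gc N12965
def N17603 : Q := sm gd N12966
def N17604 : Q := sm gg N12966
def N17605 : Q := sm gb N12967
def N17606 : Q := sm ga N12968
def N17607 : Q := sm gc N12968
def N17608 : Q := sm gf N12968
def N17611 : Q := sm gg N12969
def N17614 : Q := sm gg N12970
def N17615 : Q := sm gb N12971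
def N17619 : Q := sm gb N12973
def N17620 : Q := sm gc N12973
def N17623 : Q := sm gg N12974
def N17624 : Q := sm gf N12975
def N17625 : Q := sm ga N12976
def N17626 : Q := sm gc N12976
def N17627 : Q := sm gf N12976
def N17628 : Q := sm gg N12976
def N17629 : Q := sm gb N12977
def N17630 : Q := sm gd N12977
def N17631 : Q := sm gg N12977
def N17633 : Q := sm gc N12979
def N17634 : Q := sm ge N12979
def N17635 : Q := sm gg N12979
def N17636 : Q := sm gb N12980
def N17637 : Q := sm gf N12980
def N17638 : Q := sm gb N12981
def N17639 : Q := sm gc N12982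
def N17640 : Q := sm gb N12983
def N17641 : Q := sm gd N12983
def N17642 : Q := sm gc N12984
def N17643 : Q := sm ge N12984
def N17644 : Q := sm gg N12984
def N17645 : Q := sm gb N12985
def N17646 : Q := sm gb N12986
def N17647 : Q := sm gd N12986
def N17648 : Q := sm ga N12987
def N17649 : Q := sm gf N12987
def N17650 : Q := sm gg N12987
def N17651 : Q := sm gg N12988
def N17652 : Q := sm gb N12989
def N17653 : Q := sm ga N12990
def N17654 : Q := sm gf N12990
def N17657 : Q := sm ga N12992
def N17660 : Q := sm gf N12992
def N17661 : Q := sm gg N12992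
def N17663 : Q := sm gf N12993
def N17667 : Q := sm gb N12996
def N17668 : Q := sm gc N12997
def N17669 : Q := sm gg N12997
def N17671 : Q := sm gd N12999
def N17672 : Q := sm ge N12999
def N17673 : Q := sm gf N12999
def N17675 : Q := sm gc N13000
def N17676 : Q := sm ge N13000
def N17678 : Q := sm gg N13000
def N17685 : Q := sm gf N13003
def N17687 : Q := sm ge N13004
def N17688 : Q := sm gf N13004
def N17697 : Q := sm gf N13009
def N17707 : Q := sm gc N13017
def N17708 : Q := sm ge N13017
def N17709 : Q := sm gf N13017
def N17710 : Q := sm gg N13017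
def N17713 : Q := sm gg N13018
def N17714 : Q := sm gb N13019
def N17718 : Q := sm gg N13021
def N17719 : Q := sm gg N13022
def N17720 : Q := sm gb N13023
def N17723 : Q := sm ga N13025
def N17724 : Q := sm gc N13025
def N17725 : Q := sm gf N13025
def N17726 : Q := sm gb N13026
def N17728 : Q := sm ga N13028
def N17729 : Q := sm gc N13028
def N17730 : Q := sm gf N13028
def N17731 : Q := sm gb N13029
def N17732 : Q := sm gc N13029
def N17733 : Q := sm gf N13029
def N17734 : Q := sm gd N13030
def N17735 : Q := sm gf N13030
def N17736 : Q := sm gg N13031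
def N17738 : Q := sm ge N13033
def N17739 : Q := sm gc N13034
def N17742 : Q := sm gg N13034
def N17743 : Q := sm gd N13035
def N17744 : Q := sm ge N13035
def N17746 : Q := sm gg N13035
def N17747 : Q := sm gd N13036
def N17749 : Q := sm gg N13036
def N17750 : Q := sm gb N13037
def N17752 : Q := sm gb N13038
def N17753 : Q := sm gf N13038
def N17759 : Q := sm ga N13042
def N17760 : Q := sm gc N13042
def N17761 : Q := sm gg N13042
def N17764 : Q := sm gf N13043
def N17773 : Q := sm ga N13048
def N17774 : Q := sm gc N13048
def N17775 : Q := sm gf N13048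
def N17779 : Q := sm gf N13050
def N17780 : Q := sm gb N13051
def N17781 : Q := sm gc N13051
def N17782 : Q := sm gd N13052
def N17783 : Q := sm gf N13052
def N17784 : Q := sm gb N13053
def N17787 : Q := sm gg N13054
def N17789 : Q := sm gf N13055
def N17791 : Q := sm gb N13056
def N17795 : Q := sm gb N13058
def N17796 : Q := sm gc N13058
def N17797 : Q := sm gf N13058
def N17799 : Q := sm gf N13059
def N17800 : Q := sm gg N13060
def N17801 : Q := sm ga N13061
def N17802 : Q := sm gc N13061
def N17803 : Q := sm gf N13061
def N17804 : Q := sm gg N13061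
def N17805 : Q := sm gb N13062
def N17806 : Q := sm gd N13062
def N17807 : Q := sm gf N13062
def N17809 : Q := sm gc N13064
def N17810 : Q := sm ge N13064
def N17811 : Q := sm gf N13064
def N17812 : Q := sm gb N13065
def N17813 : Q := sm gg N13065
def N17814 : Q := sm gb N13066
def N17815 : Q := sm gc N13067
def N17816 : Q := sm gb N13068
def N17817 : Q := sm ge N13069
def N17818 : Q := sm gf N13069
def N17819 : Q := sm gb N13070
def N17820 : Q := sm gb N13071
def N17821 : Q := sm gd N13071
def N17822 : Q := sm ga N13072
def N17823 : Q := sm gf N13072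
def N17824 : Q := sm gg N13072
def N17825 : Q := sm gf N13073
def N17826 : Q := sm gb N13074
def N17827 : Q := sm ga N13075
def N17828 : Q := sm gg N13075
def N17834 : Q := sm gc N13080
def N17847 : Q := sm gf N13090
def N17861 : Q := sm gf N13102
def N17877 : Q := sm gc N13111
def N17879 : Q := sm gg N13111
def N17883 : Q := sm gb N13114
def N17884 : Q := sm ga N13115
def N17886 : Q := sm gd N13116
def N17887 : Q := sm ge N13117
def N17890 : Q := sm gf N13120
def N17892 : Q := sm gf N13122
def N17896 : Q := sm gd N13126
def N17898 : Q := sm gf N13127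
def N17907 : Q := sm gf N13134
def N17909 : Q := sm gd N13137
def N17911 : Q := sm gg N13137
def N17925 : Q := sm gg N13146
def N17930 : Q := sm gb N13152
def N17935 : Q := sm gf N13153
def N17938 : Q := sm gb N13155
def N17941 : Q := sm ga N13157
def N17943 : Q := sm gd N13158
def N17944 : Q := sm ge N13159
def N17951 : Q := sm gf N13164
def N17961 : Q := sm gf N13170
def N17965 : Q := sm gf N13172
def N17966 : Q := sm ga N13173
def N17971 : Q := sm gg N13175
def N17973 : Q := sm gf N13176
def N17979 : Q := sm gg N13181
def N17990 : Q := sm ge N13188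
def N17994 : Q := sm gg N13189
def N17995 : Q := sm gb N13190
def N18001 : Q := sm gc N13195
def N18011 : Q := sm gb N13199
def N18013 : Q := sm gb N13200
def N18020 : Q := sm gf N13203
def N18022 : Q := sm gc N13204
def N18043 : Q := sm gg N13220
def N18046 : Q := sm gg N13222
def N18053 : Q := sm ga N13226
def N18063 : Q := sm gf N13231
def N18078 : Q := sm gb N13240
def N18082 : Q := sm gb N13242
def N18088 : Q := sm gg N13244
def N18095 : Q := sm gd N13252
def N18097 : Q := sm gg N13252
def N18098 : Q := sm ge N13253
def N18105 : Q := sm gf N13256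
def N18114 : Q := sm gf N13259
def N18138 : Q := sm gb N13272
def N18154 : Q := sm gb N13284
def N18155 : Q := sm gb N13285
def N18156 : Q := sm gb N13286
def N18157 : Q := sm gb N13289
def N18158 : Q := sm gf N13289
def N18159 : Q := sm gb N13291
def N18161 : Q := sm gc N13293
def N18162 : Q := sm gf N13293
def N18163 : Q := sm gg N13294
def N18164 : Q := sm gb N13295
def N18165 : Q := sm gf N13295
def N18166 : Q := sm gb N13296
def N18167 : Q := sm gb N13297
def N18168 : Q := sm ga N13298
def N18169 : Q := sm gc N13298
def N18170 : Q := sm gf N13298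
def N18171 : Q := sm ga N13299
def N18172 : Q := sm gc N13299
def N18173 : Q := sm gg N13299
def N18174 : Q := sm gd N13300
def N18175 : Q := sm gf N13300
def N18176 : Q := sm gg N13300
def N18177 : Q := sm gg N13301
def N18178 : Q := sm gf N13302
def N18179 : Q := sm gg N13302
def N18180 : Q := sm gg N13303
def N18181 : Q := sm gb N13304
def N18182 : Q := sm gf N13304
def N18183 : Q := sm gb N13305
def N18184 : Q := sm gb N13306
def N18185 : Q := sm ga N13307
def N18186 : Q := sm gg N13307
def N18187 : Q := sm ga N13308
def N18188 : Q := sm gc N13308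
def N18189 : Q := sm gf N13308
def N18190 : Q := sm gb N13309
def N18191 : Q := sm gb N13310
def N18192 : Q := sm ga N13311
def N18193 : Q := sm gc N13311
def N18194 : Q := sm gg N13311
def N18195 : Q := sm gb N13312
def N18196 : Q := sm ga N13313
def N18197 : Q := sm gc N13313
def N18198 : Q := sm gf N13313
def N18199 : Q := sm gb N13314
def N18200 : Q := sm gb N13316
def N18201 : Q := sm ga N13317
def N18202 : Q := sm gc N13317
def N18203 : Q := sm gf N13317
def N18204 : Q := sm gb N13318
def N18205 : Q := sm gb N13319
def N18206 : Q := sm ga N13320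
def N18207 : Q := sm gc N13320
def N18208 : Q := sm gg N13320
def N18209 : Q := sm gg N13321
def N18210 : Q := sm gg N13322
def N18211 : Q := sm gf N13323
def N18212 : Q := sm gb N13324
def N18213 : Q := sm gf N13324
def N18214 : Q := sm gf N13325
def N18215 : Q := sm gg N13326
def N18216 : Q := sm gb N13328
def N18217 : Q := sm gb N13329
def N18218 : Q := sm ga N13330
def N18219 : Q := sm gc N13330
def N18220 : Q := sm gf N13330
def N18222 : Q := sm gb N13331
def N18223 : Q := sm gb N13332
def N18224 : Q := sm gb N13334
def N18226 : Q := sm gb N13339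
def N18227 : Q := sm ga N13340
def N18229 : Q := sm gf N13340
def N18230 : Q := sm gb N13341
def N18231 : Q := sm gb N13342
def N18232 : Q := sm gg N13342
def N18233 : Q := sm gf N13344
def N18234 : Q := sm gb N13345
def N18235 : Q := sm gc N13345
def N18236 : Q := sm gf N13345
def N18238 : Q := sm gf N13346
def N18239 : Q := sm gg N13347
def N18240 : Q := sm ga N13348
def N18241 : Q := sm gg N13348
def N18242 : Q := sm ga N13349
def N18243 : Q := sm gc N13349
def N18244 : Q := sm gf N13349
def N18245 : Q := sm gb N13350
def N18246 : Q := sm gc N13350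
def N18247 : Q := sm gf N13350
def N18248 : Q := sm gd N13351
def N18249 : Q := sm gf N13351
def N18250 : Q := sm gg N13352
def N18251 : Q := sm ga N13353
def N18252 : Q := sm gc N13353
def N18253 : Q := sm gf N13353
def N18254 : Q := sm gg N13353
def N18255 : Q := sm ga N13354
def N18256 : Q := sm gc N13354
def N18257 : Q := sm gg N13354
def N18258 : Q := sm gb N13355
def N18259 : Q := sm gc N13355
def N18260 : Q := sm gg N13355
def N18261 : Q := sm gd N13356
def N18262 : Q := sm gg N13356
def N18263 : Q := sm gf N13357
def N18264 : Q := sm gg N13358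
def N18265 : Q := sm gb N13361
def N18266 : Q := sm gf N13361
def N18267 : Q := sm ga N13362
def N18268 : Q := sm gc N13362
def N18269 : Q := sm gf N13362
def N18270 : Q := sm ga N13363
def N18271 : Q := sm gc N13363
def N18272 : Q := sm gg N13363
def N18273 : Q := sm gc N13364
def N18274 : Q := sm gf N13364
def N18275 : Q := sm gg N13364
def N18277 : Q := sm gf N13365
def N18278 : Q := sm gg N13365
def N18279 : Q := sm gb N13366
def N18280 : Q := sm gg N13366
def N18281 : Q := sm gf N13367
def N18282 : Q := sm ga N13368
def N18283 : Q := sm gc N13368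
def N18284 : Q := sm gg N13368
def N18285 : Q := sm ga N13369
def N18286 : Q := sm gc N13369
def N18287 : Q := sm gf N13369
def N18288 : Q := sm ga N13370
def N18289 : Q := sm gc N13370
def N18290 : Q := sm gg N13370
def N18291 : Q := sm ga N13371
def N18292 : Q := sm gc N13371
def N18293 : Q := sm gf N13371
def N18294 : Q := sm gb N13372
def N18295 : Q := sm gc N13372
def N18296 : Q := sm gg N13372
def N18297 : Q := sm gd N13373
def N18298 : Q := sm gg N13373
def N18299 : Q := sm gf N13374
def N18300 : Q := sm gb N13375
def N18301 : Q := sm gc N13375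
def N18302 : Q := sm gf N13375
def N18303 : Q := sm gd N13376
def N18304 : Q := sm gf N13376
def N18305 : Q := sm gg N13377
def N18306 : Q := sm ge N13378
def N18307 : Q := sm ge N13379
def N18308 : Q := sm gb N13381
def N18309 : Q := sm ga N13382
def N18310 : Q := sm gc N13382
def N18311 : Q := sm gg N13382
def N18312 : Q := sm ga N13383
def N18313 : Q := sm gc N13383
def N18314 : Q := sm gf N13383
def N18315 : Q := sm gc N13384
def N18316 : Q := sm gd N13385
def N18317 : Q := sm gg N13385
def N18318 : Q := sm gb N13386
def N18319 : Q := sm ga N13387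
def N18321 : Q := sm gf N13387
def N18322 : Q := sm gb N13388
def N18323 : Q := sm gc N13388
def N18324 : Q := sm gd N13389
def N18325 : Q := sm gf N13389
def N18326 : Q := sm gb N13390
def N18327 : Q := sm ga N13391
def N18329 : Q := sm gg N13391
def N18330 : Q := sm gg N13392
def N18331 : Q := sm gb N13393
def N18332 : Q := sm gd N13393
def N18333 : Q := sm gg N13393
def N18334 : Q := sm gb N13394
def N18335 : Q := sm ge N13395
def N18336 : Q := sm gg N13395
def N18337 : Q := sm gf N13396
def N18338 : Q := sm gb N13397
def N18339 : Q := sm ga N13398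
def N18340 : Q := sm gc N13398
def N18341 : Q := sm gf N13398
def N18342 : Q := sm gg N13398
def N18343 : Q := sm gb N13399
def N18344 : Q := sm gd N13399
def N18345 : Q := sm gf N13399
def N18346 : Q := sm gb N13400
def N18347 : Q := sm gc N13401
def N18348 : Q := sm ge N13401
def N18349 : Q := sm gf N13401
def N18350 : Q := sm gg N13402
def N18351 : Q := sm gb N13403
def N18352 : Q := sm gg N13406
def N18353 : Q := sm gb N13407
def N18354 : Q := sm gf N13407
def N18357 : Q := sm gc N13411
def N18358 : Q := sm gf N13411
def N18359 : Q := sm ga N13412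
def N18360 : Q := sm gc N13412
def N18361 : Q := sm gg N13412
def N18362 : Q := sm gb N13413
def N18363 : Q := sm ga N13414
def N18364 : Q := sm gc N13414
def N18365 : Q := sm gf N13414
def N18366 : Q := sm gb N13415
def N18367 : Q := sm gb N13416
def N18368 : Q := sm gc N13416
def N18369 : Q := sm gd N13417
def N18370 : Q := sm gg N13417
def N18371 : Q := sm gb N13418
def N18372 : Q := sm ga N13419
def N18373 : Q := sm gc N13419
def N18374 : Q := sm gf N13419
def N18375 : Q := sm gb N13420
def N18376 : Q := sm gc N13420
def N18377 : Q := sm gd N13421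
def N18378 : Q := sm gf N13421
def N18379 : Q := sm gb N13422
def N18380 : Q := sm ga N13423
def N18381 : Q := sm gc N13423
def N18382 : Q := sm gg N13423
def N18383 : Q := sm gb N13424
def N18384 : Q := sm gg N13424
def N18385 : Q := sm gg N13425
def N18386 : Q := sm gb N13426
def N18387 : Q := sm gf N13426
def N18388 : Q := sm ga N13427
def N18389 : Q := sm gc N13427
def N18390 : Q := sm gf N13427
def N18391 : Q := sm gb N13428
def N18392 : Q := sm gf N13428
def N18393 : Q := sm gf N13429
def N18394 : Q := sm gb N13430
def N18395 : Q := sm gg N13430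
def N18396 : Q := sm ga N13431
def N18397 : Q := sm gc N13431
def N18398 : Q := sm gg N13431
def N18399 : Q := sm gg N13432
def N18400 : Q := sm gb N13433
def N18401 : Q := sm gd N13433
def N18402 : Q := sm gg N13433
def N18403 : Q := sm gb N13434
def N18404 : Q := sm ge N13435
def N18405 : Q := sm gg N13435
def N18406 : Q := sm gb N13436
def N18407 : Q := sm gf N13436
def N18408 : Q := sm ga N13437
def N18409 : Q := sm gc N13437
def N18410 : Q := sm gf N13437
def N18411 : Q := sm gb N13438
def N18412 : Q := sm gb N13439
def N18413 : Q := sm gc N13439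
def N18414 : Q := sm gf N13439
def N18415 : Q := sm gd N13440
def N18416 : Q := sm gf N13440
def N18417 : Q := sm gg N13441
def N18418 : Q := sm ga N13442
def N18419 : Q := sm gf N13442
def N18420 : Q := sm gg N13442
def N18421 : Q := sm gb N13443
def N18422 : Q := sm gd N13443
def N18423 : Q := sm gf N13443
def N18424 : Q := sm gb N13444
def N18425 : Q := sm ge N13445
def N18426 : Q := sm gf N13445
def N18427 : Q := sm gb N13446
def N18428 : Q := sm gg N13446
def N18429 : Q := sm ga N13447
def N18430 : Q := sm gc N13447
def N18431 : Q := sm gg N13447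
def N18432 : Q := sm gb N13448
def N18433 : Q := sm gb N13449
def N18434 : Q := sm gc N13449
def N18435 : Q := sm gg N13449
def N18436 : Q := sm gd N13450
def N18437 : Q := sm gg N13450
def N18438 : Q := sm gf N13451
def N18439 : Q := sm gg N13452
def N18440 : Q := sm gb N13453
def N18441 : Q := sm ga N13454
def N18442 : Q := sm gf N13454
def N18443 : Q := sm ge N13455
def N18444 : Q := sm gf N13456
def N18445 : Q := sm gb N13457
def N18446 : Q := sm ga N13458
def N18447 : Q := sm gg N13458
def N18448 : Q := sm ge N13459
def N18449 : Q := sm gb N13461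
def N18450 : Q := sm ga N13464
def N18451 : Q := sm gc N13464
def N18452 : Q := sm gf N13464
def N18453 : Q := sm gd N13466
def N18454 : Q := sm gg N13466
def N18459 : Q := sm gf N13472
def N18460 : Q := sm gb N13476
def N18461 : Q := sm gc N13476
def N18462 : Q := sm gf N13476
def N18463 : Q := sm gd N13477
def N18464 : Q := sm gf N13477
def N18465 : Q := sm gg N13478
def N18466 : Q := sm gf N13479
def N18467 : Q := sm gg N13479
def N18468 : Q := sm gb N13481
def N18469 : Q := sm gf N13482
def N18470 : Q := sm gg N13482
def N18471 : Q := sm gb N13483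
def N18472 : Q := sm gg N13483
def N18473 : Q := sm gb N13484
def N18474 : Q := sm gb N13486
def N18475 : Q := sm ga N13487
def N18476 : Q := sm gc N13487
def N18477 : Q := sm gf N13487
def N18478 : Q := sm gg N13489
def N18479 : Q := sm gb N13490
def N18480 : Q := sm ga N13491
def N18481 : Q := sm gc N13491
def N18482 : Q := sm gf N13491
def N18483 : Q := sm gg N13494
def N18484 : Q := sm gb N13495
def N18485 : Q := sm ga N13496
def N18486 : Q := sm gc N13496
def N18487 : Q := sm gf N13496
def N18488 : Q := sm gb N13497
def N18489 : Q := sm gf N13498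
def N18490 : Q := sm gb N13499
def N18491 : Q := sm ga N13500
def N18492 : Q := sm ga N13501
def N18493 : Q := sm gg N13501
def N18494 : Q := sm gb N13504
def N18495 : Q := sm ga N13505
def N18496 : Q := sm gc N13505
def N18497 : Q := sm gf N13505
def N18498 : Q := sm gb N13506
def N18499 : Q := sm gc N13506
def N18500 : Q := sm gf N13506
def N18501 : Q := sm gd N13507
def N18502 : Q := sm gf N13507
def N18503 : Q := sm gg N13508
def N18504 : Q := sm ga N13509
def N18505 : Q := sm gc N13509
def N18506 : Q := sm gf N13509
def N18507 : Q := sm gg N13509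
def N18508 : Q := sm gb N13510
def N18509 : Q := sm gd N13510
def N18511 : Q := sm ge N13511
def N18512 : Q := sm gf N13511
def N18513 : Q := sm gb N13512
def N18514 : Q := sm ga N13513
def N18515 : Q := sm gc N13513
def N18516 : Q := sm gg N13513
def N18517 : Q := sm gb N13514
def N18518 : Q := sm gc N13514
def N18519 : Q := sm gg N13514
def N18520 : Q := sm gd N13515
def N18521 : Q := sm gg N13515
def N18522 : Q := sm gf N13516
def N18523 : Q := sm gg N13517
def N18524 : Q := sm gb N13519
def N18525 : Q := sm ga N13520
def N18526 : Q := sm gc N13520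
def N18527 : Q := sm gf N13520
def N18528 : Q := sm gf N13521
def N18529 : Q := sm gf N13522
def N18530 : Q := sm gb N13523
def N18531 : Q := sm gg N13523
def N18532 : Q := sm ga N13524
def N18533 : Q := sm gc N13524
def N18534 : Q := sm gg N13524
def N18535 : Q := sm gb N13527
def N18536 : Q := sm gb N13529
def N18537 : Q := sm ga N13530
def N18538 : Q := sm gc N13530
def N18539 : Q := sm gb N13531
def N18540 : Q := sm gb N13532
def N18541 : Q := sm gc N13532
def N18542 : Q := sm gd N13533
def N18543 : Q := sm gf N13533
def N18544 : Q := sm gg N13534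
def N18545 : Q := sm ga N13535
def N18546 : Q := sm gf N13535
def N18548 : Q := sm gb N13537
def N18549 : Q := sm gb N13539
def N18550 : Q := sm gg N13539
def N18551 : Q := sm ga N13540
def N18552 : Q := sm gc N13540
def N18553 : Q := sm gg N13540
def N18554 : Q := sm gb N13541
def N18555 : Q := sm gb N13542
def N18556 : Q := sm gc N13542
def N18557 : Q := sm gg N13542
def N18558 : Q := sm gd N13543
def N18559 : Q := sm gg N13543
def N18560 : Q := sm gf N13544
def N18561 : Q := sm gb N13548
def N18562 : Q := sm gg N13549
def N18563 : Q := sm ge N13550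
def N18564 : Q := sm gg N13550
def N18565 : Q := sm gb N13551
def N18566 : Q := sm ga N13552
def N18567 : Q := sm gc N13552
def N18568 : Q := sm gf N13552
def N18569 : Q := sm gg N13554
def N18570 : Q := sm gb N13555
def N18571 : Q := sm ga N13556
def N18572 : Q := sm gf N13556
def N18573 : Q := sm gb N13557
def N18574 : Q := sm gb N13558
def N18575 : Q := sm gc N13558
def N18576 : Q := sm gd N13559
def N18577 : Q := sm gf N13559
def N18578 : Q := sm gb N13560
def N18579 : Q := sm ga N13561
def N18580 : Q := sm gc N13561
def N18581 : Q := sm gg N13561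
def N18582 : Q := sm ga N13562
def N18583 : Q := sm gc N13562
def N18584 : Q := sm gf N13562
def N18585 : Q := sm gg N13562
def N18586 : Q := sm gb N13563
def N18587 : Q := sm gd N13563
def N18588 : Q := sm gf N13563
def N18589 : Q := sm gc N13565
def N18590 : Q := sm ge N13565
def N18591 : Q := sm gf N13565
def N18592 : Q := sm gg N13566
def N18593 : Q := sm gb N13567
def N18594 : Q := sm gf N13568
def N18595 : Q := sm gg N13568
def N18596 : Q := sm gb N13570
def N18597 : Q := sm gg N13570
def N18598 : Q := sm gf N13571
def N18599 : Q := sm gd N13572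
def N18600 : Q := sm gf N13572
def N18601 : Q := sm gg N13572
def N18602 : Q := sm gc N13573
def N18603 : Q := sm ge N13573
def N18604 : Q := sm gf N13573
def N18605 : Q := sm gb N13574
def N18606 : Q := sm gc N13575
def N18607 : Q := sm gg N13575
def N18608 : Q := sm ge N13576
def N18609 : Q := sm gf N13576
def N18610 : Q := sm gf N13577
def N18611 : Q := sm gb N13578
def N18612 : Q := sm gg N13578
def N18613 : Q := sm ga N13579
def N18614 : Q := sm gg N13579
def N18615 : Q := sm gb N13580
def N18616 : Q := sm gc N13581
def N18617 : Q := sm gd N13582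
def N18618 : Q := sm gg N13582
def N18619 : Q := sm gb N13583
def N18620 : Q := sm ga N13584
def N18621 : Q := sm gc N13584
def N18622 : Q := sm gf N13584
def N18623 : Q := sm ga N13585
def N18624 : Q := sm gc N13585
def N18625 : Q := sm gf N13585
def N18626 : Q := sm gg N13585
def N18627 : Q := sm gg N13586
def N18628 : Q := sm gb N13587
def N18629 : Q := sm gc N13588
def N18630 : Q := sm ge N13588
def N18631 : Q := sm gg N13588
def N18632 : Q := sm gf N13589
def N18633 : Q := sm gb N13590
def N18634 : Q := sm gb N13591
def N18635 : Q := sm ge N13596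
def N18636 : Q := sm gg N13596
def N18637 : Q := sm gg N13597
def N18638 : Q := sm gb N13599
def N18639 : Q := sm ga N13600
def N18640 : Q := sm gb N13601
def N18641 : Q := sm gf N13601
def N18642 : Q := sm gg N13602
def N18643 : Q := sm gb N13604
def N18645 : Q := sm gf N13604
def N18647 : Q := sm gc N13605
def N18648 : Q := sm ge N13605
def N18649 : Q := sm gf N13605
def N18651 : Q := sm gg N13606
def N18653 : Q := sm ge N13609
def N18654 : Q := sm gf N13609
def N18655 : Q := sm gf N13610
def N18656 : Q := sm gb N13611
def N18657 : Q := sm gb N13612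
def N18658 : Q := sm ga N13613
def N18659 : Q := sm gc N13613
def N18660 : Q := sm gg N13613
def N18661 : Q := sm gb N13614
def N18662 : Q := sm gg N13614
def N18663 : Q := sm gf N13615
def N18664 : Q := sm gb N13626
def N18665 : Q := sm gg N13627
def N18666 : Q := sm gb N13628
def N18667 : Q := sm ga N13631
def N18668 : Q := sm gf N13631
def N18669 : Q := sm ga N13632
def N18670 : Q := sm ge N13632
def N18671 : Q := sm gf N13632
def N18672 : Q := sm gg N13632
def N18673 : Q := sm gd N13633
def N18675 : Q := sm gd N13639
def N18677 : Q := sm gf N13639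
def N18678 : Q := sm gg N13639
def N18679 : Q := sm gc N13640
def N18680 : Q := sm ge N13640
def N18681 : Q := sm gf N13640
def N18682 : Q := sm gg N13640
def N18684 : Q := sm gf N13641
def N18686 : Q := sm gb N13642
def N18687 : Q := sm gg N13642
def N18688 : Q := sm gf N13643
def N18689 : Q := sm gd N13644
def N18690 : Q := sm gf N13644
def N18691 : Q := sm gb N13645
def N18692 : Q := sm ga N13648
def N18693 : Q := sm gg N13648
def N18694 : Q := sm ga N13649
def N18695 : Q := sm ge N13649
def N18696 : Q := sm gf N13649
def N18697 : Q := sm gg N13649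
def N18698 : Q := sm gd N13650
def N18699 : Q := sm gf N13653
def N18700 : Q := sm gg N13653
def N18701 : Q := sm gb N13654
def N18702 : Q := sm gb N13655
def N18703 : Q := sm gb N13656
def N18704 : Q := sm gg N13656
def N18705 : Q := sm gb N13657
def N18706 : Q := sm gf N13657
def N18707 : Q := sm ga N13658
def N18708 : Q := sm gc N13658
def N18709 : Q := sm gg N13658
def N18710 : Q := sm gb N13659
def N18711 : Q := sm ga N13660
def N18712 : Q := sm gc N13660
def N18713 : Q := sm gf N13660
def N18714 : Q := sm gb N13661
def N18715 : Q := sm ga N13662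
def N18716 : Q := sm gc N13662
def N18717 : Q := sm gg N13662
def N18718 : Q := sm ga N13663
def N18719 : Q := sm gc N13663
def N18720 : Q := sm gf N13663
def N18721 : Q := sm gb N13664
def N18722 : Q := sm gc N13664
def N18723 : Q := sm gg N13664
def N18724 : Q := sm gg N13665
def N18725 : Q := sm gf N13666
def N18726 : Q := sm gb N13667
def N18727 : Q := sm gc N13667
def N18728 : Q := sm gf N13667
def N18729 : Q := sm gd N13668
def N18730 : Q := sm gf N13668
def N18731 : Q := sm gg N13669
def N18732 : Q := sm ga N13670
def N18733 : Q := sm gc N13670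
def N18734 : Q := sm gg N13670
def N18735 : Q := sm ga N13671
def N18736 : Q := sm gc N13671
def N18737 : Q := sm gf N13671
def N18738 : Q := sm gb N13672
def N18739 : Q := sm gb N13674
def N18740 : Q := sm ga N13675
def N18741 : Q := sm gc N13675
def N18742 : Q := sm gf N13675
def N18743 : Q := sm gb N13676
def N18744 : Q := sm gb N13678
def N18745 : Q := sm ga N13679
def N18746 : Q := sm gc N13679
def N18747 : Q := sm gg N13679
def N18748 : Q := sm ga N13680
def N18749 : Q := sm gc N13680
def N18750 : Q := sm gf N13680
def N18751 : Q := sm gg N13680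
def N18752 : Q := sm gd N13681
def N18753 : Q := sm ge N13682
def N18754 : Q := sm gg N13682
def N18755 : Q := sm gb N13683
def N18756 : Q := sm ga N13684
def N18757 : Q := sm gc N13684
def N18758 : Q := sm gf N13684
def N18759 : Q := sm gb N13685
def N18760 : Q := sm gc N13685
def N18761 : Q := sm gf N13685
def N18762 : Q := sm gd N13686
def N18763 : Q := sm gf N13686
def N18764 : Q := sm gg N13687
def N18765 : Q := sm ga N13688
def N18766 : Q := sm gc N13688
def N18767 : Q := sm gf N13688
def N18768 : Q := sm gg N13688
def N18769 : Q := sm gb N13689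
def N18770 : Q := sm gd N13689
def N18771 : Q := sm ge N13690
def N18772 : Q := sm gf N13690
def N18773 : Q := sm gb N13691
def N18774 : Q := sm ga N13692
def N18775 : Q := sm gc N13692
def N18776 : Q := sm gg N13692
def N18777 : Q := sm gb N13693
def N18778 : Q := sm gc N13693
def N18779 : Q := sm gg N13693
def N18780 : Q := sm gd N13694
def N18781 : Q := sm gg N13694
def N18782 : Q := sm gf N13695
def N18783 : Q := sm ga N13696
def N18784 : Q := sm gg N13696
def N18785 : Q := sm gb N13697
def N18786 : Q := sm gb N13698
def N18787 : Q := sm ga N13699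
def N18788 : Q := sm gc N13699
def N18789 : Q := sm gf N13699
def N18790 : Q := sm gb N13700
def N18791 : Q := sm gb N13701
def N18792 : Q := sm gc N13701
def N18793 : Q := sm gf N13701
def N18795 : Q := sm gf N13702
def N18796 : Q := sm gg N13703
def N18797 : Q := sm ga N13704
def N18798 : Q := sm gf N13704
def N18799 : Q := sm gg N13704
def N18800 : Q := sm gb N13705
def N18801 : Q := sm gb N13706
def N18802 : Q := sm ga N13707
def N18803 : Q := sm gc N13707
def N18804 : Q := sm gg N13707
def N18805 : Q := sm gb N13708
def N18806 : Q := sm gb N13709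
def N18807 : Q := sm gc N13709
def N18808 : Q := sm gg N13709
def N18809 : Q := sm gd N13710
def N18810 : Q := sm gg N13710
def N18811 : Q := sm gf N13711
def N18812 : Q := sm gc N13712
def N18813 : Q := sm gf N13712
def N18814 : Q := sm gg N13712
def N18815 : Q := sm gb N13713
def N18816 : Q := sm gd N13713
def N18817 : Q := sm gf N13713
def N18818 : Q := sm gg N13713
def N18819 : Q := sm gg N13714
def N18820 : Q := sm gb N13715
def N18821 : Q := sm gf N13715
def N18822 : Q := sm gd N13716
def N18823 : Q := sm gf N13716
def N18824 : Q := sm gg N13716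
def N18825 : Q := sm ge N13717
def N18826 : Q := sm gg N13717
def N18827 : Q := sm gb N13718
def N18828 : Q := sm ga N13719
def N18829 : Q := sm gc N13719
def N18830 : Q := sm gf N13719
def N18831 : Q := sm gg N13720
def N18832 : Q := sm gb N13721
def N18833 : Q := sm gf N13721
def N18834 : Q := sm ga N13722
def N18835 : Q := sm gc N13722
def N18836 : Q := sm gf N13722
def N18837 : Q := sm gb N13723
def N18838 : Q := sm gb N13724
def N18839 : Q := sm gc N13724
def N18840 : Q := sm gd N13725
def N18841 : Q := sm gf N13725
def N18842 : Q := sm gb N13726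
def N18843 : Q := sm ga N13727
def N18844 : Q := sm gc N13727
def N18845 : Q := sm gg N13727
def N18846 : Q := sm ga N13728
def N18847 : Q := sm gc N13728
def N18848 : Q := sm gf N13728
def N18849 : Q := sm gg N13728
def N18850 : Q := sm gb N13729
def N18851 : Q := sm gd N13729
def N18852 : Q := sm gf N13729
def N18853 : Q := sm gb N13730
def N18854 : Q := sm gc N13731
def N18855 : Q := sm ge N13731
def N18856 : Q := sm gf N13731
def N18857 : Q := sm gg N13732
def N18858 : Q := sm gb N13733
def N18859 : Q := sm gc N13734
def N18860 : Q := sm gf N13734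
def N18861 : Q := sm gg N13734
def N18862 : Q := sm gb N13735
def N18863 : Q := sm gd N13735
def N18864 : Q := sm gf N13735
def N18865 : Q := sm gg N13735
def N18866 : Q := sm gb N13736
def N18867 : Q := sm gg N13736
def N18868 : Q := sm gf N13737
def N18869 : Q := sm gd N13738
def N18870 : Q := sm gf N13738
def N18871 : Q := sm gg N13738
def N18872 : Q := sm ge N13739
def N18873 : Q := sm gf N13739
def N18874 : Q := sm gb N13740
def N18875 : Q := sm ga N13741
def N18876 : Q := sm gc N13741
def N18877 : Q := sm gg N13741
def N18878 : Q := sm gf N13742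
def N18879 : Q := sm gb N13743
def N18880 : Q := sm gg N13743
def N18881 : Q := sm ga N13744
def N18882 : Q := sm gc N13744
def N18883 : Q := sm gg N13744
def N18884 : Q := sm gb N13745
def N18885 : Q := sm gb N13746
def N18886 : Q := sm gc N13746
def N18887 : Q := sm gd N13747
def N18888 : Q := sm gg N13747
def N18889 : Q := sm gb N13748
def N18890 : Q := sm ga N13749
def N18891 : Q := sm gc N13749
def N18892 : Q := sm gf N13749
def N18893 : Q := sm ga N13750
def N18894 : Q := sm gc N13750
def N18895 : Q := sm gf N13750
def N18896 : Q := sm gg N13750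
def N18897 : Q := sm gb N13751
def N18898 : Q := sm gd N13751
def N18899 : Q := sm gg N13751
def N18900 : Q := sm gb N13752
def N18901 : Q := sm gc N13753
def N18902 : Q := sm ge N13753
def N18903 : Q := sm gg N13753
def N18904 : Q := sm gf N13754
def N18905 : Q := sm gb N13755
def N18906 : Q := sm gf N13756
def N18907 : Q := sm gg N13756
def N18908 : Q := sm gd N13758
def N18909 : Q := sm gf N13758
def N18910 : Q := sm gg N13758
def N18911 : Q := sm gc N13759
def N18912 : Q := sm ge N13759
def N18913 : Q := sm gf N13759
def N18914 : Q := sm gg N13759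
def N18915 : Q := sm gg N13760
def N18916 : Q := sm gf N13761
def N18917 : Q := sm gb N13763
def N18918 : Q := sm gf N13763
def N18919 : Q := sm ga N13764
def N18920 : Q := sm gc N13764
def N18921 : Q := sm gf N13764
def N18922 : Q := sm gb N13765
def N18923 : Q := sm gb N13766
def N18924 : Q := sm gc N13766
def N18925 : Q := sm gf N13766
def N18926 : Q := sm gd N13767
def N18927 : Q := sm gf N13767
def N18928 : Q := sm gb N13768
def N18929 : Q := sm gg N13768
def N18930 : Q := sm ga N13769
def N18931 : Q := sm gg N13769
def N18932 : Q := sm gb N13770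
def N18933 : Q := sm gd N13770
def N18934 : Q := sm gc N13771
def N18935 : Q := sm ge N13771
def N18936 : Q := sm ga N13772
def N18937 : Q := sm gd N13772
def N18938 : Q := sm gf N13772
def N18939 : Q := sm gg N13772
def N18940 : Q := sm ge N13773
def N18941 : Q := sm gb N13774
def N18942 : Q := sm ge N13774
def N18943 : Q := sm ga N13776
def N18944 : Q := sm gd N13776
def N18945 : Q := sm gf N13776
def N18946 : Q := sm gg N13776
def N18947 : Q := sm ge N13777
def N18948 : Q := sm gd N13778
def N18949 : Q := sm gf N13778
def N18950 : Q := sm gg N13778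
def N18951 : Q := sm gc N13779
def N18952 : Q := sm ge N13779
def N18953 : Q := sm gf N13779
def N18954 : Q := sm gg N13779
def N18955 : Q := sm gg N13780
def N18956 : Q := sm gf N13781
def N18957 : Q := sm gb N13783
def N18958 : Q := sm gg N13783
def N18959 : Q := sm ga N13784
def N18960 : Q := sm gc N13784
def N18961 : Q := sm gg N13784
def N18962 : Q := sm gb N13785
def N18963 : Q := sm gb N13786
def N18964 : Q := sm gc N13786
def N18965 : Q := sm gg N13786
def N18966 : Q := sm gd N13787
def N18967 : Q := sm gg N13787
def N18968 : Q := sm gb N13788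
def N18969 : Q := sm gf N13788
def N18970 : Q := sm ga N13789
def N18971 : Q := sm gf N13789
def N18972 : Q := sm gb N13790
def N18973 : Q := sm gd N13790
def N18974 : Q := sm gc N13791
def N18975 : Q := sm ge N13791
def N18976 : Q := sm ga N13792
def N18977 : Q := sm gd N13792
def N18978 : Q := sm gf N13792
def N18979 : Q := sm gg N13792
def N18980 : Q := sm ge N13793
def N18981 : Q := sm gb N13794
def N18982 : Q := sm ge N13794
def N18983 : Q := sm gb N13796
def N18984 : Q := sm gd N13796
def N18985 : Q := sm gg N13796
def N18986 : Q := sm gg N13797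
def N18987 : Q := sm gf N13799
def N18988 : Q := sm gd N13801
def N18989 : Q := sm gc N13802
def N18990 : Q := sm gb N13803
def N18991 : Q := sm gd N13803
def N18992 : Q := sm gb N13805
def N18993 : Q := sm ga N13807
def N18994 : Q := sm gd N13807
def N18995 : Q := sm gf N13807
def N18996 : Q := sm gg N13807
def N18997 : Q := sm ge N13808
def N18998 : Q := sm gb N13810
def N18999 : Q := sm gd N13810
def N19000 : Q := sm gf N13810
def N19001 : Q := sm gg N13810
def N19002 : Q := sm gc N13811
def N19003 : Q := sm ge N13811
def N19004 : Q := sm gf N13811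
def N19005 : Q := sm gg N13811
def N19006 : Q := sm gg N13812
def N19007 : Q := sm gf N13813
def N19008 : Q := sm gd N13815
def N19009 : Q := sm gc N13816
def N19010 : Q := sm gb N13817
def N19011 : Q := sm gd N13817
def N19012 : Q := sm gb N13819
def N19013 : Q := sm ga N13821
def N19014 : Q := sm gd N13821
def N19015 : Q := sm gf N13821
def N19016 : Q := sm gg N13821
def N19017 : Q := sm ge N13822
def N19018 : Q := sm ga N13838
def N19019 : Q := sm gg N13838
def N19020 : Q := sm ga N13839
def N19021 : Q := sm gc N13839
def N19022 : Q := sm gf N13839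
def N19023 : Q := sm gb N13840
def N19024 : Q := sm gg N13841
def N19025 : Q := sm gb N13842
def N19026 : Q := sm ga N13843
def N19027 : Q := sm gc N13843
def N19028 : Q := sm gf N13843
def N19029 : Q := sm gb N13844
def N19030 : Q := sm gc N13844
def N19031 : Q := sm gd N13845
def N19032 : Q := sm gf N13845
def N19033 : Q := sm gb N13846
def N19034 : Q := sm ga N13847
def N19035 : Q := sm gc N13847
def N19036 : Q := sm gg N13847
def N19037 : Q := sm ga N13848
def N19038 : Q := sm gc N13848
def N19039 : Q := sm gf N13848
def N19040 : Q := sm gg N13848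
def N19041 : Q := sm gg N13849
def N19042 : Q := sm gb N13850
def N19043 : Q := sm gb N13852
def N19044 : Q := sm gb N13853
def N19045 : Q := sm ga N13854
def N19046 : Q := sm gc N13854
def N19047 : Q := sm gf N13854
def N19048 : Q := sm gg N13854
def N19049 : Q := sm gb N13855
def N19050 : Q := sm gd N13855
def N19051 : Q := sm gf N13855
def N19052 : Q := sm gb N13856
def N19053 : Q := sm gb N13858
def N19054 : Q := sm gb N13859
def N19055 : Q := sm gg N13860
def N19056 : Q := sm gg N13861
def N19057 : Q := sm gg N13862
def N19058 : Q := sm gg N13866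
def N19059 : Q := sm gb N13867
def N19060 : Q := sm ga N13868
def N19061 : Q := sm gc N13868
def N19062 : Q := sm gf N13868
def N19063 : Q := sm gb N13869
def N19064 : Q := sm gc N13869
def N19065 : Q := sm gd N13870
def N19066 : Q := sm gf N13870
def N19067 : Q := sm ga N13872
def N19068 : Q := sm gc N13872
def N19069 : Q := sm gg N13872
def N19070 : Q := sm gb N13873
def N19071 : Q := sm gd N13873
def N19072 : Q := sm gf N13873
def N19073 : Q := sm gc N13875
def N19074 : Q := sm ge N13875
def N19075 : Q := sm gf N13875
def N19076 : Q := sm gb N13876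
def N19077 : Q := sm gg N13876
def N19078 : Q := sm gb N13877
def N19079 : Q := sm gf N13878
def N19080 : Q := sm gf N13879
def N19081 : Q := sm gf N13881
def N19082 : Q := sm gf N13884
def N19083 : Q := sm gb N13885
def N19084 : Q := sm ga N13886
def N19085 : Q := sm gc N13886
def N19086 : Q := sm gg N13886
def N19087 : Q := sm gb N13887
def N19088 : Q := sm gc N13887
def N19089 : Q := sm gd N13888
def N19090 : Q := sm gg N13888
def N19091 : Q := sm ga N13890
def N19092 : Q := sm gc N13890
def N19093 : Q := sm gf N13890
def N19094 : Q := sm gb N13891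
def N19095 : Q := sm gd N13891
def N19096 : Q := sm gg N13891
def N19097 : Q := sm gc N13893
def N19098 : Q := sm ge N13893
def N19099 : Q := sm gg N13893
def N19100 : Q := sm gb N13894
def N19101 : Q := sm gf N13894
def N19102 : Q := sm gb N13895
def N19103 : Q := sm gd N13896
def N19104 : Q := sm gf N13896
def N19105 : Q := sm gg N13896
def N19106 : Q := sm gb N13897
def N19107 : Q := sm gb N13898
def N19108 : Q := sm gf N13899
def N19109 : Q := sm gg N13899
def N19110 : Q := sm ge N13900
def N19111 : Q := sm gg N13900
def N19112 : Q := sm gg N13901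
def N19113 : Q := sm gb N13902
def N19114 : Q := sm gf N13902
def N19115 : Q := sm gb N13903
def N19116 : Q := sm ga N13904
def N19117 : Q := sm gc N13904
def N19118 : Q := sm gf N13904
def N19119 : Q := sm gb N13905
def N19120 : Q := sm ge N13907
def N19121 : Q := sm gg N13907
def N19122 : Q := sm gg N13908
def N19123 : Q := sm gb N13909
def N19124 : Q := sm gf N13909
def N19125 : Q := sm gg N13910
def N19126 : Q := sm gb N13911
def N19127 : Q := sm ga N13912
def N19128 : Q := sm gc N13912
def N19129 : Q := sm gf N13912
def N19130 : Q := sm gb N13913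
def N19131 : Q := sm gc N13913
def N19132 : Q := sm gf N13913
def N19133 : Q := sm gd N13914
def N19134 : Q := sm gf N13914
def N19135 : Q := sm gb N13916
def N19136 : Q := sm gf N13916
def N19137 : Q := sm ga N13917
def N19138 : Q := sm gc N13917
def N19139 : Q := sm gb N13918
def N19140 : Q := sm gb N13919
def N19141 : Q := sm gc N13919
def N19142 : Q := sm gd N13920
def N19143 : Q := sm gf N13920
def N19144 : Q := sm gb N13921
def N19145 : Q := sm ga N13922
def N19146 : Q := sm gc N13922
def N19147 : Q := sm gg N13922
def N19148 : Q := sm ga N13923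
def N19149 : Q := sm gc N13923
def N19150 : Q := sm gf N13923
def N19151 : Q := sm gg N13923
def N19152 : Q := sm gb N13924
def N19153 : Q := sm gb N13926
def N19154 : Q := sm ga N13927
def N19155 : Q := sm gc N13927
def N19156 : Q := sm gg N13927
def N19157 : Q := sm gb N13928
def N19158 : Q := sm gc N13928
def N19159 : Q := sm gg N13928
def N19160 : Q := sm gd N13929
def N19161 : Q := sm gg N13929
def N19162 : Q := sm gf N13930
def N19163 : Q := sm gf N13931
def N19164 : Q := sm gg N13931
def N19165 : Q := sm gg N13932
def N19166 : Q := sm gf N13934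
def N19167 : Q := sm ga N13935
def N19168 : Q := sm gd N13935
def N19169 : Q := sm gg N13935
def N19170 : Q := sm ga N13943
def N19171 : Q := sm gf N13943
def N19172 : Q := sm gd N13944
def N19173 : Q := sm gf N13944
def N19174 : Q := sm gg N13944
def N19175 : Q := sm gb N13945
def N19176 : Q := sm gb N13946
def N19177 : Q := sm gf N13947
def N19178 : Q := sm gg N13947
def N19179 : Q := sm ge N13948
def N19180 : Q := sm gf N13948
def N19181 : Q := sm gb N13949
def N19182 : Q := sm gg N13949
def N19183 : Q := sm gf N13950
def N19184 : Q := sm ga N13951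
def N19185 : Q := sm gc N13951
def N19186 : Q := sm gg N13951
def N19187 : Q := sm gb N13953
def N19188 : Q := sm ge N13955
def N19189 : Q := sm gf N13955
def N19190 : Q := sm gb N13956
def N19191 : Q := sm gg N13956
def N19192 : Q := sm gf N13957
def N19193 : Q := sm gf N13958
def N19194 : Q := sm gb N13959
def N19195 : Q := sm ga N13960
def N19196 : Q := sm gc N13960
def N19197 : Q := sm gg N13960
def N19198 : Q := sm gb N13961
def N19199 : Q := sm gc N13961
def N19200 : Q := sm gd N13962
def N19201 : Q := sm gg N13962
def N19202 : Q := sm gb N13964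
def N19203 : Q := sm gg N13964
def N19204 : Q := sm ga N13965
def N19205 : Q := sm gc N13965
def N19206 : Q := sm gb N13966
def N19207 : Q := sm gb N13967
def N19208 : Q := sm gc N13967
def N19209 : Q := sm gg N13968
def N19210 : Q := sm gb N13969
def N19211 : Q := sm ga N13970
def N19212 : Q := sm gc N13970
def N19213 : Q := sm gf N13970
def N19214 : Q := sm ga N13971
def N19215 : Q := sm gc N13971
def N19216 : Q := sm gf N13971
def N19217 : Q := sm gg N13971
def N19218 : Q := sm ga N13975
def N19219 : Q := sm gc N13975
def N19220 : Q := sm gf N13975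
def N19221 : Q := sm gc N13976
def N19222 : Q := sm gf N13976
def N19223 : Q := sm gd N13977
def N19224 : Q := sm gf N13977
def N19225 : Q := sm gg N13978
def N19226 : Q := sm gf N13979
def N19227 : Q := sm gg N13979
def N19228 : Q := sm gf N13980
def N19229 : Q := sm gg N13981
def N19230 : Q := sm ga N13983
def N19231 : Q := sm gf N13983
def N19232 : Q := sm ga N13991
def N19233 : Q := sm gg N13991
def N19234 : Q := sm gf N13992
def N19235 : Q := sm gg N13992
def N19236 : Q := sm gc N13993
def N19237 : Q := sm gf N13993
def N19238 : Q := sm gg N13993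
def N19239 : Q := sm gg N13994
def N19240 : Q := sm gf N13995
def N19241 : Q := sm ge N13997
def N19242 : Q := sm gb N13999
def N19243 : Q := sm gg N14001
def N19244 : Q := sm gb N14004
def N19245 : Q := sm gb N14005
def N19246 : Q := sm gd N14007
def N19247 : Q := sm gg N14007
def N19248 : Q := sm gg N14008
def N19249 : Q := sm gb N14009
def N19250 : Q := sm gf N14009
def N19251 : Q := sm gg N14010
def N19252 : Q := sm gb N14011
def N19253 : Q := sm ga N14013
def N19254 : Q := sm gc N14013
def N19255 : Q := sm gf N14013
def N19256 : Q := sm gb N14014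
def N19257 : Q := sm gb N14017
def N19258 : Q := sm gg N14017
def N19259 : Q := sm gc N14018
def N19260 : Q := sm gd N14020
def N19261 : Q := sm gf N14020
def N19262 : Q := sm gb N14021
def N19263 : Q := sm gc N14022
def N19264 : Q := sm ge N14022
def N19265 : Q := sm gb N14023
def N19266 : Q := sm gg N14023
def N19267 : Q := sm ga N14024
def N19268 : Q := sm gg N14024
def N19269 : Q := sm gb N14025
def N19270 : Q := sm gg N14026
def N19271 : Q := sm gf N14027
def N19272 : Q := sm ga N14028
def N19273 : Q := sm gd N14028
def N19274 : Q := sm gg N14028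
def N19275 : Q := sm ge N14029
def N19276 : Q := sm gb N14030
def N19277 : Q := sm ge N14030
def N19278 : Q := sm gb N14032
def N19279 : Q := sm gd N14032
def N19280 : Q := sm gf N14032
def N19281 : Q := sm gg N14032
def N19282 : Q := sm gc N14033
def N19283 : Q := sm ge N14033
def N19284 : Q := sm gf N14033
def N19285 : Q := sm gg N14033
def N19286 : Q := sm gg N14034
def N19287 : Q := sm gf N14035
def N19288 : Q := sm ga N14037
def N19289 : Q := sm ge N14037
def N19290 : Q := sm gg N14037
def N19291 : Q := sm gf N14039
def N19292 : Q := sm gg N14039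
def N19293 : Q := sm gc N14040
def N19294 : Q := sm gf N14040
def N19295 : Q := sm gg N14040
def N19296 : Q := sm gg N14041
def N19297 : Q := sm gf N14042
def N19298 : Q := sm ge N14044
def N19299 : Q := sm gb N14045
def N19300 : Q := sm gf N14048
def N19301 : Q := sm gb N14051
def N19302 : Q := sm gb N14052
def N19303 : Q := sm gd N14054
def N19304 : Q := sm gf N14054
def N19305 : Q := sm gb N14055
def N19306 : Q := sm gg N14055
def N19307 : Q := sm gf N14056
def N19308 : Q := sm gf N14057
def N19309 : Q := sm gb N14058
def N19310 : Q := sm ga N14060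
def N19311 : Q := sm gc N14060
def N19312 : Q := sm gg N14060
def N19313 : Q := sm gb N14061
def N19314 : Q := sm gb N14064
def N19315 : Q := sm gf N14064
def N19316 : Q := sm gc N14065
def N19317 : Q := sm gd N14067
def N19318 : Q := sm gg N14067
def N19319 : Q := sm gb N14068
def N19320 : Q := sm gc N14069
def N19321 : Q := sm ge N14069
def N19322 : Q := sm gb N14070
def N19323 : Q := sm gf N14070
def N19324 : Q := sm ga N14071
def N19325 : Q := sm gf N14071
def N19326 : Q := sm gb N14072
def N19327 : Q := sm gf N14073
def N19328 : Q := sm gg N14074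
def N19329 : Q := sm ga N14075
def N19330 : Q := sm gd N14075
def N19331 : Q := sm gf N14075
def N19332 : Q := sm ge N14076
def N19333 : Q := sm gb N14077
def N19334 : Q := sm ge N14077
def N19335 : Q := sm gb N14079
def N19336 : Q := sm gd N14079
def N19337 : Q := sm gf N14079
def N19338 : Q := sm gg N14079
def N19339 : Q := sm gc N14080
def N19340 : Q := sm ge N14080
def N19341 : Q := sm gf N14080
def N19342 : Q := sm gg N14080
def N19343 : Q := sm gg N14081
def N19344 : Q := sm gf N14082
def N19345 : Q := sm ga N14084
def N19346 : Q := sm ge N14084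
def N19347 : Q := sm gf N14084
def N19348 : Q := sm ge N14086
def N19349 : Q := sm gg N14086
def N19350 : Q := sm gg N14087
def N19351 : Q := sm gf N14089
def N19352 : Q := sm ge N14091
def N19353 : Q := sm ge N14092
def N19354 : Q := sm gg N14092
def N19355 : Q := sm gg N14093
def N19356 : Q := sm gb N14094
def N19357 : Q := sm gb N14095
def N19358 : Q := sm gg N14097
def N19359 : Q := sm gf N14099
def N19360 : Q := sm gb N14103
def N19361 : Q := sm ga N14104
def N19362 : Q := sm gg N14106
def N19363 : Q := sm gb N14107
def N19364 : Q := sm gb N14110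
def N19365 : Q := sm gb N14112
def N19366 : Q := sm gb N14113
def N19367 : Q := sm ga N14116
def N19368 : Q := sm gb N14121
def N19369 : Q := sm gd N14121
def N19370 : Q := sm ge N14122
def N19371 : Q := sm ga N14128
def N19372 : Q := sm gd N14128
def N19373 : Q := sm gf N14128
def N19374 : Q := sm gg N14128
def N19375 : Q := sm ge N14129
def N19376 : Q := sm ga N14134
def N19377 : Q := sm gf N14134
def N19378 : Q := sm gb N14136
def N19379 : Q := sm gd N14136
def N19380 : Q := sm ge N14136
def N19381 : Q := sm gf N14136
def N19382 : Q := sm gg N14136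
def N19383 : Q := sm ge N14137
def N19384 : Q := sm gg N14137
def N19385 : Q := sm gf N14138
def N19386 : Q := sm gg N14138
def N19387 : Q := sm gf N14140
def N19388 : Q := sm ge N14143
def N19389 : Q := sm gf N14143
def N19390 : Q := sm gf N14144
def N19391 : Q := sm gg N14145
def N19392 : Q := sm ge N14148
def N19393 : Q := sm ge N14149
def N19394 : Q := sm gf N14149
def N19395 : Q := sm gb N14151
def N19396 : Q := sm gb N14152
def N19397 : Q := sm gf N14154
def N19398 : Q := sm gb N14162
def N19399 : Q := sm gf N14163
def N19400 : Q := sm gb N14164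
def N19401 : Q := sm gb N14169
def N19402 : Q := sm gb N14170
def N19403 : Q := sm ga N14173
def N19404 : Q := sm gb N14178
def N19405 : Q := sm gd N14178
def N19406 : Q := sm ge N14179
def N19407 : Q := sm ga N14185
def N19408 : Q := sm gd N14185
def N19409 : Q := sm gf N14185
def N19410 : Q := sm gg N14185
def N19411 : Q := sm ge N14186
def N19412 : Q := sm ga N14191
def N19413 : Q := sm gg N14191
def N19414 : Q := sm gb N14193
def N19415 : Q := sm gd N14193
def N19416 : Q := sm ge N14193
def N19417 : Q := sm gf N14193
def N19418 : Q := sm gg N14193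
def N19419 : Q := sm ge N14194
def N19420 : Q := sm gf N14194
def N19421 : Q := sm gf N14195
def N19422 : Q := sm gg N14195
def N19423 : Q := sm gg N14196
def N19424 : Q := sm ge N14226
def N19425 : Q := sm gg N14226
def N19426 : Q := sm gg N14228
def N19427 : Q := sm gb N14230
def N19428 : Q := sm gf N14230
def N19429 : Q := sm gb N14233
def N19430 : Q := sm ga N14235
def N19431 : Q := sm gc N14235
def N19432 : Q := sm gf N14235
def N19433 : Q := sm gb N14238
def N19434 : Q := sm gb N14239
def N19435 : Q := sm ga N14240
def N19436 : Q := sm ga N14242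
def N19437 : Q := sm gc N14242
def N19438 : Q := sm gf N14242
def N19439 : Q := sm gb N14243
def N19440 : Q := sm gc N14243
def N19441 : Q := sm gd N14244
def N19442 : Q := sm ga N14247
def N19443 : Q := sm gc N14247
def N19444 : Q := sm gf N14247
def N19445 : Q := sm gb N14252
def N19446 : Q := sm gd N14252
def N19447 : Q := sm gb N14253
def N19448 : Q := sm gc N14254
def N19449 : Q := sm ge N14254
def N19450 : Q := sm gf N14254
def N19451 : Q := sm gb N14255
def N19452 : Q := sm gb N14256
def N19453 : Q := sm ge N14259
def N19454 : Q := sm ga N14261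
def N19455 : Q := sm gd N14261
def N19456 : Q := sm gf N14261
def N19457 : Q := sm gg N14261
def N19458 : Q := sm ge N14262
def N19459 : Q := sm gb N14264
def N19460 : Q := sm ge N14264
def N19461 : Q := sm gf N14265
def N19462 : Q := sm gb N14266
def N19463 : Q := sm ga N14267
def N19464 : Q := sm gg N14267
def N19465 : Q := sm ga N14268
def N19466 : Q := sm gc N14268
def N19467 : Q := sm ge N14268
def N19468 : Q := sm gf N14268
def N19469 : Q := sm gg N14268
def N19470 : Q := sm gd N14269
def N19471 : Q := sm gf N14269
def N19472 : Q := sm gg N14269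
def N19473 : Q := sm gb N14270
def N19474 : Q := sm gb N14271
def N19475 : Q := sm gc N14272
def N19476 : Q := sm gg N14272
def N19477 : Q := sm gg N14273
def N19478 : Q := sm gf N14274
def N19479 : Q := sm gb N14276
def N19480 : Q := sm ge N14277
def N19481 : Q := sm gf N14277
def N19482 : Q := sm gf N14279
def N19483 : Q := sm gb N14280
def N19484 : Q := sm gg N14280
def N19485 : Q := sm gb N14283
def N19486 : Q := sm ga N14285
def N19487 : Q := sm gc N14285
def N19488 : Q := sm gg N14285
def N19489 : Q := sm gb N14292
def N19490 : Q := sm gb N14293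
def N19491 : Q := sm ga N14297
def N19492 : Q := sm gc N14297
def N19493 : Q := sm gg N14297
def N19494 : Q := sm gc N14298
def N19495 : Q := sm gg N14298
def N19496 : Q := sm gb N14303
def N19497 : Q := sm gd N14303
def N19498 : Q := sm gc N14305
def N19499 : Q := sm ge N14305
def N19500 : Q := sm gg N14305
def N19501 : Q := sm gb N14306
def N19502 : Q := sm gb N14307
def N19503 : Q := sm ge N14310
def N19504 : Q := sm ga N14312
def N19505 : Q := sm gf N14312
def N19506 : Q := sm gg N14314
def N19507 : Q := sm gb N14315
def N19508 : Q := sm gf N14316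
def N19509 : Q := sm ge N14317
def N19510 : Q := sm gf N14317
def N19511 : Q := sm gg N14317
def N19512 : Q := sm gd N14318
def N19513 : Q := sm gf N14318
def N19514 : Q := sm gg N14318
def N19515 : Q := sm gb N14319
def N19516 : Q := sm gb N14320
def N19517 : Q := sm gc N14321
def N19518 : Q := sm gf N14321
def N19519 : Q := sm gg N14322
def N19520 : Q := sm gf N14323
def N19521 : Q := sm gb N14328
def N19522 : Q := sm gb N14329
def N19523 : Q := sm gb N14330
def N19524 : Q := sm gb N14331
def N19525 : Q := sm gf N14336
def N19526 : Q := sm gg N14336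
def N19527 : Q := sm gg N14337
def N19528 : Q := sm gf N14338
def N19529 : Q := sm gb N14339
def N19530 : Q := sm gb N14340
def N19531 : Q := sm ga N14341
def N19532 : Q := sm gc N14341
def N19533 : Q := sm gf N14341
def N19534 : Q := sm ga N14342
def N19535 : Q := sm gc N14342
def N19536 : Q := sm gg N14342
def N19537 : Q := sm gb N14343
def N19538 : Q := sm gb N14344
def N19539 : Q := sm gc N14345
def N19540 : Q := sm gg N14345
def N19541 : Q := sm gc N14346
def N19542 : Q := sm gf N14346
def N19543 : Q := sm ga N14347
def N19544 : Q := sm gg N14347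
def N19545 : Q := sm gb N14348
def N19546 : Q := sm ga N14349
def N19547 : Q := sm gf N14349
def N19548 : Q := sm gb N14350
def N19549 : Q := sm gb N14352
def N19550 : Q := sm ga N14353
def N19551 : Q := sm gc N14353
def N19552 : Q := sm gf N14353
def N19553 : Q := sm gb N14355
def N19554 : Q := sm ga N14356
def N19555 : Q := sm gc N14356
def N19556 : Q := sm gg N14356
def N19557 : Q := sm gg N14357
def N19558 : Q := sm gf N14358
def N19559 : Q := sm gb N14359
def N19560 : Q := sm gg N14359
def N19561 : Q := sm gd N14360
def N19562 : Q := sm gg N14360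
def N19563 : Q := sm gf N14361
def N19564 : Q := sm gb N14362
def N19565 : Q := sm gf N14362
def N19566 : Q := sm gd N14363
def N19567 : Q := sm gf N14363
def N19568 : Q := sm gg N14364
def N19569 : Q := sm gf N14365
def N19570 : Q := sm gg N14365
def N19571 : Q := sm gb N14366
def N19572 : Q := sm gb N14367
def N19573 : Q := sm gf N14368
def N19574 : Q := sm gg N14368
def N19575 : Q := sm gb N14369
def N19576 : Q := sm gb N14370
def N19577 : Q := sm gc N14373
def N19578 : Q := sm gc N14374
def N19579 : Q := sm gd N14375
def N19580 : Q := sm gf N14376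
def N19581 : Q := sm gg N14376
def N19582 : Q := sm gg N14382
def N19583 : Q := sm gf N14385
def N19584 : Q := sm gf N14387
def N19585 : Q := sm gg N14387
def N19586 : Q := sm gf N14388
def N19587 : Q := sm gg N14388
def N19588 : Q := sm gg N14389
def N19589 : Q := sm gf N14390
def N19590 : Q := sm gg N14391
def N19591 : Q := sm gf N14392
def N19592 : Q := sm gb N14394
def N19593 : Q := sm gb N14396
def N19594 : Q := sm gg N14397
def N19595 : Q := sm gb N14398
def N19596 : Q := sm gf N14399
def N19597 : Q := sm gb N14400
def N19598 : Q := sm gb N14403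
def N19599 : Q := sm ga N14404
def N19600 : Q := sm gc N14404
def N19601 : Q := sm gf N14404
def N19602 : Q := sm gb N14407
def N19603 : Q := sm ga N14408
def N19604 : Q := sm gc N14408
def N19605 : Q := sm gg N14408
def N19606 : Q := sm ga N14410
def N19607 : Q := sm gc N14410
def N19608 : Q := sm gf N14410
def N19609 : Q := sm gb N14411
def N19610 : Q := sm gc N14411
def N19611 : Q := sm gf N14411
def N19612 : Q := sm gd N14412
def N19613 : Q := sm gf N14412
def N19614 : Q := sm gg N14413
def N19615 : Q := sm ga N14415
def N19616 : Q := sm gc N14415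
def N19617 : Q := sm gg N14415
def N19618 : Q := sm gb N14416
def N19619 : Q := sm gc N14416
def N19620 : Q := sm gg N14416
def N19621 : Q := sm gd N14417
def N19622 : Q := sm gg N14417
def N19623 : Q := sm gf N14418
def N19624 : Q := sm gb N14419
def N19625 : Q := sm gc N14419
def N19626 : Q := sm gg N14419
def N19627 : Q := sm gg N14420
def N19628 : Q := sm gf N14421
def N19629 : Q := sm gb N14422
def N19630 : Q := sm gc N14422
def N19631 : Q := sm gf N14422
def N19632 : Q := sm gf N14423
def N19633 : Q := sm gg N14424
def N19634 : Q := sm gg N14426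
def N19635 : Q := sm gb N14427
def N19636 : Q := sm gb N14429
def N19637 : Q := sm gf N14429
def N19638 : Q := sm gb N14430
def N19639 : Q := sm gf N14432
def N19640 : Q := sm gb N14433
def N19641 : Q := sm gb N14435
def N19642 : Q := sm gg N14435
def N19643 : Q := sm gb N14436
def N19644 : Q := sm gg N14439
def N19645 : Q := sm gb N14440
def N19646 : Q := sm gf N14440
def N19647 : Q := sm ga N14441
def N19648 : Q := sm gc N14441
def N19649 : Q := sm gf N14441
def N19650 : Q := sm ga N14442
def N19651 : Q := sm gc N14442
def N19652 : Q := sm gg N14442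
def N19653 : Q := sm gb N14445
def N19654 : Q := sm gg N14445
def N19655 : Q := sm gf N14446
def N19656 : Q := sm ga N14447
def N19657 : Q := sm gc N14447
def N19658 : Q := sm gg N14447
def N19659 : Q := sm ga N14448
def N19660 : Q := sm gc N14448
def N19661 : Q := sm gf N14448
def N19662 : Q := sm gd N14450
def N19663 : Q := sm gd N14453
def N19664 : Q := sm gg N14455
def N19665 : Q := sm gb N14456
def N19666 : Q := sm gd N14456
def N19667 : Q := sm gc N14457
def N19668 : Q := sm ge N14457
def N19669 : Q := sm gg N14457
def N19670 : Q := sm gb N14458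
def N19671 : Q := sm ga N14459
def N19672 : Q := sm gc N14459
def N19673 : Q := sm gf N14459
def N19674 : Q := sm gb N14460
def N19675 : Q := sm gc N14460
def N19676 : Q := sm gf N14460
def N19677 : Q := sm gd N14461
def N19678 : Q := sm gf N14461
def N19679 : Q := sm gg N14462
def N19680 : Q := sm gf N14463
def N19681 : Q := sm gb N14464
def N19682 : Q := sm gd N14464
def N19683 : Q := sm gc N14465
def N19684 : Q := sm ge N14465
def N19685 : Q := sm gf N14465
def N19686 : Q := sm gb N14466
def N19687 : Q := sm ga N14467
def N19688 : Q := sm gc N14467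
def N19689 : Q := sm gg N14467
def N19690 : Q := sm gb N14468
def N19691 : Q := sm gc N14468
def N19692 : Q := sm gg N14468
def N19693 : Q := sm gd N14469
def N19694 : Q := sm gg N14469
def N19695 : Q := sm gf N14470
def N19696 : Q := sm gb N14471
def N19697 : Q := sm gb N14475
def N19698 : Q := sm ga N14477
def N19699 : Q := sm gg N14477
def N19700 : Q := sm gb N14478
def N19701 : Q := sm gc N14479
def N19702 : Q := sm ge N14479
def N19703 : Q := sm gg N14479
def N19704 : Q := sm ga N14481
def N19705 : Q := sm gc N14481
def N19706 : Q := sm gf N14481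
def N19707 : Q := sm gb N14482
def N19708 : Q := sm gb N14483
def N19709 : Q := sm gf N14483
def N19710 : Q := sm gd N14484
def N19711 : Q := sm ga N14486
def N19712 : Q := sm gf N14486
def N19713 : Q := sm gb N14488
def N19714 : Q := sm gc N14489
def N19715 : Q := sm ge N14489
def N19716 : Q := sm gf N14489
def N19717 : Q := sm ga N14491
def N19718 : Q := sm gc N14491
def N19719 : Q := sm gg N14491
def N19720 : Q := sm gb N14492
def N19721 : Q := sm gb N14493
def N19722 : Q := sm gg N14493
def N19723 : Q := sm gd N14494
def N19724 : Q := sm gf N14496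
def N19725 : Q := sm gg N14497
def N19726 : Q := sm gg N14498
def N19727 : Q := sm gb N14499
def N19728 : Q := sm gf N14499
def N19729 : Q := sm gd N14500
def N19730 : Q := sm gc N14501
def N19731 : Q := sm ge N14501
def N19732 : Q := sm gg N14501
def N19733 : Q := sm gb N14502
def N19734 : Q := sm ga N14503
def N19735 : Q := sm gc N14503
def N19736 : Q := sm gf N14503
def N19737 : Q := sm ge N14504
def N19738 : Q := sm gg N14504
def N19739 : Q := sm gg N14505
def N19740 : Q := sm gf N14506
def N19741 : Q := sm gb N14507
def N19742 : Q := sm gb N14508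
def N19743 : Q := sm gc N14508
def N19744 : Q := sm gd N14509
def N19745 : Q := sm gf N14509
def N19746 : Q := sm gb N14510
def N19747 : Q := sm ga N14511
def N19748 : Q := sm gc N14511
def N19749 : Q := sm gg N14511
def N19750 : Q := sm ga N14512
def N19751 : Q := sm gc N14512
def N19752 : Q := sm gf N14512
def N19753 : Q := sm gg N14512
def N19754 : Q := sm gb N14513
def N19755 : Q := sm gd N14513
def N19756 : Q := sm gf N14513
def N19757 : Q := sm gc N14515
def N19758 : Q := sm ge N14515
def N19759 : Q := sm gf N14515
def N19760 : Q := sm gg N14516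
def N19761 : Q := sm gb N14517
def N19762 : Q := sm gg N14518
def N19763 : Q := sm gf N14519
def N19764 : Q := sm gb N14520
def N19765 : Q := sm gg N14520
def N19766 : Q := sm gf N14521
def N19767 : Q := sm gd N14522
def N19768 : Q := sm gc N14523
def N19769 : Q := sm ge N14523
def N19770 : Q := sm gf N14523
def N19771 : Q := sm gb N14524
def N19772 : Q := sm ga N14525
def N19773 : Q := sm gc N14525
def N19774 : Q := sm gg N14525
def N19775 : Q := sm ge N14526
def N19776 : Q := sm gf N14526
def N19777 : Q := sm gf N14527
def N19778 : Q := sm gg N14528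
def N19779 : Q := sm gb N14529
def N19780 : Q := sm gb N14530
def N19781 : Q := sm gc N14530
def N19782 : Q := sm gd N14531
def N19783 : Q := sm gg N14531
def N19784 : Q := sm gb N14532
def N19785 : Q := sm ga N14533
def N19786 : Q := sm gc N14533
def N19787 : Q := sm gf N14533
def N19788 : Q := sm ga N14534
def N19789 : Q := sm gc N14534
def N19790 : Q := sm gf N14534
def N19791 : Q := sm gg N14534
def N19792 : Q := sm gb N14535
def N19793 : Q := sm gd N14535
def N19794 : Q := sm gg N14535
def N19795 : Q := sm gc N14537
def N19796 : Q := sm ge N14537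
def N19797 : Q := sm gg N14537
def N19798 : Q := sm gf N14538
def N19799 : Q := sm gb N14539
def N19800 : Q := sm ga N14540
def N19801 : Q := sm gd N14540
def N19802 : Q := sm gf N14540
def N19803 : Q := sm gg N14540
def N19804 : Q := sm ge N14541
def N19805 : Q := sm gb N14542
def N19806 : Q := sm ge N14542
def N19807 : Q := sm ga N14544
def N19808 : Q := sm gd N14544
def N19809 : Q := sm gf N14544
def N19810 : Q := sm gg N14544
def N19811 : Q := sm ge N14545
def N19812 : Q := sm gb N14546
def N19813 : Q := sm ge N14546
def N19814 : Q := sm gb N14548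
def N19815 : Q := sm ga N14550
def N19816 : Q := sm gd N14550
def N19817 : Q := sm gf N14550
def N19818 : Q := sm gg N14550
def N19819 : Q := sm ge N14551
def N19820 : Q := sm gb N14553
def N19821 : Q := sm ga N14555
def N19822 : Q := sm gd N14555
def N19823 : Q := sm gf N14555
def N19824 : Q := sm gg N14555
def N19825 : Q := sm ge N14556
def N19826 : Q := sm gb N14573
def N19827 : Q := sm gb N14576
def N19828 : Q := sm ga N14584
def N19829 : Q := sm gc N14584
def N19830 : Q := sm gf N14584
def N19831 : Q := sm gb N14585
def N19832 : Q := sm gc N14585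
def N19833 : Q := sm gf N14585
def N19834 : Q := sm gd N14586
def N19835 : Q := sm gf N14586
def N19836 : Q := sm gg N14587
def N19837 : Q := sm ga N14592
def N19838 : Q := sm gc N14592
def N19839 : Q := sm gg N14592
def N19840 : Q := sm gg N14593
def N19841 : Q := sm gd N14594
def N19842 : Q := sm gg N14594
def N19843 : Q := sm gf N14595
def N19844 : Q := sm gg N14600
def N19845 : Q := sm ge N14601
def N19846 : Q := sm gg N14603
def N19847 : Q := sm gb N14604
def N19848 : Q := sm ga N14605
def N19849 : Q := sm gc N14605
def N19850 : Q := sm gf N14605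
def N19851 : Q := sm gb N14606
def N19852 : Q := sm gc N14606
def N19853 : Q := sm gd N14607
def N19854 : Q := sm gf N14607
def N19855 : Q := sm ga N14609
def N19856 : Q := sm gc N14609
def N19857 : Q := sm gg N14609
def N19858 : Q := sm gb N14610
def N19859 : Q := sm gd N14610
def N19860 : Q := sm gf N14610
def N19861 : Q := sm gc N14612
def N19862 : Q := sm ge N14612
def N19863 : Q := sm gf N14612
def N19864 : Q := sm gg N14613
def N19865 : Q := sm gb N14614
def N19866 : Q := sm gf N14619
def N19867 : Q := sm ge N14620
def N19868 : Q := sm gf N14622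
def N19869 : Q := sm gb N14623
def N19870 : Q := sm ga N14624
def N19871 : Q := sm gc N14624
def N19872 : Q := sm gg N14624
def N19873 : Q := sm gb N14625
def N19874 : Q := sm gc N14625
def N19875 : Q := sm gd N14626
def N19876 : Q := sm gg N14626
def N19877 : Q := sm ga N14628
def N19878 : Q := sm gc N14628
def N19879 : Q := sm gf N14628
def N19880 : Q := sm gb N14629
def N19881 : Q := sm gd N14629
def N19882 : Q := sm gg N14629
def N19883 : Q := sm gc N14631
def N19884 : Q := sm ge N14631
def N19885 : Q := sm gg N14631
def N19886 : Q := sm gf N14632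
def N19887 : Q := sm gb N14633
def N19888 : Q := sm gb N14654
def N19889 : Q := sm ga N14657
def N19890 : Q := sm gc N14657
def N19891 : Q := sm gf N14657
def N19892 : Q := sm gb N14659
def N19893 : Q := sm gc N14659
def N19894 : Q := sm gf N14659
def N19895 : Q := sm gd N14660
def N19896 : Q := sm gf N14660
def N19897 : Q := sm gb N14664
def N19898 : Q := sm ga N14667
def N19899 : Q := sm gc N14667
def N19900 : Q := sm gg N14667
def N19901 : Q := sm gb N14669
def N19902 : Q := sm gc N14669
def N19903 : Q := sm gg N14669
def N19904 : Q := sm gd N14670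
def N19905 : Q := sm gg N14670
def N19906 : Q := sm ga N14679
def N19907 : Q := sm gf N14679
def N19908 : Q := sm gg N14681
def N19909 : Q := sm gb N14682
def N19910 : Q := sm gc N14683
def N19911 : Q := sm gf N14683
def N19912 : Q := sm gb N14685
def N19913 : Q := sm gc N14685
def N19914 : Q := sm gd N14686
def N19915 : Q := sm gf N14686
def N19916 : Q := sm gb N14687
def N19917 : Q := sm ga N14688
def N19918 : Q := sm gc N14689
def N19919 : Q := sm gb N14690
def N19920 : Q := sm gd N14690
def N19921 : Q := sm gf N14690
def N19922 : Q := sm gc N14692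
def N19923 : Q := sm ge N14692
def N19924 : Q := sm gf N14692
def N19925 : Q := sm gb N14693
def N19926 : Q := sm ga N14702
def N19927 : Q := sm gg N14702
def N19928 : Q := sm gf N14704
def N19929 : Q := sm gb N14705
def N19930 : Q := sm gc N14706
def N19931 : Q := sm gg N14706
def N19932 : Q := sm gb N14708
def N19933 : Q := sm gc N14708
def N19934 : Q := sm gd N14709
def N19935 : Q := sm gg N14709
def N19936 : Q := sm gb N14710
def N19937 : Q := sm ga N14711
def N19938 : Q := sm gc N14712
def N19939 : Q := sm gb N14713
def N19940 : Q := sm gd N14713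
def N19941 : Q := sm gg N14713
def N19942 : Q := sm gc N14715
def N19943 : Q := sm ge N14715
def N19944 : Q := sm gg N14715
def N19945 : Q := sm gb N14716
def N19946 : Q := sm gb N14724
def N19947 : Q := sm gf N14726
def N19948 : Q := sm gb N14727
def N19949 : Q := sm ge N14732
def N19950 : Q := sm gg N14733
def N19951 : Q := sm ga N14735
def N19952 : Q := sm gc N14735
def N19953 : Q := sm gf N14735
def N19954 : Q := sm gf N14736
def N19955 : Q := sm gd N14737
def N19956 : Q := sm gf N14737
def N19957 : Q := sm gd N14741
def N19958 : Q := sm gg N14741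
def N19959 : Q := sm gb N14742
def N19960 : Q := sm gf N14743
def N19961 : Q := sm gb N14744
def N19962 : Q := sm ga N14745
def N19963 : Q := sm gc N14745
def N19964 : Q := sm gg N14745
def N19965 : Q := sm ga N14746
def N19966 : Q := sm gc N14746
def N19967 : Q := sm gf N14746
def N19968 : Q := sm gg N14746
def N19969 : Q := sm gb N14747
def N19970 : Q := sm gd N14747
def N19971 : Q := sm gc N14748
def N19972 : Q := sm ge N14748
def N19973 : Q := sm gf N14748
def N19974 : Q := sm gb N14749
def N19975 : Q := sm ga N14750
def N19976 : Q := sm gc N14751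
def N19977 : Q := sm gg N14751
def N19978 : Q := sm gg N14752
def N19979 : Q := sm gf N14753
def N19980 : Q := sm gb N14755
def N19981 : Q := sm gd N14755
def N19982 : Q := sm gf N14755
def N19983 : Q := sm gg N14755
def N19984 : Q := sm ga N14758
def N19985 : Q := sm gd N14758
def N19986 : Q := sm gf N14758
def N19987 : Q := sm gg N14758
def N19988 : Q := sm gc N14759
def N19989 : Q := sm ge N14759
def N19990 : Q := sm gf N14759
def N19991 : Q := sm gb N14760
def N19992 : Q := sm gb N14762
def N19993 : Q := sm gd N14762
def N19994 : Q := sm ge N14762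
def N19995 : Q := sm gf N14762
def N19996 : Q := sm gf N14763
def N19997 : Q := sm gg N14764
def N19998 : Q := sm gb N14765
def N19999 : Q := sm ga N14766
def N20000 : Q := sm gc N14766
def N20001 : Q := sm gf N14766
def N20002 : Q := sm gb N14772
def N20003 : Q := sm gg N14774
def N20004 : Q := sm ge N14781
def N20005 : Q := sm gf N14782
def N20006 : Q := sm ga N14784
def N20007 : Q := sm gc N14784
def N20008 : Q := sm gg N14784
def N20009 : Q := sm gd N14786
def N20010 : Q := sm gg N14786
def N20011 : Q := sm gd N14790
def N20012 : Q := sm gf N14790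
def N20013 : Q := sm gb N14791
def N20014 : Q := sm gg N14792
def N20015 : Q := sm gb N14793
def N20016 : Q := sm ga N14794
def N20017 : Q := sm gc N14794
def N20018 : Q := sm gf N14794
def N20019 : Q := sm ga N14795
def N20020 : Q := sm gc N14795
def N20021 : Q := sm gf N14795
def N20022 : Q := sm gg N14795
def N20023 : Q := sm gb N14796
def N20024 : Q := sm gd N14796
def N20025 : Q := sm gc N14797
def N20026 : Q := sm ge N14797
def N20027 : Q := sm gg N14797
def N20028 : Q := sm gb N14798
def N20029 : Q := sm ga N14799
def N20030 : Q := sm gc N14800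
def N20031 : Q := sm gf N14800
def N20032 : Q := sm gf N14801
def N20033 : Q := sm gg N14802
def N20034 : Q := sm gb N14804
def N20035 : Q := sm gd N14804
def N20036 : Q := sm gf N14804
def N20037 : Q := sm gg N14804
def N20038 : Q := sm ga N14807
def N20039 : Q := sm gd N14807
def N20040 : Q := sm gf N14807
def N20041 : Q := sm gg N14807
def N20042 : Q := sm gc N14808
def N20043 : Q := sm ge N14808
def N20044 : Q := sm gg N14808
def N20045 : Q := sm gb N14809
def N20046 : Q := sm gb N14811
def N20047 : Q := sm gd N14811
def N20048 : Q := sm ge N14811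
def N20049 : Q := sm gg N14811
def N20050 : Q := sm gg N14812
def N20051 : Q := sm gf N14813
def N20052 : Q := sm gb N14814
def N20053 : Q := sm ga N14815
def N20054 : Q := sm gc N14815
def N20055 : Q := sm gg N14815
def N20056 : Q := sm gb N14821
def N20057 : Q := sm gd N14821
def N20058 : Q := sm gf N14821
def N20059 : Q := sm gg N14821
def N20060 : Q := sm ge N14822
def N20061 : Q := sm gg N14822
def N20062 : Q := sm gf N14824
def N20063 : Q := sm ga N14826
def N20064 : Q := sm ge N14826
def N20065 : Q := sm gf N14826
def N20066 : Q := sm gg N14826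
def N20067 : Q := sm gb N14833
def N20068 : Q := sm gg N14833
def N20069 : Q := sm ge N14834
def N20070 : Q := sm ga N14838
def N20071 : Q := sm ge N14838
def N20072 : Q := sm gf N14838
def N20073 : Q := sm gg N14838
def N20074 : Q := sm gc N14841
def N20075 : Q := sm ge N14841
def N20076 : Q := sm gg N14841
def N20077 : Q := sm gb N14844
def N20078 : Q := sm ge N14845
def N20079 : Q := sm gg N14845
def N20080 : Q := sm gf N14846
def N20081 : Q := sm gg N14846
def N20082 : Q := sm gg N14847
def N20083 : Q := sm gb N14860
def N20084 : Q := sm gd N14860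
def N20085 : Q := sm gf N14860
def N20086 : Q := sm gc N14861
def N20087 : Q := sm ge N14861
def N20088 : Q := sm gf N14861
def N20089 : Q := sm gg N14861
def N20090 : Q := sm gg N14863
def N20091 : Q := sm gc N14868
def N20092 : Q := sm ge N14868
def N20093 : Q := sm gf N14868
def N20094 : Q := sm gb N14870
def N20095 : Q := sm ge N14872
def N20096 : Q := sm gf N14872
def N20097 : Q := sm gf N14873
def N20098 : Q := sm gg N14873
def N20099 : Q := sm gf N14875
def N20100 : Q := sm gb N14887
def N20101 : Q := sm gd N14887
def N20102 : Q := sm gg N14887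
def N20103 : Q := sm gc N14888
def N20104 : Q := sm ge N14888
def N20105 : Q := sm gf N14888
def N20106 : Q := sm gg N14888
def N20107 : Q := sm gf N14891
def N20108 : Q := sm gc N14916
def N20109 : Q := sm gg N14916
def N20110 : Q := sm gc N14917
def N20111 : Q := sm gf N14917
def N20112 : Q := sm gc N14918
def N20113 : Q := sm gg N14918
def N20114 : Q := sm gb N14919
def N20115 : Q := sm gc N14920
def N20116 : Q := sm gf N14920
def N20117 : Q := sm gb N14921
def N20118 : Q := sm gb N14922
def N20119 : Q := sm gc N14923
def N20120 : Q := sm gb N14926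
def N20121 : Q := sm gc N14927
def N20122 : Q := sm gb N14928
def N20123 : Q := sm gf N14928
def N20124 : Q := sm gg N14928
def N20125 : Q := sm gb N14929
def N20126 : Q := sm gg N14929
def N20127 : Q := sm gb N14930
def N20128 : Q := sm gf N14930
def N20129 : Q := sm ga N14931
def N20130 : Q := sm gc N14931
def N20131 : Q := sm gg N14931
def N20132 : Q := sm ga N14932
def N20133 : Q := sm gc N14932
def N20134 : Q := sm gf N14932
def N20135 : Q := sm gb N14933
def N20136 : Q := sm gc N14933
def N20137 : Q := sm gg N14933
def N20138 : Q := sm gd N14934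
def N20139 : Q := sm gg N14934
def N20140 : Q := sm gf N14935
def N20141 : Q := sm gb N14936
def N20142 : Q := sm gc N14936
def N20143 : Q := sm gf N14936
def N20144 : Q := sm gd N14937
def N20145 : Q := sm gf N14937
def N20146 : Q := sm gg N14938
def N20147 : Q := sm gg N14939
def N20148 : Q := sm gc N14941
def N20149 : Q := sm gf N14943
def N20150 : Q := sm gc N14946
def N20151 : Q := sm gd N14949
def N20152 : Q := sm gg N14949
def N20153 : Q := sm gb N14950
def N20154 : Q := sm ga N14951
def N20155 : Q := sm gc N14951
def N20156 : Q := sm gd N14953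
def N20157 : Q := sm gf N14953
def N20158 : Q := sm gb N14954
def N20159 : Q := sm ga N14955
def N20160 : Q := sm gc N14955
def N20161 : Q := sm gc N14956
def N20162 : Q := sm gf N14956
def N20163 : Q := sm gg N14956
def N20164 : Q := sm gb N14957
def N20165 : Q := sm gd N14957
def N20166 : Q := sm gc N14958
def N20167 : Q := sm ge N14958
def N20168 : Q := sm gg N14958
def N20169 : Q := sm ga N14960
def N20170 : Q := sm gc N14960
def N20171 : Q := sm gf N14960
def N20172 : Q := sm gb N14961
def N20173 : Q := sm gc N14961
def N20174 : Q := sm gf N14961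
def N20175 : Q := sm gd N14962
def N20176 : Q := sm gf N14962
def N20177 : Q := sm gg N14963
def N20178 : Q := sm gc N14964
def N20179 : Q := sm gf N14964
def N20180 : Q := sm gg N14964
def N20181 : Q := sm gb N14965
def N20182 : Q := sm gd N14965
def N20183 : Q := sm gc N14966
def N20184 : Q := sm ge N14966
def N20185 : Q := sm gf N14966
def N20186 : Q := sm gb N14967
def N20187 : Q := sm ga N14968
def N20188 : Q := sm gc N14968
def N20189 : Q := sm gg N14968
def N20190 : Q := sm gb N14969
def N20191 : Q := sm gc N14969
def N20192 : Q := sm gg N14969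
def N20193 : Q := sm gd N14970
def N20194 : Q := sm gg N14970
def N20195 : Q := sm gf N14971
def N20196 : Q := sm gc N14972
def N20197 : Q := sm gb N14973
def N20198 : Q := sm gd N14973
def N20199 : Q := sm gf N14973
def N20200 : Q := sm gg N14973
def N20201 : Q := sm gg N14974
def N20202 : Q := sm gf N14975
def N20203 : Q := sm ga N14976
def N20204 : Q := sm gd N14976
def N20205 : Q := sm gf N14976
def N20206 : Q := sm gg N14976
def N20207 : Q := sm gc N14977
def N20208 : Q := sm ge N14977
def N20209 : Q := sm gb N14978
def N20210 : Q := sm gd N14978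
def N20211 : Q := sm ge N14978
def N20212 : Q := sm gg N14978
def N20213 : Q := sm gg N14979
def N20214 : Q := sm gb N14980
def N20215 : Q := sm ga N14981
def N20216 : Q := sm gc N14981
def N20217 : Q := sm gf N14981
def N20218 : Q := sm gb N14982
def N20219 : Q := sm gc N14982
def N20220 : Q := sm gd N14983
def N20221 : Q := sm gf N14983
def N20222 : Q := sm gc N14985
def N20223 : Q := sm gb N14986
def N20224 : Q := sm gd N14986
def N20225 : Q := sm gf N14986
def N20226 : Q := sm gc N14988
def N20227 : Q := sm ge N14988
def N20228 : Q := sm gf N14988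
def N20229 : Q := sm gg N14989
def N20230 : Q := sm gc N14991
def N20231 : Q := sm gb N14992
def N20232 : Q := sm gd N14992
def N20233 : Q := sm gf N14992
def N20234 : Q := sm gg N14992
def N20235 : Q := sm gg N14993
def N20236 : Q := sm gf N14994
def N20237 : Q := sm ga N14995
def N20238 : Q := sm gd N14995
def N20239 : Q := sm gf N14995
def N20240 : Q := sm gg N14995
def N20241 : Q := sm gc N14996
def N20242 : Q := sm ge N14996
def N20243 : Q := sm gb N14997
def N20244 : Q := sm gd N14997
def N20245 : Q := sm ge N14997
def N20246 : Q := sm gf N14997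
def N20247 : Q := sm gf N14998
def N20248 : Q := sm gb N14999
def N20249 : Q := sm ga N15000
def N20250 : Q := sm gc N15000
def N20251 : Q := sm gg N15000
def N20252 : Q := sm gb N15001
def N20253 : Q := sm gc N15001
def N20254 : Q := sm gd N15002
def N20255 : Q := sm gg N15002
def N20256 : Q := sm gc N15004
def N20257 : Q := sm gb N15005
def N20258 : Q := sm gd N15005
def N20259 : Q := sm gg N15005
def N20260 : Q := sm gc N15007
def N20261 : Q := sm ge N15007
def N20262 : Q := sm gg N15007
def N20263 : Q := sm gf N15008
def N20264 : Q := sm gg N15010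
def N20265 : Q := sm gb N15011
def N20266 : Q := sm gf N15011
def N20267 : Q := sm gg N15013
def N20268 : Q := sm gb N15014
def N20269 : Q := sm ga N15015
def N20270 : Q := sm gc N15015
def N20271 : Q := sm gf N15015
def N20272 : Q := sm gb N15016
def N20273 : Q := sm ge N15016
def N20274 : Q := sm gg N15016
def N20275 : Q := sm gg N15017
def N20276 : Q := sm gb N15018
def N20277 : Q := sm gf N15018
def N20278 : Q := sm ga N15019
def N20279 : Q := sm gf N15019
def N20280 : Q := sm gb N15020
def N20281 : Q := sm ga N15021
def N20282 : Q := sm gc N15021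
def N20283 : Q := sm gg N15021
def N20284 : Q := sm gb N15022
def N20285 : Q := sm gg N15022
def N20286 : Q := sm gf N15023
def N20287 : Q := sm gf N15025
def N20288 : Q := sm gb N15026
def N20289 : Q := sm ga N15027
def N20290 : Q := sm gc N15027
def N20291 : Q := sm gg N15027
def N20292 : Q := sm gb N15028
def N20293 : Q := sm ge N15028
def N20294 : Q := sm gf N15028
def N20295 : Q := sm gf N15029
def N20296 : Q := sm gb N15030
def N20297 : Q := sm gg N15030
def N20298 : Q := sm gg N15031
def N20299 : Q := sm gb N15032
def N20300 : Q := sm ga N15033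
def N20301 : Q := sm gc N15033
def N20302 : Q := sm gf N15033
def N20303 : Q := sm ge N15039
def N20304 : Q := sm gf N15039
def N20305 : Q := sm gg N15039
def N20306 : Q := sm gb N15041
def N20307 : Q := sm gb N15042
def N20308 : Q := sm ge N15042
def N20309 : Q := sm gg N15042
def N20310 : Q := sm gg N15043
def N20311 : Q := sm gb N15044
def N20312 : Q := sm ga N15045
def N20313 : Q := sm gc N15045
def N20314 : Q := sm gf N15045
def N20315 : Q := sm gb N15046
def N20316 : Q := sm ge N15049
def N20317 : Q := sm gg N15049
def N20318 : Q := sm gd N15050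
def N20319 : Q := sm gg N15050
def N20320 : Q := sm gb N15051
def N20321 : Q := sm gf N15051
def N20322 : Q := sm gb N15052
def N20323 : Q := sm gf N15052
def N20324 : Q := sm ga N15053
def N20325 : Q := sm gc N15053
def N20326 : Q := sm gf N15053
def N20327 : Q := sm gb N15054
def N20328 : Q := sm gb N15055
def N20329 : Q := sm gb N15056
def N20330 : Q := sm ga N15057
def N20331 : Q := sm gc N15057
def N20332 : Q := sm gg N15057
def N20333 : Q := sm gc N15058
def N20334 : Q := sm gd N15059
def N20335 : Q := sm gg N15059
def N20336 : Q := sm gf N15060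
def N20337 : Q := sm ge N15066
def N20338 : Q := sm gf N15066
def N20339 : Q := sm gg N15066
def N20340 : Q := sm gb N15067
def N20341 : Q := sm gb N15069
def N20342 : Q := sm ge N15069
def N20343 : Q := sm gf N15069
def N20344 : Q := sm gf N15070
def N20345 : Q := sm gb N15071
def N20346 : Q := sm ga N15072
def N20347 : Q := sm gc N15072
def N20348 : Q := sm gg N15072
def N20349 : Q := sm gb N15073
def N20350 : Q := sm ge N15076
def N20351 : Q := sm gf N15076
def N20352 : Q := sm gd N15077
def N20353 : Q := sm gf N15077
def N20354 : Q := sm gb N15078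
def N20355 : Q := sm gg N15078
def N20356 : Q := sm gb N15079
def N20357 : Q := sm gg N15079
def N20358 : Q := sm ga N15080
def N20359 : Q := sm gc N15080
def N20360 : Q := sm gg N15080
def N20361 : Q := sm gb N15081
def N20362 : Q := sm gb N15082
def N20363 : Q := sm gb N15083
def N20364 : Q := sm ga N15084
def N20365 : Q := sm gc N15084
def N20366 : Q := sm gf N15084
def N20367 : Q := sm gc N15085
def N20368 : Q := sm gd N15086
def N20369 : Q := sm gf N15086
def N20370 : Q := sm gg N15087
def N20371 : Q := sm gd N15088
def N20372 : Q := sm gg N15088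
def N20373 : Q := sm gc N15089
def N20374 : Q := sm ge N15089
def N20375 : Q := sm gf N15089
def N20376 : Q := sm gg N15089
def N20377 : Q := sm gb N15090
def N20378 : Q := sm gb N15091
def N20379 : Q := sm gd N15092
def N20380 : Q := sm ge N15092
def N20381 : Q := sm gf N15092
def N20382 : Q := sm gg N15092
def N20383 : Q := sm gf N15093
def N20384 : Q := sm gg N15093
def N20385 : Q := sm gg N15094
def N20386 : Q := sm gf N15095
def N20387 : Q := sm gb N15096
def N20388 : Q := sm ga N15097
def N20389 : Q := sm gf N15097
def N20390 : Q := sm gb N15098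
def N20391 : Q := sm gb N15099
def N20392 : Q := sm gf N15099
def N20393 : Q := sm gg N15100
def N20394 : Q := sm ga N15101
def N20395 : Q := sm gc N15101
def N20396 : Q := sm gf N15101
def N20397 : Q := sm gb N15102
def N20398 : Q := sm gc N15102
def N20399 : Q := sm gf N15102
def N20400 : Q := sm gd N15103
def N20401 : Q := sm gf N15103
def N20402 : Q := sm gg N15104
def N20403 : Q := sm gf N15105
def N20404 : Q := sm gg N15105
def N20405 : Q := sm gb N15107
def N20406 : Q := sm gd N15108
def N20407 : Q := sm gf N15108
def N20408 : Q := sm gc N15109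
def N20409 : Q := sm ge N15109
def N20410 : Q := sm gf N15109
def N20411 : Q := sm gg N15109
def N20412 : Q := sm gb N15110
def N20413 : Q := sm gb N15111
def N20414 : Q := sm gd N15112
def N20415 : Q := sm ge N15112
def N20416 : Q := sm gf N15112
def N20417 : Q := sm gg N15112
def N20418 : Q := sm gf N15113
def N20419 : Q := sm gg N15113
def N20420 : Q := sm gg N15114
def N20421 : Q := sm gf N15115
def N20422 : Q := sm ga N15116
def N20423 : Q := sm gg N15116
def N20424 : Q := sm gb N15117
def N20425 : Q := sm gb N15118
def N20426 : Q := sm gb N15119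
def N20427 : Q := sm gg N15119
def N20428 : Q := sm gf N15120
def N20429 : Q := sm ga N15121
def N20430 : Q := sm gc N15121
def N20431 : Q := sm gg N15121
def N20432 : Q := sm gb N15122
def N20433 : Q := sm gc N15122
def N20434 : Q := sm gg N15122
def N20435 : Q := sm gd N15123
def N20436 : Q := sm gg N15123
def N20437 : Q := sm gf N15124
def N20438 : Q := sm gf N15125
def N20439 : Q := sm gg N15125
def N20440 : Q := sm gb N15127
def N20441 : Q := sm gd N15128
def N20442 : Q := sm gg N15128
def N20443 : Q := sm gc N15129
def N20444 : Q := sm ge N15129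
def N20445 : Q := sm gf N15129
def N20446 : Q := sm gg N15129
def N20447 : Q := sm gb N15130
def N20448 : Q := sm gb N15131
def N20449 : Q := sm gd N15132
def N20450 : Q := sm ge N15132
def N20451 : Q := sm gf N15132
def N20452 : Q := sm gg N15132
def N20453 : Q := sm gf N15133
def N20454 : Q := sm gg N15133
def N20455 : Q := sm gg N15134
def N20456 : Q := sm gf N15135
def N20457 : Q := sm gb N15136
def N20458 : Q := sm gb N15137
def N20459 : Q := sm gd N15138
def N20460 : Q := sm gf N15138
def N20461 : Q := sm gc N15139
def N20462 : Q := sm ge N15139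
def N20463 : Q := sm gf N15139
def N20464 : Q := sm gg N15139
def N20465 : Q := sm gb N15140
def N20466 : Q := sm gb N15141
def N20467 : Q := sm gd N15142
def N20468 : Q := sm ge N15142
def N20469 : Q := sm gf N15142
def N20470 : Q := sm gg N15142
def N20471 : Q := sm gf N15143
def N20472 : Q := sm gg N15143
def N20473 : Q := sm gg N15144
def N20474 : Q := sm gf N15145
def N20475 : Q := sm gb N15146
def N20476 : Q := sm gb N15147
def N20477 : Q := sm gd N15148
def N20478 : Q := sm gg N15148
def N20479 : Q := sm gd N15150
def N20480 : Q := sm gf N15150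
def N20481 : Q := sm gc N15154
def N20482 : Q := sm gf N15154
def N20483 : Q := sm gc N15158
def N20484 : Q := sm gg N15158
def N20485 : Q := sm gc N15159
def N20486 : Q := sm gd N15160
def N20487 : Q := sm gc N15164
def N20488 : Q := sm gd N15165
def N20489 : Q := sm gd N15178
def N20490 : Q := sm gg N15178
def N20491 : Q := sm ge N15179
def N20492 : Q := sm gg N15179
def N20493 : Q := sm gg N15180
def N20494 : Q := sm gb N15181
def N20495 : Q := sm gf N15181
def N20496 : Q := sm gd N15184
def N20497 : Q := sm gg N15184
def N20498 : Q := sm gc N15185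
def N20499 : Q := sm ge N15185
def N20500 : Q := sm gg N15185
def N20501 : Q := sm gg N15186
def N20502 : Q := sm gg N15190
def N20503 : Q := sm gb N15192
def N20504 : Q := sm ga N15193
def N20505 : Q := sm gc N15193
def N20506 : Q := sm gf N15193
def N20507 : Q := sm gb N15194
def N20508 : Q := sm gc N15194
def N20509 : Q := sm gf N15194
def N20510 : Q := sm gd N15195
def N20511 : Q := sm gf N15195
def N20512 : Q := sm gg N15196
def N20513 : Q := sm gc N15197
def N20514 : Q := sm gb N15198
def N20515 : Q := sm gd N15198
def N20516 : Q := sm gc N15199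
def N20517 : Q := sm ge N15199
def N20518 : Q := sm gf N15199
def N20519 : Q := sm gb N15200
def N20520 : Q := sm gb N15201
def N20521 : Q := sm gd N15201
def N20522 : Q := sm ga N15202
def N20523 : Q := sm gd N15202
def N20524 : Q := sm gf N15202
def N20525 : Q := sm gg N15202
def N20526 : Q := sm ge N15203
def N20527 : Q := sm gf N15203
def N20528 : Q := sm gb N15204
def N20529 : Q := sm gb N15205
def N20530 : Q := sm ge N15205
def N20531 : Q := sm gf N15205
def N20532 : Q := sm gf N15206
def N20533 : Q := sm gg N15207
def N20534 : Q := sm gb N15209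
def N20535 : Q := sm gd N15211
def N20536 : Q := sm gf N15211
def N20537 : Q := sm ge N15212
def N20538 : Q := sm gf N15212
def N20539 : Q := sm gb N15213
def N20540 : Q := sm gg N15213
def N20541 : Q := sm gf N15214
def N20542 : Q := sm gd N15217
def N20543 : Q := sm gf N15217
def N20544 : Q := sm gc N15218
def N20545 : Q := sm ge N15218
def N20546 : Q := sm gf N15218
def N20547 : Q := sm gf N15220
def N20548 : Q := sm gf N15223
def N20549 : Q := sm gb N15225
def N20550 : Q := sm ga N15226
def N20551 : Q := sm gc N15226
def N20552 : Q := sm gg N15226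
def N20553 : Q := sm gb N15227
def N20554 : Q := sm gc N15227
def N20555 : Q := sm gg N15227
def N20556 : Q := sm gd N15228
def N20557 : Q := sm gg N15228
def N20558 : Q := sm gf N15229
def N20559 : Q := sm gc N15230
def N20560 : Q := sm gb N15231
def N20561 : Q := sm gd N15231
def N20562 : Q := sm gc N15232
def N20563 : Q := sm ge N15232
def N20564 : Q := sm gg N15232
def N20565 : Q := sm gb N15233
def N20566 : Q := sm gb N15234
def N20567 : Q := sm gd N15234
def N20568 : Q := sm ga N15235
def N20569 : Q := sm gd N15235
def N20570 : Q := sm gf N15235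
def N20571 : Q := sm gg N15235
def N20572 : Q := sm ge N15236
def N20573 : Q := sm gg N15236
def N20574 : Q := sm gb N15237
def N20575 : Q := sm gb N15238
def N20576 : Q := sm ge N15238
def N20577 : Q := sm gg N15238
def N20578 : Q := sm gg N15239
def N20579 : Q := sm gf N15240
def N20580 : Q := sm gb N15241
def N20581 : Q := sm gb N15247
def N20582 : Q := sm gf N15248
def N20583 : Q := sm gb N15249
def N20584 : Q := sm ga N15250
def N20585 : Q := sm gc N15250
def N20586 : Q := sm gf N15250
def N20587 : Q := sm gb N15251
def N20588 : Q := sm gf N15251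
def N20589 : Q := sm gd N15252
def N20590 : Q := sm gc N15254
def N20591 : Q := sm gc N15257
def N20592 : Q := sm gb N15259
def N20593 : Q := sm gc N15263
def N20594 : Q := sm gg N15263
def N20595 : Q := sm gf N15264
def N20596 : Q := sm ga N15267
def N20597 : Q := sm gb N15268
def N20598 : Q := sm gb N15269
def N20599 : Q := sm ga N15272
def N20600 : Q := sm gg N15272
def N20601 : Q := sm ga N15273
def N20602 : Q := sm gf N15273
def N20603 : Q := sm ga N15274
def N20604 : Q := sm gc N15274
def N20605 : Q := sm gg N15274
def N20606 : Q := sm gb N15275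
def N20607 : Q := sm gc N15275
def N20608 : Q := sm gg N15275
def N20609 : Q := sm gd N15276
def N20610 : Q := sm gg N15276
def N20611 : Q := sm gf N15277
def N20612 : Q := sm gb N15278
def N20613 : Q := sm gd N15278
def N20614 : Q := sm gc N15279
def N20615 : Q := sm ge N15279
def N20616 : Q := sm gg N15279
def N20617 : Q := sm gb N15280
def N20618 : Q := sm gf N15280
def N20619 : Q := sm gb N15285
def N20620 : Q := sm gg N15287
def N20621 : Q := sm gb N15288
def N20622 : Q := sm ga N15289
def N20623 : Q := sm gc N15289
def N20624 : Q := sm gg N15289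
def N20625 : Q := sm gb N15290
def N20626 : Q := sm gg N15290
def N20627 : Q := sm gd N15291
def N20628 : Q := sm gc N15293
def N20629 : Q := sm gc N15295
def N20630 : Q := sm gb N15297
def N20631 : Q := sm gc N15301
def N20632 : Q := sm gf N15301
def N20633 : Q := sm gg N15302
def N20634 : Q := sm ga N15305
def N20635 : Q := sm gb N15306
def N20636 : Q := sm gb N15307
def N20637 : Q := sm ga N15310
def N20638 : Q := sm gf N15310
def N20639 : Q := sm ga N15311
def N20640 : Q := sm gg N15311
def N20641 : Q := sm ga N15312
def N20642 : Q := sm gc N15312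
def N20643 : Q := sm gf N15312
def N20644 : Q := sm gb N15313
def N20645 : Q := sm gc N15313
def N20646 : Q := sm gf N15313
def N20647 : Q := sm gd N15314
def N20648 : Q := sm gf N15314
def N20649 : Q := sm gg N15315
def N20650 : Q := sm gb N15316
def N20651 : Q := sm gd N15316
def N20652 : Q := sm gc N15317
def N20653 : Q := sm ge N15317
def N20654 : Q := sm gf N15317
def N20655 : Q := sm gb N15318
def N20656 : Q := sm gg N15318
def N20657 : Q := sm gb N15322
def N20658 : Q := sm ge N15323
def N20659 : Q := sm gg N15323
def N20660 : Q := sm gf N15324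
def N20661 : Q := sm gg N15324
def N20662 : Q := sm gb N15326
def N20663 : Q := sm gg N15327
def N20664 : Q := sm ga N15328
def N20665 : Q := sm gc N15328
def N20666 : Q := sm gf N15328
def N20667 : Q := sm gd N15329
def N20668 : Q := sm gg N15329
def N20669 : Q := sm gf N15331
def N20670 : Q := sm gg N15332
def N20671 : Q := sm gb N15333
def N20672 : Q := sm gf N15333
def N20673 : Q := sm gb N15334
def N20674 : Q := sm ga N15335
def N20675 : Q := sm gf N15335
def N20676 : Q := sm gb N15336
def N20677 : Q := sm ga N15337
def N20678 : Q := sm gc N15337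
def N20679 : Q := sm gf N15337
def N20680 : Q := sm gb N15338
def N20681 : Q := sm ga N15340
def N20682 : Q := sm gg N15340
def N20683 : Q := sm ga N15341
def N20684 : Q := sm gb N15342
def N20685 : Q := sm gf N15345
def N20686 : Q := sm gg N15345
def N20687 : Q := sm gb N15347
def N20688 : Q := sm gc N15348
def N20689 : Q := sm gg N15348
def N20690 : Q := sm ga N15356
def N20691 : Q := sm gf N15356
def N20692 : Q := sm ga N15359
def N20693 : Q := sm gc N15359
def N20694 : Q := sm gf N15359
def N20695 : Q := sm gc N15360
def N20696 : Q := sm gf N15360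
def N20697 : Q := sm gg N15362
def N20698 : Q := sm gb N15363
def N20699 : Q := sm gc N15363
def N20700 : Q := sm gd N15364
def N20701 : Q := sm gg N15365
def N20702 : Q := sm gc N15366
def N20703 : Q := sm gg N15366
def N20704 : Q := sm gb N15367
def N20705 : Q := sm gb N15371
def N20706 : Q := sm gg N15374
def N20707 : Q := sm gf N15375
def N20708 : Q := sm ga N15377
def N20709 : Q := sm gc N15377
def N20710 : Q := sm gf N15377
def N20711 : Q := sm gb N15379
def N20712 : Q := sm ge N15381
def N20713 : Q := sm gf N15381
def N20714 : Q := sm gf N15382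
def N20715 : Q := sm gg N15382
def N20716 : Q := sm gb N15383
def N20717 : Q := sm ga N15385
def N20718 : Q := sm gc N15385
def N20719 : Q := sm gg N15385
def N20720 : Q := sm gf N15386
def N20721 : Q := sm gd N15387
def N20722 : Q := sm gf N15387
def N20723 : Q := sm gg N15388
def N20724 : Q := sm gb N15390
def N20725 : Q := sm gg N15390
def N20726 : Q := sm gf N15391
def N20727 : Q := sm ga N15392
def N20728 : Q := sm gg N15392
def N20729 : Q := sm gb N15393
def N20730 : Q := sm gb N15394
def N20731 : Q := sm gb N15395
def N20732 : Q := sm ga N15397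
def N20733 : Q := sm gf N15397
def N20734 : Q := sm ga N15398
def N20735 : Q := sm gc N15398
def N20736 : Q := sm gg N15398
def N20737 : Q := sm ga N15399
def N20738 : Q := sm gb N15400
def N20739 : Q := sm gf N15403
def N20740 : Q := sm gg N15403
def N20741 : Q := sm gb N15405
def N20742 : Q := sm gc N15406
def N20743 : Q := sm gf N15406
def N20744 : Q := sm ga N15413
def N20745 : Q := sm gg N15413
def N20746 : Q := sm ga N15417
def N20747 : Q := sm gc N15417
def N20748 : Q := sm gg N15417
def N20749 : Q := sm gc N15418
def N20750 : Q := sm gg N15418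
def N20751 : Q := sm gf N15420
def N20752 : Q := sm gb N15421
def N20753 : Q := sm gd N15422
def N20754 : Q := sm gc N15424
def N20755 : Q := sm gf N15424
def N20756 : Q := sm gg N15432
def N20757 : Q := sm gf N15433
def N20758 : Q := sm ga N15435
def N20759 : Q := sm gc N15435
def N20760 : Q := sm gg N15435
def N20761 : Q := sm gc N15437
def N20762 : Q := sm gg N15437
def N20763 : Q := sm ga N15456
def N20764 : Q := sm gf N15456
def N20765 : Q := sm gf N15458
def N20766 : Q := sm gg N15460
def N20767 : Q := sm gg N15464
def N20768 : Q := sm gg N15466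
def N20769 : Q := sm gd N15468
def N20770 : Q := sm gg N15468
def N20771 : Q := sm gg N15471
def N20772 : Q := sm gc N15476
def N20773 : Q := sm gf N15476
def N20774 : Q := sm gg N15476
def N20775 : Q := sm gg N15477
def N20776 : Q := sm gb N15478
def N20777 : Q := sm gb N15479
def N20778 : Q := sm gg N15482
def N20779 : Q := sm gg N15483
def N20780 : Q := sm gb N15484
def N20781 : Q := sm gf N15484
def N20782 : Q := sm ga N15486
def N20783 : Q := sm gc N15486
def N20784 : Q := sm gf N15486
def N20785 : Q := sm gb N15487
def N20786 : Q := sm gb N15489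
def N20787 : Q := sm gc N15489
def N20788 : Q := sm gd N15490
def N20789 : Q := sm gf N15490
def N20790 : Q := sm gc N15492
def N20791 : Q := sm gb N15493
def N20792 : Q := sm gc N15494
def N20793 : Q := sm gf N15494
def N20794 : Q := sm gg N15497
def N20795 : Q := sm ga N15499
def N20796 : Q := sm gc N15499
def N20797 : Q := sm gc N15500
def N20798 : Q := sm gf N15500
def N20799 : Q := sm gd N15501
def N20800 : Q := sm gf N15501
def N20801 : Q := sm gb N15504
def N20802 : Q := sm gd N15504
def N20803 : Q := sm gf N15504
def N20804 : Q := sm gc N15506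
def N20805 : Q := sm ge N15506
def N20806 : Q := sm gf N15506
def N20807 : Q := sm gg N15507
def N20808 : Q := sm ge N15510
def N20809 : Q := sm ga N15511
def N20810 : Q := sm gd N15511
def N20811 : Q := sm gf N15511
def N20812 : Q := sm gg N15511
def N20813 : Q := sm ge N15512
def N20814 : Q := sm gb N15513
def N20815 : Q := sm ge N15513
def N20816 : Q := sm gc N15516
def N20817 : Q := sm gf N15516
def N20818 : Q := sm ga N15534
def N20819 : Q := sm gg N15534
def N20820 : Q := sm gg N15537
def N20821 : Q := sm gf N15539
def N20822 : Q := sm gf N15543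
def N20823 : Q := sm gf N15546
def N20824 : Q := sm gd N15547
def N20825 : Q := sm gf N15547
def N20826 : Q := sm gf N15550
def N20827 : Q := sm gc N15555
def N20828 : Q := sm gf N15555
def N20829 : Q := sm gg N15555
def N20830 : Q := sm gb N15556
def N20831 : Q := sm gf N15557
def N20832 : Q := sm gf N15561
def N20833 : Q := sm gb N15562
def N20834 : Q := sm gg N15562
def N20835 : Q := sm ga N15564
def N20836 : Q := sm gc N15564
def N20837 : Q := sm gg N15564
def N20838 : Q := sm gb N15567
def N20839 : Q := sm gc N15567
def N20840 : Q := sm gd N15568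
def N20841 : Q := sm gg N15568
def N20842 : Q := sm gb N15572
def N20843 : Q := sm gc N15573
def N20844 : Q := sm gg N15573
def N20845 : Q := sm gf N15576
def N20846 : Q := sm ga N15578
def N20847 : Q := sm gc N15578
def N20848 : Q := sm gc N15579
def N20849 : Q := sm gd N15580
def N20850 : Q := sm gg N15580
def N20851 : Q := sm gb N15583
def N20852 : Q := sm gd N15583
def N20853 : Q := sm gc N15585
def N20854 : Q := sm ge N15585
def N20855 : Q := sm gg N15585
def N20856 : Q := sm gf N15586
def N20857 : Q := sm ge N15589
def N20858 : Q := sm ga N15590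
def N20859 : Q := sm gf N15590
def N20860 : Q := sm gg N15590
def N20861 : Q := sm gd N15593
def N20862 : Q := sm gg N15593
def N20863 : Q := sm gb N15596
def N20864 : Q := sm ga N15601
def N20865 : Q := sm gc N15601
def N20866 : Q := sm gf N15601
def N20867 : Q := sm ga N15607
def N20868 : Q := sm gc N15607
def N20869 : Q := sm gf N15607
def N20870 : Q := sm gc N15612
def N20871 : Q := sm gg N15612
def N20872 : Q := sm gb N15615
def N20873 : Q := sm gb N15618
def N20874 : Q := sm gb N15620
def N20875 : Q := sm ga N15621
def N20876 : Q := sm gf N15621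
def N20877 : Q := sm gb N15631
def N20878 : Q := sm gg N15633
def N20879 : Q := sm ga N15639
def N20880 : Q := sm gb N15642
def N20881 : Q := sm gb N15646
def N20882 : Q := sm gg N15648
def N20883 : Q := sm ga N15649
def N20884 : Q := sm gc N15649
def N20885 : Q := sm gg N15649
def N20886 : Q := sm gb N15650
def N20887 : Q := sm ge N15651
def N20888 : Q := sm ga N15653
def N20889 : Q := sm gg N15653
def N20890 : Q := sm gb N15654
def N20891 : Q := sm gc N15654
def N20892 : Q := sm gd N15655
def N20893 : Q := sm ga N15660
def N20894 : Q := sm gc N15660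
def N20895 : Q := sm gf N15660
def N20896 : Q := sm gb N15661
def N20897 : Q := sm gc N15661
def N20898 : Q := sm gf N15661
def N20899 : Q := sm gf N15662
def N20900 : Q := sm gf N15665
def N20901 : Q := sm gb N15666
def N20902 : Q := sm ge N15667
def N20903 : Q := sm ga N15669
def N20904 : Q := sm gg N15671
def N20905 : Q := sm gf N15673
def N20906 : Q := sm gg N15674
def N20907 : Q := sm gg N15675
def N20908 : Q := sm gb N15676
def N20909 : Q := sm gg N15676
def N20910 : Q := sm gd N15678
def N20911 : Q := sm ge N15679
def N20912 : Q := sm gb N15680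
def N20913 : Q := sm ga N15681
def N20914 : Q := sm gc N15681
def N20915 : Q := sm gg N15681
def N20916 : Q := sm gg N15685
def N20917 : Q := sm gb N15687
def N20918 : Q := sm gg N15688
def N20919 : Q := sm gb N15693
def N20920 : Q := sm ga N15697
def N20921 : Q := sm gd N15697
def N20922 : Q := sm gf N15697
def N20923 : Q := sm gg N15697
def N20924 : Q := sm ge N15698
def N20925 : Q := sm ga N15704
def N20926 : Q := sm gd N15704
def N20927 : Q := sm gf N15704
def N20928 : Q := sm gg N15704
def N20929 : Q := sm ge N15705
def N20930 : Q := sm gb N15706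
def N20931 : Q := sm gd N15706
def N20932 : Q := sm gf N15706
def N20933 : Q := sm gg N15706
def N20934 : Q := sm ge N15707
def N20935 : Q := sm gg N15707
def N20936 : Q := sm gg N15708
def N20937 : Q := sm gf N15709
def N20938 : Q := sm ga N15711
def N20939 : Q := sm ge N15711
def N20940 : Q := sm gf N15711
def N20941 : Q := sm gd N15712
def N20942 : Q := sm gb N15713
def N20943 : Q := sm ga N15714
def N20944 : Q := sm gc N15714
def N20945 : Q := sm gg N15714
def N20946 : Q := sm gg N15715
def N20947 : Q := sm gf N15716
def N20948 : Q := sm gd N15721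
def N20949 : Q := sm gf N15721
def N20950 : Q := sm gb N15723
def N20951 : Q := sm ga N15728
def N20952 : Q := sm ga N15736
def N20953 : Q := sm gc N15736
def N20954 : Q := sm gg N15736
def N20955 : Q := sm gc N15740
def N20956 : Q := sm gf N15740
def N20957 : Q := sm gb N15742
def N20958 : Q := sm gb N15745
def N20959 : Q := sm ga N15747
def N20960 : Q := sm gg N15747
def N20961 : Q := sm gb N15750
def N20962 : Q := sm gb N15756
def N20963 : Q := sm ga N15766
def N20964 : Q := sm gb N15769
def N20965 : Q := sm ga N15774
def N20966 : Q := sm gc N15774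
def N20967 : Q := sm gf N15774
def N20968 : Q := sm gb N15775
def N20969 : Q := sm ge N15776
def N20970 : Q := sm ga N15778
def N20971 : Q := sm gf N15778
def N20972 : Q := sm gb N15779
def N20973 : Q := sm gc N15779
def N20974 : Q := sm gd N15780
def N20975 : Q := sm gb N15782
def N20976 : Q := sm gf N15784
def N20977 : Q := sm ga N15788
def N20978 : Q := sm gc N15788
def N20979 : Q := sm gg N15788
def N20980 : Q := sm gb N15789
def N20981 : Q := sm gc N15789
def N20982 : Q := sm gg N15789
def N20983 : Q := sm gg N15790
def N20984 : Q := sm gg N15793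
def N20985 : Q := sm gb N15794
def N20986 : Q := sm ge N15795
def N20987 : Q := sm ga N15797
def N20988 : Q := sm gf N15799
def N20989 : Q := sm gg N15801
def N20990 : Q := sm gf N15802
def N20991 : Q := sm gf N15803
def N20992 : Q := sm gb N15805
def N20993 : Q := sm gf N15805
def N20994 : Q := sm gd N15806
def N20995 : Q := sm ge N15807
def N20996 : Q := sm gb N15808
def N20997 : Q := sm ga N15809
def N20998 : Q := sm gc N15809
def N20999 : Q := sm gf N15809
def N21000 : Q := sm gf N15813
def N21001 : Q := sm gb N15815
def N21002 : Q := sm gf N15816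
def N21003 : Q := sm gb N15821
def N21004 : Q := sm ga N15825
def N21005 : Q := sm gd N15825
def N21006 : Q := sm gf N15825
def N21007 : Q := sm gg N15825
def N21008 : Q := sm ge N15826
def N21009 : Q := sm ga N15832
def N21010 : Q := sm gf N15832
def N21011 : Q := sm ge N15833
def N21012 : Q := sm gb N15834
def N21013 : Q := sm gd N15834
def N21014 : Q := sm gf N15834
def N21015 : Q := sm gg N15834
def N21016 : Q := sm ge N15835
def N21017 : Q := sm gf N15835
def N21018 : Q := sm gg N15836
def N21019 : Q := sm ga N15839
def N21020 : Q := sm ge N15839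
def N21021 : Q := sm gg N15839
def N21022 : Q := sm gd N15840
def N21023 : Q := sm gb N15841
def N21024 : Q := sm ga N15842
def N21025 : Q := sm gc N15842
def N21026 : Q := sm gf N15842
def N21027 : Q := sm gf N15843
def N21028 : Q := sm gg N15844
def N21029 : Q := sm gg N15856
def N21030 : Q := sm gg N15857
def N21031 : Q := sm gf N15859
def N21032 : Q := sm gg N15864
def N21033 : Q := sm gb N15866
def N21034 : Q := sm gg N15867
def N21035 : Q := sm gg N15868
def N21036 : Q := sm gg N15869
def N21037 : Q := sm gf N15870
def N21038 : Q := sm gb N15871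
def N21039 : Q := sm ga N15878
def N21040 : Q := sm gg N15878
def N21041 : Q := sm gb N15880
def N21042 : Q := sm gb N15882
def N21043 : Q := sm gb N15886
def N21044 : Q := sm ga N15888
def N21045 : Q := sm gc N15888
def N21046 : Q := sm gf N15888
def N21047 : Q := sm ga N15889
def N21048 : Q := sm gc N15889
def N21049 : Q := sm gf N15889
def N21050 : Q := sm gf N15891
def N21051 : Q := sm gf N15892
def N21052 : Q := sm gg N15893
def N21053 : Q := sm gf N15899
def N21054 : Q := sm gb N15900
def N21055 : Q := sm gf N15902
def N21056 : Q := sm gf N15903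
def N21057 : Q := sm gg N15904
def N21058 : Q := sm gf N15905
def N21059 : Q := sm gb N15908
def N21060 : Q := sm ga N15913
def N21061 : Q := sm gf N15913
def N21062 : Q := sm gb N15914
def N21063 : Q := sm gb N15916
def N21064 : Q := sm gb N15920
def N21065 : Q := sm ga N15922
def N21066 : Q := sm gc N15922
def N21067 : Q := sm gg N15922
def N21068 : Q := sm ga N15925
def N21069 : Q := sm gc N15925
def N21070 : Q := sm gg N15925
def N21071 : Q := sm gc N15930
def N21072 : Q := sm gd N15931
def N21073 : Q := sm gg N15931
def N21074 : Q := sm gc N15933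
def N21075 : Q := sm gd N15934
def N21076 : Q := sm gf N15934
def N21077 : Q := sm gc N15938
def N21078 : Q := sm gg N15938
def N21079 : Q := sm gc N15940
def N21080 : Q := sm gf N15940
def N21081 : Q := sm gd N15942
def N21082 : Q := sm gg N15942
def N21083 : Q := sm gb N15943
def N21084 : Q := sm ga N15944
def N21085 : Q := sm gc N15944
def N21086 : Q := sm gd N15946
def N21087 : Q := sm gf N15946
def N21088 : Q := sm gb N15947
def N21089 : Q := sm ga N15948
def N21090 : Q := sm gc N15948
def N21091 : Q := sm gb N15949
def N21092 : Q := sm gc N15949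
def N21093 : Q := sm gd N15950
def N21094 : Q := sm gg N15950
def N21095 : Q := sm gb N15951
def N21096 : Q := sm ga N15952
def N21097 : Q := sm gc N15952
def N21098 : Q := sm gf N15952
def N21099 : Q := sm gb N15953
def N21100 : Q := sm gc N15953
def N21101 : Q := sm gd N15954
def N21102 : Q := sm gf N15954
def N21103 : Q := sm gb N15955
def N21104 : Q := sm ga N15956
def N21105 : Q := sm gc N15956
def N21106 : Q := sm gg N15956
def N21107 : Q := sm gd N15958
def N21108 : Q := sm gg N15959
def N21109 : Q := sm gc N15961
def N21110 : Q := sm gc N15962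
def N21111 : Q := sm gd N15963
def N21112 : Q := sm gf N15963
def N21113 : Q := sm gg N15964
def N21114 : Q := sm gd N15966
def N21115 : Q := sm gf N15967
def N21116 : Q := sm gc N15969
def N21117 : Q := sm gc N15970
def N21118 : Q := sm gd N15971
def N21119 : Q := sm gg N15971
def N21120 : Q := sm gf N15972
def N21121 : Q := sm gd N15973
def N21122 : Q := sm gf N15974
def N21123 : Q := sm gg N15974
def N21124 : Q := sm gb N15977
def N21125 : Q := sm gg N15977
def N21126 : Q := sm gb N15978
def N21127 : Q := sm gf N15978
def N21128 : Q := sm gc N15979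
def N21129 : Q := sm gb N15980
def N21130 : Q := sm gc N15981
def N21131 : Q := sm gb N15982
def N21132 : Q := sm ga N15983
def N21133 : Q := sm gc N15983
def N21134 : Q := sm gg N15983
def N21135 : Q := sm ga N15984
def N21136 : Q := sm gc N15984
def N21137 : Q := sm gf N15984
def N21138 : Q := sm gc N15985
def N21139 : Q := sm gg N15985
def N21140 : Q := sm gd N15986
def N21141 : Q := sm gg N15986
def N21142 : Q := sm gc N15988
def N21143 : Q := sm gf N15988
def N21144 : Q := sm gd N15989
def N21145 : Q := sm gf N15989
def N21146 : Q := sm gf N15991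
def N21147 : Q := sm gg N15991
def N21148 : Q := sm gd N15992
def N21149 : Q := sm gg N15992
def N21150 : Q := sm gb N15993
def N21151 : Q := sm gc N15994
def N21152 : Q := sm ge N15994
def N21153 : Q := sm gg N15994
def N21154 : Q := sm gb N15995
def N21155 : Q := sm gf N15995
def N21156 : Q := sm gf N15997
def N21157 : Q := sm gg N15997
def N21158 : Q := sm gd N15998
def N21159 : Q := sm gf N15998
def N21160 : Q := sm gb N15999
def N21161 : Q := sm gc N16000
def N21162 : Q := sm ge N16000
def N21163 : Q := sm gf N16000
def N21164 : Q := sm gb N16001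
def N21165 : Q := sm gg N16001
def N21166 : Q := sm gg N16005
def N21167 : Q := sm gc N16006
def N21168 : Q := sm gg N16006
def N21169 : Q := sm gb N16007
def N21170 : Q := sm gc N16008
def N21171 : Q := sm gd N16009
def N21172 : Q := sm gg N16009
def N21173 : Q := sm gg N16010
def N21174 : Q := sm gb N16011
def N21175 : Q := sm gf N16011
def N21176 : Q := sm gf N16012
def N21177 : Q := sm gb N16013
def N21178 : Q := sm gf N16018
def N21179 : Q := sm gc N16019
def N21180 : Q := sm gf N16019
def N21181 : Q := sm gb N16020
def N21182 : Q := sm gc N16021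
def N21183 : Q := sm gd N16022
def N21184 : Q := sm gf N16022
def N21185 : Q := sm gf N16023
def N21186 : Q := sm gb N16024
def N21187 : Q := sm gg N16024
def N21188 : Q := sm gg N16025
def N21189 : Q := sm gb N16026
def N21190 : Q := sm ga N16029
def N21191 : Q := sm ga N16033
def N21192 : Q := sm gc N16034
def N21193 : Q := sm gc N16036
def N21194 : Q := sm gb N16037
def N21195 : Q := sm gc N16037
def N21196 : Q := sm gd N16038
def N21197 : Q := sm gc N16043
def N21198 : Q := sm gc N16045
def N21199 : Q := sm gb N16046
def N21200 : Q := sm gc N16046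
def N21201 : Q := sm gd N16047
def N21202 : Q := sm gf N16049
def N21203 : Q := sm gg N16049
def N21204 : Q := sm gg N16050
def N21205 : Q := sm gf N16051
def N21206 : Q := sm gg N16052
def N21207 : Q := sm gg N16053
def N21208 : Q := sm ga N16055
def N21209 : Q := sm gc N16055
def N21210 : Q := sm gf N16055
def N21211 : Q := sm gb N16056
def N21212 : Q := sm gc N16056
def N21213 : Q := sm gd N16057
def N21214 : Q := sm gf N16057
def N21215 : Q := sm gc N16059
def N21216 : Q := sm gg N16059
def N21217 : Q := sm gb N16060
def N21218 : Q := sm gd N16060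
def N21219 : Q := sm gf N16060
def N21220 : Q := sm gc N16062
def N21221 : Q := sm ge N16062
def N21222 : Q := sm gf N16062
def N21223 : Q := sm gb N16063
def N21224 : Q := sm gg N16063
def N21225 : Q := sm gb N16064
def N21226 : Q := sm gf N16066
def N21227 : Q := sm gg N16066
def N21228 : Q := sm gg N16067
def N21229 : Q := sm gf N16068
def N21230 : Q := sm gf N16071
def N21231 : Q := sm gf N16072
def N21232 : Q := sm ga N16074
def N21233 : Q := sm gc N16074
def N21234 : Q := sm gg N16074
def N21235 : Q := sm gb N16075
def N21236 : Q := sm gc N16075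
def N21237 : Q := sm gd N16076
def N21238 : Q := sm gg N16076
def N21239 : Q := sm gc N16078
def N21240 : Q := sm gf N16078
def N21241 : Q := sm gb N16079
def N21242 : Q := sm gd N16079
def N21243 : Q := sm gg N16079
def N21244 : Q := sm gc N16081
def N21245 : Q := sm ge N16081
def N21246 : Q := sm gg N16081
def N21247 : Q := sm gb N16082
def N21248 : Q := sm gf N16082
def N21249 : Q := sm gb N16083
def N21250 : Q := sm gf N16086
def N21251 : Q := sm gg N16086
def N21252 : Q := sm gf N16087
def N21253 : Q := sm gg N16087
def N21254 : Q := sm gg N16088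
def N21255 : Q := sm gf N16089
def N21256 : Q := sm gg N16093
def N21257 : Q := sm gb N16094
def N21258 : Q := sm gb N16095
def N21259 : Q := sm gc N16096
def N21260 : Q := sm gf N16096
def N21261 : Q := sm gd N16098
def N21262 : Q := sm gf N16098
def N21263 : Q := sm gc N16100
def N21264 : Q := sm gg N16100
def N21265 : Q := sm gb N16101
def N21266 : Q := sm gd N16101
def N21267 : Q := sm gc N16102
def N21268 : Q := sm ge N16102
def N21269 : Q := sm gf N16102
def N21270 : Q := sm gb N16103
def N21271 : Q := sm ga N16107
def N21272 : Q := sm gd N16107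
def N21273 : Q := sm gf N16107
def N21274 : Q := sm gg N16107
def N21275 : Q := sm gc N16108
def N21276 : Q := sm ge N16108
def N21277 : Q := sm gf N16108
def N21278 : Q := sm gb N16109
def N21279 : Q := sm gb N16110
def N21280 : Q := sm gd N16110
def N21281 : Q := sm ge N16110
def N21282 : Q := sm gf N16110
def N21283 : Q := sm gf N16111
def N21284 : Q := sm gb N16112
def N21285 : Q := sm gg N16112
def N21286 : Q := sm gg N16113
def N21287 : Q := sm gb N16114
def N21288 : Q := sm gc N16115
def N21289 : Q := sm gf N16125
def N21290 : Q := sm gg N16125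
def N21291 : Q := sm gf N16126
def N21292 : Q := sm gg N16126
def N21293 : Q := sm gg N16127
def N21294 : Q := sm gf N16128
def N21295 : Q := sm gf N16132
def N21296 : Q := sm gb N16134
def N21297 : Q := sm gb N16135
def N21298 : Q := sm gc N16136
def N21299 : Q := sm gg N16136
def N21300 : Q := sm gd N16138
def N21301 : Q := sm gg N16138
def N21302 : Q := sm gc N16140
def N21303 : Q := sm gf N16140
def N21304 : Q := sm gb N16141
def N21305 : Q := sm gd N16141
def N21306 : Q := sm gc N16142
def N21307 : Q := sm ge N16142
def N21308 : Q := sm gg N16142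
def N21309 : Q := sm gb N16143
def N21310 : Q := sm ga N16147
def N21311 : Q := sm gd N16147
def N21312 : Q := sm gf N16147
def N21313 : Q := sm gg N16147
def N21314 : Q := sm gc N16148
def N21315 : Q := sm ge N16148
def N21316 : Q := sm gg N16148
def N21317 : Q := sm gb N16149
def N21318 : Q := sm gb N16150
def N21319 : Q := sm gd N16150
def N21320 : Q := sm ge N16150
def N21321 : Q := sm gg N16150
def N21322 : Q := sm gg N16151
def N21323 : Q := sm gb N16152
def N21324 : Q := sm gf N16152
def N21325 : Q := sm gf N16153
def N21326 : Q := sm gb N16154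
def N21327 : Q := sm gc N16155
def N21328 : Q := sm gb N16156
def N21329 : Q := sm ga N16157
def N21330 : Q := sm gc N16157
def N21331 : Q := sm gf N16157
def N21332 : Q := sm gb N16158
def N21333 : Q := sm gc N16159
def N21334 : Q := sm gg N16160
def N21335 : Q := sm gb N16161
def N21336 : Q := sm gb N16162
def N21337 : Q := sm ga N16163
def N21338 : Q := sm gc N16163
def N21339 : Q := sm gf N16163
def N21340 : Q := sm gb N16164
def N21341 : Q := sm gc N16164
def N21342 : Q := sm gf N16164
def N21343 : Q := sm gd N16165
def N21344 : Q := sm gf N16165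
def N21345 : Q := sm ga N16167
def N21346 : Q := sm ge N16167
def N21347 : Q := sm gg N16167
def N21348 : Q := sm gg N16168
def N21349 : Q := sm gb N16169
def N21350 : Q := sm gb N16170
def N21351 : Q := sm ga N16171
def N21352 : Q := sm gc N16171
def N21353 : Q := sm gf N16171
def N21354 : Q := sm gb N16172
def N21356 : Q := sm gc N16173
def N21357 : Q := sm gf N16173
def N21358 : Q := sm gd N16174
def N21359 : Q := sm gf N16174
def N21360 : Q := sm gb N16175
def N21361 : Q := sm ga N16176
def N21362 : Q := sm gc N16176
def N21363 : Q := sm gg N16176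
def N21364 : Q := sm ga N16177
def N21365 : Q := sm gc N16177
def N21366 : Q := sm gf N16177
def N21367 : Q := sm gg N16177
def N21368 : Q := sm gb N16178
def N21369 : Q := sm gd N16178
def N21370 : Q := sm gc N16179
def N21371 : Q := sm ge N16179
def N21372 : Q := sm gf N16179
def N21373 : Q := sm gb N16180
def N21374 : Q := sm ga N16181
def N21375 : Q := sm gc N16181
def N21376 : Q := sm gg N16181
def N21377 : Q := sm gc N16182
def N21378 : Q := sm gg N16182
def N21379 : Q := sm gd N16183
def N21380 : Q := sm gg N16183
def N21381 : Q := sm gf N16184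
def N21382 : Q := sm gb N16187
def N21383 : Q := sm gf N16188
def N21384 : Q := sm ga N16189
def N21385 : Q := sm gd N16189
def N21386 : Q := sm gf N16189
def N21387 : Q := sm gg N16189
def N21388 : Q := sm ge N16190
def N21389 : Q := sm gf N16190
def N21390 : Q := sm gb N16191
def N21391 : Q := sm gc N16192
def N21392 : Q := sm gb N16193
def N21393 : Q := sm ge N16193
def N21394 : Q := sm gf N16193
def N21395 : Q := sm gf N16194
def N21396 : Q := sm gb N16195
def N21397 : Q := sm gg N16195
def N21398 : Q := sm gg N16196
def N21399 : Q := sm gb N16197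
def N21400 : Q := sm ga N16198
def N21401 : Q := sm gc N16198
def N21402 : Q := sm gf N16198
def N21403 : Q := sm ga N16199
def N21404 : Q := sm gc N16199
def N21405 : Q := sm gg N16199
def N21406 : Q := sm gb N16201
def N21407 : Q := sm gc N16203
def N21408 : Q := sm gb N16204
def N21409 : Q := sm gf N16205
def N21410 : Q := sm gb N16207
def N21411 : Q := sm ga N16208
def N21412 : Q := sm gc N16208
def N21413 : Q := sm gg N16208
def N21414 : Q := sm gb N16209
def N21415 : Q := sm gc N16209
def N21416 : Q := sm gd N16210
def N21417 : Q := sm gg N16210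
def N21418 : Q := sm ga N16212
def N21419 : Q := sm ge N16212
def N21420 : Q := sm gf N16212
def N21421 : Q := sm gf N16213
def N21422 : Q := sm gb N16214
def N21423 : Q := sm gb N16215
def N21424 : Q := sm gc N16216
def N21425 : Q := sm gg N16216
def N21426 : Q := sm gb N16217
def N21427 : Q := sm gd N16219
def N21428 : Q := sm gg N16219
def N21429 : Q := sm gb N16220
def N21430 : Q := sm ga N16221
def N21431 : Q := sm gc N16221
def N21432 : Q := sm gf N16221
def N21433 : Q := sm ga N16222
def N21434 : Q := sm gc N16222
def N21435 : Q := sm gf N16222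
def N21436 : Q := sm gg N16222
def N21437 : Q := sm gb N16223
def N21438 : Q := sm gd N16223
def N21439 : Q := sm gc N16224
def N21440 : Q := sm ge N16224
def N21441 : Q := sm gg N16224
def N21442 : Q := sm gb N16225
def N21443 : Q := sm ga N16226
def N21444 : Q := sm gc N16226
def N21445 : Q := sm gf N16226
def N21446 : Q := sm gc N16227
def N21447 : Q := sm gf N16227
def N21448 : Q := sm gd N16228
def N21449 : Q := sm gf N16228
def N21450 : Q := sm gg N16229
def N21451 : Q := sm gg N16232
def N21452 : Q := sm gb N16233
def N21453 : Q := sm ga N16234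
def N21454 : Q := sm gd N16234
def N21455 : Q := sm gf N16234
def N21456 : Q := sm gg N16234
def N21457 : Q := sm ge N16235
def N21458 : Q := sm gg N16235
def N21459 : Q := sm gb N16236
def N21460 : Q := sm gc N16237
def N21461 : Q := sm gb N16238
def N21462 : Q := sm ge N16238
def N21463 : Q := sm gg N16238
def N21464 : Q := sm gg N16239
def N21465 : Q := sm gb N16240
def N21466 : Q := sm gf N16240
def N21467 : Q := sm gf N16241
def N21468 : Q := sm gb N16242
def N21469 : Q := sm ga N16243
def N21470 : Q := sm gc N16243
def N21471 : Q := sm gg N16243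
def N21472 : Q := sm gc N16244
def N21473 : Q := sm gg N16246
def N21474 : Q := sm gb N16248
def N21475 : Q := sm gf N16248
def N21476 : Q := sm gg N16249
def N21477 : Q := sm gg N16250
def N21478 : Q := sm gb N16251
def N21479 : Q := sm gf N16251
def N21480 : Q := sm gb N16253
def N21481 : Q := sm ga N16254
def N21482 : Q := sm gc N16254
def N21483 : Q := sm gf N16254
def N21484 : Q := sm gb N16255
def N21485 : Q := sm gc N16256
def N21486 : Q := sm gc N16257
def N21487 : Q := sm gd N16258
def N21488 : Q := sm gf N16258
def N21489 : Q := sm gc N16260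
def N21490 : Q := sm gb N16262
def N21491 : Q := sm gg N16263
def N21492 : Q := sm gg N16264
def N21493 : Q := sm gb N16265
def N21494 : Q := sm gf N16265
def N21495 : Q := sm gb N16266
def N21496 : Q := sm ga N16267
def N21497 : Q := sm gc N16267
def N21498 : Q := sm gf N16269
def N21499 : Q := sm gg N16269
def N21500 : Q := sm gb N16271
def N21501 : Q := sm gb N16272
def N21502 : Q := sm ga N16273
def N21503 : Q := sm gc N16273
def N21504 : Q := sm gf N16273
def N21505 : Q := sm gb N16274
def N21506 : Q := sm gc N16274
def N21507 : Q := sm gf N16274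
def N21508 : Q := sm gd N16275
def N21509 : Q := sm gf N16275
def N21510 : Q := sm gg N16276
def N21511 : Q := sm gc N16277
def N21512 : Q := sm gb N16278
def N21513 : Q := sm gd N16278
def N21514 : Q := sm gf N16278
def N21515 : Q := sm gc N16280
def N21516 : Q := sm ge N16280
def N21517 : Q := sm gf N16280
def N21518 : Q := sm gb N16281
def N21519 : Q := sm gd N16282
def N21520 : Q := sm gf N16282
def N21521 : Q := sm gg N16282
def N21522 : Q := sm gc N16283
def N21523 : Q := sm ge N16283
def N21524 : Q := sm gf N16283
def N21525 : Q := sm gg N16283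
def N21526 : Q := sm gg N16284
def N21527 : Q := sm gg N16285
def N21528 : Q := sm gb N16286
def N21529 : Q := sm gf N16286
def N21530 : Q := sm gg N16287
def N21531 : Q := sm gb N16288
def N21532 : Q := sm gb N16291
def N21533 : Q := sm ga N16292
def N21534 : Q := sm gf N16292
def N21535 : Q := sm gb N16293
def N21536 : Q := sm gb N16294
def N21537 : Q := sm gb N16295
def N21538 : Q := sm ga N16296
def N21539 : Q := sm gc N16296
def N21540 : Q := sm gg N16296
def N21541 : Q := sm ga N16297
def N21542 : Q := sm gc N16297
def N21543 : Q := sm gf N16297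
def N21544 : Q := sm gg N16297
def N21545 : Q := sm ga N16298
def N21546 : Q := sm gc N16298
def N21547 : Q := sm gc N16299
def N21548 : Q := sm gg N16299
def N21549 : Q := sm gd N16300
def N21550 : Q := sm gg N16300
def N21551 : Q := sm gf N16301
def N21552 : Q := sm gc N16302
def N21553 : Q := sm gb N16303
def N21554 : Q := sm gd N16303
def N21555 : Q := sm gf N16303
def N21556 : Q := sm gg N16303
def N21557 : Q := sm ga N16306
def N21558 : Q := sm gd N16306
def N21559 : Q := sm gf N16306
def N21560 : Q := sm gg N16306
def N21561 : Q := sm gc N16307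
def N21562 : Q := sm ge N16307
def N21563 : Q := sm gb N16308
def N21564 : Q := sm gd N16308
def N21565 : Q := sm ge N16308
def N21566 : Q := sm gf N16308
def N21567 : Q := sm gf N16309
def N21568 : Q := sm gb N16310
def N21569 : Q := sm ga N16311
def N21570 : Q := sm gc N16311
def N21571 : Q := sm gg N16311
def N21572 : Q := sm gc N16312
def N21573 : Q := sm gd N16313
def N21574 : Q := sm gg N16313
def N21575 : Q := sm gd N16315
def N21576 : Q := sm gg N16315
def N21577 : Q := sm gc N16317
def N21578 : Q := sm ge N16317
def N21579 : Q := sm gg N16317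
def N21580 : Q := sm gb N16318
def N21581 : Q := sm gf N16318
def N21582 : Q := sm gb N16320
def N21583 : Q := sm gd N16320
def N21584 : Q := sm gf N16320
def N21585 : Q := sm gg N16320
def N21586 : Q := sm ga N16323
def N21587 : Q := sm gd N16323
def N21588 : Q := sm gf N16323
def N21589 : Q := sm gg N16323
def N21590 : Q := sm ge N16324
def N21591 : Q := sm gf N16324
def N21592 : Q := sm gg N16324
def N21593 : Q := sm gb N16325
def N21594 : Q := sm gb N16326
def N21595 : Q := sm gc N16327
def N21596 : Q := sm gb N16329
def N21597 : Q := sm gd N16329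
def N21598 : Q := sm gf N16329
def N21599 : Q := sm gg N16329
def N21600 : Q := sm gc N16330
def N21601 : Q := sm ge N16330
def N21602 : Q := sm gf N16330
def N21603 : Q := sm gg N16330
def N21604 : Q := sm gb N16331
def N21605 : Q := sm gg N16331
def N21606 : Q := sm gf N16332
def N21607 : Q := sm gb N16333
def N21608 : Q := sm ge N16333
def N21609 : Q := sm gf N16333
def N21610 : Q := sm gf N16334
def N21611 : Q := sm gb N16335
def N21612 : Q := sm gc N16336
def N21613 : Q := sm gg N16336
def N21614 : Q := sm gd N16337
def N21615 : Q := sm ga N16338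
def N21616 : Q := sm gd N16338
def N21617 : Q := sm ge N16338
def N21618 : Q := sm gf N16338
def N21619 : Q := sm gg N16338
def N21620 : Q := sm ge N16339
def N21621 : Q := sm gf N16339
def N21622 : Q := sm gd N16340
def N21623 : Q := sm gf N16340
def N21624 : Q := sm gb N16341
def N21625 : Q := sm gg N16341
def N21626 : Q := sm gg N16342
def N21627 : Q := sm gb N16343
def N21628 : Q := sm ga N16344
def N21629 : Q := sm gc N16344
def N21630 : Q := sm gf N16344
def N21631 : Q := sm gc N16345
def N21632 : Q := sm gf N16346
def N21633 : Q := sm gc N16349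
def N21634 : Q := sm gf N16350
def N21635 : Q := sm gb N16351
def N21636 : Q := sm gg N16351
def N21637 : Q := sm gf N16353
def N21638 : Q := sm gb N16354
def N21639 : Q := sm gg N16354
def N21640 : Q := sm gf N16355
def N21641 : Q := sm ga N16356
def N21642 : Q := sm gc N16356
def N21643 : Q := sm gg N16356
def N21644 : Q := sm gb N16357
def N21645 : Q := sm gb N16359
def N21646 : Q := sm gc N16360
def N21647 : Q := sm gd N16361
def N21648 : Q := sm gg N16361
def N21649 : Q := sm gc N16363
def N21650 : Q := sm gb N16364
def N21651 : Q := sm gf N16366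
def N21652 : Q := sm gb N16367
def N21653 : Q := sm gg N16367
def N21654 : Q := sm gf N16368
def N21655 : Q := sm ga N16369
def N21656 : Q := sm gc N16369
def N21657 : Q := sm gb N16371
def N21658 : Q := sm gf N16372
def N21659 : Q := sm gg N16372
def N21660 : Q := sm gb N16374
def N21661 : Q := sm gb N16375
def N21662 : Q := sm ga N16376
def N21663 : Q := sm gc N16376
def N21664 : Q := sm gg N16376
def N21665 : Q := sm gb N16377
def N21666 : Q := sm gc N16377
def N21667 : Q := sm gg N16377
def N21668 : Q := sm gd N16378
def N21669 : Q := sm gg N16378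
def N21670 : Q := sm gf N16379
def N21671 : Q := sm gc N16380
def N21672 : Q := sm gb N16381
def N21673 : Q := sm gd N16381
def N21674 : Q := sm gc N16382
def N21675 : Q := sm ge N16382
def N21676 : Q := sm gg N16382
def N21677 : Q := sm gb N16383
def N21678 : Q := sm gd N16384
def N21679 : Q := sm gf N16384
def N21680 : Q := sm gg N16384
def N21681 : Q := sm gc N16385
def N21682 : Q := sm ge N16385
def N21683 : Q := sm gf N16385
def N21684 : Q := sm gg N16385
def N21685 : Q := sm gf N16386
def N21686 : Q := sm gb N16387
def N21687 : Q := sm gg N16387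
def N21688 : Q := sm gf N16388
def N21689 : Q := sm gf N16389
def N21690 : Q := sm gb N16390
def N21691 : Q := sm gb N16394
def N21692 : Q := sm ga N16395
def N21693 : Q := sm gg N16395
def N21694 : Q := sm gb N16396
def N21695 : Q := sm gb N16397
def N21696 : Q := sm gb N16398
def N21697 : Q := sm ga N16399
def N21698 : Q := sm gc N16399
def N21699 : Q := sm gf N16399
def N21700 : Q := sm ga N16400
def N21701 : Q := sm gc N16400
def N21702 : Q := sm gf N16400
def N21703 : Q := sm gg N16400
def N21704 : Q := sm ga N16401
def N21705 : Q := sm gc N16401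
def N21706 : Q := sm gc N16402
def N21707 : Q := sm gf N16402
def N21708 : Q := sm gd N16403
def N21709 : Q := sm gf N16403
def N21710 : Q := sm gg N16404
def N21711 : Q := sm gc N16405
def N21712 : Q := sm gb N16406
def N21713 : Q := sm gd N16406
def N21714 : Q := sm gf N16406
def N21715 : Q := sm gg N16406
def N21716 : Q := sm ga N16409
def N21717 : Q := sm gd N16409
def N21718 : Q := sm gf N16409
def N21719 : Q := sm gg N16409
def N21720 : Q := sm gc N16410
def N21721 : Q := sm ge N16410
def N21722 : Q := sm gb N16411
def N21723 : Q := sm gd N16411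
def N21724 : Q := sm ge N16411
def N21725 : Q := sm gg N16411
def N21726 : Q := sm gg N16412
def N21727 : Q := sm gb N16413
def N21728 : Q := sm ga N16414
def N21729 : Q := sm gc N16414
def N21730 : Q := sm gf N16414
def N21731 : Q := sm gc N16415
def N21732 : Q := sm gd N16416
def N21733 : Q := sm gf N16416
def N21734 : Q := sm gd N16418
def N21735 : Q := sm gf N16418
def N21736 : Q := sm gc N16420
def N21737 : Q := sm ge N16420
def N21738 : Q := sm gf N16420
def N21739 : Q := sm gb N16421
def N21740 : Q := sm gg N16421
def N21741 : Q := sm gb N16423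
def N21742 : Q := sm gd N16423
def N21743 : Q := sm gf N16423
def N21744 : Q := sm gg N16423
def N21745 : Q := sm ga N16426
def N21746 : Q := sm gd N16426
def N21747 : Q := sm gf N16426
def N21748 : Q := sm gg N16426
def N21749 : Q := sm ge N16427
def N21750 : Q := sm gf N16427
def N21751 : Q := sm gg N16427
def N21752 : Q := sm gb N16428
def N21753 : Q := sm gb N16429
def N21754 : Q := sm gc N16431
def N21755 : Q := sm gb N16432
def N21756 : Q := sm gd N16432
def N21757 : Q := sm gf N16432
def N21758 : Q := sm gg N16432
def N21759 : Q := sm gc N16433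
def N21760 : Q := sm ge N16433
def N21761 : Q := sm gf N16433
def N21762 : Q := sm gg N16433
def N21763 : Q := sm gg N16434
def N21764 : Q := sm gb N16435
def N21765 : Q := sm gf N16435
def N21766 : Q := sm gb N16436
def N21767 : Q := sm ge N16436
def N21768 : Q := sm gg N16436
def N21769 : Q := sm gg N16437
def N21770 : Q := sm gb N16438
def N21771 : Q := sm gc N16439
def N21772 : Q := sm gf N16439
def N21773 : Q := sm gd N16440
def N21774 : Q := sm ga N16441
def N21775 : Q := sm gd N16441
def N21776 : Q := sm ge N16441
def N21777 : Q := sm gf N16441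
def N21778 : Q := sm gg N16441
def N21779 : Q := sm ge N16442
def N21780 : Q := sm gg N16442
def N21781 : Q := sm gd N16443
def N21782 : Q := sm gg N16443
def N21783 : Q := sm gb N16444
def N21784 : Q := sm gf N16444
def N21785 : Q := sm gf N16445
def N21786 : Q := sm gb N16446
def N21787 : Q := sm ga N16447
def N21788 : Q := sm gc N16447
def N21789 : Q := sm gg N16447
def N21790 : Q := sm gc N16448
def N21791 : Q := sm gg N16449
def N21792 : Q := sm gg N16451
def N21793 : Q := sm gf N16452
def N21794 : Q := sm gg N16454
def N21795 : Q := sm gb N16455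
def N21796 : Q := sm gg N16456
def N21797 : Q := sm gg N16457
def N21798 : Q := sm gf N16458
def N21799 : Q := sm ga N16459
def N21800 : Q := sm gc N16459
def N21801 : Q := sm gf N16459
def N21802 : Q := sm gd N16460
def N21803 : Q := sm gf N16460
def N21804 : Q := sm gg N16460
def N21805 : Q := sm ge N16461
def N21806 : Q := sm gd N16462
def N21807 : Q := sm gf N16462
def N21808 : Q := sm gg N16462
def N21809 : Q := sm gc N16463
def N21810 : Q := sm ge N16463
def N21811 : Q := sm gf N16463
def N21812 : Q := sm gg N16463
def N21813 : Q := sm gg N16464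
def N21814 : Q := sm gf N16465
def N21815 : Q := sm gb N16466
def N21816 : Q := sm ge N16466
def N21817 : Q := sm gd N16468
def N21818 : Q := sm gf N16468
def N21819 : Q := sm gg N16468
def N21820 : Q := sm gc N16469
def N21821 : Q := sm ge N16469
def N21822 : Q := sm gf N16469
def N21823 : Q := sm gg N16469
def N21824 : Q := sm gb N16470
def N21825 : Q := sm gb N16471
def N21826 : Q := sm gd N16472
def N21827 : Q := sm ge N16472
def N21828 : Q := sm gf N16472
def N21829 : Q := sm gg N16472
def N21830 : Q := sm gf N16473
def N21831 : Q := sm gg N16473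
def N21832 : Q := sm gg N16474
def N21833 : Q := sm gf N16475
def N21834 : Q := sm gb N16476
def N21835 : Q := sm gb N16477
def N21836 : Q := sm gb N16478
def N21837 : Q := sm ge N16478
def N21838 : Q := sm gf N16478
def N21839 : Q := sm gg N16478
def N21840 : Q := sm gf N16479
def N21841 : Q := sm gg N16479
def N21842 : Q := sm gg N16480
def N21843 : Q := sm gf N16481
def N21844 : Q := sm gf N16482
def N21845 : Q := sm gg N16483
def N21846 : Q := sm gf N16485
def N21847 : Q := sm gb N16486
def N21848 : Q := sm gf N16487
def N21849 : Q := sm gf N16488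
def N21850 : Q := sm gg N16489
def N21851 : Q := sm ga N16492
def N21852 : Q := sm gc N16492
def N21853 : Q := sm gg N16492
def N21854 : Q := sm gd N16493
def N21855 : Q := sm gf N16493
def N21856 : Q := sm gg N16493
def N21857 : Q := sm ge N16494
def N21858 : Q := sm gd N16495
def N21859 : Q := sm gf N16495
def N21860 : Q := sm gg N16495
def N21861 : Q := sm gc N16496
def N21862 : Q := sm ge N16496
def N21863 : Q := sm gf N16496
def N21864 : Q := sm gg N16496
def N21865 : Q := sm gg N16497
def N21866 : Q := sm gf N16498
def N21867 : Q := sm gb N16499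
def N21868 : Q := sm ge N16499
def N21869 : Q := sm gd N16501
def N21870 : Q := sm gf N16501
def N21871 : Q := sm gg N16501
def N21872 : Q := sm gc N16502
def N21873 : Q := sm ge N16502
def N21874 : Q := sm gf N16502
def N21875 : Q := sm gg N16502
def N21876 : Q := sm gb N16503
def N21877 : Q := sm gb N16504
def N21878 : Q := sm gd N16505
def N21879 : Q := sm ge N16505
def N21880 : Q := sm gf N16505
def N21881 : Q := sm gg N16505
def N21882 : Q := sm gf N16506
def N21883 : Q := sm gg N16506
def N21884 : Q := sm gg N16507
def N21885 : Q := sm gf N16508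
def N21886 : Q := sm gb N16509
def N21887 : Q := sm gb N16510
def N21888 : Q := sm gb N16511
def N21889 : Q := sm ge N16511
def N21890 : Q := sm gf N16511
def N21891 : Q := sm gg N16511
def N21892 : Q := sm gf N16512
def N21893 : Q := sm gg N16512
def N21894 : Q := sm gg N16513
def N21895 : Q := sm gf N16514
def N21896 : Q := sm gc N16515
def N21897 : Q := sm gb N16516
def N21898 : Q := sm ga N16518
def N21899 : Q := sm gd N16518
def N21900 : Q := sm gf N16518
def N21901 : Q := sm gg N16518
def N21902 : Q := sm ge N16519
def N21903 : Q := sm gc N16521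
def N21904 : Q := sm gb N16522
def N21905 : Q := sm ga N16524
def N21906 : Q := sm gd N16524
def N21907 : Q := sm gf N16524
def N21908 : Q := sm gg N16524
def N21909 : Q := sm ge N16525
def N21910 : Q := sm gg N16543
def N21911 : Q := sm gf N16546
def N21912 : Q := sm ge N16549
def N21913 : Q := sm gg N16549
def N21914 : Q := sm gb N16550
def N21915 : Q := sm ge N16552
def N21916 : Q := sm gf N16552
def N21917 : Q := sm gb N16553
def N21918 : Q := sm gd N16556
def N21919 : Q := sm gg N16562
def N21920 : Q := sm gf N16563
def N21921 : Q := sm gb N16565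
def N21922 : Q := sm gb N16567
def N21923 : Q := sm ge N16579
def N21924 : Q := sm gg N16579
def N21925 : Q := sm ge N16587
def N21926 : Q := sm gf N16587
def N21927 : Q := sm ge N16593
def N21928 : Q := sm gg N16594
def N21929 : Q := sm gd N16598
def N21930 : Q := sm gc N16599
def N21931 : Q := sm ge N16599
def N21932 : Q := sm gf N16599
def N21933 : Q := sm ge N16604
def N21934 : Q := sm gf N16606
def N21935 : Q := sm gd N16610
def N21936 : Q := sm gc N16611
def N21937 : Q := sm ge N16611

end Cfsg.Agent.Helper28.SzbA
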