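import Cfsg.Agent.Helper28.SzbB19

/-! # The Suzuki group presentation, cosets of the subgroup generated by a, b, c, d, f, g: the coset enumeration, part 20 (helper28; generated) -/

set_option autoImplicit false

noncomputable section

namespace Cfsg.Agent.Helper28.SzbA

open Cfsg.Agent.Helper28.CosetTable

theorem L222964 : sm gf N25827 = N28717 := ded_29_0 (flp_g L222958) (flp_f L193095) L193099 L200101
theorem L222966 : sm gf N24830 = N28718 := rfl
theorem L222968 : sm ga N28718 = N28717 := ded_11_1 (flp_f L222964) (flp_a L200101) L222966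
theorem L222970 : sm gc N28718 = N27997 := ded_20_1 (flp_f L216932) (flp_c L211893) L222966
theorem L222972 : sm ge N28718 = N25064 := ded_25_1 (flp_f L194893) (flp_e L193101) L222966
theorem L222974 : sm gg N28718 = N27993 := ded_29_3 L216881 (flp_f L193095) L193099 L222966
theorem L222976 : sm gb N28718 = N27719 := ded_16_1 (flp_f L214519) L214511 L216579 L216577 L222966
theorem L222978 : sm gc N24831 = N28719 := rfl
theorem L222980 : sm ga N28719 = N26849 := ded_8_1 (flp_c L220266) L220270 L222978
theorem L222982 : sm ge N28719 = N25065 := ded_19_2 (flp_c L194905) (flp_e L193105) L222978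
theorem L222984 : sm gg N28719 = N26348 := ded_21_2 (flp_c L203705) (flp_g L193107) L222978
theorem L222986 : sm gd N28719 = N26848 := ded_28_7 L207716 (flp_c L175735) (flp_d L123654) (flp_c L122434) L173809 (flp_c L206382) L203809 L222978
theorem L222988 : sm gf N26891 = N28719 := ded_11_0 L222980 (flp_f L220948) L220942
theorem L222990 : sm gf N24831 = N28720 := rfl
theorem L222992 : sm ga N28720 = N28630 := ded_11_1 L221870 L220270 L222990
theorem L222994 : sm gc N28720 = N26891 := ded_20_1 L222988 (flp_c L222978) L222990
theorem L222996 : sm ge N28720 = N25066 := ded_25_1 (flp_f L194915) (flp_e L193105) L222990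
theorem L222998 : sm gg N28720 = N26890 := ded_29_3 L208084 (flp_f L203715) (flp_g L193107) L222990
theorem L223000 : sm gb N28720 = N27721 := ded_16_1 (flp_f L214545) (flp_b L193081) L160672 L193103 L222990
theorem L223002 : sm gc N24832 = N28721 := rfl
theorem L223004 : sm ga N28721 = N27527 := ded_8_1 (flp_c L216897) L216893 L223002
theorem L223006 : sm ge N28721 = N24837 := ded_19_2 (flp_c L193139) (flp_e L193113) L223002
theorem L223008 : sm gg N24832 = N28722 := rfl
theorem L223010 : sm gd N28722 = N25073 := ded_24_1 (flp_g L194983) (flp_d L193111) L223008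
theorem L223012 : sm ge N28722 = N24839 := ded_26_1 (flp_g L193149) (flp_e L193113) L223008
theorem L223014 : sm gb N24833 = N28723 := rfl
theorem L223016 : sm ge N28723 = N24840 := ded_15_2 (flp_b L193153) (flp_e L193119) L223014
theorem L223018 : sm gd N24833 = N28724 := rfl
theorem L223020 : sm ga N28724 = N24834 := ded_9_1 (flp_d L193121) (flp_a L193117) L223018
theorem L223022 : sm gf N28724 = N27941 := ded_23_2 L216487 L212905 L223018
theorem L223024 : sm gc N24834 = N28725 := rfl
theorem L223026 : sm ge N24834 = N28726 := rfl
theorem L223028 : sm gd N28726 = N24844 := ded_22_1 (flp_e L193175) (flp_d L160708) (flp_e L160682) L193121 L223026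
theorem L223030 : sm gf N24834 = N28727 := rfl
theorem L223032 : sm ga N28727 = N27941 := ded_11_1 (flp_f L223022) L223020 L223030
theorem L223034 : sm gd N28727 = N24835 := ded_23_1 (flp_f L193123) L193121 L223030
theorem L223036 : sm gb N24835 = N28728 := rfl
theorem L223038 : sm ge N28728 = N24846 := ded_15_2 (flp_b L193181) (flp_e L193127) L223036
theorem L223040 : sm gc N28728 = N26042 := ded_13_2 (flp_b L201590) L169649 (flp_b L160690) (flp_c L193125) L223036
theorem L223042 : sm gg N24835 = N28729 := rfl
theorem L223044 : sm ga N28729 = N25106 := ded_12_1 (flp_g L212907) L212901 L223042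
theorem L223046 : sm gc N28729 = N24836 := ded_21_1 (flp_g L193129) (flp_c L193125) L223042
theorem L223048 : sm ge N28729 = N24847 := ded_26_1 (flp_g L193185) (flp_e L193127) L223042
theorem L223050 : sm gf N28608 = N28729 := ded_29_0 (flp_g L223042) (flp_f L193123) (flp_g L192459) (flp_a L221704)
theorem L223052 : sm gb N24836 = N28730 := rfl
theorem L223054 : sm gd N28730 = N25076 := ded_14_2 (flp_b L195001) (flp_d L193133) L223052
theorem L223056 : sm ge N28730 = N24848 := ded_15_2 (flp_b L193193) (flp_e L193135) L223052
theorem L223058 : sm gg N28730 = N26047 := ded_17_2 (flp_b L201610) (flp_g L169663) (flp_b L160690) L193129 L223052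
theorem L223060 : sm ga N27314 = N28730 := ded_9_3 L223054 (flp_a L195007) (flp_d L211633)
theorem L223062 : sm gb N24837 = N28731 := rfl
theorem L223064 : sm gc N28731 = N24840 := ded_13_2 (flp_b L193153) (flp_c L160696) L160692 L193139 L223062
theorem L223066 : sm gf N24837 = N28732 := rfl
theorem L223068 : sm ga N28732 = N27528 := ded_11_1 (flp_f L213157) (flp_a L193141) L223066
theorem L223070 : sm gc N28732 = N24838 := ded_20_1 (flp_f L193143) L193139 L223066
theorem L223072 : sm gg N24837 = N28733 := rfl
theorem L223074 : sm ga N28733 = N27529 := ded_12_1 (flp_g L213159) (flp_a L193141) L223072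
theorem L223076 : sm gc N28733 = N24839 := ded_21_1 (flp_g L193149) L193139 L223072
theorem L223078 : sm gg N24838 = N28734 := rfl
theorem L223080 : sm ga N28734 = N27944 := ded_12_1 (flp_g L216909) L216903 L223078
theorem L223082 : sm gd N28734 = N24849 := ded_24_1 (flp_g L193199) (flp_d L193145) L223078
theorem L223084 : sm gf N27996 = N28734 := ded_29_0 (flp_g L223078) (flp_f L193143) L193149 (flp_a L216920)
theorem L223086 : sm ga N24840 = N28735 := rfl
theorem L223088 : sm gd N24840 = N28736 := rfl
theorem L223090 : sm gb N28736 = N24841 := ded_14_1 (flp_d L193155) L193153 L223088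
theorem L223092 : sm gf N24840 = N28737 := rfl
theorem L223094 : sm gg N24840 = N28738 := rfl
theorem L223096 : sm ge N24841 = N28739 := rfl
theorem L223098 : sm ga N28739 = N24844 := ded_10_1 (flp_e L193175) (flp_a L193157) L223096
theorem L223100 : sm gc N28739 = N24895 := ded_19_1 (flp_e L193479) (flp_c L193159) L223096
theorem L223102 : sm gb N24843 = N28740 := rfl
theorem L223104 : sm gd N28740 = N24893 := ded_14_2 (flp_b L193469) (flp_d L193173) L223102
theorem L223106 : sm ge N24843 = N28741 := rfl
theorem L223108 : sm ga N28741 = N24895 := ded_10_1 (flp_e L193479) (flp_a L193171) L223106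
theorem L223110 : sm gc N28741 = N24844 := ded_19_1 (flp_e L193175) L193169 L223106
theorem L223112 : sm gf N24844 = N28742 := rfl
theorem L223114 : sm ge N28742 = N24845 := ded_25_1 (flp_f L193177) L193175 L223112
theorem L223116 : sm gb N24845 = N28743 := rfl
theorem L223118 : sm gd N28743 = N24846 := ded_14_2 (flp_b L193181) (flp_d L193179) L223116
theorem L223120 : sm gg N24845 = N28744 := rfl
theorem L223122 : sm ga N28744 = N28618 := ded_12_1 L222188 L222182 L223120
theorem L223124 : sm gd N28744 = N24847 := ded_24_1 (flp_g L193185) (flp_d L193179) L223120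
theorem L223126 : sm gf N28615 = N28744 := ded_29_0 (flp_g L223120) (flp_f L193177) (flp_g L192479) (flp_a L221740)
theorem L223128 : sm gg N24846 = N28745 := rfl
theorem L223130 : sm gc N28745 = N26045 := ded_21_1 (flp_g L201606) (flp_c L193183) L223128
theorem L223133 : sm gb N24847 = N28746 := rfl
theorem L223135 : sm ga N24848 = N28747 := rfl
theorem L223137 : sm gd N28747 = N24850 := ded_9_2 (flp_a L193209) (flp_d L193195) L223135
theorem L223139 : sm ge N28747 = N27314 := ded_10_2 L223060 L223056 L223135
theorem L223141 : sm gg N28747 = N26048 := ded_12_2 (flp_a L201616) (flp_g L193197) L223135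
theorem L223143 : sm gb N28747 = N27312 := ded_7_2 L211619 L196921 (flp_a L197089) L221776 (flp_a L221770) (flp_b L192485) (flp_a L160716) L193193 L223135
theorem L223145 : sm gc N24848 = N28748 := rfl
theorem L223147 : sm gg N28748 = N26049 := ded_21_2 (flp_c L201620) (flp_g L193197) L223145
theorem L223149 : sm gf N24848 = N28749 := rfl
theorem L223151 : sm gd N28749 = N24852 := ded_23_1 (flp_f L193225) (flp_d L193195) L223149
theorem L223153 : sm gb N28749 = N28613 := ded_16_1 (flp_f L221728) (flp_b L192467) L160720 L193193 L223149
theorem L223155 : sm gc N24850 = N28750 := rfl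
theorem L223157 : sm ga N28750 = N24851 := ded_8_1 (flp_c L193217) L193209 L223155
theorem L223159 : sm ge N28750 = N25079 := ded_19_2 (flp_c L195033) (flp_e L193211) L223155
theorem L223161 : sm gg N28750 = N26051 := ded_21_2 (flp_c L201628) (flp_g L193213) L223155
theorem L223163 : sm gb N28750 = N27835 := ded_13_1 L215661 L185979 (flp_c L183379) (flp_b L193215) L223155
theorem L223165 : sm gf N24851 = N28751 := rfl
theorem L223167 : sm gc N28751 = N24852 := ded_20_1 (flp_f L193225) L193217 L223165
theorem L223169 : sm gd N28751 = N27012 := ded_23_1 L209443 (flp_d L209445) L223165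
theorem L223171 : sm ge N28751 = N25081 := ded_25_1 (flp_f L195047) (flp_e L193219) L223165
theorem L223173 : sm gb N28751 = N27013 := ded_16_1 L219154 (flp_b L222325) (flp_f L222317) (flp_b L193223) L223165
theorem L223175 : sm gb N24853 = N28752 := rfl
theorem L223177 : sm gd N28752 = N24854 := ded_14_2 (flp_b L193243) (flp_d L193237) L223175
theorem L223179 : sm ge N28752 = N27557 := ded_15_2 (flp_b L213329) (flp_e L193239) L223175
theorem L223181 : sm gf N28752 = N24862 := ded_16_2 (flp_b L193295) (flp_f L160768) (flp_b L160744) L193231 L223175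
theorem L223183 : sm gf N24855 = N28753 := rfl
theorem L223185 : sm gc N28753 = N27093 := ded_20_1 (flp_f L209885) (flp_c L193253) L223183
theorem L223187 : sm gd N28753 = N27197 := ded_23_1 (flp_f L210739) (flp_d L210513) L223183
theorem L223189 : sm gg N27195 = N28753 := ded_29_1 (flp_f L223183) (flp_g L210687) L210685 L210725
theorem L223191 : sm ge N24856 = N28754 := rfl
theorem L223193 : sm ga N28754 = N24865 := ded_10_1 (flp_e L193317) (flp_a L193257) L223191
theorem L223195 : sm gb N28754 = N28240 := ded_15_1 L218864 L210511 L223191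
theorem L223197 : sm gc N28754 = N24865 := ded_19_1 (flp_e L193317) L193259 L223191
theorem L223199 : sm gd N24859 = N28754 := ded_9_0 L223193 L193337 (flp_a L193275)
theorem L223201 : sm gg N24856 = N28754 := ded_12_0 L223193 L193339 (flp_a L193257)
theorem L223203 : sm gf N24856 = N28755 := rfl
theorem L223205 : sm ga N28755 = N24866 := ded_11_1 (flp_f L193319) (flp_a L193257) L223203
theorem L223207 : sm gc N28755 = N24866 := ded_20_1 (flp_f L193319) L193259 L223203
theorem L223209 : sm gd N28755 = N24858 := ded_23_1 (flp_f L193267) L193255 L223203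
theorem L223211 : sm gd N24857 = N28756 := rfl
theorem L223213 : sm ga N28756 = N24868 := ded_9_1 (flp_d L193327) (flp_a L193263) L223211
theorem L223215 : sm gb N28756 = N28387 := ded_14_1 L220680 L220678 L223211
theorem L223217 : sm ge N28756 = N24859 := ded_22_2 L223199 (flp_e L223191) (flp_d L193255) L193261 L223211
theorem L223219 : sm gc N24861 = N28756 := ded_28_0 (flp_d L223211) L193265 L160766 (flp_c L162530) L162532 L149586 (flp_d L160812) (flp_a L193289)
theorem L223221 : sm gg N24857 = N28756 := ded_12_0 L223213 L193333 (flp_a L193263)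
theorem L223223 : sm gf N24857 = N28757 := rfl
theorem L223225 : sm ga N28757 = N24869 := ded_11_1 (flp_f L193341) (flp_a L193263) L223223
theorem L223227 : sm gc N28757 = N24860 := ded_20_1 (flp_f L193279) (flp_c L193265) L223223
theorem L223229 : sm ge N28757 = N24858 := ded_25_1 (flp_f L193267) L193261 L223223
theorem L223231 : sm gb N24858 = N28758 := rfl
theorem L223233 : sm gb N24860 = N28759 := rfl
theorem L223235 : sm gd N28759 = N25083 := ded_14_2 (flp_b L195065) (flp_d L193283) L223233
theorem L223237 : sm ge N28759 = N24862 := ded_15_2 (flp_b L193295) (flp_e L193285) L223233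
theorem L223239 : sm gf N28759 = N27557 := ded_16_2 (flp_b L213329) (flp_f L182563) (flp_b L182531) L193279 L223233
theorem L223241 : sm gg N28259 = N28759 := ded_24_0 L223235 (flp_g L195071) L219058
theorem L223243 : sm ga N24862 = N28760 := rfl
theorem L223245 : sm gd N28760 = N24863 := ded_9_2 (flp_a L193301) (flp_d L193297) L223243
theorem L223247 : sm gg N28760 = N28254 := ded_12_2 L219010 L193299 L223243
theorem L223249 : sm gc N24862 = N28761 := rfl
theorem L223251 : sm gg N28761 = N28260 := ded_21_2 (flp_c L219064) L193299 L223249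
theorem L223253 : sm gb N24863 = N28762 := rfl
theorem L223255 : sm ge N28762 = N25084 := ded_15_2 (flp_b L195073) (flp_e L193305) L223253
theorem L223257 : sm gc N28762 = N26229 := ded_13_2 (flp_b L202989) (flp_c L202858) L202862 (flp_c L193303) L223253
theorem L223259 : sm gf N28762 = N28019 := ded_16_2 L217108 (flp_f L203613) (flp_b L218960) (flp_f L218958) L223253
theorem L223261 : sm gg N28762 = N26229 := ded_17_2 (flp_b L202989) (flp_g L170574) (flp_b L190007) (flp_g L193307) L223253
theorem L223263 : sm ga N28762 = N27714 := ded_7_1 (flp_b L214737) L214729 (flp_b L193391) (flp_a L160830) (flp_b L111227) (flp_a L111199) L160780 L193301 L223253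
theorem L223265 : sm gf N24865 = N28763 := rfl
theorem L223267 : sm gd N28763 = N24873 := ded_23_1 (flp_f L193357) (flp_d L193337) L223265
theorem L223269 : sm ge N28763 = N24866 := ded_25_1 (flp_f L193319) L193317 L223265
theorem L223271 : sm gg N28763 = N28755 := ded_29_3 L223205 (flp_f L193319) (flp_g L193339) L223265
theorem L223273 : sm gb N24866 = N28764 := rfl
theorem L223275 : sm gd N28764 = N24870 := ded_14_2 (flp_b L193347) (flp_d L193321) L223273
theorem L223277 : sm gg N24866 = N28765 := rfl
theorem L223279 : sm ga N28765 = N28763 := ded_12_1 L223271 L223205 L223277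
theorem L223281 : sm gc N28765 = N28763 := ded_21_1 L223271 L223207 L223277
theorem L223283 : sm gd N28765 = N24871 := ded_24_1 (flp_g L193349) (flp_d L193321) L223277
theorem L223285 : sm ge N28765 = N28755 := ded_26_1 (flp_g L223271) L223269 L223277
theorem L223287 : sm gf N28754 = N28765 := ded_29_0 (flp_g L223277) (flp_f L193319) (flp_g L193339) (flp_a L223193)
theorem L223289 : sm gf N24868 = N28766 := rfl
theorem L223291 : sm gc N28766 = N24875 := ded_20_1 (flp_f L193373) L193329 L223289
theorem L223293 : sm gd N28766 = N24869 := ded_23_1 (flp_f L193341) L193327 L223289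
theorem L223295 : sm ge N28766 = N24873 := ded_25_1 (flp_f L193357) (flp_e L193331) L223289
theorem L223297 : sm gg N28766 = N28757 := ded_29_3 L223225 (flp_f L193341) (flp_g L193333) L223289
theorem L223299 : sm gb N24869 = N28767 := rfl
theorem L223301 : sm ge N28767 = N24870 := ded_15_2 (flp_b L193347) (flp_e L193345) L223299
theorem L223303 : sm gg N24869 = N28768 := rfl
theorem L223305 : sm ga N28768 = N28766 := ded_12_1 L223297 L223225 L223303
theorem L223307 : sm gc N28768 = N24874 := ded_21_1 (flp_g L193365) (flp_c L193343) L223303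
theorem L223309 : sm gd N28768 = N28757 := ded_24_1 (flp_g L223297) L223293 L223303
theorem L223311 : sm ge N28768 = N24871 := ded_26_1 (flp_g L193349) (flp_e L193345) L223303
theorem L223313 : sm gf N28756 = N28768 := ded_29_0 (flp_g L223303) (flp_f L193341) (flp_g L193333) (flp_a L223213)
theorem L223315 : sm ga N24870 = N28769 := rfl
theorem L223317 : sm gg N24870 = N28770 := rfl
theorem L223319 : sm gb N24871 = N28771 := rfl
theorem L223321 : sm gb N24873 = N28772 := rfl
theorem L223323 : sm gb N24874 = N28773 := rfl
theorem L223325 : sm gd N28773 = N25088 := ded_14_2 (flp_b L195119) (flp_d L193367) L223323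
theorem L223327 : sm ge N28773 = N24876 := ded_15_2 (flp_b L193383) (flp_e L193369) L223323
theorem L223329 : sm gb N24875 = N28774 := rfl
theorem L223331 : sm gd N28774 = N25089 := ded_14_2 (flp_b L195123) (flp_d L193377) L223329
theorem L223333 : sm ge N28774 = N24877 := ded_15_2 (flp_b L193387) (flp_e L193379) L223329
theorem L223335 : sm gf N28774 = N25666 := ded_16_2 (flp_b L201058) (flp_f L193907) L161136 L193373 L223329
theorem L223337 : sm ga N27576 = N28774 := ded_9_3 L223331 (flp_a L195127) (flp_d L213471)
theorem L223339 : sm gc N25661 = N28774 := ded_28_6 L223331 (flp_a L195127) (flp_c L182739) (flp_d L169353) (flp_c L117307) (flp_d L116569) L168136 L199114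
theorem L223341 : sm ga N24876 = N28775 := rfl
theorem L223343 : sm gd N28775 = N24879 := ded_9_2 (flp_a L193395) (flp_d L193385) L223341
theorem L223345 : sm gc N28775 = N27950 := ded_28_0 L216555 (flp_c L209255) L178009 L178080 (flp_d L190585) L190583 (flp_d L193385) L223341
theorem L223347 : sm gb N27952 = N28775 := ded_14_3 L223343 L217194 L217188
theorem L223349 : sm gc N24876 = N28776 := rfl
theorem L223351 : sm ga N28776 = N27950 := ded_8_1 (flp_c L223345) (flp_a L223341) L223349
theorem L223353 : sm gf N24876 = N28777 := rfl
theorem L223355 : sm gd N28777 = N24880 := ded_23_1 (flp_f L193399) (flp_d L193385) L223353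
theorem L223357 : sm gb N28777 = N28652 := ded_16_1 (flp_f L222042) (flp_b L192729) L160820 L193383 L223353
theorem L223359 : sm ga N24877 = N28778 := rfl
theorem L223361 : sm gd N28778 = N24881 := ded_9_2 (flp_a L193405) (flp_d L193389) L223359
theorem L223363 : sm ge N28778 = N27576 := ded_10_2 L223337 L223333 L223359
theorem L223365 : sm gb N27565 = N28778 := ded_14_3 L223361 (flp_b L193409) (flp_d L213389)
theorem L223367 : sm gc N24877 = N28779 := rfl
theorem L223369 : sm ge N28779 = N25661 := ded_19_2 L223339 L223333 L223367
theorem L223371 : sm gf N28779 = N25667 := ded_20_2 L201062 L193927 L223367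
theorem L223373 : sm gg N24880 = N28780 := rfl
theorem L223375 : sm ga N28780 = N28287 := ded_12_1 (flp_g L220914) L220916 L223373
theorem L223377 : sm gc N28780 = N28194 := ded_21_1 (flp_g L219346) L219340 L223373
theorem L223379 : sm ge N28780 = N25077 := ded_26_1 L195017 (flp_e L193401) L223373
theorem L223381 : sm gf N28284 = N28780 := ded_29_0 (flp_g L223373) (flp_f L193399) (flp_g L190565) (flp_a L219294)
theorem L223383 : sm gb N28780 = N26285 := ded_17_1 L203293 L193519 (flp_g L193315) (flp_b L193403) L223373
theorem L223385 : sm gg N24882 = N28781 := rfl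
theorem L223387 : sm gc N28781 = N28068 := ded_21_1 L217500 (flp_c L212537) L223385
theorem L223389 : sm ge N28781 = N25095 := ded_26_1 (flp_g L195173) (flp_e L193413) L223385
theorem L223391 : sm gf N28063 = N28781 := ded_29_0 (flp_g L223385) (flp_f L193411) L193415 (flp_a L217444)
theorem L223393 : sm gb N28781 = N27737 := ded_17_1 (flp_g L214691) L214683 L217152 L217150 L223385
theorem L223395 : sm gf N24883 = N28782 := rfl
theorem L223397 : sm ga N28782 = N28781 := ded_11_1 (flp_f L223391) L217444 L223395
theorem L223399 : sm gc N28782 = N28067 := ded_20_1 (flp_f L217488) L213437 L223395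
theorem L223401 : sm ge N28782 = N25096 := ded_25_1 (flp_f L195183) (flp_e L193417) L223395
theorem L223403 : sm gg N28782 = N26067 := ded_29_3 (flp_a L201758) (flp_f L193411) L193415 L223395
theorem L223405 : sm gc N24884 = N28783 := rfl
theorem L223407 : sm ga N28783 = N26884 := ded_8_1 (flp_c L220696) L220700 L223405
theorem L223409 : sm ge N28783 = N25097 := ded_19_2 (flp_c L195191) (flp_e L193421) L223405
theorem L223411 : sm gf N28783 = N26427 := ded_20_2 (flp_c L204231) (flp_f L193423) L223405
theorem L223413 : sm gd N28783 = N26883 := ded_28_7 L208005 (flp_c L176127) (flp_d L124123) (flp_c L123311) L175234 L206392 L204319 L223405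
theorem L223415 : sm gg N26914 = N28783 := ded_12_0 L223407 L220518 L220512
theorem L223417 : sm gg N24884 = N28784 := rfl
theorem L223419 : sm ga N28784 = N28687 := ded_12_1 L222357 L220700 L223417
theorem L223421 : sm gc N28784 = N26914 := ded_21_1 L223415 (flp_c L223405) L223417
theorem L223423 : sm ge N28784 = N25098 := ded_26_1 (flp_g L195201) (flp_e L193421) L223417
theorem L223425 : sm gf N26913 = N28784 := ded_29_0 (flp_g L223417) L193423 L204241 (flp_a L208281)
theorem L223427 : sm gb N28784 = N27739 := ded_17_1 (flp_g L214717) (flp_b L193391) (flp_g L160868) L193419 L223417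
theorem L223429 : sm gc N24885 = N28785 := rfl
theorem L223431 : sm ga N28785 = N27603 := ded_8_1 (flp_c L217460) L217456 L223429
theorem L223433 : sm ge N28785 = N24890 := ded_19_2 (flp_c L193455) (flp_e L193429) L223429
theorem L223435 : sm gf N24885 = N28786 := rfl
theorem L223437 : sm gd N28786 = N25105 := ded_23_1 (flp_f L195269) (flp_d L193427) L223435
theorem L223439 : sm ge N28786 = N24891 := ded_25_1 (flp_f L193459) (flp_e L193429) L223435
theorem L223441 : sm gb N24886 = N28787 := rfl
theorem L223443 : sm ge N28787 = N24893 := ded_15_2 (flp_b L193469) (flp_e L193435) L223441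
theorem L223445 : sm gd N24886 = N28788 := rfl
theorem L223447 : sm ga N28788 = N24887 := ded_9_1 (flp_d L193437) (flp_a L193433) L223445
theorem L223449 : sm gg N28788 = N27945 := ded_24_2 L216513 L213409 L223445
theorem L223451 : sm gc N24887 = N28789 := rfl
theorem L223453 : sm gd N28789 = N28729 := ded_28_7 L223044 (flp_c L195273) (flp_d L162758) (flp_c L112736) (flp_d L111261) L160876 L193437 L223451
theorem L223455 : sm gg N28727 = N28789 := ded_24_0 L223453 (flp_g L223042) (flp_d L223034)
theorem L223457 : sm ge N24887 = N28790 := rfl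
theorem L223459 : sm gd N28790 = N24895 := ded_22_1 (flp_e L193479) (flp_d L160904) (flp_e L160878) L193437 L223457
theorem L223461 : sm gg N24887 = N28791 := rfl
theorem L223463 : sm ga N28791 = N27945 := ded_12_1 (flp_g L223449) L223447 L223461
theorem L223465 : sm gc N28791 = N28727 := ded_21_1 L223455 (flp_c L223451) L223461
theorem L223467 : sm gd N28791 = N24888 := ded_24_1 (flp_g L193439) L193437 L223461
theorem L223469 : sm gf N28725 = N28791 := ded_20_0 L223465 (flp_f L223030) L223024
theorem L223471 : sm gb N24888 = N28792 := rfl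
theorem L223473 : sm ge N28792 = N24897 := ded_15_2 (flp_b L193485) (flp_e L193443) L223471
theorem L223475 : sm gc N28792 = N26273 := ded_13_2 (flp_b L203227) L170664 (flp_b L160886) (flp_c L193441) L223471
theorem L223477 : sm gf N24888 = N28793 := rfl
theorem L223479 : sm ga N28793 = N25075 := ded_11_1 (flp_f L213407) L213403 L223477
theorem L223481 : sm gc N28793 = N24889 := ded_20_1 (flp_f L193445) (flp_c L193441) L223477
theorem L223483 : sm gd N28793 = N28725 := ded_23_1 L223469 L223467 L223477
theorem L223485 : sm ge N28793 = N24898 := ded_25_1 (flp_f L193489) (flp_e L193443) L223477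
theorem L223487 : sm gg N28793 = N28665 := ded_29_3 L222134 L192769 L193439 L223477
theorem L223489 : sm gb N24889 = N28794 := rfl
theorem L223491 : sm gd N28794 = N25074 := ded_14_2 (flp_b L194987) (flp_d L193449) L223489
theorem L223493 : sm ge N28794 = N24899 := ded_15_2 (flp_b L193497) (flp_e L193451) L223489
theorem L223495 : sm gf N28794 = N26278 := ded_16_2 (flp_b L203247) (flp_f L170678) (flp_b L160886) L193445 L223489
theorem L223497 : sm ga N27404 = N28794 := ded_9_3 L223491 (flp_a L194993) (flp_d L212295)
theorem L223499 : sm gb N24890 = N28795 := rfl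
theorem L223501 : sm gc N28795 = N24893 := ded_13_2 (flp_b L193469) (flp_c L160892) L160888 L193455 L223499
theorem L223503 : sm gf N24890 = N28796 := rfl
theorem L223505 : sm ga N28796 = N27604 := ded_11_1 (flp_f L213667) (flp_a L193457) L223503
theorem L223507 : sm gc N28796 = N24891 := ded_20_1 (flp_f L193459) L193455 L223503
theorem L223509 : sm gg N24890 = N28797 := rfl
theorem L223511 : sm ga N28797 = N27605 := ded_12_1 (flp_g L213671) (flp_a L193457) L223509
theorem L223513 : sm gc N28797 = N24892 := ded_21_1 (flp_g L193463) L193455 L223509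
theorem L223515 : sm gf N24892 = N28798 := rfl
theorem L223517 : sm ga N28798 = N27940 := ded_11_1 (flp_f L217480) L217474 L223515
theorem L223519 : sm gd N28798 = N24900 := ded_23_1 (flp_f L193503) (flp_d L193465) L223515
theorem L223521 : sm gg N28798 = N28065 := ded_29_3 L217466 (flp_f L193459) L193463 L223515
theorem L223523 : sm ga N24893 = N28799 := rfl
theorem L223525 : sm gf N24893 = N28800 := rfl
theorem L223527 : sm gg N24893 = N28801 := rfl
theorem L223529 : sm gg N24895 = N28802 := rfl
theorem L223531 : sm ge N28802 = N24896 := ded_26_1 (flp_g L193481) L193479 L223529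
theorem L223533 : sm gf N24896 = N28803 := rfl
theorem L223535 : sm ga N28803 = N28675 := ded_11_1 (flp_f L222200) L221748 L223533
theorem L223537 : sm gc N28803 = N28744 := ded_20_1 (flp_f L223126) L221744 L223533
theorem L223539 : sm gd N28803 = N24898 := ded_23_1 (flp_f L193489) (flp_d L193483) L223533
theorem L223541 : sm gg N28803 = N28672 := ded_29_3 L222174 L192793 L193481 L223533
theorem L223543 : sm gb N24898 = N28804 := rfl
theorem L223545 : sm ga N24899 = N28805 := rfl
theorem L223547 : sm gd N28805 = N24901 := ded_9_2 (flp_a L193513) (flp_d L193499) L223545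
theorem L223549 : sm ge N28805 = N27404 := ded_10_2 L223497 L223493 L223545
theorem L223551 : sm gf N28805 = N26279 := ded_11_2 (flp_a L203253) (flp_f L193501) L223545
theorem L223553 : sm gb N28805 = N27403 := ded_7_2 L212287 L196925 (flp_a L197111) L222253 (flp_a L222243) (flp_b L192799) (flp_a L160912) L193497 L223545
theorem L223555 : sm gc N24899 = N28806 := rfl
theorem L223557 : sm gf N28806 = N26280 := ded_20_2 (flp_c L203257) (flp_f L193501) L223555
theorem L223559 : sm gg N24899 = N28807 := rfl
theorem L223561 : sm gd N28807 = N24903 := ded_24_1 (flp_g L193529) (flp_d L193499) L223559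
theorem L223563 : sm gb N28807 = N28670 := ded_17_1 (flp_g L222162) (flp_b L192781) (flp_g L160916) L193497 L223559
theorem L223565 : sm gc N24901 = N28808 := rfl
theorem L223567 : sm ga N28808 = N24902 := ded_8_1 (flp_c L193521) L193513 L223565
theorem L223569 : sm ge N28808 = N25107 := ded_19_2 (flp_c L195279) (flp_e L193515) L223565
theorem L223571 : sm gf N28808 = N26282 := ded_20_2 (flp_c L203265) (flp_f L193517) L223565
theorem L223573 : sm gb N28808 = N27831 := ded_13_1 L215623 L185955 (flp_c L183885) (flp_b L193519) L223565
theorem L223575 : sm gg N24902 = N28809 := rfl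
theorem L223577 : sm gc N28809 = N24903 := ded_21_1 (flp_g L193529) L193521 L223575
theorem L223579 : sm gd N28809 = N27006 := ded_24_1 L209515 (flp_d L209517) L223575
theorem L223581 : sm ge N28809 = N25109 := ded_26_1 (flp_g L195293) (flp_e L193523) L223575
theorem L223583 : sm gb N28809 = N27007 := ded_17_1 (flp_g L219124) L221840 (flp_g L221832) (flp_b L193527) L223575
theorem L223585 : sm gg N24905 = N28810 := rfl
theorem L223587 : sm ga N28810 = N25423 := ded_12_1 L197729 L193553 L223585
theorem L223589 : sm gc N28810 = N27308 := ded_21_1 (flp_g L211585) (flp_c L193551) L223585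
theorem L223591 : sm gd N28810 = N25422 := ded_24_1 L197723 (flp_d L193549) L223585
theorem L223593 : sm ge N28810 = N28438 := ded_26_1 (flp_g L220412) L193557 L223585
theorem L223595 : sm gf N28531 = N28810 := ded_29_0 (flp_g L223585) (flp_f L193555) L221574 L221576
theorem L223597 : sm gg N24906 = N28811 := rfl
theorem L223599 : sm ga N28811 = N24919 := ded_12_1 (flp_g L193649) (flp_a L193561) L223597
theorem L223601 : sm gc N28811 = N24909 := ded_21_1 (flp_g L193581) (flp_c L193565) L223597
theorem L223603 : sm gd N28811 = N28434 := ded_24_1 (flp_g L220390) (flp_d L193567) L223597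
theorem L223605 : sm ge N28811 = N24908 := ded_26_1 (flp_g L193575) L193559 L223597
theorem L223607 : sm gb N24908 = N28812 := rfl
theorem L223609 : sm gc N24910 = N28813 := rfl
theorem L223611 : sm ga N28813 = N27182 := ded_8_1 L210625 L193597 L223609
theorem L223613 : sm ge N28813 = N27178 := ded_19_2 L210593 (flp_e L193593) L223609
theorem L223615 : sm gf N28813 = N28416 := ded_20_2 (flp_c L220242) (flp_f L193595) L223609
theorem L223617 : sm ga N24911 = N28814 := rfl
theorem L223619 : sm gd N28814 = N24912 := ded_9_2 (flp_a L193603) (flp_d L193601) L223617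
theorem L223621 : sm ge N28814 = N28409 := ded_10_2 (flp_a L221054) L221060 L223617
theorem L223623 : sm gg N28814 = N26249 := ded_12_2 (flp_a L210321) L210325 L223617
theorem L223625 : sm gc N28410 = N28814 := ded_19_3 L223621 L220200 (flp_e L220206)
theorem L223627 : sm gc N24911 = N28815 := rfl
theorem L223629 : sm ga N28815 = N28410 := ded_8_1 L223625 (flp_a L223617) L223627
theorem L223631 : sm ge N28815 = N28407 := ded_19_2 (flp_c L221056) L221060 L223627
theorem L223633 : sm gg N28815 = N28406 := ded_21_2 L220180 L210325 L223627
theorem L223635 : sm gf N24911 = N28816 := rfl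
theorem L223637 : sm gd N28816 = N24913 := ded_23_1 (flp_f L193611) (flp_d L193601) L223635
theorem L223639 : sm gg N28623 = N28816 := ded_29_1 (flp_f L223635) (flp_g L210325) L210321 (flp_f L221804)
theorem L223641 : sm gf N24912 = N28817 := rfl
theorem L223643 : sm ga N28817 = N24913 := ded_11_1 (flp_f L193611) L193603 L223641
theorem L223645 : sm gc N28817 = N26239 := ded_20_1 (flp_f L203043) (flp_c L193605) L223641
theorem L223647 : sm ge N28817 = N26610 := ded_25_1 (flp_f L205723) (flp_e L193607) L223641
theorem L223649 : sm gg N28817 = N27149 := ded_29_3 L210331 L192539 (flp_g L193609) L223641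
theorem L223651 : sm gb N28817 = N28717 := ded_16_1 (flp_f L222964) (flp_b L200095) L200111 L200119 L223641
theorem L223653 : sm gg N24914 = N28818 := rfl
theorem L223655 : sm ga N28818 = N28433 := ded_12_1 (flp_g L220380) (flp_a L193619) L223653
theorem L223657 : sm gc N28818 = N27204 := ded_21_1 L210801 (flp_c L193623) L223653
theorem L223659 : sm gd N28818 = N28432 := ded_24_1 (flp_g L220374) L193625 L223653
theorem L223661 : sm ge N28818 = N24916 := ded_26_1 (flp_g L193631) L193617 L223653
theorem L223663 : sm gf N27203 = N28818 := ded_29_0 (flp_g L223653) (flp_f L210779) L210781 (flp_a L210789)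
theorem L223665 : sm gg N24915 = N28819 := rfl
theorem L223667 : sm gc N28819 = N25889 := ded_21_1 L200523 L200453 L223665
theorem L223669 : sm gd N28819 = N24921 := ded_24_1 (flp_g L193663) (flp_d L193629) L223665
theorem L223671 : sm ge N28819 = N26126 := ded_26_1 (flp_g L210781) L210777 L223665
theorem L223673 : sm gf N25885 = N28819 := ded_29_0 (flp_g L223665) (flp_f L193627) L193631 (flp_a L200481)
theorem L223675 : sm gb N24916 = N28820 := rfl
theorem L223677 : sm gd N28820 = N24922 := ded_14_2 (flp_b L193669) (flp_d L193633) L223675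
theorem L223679 : sm gg N28820 = N28700 := ded_17_2 (flp_b L222459) (flp_g L193009) (flp_b L160992) L193631 L223675
theorem L223681 : sm gf N24916 = N28821 := rfl
theorem L223683 : sm ga N28821 = N28819 := ded_11_1 (flp_f L223673) L200481 L223681
theorem L223685 : sm gc N28821 = N25887 := ded_20_1 (flp_f L200503) L200463 L223681
theorem L223687 : sm gd N28821 = N24923 := ded_23_1 (flp_f L193675) (flp_d L193633) L223681
theorem L223689 : sm ge N28821 = N27203 := ded_25_1 L223663 L223661 L223681
theorem L223691 : sm gg N28821 = N25884 := ded_29_3 L200469 (flp_f L193627) L193631 L223681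
theorem L223693 : sm gc N24917 = N28822 := rfl
theorem L223695 : sm ga N28822 = N27886 := ded_8_1 L216099 (flp_a L193637) L223693
theorem L223697 : sm ge N28822 = N24920 := ded_19_2 L193657 (flp_e L193641) L223693
theorem L223699 : sm gb N28822 = N24918 := ded_13_1 L193645 L161014 L193015 (flp_b L193639) L223693
theorem L223701 : sm gd N28822 = N24918 := ded_28_7 (flp_a L207471) (flp_c L207469) (flp_d L175372) L123446 (flp_d L111333) (flp_c L160998) L193635 L223693
theorem L223703 : sm gf N28822 = N24917 := ded_30_0 L223693 L223699 (flp_a L207471) L207475 L193565 (flp_b L178641) L178639 L129966 (flp_c L116893) L116891 (flp_a L110775) L160094 L160098 (flp_b L156348) L156346 (flp_f L155846) (flp_c L187063) (flp_b L216097) (flp_a L223695)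
theorem L223705 : sm gg N24917 = N28823 := rfl
theorem L223707 : sm ga N28823 = N28434 := ded_12_1 (flp_g L220390) (flp_a L193637) L223705
theorem L223709 : sm gd N28823 = N24919 := ded_24_1 (flp_g L193649) L193635 L223705
theorem L223711 : sm ge N28823 = N28432 := ded_26_1 (flp_g L220374) (flp_e L193641) L223705
theorem L223713 : sm gg N24918 = N28824 := rfl
theorem L223715 : sm gc N28824 = N24924 := ded_21_1 (flp_g L193683) (flp_c L193645) L223713
theorem L223717 : sm ge N28824 = N24921 := ded_26_1 (flp_g L193663) (flp_e L193647) L223713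
theorem L223719 : sm gf N28811 = N28824 := ded_29_0 (flp_g L223713) (flp_f L193643) L193649 (flp_a L223599)
theorem L223721 : sm gb N24919 = N28825 := rfl
theorem L223723 : sm ge N28825 = N24922 := ded_15_2 (flp_b L193669) (flp_e L193653) L223721
theorem L223725 : sm gc N28825 = N25940 := ded_13_2 L200912 L169311 (flp_b L161022) (flp_c L193651) L223721
theorem L223727 : sm gg N28825 = N28703 := ded_17_2 (flp_b L222485) (flp_g L193027) (flp_b L160996) L193649 L223721
theorem L223729 : sm gf N24919 = N28826 := rfl
theorem L223731 : sm ga N28826 = N28824 := ded_11_1 (flp_f L223719) L223599 L223729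
theorem L223733 : sm gc N28826 = N24925 := ded_20_1 (flp_f L193691) (flp_c L193651) L223729
theorem L223735 : sm ge N28826 = N24923 := ded_25_1 (flp_f L193675) (flp_e L193653) L223729
theorem L223737 : sm gg N28826 = N26817 := ded_29_3 L207471 (flp_f L193643) L193649 L223729
theorem L223739 : sm gb N24921 = N28827 := rfl
theorem L223741 : sm ga N24922 = N28828 := rfl
theorem L223743 : sm gc N28828 = N25938 := ded_8_2 (flp_a L200904) (flp_c L193671) L223741
theorem L223745 : sm gg N28828 = N28706 := ded_12_2 (flp_a L222503) (flp_g L193673) L223741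
theorem L223747 : sm gf N24922 = N28829 := rfl
theorem L223749 : sm gc N28829 = N25941 := ded_20_1 (flp_f L200914) (flp_c L193671) L223747
theorem L223751 : sm gb N24923 = N28830 := rfl
theorem L223753 : sm gb N24925 = N28831 := rfl
theorem L223755 : sm gd N28831 = N26613 := ded_14_2 L205751 (flp_d L193695) L223753
theorem L223757 : sm ge N28831 = N24927 := ded_15_2 (flp_b L193707) (flp_e L193697) L223753
theorem L223759 : sm gf N28831 = N25947 := ded_16_2 (flp_b L200942) (flp_f L169319) (flp_b L161022) L193691 L223753
theorem L223761 : sm ga N28831 = N28641 := ded_7_1 L221956 (flp_a L221980) (flp_b L221988) L212997 (flp_b L212965) L202742 (flp_b L202705) (flp_a L193693) L223753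
theorem L223763 : sm gc N28640 = N28831 := ded_8_0 L223761 (flp_c L221954) L221950
theorem L223765 : sm ga N24926 = N28832 := rfl
theorem L223767 : sm gc N28832 = N26991 := ded_8_2 L209003 L202709 L223765
theorem L223769 : sm gd N28832 = N24928 := ded_9_2 (flp_a L193713) (flp_d L193703) L223765
theorem L223771 : sm ge N28832 = N26199 := ded_10_2 L202742 (flp_e L202707) L223765
theorem L223773 : sm gg N28832 = N28711 := ded_12_2 (flp_a L222914) (flp_g L193705) L223765
theorem L223775 : sm gf N24926 = N28833 := rfl
theorem L223777 : sm gd N28833 = N24929 := ded_23_1 (flp_f L193719) (flp_d L193703) L223775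
theorem L223779 : sm gb N28833 = N28816 := ded_16_1 (flp_f L223635) (flp_b L193599) L161028 L193701 L223775
theorem L223781 : sm ga N24927 = N28834 := rfl
theorem L223783 : sm gd N28834 = N24930 := ded_9_2 (flp_a L193725) (flp_d L193709) L223781
theorem L223785 : sm ge N28834 = N28641 := ded_10_2 (flp_a L223761) L223757 L223781
theorem L223787 : sm gf N28834 = N25948 := ded_11_2 (flp_a L200948) (flp_f L193711) L223781
theorem L223789 : sm gb N27959 = N28834 := ded_14_3 L223783 (flp_b L193731) (flp_d L216639)
theorem L223791 : sm gc N28639 = N28834 := ded_19_3 L223785 (flp_c L221954) (flp_e L221948)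
theorem L223793 : N26172 = N25936 := coi_30_14 (flp_b L200892) L169285 L169315 L169317 L169325 L200948 (flp_f L223787) (flp_c L223791) (flp_b L221946) L192643 (flp_f L160442) L111013 L92901 (flp_a L93003) (flp_f L96788) L96786 (flp_b L96572) (flp_a L118049) (flp_f L170294) (flp_c L202547)
theorem L223794 : N26172 = N25936 := eqc rfl L223793 rfl
theorem L223795 : sm ga N25936 = N21724 := trfs L223794 L202545 rfl
theorem L223797 : sm gc N25936 = N21721 := trfs L223794 L202547 rfl
theorem L223799 : sm ge N25936 = N21720 := trfs L223794 (flp_e L202543) rfl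
theorem L223801 : sm gf N25936 = N21767 := trfs L223794 L202549 rfl
theorem L223803 : sm gg N25936 = N26274 := trfs L223794 (flp_g L203239) rfl
theorem L223805 : sm ga N26179 = N25652 := ded_9_3 (flp_d L200894) L223795 L202577
theorem L223807 : N26167 = N25931 := coi_13_2 (flp_c L200864) L169269 L169283 L200892 L223797 (flp_b L202515)
theorem L223808 : N26167 = N25931 := eqc rfl L223807 rfl
theorem L223809 : sm gb N25931 = N21721 := trfs L223808 L202515 rfl
theorem L223811 : sm gd N25931 = N22374 := trfs L223808 L202517 rfl
theorem L223813 : sm ge N25931 = N21717 := trfs L223808 (flp_e L202513) rfl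
theorem L223815 : N26171 = N25937 := coi_15_2 (flp_e L200896) L200892 L223799 L202539
theorem L223816 : N26171 = N25937 := eqc rfl L223815 rfl
theorem L223817 : sm gb N25937 = N21720 := trfs L223816 (flp_b L202539) rfl
theorem L223819 : sm gd N25937 = N25757 := trfs L223816 L202541 rfl
theorem L223821 : sm gf N26244 = N25652 := ded_23_2 (flp_d L200894) L223801 L203065
theorem L223823 : sm gf N26241 = N26046 := ded_16_2 (flp_b L201608) (flp_f L169661) L200892 L223801 (flp_b L203055)
theorem L223825 : sm gb N26274 = N26012 := ded_17_1 (flp_g L201424) (flp_b L169561) (flp_g L169287) L200892 L223803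
theorem L223827 : N26166 = N25932 := coi_19_2 (flp_e L200866) L200864 L223813 L202511
theorem L223828 : N26166 = N25932 := eqc rfl L223827 rfl
theorem L223829 : sm gc N25932 = N21717 := trfs L223828 (flp_c L202511) rfl
theorem L223831 : sm gb N26242 = N26043 := ded_16_5 (flp_f L201602) L223817 L170286 L170576 L203057
theorem L223833 : sm gg N26277 = N26010 := ded_17_4 L201418 (flp_g L200902) L223817 (flp_g L170676) L203245
theorem L223835 : sm ga N25757 = N25944 := ded_9_1 (flp_d L200930) (flp_a L200898) L223819
theorem L223837 : sm gg N25757 = N26013 := ded_24_2 (flp_d L201428) (flp_g L200902) L223819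
theorem L223839 : sm ge N26046 = N26242 := ded_25_1 (flp_f L203057) L203053 L223823
theorem L223841 : sm ge N26012 = N26277 := ded_15_2 (flp_b L203245) (flp_e L203237) L223825
theorem L223843 : sm gc N24927 = N28835 := rfl
theorem L223845 : sm ga N28835 = N28639 := ded_8_1 L223791 (flp_a L223781) L223843
theorem L223847 : sm ge N28835 = N28640 := ded_19_2 L223763 L223757 L223843
theorem L223849 : sm gf N28835 = N25949 := ded_20_2 (flp_c L200952) (flp_f L193711) L223843
theorem L223851 : sm gg N24927 = N28836 := rfl
theorem L223853 : sm gd N28836 = N24932 := ded_24_1 (flp_g L193741) (flp_d L193709) L223851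
theorem L223855 : sm gb N28836 = N28425 := ded_17_1 L220324 (flp_b L193589) (flp_g L161036) L193707 L223851
theorem L223857 : sm gd N24931 = N28837 := rfl
theorem L223859 : sm gb N28837 = N25912 := ded_14_1 (flp_d L200713) (flp_b L193739) L223857
theorem L223861 : sm gf N28837 = N25954 := ded_23_2 (flp_d L200986) (flp_f L193737) L223857
theorem L223863 : sm gg N28837 = N25154 := ded_24_2 (flp_d L201660) L201668 L223857
theorem L223865 : sm ge N28837 = N25155 := ded_22_2 L195719 (flp_e L195685) L195683 (flp_e L193735) L223857
theorem L223867 : sm gf N24934 = N28838 := rfl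
theorem L223869 : sm ga N28838 = N25457 := ded_11_1 L197909 L193765 L223867
theorem L223871 : sm gc N28838 = N27398 := ded_20_1 (flp_f L212241) (flp_c L193763) L223867
theorem L223873 : sm gd N28838 = N25456 := ded_23_1 L197901 (flp_d L193761) L223867
theorem L223875 : sm ge N28838 = N28492 := ded_25_1 (flp_f L220842) L193769 L223867
theorem L223877 : sm gg N28838 = N28556 := ded_29_3 (flp_a L222012) (flp_f L222010) L193767 L223867
theorem L223879 : sm gf N24935 = N28839 := rfl
theorem L223881 : sm ga N28839 = N24947 := ded_11_1 (flp_f L193859) (flp_a L193773) L223879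
theorem L223883 : sm gc N28839 = N24938 := ded_20_1 (flp_f L193793) (flp_c L193777) L223879
theorem L223885 : sm gd N28839 = N28488 := ded_23_1 (flp_f L220820) (flp_d L193779) L223879
theorem L223887 : sm ge N28839 = N24936 := ded_25_1 (flp_f L193781) L193771 L223879
theorem L223889 : sm gb N24936 = N28840 := rfl
theorem L223891 : sm ga N24939 = N28841 := rfl
theorem L223893 : sm gd N28841 = N24941 := ded_9_2 (flp_a L193815) (flp_d L193803) L223891
theorem L223895 : sm ge N28841 = N28380 := ded_10_2 (flp_a L220640) L220646 L223891
theorem L223897 : sm gf N28841 = N26018 := ded_11_2 (flp_a L210409) L210413 L223891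
theorem L223899 : sm gc N28381 = N28841 := ded_19_3 L223895 L219984 (flp_e L219990)
theorem L223901 : sm gc N24939 = N28842 := rfl
theorem L223903 : sm ga N28842 = N28381 := ded_8_1 L223899 (flp_a L223891) L223901
theorem L223905 : sm ge N28842 = N28378 := ded_19_2 (flp_c L220642) L220646 L223901
theorem L223907 : sm gf N28842 = N28377 := ded_20_2 L219964 L210413 L223901
theorem L223909 : sm gg N24939 = N28843 := rfl
theorem L223911 : sm gd N28843 = N24942 := ded_24_1 (flp_g L193823) (flp_d L193803) L223909
theorem L223913 : sm gf N28843 = N28680 := ded_29_2 L222285 (flp_a L210409) L210413 L223909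
theorem L223915 : sm gc N24940 = N28844 := rfl
theorem L223917 : sm ga N28844 = N27194 := ded_8_1 L210721 L193813 L223915
theorem L223919 : sm ge N28844 = N27190 := ded_19_2 L210689 (flp_e L193809) L223915
theorem L223921 : sm gg N28844 = N28470 := ded_21_2 (flp_c L220672) (flp_g L193811) L223915
theorem L223923 : sm gg N24941 = N28845 := rfl
theorem L223925 : sm ga N28845 = N24942 := ded_12_1 (flp_g L193823) L193815 L223923
theorem L223927 : sm gc N28845 = N26008 := ded_21_1 (flp_g L201406) (flp_c L193817) L223923
theorem L223929 : sm ge N28845 = N26660 := ded_26_1 (flp_g L206118) (flp_e L193819) L223923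
theorem L223931 : sm gf N27158 = N28845 := ded_29_0 (flp_g L223923) L193821 (flp_g L192861) (flp_a L210419)
theorem L223933 : sm gb N28845 = N28782 := ded_17_1 L223403 (flp_b L201752) L201770 (flp_b L201780) L223923
theorem L223935 : sm gf N24943 = N28846 := rfl
theorem L223937 : sm ga N28846 = N28487 := ded_11_1 (flp_f L220810) (flp_a L193831) L223935
theorem L223939 : sm gc N28846 = N27216 := ded_20_1 (flp_f L210885) (flp_c L193835) L223935
theorem L223941 : sm gd N28846 = N28486 := ded_23_1 (flp_f L220804) L193837 L223935
theorem L223943 : sm ge N28846 = N24944 := ded_25_1 (flp_f L193843) L193829 L223935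
theorem L223945 : sm gg N28846 = N27215 := ded_29_3 L210873 (flp_f L210863) L210865 L223935
theorem L223947 : sm gb N24944 = N28847 := rfl
theorem L223949 : sm gd N28847 = N24949 := ded_14_2 (flp_b L193871) (flp_d L193845) L223947
theorem L223951 : sm gf N28847 = N28764 := ded_16_2 (flp_b L223273) (flp_f L193319) (flp_b L161106) L193843 L223947
theorem L223953 : sm gg N24944 = N28848 := rfl
theorem L223955 : sm gc N28848 = N26125 := ded_21_1 L202174 L202130 L223953
theorem L223957 : sm gd N28848 = N24950 := ded_24_1 (flp_g L193877) (flp_d L193845) L223953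
theorem L223959 : sm ge N28848 = N27215 := ded_26_1 (flp_g L223945) L223943 L223953
theorem L223961 : sm gf N26124 = N28848 := ded_29_0 (flp_g L223953) (flp_f L193843) L193847 (flp_a L202156)
theorem L223963 : sm gf N24945 = N28849 := rfl
theorem L223965 : sm ga N28849 = N28848 := ded_11_1 (flp_f L223961) L202156 L223963
theorem L223967 : sm gc N28849 = N25890 := ded_20_1 (flp_f L202144) L202138 L223963
theorem L223969 : sm gd N28849 = N24952 := ded_23_1 (flp_f L193891) (flp_d L193849) L223963
theorem L223971 : sm ge N28849 = N25891 := ded_25_1 (flp_f L210863) L210861 L223963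
theorem L223973 : sm gg N28849 = N26123 := ded_29_3 L202148 (flp_f L193843) L193847 L223963
theorem L223975 : sm gc N24946 = N28850 := rfl
theorem L223977 : sm ga N28850 = N27914 := ded_8_1 L216297 (flp_a L193853) L223975
theorem L223979 : sm ge N28850 = N24951 := ded_19_2 L193885 (flp_e L193857) L223975
theorem L223981 : sm gb N28850 = N24948 := ded_13_1 L193867 L161136 L193329 (flp_b L193855) L223975
theorem L223983 : sm gd N28850 = N24948 := ded_28_7 (flp_a L207756) (flp_c L207754) (flp_d L175795) L123882 (flp_d L111397) (flp_c L161112) L193851 L223975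
theorem L223985 : sm gg N24946 = N28850 := ded_12_0 L223977 L216299 (flp_a L193853)
theorem L223987 : sm gf N24946 = N28851 := rfl
theorem L223989 : sm ga N28851 = N28488 := ded_11_1 (flp_f L220820) (flp_a L193853) L223987
theorem L223991 : sm gd N28851 = N24947 := ded_23_1 (flp_f L193859) L193851 L223987
theorem L223993 : sm ge N28851 = N28486 := ded_25_1 (flp_f L220804) (flp_e L193857) L223987
theorem L223995 : sm gb N24947 = N28852 := rfl
theorem L223997 : sm ge N28852 = N24949 := ded_15_2 (flp_b L193871) (flp_e L193863) L223995
theorem L223999 : sm gc N28852 = N26175 := ded_13_2 L202559 L170310 (flp_b L161128) (flp_c L193861) L223995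
theorem L224001 : sm gf N28852 = N28767 := ded_16_2 (flp_b L223299) (flp_f L193341) (flp_b L161110) L193859 L223995
theorem L224003 : sm gg N24947 = N28853 := rfl
theorem L224005 : sm gc N28853 = N24953 := ded_21_1 (flp_g L193899) (flp_c L193861) L224003
theorem L224007 : sm ge N28853 = N24950 := ded_26_1 (flp_g L193877) (flp_e L193863) L224003
theorem L224009 : sm gf N26852 = N28853 := ded_29_0 (flp_g L224003) (flp_f L193859) L193865 (flp_a L207756)
theorem L224011 : sm gf N24948 = N28854 := rfl
theorem L224013 : sm ga N28854 = N28853 := ded_11_1 (flp_f L224009) L207756 L224011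
theorem L224015 : sm gc N28854 = N24954 := ded_20_1 (flp_f L193907) (flp_c L193867) L224011
theorem L224017 : sm ge N28854 = N24952 := ded_25_1 (flp_f L193891) (flp_e L193869) L224011
theorem L224019 : sm gg N28854 = N28839 := ded_29_3 L223881 (flp_f L193859) L193865 L224011
theorem L224021 : sm ga N24949 = N28855 := rfl
theorem L224023 : sm gc N28855 = N26173 := ded_8_2 (flp_a L202551) (flp_c L193873) L224021
theorem L224025 : sm gf N28855 = N28769 := ded_11_2 (flp_a L223315) (flp_f L193875) L224021
theorem L224027 : sm gg N24949 = N28856 := rfl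
theorem L224029 : sm gc N28856 = N26177 := ded_21_1 (flp_g L202567) (flp_c L193873) L224027
theorem L224031 : sm gb N24950 = N28857 := rfl
theorem L224033 : sm gb N24952 = N28858 := rfl
theorem L224035 : sm gb N24953 = N28859 := rfl
theorem L224037 : sm gd N28859 = N26758 := ded_14_2 L206992 (flp_d L193901) L224035
theorem L224039 : sm ge N28859 = N24955 := ded_15_2 (flp_b L193917) (flp_e L193903) L224035
theorem L224041 : sm gg N28859 = N26182 := ded_17_2 (flp_b L202589) (flp_g L170318) (flp_b L161128) L193899 L224035
theorem L224043 : sm ga N28859 = N28582 := ded_7_1 L221500 (flp_a L221534) (flp_b L221540) L213499 (flp_b L213467) L201095 (flp_b L201058) L193909 L224035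
theorem L224045 : sm gc N28581 = N28859 := ded_8_0 L224043 (flp_c L221498) L221494
theorem L224047 : sm ga N24955 = N28860 := rfl
theorem L224049 : sm gd N28860 = N24957 := ded_9_2 (flp_a L193929) (flp_d L193919) L224047
theorem L224051 : sm ge N28860 = N28582 := ded_10_2 (flp_a L224043) L224039 L224047
theorem L224053 : sm gg N28860 = N26183 := ded_12_2 (flp_a L202595) (flp_g L193921) L224047
theorem L224055 : sm gb N28031 = N28860 := ded_14_3 L224049 (flp_b L193935) (flp_d L217212)
theorem L224057 : sm gc N28580 = N28860 := ded_19_3 L224051 (flp_c L221498) (flp_e L221492)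
theorem L224059 : sm gc N24955 = N28861 := rfl
theorem L224061 : sm ga N28861 = N28580 := ded_8_1 L224057 (flp_a L224047) L224059
theorem L224063 : sm ge N28861 = N28581 := ded_19_2 L224045 L224039 L224059
theorem L224065 : sm gg N28861 = N26184 := ded_21_2 (flp_c L202599) (flp_g L193921) L224059
theorem L224067 : sm gf N24955 = N28862 := rfl
theorem L224069 : sm gd N28862 = N24959 := ded_23_1 (flp_f L193945) (flp_d L193919) L224067
theorem L224071 : sm gb N28862 = N28478 := ded_16_1 (flp_f L220744) (flp_b L193805) L161142 L193917 L224067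
theorem L224073 : sm ga N24956 = N28863 := rfl
theorem L224075 : sm gc N28863 = N27000 := ded_8_2 L209075 L201062 L224073
theorem L224077 : sm gd N28863 = N24960 := ded_9_2 (flp_a L193951) (flp_d L193925) L224073
theorem L224079 : sm ge N28863 = N25964 := ded_10_2 L201095 (flp_e L201060) L224073
theorem L224081 : sm gf N28863 = N28778 := ded_11_2 (flp_a L223359) (flp_f L193927) L224073
theorem L224083 : sm gg N24956 = N28864 := rfl
theorem L224085 : sm gd N28864 = N24961 := ded_24_1 (flp_g L193957) (flp_d L193925) L224083
theorem L224087 : sm gb N28864 = N28843 := ded_17_1 (flp_g L223909) (flp_b L193801) (flp_g L161150) L193923 L224083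
theorem L224089 : sm gd N24958 = N28865 := rfl
theorem L224091 : sm gb N28865 = N26147 := ded_14_1 (flp_d L202354) (flp_b L193943) L224089
theorem L224093 : sm gf N28865 = N25122 := ded_23_2 (flp_d L203297) L203303 L224089
theorem L224095 : sm gg N28865 = N26189 := ded_24_2 (flp_d L202633) (flp_g L193941) L224089
theorem L224097 : sm ge N28865 = N25123 := ded_22_2 L195434 (flp_e L195400) L195398 (flp_e L193939) L224089
theorem L224099 : sm gg N24962 = N28866 := rfl
theorem L224101 : sm ga N28866 = N26741 := ded_12_1 L206837 L205183 L224099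
theorem L224103 : sm gc N28866 = N26983 := ded_21_1 (flp_g L208931) (flp_c L193967) L224099
theorem L224105 : sm ge N28866 = N24963 := ded_26_1 (flp_g L193971) L193963 L224099
theorem L224107 : sm gf N27199 = N28866 := ded_29_0 (flp_g L224099) L193969 (flp_g L202184) (flp_a L210751)
theorem L224109 : sm gf N24964 = N28867 := rfl
theorem L224111 : sm ga N28867 = N26590 := ded_11_1 (flp_f L206540) L206534 L224109
theorem L224113 : sm gc N28867 = N26984 := ded_20_1 (flp_f L208941) (flp_c L193985) L224109
theorem L224115 : sm ge N28867 = N24965 := ded_25_1 (flp_f L193989) L193981 L224109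
theorem L224117 : sm gg N28867 = N27201 := ded_29_3 L210767 L200543 (flp_g L193987) L224109
theorem L224119 : sm gb N24970 = N28868 := rfl
theorem L224121 : sm ge N28868 = N24971 := ded_15_2 (flp_b L194049) (flp_e L194045) L224119
theorem L224123 : sm ga N28868 = N26844 := ded_7_1 (flp_b L207682) (flp_a L175653) L207690 (flp_a L207696) L181307 (flp_a L181325) (flp_b L181331) (flp_a L194041) L224119
theorem L224125 : sm gg N24981 = N28869 := rfl
theorem L224127 : sm ga N28869 = N26644 := ded_12_1 (flp_g L218208) L218210 L224125
theorem L224129 : sm gc N28869 = N28187 := ded_21_1 L218384 L218308 L224125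
theorem L224131 : sm gd N28869 = N28189 := ded_24_1 (flp_g L218400) (flp_d L194139) L224125
theorem L224133 : sm gf N26645 = N28869 := ded_29_0 (flp_g L224125) L194141 L188759 L205984
theorem L224135 : sm gb N28869 = N26709 := ded_17_1 (flp_g L206524) L194153 (flp_g L194143) L194137 L224125
theorem L224137 : sm gb N24989 = N28870 := rfl
theorem L224139 : sm ge N28870 = N24990 := ded_15_2 (flp_b L194211) (flp_e L194207) L224137
theorem L224141 : sm ga N28870 = N26880 := ded_7_1 (flp_b L207977) L176047 L207967 (flp_a L207973) L181825 (flp_a L181843) (flp_b L181849) (flp_a L194203) L224137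
theorem L224143 : sm gf N25000 = N28871 := rfl
theorem L224145 : sm ga N28871 = N26785 := ded_11_1 (flp_f L218310) L218312 L224143
theorem L224147 : sm gc N28871 = N28177 := ded_20_1 L218280 L218206 L224143
theorem L224149 : sm gd N28871 = N28191 := ded_23_1 (flp_f L218416) (flp_d L194311) L224143
theorem L224151 : sm gg N28871 = N26786 := ded_29_3 (flp_a L207201) (flp_f L188915) (flp_g L194313) L224143
theorem L224153 : sm gb N28871 = N26816 := ded_16_1 (flp_f L207461) L194325 (flp_f L194315) L194309 L224143
theorem L224155 : sm gc N25007 = N28872 := rfl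
theorem L224157 : sm ga N28872 = N25008 := ded_8_1 (flp_c L194372) L194366 L224155
theorem L224159 : sm ge N28872 = N25010 := ded_19_2 (flp_c L194386) (flp_e L194368) L224155
theorem L224161 : sm gg N28872 = N26202 := ded_21_2 (flp_c L202766) (flp_g L194370) L224155
theorem L224163 : sm gd N28872 = N26204 := ded_28_7 (flp_a L215932) L215934 (flp_d L187551) (flp_c L192607) (flp_d L221882) L221880 L221510 L224155
theorem L224165 : sm gf N25201 = N28872 := ded_30_0 (flp_c L224155) L210989 L210983 (flp_f L209447) L209435 L209441 (flp_a L209457) L209493 L209489 L178707 (flp_a L189001) L196616 (flp_c L196608) (flp_b L165740) (flp_a L126718) (flp_f L126716) (flp_c L114159) (flp_b L165057) (flp_a L196121)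
theorem L224167 : sm gf N25007 = N28873 := rfl
theorem L224169 : sm ga N28873 = N25009 := ded_11_1 (flp_f L194378) L194366 L224167
theorem L224171 : sm gc N28873 = N25201 := ded_20_1 L224165 (flp_c L224155) L224167
theorem L224173 : sm ge N28873 = N25011 := ded_25_1 (flp_f L194396) (flp_e L194368) L224167
theorem L224175 : sm gg N28873 = N27522 := ded_29_3 (flp_a L218640) (flp_f L218638) (flp_g L194370) L224167
theorem L224177 : sm gb N25010 = N28874 := rfl
theorem L224179 : sm gd N28874 = N25203 := ded_14_2 (flp_b L196133) (flp_d L194392) L224177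
theorem L224181 : sm gc N28874 = N28198 := ded_13_2 L218472 L209339 (flp_b L183233) L194386 L224177
theorem L224183 : sm gf N28874 = N28207 := ded_16_2 L218556 L215050 L196109 L194394 L224177
theorem L224185 : sm gg N28874 = N28196 := ded_17_2 L218460 L215512 L202756 (flp_g L194390) L224177
theorem L224187 : sm ga N28874 = N28210 := ded_7_1 L218576 (flp_a L209319) (flp_b L178159) L129107 (flp_b L128639) (flp_a L172946) L172949 (flp_a L194388) L224177
theorem L224189 : sm gg N25013 = N28875 := rfl
theorem L224191 : sm ga N28875 = N28595 := ded_12_1 (flp_g L221606) (flp_a L194418) L224189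
theorem L224193 : sm gc N28875 = N28579 := ded_21_1 (flp_g L221480) L194426 L224189
theorem L224195 : sm gd N28875 = N25014 := ded_24_1 (flp_g L194428) L194416 L224189
theorem L224197 : sm ge N28875 = N27313 := ded_26_1 (flp_g L211625) (flp_e L194424) L224189
theorem L224199 : sm gf N25298 = N28875 := ded_29_0 (flp_g L224189) L194422 L211617 L211619
theorem L224201 : sm gc N25028 = N28876 := rfl
theorem L224203 : sm ga N28876 = N25029 := ded_8_1 (flp_c L194565) L194559 L224201
theorem L224205 : sm ge N28876 = N25031 := ded_19_2 (flp_c L194579) (flp_e L194561) L224201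
theorem L224207 : sm gf N28876 = N25967 := ded_20_2 (flp_c L201119) (flp_f L194563) L224201
theorem L224209 : sm gd N28876 = N25969 := ded_28_7 (flp_a L215977) L215979 (flp_d L187609) (flp_c L192297) (flp_d L221428) (flp_c L221966) L221968 L224201
theorem L224211 : sm gg N25249 = N28876 := ded_12_0 L224203 (flp_g L194569) (flp_a L196542)
theorem L224213 : sm gg N25028 = N28877 := rfl
theorem L224215 : sm ga N28877 = N25030 := ded_12_1 (flp_g L194571) L194559 L224213
theorem L224217 : sm gc N28877 = N25249 := ded_21_1 L224211 (flp_c L224201) L224213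
theorem L224219 : sm ge N28877 = N25032 := ded_26_1 (flp_g L194589) (flp_e L194561) L224213
theorem L224221 : sm gf N27598 = N28877 := ded_29_0 (flp_g L224213) L194563 L218870 L218872
theorem L224223 : sm gb N25031 = N28878 := rfl
theorem L224225 : sm gd N28878 = N25252 := ded_14_2 (flp_b L196559) (flp_d L194585) L224223
theorem L224227 : sm gc N28878 = N28210 := ded_13_2 L218576 L209321 (flp_b L183315) L194579 L224223
theorem L224229 : sm gf N28878 = N28208 := ded_16_2 L218564 L215560 L201109 (flp_f L194583) L224223
theorem L224231 : sm gg N28878 = N28195 := ded_17_2 L218452 L215297 L196526 L194587 L224223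
theorem L224233 : sm ga N28878 = N28198 := ded_7_1 L218472 (flp_a L209337) (flp_b L178217) L129173 (flp_b L128651) (flp_a L174443) L174446 (flp_a L194581) L224223
theorem L224235 : sm gf N25034 = N28879 := rfl
theorem L224237 : sm ga N28879 = N28652 := ded_11_1 (flp_f L222042) (flp_a L194611) L224235
theorem L224239 : sm gc N28879 = N28638 := ded_20_1 (flp_f L221936) L194619 L224235
theorem L224241 : sm gd N28879 = N25035 := ded_23_1 (flp_f L194621) L194609 L224235
theorem L224243 : sm ge N28879 = N27406 := ded_25_1 (flp_f L212303) (flp_e L194617) L224235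
theorem L224245 : sm gg N28879 = N25299 := ded_29_3 (flp_a L212287) (flp_f L212285) (flp_g L194615) L224235
theorem L224247 : sm ga N25055 = N28880 := rfl
theorem L224249 : sm ge N28880 = N25057 := ded_10_2 (flp_a L194827) (flp_e L194817) L224247
theorem L224251 : sm gf N28880 = N27586 := ded_11_2 (flp_a L219214) L219220 L224247
theorem L224253 : sm gb N28880 = N27364 := ded_7_2 (flp_a L211987) (flp_b L181417) (flp_a L145412) L182367 L194793 (flp_b L194789) (flp_a L162299) L194815 L224247
theorem L224255 : sm gc N27587 = N28880 := ded_19_3 L224249 L194833 (flp_e L213547)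
theorem L224257 : sm gc N25055 = N28881 := rfl
theorem L224259 : sm ga N28881 = N27587 := ded_8_1 L224255 (flp_a L224247) L224257
theorem L224261 : sm ge N28881 = N25058 := ded_19_2 (flp_c L194837) (flp_e L194817) L224257
theorem L224263 : sm gf N28881 = N27585 := ded_20_2 (flp_c L219218) L219220 L224257
theorem L224265 : sm gg N28881 = N25105 := ded_21_2 L211671 L211669 L224257
theorem L224267 : sm gb N28881 = N27094 := ded_13_1 L209895 L194787 L194779 L194815 L224257
theorem L224269 : sm gc N25060 = N28882 := rfl
theorem L224271 : sm ga N28882 = N27125 := ded_8_1 (flp_c L218758) L218754 L224269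
theorem L224273 : sm ge N28882 = N25061 := ded_19_2 (flp_c L194865) (flp_e L194863) L224269
theorem L224275 : sm gf N28882 = N28228 := ded_20_2 L218758 L210135 L224269
theorem L224277 : sm gb N28882 = N28866 := ded_13_1 L224103 L208939 L181563 L194861 L224269
theorem L224279 : sm gg N27329 = N28882 := ded_26_0 L224273 (flp_g L194875) (flp_e L211747)
theorem L224281 : sm gg N25060 = N28883 := rfl
theorem L224283 : sm gc N28883 = N27329 := ded_21_1 L224279 (flp_c L224269) L224281
theorem L224285 : sm ge N28883 = N25062 := ded_26_1 (flp_g L194877) (flp_e L194863) L224281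
theorem L224287 : sm gf N28883 = N27329 := ded_29_2 L224279 L224271 L210135 L224281
theorem L224289 : sm gb N28883 = N27328 := ded_17_1 L211779 (flp_b L211781) L194801 L194861 L224281
theorem L224291 : sm gd N25072 = N28884 := rfl
theorem L224293 : sm gf N25073 = N28885 := rfl
theorem L224295 : sm ga N28885 = N27511 := ded_11_1 (flp_f L218768) L218764 L224293
theorem L224297 : sm gc N28885 = N25088 := ded_20_1 (flp_f L212337) L212335 L224293
theorem L224299 : sm ge N28885 = N25078 := ded_25_1 (flp_f L195021) (flp_e L194985) L224293
theorem L224301 : sm gg N28885 = N27509 := ded_29_3 (flp_a L213029) L182327 L194983 L224293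
theorem L224303 : sm gb N28885 = N27068 := ded_16_1 (flp_f L209689) L181331 L211813 L211823 L224293
theorem L224305 : sm gb N25075 = N28886 := rfl
theorem L224307 : sm ge N28886 = N28676 := ded_15_2 (flp_b L222237) (flp_e L194997) L224305
theorem L224309 : sm gd N25075 = N28887 := rfl
theorem L224311 : sm ga N28887 = N28725 := ded_9_1 (flp_d L223483) L223479 L224309
theorem L224313 : sm gf N28887 = N27945 := ded_23_2 L216513 L213407 L224309
theorem L224315 : sm gg N28887 = N28666 := ded_24_2 (flp_d L222140) (flp_g L194999) L224309
theorem L224317 : sm gc N28724 = N28887 := ded_28_0 (flp_d L224309) (flp_c L194995) (flp_d L162446) (flp_c L112492) (flp_d L111145) L160680 L193121 (flp_a L223020)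
theorem L224319 : sm gd N25079 = N28888 := rfl
theorem L224321 : sm ga N28888 = N25080 := ded_9_1 (flp_d L195041) (flp_a L195035) L224319
theorem L224323 : sm gb N28888 = N27839 := ded_14_1 L215695 (flp_b L195039) L224319
theorem L224325 : sm gg N28888 = N26705 := ded_24_2 (flp_d L206484) (flp_g L195037) L224319
theorem L224327 : sm ga N25088 = N28889 := rfl
theorem L224329 : sm gc N28889 = N27511 := ded_8_2 (flp_a L224295) L224297 L224327
theorem L224331 : sm ge N28889 = N25090 := ded_10_2 (flp_a L195129) (flp_e L195121) L224327
theorem L224333 : sm gg N28889 = N27510 := ded_12_2 (flp_a L219318) L219326 L224327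
theorem L224335 : sm gb N28889 = N27452 := ded_7_2 (flp_a L212623) (flp_b L181925) (flp_a L145632) L182735 L195127 (flp_b L195123) L162617 L195119 L224327
theorem L224337 : sm gc N25092 = N28890 := rfl
theorem L224339 : sm ga N28890 = N27132 := ded_8_1 (flp_c L218968) L218964 L224337
theorem L224341 : sm ge N28890 = N25093 := ded_19_2 (flp_c L195151) (flp_e L195149) L224337
theorem L224343 : sm gg N28890 = N28250 := ded_21_2 L218968 L210185 L224337
theorem L224345 : sm gb N28890 = N28867 := ded_13_1 L224113 L208949 L182055 L195147 L224337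
theorem L224347 : sm gf N27418 = N28890 := ded_25_0 L224341 L195161 (flp_e L212393)
theorem L224349 : sm gf N25092 = N28891 := rfl
theorem L224351 : sm gc N28891 = N27418 := ded_20_1 L224347 (flp_c L224337) L224349
theorem L224353 : sm ge N28891 = N25094 := ded_25_1 (flp_f L195163) (flp_e L195149) L224349
theorem L224355 : sm gg N27418 = N28891 := ded_29_1 (flp_f L224349) (flp_g L210185) (flp_a L224339) (flp_f L224347)
theorem L224357 : sm gb N28891 = N27417 := ded_16_1 (flp_f L212435) (flp_b L212437) L195105 L195147 L224349
theorem L224359 : sm gd N25104 = N28892 := rfl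
theorem L224361 : sm gb N25106 = N28893 := rfl
theorem L224363 : sm ge N28893 = N28619 := ded_15_2 (flp_b L221764) (flp_e L195275) L224361
theorem L224365 : sm gd N25106 = N28894 := rfl
theorem L224367 : sm ga N28894 = N28789 := ded_9_1 L223453 L223044 L224365
theorem L224369 : sm gf N28894 = N28609 := ded_23_2 (flp_d L221710) (flp_f L195277) L224365
theorem L224371 : sm gg N28894 = N27941 := ded_24_2 L216487 L212907 L224365
theorem L224373 : sm gc N28788 = N28894 := ded_28_0 (flp_d L224365) (flp_c L195273) (flp_d L162758) (flp_c L112736) (flp_d L111261) L160876 L193437 (flp_a L223447)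
theorem L224375 : sm gd N25107 = N28895 := rfl
theorem L224377 : sm ga N28895 = N25108 := ded_9_1 (flp_d L195287) (flp_a L195281) L224375
theorem L224379 : sm gb N28895 = N27837 := ded_14_1 L215679 (flp_b L195285) L224375
theorem L224381 : sm gf N28895 = N26812 := ded_23_2 (flp_d L207421) (flp_f L195283) L224375
theorem L224383 : sm gc N25114 = N28896 := rfl
theorem L224385 : sm ga N28896 = N27110 := ded_8_1 L210007 (flp_a L195356) L224383
theorem L224387 : sm ge N28896 = N25116 := ded_19_2 (flp_c L195372) (flp_e L195352) L224383
theorem L224389 : sm gf N28896 = N27108 := ded_20_2 (flp_c L209991) L195358 L224383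
theorem L224391 : sm gg N28896 = N25126 := ded_21_2 (flp_c L195460) (flp_g L195354) L224383
theorem L224393 : sm gb N28896 = N27460 := ded_13_1 (flp_c L212673) (flp_b L195332) L195326 L195348 L224383
theorem L224395 : sm gb N25117 = N28897 := rfl
theorem L224397 : sm gd N28897 = N28185 := ded_14_2 L218362 L207182 L224395
theorem L224399 : sm ge N28897 = N25119 := ded_15_2 (flp_b L195406) (flp_e L195386) L224395
theorem L224401 : sm gc N28897 = N25183 := ded_13_2 L195964 L164855 (flp_b L163031) L195382 L224395
theorem L224403 : sm gf N28897 = N25182 := ded_16_2 L195950 L188865 L188729 (flp_f L195388) L224395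
theorem L224405 : sm gg N28897 = N25275 := ded_17_2 L196749 L194500 L194492 (flp_g L195390) L224395
theorem L224407 : sm ga N28897 = N25274 := ded_7_1 L196739 (flp_a L186773) (flp_b L207425) L207423 L175318 L163497 (flp_b L163039) (flp_a L195384) L224395
theorem L224409 : sm gd N25119 = N28898 := rfl
theorem L224411 : sm gb N28898 = N25120 := ded_14_1 (flp_d L195412) L195406 L224409
theorem L224413 : sm gf N28898 = N26520 := ded_23_2 L208507 L208505 L224409
theorem L224415 : sm gg N28898 = N26511 := ded_24_2 L204861 (flp_g L195410) L224409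
theorem L224417 : sm gc N28898 = N26512 := ded_28_6 L204865 (flp_a L204873) L204875 (flp_d L176183) L176181 (flp_d L164961) (flp_c L195408) L224409
theorem L224419 : sm ge N25120 = N28899 := rfl
theorem L224421 : sm ga N28899 = N25122 := ded_10_1 (flp_e L195426) (flp_a L195414) L224419
theorem L224423 : sm gg N28899 = N25131 := ded_26_2 (flp_e L195494) (flp_g L195416) L224419
theorem L224425 : sm ge N25121 = N28900 := rfl
theorem L224427 : sm gb N28900 = N27249 := ded_15_1 L211103 (flp_b L195422) L224425
theorem L224429 : sm gc N28900 = N25122 := ded_19_1 (flp_e L195426) L195418 L224425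
theorem L224431 : sm gg N28900 = N25135 := ded_26_2 (flp_e L195534) (flp_g L195420) L224425
theorem L224433 : sm gd N25126 = N28901 := rfl
theorem L224435 : sm gb N28901 = N26907 := ded_14_1 (flp_d L208213) (flp_b L195464) L224433
theorem L224437 : sm gc N25127 = N28902 := rfl
theorem L224439 : sm gf N28902 = N27278 := ded_20_2 (flp_c L211328) (flp_f L195470) L224437
theorem L224441 : sm ge N25130 = N28903 := rfl
theorem L224443 : sm ga N28903 = N25135 := ded_10_1 (flp_e L195534) (flp_a L195486) L224441
theorem L224445 : sm gb N28903 = N26804 := ded_15_1 L207355 (flp_b L195488) L224441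
theorem L224447 : sm gc N28903 = N25131 := ded_19_1 (flp_e L195494) L195484 L224441
theorem L224449 : sm gf N28903 = N27519 := ded_25_2 L213095 L195492 L224441
theorem L224451 : sm ge N25133 = N28904 := rfl
theorem L224453 : sm ga N28904 = N27236 := ded_10_1 L211009 L195518 L224451
theorem L224455 : sm gb N28904 = N25135 := ded_15_1 (flp_e L195534) L195512 L224451
theorem L224457 : sm gc N28904 = N25142 := ded_19_1 (flp_e L195590) (flp_c L195514) L224451
theorem L224459 : sm gf N28904 = N27788 := ded_25_2 (flp_e L215203) L195520 L224451
theorem L224461 : sm ge N25134 = N28905 := rfl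
theorem L224463 : sm ga N28905 = N27463 := ded_10_1 L212695 (flp_a L195524) L224461
theorem L224465 : sm gb N28905 = N27599 := ded_15_1 L213635 (flp_b L195526) L224461
theorem L224467 : sm gc N28905 = N27151 := ded_19_1 (flp_e L210351) L195530 L224461
theorem L224469 : sm gf N28905 = N27460 := ded_25_2 L212677 L195532 L224461
theorem L224471 : sm gg N28905 = N27234 := ded_26_2 L210995 (flp_g L195528) L224461
theorem L224473 : sm gd N25135 = N28906 := rfl
theorem L224475 : sm gf N25135 = N28907 := rfl
theorem L224477 : sm ga N28907 = N27519 := ded_11_1 (flp_f L224449) L224443 L224475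
theorem L224479 : sm gc N28907 = N25137 := ded_20_1 (flp_f L195546) (flp_c L195536) L224475
theorem L224481 : sm ge N28907 = N25136 := ded_25_1 (flp_f L195538) L195534 L224475
theorem L224483 : sm gg N25137 = N28908 := rfl
theorem L224485 : sm ga N28908 = N28865 := ded_12_1 L224095 L202635 L224483
theorem L224487 : sm gd N28908 = N27926 := ded_24_1 L216381 (flp_d L202621) L224483
theorem L224489 : sm ge N28908 = N25138 := ded_26_1 (flp_g L195552) (flp_e L195548) L224483
theorem L224491 : sm gf N28899 = N28908 := ded_29_0 (flp_g L224483) (flp_f L195546) (flp_g L195430) (flp_a L224421)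
theorem L224493 : sm gb N28908 = N27925 := ded_17_1 (flp_g L216367) (flp_b L208443) (flp_g L208441) (flp_b L195550) L224483
theorem L224495 : sm ge N25139 = N28909 := rfl
theorem L224497 : sm ga N28909 = N27251 := ded_10_1 L211117 (flp_a L195564) L224495
theorem L224499 : sm gb N28909 = N25164 := ded_15_1 (flp_e L195791) (flp_b L195566) L224495
theorem L224501 : sm gc N28909 = N25140 := ded_19_1 (flp_e L195572) L195562 L224495
theorem L224503 : sm gg N28909 = N27763 := ded_26_2 (flp_e L214964) L195570 L224495
theorem L224505 : sm gc N25147 = N28910 := rfl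
theorem L224507 : sm ga N28910 = N27085 := ded_8_1 L209813 (flp_a L195653) L224505
theorem L224509 : sm ge N28910 = N25148 := ded_19_2 (flp_c L195657) (flp_e L195649) L224505
theorem L224511 : sm gf N28910 = N25157 := ded_20_2 (flp_c L195739) (flp_f L195651) L224505
theorem L224513 : sm gg N28910 = N27082 := ded_21_2 (flp_c L209789) L195655 L224505
theorem L224515 : sm gb N28910 = N27373 := ded_13_1 (flp_c L212045) (flp_b L195643) L195637 L195645 L224505
theorem L224517 : sm gb N25149 = N28911 := rfl
theorem L224519 : sm gd N28911 = N28175 := ded_14_2 L218260 L205965 L224517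
theorem L224521 : sm ge N28911 = N25151 := ded_15_2 (flp_b L195691) (flp_e L195671) L224517
theorem L224523 : sm gc N28911 = N25230 := ded_13_2 L196363 L165468 (flp_b L164346) L195667 L224517
theorem L224525 : sm gf N28911 = N25287 := ded_16_2 L196851 L194693 L194685 (flp_f L195673) L224517
theorem L224527 : sm gg N28911 = N25229 := ded_17_2 L196349 (flp_g L188715) L188647 (flp_g L195675) L224517
theorem L224529 : sm ga N28911 = N25286 := ded_7_1 L196841 (flp_a L186803) (flp_b L206488) L206486 L173905 L163772 (flp_b L164354) (flp_a L195669) L224517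
theorem L224531 : sm gd N25151 = N28912 := rfl
theorem L224533 : sm gb N28912 = N25152 := ded_14_1 (flp_d L195697) L195691 L224531
theorem L224535 : sm gf N28912 = N26541 := ded_23_2 L205109 (flp_f L195695) L224531
theorem L224537 : sm gg N28912 = N26549 := ded_24_2 L208680 (flp_g L208678) L224531
theorem L224539 : sm gc N28912 = N26542 := ded_28_6 L205113 (flp_a L205121) L205123 (flp_d L176594) L176592 (flp_d L165582) (flp_c L195693) L224531
theorem L224541 : sm ge N25152 = N28913 := rfl
theorem L224543 : sm ga N28913 = N25154 := ded_10_1 (flp_e L195711) (flp_a L195699) L224541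
theorem L224545 : sm gf N28913 = N25162 := ded_25_2 (flp_e L195773) (flp_f L195701) L224541
theorem L224547 : sm ge N25153 = N28914 := rfl
theorem L224549 : sm gb N28914 = N27234 := ded_15_1 L210995 (flp_b L195707) L224547
theorem L224551 : sm gc N28914 = N25154 := ded_19_1 (flp_e L195711) L195703 L224547
theorem L224553 : sm gf N28914 = N25164 := ded_25_2 (flp_e L195791) (flp_f L195705) L224547
theorem L224555 : sm gd N25157 = N28915 := rfl
theorem L224557 : sm gb N28915 = N26924 := ded_14_1 (flp_d L208361) (flp_b L195743) L224555
theorem L224559 : sm gc N25158 = N28916 := rfl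
theorem L224561 : sm gg N28916 = N27303 := ded_21_2 (flp_c L211533) (flp_g L195749) L224559
theorem L224563 : sm ge N25161 = N28917 := rfl
theorem L224565 : sm ga N28917 = N25164 := ded_10_1 (flp_e L195791) (flp_a L195765) L224563
theorem L224567 : sm gb N28917 = N26694 := ded_15_1 L206398 (flp_b L195769) L224563
theorem L224569 : sm gc N28917 = N25162 := ded_19_1 (flp_e L195773) L195763 L224563
theorem L224571 : sm gg N28917 = N27595 := ded_26_2 L213601 (flp_g L195767) L224563
theorem L224573 : sm ge N25163 = N28918 := rfl
theorem L224575 : sm ga N28918 = N27377 := ded_10_1 L212077 (flp_a L195781) L224573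
theorem L224577 : sm gb N28918 = N27523 := ded_15_1 L213127 (flp_b L195783) L224573
theorem L224579 : sm gc N28918 = N27142 := ded_19_1 (flp_e L210263) L195787 L224573
theorem L224581 : sm gf N28918 = N27249 := ded_25_2 L211103 (flp_f L195785) L224573
theorem L224583 : sm gg N28918 = N27373 := ded_26_2 L212049 L195789 L224573
theorem L224585 : sm gd N25164 = N28919 := rfl
theorem L224587 : sm gg N25164 = N28920 := rfl
theorem L224589 : sm ga N28920 = N27595 := ded_12_1 (flp_g L224571) L224565 L224587
theorem L224591 : sm gc N28920 = N25166 := ded_21_1 (flp_g L195803) (flp_c L195793) L224587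
theorem L224593 : sm ge N28920 = N25165 := ded_26_1 (flp_g L195795) L195791 L224587
theorem L224595 : sm gf N25166 = N28921 := rfl
theorem L224597 : sm ga N28921 = N28837 := ded_11_1 L223861 L200988 L224595
theorem L224599 : sm gd N28921 = N27898 := ded_23_1 L216183 (flp_d L200974) L224595
theorem L224601 : sm ge N28921 = N25167 := ded_25_1 (flp_f L195809) (flp_e L195805) L224595
theorem L224603 : sm gg N28921 = N28913 := ded_29_3 L224543 L195715 L195803 L224595
theorem L224605 : sm gb N28921 = N27897 := ded_16_1 (flp_f L216169) (flp_b L208654) L208652 (flp_b L195807) L224595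
theorem L224607 : sm gf N25169 = N28922 := rfl
theorem L224609 : sm ga N28922 = N25278 := ded_11_1 L196769 L195834 L224607
theorem L224611 : sm ge N28922 = N25272 := ded_25_1 (flp_f L196719) (flp_e L195831) L224607
theorem L224613 : sm gg N28922 = N25278 := ded_29_3 (flp_a L224609) (flp_f L224607) L195833 L224607
theorem L224615 : sm ge N25178 = N28923 := rfl
theorem L224617 : sm ga N28923 = N27255 := ded_10_1 L211155 (flp_a L195910) L224615
theorem L224619 : sm gc N28923 = N28215 := ded_19_1 L218620 L195914 L224615
theorem L224621 : sm gf N28923 = N27803 := ded_25_2 L215351 (flp_f L195912) L224615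
theorem L224623 : sm gf N25179 = N28924 := rfl
theorem L224625 : sm ga N28924 = N25180 := ded_11_1 (flp_f L195926) L195916 L224623
theorem L224627 : sm gc N28924 = N27808 := ded_20_1 L215399 (flp_c L195918) L224623
theorem L224629 : sm gd N28924 = N27135 := ded_23_1 L210202 (flp_d L195920) L224623
theorem L224631 : sm ge N28924 = N28895 := ded_25_1 L224381 (flp_e L207427) L224623
theorem L224633 : sm gg N28924 = N27808 := ded_29_3 (flp_a L215395) (flp_f L195904) (flp_g L195922) L224623
theorem L224635 : sm gb N25184 = N28925 := rfl
theorem L224637 : sm gd N28925 = N26643 := ded_14_2 L205976 (flp_d L195970) L224635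
theorem L224639 : sm ge N28925 = N27818 := ded_15_2 (flp_b L215491) (flp_e L195972) L224635
theorem L224641 : sm gc N28925 = N25187 := ded_13_2 (flp_b L195994) L164819 (flp_b L164785) (flp_c L195968) L224635
theorem L224643 : sm gf N28925 = N25187 := ded_16_2 (flp_b L195994) (flp_f L164815) (flp_b L164777) L195966 L224635
theorem L224645 : sm gg N28925 = N26912 := ded_17_2 (flp_b L208268) (flp_g L176737) (flp_b L194715) (flp_g L195974) L224635
theorem L224647 : sm ga N28925 = N28925 := ded_7_1 (flp_b L224635) (flp_a L215469) (flp_b L215457) L185381 L154073 (flp_a L185381) L215457 L215469 L224635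
theorem L224648 : sm gf N25185 = N28926 := rfl
theorem L224650 : sm ga N28926 = N28189 := ded_11_1 (flp_f L218438) L218432 L224648
theorem L224652 : sm gc N28926 = N27824 := ded_20_1 L215552 L196561 L224648
theorem L224654 : sm gd N28926 = N26644 := ded_23_1 L205982 (flp_d L195978) L224648
theorem L224656 : sm ge N28926 = N25252 := ded_25_1 (flp_f L215552) L215550 L224648
theorem L224658 : sm gg N28926 = N28188 := ded_29_3 (flp_a L218388) (flp_f L218268) L218270 L224648
theorem L224660 : sm gb N28926 = N25242 := ded_16_1 (flp_f L196492) (flp_b L173506) (flp_f L164801) L195976 L224648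
theorem L224662 : sm gb N25194 = N28927 := rfl
theorem L224664 : sm gd N28927 = N26785 := ded_14_2 (flp_b L207195) (flp_d L196075) L224662
theorem L224666 : sm ge N28927 = N25203 := ded_15_2 (flp_b L196133) (flp_e L196077) L224662
theorem L224668 : sm gc N28927 = N27819 := ded_13_2 (flp_b L215498) (flp_c L185653) (flp_b L185613) (flp_c L196073) L224662
theorem L224670 : sm gf N28927 = N28190 := ded_16_2 L218414 L196065 (flp_b L196059) L196069 L224662
theorem L224672 : sm gg N28927 = N25233 := ded_17_2 (flp_b L196387) (flp_g L165414) L175013 (flp_g L196079) L224662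
theorem L224674 : sm ga N28927 = N28191 := ded_30_3 (flp_f L218416) (flp_c L208640) (flp_b L208636) L177316 (flp_f L125914) (flp_c L125908) (flp_b L125906) L139010 (flp_f L105941) L90093 L90107 (flp_a L139156) (flp_f L90131) L105993 L153672 (flp_a L166124) (flp_f L185615) (flp_c L196073) L224662
theorem L224676 : sm ge N25198 = N28928 := rfl
theorem L224678 : sm gb N28928 = N25201 := ded_15_1 (flp_e L196119) (flp_b L196109) L224676
theorem L224680 : sm gg N25198 = N28929 := rfl
theorem L224682 : sm ga N28929 = N27040 := ded_12_1 (flp_g L215092) L215090 L224680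
theorem L224684 : sm gc N28929 = N27039 := ded_21_1 (flp_g L215084) (flp_c L215086) L224680
theorem L224686 : sm gd N28929 = N25200 := ded_24_1 (flp_g L196117) L196107 L224680
theorem L224688 : sm gf N27771 = N28929 := ded_29_0 (flp_g L224680) (flp_f L215050) (flp_g L215046) L215042
theorem L224690 : sm gb N25200 = N28930 := rfl
theorem L224692 : sm gg N28930 = N25204 := ded_17_2 (flp_b L196141) (flp_g L165051) L165041 L196117 L224690
theorem L224694 : sm gg N25206 = N28931 := rfl
theorem L224696 : sm gd N28931 = N26967 := ded_24_1 (flp_g L208807) (flp_d L196150) L224694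
theorem L224698 : sm gb N25213 = N28932 := rfl
theorem L224700 : sm gd N28932 = N25214 := ded_14_2 (flp_b L196213) (flp_d L196209) L224698
theorem L224702 : sm gc N28932 = N27136 := ded_13_2 (flp_b L210206) L179595 (flp_b L176366) (flp_c L196207) L224698
theorem L224704 : sm gf N28932 = N27136 := ded_16_2 (flp_b L210206) (flp_f L179591) (flp_b L176354) L196211 L224698
theorem L224706 : sm ga N28932 = N28932 := ded_7_1 (flp_b L224698) L196205 (flp_b L165728) L165720 L129252 (flp_a L165720) L165728 (flp_a L196205) L224698
theorem L224707 : sm gg N25217 = N28933 := rfl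
theorem L224709 : sm ga N28933 = N25264 := ded_12_1 L196657 (flp_a L196243) L224707
theorem L224711 : sm gc N28933 = N28930 := ded_21_1 L224692 (flp_c L196240) L224707
theorem L224713 : sm ge N28933 = N25267 := ded_26_1 L196679 (flp_e L196238) L224707
theorem L224715 : sm gf N25264 = N28933 := ded_29_0 (flp_g L224707) L196242 L224707 L224709
theorem L224717 : sm gb N28933 = N28922 := ded_17_1 L224613 (flp_b L196765) (flp_g L165957) L196236 L224707
theorem L224719 : sm ge N25225 = N28934 := rfl
theorem L224721 : sm ga N28934 = N27240 := ded_10_1 L211047 (flp_a L196311) L224719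
theorem L224723 : sm gc N28934 = N28203 := ded_19_1 L218516 L196315 L224719
theorem L224725 : sm gg N28934 = N27812 := ded_26_2 L215439 (flp_g L196313) L224719
theorem L224727 : sm gg N25226 = N28935 := rfl
theorem L224729 : sm ga N28935 = N25227 := ded_12_1 (flp_g L196327) L196317 L224727
theorem L224731 : sm gc N28935 = N27817 := ded_21_1 L215487 (flp_c L196319) L224727
theorem L224733 : sm gd N28935 = N27133 := ded_24_1 L210193 (flp_d L196321) L224727
theorem L224735 : sm ge N28935 = N28888 := ded_26_1 L224325 (flp_e L206490) L224727
theorem L224737 : sm gf N27817 = N28935 := ded_29_0 (flp_g L224727) L196323 L196305 L215483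
theorem L224739 : sm gb N25232 = N28936 := rfl
theorem L224741 : sm gd N28936 = N26784 := ded_14_2 L207193 (flp_d L196381) L224739
theorem L224743 : sm ge N28936 = N27823 := ded_15_2 (flp_b L215537) (flp_e L196383) L224739
theorem L224745 : sm gc N28936 = N25235 := ded_13_2 (flp_b L196407) L165432 (flp_b L165394) (flp_c L196379) L224739
theorem L224747 : sm gf N28936 = N26889 := ded_16_2 (flp_b L208071) L176306 (flp_b L194522) L196385 L224739
theorem L224749 : sm gg N28936 = N25235 := ded_17_2 (flp_b L196407) (flp_g L165428) (flp_b L165386) L196377 L224739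
theorem L224751 : sm ga N28936 = N28936 := ded_7_1 (flp_b L224739) (flp_a L215381) (flp_b L215369) L185167 L153799 (flp_a L185167) L215369 L215381 L224739
theorem L224752 : sm ge N25246 = N28937 := rfl
theorem L224754 : sm gb N28937 = N25249 := ded_15_1 (flp_e L196540) (flp_b L196526) L224752
theorem L224756 : sm gf N25246 = N28938 := rfl
theorem L224758 : sm ga N28938 = N27037 := ded_11_1 (flp_f L214872) L214870 L224756
theorem L224760 : sm gc N28938 = N27036 := ded_20_1 (flp_f L214864) (flp_c L214866) L224756
theorem L224762 : sm gd N28938 = N25247 := ded_23_1 (flp_f L196528) L196524 L224756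
theorem L224764 : sm gg N28938 = N27796 := ded_29_3 (flp_a L215285) L215291 L215297 L224756
theorem L224766 : sm gb N25247 = N28939 := rfl
theorem L224768 : sm gc N28939 = N28922 := ded_13_2 (flp_b L224717) L224711 (flp_b L224690) (flp_c L196530) L224766
theorem L224770 : sm gf N28939 = N25251 := ded_16_2 (flp_b L196554) (flp_f L165676) L165670 L196528 L224766
theorem L224772 : sm gf N25254 = N28940 := rfl
theorem L224774 : sm gd N28940 = N26949 := ded_23_1 (flp_f L208634) (flp_d L196569) L224772
theorem L224776 : sm gb N25261 = N28941 := rfl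
theorem L224778 : sm gd N28941 = N25262 := ded_14_2 (flp_b L196638) (flp_d L196634) L224776
theorem L224780 : sm gc N28941 = N27134 := ded_13_2 (flp_b L210195) L179527 (flp_b L176789) (flp_c L196632) L224776
theorem L224782 : sm gg N28941 = N27134 := ded_17_2 (flp_b L210195) (flp_g L179523) (flp_b L176777) (flp_g L196636) L224776
theorem L224784 : sm ga N28941 = N28941 := ded_7_1 (flp_b L224776) L196630 L165764 L165090 L129329 (flp_a L165090) (flp_b L165764) (flp_a L196630) L224776
theorem L224785 : sm gc N25264 = N28942 := rfl
theorem L224787 : sm ga N28942 = N28930 := ded_8_1 (flp_c L224711) L224709 L224785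
theorem L224789 : sm ge N28942 = N25268 := ded_19_2 (flp_c L196683) (flp_e L196655) L224785
theorem L224791 : sm gf N28942 = N28930 := ded_20_2 (flp_c L224711) (flp_f L224715) L224785
theorem L224793 : sm gg N28942 = N27874 := ded_21_2 (flp_c L216003) (flp_g L196657) L224785
theorem L224795 : sm gb N28942 = N25273 := ded_13_1 (flp_c L196727) (flp_b L165869) (flp_c L165784) L196653 L224785
theorem L224797 : sm gc N25267 = N28943 := rfl
theorem L224799 : sm ga N28943 = N25268 := ded_8_1 (flp_c L196683) L196677 L224797
theorem L224801 : sm ge N28943 = N28930 := ded_19_2 (flp_c L224711) L224713 L224797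
theorem L224803 : sm gf N28943 = N25268 := ded_20_2 (flp_c L196683) (flp_f L196681) L224797
theorem L224805 : sm gg N28943 = N25284 := ded_21_2 (flp_c L196818) (flp_g L196679) L224797
theorem L224807 : sm gd N28261 = N28943 := ded_28_1 (flp_c L224797) L206809 (flp_c L206799) L174304 L174330 L206821 L206823 (flp_c L219068)
theorem L224809 : sm gb N28272 = N28943 := ded_30_18 L224799 (flp_f L224803) (flp_c L224797) (flp_b L196725) L196721 L165985 L186526 L186529 (flp_a L186720) L186809 L186805 L186684 (flp_a L157401) L157417 L172891 (flp_b L190305) (flp_a L196476) L219280 L219274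
theorem L224811 : sm gd N25268 = N28944 := rfl
theorem L224813 : sm ga N28944 = N28261 := ded_9_1 L224807 L224799 L224811
theorem L224815 : sm gb N28944 = N25276 := ded_14_1 (flp_d L196751) (flp_b L196687) L224811
theorem L224817 : sm gf N28944 = N28261 := ded_23_2 L224807 L224803 L224811
theorem L224819 : sm gg N28944 = N27876 := ded_24_2 (flp_d L216021) (flp_g L196685) L224811
theorem L224821 : sm gc N26740 = N28944 := ded_28_0 (flp_d L224811) (flp_c L196683) (flp_d L196673) (flp_c L206720) L206722 (flp_c L206743) L206745 (flp_a L206823)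
theorem L224823 : sm gf N25271 = N28945 := rfl
theorem L224825 : sm ga N28945 = N25281 := ded_11_1 L196793 (flp_a L196710) L224823
theorem L224827 : sm gc N28945 = N25272 := ded_20_1 (flp_f L196719) L196708 L224823
theorem L224829 : sm gd N28945 = N28239 := ded_23_1 (flp_f L218854) L196717 L224823
theorem L224831 : sm ge N28945 = N28939 := ded_25_1 L224770 (flp_e L196712) L224823
theorem L224833 : sm gg N28945 = N25281 := ded_29_3 (flp_a L224825) (flp_f L224823) L196714 L224823
theorem L224835 : sm gb N28945 = N28282 := ded_16_1 (flp_f L219280) (flp_b L196472) L165935 (flp_b L196715) L224823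
theorem L224837 : sm gd N25273 = N28946 := rfl
theorem L224839 : sm ga N28946 = N26511 := ded_9_1 L204861 (flp_a L196729) L224837
theorem L224841 : sm gf N28946 = N27804 := ded_23_2 (flp_d L215355) (flp_f L196733) L224837
theorem L224843 : sm gc N26510 = N28946 := ded_28_0 (flp_d L224837) (flp_c L196727) L165871 (flp_c L176161) L176163 L161715 (flp_d L172063) L204849
theorem L224845 : sm ge N25276 = N28947 := rfl
theorem L224847 : sm gc N25278 = N28948 := rfl
theorem L224849 : sm ga N28948 = N28939 := ded_8_1 L224768 L224609 L224847
theorem L224851 : sm ge N28948 = N25281 := ded_19_2 (flp_c L196791) (flp_e L196767) L224847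
theorem L224853 : sm gf N28948 = N27875 := ded_20_2 (flp_c L216012) (flp_f L196769) L224847
theorem L224855 : sm gg N28948 = N28939 := ded_21_2 L224768 L224613 L224847
theorem L224857 : sm gb N28948 = N25285 := ded_13_1 (flp_c L196829) (flp_b L166052) (flp_c L165953) L196765 L224847
theorem L224859 : sm gd N25281 = N28949 := rfl
theorem L224861 : sm ga N28949 = N28239 := ded_9_1 (flp_d L224829) L224825 L224859
theorem L224863 : sm gb N28949 = N25288 := ded_14_1 (flp_d L196853) (flp_b L196795) L224859
theorem L224865 : sm gf N28949 = N27877 := ded_23_2 (flp_d L216030) (flp_f L196793) L224859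
theorem L224867 : sm gg N28949 = N28239 := ded_24_2 (flp_d L224829) L224833 L224859
theorem L224869 : sm gc N26586 = N28949 := ded_28_0 (flp_d L224859) (flp_c L196791) (flp_d L196787) (flp_c L205401) L205403 (flp_c L205426) L205428 (flp_a L205508)
theorem L224871 : sm gd N25285 = N28950 := rfl
theorem L224873 : sm ga N28950 = N26541 := ded_9_1 L205109 (flp_a L196831) L224871
theorem L224875 : sm gg N28950 = N27813 := ded_24_2 (flp_d L215443) (flp_g L196835) L224871
theorem L224877 : sm gc N26540 = N28950 := ded_28_0 (flp_d L224871) (flp_c L196829) L166054 (flp_c L176582) L176584 L161464 (flp_d L172368) L205097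
theorem L224879 : sm ge N25288 = N28951 := rfl
theorem L224881 : sm gg N25291 = N28952 := rfl
theorem L224883 : sm gd N28952 = N26127 := ded_24_1 L202184 (flp_d L196877) L224881
theorem L224885 : sm ge N28952 = N25292 := ded_26_1 (flp_g L196879) L196873 L224881
theorem L224887 : sm gb N26140 = N28952 := ded_14_3 L224883 L202186 L202296
theorem L224889 : sm gb N25292 = N28953 := rfl
theorem L224891 : sm gd N28953 = N25293 := ded_14_2 (flp_b L196883) (flp_d L196881) L224889
theorem L224893 : sm ge N28953 = N26140 := ded_15_2 L224887 L224885 L224889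
theorem L224895 : sm gc N28953 = N27515 := ded_13_2 (flp_b L213067) (flp_c L213059) L219380 L219376 L224889
theorem L224897 : sm gf N28953 = N25993 := ded_16_2 L201322 L201340 (flp_b L202052) L202054 L224889
theorem L224899 : sm ga N26318 = N28953 := ded_9_3 L224891 (flp_a L196891) (flp_d L203509)
theorem L224901 : sm gf N25295 = N28954 := rfl
theorem L224903 : sm gd N28954 = N25892 := ded_23_1 L200543 (flp_d L196903) L224901
theorem L224905 : sm ge N28954 = N25296 := ded_25_1 (flp_f L196905) L196899 L224901
theorem L224907 : sm gb N25905 = N28954 := ded_14_3 L224903 L200545 L200655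
theorem L224909 : sm gb N25296 = N28955 := rfl
theorem L224911 : sm gd N28955 = N25297 := ded_14_2 (flp_b L196909) (flp_d L196907) L224909
theorem L224913 : sm ge N28955 = N25905 := ded_15_2 L224907 L224905 L224909
theorem L224915 : sm gc N28955 = N27591 := ded_13_2 (flp_b L213569) (flp_c L213561) L219400 L219396 L224909
theorem L224917 : sm gg N28955 = N26224 := ded_17_2 L202957 L202981 (flp_b L202987) L200369 L224909
theorem L224919 : sm ga N26395 = N28955 := ded_9_3 L224911 (flp_a L196917) (flp_d L204015)
theorem L224921 : sm gd N25300 = N28956 := rfl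
theorem L224923 : sm ga N28956 = N28359 := ded_9_1 L219834 (flp_a L196929) L224921
theorem L224925 : sm gf N28956 = N27938 := ded_23_2 (flp_d L216463) (flp_f L196933) L224921
theorem L224927 : sm gd N25301 = N28957 := rfl
theorem L224929 : sm ga N28957 = N28338 := ded_9_1 (flp_d L219708) L208853 L224927
theorem L224931 : sm gb N28957 = N25302 := ded_14_1 (flp_d L196939) L196935 L224927
theorem L224933 : sm gf N28957 = N27884 := ded_23_2 L216085 L216059 L224927
theorem L224935 : sm ge N28427 = N28957 := ded_15_0 L224931 (flp_e L196947) L220334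
theorem L224937 : sm gc N28431 = N28957 := ded_13_0 L224931 L196945 L191313 (flp_c L191353) (flp_b L220370)
theorem L224939 : sm gg N25301 = N28958 := rfl
theorem L224941 : sm ga N28958 = N28340 := ded_12_1 (flp_g L219722) L208853 L224939
theorem L224943 : sm ge N28958 = N28340 := ded_26_1 (flp_g L219722) (flp_e L196937) L224939
theorem L224945 : sm gb N25303 = N28959 := rfl
theorem L224947 : sm gd N28959 = N26552 := ded_14_2 L205185 (flp_d L196955) L224945
theorem L224949 : sm ge N28959 = N25812 := ded_15_2 L199989 L196957 L224945
theorem L224951 : sm gc N28959 = N27198 := ded_13_2 L210745 (flp_c L210611) L180383 L196949 L224945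
theorem L224953 : sm gf N28959 = N27198 := ded_16_2 L210745 L210615 L191257 (flp_f L196953) L224945
theorem L224955 : sm ga N28959 = N28290 := ded_7_1 L219364 L211597 (flp_b L187047) L187045 L155844 (flp_a L159503) (flp_b L191313) (flp_a L196951) L224945
theorem L224957 : sm gg N25303 = N28960 := rfl
theorem L224959 : sm ga N28960 = N28429 := ded_12_1 (flp_g L220348) (flp_a L196951) L224957
theorem L224961 : sm gc N28960 = N25305 := ded_21_1 (flp_g L196967) L196949 L224957
theorem L224963 : sm gd N28960 = N25383 := ded_24_1 L197419 (flp_d L196955) L224957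
theorem L224965 : sm ge N28960 = N28426 := ded_26_1 (flp_g L220326) L196957 L224957
theorem L224967 : sm gf N25381 = N28960 := ded_29_0 (flp_g L224957) L196953 L197283 (flp_a L197401)
theorem L224969 : sm gg N25304 = N28961 := rfl
theorem L224971 : sm ga N28961 = N28428 := ded_12_1 (flp_g L220340) (flp_a L196961) L224969
theorem L224973 : sm gc N28961 = N28426 := ded_21_1 (flp_g L220326) (flp_c L196963) L224969
theorem L224975 : sm ge N28961 = N25305 := ded_26_1 (flp_g L196967) L196959 L224969
theorem L224977 : sm gb N25305 = N28962 := rfl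
theorem L224979 : sm gd N28962 = N25306 := ded_14_2 (flp_b L196971) (flp_d L196969) L224977
theorem L224981 : sm ga N25306 = N28963 := rfl
theorem L224983 : sm gc N25306 = N28964 := rfl
theorem L224985 : sm gg N28964 = N27223 := ded_21_2 L210921 L210635 L224983
theorem L224987 : sm gb N28964 = N25307 := ded_13_1 (flp_c L196973) (flp_b L166320) (flp_c L166318) L196971 L224983
theorem L224989 : sm gf N25306 = N28965 := rfl
theorem L224991 : sm ge N28965 = N26304 := ded_25_1 (flp_f L219656) L219418 L224989
theorem L224993 : sm gd N25307 = N28966 := rfl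
theorem L224995 : sm ga N28966 = N28400 := ded_9_1 (flp_d L220136) L220086 L224993
theorem L224997 : sm gg N28966 = N25309 := ded_24_2 (flp_d L196983) (flp_g L196975) L224993
theorem L224999 : sm gc N28402 = N28966 := ded_28_0 (flp_d L224993) (flp_c L196973) L166322 L166406 L197083 (flp_c L220160) (flp_d L220156) L220148
theorem L225001 : sm gb N25308 = N28967 := rfl
theorem L225003 : sm gd N25308 = N28968 := rfl
theorem L225005 : sm ga N28968 = N25309 := ded_9_1 (flp_d L196983) (flp_a L196979) L225003
theorem L225007 : sm gf N28968 = N25792 := ded_23_2 (flp_d L199865) (flp_f L196981) L225003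
theorem L225009 : sm gg N28968 = N28400 := ded_24_2 (flp_d L220136) L220090 L225003
theorem L225011 : sm gc N28405 = N28968 := ded_28_2 (flp_d L225003) (flp_c L196977) L166328 L166412 L197087 L197089 L197093 (flp_d L220172)
theorem L225013 : sm gf N25309 = N28969 := rfl
theorem L225015 : sm ga N28969 = N25792 := ded_11_1 (flp_f L225007) L225005 L225013
theorem L225017 : sm gd N28969 = N25310 := ded_23_1 (flp_f L196987) L196983 L225013
theorem L225019 : sm gb N25614 = N28969 := ded_14_3 L225017 (flp_b L196993) L198855
theorem L225021 : sm gg N25310 = N28970 := rfl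
theorem L225023 : sm ga N28970 = N25775 := ded_12_1 L199762 (flp_a L196989) L225021
theorem L225025 : sm gc N28970 = N25311 := ded_21_1 (flp_g L196995) (flp_c L196991) L225021
theorem L225027 : sm gf N28393 = N28970 := ded_29_0 (flp_g L225021) (flp_f L196987) (flp_g L196975) (flp_a L220086)
theorem L225029 : sm gd N25312 = N28971 := rfl
theorem L225031 : sm ga N28971 = N28389 := ded_9_1 L220056 (flp_a L197007) L225029
theorem L225033 : sm gg N28971 = N27942 := ded_24_2 (flp_d L216489) (flp_g L197011) L225029
theorem L225035 : sm gd N25313 = N28972 := rfl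
theorem L225037 : sm ga N28972 = N28342 := ded_9_1 (flp_d L219734) L210681 L225035
theorem L225039 : sm gb N28972 = N25314 := ded_14_1 (flp_d L197017) L197013 L225035
theorem L225041 : sm gg N28972 = N27912 := ded_24_2 L216283 L216065 L225035
theorem L225043 : sm ge N28481 = N28972 := ded_15_0 L225039 (flp_e L197025) L220764
theorem L225045 : sm gc N28485 = N28972 := ded_13_0 L225039 L197023 L191696 (flp_c L191736) (flp_b L220800)
theorem L225047 : sm gf N25313 = N28973 := rfl
theorem L225049 : sm ga N28973 = N28343 := ded_11_1 (flp_f L219738) L210681 L225047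
theorem L225051 : sm ge N28973 = N28343 := ded_25_1 (flp_f L219738) (flp_e L197015) L225047
theorem L225053 : sm gb N25315 = N28974 := rfl
theorem L225055 : sm gd N28974 = N26710 := ded_14_2 L206536 (flp_d L197033) L225053
theorem L225057 : sm ge N28974 = N26057 := ded_15_2 L201686 L197035 L225053
theorem L225059 : sm gc N28974 = N27200 := ded_13_2 L210761 (flp_c L210707) L180415 L197027 L225053
theorem L225061 : sm gg N28974 = N27200 := ded_17_2 L210761 L210711 L191640 (flp_g L197031) L225053
theorem L225063 : sm ga N28974 = N28292 := ded_7_1 L219384 L212271 (flp_b L187231) L187229 L155942 (flp_a L159703) (flp_b L191696) (flp_a L197029) L225053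
theorem L225065 : sm gf N25315 = N28975 := rfl
theorem L225067 : sm ga N28975 = N28483 := ded_11_1 (flp_f L220778) (flp_a L197029) L225065
theorem L225069 : sm gc N28975 = N25317 := ded_20_1 (flp_f L197045) L197027 L225065
theorem L225071 : sm gd N28975 = N25395 := ded_23_1 (flp_f L197519) (flp_d L197033) L225065
theorem L225073 : sm ge N28975 = N28480 := ded_25_1 (flp_f L220756) L197035 L225065
theorem L225075 : sm gg N28975 = N25393 := ded_29_3 L197501 (flp_f L197333) (flp_g L197031) L225065
theorem L225077 : sm gf N25316 = N28976 := rfl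
theorem L225079 : sm ga N28976 = N28482 := ded_11_1 (flp_f L220770) (flp_a L197039) L225077
theorem L225081 : sm gc N28976 = N28480 := ded_20_1 (flp_f L220756) (flp_c L197041) L225077
theorem L225083 : sm ge N28976 = N25317 := ded_25_1 (flp_f L197045) L197037 L225077
theorem L225085 : sm gb N25317 = N28977 := rfl
theorem L225087 : sm gd N28977 = N25318 := ded_14_2 (flp_b L197049) (flp_d L197047) L225085
theorem L225089 : sm ga N25318 = N28978 := rfl
theorem L225091 : sm gc N25318 = N28979 := rfl
theorem L225093 : sm gf N28979 = N27211 := ded_20_2 L210837 L210731 L225091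
theorem L225095 : sm gb N28979 = N25319 := ded_13_1 (flp_c L197051) (flp_b L166370) (flp_c L166368) L197049 L225091
theorem L225097 : sm gg N25318 = N28980 := rfl
theorem L225099 : sm ge N28980 = N26380 := ded_26_1 L220038 L219450 L225097
theorem L225101 : sm gd N25319 = N28981 := rfl
theorem L225103 : sm ga N28981 = N28371 := ded_9_1 (flp_d L219920) L219870 L225101
theorem L225105 : sm gf N28981 = N25321 := ded_23_2 (flp_d L197061) (flp_f L197053) L225101
theorem L225107 : sm gc N28373 = N28981 := ded_28_0 (flp_d L225101) (flp_c L197051) L166372 L166452 L197105 (flp_c L219944) (flp_d L219940) L219932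
theorem L225109 : sm gb N25320 = N28982 := rfl
theorem L225111 : sm gd N25320 = N28983 := rfl
theorem L225113 : sm ga N28983 = N25321 := ded_9_1 (flp_d L197061) (flp_a L197057) L225111
theorem L225115 : sm gf N28983 = N28371 := ded_23_2 (flp_d L219920) L219874 L225111
theorem L225117 : sm gg N28983 = N25688 := ded_24_2 (flp_d L199231) (flp_g L197059) L225111
theorem L225119 : sm gc N28375 = N28983 := ded_28_2 (flp_d L225111) (flp_c L197055) L166378 L166458 L197109 L197111 L197115 (flp_d L219952)
theorem L225121 : sm gg N25321 = N28984 := rfl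
theorem L225123 : sm ga N28984 = N25688 := ded_12_1 (flp_g L225117) L225113 L225121
theorem L225125 : sm gd N28984 = N25322 := ded_24_1 (flp_g L197065) L197061 L225121
theorem L225127 : sm gb N25720 = N28984 := ded_14_3 L225125 (flp_b L197071) L199417
theorem L225129 : sm gf N25322 = N28985 := rfl
theorem L225131 : sm ga N28985 = N25671 := ded_11_1 L199162 (flp_a L197067) L225129
theorem L225133 : sm gc N28985 = N25323 := ded_20_1 (flp_f L197073) (flp_c L197069) L225129
theorem L225135 : sm gg N28985 = N28364 := ded_29_3 L219870 L197053 L197065 L225129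
theorem L225137 : sm gc N25325 = N28986 := rfl
theorem L225139 : sm ga N28986 = N25326 := ded_8_1 (flp_c L197093) (flp_a L197089) L225137
theorem L225141 : sm gf N28986 = N26251 := ded_20_2 (flp_c L203117) (flp_f L197091) L225137
theorem L225143 : sm gb N28986 = N25373 := ded_13_1 (flp_c L220780) (flp_b L222154) L222148 (flp_b L221776) L225137
theorem L225145 : sm gd N28986 = N25376 := ded_28_7 (flp_a L220170) L225011 (flp_d L225003) (flp_c L196977) L166328 L166412 L197087 L225137
theorem L225147 : sm ge N25325 = N28987 := rfl
theorem L225149 : sm ga N28987 = N25327 := ded_10_1 (flp_e L197095) (flp_a L197089) L225147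
theorem L225151 : sm gb N28987 = N28682 := ded_15_1 L222307 (flp_b L221776) L225147
theorem L225153 : sm gf N28987 = N26252 := ded_25_2 (flp_e L203119) (flp_f L197091) L225147
theorem L225155 : sm gg N28987 = N26790 := ded_26_2 (flp_e L220938) L220936 L225147
theorem L225157 : sm gd N28987 = N26476 := ded_22_1 (flp_e L204555) (flp_d L171622) (flp_e L166416) L197087 L225147
theorem L225159 : sm gb N25326 = N28988 := rfl
theorem L225161 : sm ge N25326 = N28989 := rfl
theorem L225163 : sm gc N28989 = N25327 := ded_19_1 (flp_e L197095) L197093 L225161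
theorem L225165 : sm gf N25326 = N28990 := rfl
theorem L225167 : sm ga N28990 = N26251 := ded_11_1 (flp_f L225141) L225139 L225165
theorem L225169 : sm gc N28990 = N25328 := ded_20_1 (flp_f L197099) L197093 L225165
theorem L225171 : sm gf N25327 = N28991 := rfl
theorem L225173 : sm ga N28991 = N26252 := ded_11_1 (flp_f L225153) L225149 L225171
theorem L225175 : sm gd N28991 = N26478 := ded_23_1 (flp_f L204575) (flp_d L197097) L225171
theorem L225177 : sm ge N28991 = N25328 := ded_25_1 (flp_f L197099) L197095 L225171
theorem L225179 : sm gc N25330 = N28992 := rfl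
theorem L225181 : sm ga N28992 = N25331 := ded_8_1 (flp_c L197115) (flp_a L197111) L225179
theorem L225183 : sm gg N28992 = N26020 := ded_21_2 (flp_c L201480) (flp_g L197113) L225179
theorem L225185 : sm gb N28992 = N25363 := ded_13_1 (flp_c L220350) (flp_b L221720) (flp_c L222251) (flp_b L222253) L225179
theorem L225187 : sm gd N28992 = N25366 := ded_28_7 (flp_a L219950) L225119 (flp_d L225111) (flp_c L197055) L166378 L166458 L197109 L225179
theorem L225189 : sm ge N25330 = N28993 := rfl
theorem L225191 : sm ga N28993 = N25332 := ded_10_1 (flp_e L197117) (flp_a L197111) L225189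
theorem L225193 : sm gb N28993 = N28625 := ded_15_1 (flp_e L222247) (flp_b L222253) L225189
theorem L225195 : sm gf N28993 = N26655 := ded_25_2 (flp_e L220508) L220504 L225189
theorem L225197 : sm gg N28993 = N26021 := ded_26_2 (flp_e L201482) (flp_g L197113) L225189
theorem L225199 : sm gd N28993 = N26479 := ded_22_1 (flp_e L204581) (flp_d L171666) (flp_e L166462) L197109 L225189
theorem L225201 : sm gb N25331 = N28994 := rfl
theorem L225203 : sm ge N25331 = N28995 := rfl
theorem L225205 : sm gc N28995 = N25332 := ded_19_1 (flp_e L197117) L197115 L225203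
theorem L225207 : sm gg N25331 = N28996 := rfl
theorem L225209 : sm ga N28996 = N26020 := ded_12_1 (flp_g L225183) L225181 L225207
theorem L225211 : sm gc N28996 = N25333 := ded_21_1 (flp_g L197121) L197115 L225207
theorem L225213 : sm gg N25332 = N28997 := rfl
theorem L225215 : sm ga N28997 = N26021 := ded_12_1 (flp_g L225197) L225191 L225213
theorem L225217 : sm gd N28997 = N26481 := ded_24_1 (flp_g L204601) (flp_d L197119) L225213
theorem L225219 : sm ge N28997 = N25333 := ded_26_1 (flp_g L197121) L197117 L225213
theorem L225221 : sm ga N25335 = N28998 := rfl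
theorem L225223 : sm gd N28998 = N25338 := ded_9_2 (flp_a L197153) (flp_d L197137) L225221
theorem L225225 : sm ge N28998 = N28998 := ded_10_2 (flp_a L225221) L197139 L225221
theorem L225226 : sm gf N28998 = N28998 := ded_11_2 (flp_a L225221) L197140 L225221
theorem L225227 : sm gb N25344 = N28998 := ded_14_3 L225223 L197595 (flp_d L197188)
theorem L225229 : sm gc N25335 = N28999 := rfl
theorem L225231 : sm ge N28999 = N28999 := ded_19_2 (flp_c L225229) L197139 L225229
theorem L225232 : sm gf N28999 = N28999 := ded_20_2 (flp_c L225229) L197140 L225229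
theorem L225233 : sm gb N28999 = N28999 := ded_13_1 (flp_c L225229) (flp_b L197135) L166521 L197135 L225229
theorem L225234 : sm ga N25336 = N29000 := rfl
theorem L225236 : sm gd N29000 = N25341 := ded_9_2 (flp_a L197165) (flp_d L197143) L225234
theorem L225238 : sm ge N29000 = N29000 := ded_10_2 (flp_a L225234) L197145 L225234
theorem L225239 : sm gg N29000 = N29000 := ded_12_2 (flp_a L225234) L197146 L225234
theorem L225240 : sm gb N29000 = N25343 := ded_7_2 L197173 (flp_b L166613) (flp_a L197184) L225227 (flp_a L225221) (flp_b L197135) (flp_a L166536) L197141 L225234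
theorem L225242 : sm gc N25336 = N29001 := rfl
theorem L225244 : sm ge N29001 = N29001 := ded_19_2 (flp_c L225242) L197145 L225242
theorem L225245 : sm gg N29001 = N29001 := ded_21_2 (flp_c L225242) L197146 L225242
theorem L225246 : sm gb N29001 = N29001 := ded_13_1 (flp_c L225242) (flp_b L197141) L166538 L197141 L225242
theorem L225247 : sm gc N25338 = N29002 := rfl
theorem L225249 : sm ga N29002 = N25339 := ded_8_1 (flp_c L197156) L197153 L225247
theorem L225251 : sm gf N29002 = N29002 := ded_20_2 (flp_c L225247) L197155 L225247
theorem L225252 : sm gd N25339 = N29003 := rfl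
theorem L225254 : sm gf N29003 = N29003 := ded_23_2 (flp_d L225252) L197158 L225252
theorem L225255 : sm gc N25341 = N29004 := rfl
theorem L225257 : sm ga N29004 = N25342 := ded_8_1 (flp_c L197168) L197165 L225255
theorem L225259 : sm gg N29004 = N29004 := ded_21_2 (flp_c L225255) L197167 L225255
theorem L225260 : sm gd N25342 = N29005 := rfl
theorem L225262 : sm gg N29005 = N29005 := ded_24_2 (flp_d L225260) L197170 L225260
theorem L225263 : sm ge N25345 = N29006 := rfl
theorem L225265 : sm ga N29006 = N25348 := ded_10_1 (flp_e L197210) (flp_a L197195) L225263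
theorem L225267 : sm gb N29006 = N27842 := ded_15_1 L215721 (flp_b L197197) L225263
theorem L225269 : sm gb N25346 = N29007 := rfl
theorem L225271 : sm gg N25348 = N29008 := rfl
theorem L225273 : sm ge N29008 = N25349 := ded_26_1 (flp_g L197214) L197210 L225271
theorem L225275 : sm gf N25409 = N29008 := ded_25_0 L225273 (flp_f L197218) L197627
theorem L225277 : sm gb N25349 = N29009 := rfl
theorem L225279 : sm gd N29009 = N25350 := ded_14_2 (flp_b L197220) (flp_d L197216) L225277
theorem L225281 : sm gf N29009 = N25445 := ded_16_2 (flp_b L197823) (flp_f L167184) (flp_b L167014) L197218 L225277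
theorem L225283 : sm gg N29009 = N25362 := ded_17_2 (flp_b L197291) (flp_g L166726) (flp_b L166650) L197214 L225277
theorem L225285 : sm ga N25350 = N29010 := rfl
theorem L225287 : sm gf N29010 = N25447 := ded_11_2 (flp_a L197835) (flp_f L197222) L225285
theorem L225289 : sm gg N29010 = N25364 := ded_12_2 (flp_a L197303) (flp_g L197224) L225285
theorem L225291 : sm ge N25351 = N29011 := rfl
theorem L225293 : sm ga N29011 = N25354 := ded_10_1 (flp_e L197243) (flp_a L197228) L225291
theorem L225295 : sm gb N29011 = N27844 := ded_15_1 L215737 (flp_b L197230) L225291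
theorem L225297 : sm gb N25352 = N29012 := rfl
theorem L225299 : sm gf N25354 = N29013 := rfl
theorem L225301 : sm ge N29013 = N25355 := ded_25_1 (flp_f L197247) L197243 L225299
theorem L225303 : sm gg N25416 = N29013 := ded_26_0 L225301 (flp_g L197251) L197675
theorem L225305 : sm gb N25355 = N29014 := rfl
theorem L225307 : sm gd N29014 = N25356 := ded_14_2 (flp_b L197253) (flp_d L197249) L225305
theorem L225309 : sm gf N29014 = N25372 := ded_16_2 (flp_b L197341) (flp_f L166788) (flp_b L166670) L197247 L225305
theorem L225311 : sm gg N29014 = N25479 := ded_17_2 (flp_b L198003) (flp_g L167322) (flp_b L167068) L197251 L225305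
theorem L225313 : sm ga N25356 = N29015 := rfl
theorem L225315 : sm gc N29015 = N29010 := ded_8_2 (flp_a L225285) (flp_c L197255) L225313
theorem L225317 : sm gf N29015 = N25374 := ded_11_2 (flp_a L197353) (flp_f L197257) L225313
theorem L225319 : sm gg N29015 = N25481 := ded_12_2 (flp_a L198015) (flp_g L197259) L225313
theorem L225321 : sm gg N25357 = N29016 := rfl
theorem L225323 : sm ga N29016 = N25361 := ded_12_1 (flp_g L197287) (flp_a L197263) L225321
theorem L225325 : sm gc N29016 = N28430 := ded_21_1 (flp_g L220358) (flp_c L197267) L225321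
theorem L225327 : sm ge N29016 = N25358 := ded_26_1 (flp_g L197271) L197261 L225321
theorem L225329 : sm gf N28961 = N29016 := ded_29_0 (flp_g L225321) L197269 L220340 (flp_a L224971)
theorem L225331 : sm gb N25358 = N29017 := rfl
theorem L225333 : sm gd N29017 = N25359 := ded_14_2 (flp_b L197279) (flp_d L197275) L225331
theorem L225335 : sm gg N29017 = N27950 := ded_17_2 (flp_b L216553) (flp_g L187565) (flp_b L166702) L197271 L225331
theorem L225337 : sm ga N25359 = N29018 := rfl
theorem L225339 : sm gc N29018 = N27279 := ded_8_2 (flp_a L211332) (flp_c L197281) L225337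
theorem L225341 : sm gf N25359 = N29019 := rfl
theorem L225343 : sm gc N29019 = N27280 := ded_20_1 (flp_f L211340) (flp_c L197281) L225341
theorem L225345 : sm gb N29019 = N28965 := ded_16_1 (flp_f L224989) (flp_b L196971) (flp_f L166710) L197279 L225341
theorem L225347 : sm gb N25360 = N29020 := rfl
theorem L225349 : sm gb N25361 = N29021 := rfl
theorem L225351 : sm ge N29021 = N25362 := ded_15_2 (flp_b L197291) (flp_e L197289) L225349
theorem L225353 : sm ga N25362 = N29022 := rfl
theorem L225355 : sm gd N29022 = N25364 := ded_9_2 (flp_a L197303) (flp_d L197293) L225353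
theorem L225357 : sm gc N25362 = N29023 := rfl
theorem L225359 : sm gf N25362 = N29024 := rfl
theorem L225361 : sm gd N29024 = N25365 := ded_23_1 (flp_f L197305) (flp_d L197293) L225359
theorem L225363 : sm gb N25364 = N29025 := rfl
theorem L225365 : sm gg N25366 = N29026 := rfl
theorem L225367 : sm gc N29026 = N28984 := ded_21_1 (flp_g L225121) (flp_c L197309) L225365
theorem L225369 : sm gd N29026 = N26020 := ded_24_1 (flp_g L225183) L225187 L225365
theorem L225371 : sm gf N29026 = N28376 := ded_29_2 (flp_g L219956) L219932 L219936 L225365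
theorem L225373 : sm gb N29026 = N28958 := ded_17_1 (flp_g L224939) (flp_b L196935) (flp_g L166738) L197307 L225365
theorem L225375 : sm gf N25367 = N29027 := rfl
theorem L225377 : sm ga N29027 = N25371 := ded_11_1 (flp_f L197337) (flp_a L197313) L225375
theorem L225379 : sm gc N29027 = N28484 := ded_20_1 (flp_f L220788) (flp_c L197317) L225375
theorem L225381 : sm ge N29027 = N25368 := ded_25_1 (flp_f L197321) L197311 L225375
theorem L225383 : sm gg N29027 = N28976 := ded_29_3 L225079 (flp_f L220770) (flp_g L197319) L225375
theorem L225385 : sm gb N25368 = N29028 := rfl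
theorem L225387 : sm gd N29028 = N25369 := ded_14_2 (flp_b L197329) (flp_d L197325) L225385
theorem L225389 : sm gf N29028 = N28022 := ded_16_2 (flp_b L217126) (flp_f L187923) (flp_b L166764) L197321 L225385
theorem L225391 : sm ga N25369 = N29029 := rfl
theorem L225393 : sm gc N29029 = N27304 := ded_8_2 (flp_a L211539) (flp_c L197331) L225391
theorem L225395 : sm gg N25369 = N29030 := rfl
theorem L225397 : sm gc N29030 = N27305 := ded_21_1 (flp_g L211549) (flp_c L197331) L225395
theorem L225399 : sm gb N29030 = N28980 := ded_17_1 (flp_g L225097) (flp_b L197049) L166772 L197329 L225395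
theorem L225401 : sm gb N25370 = N29031 := rfl
theorem L225403 : sm gb N25371 = N29032 := rfl
theorem L225405 : sm ge N29032 = N25372 := ded_15_2 (flp_b L197341) (flp_e L197339) L225403
theorem L225407 : sm ga N25372 = N29033 := rfl
theorem L225409 : sm gd N29033 = N25374 := ded_9_2 (flp_a L197353) (flp_d L197343) L225407
theorem L225411 : sm gc N25372 = N29034 := rfl
theorem L225413 : sm gg N25372 = N29035 := rfl
theorem L225415 : sm gd N29035 = N25375 := ded_24_1 (flp_g L197355) (flp_d L197343) L225413
theorem L225417 : sm gb N25374 = N29036 := rfl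
theorem L225419 : sm gf N25376 = N29037 := rfl
theorem L225421 : sm gc N29037 = N28969 := ded_20_1 (flp_f L225013) (flp_c L197359) L225419
theorem L225423 : sm gd N29037 = N26251 := ded_23_1 (flp_f L225141) L225145 L225419
theorem L225425 : sm gg N28404 = N29037 := ded_29_1 (flp_f L225419) L220154 (flp_a L220148) L220164
theorem L225427 : sm gb N29037 = N28973 := ded_16_1 (flp_f L225047) (flp_b L197013) L166800 L197357 L225419
theorem L225429 : sm gb N25377 = N29038 := rfl
theorem L225431 : sm gd N29038 = N29020 := ded_14_2 (flp_b L225347) (flp_d L197367) L225429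
theorem L225433 : sm ge N29038 = N27734 := ded_15_2 L214671 (flp_e L197369) L225429
theorem L225435 : sm gg N29038 = N28868 := ded_17_2 (flp_b L224119) (flp_g L194039) (flp_b L166812) L197361 L225429
theorem L225437 : sm ga N27391 = N29038 := ded_10_3 L225433 (flp_a L214661) (flp_e L212191)
theorem L225439 : sm gc N25378 = N29039 := rfl
theorem L225441 : sm ga N29039 = N27538 := ded_8_1 L213217 L200323 L225439
theorem L225443 : sm ge N29039 = N26797 := ded_19_2 L209389 L209383 L225439
theorem L225445 : sm gf N29039 = N25848 := ded_20_2 (flp_c L200239) (flp_f L197377) L225439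
theorem L225447 : sm gg N29039 = N26795 := ded_21_2 L207287 (flp_g L200311) L225439
theorem L225449 : sm gd N25379 = N29040 := rfl
theorem L225451 : sm ga N29040 = N26371 := ded_9_1 L203873 (flp_a L197381) L225449
theorem L225453 : sm gb N29040 = N25380 := ded_14_1 (flp_d L197389) (flp_b L197387) L225449
theorem L225455 : sm gf N29040 = N25852 := ded_23_2 (flp_d L200273) (flp_f L197385) L225449
theorem L225457 : sm ge N29040 = N25971 := ded_22_2 (flp_d L201139) L169411 L171722 (flp_e L197383) L225449
theorem L225459 : sm gb N25381 = N29041 := rfl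
theorem L225461 : sm gd N29041 = N25382 := ded_14_2 (flp_b L197407) (flp_d L197405) L225459
theorem L225463 : sm gg N29041 = N27630 := ded_17_2 (flp_b L213811) (flp_g L182873) (flp_b L166842) L197399 L225459
theorem L225465 : sm ga N25382 = N29042 := rfl
theorem L225467 : sm ge N29042 = N26624 := ded_10_2 L205836 L205306 L225465
theorem L225469 : sm gf N29042 = N27367 := ded_11_2 L212007 L205830 L225465
theorem L225471 : sm gg N29042 = N26622 := ded_12_2 L205822 (flp_g L197409) L225465
theorem L225473 : sm gb N29042 = N27586 := ded_7_2 (flp_a L219214) L219216 L194807 L212189 L225437 (flp_b L225429) L197363 L197407 L225465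
theorem L225475 : sm gc N27584 = N29042 := ded_19_3 L225467 L205838 (flp_e L213527)
theorem L225477 : sm gc N25382 = N29043 := rfl
theorem L225479 : sm ga N29043 = N27584 := ded_8_1 L225475 (flp_a L225465) L225477
theorem L225481 : sm ge N29043 = N27785 := ded_19_2 L215169 L205306 L225477
theorem L225483 : sm gg N29043 = N27631 := ded_21_2 (flp_c L213817) (flp_g L197409) L225477
theorem L225485 : sm gb N29043 = N25386 := ded_13_1 (flp_c L197442) (flp_b L166856) (flp_c L166848) L197407 L225477
theorem L225487 : sm gd N25386 = N29044 := rfl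
theorem L225489 : sm ga N29044 = N25490 := ded_9_1 (flp_d L198080) (flp_a L197444) L225487
theorem L225491 : sm gg N29044 = N29044 := ded_24_2 (flp_d L225487) L197446 L225487
theorem L225492 : sm gb N25389 = N29045 := rfl
theorem L225494 : sm gd N29045 = N29031 := ded_14_2 (flp_b L225401) (flp_d L197467) L225492
theorem L225496 : sm ge N29045 = N27748 := ded_15_2 L214819 (flp_e L197469) L225492
theorem L225498 : sm gf N29045 = N28870 := ded_16_2 (flp_b L224137) (flp_f L194201) (flp_b L166895) L197461 L225492
theorem L225500 : sm ga N27473 = N29045 := ded_10_3 L225496 (flp_a L214809) (flp_e L212771)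
theorem L225502 : sm gc N25390 = N29046 := rfl
theorem L225504 : sm ga N29046 = N27613 := ded_8_1 L213717 L202006 L225502
theorem L225506 : sm ge N29046 = N26675 := ded_19_2 L209411 L209405 L225502
theorem L225508 : sm gf N29046 = N26674 := ded_20_2 L206242 L201988 L225502
theorem L225510 : sm gg N29046 = N26088 := ded_21_2 (flp_c L201918) (flp_g L197477) L225502
theorem L225512 : sm gd N25391 = N29047 := rfl
theorem L225514 : sm ga N29047 = N26295 := ded_9_1 L203373 (flp_a L197481) L225512
theorem L225516 : sm gb N29047 = N25392 := ded_14_1 (flp_d L197489) (flp_b L197487) L225512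
theorem L225518 : sm gg N29047 = N26092 := ded_24_2 (flp_d L201948) (flp_g L197485) L225512
theorem L225520 : sm ge N29047 = N26206 := ded_22_2 (flp_d L202788) L170410 L171792 (flp_e L197483) L225512
theorem L225522 : sm gb N25393 = N29048 := rfl
theorem L225524 : sm gd N29048 = N25394 := ded_14_2 (flp_b L197507) (flp_d L197505) L225522
theorem L225526 : sm gf N29048 = N27670 := ded_16_2 (flp_b L214116) (flp_f L183012) (flp_b L166925) L197499 L225522
theorem L225528 : sm ga N25394 = N29049 := rfl
theorem L225530 : sm ge N29049 = N26767 := ded_10_2 L207059 L206627 L225528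
theorem L225532 : sm gf N29049 = N26766 := ded_11_2 L207053 (flp_f L197509) L225528
theorem L225534 : sm gg N29049 = N27455 := ded_12_2 L212643 L207047 L225528
theorem L225536 : sm gb N29049 = N27510 := ded_7_2 (flp_a L219318) L219320 L195111 L212769 L225500 (flp_b L225492) L197463 L197507 L225528
theorem L225538 : sm gc N27508 = N29049 := ded_30_9 L225536 (flp_a L219318) L219324 (flp_c L209949) (flp_b L218756) L218754 (flp_f L210135) (flp_c L218758) L218756 L189507 (flp_f L182327) L213037 (flp_b L225536) (flp_a L225528) L197509 L214122 L214128 L214124 (flp_f L213027)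
theorem L225540 : sm gc N25394 = N29050 := rfl
theorem L225542 : sm ga N29050 = N27508 := ded_8_1 L225538 (flp_a L225528) L225540
theorem L225544 : sm ge N29050 = N27760 := ded_19_2 L214930 L206627 L225540
theorem L225546 : sm gf N29050 = N27671 := ded_20_2 (flp_c L214122) (flp_f L197509) L225540
theorem L225548 : sm gb N29050 = N25398 := ded_13_1 (flp_c L197542) (flp_b L166939) (flp_c L166931) L197507 L225540
theorem L225550 : sm gd N25398 = N29051 := rfl
theorem L225552 : sm ga N29051 = N25548 := ded_9_1 (flp_d L198437) (flp_a L197544) L225550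
theorem L225554 : sm gf N29051 = N29051 := ded_23_2 (flp_d L225550) L197546 L225550
theorem L225555 : sm ga N25401 = N29052 := rfl
theorem L225557 : sm gd N29052 = N25404 := ded_9_2 (flp_a L197587) (flp_d L197563) L225555
theorem L225559 : sm ge N29052 = N29052 := ded_10_2 (flp_a L225555) L197565 L225555
theorem L225560 : sm gg N29052 = N28998 := ded_12_2 (flp_a L225221) (flp_g L197566) L225555
theorem L225562 : sm gf N29052 = N25401 := ded_29_0 L197566 L197140 (flp_g L197566) L225555
theorem L225564 : sm gc N25401 = N29053 := rfl
theorem L225566 : sm ge N29053 = N29053 := ded_19_2 (flp_c L225564) L197565 L225564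
theorem L225567 : sm gg N29053 = N28999 := ded_21_2 (flp_c L225229) (flp_g L197566) L225564
theorem L225569 : sm ga N25402 = N29054 := rfl
theorem L225571 : sm gd N29054 = N25411 := ded_9_2 (flp_a L197643) (flp_d L197570) L225569
theorem L225573 : sm ge N29054 = N29054 := ded_10_2 (flp_a L225569) L197572 L225569
theorem L225574 : sm gf N29054 = N29000 := ded_11_2 (flp_a L225234) (flp_f L197573) L225569
theorem L225576 : sm gg N29054 = N25402 := ded_29_3 L225569 L225574 L225239 (flp_f L225574)
theorem L225578 : sm gb N29054 = N29052 := ded_7_2 (flp_a L225555) (flp_b L197561) (flp_a L166968) (flp_b L115725) (flp_a L95517) L115745 L166975 L197568 L225569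
theorem L225580 : sm gc N25402 = N29055 := rfl
theorem L225582 : sm ge N29055 = N29055 := ded_19_2 (flp_c L225580) L197572 L225580
theorem L225583 : sm gf N29055 = N29001 := ded_20_2 (flp_c L225242) (flp_f L197573) L225580
theorem L225585 : sm ge N25403 = N29056 := rfl
theorem L225587 : sm ga N29056 = N28419 := ded_10_1 L220274 (flp_a L197577) L225585
theorem L225589 : sm gb N29056 = N27311 := ded_15_1 (flp_e L211607) (flp_b L197579) L225585
theorem L225591 : sm gc N29056 = N29006 := ded_19_1 (flp_e L225263) L197585 L225585
theorem L225593 : sm gf N29056 = N29006 := ded_25_2 (flp_e L225263) (flp_f L197581) L225585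
theorem L225595 : sm gg N29056 = N25409 := ded_26_2 (flp_e L197627) (flp_g L197583) L225585
theorem L225597 : sm gd N29056 = N28431 := ded_22_1 (flp_e L220368) L191345 L190881 L197575 L225585
theorem L225599 : sm gc N25404 = N29057 := rfl
theorem L225601 : sm ga N29057 = N25405 := ded_8_1 (flp_c L197603) L197587 L225599
theorem L225603 : sm gf N29057 = N25405 := ded_20_2 (flp_c L197603) (flp_f L197591) L225599
theorem L225605 : sm gg N29057 = N29002 := ded_21_2 (flp_c L225247) (flp_g L197589) L225599
theorem L225607 : sm gb N25405 = N29058 := rfl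
theorem L225609 : sm gc N29058 = N25406 := ded_13_2 (flp_b L197607) (flp_c L167006) L167002 L197603 L225607
theorem L225611 : sm gd N25405 = N29059 := rfl
theorem L225613 : sm gg N29059 = N29003 := ded_24_2 (flp_d L225252) (flp_g L197605) L225611
theorem L225615 : sm ga N25406 = N29060 := rfl
theorem L225617 : sm gb N29060 = N28385 := ded_7_2 L220014 L219644 (flp_a L197785) (flp_b L167166) L115872 (flp_b L115770) (flp_a L167008) L197607 L225615
theorem L225619 : sm gg N28386 = N29060 := ded_17_0 L225617 (flp_g L220012) (flp_b L191067) L191073 L220040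
theorem L225621 : sm gd N25406 = N29061 := rfl
theorem L225623 : sm gb N29061 = N25407 := ded_14_1 (flp_d L197609) L197607 L225621
theorem L225625 : sm gd N29058 = N26338 := ded_32_8 L203641 (flp_b L171047) L171043 (flp_c L144927) (flp_d L144611) (flp_c L156865) (flp_b L116815) L116819 L118077 (flp_d L118073) (flp_c L96568) L84897 (flp_d L25362) (flp_c L12195) L6038 L82379 (flp_b L82361) L5314 L2769 (flp_c L2857) (flp_d L5541) (flp_c L80938) L142567 L142232 (flp_c L13622) (flp_d L142098) L82018 L142189 (flp_d L13888) (flp_c L6790) (flp_d L6290) L12751 (flp_b L79559) (flp_d L132431) (flp_c L18663) L9047 L9337 (flp_b L139795) (flp_d L18035) (flp_c L8775) (flp_d L8647) (flp_c L78837) (flp_b L81665) (flp_e L17704) (flp_d L36867) (flp_c L88452) (flp_d L102765) L102763 L104365 L104367 L104383 L145394 L182329 L187807 (flp_d L187755) (flp_c L156462) (flp_d L156146) L156150 (flp_b L116393) L116397 L167754 (flp_d L167758) (flp_c L167318) (flp_b L167068) (flp_d L167066) (flp_c L115804) (flp_d L115747) L166617 L166613 L166594 L166592 (flp_c L166654) (flp_d L197216) (flp_c L197615) (flp_b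 L225623) (flp_d L225621) (flp_c L225609)
theorem L225627 : sm gc N29061 = N27393 := ded_28_4 (flp_d L212205) L181595 (flp_d L203577) L203575 (flp_c L203641) (flp_d L225625) L225609 L225621
theorem L225629 : sm ga N29061 = N27394 := ded_28_8 (flp_c L212211) (flp_d L181601) L144949 (flp_d L170983) (flp_c L203641) (flp_d L225625) L225609 L225621
theorem L225631 : sm gb N26338 = N29059 := ded_14_1 (flp_d L225611) L225607 L225625
theorem L225633 : sm gf N26337 = N29058 := ded_23_0 L225625 (flp_f L203639) L203635
theorem L225635 : sm gd N27394 = N29060 := ded_28_7 (flp_a L225615) (flp_c L225609) L225625 L203641 L170983 (flp_c L144949) L181601 L212211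
theorem L225637 : sm ge N29059 = N26340 := ded_15_2 (flp_b L203651) (flp_e L203643) L225631
theorem L225639 : sm gf N29059 = N28728 := ded_16_2 (flp_b L223036) (flp_f L193123) (flp_b L170969) L203639 L225631
theorem L225641 : sm gb N29057 = N28727 := ded_16_3 (flp_f L223030) (flp_b L203637) L225633 (flp_b L225607) (flp_f L225603)
theorem L225643 : sm ga N28728 = N29059 := ded_10_3 L225637 (flp_a L216915) (flp_e L223038)
theorem L225645 : sm gd N28728 = N29057 := ded_23_1 L225603 L225611 L225639
theorem L225647 : sm gf N25406 = N29062 := rfl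
theorem L225649 : sm gc N29062 = N26337 := ded_20_1 L225633 L225609 L225647
theorem L225651 : sm gg N25406 = N29063 := rfl
theorem L225653 : sm ga N29063 = N28386 := ded_12_1 L225619 (flp_a L225615) L225651
theorem L225655 : sm gb N29063 = N27163 := ded_17_1 (flp_g L210473) L180227 (flp_g L167010) L197607 L225651
theorem L225657 : sm ge N25407 = N29064 := rfl
theorem L225659 : sm ga N29064 = N25409 := ded_10_1 (flp_e L197627) (flp_a L197611) L225657
theorem L225661 : sm gc N29064 = N29008 := ded_19_1 L225273 (flp_c L197615) L225657
theorem L225663 : sm gg N29064 = N28419 := ded_26_2 L220274 (flp_g L197613) L225657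
theorem L225665 : sm gb N25408 = N29065 := rfl
theorem L225667 : sm gd N29065 = N29007 := ded_14_2 (flp_b L225269) (flp_d L197625) L225665
theorem L225669 : sm gc N29065 = N25441 := ded_13_2 (flp_b L197809) (flp_c L167180) (flp_b L167014) L197617 L225665
theorem L225671 : sm ge N25408 = N29066 := rfl
theorem L225673 : sm ga N29066 = N29008 := ded_10_1 L225273 (flp_a L197619) L225671
theorem L225675 : sm gc N29066 = N25409 := ded_19_1 (flp_e L197627) L197617 L225671
theorem L225677 : sm gf N29066 = N29064 := ded_25_2 (flp_e L225657) (flp_f L197621) L225671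
theorem L225679 : sm gg N29066 = N29006 := ded_26_2 (flp_e L225263) (flp_g L197623) L225671
theorem L225681 : sm ge N25410 = N29067 := rfl
theorem L225683 : sm ga N29067 = N28473 := ded_10_1 L220704 (flp_a L197633) L225681
theorem L225685 : sm gb N29067 = N27402 := ded_15_1 (flp_e L212275) (flp_b L197635) L225681
theorem L225687 : sm gc N29067 = N29011 := ded_19_1 (flp_e L225291) L197641 L225681
theorem L225689 : sm gf N29067 = N25416 := ded_25_2 (flp_e L197675) (flp_f L197637) L225681
theorem L225691 : sm gg N29067 = N29011 := ded_26_2 (flp_e L225291) (flp_g L197639) L225681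
theorem L225693 : sm gd N29067 = N28485 := ded_22_1 (flp_e L220798) L191728 L190912 L197631 L225681
theorem L225695 : sm gc N25411 = N29068 := rfl
theorem L225697 : sm ga N29068 = N25412 := ded_8_1 (flp_c L197651) L197643 L225695
theorem L225699 : sm gf N29068 = N29004 := ded_20_2 (flp_c L225255) (flp_f L197645) L225695
theorem L225701 : sm gg N29068 = N25412 := ded_21_2 (flp_c L197651) (flp_g L197647) L225695
theorem L225703 : sm gb N29068 = N28791 := ded_13_1 L223465 (flp_b L225641) (flp_c L225599) (flp_b L197649) L225695
theorem L225705 : sm gd N28792 = N29068 := ded_14_0 L225703 L223467 L223471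
theorem L225707 : sm gb N25412 = N29069 := rfl
theorem L225709 : sm gc N29069 = N25413 := ded_13_2 (flp_b L197655) (flp_c L167060) L167056 L197651 L225707
theorem L225711 : sm gg N29069 = N26413 := ded_17_2 L204141 L223461 (flp_b L225703) L225701 L225707
theorem L225713 : sm gd N26415 = N29069 := ded_24_3 L225711 (flp_d L204139) L204149
theorem L225715 : sm gd N25412 = N29070 := rfl
theorem L225717 : sm ga N29070 = N28792 := ded_9_1 L225705 L225697 L225715
theorem L225719 : sm gb N29070 = N26415 := ded_14_1 L225713 (flp_b L225707) L225715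
theorem L225721 : sm gf N29070 = N29005 := ded_23_2 (flp_d L225260) (flp_f L197653) L225715
theorem L225723 : sm gg N29070 = N28792 := ded_24_2 L225705 L225701 L225715
theorem L225725 : sm ge N26418 = N29070 := ded_10_0 L225717 L223473 L222220
theorem L225727 : sm ge N29005 = N28538 := ded_25_1 (flp_f L222224) L225725 L225721
theorem L225729 : sm gd N28536 = N28309 := ded_22_3 L219505 L225260 L225727 (flp_d L221184) (flp_e L221171)
theorem L225731 : sm ga N25413 = N29071 := rfl
theorem L225733 : sm gd N27476 = N29071 := ded_28_7 (flp_a L225731) (flp_c L225709) (flp_d L225713) L204151 L171334 L151544 L182083 L212791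
theorem L225735 : sm gb N29071 = N28414 := ded_7_2 L220230 (flp_b L220024) (flp_a L197965) (flp_b L167304) L115954 (flp_b L115806) (flp_a L167062) L197655 L225731
theorem L225737 : sm gf N28415 = N29071 := ded_16_0 L225735 (flp_f L220228) (flp_b L191211) L191217 L220238
theorem L225739 : sm gd N25413 = N29072 := rfl
theorem L225741 : sm ga N29072 = N27476 := ded_9_1 L225733 (flp_a L225731) L225739
theorem L225743 : sm gb N29072 = N25414 := ded_14_1 (flp_d L197657) L197655 L225739
theorem L225745 : sm gc N27475 = N29072 := ded_28_0 (flp_d L225739) (flp_c L225709) (flp_d L225713) L204151 L171334 L151544 L182083 (flp_a L212787)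
theorem L225747 : sm gf N25413 = N29073 := rfl
theorem L225749 : sm ga N29073 = N28415 := ded_11_1 L225737 (flp_a L225731) L225747
theorem L225751 : sm gb N29073 = N27170 := ded_16_1 (flp_f L210527) L180249 (flp_f L167064) L197655 L225747
theorem L225753 : sm gg N25413 = N29074 := rfl
theorem L225755 : sm gc N29074 = N26413 := ded_21_1 (flp_g L225711) L225709 L225753
theorem L225757 : sm ge N25414 = N29075 := rfl
theorem L225759 : sm ga N29075 = N25416 := ded_10_1 (flp_e L197675) (flp_a L197659) L225757
theorem L225761 : sm gc N29075 = N29013 := ded_19_1 L225301 (flp_c L197663) L225757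
theorem L225763 : sm gf N29075 = N28473 := ded_25_2 L220704 (flp_f L197661) L225757
theorem L225765 : sm gb N25415 = N29076 := rfl
theorem L225767 : sm gd N29076 = N29012 := ded_14_2 (flp_b L225297) (flp_d L197673) L225765
theorem L225769 : sm gc N29076 = N25475 := ded_13_2 (flp_b L197989) (flp_c L167318) (flp_b L167068) L197665 L225765
theorem L225771 : sm ge N25415 = N29077 := rfl
theorem L225773 : sm ga N29077 = N29013 := ded_10_1 L225301 (flp_a L197667) L225771
theorem L225775 : sm gc N29077 = N25416 := ded_19_1 (flp_e L197675) L197665 L225771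
theorem L225777 : sm gf N29077 = N29011 := ded_25_2 (flp_e L225291) (flp_f L197669) L225771
theorem L225779 : sm gg N29077 = N29075 := ded_26_2 (flp_e L225757) (flp_g L197671) L225771
theorem L225781 : sm gb N25417 = N29078 := rfl
theorem L225783 : sm gd N29078 = N27890 := ded_14_2 (flp_b L216123) (flp_d L197683) L225781
theorem L225785 : sm ga N25418 = N29079 := rfl
theorem L225787 : sm gd N29079 = N27964 := ded_9_2 (flp_a L216669) (flp_d L197689) L225785
theorem L225789 : sm gg N29079 = N28593 := ded_12_2 (flp_a L221594) (flp_g L197691) L225785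
theorem L225791 : sm gf N25418 = N29080 := rfl
theorem L225793 : sm gc N29080 = N28604 := ded_20_1 L221676 L199150 L225791
theorem L225795 : sm gd N29080 = N27965 := ded_23_1 (flp_f L216673) (flp_d L197689) L225791
theorem L225797 : sm gb N25419 = N29081 := rfl
theorem L225799 : sm gd N29081 = N27966 := ded_14_2 (flp_b L216675) (flp_d L197699) L225797
theorem L225801 : sm gc N25421 = N29082 := rfl
theorem L225803 : sm ge N29082 = N28542 := ded_19_2 (flp_c L221217) (flp_e L197711) L225801
theorem L225805 : sm gg N29082 = N25609 := ded_21_2 (flp_c L198833) (flp_g L197713) L225801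
theorem L225807 : sm gb N25422 = N29083 := rfl
theorem L225809 : sm ge N29083 = N28437 := ded_15_2 (flp_b L220408) (flp_e L197719) L225807
theorem L225811 : sm gg N25424 = N29084 := rfl
theorem L225813 : sm ga N29084 = N25750 := ded_12_1 (flp_g L219460) L219454 L225811
theorem L225815 : sm gc N29084 = N25425 := ded_21_1 (flp_g L197735) L197733 L225811
theorem L225817 : sm ge N29084 = N28985 := ded_26_1 L225135 L219872 L225811
theorem L225819 : sm gf N25747 = N29084 := ded_29_0 (flp_g L225811) L199626 (flp_g L199618) (flp_a L199596)
theorem L225821 : sm ga N25426 = N29085 := rfl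
theorem L225823 : sm gd N28260 = N29085 := ded_28_7 (flp_a L225821) L217566 (flp_d L217562) L188205 L156759 (flp_c L158375) L190063 L219064
theorem L225825 : sm gb N29085 = N29080 := ded_14_1 L225795 (flp_b L222904) L225823
theorem L225827 : sm gf N29085 = N29081 := ded_23_2 L225799 L222900 L225823
theorem L225829 : sm gd N25426 = N29086 := rfl
theorem L225831 : sm ga N29086 = N28260 := ded_9_1 L225823 (flp_a L225821) L225829
theorem L225833 : sm gb N29086 = N25427 := ded_14_1 (flp_d L197749) L197747 L225829
theorem L225835 : sm gc N28254 = N29086 := ded_28_0 (flp_d L225829) L217566 (flp_d L217562) L188205 L156759 (flp_c L158375) L190063 (flp_a L219010)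
theorem L225837 : sm gf N25426 = N29087 := rfl
theorem L225839 : sm ga N29087 = N29081 := ded_11_1 (flp_f L225827) (flp_a L225821) L225837
theorem L225841 : sm gg N25426 = N29088 := rfl
theorem L225843 : sm gb N29088 = N25437 := ded_17_1 (flp_g L197793) (flp_b L167166) (flp_g L167144) L197747 L225841
theorem L225845 : sm ge N25427 = N29089 := rfl
theorem L225847 : sm ga N29089 = N25429 := ded_10_1 (flp_e L197759) (flp_a L197751) L225845
theorem L225849 : sm gg N29089 = N25438 := ded_26_2 (flp_e L197795) (flp_g L197753) L225845
theorem L225851 : sm gb N25428 = N29090 := rfl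
theorem L225853 : sm gc N29090 = N27314 := ded_13_2 (flp_b L211631) (flp_c L197731) L197727 L197755 L225851
theorem L225855 : sm ge N25428 = N29091 := rfl
theorem L225857 : sm gc N29091 = N25429 := ded_19_1 (flp_e L197759) L197755 L225855
theorem L225859 : sm gg N29091 = N25442 := ded_26_2 (flp_e L197811) (flp_g L197757) L225855
theorem L225861 : sm gf N25428 = N29092 := rfl
theorem L225863 : sm gc N29092 = N25430 := ded_20_1 (flp_f L197763) L197755 L225861
theorem L225865 : sm gd N29092 = N25534 := ded_23_1 (flp_f L198344) (flp_d L198139) L225861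
theorem L225867 : sm gg N29092 = N25530 := ded_29_3 L198318 (flp_f L197815) (flp_g L197757) L225861
theorem L225869 : sm gf N25429 = N29093 := rfl
theorem L225871 : sm ge N29093 = N25430 := ded_25_1 (flp_f L197763) L197759 L225869
theorem L225873 : sm gb N25430 = N29094 := rfl
theorem L225875 : sm gd N29094 = N25431 := ded_14_2 (flp_b L197767) (flp_d L197765) L225873
theorem L225877 : sm ga N25431 = N29095 := rfl
theorem L225879 : sm gg N25431 = N29096 := rfl
theorem L225881 : sm ga N25432 = N29097 := rfl
theorem L225883 : sm gc N29097 = N25434 := ded_8_2 (flp_a L197785) (flp_c L197773) L225881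
theorem L225885 : sm gd N29097 = N28073 := ded_9_2 (flp_a L217542) (flp_d L197771) L225881
theorem L225887 : sm ge N29097 = N28981 := ded_10_2 L225103 L219916 L225881
theorem L225889 : sm gf N29097 = N25767 := ded_30_4 (flp_c L219638) (flp_b L219634) L190813 (flp_f L190797) L190793 (flp_b L168196) L168186 L166778 L144717 L104079 (flp_a L128889) L128897 (flp_c L159849) (flp_b L187491) L187489 (flp_f L160014) L167154 L197769 L225881
theorem L225891 : sm gf N25432 = N29098 := rfl
theorem L225893 : sm ga N29098 = N25767 := ded_11_1 (flp_f L225889) (flp_a L225881) L225891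
theorem L225895 : sm gc N29098 = N25436 := ded_20_1 (flp_f L197791) (flp_c L197773) L225891
theorem L225897 : sm gd N29098 = N28075 := ded_23_1 (flp_f L217554) (flp_d L197771) L225891
theorem L225899 : sm ge N29098 = N28983 := ded_25_1 L225115 L219916 L225891
theorem L225901 : sm gg N25432 = N29099 := rfl
theorem L225903 : sm gc N29099 = N25437 := ded_21_1 (flp_g L197793) (flp_c L197773) L225901
theorem L225905 : sm gd N29099 = N28076 := ded_24_1 (flp_g L217558) (flp_d L197771) L225901
theorem L225907 : sm gb N25433 = N29100 := rfl
theorem L225909 : sm gd N29100 = N28079 := ded_14_2 (flp_b L217574) (flp_d L197781) L225907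
theorem L225911 : sm gg N25434 = N29101 := rfl
theorem L225913 : sm ga N29101 = N25437 := ded_12_1 (flp_g L197793) L197785 L225911
theorem L225915 : sm ge N25435 = N29102 := rfl
theorem L225917 : sm gb N29102 = N25438 := ded_15_1 (flp_e L197795) (flp_b L197789) L225915
theorem L225919 : sm gf N25435 = N29103 := rfl
theorem L225921 : sm gd N29103 = N25436 := ded_23_1 (flp_f L197791) L197787 L225919
theorem L225923 : sm gg N25435 = N29104 := rfl
theorem L225925 : sm gd N29104 = N25437 := ded_24_1 (flp_g L197793) L197787 L225923
theorem L225927 : sm gb N25436 = N29105 := rfl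
theorem L225929 : sm gf N29105 = N25440 := ded_16_2 (flp_b L197807) (flp_f L167172) L167166 L197791 L225927
theorem L225931 : sm gg N25436 = N29106 := rfl
theorem L225933 : sm gf N29101 = N29106 := ded_29_0 (flp_g L225931) (flp_f L197791) L197793 (flp_a L225913)
theorem L225935 : sm gf N25437 = N29107 := rfl
theorem L225937 : sm ga N29107 = N29106 := ded_11_1 (flp_f L225933) L225913 L225935
theorem L225939 : sm ge N29107 = N29026 := ded_25_1 L225371 L219958 L225935
theorem L225941 : sm gg N29107 = N28329 := ded_29_3 L219640 (flp_f L197791) L197793 L225935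
theorem L225943 : sm gb N29107 = N28340 := ded_31_2 (flp_g L219722) L219712 L219720 (flp_g L219866) (flp_f L219858) L219854 (flp_g L221592) L221590 (flp_b L197767) L167178 (flp_f L167172) L167166 L197793 L225935
theorem L225945 : sm gf N25438 = N29108 := rfl
theorem L225947 : sm ga N29108 = N25444 := ded_11_1 (flp_f L197819) (flp_a L197797) L225945
theorem L225949 : sm gd N29108 = N28842 := ded_23_1 L223907 L219966 L225945
theorem L225951 : sm ge N29108 = N25439 := ded_25_1 (flp_f L197799) L197795 L225945
theorem L225953 : sm gg N29093 = N29108 := ded_29_1 (flp_f L225945) (flp_g L225849) L225847 L225869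
theorem L225955 : sm gb N25439 = N29109 := rfl
theorem L225957 : sm gd N29109 = N25440 := ded_14_2 (flp_b L197807) (flp_d L197803) L225955
theorem L225959 : sm ga N25440 = N29110 := rfl
theorem L225961 : sm gg N25440 = N29111 := rfl
theorem L225963 : sm gb N29111 = N29096 := ded_17_1 (flp_g L225879) (flp_b L197767) L167178 L197807 L225961
theorem L225965 : sm ge N25441 = N29112 := rfl
theorem L225967 : sm gb N29112 = N25442 := ded_15_1 (flp_e L197811) L197809 L225965
theorem L225969 : sm gd N29112 = N27490 := ded_22_1 L212895 L212985 (flp_e L212989) L198242 L225965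
theorem L225971 : sm gf N25441 = N29113 := rfl
theorem L225973 : sm gg N25441 = N29114 := rfl
theorem L225975 : sm gf N25442 = N29115 := rfl
theorem L225977 : sm gc N29115 = N25444 := ded_20_1 (flp_f L197819) (flp_c L197813) L225975
theorem L225979 : sm ge N29115 = N25443 := ded_25_1 (flp_f L197815) L197811 L225975
theorem L225981 : sm gb N25443 = N29116 := rfl
theorem L225983 : sm gg N25443 = N29117 := rfl
theorem L225985 : sm ga N29117 = N29092 := ded_12_1 L225867 L198318 L225983
theorem L225987 : sm gc N29117 = N25446 := ded_21_1 (flp_g L197827) (flp_c L197817) L225983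
theorem L225989 : sm gd N29117 = N25505 := ded_24_1 L198260 L198258 L225983
theorem L225991 : sm gf N25503 = N29117 := ded_29_0 (flp_g L225983) (flp_f L197815) (flp_g L197757) (flp_a L198153)
theorem L225993 : sm gb N25444 = N29118 := rfl
theorem L225995 : sm ge N29118 = N25445 := ded_15_2 (flp_b L197823) (flp_e L197821) L225993
theorem L225997 : sm gg N25444 = N29119 := rfl
theorem L225999 : sm ga N29119 = N29093 := ded_12_1 L225953 L225947 L225997
theorem L226001 : sm ge N29119 = N25446 := ded_26_1 (flp_g L197827) (flp_e L197821) L225997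
theorem L226003 : sm gf N29089 = N29119 := ded_29_0 (flp_g L225997) (flp_f L197819) (flp_g L197761) (flp_a L225847)
theorem L226005 : sm ga N25445 = N29120 := rfl
theorem L226007 : sm gd N29120 = N25447 := ded_9_2 (flp_a L197835) (flp_d L197825) L226005
theorem L226009 : sm gg N29024 = N29120 := ded_29_3 (flp_a L226005) (flp_f L225281) L225283 L225359
theorem L226011 : sm gc N25445 = N29121 := rfl
theorem L226013 : sm gg N25445 = N29122 := rfl
theorem L226015 : sm ga N29122 = N29024 := ded_12_1 L226009 (flp_a L226005) L226013
theorem L226017 : sm gd N29122 = N25448 := ded_24_1 (flp_g L197841) (flp_d L197825) L226013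
theorem L226019 : sm gf N29022 = N29122 := ded_29_0 (flp_g L226013) (flp_f L225281) L225283 L225353
theorem L226021 : sm gb N25446 = N29123 := rfl
theorem L226023 : sm gd N29123 = N25449 := ded_14_2 (flp_b L197849) (flp_d L197831) L226021
theorem L226025 : sm gb N25447 = N29124 := rfl
theorem L226027 : sm gb N25448 = N29125 := rfl
theorem L226029 : sm ge N29125 = N29060 := ded_15_2 L225617 L220018 L226027
theorem L226031 : sm gg N29125 = N25449 := ded_17_2 (flp_b L197849) (flp_g L167192) L167188 L197841 L226027
theorem L226033 : sm ga N29125 = N28348 := ded_7_1 (flp_b L219775) L190898 L159125 (flp_a L159267) L191039 L219932 (flp_b L219938) (flp_a L197843) L226027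
theorem L226035 : sm ga N25449 = N29126 := rfl
theorem L226037 : sm ge N29126 = N29063 := ded_10_2 L225653 L220042 L226035
theorem L226039 : sm gg N29126 = N28348 := ded_12_2 (flp_a L226033) L226031 L226035
theorem L226041 : sm gb N28219 = N29126 := ded_15_3 L226037 L225655 (flp_e L218662)
theorem L226043 : sm gc N25449 = N29127 := rfl
theorem L226045 : sm gb N29127 = N25450 := ded_13_1 (flp_c L197851) (flp_b L167200) (flp_c L167196) L197849 L226043
theorem L226047 : sm gd N27223 = N29127 := ded_14_0 L226045 (flp_d L197857) L210919
theorem L226049 : sm gf N25449 = N29128 := rfl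
theorem L226051 : sm gb N29128 = N29087 := ded_16_1 (flp_f L225837) (flp_b L197747) L167198 L197849 L226049
theorem L226053 : sm ga N25451 = N29129 := rfl
theorem L226055 : sm gd N29129 = N28036 := ded_9_2 (flp_a L217242) (flp_d L197861) L226053
theorem L226057 : sm gf N29129 = N28650 := ded_11_2 (flp_a L222030) (flp_f L197863) L226053
theorem L226059 : sm gg N25451 = N29130 := rfl
theorem L226061 : sm gc N29130 = N28661 := ded_21_1 L222116 L199746 L226059
theorem L226063 : sm gd N29130 = N28037 := ded_24_1 (flp_g L217246) (flp_d L197861) L226059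
theorem L226065 : sm gb N25452 = N29131 := rfl
theorem L226067 : sm gd N29131 = N28038 := ded_14_2 (flp_b L217248) (flp_d L197869) L226065
theorem L226069 : sm gb N25453 = N29132 := rfl
theorem L226071 : sm gd N29132 = N27918 := ded_14_2 (flp_b L216321) (flp_d L197879) L226069
theorem L226073 : sm gc N25455 = N29133 := rfl
theorem L226075 : sm ge N29133 = N28567 := ded_19_2 (flp_c L221386) (flp_e L197891) L226073
theorem L226077 : sm gf N29133 = N25715 := ded_20_2 (flp_c L199395) (flp_f L197893) L226073
theorem L226079 : sm gb N25456 = N29134 := rfl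
theorem L226081 : sm ge N29134 = N28491 := ded_15_2 (flp_b L220838) (flp_e L197899) L226079
theorem L226083 : sm gf N25458 = N29135 := rfl
theorem L226085 : sm ga N29135 = N25646 := ded_11_1 (flp_f L219426) L219422 L226083
theorem L226087 : sm gc N29135 = N25459 := ded_20_1 (flp_f L197915) L197913 L226083
theorem L226089 : sm ge N29135 = N28970 := ded_25_1 (flp_f L225027) L220088 L226083
theorem L226091 : sm gg N29135 = N25642 := ded_29_3 L199030 L199044 (flp_g L199052) L226083
theorem L226093 : sm ga N25460 = N29136 := rfl
theorem L226095 : sm gd N28238 = N29136 := ded_28_7 (flp_a L226093) L217010 (flp_d L217006) L187859 L156506 (flp_c L158075) L189637 L218852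
theorem L226097 : sm gb N29136 = N29130 := ded_14_1 L226063 L222906 L226095
theorem L226099 : sm gg N29136 = N29131 := ded_24_2 L226067 (flp_g L222902) L226095
theorem L226101 : sm gd N25460 = N29137 := rfl
theorem L226103 : sm ga N29137 = N28238 := ded_9_1 L226095 (flp_a L226093) L226101
theorem L226105 : sm gb N29137 = N25461 := ded_14_1 (flp_d L197929) L197927 L226101
theorem L226107 : sm gc N28232 = N29137 := ded_28_0 (flp_d L226101) L217010 (flp_d L217006) L187859 L156506 (flp_c L158075) L189637 (flp_a L218798)
theorem L226109 : sm gf N25460 = N29138 := rfl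
theorem L226111 : sm gb N29138 = N25470 := ded_16_1 (flp_f L197971) (flp_b L167304) (flp_f L167282) L197927 L226109
theorem L226113 : sm gg N25460 = N29139 := rfl
theorem L226115 : sm ga N29139 = N29131 := ded_12_1 (flp_g L226099) (flp_a L226093) L226113
theorem L226117 : sm ge N25461 = N29140 := rfl
theorem L226119 : sm ga N29140 = N25463 := ded_10_1 (flp_e L197939) (flp_a L197931) L226117
theorem L226121 : sm gf N29140 = N25472 := ded_25_2 (flp_e L197975) (flp_f L197933) L226117
theorem L226123 : sm gb N25462 = N29141 := rfl
theorem L226125 : sm gc N29141 = N27404 := ded_13_2 (flp_b L212293) (flp_c L197911) L197907 L197935 L226123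
theorem L226127 : sm ge N25462 = N29142 := rfl
theorem L226129 : sm gc N29142 = N25463 := ded_19_1 (flp_e L197939) L197935 L226127
theorem L226131 : sm gf N29142 = N25476 := ded_25_2 (flp_e L197991) (flp_f L197937) L226127
theorem L226133 : sm gg N25462 = N29143 := rfl
theorem L226135 : sm gc N29143 = N25464 := ded_21_1 (flp_g L197943) L197935 L226133
theorem L226137 : sm gd N29143 = N25592 := ded_24_1 L198715 (flp_d L198504) L226133
theorem L226139 : sm gf N25588 = N29143 := ded_29_0 (flp_g L226133) L197937 L197995 (flp_a L198689)
theorem L226141 : sm gg N25463 = N29144 := rfl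
theorem L226143 : sm ge N29144 = N25464 := ded_26_1 (flp_g L197943) L197939 L226141
theorem L226145 : sm gb N25464 = N29145 := rfl
theorem L226147 : sm gd N29145 = N25465 := ded_14_2 (flp_b L197947) (flp_d L197945) L226145
theorem L226149 : sm ga N25465 = N29146 := rfl
theorem L226151 : sm gf N25465 = N29147 := rfl
theorem L226153 : sm ga N25466 = N29148 := rfl
theorem L226155 : sm gc N29148 = N25468 := ded_8_2 (flp_a L197965) (flp_c L197953) L226153
theorem L226157 : sm gd N29148 = N28003 := ded_9_2 (flp_a L216986) (flp_d L197951) L226153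
theorem L226159 : sm ge N29148 = N28966 := ded_10_2 L224995 L220132 L226153
theorem L226161 : sm gg N25663 = N29148 := ded_21_0 L226155 (flp_g L220028) L219706
theorem L226163 : sm gf N25466 = N29149 := rfl
theorem L226165 : sm gc N29149 = N25470 := ded_20_1 (flp_f L197971) (flp_c L197953) L226163
theorem L226167 : sm gd N29149 = N28005 := ded_23_1 (flp_f L216998) (flp_d L197951) L226163
theorem L226169 : sm gg N25466 = N29150 := rfl
theorem L226171 : sm ga N29150 = N25663 := ded_12_1 L226161 (flp_a L226153) L226169
theorem L226173 : sm gc N29150 = N25471 := ded_21_1 (flp_g L197973) (flp_c L197953) L226169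
theorem L226175 : sm gd N29150 = N28006 := ded_24_1 (flp_g L217002) (flp_d L197951) L226169
theorem L226177 : sm ge N29150 = N28968 := ded_26_1 L225009 L220132 L226169
theorem L226179 : sm gb N25467 = N29151 := rfl
theorem L226181 : sm gd N29151 = N28009 := ded_14_2 (flp_b L217018) (flp_d L197961) L226179
theorem L226183 : sm gf N25468 = N29152 := rfl
theorem L226185 : sm ga N29152 = N25470 := ded_11_1 (flp_f L197971) L197965 L226183
theorem L226187 : sm ge N25469 = N29153 := rfl
theorem L226189 : sm gb N29153 = N25472 := ded_15_1 (flp_e L197975) (flp_b L197969) L226187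
theorem L226191 : sm gf N25469 = N29154 := rfl
theorem L226193 : sm gd N29154 = N25470 := ded_23_1 (flp_f L197971) L197967 L226191
theorem L226195 : sm gg N25469 = N29155 := rfl
theorem L226197 : sm gd N29155 = N25471 := ded_24_1 (flp_g L197973) L197967 L226195
theorem L226199 : sm gg N25470 = N29156 := rfl
theorem L226201 : sm ge N29156 = N29037 := ded_26_1 (flp_g L225425) L220166 L226199
theorem L226203 : sm gf N28337 = N29156 := ded_29_0 (flp_g L226199) (flp_f L197971) L197973 L220032
theorem L226205 : sm gb N28343 = N29156 := ded_31_14 (flp_g L226199) (flp_f L197971) (flp_b L167304) L167310 L167316 L197947 (flp_g L222028) L222026 (flp_b L220062) L220066 (flp_f L220072) (flp_b L219748) (flp_g L219740) L219738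
theorem L226207 : sm gb N25471 = N29157 := rfl
theorem L226209 : sm gg N29157 = N25474 := ded_17_2 (flp_b L197987) (flp_g L167310) L167304 L197973 L226207
theorem L226211 : sm gf N25471 = N29158 := rfl
theorem L226213 : sm ga N29158 = N29156 := ded_11_1 (flp_f L226203) (flp_a L220032) L226211
theorem L226215 : sm gg N29158 = N29152 := ded_29_3 L226185 (flp_f L197971) L197973 L226211
theorem L226217 : sm gg N25472 = N29159 := rfl
theorem L226219 : sm ga N29159 = N25478 := ded_12_1 (flp_g L197999) (flp_a L197977) L226217
theorem L226221 : sm gd N29159 = N28815 := ded_24_1 L223633 L220182 L226217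
theorem L226223 : sm ge N29159 = N25473 := ded_26_1 (flp_g L197979) L197975 L226217
theorem L226225 : sm gf N29159 = N29144 := ded_29_2 (flp_g L226141) (flp_a L226119) L226121 L226217
theorem L226227 : sm gb N25473 = N29160 := rfl
theorem L226229 : sm gd N29160 = N25474 := ded_14_2 (flp_b L197987) (flp_d L197983) L226227
theorem L226231 : sm ga N25474 = N29161 := rfl
theorem L226233 : sm gf N25474 = N29162 := rfl
theorem L226235 : sm gb N29162 = N29147 := ded_16_1 (flp_f L226151) (flp_b L197947) (flp_f L167316) L197987 L226233
theorem L226237 : sm ga N28491 = N29162 := ded_30_19 (flp_f L226233) (flp_c L219980) (flp_b L219976) L191049 (flp_f L159285) (flp_c L110337) (flp_b L92585) (flp_a L45199) (flp_f L45197) (flp_c L45169) L92548 L150842 L110289 (flp_c L167033) L159130 (flp_a L159331) L160048 (flp_c L191762) L220838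
theorem L226239 : sm gf N29161 = N28491 := ded_11_2 L226237 (flp_f L226233) L226231
theorem L226241 : sm gd N29162 = N28494 := ded_9_2 (flp_a L220852) (flp_d L220840) L226237
theorem L226243 : sm gd N28489 = N29161 := ded_23_3 L226239 L220840 (flp_f L220826)
theorem L226245 : sm gb N28487 = N29161 := ded_16_5 L226239 (flp_b L220838) (flp_f L191758) (flp_b L191744) L220810
theorem L226247 : sm gf N28494 = N29160 := ded_23_2 L226229 L226233 L226241
theorem L226249 : sm ga N29160 = N28489 := ded_9_3 L226243 (flp_a L226231) (flp_d L226229)
theorem L226251 : sm ge N25475 = N29163 := rfl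
theorem L226253 : sm gb N29163 = N25476 := ded_15_1 (flp_e L197991) L197989 L226251
theorem L226255 : sm gd N29163 = N27566 := ded_22_1 L213397 L213487 (flp_e L213491) L198613 L226251
theorem L226257 : sm gf N25475 = N29164 := rfl
theorem L226259 : sm gg N25475 = N29165 := rfl
theorem L226261 : sm gg N25476 = N29166 := rfl
theorem L226263 : sm gc N29166 = N25478 := ded_21_1 (flp_g L197999) (flp_c L197993) L226261
theorem L226265 : sm ge N29166 = N25477 := ded_26_1 (flp_g L197995) L197991 L226261
theorem L226267 : sm gb N25477 = N29167 := rfl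
theorem L226269 : sm gf N25477 = N29168 := rfl
theorem L226271 : sm ga N29168 = N29143 := ded_11_1 (flp_f L226139) L198689 L226269
theorem L226273 : sm gc N29168 = N25480 := ded_20_1 (flp_f L198007) (flp_c L197997) L226269
theorem L226275 : sm gd N29168 = N25563 := ded_23_1 (flp_f L198631) L198629 L226269
theorem L226277 : sm gg N29168 = N25561 := ded_29_3 L198518 L197937 L197995 L226269
theorem L226279 : sm gb N25478 = N29169 := rfl
theorem L226281 : sm ge N29169 = N25479 := ded_15_2 (flp_b L198003) (flp_e L198001) L226279
theorem L226283 : sm gf N25478 = N29170 := rfl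
theorem L226285 : sm ga N29170 = N29144 := ded_11_1 (flp_f L226225) L226219 L226283
theorem L226287 : sm ge N29170 = N25480 := ded_25_1 (flp_f L198007) (flp_e L198001) L226283
theorem L226289 : sm gg N29170 = N29140 := ded_29_3 L226119 L197941 L197999 L226283
theorem L226291 : sm ga N25479 = N29171 := rfl
theorem L226293 : sm gd N29171 = N25481 := ded_9_2 (flp_a L198015) (flp_d L198005) L226291
theorem L226295 : sm gf N29171 = N29035 := ded_29_0 (flp_g L225413) (flp_f L225309) L225311 L226291
theorem L226297 : sm gc N25479 = N29172 := rfl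
theorem L226299 : sm gf N25479 = N29173 := rfl
theorem L226301 : sm ga N29173 = N29035 := ded_11_1 (flp_f L226295) (flp_a L226291) L226299
theorem L226303 : sm gd N29173 = N25482 := ded_23_1 (flp_f L198021) (flp_d L198005) L226299
theorem L226305 : sm gg N29173 = N29033 := ded_29_3 (flp_a L225407) (flp_f L225309) L225311 L226299
theorem L226307 : sm gb N25480 = N29174 := rfl
theorem L226309 : sm gd N29174 = N25483 := ded_14_2 (flp_b L198029) (flp_d L198011) L226307
theorem L226311 : sm gb N25481 = N29175 := rfl
theorem L226313 : sm gb N25482 = N29176 := rfl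
theorem L226315 : sm ge N29176 = N29071 := ded_15_2 L225735 L220234 L226313
theorem L226317 : sm gf N29176 = N25483 := ded_16_2 (flp_b L198029) (flp_f L167330) L167326 L198021 L226313
theorem L226319 : sm ga N29176 = N28354 := ded_7_1 (flp_b L219810) L190929 L159163 (flp_a L159389) L191183 L220148 (flp_b L220152) (flp_a L198023) L226313
theorem L226321 : sm ga N25483 = N29177 := rfl
theorem L226323 : sm ge N29177 = N29073 := ded_10_2 L225749 L220240 L226321
theorem L226325 : sm gf N29177 = N28354 := ded_11_2 (flp_a L226319) L226317 L226321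
theorem L226327 : sm gb N28243 = N29177 := ded_15_3 L226323 L225751 (flp_e L218894)
theorem L226329 : sm gc N25483 = N29178 := rfl
theorem L226331 : sm gb N29178 = N25484 := ded_13_1 (flp_c L198031) (flp_b L167338) (flp_c L167334) L198029 L226329
theorem L226333 : sm gd N27211 = N29178 := ded_14_0 L226331 (flp_d L198037) L210835
theorem L226335 : sm gg N25483 = N29179 := rfl
theorem L226337 : sm gb N29179 = N29139 := ded_17_1 (flp_g L226113) (flp_b L197927) (flp_g L167336) L198029 L226335
theorem L226339 : sm gc N25486 = N29180 := rfl
theorem L226341 : sm ge N29180 = N27258 := ded_19_2 (flp_c L211181) (flp_e L198053) L226339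
theorem L226343 : sm gg N29180 = N27015 := ded_21_2 (flp_c L209211) (flp_g L198055) L226339
theorem L226345 : sm gb N29180 = N25632 := ded_13_1 (flp_c L198970) (flp_b L167990) (flp_c L167407) L198049 L226339
theorem L226347 : sm gd N25487 = N29181 := rfl
theorem L226349 : sm gb N29181 = N25490 := ded_14_1 (flp_d L198080) (flp_b L198063) L226347
theorem L226351 : sm gg N29181 = N27024 := ded_24_2 (flp_d L209279) (flp_g L198061) L226347
theorem L226353 : sm ge N29181 = N27543 := ded_22_2 L213237 L182460 L178247 (flp_e L198059) L226347
theorem L226355 : sm gc N25490 = N29182 := rfl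
theorem L226357 : sm gg N29182 = N29182 := ded_21_2 (flp_c L226355) L198082 L226355
theorem L226358 : sm gd N29182 = N25595 := ded_28_7 L198738 (flp_c L198087) (flp_d L167435) (flp_c L116108) (flp_d L116100) L167428 L198080 L226355
theorem L226360 : sm ge N25490 = N29183 := rfl
theorem L226362 : sm gb N29183 = N27543 := ded_15_1 (flp_e L226353) L226349 L226360
theorem L226364 : sm gg N29183 = N29183 := ded_26_2 (flp_e L226360) L198082 L226360
theorem L226365 : sm gd N29183 = N27545 := ded_22_1 L213251 L198072 L198067 L198080 L226360
theorem L226367 : sm gf N25490 = N29184 := rfl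
theorem L226369 : sm gd N29184 = N25491 := ded_23_1 (flp_f L198083) L198080 L226367
theorem L226371 : sm gb N25491 = N29185 := rfl
theorem L226373 : sm ge N29185 = N27749 := ded_15_2 L214829 (flp_e L207870) L226371
theorem L226375 : sm gc N29185 = N27532 := ded_13_2 (flp_b L213177) L200319 L168925 (flp_c L198085) L226371
theorem L226377 : sm gg N29185 = N27474 := ded_17_2 (flp_b L212777) L182081 (flp_b L207880) L207884 L226371
theorem L226379 : sm ga N27608 = N29185 := ded_10_3 L226373 L214823 (flp_e L213687)
theorem L226381 : sm gd N25492 = N29186 := rfl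
theorem L226383 : sm ga N29186 = N29182 := ded_9_1 L226358 L198738 L226381
theorem L226385 : sm gb N29186 = N27552 := ded_14_1 (flp_d L213945) L222894 L226381
theorem L226387 : sm gg N29186 = N29186 := ded_24_2 (flp_d L226381) L198089 L226381
theorem L226388 : sm gc N29044 = N29186 := ded_28_0 (flp_d L226381) (flp_c L198087) (flp_d L167435) (flp_c L116108) (flp_d L116100) L167428 L198080 (flp_a L225489)
theorem L226390 : sm ge N25492 = N29187 := rfl
theorem L226392 : sm gb N29187 = N28127 := ded_15_1 L217910 L222894 L226390
theorem L226394 : sm gc N29187 = N25493 := ded_19_1 (flp_e L198090) L198087 L226390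
theorem L226396 : sm gg N29187 = N29187 := ded_26_2 (flp_e L226390) L198089 L226390
theorem L226397 : sm gf N25492 = N29188 := rfl
theorem L226399 : sm gc N29188 = N25494 := ded_20_1 (flp_f L198097) L198087 L226397
theorem L226401 : sm gf N25493 = N29189 := rfl
theorem L226403 : sm gd N29189 = N26498 := ded_23_1 (flp_f L204750) (flp_d L198095) L226401
theorem L226405 : sm ge N29189 = N25494 := ded_25_1 (flp_f L198097) L198090 L226401
theorem L226407 : sm gb N25494 = N29190 := rfl
theorem L226409 : sm gd N29190 = N25495 := ded_14_2 (flp_b L198101) (flp_d L198099) L226407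
theorem L226411 : sm gf N29190 = N25507 := ded_16_2 (flp_b L198175) (flp_f L167480) (flp_b L167437) L198097 L226407
theorem L226413 : sm gg N26856 = N29190 := ded_24_0 L226409 (flp_g L198109) L207784
theorem L226415 : sm gc N25497 = N29191 := rfl
theorem L226417 : sm ge N25497 = N29192 := rfl
theorem L226419 : sm gb N29192 = N25501 := ded_15_1 (flp_e L198141) (flp_b L198115) L226417
theorem L226421 : sm gd N29192 = N26500 := ded_22_1 (flp_e L204768) (flp_d L171950) (flp_e L167462) L198113 L226417
theorem L226423 : sm gf N25497 = N29193 := rfl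
theorem L226425 : sm gd N29193 = N25498 := ded_23_1 (flp_f L198117) L198113 L226423
theorem L226427 : sm gg N29193 = N25507 := ded_29_1 (flp_f L226411) (flp_g L226413) L207786 L226423
theorem L226429 : sm gg N25497 = N29194 := rfl
theorem L226431 : sm ga N29194 = N29190 := ded_12_1 (flp_g L226413) L207786 L226429
theorem L226433 : sm gd N29194 = N25499 := ded_24_1 (flp_g L198123) L198113 L226429
theorem L226435 : sm gb N29194 = N25515 := ded_17_1 (flp_g L198228) L167494 (flp_g L167468) (flp_b L198115) L226429
theorem L226437 : sm gb N25500 = N29195 := rfl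
theorem L226439 : sm gd N29195 = N29090 := ded_14_2 (flp_b L225851) L198139 L226437
theorem L226441 : sm ge N25500 = N29196 := rfl
theorem L226443 : sm ga N29196 = N25504 := ded_10_1 (flp_e L198159) (flp_a L198135) L226441
theorem L226445 : sm gc N29196 = N25501 := ded_19_1 (flp_e L198141) L198133 L226441
theorem L226447 : sm gg N29196 = N25518 := ded_26_2 (flp_e L198244) (flp_g L198137) L226441
theorem L226449 : sm gd N27114 = N29196 := ded_28_7 L226443 L198161 L167478 (flp_c L163413) L130160 (flp_c L130386) (flp_d L179339) (flp_c L210043)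
theorem L226451 : sm gd N25502 = N29197 := rfl
theorem L226453 : sm gb N29197 = N25503 := ded_14_1 (flp_d L198151) L198149 L226451
theorem L226455 : sm gf N29197 = N26233 := ded_23_2 (flp_d L214188) (flp_f L222781) L226451
theorem L226457 : sm gg N29197 = N27680 := ded_24_2 L214208 (flp_g L222783) L226451
theorem L226459 : sm gc N26238 = N29197 := ded_28_0 (flp_d L226451) L222777 L213945 L213289 L200821 L173296 (flp_d L203025) (flp_a L203037)
theorem L226461 : sm ge N25503 = N29198 := rfl
theorem L226463 : sm ga N29198 = N29091 := ded_10_1 (flp_e L225855) (flp_a L198153) L226461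
theorem L226465 : sm gc N29198 = N29089 := ded_19_1 (flp_e L225845) L198157 L226461
theorem L226467 : sm gg N29198 = N25529 := ded_26_2 (flp_e L198310) (flp_g L198155) L226461
theorem L226469 : sm gd N25504 = N29199 := rfl
theorem L226471 : sm ga N29199 = N27114 := ded_9_1 L226449 L226443 L226469
theorem L226473 : sm gg N29199 = N25531 := ded_24_2 (flp_d L198324) (flp_g L198163) L226469
theorem L226475 : sm gc N27112 = N29199 := ded_28_0 (flp_d L226469) L198161 L167478 (flp_c L163413) L130160 (flp_c L130386) (flp_d L179339) (flp_a L210025)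
theorem L226477 : sm gf N25504 = N29200 := rfl
theorem L226479 : sm gc N29200 = N25506 := ded_20_1 (flp_f L198169) (flp_c L198161) L226477
theorem L226481 : sm ge N29200 = N25505 := ded_25_1 (flp_f L198165) L198159 L226477
theorem L226483 : sm gb N25505 = N29201 := rfl
theorem L226485 : sm gb N25506 = N29202 := rfl
theorem L226487 : sm gd N29202 = N26502 := ded_14_2 (flp_b L204782) (flp_d L198171) L226485
theorem L226489 : sm ge N29202 = N25507 := ded_15_2 (flp_b L198175) (flp_e L198173) L226485
theorem L226491 : sm ga N25507 = N29203 := rfl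
theorem L226493 : sm gd N29203 = N25508 := ded_9_2 (flp_a L198179) (flp_d L198177) L226491
theorem L226495 : sm gf N29203 = N29194 := ded_11_2 L226431 L226411 L226491
theorem L226497 : sm gc N25507 = N29204 := rfl
theorem L226499 : sm gg N25510 = N29205 := rfl
theorem L226501 : sm ga N29205 = N25515 := ded_12_1 (flp_g L198228) (flp_a L198194) L226499
theorem L226503 : sm gc N29205 = N27675 := ded_21_1 (flp_g L214158) (flp_c L198198) L226499
theorem L226505 : sm gd N29205 = N25511 := ded_24_1 (flp_g L198200) L198192 L226499
theorem L226507 : sm gf N27990 = N29205 := ded_29_0 (flp_g L226499) L216877 (flp_g L216867) (flp_a L216855)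
theorem L226509 : sm gb N29205 = N28062 := ded_17_1 L217440 L198567 (flp_g L183053) (flp_b L198196) L226499
theorem L226511 : sm gb N25512 = N29206 := rfl
theorem L226513 : sm gd N29206 = N28795 := ded_14_2 (flp_b L223499) (flp_d L198216) L226511
theorem L226515 : sm gc N29206 = N25517 := ded_13_2 (flp_b L198240) (flp_c L167508) (flp_b L167494) L198212 L226511
theorem L226517 : sm gf N25512 = N29207 := rfl
theorem L226519 : sm ga N29207 = N27674 := ded_11_1 (flp_f L214150) (flp_a L198214) L226517
theorem L226521 : sm gc N29207 = N25514 := ded_20_1 (flp_f L198224) L198212 L226517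
theorem L226523 : sm gd N29207 = N28796 := ded_23_1 (flp_f L223503) (flp_d L198216) L226517
theorem L226525 : sm gg N25512 = N29208 := rfl
theorem L226527 : sm ga N29208 = N27675 := ded_12_1 (flp_g L214158) (flp_a L198214) L226525
theorem L226529 : sm gc N29208 = N25515 := ded_21_1 (flp_g L198228) L198212 L226525
theorem L226531 : sm gd N29208 = N28797 := ded_24_1 (flp_g L223509) (flp_d L198216) L226525
theorem L226533 : sm gf N29208 = N27991 := ded_29_2 (flp_g L216865) (flp_a L226519) (flp_f L226517) L226525
theorem L226535 : sm gb N27648 = N29208 := ded_16_5 L226533 (flp_b L222525) (flp_f L217428) L213859 L213949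
theorem L226537 : sm gb N28797 = N27553 := ded_14_3 (flp_d L213953) L226535 L226531
theorem L226539 : sm gf N25513 = N29209 := rfl
theorem L226541 : sm ga N29209 = N27389 := ded_11_1 (flp_f L212171) (flp_a L204410) L226539
theorem L226543 : sm gd N29209 = N26507 := ded_23_1 (flp_f L204827) (flp_d L198222) L226539
theorem L226545 : sm ge N29209 = N25514 := ded_25_1 (flp_f L198224) L198218 L226539
theorem L226547 : sm gg N29209 = N27387 := ded_29_3 L212163 (flp_f L212147) L212149 L226539
theorem L226549 : sm gb N25514 = N29210 := rfl
theorem L226551 : sm gd N29210 = N25516 := ded_14_2 (flp_b L198234) (flp_d L198226) L226549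
theorem L226553 : sm gf N29210 = N25521 := ded_16_2 (flp_b L198272) (flp_f L167520) (flp_b L167494) L198224 L226549
theorem L226555 : sm gf N25517 = N29211 := rfl
theorem L226557 : sm gd N29211 = N29113 := ded_23_1 (flp_f L225971) (flp_d L198242) L226555
theorem L226559 : sm gg N25517 = N29212 := rfl
theorem L226561 : sm gd N29212 = N29114 := ded_24_1 (flp_g L225973) (flp_d L198242) L226559
theorem L226563 : sm gf N25518 = N29213 := rfl
theorem L226565 : sm ga N29213 = N25532 := ded_11_1 (flp_f L198330) (flp_a L198246) L226563
theorem L226567 : sm gc N29213 = N25520 := ded_20_1 (flp_f L198262) (flp_c L198248) L226563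
theorem L226569 : sm gd N29213 = N27104 := ded_23_1 L209963 L198250 L226563
theorem L226571 : sm ge N29213 = N25519 := ded_25_1 (flp_f L198252) L198244 L226563
theorem L226573 : sm gg N29200 = N29213 := ded_29_1 (flp_f L226563) (flp_g L226447) L226443 L226477
theorem L226575 : sm gb N25519 = N29214 := rfl
theorem L226577 : sm gd N29214 = N29116 := ded_14_2 (flp_b L225981) (flp_d L198258) L226575
theorem L226579 : sm gb N25520 = N29215 := rfl
theorem L226581 : sm gd N29215 = N26509 := ded_14_2 (flp_b L204845) (flp_d L198266) L226579
theorem L226583 : sm ge N29215 = N25521 := ded_15_2 (flp_b L198272) (flp_e L198268) L226579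
theorem L226585 : sm ga N25521 = N29216 := rfl
theorem L226587 : sm gd N29216 = N25522 := ded_9_2 (flp_a L198276) (flp_d L198274) L226585
theorem L226589 : sm gb N29216 = N26821 := ded_7_2 L207501 L198480 L167712 (flp_b L167679) L167677 (flp_b L167555) (flp_a L167522) L198272 L226585
theorem L226591 : sm gc N29210 = N29216 := ded_28_2 L226587 L198278 (flp_d L185117) (flp_c L215337) L215343 (flp_a L221044) L221046 (flp_d L226551)
theorem L226593 : sm gc N25521 = N29217 := rfl
theorem L226595 : sm ga N29217 = N29210 := ded_8_1 L226591 (flp_a L226585) L226593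
theorem L226597 : sm gf N29217 = N29216 := ded_20_2 (flp_c L226591) L226553 L226593
theorem L226599 : sm gd N25540 = N29217 := ded_28_3 (flp_c L226593) L198274 (flp_c L191948) (flp_d L215331) L215327 (flp_c L215337) L215343 L207515
theorem L226601 : sm gb N29217 = N25538 := ded_14_1 L198368 L198374 L226599
theorem L226603 : sm gg N29217 = N25539 := ded_24_2 L198372 (flp_g L198378) L226599
theorem L226605 : sm gc N25538 = N29214 := ded_13_2 (flp_b L226575) L198256 L198272 L226593 L226601
theorem L226607 : sm gg N29214 = N25537 := ded_21_2 (flp_c L198363) L198366 L226605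
theorem L226609 : sm gg N25521 = N29218 := rfl
theorem L226611 : sm gc N29218 = N25539 := ded_21_1 (flp_g L226603) (flp_c L226593) L226609
theorem L226613 : sm gd N29218 = N25523 := ded_24_1 (flp_g L198284) (flp_d L198274) L226609
theorem L226615 : sm gf N29218 = N25539 := ded_29_2 (flp_g L226603) L226595 L226553 L226609
theorem L226617 : sm gb N29218 = N29193 := ded_17_1 L226427 (flp_b L198175) L167526 L198272 L226609
theorem L226619 : sm gg N25522 = N29219 := rfl
theorem L226621 : sm ga N29219 = N25523 := ded_12_1 (flp_g L198284) L198276 L226619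
theorem L226623 : sm gc N29219 = N26824 := ded_21_1 (flp_g L207523) (flp_c L198278) L226619
theorem L226625 : sm ge N29219 = N26513 := ded_26_1 (flp_g L204871) (flp_e L198280) L226619
theorem L226627 : sm gf N25541 = N29219 := ded_29_0 (flp_g L226619) L198382 L198378 L198384
theorem L226629 : sm gf N25529 = N29220 := rfl
theorem L226631 : sm ga N29220 = N29115 := ded_11_1 (flp_f L225975) (flp_a L198312) L226629
theorem L226633 : sm gc N29220 = N29108 := ded_20_1 (flp_f L225945) (flp_c L198314) L226629
theorem L226635 : sm ge N29220 = N25530 := ded_25_1 (flp_f L198316) L198310 L226629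
theorem L226637 : sm gb N25530 = N29221 := rfl
theorem L226639 : sm gd N29221 = N25533 := ded_14_2 (flp_b L198336) (flp_d L198322) L226637
theorem L226641 : sm gf N25531 = N29222 := rfl
theorem L226643 : sm ga N29222 = N27104 := ded_11_1 L209963 (flp_a L198326) L226641
theorem L226645 : sm gc N29222 = N27103 := ded_20_1 L209957 L198328 L226641
theorem L226647 : sm gd N29222 = N25532 := ded_23_1 (flp_f L198330) L198324 L226641
theorem L226649 : sm gb N25532 = N29223 := rfl
theorem L226651 : sm ge N29223 = N25533 := ded_15_2 (flp_b L198336) (flp_e L198334) L226649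
theorem L226653 : sm gf N29223 = N28133 := ded_16_2 (flp_b L217956) (flp_f L188418) (flp_b L214034) L198330 L226649
theorem L226655 : sm gg N25532 = N29224 := rfl
theorem L226657 : sm ga N29224 = N29200 := ded_12_1 L226573 L226565 L226655
theorem L226659 : sm gc N29224 = N25536 := ded_21_1 (flp_g L198353) (flp_c L198332) L226655
theorem L226661 : sm ge N29224 = N25534 := ded_26_1 (flp_g L198338) (flp_e L198334) L226655
theorem L226663 : sm gf N29196 = N29224 := ded_29_0 (flp_g L226655) (flp_f L198330) (flp_g L198163) (flp_a L226443)
theorem L226665 : sm ga N25533 = N29225 := rfl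
theorem L226667 : sm gc N25533 = N29226 := rfl
theorem L226669 : sm gb N29226 = N25537 := ded_13_1 (flp_c L198363) (flp_b L167555) (flp_c L167547) L198336 L226667
theorem L226671 : sm gg N29201 = N29226 := ded_17_0 L226669 (flp_g L226607) (flp_b L226575) (flp_g L198260) L226483
theorem L226673 : sm gg N25533 = N29227 := rfl
theorem L226675 : sm gc N29227 = N29201 := ded_21_1 L226671 (flp_c L226667) L226673
theorem L226677 : sm gb N29204 = N29227 := ded_13_5 L226675 (flp_b L226483) L198167 L198175 L226497
theorem L226679 : sm gb N25534 = N29228 := rfl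
theorem L226681 : sm gc N29228 = N29193 := ded_13_2 (flp_b L226617) L226611 (flp_b L198370) (flp_c L198342) L226679
theorem L226683 : sm gg N29228 = N29204 := ded_17_2 L226677 (flp_g L226673) (flp_b L198336) L198338 L226679
theorem L226685 : sm gf N29191 = N29228 := ded_20_0 L226681 (flp_f L226423) L226415
theorem L226687 : sm gc N25535 = N29229 := rfl
theorem L226689 : sm ge N29229 = N25537 := ded_19_2 (flp_c L198363) (flp_e L198350) L226687
theorem L226691 : sm gf N29229 = N29229 := ded_20_2 (flp_c L226687) L198352 L226687
theorem L226692 : sm gg N25535 = N29230 := rfl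
theorem L226694 : sm gd N29230 = N26514 := ded_24_1 (flp_g L204879) (flp_d L198348) L226692
theorem L226696 : sm ge N29230 = N25538 := ded_26_1 (flp_g L198366) (flp_e L198350) L226692
theorem L226698 : sm gb N25536 = N29231 := rfl
theorem L226700 : sm gd N29231 = N26515 := ded_14_2 (flp_b L204883) (flp_d L198357) L226698
theorem L226702 : sm ge N29231 = N25539 := ded_15_2 (flp_b L198370) (flp_e L198359) L226698
theorem L226704 : sm gd N25537 = N29232 := rfl
theorem L226706 : sm gf N29232 = N29232 := ded_23_2 (flp_d L226704) L198365 L226704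
theorem L226707 : sm gg N29232 = N29116 := ded_24_2 (flp_d L226577) L226607 L226704
theorem L226709 : sm gc N25548 = N29232 := ded_28_0 (flp_d L226704) (flp_c L198363) L167557 L116192 (flp_d L166941) L197542 L225550 L225552
theorem L226711 : sm ga N25539 = N29233 := rfl
theorem L226713 : sm gd N29233 = N25541 := ded_9_2 (flp_a L198384) (flp_d L198372) L226711
theorem L226715 : sm gg N29233 = N29210 := ded_12_2 (flp_a L226595) L226603 L226711
theorem L226717 : sm gb N25541 = N29234 := rfl
theorem L226719 : sm ge N29234 = N26521 := ded_15_2 (flp_b L204918) (flp_e L198386) L226717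
theorem L226721 : sm gg N29234 = N27989 := ded_17_2 (flp_b L216845) L187731 L198234 (flp_g L198388) L226717
theorem L226723 : sm gc N28046 = N29234 := ded_30_1 (flp_b L226717) (flp_a L198384) (flp_f L198290) (flp_c L221022) (flp_b L221016) (flp_a L206663) L206669 L174392 (flp_b L174346) (flp_a L203395) (flp_f L203393) (flp_c L171172) L171176 (flp_a L171204) L171234 L171230 L171352 L204209 L217296
theorem L226725 : sm gc N25541 = N29235 := rfl
theorem L226727 : sm ga N29235 = N25542 := ded_8_1 (flp_c L198390) L198384 L226725
theorem L226729 : sm ge N29235 = N26522 := ded_19_2 (flp_c L204924) (flp_e L198386) L226725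
theorem L226731 : sm gf N29235 = N26824 := ded_20_2 (flp_c L226623) (flp_f L226627) L226725
theorem L226733 : sm gg N29235 = N28517 := ded_21_2 L221046 (flp_g L198388) L226725
theorem L226735 : sm gd N28923 = N29235 := ded_28_5 (flp_c L226725) (flp_d L226713) (flp_a L226711) (flp_c L226611) L226613 (flp_c L221022) L221018 (flp_c L224619)
theorem L226737 : sm gc N25544 = N29236 := rfl
theorem L226739 : sm ge N29236 = N27283 := ded_19_2 (flp_c L211372) (flp_e L198410) L226737
theorem L226741 : sm gf N29236 = N27019 := ded_20_2 (flp_c L209241) (flp_f L198412) L226737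
theorem L226743 : sm gb N29236 = N25737 := ded_13_1 (flp_c L199524) (flp_b L168409) (flp_c L167647) L198406 L226737
theorem L226745 : sm gd N25545 = N29237 := rfl
theorem L226747 : sm gb N29237 = N25548 := ded_14_1 (flp_d L198437) (flp_b L198420) L226745
theorem L226749 : sm gf N29237 = N27027 := ded_23_2 (flp_d L209302) (flp_f L198418) L226745
theorem L226751 : sm ge N29237 = N27620 := ded_22_2 L213755 L182858 L178337 (flp_e L198416) L226745
theorem L226753 : sm ge N25548 = N29238 := rfl
theorem L226755 : sm gb N29238 = N27620 := ded_15_1 (flp_e L226751) L226747 L226753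
theorem L226757 : sm gf N29238 = N29238 := ded_25_2 (flp_e L226753) L198439 L226753
theorem L226758 : sm gd N29238 = N27621 := ded_22_1 L213761 L198429 L198424 L198437 L226753
theorem L226760 : sm gg N25548 = N29239 := rfl
theorem L226762 : sm gc N29239 = N29116 := ded_21_1 (flp_g L226707) (flp_c L226709) L226760
theorem L226764 : sm gd N29239 = N25549 := ded_24_1 (flp_g L198440) L198437 L226760
theorem L226766 : sm gb N29121 = N29239 := ded_13_5 L226762 (flp_b L225981) L197817 L197823 L226011
theorem L226768 : sm gb N25549 = N29240 := rfl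
theorem L226770 : sm gd N29240 = N29121 := ded_14_2 L226766 L226764 L226768
theorem L226772 : sm ge N29240 = N27735 := ded_15_2 L214681 (flp_e L207583) L226768
theorem L226774 : sm gc N29240 = N27607 := ded_13_2 (flp_b L213683) L202002 L169930 (flp_c L198442) L226768
theorem L226776 : sm gf N29240 = N27392 := ded_16_2 (flp_b L212197) L181599 (flp_b L207595) L207599 L226768
theorem L226778 : sm ga N27531 = N29240 := ded_10_3 L226772 L214675 (flp_e L213171)
theorem L226780 : sm gd N25550 = N29241 := rfl
theorem L226782 : sm ga N29241 = N29232 := ded_9_1 (flp_d L226704) (flp_a L198446) L226780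
theorem L226784 : sm gb N29241 = N27629 := ded_14_1 (flp_d L214274) L222898 L226780
theorem L226786 : sm gf N29241 = N29241 := ded_23_2 (flp_d L226780) L198448 L226780
theorem L226787 : sm gc N29051 = N29241 := ded_28_0 (flp_d L226780) (flp_c L198444) (flp_d L167675) (flp_c L116340) (flp_d L116332) L167668 L198437 (flp_a L225552)
theorem L226789 : sm ge N25550 = N29242 := rfl
theorem L226791 : sm ga N29242 = N29229 := ded_10_1 L226689 (flp_a L198446) L226789
theorem L226793 : sm gb N29242 = N28149 := ded_15_1 L218068 L222898 L226789
theorem L226795 : sm gc N29242 = N25551 := ded_19_1 (flp_e L198449) L198444 L226789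
theorem L226797 : sm gf N29242 = N29242 := ded_25_2 (flp_e L226789) L198448 L226789
theorem L226798 : sm gg N25550 = N29243 := rfl
theorem L226800 : sm ga N29243 = N29214 := ded_12_1 L226607 (flp_a L198446) L226798
theorem L226802 : sm gc N29243 = N25552 := ded_21_1 (flp_g L198458) L198444 L226798
theorem L226804 : sm gf N29214 = N29243 := ded_29_0 (flp_g L226798) L198448 L226798 L226800
theorem L226806 : sm gb N29243 = N29211 := ded_16_1 (flp_f L226555) (flp_b L198240) L198252 L226575 L226804
theorem L226808 : sm gg N25551 = N29244 := rfl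
theorem L226810 : sm ga N29244 = N29230 := ded_12_1 (flp_g L226692) (flp_a L198451) L226808
theorem L226812 : sm gd N29244 = N26528 := ded_24_1 (flp_g L204988) (flp_d L198456) L226808
theorem L226814 : sm ge N29244 = N25552 := ded_26_1 (flp_g L198458) L198449 L226808
theorem L226816 : sm gf N29230 = N29244 := ded_29_0 (flp_g L226808) L198455 L226808 L226810
theorem L226818 : sm gb N25552 = N29245 := rfl
theorem L226820 : sm gd N29245 = N25553 := ded_14_2 (flp_b L198466) (flp_d L198462) L226818
theorem L226822 : sm gf N29245 = N26821 := ded_16_2 (flp_b L226589) (flp_f L226597) L226601 L198464 L226818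
theorem L226824 : sm gg N29245 = N25565 := ded_17_2 (flp_b L198540) (flp_g L167726) (flp_b L167679) L198458 L226818
theorem L226826 : sm gc N25555 = N29246 := rfl
theorem L226828 : sm ge N25555 = N29247 := rfl
theorem L226830 : sm gb N29247 = N25559 := ded_15_1 (flp_e L198506) (flp_b L198480) L226828
theorem L226832 : sm gd N29247 = N26530 := ded_22_1 (flp_e L205010) (flp_d L172249) (flp_e L167708) L198478 L226828
theorem L226834 : sm gf N25555 = N29248 := rfl
theorem L226836 : sm ga N29248 = N29245 := ded_11_1 L226822 L207501 L226834
theorem L226838 : sm gd N29248 = N25556 := ded_23_1 (flp_f L198482) L198478 L226834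
theorem L226840 : sm gb N29248 = N25572 := ded_16_1 (flp_f L198595) L167740 (flp_f L167714) (flp_b L198480) L226834
theorem L226842 : sm gg N25555 = N29249 := rfl
theorem L226844 : sm gd N29249 = N25557 := ded_24_1 (flp_g L198492) L198478 L226842
theorem L226846 : sm gf N29249 = N25565 := ded_29_2 (flp_g L226824) (flp_a L226836) (flp_f L226834) L226842
theorem L226848 : sm gb N25558 = N29250 := rfl
theorem L226850 : sm gd N29250 = N29141 := ded_14_2 (flp_b L226123) L198504 L226848
theorem L226852 : sm ge N25558 = N29251 := rfl
theorem L226854 : sm ga N29251 = N25562 := ded_10_1 (flp_e L198524) (flp_a L198500) L226852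
theorem L226856 : sm gc N29251 = N25559 := ded_19_1 (flp_e L198506) L198498 L226852
theorem L226858 : sm gf N29251 = N25576 := ded_25_2 (flp_e L198615) (flp_f L198502) L226852
theorem L226860 : sm gd N27088 = N29251 := ded_28_7 L226854 L198526 L167724 (flp_c L163481) L130099 (flp_c L130264) (flp_d L179141) (flp_c L209841)
theorem L226862 : sm gd N25560 = N29252 := rfl
theorem L226864 : sm gb N29252 = N25561 := ded_14_1 (flp_d L198516) L198514 L226862
theorem L226866 : sm gf N29252 = N27641 := ded_23_2 L213909 (flp_f L222842) L226862
theorem L226868 : sm gg N29252 = N26001 := ded_24_2 (flp_d L213871) (flp_g L222844) L226862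
theorem L226870 : sm gc N26006 = N29252 := ded_28_0 (flp_d L226862) L222838 L214274 L213805 L202462 L174815 (flp_d L201402) L201400
theorem L226872 : sm ge N25561 = N29253 := rfl
theorem L226874 : sm ga N29253 = N29142 := ded_10_1 (flp_e L226127) (flp_a L198518) L226872
theorem L226876 : sm gc N29253 = N29140 := ded_19_1 (flp_e L226117) L198522 L226872
theorem L226878 : sm gf N29253 = N25587 := ded_25_2 (flp_e L198681) (flp_f L198520) L226872
theorem L226880 : sm gd N25562 = N29254 := rfl
theorem L226882 : sm ga N29254 = N27088 := ded_9_1 L226860 L226854 L226880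
theorem L226884 : sm gf N29254 = N25589 := ded_23_2 (flp_d L198695) (flp_f L198528) L226880
theorem L226886 : sm gc N27086 = N29254 := ded_28_0 (flp_d L226880) L198526 L167724 (flp_c L163481) L130099 (flp_c L130264) (flp_d L179141) (flp_a L209823)
theorem L226888 : sm gg N25562 = N29255 := rfl
theorem L226890 : sm gc N29255 = N25564 := ded_21_1 (flp_g L198534) (flp_c L198526) L226888
theorem L226892 : sm ge N29255 = N25563 := ded_26_1 (flp_g L198530) L198524 L226888
theorem L226894 : sm gb N25563 = N29256 := rfl
theorem L226896 : sm gb N25564 = N29257 := rfl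
theorem L226898 : sm gd N29257 = N26532 := ded_14_2 (flp_b L205024) (flp_d L198536) L226896
theorem L226900 : sm ge N29257 = N25565 := ded_15_2 (flp_b L198540) (flp_e L198538) L226896
theorem L226902 : sm ga N25565 = N29258 := rfl
theorem L226904 : sm gd N29258 = N25566 := ded_9_2 (flp_a L198544) (flp_d L198542) L226902
theorem L226906 : sm gg N29258 = N29248 := ded_12_2 L226836 L226824 L226902
theorem L226908 : sm gc N25565 = N29259 := rfl
theorem L226910 : sm gf N25568 = N29260 := rfl
theorem L226912 : sm ga N29260 = N25572 := ded_11_1 (flp_f L198595) (flp_a L198565) L226910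
theorem L226914 : sm gc N29260 = N27634 := ded_20_1 (flp_f L213845) (flp_c L198569) L226910
theorem L226916 : sm gd N29260 = N25569 := ded_23_1 (flp_f L198571) L198563 L226910
theorem L226918 : sm gg N29260 = N28060 := ded_29_3 L217418 L217430 L217440 L226910
theorem L226920 : sm gb N29260 = N27992 := ded_16_1 (flp_f L216877) L198196 L183051 (flp_b L198567) L226910
theorem L226922 : sm gb N25570 = N29261 := rfl
theorem L226924 : sm gd N29261 = N28731 := ded_14_2 (flp_b L223062) (flp_d L198587) L226922
theorem L226926 : sm gc N29261 = N25575 := ded_13_2 (flp_b L198611) (flp_c L167754) (flp_b L167740) L198583 L226922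
theorem L226928 : sm gf N25570 = N29262 := rfl
theorem L226930 : sm ga N29262 = N27634 := ded_11_1 (flp_f L213845) (flp_a L198585) L226928
theorem L226932 : sm gc N29262 = N25572 := ded_20_1 (flp_f L198595) L198583 L226928
theorem L226934 : sm gd N29262 = N28732 := ded_23_1 (flp_f L223066) (flp_d L198587) L226928
theorem L226936 : sm gg N29262 = N28061 := ded_29_1 (flp_f L217428) (flp_g L213853) (flp_a L198585) L226928
theorem L226938 : sm gb N27687 = N29262 := ded_30_2 L226930 (flp_f L213845) (flp_c L198569) L198567 L182909 (flp_f L183051) (flp_c L183046) L145862 L104664 L89480 L89489 L104698 L145904 (flp_f L222829) L145793 (flp_b L182940) (flp_a L213877) L213917 (flp_c L214262)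
theorem L226940 : sm gb N28732 = N27628 := ded_14_1 (flp_d L214264) L226938 L226934
theorem L226942 : sm gg N25570 = N29263 := rfl
theorem L226944 : sm ga N29263 = N27635 := ded_12_1 (flp_g L213853) (flp_a L198585) L226942
theorem L226946 : sm gc N29263 = N25573 := ded_21_1 (flp_g L198601) L198583 L226942
theorem L226948 : sm gd N29263 = N28733 := ded_24_1 (flp_g L223072) (flp_d L198587) L226942
theorem L226950 : sm gg N25571 = N29264 := rfl
theorem L226952 : sm ga N29264 = N27472 := ded_12_1 L212763 (flp_a L204329) L226950
theorem L226954 : sm gd N29264 = N26537 := ded_24_1 (flp_g L205075) (flp_d L198593) L226950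
theorem L226956 : sm ge N29264 = N25573 := ded_26_1 (flp_g L198601) L198589 L226950
theorem L226958 : sm gf N27470 = N29264 := ded_29_0 (flp_g L226950) (flp_f L212747) L212749 (flp_a L212755)
theorem L226960 : sm gb N25573 = N29265 := rfl
theorem L226962 : sm gd N29265 = N25574 := ded_14_2 (flp_b L198605) (flp_d L198603) L226960
theorem L226964 : sm gg N29265 = N25579 := ded_17_2 (flp_b L198643) (flp_g L167766) (flp_b L167740) L198601 L226960
theorem L226966 : sm gf N25575 = N29266 := rfl
theorem L226968 : sm gd N29266 = N29164 := ded_23_1 (flp_f L226257) (flp_d L198613) L226966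
theorem L226970 : sm gg N25575 = N29267 := rfl
theorem L226972 : sm gd N29267 = N29165 := ded_24_1 (flp_g L226259) (flp_d L198613) L226970
theorem L226974 : sm gg N25576 = N29268 := rfl
theorem L226976 : sm ga N29268 = N25590 := ded_12_1 (flp_g L198701) (flp_a L198617) L226974
theorem L226978 : sm gc N29268 = N25578 := ded_21_1 (flp_g L198633) (flp_c L198619) L226974
theorem L226980 : sm gd N29268 = N27078 := ded_24_1 L209761 L198621 L226974
theorem L226982 : sm ge N29268 = N25577 := ded_26_1 (flp_g L198623) L198615 L226974
theorem L226984 : sm gf N29268 = N29255 := ded_29_2 (flp_g L226888) (flp_a L226854) L226858 L226974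
theorem L226986 : sm gb N25577 = N29269 := rfl
theorem L226988 : sm gd N29269 = N29167 := ded_14_2 (flp_b L226267) (flp_d L198629) L226986
theorem L226990 : sm gg N29269 = N29188 := ded_31_3 (flp_f L226397) (flp_b L222894) (flp_g L213943) (flp_f L182958) (flp_b L145776) (flp_g L145758) L145756 L145762 L182936 (flp_f L222842) (flp_b L198514) L198530 (flp_f L198631) L226986
theorem L226992 : sm gb N29267 = N29188 := ded_17_5 (flp_g L226990) (flp_b L226986) (flp_g L198623) L198611 L226970
theorem L226994 : sm gc N25596 = N29269 := ded_21_3 L226990 L226399 (flp_g L198747)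
theorem L226996 : sm gf N29269 = N25595 := ded_29_2 L198740 L198738 L226397 (flp_g L226990)
theorem L226998 : sm ga N29269 = N29188 := ded_29_4 (flp_f L226397) L198089 L226397 (flp_g L226990)
theorem L227000 : sm gc N29167 = N29184 := ded_28_6 L226369 (flp_a L207878) L207882 L197451 (flp_c L167820) (flp_d L198745) L226994 L226988
theorem L227002 : sm gf N29182 = N29167 := ded_23_2 (flp_d L226988) L226996 (flp_d L226358)
theorem L227004 : sm gb N29184 = N29172 := ded_13_1 (flp_c L226297) (flp_b L198003) (flp_c L197997) L226267 L227000
theorem L227006 : sm gd N29172 = N29185 := ded_14_2 (flp_b L226371) (flp_d L226369) L227004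
theorem L227008 : sm gb N25578 = N29270 := rfl
theorem L227010 : sm gd N29270 = N26539 := ded_14_2 (flp_b L205093) (flp_d L198637) L227008
theorem L227012 : sm ge N29270 = N25579 := ded_15_2 (flp_b L198643) (flp_e L198639) L227008
theorem L227014 : sm ga N25579 = N29271 := rfl
theorem L227016 : sm gd N29271 = N25580 := ded_9_2 (flp_a L198647) (flp_d L198645) L227014
theorem L227018 : sm gb N29271 = N26856 := ded_7_2 L207786 L198115 L167466 (flp_b L167437) L167806 (flp_b L167801) (flp_a L167768) L198643 L227014
theorem L227020 : sm gc N29265 = N29271 := ded_28_2 L227016 L198649 (flp_d L185319) (flp_c L215425) L215431 (flp_a L220630) L220632 (flp_d L226962)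
theorem L227022 : sm gc N25579 = N29272 := rfl
theorem L227024 : sm ga N29272 = N29265 := ded_8_1 L227020 (flp_a L227014) L227022
theorem L227026 : sm gg N29272 = N29271 := ded_21_2 (flp_c L227020) L226964 L227022
theorem L227028 : sm gb N29272 = N25596 := ded_13_1 L226994 (flp_b L226986) L198627 L198643 L227022
theorem L227030 : sm gd N25598 = N29272 := ded_28_3 (flp_c L227022) L198645 (flp_c L191567) (flp_d L215419) L215415 (flp_c L215425) L215431 L207806
theorem L227032 : sm gf N25597 = N29272 := ded_16_0 L227028 (flp_f L198741) (flp_b L167801) L167808 L198749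
theorem L227034 : sm gf N25579 = N29273 := rfl
theorem L227036 : sm gc N29273 = N25597 := ded_20_1 L227032 (flp_c L227022) L227034
theorem L227038 : sm gd N29273 = N25581 := ded_23_1 (flp_f L198655) (flp_d L198645) L227034
theorem L227040 : sm gg N25597 = N29273 := ded_29_1 (flp_f L227034) (flp_g L226964) (flp_a L227024) (flp_f L227032)
theorem L227042 : sm gb N29273 = N29249 := ded_16_1 L226846 (flp_b L198540) (flp_f L167772) L198643 L227034
theorem L227044 : sm gf N25580 = N29274 := rfl
theorem L227046 : sm ga N29274 = N25581 := ded_11_1 (flp_f L198655) L198647 L227044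
theorem L227048 : sm gc N29274 = N26858 := ded_20_1 (flp_f L207798) (flp_c L198649) L227044
theorem L227050 : sm ge N29274 = N26543 := ded_25_1 (flp_f L205119) (flp_e L198651) L227044
theorem L227052 : sm gg N29274 = N25599 := ded_29_3 (flp_a L198763) (flp_f L198757) L198759 L227044
theorem L227054 : sm gg N25587 = N29275 := rfl
theorem L227056 : sm ga N29275 = N29166 := ded_12_1 (flp_g L226261) (flp_a L198683) L227054
theorem L227058 : sm gc N29275 = N29159 := ded_21_1 (flp_g L226217) (flp_c L198685) L227054
theorem L227060 : sm ge N29275 = N25588 := ded_26_1 (flp_g L198687) L198681 L227054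
theorem L227062 : sm gb N25588 = N29276 := rfl
theorem L227064 : sm gd N29276 = N25591 := ded_14_2 (flp_b L198707) (flp_d L198693) L227062
theorem L227066 : sm gg N25589 = N29277 := rfl
theorem L227068 : sm ga N29277 = N27078 := ded_12_1 L209761 (flp_a L198697) L227066
theorem L227070 : sm gc N29277 = N27077 := ded_21_1 L209755 L198699 L227066
theorem L227072 : sm gd N29277 = N25590 := ded_24_1 (flp_g L198701) L198695 L227066
theorem L227074 : sm gb N25590 = N29278 := rfl
theorem L227076 : sm ge N29278 = N25591 := ded_15_2 (flp_b L198707) (flp_e L198705) L227074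
theorem L227078 : sm gg N29278 = N28133 := ded_17_2 (flp_b L217956) L222624 (flp_b L214355) L198701 L227074
theorem L227080 : sm gf N25590 = N29279 := rfl
theorem L227082 : sm ga N29279 = N29255 := ded_11_1 (flp_f L226984) L226976 L227080
theorem L227084 : sm gc N29279 = N25594 := ded_20_1 (flp_f L198726) (flp_c L198703) L227080
theorem L227086 : sm ge N29279 = N25592 := ded_25_1 (flp_f L198709) (flp_e L198705) L227080
theorem L227088 : sm gg N29279 = N29251 := ded_29_3 L226854 L198528 L198701 L227080
theorem L227090 : sm ga N25591 = N29280 := rfl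
theorem L227092 : sm gf N29280 = N29227 := ded_29_0 (flp_g L226673) (flp_f L214060) L222796 L227090
theorem L227094 : sm gc N25591 = N29281 := rfl
theorem L227096 : sm gb N29281 = N25595 := ded_13_1 (flp_c L198736) (flp_b L167801) (flp_c L167793) L198707 L227094
theorem L227098 : sm gf N29256 = N29281 := ded_16_0 L227096 (flp_f L226996) (flp_b L226986) L198631 L226894
theorem L227100 : sm gf N25591 = N29282 := rfl
theorem L227102 : sm ga N29282 = N29227 := ded_11_1 (flp_f L227092) (flp_a L227090) L227100
theorem L227104 : sm gc N29282 = N29256 := ded_20_1 L227098 (flp_c L227094) L227100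
theorem L227106 : sm gg N29282 = N29225 := ded_29_3 (flp_a L226665) (flp_f L214060) L222796 L227100
theorem L227108 : sm ga N29201 = N29256 := ded_8_3 (flp_c L227104) L227102 L226675
theorem L227110 : sm gb N29259 = N29282 := ded_13_5 L227104 (flp_b L226894) L198532 L198540 L226908
theorem L227112 : sm gb N25592 = N29283 := rfl
theorem L227114 : sm gc N29283 = N29249 := ded_13_2 (flp_b L227042) L227036 (flp_b L198749) (flp_c L198713) L227112
theorem L227116 : sm gf N29283 = N29259 := ded_16_2 L227110 (flp_f L227100) (flp_b L198707) L198709 L227112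
theorem L227118 : sm gg N29246 = N29283 := ded_21_0 L227114 (flp_g L226842) L226826
theorem L227120 : sm gc N25593 = N29284 := rfl
theorem L227122 : sm ga N29284 = N29187 := ded_8_1 L226394 L198724 L227120
theorem L227124 : sm ge N29284 = N25595 := ded_19_2 (flp_c L198736) (flp_e L198721) L227120
theorem L227126 : sm gg N29284 = N29284 := ded_21_2 (flp_c L227120) L198723 L227120
theorem L227127 : sm gf N25593 = N29285 := rfl
theorem L227129 : sm ga N29285 = N29189 := ded_11_1 (flp_f L226401) L198724 L227127
theorem L227131 : sm gd N29285 = N26544 := ded_23_1 (flp_f L205127) (flp_d L198719) L227127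
theorem L227133 : sm ge N29285 = N25596 := ded_25_1 (flp_f L198741) (flp_e L198721) L227127
theorem L227135 : sm gg N29285 = N29189 := ded_29_3 (flp_a L227129) (flp_f L227127) L198723 L227127
theorem L227137 : sm gb N25594 = N29286 := rfl
theorem L227139 : sm gd N29286 = N26545 := ded_14_2 (flp_b L205135) (flp_d L198730) L227137
theorem L227141 : sm ge N29286 = N25597 := ded_15_2 (flp_b L198749) (flp_e L198732) L227137
theorem L227143 : sm ga N25597 = N29287 := rfl
theorem L227145 : sm gd N29287 = N25599 := ded_9_2 (flp_a L198763) (flp_d L198751) L227143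
theorem L227147 : sm gf N29287 = N29265 := ded_11_2 (flp_a L227024) (flp_f L227032) L227143
theorem L227149 : sm gb N25599 = N29288 := rfl
theorem L227151 : sm ge N29288 = N26550 := ded_15_2 (flp_b L205165) (flp_e L198765) L227149
theorem L227153 : sm gf N29288 = N27974 := ded_16_2 L216723 L188077 L198605 (flp_f L198767) L227149
theorem L227155 : sm gc N27975 = N29288 := ded_30_1 (flp_b L227149) (flp_a L198763) (flp_f L198757) (flp_c L207806) L207810 L200723 L200761 L200765 L200775 L200783 (flp_f L170813) L170808 (flp_b L177876) (flp_a L209133) L209135 (flp_c L218838) L218844 L216705 L216725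
theorem L227157 : sm gc N25599 = N29289 := rfl
theorem L227159 : sm ga N29289 = N25600 := ded_8_1 (flp_c L198769) L198763 L227157
theorem L227161 : sm ge N29289 = N26551 := ded_19_2 (flp_c L205171) (flp_e L198765) L227157
theorem L227163 : sm gf N29289 = N28465 := ded_20_2 L220632 (flp_f L198767) L227157
theorem L227165 : sm gg N29289 = N26858 := ded_21_2 (flp_c L227048) L227052 L227157
theorem L227167 : sm gd N28934 = N29289 := ded_28_5 (flp_c L227157) (flp_d L227145) (flp_a L227143) (flp_c L227036) L227038 (flp_c L220608) L220604 (flp_c L224723)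
theorem L227169 : sm gd N25601 = N29290 := rfl
theorem L227171 : sm ga N29290 = N28388 := ded_9_1 L220050 (flp_a L198777) L227169
theorem L227173 : sm gb N29290 = N27272 := ded_14_1 (flp_d L211280) (flp_b L198783) L227169
theorem L227175 : sm gf N29290 = N27942 := ded_23_2 (flp_d L216489) (flp_f L198781) L227169
theorem L227177 : sm gb N25602 = N29291 := rfl
theorem L227179 : sm ge N29291 = N29151 := ded_15_2 (flp_b L226179) (flp_e L198789) L227177
theorem L227181 : sm ga N29291 = N29291 := ded_7_1 (flp_b L227177) L198787 (flp_b L180939) (flp_a L211199) L211201 L211199 L180939 (flp_a L198787) L227177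
theorem L227182 : sm ga N29151 = N29151 := ded_10_1 (flp_e L227179) L227181 L227179
theorem L227183 : sm ga N28009 = N28009 := ded_9_3 (flp_d L226181) L227182 L226181
theorem L227184 : sm gd N25602 = N29292 := rfl
theorem L227186 : sm ga N29292 = N25603 := ded_9_1 (flp_d L198795) (flp_a L198787) L227184
theorem L227188 : sm gf N29292 = N28401 := ded_23_2 (flp_d L220138) (flp_f L198791) L227184
theorem L227190 : sm gg N29292 = N25614 := ded_24_2 (flp_d L198855) (flp_g L198793) L227184
theorem L227192 : sm gc N25603 = N29293 := rfl
theorem L227194 : sm gg N29293 = N25616 := ded_21_2 (flp_c L198869) (flp_g L198797) L227192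
theorem L227196 : sm ge N25603 = N29294 := rfl
theorem L227198 : sm gg N29294 = N25617 := ded_26_2 (flp_e L198871) (flp_g L198797) L227196
theorem L227200 : sm gf N25603 = N29295 := rfl
theorem L227202 : sm ga N29295 = N28401 := ded_11_1 (flp_f L227188) L227186 L227200
theorem L227204 : sm gd N29295 = N25604 := ded_23_1 (flp_f L198799) L198795 L227200
theorem L227206 : sm gb N25604 = N29296 := rfl
theorem L227208 : sm ge N29296 = N27941 := ded_15_2 (flp_b L216485) (flp_e L198805) L227206
theorem L227210 : sm gd N25605 = N29297 := rfl
theorem L227212 : sm ga N29297 = N25723 := ded_9_1 L199427 (flp_a L198809) L227210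
theorem L227214 : sm gb N29297 = N25705 := ded_14_1 (flp_d L199327) (flp_b L198813) L227210
theorem L227216 : sm gg N29297 = N25720 := ded_24_2 (flp_d L199417) (flp_g L198811) L227210
theorem L227218 : sm ga N25606 = N29298 := rfl
theorem L227220 : sm gd N29298 = N25611 := ded_9_2 L198841 (flp_d L198817) L227218
theorem L227222 : sm ge N29298 = N25608 := ded_10_2 (flp_a L198829) (flp_e L198819) L227218
theorem L227224 : sm gf N29298 = N25608 := ded_11_2 (flp_a L198829) (flp_f L198821) L227218
theorem L227226 : sm gg N29298 = N28541 := ded_12_2 (flp_a L221207) (flp_g L198823) L227218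
theorem L227228 : sm gb N29298 = N25611 := ded_7_2 L198841 L167910 L167130 L192073 (flp_a L192080) (flp_b L167973) (flp_a L167886) L198815 L227218
theorem L227230 : sm gc N25606 = N29299 := rfl
theorem L227232 : sm ge N29299 = N25609 := ded_19_2 (flp_c L198833) (flp_e L198819) L227230
theorem L227234 : sm gf N29299 = N25609 := ded_20_2 (flp_c L198833) (flp_f L198821) L227230
theorem L227236 : sm gg N29299 = N28542 := ded_21_2 (flp_c L221217) (flp_g L198823) L227230
theorem L227238 : sm gb N29299 = N28849 := ded_13_1 L223967 (flp_b L200527) L169101 L198815 L227230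
theorem L227240 : sm gd N28858 = N29299 := ded_14_0 L227238 L223969 L224033
theorem L227242 : sm gd N25607 = N29300 := rfl
theorem L227244 : sm gg N29300 = N25612 := ded_24_2 (flp_d L198845) (flp_g L198827) L227242
theorem L227246 : sm gc N25608 = N29301 := rfl
theorem L227248 : sm ga N29301 = N25609 := ded_8_1 (flp_c L198833) L198829 L227246
theorem L227250 : sm gd N25609 = N29302 := rfl
theorem L227252 : sm gb N29302 = N28490 := ded_14_1 L220834 L200537 L227250
theorem L227254 : sm gf N29302 = N28858 := ded_23_2 L227240 L227234 L227250
theorem L227256 : sm gb N25610 = N29303 := rfl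
theorem L227258 : sm gd N25610 = N29304 := rfl
theorem L227260 : sm ga N29304 = N25612 := ded_9_1 (flp_d L198845) (flp_a L198837) L227258
theorem L227262 : sm gf N25610 = N29305 := rfl
theorem L227264 : sm ga N29305 = N25613 := ded_11_1 (flp_f L198849) (flp_a L198837) L227262
theorem L227266 : sm gc N29305 = N25611 := ded_20_1 (flp_f L198839) L198835 L227262
theorem L227268 : sm gg N29305 = N28544 := ded_29_3 L221231 (flp_f L221225) L221227 L227262
theorem L227270 : sm gc N25612 = N29306 := rfl
theorem L227272 : sm ge N25612 = N29307 := rfl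
theorem L227274 : sm gb N29307 = N25617 := ded_15_1 (flp_e L198871) (flp_b L198847) L227272
theorem L227276 : sm gf N25612 = N29308 := rfl
theorem L227278 : sm gd N29308 = N25613 := ded_23_1 (flp_f L198849) L198845 L227276
theorem L227280 : sm gg N27221 = N29308 := ded_24_0 L227278 (flp_g L198853) (flp_d L210907)
theorem L227282 : sm gb N25613 = N29309 := rfl
theorem L227284 : sm ge N29309 = N28594 := ded_15_2 L221604 L199024 L227282
theorem L227286 : sm gc N29309 = N28592 := ded_13_2 (flp_b L221586) L192405 (flp_b L167910) (flp_c L198851) L227282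
theorem L227288 : sm gf N29309 = N25619 := ded_16_2 (flp_b L198877) (flp_f L167940) (flp_b L167906) L198849 L227282
theorem L227290 : sm gg N29309 = N28545 := ded_17_2 (flp_b L221237) (flp_g L192121) (flp_b L192119) L198853 L227282
theorem L227292 : sm ge N25614 = N29310 := rfl
theorem L227294 : sm ga N29310 = N25617 := ded_10_1 (flp_e L198871) (flp_a L198857) L227292
theorem L227296 : sm gf N25614 = N29311 := rfl
theorem L227298 : sm ga N29311 = N25618 := ded_11_1 (flp_f L198873) (flp_a L198857) L227296
theorem L227300 : sm gd N29311 = N25615 := ded_23_1 (flp_f L198859) L198855 L227296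
theorem L227302 : sm gg N29311 = N29295 := ded_29_3 L227202 (flp_f L227188) L227190 L227296
theorem L227304 : sm gb N29311 = N25809 := ded_16_1 L199965 (flp_b L196985) L225013 (flp_b L225019) L227296
theorem L227306 : sm gb N25616 = N29312 := rfl
theorem L227308 : sm ge N25616 = N29313 := rfl
theorem L227310 : sm gc N29313 = N25617 := ded_19_1 (flp_e L198871) L198869 L227308
theorem L227312 : sm gf N25616 = N29314 := rfl
theorem L227314 : sm gc N29314 = N25618 := ded_20_1 (flp_f L198873) L198869 L227312
theorem L227316 : sm gg N28394 = N29314 := ded_21_0 L227314 (flp_g L220142) (flp_c L220146)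
theorem L227318 : sm ge N29314 = N29139 := ded_26_1 (flp_g L226113) (flp_e L220094) L227316
theorem L227320 : sm gf N29139 = N29313 := ded_25_2 (flp_e L227308) L227312 L227318
theorem L227322 : sm gf N25617 = N29315 := rfl
theorem L227324 : sm gc N29315 = N29139 := ded_20_1 L227320 L227310 L227322
theorem L227326 : sm gd N29315 = N27986 := ded_23_1 (flp_f L221102) L221104 L227322
theorem L227328 : sm ge N29315 = N25618 := ded_25_1 (flp_f L198873) L198871 L227322
theorem L227330 : sm gg N28007 = N29315 := ded_21_0 L227324 (flp_g L226113) L217010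
theorem L227332 : sm gb N25618 = N29316 := rfl
theorem L227334 : sm gd N29316 = N25619 := ded_14_2 (flp_b L198877) (flp_d L198875) L227332
theorem L227336 : sm gg N29316 = N28967 := ded_17_2 (flp_b L225001) (flp_g L220090) (flp_b L220140) L220142 L227332
theorem L227338 : sm ga N25619 = N29317 := rfl
theorem L227340 : sm gc N29317 = N29095 := ded_8_2 (flp_a L225877) (flp_c L198879) L227338
theorem L227342 : sm gg N25619 = N29318 := rfl
theorem L227344 : sm gc N29318 = N29096 := ded_21_1 (flp_g L225879) (flp_c L198879) L227342
theorem L227346 : sm gd N29318 = N28967 := ded_24_1 (flp_g L227336) L227334 L227342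
theorem L227348 : sm gb N29318 = N28968 := ded_17_1 L225009 (flp_b L220130) L191181 L198877 L227342
theorem L227350 : sm gc N25622 = N29319 := rfl
theorem L227352 : sm ga N29319 = N27019 := ded_8_1 (flp_c L209241) L198907 L227350
theorem L227354 : sm ge N29319 = N27285 := ded_19_2 (flp_c L211390) (flp_e L198903) L227350
theorem L227356 : sm gg N29319 = N25626 := ded_21_2 (flp_c L198940) (flp_g L198905) L227350
theorem L227358 : sm gb N29319 = N29319 := ded_13_1 (flp_c L227350) (flp_b L198899) L167960 L198899 L227350
theorem L227359 : sm ga N29100 = N29100 := ded_7_5 (flp_b L225907) L197777 (flp_b L209245) (flp_a L227352) L227358 L227352 L209245 (flp_a L197777) L225907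
theorem L227360 : sm ga N28079 = N28079 := ded_9_3 (flp_d L225909) L227359 L225909
theorem L227361 : sm gc N25624 = N29320 := rfl
theorem L227363 : sm ga N29320 = N27287 := ded_8_1 L211401 L198928 L227361
theorem L227365 : sm ge N29320 = N25626 := ded_19_2 (flp_c L198940) (flp_e L198924) L227361
theorem L227367 : sm gg N29320 = N27285 := ded_21_2 (flp_c L211390) (flp_g L198926) L227361
theorem L227369 : sm gb N29320 = N25628 := ded_13_1 (flp_c L198952) (flp_b L167973) (flp_c L167963) L198920 L227361
theorem L227371 : sm gc N25625 = N29321 := rfl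
theorem L227373 : sm ga N29321 = N25626 := ded_8_1 (flp_c L198940) L198930 L227371
theorem L227375 : sm ge N29321 = N27287 := ded_19_2 L211401 (flp_e L198934) L227371
theorem L227377 : sm gf N29321 = N27207 := ded_20_2 (flp_c L210811) L198938 L227371
theorem L227379 : sm gg N29321 = N27019 := ded_21_2 (flp_c L209241) (flp_g L198936) L227371
theorem L227381 : sm gb N28788 = N29321 := ded_17_5 L227379 L209245 L192143 L216511 (flp_g L223449)
theorem L227383 : sm gd N29321 = N28787 := ded_14_2 (flp_b L223441) L223445 L227381
theorem L227385 : sm gd N25626 = N29322 := rfl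
theorem L227387 : sm ga N29322 = N28787 := ded_9_1 (flp_d L227383) L227373 L227385
theorem L227389 : sm gb N29322 = N25630 := ded_14_1 (flp_d L198963) (flp_b L198942) L227385
theorem L227391 : sm ge N28799 = N29322 := ded_10_0 L227387 L223443 L223523
theorem L227393 : sm gf N28804 = N29322 := ded_16_0 L227389 L222214 (flp_b L193485) L193489 L223543
theorem L227395 : sm gf N25626 = N29323 := rfl
theorem L227397 : sm ga N29323 = N27207 := ded_11_1 (flp_f L227377) L227373 L227395
theorem L227399 : sm gc N29323 = N25627 := ded_20_1 (flp_f L198944) L198940 L227395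
theorem L227401 : sm gd N29323 = N28804 := ded_23_1 L227393 (flp_d L227385) L227395
theorem L227403 : sm gg N29236 = N29323 := ded_29_1 (flp_f L227395) (flp_g L227356) L227352 (flp_f L226741)
theorem L227405 : sm gb N29323 = N28803 := ded_16_1 (flp_f L223533) (flp_b L222204) (flp_f L198966) (flp_b L198942) L227395
theorem L227407 : sm gb N28672 = N25743 := ded_17_3 L199568 (flp_b L226743) L227403 L227405 L223541
theorem L227409 : sm gd N25743 = N28671 := ded_14_2 (flp_b L222170) L222172 L227407
theorem L227411 : N25736 = N28743 := coi_13_5 (flp_b L223116) (flp_c L222178) L227407 (flp_c L199564) L168460 (flp_c L199522)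
theorem L227412 : N28743 = N25736 := (eqc rfl L227411 rfl).symm
theorem L227413 : sm gb N25736 = N24845 := trfs L227412 (flp_b L223116) rfl
theorem L227415 : sm gd N25736 = N24846 := trfs L227412 L223118 rfl
theorem L227417 : sm ga N28671 = N25745 := ded_9_1 (flp_d L199582) (flp_a L199566) L227409
theorem L227419 : sm gb N26335 = N28564 := ded_16_5 (flp_f L221364) L227413 (flp_f L193177) (flp_b L170965) L203627
theorem L227421 : sm gd N26340 = N28564 := ded_9_2 L221360 L227415 L216915
theorem L227423 : N28745 = N25735 := coi_24_3 (flp_d L199517) L199520 L227415 L223128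
theorem L227424 : N28745 = N25735 := eqc rfl L227423 rfl
theorem L227425 : sm gc N25735 = N26045 := trfs L227424 L223130 rfl
theorem L227428 : sm gg N25735 = N24846 := trfs L227424 (flp_g L223128) rfl
theorem L227430 : sm gc N25700 = N26039 := ded_28_0 L201582 (flp_c L193183) (flp_d L227415) L199522 L168407 (flp_c L168428) (flp_d L199548) L199546
theorem L227432 : sm gg N28563 = N26340 := ded_24_0 L227421 (flp_g L221358) L221353
theorem L227434 : sm gd N26045 = N25699 := ded_28_7 (flp_a L199532) (flp_c L199530) (flp_d L168417) (flp_c L116736) (flp_d L116722) L168402 L199517 L227425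
theorem L227436 : sm gg N26039 = N25699 := ded_21_2 (flp_c L199280) L199283 L227430
theorem L227438 : sm ge N29003 = N28563 := ded_26_3 L227432 (flp_e L225637) L225613
theorem L227440 : sm gd N28561 = N28306 := ded_22_3 L219484 L225252 L227438 (flp_d L221353) (flp_e L221340)
theorem L227442 : sm gd N25628 = N29324 := rfl
theorem L227444 : sm ga N29324 = N28309 := ded_9_1 (flp_d L225729) L221169 L227442
theorem L227446 : sm gg N29324 = N29324 := ded_24_2 (flp_d L227442) L198956 L227442
theorem L227447 : sm gc N28308 = N29324 := ded_28_0 (flp_d L227442) (flp_c L198952) (flp_d L192075) L221167 L225729 (flp_c L219503) L190727 L219495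
theorem L227449 : sm ge N29004 = N29324 := ded_10_0 L227444 L219505 (flp_a L225257)
theorem L227451 : sm gf N25628 = N29325 := rfl
theorem L227453 : sm gc N29325 = N25629 := ded_20_1 (flp_f L198957) L198952 L227451
theorem L227455 : sm ge N29325 = N25631 := ded_25_1 (flp_f L198966) (flp_e L198954) L227451
theorem L227457 : sm gb N28802 = N29325 := ded_15_3 L227455 L222204 (flp_e L223531)
theorem L227459 : sm ge N25630 = N29326 := rfl
theorem L227461 : sm ga N29326 = N29005 := ded_10_1 L225727 L221186 L227459
theorem L227463 : sm gb N29326 = N28799 := ded_15_1 L227391 L227389 L227459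
theorem L227465 : sm gf N29326 = N28792 := ded_25_2 L223473 (flp_f L222214) L227459
theorem L227467 : sm gg N29326 = N29326 := ded_26_2 (flp_e L227459) L198965 L227459
theorem L227468 : sm gd N29326 = N29004 := ded_22_1 L227449 (flp_d L227442) L198954 L198963 L227459
theorem L227470 : sm gd N25632 = N29327 := rfl
theorem L227472 : sm gf N29327 = N28614 := ded_23_2 L222212 L199002 L227470
theorem L227474 : sm gg N29327 = N28523 := ded_24_2 (flp_d L221094) (flp_g L198974) L227470
theorem L227476 : sm gb N25633 = N29328 := rfl
theorem L227478 : sm gc N29328 = N25652 := ded_13_2 (flp_b L199076) (flp_c L168114) (flp_b L168013) L198976 L227476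
theorem L227480 : sm gf N26806 = N29328 := ded_20_0 L227478 (flp_f L223821) L207373
theorem L227482 : sm gd N29328 = N26775 := ded_28_1 (flp_c L207118) (flp_d L174880) L123089 (flp_d L117899) (flp_c L170310) L202577 L223805 (flp_c L227478)
theorem L227484 : sm gd N25633 = N29329 := rfl
theorem L227486 : sm ga N29329 = N26276 := ded_9_1 L222235 L199922 L227484
theorem L227488 : sm gb N29329 = N26775 := ded_14_1 (flp_d L227482) (flp_b L227476) L227484
theorem L227490 : sm gg N29329 = N29329 := ded_24_2 (flp_d L227484) L198978 L227484
theorem L227491 : sm gc N28538 = N29329 := ded_28_0 (flp_d L227484) (flp_c L198976) (flp_d L168011) (flp_c L116540) (flp_d L116524) L167983 L198963 (flp_a L221186)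
theorem L227493 : sm gf N26266 = N29329 := ded_11_0 L227486 (flp_f L203243) (flp_a L222230)
theorem L227495 : sm ge N25633 = N29330 := rfl
theorem L227497 : sm gc N29330 = N25634 := ded_19_1 (flp_e L198979) L198976 L227495
theorem L227499 : sm gg N29330 = N29330 := ded_26_2 (flp_e L227495) L198978 L227495
theorem L227500 : sm gf N25633 = N29331 := rfl
theorem L227502 : sm ga N29331 = N26270 := ded_11_1 L222232 L199922 L227500
theorem L227504 : sm gc N29331 = N25635 := ded_20_1 (flp_f L198984) L198976 L227500
theorem L227506 : sm gd N29331 = N26266 := ded_23_1 L227493 (flp_d L227484) L227500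
theorem L227508 : sm gg N29331 = N26270 := ded_29_3 (flp_a L227502) (flp_f L227500) L198978 L227500
theorem L227510 : sm gb N26261 = N29331 := ded_14_3 L227506 (flp_b L203191) (flp_d L203167)
theorem L227512 : sm gf N25634 = N29332 := rfl
theorem L227514 : sm ge N29332 = N25635 := ded_25_1 (flp_f L198984) L198979 L227512
theorem L227516 : sm gb N25635 = N29333 := rfl
theorem L227518 : sm gd N29333 = N25636 := ded_14_2 (flp_b L198988) (flp_d L198986) L227516
theorem L227520 : sm gf N29333 = N25656 := ded_16_2 (flp_b L199096) (flp_f L168122) (flp_b L168013) L198984 L227516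
theorem L227522 : sm gc N25636 = N29334 := rfl
theorem L227524 : sm gf N29334 = N25658 := ded_20_2 (flp_c L199102) (flp_f L198990) L227522
theorem L227526 : sm gb N29334 = N25637 := ded_13_1 (flp_c L198992) (flp_b L168020) (flp_c L168018) L198988 L227522
theorem L227528 : sm gd N25637 = N29335 := rfl
theorem L227530 : sm ga N29335 = N29327 := ded_9_1 (flp_d L227470) (flp_a L198994) L227528
theorem L227532 : sm gf N29335 = N25640 := ded_23_2 (flp_d L199016) (flp_f L198996) L227528
theorem L227534 : sm gg N25638 = N29336 := rfl
theorem L227536 : sm ga N29336 = N25641 := ded_12_1 (flp_g L199020) (flp_a L199000) L227534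
theorem L227538 : sm gc N29336 = N25639 := ded_21_1 (flp_g L199004) L198998 L227534
theorem L227540 : sm ge N29336 = N29305 := ded_26_1 L227268 L221233 L227534
theorem L227542 : sm gf N28522 = N29336 := ded_29_0 (flp_g L227534) L199002 L198974 (flp_a L221088)
theorem L227544 : sm gc N25640 = N29337 := rfl
theorem L227546 : sm gb N29337 = N28854 := ded_13_1 L224015 L201058 (flp_c L199140) (flp_b L199018) L227544
theorem L227548 : sm ge N28858 = N29337 := ded_15_0 L227546 L224017 L224033
theorem L227550 : sm ge N25640 = N29338 := rfl
theorem L227552 : sm gb N29338 = N25667 := ded_15_1 (flp_e L199142) (flp_b L199018) L227550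
theorem L227554 : sm gc N29338 = N28858 := ded_19_1 L227548 (flp_c L227544) L227550
theorem L227556 : sm gg N25640 = N29339 := rfl
theorem L227558 : sm gd N29339 = N25641 := ded_24_1 (flp_g L199020) L199016 L227556
theorem L227560 : sm gf N29339 = N28523 := ded_29_2 (flp_g L227474) (flp_a L227530) L227532 L227556
theorem L227562 : sm gd N25642 = N29340 := rfl
theorem L227564 : sm ga N29340 = N25644 := ded_9_1 (flp_d L199042) (flp_a L199030) L227562
theorem L227566 : sm gb N29340 = N28010 := ded_14_1 L217027 (flp_b L199036) L227562
theorem L227568 : sm gf N29340 = N28298 := ded_23_2 (flp_d L219430) (flp_f L199034) L227562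
theorem L227570 : sm ga N25643 = N29341 := rfl
theorem L227572 : sm gc N29341 = N25647 := ded_8_2 (flp_a L199058) (flp_c L199040) L227570
theorem L227574 : sm gg N29334 = N29341 := ded_21_0 L227572 (flp_g L199311) L227522
theorem L227576 : sm gd N25643 = N29342 := rfl
theorem L227578 : sm gb N29342 = N25644 := ded_14_1 (flp_d L199042) L199038 L227576
theorem L227580 : sm gf N25643 = N29343 := rfl
theorem L227582 : sm gc N29343 = N25649 := ded_20_1 (flp_f L199064) (flp_c L199040) L227580
theorem L227584 : sm gg N29343 = N25658 := ded_29_1 (flp_f L227524) L227574 (flp_a L227570) L227580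
theorem L227586 : sm gg N25643 = N29344 := rfl
theorem L227588 : sm ga N29344 = N29334 := ded_12_1 L227574 (flp_a L227570) L227586
theorem L227590 : sm gc N29344 = N25650 := ded_21_1 (flp_g L199066) (flp_c L199040) L227586
theorem L227592 : sm gb N29344 = N28916 := ded_17_1 L224561 L211537 (flp_g L199054) L199038 L227586
theorem L227594 : sm gc N25644 = N29345 := rfl
theorem L227596 : sm ge N25644 = N29346 := rfl
theorem L227598 : sm gf N25644 = N29347 := rfl
theorem L227600 : sm ga N29347 = N28298 := ded_11_1 (flp_f L227568) L227564 L227598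
theorem L227602 : sm gd N29347 = N25645 := ded_23_1 (flp_f L199044) L199042 L227598
theorem L227604 : sm gc N29347 = N28105 := ded_28_0 L217759 L213283 (flp_d L190699) (flp_c L158851) (flp_d L158819) L190663 L219430 (flp_a L227600)
theorem L227606 : sm gg N28004 = N29347 := ded_24_0 L227602 (flp_g L199052) L216996
theorem L227608 : sm ge N28006 = N29347 := ded_22_0 L227602 L199050 L225003 (flp_e L226177) L226175
theorem L227610 : sm gf N28105 = N29345 := ded_20_2 (flp_c L227594) L227598 L227604
theorem L227612 : sm gf N29346 = N28006 := ded_25_0 L227608 (flp_f L227598) L227596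
theorem L227614 : sm ge N29345 = N28107 := ded_25_1 (flp_f L217767) (flp_e L217761) L227610
theorem L227616 : sm gc N28107 = N29346 := ded_20_3 L227612 L217004 L217767
theorem L227618 : sm gg N25644 = N29348 := rfl
theorem L227620 : sm gd N29348 = N25646 := ded_24_1 (flp_g L199054) L199042 L227618
theorem L227622 : sm gb N25645 = N29349 := rfl
theorem L227624 : sm ge N29349 = N28967 := ded_15_2 (flp_b L225001) (flp_e L199050) L227622
theorem L227626 : sm gd N25647 = N29350 := rfl
theorem L227628 : sm ga N29350 = N25648 := ded_9_1 (flp_d L199060) L199058 L227626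
theorem L227630 : sm gg N29350 = N29333 := ded_24_2 L227518 L199311 L227626
theorem L227632 : sm gf N25647 = N29351 := rfl
theorem L227634 : sm ga N29351 = N25649 := ded_11_1 (flp_f L199064) L199058 L227632
theorem L227636 : sm gg N29351 = N25657 := ded_29_3 (flp_a L199100) (flp_f L198990) L199311 L227632
theorem L227638 : sm gc N25648 = N29352 := rfl
theorem L227640 : sm ge N25648 = N29353 := rfl
theorem L227642 : sm gb N29353 = N25651 := ded_15_1 (flp_e L199070) (flp_b L199062) L227640
theorem L227644 : sm gf N25648 = N29354 := rfl
theorem L227646 : sm gd N29354 = N25649 := ded_23_1 (flp_f L199064) L199060 L227644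
theorem L227648 : sm gg N29354 = N25656 := ded_29_1 (flp_f L227520) (flp_g L227630) L227628 L227644
theorem L227650 : sm gg N25648 = N29355 := rfl
theorem L227652 : sm ga N29355 = N29333 := ded_12_1 (flp_g L227630) L227628 L227650
theorem L227654 : sm gd N29355 = N25650 := ded_24_1 (flp_g L199066) L199060 L227650
theorem L227656 : sm gb N29355 = N25679 := ded_17_1 (flp_g L199191) L168202 (flp_g L168112) (flp_b L199062) L227650
theorem L227658 : sm ge N25652 = N29356 := rfl
theorem L227660 : sm gb N29356 = N25653 := ded_15_1 (flp_e L199078) L199076 L227658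
theorem L227662 : sm gf N29356 = N25797 := ded_25_2 (flp_e L203069) L223821 L227658
theorem L227664 : sm gd N29356 = N25758 := ded_22_1 (flp_e L199664) L170288 (flp_e L223799) L200894 L227658
theorem L227666 : sm gg N25652 = N29357 := rfl
theorem L227668 : sm gd N29357 = N26274 := ded_24_1 (flp_g L223803) L200894 L227666
theorem L227670 : sm gf N29357 = N26272 := ded_29_2 (flp_g L203223) (flp_a L203067) L223821 L227666
theorem L227672 : sm gb N29357 = N25692 := ded_17_1 (flp_g L199244) (flp_b L168224) (flp_g L168116) L199076 L227666
theorem L227674 : sm gd N25653 = N29358 := rfl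
theorem L227676 : sm gb N29358 = N25758 := ded_14_1 (flp_d L227664) L227660 L227674
theorem L227678 : sm gg N29358 = N25693 := ded_24_2 (flp_d L199247) (flp_g L199082) L227674
theorem L227680 : sm ge N29358 = N25757 := ded_22_2 (flp_d L223819) (flp_e L200896) (flp_d L169289) L199078 L227674
theorem L227682 : sm gf N25653 = N29359 := rfl
theorem L227684 : sm gc N29359 = N25655 := ded_20_1 (flp_f L199092) (flp_c L199080) L227682
theorem L227686 : sm ge N29359 = N25654 := ded_25_1 (flp_f L199084) L199078 L227682
theorem L227688 : sm gg N29359 = N26038 := ded_29_3 L201574 (flp_f L199249) (flp_g L199082) L227682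
theorem L227690 : sm gb N25654 = N29360 := rfl
theorem L227692 : sm gd N29360 = N26046 := ded_14_2 (flp_b L201608) (flp_d L199088) L227690
theorem L227694 : sm gb N25655 = N29361 := rfl
theorem L227696 : sm ge N29361 = N25656 := ded_15_2 (flp_b L199096) (flp_e L199094) L227694
theorem L227698 : sm ga N25656 = N29362 := rfl
theorem L227700 : sm gd N29362 = N25657 := ded_9_2 (flp_a L199100) (flp_d L199098) L227698
theorem L227702 : sm gf N29362 = N29355 := ded_11_2 L227652 L227520 L227698
theorem L227704 : sm gc N25656 = N29363 := rfl
theorem L227706 : sm gb N25657 = N29364 := rfl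
theorem L227708 : sm gc N25657 = N29365 := rfl
theorem L227710 : sm ga N29365 = N25658 := ded_8_1 (flp_c L199102) L199100 L227708
theorem L227712 : sm gf N29365 = N29344 := ded_20_2 L227590 (flp_f L199307) L227708
theorem L227714 : sm gd N25658 = N29366 := rfl
theorem L227716 : sm gb N29366 = N25661 := ded_14_1 (flp_d L199114) (flp_b L199104) L227714
theorem L227718 : sm gb N25660 = N29367 := rfl
theorem L227720 : sm ge N29367 = N29311 := ded_15_2 L227304 L199963 L227718
theorem L227722 : sm gc N29367 = N29131 := ded_13_2 (flp_b L226065) L197867 L168134 L199108 L227718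
theorem L227724 : sm ga N29315 = N29367 := ded_10_3 L227720 L227298 (flp_e L227328)
theorem L227726 : sm gf N29310 = N29367 := ded_25_0 L227720 (flp_f L227296) L227292
theorem L227728 : sm gd N25660 = N29368 := rfl
theorem L227730 : sm ga N29368 = N25661 := ded_9_1 (flp_d L199114) (flp_a L199110) L227728
theorem L227732 : sm gf N29368 = N25664 := ded_23_2 (flp_d L199126) (flp_f L199112) L227728
theorem L227734 : sm gg N29368 = N28619 := ded_24_2 L221766 L199158 L227728
theorem L227736 : sm gc N27576 = N29368 := ded_28_0 (flp_d L227728) (flp_c L199108) L168130 L169343 L201018 (flp_c L201028) (flp_d L223331) (flp_a L223337)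
theorem L227738 : sm gg N25661 = N29369 := rfl
theorem L227740 : sm ga N29369 = N28619 := ded_12_1 (flp_g L227734) L227730 L227738
theorem L227742 : sm gd N29369 = N25662 := ded_24_1 (flp_g L199118) L199114 L227738
theorem L227744 : sm gb N25662 = N29370 := rfl
theorem L227746 : sm gc N29370 = N28982 := ded_13_2 (flp_b L225109) (flp_c L197055) (flp_b L168144) (flp_c L199120) L227744
theorem L227748 : sm gd N25663 = N29371 := rfl
theorem L227750 : sm ga N29371 = N28006 := ded_9_1 (flp_d L226175) L226171 L227748
theorem L227752 : sm gb N29371 = N25664 := ded_14_1 (flp_d L199126) L199122 L227748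
theorem L227754 : sm gg N29371 = N28003 := ded_24_2 (flp_d L226157) (flp_g L226161) L227748
theorem L227756 : sm ge N29371 = N28298 := ded_22_2 (flp_d L219430) L190665 L196983 (flp_e L199124) L227748
theorem L227758 : sm gc N28103 = N29371 := ded_8_0 L227750 L217004 (flp_a L217748)
theorem L227760 : sm gf N25663 = N29372 := rfl
theorem L227762 : sm gc N29372 = N29156 := ded_20_1 (flp_f L226203) L219706 L227760
theorem L227764 : sm ge N29372 = N28969 := ded_25_1 (flp_f L225013) (flp_e L199124) L227760
theorem L227766 : sm gg N29149 = N29372 := ded_29_1 (flp_f L227760) L226161 (flp_a L226153) L226163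
theorem L227768 : sm gb N29372 = N29310 := ded_16_1 L227726 (flp_b L227718) L199112 L199122 L227760
theorem L227770 : sm gg N25664 = N29373 := rfl
theorem L227772 : sm ga N29373 = N25668 := ded_12_1 (flp_g L199144) (flp_a L199128) L227770
theorem L227774 : sm gd N29373 = N25665 := ded_24_1 (flp_g L199130) L199126 L227770
theorem L227776 : sm gf N29369 = N29373 := ded_29_0 (flp_g L227770) (flp_f L227732) L227734 (flp_a L227740)
theorem L227778 : sm gb N25665 = N29374 := rfl
theorem L227780 : sm ge N29374 = N29127 := ded_15_2 L226045 (flp_e L199136) L227778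
theorem L227782 : sm gc N29374 = N28386 := ded_13_2 (flp_b L220040) L191077 (flp_b L168160) (flp_c L199134) L227778
theorem L227784 : sm gg N25666 = N29375 := rfl
theorem L227786 : sm gc N29375 = N25668 := ded_21_1 (flp_g L199144) L199140 L227784
theorem L227788 : sm ge N29375 = N28864 := ded_26_1 (flp_g L224083) L201060 L227784
theorem L227790 : sm gg N25667 = N29376 := rfl
theorem L227792 : sm gc N29376 = N28864 := ded_21_1 (flp_g L224083) (flp_c L201062) L227790
theorem L227794 : sm ge N29376 = N25668 := ded_26_1 (flp_g L199144) L199142 L227790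
theorem L227796 : sm gf N28893 = N29376 := ded_25_0 L227794 (flp_f L221768) (flp_e L224363)
theorem L227798 : sm ga N25669 = N29377 := rfl
theorem L227800 : sm gc N29377 = N29079 := ded_8_2 (flp_a L225785) (flp_c L199150) L227798
theorem L227802 : sm gd N25671 = N29378 := rfl
theorem L227804 : sm gf N29378 = N25688 := ded_23_2 (flp_d L199231) (flp_f L199162) L227802
theorem L227806 : sm gg N29378 = N28981 := ded_24_2 (flp_d L225101) (flp_g L199164) L227802
theorem L227808 : sm gd N25672 = N29379 := rfl
theorem L227810 : sm ga N29379 = N29379 := ded_9_1 (flp_d L227808) L199168 L227808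
theorem L227811 : sm gb N29379 = N25673 := ded_14_1 (flp_d L199169) L199166 L227808
theorem L227813 : sm gc N25673 = N29380 := rfl
theorem L227815 : sm ga N29380 = N25676 := ded_8_1 (flp_c L199181) (flp_a L199171) L227813
theorem L227817 : sm gd N26264 = N29380 := ded_28_1 (flp_c L227813) (flp_d L199169) (flp_c L181085) L181087 (flp_c L179437) (flp_d L204275) L204273 (flp_c L203181)
theorem L227819 : sm gg N29380 = N26262 := ded_24_2 (flp_d L203169) L203179 L227817
theorem L227821 : sm ge N25673 = N29381 := rfl
theorem L227823 : sm ga N29381 = N25677 := ded_10_1 (flp_e L199183) (flp_a L199171) L227821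
theorem L227825 : sm gf N25673 = N29382 := rfl
theorem L227827 : sm ga N29382 = N25678 := ded_11_1 (flp_f L199187) (flp_a L199171) L227825
theorem L227829 : sm gd N29382 = N25674 := ded_23_1 (flp_f L199173) L199169 L227825
theorem L227831 : sm gg N25673 = N29383 := rfl
theorem L227833 : sm ga N29383 = N25679 := ded_12_1 (flp_g L199191) (flp_a L199171) L227831
theorem L227835 : sm gc N29383 = N26262 := ded_21_1 (flp_g L227819) (flp_c L227813) L227831
theorem L227837 : sm gd N29383 = N25675 := ded_24_1 (flp_g L199177) L199169 L227831
theorem L227839 : sm gd N25676 = N29384 := rfl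
theorem L227841 : sm ga N29384 = N26264 := ded_9_1 L227817 L227815 L227839
theorem L227843 : sm gb N29384 = N28109 := ded_14_1 (flp_d L217785) L201518 L227839
theorem L227845 : sm gc N26433 = N29384 := ded_28_0 (flp_d L227839) (flp_c L199181) (flp_d L168200) L156840 L144691 L145196 (flp_d L171394) (flp_a L204273)
theorem L227847 : sm ge N26257 = N29384 := ded_10_0 L227841 L203183 (flp_a L203149)
theorem L227849 : sm gg N26255 = N29384 := ded_12_0 L227841 (flp_g L203179) (flp_a L203137)
theorem L227851 : sm ge N25676 = N29385 := rfl
theorem L227853 : sm gc N29385 = N25677 := ded_19_1 (flp_e L199183) L199181 L227851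
theorem L227855 : sm gf N25676 = N29386 := rfl
theorem L227857 : sm gc N29386 = N25678 := ded_20_1 (flp_f L199187) L199181 L227855
theorem L227859 : sm gg N25676 = N29387 := rfl
theorem L227861 : sm ga N29387 = N26262 := ded_12_1 (flp_g L227819) L227815 L227859
theorem L227863 : sm gc N29387 = N25679 := ded_21_1 (flp_g L199191) L199181 L227859
theorem L227865 : sm gd N29387 = N26255 := ded_24_1 L227849 (flp_d L227839) L227859
theorem L227867 : sm gf N25677 = N29388 := rfl
theorem L227869 : sm ge N29388 = N25678 := ded_25_1 (flp_f L199187) L199183 L227867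
theorem L227871 : sm gg N25677 = N29389 := rfl
theorem L227873 : sm ge N29389 = N25679 := ded_26_1 (flp_g L199191) L199183 L227871
theorem L227875 : sm gb N25678 = N29390 := rfl
theorem L227877 : sm gd N29390 = N25680 := ded_14_2 (flp_b L199195) (flp_d L199189) L227875
theorem L227879 : sm gf N29390 = N25684 := ded_16_2 (flp_b L199217) (flp_f L168212) (flp_b L168202) L199187 L227875
theorem L227881 : sm gg N25678 = N29391 := rfl
theorem L227883 : sm gd N29391 = N25681 := ded_24_1 (flp_g L199199) (flp_d L199189) L227881
theorem L227885 : sm gf N29383 = N29391 := ded_29_0 (flp_g L227881) (flp_f L199187) L199191 (flp_a L227833)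
theorem L227887 : sm gf N25679 = N29392 := rfl
theorem L227889 : sm ga N29392 = N29391 := ded_11_1 (flp_f L227885) L227833 L227887
theorem L227891 : sm gd N29392 = N25682 := ded_23_1 (flp_f L199203) (flp_d L199193) L227887
theorem L227893 : sm gg N29392 = N29382 := ded_29_3 L227827 (flp_f L199187) L199191 L227887
theorem L227895 : sm gc N25680 = N29393 := rfl
theorem L227897 : sm gf N29393 = N25686 := ded_20_2 (flp_c L199223) (flp_f L199197) L227895
theorem L227899 : sm gb N25681 = N29394 := rfl
theorem L227901 : sm gb N25682 = N29395 := rfl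
theorem L227903 : sm gf N29395 = N29364 := ded_16_2 (flp_b L227706) L199307 L199068 L199203 L227901
theorem L227905 : sm gb N25683 = N29396 := rfl
theorem L227907 : sm ge N29396 = N25684 := ded_15_2 (flp_b L199217) (flp_e L199213) L227905
theorem L227909 : sm ga N25684 = N29397 := rfl
theorem L227911 : sm gd N29397 = N25685 := ded_9_2 (flp_a L199221) (flp_d L199219) L227909
theorem L227913 : sm gc N25684 = N29398 := rfl
theorem L227915 : sm gb N29398 = N25700 := ded_13_1 L227430 (flp_b L201580) L169641 L199217 L227913
theorem L227917 : sm gd N25702 = N29398 := ded_14_0 L227915 L199285 L199291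
theorem L227919 : sm gg N25701 = N29398 := ded_17_0 L227915 (flp_g L199283) (flp_b L168239) L168244 L199287
theorem L227921 : sm ga N29398 = N29390 := ded_9_1 L227877 (flp_a L199299) L227917
theorem L227923 : sm gf N29398 = N29397 := ded_23_2 L227911 L199297 L227917
theorem L227925 : sm gc N29390 = N29397 := ded_8_2 (flp_a L227909) L227913 L227921
theorem L227927 : sm gg N25684 = N29399 := rfl
theorem L227929 : sm gc N29399 = N25701 := ded_21_1 L227919 (flp_c L227913) L227927
theorem L227931 : sm gd N29399 = N25687 := ded_24_1 (flp_g L199227) (flp_d L199219) L227927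
theorem L227933 : sm gf N29399 = N25701 := ded_29_2 L227919 L227921 L227879 L227927
theorem L227935 : sm gb N29399 = N29354 := ded_17_1 L227648 (flp_b L199096) L168218 L199217 L227927
theorem L227937 : sm gc N25685 = N29400 := rfl
theorem L227939 : sm ga N29400 = N25686 := ded_8_1 (flp_c L199223) L199221 L227937
theorem L227941 : sm gg N25685 = N29401 := rfl
theorem L227943 : sm ga N29401 = N25687 := ded_12_1 (flp_g L199227) L199221 L227941
theorem L227945 : sm gf N25703 = N29401 := ded_29_0 (flp_g L227941) L199297 L199293 L199313
theorem L227947 : sm gd N25686 = N29402 := rfl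
theorem L227949 : sm gb N29402 = N25688 := ded_14_1 (flp_d L199231) (flp_b L199225) L227947
theorem L227951 : sm gg N25686 = N29403 := rfl
theorem L227953 : sm gc N29403 = N25687 := ded_21_1 (flp_g L199227) L199223 L227951
theorem L227955 : sm gf N25704 = N29403 := ded_20_0 L227953 (flp_f L199295) L199317
theorem L227957 : sm gc N25688 = N29404 := rfl
theorem L227959 : sm ga N29404 = N29026 := ded_8_1 L225367 L225123 L227957
theorem L227961 : sm gg N29404 = N28375 := ded_21_2 L225119 L225117 L227957
theorem L227963 : sm gd N29404 = N28996 := ded_28_7 L225209 (flp_c L201480) (flp_d L169607) (flp_c L117451) (flp_d L116615) L168222 L199231 L227957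
theorem L227965 : sm ge N29106 = N29404 := ded_10_0 L227959 (flp_e L225939) L225937
theorem L227967 : sm ge N25688 = N29405 := rfl
theorem L227969 : sm gc N29405 = N29106 := ded_19_1 L227965 (flp_c L227957) L227967
theorem L227971 : sm gg N29405 = N29098 := ded_26_2 L225899 L225117 L227967
theorem L227973 : sm gb N25689 = N29406 := rfl
theorem L227975 : sm ge N25689 = N29407 := rfl
theorem L227977 : sm ga N29407 = N25690 := ded_10_1 (flp_e L199236) L199233 L227975
theorem L227979 : sm gc N29407 = N29407 := ded_19_1 (flp_e L227975) L199235 L227975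
theorem L227980 : sm gf N25689 = N29408 := rfl
theorem L227982 : sm ga N29408 = N25691 := ded_11_1 (flp_f L199241) L199233 L227980
theorem L227984 : sm gc N29408 = N29408 := ded_20_1 (flp_f L227980) L199235 L227980
theorem L227985 : sm gb N29408 = N29408 := ded_30_2 L227982 (flp_f L199241) L168226 (flp_b L168224) (flp_a L117461) L169637 L169641 L199217 L227909 (flp_f L227923) (flp_c L227913) (flp_b L199217) L168214 (flp_f L116622) L116617 L168224 L199233 L227980 L227984
theorem L227986 : sm gf N29406 = N29406 := ded_16_2 (flp_b L227973) L227980 L227985 (flp_f L227980) L227973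
theorem L227987 : sm gg N25689 = N29409 := rfl
theorem L227989 : sm ga N29409 = N25692 := ded_12_1 (flp_g L199244) L199233 L227987
theorem L227992 : sm gd N25690 = N29410 := rfl
theorem L227994 : sm gb N29410 = N25693 := ded_14_1 (flp_d L199247) (flp_b L199238) L227992
theorem L227996 : sm gf N25690 = N29411 := rfl
theorem L227998 : sm gc N29411 = N29411 := ded_20_1 (flp_f L227996) L199240 L227996
theorem L227999 : sm ge N29411 = N25691 := ded_25_1 (flp_f L199241) L199236 L227996
theorem L228001 : sm gg N25690 = N29412 := rfl
theorem L228003 : sm gc N29412 = N29412 := ded_21_1 (flp_g L228001) L199240 L228001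
theorem L228004 : sm ge N29412 = N25692 := ded_26_1 (flp_g L199244) L199236 L228001
theorem L228006 : sm gb N25691 = N29413 := rfl
theorem L228008 : sm gf N29413 = N25695 := ded_16_2 (flp_b L199255) (flp_f L168231) L168224 L199241 L228006
theorem L228010 : sm gg N25691 = N29414 := rfl
theorem L228013 : sm gf N29409 = N29414 := ded_29_0 (flp_g L228010) (flp_f L199241) L199244 (flp_a L227989)
theorem L228015 : sm gf N25692 = N29415 := rfl
theorem L228017 : sm ga N29415 = N29414 := ded_11_1 (flp_f L228013) L227989 L228015
theorem L228022 : sm gc N25693 = N29416 := rfl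
theorem L228024 : sm ge N29416 = N26699 := ded_19_2 (flp_c L206438) L201432 L228022
theorem L228026 : sm gf N25693 = N29417 := rfl
theorem L228028 : sm gd N29417 = N25694 := ded_23_1 (flp_f L199249) L199247 L228026
theorem L228030 : sm gb N25694 = N29418 := rfl
theorem L228032 : sm ge N29418 = N25695 := ded_15_2 (flp_b L199255) (flp_e L199253) L228030
theorem L228034 : sm gg N25694 = N29419 := rfl
theorem L228036 : sm ga N29419 = N29359 := ded_12_1 L227688 L201574 L228034
theorem L228038 : sm gc N29419 = N25698 := ded_21_1 (flp_g L199272) (flp_c L199251) L228034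
theorem L228040 : sm ge N29419 = N25696 := ded_26_1 (flp_g L199257) (flp_e L199253) L228034
theorem L228042 : sm gf N25943 = N29419 := ded_29_0 (flp_g L228034) (flp_f L199249) (flp_g L199082) (flp_a L200924)
theorem L228044 : sm ga N25695 = N29420 := rfl
theorem L228046 : sm gd N29420 = N28136 := ded_9_2 L217970 L201446 L228044
theorem L228048 : sm gc N25695 = N29421 := rfl
theorem L228050 : sm gb N29421 = N25699 := ded_13_1 (flp_c L199280) (flp_b L168239) (flp_c L168233) L199255 L228048
theorem L228052 : sm gg N29360 = N29421 := ded_17_0 L228050 (flp_g L227436) (flp_b L201580) (flp_g L199090) L227690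
theorem L228054 : sm gg N25695 = N29422 := rfl
theorem L228056 : sm gc N29422 = N29360 := ded_21_1 L228052 (flp_c L228048) L228054
theorem L228058 : sm gb N29363 = N29422 := ded_13_5 L228056 (flp_b L227690) L199086 L199096 L227704
theorem L228060 : sm gb N25696 = N29423 := rfl
theorem L228062 : sm gd N29423 = N25946 := ded_14_2 (flp_b L200940) (flp_d L199263) L228060
theorem L228064 : sm gc N29423 = N29354 := ded_13_2 (flp_b L227935) L227929 (flp_b L199287) (flp_c L199261) L228060
theorem L228066 : sm gg N29423 = N29363 := ded_17_2 L228058 (flp_g L228054) (flp_b L199255) L199257 L228060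
theorem L228068 : sm gf N29352 = N29423 := ded_20_0 L228064 (flp_f L227644) L227638
theorem L228070 : sm gc N25697 = N29424 := rfl
theorem L228072 : sm ge N29424 = N25699 := ded_19_2 (flp_c L199280) (flp_e L199269) L228070
theorem L228074 : sm gf N29424 = N29424 := ded_20_2 (flp_c L228070) L199271 L228070
theorem L228075 : sm gg N25697 = N29425 := rfl
theorem L228077 : sm ge N29425 = N25700 := ded_26_1 (flp_g L199283) (flp_e L199269) L228075
theorem L228079 : sm gb N25698 = N29426 := rfl
theorem L228081 : sm ge N29426 = N25701 := ded_15_2 (flp_b L199287) (flp_e L199276) L228079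
theorem L228083 : sm ga N25701 = N29427 := rfl
theorem L228085 : sm gd N29427 = N25703 := ded_9_2 (flp_a L199313) (flp_d L199289) L228083
theorem L228087 : sm gg N29427 = N29390 := ded_12_2 (flp_a L227921) (flp_g L227919) L228083
theorem L228089 : sm gc N25702 = N29428 := rfl
theorem L228091 : sm ga N29428 = N29393 := ded_8_1 (flp_c L227895) (flp_a L199299) L228089
theorem L228093 : sm gf N29428 = N29400 := ded_20_2 (flp_c L227937) L199297 L228089
theorem L228095 : sm gg N29428 = N25704 := ded_21_2 (flp_c L199317) (flp_g L199293) L228089
theorem L228097 : sm gb N29428 = N28568 := ded_13_1 (flp_c L221388) (flp_b L192245) (flp_c L168254) L199291 L228089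
theorem L228099 : sm gb N25703 = N29429 := rfl
theorem L228101 : sm gg N29429 = N29394 := ded_17_2 (flp_b L227899) (flp_g L199199) L199195 (flp_g L199315) L228099
theorem L228103 : sm gc N25703 = N29430 := rfl
theorem L228105 : sm ga N29430 = N25704 := ded_8_1 (flp_c L199317) L199313 L228103
theorem L228107 : sm gg N29430 = N29393 := ded_21_2 (flp_c L227895) (flp_g L199315) L228103
theorem L228109 : sm gd N25704 = N29431 := rfl
theorem L228111 : sm gb N29431 = N25706 := ded_14_1 (flp_d L199329) (flp_b L199319) L228109
theorem L228113 : sm ge N25706 = N29432 := rfl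
theorem L228115 : sm ga N29432 = N26986 := ded_10_1 L208961 (flp_a L199331) L228113
theorem L228117 : sm gc N29432 = N26985 := ded_19_1 L208955 L199335 L228113
theorem L228119 : sm gg N29432 = N26989 := ded_26_2 L208985 (flp_g L199333) L228113
theorem L228121 : sm gd N29432 = N28712 := ded_22_1 L222924 (flp_d L199708) L168532 L199329 L228113
theorem L228123 : sm gb N25707 = N29433 := rfl
theorem L228125 : sm gc N29433 = N29349 := ded_13_2 (flp_b L227622) L199048 (flp_b L168274) (flp_c L199339) L228123
theorem L228127 : sm gb N25708 = N29434 := rfl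
theorem L228129 : sm ge N29434 = N29100 := ded_15_2 (flp_b L225907) (flp_e L199347) L228127
theorem L228131 : sm ga N29434 = N29434 := ded_7_1 (flp_b L228127) L199345 (flp_b L181035) (flp_a L211392) L211394 L211392 L181035 (flp_a L199345) L228127
theorem L228132 : sm gd N25708 = N29435 := rfl
theorem L228134 : sm ga N29435 = N25709 := ded_9_1 (flp_d L199353) (flp_a L199345) L228132
theorem L228136 : sm gf N29435 = N25720 := ded_23_2 (flp_d L199417) (flp_f L199349) L228132
theorem L228138 : sm gg N29435 = N28372 := ded_24_2 (flp_d L219922) (flp_g L199351) L228132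
theorem L228140 : sm gc N25709 = N29436 := rfl
theorem L228142 : sm gf N29436 = N25721 := ded_20_2 (flp_c L199421) (flp_f L199355) L228140
theorem L228144 : sm ge N25709 = N29437 := rfl
theorem L228146 : sm gf N29437 = N25722 := ded_25_2 (flp_e L199423) (flp_f L199355) L228144
theorem L228148 : sm gg N25709 = N29438 := rfl
theorem L228150 : sm ga N29438 = N28372 := ded_12_1 (flp_g L228138) L228134 L228148
theorem L228152 : sm gd N29438 = N25710 := ded_24_1 (flp_g L199357) L199353 L228148
theorem L228154 : sm gf N29297 = N29438 := ded_29_0 (flp_g L228148) L199355 L199425 (flp_a L227212)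
theorem L228156 : sm gb N25710 = N29439 := rfl
theorem L228158 : sm ge N29439 = N27945 := ded_15_2 (flp_b L216511) (flp_e L199363) L228156
theorem L228160 : sm gc N29439 = N29296 := ded_13_2 (flp_b L227206) L198803 (flp_b L168300) (flp_c L199361) L228156
theorem L228162 : sm gd N25711 = N29440 := rfl
theorem L228164 : sm ga N29440 = N28360 := ded_9_1 L219842 (flp_a L199369) L228162
theorem L228166 : sm gb N29440 = N27297 := ded_14_1 (flp_d L211479) (flp_b L199375) L228162
theorem L228168 : sm gg N29440 = N27938 := ded_24_2 (flp_d L216463) (flp_g L199373) L228162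
theorem L228170 : sm gd N25712 = N29441 := rfl
theorem L228172 : sm gf N29441 = N25718 := ded_23_2 (flp_d L199407) (flp_f L199379) L228170
theorem L228174 : sm ga N25713 = N29442 := rfl
theorem L228176 : sm gd N29442 = N25717 := ded_9_2 L199403 (flp_d L199383) L228174
theorem L228178 : sm ge N29442 = N25714 := ded_10_2 (flp_a L199391) (flp_e L199385) L228174
theorem L228180 : sm gf N29442 = N28566 := ded_11_2 (flp_a L221376) (flp_f L199387) L228174
theorem L228182 : sm gg N29442 = N25714 := ded_12_2 (flp_a L199391) (flp_g L199389) L228174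
theorem L228184 : sm gb N29442 = N25717 := ded_7_2 L199403 L168344 L167268 L192219 (flp_a L192226) (flp_b L168397) (flp_a L168324) L199381 L228174
theorem L228186 : sm gc N25713 = N29443 := rfl
theorem L228188 : sm ge N29443 = N25715 := ded_19_2 (flp_c L199395) (flp_e L199385) L228186
theorem L228190 : sm gf N29443 = N28567 := ded_20_2 (flp_c L221386) (flp_f L199387) L228186
theorem L228192 : sm gg N29443 = N25715 := ded_21_2 (flp_c L199395) (flp_g L199389) L228186
theorem L228194 : sm gb N29443 = N28819 := ded_13_1 L223667 L200525 L170106 L199381 L228186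
theorem L228196 : sm gd N28827 = N29443 := ded_14_0 L228194 L223669 L223739
theorem L228198 : sm gc N25714 = N29444 := rfl
theorem L228200 : sm ga N29444 = N25715 := ded_8_1 (flp_c L199395) L199391 L228198
theorem L228202 : sm gd N25715 = N29445 := rfl
theorem L228204 : sm gb N29445 = N28436 := ded_14_1 L220404 L202178 L228202
theorem L228206 : sm gg N29445 = N28827 := ded_24_2 L228196 L228192 L228202
theorem L228208 : sm gb N25716 = N29446 := rfl
theorem L228210 : sm gd N25716 = N29447 := rfl
theorem L228212 : sm ga N29447 = N25718 := ded_9_1 (flp_d L199407) (flp_a L199399) L228210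
theorem L228214 : sm gg N25716 = N29448 := rfl
theorem L228216 : sm ga N29448 = N25719 := ded_12_1 (flp_g L199411) (flp_a L199399) L228214
theorem L228218 : sm gc N29448 = N25717 := ded_21_1 (flp_g L199401) L199397 L228214
theorem L228220 : sm gf N28569 = N29448 := ded_29_0 (flp_g L228214) (flp_f L221394) L221396 (flp_a L221400)
theorem L228222 : sm gc N25718 = N29449 := rfl
theorem L228224 : sm ge N25718 = N29450 := rfl
theorem L228226 : sm gb N29450 = N25722 := ded_15_1 (flp_e L199423) (flp_b L199409) L228224
theorem L228228 : sm gg N25718 = N29451 := rfl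
theorem L228230 : sm gd N29451 = N25719 := ded_24_1 (flp_g L199411) L199407 L228228
theorem L228232 : sm gf N27209 = N29451 := ded_23_0 L228230 (flp_f L199415) (flp_d L210823)
theorem L228234 : sm gb N25719 = N29452 := rfl
theorem L228236 : sm ge N29452 = N28651 := ded_15_2 L222040 L199590 L228234
theorem L228238 : sm gc N29452 = N28649 := ded_13_2 (flp_b L222022) L192715 (flp_b L168344) (flp_c L199413) L228234
theorem L228240 : sm gf N29452 = N28570 := ded_16_2 (flp_b L221406) (flp_f L192267) (flp_b L192265) L199415 L228234
theorem L228242 : sm gg N29452 = N25724 := ded_17_2 (flp_b L199429) (flp_g L168364) (flp_b L168340) L199411 L228234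
theorem L228244 : sm ge N25720 = N29453 := rfl
theorem L228246 : sm ga N29453 = N25722 := ded_10_1 (flp_e L199423) (flp_a L199419) L228244
theorem L228248 : sm gb N25721 = N29454 := rfl
theorem L228250 : sm ge N25721 = N29455 := rfl
theorem L228252 : sm gc N29455 = N25722 := ded_19_1 (flp_e L199423) L199421 L228250
theorem L228254 : sm gg N25721 = N29456 := rfl
theorem L228256 : sm gc N29456 = N25723 := ded_21_1 (flp_g L199425) L199421 L228254
theorem L228258 : sm gf N28365 = N29456 := ded_20_0 L228256 (flp_f L219926) (flp_c L219930)
theorem L228260 : sm ge N29456 = N29087 := ded_25_1 (flp_f L225837) (flp_e L219878) L228258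
theorem L228262 : sm gg N29087 = N29455 := ded_26_2 (flp_e L228250) L228254 L228260
theorem L228264 : sm gg N25722 = N29457 := rfl
theorem L228266 : sm gc N29457 = N29087 := ded_21_1 L228262 L228252 L228264
theorem L228268 : sm gd N29457 = N28057 := ded_24_1 (flp_g L221271) L221273 L228264
theorem L228270 : sm ge N29457 = N25723 := ded_26_1 (flp_g L199425) L199423 L228264
theorem L228272 : sm gf N28077 = N29457 := ded_20_0 L228266 (flp_f L225837) L217566
theorem L228274 : sm gb N25723 = N29458 := rfl
theorem L228276 : sm gd N29458 = N25724 := ded_14_2 (flp_b L199429) (flp_d L199427) L228274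
theorem L228278 : sm gf N29458 = N28982 := ded_16_2 (flp_b L225109) (flp_f L219874) (flp_b L219924) L219926 L228274
theorem L228280 : sm ga N25724 = N29459 := rfl
theorem L228282 : sm gc N29459 = N29146 := ded_8_2 (flp_a L226149) (flp_c L199431) L228280
theorem L228284 : sm gf N25724 = N29460 := rfl
theorem L228286 : sm gc N29460 = N29147 := ded_20_1 (flp_f L226151) (flp_c L199431) L228284
theorem L228288 : sm gd N29460 = N28982 := ded_23_1 (flp_f L228278) L228276 L228284
theorem L228290 : sm gb N29460 = N28983 := ded_16_1 L225115 (flp_b L219914) L191037 L199429 L228284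
theorem L228292 : sm gc N25727 = N29461 := rfl
theorem L228294 : sm ga N29461 = N27015 := ded_8_1 (flp_c L209211) L199459 L228292
theorem L228296 : sm ge N29461 = N27260 := ded_19_2 (flp_c L211197) (flp_e L199455) L228292
theorem L228298 : sm gf N29461 = N25731 := ded_20_2 (flp_c L199492) (flp_f L199457) L228292
theorem L228300 : sm gb N29461 = N29461 := ded_13_1 (flp_c L228292) (flp_b L199451) L168384 L199451 L228292
theorem L228301 : sm gc N25729 = N29462 := rfl
theorem L228303 : sm ga N29462 = N27262 := ded_8_1 L211208 (flp_a L199480) L228301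
theorem L228305 : sm ge N29462 = N25731 := ded_19_2 (flp_c L199492) (flp_e L199476) L228301
theorem L228307 : sm gf N29462 = N27260 := ded_20_2 (flp_c L211197) (flp_f L199478) L228301
theorem L228309 : sm gb N29462 = N25733 := ded_13_1 (flp_c L199506) (flp_b L168397) (flp_c L168387) L199472 L228301
theorem L228311 : sm gc N25730 = N29463 := rfl
theorem L228313 : sm ga N29463 = N25731 := ded_8_1 (flp_c L199492) L199482 L228311
theorem L228315 : sm ge N29463 = N27262 := ded_19_2 L211208 (flp_e L199486) L228311
theorem L228317 : sm gf N29463 = N27015 := ded_20_2 (flp_c L209211) (flp_f L199488) L228311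
theorem L228319 : sm gg N29463 = N27219 := ded_21_2 (flp_c L210895) L199490 L228311
theorem L228321 : sm gb N29463 = N28724 := ded_30_2 L223020 L223030 (flp_c L223465) (flp_b L225703) L225697 L197653 (flp_c L197168) (flp_b L166555) L115484 (flp_f L115476) (flp_c L144101) L168373 (flp_a L168368) L168382 L168384 L199451 (flp_a L199459) (flp_f L199488) L228311
theorem L228323 : sm gd N28723 = N29463 := ded_14_0 L228321 (flp_d L223018) L223014
theorem L228325 : sm gd N25731 = N29464 := rfl
theorem L228327 : sm ga N29464 = N28723 := ded_9_1 L228323 L228313 L228325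
theorem L228329 : sm gb N29464 = N25735 := ded_14_1 (flp_d L199517) (flp_b L199494) L228325
theorem L228331 : sm ge N28735 = N29464 := ded_10_0 L228327 L223016 L223086
theorem L228333 : sm gg N28746 = N29464 := ded_17_0 L228329 L227428 (flp_b L193181) L193185 L223133
theorem L228335 : sm gg N25731 = N29465 := rfl
theorem L228337 : sm ga N29465 = N27219 := ded_12_1 (flp_g L228319) L228313 L228335
theorem L228339 : sm gc N29465 = N25732 := ded_21_1 (flp_g L199496) L199492 L228335
theorem L228341 : sm gd N29465 = N28746 := ded_24_1 L228333 (flp_d L228325) L228335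
theorem L228343 : sm gf N29465 = N29180 := ded_29_2 L226343 (flp_a L228294) L228298 L228335
theorem L228345 : sm gb N29465 = N28744 := ded_17_1 (flp_g L223120) (flp_b L227413) (flp_g L199520) (flp_b L199494) L228335
theorem L228347 : sm gd N25733 = N29466 := rfl
theorem L228349 : sm ga N29466 = N28306 := ded_9_1 (flp_d L227440) L221338 L228347
theorem L228351 : sm gf N29466 = N29466 := ded_23_2 (flp_d L228347) L199510 L228347
theorem L228352 : sm gc N28305 = N29466 := ded_28_0 (flp_d L228347) (flp_c L199506) (flp_d L192221) L221336 L227440 (flp_c L219482) L190713 L219474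
theorem L228354 : sm ge N29002 = N29466 := ded_10_0 L228349 L219484 (flp_a L225249)
theorem L228356 : sm gg N25733 = N29467 := rfl
theorem L228358 : sm gc N29467 = N25734 := ded_21_1 (flp_g L199511) L199506 L228356
theorem L228360 : sm ge N29467 = N25736 := ded_26_1 (flp_g L199520) (flp_e L199508) L228356
theorem L228362 : sm gb N28742 = N29467 := ded_15_3 L228360 L227413 (flp_e L223114)
theorem L228364 : sm ge N25735 = N29468 := rfl
theorem L228366 : sm ga N29468 = N29003 := ded_10_1 L227438 L221355 L228364
theorem L228368 : sm gb N29468 = N28735 := ded_15_1 L228331 L228329 L228364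
theorem L228370 : sm gf N29468 = N29468 := ded_25_2 (flp_e L228364) L199519 L228364
theorem L228371 : sm gg N29468 = N28728 := ded_26_2 L223038 (flp_g L227428) L228364
theorem L228373 : sm gd N29468 = N29002 := ded_22_1 L228354 (flp_d L228347) L199508 L199517 L228364
theorem L228375 : sm gd N25737 = N29469 := rfl
theorem L228377 : sm gf N29469 = N28548 := ded_23_2 (flp_d L221263) (flp_f L199528) L228375
theorem L228379 : sm gg N29469 = N28671 := ded_24_2 (flp_d L227409) L199568 L228375
theorem L228381 : sm gb N25738 = N29470 := rfl
theorem L228383 : sm gc N29470 = N25757 := ded_13_2 (flp_b L199662) (flp_c L168502) (flp_b L168421) L199530 L228381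
theorem L228385 : sm gg N26699 = N29470 := ded_21_0 L228383 L223837 L206438
theorem L228387 : sm gd N29470 = N26634 := ded_28_1 (flp_c L205909) (flp_d L173379) L122202 (flp_d L117289) (flp_c L169311) L200930 (flp_a L223835) (flp_c L228383)
theorem L228389 : sm gd N25738 = N29471 := rfl
theorem L228391 : sm ga N29471 = N26045 := ded_9_1 L227434 (flp_a L199532) L228389
theorem L228393 : sm gb N29471 = N26634 := ded_14_1 (flp_d L228387) (flp_b L228381) L228389
theorem L228395 : sm gf N29471 = N29471 := ded_23_2 (flp_d L228389) L199534 L228389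
theorem L228396 : sm gc N28563 = N29471 := ded_28_0 (flp_d L228389) (flp_c L199530) (flp_d L168417) (flp_c L116736) (flp_d L116722) L168402 L199517 (flp_a L221355)
theorem L228398 : sm gg N26034 = N29471 := ded_12_0 L228391 (flp_g L201606) (flp_a L216913)
theorem L228400 : sm ge N25738 = N29472 := rfl
theorem L228402 : sm ga N29472 = N29424 := ded_10_1 L228072 (flp_a L199532) L228400
theorem L228404 : sm gc N29472 = N25739 := ded_19_1 (flp_e L199535) L199530 L228400
theorem L228406 : sm gf N29472 = N29472 := ded_25_2 (flp_e L228400) L199534 L228400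
theorem L228407 : sm gg N25738 = N29473 := rfl
theorem L228409 : sm ga N29473 = N26039 := ded_12_1 L227436 (flp_a L199532) L228407
theorem L228411 : sm gc N29473 = N25740 := ded_21_1 (flp_g L199544) L199530 L228407
theorem L228413 : sm gd N29473 = N26034 := ded_24_1 L228398 (flp_d L228389) L228407
theorem L228415 : sm gf N26039 = N29473 := ded_29_0 (flp_g L228407) L199534 L228407 L228409
theorem L228417 : sm gb N26029 = N29473 := ded_14_3 L228413 (flp_b L201548) (flp_d L201526)
theorem L228419 : sm gg N25739 = N29474 := rfl
theorem L228421 : sm ga N29474 = N29425 := ded_12_1 (flp_g L228075) (flp_a L199537) L228419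
theorem L228423 : sm gd N29474 = N29425 := ded_24_1 (flp_g L228075) (flp_d L199542) L228419
theorem L228425 : sm ge N29474 = N25740 := ded_26_1 (flp_g L199544) L199535 L228419
theorem L228427 : sm gf N29425 = N29474 := ded_29_0 (flp_g L228419) L199541 L228419 L228421
theorem L228429 : sm gb N25740 = N29475 := rfl
theorem L228431 : sm gd N29475 = N25741 := ded_14_2 (flp_b L199552) (flp_d L199548) L228429
theorem L228433 : sm gg N29475 = N25761 := ded_17_2 (flp_b L199684) (flp_g L168512) (flp_b L168421) L199544 L228429
theorem L228435 : sm gc N25741 = N29476 := rfl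
theorem L228437 : sm ge N29476 = N29428 := ded_19_2 (flp_c L228089) (flp_e L199554) L228435
theorem L228439 : sm gg N29476 = N25763 := ded_21_2 (flp_c L199694) (flp_g L199556) L228435
theorem L228441 : sm gb N29476 = N25742 := ded_13_1 (flp_c L199558) (flp_b L168434) (flp_c L168428) L199552 L228435
theorem L228443 : sm gd N25742 = N29477 := rfl
theorem L228445 : sm ga N29477 = N29469 := ded_9_1 (flp_d L228375) (flp_a L199560) L228443
theorem L228447 : sm gg N29477 = N25745 := ded_24_2 (flp_d L199582) (flp_g L199562) L228443
theorem L228449 : sm gf N25743 = N29478 := rfl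
theorem L228451 : sm ga N29478 = N25746 := ded_11_1 (flp_f L199586) (flp_a L199566) L228449
theorem L228453 : sm gc N29478 = N25744 := ded_20_1 (flp_f L199570) L199564 L228449
theorem L228455 : sm ge N29478 = N29448 := ded_25_1 (flp_f L228220) L221402 L228449
theorem L228457 : sm gg N29478 = N28547 := ded_29_3 L221257 (flp_f L199528) (flp_g L199568) L228449
theorem L228459 : sm gc N25745 = N29479 := rfl
theorem L228461 : sm gb N29479 = N28824 := ded_13_1 L223715 L202705 (flp_c L199736) (flp_b L199584) L228459
theorem L228463 : sm ge N28827 = N29479 := ded_15_0 L228461 L223717 L223739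
theorem L228465 : sm ge N25745 = N29480 := rfl
theorem L228467 : sm gb N29480 = N25771 := ded_15_1 (flp_e L199738) (flp_b L199584) L228465
theorem L228469 : sm gc N29480 = N28827 := ded_19_1 L228463 (flp_c L228459) L228465
theorem L228471 : sm gf N25745 = N29481 := rfl
theorem L228473 : sm gd N29481 = N25746 := ded_23_1 (flp_f L199586) L199582 L228471
theorem L228475 : sm gg N28548 = N29481 := ded_29_1 (flp_f L228471) (flp_g L228447) L228445 L228377
theorem L228477 : sm gd N25747 = N29482 := rfl
theorem L228479 : sm ga N29482 = N25749 := ded_9_1 (flp_d L199610) (flp_a L199596) L228477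
theorem L228481 : sm gb N29482 = N28080 := ded_14_1 L217583 (flp_b L199602) L228477
theorem L228483 : sm gg N29482 = N28303 := ded_24_2 (flp_d L219462) (flp_g L199600) L228477
theorem L228485 : sm ga N25748 = N29483 := rfl
theorem L228487 : sm gc N29483 = N25752 := ded_8_2 (flp_a L199628) (flp_c L199608) L228485
theorem L228489 : sm ge N29483 = N29400 := ded_10_2 L227939 (flp_e L199606) L228485
theorem L228491 : sm gf N29483 = N29476 := ded_30_4 (flp_c L228435) (flp_b L199552) L168426 L168432 L168428 L168434 L168456 L168415 L192153 L192157 (flp_a L192161) L197783 L197779 (flp_b L197745) L197737 (flp_f L168474) L168470 L199604 L228485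
theorem L228493 : sm gd N25748 = N29484 := rfl
theorem L228495 : sm gb N29484 = N25749 := ded_14_1 (flp_d L199610) L199604 L228493
theorem L228497 : sm gf N25748 = N29485 := rfl
theorem L228499 : sm ga N29485 = N29476 := ded_11_1 (flp_f L228491) (flp_a L228485) L228497
theorem L228501 : sm gc N29485 = N25754 := ded_20_1 (flp_f L199640) (flp_c L199608) L228497
theorem L228503 : sm ge N29485 = N29393 := ded_25_1 L227897 (flp_e L199606) L228497
theorem L228505 : sm gb N29485 = N28902 := ded_16_1 L224439 L211330 (flp_f L199612) L199604 L228497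
theorem L228507 : sm gg N25748 = N29486 := rfl
theorem L228509 : sm gc N29486 = N25755 := ded_21_1 (flp_g L199648) (flp_c L199608) L228507
theorem L228511 : sm ge N29486 = N29403 := ded_26_1 (flp_g L227951) (flp_e L199606) L228507
theorem L228513 : sm gf N29486 = N25763 := ded_29_2 (flp_g L228439) (flp_a L228499) (flp_f L228497) L228507
theorem L228515 : sm gc N25749 = N29487 := rfl
theorem L228517 : sm ge N25749 = N29488 := rfl
theorem L228519 : sm gd N29488 = N29405 := ded_22_1 (flp_e L227967) (flp_d L199231) (flp_e L168472) L199610 L228517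
theorem L228521 : sm gg N28075 = N29488 := ded_24_0 L228519 L227971 L225897
theorem L228523 : sm gc N29488 = N28122 := ded_21_1 (flp_g L217864) (flp_c L217556) L228521
theorem L228525 : sm ge N28122 = N29487 := ded_19_2 (flp_c L228515) L228517 L228523
theorem L228527 : sm gg N29487 = N28120 := ded_26_2 L217855 L217864 L228525
theorem L228529 : sm gf N25749 = N29489 := rfl
theorem L228531 : sm gd N29489 = N25750 := ded_23_1 (flp_f L199612) L199610 L228529
theorem L228533 : sm gg N25749 = N29490 := rfl
theorem L228535 : sm ga N29490 = N28303 := ded_12_1 (flp_g L228483) L228479 L228533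
theorem L228537 : sm gc N29490 = N28120 := ded_21_1 (flp_g L228527) (flp_c L228515) L228533
theorem L228539 : sm gd N29490 = N25751 := ded_24_1 (flp_g L199618) L199610 L228533
theorem L228541 : sm ge N29490 = N28075 := ded_26_1 L228521 (flp_e L228517) L228533
theorem L228543 : sm gf N28074 = N29490 := ded_20_0 L228537 (flp_f L217851) (flp_c L217550)
theorem L228545 : sm gb N25751 = N29491 := rfl
theorem L228547 : sm ge N29491 = N28982 := ded_15_2 (flp_b L225109) (flp_e L199624) L228545
theorem L228549 : sm gd N25752 = N29492 := rfl
theorem L228551 : sm ga N29492 = N25753 := ded_9_1 (flp_d L199636) L199628 L228549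
theorem L228553 : sm gb N29492 = N29397 := ded_14_1 L227911 (flp_b L199632) L228549
theorem L228555 : sm gf N29492 = N29475 := ded_23_2 L228431 L199634 L228549
theorem L228557 : sm gg N25752 = N29493 := rfl
theorem L228559 : sm ga N29493 = N25755 := ded_12_1 (flp_g L199648) L199628 L228557
theorem L228561 : sm ge N29493 = N29401 := ded_26_1 (flp_g L227941) (flp_e L199630) L228557
theorem L228563 : sm gf N25762 = N29493 := ded_29_0 (flp_g L228557) (flp_f L199634) L199556 L199688
theorem L228565 : sm gc N25753 = N29494 := rfl
theorem L228567 : sm ge N25753 = N29495 := rfl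
theorem L228569 : sm gb N29495 = N25756 := ded_15_1 (flp_e L199654) (flp_b L199638) L228567
theorem L228571 : sm gd N29495 = N29396 := ded_22_1 L227907 L199219 (flp_e L168494) L199636 L228567
theorem L228573 : sm gf N25753 = N29496 := rfl
theorem L228575 : sm ga N29496 = N29475 := ded_11_1 (flp_f L228555) L228551 L228573
theorem L228577 : sm gd N29496 = N25754 := ded_23_1 (flp_f L199640) L199636 L228573
theorem L228579 : sm gb N29496 = N25782 := ded_16_1 (flp_f L199803) L168606 (flp_f L168500) (flp_b L199638) L228573
theorem L228581 : sm gg N25753 = N29497 := rfl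
theorem L228583 : sm gd N29497 = N25755 := ded_24_1 (flp_g L199648) L199636 L228581
theorem L228585 : sm gf N29497 = N25761 := ded_29_2 (flp_g L228433) (flp_a L228575) (flp_f L228573) L228581
theorem L228587 : sm gf N25757 = N29498 := rfl
theorem L228589 : sm gd N29498 = N26043 := ded_23_1 (flp_f L201602) L223819 L228587
theorem L228591 : sm gg N26041 = N29498 := ded_29_1 (flp_f L228587) L223837 L201430 L201586
theorem L228593 : sm gb N29498 = N25795 := ded_16_1 (flp_f L199875) (flp_b L168638) (flp_f L168504) L199662 L228587
theorem L228595 : sm gg N25758 = N29499 := rfl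
theorem L228597 : sm gc N29499 = N25760 := ded_21_1 (flp_g L199678) (flp_c L199666) L228595
theorem L228599 : sm ge N29499 = N25759 := ded_26_1 (flp_g L199670) L199664 L228595
theorem L228601 : sm gf N26269 = N29499 := ded_29_0 (flp_g L228595) L199668 L199883 (flp_a L203211)
theorem L228603 : sm gb N25759 = N29500 := rfl
theorem L228605 : sm gd N29500 = N26277 := ded_14_2 (flp_b L203245) (flp_d L199674) L228603
theorem L228607 : sm gb N25760 = N29501 := rfl
theorem L228609 : sm gd N29501 = N29426 := ded_14_2 (flp_b L228079) (flp_d L199680) L228607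
theorem L228611 : sm ge N29501 = N25761 := ded_15_2 (flp_b L199684) (flp_e L199682) L228607
theorem L228613 : sm ga N25761 = N29502 := rfl
theorem L228615 : sm gd N29502 = N25762 := ded_9_2 (flp_a L199688) (flp_d L199686) L228613
theorem L228617 : sm gg N29502 = N29496 := ded_12_2 L228575 L228433 L228613
theorem L228619 : sm gc N25761 = N29503 := rfl
theorem L228621 : sm gb N25762 = N29504 := rfl
theorem L228623 : sm ge N29504 = N29429 := ded_15_2 (flp_b L228099) (flp_e L199690) L228621
theorem L228625 : sm gc N25762 = N29505 := rfl
theorem L228627 : sm ga N29505 = N25763 := ded_8_1 (flp_c L199694) L199688 L228625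
theorem L228629 : sm ge N29505 = N29430 := ded_19_2 (flp_c L228103) (flp_e L199690) L228625
theorem L228631 : sm gg N29505 = N29485 := ded_21_2 L228501 (flp_g L199692) L228625
theorem L228633 : sm gd N25763 = N29506 := rfl
theorem L228635 : sm gb N29506 = N25765 := ded_14_1 (flp_d L199708) (flp_b L199698) L228633
theorem L228637 : sm gb N25764 = N29507 := rfl
theorem L228639 : sm ge N29507 = N29297 := ded_15_2 L227214 (flp_e L199704) L228637
theorem L228641 : sm gc N29507 = N29081 := ded_13_2 (flp_b L225797) L197697 L168528 L199700 L228637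
theorem L228643 : sm ga N29507 = N29457 := ded_30_3 (flp_f L228272) (flp_c L217566) (flp_b L197747) L167142 L167150 L167152 (flp_b L116503) (flp_a L167930) (flp_f L167928) L167924 L196993 L196989 (flp_f L196981) (flp_c L196977) (flp_b L168542) (flp_a L168568) (flp_f L168572) L199700 L228637
theorem L228645 : sm gg N29453 = N29507 := ded_26_0 L228639 L227216 L228244
theorem L228647 : sm gd N25764 = N29508 := rfl
theorem L228649 : sm ga N29508 = N25765 := ded_9_1 (flp_d L199708) (flp_a L199702) L228647
theorem L228651 : sm gf N29508 = N28676 := ded_23_2 L222239 (flp_f L199754) L228647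
theorem L228653 : sm gg N29508 = N25768 := ded_24_2 (flp_d L199722) (flp_g L199706) L228647
theorem L228655 : sm gc N27500 = N29508 := ded_28_0 (flp_d L228647) (flp_c L199700) L168522 L170342 L202665 (flp_c L202675) (flp_d L222511) (flp_a L222519)
theorem L228657 : sm gf N25765 = N29509 := rfl
theorem L228659 : sm ga N29509 = N28676 := ded_11_1 (flp_f L228651) L228649 L228657
theorem L228661 : sm gd N29509 = N25766 := ded_23_1 (flp_f L199712) L199708 L228657
theorem L228663 : sm gb N25766 = N29510 := rfl
theorem L228665 : sm ge N29510 = N29433 := ded_15_2 (flp_b L228123) (flp_e L199716) L228663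
theorem L228667 : sm gc N29510 = N28967 := ded_13_2 (flp_b L225001) (flp_c L196977) (flp_b L168542) (flp_c L199714) L228663
theorem L228669 : sm gd N25767 = N29511 := rfl
theorem L228671 : sm ga N29511 = N28075 := ded_9_1 (flp_d L225897) L225893 L228669
theorem L228673 : sm gb N29511 = N25768 := ded_14_1 (flp_d L199722) L199718 L228669
theorem L228675 : sm gf N29511 = N28073 := ded_23_2 (flp_d L225885) L225889 L228669
theorem L228677 : sm ge N29511 = N28303 := ded_22_2 (flp_d L219462) L190695 L197061 (flp_e L199720) L228669
theorem L228679 : sm gc N28118 = N29511 := ded_8_0 L228671 L217556 (flp_a L217845)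
theorem L228681 : sm gg N25767 = N29512 := rfl
theorem L228683 : sm ga N29512 = N29405 := ded_12_1 L227971 L225893 L228681
theorem L228685 : sm gc N29512 = N29107 := ded_21_1 L225941 L219638 L228681
theorem L228687 : sm ge N29512 = N28984 := ded_26_1 (flp_g L225121) (flp_e L199720) L228681
theorem L228689 : sm gf N29512 = N29099 := ded_29_2 (flp_g L225901) L225881 L225889 L228681
theorem L228691 : sm gb N29512 = N29453 := ded_17_1 L228645 (flp_b L228637) L199706 L199718 L228681
theorem L228693 : sm gf N25768 = N29513 := rfl
theorem L228695 : sm ga N29513 = N25772 := ded_11_1 (flp_f L199740) (flp_a L199724) L228693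
theorem L228697 : sm gd N29513 = N25769 := ded_23_1 (flp_f L199726) L199722 L228693
theorem L228699 : sm gg N29513 = N29509 := ded_29_3 L228659 (flp_f L228651) L228653 L228693
theorem L228701 : sm gb N25769 = N29514 := rfl
theorem L228703 : sm ge N29514 = N29178 := ded_15_2 L226331 (flp_e L199732) L228701
theorem L228705 : sm gc N29514 = N28415 := ded_13_2 (flp_b L220238) L191221 (flp_b L168558) (flp_c L199730) L228701
theorem L228707 : sm gf N25770 = N29515 := rfl
theorem L228709 : sm gc N29515 = N25772 := ded_20_1 (flp_f L199740) L199736 L228707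
theorem L228711 : sm ge N29515 = N28833 := ded_25_1 (flp_f L223775) L202707 L228707
theorem L228713 : sm gf N25771 = N29516 := rfl
theorem L228715 : sm gc N29516 = N28833 := ded_20_1 (flp_f L223775) (flp_c L202709) L228713
theorem L228717 : sm ge N29516 = N25772 := ded_25_1 (flp_f L199740) L199738 L228713
theorem L228719 : sm gg N28886 = N29516 := ded_26_0 L228717 (flp_g L222241) (flp_e L224307)
theorem L228721 : sm ga N25773 = N29517 := rfl
theorem L228723 : sm gc N29517 = N29129 := ded_8_2 (flp_a L226053) (flp_c L199746) L228721
theorem L228725 : sm gd N25775 = N29518 := rfl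
theorem L228727 : sm gf N29518 = N28966 := ded_23_2 (flp_d L224993) (flp_f L199760) L228725
theorem L228729 : sm gg N29518 = N25792 := ded_24_2 (flp_d L199865) (flp_g L199762) L228725
theorem L228731 : sm gd N25776 = N29519 := rfl
theorem L228733 : sm ga N29519 = N29519 := ded_9_1 (flp_d L228731) L199770 L228731
theorem L228734 : sm gb N29519 = N25777 := ded_14_1 (flp_d L199771) L199764 L228731
theorem L228736 : sm gf N29519 = N29379 := ded_23_2 (flp_d L227808) (flp_f L199783) L228731
theorem L228738 : sm gg N29519 = N29379 := ded_24_2 (flp_d L227808) (flp_g L199793) L228731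
theorem L228740 : sm gc N25777 = N29520 := rfl
theorem L228742 : sm ga N29520 = N25780 := ded_8_1 (flp_c L199795) (flp_a L199773) L228740
theorem L228744 : sm gd N26032 = N29520 := ded_28_1 (flp_c L228740) (flp_d L199771) (flp_c L180985) L180987 L179389 (flp_d L203763) L203761 (flp_c L201538)
theorem L228746 : sm gf N29520 = N26031 := ded_23_2 (flp_d L201532) L201536 L228744
theorem L228748 : sm ge N25777 = N29521 := rfl
theorem L228750 : sm ga N29521 = N25781 := ded_10_1 (flp_e L199797) (flp_a L199773) L228748
theorem L228752 : sm gd N29521 = N29381 := ded_22_1 (flp_e L227821) (flp_d L199169) (flp_e L168602) L199771 L228748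
theorem L228754 : sm gf N25777 = N29522 := rfl
theorem L228756 : sm ga N29522 = N25782 := ded_11_1 (flp_f L199803) (flp_a L199773) L228754
theorem L228758 : sm gc N29522 = N26031 := ded_20_1 (flp_f L228746) (flp_c L228740) L228754
theorem L228760 : sm gd N29522 = N25778 := ded_23_1 (flp_f L199775) L199771 L228754
theorem L228762 : sm gb N29522 = N29382 := ded_16_1 (flp_f L227825) (flp_b L227811) (flp_f L228736) L228734 L228754
theorem L228764 : sm gg N25777 = N29523 := rfl
theorem L228766 : sm ga N29523 = N25783 := ded_12_1 (flp_g L199807) (flp_a L199773) L228764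
theorem L228768 : sm gd N29523 = N25779 := ded_24_1 (flp_g L199785) L199771 L228764
theorem L228770 : sm gb N29523 = N29383 := ded_17_1 (flp_g L227831) (flp_b L227811) (flp_g L228738) L228734 L228764
theorem L228772 : sm gd N25780 = N29524 := rfl
theorem L228774 : sm ga N29524 = N26032 := ded_9_1 L228744 L228742 L228772
theorem L228776 : sm gb N29524 = N28089 := ded_14_1 (flp_d L217658) L203155 L228772
theorem L228778 : sm gc N26356 = N29524 := ded_28_0 (flp_d L228772) (flp_c L199795) (flp_d L168604) L156865 L144611 L144927 (flp_d L171043) (flp_a L203761)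
theorem L228780 : sm ge N26025 = N29524 := ded_10_0 L228774 L201540 (flp_a L201506)
theorem L228782 : sm gf N26024 = N29524 := ded_11_0 L228774 (flp_f L201536) (flp_a L201500)
theorem L228784 : sm ge N25780 = N29525 := rfl
theorem L228786 : sm gc N29525 = N25781 := ded_19_1 (flp_e L199797) L199795 L228784
theorem L228788 : sm gf N25780 = N29526 := rfl
theorem L228790 : sm ga N29526 = N26031 := ded_11_1 (flp_f L228746) L228742 L228788
theorem L228792 : sm gc N29526 = N25782 := ded_20_1 (flp_f L199803) L199795 L228788
theorem L228794 : sm gd N29526 = N26024 := ded_23_1 L228782 (flp_d L228772) L228788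
theorem L228796 : sm gg N25780 = N29527 := rfl
theorem L228798 : sm gc N29527 = N25783 := ded_21_1 (flp_g L199807) L199795 L228796
theorem L228800 : sm gf N25781 = N29528 := rfl
theorem L228802 : sm gd N29528 = N29388 := ded_23_1 (flp_f L227867) (flp_d L199801) L228800
theorem L228804 : sm ge N29528 = N25782 := ded_25_1 (flp_f L199803) L199797 L228800
theorem L228806 : sm gg N25781 = N29529 := rfl
theorem L228808 : sm gd N29529 = N29389 := ded_24_1 (flp_g L227871) (flp_d L199801) L228806
theorem L228810 : sm ge N29529 = N25783 := ded_26_1 (flp_g L199807) L199797 L228806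
theorem L228812 : sm gg N25782 = N29530 := rfl
theorem L228814 : sm gd N29530 = N25784 := ded_24_1 (flp_g L199811) (flp_d L199805) L228812
theorem L228816 : sm gf N29523 = N29530 := ded_29_0 (flp_g L228812) (flp_f L199803) L199807 (flp_a L228766)
theorem L228818 : sm gb N25783 = N29531 := rfl
theorem L228820 : sm gd N29531 = N25785 := ded_14_2 (flp_b L199817) (flp_d L199809) L228818
theorem L228822 : sm gg N29531 = N25788 := ded_17_2 (flp_b L199841) (flp_g L168622) (flp_b L168606) L199807 L228818
theorem L228824 : sm gf N25783 = N29532 := rfl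
theorem L228826 : sm ga N29532 = N29530 := ded_11_1 (flp_f L228816) L228766 L228824
theorem L228828 : sm gd N29532 = N25786 := ded_23_1 (flp_f L199823) (flp_d L199809) L228824
theorem L228830 : sm gg N29532 = N29522 := ded_29_3 L228756 (flp_f L199803) L199807 L228824
theorem L228832 : sm gb N25784 = N29533 := rfl
theorem L228834 : sm ge N29533 = N29394 := ded_15_2 (flp_b L227899) (flp_e L199813) L228832
theorem L228836 : sm gf N29533 = N29394 := ded_16_2 (flp_b L227899) (flp_f L199201) L199791 L199815 L228832
theorem L228838 : sm gg N29533 = N29504 := ded_17_2 (flp_b L228621) L199692 L199646 L199811 L228832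
theorem L228840 : sm gc N25785 = N29534 := rfl
theorem L228842 : sm ge N29534 = N29344 := ded_19_2 L227590 (flp_e L199819) L228840
theorem L228844 : sm gg N29534 = N25790 := ded_21_2 (flp_c L199851) (flp_g L199821) L228840
theorem L228846 : sm gb N25786 = N29535 := rfl
theorem L228848 : sm ge N29535 = N29395 := ded_15_2 (flp_b L227901) (flp_e L199827) L228846
theorem L228850 : sm gg N29535 = N29395 := ded_17_2 (flp_b L227901) L199207 L199781 (flp_g L199829) L228846
theorem L228852 : sm gb N25787 = N29536 := rfl
theorem L228854 : sm gd N29536 = N29353 := ded_14_2 L227642 (flp_d L199835) L228852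
theorem L228856 : sm ge N29536 = N25788 := ded_15_2 (flp_b L199841) (flp_e L199837) L228852
theorem L228858 : sm ga N25788 = N29537 := rfl
theorem L228860 : sm gd N29537 = N25789 := ded_9_2 (flp_a L199845) (flp_d L199843) L228858
theorem L228862 : sm gb N29537 = N29350 := ded_7_2 L227628 L199062 L168110 (flp_b L168013) L168660 (flp_b L168655) (flp_a L168624) L199841 L228858
theorem L228864 : sm gc N25788 = N29538 := rfl
theorem L228866 : sm gb N29538 = N25804 := ded_13_1 L222218 (flp_b L203217) L170656 L199841 L228864
theorem L228868 : sm gd N25806 = N29538 := ded_14_0 L228866 L199929 L199937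
theorem L228870 : sm gf N25805 = N29538 := ded_16_0 L228866 (flp_f L199925) (flp_b L168655) L168662 L199933
theorem L228872 : sm gg N29537 = N29538 := ded_17_0 L228866 L199931 L227516 (flp_g L227630) (flp_b L228862)
theorem L228874 : sm ga N29531 = N29538 := ded_7_9 L228866 L199927 L227516 (flp_a L227652) L227656 (flp_a L227833) (flp_b L228770) L228766 L228818
theorem L228876 : sm gc N29531 = N29537 := ded_21_3 L228872 (flp_c L228864) (flp_g L228822)
theorem L228878 : sm gf N25788 = N29539 := rfl
theorem L228880 : sm gc N29539 = N25805 := ded_20_1 L228870 (flp_c L228864) L228878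
theorem L228882 : sm gd N29539 = N25791 := ded_23_1 (flp_f L199857) (flp_d L199843) L228878
theorem L228884 : sm gg N25805 = N29539 := ded_29_1 (flp_f L228878) (flp_g L228822) L228874 (flp_f L228870)
theorem L228886 : sm gb N29539 = N29497 := ded_16_1 L228585 (flp_b L199684) (flp_f L168628) L199841 L228878
theorem L228888 : sm gc N25789 = N29540 := rfl
theorem L228890 : sm ga N29540 = N25790 := ded_8_1 (flp_c L199851) L199845 L228888
theorem L228892 : sm ge N29540 = N29341 := ded_19_2 L227572 (flp_e L199847) L228888
theorem L228894 : sm gf N25789 = N29541 := rfl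
theorem L228896 : sm ga N29541 = N25791 := ded_11_1 (flp_f L199857) L199845 L228894
theorem L228898 : sm ge N29541 = N29351 := ded_25_1 (flp_f L227632) (flp_e L199847) L228894
theorem L228900 : sm gg N29541 = N25807 := ded_29_3 (flp_a L199947) (flp_f L199941) L199943 L228894
theorem L228902 : sm gd N25790 = N29542 := rfl
theorem L228904 : sm gb N29542 = N25792 := ded_14_1 (flp_d L199865) (flp_b L199855) L228902
theorem L228906 : sm gf N25790 = N29543 := rfl
theorem L228908 : sm gc N29543 = N25791 := ded_20_1 (flp_f L199857) L199851 L228906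
theorem L228910 : sm ge N29543 = N29343 := ded_25_1 (flp_f L227580) (flp_e L199853) L228906
theorem L228912 : sm gg N25808 = N29543 := ded_21_0 L228908 (flp_g L199863) L199953
theorem L228914 : sm gc N25792 = N29544 := rfl
theorem L228916 : sm ga N29544 = N29037 := ded_8_1 L225421 L225015 L228914
theorem L228918 : sm gf N29544 = N28405 := ded_20_2 L225011 L225007 L228914
theorem L228920 : sm gd N29544 = N28990 := ded_28_7 L225167 (flp_c L203117) (flp_d L170622) (flp_c L118065) (flp_d L116835) L168634 L199865 L228914
theorem L228922 : sm ge N29158 = N29544 := ded_10_0 L228916 (flp_e L226201) (flp_a L226213)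
theorem L228924 : sm ge N25792 = N29545 := rfl
theorem L228926 : sm ga N29545 = N29372 := ded_10_1 L227764 L225015 L228924
theorem L228928 : sm gc N29545 = N29158 := ded_19_1 L228922 (flp_c L228914) L228924
theorem L228930 : sm gf N29545 = N29150 := ded_25_2 L226177 L225007 L228924
theorem L228932 : sm gd N29545 = N29346 := ded_22_1 (flp_e L227596) (flp_d L199042) (flp_e L168636) L199865 L228924
theorem L228934 : sm gb N25793 = N29546 := rfl
theorem L228936 : sm ge N25793 = N29547 := rfl
theorem L228938 : sm ga N29547 = N25794 := ded_10_1 (flp_e L199870) L199867 L228936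
theorem L228940 : sm gc N29547 = N29547 := ded_19_1 (flp_e L228936) L199869 L228936
theorem L228941 : sm gf N25793 = N29548 := rfl
theorem L228943 : sm ga N29548 = N25795 := ded_11_1 (flp_f L199875) L199867 L228941
theorem L228946 : sm gg N25793 = N29549 := rfl
theorem L228948 : sm ga N29549 = N25796 := ded_12_1 (flp_g L199878) L199867 L228946
theorem L228951 : sm gd N25794 = N29550 := rfl
theorem L228953 : sm gb N29550 = N25797 := ded_14_1 (flp_d L199881) (flp_b L199872) L228951
theorem L228955 : sm gf N25794 = N29551 := rfl
theorem L228957 : sm gc N29551 = N29551 := ded_20_1 (flp_f L228955) L199874 L228955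
theorem L228958 : sm ge N29551 = N25795 := ded_25_1 (flp_f L199875) L199870 L228955
theorem L228960 : sm gg N25794 = N29552 := rfl
theorem L228963 : sm ge N29552 = N25796 := ded_26_1 (flp_g L199878) L199870 L228960
theorem L228965 : sm gg N25795 = N29553 := rfl
theorem L228970 : sm gb N25796 = N29554 := rfl
theorem L228972 : sm gg N29554 = N25799 := ded_17_2 (flp_b L199889) (flp_g L168645) L168638 L199878 L228970
theorem L228981 : sm gc N25797 = N29556 := rfl
theorem L228983 : sm ge N29556 = N26806 := ded_19_2 (flp_c L207373) L203069 L228981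
theorem L228985 : sm gg N25797 = N29557 := rfl
theorem L228987 : sm gd N29557 = N25798 := ded_24_1 (flp_g L199883) L199881 L228985
theorem L228989 : sm gb N25798 = N29558 := rfl
theorem L228991 : sm ge N29558 = N25799 := ded_15_2 (flp_b L199889) (flp_e L199887) L228989
theorem L228993 : sm gf N25798 = N29559 := rfl
theorem L228995 : sm ga N29559 = N29499 := ded_11_1 (flp_f L228601) L203211 L228993
theorem L228997 : sm gc N29559 = N25802 := ded_20_1 (flp_f L199910) (flp_c L199885) L228993
theorem L228999 : sm ge N29559 = N25800 := ded_25_1 (flp_f L199891) (flp_e L199887) L228993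
theorem L229001 : sm gg N29559 = N26178 := ded_29_3 L202571 L199668 L199883 L228993
theorem L229003 : sm ga N25799 = N29560 := rfl
theorem L229005 : sm gd N29560 = N28157 := ded_9_2 L218116 L203083 L229003
theorem L229007 : sm gc N25799 = N29561 := rfl
theorem L229009 : sm gb N29561 = N25803 := ded_13_1 (flp_c L199920) (flp_b L168655) (flp_c L168647) L199889 L229007
theorem L229011 : sm gf N29500 = N29561 := ded_16_0 L229009 (flp_f L222232) (flp_b L203217) L199676 L228603
theorem L229013 : sm gf N25799 = N29562 := rfl
theorem L229015 : sm gc N29562 = N29500 := ded_20_1 L229011 (flp_c L229007) L229013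
theorem L229017 : sm gb N29503 = N29562 := ded_13_5 L229015 (flp_b L228603) L199672 L199684 L228619
theorem L229019 : sm gb N25800 = N29563 := rfl
theorem L229021 : sm gd N29563 = N26181 := ded_14_2 (flp_b L202587) (flp_d L199897) L229019
theorem L229023 : sm gc N29563 = N29497 := ded_13_2 (flp_b L228886) L228880 (flp_b L199933) (flp_c L199895) L229019
theorem L229025 : sm gf N29563 = N29503 := ded_16_2 L229017 (flp_f L229013) (flp_b L199889) L199891 L229019
theorem L229027 : sm gg N29494 = N29563 := ded_21_0 L229023 (flp_g L228581) L228565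
theorem L229029 : sm gc N25801 = N29564 := rfl
theorem L229031 : sm ga N29564 = N29330 := ded_8_1 L227497 L199908 L229029
theorem L229033 : sm ge N29564 = N25803 := ded_19_2 (flp_c L199920) (flp_e L199905) L229029
theorem L229035 : sm gg N29564 = N29564 := ded_21_2 (flp_c L229029) L199907 L229029
theorem L229036 : sm gf N25801 = N29565 := rfl
theorem L229038 : sm ga N29565 = N29332 := ded_11_1 (flp_f L227512) L199908 L229036
theorem L229040 : sm gd N29565 = N29332 := ded_23_1 (flp_f L227512) (flp_d L199903) L229036
theorem L229042 : sm ge N29565 = N25804 := ded_25_1 (flp_f L199925) (flp_e L199905) L229036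
theorem L229044 : sm gg N29565 = N29332 := ded_29_3 (flp_a L229038) (flp_f L229036) L199907 L229036
theorem L229046 : sm gb N25802 = N29566 := rfl
theorem L229048 : sm gd N29566 = N29361 := ded_14_2 (flp_b L227694) (flp_d L199914) L229046
theorem L229050 : sm ge N29566 = N25805 := ded_15_2 (flp_b L199933) (flp_e L199916) L229046
theorem L229052 : sm ga N25805 = N29567 := rfl
theorem L229054 : sm gd N29567 = N25807 := ded_9_2 (flp_a L199947) (flp_d L199935) L229052
theorem L229056 : sm gf N29567 = N29531 := ded_11_2 L228874 (flp_f L228870) L229052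
theorem L229058 : sm gc N25806 = N29568 := rfl
theorem L229060 : sm ga N29568 = N29534 := ded_8_1 (flp_c L228840) (flp_a L199945) L229058
theorem L229062 : sm ge N29568 = N29334 := ded_19_2 (flp_c L227522) (flp_e L199939) L229058
theorem L229064 : sm gf N29568 = N25808 := ded_20_2 (flp_c L199953) (flp_f L199941) L229058
theorem L229066 : sm gg N29568 = N29540 := ded_21_2 (flp_c L228888) (flp_g L199943) L229058
theorem L229068 : sm gb N29568 = N28543 := ded_13_1 (flp_c L221219) (flp_b L192099) (flp_c L168674) L199937 L229058
theorem L229070 : sm gb N25807 = N29569 := rfl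
theorem L229072 : sm ge N29569 = N29364 := ded_15_2 (flp_b L227706) (flp_e L199949) L229070
theorem L229074 : sm gf N29569 = N29535 := ded_16_2 (flp_b L228846) (flp_f L199823) L199817 (flp_f L199951) L229070
theorem L229076 : sm gc N25807 = N29570 := rfl
theorem L229078 : sm ga N29570 = N25808 := ded_8_1 (flp_c L199953) L199947 L229076
theorem L229080 : sm ge N29570 = N29365 := ded_19_2 (flp_c L227708) (flp_e L199949) L229076
theorem L229082 : sm gf N29570 = N29534 := ded_20_2 (flp_c L228840) (flp_f L199951) L229076
theorem L229084 : sm gd N25808 = N29571 := rfl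
theorem L229086 : sm gb N29571 = N25810 := ded_14_1 (flp_d L199969) (flp_b L199957) L229084
theorem L229088 : sm ge N25810 = N29572 := rfl
theorem L229090 : sm ga N29572 = N26995 := ded_10_1 L209033 (flp_a L199971) L229088
theorem L229092 : sm gc N29572 = N26994 := ded_19_1 L209027 L199975 L229088
theorem L229094 : sm gf N29572 = N26998 := ded_25_2 L209057 (flp_f L199973) L229088
theorem L229096 : sm gd N29572 = N28779 := ded_22_1 L223369 (flp_d L199114) (flp_e L168694) L199969 L229088
theorem L229098 : sm gb N25811 = N29573 := rfl
theorem L229100 : sm ge N29573 = N29370 := ded_15_2 (flp_b L227744) (flp_e L199981) L229098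
theorem L229102 : sm gc N29573 = N29491 := ded_13_2 (flp_b L228545) L199622 (flp_b L168706) (flp_c L199979) L229098
theorem L229104 : sm ga N25813 = N29574 := rfl
theorem L229106 : sm gd N29574 = N25815 := ded_9_2 (flp_a L200015) (flp_d L199997) L229104
theorem L229108 : sm gg N29574 = N25820 := ded_12_2 (flp_a L200055) (flp_g L199999) L229104
theorem L229110 : sm gb N27996 = N29574 := ded_14_3 L229106 (flp_b L200021) (flp_d L216924)
theorem L229112 : sm gc N25813 = N29575 := rfl
theorem L229114 : sm gg N29575 = N25821 := ded_21_2 (flp_c L200059) (flp_g L199999) L229112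
theorem L229116 : sm gb N29575 = N27074 := ded_13_1 (flp_c L209733) (flp_b L179027) (flp_c L168720) L199995 L229112
theorem L229118 : sm gd N25831 = N29575 := ded_24_3 L229114 (flp_d L211899) L202945
theorem L229120 : sm gf N29575 = N25830 := ded_23_2 (flp_d L200121) L200125 L229118
theorem L229122 : sm gf N25813 = N29576 := rfl
theorem L229124 : sm gc N29576 = N25830 := ded_20_1 (flp_f L229120) (flp_c L229112) L229122
theorem L229126 : sm gd N29576 = N25817 := ded_23_1 (flp_f L200033) (flp_d L199997) L229122
theorem L229128 : sm gb N29576 = N26223 := ded_16_1 L202949 L200013 (flp_f L200001) L199995 L229122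
theorem L229130 : sm gc N25815 = N29577 := rfl
theorem L229132 : sm ga N29577 = N25816 := ded_8_1 (flp_c L200023) L200015 L229130
theorem L229134 : sm ge N29577 = N26553 := ded_19_2 (flp_c L205191) (flp_e L200017) L229130
theorem L229136 : sm gf N29577 = N26222 := ded_20_2 L202941 (flp_f L200137) L229130
theorem L229138 : sm gg N29577 = N25828 := ded_21_2 (flp_c L200105) (flp_g L200019) L229130
theorem L229140 : sm gb N29577 = N27978 := ded_13_1 L216755 L187691 (flp_c L187773) L200021 L229130
theorem L229142 : sm gd N25816 = N29578 := rfl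
theorem L229144 : sm gb N29578 = N25852 := ded_14_1 (flp_d L200273) (flp_b L200029) L229142
theorem L229146 : sm gf N29578 = N26221 := ded_23_2 L202937 L200031 L229142
theorem L229148 : sm gg N29578 = N25830 := ded_24_2 (flp_d L200121) (flp_g L200027) L229142
theorem L229150 : sm ga N25818 = N29579 := rfl
theorem L229152 : sm gd N29579 = N26555 := ded_9_2 (flp_a L205225) (flp_d L200043) L229150
theorem L229154 : sm ge N29579 = N25820 := ded_10_2 (flp_a L200055) (flp_e L200045) L229150
theorem L229156 : sm gf N25818 = N29580 := rfl
theorem L229158 : sm gd N29580 = N26557 := ded_23_1 (flp_f L205238) (flp_d L200043) L229156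
theorem L229160 : sm ge N29580 = N25822 := ded_25_1 (flp_f L200063) (flp_e L200045) L229156
theorem L229162 : sm ga N25819 = N29581 := rfl
theorem L229164 : sm gd N29581 = N25824 := ded_9_2 (flp_a L200071) (flp_d L200049) L229162
theorem L229166 : sm ge N29581 = N27502 := ded_10_2 L212979 (flp_e L200051) L229162
theorem L229168 : sm gg N29581 = N26330 := ded_12_2 (flp_a L203597) (flp_g L200053) L229162
theorem L229170 : sm gc N25819 = N29582 := rfl
theorem L229172 : sm ge N29582 = N27504 := ded_19_2 L212993 (flp_e L200051) L229170
theorem L229174 : sm gg N29582 = N27490 := ded_21_2 (flp_c L212893) (flp_g L200053) L229170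
theorem L229176 : sm gb N29582 = N27228 := ded_13_1 (flp_c L210951) (flp_b L180723) (flp_c L168752) L200047 L229170
theorem L229178 : sm gf N25819 = N29583 := rfl
theorem L229180 : sm gd N29583 = N25826 := ded_23_1 (flp_f L200089) (flp_d L200049) L229178
theorem L229182 : sm ge N29583 = N27505 := ded_25_1 (flp_f L212995) (flp_e L200051) L229178
theorem L229184 : sm gb N29583 = N28572 := ded_16_1 (flp_f L221424) (flp_b L192285) L168758 L200047 L229178
theorem L229186 : sm gf N25820 = N29584 := rfl
theorem L229188 : sm ga N29584 = N25822 := ded_11_1 (flp_f L200063) L200055 L229186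
theorem L229190 : sm gc N29584 = N29578 := ded_20_1 L229146 L211903 L229186
theorem L229192 : sm gd N29584 = N25829 := ded_23_1 (flp_f L200111) (flp_d L200057) L229186
theorem L229194 : sm gg N29576 = N29584 := ded_29_1 (flp_f L229186) (flp_g L229108) (flp_a L229104) L229122
theorem L229196 : sm gb N29584 = N28814 := ded_31_2 L223623 (flp_f L221804) (flp_b L221796) L221806 L221814 L221794 L211849 (flp_f L184300) (flp_b L193147) L223078 (flp_f L223084) L229110 L229108 L229186
theorem L229198 : sm gf N25821 = N29585 := rfl
theorem L229200 : sm ga N29585 = N29578 := ded_11_1 L229146 (flp_a L211901) L229198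
theorem L229202 : sm gc N29585 = N25822 := ded_20_1 (flp_f L200063) L200059 L229198
theorem L229204 : sm gd N29585 = N29577 := ded_23_1 L229136 L211899 L229198
theorem L229206 : sm gg N25822 = N29586 := rfl
theorem L229208 : sm ga N29586 = N29576 := ded_12_1 L229194 L229188 L229206
theorem L229210 : sm gd N29586 = N25832 := ded_24_1 (flp_g L200131) (flp_d L200065) L229206
theorem L229212 : sm gf N29574 = N29586 := ded_29_0 (flp_g L229206) (flp_f L200063) (flp_g L199999) L229104
theorem L229214 : sm gb N27951 = N29586 := ded_7_0 L229208 L229128 L203605 (flp_b L203599) L170943 L118314 (flp_a L156354) L187585 L216557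
theorem L229216 : sm gc N25823 = N29587 := rfl
theorem L229218 : sm gb N29587 = N27355 := ded_13_1 (flp_c L211919) (flp_b L181383) (flp_c L168768) L200067 L229216
theorem L229220 : sm gd N27455 = N29587 := ded_14_0 L229218 L222549 L212639
theorem L229222 : sm gg N25823 = N29588 := rfl
theorem L229224 : sm gd N29588 = N25834 := ded_24_1 (flp_g L200147) (flp_d L200069) L229222
theorem L229226 : sm ge N29588 = N29041 := ded_26_1 L225463 L213815 L229222
theorem L229228 : sm gf N29588 = N25934 := ded_29_2 (flp_g L200878) (flp_a L200852) L200856 L229222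
theorem L229230 : sm gb N29588 = N28430 := ded_17_1 (flp_g L220358) L191327 (flp_g L168772) L200067 L229222
theorem L229232 : sm gd N25825 = N29589 := rfl
theorem L229234 : sm ga N29589 = N27431 := ded_9_1 L212473 (flp_a L200081) L229232
theorem L229236 : sm gb N29589 = N25835 := ded_14_1 (flp_d L200155) (flp_b L200087) L229232
theorem L229238 : sm gg N29589 = N27758 := ded_24_2 (flp_d L214910) (flp_g L200085) L229232
theorem L229240 : sm ge N29589 = N27429 := ded_22_2 (flp_d L212461) L181845 (flp_d L172503) (flp_e L200083) L229232
theorem L229242 : sm gd N25828 = N29590 := rfl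
theorem L229244 : sm ga N29590 = N25830 := ded_9_1 (flp_d L200121) (flp_a L200107) L229242
theorem L229246 : sm gg N29590 = N29585 := ded_24_2 L229204 L229138 L229242
theorem L229248 : sm gc N29586 = N29590 := ded_28_0 (flp_d L229242) (flp_c L200105) (flp_d L200057) (flp_c L211903) L202937 (flp_c L200035) (flp_d L229126) (flp_a L229208)
theorem L229250 : sm ge N25830 = N29591 := rfl
theorem L229252 : sm gb N29591 = N25838 := ded_15_1 (flp_e L200173) (flp_b L200123) L229250
theorem L229254 : sm gd N29591 = N26566 := ded_22_1 (flp_e L205312) (flp_d L172529) (flp_e L168786) L200121 L229250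
theorem L229256 : sm gb N25831 = N29592 := rfl
theorem L229258 : sm gd N29592 = N27074 := ded_14_2 (flp_b L229116) (flp_d L229118) L229256
theorem L229260 : sm ge N29592 = N26567 := ded_15_2 (flp_b L205318) (flp_e L200129) L229256
theorem L229262 : sm gc N29592 = N28108 := ded_13_2 (flp_b L217777) L200793 (flp_b L169263) (flp_c L200127) L229256
theorem L229264 : sm gf N29592 = N25840 := ded_16_2 (flp_b L200185) (flp_f L168820) (flp_b L168788) L200125 L229256
theorem L229266 : sm gg N29592 = N27122 := ded_17_2 L210113 (flp_g L211891) L211897 L202945 L229256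
theorem L229268 : sm ga N29592 = N25862 := ded_7_1 (flp_b L200335) L168933 L117085 (flp_a L117101) L168973 (flp_a L170466) L202905 L202913 L229256
theorem L229270 : sm gd N25833 = N29593 := rfl
theorem L229272 : sm gb N29593 = N25841 := ded_14_1 (flp_d L200189) (flp_b L200145) L229270
theorem L229274 : sm gc N25835 = N29594 := rfl
theorem L229276 : sm ga N29594 = N28475 := ded_8_1 L220720 (flp_a L200157) L229274
theorem L229278 : sm ge N29594 = N28753 := ded_19_2 L223185 L209889 L229274
theorem L229280 : sm gf N29594 = N28470 := ded_20_2 (flp_c L220672) (flp_f L200159) L229274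
theorem L229282 : sm gc N25836 = N29595 := rfl
theorem L229284 : sm ga N29595 = N25837 := ded_8_1 (flp_c L200169) (flp_a L200163) L229282
theorem L229286 : sm gf N29595 = N28512 := ded_20_2 (flp_c L220990) (flp_f L200165) L229282
theorem L229288 : sm gg N29595 = N25870 := ded_21_2 (flp_c L200375) (flp_g L200167) L229282
theorem L229290 : sm gd N29293 = N29595 := ded_28_1 (flp_c L229282) (flp_d L200161) (flp_c L168806) (flp_d L167850) L198785 L227184 L227186 L227192
theorem L229292 : sm ge N25836 = N29596 := rfl
theorem L229294 : sm ga N29596 = N25838 := ded_10_1 (flp_e L200173) (flp_a L200163) L229292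
theorem L229296 : sm gf N29596 = N28458 := ded_25_2 L220566 (flp_f L200165) L229292
theorem L229298 : sm gg N29596 = N25871 := ded_26_2 (flp_e L200381) (flp_g L200167) L229292
theorem L229300 : sm gd N29596 = N26568 := ded_22_1 (flp_e L205328) (flp_d L172555) (flp_e L168810) L200161 L229292
theorem L229302 : sm gb N25837 = N29597 := rfl
theorem L229304 : sm gc N29597 = N26223 := ded_13_2 (flp_b L229128) L229124 L200123 L200169 L229302
theorem L229306 : sm gf N28403 = N29597 := ded_20_0 L229304 L202949 (flp_c L220160)
theorem L229308 : sm gg N26251 = N29597 := ded_21_0 L229304 L202951 L203117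
theorem L229310 : sm gd N29597 = N28404 := ded_23_1 (flp_f L220164) L220156 L229306
theorem L229312 : sm gd N25837 = N29598 := rfl
theorem L229314 : sm ga N29598 = N29293 := ded_9_1 L229290 L229284 L229312
theorem L229316 : sm gb N29598 = N28404 := ded_14_1 (flp_d L229310) (flp_b L229302) L229312
theorem L229318 : sm gg N29598 = N25875 := ded_24_2 (flp_d L200403) (flp_g L200171) L229312
theorem L229320 : sm gc N29292 = N29598 := ded_28_0 (flp_d L229312) (flp_c L200169) (flp_d L168816) (flp_c L116973) (flp_d L116457) L167858 L198795 (flp_a L227186)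
theorem L229322 : sm gf N29598 = N28394 := ded_29_0 L227316 (flp_f L227312) (flp_g L227194) (flp_a L229314)
theorem L229324 : sm ge N29138 = N29598 := ded_15_0 L229316 L220166 (flp_b L226111)
theorem L229326 : sm ge N25837 = N29599 := rfl
theorem L229328 : sm gc N29599 = N25838 := ded_19_1 (flp_e L200173) L200169 L229326
theorem L229330 : sm gg N29599 = N25876 := ded_26_2 (flp_e L200409) (flp_g L200171) L229326
theorem L229332 : sm gf N25837 = N29600 := rfl
theorem L229334 : sm ga N29600 = N28512 := ded_11_1 (flp_f L229286) L229284 L229332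
theorem L229336 : sm gc N29600 = N25839 := ded_20_1 (flp_f L200179) L200169 L229332
theorem L229338 : sm gd N29600 = N28394 := ded_23_1 (flp_f L229322) (flp_d L229312) L229332
theorem L229340 : sm gb N29600 = N28395 := ded_16_1 L220100 (flp_b L220158) L229306 (flp_b L229302) L229332
theorem L229342 : sm gf N25838 = N29601 := rfl
theorem L229344 : sm ga N29601 = N28458 := ded_11_1 (flp_f L229296) L229294 L229342
theorem L229346 : sm gd N29601 = N26570 := ded_23_1 (flp_f L205352) (flp_d L200177) L229342
theorem L229348 : sm ge N29601 = N25839 := ded_25_1 (flp_f L200179) L200173 L229342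
theorem L229350 : sm gb N25839 = N29602 := rfl
theorem L229352 : sm gd N29602 = N25840 := ded_14_2 (flp_b L200185) (flp_d L200183) L229350
theorem L229354 : sm gc N29602 = N27075 := ded_13_2 (flp_b L220966) (flp_c L220970) (flp_b L229340) L229336 L229350
theorem L229356 : sm gf N29602 = N27074 := ded_16_2 (flp_b L229116) L229120 L200123 L200179 L229350
theorem L229358 : sm ga N25840 = N29603 := rfl
theorem L229360 : sm ge N29603 = N26572 := ded_10_2 (flp_a L205364) (flp_e L200187) L229358
theorem L229362 : sm gf N29603 = N25862 := ded_11_2 (flp_a L229268) L229264 L229358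
theorem L229364 : sm gb N27899 = N29603 := ded_30_2 (flp_a L229358) (flp_f L229264) L229262 (flp_b L217777) (flp_a L200791) L200803 L200807 (flp_b L169691) (flp_a L201638) (flp_f L201636) L201628 L201634 (flp_a L215861) L215867 L215855 (flp_b L186440) (flp_a L215899) L215895 L216187
theorem L229366 : sm gc N25841 = N29604 := rfl
theorem L229368 : sm ga N29604 = N26116 := ded_8_1 L202092 (flp_a L200191) L229366
theorem L229370 : sm gg N29604 = N26111 := ded_21_2 (flp_c L202066) (flp_g L200193) L229366
theorem L229372 : sm gd N29456 = N29604 := ded_28_1 (flp_c L229366) (flp_d L200189) (flp_c L168828) (flp_d L167872) L198807 L227210 L227212 (flp_c L228256)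
theorem L229374 : sm ge N25841 = N29605 := rfl
theorem L229376 : sm ga N29605 = N26117 := ded_10_1 L202098 (flp_a L200191) L229374
theorem L229378 : sm gg N29605 = N26112 := ded_26_2 (flp_e L202072) (flp_g L200193) L229374
theorem L229380 : sm gd N29605 = N26573 := ded_22_1 (flp_e L205376) (flp_d L172591) (flp_e L168832) L200189 L229374
theorem L229382 : sm gc N25842 = N29606 := rfl
theorem L229384 : sm ga N29606 = N25843 := ded_8_1 (flp_c L200204) L200195 L229382
theorem L229386 : sm ge N29606 = N26576 := ded_19_2 (flp_c L205409) (flp_e L200197) L229382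
theorem L229388 : sm gf N29606 = N25861 := ded_20_2 (flp_c L200331) L200202 L229382
theorem L229390 : sm gg N29606 = N29606 := ded_21_2 (flp_c L229382) L200199 L229382
theorem L229391 : sm gb N29606 = N27864 := ded_13_1 (flp_c L215913) (flp_b L186379) (flp_c L170775) L200200 L229382
theorem L229393 : sm gd N25843 = N29607 := rfl
theorem L229395 : sm gb N29607 = N28011 := ded_14_1 L217035 (flp_b L200209) L229393
theorem L229397 : sm gg N29607 = N29607 := ded_24_2 (flp_d L229393) L200208 L229393
theorem L229398 : sm ge N29607 = N28012 := ded_22_2 L217043 L187882 L175497 (flp_e L200206) L229393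
theorem L229400 : sm gf N27571 = N29607 := ded_16_0 L229395 (flp_f L217039) L216813 (flp_f L213445) L213443
theorem L229402 : sm gf N25843 = N29608 := rfl
theorem L229404 : sm ga N29608 = N25861 := ded_11_1 (flp_f L229388) L229384 L229402
theorem L229406 : sm gc N29608 = N25844 := ded_20_1 (flp_f L200211) L200204 L229402
theorem L229408 : sm gd N29608 = N27571 := ded_23_1 L229400 (flp_d L229393) L229402
theorem L229410 : sm ge N29608 = N26577 := ded_25_1 (flp_f L205422) (flp_e L200206) L229402
theorem L229412 : sm gg N29608 = N25861 := ded_29_3 (flp_a L229404) (flp_f L229402) L200208 L229402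
theorem L229414 : sm gb N29608 = N27570 := ded_16_1 L217488 L217490 L189645 (flp_b L200209) L229402
theorem L229416 : sm ga N25845 = N29609 := rfl
theorem L229418 : sm gc N29609 = N27767 := ded_8_2 (flp_a L215227) L215229 L229416
theorem L229420 : sm gd N29609 = N26579 := ded_9_2 (flp_a L205438) (flp_d L200223) L229416
theorem L229422 : sm ge N29609 = N25847 := ded_10_2 (flp_a L200233) (flp_e L200225) L229416
theorem L229424 : sm gf N29609 = N27766 := ded_11_2 L215000 L209385 L229416
theorem L229426 : sm gg N29609 = N25853 := ded_12_2 (flp_a L200277) (flp_g L200227) L229416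
theorem L229428 : sm gb N29609 = N27036 := ded_7_2 (flp_a L209391) (flp_b L178543) L129785 (flp_b L171931) (flp_a L172407) L178459 L178451 L200221 L229416
theorem L229430 : sm gb N25847 = N29610 := rfl
theorem L229432 : sm gd N29610 = N25850 := ded_14_2 (flp_b L200251) (flp_d L200235) L229430
theorem L229434 : sm ge N29610 = N27036 := ded_15_2 (flp_b L229428) L229422 L229430
theorem L229436 : sm gg N29610 = N25897 := ded_17_2 (flp_b L209599) L209597 (flp_b L200295) (flp_g L200237) L229430
theorem L229438 : sm ga N29610 = N25900 := ded_7_1 L200615 (flp_a L178373) (flp_b L204733) L204731 (flp_b L178805) L130064 L168855 L200233 L229430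
theorem L229440 : sm gc N25847 = N29611 := rfl
theorem L229442 : sm ga N29611 = N25848 := ded_8_1 (flp_c L200239) L200233 L229440
theorem L229444 : sm ge N29611 = N27767 := ded_19_2 (flp_c L229418) L229422 L229440
theorem L229446 : sm gf N29611 = N27538 := ded_20_2 L213217 (flp_f L200327) L229440
theorem L229448 : sm gg N29611 = N25856 := ded_21_2 (flp_c L200299) (flp_g L200237) L229440
theorem L229450 : sm gd N25848 = N29612 := rfl
theorem L229452 : sm gg N29612 = N25858 := ded_24_2 (flp_d L200315) (flp_g L200241) L229450
theorem L229454 : sm gd N25849 = N29613 := rfl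
theorem L229456 : sm ga N29613 = N28499 := ded_9_1 L220876 (flp_a L200245) L229454
theorem L229458 : sm gg N29613 = N27098 := ded_24_2 L209923 (flp_g L200249) L229454
theorem L229460 : sm ge N29613 = N27101 := ded_22_2 L209941 L179245 L172743 (flp_e L200247) L229454
theorem L229462 : sm gd N25851 = N29614 := rfl
theorem L229464 : sm ga N29614 = N25852 := ded_9_1 (flp_d L200273) (flp_a L200263) L229462
theorem L229466 : sm gb N29614 = N28092 := ded_14_1 L217678 (flp_b L200271) L229462
theorem L229468 : sm gf N29614 = N26371 := ded_23_2 L203873 (flp_f L200267) L229462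
theorem L229470 : sm gg N29614 = N25863 := ded_24_2 (flp_d L200341) (flp_g L200269) L229462
theorem L229472 : sm ge N29614 = N26372 := ded_22_2 L203879 L171166 L172763 (flp_e L200265) L229462
theorem L229474 : sm gc N25852 = N29615 := rfl
theorem L229476 : sm gg N29615 = N25865 := ded_21_2 (flp_c L200355) (flp_g L200275) L229474
theorem L229478 : sm gb N29615 = N28410 := ded_13_1 L223625 (flp_b L229196) L229190 L229144 L229474
theorem L229480 : sm gd N29169 = N29615 := ded_14_0 L229478 L220204 L226279
theorem L229482 : sm ge N28411 = N29615 := ded_15_0 L229478 L220206 L220208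
theorem L229484 : sm ge N25852 = N29616 := rfl
theorem L229486 : sm ga N29616 = N26372 := ded_10_1 (flp_e L229472) L229464 L229484
theorem L229488 : sm gc N29616 = N28411 := ded_19_1 L229482 (flp_c L229474) L229484
theorem L229490 : sm gf N29616 = N25971 := ded_25_2 (flp_e L225457) L225455 L229484
theorem L229492 : sm gg N29616 = N25866 := ded_26_2 (flp_e L200357) (flp_g L200275) L229484
theorem L229494 : sm gd N29616 = N25972 := ded_22_1 L201149 (flp_d L172765) (flp_e L168885) L200273 L229484
theorem L229496 : sm gd N25856 = N29617 := rfl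
theorem L229498 : sm ga N29617 = N25858 := ded_9_1 (flp_d L200315) (flp_a L200301) L229496
theorem L229500 : sm gc N25858 = N29618 := rfl
theorem L229502 : sm gf N25858 = N29619 := rfl
theorem L229504 : sm gd N29619 = N25859 := ded_23_1 (flp_f L200317) L200315 L229502
theorem L229506 : sm gb N25861 = N29620 := rfl
theorem L229508 : sm ge N29620 = N26585 := ded_15_2 (flp_b L205498) (flp_e L200333) L229506
theorem L229510 : sm gc N29620 = N25862 := ded_13_2 (flp_b L200335) (flp_c L168931) L168927 L200331 L229506
theorem L229512 : sm gg N29620 = N27129 := ded_17_2 L210163 L213433 (flp_b L229414) L229412 L229506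
theorem L229514 : sm ga N29620 = N28108 := ded_7_1 (flp_b L217777) (flp_a L200791) (flp_b L169235) (flp_a L169229) L188141 (flp_a L213435) (flp_b L229414) L229404 L229506
theorem L229516 : sm gd N29620 = N27130 := ded_28_1 L210171 L179429 L130454 (flp_d L179029) L209733 (flp_d L229258) L229268 (flp_c L229510)
theorem L229518 : sm gd N25861 = N29621 := rfl
theorem L229520 : sm ga N29621 = N27571 := ded_9_1 (flp_d L229408) L229404 L229518
theorem L229522 : sm gb N29621 = N27130 := ded_14_1 (flp_d L229516) (flp_b L229506) L229518
theorem L229524 : sm gg N29621 = N27571 := ded_24_2 (flp_d L229408) L229412 L229518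
theorem L229526 : sm gd N25862 = N29622 := rfl
theorem L229528 : sm ga N29622 = N27074 := ded_9_1 (flp_d L229258) L229268 L229526
theorem L229530 : sm gb N29622 = N25863 := ded_14_1 (flp_d L200341) L200335 L229526
theorem L229532 : sm gg N29622 = N27120 := ded_24_2 L210099 (flp_g L200339) L229526
theorem L229534 : sm gc N27073 = N29622 := ded_28_0 (flp_d L229526) (flp_c L229510) L229516 L210171 L179429 L130454 (flp_d L179029) L209727
theorem L229536 : sm gc N25863 = N29623 := rfl
theorem L229538 : sm ga N29623 = N25865 := ded_8_1 (flp_c L200355) (flp_a L200343) L229536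
theorem L229540 : sm gd N29618 = N29623 := ded_28_1 (flp_c L229536) (flp_d L200341) (flp_c L168931) (flp_d L168917) L200299 L229496 L229498 L229500
theorem L229542 : sm ge N25863 = N29624 := rfl
theorem L229544 : sm ga N29624 = N25866 := ded_10_1 (flp_e L200357) (flp_a L200343) L229542
theorem L229546 : sm gg N29624 = N26372 := ded_26_2 (flp_e L229472) L229470 L229542
theorem L229548 : sm gd N29624 = N26374 := ded_22_1 L203899 (flp_d L172815) (flp_e L168935) L200341 L229542
theorem L229550 : sm gf N25863 = N29625 := rfl
theorem L229552 : sm ga N29625 = N25867 := ded_11_1 (flp_f L200363) (flp_a L200343) L229550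
theorem L229554 : sm gd N29625 = N25864 := ded_23_1 (flp_f L200345) L200341 L229550
theorem L229556 : sm gg N29625 = N29040 := ded_29_3 L225451 (flp_f L229468) L229470 L229550
theorem L229558 : sm gb N25864 = N29626 := rfl
theorem L229560 : sm ge N29626 = N26588 := ded_15_2 (flp_b L205524) (flp_e L200351) L229558
theorem L229562 : sm gc N29626 = N27862 := ded_13_2 (flp_b L215889) L186331 L168945 (flp_c L200349) L229558
theorem L229564 : sm gf N29626 = N27899 := ded_16_2 L229364 L229362 (flp_b L200335) L200345 L229558
theorem L229566 : sm gg N29626 = N26210 := ded_17_2 (flp_b L202824) L170430 (flp_b L197387) (flp_g L200353) L229558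
theorem L229568 : sm ga N29626 = N27871 := ded_7_1 L217051 (flp_a L217046) (flp_b L187880) L156515 L187717 (flp_a L187721) L175899 (flp_a L200347) L229558
theorem L229570 : sm gb N25865 = N29627 := rfl
theorem L229572 : sm gc N29627 = N25874 := ded_13_2 (flp_b L200401) (flp_c L168991) (flp_b L168949) L200355 L229570
theorem L229574 : sm gg N29627 = N28357 := ded_17_2 L219824 L220202 (flp_b L229478) L229476 L229570
theorem L229576 : sm gd N29013 = N29627 := ded_24_3 L229574 L219826 L225303
theorem L229578 : sm ge N28320 = N29627 := ded_26_3 L229574 (flp_e L219822) L219578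
theorem L229580 : sm gf N29627 = N28319 := ded_23_2 L219572 L225299 L229576
theorem L229582 : sm gd N25865 = N29628 := rfl
theorem L229584 : sm ga N29628 = N29618 := ded_9_1 L229540 L229538 L229582
theorem L229586 : sm gb N29628 = N29013 := ded_14_1 L229576 (flp_b L229570) L229582
theorem L229588 : sm gg N29628 = N29169 := ded_24_2 L229480 L229476 L229582
theorem L229590 : sm gc N29617 = N29628 := ded_28_0 (flp_d L229582) (flp_c L200355) (flp_d L168947) (flp_c L117081) (flp_d L117075) L168919 L200315 (flp_a L229498)
theorem L229592 : sm ge N29014 = N29628 := ded_15_0 L229586 L225301 L225305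
theorem L229594 : sm gf N29032 = N29628 := ded_16_0 L229586 (flp_f L225299) L197245 L197337 L225403
theorem L229596 : sm ge N25865 = N29629 := rfl
theorem L229598 : sm gb N29629 = N28320 := ded_15_1 L229578 (flp_b L229570) L229596
theorem L229600 : sm gc N29629 = N25866 := ded_19_1 (flp_e L200357) L200355 L229596
theorem L229602 : sm gg N29629 = N28411 := ded_26_2 L229482 L229476 L229596
theorem L229604 : sm gd N29629 = N28321 := ded_22_1 L219582 (flp_d L225307) L229592 (flp_d L229582) L229596
theorem L229606 : sm gf N28333 = N29629 := ded_16_0 L229598 (flp_f L219574) L190775 L190839 L219680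
theorem L229608 : sm gf N25865 = N29630 := rfl
theorem L229610 : sm gc N29630 = N25867 := ded_20_1 (flp_f L200363) L200355 L229608
theorem L229612 : sm gd N29630 = N29032 := ded_23_1 L229594 (flp_d L229582) L229608
theorem L229614 : sm ge N29630 = N28333 := ded_25_1 L229606 (flp_e L229596) L229608
theorem L229616 : sm gb N29630 = N28332 := ded_16_1 (flp_f L219674) (flp_b L219570) (flp_f L229580) (flp_b L229570) L229608
theorem L229618 : sm ge N25868 = N29631 := rfl
theorem L229620 : sm gf N29631 = N28974 := ded_25_2 L225057 L201688 L229618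
theorem L229622 : sm gg N29631 = N28954 := ded_26_2 L224905 (flp_g L200369) L229618
theorem L229624 : sm gd N29631 = N26590 := ded_22_1 (flp_e L205546) (flp_d L172845) (flp_e L168969) L200367 L229618
theorem L229626 : sm gb N25870 = N29632 := rfl
theorem L229628 : sm gd N29632 = N29312 := ded_14_2 (flp_b L227306) L200379 L229626
theorem L229630 : sm ge N25870 = N29633 := rfl
theorem L229632 : sm ga N29633 = N25876 := ded_10_1 (flp_e L200409) (flp_a L200377) L229630
theorem L229634 : sm gc N29633 = N25871 := ded_19_1 (flp_e L200381) L200375 L229630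
theorem L229636 : sm gf N25870 = N29634 := rfl
theorem L229638 : sm ga N29634 = N25877 := ded_11_1 (flp_f L200413) (flp_a L200377) L229636
theorem L229640 : sm gc N29634 = N25872 := ded_20_1 (flp_f L200387) L200375 L229636
theorem L229642 : sm gd N29634 = N29314 := ded_23_1 (flp_f L227312) L200379 L229636
theorem L229644 : sm gg N29634 = N29600 := ded_29_3 L229334 (flp_f L229286) L229288 L229636
theorem L229646 : sm gf N25871 = N29635 := rfl
theorem L229648 : sm ga N29635 = N25878 := ded_11_1 (flp_f L200417) (flp_a L200383) L229646
theorem L229650 : sm gd N29635 = N26591 := ded_23_1 (flp_f L205554) (flp_d L200385) L229646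
theorem L229652 : sm ge N29635 = N25872 := ded_25_1 (flp_f L200387) L200381 L229646
theorem L229654 : sm gg N29635 = N29601 := ded_29_3 L229344 (flp_f L229296) L229298 L229646
theorem L229656 : sm gb N25872 = N29636 := rfl
theorem L229658 : sm gd N29636 = N25873 := ded_14_2 (flp_b L200395) (flp_d L200391) L229656
theorem L229660 : sm ga N25874 = N29637 := rfl
theorem L229662 : sm gd N25874 = N29638 := rfl
theorem L229664 : sm gb N29638 = N25875 := ded_14_1 (flp_d L200403) L200401 L229662
theorem L229666 : sm gc N28973 = N29638 := ded_13_0 L229664 (flp_c L200407) L225019 (flp_c L225421) L225427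
theorem L229668 : sm gg N28973 = N29638 := ded_17_0 L229664 (flp_g L229318) L229316 L225425 L225427
theorem L229670 : sm gf N28344 = N29638 := ded_31_1 L229664 (flp_g L229318) L229322 (flp_b L220092) (flp_g L191225) (flp_f L191217) L191211 (flp_g L219588) L219586 (flp_b L190843) L190847 (flp_f L190855) L190867 L219740
theorem L229672 : sm ge N25874 = N29639 := rfl
theorem L229674 : sm gb N29639 = N25876 := ded_15_1 (flp_e L200409) L200401 L229672
theorem L229676 : sm gc N29639 = N28320 := ded_19_1 L229578 L229572 L229672
theorem L229678 : sm gf N28318 = N29639 := ded_20_0 L229676 (flp_f L219574) L219566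
theorem L229680 : sm gg N28356 = N29639 := ded_21_0 L229676 (flp_g L219578) L219820
theorem L229682 : sm gf N25874 = N29640 := rfl
theorem L229684 : sm gc N29640 = N28319 := ded_20_1 (flp_f L229580) L229572 L229682
theorem L229686 : sm gd N29640 = N28344 := ded_23_1 L229670 (flp_d L229662) L229682
theorem L229688 : sm ge N29640 = N28318 := ded_25_1 L229678 (flp_e L229672) L229682
theorem L229690 : sm gg N28342 = N29640 := ded_31_0 (flp_f L229682) (flp_b L200401) (flp_g L200171) L229332 L229340 (flp_g L220218) (flp_f L220212) L220208 (flp_g L229602) (flp_f L229606) (flp_b L219680) L219684 (flp_f L219692) (flp_b L219736)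
theorem L229692 : sm ga N27912 = N29640 := ded_9_3 L229686 L219742 (flp_d L216283)
theorem L229694 : sm gb N28971 = N29640 := ded_14_3 L229686 L219748 L225029
theorem L229696 : sm gf N29637 = N27912 := ded_11_0 L229692 (flp_f L229682) L229660
theorem L229698 : sm gg N25874 = N29641 := rfl
theorem L229700 : sm gc N29641 = N28357 := ded_21_1 (flp_g L229574) L229572 L229698
theorem L229702 : sm gd N29641 = N28973 := ded_24_1 L229668 (flp_d L229662) L229698
theorem L229704 : sm ge N29641 = N28356 := ded_26_1 L229680 (flp_e L229672) L229698
theorem L229706 : sm gf N28972 = N29641 := ded_29_0 (flp_g L229698) L229682 (flp_g L229690) (flp_a L225037)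
theorem L229708 : sm gb N29641 = N26251 := ded_17_1 L229308 (flp_b L229302) L200171 L200401 L229698
theorem L229710 : sm ge N25875 = N29642 := rfl
theorem L229712 : sm ga N29642 = N29313 := ded_10_1 (flp_e L227308) (flp_a L200405) L229710
theorem L229714 : sm gc N29642 = N29310 := ded_19_1 (flp_e L227292) L200407 L229710
theorem L229716 : sm gg N29642 = N29138 := ded_26_2 L229324 L229318 L229710
theorem L229718 : sm gf N29131 = N29642 := ded_11_0 L229712 (flp_f L227320) L226115
theorem L229720 : sm gf N25875 = N29643 := rfl
theorem L229722 : sm ga N29643 = N29314 := ded_11_1 (flp_f L227312) (flp_a L200405) L229720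
theorem L229724 : sm gc N29643 = N29311 := ded_20_1 (flp_f L227296) L200407 L229720
theorem L229726 : sm gd N29643 = N25877 := ded_23_1 (flp_f L200413) L200403 L229720
theorem L229728 : sm ge N29643 = N29131 := ded_25_1 L229718 (flp_e L229710) L229720
theorem L229730 : sm gb N29643 = N28391 := ded_16_1 (flp_f L220072) (flp_b L219748) L229670 L229664 L229720
theorem L229732 : sm gd N25876 = N29644 := rfl
theorem L229734 : sm gf N25876 = N29645 := rfl
theorem L229736 : sm gc N29645 = N25878 := ded_20_1 (flp_f L200417) (flp_c L200411) L229734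
theorem L229738 : sm ge N29645 = N25877 := ded_25_1 (flp_f L200413) L200409 L229734
theorem L229740 : sm gb N25877 = N29646 := rfl
theorem L229742 : sm gd N29646 = N28391 := ded_14_2 (flp_b L229730) L229726 L229740
theorem L229744 : sm gf N29646 = N28971 := ded_16_2 L229694 (flp_f L229682) (flp_b L200401) L200413 L229740
theorem L229746 : sm gg N28388 = N29646 := ded_24_0 L229742 (flp_g L220066) (flp_d L220050)
theorem L229748 : sm ga N25879 = N29647 := rfl
theorem L229750 : sm gd N29647 = N25880 := ded_9_2 (flp_a L200427) (flp_d L200425) L229748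
theorem L229752 : sm ge N29647 = N26386 := ded_10_2 (flp_a L203973) L203977 L229748
theorem L229754 : sm gf N29647 = N27988 := ded_11_2 (flp_a L216841) (flp_f L203963) L229748
theorem L229756 : sm gg N26384 = N29647 := ded_29_3 (flp_a L229748) L203963 (flp_g L203955) L203947
theorem L229758 : sm gb N26311 = N29647 := ded_14_3 L229750 (flp_b L200437) (flp_d L203479)
theorem L229760 : sm gc N25879 = N29648 := rfl
theorem L229762 : sm gg N25879 = N29649 := rfl
theorem L229764 : sm ga N29649 = N26384 := ded_12_1 L229756 (flp_a L229748) L229762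
theorem L229766 : sm gd N29649 = N25881 := ded_24_1 (flp_g L200439) (flp_d L200425) L229762
theorem L229768 : sm ge N29649 = N26377 := ded_26_1 (flp_g L203979) L203977 L229762
theorem L229770 : sm gf N26376 = N29649 := ded_29_0 (flp_g L229762) L203963 (flp_g L203955) (flp_a L203909)
theorem L229772 : sm gb N25885 = N29650 := rfl
theorem L229774 : sm gd N29650 = N28812 := ded_14_2 (flp_b L223607) (flp_d L200485) L229772
theorem L229776 : sm gc N29650 = N29161 := ded_13_2 (flp_b L226245) L220812 (flp_b L200505) (flp_c L200483) L229772
theorem L229778 : sm gg N29650 = N29083 := ded_17_2 (flp_b L225807) L197723 (flp_b L169031) L200479 L229772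
theorem L229780 : sm ga N28379 = N29650 := ded_8_3 L229776 (flp_a L226231) (flp_c L219980)
theorem L229782 : sm ge N29650 = N29110 := ded_10_2 (flp_a L225959) (flp_e L219978) L229780
theorem L229784 : sm gb N29110 = N28433 := ded_15_1 L220386 L229772 L229782
theorem L229786 : sm gg N29110 = N28437 := ded_26_2 (flp_e L225809) (flp_g L229778) L229782
theorem L229788 : sm gd N28435 = N29110 := ded_14_0 L229784 L220384 L220394
theorem L229790 : sm ga N28437 = N29111 := ded_12_1 (flp_g L225961) L225959 L229786
theorem L229792 : sm ga N29109 = N28435 := ded_9_3 L229788 (flp_a L225959) (flp_d L225957)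
theorem L229794 : sm gd N29111 = N28440 := ded_9_2 (flp_a L220422) (flp_d L220410) L229790
theorem L229796 : sm gg N28440 = N29109 := ded_12_0 L229792 L220396 L220422
theorem L229798 : sm ga N25893 = N29651 := rfl
theorem L229800 : sm gc N29651 = N27796 := ded_8_2 (flp_a L215285) (flp_c L200553) L229798
theorem L229802 : sm gd N29651 = N26600 := ded_9_2 (flp_a L205635) (flp_d L200549) L229798
theorem L229804 : sm ge N29651 = N25897 := ded_10_2 (flp_a L200591) (flp_e L200551) L229798
theorem L229806 : sm gg N29651 = N27036 := ded_12_2 (flp_a L209391) (flp_g L200555) L229798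
theorem L229808 : sm gf N29651 = N27755 := ded_29_0 (flp_g L214880) L184228 (flp_g L200555) L229798
theorem L229810 : sm gb N29651 = N26546 := ded_7_2 L205141 L204748 (flp_a L200277) (flp_b L168909) L117065 L117189 L169113 L200547 L229798
theorem L229812 : sm gf N25893 = N29652 := rfl
theorem L229814 : sm ga N29652 = N27755 := ded_11_1 (flp_f L229808) (flp_a L229798) L229812
theorem L229816 : sm gc N29652 = N27797 := ded_20_1 (flp_f L215291) (flp_c L200553) L229812
theorem L229818 : sm gd N29652 = N26602 := ded_23_1 (flp_f L205645) (flp_d L200549) L229812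
theorem L229820 : sm ge N29652 = N25899 := ded_25_1 (flp_f L200603) (flp_e L200551) L229812
theorem L229822 : sm gg N29652 = N27753 := ded_29_3 (flp_a L214860) L184228 (flp_g L200555) L229812
theorem L229824 : sm ga N25894 = N29653 := rfl
theorem L229826 : sm gc N29653 = N26863 := ded_8_2 L207854 (flp_c L200563) L229824
theorem L229828 : sm gd N29653 = N26604 := ded_9_2 (flp_a L205661) (flp_d L200559) L229824
theorem L229830 : sm ge N29653 = N25901 := ded_10_2 (flp_a L200617) (flp_e L200561) L229824
theorem L229832 : sm gf N29653 = N25895 := ded_11_2 (flp_a L200567) (flp_f L200565) L229824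
theorem L229834 : sm gg N29653 = N26755 := ded_12_2 (flp_a L207830) (flp_g L207838) L229824
theorem L229836 : sm gb N29653 = N27753 := ded_7_2 (flp_a L214860) (flp_b L184226) L152694 L184223 L203328 (flp_b L203319) L170756 L200557 L229824
theorem L229838 : sm gc N25897 = N29654 := rfl
theorem L229840 : sm ga N29654 = N25898 := ded_8_1 (flp_c L200597) L200591 L229838
theorem L229842 : sm ge N29654 = N27796 := ded_19_2 (flp_c L229800) L229804 L229838
theorem L229844 : sm gf N29654 = N27904 := ded_20_2 (flp_c L216225) L200595 L229838
theorem L229846 : sm gd N27905 = N29654 := ded_9_0 L229840 (flp_d L219290) L219284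
theorem L229848 : sm gf N25898 = N29655 := rfl
theorem L229850 : sm ga N29655 = N27904 := ded_11_1 (flp_f L229844) L229840 L229848
theorem L229852 : sm gc N29655 = N25899 := ded_20_1 (flp_f L200603) L200597 L229848
theorem L229854 : sm gd N29655 = N27903 := ded_23_1 (flp_f L219288) L219290 L229848
theorem L229856 : sm ge N29655 = N27797 := ded_25_1 (flp_f L215291) (flp_e L200599) L229848
theorem L229858 : sm gg N28937 = N29655 := ded_31_0 (flp_f L229848) L200601 (flp_g L196177) (flp_f L196169) L165086 (flp_g L164157) L164155 (flp_b L165692) L194569 (flp_f L214145) L214147 (flp_g L217070) (flp_f L217074) (flp_b L224754)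
theorem L229860 : sm gg N25898 = N29656 := rfl
theorem L229862 : sm gc N29656 = N25900 := ded_21_1 (flp_g L200609) L200597 L229860
theorem L229864 : sm ge N29656 = N27037 := ded_26_1 L209395 (flp_e L200599) L229860
theorem L229866 : sm gb N29656 = N26883 := ded_17_1 L208009 L196626 L196177 (flp_b L200601) L229860
theorem L229868 : sm gg N25899 = N29657 := rfl
theorem L229870 : sm ga N29657 = N27478 := ded_12_1 L212807 (flp_a L200605) L229868
theorem L229872 : sm gc N29657 = N28937 := ded_21_1 L229858 L229852 L229868
theorem L229874 : sm gd N29657 = N25910 := ded_24_1 (flp_g L200693) (flp_d L200607) L229868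
theorem L229876 : sm ge N29657 = N27753 := ded_26_1 (flp_g L229822) L229820 L229868
theorem L229878 : sm gf N29610 = N29657 := ded_29_0 (flp_g L229868) (flp_f L200603) L200609 (flp_a L229438)
theorem L229880 : sm gb N25901 = N29657 := ded_31_14 (flp_g L229868) (flp_f L200603) (flp_b L169135) L117211 L118135 (flp_b L166398) (flp_g L166869) (flp_f L166863) L166856 L166860 L197447 (flp_b L200653) (flp_g L200641) (flp_f L200621)
theorem L229882 : sm gc N25901 = N29658 := rfl
theorem L229884 : sm ga N29658 = N25902 := ded_8_1 (flp_c L200623) L200617 L229882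
theorem L229886 : sm ge N29658 = N26863 := ded_19_2 (flp_c L229826) L229830 L229882
theorem L229888 : sm gf N29658 = N25903 := ded_20_2 (flp_c L200631) (flp_f L200621) L229882
theorem L229890 : sm gb N29658 = N28877 := ded_13_1 L224217 (flp_b L224754) (flp_c L229872) (flp_b L229880) L229882
theorem L229892 : sm gd N25902 = N29659 := rfl
theorem L229894 : sm gb N29659 = N27406 := ded_14_1 L212307 (flp_b L200629) L229892
theorem L229896 : sm gf N29659 = N25905 := ded_23_2 (flp_d L200655) (flp_f L200627) L229892
theorem L229898 : sm gd N25903 = N29660 := rfl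
theorem L229900 : sm ga N29660 = N25905 := ded_9_1 (flp_d L200655) (flp_a L200633) L229898
theorem L229902 : sm gb N29660 = N27573 := ded_14_1 L213455 L200637 L229898
theorem L229904 : sm gg N29660 = N26393 := ded_24_2 L204005 L200639 L229898
theorem L229906 : sm ge N29660 = N26395 := ded_22_2 L204015 L171266 (flp_d L175933) (flp_e L200635) L229898
theorem L229908 : sm gc N25905 = N29661 := rfl
theorem L229910 : sm ge N29661 = N27591 := ded_19_2 (flp_c L224915) L224913 L229908
theorem L229912 : sm gd N29661 = N27786 := ded_28_7 L215181 (flp_c L200731) (flp_d L169209) (flp_c L117235) (flp_d L117219) L169149 L200655 L229908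
theorem L229914 : sm gb N27590 = N29661 := ded_15_3 L229910 (flp_b L213569) (flp_e L213567)
theorem L229916 : sm gg N27600 = N29661 := ded_26_0 L229910 L213573 L213639
theorem L229918 : sm gg N25905 = N29662 := rfl
theorem L229920 : sm ga N29662 = N26393 := ded_12_1 (flp_g L229904) L229900 L229918
theorem L229922 : sm gc N29662 = N27600 := ded_21_1 L229916 (flp_c L229908) L229918
theorem L229924 : sm gd N29662 = N25906 := ded_24_1 (flp_g L200657) L200655 L229918
theorem L229926 : sm ge N29662 = N26224 := ded_26_1 (flp_g L224917) L224913 L229918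
theorem L229928 : sm gb N26226 = N29662 := ded_7_0 L229920 L204003 L171274 L118491 L96770 (flp_b L96572) (flp_a L118049) (flp_b L170544) (flp_a L202971)
theorem L229930 : sm gf N25906 = N29663 := rfl
theorem L229932 : sm ga N29663 = N26862 := ded_11_1 (flp_f L207842) (flp_a L200659) L229930
theorem L229934 : sm gc N29663 = N25907 := ded_20_1 (flp_f L200667) (flp_c L200661) L229930
theorem L229936 : sm ge N29663 = N26788 := ded_25_1 (flp_f L207211) (flp_e L200663) L229930
theorem L229938 : sm gg N29663 = N29658 := ded_29_3 L229884 L200627 L200657 L229930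
theorem L229940 : sm gb N29663 = N27050 := ded_16_1 L209505 L207229 (flp_f L207221) L200665 L229930
theorem L229942 : sm gb N25907 = N29664 := rfl
theorem L229944 : sm gd N29664 = N25918 := ded_14_2 (flp_b L200775) (flp_d L200671) L229942
theorem L229946 : sm ge N29664 = N27752 := ded_15_2 L214858 L206972 L229942
theorem L229948 : sm gf N29664 = N26289 := ded_16_2 (flp_b L203337) (flp_f L182129) (flp_b L169155) L200667 L229942
theorem L229950 : sm gg N29664 = N26291 := ded_17_2 L203350 L229868 (flp_b L229880) (flp_g L200673) L229942
theorem L229952 : sm ga N29664 = N26291 := ded_7_1 L203350 L200605 (flp_b L200229) (flp_a L168863) (flp_b L168871) (flp_a L166865) L197455 (flp_a L200669) L229942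
theorem L229954 : sm gd N25908 = N29665 := rfl
theorem L229956 : sm ga N29665 = N25909 := ded_9_1 (flp_d L200687) (flp_a L200677) L229954
theorem L229958 : sm gb N29665 = N26431 := ded_14_1 L204261 L200685 L229954
theorem L229960 : sm gf N29665 = N29613 := ded_23_2 (flp_d L229454) (flp_f L200681) L229954
theorem L229962 : sm gg N29665 = N26435 := ded_24_2 L204287 (flp_g L200683) L229954
theorem L229964 : sm ge N29665 = N27128 := ded_22_2 L210155 L179449 L173096 (flp_e L200679) L229954
theorem L229966 : sm gc N25909 = N29666 := rfl
theorem L229968 : sm ge N29666 = N27130 := ded_19_2 L210171 (flp_e L200691) L229966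
theorem L229970 : sm gg N29666 = N27126 := ded_21_2 (flp_c L210137) (flp_g L200689) L229966
theorem L229972 : sm gc N25912 = N29667 := rfl
theorem L229974 : sm ge N29667 = N27713 := ded_19_2 L214465 (flp_e L200719) L229972
theorem L229976 : sm gf N29667 = N25914 := ded_20_2 (flp_c L200731) (flp_f L200715) L229972
theorem L229978 : sm gg N29667 = N27236 := ded_21_2 L211011 (flp_g L200717) L229972
theorem L229980 : sm gb N29667 = N27526 := ded_30_2 L213145 (flp_f L213129) (flp_c L213585) (flp_b L213591) L211131 (flp_f L211111) (flp_c L211105) L180863 (flp_a L180747) L178072 L178066 L153359 L105795 (flp_f L105774) (flp_c L153331) (flp_b L184866) L184864 (flp_f L200715) L229972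
theorem L229982 : sm gd N25914 = N29668 := rfl
theorem L229984 : sm ga N29668 = N29661 := ded_9_1 L229912 L215181 L229982
theorem L229986 : sm gb N29668 = N27544 := ded_14_1 L213245 (flp_b L200735) L229982
theorem L229988 : sm gc N29660 = N29668 := ded_28_0 (flp_d L229982) (flp_c L200731) (flp_d L169209) (flp_c L117235) (flp_d L117219) L169149 L200655 (flp_a L229900)
theorem L229990 : sm gc N25919 = N29669 := rfl
theorem L229992 : sm ga N29669 = N25924 := ded_8_1 (flp_c L200817) (flp_a L200787) L229990
theorem L229994 : sm gf N29669 = N27551 := ded_20_2 L213283 (flp_f L200789) L229990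
theorem L229996 : sm gd N29345 = N29669 := ded_28_1 (flp_c L229990) (flp_d L200785) (flp_c L169227) (flp_d L168082) L199028 L227562 L227564 L227594
theorem L229998 : sm ge N27553 = N29669 := ded_10_0 L229992 (flp_e L213291) (flp_a L213297)
theorem L230000 : sm ge N25919 = N29670 := rfl
theorem L230002 : sm ga N29670 = N25925 := ded_10_1 (flp_e L200819) (flp_a L200787) L230000
theorem L230004 : sm gb N29670 = N27781 := ded_15_1 L215133 (flp_b L213423) L230000
theorem L230006 : sm gc N29670 = N27553 := ded_19_1 L229998 (flp_c L229990) L230000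
theorem L230008 : sm gf N29670 = N26216 := ded_25_2 L202896 (flp_f L200789) L230000
theorem L230010 : sm gd N29670 = N26219 := ded_22_1 L202923 (flp_d L173258) (flp_e L169231) L200785 L230000
theorem L230012 : sm gd N25920 = N29671 := rfl
theorem L230014 : sm ga N29671 = N25921 := ded_9_1 (flp_d L200799) L200791 L230012
theorem L230016 : sm gf N29671 = N29593 := ded_23_2 (flp_d L229270) (flp_f L200797) L230012
theorem L230018 : sm gc N25921 = N29672 := rfl
theorem L230020 : sm ge N25921 = N29673 := rfl
theorem L230022 : sm gb N29673 = N25925 := ded_15_1 (flp_e L200819) (flp_b L200801) L230020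
theorem L230024 : sm gd N29673 = N26615 := ded_22_1 (flp_e L205767) (flp_d L173274) (flp_e L169237) L200799 L230020
theorem L230026 : sm gf N29636 = N29673 := ded_16_0 L230022 (flp_f L200823) L200373 L200387 L229656
theorem L230028 : sm gf N25921 = N29674 := rfl
theorem L230030 : sm ga N29674 = N29593 := ded_11_1 (flp_f L230016) L230014 L230028
theorem L230032 : sm gd N29674 = N25922 := ded_23_1 (flp_f L200803) L200799 L230028
theorem L230034 : sm ge N29674 = N29636 := ded_25_1 L230026 (flp_e L230020) L230028
theorem L230036 : sm gb N29674 = N29635 := ded_16_1 (flp_f L229646) L200833 (flp_f L200825) (flp_b L200801) L230028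
theorem L230038 : sm gg N25921 = N29675 := rfl
theorem L230040 : sm gd N29675 = N25923 := ded_24_1 (flp_g L200811) L200799 L230038
theorem L230042 : sm gg N25922 = N29676 := rfl
theorem L230044 : sm ga N29676 = N26759 := ded_12_1 L207006 (flp_a L200805) L230042
theorem L230046 : sm gc N29676 = N25935 := ded_21_1 (flp_g L200884) (flp_c L200807) L230042
theorem L230048 : sm ge N29676 = N26616 := ded_26_1 (flp_g L205777) (flp_e L200809) L230042
theorem L230050 : sm gf N28111 = N29676 := ded_29_0 (flp_g L230042) (flp_f L200803) L200811 L217805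
theorem L230052 : sm gb N25923 = N29677 := rfl
theorem L230054 : sm ge N29677 = N26617 := ded_15_2 (flp_b L205787) (flp_e L200815) L230052
theorem L230056 : sm gc N29677 = N25985 := ded_13_2 (flp_b L201261) L169463 (flp_b L169281) (flp_c L200813) L230052
theorem L230058 : sm gf N29677 = N25985 := ded_16_2 (flp_b L201261) (flp_f L174817) (flp_b L207000) L207004 L230052
theorem L230060 : sm gg N29677 = N25928 := ded_17_2 (flp_b L200841) (flp_g L169253) L169235 L200811 L230052
theorem L230062 : sm ga N29677 = N29677 := ded_7_1 (flp_b L230052) L217805 (flp_b L217797) L188333 L156926 (flp_a L188333) L217797 (flp_a L217805) L230052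
theorem L230063 : sm gb N25924 = N29678 := rfl
theorem L230065 : sm ge N29678 = N29186 := ded_15_2 L226385 L213291 L230063
theorem L230067 : sm gg N29678 = N29678 := ded_17_2 (flp_b L230063) L213279 L213278 (flp_g L213279) L230063
theorem L230068 : sm gd N25924 = N29679 := rfl
theorem L230070 : sm ga N29679 = N29345 := ded_9_1 L229996 L229992 L230068
theorem L230072 : sm gg N29679 = N28104 := ded_24_2 L217752 (flp_g L213279) L230068
theorem L230074 : sm ge N29679 = N28106 := ded_22_2 (flp_d L217908) L217910 L213945 L213291 L230068
theorem L230076 : sm gc N29340 = N29679 := ded_28_0 (flp_d L230068) (flp_c L200817) (flp_d L169241) (flp_c L117253) (flp_d L116551) L168088 L199042 (flp_a L227564)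
theorem L230078 : sm gf N25924 = N29680 := rfl
theorem L230080 : sm ga N29680 = N27551 := ded_11_1 (flp_f L229994) L229992 L230078
theorem L230082 : sm gc N29680 = N25926 := ded_20_1 (flp_f L200825) L200817 L230078
theorem L230084 : sm ge N29680 = N27549 := ded_25_1 L213293 L213291 L230078
theorem L230086 : sm gg N29680 = N27547 := ded_29_3 L213258 L213272 (flp_g L213279) L230078
theorem L230088 : sm gb N25927 = N29681 := rfl
theorem L230090 : sm gd N29681 = N25928 := ded_14_2 (flp_b L200841) (flp_d L200839) L230088
theorem L230092 : sm gc N29681 = N29681 := ded_13_2 (flp_b L230088) (flp_c L213274) L213278 L213274 L230088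
theorem L230093 : sm gf N29681 = N25988 := ded_16_2 (flp_b L201284) L170478 (flp_b L202868) L202876 L230088
theorem L230095 : sm ga N29681 = N29681 := ded_7_1 (flp_b L230088) L217540 (flp_b L217532) L188181 L156765 (flp_a L188181) L217532 (flp_a L217540) L230088
theorem L230096 : sm gc N25929 = N29682 := rfl
theorem L230098 : sm ga N29682 = N25931 := ded_8_1 (flp_c L200864) (flp_a L200852) L230096
theorem L230100 : sm gf N29682 = N29587 := ded_20_2 (flp_c L229216) (flp_f L200856) L230096
theorem L230102 : sm gd N26762 = N29682 := ded_9_0 L230098 L223811 (flp_a L207027)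
theorem L230104 : sm ge N26164 = N29682 := ded_10_0 L230098 L223813 (flp_a L202499)
theorem L230106 : sm gg N29682 = N27670 := ded_24_2 L214118 (flp_g L207031) L230102
theorem L230108 : sm ge N25929 = N29683 := rfl
theorem L230110 : sm ga N29683 = N25932 := ded_10_1 (flp_e L200866) (flp_a L200852) L230108
theorem L230112 : sm gb N29683 = N29580 := ded_15_1 L229160 (flp_b L200854) L230108
theorem L230114 : sm gc N29683 = N26164 := ded_19_1 L230104 (flp_c L230096) L230108
theorem L230116 : sm gf N29683 = N27630 := ded_25_2 L213815 (flp_f L200856) L230108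
theorem L230118 : sm gd N29683 = N26619 := ded_22_1 (flp_e L205802) (flp_d L173313) (flp_e L169261) L200850 L230108
theorem L230120 : sm gg N25929 = N29684 := rfl
theorem L230122 : sm ga N29684 = N25934 := ded_12_1 (flp_g L200878) (flp_a L200852) L230120
theorem L230124 : sm gc N29684 = N27670 := ded_21_1 (flp_g L230106) (flp_c L230096) L230120
theorem L230126 : sm gd N29684 = N25930 := ded_24_1 (flp_g L200858) L200850 L230120
theorem L230128 : sm gf N25931 = N29685 := rfl
theorem L230130 : sm ga N29685 = N29587 := ded_11_1 (flp_f L230100) L230098 L230128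
theorem L230132 : sm gc N29685 = N25933 := ded_20_1 (flp_f L200872) L200864 L230128
theorem L230134 : sm gd N29685 = N26765 := ded_23_1 (flp_f L207043) (flp_d L223811) L230128
theorem L230136 : sm ge N29685 = N26168 := ded_25_1 (flp_f L202519) (flp_e L223813) L230128
theorem L230138 : sm gg N29685 = N29048 := ded_29_1 L225526 (flp_g L230106) L230098 L230128
theorem L230140 : sm gb N29685 = N26234 := ded_16_1 (flp_f L203011) L170544 (flp_f L170294) (flp_b L223809) L230128
theorem L230142 : sm gg N25931 = N29686 := rfl
theorem L230144 : sm ga N29686 = N27670 := ded_12_1 (flp_g L230106) L230098 L230142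
theorem L230146 : sm gc N29686 = N25934 := ded_21_1 (flp_g L200878) L200864 L230142
theorem L230148 : sm gd N29686 = N26766 := ded_24_1 (flp_g L207051) (flp_d L223811) L230142
theorem L230150 : sm ge N29686 = N26169 := ded_26_1 (flp_g L202525) (flp_e L223813) L230142
theorem L230152 : sm gf N25932 = N29687 := rfl
theorem L230154 : sm ga N29687 = N27630 := ded_11_1 (flp_f L230116) L230110 L230152
theorem L230156 : sm gc N29687 = N26168 := ded_20_1 (flp_f L202519) (flp_c L223829) L230152
theorem L230158 : sm gd N29687 = N26622 := ded_23_1 (flp_f L205820) (flp_d L200870) L230152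
theorem L230160 : sm ge N29687 = N25933 := ded_25_1 (flp_f L200872) L200866 L230152
theorem L230162 : sm gg N25932 = N29688 := rfl
theorem L230164 : sm gc N29688 = N26169 := ded_21_1 (flp_g L202525) (flp_c L223829) L230162
theorem L230166 : sm gd N29688 = N26623 := ded_24_1 (flp_g L205826) (flp_d L200870) L230162
theorem L230168 : sm ge N29688 = N25934 := ded_26_1 (flp_g L200878) L200866 L230162
theorem L230170 : sm gf N29688 = N29041 := ded_29_2 L225463 (flp_a L230154) (flp_f L230152) L230162
theorem L230172 : sm gb N29688 = N26004 := ded_17_1 (flp_g L201380) L169529 (flp_g L169295) (flp_b L200868) L230162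
theorem L230174 : sm gg N25933 = N29689 := rfl
theorem L230176 : sm ga N29689 = N29588 := ded_12_1 (flp_g L229222) (flp_a L200874) L230174
theorem L230178 : sm gc N29689 = N29048 := ded_21_1 (flp_g L230138) L230132 L230174
theorem L230180 : sm gd N29689 = N25935 := ded_24_1 (flp_g L200884) (flp_d L200876) L230174
theorem L230182 : sm gf N29684 = N29689 := ded_29_0 (flp_g L230174) (flp_f L200872) L200878 (flp_a L230122)
theorem L230184 : sm gb N25938 = N29690 := rfl
theorem L230186 : sm gd N25938 = N29691 := rfl
theorem L230188 : sm ga N29691 = N25939 := ded_9_1 (flp_d L200906) L200904 L230186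
theorem L230190 : sm ge N25938 = N29692 := rfl
theorem L230192 : sm ga N29692 = N25940 := ded_10_1 (flp_e L200910) L200904 L230190
theorem L230194 : sm gf N25938 = N29693 := rfl
theorem L230196 : sm ga N29693 = N25941 := ded_11_1 (flp_f L200914) L200904 L230194
theorem L230198 : sm gg N25938 = N29694 := rfl
theorem L230200 : sm ga N29694 = N25942 := ded_12_1 (flp_g L200916) L200904 L230198
theorem L230202 : sm gc N29694 = N28706 := ded_21_1 (flp_g L223745) L223743 L230198
theorem L230204 : sm gc N25939 = N29695 := rfl
theorem L230206 : sm gb N29695 = N29352 := ded_13_1 (flp_c L227638) L199062 L169307 (flp_b L200908) L230204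
theorem L230208 : sm gf N25939 = N29695 := ded_16_0 L230206 L228068 (flp_b L228060) (flp_f L199265) (flp_b L200908)
theorem L230210 : sm gd N29695 = N25941 := ded_23_1 (flp_f L200914) L200906 L230208
theorem L230212 : sm ge N25939 = N29696 := rfl
theorem L230214 : sm gb N29696 = N25943 := ded_15_1 (flp_e L200922) (flp_b L200908) L230212
theorem L230216 : sm gg N25939 = N29697 := rfl
theorem L230218 : sm gd N29697 = N25942 := ded_24_1 (flp_g L200916) L200906 L230216
theorem L230220 : sm gb N29697 = N26030 := ded_17_1 (flp_g L201528) L169615 (flp_g L169305) (flp_b L200908) L230216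
theorem L230222 : sm gd N25940 = N29698 := rfl
theorem L230224 : sm gb N29698 = N25944 := ded_14_1 (flp_d L200930) (flp_b L200912) L230222
theorem L230226 : sm gf N25940 = N29699 := rfl
theorem L230228 : sm ge N29699 = N25941 := ded_25_1 (flp_f L200914) L200910 L230226
theorem L230230 : sm gg N25940 = N29700 := rfl
theorem L230232 : sm gc N29700 = N28703 := ded_21_1 (flp_g L223727) L223725 L230230
theorem L230234 : sm ge N29700 = N25942 := ded_26_1 (flp_g L200916) L200910 L230230
theorem L230236 : sm gb N29700 = N26033 := ded_17_1 (flp_g L201542) L169619 (flp_g L169313) (flp_b L200912) L230230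
theorem L230238 : sm gb N25941 = N29701 := rfl
theorem L230240 : sm gd N29701 = N29352 := ded_14_2 (flp_b L230206) L230210 L230238
theorem L230242 : sm gf N29701 = N25946 := ded_16_2 (flp_b L200940) (flp_f L169315) L169299 L200914 L230238
theorem L230244 : sm gg N25941 = N29702 := rfl
theorem L230246 : sm gf N29694 = N29702 := ded_29_0 (flp_g L230244) (flp_f L200914) L200916 (flp_a L230200)
theorem L230248 : sm gf N25942 = N29703 := rfl
theorem L230250 : sm ga N29703 = N29702 := ded_11_1 (flp_f L230246) L230200 L230248
theorem L230252 : sm gc N29703 = N28707 := ded_20_1 (flp_f L222505) (flp_c L200918) L230248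
theorem L230254 : sm gg N29703 = N29693 := ded_29_3 L230196 (flp_f L200914) L200916 L230248
theorem L230256 : sm gb N26265 = N29693 := ded_31_14 (flp_g L230254) (flp_f L230248) L200920 (flp_g L169627) L169623 L201548 L228398 L228395 L228393 L205911 L203129 (flp_b L203125) L203147 L203189
theorem L230258 : sm gd N25943 = N29704 := rfl
theorem L230260 : sm ga N29704 = N29358 := ded_9_1 (flp_d L227674) (flp_a L200924) L230258
theorem L230262 : sm gg N29704 = N26037 := ded_24_2 (flp_d L201566) (flp_g L200928) L230258
theorem L230264 : sm ge N29704 = N25944 := ded_22_2 (flp_d L200930) (flp_e L169309) L169301 L200922 L230258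
theorem L230266 : sm gc N25944 = N29705 := rfl
theorem L230268 : sm ga N29705 = N29470 := ded_8_1 L228383 L223835 L230266
theorem L230270 : sm gg N29705 = N26040 := ded_21_2 (flp_c L201584) (flp_g L200932) L230266
theorem L230272 : sm gf N25944 = N29706 := rfl
theorem L230274 : sm ga N29706 = N29498 := ded_11_1 (flp_f L228587) L223835 L230272
theorem L230276 : sm gd N29706 = N25945 := ded_23_1 (flp_f L200934) L200930 L230272
theorem L230278 : sm gb N25945 = N29707 := rfl
theorem L230280 : sm ge N29707 = N25946 := ded_15_2 (flp_b L200940) (flp_e L200938) L230278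
theorem L230282 : sm ga N25946 = N29708 := rfl
theorem L230284 : sm gc N25946 = N29709 := rfl
theorem L230286 : sm gb N29709 = N25949 := ded_13_1 (flp_c L200952) (flp_b L169325) (flp_c L169317) L200940 L230284
theorem L230288 : sm gg N25946 = N29710 := rfl
theorem L230290 : sm gd N29710 = N29363 := ded_24_1 (flp_g L228066) L228062 L230288
theorem L230292 : sm ga N25947 = N29711 := rfl
theorem L230294 : sm gd N29711 = N26638 := ded_9_2 (flp_a L205927) (flp_d L200944) L230292
theorem L230296 : sm ge N29711 = N25948 := ded_10_2 (flp_a L200948) (flp_e L200946) L230292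
theorem L230298 : sm gf N29711 = N28641 := ded_11_2 (flp_a L223761) L223759 L230292
theorem L230300 : sm gc N28635 = N29711 := ded_20_3 L230298 (flp_c L221954) (flp_f L221916)
theorem L230302 : sm gc N25947 = N29712 := rfl
theorem L230304 : sm ga N29712 = N28635 := ded_8_1 L230300 (flp_a L230292) L230302
theorem L230306 : sm ge N29712 = N25949 := ded_19_2 (flp_c L200952) (flp_e L200946) L230302
theorem L230308 : sm gf N29712 = N28640 := ded_20_2 L223763 L223759 L230302
theorem L230310 : sm gg N25947 = N29713 := rfl
theorem L230312 : sm gd N29713 = N26639 := ded_24_1 (flp_g L205931) (flp_d L200944) L230310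
theorem L230314 : sm ge N29713 = N25950 := ded_26_1 (flp_g L200954) (flp_e L200946) L230310
theorem L230316 : sm gb N29713 = N27112 := ded_17_1 (flp_g L210023) L179313 (flp_g L169589) L200942 L230310
theorem L230318 : sm gb N25948 = N29714 := rfl
theorem L230320 : sm gd N29714 = N25951 := ded_14_2 (flp_b L200958) (flp_d L200950) L230318
theorem L230322 : sm gf N29714 = N27956 := ded_16_2 L216595 L216635 L223789 L223787 L230318
theorem L230324 : sm gc N25948 = N29715 := rfl
theorem L230326 : sm ga N29715 = N25949 := ded_8_1 (flp_c L200952) L200948 L230324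
theorem L230328 : sm ge N29715 = N28635 := ded_19_2 L230300 L230296 L230324
theorem L230330 : sm gf N29715 = N28639 := ded_20_2 L223791 L223787 L230324
theorem L230332 : sm gb N28634 = N29715 := ded_15_3 L230328 (flp_b L221912) (flp_e L221910)
theorem L230334 : sm gg N25948 = N29716 := rfl
theorem L230336 : sm ga N29716 = N25950 := ded_12_1 (flp_g L200954) L200948 L230334
theorem L230338 : sm gd N29716 = N25953 := ded_24_1 (flp_g L200976) (flp_d L200950) L230334
theorem L230340 : sm gf N29716 = N28836 := ded_29_2 (flp_g L223851) L223781 L223787 L230334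
theorem L230342 : sm gd N25949 = N29717 := rfl
theorem L230344 : sm gg N25949 = N29718 := rfl
theorem L230346 : sm gc N29718 = N25950 := ded_21_1 (flp_g L200954) L200952 L230344
theorem L230348 : sm gf N25950 = N29719 := rfl
theorem L230350 : sm ga N29719 = N28836 := ded_11_1 (flp_f L230340) L230336 L230348
theorem L230352 : sm gd N29719 = N25956 := ded_23_1 (flp_f L201008) (flp_d L200956) L230348
theorem L230354 : sm gg N29719 = N28834 := ded_29_3 (flp_a L223781) L193711 L200954 L230348
theorem L230356 : sm gb N29719 = N28449 := ded_31_2 (flp_g L220468) (flp_f L191411) (flp_b L159535) (flp_g L110437) L92631 L45301 L45407 (flp_f L83400) (flp_b L84775) (flp_g L96215) L117291 L169325 L200954 L230348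
theorem L230358 : sm gf N25955 = N29720 := rfl
theorem L230360 : sm ga N29720 = N26055 := ded_11_1 L201666 (flp_a L200998) L230358
theorem L230362 : sm gc N29720 = N25956 := ded_20_1 (flp_f L201008) (flp_c L201000) L230358
theorem L230364 : sm gd N29720 = N28913 := ded_23_1 L224545 (flp_d L201002) L230358
theorem L230366 : sm ge N29720 = N26642 := ded_25_1 (flp_f L205959) (flp_e L201004) L230358
theorem L230368 : sm gg N29720 = N27898 := ded_29_3 L216185 L193737 L200996 L230358
theorem L230370 : sm gg N25960 = N29721 := rfl
theorem L230372 : sm ga N29721 = N25965 := ded_12_1 (flp_g L201099) (flp_a L201048) L230370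
theorem L230374 : sm gc N29721 = N25962 := ded_21_1 (flp_g L201076) L201046 L230370
theorem L230376 : sm gd N29721 = N29375 := ded_24_1 (flp_g L227784) L201054 L230370
theorem L230378 : sm ge N29721 = N26853 := ded_26_1 (flp_g L207762) L201056 L230370
theorem L230380 : sm gf N27596 = N29721 := ded_29_0 (flp_g L230370) L201050 (flp_g L219038) L219030
theorem L230382 : sm gb N29721 = N28467 := ded_17_1 (flp_g L220650) L191585 (flp_g L175811) (flp_b L201052) L230370
theorem L230384 : sm gb N25962 = N29722 := rfl
theorem L230386 : sm gd N29722 = N25963 := ded_14_2 (flp_b L201084) (flp_d L201080) L230384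
theorem L230388 : sm gc N29722 = N28468 := ded_13_2 (flp_b L220660) (flp_c L220654) (flp_b L230382) L230374 L230384
theorem L230390 : sm gg N29722 = N28468 := ded_17_2 (flp_b L220660) (flp_g L191597) (flp_b L169369) L201076 L230384
theorem L230392 : sm ga N29722 = N29722 := ded_7_1 (flp_b L230384) L201078 L201111 (flp_a L214141) L214147 L214141 (flp_b L201111) (flp_a L201078) L230384
theorem L230393 : sm gf N25963 = N29723 := rfl
theorem L230395 : sm ga N29723 = N29723 := ded_11_1 (flp_f L230393) L201092 L230393
theorem L230396 : sm gc N29723 = N28469 := ded_20_1 (flp_f L220665) (flp_c L201088) L230393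
theorem L230398 : sm ge N29723 = N26643 := ded_25_1 (flp_f L205969) (flp_e L201086) L230393
theorem L230400 : sm gg N28469 = N29723 := ded_29_3 L230395 (flp_f L230393) L201090 L220665
theorem L230402 : sm gb N29723 = N28686 := ded_16_1 (flp_f L222349) (flp_b L201036) (flp_f L169379) L201084 L230393
theorem L230404 : sm gg N25964 = N29724 := rfl
theorem L230406 : sm ga N29724 = N29375 := ded_12_1 (flp_g L227784) (flp_a L201095) L230404
theorem L230408 : sm gc N29724 = N29373 := ded_21_1 (flp_g L227770) L201097 L230404
theorem L230410 : sm gd N29724 = N25965 := ded_24_1 (flp_g L201099) L201093 L230404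
theorem L230412 : sm gb N25965 = N29725 := rfl
theorem L230414 : sm ge N29725 = N27738 := ded_15_2 (flp_b L215201) L215197 L230412
theorem L230416 : sm gc N29725 = N27428 := ded_13_2 L212459 L201119 (flp_b L201111) (flp_c L201101) L230412
theorem L230418 : sm gf N29725 = N27427 := ded_16_2 (flp_b L218936) L218940 (flp_b L219032) L219036 L230412
theorem L230420 : sm gg N29725 = N27597 := ded_17_2 (flp_b L213613) (flp_g L182753) (flp_b L182743) L201099 L230412
theorem L230422 : sm ga N29725 = N27419 := ded_30_3 L212399 (flp_c L212431) (flp_b L212437) (flp_a L195099) L162607 L151362 (flp_b L164410) (flp_a L179007) (flp_f L209157) (flp_c L209163) L179019 (flp_a L178699) (flp_f L178705) L209455 (flp_b L209465) (flp_a L201123) (flp_f L201121) (flp_c L201101) L230412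
theorem L230424 : sm gb N25968 = N29726 := rfl
theorem L230426 : sm gd N29726 = N25970 := ded_14_2 (flp_b L201135) (flp_d L201125) L230424
theorem L230428 : sm ge N29726 = N28208 := ded_15_2 L218564 L215564 L230424
theorem L230430 : sm gc N29726 = N28209 := ded_13_2 L218570 (flp_c L190061) (flp_b L219032) L219034 L230424
theorem L230432 : sm gb N25969 = N29727 := rfl
theorem L230434 : sm ge N29727 = N26644 := ded_15_2 (flp_b L205978) (flp_e L201133) L230432
theorem L230436 : sm gc N29727 = N27937 := ded_13_2 (flp_b L216457) L187375 L187381 (flp_c L201131) L230432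
theorem L230438 : sm gf N29727 = N25970 := ded_16_2 (flp_b L201135) (flp_f L169399) L169393 L201129 L230432
theorem L230440 : sm ga N25970 = N29728 := rfl
theorem L230442 : sm ge N29728 = N26645 := ded_10_2 (flp_a L205984) (flp_e L201137) L230440
theorem L230444 : sm gc N25971 = N29729 := rfl
theorem L230446 : sm ga N29729 = N26370 := ded_8_1 (flp_c L203867) (flp_a L201141) L230444
theorem L230448 : sm gf N29729 = N28411 := ded_20_2 (flp_c L229488) L229490 L230444
theorem L230450 : sm gb N29729 = N27476 := ded_13_1 (flp_c L212791) L182085 L169419 (flp_b L201143) L230444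
theorem L230452 : sm gd N28414 = N29729 := ded_28_3 (flp_c L230444) (flp_d L201139) (flp_c L170412) L202788 L202790 L203367 L219646 (flp_c L220232)
theorem L230454 : sm gg N25971 = N29730 := rfl
theorem L230456 : sm ga N29730 = N26373 := ded_12_1 (flp_g L203883) (flp_a L201141) L230454
theorem L230458 : sm gd N29730 = N25973 := ded_24_1 (flp_g L201153) L201139 L230454
theorem L230460 : sm ge N29730 = N29625 := ded_26_1 L229556 L225457 L230454
theorem L230462 : sm gf N29624 = N29730 := ded_29_0 (flp_g L230454) (flp_f L229490) L229492 (flp_a L229544)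
theorem L230464 : sm gb N25972 = N29731 := rfl
theorem L230466 : sm ge N29731 = N26554 := ded_15_2 L205217 (flp_e L201149) L230464
theorem L230468 : sm gc N29731 = N27846 := ded_13_2 L215759 (flp_c L216207) (flp_b L216213) L202798 L230464
theorem L230470 : sm gf N29731 = N25976 := ded_16_2 (flp_b L201181) (flp_f L169421) L169409 L201145 L230464
theorem L230472 : sm gg N29731 = N26566 := ded_17_2 L205314 L172579 (flp_b L172841) (flp_g L201151) L230464
theorem L230474 : sm ga N29731 = N28049 := ded_30_3 (flp_f L217318) (flp_c L188025) (flp_b L156657) (flp_a L108204) L91481 L91495 L91499 (flp_a L91535) (flp_f L96736) (flp_c L96730) L85011 (flp_a L84936) (flp_f L84944) L96631 L118230 L170414 L202794 L202798 L230464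
theorem L230476 : sm gb N25974 = N29732 := rfl
theorem L230478 : sm gd N29732 = N25976 := ded_14_2 (flp_b L201181) (flp_d L201165) L230476
theorem L230480 : sm ge N29732 = N26221 := ded_15_2 (flp_b L202935) (flp_e L201167) L230476
theorem L230482 : sm gg N29732 = N27848 := ded_17_2 L215773 L202874 L202868 (flp_g L201169) L230476
theorem L230484 : sm ga N28048 = N29732 := ded_9_3 L230478 (flp_a L201189) L217310
theorem L230486 : sm gc N29579 = N29732 := ded_28_6 L230478 (flp_a L201189) (flp_c L188025) (flp_d L186201) (flp_c L191884) (flp_d L220980) (flp_c L220988) (flp_d L229152)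
theorem L230488 : sm gb N25975 = N29733 := rfl
theorem L230490 : sm gd N29733 = N25977 := ded_14_2 (flp_b L201191) (flp_d L201177) L230488
theorem L230492 : sm ga N27865 = N29733 := ded_9_3 L230490 (flp_a L201197) L215919
theorem L230494 : sm gf N25977 = N29734 := rfl
theorem L230496 : sm ga N29734 = N27866 := ded_11_1 (flp_f L215922) L201197 L230494
theorem L230498 : sm gc N29734 = N27863 := ded_20_1 L215907 (flp_c L201195) L230494
theorem L230500 : sm ge N29734 = N26646 := ded_25_1 (flp_f L205986) (flp_e L201193) L230494
theorem L230502 : sm gg N29734 = N27927 := ded_29_3 L216387 L216401 L216409 L230494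
theorem L230504 : sm gb N29734 = N26105 := ded_16_1 (flp_f L202036) L197487 L169439 L201191 L230494
theorem L230506 : sm gg N25978 = N29735 := rfl
theorem L230508 : sm ga N29735 = N25982 := ded_12_1 (flp_g L201239) (flp_a L201201) L230506
theorem L230510 : sm gc N29735 = N27625 := ded_21_1 (flp_g L213778) L201207 L230506
theorem L230512 : sm gd N29735 = N25979 := ded_24_1 (flp_g L201209) L201199 L230506
theorem L230514 : sm ge N29735 = N28002 := ded_26_1 L216982 (flp_e L201205) L230506
theorem L230516 : sm gb N29735 = N28001 := ded_17_1 (flp_g L216974) L216833 (flp_g L203923) (flp_b L201203) L230506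
theorem L230518 : sm gb N25981 = N29736 := rfl
theorem L230520 : sm gd N29736 = N25983 := ded_14_2 (flp_b L201245) (flp_d L201235) L230518
theorem L230522 : sm ge N29736 = N27852 := ded_15_2 L215807 (flp_e L201237) L230518
theorem L230524 : sm gf N29736 = N25987 := ded_16_2 (flp_b L201280) (flp_f L169473) (flp_b L169451) L201231 L230518
theorem L230526 : sm gg N25981 = N29737 := rfl
theorem L230528 : sm ga N29737 = N26160 := ded_12_1 (flp_g L202466) L202060 L230526
theorem L230530 : sm gc N29737 = N27628 := ded_21_1 (flp_g L213797) (flp_c L201233) L230526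
theorem L230532 : sm gd N29737 = N25984 := ded_24_1 (flp_g L201251) (flp_d L201235) L230526
theorem L230534 : sm ge N29737 = N26154 := ded_26_1 L202430 (flp_e L201237) L230526
theorem L230536 : sm gf N29735 = N29737 := ded_29_0 (flp_g L230526) (flp_f L201231) L201239 (flp_a L230508)
theorem L230538 : sm gb N27756 = N29737 := ded_13_5 L230530 (flp_b L226940) L223070 L193147 L214890
theorem L230540 : sm gb N25982 = N29738 := rfl
theorem L230542 : sm gd N29738 = N25985 := ded_14_2 (flp_b L201261) (flp_d L201243) L230540
theorem L230544 : sm gc N29738 = N29738 := ded_13_2 (flp_b L230540) L201241 L182872 (flp_c L201241) L230540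
theorem L230545 : sm gg N29738 = N25988 := ded_17_2 (flp_b L201284) (flp_g L169479) (flp_b L169451) L201239 L230540
theorem L230547 : sm ga N29738 = N29738 := ded_7_1 (flp_b L230540) (flp_a L230508) L230516 L216968 L187871 (flp_a L216968) (flp_b L230516) L230508 L230540
theorem L230548 : sm gb N25986 = N29739 := rfl
theorem L230550 : sm gd N29739 = N26211 := ded_14_2 (flp_b L202832) (flp_d L201274) L230548
theorem L230552 : sm ge N29739 = N25987 := ded_15_2 (flp_b L201280) (flp_e L201276) L230548
theorem L230554 : sm gf N29739 = N27852 := ded_16_2 L215807 L201229 L201223 L201268 L230548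
theorem L230556 : sm ga N27977 = N29739 := ded_9_3 L230550 (flp_a L202840) L216745
theorem L230558 : sm gg N25987 = N29740 := rfl
theorem L230560 : sm gd N29740 = N25991 := ded_24_1 (flp_g L201302) (flp_d L201282) L230558
theorem L230562 : sm gb N29740 = N26092 := ded_17_1 (flp_g L225518) L225516 L197493 L201280 L230558
theorem L230564 : sm gf N26070 = N29740 := ded_23_0 L230560 (flp_f L201310) L201782
theorem L230566 : sm gg N25989 = N29741 := rfl
theorem L230568 : sm ga N29741 = N25991 := ded_12_1 (flp_g L201302) L201290 L230566
theorem L230570 : sm gc N29741 = N26060 := ded_21_1 (flp_g L201804) L201800 L230566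
theorem L230572 : sm ge N29741 = N26648 := ded_26_1 (flp_g L206010) (flp_e L201292) L230566
theorem L230574 : sm gf N26068 = N29741 := ded_29_0 (flp_g L230566) L201794 (flp_g L201786) (flp_a L201764)
theorem L230576 : sm gb N29741 = N28049 := ded_17_1 L217324 (flp_b L217502) L217500 (flp_b L212541) L230566
theorem L230578 : sm gd N25990 = N29742 := rfl
theorem L230580 : sm gb N29742 = N25992 := ded_14_1 (flp_d L201312) (flp_b L201298) L230578
theorem L230582 : sm gg N29742 = N26058 := ded_24_2 L201696 L201300 L230578
theorem L230584 : sm gc N29742 = N26070 := ded_28_6 (flp_d L201782) (flp_a L201764) (flp_c L201762) (flp_d L201730) L212547 L201282 L201294 L230578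
theorem L230586 : sm gc N25992 = N29743 := rfl
theorem L230588 : sm gf N29743 = N26020 := ded_20_2 (flp_c L201480) (flp_f L201314) L230586
theorem L230590 : sm gg N29743 = N28374 := ded_21_2 L219944 (flp_g L201316) L230586
theorem L230592 : sm gb N29743 = N26078 := ded_13_1 (flp_c L201848) (flp_b L201784) (flp_c L230584) L230580 L230586
theorem L230594 : sm gd N28376 = N29743 := ded_23_3 L230588 (flp_d L225369) L225371
theorem L230596 : sm ge N25992 = N29744 := rfl
theorem L230598 : sm gf N29744 = N26021 := ded_25_2 (flp_e L201482) (flp_f L201314) L230596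
theorem L230600 : sm gg N29744 = N27555 := ded_26_2 L213315 (flp_g L201316) L230596
theorem L230602 : sm gd N29744 = N26649 := ded_22_1 (flp_e L206022) (flp_d L173619) (flp_e L169495) L201312 L230596
theorem L230604 : sm ge N25993 = N29745 := rfl
theorem L230606 : sm ga N29745 = N26317 := ded_10_1 (flp_e L203501) (flp_a L201320) L230604
theorem L230608 : sm gb N29745 = N25995 := ded_15_1 (flp_e L201334) (flp_b L201322) L230604
theorem L230610 : sm gc N29745 = N27524 := ded_19_1 (flp_e L213131) L201324 L230604
theorem L230612 : sm gf N29745 = N26140 := ded_25_2 (flp_e L224893) L224897 L230604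
theorem L230614 : sm gd N29745 = N26141 := ded_22_1 L202304 (flp_d L173625) (flp_e L169503) L201318 L230604
theorem L230616 : sm gg N25993 = N29746 := rfl
theorem L230618 : sm ga N29746 = N26319 := ded_12_1 (flp_g L203511) (flp_a L201320) L230616
theorem L230620 : sm gc N29746 = N27525 := ded_21_1 (flp_g L213137) L201324 L230616
theorem L230622 : sm gd N29746 = N25994 := ded_24_1 (flp_g L201326) L201318 L230616
theorem L230624 : sm gf N25995 = N29747 := rfl
theorem L230626 : sm ga N29747 = N26003 := ded_11_1 (flp_f L201374) (flp_a L201336) L230624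
theorem L230628 : sm gd N29747 = N26480 := ded_23_1 L204599 (flp_d L201338) L230624
theorem L230630 : sm ge N29747 = N25996 := ded_25_1 (flp_f L201340) L201334 L230624
theorem L230632 : sm gg N25995 = N29748 := rfl
theorem L230634 : sm ga N29748 = N26004 := ded_12_1 (flp_g L201380) (flp_a L201336) L230632
theorem L230636 : sm gd N29748 = N26651 := ded_24_1 (flp_g L206038) (flp_d L201338) L230632
theorem L230638 : sm ge N29748 = N25997 := ded_26_1 (flp_g L201346) L201334 L230632
theorem L230640 : sm gb N27227 = N29748 := ded_14_3 L230636 (flp_b L206046) (flp_d L210949)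
theorem L230642 : sm gb N25997 = N29749 := rfl
theorem L230644 : sm gd N29749 = N25998 := ded_14_2 (flp_b L201352) (flp_d L201350) L230642
theorem L230646 : sm ge N29749 = N27227 := ded_15_2 L230640 L230638 L230642
theorem L230648 : sm ga N27226 = N29749 := ded_9_3 L230644 (flp_a L201356) (flp_d L210943)
theorem L230650 : sm ga N25999 = N29750 := rfl
theorem L230652 : sm gc N29750 = N26009 := ded_8_2 (flp_a L201412) (flp_c L201360) L230650
theorem L230654 : sm ge N25999 = N29751 := rfl
theorem L230656 : sm gb N29751 = N26000 := ded_15_1 (flp_e L201362) L201358 L230654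
theorem L230658 : sm gc N29751 = N26010 := ded_19_1 (flp_e L201416) (flp_c L201360) L230654
theorem L230660 : sm gf N25999 = N29752 := rfl
theorem L230662 : sm gc N29752 = N26011 := ded_20_1 (flp_f L201420) (flp_c L201360) L230660
theorem L230664 : sm gg N25999 = N29753 := rfl
theorem L230666 : sm gc N29753 = N26012 := ded_21_1 (flp_g L201424) (flp_c L201360) L230664
theorem L230668 : sm gd N26000 = N29754 := rfl
theorem L230670 : sm ga N29754 = N26450 := ded_9_1 (flp_d L213891) L213885 L230668
theorem L230672 : sm ge N29754 = N26446 := ded_22_2 (flp_d L204356) (flp_e L182920) (flp_d L182922) L201362 L230668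
theorem L230674 : sm gc N29754 = N29102 := ded_32_4 L225917 (flp_d L219966) L219964 (flp_d L210407) L180037 L143679 (flp_d L130468) (flp_c L145350) L145352 (flp_c L143883) L180155 L180157 (flp_c L187741) (flp_d L216873) L216871 L214156 L183113 (flp_c L201233) L201235 L169457 L169541 L169543 L143601 (flp_c L143595) (flp_d L143233) L163260 (flp_b L173485) (flp_d L201074) L201070 L175815 L175823 L175827 L175846 (flp_c L177539) L177541 (flp_c L128648) (flp_b L101834) (flp_d L101827) (flp_c L128615) L128617 L102946 L103000 L103002 L103046 L142949 (flp_c L154252) (flp_b L154248) (flp_e L151062) L154596 (flp_c L179517) L179519 L142955 L147407 (flp_d L94975) (flp_c L84113) L23765 (flp_c L140510) L140508 L6881 L14081 L14086 (flp_c L6896) (flp_b L6592) (flp_d L6590) (flp_c L3391) (flp_d L3331) L6450 (flp_b L12932) L26925 L85778 L98003 (flp_c L97999) (flp_b L97993) L122358 (flp_d L169531) (flp_c L201364) L230668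
theorem L230676 : sm gf N26000 = N29755 := rfl
theorem L230678 : sm gc N29755 = N26003 := ded_20_1 (flp_f L201374) (flp_c L201364) L230676
theorem L230680 : sm ge N29755 = N26001 := ded_25_1 (flp_f L201366) L201362 L230676
theorem L230682 : sm gg N26000 = N29756 := rfl
theorem L230684 : sm gc N29756 = N26004 := ded_21_1 (flp_g L201380) (flp_c L201364) L230682
theorem L230686 : sm ge N29756 = N26002 := ded_26_1 (flp_g L201370) L201362 L230682
theorem L230688 : sm gb N26001 = N29757 := rfl
theorem L230690 : sm gb N26002 = N29758 := rfl
theorem L230692 : sm gf N26002 = N29759 := rfl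
theorem L230694 : sm ga N29759 = N29252 := ded_11_1 L226866 L213905 L230692
theorem L230696 : sm gc N29759 = N26007 := ded_20_1 (flp_f L201398) (flp_c L201372) L230692
theorem L230698 : sm gd N29759 = N27642 := ded_23_1 (flp_f L213917) L213879 L230692
theorem L230700 : sm gg N29759 = N27640 := ded_29_3 L213895 (flp_f L201366) L201370 L230692
theorem L230702 : sm gg N26003 = N29760 := rfl
theorem L230704 : sm gd N29760 = N26657 := ded_24_1 (flp_g L206088) (flp_d L201376) L230702
theorem L230706 : sm ge N29760 = N26006 := ded_26_1 (flp_g L201392) (flp_e L201378) L230702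
theorem L230708 : sm gf N29748 = N29760 := ded_29_0 (flp_g L230702) (flp_f L201374) L201380 (flp_a L230634)
theorem L230710 : sm gb N28201 = N29760 := ded_14_3 L230704 (flp_b L206096) L218500
theorem L230712 : sm gf N26004 = N29761 := rfl
theorem L230714 : sm ga N29761 = N29760 := ded_11_1 (flp_f L230708) L230634 L230712
theorem L230716 : sm gd N29761 = N26658 := ded_23_1 (flp_f L206098) (flp_d L201382) L230712
theorem L230718 : sm ge N29761 = N26007 := ded_25_1 (flp_f L201398) (flp_e L201384) L230712
theorem L230720 : sm gg N29761 = N29747 := ded_29_3 L230626 (flp_f L201374) L201380 L230712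
theorem L230722 : sm gb N29761 = N28960 := ded_16_1 (flp_f L224967) L225459 (flp_f L230170) L230172 L230712
theorem L230724 : sm gc N26005 = N29762 := rfl
theorem L230726 : sm ge N29762 = N29222 := ded_19_2 L226645 L209959 L230724
theorem L230728 : sm gf N29762 = N26016 := ded_20_2 (flp_c L201448) (flp_f L201390) L230724
theorem L230730 : sm gd N29762 = N29220 := ded_28_7 L226631 L225977 (flp_d L219988) L223899 L223893 L193817 (flp_d L201388) L230724
theorem L230732 : sm gg N26005 = N29763 := rfl
theorem L230734 : sm gd N29763 = N26008 := ded_24_1 (flp_g L201406) (flp_d L201388) L230732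
theorem L230736 : sm ge N29763 = N27116 := ded_26_1 L210061 L209959 L230732
theorem L230738 : sm gf N27115 = N29763 := ded_29_0 (flp_g L230732) L201390 L201454 (flp_a L210047)
theorem L230740 : sm gb N26009 = N29764 := rfl
theorem L230742 : sm gd N29764 = N29406 := ded_14_2 (flp_b L227973) (flp_d L201414) L230740
theorem L230744 : sm gf N29764 = N29764 := ded_23_0 L230742 L227986 (flp_d L230742)
theorem L230745 : sm ge N26009 = N29765 := rfl
theorem L230747 : sm ga N29765 = N26010 := ded_10_1 (flp_e L201416) L201412 L230745
theorem L230749 : sm gf N26009 = N29766 := rfl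
theorem L230751 : sm ga N29766 = N26011 := ded_11_1 (flp_f L201420) L201412 L230749
theorem L230753 : sm gd N29766 = N29408 := ded_23_1 (flp_f L227980) (flp_d L201414) L230749
theorem L230755 : sm gb N29766 = N29766 := ded_16_1 (flp_f L230749) L230740 L230744 (flp_b L230740) L230749
theorem L230756 : sm gg N26009 = N29767 := rfl
theorem L230758 : sm ga N29767 = N26012 := ded_12_1 (flp_g L201424) L201412 L230756
theorem L230760 : sm gd N29767 = N29409 := ded_24_1 (flp_g L227987) (flp_d L201414) L230756
theorem L230762 : sm gd N26010 = N29768 := rfl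
theorem L230764 : sm gb N29768 = N26013 := ded_14_1 (flp_d L201428) (flp_b L201418) L230762
theorem L230766 : sm gg N29768 = N29500 := ded_24_2 L228605 L223833 L230762
theorem L230768 : sm ge N29768 = N29410 := ded_22_2 (flp_d L227992) (flp_e L199236) (flp_d L169563) L201416 L230762
theorem L230770 : sm gf N26010 = N29769 := rfl
theorem L230772 : sm ge N29769 = N26011 := ded_25_1 (flp_f L201420) L201416 L230770
theorem L230774 : sm gb N26011 = N29770 := rfl
theorem L230776 : sm gd N29770 = N29413 := ded_14_2 (flp_b L228006) (flp_d L201422) L230774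
theorem L230778 : sm gf N29770 = N26015 := ded_16_2 (flp_b L201444) (flp_f L169571) L169561 L201420 L230774
theorem L230780 : sm gg N26011 = N29771 := rfl
theorem L230782 : sm gd N29771 = N29414 := ded_24_1 (flp_g L228010) (flp_d L201422) L230780
theorem L230784 : sm gf N29767 = N29771 := ded_29_0 (flp_g L230780) (flp_f L201420) L201424 (flp_a L230758)
theorem L230786 : sm gf N26012 = N29772 := rfl
theorem L230788 : sm ga N29772 = N29771 := ded_11_1 (flp_f L230784) L230758 L230786
theorem L230792 : sm gg N29772 = N29766 := ded_29_3 L230751 (flp_f L201420) L201424 L230786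
theorem L230794 : sm gf N26013 = N29773 := rfl
theorem L230796 : sm ga N29773 = N26041 := ded_11_1 (flp_f L201586) (flp_a L201430) L230794
theorem L230798 : sm gd N29773 = N26014 := ded_23_1 (flp_f L201434) L201428 L230794
theorem L230800 : sm ge N29773 = N29417 := ded_25_1 (flp_f L228026) (flp_e L201432) L230794
theorem L230802 : sm gg N29773 = N29706 := ded_29_3 L230274 (flp_f L228587) L223837 L230794
theorem L230804 : sm gg N26015 = N29774 := rfl
theorem L230806 : sm gc N29774 = N28160 := ded_21_1 L222880 L217940 L230804
theorem L230808 : sm gd N29774 = N29422 := ded_24_1 (flp_g L228054) (flp_d L201446) L230804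
theorem L230810 : sm ge N29774 = N28158 := ded_26_1 L222882 (flp_e L217932) L230804
theorem L230812 : sm gb N29774 = N29710 := ded_17_1 (flp_g L230288) (flp_b L200940) L169579 L201444 L230804
theorem L230814 : sm gf N29774 = N28157 := ded_31_1 L218118 (flp_g L217817) (flp_f L217704) (flp_b L188434) L217980 (flp_f L222884) L218076 (flp_g L203071) (flp_f L223801) (flp_b L200892) L169287 L169571 L201444 L230804
theorem L230816 : sm gg N29770 = N26246 := ded_29_3 (flp_a L218116) (flp_f L230814) (flp_g L230804) (flp_f L230778)
theorem L230818 : sm gf N29422 = N29560 := ded_23_2 L229005 (flp_f L230814) L230808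
theorem L230820 : N29554 = N29413 := coi_24_3 (flp_d L230776) L230816 L203083 (flp_g L228972)
theorem L230821 : N29554 = N29413 := eqc rfl L230820 rfl
theorem L230822 : sm gb N29413 = N25796 := trfs L230821 (flp_b L228970) rfl
theorem L230823 : N25796 = N25691 := eqes L230822 (flp_b L228006)
theorem L230824 : N25796 = N25691 := eqc rfl L230823 rfl
theorem L230825 : sm gg N29413 = N25799 := trfs L230821 L228972 rfl
theorem L230827 : sm ga N25691 = N29549 := trfs L230824 (flp_a L228948) rfl
theorem L230828 : N29549 = N29408 := eqes L230827 (flp_a L227982)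
theorem L230829 : N29549 = N29408 := eqc rfl L230828 rfl
theorem L230831 : sm gd N25691 = N26243 := trfs L230824 (flp_d L203063) rfl
theorem L230832 : N26243 = N26011 := eqes L230831 (flp_d L201422)
theorem L230833 : N26243 = N26011 := eqc rfl L230832 rfl
theorem L230834 : sm ge N25691 = N29552 := trfs L230824 (flp_e L228963) rfl
theorem L230835 : N29552 = N29411 := eqes L230834 (flp_e L227999)
theorem L230836 : N29552 = N29411 := eqc rfl L230835 rfl
theorem L230840 : sm gg N25691 = N21461 := trfs L230824 (flp_g L199878) rfl
theorem L230841 : N21461 = N29414 := eqes L230840 L228010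
theorem L230842 : N29414 = N21461 := (eqc rfl L230841 rfl).symm
theorem L230843 : sm ga N21461 = N29415 := trfs L230842 (flp_a L228017) rfl
theorem L230844 : N29415 = N25793 := eqes L230843 L199867
theorem L230845 : N29415 = N25793 := eqc rfl L230844 rfl
theorem L230847 : sm gd N21461 = N29771 := trfs L230842 (flp_d L230782) rfl
theorem L230848 : N29771 = N21766 := eqes L230847 (flp_d L170578)
theorem L230849 : N29771 = N21766 := eqc rfl L230848 rfl
theorem L230850 : sm gf N21461 = N29409 := trfs L230842 (flp_f L228013) rfl
theorem L230851 : N29409 = N25795 := eqes L230850 L199875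
theorem L230852 : N29409 = N25795 := eqc rfl L230851 rfl
theorem L230853 : sm gg N21461 = N25691 := trfs L230842 (flp_g L228010) rfl
theorem L230855 : sm ga N25795 = N25692 := trfs L230852 L227989 rfl
theorem L230856 : N25692 = N29548 := eqes L230855 (flp_a L228943)
theorem L230857 : N29548 = N25692 := (eqc rfl L230856 rfl).symm
theorem L230859 : sm gd N25795 = N29767 := trfs L230852 (flp_d L230760) rfl
theorem L230860 : N29767 = N26242 := eqes L230859 (flp_d L203059)
theorem L230861 : N29767 = N26242 := eqc rfl L230860 rfl
theorem L230862 : sm gg N25795 = N25689 := trfs L230852 (flp_g L227987) rfl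
theorem L230863 : N25689 = N29553 := eqes L230862 L228965
theorem L230864 : N29553 = N25689 := (eqc rfl L230863 rfl).symm
theorem L230868 : sm gg N25689 = N25795 := trfs L230864 (flp_g L228965) rfl
theorem L230870 : sm ga N26242 = N26012 := trfs L230861 L230758 rfl
theorem L230873 : sm gg N26242 = N26009 := trfs L230861 (flp_g L230756) rfl
theorem L230875 : sm ga N25692 = N25795 := trfs L230857 L228943 rfl
theorem L230881 : sm ga N21766 = N29772 := trfs L230849 (flp_a L230788) rfl
theorem L230882 : N29772 = N26240 := eqes L230881 L203049
theorem L230883 : N29772 = N26240 := eqc rfl L230882 rfl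
theorem L230887 : sm gf N26240 = N26012 := trfs L230883 (flp_f L230786) rfl
theorem L230889 : sm gg N26240 = N29766 := trfs L230883 L230792 rfl
theorem L230892 : sm gf N25793 = N25692 := trfs L230845 (flp_f L228015) rfl
theorem L230898 : sm gg N29411 = N25794 := trfs L230836 (flp_g L228960) rfl
theorem L230900 : sm gg N26011 = N21766 := trfs L230833 (flp_g L203061) rfl
theorem L230903 : sm gg N29408 = N25793 := trfs L230829 (flp_g L228946) rfl
theorem L230905 : sm ga N29562 = N29422 := ded_11_3 L230818 (flp_a L229003) L229013
theorem L230907 : sm gg N29562 = N29420 := ded_29_3 (flp_a L228044) (flp_f L228008) L230825 L229013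
theorem L230909 : sm gg N29551 = N29407 := ded_26_2 (flp_e L227975) L230868 (flp_e L228958)
theorem L230911 : sm ga N26277 = N26046 := ded_10_3 L223839 L230870 L223841
theorem L230913 : sm gg N29765 = N26046 := ded_26_2 L223839 L230873 L230745
theorem L230915 : sm gg N29764 = N26042 := ded_17_2 (flp_b L201590) L201594 (flp_b L223831) L230873 L230740
theorem L230917 : sm gg N26181 = N29699 := ded_31_6 (flp_f L230226) L200912 L169313 L169647 L201590 (flp_g L230915) L230744 (flp_b L230740) (flp_g L230873) (flp_f L203057) (flp_b L170576) L170586 L170594 L202587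
theorem L230919 : sm gg N26241 = N29769 := ded_31_9 (flp_f L230770) L201418 (flp_g L200902) L201602 (flp_b L223831) L230873 L230749 L230755 (flp_g L230889) L230887 (flp_b L223825) (flp_g L223803) L223801 (flp_b L203055)
theorem L230921 : sm ga N29551 = N29412 := ded_10_3 L228004 L230875 (flp_e L228958)
theorem L230923 : sm gf N29412 = N29547 := ded_25_2 (flp_e L228936) L230892 (flp_e L228004)
theorem L230925 : sm gg N26230 = N29752 := ded_21_2 L230662 L230900 (flp_c L202997)
theorem L230927 : sm gg N29546 = N29546 := ded_17_2 (flp_b L228934) (flp_g L230903) L227985 L230903 L228934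
theorem L230928 : sm ga N29360 = N29500 := ded_8_3 (flp_c L229015) L230905 L228056
theorem L230930 : sm gc N29420 = N29768 := ded_21_1 L230766 (flp_c L229015) L230907
theorem L230932 : sm gd N29421 = N29765 := ded_24_3 L230913 (flp_d L227692) L228052
theorem L230934 : sm gb N26045 = N29765 := ded_17_5 L230913 (flp_b L201608) (flp_g L169655) L169653 L201606
theorem L230936 : sm gb N26180 = N29702 := ded_31_5 (flp_g L230244) (flp_f L200914) (flp_b L169299) L117283 L117469 L169653 L201606 L216917 L230934 L230913 (flp_f L223823) L203055 L203071 L203079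
theorem L230938 : sm gc N29468 = N29764 := ded_21_3 L230915 (flp_c L223040) (flp_g L228371)
theorem L230940 : sm ge N26045 = N29764 := ded_26_3 L230915 L201592 L201606
theorem L230942 : sm gd N29699 = N29494 := ded_24_1 L229027 L229021 L230917
theorem L230944 : sm ge N29702 = N26181 := ded_26_3 L230917 L230228 L230244
theorem L230946 : sm gb N29699 = N26177 := ded_17_1 (flp_g L202567) (flp_b L170298) L170314 L202587 L230917
theorem L230948 : sm ga N29768 = N29421 := ded_12_3 (flp_g L228052) L230928 (flp_g L230766)
theorem L230950 : sm gb N29694 = N28138 := ded_16_3 (flp_f L222884) L218076 L203079 L230936 (flp_f L230246)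
theorem L230952 : sm gg N29701 = N26175 := ded_17_4 L202559 L202581 L230936 (flp_g L230244) L230238
theorem L230954 : sm gf N29494 = N29698 := ded_23_2 (flp_d L230222) L230226 L230942
theorem L230956 : sm ge N26177 = N29701 := ded_15_2 (flp_b L230238) (flp_e L230228) L230946
theorem L230958 : sm gf N26177 = N29707 := ded_16_2 (flp_b L230278) (flp_f L200934) (flp_b L200912) L230226 L230946
theorem L230960 : sm gb N29705 = N29526 := ded_7_6 L228790 L201534 (flp_a L201430) (flp_b L230764) L230948 L228050 (flp_a L199532) L228381 (flp_a L230268)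
theorem L230962 : N28097 = N29690 := coi_17_5 (flp_b L230184) L230198 L230950 (flp_g L217980) L188434 L217708
theorem L230963 : N29690 = N28097 := (eqc rfl L230962 rfl).symm
theorem L230964 : sm gb N28097 = N25938 := trfs L230963 (flp_b L230184) rfl
theorem L230966 : sm gc N29698 = N29496 := ded_20_1 (flp_f L228573) L228565 L230954
theorem L230968 : sm gg N26016 = N29775 := rfl
theorem L230970 : sm gc N29775 = N26017 := ded_21_1 (flp_g L201454) L201448 L230968
theorem L230972 : sm gd N29775 = N29198 := ded_24_1 L226467 L201452 L230968
theorem L230974 : sm ge N29775 = N29199 := ded_26_1 L226473 (flp_e L201450) L230968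
theorem L230976 : sm gf N26017 = N29776 := rfl
theorem L230978 : sm ga N29776 = N29763 := ded_11_1 (flp_f L230738) L210047 L230976
theorem L230980 : sm gd N29776 = N26019 := ded_23_1 (flp_f L201468) (flp_d L201456) L230976
theorem L230982 : sm ge N29776 = N27106 := ded_25_1 (flp_f L210031) L210029 L230976
theorem L230984 : sm gg N29776 = N27105 := ded_29_3 L209967 L201390 L201454 L230976
theorem L230986 : sm gb N29776 = N27892 := ded_16_1 L220474 (flp_b L230356) (flp_f L230348) (flp_b L201458) L230976
theorem L230988 : sm gb N26020 = N29777 := rfl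
theorem L230990 : sm gd N29777 = N28958 := ded_14_2 (flp_b L225373) L225369 L230988
theorem L230992 : sm gc N29777 = N28351 := ded_13_2 L219789 (flp_c L201466) L201462 L201480 L230988
theorem L230994 : sm gf N29777 = N26113 := ded_16_2 (flp_b L202078) (flp_f L201850) (flp_b L230592) L230588 L230988
theorem L230996 : sm gg N29777 = N28957 := ded_17_2 L224931 (flp_g L197301) (flp_b L225185) L225183 L230988
theorem L230998 : sm ge N28350 = N29777 := ded_19_0 L230992 (flp_e L219787) L219785
theorem L231000 : sm ge N26020 = N29778 := rfl
theorem L231002 : sm gb N29778 = N28350 := ded_15_1 L230998 (flp_b L230988) L231000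
theorem L231004 : sm gc N29778 = N26021 := ded_19_1 (flp_e L201482) L201480 L231000
theorem L231006 : sm ga N26022 = N29779 := rfl
theorem L231008 : sm gc N29779 = N26633 := ded_8_2 L205903 (flp_c L201490) L231006
theorem L231010 : sm gg N29779 = N26697 := ded_12_2 L206420 L201492 L231006
theorem L231012 : sm ge N26634 = N29779 := ded_19_0 L231008 L205907 L205909
theorem L231014 : sm gd N26022 = N29780 := rfl
theorem L231016 : sm gb N29780 = N26023 := ded_14_1 (flp_d L201494) L201488 L231014
theorem L231018 : sm gg N29780 = N26806 := ded_24_2 (flp_d L207369) L201492 L231014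
theorem L231020 : sm ge N26022 = N29781 := rfl
theorem L231022 : sm ga N29781 = N26634 := ded_10_1 L231012 (flp_a L231006) L231020
theorem L231024 : sm gb N29781 = N26024 := ded_15_1 (flp_e L201498) L201488 L231020
theorem L231026 : sm gc N29781 = N26625 := ded_19_1 L205852 (flp_c L201490) L231020
theorem L231028 : sm gg N29781 = N26670 := ded_26_2 L206198 L201492 L231020
theorem L231030 : sm gd N29705 = N29781 := ded_9_0 L231022 (flp_d L228387) (flp_a L230268)
theorem L231032 : sm gf N26022 = N29782 := rfl
theorem L231034 : sm gc N29782 = N26807 := ded_20_1 (flp_f L207375) (flp_c L201490) L231032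
theorem L231036 : sm ge N26023 = N29783 := rfl
theorem L231038 : sm ga N29783 = N26028 := ded_10_1 (flp_e L201520) (flp_a L201496) L231036
theorem L231040 : sm gf N26023 = N29784 := rfl
theorem L231042 : sm ga N29784 = N26029 := ded_11_1 (flp_f L201524) (flp_a L201496) L231040
theorem L231044 : sm gd N29784 = N26025 := ded_23_1 (flp_f L201504) L201494 L231040
theorem L231046 : sm gg N26023 = N29785 := rfl
theorem L231048 : sm ga N29785 = N26030 := ded_12_1 (flp_g L201528) (flp_a L201496) L231046
theorem L231050 : sm gd N29785 = N26026 := ded_24_1 (flp_g L201510) L201494 L231046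
theorem L231052 : sm gg N26024 = N29786 := rfl
theorem L231054 : sm ga N29786 = N26033 := ded_12_1 (flp_g L201542) (flp_a L201500) L231052
theorem L231056 : sm gc N29786 = N26357 := ded_21_1 (flp_g L203769) (flp_c L201502) L231052
theorem L231058 : sm ge N29786 = N26026 := ded_26_1 (flp_g L201510) L201498 L231052
theorem L231060 : sm gb N26025 = N29787 := rfl
theorem L231062 : sm ge N29787 = N28089 := ded_15_2 (flp_b L228776) (flp_e L228780) L231060
theorem L231064 : sm ga N29787 = N28095 := ded_7_1 (flp_b L217972) L217970 (flp_b L201444) L169573 L169653 (flp_a L216913) (flp_b L201548) (flp_a L201506) L231060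
theorem L231066 : sm gc N28090 = N29787 := ded_30_9 (flp_b L231060) L201506 (flp_f L169623) L117457 (flp_b L96679) L84966 (flp_f L83400) L84964 L96679 L118330 L171029 (flp_c L201508) L231060 L231064 L217831 L217827 L188359 (flp_a L217789) (flp_f L217795)
theorem L231068 : sm gg N28114 = N29787 := ded_29_3 L231064 L217831 (flp_g L217825) L217819
theorem L231070 : sm ge N26027 = N29788 := rfl
theorem L231072 : sm gb N29788 = N29385 := ded_15_1 (flp_e L227851) (flp_b L201518) L231070
theorem L231074 : sm gc N29788 = N26028 := ded_19_1 (flp_e L201520) L201516 L231070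
theorem L231076 : sm gf N26027 = N29789 := rfl
theorem L231078 : sm gc N29789 = N26029 := ded_20_1 (flp_f L201524) L201516 L231076
theorem L231080 : sm gg N26027 = N29790 := rfl
theorem L231082 : sm gc N29790 = N26030 := ded_21_1 (flp_g L201528) L201516 L231080
theorem L231084 : sm gd N26028 = N29791 := rfl
theorem L231086 : sm gb N29791 = N26037 := ded_14_1 (flp_d L201566) (flp_b L201522) L231084
theorem L231088 : sm ge N29791 = N26031 := ded_22_2 (flp_d L201532) (flp_e L169617) L169613 L201520 L231084
theorem L231090 : sm gf N26028 = N29792 := rfl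
theorem L231092 : sm ge N29792 = N26029 := ded_25_1 (flp_f L201524) L201520 L231090
theorem L231094 : sm gg N26028 = N29793 := rfl
theorem L231096 : sm ge N29793 = N26030 := ded_26_1 (flp_g L201528) L201520 L231094
theorem L231098 : sm gg N26029 = N29794 := rfl
theorem L231100 : sm gd N29794 = N26035 := ded_24_1 (flp_g L201552) (flp_d L201526) L231098
theorem L231102 : sm gf N29785 = N29794 := ded_29_0 (flp_g L231098) (flp_f L201524) L201528 (flp_a L231048)
theorem L231104 : sm gb N29794 = N26699 := ded_17_1 L228385 (flp_b L228381) L228407 (flp_b L228417) L231098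
theorem L231106 : sm gf N26030 = N29795 := rfl
theorem L231108 : sm ga N29795 = N29794 := ded_11_1 (flp_f L231102) L231048 L231106
theorem L231110 : sm gd N29795 = N26036 := ded_23_1 (flp_f L201558) (flp_d L201530) L231106
theorem L231112 : sm gg N29795 = N29784 := ded_29_3 L231042 (flp_f L201524) L201528 L231106
theorem L231114 : sm gg N26031 = N29796 := rfl
theorem L231116 : sm gc N29796 = N29532 := ded_21_1 L228830 L228758 L231114
theorem L231118 : sm gd N29796 = N26033 := ded_24_1 (flp_g L201542) L201532 L231114
theorem L231120 : sm gf N29796 = N29527 := ded_29_2 (flp_g L228796) (flp_a L228742) L228746 L231114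
theorem L231122 : sm gb N26032 = N29797 := rfl
theorem L231124 : sm ge N29797 = N26034 := ded_15_2 (flp_b L201548) (flp_e L201540) L231122
theorem L231126 : sm gc N29797 = N29059 := ded_13_2 (flp_b L225631) L203641 (flp_b L171047) (flp_c L201538) L231122
theorem L231128 : sm gf N29797 = N26042 := ded_16_2 (flp_b L201590) (flp_f L169647) (flp_b L169619) L201536 L231122
theorem L231130 : sm ga N29797 = N26042 := ded_7_1 (flp_b L201590) (flp_a L201436) (flp_b L217930) L217928 L188434 (flp_a L217656) (flp_b L228776) L228774 L231122
theorem L231132 : sm gg N26032 = N29798 := rfl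
theorem L231134 : sm gc N29798 = N26360 := ded_21_1 (flp_g L203789) (flp_c L201538) L231132
theorem L231136 : sm ge N29798 = N26035 := ded_26_1 (flp_g L201552) (flp_e L201540) L231132
theorem L231138 : sm gf N29786 = N29798 := ded_29_0 (flp_g L231132) (flp_f L201536) L201542 (flp_a L231054)
theorem L231140 : sm gb N26697 = N29798 := ded_15_3 L231136 (flp_b L206384) (flp_e L206422)
theorem L231142 : sm gf N26033 = N29799 := rfl
theorem L231144 : sm ga N29799 = N29798 := ded_11_1 (flp_f L231138) L231054 L231142
theorem L231146 : sm gc N29799 = N26361 := ded_20_1 (flp_f L203797) (flp_c L201544) L231142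
theorem L231148 : sm gd N29799 = N29527 := ded_23_1 (flp_f L231120) L231118 L231142
theorem L231150 : sm ge N29799 = N26036 := ded_25_1 (flp_f L201558) (flp_e L201546) L231142
theorem L231152 : sm gg N29799 = N29524 := ded_29_3 L228774 (flp_f L201536) L201542 L231142
theorem L231154 : sm gb N26036 = N29800 := rfl
theorem L231156 : sm gg N29800 = N26173 := ded_17_2 (flp_b L217823) L231068 (flp_b L231060) (flp_g L201564) L231154
theorem L231158 : sm ga N26177 = N29800 := ded_12_3 L231156 (flp_a L202551) L202567
theorem L231160 : sm gc N26037 = N29801 := rfl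
theorem L231162 : sm ga N29801 = N29416 := ded_8_1 (flp_c L228022) (flp_a L201568) L231160
theorem L231164 : sm ge N29801 = N26040 := ded_19_2 (flp_c L201584) (flp_e L201570) L231160
theorem L231166 : sm gd N29556 = N29801 := ded_28_1 (flp_c L231160) (flp_d L201566) L169635 (flp_d L168620) (flp_c L170650) L203203 L203205 L228981
theorem L231168 : sm gf N26037 = N29802 := rfl
theorem L231170 : sm ga N29802 = N29417 := ded_11_1 (flp_f L228026) (flp_a L201568) L231168
theorem L231172 : sm gd N29802 = N26038 := ded_23_1 (flp_f L201572) L201566 L231168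
theorem L231174 : sm ge N29802 = N26041 := ded_25_1 (flp_f L201586) (flp_e L201570) L231168
theorem L231176 : sm gb N26038 = N29803 := rfl
theorem L231178 : sm ge N29803 = N26039 := ded_15_2 (flp_b L201580) (flp_e L201578) L231176
theorem L231180 : sm gc N29425 = N29803 := ded_19_3 L231178 (flp_c L227430) (flp_e L228077)
theorem L231182 : sm gg N29424 = N29803 := ded_26_0 L231178 L227436 (flp_e L228072)
theorem L231184 : sm gb N26040 = N29804 := rfl
theorem L231186 : sm gc N29804 = N29382 := ded_13_2 (flp_b L228762) L228758 L201534 L201584 L231184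
theorem L231188 : sm ga N29386 = N29804 := ded_8_3 L231186 L227827 (flp_c L227857)
theorem L231190 : sm gf N29380 = N29804 := ded_20_0 L231186 (flp_f L227825) L227813
theorem L231192 : sm gf N26040 = N29805 := rfl
theorem L231194 : sm gc N29805 = N26041 := ded_20_1 (flp_f L201586) L201584 L231192
theorem L231196 : sm gb N26041 = N29806 := rfl
theorem L231198 : sm gd N29806 = N26042 := ded_14_2 (flp_b L201590) (flp_d L201588) L231196
theorem L231200 : sm gg N29806 = N29406 := ded_17_2 (flp_b L227973) L230868 (flp_b L228593) (flp_g L228591) L231196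
theorem L231202 : sm gc N26046 = N29807 := rfl
theorem L231204 : sm gb N29807 = N26049 := ded_13_1 (flp_c L201620) (flp_b L169673) (flp_c L169659) L201608 L231202
theorem L231206 : sm ga N26047 = N29808 := rfl
theorem L231208 : sm gd N29808 = N26702 := ded_9_2 (flp_a L206456) (flp_d L201612) L231206
theorem L231210 : sm ge N29808 = N26048 := ded_10_2 (flp_a L201616) (flp_e L201614) L231206
theorem L231212 : sm gg N29808 = N27314 := ded_12_2 L223060 L223058 L231206
theorem L231214 : sm gb N27310 = N29808 := ded_14_3 L231208 (flp_b L206462) (flp_d L211605)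
theorem L231216 : sm gc N26047 = N29809 := rfl
theorem L231218 : sm ge N29809 = N26049 := ded_19_2 (flp_c L201620) (flp_e L201614) L231216
theorem L231220 : sm gf N26047 = N29810 := rfl
theorem L231222 : sm gd N29810 = N26703 := ded_23_1 (flp_f L206470) (flp_d L201612) L231220
theorem L231224 : sm ge N29810 = N26050 := ded_25_1 (flp_f L201622) (flp_e L201614) L231220
theorem L231226 : sm gb N29810 = N29687 := ded_16_1 (flp_f L230152) L200868 L169671 L201610 L231220
theorem L231228 : sm gc N26048 = N29811 := rfl
theorem L231230 : sm ga N29811 = N26049 := ded_8_1 (flp_c L201620) L201616 L231228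
theorem L231232 : sm gd N27228 = N29811 := ded_28_1 (flp_c L231228) L201618 L201628 L210963 (flp_c L210957) (flp_d L210949) (flp_a L210947) L210951
theorem L231234 : sm gf N26048 = N29812 := rfl
theorem L231236 : sm ga N29812 = N26050 := ded_11_1 (flp_f L201622) L201616 L231234
theorem L231238 : sm gd N29812 = N26052 := ded_23_1 (flp_f L201636) (flp_d L201618) L231234
theorem L231240 : sm gg N28749 = N29812 := ded_29_1 (flp_f L231234) (flp_g L223141) (flp_a L223135) L223149
theorem L231242 : sm gd N26049 = N29813 := rfl
theorem L231244 : sm ga N29813 = N27228 := ded_9_1 L231232 L231230 L231242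
theorem L231246 : sm gc N27227 = N29813 := ded_28_0 (flp_d L231242) (flp_c L201620) L169675 L169681 L180737 (flp_c L180731) (flp_d L180725) L210947
theorem L231248 : sm gf N26049 = N29814 := rfl
theorem L231250 : sm gc N29814 = N26050 := ded_20_1 (flp_f L201622) L201620 L231248
theorem L231252 : sm gg N26050 = N29815 := rfl
theorem L231254 : sm ga N29815 = N28749 := ded_12_1 L231240 L231236 L231252
theorem L231256 : sm gd N29815 = N26054 := ded_24_1 (flp_g L201650) (flp_d L201624) L231252
theorem L231258 : sm gf N28747 = N29815 := ded_29_0 (flp_g L231252) (flp_f L201622) (flp_g L193197) L223135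
theorem L231260 : sm gf N26051 = N29816 := rfl
theorem L231262 : sm ga N29816 = N26053 := ded_11_1 (flp_f L201644) (flp_a L201630) L231260
theorem L231264 : sm gc N29816 = N26052 := ded_20_1 (flp_f L201636) L201628 L231260
theorem L231266 : sm ge N29816 = N26706 := ded_25_1 (flp_f L206492) (flp_e L201632) L231260
theorem L231268 : sm gg N28751 = N29816 := ded_29_1 (flp_f L231260) (flp_g L223161) L223157 L223165
theorem L231270 : sm gb N29816 = N29289 := ded_16_1 L227163 L220636 (flp_f L215879) (flp_b L201634) L231260
theorem L231272 : sm gg N26053 = N29817 := rfl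
theorem L231274 : sm ga N29817 = N28751 := ded_12_1 L231268 L231262 L231272
theorem L231276 : sm gc N29817 = N26054 := ded_21_1 (flp_g L201650) (flp_c L201646) L231272
theorem L231278 : sm ge N29817 = N26709 := ded_26_1 (flp_g L206524) (flp_e L201648) L231272
theorem L231280 : sm gf N28750 = N29817 := ded_29_0 (flp_g L231272) (flp_f L201644) (flp_g L193221) (flp_a L223157)
theorem L231282 : sm ga N26058 = N29818 := rfl
theorem L231284 : sm gd N29818 = N26060 := ded_9_2 (flp_a L201714) (flp_d L201696) L231282
theorem L231286 : sm gf N29818 = N26062 := ded_11_2 (flp_a L201728) (flp_f L201698) L231282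
theorem L231288 : sm gb N28065 = N29818 := ded_14_3 L231284 (flp_b L201720) (flp_d L217470)
theorem L231290 : sm gc N29736 = N29818 := ded_20_3 L231286 L212547 (flp_f L230524)
theorem L231292 : sm gc N26058 = N29819 := rfl
theorem L231294 : sm ga N29819 = N29736 := ded_8_1 L231290 (flp_a L231282) L231292
theorem L231296 : sm gf N29819 = N26063 := ded_20_2 (flp_c L201732) (flp_f L201698) L231292
theorem L231298 : sm gg N29819 = N26070 := ded_21_2 (flp_c L230584) L230582 L231292
theorem L231300 : sm gb N29819 = N27100 := ded_13_1 (flp_c L209935) (flp_b L179223) (flp_c L169731) L201694 L231292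
theorem L231302 : sm gd N26071 = N29819 := ded_9_0 L231294 L230520 (flp_a L201788)
theorem L231304 : sm ga N26061 = N29820 := rfl
theorem L231306 : sm gc N29820 = N29739 := ded_8_2 (flp_a L230556) L216751 L231304
theorem L231308 : sm gd N29820 = N26711 := ded_9_2 (flp_a L206544) (flp_d L201724) L231304
theorem L231310 : sm ge N29820 = N26062 := ded_10_2 (flp_a L201728) (flp_e L201726) L231304
theorem L231312 : sm gg N26061 = N29821 := rfl
theorem L231314 : sm gd N29821 = N26713 := ded_24_1 (flp_g L206557) (flp_d L201724) L231312
theorem L231316 : sm ge N29821 = N26064 := ded_26_1 (flp_g L201736) (flp_e L201726) L231312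
theorem L231318 : sm gb N29821 = N29682 := ded_17_1 L230106 (flp_b L214116) (flp_g L183022) L201722 L231312
theorem L231320 : sm gg N26062 = N29822 := rfl
theorem L231322 : sm ga N29822 = N26064 := ded_12_1 (flp_g L201736) L201728 L231320
theorem L231324 : sm gc N29822 = N29740 := ded_21_1 (flp_g L230558) (flp_c L212547) L231320
theorem L231326 : sm gd N29822 = N26069 := ded_24_1 (flp_g L201770) (flp_d L201730) L231320
theorem L231328 : sm gf N29822 = N29742 := ded_29_2 L230582 L231282 L231286 L231320
theorem L231330 : sm gb N28841 = N29822 := ded_31_14 (flp_g L231320) (flp_f L231286) (flp_b L231288) (flp_g L223521) (flp_f L223515) L193467 L184676 (flp_f L212493) (flp_b L222275) L222297 (flp_f L222287) L222277 L222285 (flp_f L223897)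
theorem L231332 : sm gg N26063 = N29823 := rfl
theorem L231334 : sm ga N29823 = N29740 := ded_12_1 (flp_g L230558) L212545 L231332
theorem L231336 : sm gc N29823 = N26064 := ded_21_1 (flp_g L201736) L201732 L231332
theorem L231338 : sm gd N29823 = N29741 := ded_24_1 (flp_g L230566) (flp_d L212543) L231332
theorem L231340 : sm gf N26064 = N29824 := rfl
theorem L231342 : sm ga N29824 = N29742 := ded_11_1 (flp_f L231328) L231322 L231340
theorem L231344 : sm gd N29824 = N26072 := ded_23_1 (flp_f L201796) (flp_d L201738) L231340
theorem L231346 : sm gg N29824 = N29818 := ded_29_3 (flp_a L231282) L201698 L201736 L231340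
theorem L231348 : sm gb N28023 = N29824 := ded_7_0 L231342 L230580 L204101 (flp_b L204095) L171280 L118499 (flp_a L156601) L187943 L217130
theorem L231350 : sm gc N26065 = N29825 := rfl
theorem L231352 : sm ga N29825 = N29688 := ded_8_1 L230164 L202527 L231350
theorem L231354 : sm ge N29825 = N29684 := ded_19_2 L230124 L214120 L231350
theorem L231356 : sm gg N29825 = N29683 := ded_21_2 L230114 L202503 L231350
theorem L231358 : sm gb N29825 = N27354 := ded_13_1 L222543 (flp_b L181891) (flp_c L169767) L201740 L231350
theorem L231360 : sm gd N27367 = N29825 := ded_9_0 L231352 L230166 (flp_a L212007)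
theorem L231362 : sm gf N26065 = N29826 := rfl
theorem L231364 : sm gd N29826 = N26073 := ded_23_1 (flp_f L201808) (flp_d L201742) L231362
theorem L231366 : sm ge N29826 = N29048 := ded_25_1 L225526 L214120 L231362
theorem L231368 : sm gg N26168 = N29826 := ded_29_1 (flp_f L231362) (flp_g L202503) L202499 L202519
theorem L231370 : sm gb N29826 = N28484 := ded_16_1 (flp_f L220788) L191714 L169771 L201740 L231362
theorem L231372 : sm ga N26066 = N29827 := rfl
theorem L231374 : sm gd N29827 = N26074 := ded_9_2 (flp_a L201816) (flp_d L201746) L231372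
theorem L231376 : sm ge N29827 = N27578 := ded_10_2 L213481 (flp_e L201748) L231372
theorem L231378 : sm gf N29827 = N26407 := ded_11_2 (flp_a L204109) (flp_f L201750) L231372
theorem L231380 : sm gc N26066 = N29828 := rfl
theorem L231382 : sm ge N29828 = N27580 := ded_19_2 L213495 (flp_e L201748) L231380
theorem L231384 : sm gf N29828 = N27566 := ded_20_2 (flp_c L213395) (flp_f L201750) L231380
theorem L231386 : sm gb N29828 = N27243 := ded_13_1 (flp_c L211059) (flp_b L180831) (flp_c L169777) L201744 L231380
theorem L231388 : sm gg N26066 = N29829 := rfl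
theorem L231390 : sm gd N29829 = N26076 := ded_24_1 (flp_g L201834) (flp_d L201746) L231388
theorem L231392 : sm ge N29829 = N27581 := ded_26_1 (flp_g L213497) (flp_e L201748) L231388
theorem L231394 : sm gb N29829 = N28631 := ded_17_1 (flp_g L221876) (flp_b L192595) (flp_g L169783) L201744 L231388
theorem L231396 : sm gd N26068 = N29830 := rfl
theorem L231398 : sm ga N29830 = N26070 := ded_9_1 (flp_d L201782) (flp_a L201764) L231396
theorem L231400 : sm gf N29830 = N29823 := ded_23_2 L231338 (flp_f L230574) L231396
theorem L231402 : sm gg N29830 = N29736 := ded_24_2 L230520 L201768 L231396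
theorem L231404 : sm gc N29824 = N29830 := ded_28_0 (flp_d L231396) (flp_c L201762) (flp_d L201730) L212547 L201282 L201294 L230578 (flp_a L231342)
theorem L231406 : sm ge N26070 = N29831 := rfl
theorem L231408 : sm gb N29831 = N26079 := ded_15_1 (flp_e L201852) (flp_b L201784) L231406
theorem L231410 : sm gd N29831 = N26722 := ded_22_1 (flp_e L206633) (flp_d L174002) (flp_e L169791) L201782 L231406
theorem L231412 : sm gb N26071 = N29832 := rfl
theorem L231414 : sm gd N29832 = N27100 := ded_14_2 (flp_b L231300) (flp_d L231302) L231412
theorem L231416 : sm ge N29832 = N26723 := ded_15_2 (flp_b L206639) (flp_e L201792) L231412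
theorem L231418 : sm gc N29832 = N28088 := ded_13_2 L217650 L202434 L173992 (flp_c L201790) L231412
theorem L231420 : sm gf N29832 = N27129 := ded_16_2 L210163 (flp_f L212535) (flp_b L212541) L201794 L231412
theorem L231422 : sm gg N29832 = N26081 := ded_17_2 (flp_b L201866) (flp_g L169823) (flp_b L169793) L201786 L231412
theorem L231424 : sm ga N29832 = N26103 := ded_7_1 (flp_b L202018) L169938 L117715 (flp_a L117733) L169982 L169988 L201245 (flp_a L201788) L231412
theorem L231426 : sm gd N26075 = N29833 := rfl
theorem L231428 : sm ga N29833 = N27342 := ded_9_1 L211829 (flp_a L201826) L231426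
theorem L231430 : sm gb N29833 = N26082 := ded_14_1 (flp_d L201872) (flp_b L201832) L231426
theorem L231432 : sm gf N29833 = N27783 := ded_23_2 (flp_d L215149) (flp_f L201830) L231426
theorem L231434 : sm ge N29833 = N27339 := ded_22_2 (flp_d L211805) L181327 (flp_d L174048) (flp_e L201828) L231426
theorem L231436 : sm gc N26077 = N29834 := rfl
theorem L231438 : sm ga N29834 = N26078 := ded_8_1 (flp_c L201848) (flp_a L201842) L231436
theorem L231440 : sm gf N29834 = N26111 := ded_20_2 (flp_c L202066) (flp_f L201844) L231436
theorem L231442 : sm gg N29834 = N28459 := ded_21_2 (flp_c L220568) (flp_g L201846) L231436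
theorem L231444 : sm gd N29436 = N29834 := ded_28_1 (flp_c L231436) (flp_d L201840) (flp_c L169809) (flp_d L168278) L199343 L228132 L228134 L228140
theorem L231446 : sm ge N26077 = N29835 := rfl
theorem L231448 : sm ga N29835 = N26079 := ded_10_1 (flp_e L201852) (flp_a L201842) L231446
theorem L231450 : sm gb N29835 = N29649 := ded_15_1 L229768 L203921 L231446
theorem L231452 : sm gf N29835 = N26112 := ded_25_2 (flp_e L202072) (flp_f L201844) L231446
theorem L231454 : sm gg N29835 = N28460 := ded_26_2 (flp_e L220572) (flp_g L201846) L231446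
theorem L231456 : sm gd N29835 = N26724 := ded_22_1 (flp_e L206649) (flp_d L174056) (flp_e L169813) L201840 L231446
theorem L231458 : sm gd N26078 = N29836 := rfl
theorem L231460 : sm ga N29836 = N29436 := ded_9_1 L231444 L231438 L231458
theorem L231462 : sm gb N29836 = N28376 := ded_14_1 L230594 L230592 L231458
theorem L231464 : sm gf N29836 = N26114 := ded_23_2 (flp_d L202080) (flp_f L201850) L231458
theorem L231466 : sm gc N29435 = N29836 := ded_28_0 (flp_d L231458) (flp_c L201848) (flp_d L169819) (flp_c L117603) (flp_d L116647) L168286 L199353 (flp_a L228134)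
theorem L231468 : sm gg N28365 = N29836 := ded_29_3 L231460 L228142 L228254 (flp_f L228258)
theorem L231470 : sm ge N29088 = N29836 := ded_15_0 L231462 L219958 (flp_b L225843)
theorem L231472 : sm ge N26078 = N29837 := rfl
theorem L231474 : sm gc N29837 = N26079 := ded_19_1 (flp_e L201852) L201848 L231472
theorem L231476 : sm gf N29837 = N26115 := ded_25_2 (flp_e L202086) (flp_f L201850) L231472
theorem L231478 : sm gg N26078 = N29838 := rfl
theorem L231480 : sm ga N29838 = N28459 := ded_12_1 (flp_g L231442) L231438 L231478
theorem L231482 : sm gc N29838 = N26080 := ded_21_1 (flp_g L201858) L201848 L231478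
theorem L231484 : sm gd N29838 = N28365 := ded_24_1 L231468 (flp_d L231458) L231478
theorem L231486 : sm gf N29604 = N29838 := ded_29_0 (flp_g L231478) L201850 L202090 (flp_a L229368)
theorem L231488 : sm gb N29838 = N28366 := ded_17_1 L219884 (flp_b L219942) (flp_g L230590) L230592 L231478
theorem L231490 : sm gg N26079 = N29839 := rfl
theorem L231492 : sm ga N29839 = N28460 := ded_12_1 (flp_g L231454) L231448 L231490
theorem L231494 : sm gd N29839 = N26726 := ded_24_1 (flp_g L206673) (flp_d L201856) L231490
theorem L231496 : sm ge N29839 = N26080 := ded_26_1 (flp_g L201858) L201852 L231490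
theorem L231498 : sm gf N29605 = N29839 := ded_29_0 (flp_g L231490) L201854 L202094 (flp_a L229376)
theorem L231500 : sm gb N26080 = N29840 := rfl
theorem L231502 : sm gd N29840 = N26081 := ded_14_2 (flp_b L201866) (flp_d L201862) L231500
theorem L231504 : sm gc N29840 = N27101 := ded_13_2 (flp_b L220536) (flp_c L220540) (flp_b L231488) L231482 L231500
theorem L231506 : sm gg N29840 = N27100 := ded_17_2 (flp_b L231300) L231298 L201784 L201858 L231500
theorem L231508 : sm ga N26081 = N29841 := rfl
theorem L231510 : sm gc N29841 = N29603 := ded_8_2 (flp_a L229358) (flp_c L201870) L231508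
theorem L231512 : sm ge N29841 = N26728 := ded_10_2 (flp_a L206691) (flp_e L201868) L231508
theorem L231514 : sm gf N29841 = N29620 := ded_11_2 L229514 L217779 L231508
theorem L231516 : sm gg N29841 = N26103 := ded_12_2 (flp_a L231424) L231422 L231508
theorem L231518 : sm gb N27927 = N29841 := ded_13_5 L231510 (flp_b L229364) (flp_c L216187) (flp_b L187325) L216385
theorem L231520 : sm gc N26082 = N29842 := rfl
theorem L231522 : sm ga N29842 = N28421 := ded_8_1 L220290 (flp_a L201874) L231520
theorem L231524 : sm ge N29842 = N28689 := ded_19_2 L222371 L209687 L231520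
theorem L231526 : sm gg N29842 = N28416 := ded_21_2 (flp_c L220242) (flp_g L201876) L231520
theorem L231528 : sm gc N26083 = N29843 := rfl
theorem L231530 : sm ga N29843 = N26084 := ded_8_1 (flp_c L201887) L201878 L231528
theorem L231532 : sm ge N29843 = N26731 := ded_19_2 (flp_c L206728) (flp_e L201880) L231528
theorem L231534 : sm gf N29843 = N29843 := ded_20_2 (flp_c L231528) L201882 L231528
theorem L231535 : sm gg N29843 = N26102 := ded_21_2 (flp_c L202014) L201885 L231528
theorem L231537 : sm gb N29843 = N27869 := ded_13_1 (flp_c L215956) (flp_b L186411) (flp_c L171114) L201883 L231528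
theorem L231539 : sm gd N26084 = N29844 := rfl
theorem L231541 : sm gb N29844 = N28081 := ded_14_1 L217591 (flp_b L201892) L231539
theorem L231543 : sm gf N29844 = N29844 := ded_23_2 (flp_d L231539) L201891 L231539
theorem L231544 : sm ge N29844 = N28082 := ded_22_2 L217599 L188228 L174150 (flp_e L201889) L231539
theorem L231546 : sm gg N27495 = N29844 := ded_17_0 L231541 L217595 L217378 (flp_g L212943) L212941
theorem L231548 : sm gg N26084 = N29845 := rfl
theorem L231550 : sm ga N29845 = N26102 := ded_12_1 (flp_g L231535) L231530 L231548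
theorem L231552 : sm gc N29845 = N26085 := ded_21_1 (flp_g L201894) L201887 L231548
theorem L231554 : sm gd N29845 = N27495 := ded_24_1 L231546 (flp_d L231539) L231548
theorem L231556 : sm ge N29845 = N26732 := ded_26_1 (flp_g L206739) (flp_e L201889) L231548
theorem L231558 : sm gf N26102 = N29845 := ded_29_0 (flp_g L231548) L201891 L231548 L231550
theorem L231560 : sm gb N29845 = N27494 := ded_17_1 (flp_g L216944) L216946 (flp_g L190071) (flp_b L201892) L231548
theorem L231562 : sm ga N26086 = N29846 := rfl
theorem L231564 : sm gc N29846 = N27792 := ded_8_2 L215253 L214988 L231562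
theorem L231566 : sm gd N29846 = N26733 := ded_9_2 (flp_a L206751) (flp_d L201906) L231562
theorem L231568 : sm ge N29846 = N26087 := ded_10_2 (flp_a L201912) (flp_e L201908) L231562
theorem L231570 : sm gf N29846 = N26094 := ded_11_2 (flp_a L201960) (flp_f L201910) L231562
theorem L231572 : sm gg N29846 = N27791 := ded_12_2 L215241 L209409 L231562
theorem L231574 : sm gb N29846 = N27039 := ded_7_2 (flp_a L209413) (flp_b L178589) L129836 (flp_b L172224) L172221 L178485 L178477 L201904 L231562
theorem L231576 : sm gb N26087 = N29847 := rfl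
theorem L231578 : sm gd N29847 = N26090 := ded_14_2 (flp_b L201926) (flp_d L201914) L231576
theorem L231580 : sm ge N29847 = N27039 := ded_15_2 (flp_b L231574) L231568 L231576
theorem L231582 : sm gf N29847 = N26132 := ded_16_2 (flp_b L209657) (flp_f L209655) (flp_b L201974) (flp_f L201916) L231576
theorem L231584 : sm ga N29847 = N26134 := ded_7_1 L202250 (flp_a L178383) (flp_b L204967) L204965 (flp_b L178896) L130125 L169852 L201912 L231576
theorem L231586 : sm gc N26087 = N29848 := rfl
theorem L231588 : sm ga N29848 = N26088 := ded_8_1 (flp_c L201918) L201912 L231586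
theorem L231590 : sm ge N29848 = N27792 := ded_19_2 (flp_c L231564) L231568 L231586
theorem L231592 : sm gf N29848 = N26097 := ded_20_2 (flp_c L201978) (flp_f L201916) L231586
theorem L231594 : sm gg N29848 = N27613 := ded_21_2 L213717 L202010 L231586
theorem L231596 : sm gd N26088 = N29849 := rfl
theorem L231598 : sm gf N29849 = N26099 := ded_23_2 (flp_d L201998) (flp_f L201920) L231596
theorem L231600 : sm gd N26091 = N29850 := rfl
theorem L231602 : sm ga N29850 = N26092 := ded_9_1 (flp_d L201948) (flp_a L201938) L231600
theorem L231604 : sm gb N29850 = N28098 := ded_14_1 L217716 (flp_b L201946) L231600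
theorem L231606 : sm gf N29850 = N26104 := ded_23_2 (flp_d L202024) (flp_f L201942) L231600
theorem L231608 : sm gg N29850 = N26295 := ded_24_2 L203373 (flp_g L201944) L231600
theorem L231610 : sm ge N29850 = N26297 := ded_22_2 L203389 L170831 L174268 (flp_e L201940) L231600
theorem L231612 : sm gc N26092 = N29851 := rfl
theorem L231614 : sm gf N29851 = N26106 := ded_20_2 (flp_c L202038) (flp_f L201950) L231612
theorem L231616 : sm gb N29851 = N28381 := ded_13_1 L223899 L231330 L231324 L230562 L231612
theorem L231618 : sm gd N29118 = N29851 := ded_14_0 L231616 L219988 L225993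
theorem L231620 : sm ge N28382 = N29851 := ded_15_0 L231616 L219990 L219992
theorem L231622 : sm ge N26092 = N29852 := rfl
theorem L231624 : sm ga N29852 = N26297 := ded_10_1 (flp_e L231610) L231602 L231622
theorem L231626 : sm gc N29852 = N28382 := ded_19_1 L231620 (flp_c L231612) L231622
theorem L231628 : sm gf N29852 = N26107 := ded_25_2 (flp_e L202040) (flp_f L201950) L231622
theorem L231630 : sm gg N29852 = N26206 := ded_26_2 (flp_e L225520) L225518 L231622
theorem L231632 : sm gd N29852 = N26208 := ded_22_1 L202808 (flp_d L174270) (flp_e L169886) L201948 L231622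
theorem L231634 : sm gd N26093 = N29853 := rfl
theorem L231636 : sm ga N29853 = N28445 := ded_9_1 L220446 (flp_a L201954) L231634
theorem L231638 : sm gf N29853 = N27072 := ded_23_2 L209721 (flp_f L201958) L231634
theorem L231640 : sm ge N29853 = N27075 := ded_22_2 L209739 L179049 (flp_d L174286) (flp_e L201956) L231634
theorem L231642 : sm gd N26097 = N29854 := rfl
theorem L231644 : sm ga N29854 = N26099 := ded_9_1 (flp_d L201998) (flp_a L201980) L231642
theorem L231646 : sm gc N26099 = N29855 := rfl
theorem L231648 : sm gg N26099 = N29856 := rfl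
theorem L231650 : sm gd N29856 = N26100 := ded_24_1 (flp_g L202000) L201998 L231648
theorem L231652 : sm gb N26102 = N29857 := rfl
theorem L231654 : sm ge N29857 = N26739 := ded_15_2 (flp_b L206811) (flp_e L202016) L231652
theorem L231656 : sm gc N29857 = N26103 := ded_13_2 (flp_b L202018) (flp_c L169936) L169932 L202014 L231652
theorem L231658 : sm gf N29857 = N27122 := ded_16_2 L210113 L212931 (flp_b L231560) (flp_f L231558) L231652
theorem L231660 : sm gg N29857 = N29603 := ded_17_2 (flp_b L229364) L216193 (flp_b L231537) L231535 L231652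
theorem L231662 : sm ga N29857 = N28088 := ded_7_1 L217650 (flp_a L202432) (flp_b L170240) (flp_a L170234) L187791 (flp_a L212933) (flp_b L231560) L231550 L231652
theorem L231664 : sm gd N29857 = N27123 := ded_28_1 L210121 L179379 L130418 (flp_d L179225) L209935 (flp_d L231414) L231424 (flp_c L231656)
theorem L231666 : sm gd N26102 = N29858 := rfl
theorem L231668 : sm ga N29858 = N27495 := ded_9_1 (flp_d L231554) L231550 L231666
theorem L231670 : sm gb N29858 = N27123 := ded_14_1 (flp_d L231664) (flp_b L231652) L231666
theorem L231672 : sm gf N29858 = N27495 := ded_23_2 (flp_d L231554) (flp_f L231558) L231666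
theorem L231674 : sm gd N26103 = N29859 := rfl
theorem L231676 : sm ga N29859 = N27100 := ded_9_1 (flp_d L231414) L231424 L231674
theorem L231678 : sm gb N29859 = N26104 := ded_14_1 (flp_d L202024) L202018 L231674
theorem L231680 : sm gf N29859 = N27127 := ded_23_2 (flp_d L210147) (flp_f L202022) L231674
theorem L231682 : sm gc N27099 = N29859 := ded_28_0 (flp_d L231674) (flp_c L231656) L231664 L210121 L179379 L130418 (flp_d L179225) L209929
theorem L231684 : sm gc N26104 = N29860 := rfl
theorem L231686 : sm ga N29860 = N26106 := ded_8_1 (flp_c L202038) (flp_a L202026) L231684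
theorem L231688 : sm gd N29855 = N29860 := ded_28_1 (flp_c L231684) (flp_d L202024) (flp_c L169936) (flp_d L169922) L201978 L231642 L231644 L231646
theorem L231690 : sm ge N26104 = N29861 := rfl
theorem L231692 : sm ga N29861 = N26107 := ded_10_1 (flp_e L202040) (flp_a L202026) L231690
theorem L231694 : sm gf N29861 = N26297 := ded_25_2 (flp_e L231610) L231606 L231690
theorem L231696 : sm gd N29861 = N26298 := ded_22_1 L203399 L172837 (flp_e L169940) L202024 L231690
theorem L231698 : sm gg N26104 = N29862 := rfl
theorem L231700 : sm ga N29862 = N26108 := ded_12_1 (flp_g L202046) (flp_a L202026) L231698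
theorem L231702 : sm gd N29862 = N26105 := ded_24_1 (flp_g L202028) L202024 L231698
theorem L231704 : sm gf N29047 = N29862 := ded_29_0 (flp_g L231698) (flp_f L231606) L231608 (flp_a L225514)
theorem L231706 : sm gb N26106 = N29863 := rfl
theorem L231708 : sm gc N29863 = N26113 := ded_13_2 (flp_b L202078) (flp_c L169996) (flp_b L169954) L202038 L231706
theorem L231710 : sm gf N29863 = N28351 := ded_16_2 L219789 L219986 (flp_b L231616) L231614 L231706
theorem L231712 : sm gd N29008 = N29863 := ded_23_3 L231710 L219791 L225275
theorem L231714 : sm ge N28314 = N29863 := ded_25_3 L231710 (flp_e L219787) (flp_f L219538)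
theorem L231716 : sm gg N29863 = N28313 := ded_24_2 L219532 L225271 L231712
theorem L231718 : sm gd N26106 = N29864 := rfl
theorem L231720 : sm ga N29864 = N29855 := ded_9_1 L231688 L231686 L231718
theorem L231722 : sm gb N29864 = N29008 := ded_14_1 L231712 (flp_b L231706) L231718
theorem L231724 : sm gf N29864 = N29118 := ded_23_2 L231618 L231614 L231718
theorem L231726 : sm gc N29854 = N29864 := ded_28_0 (flp_d L231718) (flp_c L202038) (flp_d L169952) (flp_c L117711) (flp_d L117705) L169924 L201998 (flp_a L231644)
theorem L231728 : sm ge N29009 = N29864 := ded_15_0 L231722 L225273 L225277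
theorem L231730 : sm gg N29021 = N29864 := ded_17_0 L231722 (flp_g L225271) L197212 L197287 L225349
theorem L231732 : sm ge N26106 = N29865 := rfl
theorem L231734 : sm gb N29865 = N28314 := ded_15_1 L231714 (flp_b L231706) L231732
theorem L231736 : sm gc N29865 = N26107 := ded_19_1 (flp_e L202040) L202038 L231732
theorem L231738 : sm gf N29865 = N28382 := ded_25_2 L231620 L231614 L231732
theorem L231740 : sm gd N29865 = N28315 := ded_22_1 L219542 (flp_d L225279) L231728 (flp_d L231718) L231732
theorem L231742 : sm gg N28325 = N29865 := ded_17_0 L231734 (flp_g L219534) L190748 L190803 L219612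
theorem L231744 : sm gg N26106 = N29866 := rfl
theorem L231746 : sm gc N29866 = N26108 := ded_21_1 (flp_g L202046) L202038 L231744
theorem L231748 : sm gd N29866 = N29021 := ded_24_1 L231730 (flp_d L231718) L231744
theorem L231750 : sm ge N29866 = N28325 := ded_26_1 L231742 (flp_e L231732) L231744
theorem L231752 : sm gb N29866 = N28324 := ded_17_1 (flp_g L219606) (flp_b L219530) (flp_g L231716) (flp_b L231706) L231744
theorem L231754 : sm ge N26109 = N29867 := rfl
theorem L231756 : sm gb N29867 = N29747 := ded_15_1 L230630 (flp_b L202052) L231754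
theorem L231758 : sm gf N29867 = N28952 := ded_25_2 L224885 (flp_f L202054) L231754
theorem L231760 : sm gg N29867 = N28959 := ded_26_2 L224949 (flp_g L202056) L231754
theorem L231762 : sm gd N29867 = N26741 := ded_22_1 (flp_e L206829) (flp_d L174350) (flp_e L169974) L202050 L231754
theorem L231764 : sm gb N26111 = N29868 := rfl
theorem L231766 : sm gd N29868 = N29454 := ded_14_2 (flp_b L228248) L202070 L231764
theorem L231768 : sm ge N26111 = N29869 := rfl
theorem L231770 : sm ga N29869 = N26115 := ded_10_1 (flp_e L202086) (flp_a L202068) L231768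
theorem L231772 : sm gc N29869 = N26112 := ded_19_1 (flp_e L202072) L202066 L231768
theorem L231774 : sm ga N26113 = N29870 := rfl
theorem L231776 : sm gg N27884 = N29870 := ded_29_3 (flp_a L231774) (flp_f L230994) L230996 L224933
theorem L231778 : sm gd N26113 = N29871 := rfl
theorem L231780 : sm gb N29871 = N26114 := ded_14_1 (flp_d L202080) L202078 L231778
theorem L231782 : sm gf N29871 = N28958 := ded_23_2 (flp_d L230990) L230994 L231778
theorem L231784 : sm gc N29871 = N28958 := ded_28_4 (flp_d L230990) L230992 L219791 (flp_a L225659) L225661 L231712 L231708 L231778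
theorem L231786 : sm gg N29871 = N28339 := ded_31_3 (flp_f L219712) (flp_b L190857) (flp_g L190819) (flp_f L190811) L190807 (flp_g L219546) L219544 (flp_b L191067) L191073 (flp_f L191081) L219876 L231468 L231464 (flp_b L231780)
theorem L231788 : sm ge N26113 = N29872 := rfl
theorem L231790 : sm gb N29872 = N26115 := ded_15_1 (flp_e L202086) L202078 L231788
theorem L231792 : sm gc N29872 = N28314 := ded_19_1 L231714 L231708 L231788
theorem L231794 : sm gf N29872 = N28350 := ded_25_2 L230998 L230994 L231788
theorem L231796 : sm gg N28312 = N29872 := ded_21_0 L231792 (flp_g L219534) L219526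
theorem L231798 : sm gg N26113 = N29873 := rfl
theorem L231800 : sm ga N29873 = N27884 := ded_12_1 L231776 (flp_a L231774) L231798
theorem L231802 : sm gc N29873 = N28313 := ded_21_1 (flp_g L231716) L231708 L231798
theorem L231804 : sm gd N29873 = N28339 := ded_24_1 (flp_g L231786) (flp_d L231778) L231798
theorem L231806 : sm ge N29873 = N28312 := ded_26_1 L231796 (flp_e L231788) L231798
theorem L231808 : sm gf N28338 = N29873 := ded_29_0 (flp_g L231798) (flp_f L230994) L230996 L224929
theorem L231810 : sm gb N28956 = N29873 := ded_7_0 L231800 (flp_b L216083) L187037 L187053 (flp_a L193661) (flp_b L193655) (flp_a L193571) (flp_b L219838) (flp_a L224923)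
theorem L231812 : sm ge N26114 = N29874 := rfl
theorem L231814 : sm ga N29874 = N29455 := ded_10_1 (flp_e L228250) (flp_a L202082) L231812
theorem L231816 : sm gc N29874 = N29453 := ded_19_1 (flp_e L228244) L202084 L231812
theorem L231818 : sm gf N29874 = N29088 := ded_25_2 L231470 L231464 L231812
theorem L231820 : sm gg N29081 = N29874 := ded_12_0 L231814 (flp_g L228262) L225839
theorem L231822 : sm gg N26114 = N29875 := rfl
theorem L231824 : sm ga N29875 = N29456 := ded_12_1 (flp_g L228254) (flp_a L202082) L231822
theorem L231826 : sm gc N29875 = N29297 := ded_21_1 L227216 L202084 L231822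
theorem L231828 : sm gd N29875 = N26116 := ded_24_1 (flp_g L202090) L202080 L231822
theorem L231830 : sm ge N29875 = N29081 := ded_26_1 L231820 (flp_e L231812) L231822
theorem L231832 : sm gb N29875 = N28363 := ded_17_1 L219866 (flp_b L219720) (flp_g L231786) L231780 L231822
theorem L231834 : sm gd N26115 = N29876 := rfl
theorem L231836 : sm gg N26115 = N29877 := rfl
theorem L231838 : sm gc N29877 = N26117 := ded_21_1 (flp_g L202094) (flp_c L202088) L231836
theorem L231840 : sm ge N29877 = N26116 := ded_26_1 (flp_g L202090) L202086 L231836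
theorem L231842 : sm gb N26116 = N29878 := rfl
theorem L231844 : sm gd N29878 = N28363 := ded_14_2 (flp_b L231832) L231828 L231842
theorem L231846 : sm gg N29878 = N28956 := ded_17_2 L231810 (flp_g L231798) (flp_b L202078) L202090 L231842
theorem L231848 : sm gf N28360 = N29878 := ded_23_0 L231844 (flp_f L219858) (flp_d L219842)
theorem L231850 : sm ga N26118 = N29879 := rfl
theorem L231852 : sm gd N29879 = N26119 := ded_9_2 (flp_a L202104) (flp_d L202102) L231850
theorem L231854 : sm ge N29879 = N26311 := ded_10_2 L203477 L203469 L231850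
theorem L231856 : sm gg N29879 = N28059 := ded_12_2 (flp_a L217412) (flp_g L203455) L231850
theorem L231858 : sm gf N29879 = N26309 := ded_29_0 (flp_g L203457) L203447 (flp_g L203455) L231850
theorem L231860 : sm gb N29879 = N26386 := ded_7_2 (flp_a L203973) L203981 (flp_a L229648) (flp_b L230036) L230030 L229272 L200191 L202100 L231850
theorem L231862 : sm gc N26118 = N29880 := rfl
theorem L231864 : sm gf N26118 = N29881 := rfl
theorem L231866 : sm ga N29881 = N26309 := ded_11_1 (flp_f L231858) (flp_a L231850) L231864
theorem L231868 : sm gd N29881 = N26120 := ded_23_1 (flp_f L202116) (flp_d L202102) L231864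
theorem L231870 : sm ge N29881 = N26302 := ded_25_1 L203471 L203469 L231864
theorem L231872 : sm gg N29881 = N26300 := ded_29_3 L203409 L203447 (flp_g L203455) L231864
theorem L231874 : sm gb N29881 = N29596 := ded_16_1 L229296 L220562 L191519 L202100 L231864
theorem L231876 : sm gb N26123 = N29882 := rfl
theorem L231878 : sm gd N29882 = N28840 := ded_14_2 (flp_b L223889) (flp_d L202152) L231876
theorem L231880 : sm ge N29882 = N29161 := ded_15_2 (flp_b L226245) L220816 L231876
theorem L231882 : sm gc N29882 = N29110 := ded_13_2 L229784 L220382 (flp_b L200495) (flp_c L202150) L231876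
theorem L231884 : sm gf N29882 = N29134 := ded_16_2 (flp_b L226079) L197901 (flp_b L170036) L202146 L231876
theorem L231886 : sm ga N28408 = N29882 := ded_10_3 L231880 (flp_a L226231) (flp_e L220194)
theorem L231888 : sm ga N26128 = N29883 := rfl
theorem L231890 : sm gc N29883 = N27771 := ded_8_2 (flp_a L215042) (flp_c L202194) L231888
theorem L231892 : sm gd N29883 = N26750 := ded_9_2 (flp_a L206920) (flp_d L202190) L231888
theorem L231894 : sm ge N29883 = N26132 := ded_10_2 (flp_a L202232) (flp_e L202192) L231888
theorem L231896 : sm gf N29883 = N27039 := ded_11_2 (flp_a L209413) (flp_f L202196) L231888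
theorem L231898 : sm gg N27778 = N29883 := ded_29_3 (flp_a L231888) L202196 (flp_g L184595) L215104
theorem L231900 : sm gb N29883 = N26517 := ded_7_2 (flp_a L204978) L204986 (flp_a L201960) (flp_b L169914) L117695 L117799 L170118 L202188 L231888
theorem L231902 : sm gg N26128 = N29884 := rfl
theorem L231904 : sm ga N29884 = N27778 := ded_12_1 L231898 (flp_a L231888) L231902
theorem L231906 : sm gc N29884 = N27772 := ded_21_1 (flp_g L215046) (flp_c L202194) L231902
theorem L231908 : sm gd N29884 = N26753 := ded_24_1 (flp_g L206942) (flp_d L202190) L231902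
theorem L231910 : sm ge N29884 = N26135 := ded_26_1 (flp_g L202252) (flp_e L202192) L231902
theorem L231912 : sm gf N27776 = N29884 := ded_29_0 (flp_g L231902) L202196 (flp_g L184595) L215080
theorem L231914 : sm ga N26129 = N29885 := rfl
theorem L231916 : sm gc N29885 = N26828 := ded_8_2 L207569 (flp_c L202204) L231914
theorem L231918 : sm gd N29885 = N26605 := ded_9_2 L205673 (flp_d L202200) L231914
theorem L231920 : sm ge N29885 = N26136 := ded_10_2 (flp_a L202258) (flp_e L202202) L231914
theorem L231922 : sm gf N29885 = N26607 := ded_11_2 (flp_a L207545) L207553 L231914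
theorem L231924 : sm gg N29885 = N26130 := ded_12_2 (flp_a L202208) (flp_g L202206) L231914
theorem L231926 : sm gb N29885 = N27776 := ded_7_2 (flp_a L215080) (flp_b L184593) (flp_a L153109) L184597 L203828 (flp_b L203819) L171095 L202198 L231914
theorem L231928 : sm gc N26132 = N29886 := rfl
theorem L231930 : sm ga N29886 = N26133 := ded_8_1 (flp_c L202238) L202232 L231928
theorem L231932 : sm ge N29886 = N27771 := ded_19_2 (flp_c L231890) L231894 L231928
theorem L231934 : sm gg N29886 = N27932 := ded_21_2 (flp_c L216423) L202236 L231928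
theorem L231936 : sm gd N27933 = N29886 := ded_9_0 L231930 (flp_d L219186) L219180
theorem L231938 : sm gf N26133 = N29887 := rfl
theorem L231940 : sm gc N29887 = N26134 := ded_20_1 (flp_f L202244) L202238 L231938
theorem L231942 : sm ge N29887 = N27040 := ded_25_1 L209417 (flp_e L202240) L231938
theorem L231944 : sm gb N29887 = N26848 := ded_16_1 L207720 (flp_b L196598) (flp_f L196596) (flp_b L202242) L231938
theorem L231946 : sm gg N26133 = N29888 := rfl
theorem L231948 : sm ga N29888 = N27932 := ded_12_1 (flp_g L231934) L231930 L231946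
theorem L231950 : sm gc N29888 = N26135 := ded_21_1 (flp_g L202252) L202238 L231946
theorem L231952 : sm gd N29888 = N27931 := ded_24_1 (flp_g L219184) L219186 L231946
theorem L231954 : sm ge N29888 = N27772 := ded_26_1 (flp_g L215046) (flp_e L202240) L231946
theorem L231956 : sm gf N29888 = N28928 := ded_31_1 L224678 L217630 L217626 L213842 L213840 (flp_f L194376) L165057 (flp_g L164143) L164141 (flp_b L165716) L196588 (flp_f L196596) (flp_b L202242) L231946
theorem L231958 : sm gf N26135 = N29889 := rfl
theorem L231960 : sm ga N29889 = N27554 := ded_11_1 L213307 (flp_a L202254) L231958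
theorem L231962 : sm gc N29889 = N28928 := ded_20_1 (flp_f L231956) L231950 L231958
theorem L231964 : sm gd N29889 = N26145 := ded_23_1 (flp_f L202334) (flp_d L202256) L231958
theorem L231966 : sm ge N29889 = N27776 := ded_25_1 L231912 L231910 L231958
theorem L231968 : sm gg N29889 = N29847 := ded_29_3 L231584 (flp_f L202244) L202252 L231958
theorem L231970 : sm gb N29889 = N26136 := ded_31_2 L202262 L202282 L202294 (flp_g L197547) L166943 (flp_b L166939) L166946 (flp_f L166952) L166444 (flp_g L118362) (flp_f L117821) L170140 L202252 L231958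
theorem L231972 : sm gc N26136 = N29890 := rfl
theorem L231974 : sm ga N29890 = N26137 := ded_8_1 (flp_c L202264) L202258 L231972
theorem L231976 : sm ge N29890 = N26828 := ded_19_2 (flp_c L231916) L231920 L231972
theorem L231978 : sm gg N29890 = N26138 := ded_21_2 (flp_c L202272) (flp_g L202262) L231972
theorem L231980 : sm gb N29890 = N28873 := ded_13_1 L224171 (flp_b L224678) (flp_c L231962) L231970 L231972
theorem L231982 : sm gd N26137 = N29891 := rfl
theorem L231984 : sm gb N29891 = N27313 := ded_14_1 L211627 (flp_b L202270) L231982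
theorem L231986 : sm gg N29891 = N26140 := ded_24_2 (flp_d L202296) (flp_g L202268) L231982
theorem L231988 : sm gd N26138 = N29892 := rfl
theorem L231990 : sm ga N29892 = N26140 := ded_9_1 (flp_d L202296) (flp_a L202274) L231988
theorem L231992 : sm gb N29892 = N27497 := ded_14_1 L212953 L202278 L231988
theorem L231994 : sm gf N29892 = N26317 := ded_23_2 L203505 L202280 L231988
theorem L231996 : sm ge N29892 = N26318 := ded_22_2 L203509 L170917 (flp_d L175537) (flp_e L202276) L231988
theorem L231998 : sm gc N26140 = N29893 := rfl
theorem L232000 : sm ge N29893 = N27515 := ded_19_2 (flp_c L224895) L224893 L231998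
theorem L232002 : sm gf N29893 = N27524 := ded_20_2 (flp_c L230610) L230612 L231998
theorem L232004 : sm gd N29893 = N27761 := ded_28_7 L214942 (flp_c L202372) (flp_d L170214) (flp_c L117845) (flp_d L117829) L170154 L202296 L231998
theorem L232006 : sm gb N27514 = N29893 := ded_15_3 L232000 (flp_b L213067) (flp_e L213065)
theorem L232008 : sm gg N26141 = N29894 := rfl
theorem L232010 : sm ga N29894 = N26827 := ded_12_1 (flp_g L207557) (flp_a L202300) L232008
theorem L232012 : sm gc N29894 = N26142 := ded_21_1 (flp_g L202308) (flp_c L202302) L232008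
theorem L232014 : sm ge N29894 = N26650 := ded_26_1 (flp_g L206028) (flp_e L202304) L232008
theorem L232016 : sm gf N29890 = N29894 := ded_29_0 (flp_g L232008) (flp_f L202298) (flp_g L202268) (flp_a L231974)
theorem L232018 : sm gb N29894 = N27042 := ded_17_1 L209433 L206046 (flp_g L206038) L202306 L232008
theorem L232020 : sm gb N26142 = N29895 := rfl
theorem L232022 : sm gd N29895 = N26153 := ded_14_2 (flp_b L202416) (flp_d L202312) L232020
theorem L232024 : sm ge N29895 = N27780 := ded_15_2 L215127 L205699 L232020
theorem L232026 : sm gf N29895 = N26367 := ded_16_2 L203850 L231958 L231970 L202314 L232020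
theorem L232028 : sm gg N29895 = N26365 := ded_17_2 (flp_b L203837) L182503 (flp_b L170160) L202308 L232020
theorem L232030 : sm ga N29895 = N26367 := ded_7_1 L203850 L202254 (flp_b L201922) L169870 (flp_b L169866) (flp_a L166948) L197555 (flp_a L202310) L232020
theorem L232032 : sm gd N26143 = N29896 := rfl
theorem L232034 : sm ga N29896 = N26144 := ded_9_1 (flp_d L202328) (flp_a L202318) L232032
theorem L232036 : sm gb N29896 = N26354 := ded_14_1 L203753 L202326 L232032
theorem L232038 : sm gf N29896 = N26358 := ded_23_2 L203779 (flp_f L202322) L232032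
theorem L232040 : sm gg N29896 = N29853 := ded_24_2 (flp_d L231634) (flp_g L202324) L232032
theorem L232042 : sm ge N29896 = N27121 := ded_22_2 L210105 L179399 L174615 (flp_e L202320) L232032
theorem L232044 : sm gc N26144 = N29897 := rfl
theorem L232046 : sm ge N29897 = N27123 := ded_19_2 L210121 (flp_e L202332) L232044
theorem L232048 : sm gf N29897 = N27119 := ded_20_2 (flp_c L210087) (flp_f L202330) L232044
theorem L232050 : sm gc N26147 = N29898 := rfl
theorem L232052 : sm ge N29898 = N27717 := ded_19_2 L214503 (flp_e L202360) L232050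
theorem L232054 : sm gf N29898 = N27251 := ded_20_2 L211119 (flp_f L202356) L232050
theorem L232056 : sm gg N29898 = N26149 := ded_21_2 (flp_c L202372) (flp_g L202358) L232050
theorem L232058 : sm gb N29898 = N27602 := ded_30_2 L213653 (flp_f L213593) L182707 L182399 (flp_a L182437) L182462 (flp_c L182759) L213623 (flp_a L218872) L218880 L194573 L165692 L114724 (flp_f L113624) (flp_c L164139) (flp_b L195576) L195574 (flp_f L202356) L232050
theorem L232060 : sm gd N26149 = N29899 := rfl
theorem L232062 : sm ga N29899 = N29893 := ded_9_1 L232004 L214942 L232060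
theorem L232064 : sm gb N29899 = N27619 := ded_14_1 L213747 (flp_b L202376) L232060
theorem L232066 : sm gc N29892 = N29899 := ded_28_0 (flp_d L232060) (flp_c L202372) (flp_d L170214) (flp_c L117845) (flp_d L117829) L170154 L202296 (flp_a L231990)
theorem L232068 : sm gc N26154 = N29900 := rfl
theorem L232070 : sm ga N29900 = N26159 := ded_8_1 (flp_c L202458) (flp_a L202428) L232068
theorem L232072 : sm ge N29900 = N27628 := ded_19_2 (flp_c L230530) L230534 L232068
theorem L232074 : sm gg N29900 = N27626 := ded_21_2 L213784 (flp_g L202430) L232068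
theorem L232076 : sm gd N29487 = N29900 := ded_28_1 (flp_c L232068) (flp_d L202426) (flp_c L170232) (flp_d L168464) L199594 L228477 L228479 L228515
theorem L232078 : sm gd N26155 = N29901 := rfl
theorem L232080 : sm ga N29901 = N26156 := ded_9_1 (flp_d L202440) L202432 L232078
theorem L232082 : sm gg N29901 = N29636 := ded_24_2 L229658 L202438 L232078
theorem L232084 : sm gc N26156 = N29902 := rfl
theorem L232086 : sm ge N26156 = N29903 := rfl
theorem L232088 : sm gb N29903 = N26160 := ded_15_1 (flp_e L202460) (flp_b L202442) L232086
theorem L232090 : sm gd N29903 = N26759 := ded_22_1 (flp_e L206998) (flp_d L174785) (flp_e L170242) L202440 L232086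
theorem L232092 : sm gg N29593 = N29903 := ded_17_0 L232088 (flp_g L202466) L202062 (flp_g L200193) (flp_b L229272)
theorem L232094 : sm gf N29675 = N29903 := ded_31_1 L232088 (flp_g L202466) L202064 L201203 L203923 L203969 (flp_b L231860) L231856 (flp_f L217414) L203411 L200835 (flp_f L200825) (flp_b L200801) L230038
theorem L232096 : sm gf N26156 = N29904 := rfl
theorem L232098 : sm gd N29904 = N26157 := ded_23_1 (flp_f L202444) L202440 L232096
theorem L232100 : sm ge N29904 = N29675 := ded_25_1 L232094 (flp_e L232086) L232096
theorem L232102 : sm gg N29904 = N29673 := ded_29_1 (flp_f L230026) (flp_g L232082) L232080 L232096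
theorem L232104 : sm gg N26156 = N29905 := rfl
theorem L232106 : sm ga N29905 = N29636 := ded_12_1 (flp_g L232082) L232080 L232104
theorem L232108 : sm gd N29905 = N26158 := ded_24_1 (flp_g L202450) L202440 L232104
theorem L232110 : sm ge N29905 = N29593 := ded_26_1 L232092 (flp_e L232086) L232104
theorem L232112 : sm gb N29905 = N29605 := ded_17_1 L229378 L202486 (flp_g L202476) (flp_b L202442) L232104
theorem L232114 : sm gb N26157 = N29906 := rfl
theorem L232116 : sm ge N29906 = N26760 := ded_15_2 (flp_b L207008) (flp_e L202448) L232114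
theorem L232118 : sm gc N29906 = N26217 := ded_13_2 (flp_b L202898) L170460 (flp_b L170276) (flp_c L202446) L232114
theorem L232120 : sm gf N29906 = N26163 := ded_16_2 (flp_b L202488) (flp_f L170248) L170240 L202444 L232114
theorem L232122 : sm gg N29906 = N26217 := ded_17_2 (flp_b L202898) (flp_g L173300) (flp_b L205769) L205775 L232114
theorem L232124 : sm ga N29906 = N29906 := ded_7_1 (flp_b L232114) (flp_a L217692) (flp_b L217684) L188257 L156881 (flp_a L188257) L217684 L217692 L232114
theorem L232125 : sm gf N26158 = N29907 := rfl
theorem L232127 : sm ga N29907 = N26615 := ded_11_1 L205773 (flp_a L202452) L232125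
theorem L232129 : sm gc N29907 = N26170 := ded_20_1 (flp_f L202531) (flp_c L202454) L232125
theorem L232131 : sm ge N29907 = N26614 := ded_25_1 L205761 (flp_e L202456) L232125
theorem L232133 : sm gg N29907 = N28093 := ded_29_3 L217692 (flp_f L202444) L202450 L232125
theorem L232135 : sm gb N26159 = N29908 := rfl
theorem L232137 : sm ge N29908 = N29241 := ded_15_2 L226784 L213807 L232135
theorem L232139 : sm gf N29908 = N29908 := ded_16_2 (flp_b L232135) L213795 L213794 (flp_f L213795) L232135
theorem L232140 : sm gd N26159 = N29909 := rfl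
theorem L232142 : sm ga N29909 = N29487 := ded_9_1 L232076 L232070 L232140
theorem L232144 : sm gf N29909 = N28121 := ded_23_2 L217859 (flp_f L213795) L232140
theorem L232146 : sm ge N29909 = N28123 := ded_22_2 (flp_d L218066) L218068 L214274 L213807 L232140
theorem L232148 : sm gc N29482 = N29909 := ded_28_0 (flp_d L232140) (flp_c L202458) (flp_d L170246) (flp_c L117863) (flp_d L116749) L168470 L199610 (flp_a L228479)
theorem L232150 : sm gg N26159 = N29910 := rfl
theorem L232152 : sm ga N29910 = N27626 := ded_12_1 (flp_g L232074) L232070 L232150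
theorem L232154 : sm gc N29910 = N26162 := ded_21_1 (flp_g L202476) L202458 L232150
theorem L232156 : sm ge N29910 = N27624 := ded_26_1 (flp_g L213809) L213807 L232150
theorem L232158 : sm gf N27623 = N29910 := ded_29_0 (flp_g L232150) L213795 (flp_g L213788) (flp_a L213768)
theorem L232160 : sm gb N26161 = N29911 := rfl
theorem L232162 : sm gd N29911 = N26163 := ded_14_2 (flp_b L202488) (flp_d L202470) L232160
theorem L232164 : sm ge N29911 = N29738 := ded_15_2 (flp_b L230540) (flp_e L202472) L232160
theorem L232166 : sm gc N29911 = N29911 := ded_13_2 (flp_b L232160) (flp_c L213790) L213794 L213790 L232160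
theorem L232167 : sm gg N29911 = N26220 := ded_17_2 (flp_b L202927) (flp_g L170488) (flp_b L201223) (flp_g L202474) L232160
theorem L232169 : sm ga N29911 = N29911 := ded_7_1 (flp_b L232160) L216984 (flp_b L216976) L187835 L156512 (flp_a L187835) L216976 (flp_a L216984) L232160
theorem L232170 : sm gf N26164 = N29912 := rfl
theorem L232172 : sm ga N29912 = N26168 := ded_11_1 (flp_f L202519) (flp_a L202499) L232170
theorem L232174 : sm gc N29912 = N27630 := ded_20_1 (flp_f L230116) L230114 L232170
theorem L232176 : sm gd N29912 = N26165 := ded_23_1 (flp_f L202505) L202497 L232170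
theorem L232178 : sm ge N29912 = N29587 := ded_25_1 (flp_f L230100) (flp_e L230104) L232170
theorem L232180 : sm gf N26169 = N29913 := rfl
theorem L232182 : sm ga N29913 = N29826 := ded_11_1 (flp_f L231362) (flp_a L202527) L232180
theorem L232184 : sm gc N29913 = N29041 := ded_20_1 (flp_f L230170) L230164 L232180
theorem L232186 : sm gd N29913 = N26170 := ded_23_1 (flp_f L202531) (flp_d L202529) L232180
theorem L232188 : sm gg N29913 = N29912 := ded_29_3 L232172 (flp_f L202519) L202525 L232180
theorem L232190 : sm gd N26173 = N29914 := rfl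
theorem L232192 : sm ga N29914 = N26174 := ded_9_1 (flp_d L202553) L202551 L232190
theorem L232194 : sm ge N26173 = N29915 := rfl
theorem L232196 : sm ga N29915 = N26175 := ded_10_1 (flp_e L202557) L202551 L232194
theorem L232198 : sm gf N29915 = N29710 := ded_29_0 (flp_g L230288) (flp_f L230242) L230952 (flp_a L232196)
theorem L232200 : sm gf N26173 = N29916 := rfl
theorem L232202 : sm ga N29916 = N26176 := ded_11_1 (flp_f L202561) L202551 L232200
theorem L232204 : sm gc N29916 = N28769 := ded_20_1 (flp_f L224025) L224023 L232200
theorem L232206 : sm ge N29916 = N29710 := ded_25_1 (flp_f L232198) (flp_e L232194) L232200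
theorem L232208 : sm gg N29707 = N29916 := ded_29_1 (flp_f L232200) (flp_g L231156) (flp_a L231158) L230958
theorem L232210 : sm gb N29916 = N28158 := ded_16_1 (flp_f L218122) L188516 L217819 L217823 L232200
theorem L232212 : sm gc N26174 = N29917 := rfl
theorem L232214 : sm gb N29917 = N29494 := ded_13_1 (flp_c L228565) L199638 L170306 (flp_b L202555) L232212
theorem L232216 : sm gd N26177 = N29917 := ded_14_0 L232214 (flp_d L230942) L230946
theorem L232218 : sm gg N26174 = N29917 := ded_17_0 L232214 L229027 (flp_b L229019) L199899 (flp_b L202555)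
theorem L232220 : sm ge N26174 = N29918 := rfl
theorem L232222 : sm gb N29918 = N26178 := ded_15_1 (flp_e L202569) (flp_b L202555) L232220
theorem L232224 : sm gf N26174 = N29919 := rfl
theorem L232226 : sm gd N29919 = N26176 := ded_23_1 (flp_f L202561) L202553 L232224
theorem L232228 : sm gb N29919 = N26260 := ded_16_1 (flp_f L203161) L170630 (flp_f L170304) (flp_b L202555) L232224
theorem L232230 : sm gd N26175 = N29920 := rfl
theorem L232232 : sm gb N29920 = N26179 := ded_14_1 (flp_d L202577) (flp_b L202559) L232230
theorem L232234 : sm gg N29920 = N29352 := ded_24_2 (flp_d L230240) L230952 L232230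
theorem L232236 : sm gc N29355 = N29920 := ded_21_3 L232234 (flp_c L227638) L227650
theorem L232238 : sm gf N26175 = N29921 := rfl
theorem L232240 : sm ga N29921 = N29710 := ded_11_1 (flp_f L232198) L232196 L232238
theorem L232242 : sm gc N29921 = N28767 := ded_20_1 (flp_f L224001) L223999 L232238
theorem L232244 : sm ge N29921 = N26176 := ded_25_1 (flp_f L202561) L202557 L232238
theorem L232246 : sm gg N29921 = N29708 := ded_29_3 (flp_a L230282) (flp_f L230242) L230952 L232238
theorem L232248 : sm gb N29921 = N26263 := ded_16_1 (flp_f L203173) L170634 (flp_f L170312) (flp_b L202559) L232238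
theorem L232250 : sm gg N26176 = N29922 := rfl
theorem L232252 : sm ga N29922 = N29707 := ded_12_1 L232208 L232202 L232250
theorem L232254 : sm gc N29922 = N28770 := ded_21_1 (flp_g L223317) (flp_c L202563) L232250
theorem L232256 : sm ge N29922 = N29708 := ded_26_1 (flp_g L232246) L232244 L232250
theorem L232258 : sm gf N29800 = N29922 := ded_29_0 (flp_g L232250) (flp_f L202561) L202567 L231158
theorem L232260 : sm gb N29922 = N29703 := ded_17_1 L230254 (flp_b L230256) (flp_g L203185) (flp_b L202565) L232250
theorem L232262 : sm gd N26178 = N29923 := rfl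
theorem L232264 : sm ga N29923 = N29356 := ded_9_1 L227664 (flp_a L202571) L232262
theorem L232266 : sm gf N29923 = N26268 := ded_23_2 (flp_d L203203) (flp_f L202575) L232262
theorem L232268 : sm ge N29923 = N26179 := ded_22_2 (flp_d L202577) (flp_e L170308) L170300 L202569 L232262
theorem L232270 : sm gc N26179 = N29924 := rfl
theorem L232272 : sm ga N29924 = N29328 := ded_8_1 L227478 (flp_a L223805) L232270
theorem L232274 : sm gf N29924 = N26271 := ded_20_2 (flp_c L203221) (flp_f L202579) L232270
theorem L232276 : sm gb N29924 = N29387 := ded_13_1 L227863 (flp_b L227656) L232236 L232232 L232270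
theorem L232278 : sm gg N26179 = N29925 := rfl
theorem L232280 : sm ga N29925 = N29357 := ded_12_1 (flp_g L227666) (flp_a L223805) L232278
theorem L232282 : sm gd N29925 = N26180 := ded_24_1 (flp_g L202581) L202577 L232278
theorem L232284 : sm ga N26181 = N29926 := rfl
theorem L232286 : sm ge N29926 = N29703 := ded_10_2 L230250 L230944 L232284
theorem L232288 : sm gf N29926 = N29700 := ded_29_0 (flp_g L230230) L230226 (flp_g L230917) L232284
theorem L232290 : sm gb N29926 = N29708 := ded_7_2 (flp_a L230282) (flp_b L200940) (flp_a L169657) L201608 (flp_a L230911) (flp_b L203245) L170672 L202587 L232284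
theorem L232292 : sm gc N26181 = N29927 := rfl
theorem L232294 : sm gb N29927 = N26184 := ded_13_1 (flp_c L202599) (flp_b L170324) (flp_c L170316) L202587 L232292
theorem L232296 : sm gf N26181 = N29928 := rfl
theorem L232298 : sm ga N29928 = N29700 := ded_11_1 (flp_f L232288) (flp_a L232284) L232296
theorem L232300 : sm gd N29928 = N29503 := ded_23_1 (flp_f L229025) L229021 L232296
theorem L232302 : sm ge N29928 = N29694 := ded_25_1 L230246 L230944 L232296
theorem L232304 : sm gg N29928 = N29692 := ded_29_3 L230192 L230226 (flp_g L230917) L232296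
theorem L232306 : sm ga N26182 = N29929 := rfl
theorem L232308 : sm gd N29929 = N26779 := ded_9_2 (flp_a L207142) (flp_d L202591) L232306
theorem L232310 : sm ge N29929 = N26183 := ded_10_2 (flp_a L202595) (flp_e L202593) L232306
theorem L232312 : sm gg N29929 = N28582 := ded_12_2 (flp_a L224043) L224041 L232306
theorem L232314 : sm gc N28577 = N29929 := ded_21_3 L232312 (flp_c L221498) (flp_g L221468)
theorem L232316 : sm gc N26182 = N29930 := rfl
theorem L232318 : sm ga N29930 = N28577 := ded_8_1 L232314 (flp_a L232306) L232316
theorem L232320 : sm ge N29930 = N26184 := ded_19_2 (flp_c L202599) (flp_e L202593) L232316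
theorem L232322 : sm gg N29930 = N28581 := ded_21_2 L224045 L224041 L232316
theorem L232324 : sm gf N26182 = N29931 := rfl
theorem L232326 : sm gd N29931 = N26780 := ded_23_1 (flp_f L207146) (flp_d L202591) L232324
theorem L232328 : sm ge N29931 = N26185 := ded_25_1 (flp_f L202601) (flp_e L202593) L232324
theorem L232330 : sm gb N29931 = N27086 := ded_16_1 (flp_f L209821) L179115 L170604 L202589 L232324
theorem L232332 : sm gb N26183 = N29932 := rfl
theorem L232334 : sm gd N29932 = N26186 := ded_14_2 (flp_b L202605) (flp_d L202597) L232332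
theorem L232336 : sm gg N29932 = N28028 := ded_17_2 L217168 L217208 L224055 L224053 L232332
theorem L232338 : sm gc N26183 = N29933 := rfl
theorem L232340 : sm ga N29933 = N26184 := ded_8_1 (flp_c L202599) L202595 L232338
theorem L232342 : sm ge N29933 = N28577 := ded_19_2 L232314 L232310 L232338
theorem L232344 : sm gg N29933 = N28580 := ded_21_2 L224057 L224053 L232338
theorem L232346 : sm gb N28575 = N29933 := ded_15_3 L232342 (flp_b L221464) (flp_e L221454)
theorem L232348 : sm gf N26183 = N29934 := rfl
theorem L232350 : sm ga N29934 = N26185 := ded_11_1 (flp_f L202601) L202595 L232348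
theorem L232352 : sm gd N29934 = N26188 := ded_23_1 (flp_f L202623) (flp_d L202597) L232348
theorem L232354 : sm gg N28862 = N29934 := ded_29_1 (flp_f L232348) (flp_g L224053) (flp_a L224047) L224067
theorem L232356 : sm gd N26184 = N29935 := rfl
theorem L232358 : sm gf N26184 = N29936 := rfl
theorem L232360 : sm gc N29936 = N26185 := ded_20_1 (flp_f L202601) L202599 L232358
theorem L232362 : sm gg N26185 = N29937 := rfl
theorem L232364 : sm ga N29937 = N28862 := ded_12_1 L232354 L232350 L232362
theorem L232366 : sm gd N29937 = N26191 := ded_24_1 (flp_g L202655) (flp_d L202603) L232362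
theorem L232368 : sm gf N28860 = N29937 := ded_29_0 (flp_g L232362) (flp_f L202601) (flp_g L193921) L224047
theorem L232370 : sm gb N28503 = N29937 := ded_31_14 (flp_g L232362) (flp_f L202601) (flp_b L170324) (flp_g L117901) L96500 L84897 (flp_g L83368) (flp_f L45485) (flp_b L45337) (flp_g L92673) L110537 L159735 L191792 L220898
theorem L232372 : sm gg N26190 = N29938 := rfl
theorem L232374 : sm ga N29938 = N26286 := ded_12_1 L203305 (flp_a L202645) L232372
theorem L232376 : sm gc N29938 = N26191 := ded_21_1 (flp_g L202655) (flp_c L202647) L232372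
theorem L232378 : sm gd N29938 = N28899 := ded_24_1 L224423 (flp_d L202649) L232372
theorem L232380 : sm ge N29938 = N26783 := ded_26_1 (flp_g L207176) (flp_e L202651) L232372
theorem L232382 : sm gf N27926 = N29938 := ded_29_0 (flp_g L232372) (flp_f L202643) (flp_g L193941) (flp_a L216383)
theorem L232384 : sm gf N26195 = N29939 := rfl
theorem L232386 : sm ga N29939 = N26200 := ded_11_1 (flp_f L202746) (flp_a L202695) L232384
theorem L232388 : sm gc N29939 = N26197 := ded_20_1 (flp_f L202723) L202693 L232384
theorem L232390 : sm gd N29939 = N29515 := ded_23_1 (flp_f L228707) L202701 L232384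
theorem L232392 : sm ge N29939 = N26818 := ded_25_1 (flp_f L207477) L202703 L232384
theorem L232394 : sm gg N29939 = N27520 := ded_29_3 (flp_a L218818) L218824 (flp_g L202697) L232384
theorem L232396 : sm gb N29939 = N28519 := ded_16_1 (flp_f L221064) L191966 L175388 (flp_b L202699) L232384
theorem L232398 : sm gb N26197 = N29940 := rfl
theorem L232400 : sm gd N29940 = N26198 := ded_14_2 (flp_b L202731) (flp_d L202727) L232398
theorem L232402 : sm gc N29940 = N28520 := ded_13_2 (flp_b L221074) (flp_c L221068) (flp_b L232396) L232388 L232398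
theorem L232404 : sm gf N29940 = N28520 := ded_16_2 (flp_b L221074) (flp_f L191978) (flp_b L170368) L202723 L232398
theorem L232406 : sm ga N29940 = N29940 := ded_7_1 (flp_b L232398) L202725 L202758 (flp_a L213836) L213842 L213836 (flp_b L202758) (flp_a L202725) L232398
theorem L232407 : sm gg N26198 = N29941 := rfl
theorem L232409 : sm ga N29941 = N29941 := ded_12_1 (flp_g L232407) L202739 L232407
theorem L232410 : sm gc N29941 = N28521 := ded_21_1 (flp_g L221079) (flp_c L202735) L232407
theorem L232412 : sm ge N29941 = N26784 := ded_26_1 (flp_g L207186) (flp_e L202733) L232407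
theorem L232414 : sm gf N29941 = N28521 := ded_29_0 (flp_g L221079) (flp_f L202737) L232407 L232409
theorem L232416 : sm gb N29941 = N28629 := ded_17_1 L221864 (flp_b L202683) L170378 L202731 L232407
theorem L232418 : sm gf N26199 = N29942 := rfl
theorem L232420 : sm ga N29942 = N29515 := ded_11_1 (flp_f L228707) (flp_a L202742) L232418
theorem L232422 : sm gc N29942 = N29513 := ded_20_1 (flp_f L228693) L202744 L232418
theorem L232424 : sm gd N29942 = N26200 := ded_23_1 (flp_f L202746) L202740 L232418
theorem L232426 : sm gb N26200 = N29943 := rfl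
theorem L232428 : sm ge N29943 = N27720 := ded_15_2 (flp_b L214962) L214958 L232426
theorem L232430 : sm gc N29943 = N27338 := ded_13_2 L211803 L202766 (flp_b L202758) (flp_c L202748) L232426
theorem L232432 : sm gf N29943 = N27521 := ded_16_2 (flp_b L213107) L182377 L183555 L202746 L232426
theorem L232434 : sm gg N29943 = N27337 := ded_17_2 (flp_b L218714) L218720 (flp_b L218820) L218826 L232426
theorem L232436 : sm ga N27325 = N29943 := ded_10_3 L232428 (flp_a L214529) (flp_e L211719)
theorem L232438 : sm gb N26203 = N29944 := rfl
theorem L232440 : sm gd N29944 = N26205 := ded_14_2 (flp_b L202782) (flp_d L202772) L232438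
theorem L232442 : sm ge N29944 = N28196 := ded_15_2 L218460 L215514 L232438
theorem L232444 : sm gc N29944 = N28197 := ded_13_2 L218466 (flp_c L189635) (flp_b L218820) L218822 L232438
theorem L232446 : sm gb N26204 = N29945 := rfl
theorem L232448 : sm ge N29945 = N26785 := ded_15_2 (flp_b L207195) (flp_e L202780) L232446
theorem L232450 : sm gc N29945 = N27909 := ded_13_2 (flp_b L216259) L187187 L187193 (flp_c L202778) L232446
theorem L232452 : sm gg N29945 = N26205 := ded_17_2 (flp_b L202782) (flp_g L170398) L170392 L202776 L232446
theorem L232454 : sm ga N26205 = N29946 := rfl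
theorem L232456 : sm gc N29946 = N29728 := ded_8_2 (flp_a L230440) (flp_c L202786) L232454
theorem L232458 : sm ge N29946 = N26786 := ded_10_2 (flp_a L207201) (flp_e L202784) L232454
theorem L232460 : sm gc N26206 = N29947 := rfl
theorem L232462 : sm ga N29947 = N26294 := ded_8_1 (flp_c L203367) (flp_a L202790) L232460
theorem L232464 : sm gg N29947 = N28382 := ded_21_2 (flp_c L231626) L231630 L232460
theorem L232466 : sm gb N29947 = N27394 := ded_13_1 (flp_c L212211) L181603 L170420 (flp_b L202792) L232460
theorem L232468 : sm gd N29947 = N28385 := ded_28_7 L220014 (flp_c L220232) L230452 (flp_c L230444) (flp_d L201139) (flp_c L170412) L202788 L232460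
theorem L232470 : sm gf N26206 = N29948 := rfl
theorem L232472 : sm ga N29948 = N26296 := ded_11_1 (flp_f L203377) (flp_a L202790) L232470
theorem L232474 : sm gd N29948 = N26207 := ded_23_1 (flp_f L202794) L202788 L232470
theorem L232476 : sm ge N29948 = N29862 := ded_25_1 (flp_f L231704) L225520 L232470
theorem L232478 : sm gg N29948 = N29861 := ded_29_3 L231692 (flp_f L231628) L231630 L232470
theorem L232480 : sm gb N26208 = N29949 := rfl
theorem L232482 : sm ge N29949 = N26647 := ded_15_2 L206008 (flp_e L202808) L232480
theorem L232484 : sm gc N29949 = N27850 := ded_13_2 L215793 (flp_c L216405) (flp_b L216411) (flp_c L202806) L232480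
theorem L232486 : sm gf N29949 = N26722 := ded_16_2 L206635 L174082 (flp_b L174346) (flp_f L202810) L232480
theorem L232488 : sm gg N29949 = N26211 := ded_17_2 (flp_b L202832) (flp_g L170432) L170408 L202802 L232480
theorem L232490 : sm ga N29949 = N27978 := ded_7_1 (flp_b L229140) L229132 L200029 (flp_a L200263) L200271 L188265 (flp_b L170833) (flp_a L202804) L232480
theorem L232492 : sm gb N26209 = N29950 := rfl
theorem L232494 : sm gd N29950 = N26210 := ded_14_2 (flp_b L202824) (flp_d L202818) L232492
theorem L232496 : sm ge N29950 = N29733 := ded_15_2 (flp_b L230488) (flp_e L202820) L232492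
theorem L232498 : sm ga N27870 = N29950 := ded_9_3 L232494 (flp_a L202830) L215962
theorem L232500 : sm gf N26212 = N29951 := rfl
theorem L232502 : sm ga N29951 = N26215 := ded_11_1 (flp_f L202878) (flp_a L202844) L232500
theorem L232504 : sm gc N29951 = N27548 := ded_20_1 (flp_f L213262) L202852 L232500
theorem L232506 : sm gd N29951 = N26213 := ded_23_1 (flp_f L202854) L202842 L232500
theorem L232508 : sm ge N29951 = N28072 := ded_25_1 L217536 (flp_e L202850) L232500
theorem L232510 : sm gg N29951 = N29670 := ded_29_3 L230002 (flp_f L200823) (flp_g L202848) L232500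
theorem L232512 : sm gb N29951 = N28071 := ded_16_1 L217530 (flp_b L217404) (flp_f L203415) (flp_b L202846) L232500
theorem L232514 : sm gb N26215 = N29952 := rfl
theorem L232516 : sm gd N29952 = N26217 := ded_14_2 (flp_b L202898) (flp_d L202882) L232514
theorem L232518 : sm ge N29952 = N29681 := ded_15_2 (flp_b L230088) (flp_e L202884) L232514
theorem L232520 : sm gc N29952 = N29952 := ded_13_2 (flp_b L232514) L202880 L182480 (flp_c L202880) L232514
theorem L232521 : sm gf N29952 = N26220 := ded_16_2 (flp_b L202927) (flp_f L170480) (flp_b L170454) L202878 L232514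
theorem L232523 : sm ga N29952 = N29952 := ded_7_1 (flp_b L232514) (flp_a L232502) L232512 L217524 L188217 (flp_a L217524) (flp_b L232512) L232502 L232514
theorem L232524 : sm gb N26216 = N29953 := rfl
theorem L232526 : sm gd N29953 = N26218 := ded_14_2 (flp_b L202905) (flp_d L202894) L232524
theorem L232528 : sm ge N29953 = N27848 := ded_15_2 L215773 (flp_e L202896) L232524
theorem L232530 : sm gc N29953 = N29574 := ded_13_2 (flp_b L229110) L216922 L213161 (flp_c L202892) L232524
theorem L232532 : sm gg N29953 = N26221 := ded_17_2 (flp_b L202935) (flp_g L170490) (flp_b L170454) L202888 L232524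
theorem L232534 : sm ga N29953 = N29575 := ded_7_1 L229116 (flp_a L229528) L229530 L200343 L168949 (flp_a L168979) (flp_b L200373) (flp_a L202890) L232524
theorem L232536 : sm gf N29590 = N29953 := ded_23_0 L232526 (flp_f L202915) L229242
theorem L232538 : sm ge N26223 = N29954 := rfl
theorem L232540 : sm gf N29954 = N27479 := ded_25_2 L212813 (flp_f L202949) L232538
theorem L232542 : sm gg N29954 = N26252 := ded_26_2 (flp_e L203119) (flp_g L202951) L232538
theorem L232544 : sm gd N29954 = N26787 := ded_22_1 (flp_e L207205) (flp_d L175104) (flp_e L170506) L202947 L232538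
theorem L232546 : sm gf N26224 = N29955 := rfl
theorem L232548 : sm ga N29955 = N26394 := ded_11_1 (flp_f L204007) (flp_a L202955) L232546
theorem L232550 : sm gc N29955 = N27601 := ded_20_1 (flp_f L213645) L202959 L232546
theorem L232552 : sm gd N29955 = N26225 := ded_23_1 (flp_f L202961) L202953 L232546
theorem L232554 : sm gf N26226 = N29956 := rfl
theorem L232556 : sm ga N29956 = N26234 := ded_11_1 (flp_f L203011) (flp_a L202971) L232554
theorem L232558 : sm gd N29956 = N26789 := ded_23_1 (flp_f L207221) (flp_d L202973) L232554
theorem L232560 : sm ge N29956 = N26227 := ded_25_1 (flp_f L202975) L202969 L232554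
theorem L232562 : sm gb N27242 = N29956 := ded_7_0 L232556 (flp_b L230140) L230130 L229218 L222547 (flp_b L181891) L145120 L180831 L211055
theorem L232564 : sm gg N26226 = N29957 := rfl
theorem L232566 : sm ga N29957 = N26235 := ded_12_1 (flp_g L203017) (flp_a L202971) L232564
theorem L232568 : sm gd N29957 = N26477 := ded_24_1 L204573 (flp_d L202973) L232564
theorem L232570 : sm ge N29957 = N26228 := ded_26_1 (flp_g L202981) L202969 L232564
theorem L232572 : sm gb N29957 = N29631 := ded_17_1 L229622 (flp_b L224907) L229918 (flp_b L229928) L232564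
theorem L232574 : sm gb N26227 = N29958 := rfl
theorem L232576 : sm gd N29958 = N26229 := ded_14_2 (flp_b L202989) (flp_d L202979) L232574
theorem L232578 : sm ge N29958 = N27242 := ded_15_2 L232562 L232560 L232574
theorem L232580 : sm ga N27241 = N29958 := ded_9_3 L232576 L202993 (flp_d L211051)
theorem L232582 : sm ga N26230 = N29959 := rfl
theorem L232584 : sm gc N29959 = N26240 := ded_8_2 (flp_a L203049) (flp_c L202997) L232582
theorem L232586 : sm gf N29959 = N29753 := ded_29_0 (flp_g L230664) L230660 (flp_g L230925) L232582
theorem L232588 : sm ge N26230 = N29960 := rfl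
theorem L232590 : sm gb N29960 = N26231 := ded_15_1 (flp_e L202999) L202995 L232588
theorem L232592 : sm gc N29960 = N26241 := ded_19_1 (flp_e L203053) (flp_c L202997) L232588
theorem L232594 : sm gf N29807 = N29960 := ded_20_0 L232592 L223823 L231202
theorem L232596 : sm gf N26230 = N29961 := rfl
theorem L232598 : sm ga N29961 = N29753 := ded_11_1 (flp_f L232586) (flp_a L232582) L232596
theorem L232600 : sm gc N29961 = N26242 := ded_20_1 (flp_f L203057) (flp_c L202997) L232596
theorem L232602 : sm ge N29961 = N29807 := ded_25_1 L232594 (flp_e L232588) L232596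
theorem L232604 : sm gg N29961 = N29750 := ded_29_3 (flp_a L230650) L230660 (flp_g L230925) L232596
theorem L232606 : sm gb N29809 = N29961 := ded_13_5 L232600 L223831 L201598 L201610 L231216
theorem L232608 : sm gd N26231 = N29962 := rfl
theorem L232610 : sm ga N29962 = N26465 := ded_9_1 (flp_d L214200) L214194 L232608
theorem L232612 : sm ge N29962 = N26461 := ded_22_2 (flp_d L204443) (flp_e L183065) (flp_d L183067) L202999 L232608
theorem L232614 : sm gc N29962 = N29153 := ded_32_4 L226189 (flp_d L220182) L220180 (flp_d L210319) L179819 L143463 (flp_d L130430) (flp_c L145572) L145574 (flp_c L144033) L180179 L180181 (flp_c L188087) (flp_d L217436) L217434 L213859 L182965 (flp_c L202892) L202894 L170468 L170562 L170564 L151397 (flp_c L143357) (flp_d L143149) (flp_c L163467) (flp_b L174992) (flp_d L202721) L202717 L175392 L175400 L175404 L175415 (flp_c L177264) L177266 (flp_c L128636) (flp_b L101831) (flp_d L101819) (flp_c L128601) L128603 L102956 L103018 L103020 L103078 L143025 (flp_c L154634) (flp_b L154628) L151046 L154222 (flp_c L179585) L179587 L143031 (flp_b L140993)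 (flp_d L94688) (flp_c L83957) L23561 (flp_c L142549) L142547 L6844 L14005 L14010 (flp_c L6859) (flp_b L6517) (flp_d L6515) (flp_c L3356) (flp_d L3315) L6408 (flp_b L12888) L26833 L85563 L98025 (flp_c L98029) (flp_b L98549) L123253 (flp_d L170546) (flp_c L203001) L232608
theorem L232616 : sm gf N26231 = N29963 := rfl
theorem L232618 : sm gc N29963 = N26234 := ded_20_1 (flp_f L203011) (flp_c L203001) L232616
theorem L232620 : sm ge N29963 = N26232 := ded_25_1 (flp_f L203003) L202999 L232616
theorem L232622 : sm gb N29963 = N29814 := ded_16_1 (flp_f L231248) (flp_b L231204) L232594 L232590 L232616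
theorem L232624 : sm gg N26231 = N29964 := rfl
theorem L232626 : sm gc N29964 = N26235 := ded_21_1 (flp_g L203017) (flp_c L203001) L232624
theorem L232628 : sm ge N29964 = N26233 := ded_26_1 (flp_g L203007) L202999 L232624
theorem L232630 : sm gb N26232 = N29965 := rfl
theorem L232632 : sm ge N29965 = N29814 := ded_15_2 (flp_b L232622) L232620 L232630
theorem L232634 : sm gc N29965 = N29810 := ded_13_2 L231226 L230156 L202523 (flp_c L203005) L232630
theorem L232636 : sm gf N29965 = N29809 := ded_16_2 L232606 (flp_f L232596) (flp_b L202995) L203003 L232630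
theorem L232638 : sm gg N26232 = N29966 := rfl
theorem L232640 : sm ga N29966 = N29197 := ded_12_1 L226457 L214204 L232638
theorem L232642 : sm gc N29966 = N26236 := ded_21_1 (flp_g L203023) (flp_c L203005) L232638
theorem L232644 : sm gd N29966 = N27683 := ded_24_1 L214238 L214178 L232638
theorem L232646 : sm gf N27681 = N29966 := ded_29_0 (flp_g L232638) (flp_f L203003) L203007 (flp_a L214214)
theorem L232648 : sm gb N26233 = N29967 := rfl
theorem L232650 : sm gg N26234 = N29968 := rfl
theorem L232652 : sm gd N29968 = N26792 := ded_24_1 (flp_g L207245) (flp_d L203013) L232650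
theorem L232654 : sm ge N29968 = N26236 := ded_26_1 (flp_g L203023) (flp_e L203015) L232650
theorem L232656 : sm gf N29957 = N29968 := ded_29_0 (flp_g L232650) (flp_f L203011) L203017 (flp_a L232566)
theorem L232658 : sm gb N29968 = N28975 := ded_17_1 L225075 L225522 (flp_g L230138) L230140 L232650
theorem L232660 : sm gf N26235 = N29969 := rfl
theorem L232662 : sm ga N29969 = N29968 := ded_11_1 (flp_f L232656) L232566 L232660
theorem L232664 : sm gd N29969 = N26793 := ded_23_1 (flp_f L207255) (flp_d L203019) L232660
theorem L232666 : sm ge N29969 = N26238 := ded_25_1 (flp_f L203035) (flp_e L203021) L232660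
theorem L232668 : sm gg N29969 = N29956 := ded_29_3 L232556 (flp_f L203011) L203017 L232660
theorem L232670 : sm gb N28213 = N29969 := ded_14_3 L232664 (flp_b L207265) L218604
theorem L232672 : sm gc N26237 = N29970 := rfl
theorem L232674 : sm ge N29970 = N29277 := ded_19_2 L227070 L209757 L232672
theorem L232676 : sm gg N29970 = N26247 := ded_21_2 (flp_c L203085) (flp_g L203033) L232672
theorem L232678 : sm gd N29970 = N29275 := ded_28_7 L227056 L226263 (flp_d L220204) L223625 L223619 L193605 (flp_d L203031) L232672
theorem L232680 : sm gf N26237 = N29971 := rfl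
theorem L232682 : sm gd N29971 = N26239 := ded_23_1 (flp_f L203043) (flp_d L203031) L232680
theorem L232684 : sm ge N29971 = N27090 := ded_25_1 (flp_f L209859) L209757 L232680
theorem L232686 : sm gg N29971 = N27089 := ded_29_3 L209845 (flp_f L203091) (flp_g L203033) L232680
theorem L232688 : sm gb N26240 = N29972 := rfl
theorem L232690 : sm gd N29972 = N29546 := ded_14_2 (flp_b L228934) (flp_d L203051) L232688
theorem L232692 : sm gf N29972 = N26273 := ded_16_2 (flp_b L203227) L203231 L223825 (flp_f L230887) L232688
theorem L232694 : sm gg N29972 = N29972 := ded_17_2 (flp_b L232688) L230889 L230755 (flp_g L230889) L232688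
theorem L232695 : sm gc N29326 = N29972 := ded_20_3 L232692 (flp_c L223475) (flp_f L227465)
theorem L232697 : sm ge N26276 = N29972 := ded_25_3 L232692 L203229 L203243
theorem L232699 : sm ge N26240 = N29973 := rfl
theorem L232701 : sm ga N29973 = N26241 := ded_10_1 (flp_e L203053) L203049 L232699
theorem L232703 : sm gb N29973 = N26276 := ded_15_1 L232697 (flp_b L232688) L232699
theorem L232705 : sm gf N29973 = N26277 := ded_25_2 (flp_e L223841) (flp_f L230887) L232699
theorem L232707 : sm gd N29561 = N29973 := ded_14_0 L232703 L222235 (flp_b L229009)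
theorem L232709 : sm gd N26241 = N29974 := rfl
theorem L232711 : sm ga N29974 = N29561 := ded_9_1 L232707 L232701 L232709
theorem L232713 : sm gb N29974 = N26244 := ded_14_1 (flp_d L203065) (flp_b L203055) L232709
theorem L232715 : sm gf N29974 = N29360 := ded_23_2 L227692 (flp_f L223823) L232709
theorem L232717 : sm ge N29974 = N29550 := ded_22_2 (flp_d L228951) (flp_e L199870) (flp_d L170578) L203053 L232709
theorem L232719 : sm gc N29560 = N29974 := ded_8_0 L232711 (flp_c L229007) L229003
theorem L232721 : sm gg N26244 = N29975 := rfl
theorem L232723 : sm ga N29975 = N26272 := ded_12_1 (flp_g L203223) (flp_a L203067) L232721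
theorem L232725 : sm gc N29975 = N29780 := ded_21_1 L231018 (flp_c L207373) L232721
theorem L232727 : sm gd N29975 = N26245 := ded_24_1 (flp_g L203071) L203065 L232721
theorem L232729 : sm ge N29975 = N29557 := ded_26_1 (flp_g L228985) (flp_e L203069) L232721
theorem L232731 : sm gf N29925 = N29975 := ded_29_0 (flp_g L232721) L223821 L227666 (flp_a L232280)
theorem L232733 : sm gf N26246 = N29976 := rfl
theorem L232735 : sm ga N29976 = N29774 := ded_11_1 L230814 L218116 L232733
theorem L232737 : sm gc N29976 = N28140 := ded_20_1 (flp_f L222876) L218086 L232733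
theorem L232739 : sm gd N29976 = N29562 := ded_23_1 (flp_f L229013) (flp_d L203083) L232733
theorem L232741 : sm ge N29976 = N28138 := ded_25_1 (flp_f L222884) (flp_e L218078) L232733
theorem L232743 : sm gg N29976 = N28136 := ded_29_3 L217970 (flp_f L230778) L230816 L232733
theorem L232745 : sm gb N29976 = N29928 := ded_16_1 (flp_f L232296) (flp_b L202587) (flp_f L170594) L203081 L232733
theorem L232747 : sm gf N26247 = N29977 := rfl
theorem L232749 : sm gc N29977 = N26248 := ded_20_1 (flp_f L203091) L203085 L232747
theorem L232751 : sm gd N29977 = N29253 := ded_23_1 L226878 L203089 L232747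
theorem L232753 : sm ge N29977 = N29254 := ded_25_1 L226884 (flp_e L203087) L232747
theorem L232755 : sm gg N26248 = N29978 := rfl
theorem L232757 : sm ga N29978 = N29971 := ded_12_1 L232686 L209845 L232755
theorem L232759 : sm gd N29978 = N26250 := ded_24_1 (flp_g L203105) (flp_d L203093) L232755
theorem L232761 : sm ge N29978 = N27080 := ded_26_1 L209829 L209827 L232755
theorem L232763 : sm gf N27079 = N29978 := ded_29_0 (flp_g L232755) (flp_f L203091) (flp_g L203033) (flp_a L209765)
theorem L232765 : sm gb N29978 = N27920 := ded_17_1 (flp_g L220904) L232370 (flp_g L232362) (flp_b L203095) L232755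
theorem L232767 : sm ge N26251 = N29979 := rfl
theorem L232769 : sm gb N29979 = N28356 := ded_15_1 (flp_e L229704) L229708 L232767
theorem L232771 : sm gc N29979 = N26252 := ded_19_1 (flp_e L203119) L203117 L232767
theorem L232773 : sm ga N26253 = N29980 := rfl
theorem L232775 : sm gc N29980 = N26671 := ded_8_2 L206204 (flp_c L203127) L232773
theorem L232777 : sm gf N29980 = N26670 := ded_11_2 L206196 L203129 L232773
theorem L232779 : sm gd N29805 = N29980 := ded_28_7 (flp_a L232773) L203127 L173857 L122462 (flp_d L117475) (flp_c L169649) (flp_d L201588) (flp_c L231194)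
theorem L232781 : sm ge N26775 = N29980 := ded_19_0 L232775 L206208 L207118
theorem L232783 : sm gd N26253 = N29981 := rfl
theorem L232785 : sm ga N29981 = N29805 := ded_9_1 L232779 (flp_a L232773) L232783
theorem L232787 : sm gb N29981 = N26254 := ded_14_1 (flp_d L203131) L203125 L232783
theorem L232789 : sm gf N29981 = N26699 := ded_23_2 (flp_d L206434) L203129 L232783
theorem L232791 : sm gc N29773 = N29981 := ded_28_0 (flp_d L232783) L203127 L173857 L122462 (flp_d L117475) (flp_c L169649) (flp_d L201588) (flp_a L230796)
theorem L232793 : sm ge N26253 = N29982 := rfl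
theorem L232795 : sm ga N29982 = N26775 := ded_10_1 L232781 (flp_a L232773) L232793
theorem L232797 : sm gb N29982 = N26255 := ded_15_1 (flp_e L203135) L203125 L232793
theorem L232799 : sm gc N29982 = N26698 := ded_19_1 L206432 (flp_c L203127) L232793
theorem L232801 : sm gf N29982 = N26697 := ded_25_2 L206422 L203129 L232793
theorem L232803 : sm gd N29924 = N29982 := ded_9_0 L232795 (flp_d L227482) (flp_a L232272)
theorem L232805 : sm gg N29782 = N29982 := ded_29_3 L232795 L207120 L201492 L231032
theorem L232807 : sm gg N26253 = N29983 := rfl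
theorem L232809 : sm gc N29983 = N26700 := ded_21_1 (flp_g L206440) (flp_c L203127) L232807
theorem L232811 : sm ge N29983 = N29782 := ded_26_1 L232805 (flp_e L232793) L232807
theorem L232813 : sm gf N29781 = N29983 := ded_29_0 (flp_g L232807) (flp_f L203129) (flp_g L205911) (flp_a L231022)
theorem L232815 : sm ge N26254 = N29984 := rfl
theorem L232817 : sm ga N29984 = N26259 := ded_10_1 (flp_e L203157) (flp_a L203133) L232815
theorem L232819 : sm gf N26254 = N29985 := rfl
theorem L232821 : sm ga N29985 = N26260 := ded_11_1 (flp_f L203161) (flp_a L203133) L232819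
theorem L232823 : sm gd N29985 = N26256 := ded_23_1 (flp_f L203141) L203131 L232819
theorem L232825 : sm gb N29985 = N29785 := ded_16_1 L231102 L231104 (flp_f L232789) L232787 L232819
theorem L232827 : sm gg N26254 = N29986 := rfl
theorem L232829 : sm ga N29986 = N26261 := ded_12_1 (flp_g L203165) (flp_a L203133) L232827
theorem L232831 : sm gd N29986 = N26257 := ded_24_1 (flp_g L203147) L203131 L232827
theorem L232833 : sm gf N26255 = N29987 := rfl
theorem L232835 : sm ga N29987 = N26263 := ded_11_1 (flp_f L203173) (flp_a L203137) L232833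
theorem L232837 : sm gc N29987 = N26432 := ded_20_1 (flp_f L204263) (flp_c L203139) L232833
theorem L232839 : sm ge N29987 = N26256 := ded_25_1 (flp_f L203141) L203135 L232833
theorem L232841 : sm gb N29987 = N29786 := ded_16_1 L231138 (flp_b L231140) (flp_f L232801) L232797 L232833
theorem L232843 : sm gb N26257 = N29988 := rfl
theorem L232845 : sm ge N29988 = N28109 := ded_15_2 (flp_b L227843) (flp_e L227847) L232843
theorem L232847 : sm gf N29988 = N28097 := ded_16_2 L230964 L230194 (flp_b L230256) (flp_f L203189) L232843
theorem L232849 : sm ga N29988 = N28113 := ded_7_1 (flp_b L218118) L218116 (flp_b L203081) L170588 L170668 (flp_a L222230) (flp_b L203191) (flp_a L203149) L232843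
theorem L232851 : sm gc N28099 = N29988 := ded_19_3 L232845 (flp_c L217781) (flp_e L217728)
theorem L232853 : sm ge N26258 = N29989 := rfl
theorem L232855 : sm gb N29989 = N29525 := ded_15_1 (flp_e L228784) (flp_b L203155) L232853
theorem L232857 : sm gc N29989 = N26259 := ded_19_1 (flp_e L203157) L203153 L232853
theorem L232859 : sm gf N26258 = N29990 := rfl
theorem L232861 : sm gc N29990 = N26260 := ded_20_1 (flp_f L203161) L203153 L232859
theorem L232863 : sm gg N26258 = N29991 := rfl
theorem L232865 : sm gc N29991 = N26261 := ded_21_1 (flp_g L203165) L203153 L232863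
theorem L232867 : sm gd N26259 = N29992 := rfl
theorem L232869 : sm gb N29992 = N26268 := ded_14_1 (flp_d L203203) (flp_b L203159) L232867
theorem L232871 : sm ge N29992 = N26262 := ded_22_2 (flp_d L203169) (flp_e L170632) L170628 L203157 L232867
theorem L232873 : sm gf N26259 = N29993 := rfl
theorem L232875 : sm ge N29993 = N26260 := ded_25_1 (flp_f L203161) L203157 L232873
theorem L232877 : sm gg N26259 = N29994 := rfl
theorem L232879 : sm ge N29994 = N26261 := ded_26_1 (flp_g L203165) L203157 L232877
theorem L232881 : sm gg N26260 = N29995 := rfl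
theorem L232883 : sm gd N29995 = N26265 := ded_24_1 (flp_g L203185) (flp_d L203163) L232881
theorem L232885 : sm gf N29986 = N29995 := ded_29_0 (flp_g L232881) (flp_f L203161) L203165 (flp_a L232829)
theorem L232887 : sm gf N26261 = N29996 := rfl
theorem L232889 : sm ga N29996 = N29995 := ded_11_1 (flp_f L232885) L232829 L232887
theorem L232891 : sm gd N29996 = N26267 := ded_23_1 (flp_f L203195) (flp_d L203167) L232887
theorem L232893 : sm gg N29996 = N29985 := ded_29_3 L232821 (flp_f L203161) L203165 L232887
theorem L232895 : sm gb N29996 = N26806 := ded_16_1 L227480 (flp_b L227476) L227500 (flp_b L227510) L232887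
theorem L232897 : sm gf N26262 = N29997 := rfl
theorem L232899 : sm gc N29997 = N29391 := ded_20_1 (flp_f L227885) L227835 L232897
theorem L232901 : sm gd N29997 = N26263 := ded_23_1 (flp_f L203173) L203169 L232897
theorem L232903 : sm gg N29997 = N29386 := ded_29_3 L231188 (flp_f L231190) L227819 L232897
theorem L232905 : sm gg N26263 = N29998 := rfl
theorem L232907 : sm gc N29998 = N26436 := ded_21_1 (flp_g L204293) (flp_c L203175) L232905
theorem L232909 : sm gd N29998 = N29386 := ded_24_1 (flp_g L232903) L232901 L232905
theorem L232911 : sm ge N29998 = N26265 := ded_26_1 (flp_g L203185) (flp_e L203177) L232905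
theorem L232913 : sm gf N29384 = N29998 := ded_29_0 (flp_g L232905) (flp_f L203173) L203179 (flp_a L227841)
theorem L232915 : sm gb N26264 = N29999 := rfl
theorem L232917 : sm ge N29999 = N26266 := ded_15_2 (flp_b L203191) (flp_e L203183) L232915
theorem L232919 : sm gc N29999 = N29070 := ded_13_2 L225719 L204151 (flp_b L171398) (flp_c L203181) L232915
theorem L232921 : sm gg N29999 = N26273 := ded_17_2 (flp_b L203227) (flp_g L170662) (flp_b L170634) L203179 L232915
theorem L232923 : sm ga N29999 = N26273 := ded_7_1 (flp_b L203227) (flp_a L203073) (flp_b L218076) L218074 L188516 (flp_a L217783) (flp_b L227843) L227841 L232915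
theorem L232925 : sm gf N26264 = N30000 := rfl
theorem L232927 : sm ga N30000 = N29998 := ded_11_1 (flp_f L232913) L227841 L232925
theorem L232929 : sm gc N30000 = N26437 := ded_20_1 (flp_f L204301) (flp_c L203181) L232925
theorem L232931 : sm gd N30000 = N29804 := ded_23_1 (flp_f L231190) (flp_d L227817) L232925
theorem L232933 : sm ge N30000 = N26267 := ded_25_1 (flp_f L203195) (flp_e L203183) L232925
theorem L232935 : sm gg N30000 = N29987 := ded_29_3 L232835 (flp_f L203173) L203179 L232925
theorem L232937 : sm gb N26670 = N30000 := ded_30_2 L232927 (flp_f L232913) (flp_c L227845) (flp_b L204279) (flp_a L179419) (flp_f L179227) L209935 (flp_b L231300) L231294 L230524 (flp_c L212547) (flp_b L212609) L212605 (flp_f L204255) L188169 L182673 (flp_a L206204) (flp_f L206202) L206194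
theorem L232939 : sm gc N26268 = N30001 := rfl
theorem L232941 : sm ga N30001 = N29556 := ded_8_1 (flp_c L228981) (flp_a L203205) L232939
theorem L232943 : sm ge N30001 = N26271 := ded_19_2 (flp_c L203221) (flp_e L203207) L232939
theorem L232945 : sm gd N30001 = N29416 := ded_28_7 (flp_a L231162) (flp_c L231160) (flp_d L201566) L169635 (flp_d L168620) (flp_c L170650) L203203 L232939
theorem L232947 : sm gg N26268 = N30002 := rfl
theorem L232949 : sm ga N30002 = N29557 := ded_12_1 (flp_g L228985) (flp_a L203205) L232947
theorem L232951 : sm gd N30002 = N26269 := ded_24_1 (flp_g L203209) L203203 L232947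
theorem L232953 : sm ge N30002 = N26272 := ded_26_1 (flp_g L203223) (flp_e L203207) L232947
theorem L232955 : sm gb N26269 = N30003 := rfl
theorem L232957 : sm ge N30003 = N26270 := ded_15_2 (flp_b L203217) (flp_e L203215) L232955
theorem L232959 : sm gc N29565 = N30003 := ded_19_3 L232957 (flp_c L222218) (flp_e L229042)
theorem L232961 : sm gf N29564 = N30003 := ded_25_0 L232957 L222232 (flp_e L229033)
theorem L232963 : sm gb N26271 = N30004 := rfl
theorem L232965 : sm gd N30004 = N29798 := ded_14_2 (flp_b L231140) (flp_d L206424) L232963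
theorem L232967 : sm gc N30004 = N29523 := ded_13_2 L228770 L227835 L203171 L203221 L232963
theorem L232969 : sm ga N29527 = N30004 := ded_9_3 L232965 (flp_a L231144) L231148
theorem L232971 : sm gg N29520 = N30004 := ded_24_0 L232965 (flp_g L231132) L228744
theorem L232973 : sm gg N26271 = N30005 := rfl
theorem L232975 : sm ga N30005 = N29780 := ded_12_1 L231018 L207371 L232973
theorem L232977 : sm gc N30005 = N26272 := ded_21_1 (flp_g L203223) L203221 L232973
theorem L232979 : sm gd N30005 = N29779 := ded_24_1 L231010 (flp_d L206424) L232973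
theorem L232981 : sm gb N26272 = N30006 := rfl
theorem L232983 : sm gd N30006 = N26273 := ded_14_2 (flp_b L203227) (flp_d L203225) L232981
theorem L232985 : sm gf N30006 = N29546 := ded_16_2 (flp_b L228934) L230892 (flp_b L227672) L227670 L232981
theorem L232987 : sm gc N26277 = N30007 := rfl
theorem L232989 : sm ga N30007 = N29807 := ded_8_1 (flp_c L231202) (flp_a L230911) L232987
theorem L232991 : sm ge N30007 = N29753 := ded_19_2 L230666 L223841 L232987
theorem L232993 : sm gg N30007 = N29751 := ded_21_2 L230658 (flp_g L223833) L232987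
theorem L232995 : sm gb N30007 = N26280 := ded_13_1 (flp_c L203257) (flp_b L170688) (flp_c L170674) L203245 L232987
theorem L232997 : sm ga N26278 = N30008 := rfl
theorem L232999 : sm gd N30008 = N26809 := ded_9_2 (flp_a L207393) (flp_d L203249) L232997
theorem L233001 : sm ge N30008 = N26279 := ded_10_2 (flp_a L203253) (flp_e L203251) L232997
theorem L233003 : sm gf N30008 = N27404 := ded_11_2 L223497 L223495 L232997
theorem L233005 : sm gb N27400 = N30008 := ded_14_3 L232999 (flp_b L207399) (flp_d L212267)
theorem L233007 : sm gc N26278 = N30009 := rfl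
theorem L233009 : sm ge N30009 = N26280 := ded_19_2 (flp_c L203257) (flp_e L203251) L233007
theorem L233011 : sm gb N30009 = N29753 := ded_13_1 L230666 (flp_b L223825) L203235 L203247 L233007
theorem L233013 : sm gg N29758 = N30009 := ded_17_0 L233011 (flp_g L230664) (flp_b L201358) L201370 L230690
theorem L233015 : sm gg N26278 = N30010 := rfl
theorem L233017 : sm gc N30010 = N29758 := ded_21_1 L233013 (flp_c L233007) L233015
theorem L233019 : sm gd N30010 = N26810 := ded_24_1 (flp_g L207407) (flp_d L203249) L233015
theorem L233021 : sm ge N30010 = N26281 := ded_26_1 (flp_g L203259) (flp_e L203251) L233015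
theorem L233023 : sm gb N30010 = N29686 := ded_17_1 (flp_g L230142) L223809 (flp_g L170686) L203247 L233015
theorem L233025 : sm gc N26279 = N30011 := rfl
theorem L233027 : sm ga N30011 = N26280 := ded_8_1 (flp_c L203257) L203253 L233025
theorem L233029 : sm gd N27243 = N30011 := ded_28_1 (flp_c L233025) L203255 L203265 L211071 (flp_c L211065) (flp_d L211057) (flp_a L211055) L211059
theorem L233031 : sm gg N26279 = N30012 := rfl
theorem L233033 : sm ga N30012 = N26281 := ded_12_1 (flp_g L203259) L203253 L233031
theorem L233035 : sm gd N30012 = N26283 := ded_24_1 (flp_g L203273) (flp_d L203255) L233031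
theorem L233037 : sm gf N30012 = N28807 := ded_29_2 (flp_g L223559) L223545 L223551 L233031
theorem L233039 : sm gd N26280 = N30013 := rfl
theorem L233041 : sm ga N30013 = N27243 := ded_9_1 L233029 L233027 L233039
theorem L233043 : sm gc N27242 = N30013 := ded_28_0 (flp_d L233039) (flp_c L203257) L170690 L170696 L180845 (flp_c L180839) (flp_d L180833) L211055
theorem L233045 : sm gg N26280 = N30014 := rfl
theorem L233047 : sm gc N30014 = N26281 := ded_21_1 (flp_g L203259) L203257 L233045
theorem L233049 : sm ge N30014 = N29758 := ded_26_1 L233013 L233009 L233045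
theorem L233051 : sm gb N30014 = N29756 := ded_17_1 (flp_g L230682) (flp_b L230656) (flp_g L232993) L232995 L233045
theorem L233053 : sm gf N26281 = N30015 := rfl
theorem L233055 : sm ga N30015 = N28807 := ded_11_1 (flp_f L233037) L233033 L233053
theorem L233057 : sm gd N30015 = N26285 := ded_23_1 (flp_f L203287) (flp_d L203261) L233053
theorem L233059 : sm gg N30015 = N28805 := ded_29_3 (flp_a L223545) L193501 L203259 L233053
theorem L233061 : sm gg N26282 = N30016 := rfl
theorem L233063 : sm ga N30016 = N26284 := ded_12_1 (flp_g L203281) (flp_a L203267) L233061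
theorem L233065 : sm gc N30016 = N26283 := ded_21_1 (flp_g L203273) L203265 L233061
theorem L233067 : sm ge N30016 = N26813 := ded_26_1 (flp_g L207429) (flp_e L203269) L233061
theorem L233069 : sm gf N30016 = N28809 := ded_29_2 (flp_g L223575) (flp_a L223567) L223571 L233061
theorem L233071 : sm gb N30016 = N29235 := ded_17_1 L226733 L221050 (flp_g L215843) (flp_b L203271) L233061
theorem L233073 : sm gf N26284 = N30017 := rfl
theorem L233075 : sm ga N30017 = N28809 := ded_11_1 (flp_f L233069) L233063 L233073
theorem L233077 : sm gc N30017 = N26285 := ded_20_1 (flp_f L203287) (flp_c L203283) L233073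
theorem L233079 : sm ge N30017 = N26816 := ded_25_1 (flp_f L207461) (flp_e L203285) L233073
theorem L233081 : sm gg N30017 = N28808 := ded_29_3 L223567 L193525 L203281 L233073
theorem L233083 : sm gf N26288 = N30018 := rfl
theorem L233085 : sm ga N30018 = N27752 := ded_11_1 (flp_f L214854) L203328 L233083
theorem L233087 : sm gc N30018 = N28940 := ded_20_1 (flp_f L224772) (flp_c L203325) L233083
theorem L233089 : sm gd N30018 = N26598 := ded_23_1 (flp_f L205621) (flp_d L203321) L233083
theorem L233091 : sm ge N30018 = N26291 := ded_25_1 (flp_f L203346) (flp_e L203323) L233083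
theorem L233093 : sm gg N30018 = N27752 := ded_29_3 (flp_a L233085) (flp_f L233083) L203327 L233083
theorem L233095 : sm gb N30018 = N29652 := ded_16_1 (flp_f L229812) (flp_b L200547) L170764 L203319 L233083
theorem L233097 : sm gf N26290 = N30019 := rfl
theorem L233099 : sm gc N30019 = N26291 := ded_20_1 (flp_f L203346) L203339 L233097
theorem L233101 : sm ge N30019 = N28940 := ded_25_1 (flp_f L224772) (flp_e L203341) L233097
theorem L233103 : sm ge N26294 = N30020 := rfl
theorem L233105 : sm gc N30020 = N26295 := ded_19_1 (flp_e L203369) L203367 L233103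
theorem L233107 : sm gf N30020 = N29866 := ded_25_2 L231750 L219648 L233103
theorem L233109 : sm gg N26294 = N30021 := rfl
theorem L233111 : sm ga N30021 = N28382 := ded_12_1 (flp_g L232464) L232462 L233109
theorem L233113 : sm gc N30021 = N26297 := ded_21_1 (flp_g L203387) L203367 L233109
theorem L233115 : sm gd N30021 = N28384 := ded_24_1 (flp_g L220010) (flp_d L219646) L233109
theorem L233117 : sm gb N28828 = N30021 := ded_13_5 L233113 L203391 (flp_c L217710) L230964 (flp_c L223743)
theorem L233119 : sm gb N26298 = N30022 := rfl
theorem L233121 : sm ge N30022 = N26589 := ded_15_2 (flp_b L205536) (flp_e L203399) L233119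
theorem L233123 : sm gc N30022 = N26593 := ded_13_2 L205574 L172897 (flp_b L172841) (flp_c L203397) L233119
theorem L233125 : sm gf N30022 = N28100 := ded_16_2 (flp_b L217732) (flp_f L188290) (flp_b L170833) L203393 L233119
theorem L233127 : sm gg N30022 = N27900 := ded_17_2 (flp_b L216195) L216203 (flp_b L216213) (flp_g L203401) L233119
theorem L233129 : sm gb N26299 = N30023 := rfl
theorem L233131 : sm gc N30023 = N27546 := ded_13_2 (flp_b L213254) L202852 L202846 L203403 L233129
theorem L233133 : sm ga N29065 = N30023 := ded_8_3 L233131 L214068 (flp_c L225669)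
theorem L233135 : sm ge N26299 = N30024 := rfl
theorem L233137 : sm ga N30024 = N26305 := ded_10_1 (flp_e L203435) (flp_a L203405) L233135
theorem L233139 : sm gc N30024 = N26300 := ded_19_1 (flp_e L203407) L203403 L233135
theorem L233141 : sm gf N26299 = N30025 := rfl
theorem L233143 : sm ga N30025 = N26306 := ded_11_1 (flp_f L203439) (flp_a L203405) L233141
theorem L233145 : sm gc N30025 = N26301 := ded_20_1 (flp_f L203415) L203403 L233141
theorem L233147 : sm gg N26299 = N30026 := rfl
theorem L233149 : sm ga N30026 = N26307 := ded_12_1 (flp_g L203443) (flp_a L203405) L233147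
theorem L233151 : sm gc N30026 = N26302 := ded_21_1 (flp_g L203421) L203403 L233147
theorem L233153 : sm ga N26303 = N30027 := rfl
theorem L233155 : sm gc N30027 = N26312 := ded_8_2 (flp_a L203483) (flp_c L203431) L233153
theorem L233157 : sm gd N26303 = N30028 := rfl
theorem L233159 : sm gb N30028 = N26304 := ded_14_1 (flp_d L203433) L203429 L233157
theorem L233161 : sm gc N27294 = N30028 := ded_28_0 (flp_d L233157) L203431 (flp_d L171419) (flp_c L204327) (flp_d L205073) L205069 (flp_d L211489) L211487
theorem L233163 : sm ge N29019 = N30028 := ded_15_0 L233159 (flp_e L224991) (flp_b L225345)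
theorem L233165 : sm gf N27293 = N30028 := ded_16_0 L233159 (flp_f L219656) (flp_b L219416) (flp_f L190797) (flp_b L211453)
theorem L233167 : sm ge N26303 = N30029 := rfl
theorem L233169 : sm gb N30029 = N26305 := ded_15_1 (flp_e L203435) L203429 L233167
theorem L233171 : sm gc N30029 = N26313 := ded_19_1 (flp_e L203485) (flp_c L203431) L233167
theorem L233173 : sm gf N26303 = N30030 := rfl
theorem L233175 : sm gc N30030 = N26314 := ded_20_1 (flp_f L203489) (flp_c L203431) L233173
theorem L233177 : sm gd N30030 = N27293 := ded_23_1 L233165 (flp_d L233157) L233173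
theorem L233179 : sm gb N30030 = N28323 := ded_16_1 L219604 L219652 (flp_f L203439) L203429 L233173
theorem L233181 : sm gg N27297 = N30030 := ded_24_0 L233177 L211451 L211479
theorem L233183 : sm gg N26304 = N30031 := rfl
theorem L233185 : sm gd N30031 = N26307 := ded_24_1 (flp_g L203443) L203433 L233183
theorem L233187 : sm gb N29079 = N30031 := ded_14_3 L233185 L221680 (flp_d L225787)
theorem L233189 : sm gd N26305 = N30032 := rfl
theorem L233191 : sm gf N26305 = N30033 := rfl
theorem L233193 : sm gc N30033 = N26308 := ded_20_1 (flp_f L203447) (flp_c L203437) L233191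
theorem L233195 : sm ge N30033 = N26306 := ded_25_1 (flp_f L203439) L203435 L233191
theorem L233197 : sm gg N29880 = N30033 := ded_21_0 L233193 (flp_g L203455) L231862
theorem L233199 : sm gg N26305 = N30034 := rfl
theorem L233201 : sm gc N30034 = N26309 := ded_21_1 (flp_g L203457) (flp_c L203437) L233199
theorem L233203 : sm ge N30034 = N26307 := ded_26_1 (flp_g L203443) L203435 L233199
theorem L233205 : sm gg N26306 = N30035 := rfl
theorem L233207 : sm gc N30035 = N26310 := ded_21_1 (flp_g L203465) (flp_c L203441) L233205
theorem L233209 : sm ge N30035 = N29880 := ded_26_1 L233197 L233195 L233205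
theorem L233211 : sm gf N30026 = N30035 := ded_29_0 (flp_g L233205) (flp_f L203439) L203443 (flp_a L233149)
theorem L233213 : sm gf N26307 = N30036 := rfl
theorem L233215 : sm ga N30036 = N30035 := ded_11_1 (flp_f L233211) L233149 L233213
theorem L233217 : sm gc N30036 = N26311 := ded_20_1 (flp_f L203475) (flp_c L203445) L233213
theorem L233219 : sm gg N30036 = N30025 := ded_29_3 L233143 (flp_f L203439) L203443 L233213
theorem L233221 : sm ge N26312 = N30037 := rfl
theorem L233223 : sm ga N30037 = N26313 := ded_10_1 (flp_e L203485) L203483 L233221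
theorem L233225 : sm gd N30037 = N28721 := ded_22_1 L223006 (flp_d L198587) (flp_e L204340) L204338 L233221
theorem L233227 : sm gf N26312 = N30038 := rfl
theorem L233229 : sm ga N30038 = N26314 := ded_11_1 (flp_f L203489) L203483 L233227
theorem L233231 : sm gg N26312 = N30039 := rfl
theorem L233233 : sm ga N30039 = N26315 := ded_12_1 (flp_g L203491) L203483 L233231
theorem L233235 : sm gf N26313 = N30040 := rfl
theorem L233237 : sm ge N30040 = N26314 := ded_25_1 (flp_f L203489) L203485 L233235
theorem L233239 : sm gg N26313 = N30041 := rfl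
theorem L233241 : sm ge N30041 = N26315 := ded_26_1 (flp_g L203491) L203485 L233239
theorem L233243 : sm gb N30041 = N28105 := ded_17_1 (flp_g L217757) L188304 (flp_g L170909) (flp_b L203487) L233239
theorem L233245 : sm gg N26314 = N30042 := rfl
theorem L233247 : sm gc N30042 = N27297 := ded_21_1 L233181 L233175 L233245
theorem L233249 : sm gf N30039 = N30042 := ded_29_0 (flp_g L233245) (flp_f L203489) L203491 (flp_a L233233)
theorem L233251 : sm gf N26315 = N30043 := rfl
theorem L233253 : sm ga N30043 = N30042 := ded_11_1 (flp_f L233249) L233233 L233251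
theorem L233255 : sm gd N30043 = N27471 := ded_23_1 L212767 L204350 L233251
theorem L233257 : sm gg N30043 = N30038 := ded_29_3 L233229 (flp_f L203489) L203491 L233251
theorem L233259 : sm gb N26316 = N30044 := rfl
theorem L233261 : sm gd N30044 = N27082 := ded_14_2 L209795 (flp_d L203499) L233259
theorem L233263 : sm gc N30044 = N26323 := ded_13_2 (flp_b L203547) (flp_c L170925) (flp_b L170913) L203495 L233259
theorem L233265 : sm ga N30044 = N27083 := ded_7_1 L209799 L205903 (flp_b L182311) L182309 L145396 (flp_a L145434) (flp_b L182393) (flp_a L203497) L233259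
theorem L233267 : sm ge N26316 = N30045 := rfl
theorem L233269 : sm ga N30045 = N27524 := ded_10_1 (flp_e L213131) (flp_a L203497) L233267
theorem L233271 : sm gc N30045 = N26317 := ded_19_1 (flp_e L203501) L203495 L233267
theorem L233273 : sm gd N30045 = N27763 := ded_22_1 (flp_e L214964) (flp_d L184438) (flp_e L182389) (flp_d L203499) L233267
theorem L233275 : sm gf N29899 = N30045 := ded_11_0 L233269 (flp_f L232002) (flp_a L232062)
theorem L233277 : sm gf N26316 = N30046 := rfl
theorem L233279 : sm ga N30046 = N27515 := ded_11_1 L213071 (flp_a L203497) L233277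
theorem L233281 : sm gc N30046 = N26318 := ded_20_1 (flp_f L203507) L203495 L233277
theorem L233283 : sm gd N30046 = N27517 := ded_23_1 L213085 (flp_d L203499) L233277
theorem L233285 : sm ge N30046 = N29899 := ded_25_1 L233275 (flp_e L233267) L233277
theorem L233287 : sm gg N26316 = N30047 := rfl
theorem L233289 : sm ga N30047 = N27525 := ded_12_1 (flp_g L213137) (flp_a L203497) L233287
theorem L233291 : sm gc N30047 = N26319 := ded_21_1 (flp_g L203511) L203495 L233287
theorem L233293 : sm gd N30047 = N27523 := ded_24_1 (flp_g L213123) (flp_d L203499) L233287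
theorem L233295 : sm gg N26317 = N30048 := rfl
theorem L233297 : sm gd N30048 = N26827 := ded_24_1 (flp_g L207557) (flp_d L203505) L233295
theorem L233299 : sm ge N30048 = N26319 := ded_26_1 (flp_g L203511) L203501 L233295
theorem L233301 : sm gf N30048 = N29891 := ded_29_2 L231986 (flp_a L231990) L231994 L233295
theorem L233303 : sm gb N28991 = N30048 := ded_31_14 (flp_g L233295) (flp_f L231994) L231992 (flp_g L213001) (flp_f L212995) L182305 (flp_g L145730) L120291 (flp_b L145320) L182197 (flp_f L182205) L212809 L212815 L225171
theorem L233305 : sm gb N26318 = N30049 := rfl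
theorem L233307 : sm gd N30049 = N26320 := ded_14_2 (flp_b L203517) (flp_d L203509) L233305
theorem L233309 : sm ge N30049 = N27497 := ded_15_2 (flp_b L231992) L231996 L233305
theorem L233311 : sm gf N30049 = N26330 := ded_16_2 (flp_b L203591) (flp_f L170935) (flp_b L170913) L203507 L233305
theorem L233313 : sm ga N30049 = N27488 := ded_7_1 (flp_b L212875) (flp_a L184298) (flp_b L193147) (flp_a L216903) (flp_b L222002) L222000 L224889 (flp_a L224899) L233305
theorem L233315 : sm gg N30049 = N29583 := ded_31_3 (flp_f L229178) (flp_b L200047) (flp_g L168750) (flp_f L116919) (flp_b L116891) L168718 L200001 (flp_b L200013) L197085 L197099 L203515 (flp_g L203511) L203507 L233305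
theorem L233317 : sm gg N26318 = N30050 := rfl
theorem L233319 : sm gd N30050 = N26321 := ded_24_1 (flp_g L203529) (flp_d L203509) L233317
theorem L233321 : sm gf N29746 = N30050 := ded_29_0 (flp_g L233317) (flp_f L203507) L203511 (flp_a L230618)
theorem L233323 : sm gb N30050 = N28588 := ded_17_1 L221548 (flp_b L229184) (flp_g L233315) (flp_b L233305) L233317
theorem L233325 : sm gf N26319 = N30051 := rfl
theorem L233327 : sm ga N30051 = N30050 := ded_11_1 (flp_f L233321) L230618 L233325
theorem L233329 : sm gd N30051 = N26322 := ded_23_1 (flp_f L203537) (flp_d L203513) L233325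
theorem L233331 : sm ge N30051 = N29891 := ded_25_1 (flp_f L233301) L233299 L233325
theorem L233333 : sm gg N30051 = N28953 := ded_29_3 (flp_a L224899) (flp_f L203507) L203511 L233325
theorem L233335 : sm gb N30051 = N28875 := ded_16_1 (flp_f L224199) L196921 L197099 L203515 L233325
theorem L233337 : sm ga N26323 = N30052 := rfl
theorem L233339 : sm gc N30052 = N27083 := ded_8_2 (flp_a L233265) L233263 L233337
theorem L233341 : sm gd N27166 = N30052 := ded_28_7 (flp_a L233337) (flp_c L233263) L233261 (flp_c L209789) L180295 (flp_c L180287) (flp_d L180235) L210491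
theorem L233343 : sm gb N30052 = N29003 := ded_7_2 (flp_a L228366) L228368 (flp_a L223086) (flp_b L193153) L160698 (flp_b L118298) (flp_a L170927) L203547 L233337
theorem L233345 : sm gd N26323 = N30053 := rfl
theorem L233347 : sm ga N30053 = N27166 := ded_9_1 L233341 (flp_a L233337) L233345
theorem L233349 : sm gb N30053 = N26324 := ded_14_1 (flp_d L203549) L203547 L233345
theorem L233351 : sm gc N27165 = N30053 := ded_28_0 (flp_d L233345) (flp_c L233263) L233261 (flp_c L209789) L180295 (flp_c L180287) (flp_d L180235) L210485
theorem L233353 : sm gf N30053 = N27303 := ded_30_4 (flp_c L211533) (flp_b L181109) L144703 L144721 L166782 (flp_b L166774) L115555 (flp_f L95422) L95420 (flp_b L115511) (flp_a L166660) L197232 L197236 (flp_b L197595) (flp_a L197153) L166550 L197156 (flp_b L210493) (flp_a L233347)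
theorem L233355 : sm ge N26323 = N30054 := rfl
theorem L233357 : sm gb N30054 = N26325 := ded_15_1 (flp_e L203555) L203547 L233355
theorem L233359 : sm gf N26323 = N30055 := rfl
theorem L233361 : sm gd N30055 = N27303 := ded_23_1 (flp_f L233353) (flp_d L233345) L233359
theorem L233363 : sm gb N29348 = N30055 := ded_14_3 L233361 L211537 (flp_d L227620)
theorem L233365 : sm gg N26323 = N30056 := rfl
theorem L233367 : sm ge N26324 = N30057 := rfl
theorem L233369 : sm ga N30057 = N26334 := ded_10_1 (flp_e L203623) (flp_a L203551) L233367
theorem L233371 : sm gc N30057 = N28965 := ded_19_1 L224991 (flp_c L203553) L233367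
theorem L233373 : sm gf N28964 = N30057 := ded_20_0 L233371 (flp_f L224989) L224983
theorem L233375 : sm gf N26324 = N30058 := rfl
theorem L233377 : sm ga N30058 = N26335 := ded_11_1 (flp_f L203627) (flp_a L203551) L233375
theorem L233379 : sm gc N30058 = N28296 := ded_20_1 L219656 (flp_c L203553) L233375
theorem L233381 : sm gd N30058 = N26326 := ded_23_1 (flp_f L203561) L203549 L233375
theorem L233383 : sm ge N30058 = N28964 := ded_25_1 L233373 (flp_e L233367) L233375
theorem L233385 : sm gb N30058 = N28297 := ded_16_1 L219426 (flp_b L211537) (flp_f L233353) L233349 L233375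
theorem L233387 : sm gg N26324 = N30059 := rfl
theorem L233389 : sm ga N30059 = N26336 := ded_12_1 (flp_g L203631) (flp_a L203551) L233387
theorem L233391 : sm gc N30059 = N30031 := ded_21_1 (flp_g L233183) (flp_c L203553) L233387
theorem L233393 : sm gd N30059 = N26327 := ded_24_1 (flp_g L203567) L203549 L233387
theorem L233395 : sm gd N26325 = N30060 := rfl
theorem L233397 : sm ga N30060 = N26337 := ded_9_1 (flp_d L203635) (flp_a L203557) L233395
theorem L233399 : sm gf N26325 = N30061 := rfl
theorem L233401 : sm ga N30061 = N26338 := ded_11_1 (flp_f L203639) (flp_a L203557) L233399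
theorem L233403 : sm gc N30061 = N26328 := ded_20_1 (flp_f L203573) (flp_c L203559) L233399
theorem L233405 : sm ge N30061 = N26326 := ded_25_1 (flp_f L203561) L203555 L233399
theorem L233407 : sm gb N28003 = N30061 := ded_7_0 L233401 L225631 (flp_a L225643) (flp_b L223036) (flp_a L212901) L212909 L187799 L187853 L216986
theorem L233409 : sm gg N26325 = N30062 := rfl
theorem L233411 : sm ga N30062 = N26339 := ded_12_1 (flp_g L203645) (flp_a L203557) L233409
theorem L233413 : sm gc N30062 = N26329 := ded_21_1 (flp_g L203583) (flp_c L203559) L233409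
theorem L233415 : sm ge N30062 = N26327 := ded_26_1 (flp_g L203567) L203555 L233409
theorem L233417 : sm gb N26326 = N30063 := rfl
theorem L233419 : sm gd N30063 = N28297 := ded_14_2 (flp_b L233385) L233381 L233417
theorem L233421 : sm ge N30063 = N28003 := ded_15_2 L233407 L233405 L233417
theorem L233423 : sm gf N30063 = N29348 := ded_16_2 L233363 (flp_f L233359) (flp_b L203547) L203561 L233417
theorem L233425 : sm ga N30063 = N28004 := ded_7_1 L216992 (flp_a L216950) L216952 L193163 L193181 L216915 (flp_b L203651) (flp_a L203563) L233417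
theorem L233427 : sm gg N28298 = N30063 := ded_24_0 L233419 L219428 L219430
theorem L233429 : sm gc N28101 = N30063 := ded_28_6 L233419 L219422 (flp_c L197913) L167276 L167692 L198476 (flp_c L213260) (flp_d L217740)
theorem L233431 : sm gb N26327 = N30064 := rfl
theorem L233433 : sm gb N26329 = N30065 := rfl
theorem L233435 : sm gd N30065 = N26791 := ded_14_2 (flp_b L207243) (flp_d L203587) L233433
theorem L233437 : sm ge N30065 = N26331 := ded_15_2 (flp_b L203599) (flp_e L203589) L233433
theorem L233439 : sm gg N30065 = N28991 := ded_17_2 L233303 (flp_g L233295) L203503 L203583 L233433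
theorem L233441 : sm ga N29954 = N30065 := ded_9_3 L233435 L207235 (flp_d L232544)
theorem L233443 : sm gf N26790 = N30065 := ded_23_0 L233435 (flp_f L207233) L207231
theorem L233445 : sm gc N26330 = N30066 := rfl
theorem L233447 : sm ga N30066 = N27490 := ded_8_1 (flp_c L212893) L203597 L233445
theorem L233449 : sm ge N30066 = N27501 := ded_19_2 (flp_c L212973) (flp_e L203595) L233445
theorem L233451 : sm gb N30066 = N28101 := ded_13_1 L233429 (flp_b L233417) L203565 L203591 L233445
theorem L233453 : sm gc N26331 = N30067 := rfl
theorem L233455 : sm ga N30067 = N29597 := ded_8_1 L229304 L203605 L233453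
theorem L233457 : sm gg N30067 = N28990 := ded_21_2 L225169 (flp_g L203603) L233453
theorem L233459 : sm gd N26332 = N30068 := rfl
theorem L233461 : sm ga N30068 = N27758 := ded_9_1 (flp_d L214910) (flp_a L203609) L233459
theorem L233463 : sm gf N30068 = N28668 := ded_23_2 L222158 (flp_f L203613) L233459
theorem L233465 : sm gg N30068 = N27431 := ded_24_2 L212473 (flp_g L203615) L233459
theorem L233467 : sm ge N30068 = N27432 := ded_22_2 L212477 L181857 L175617 (flp_e L203611) L233459
theorem L233469 : sm gb N26333 = N30069 := rfl
theorem L233471 : sm gd N30069 = N30023 := ded_14_2 (flp_b L233129) (flp_d L203621) L233469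
theorem L233473 : sm gc N30069 = N28740 := ded_13_2 (flp_b L223102) (flp_c L193169) (flp_b L170965) L203617 L233469
theorem L233475 : sm ga N29007 = N30069 := ded_9_3 L233471 (flp_a L233133) L225667
theorem L233477 : sm ge N26333 = N30070 := rfl
theorem L233479 : sm ga N30070 = N28965 := ded_10_1 L224991 (flp_a L203619) L233477
theorem L233481 : sm gc N30070 = N26334 := ded_19_1 (flp_e L203623) L203617 L233477
theorem L233483 : sm gf N28963 = N30070 := ded_11_0 L233479 (flp_f L224989) L224981
theorem L233485 : sm gf N26333 = N30071 := rfl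
theorem L233487 : sm ga N30071 = N28296 := ded_11_1 L219656 (flp_a L203619) L233485
theorem L233489 : sm gc N30071 = N26335 := ded_20_1 (flp_f L203627) L203617 L233485
theorem L233491 : sm gd N30071 = N30025 := ded_23_1 (flp_f L233141) (flp_d L203621) L233485
theorem L233493 : sm ge N30071 = N28963 := ded_25_1 L233483 (flp_e L233477) L233485
theorem L233495 : sm gg N26333 = N30072 := rfl
theorem L233497 : sm ga N30072 = N30031 := ded_12_1 (flp_g L233183) (flp_a L203619) L233495
theorem L233499 : sm gc N30072 = N26336 := ded_21_1 (flp_g L203631) L203617 L233495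
theorem L233501 : sm gd N30072 = N30026 := ded_24_1 (flp_g L233147) (flp_d L203621) L233495
theorem L233503 : sm gd N26334 = N30073 := rfl
theorem L233505 : sm gb N30073 = N28726 := ded_14_1 L223028 (flp_b L203625) L233503
theorem L233507 : sm ge N30073 = N26337 := ded_22_2 (flp_d L203635) (flp_e L170967) L170963 L203623 L233503
theorem L233509 : sm gf N26334 = N30074 := rfl
theorem L233511 : sm ga N30074 = N28964 := ded_11_1 L233373 L233369 L233509
theorem L233513 : sm gc N30074 = N28963 := ded_20_1 L233483 L233481 L233509
theorem L233515 : sm ge N30074 = N26335 := ded_25_1 (flp_f L203627) L203623 L233509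
theorem L233517 : sm gg N26334 = N30075 := rfl
theorem L233519 : sm ge N30075 = N26336 := ded_26_1 (flp_g L203631) L203623 L233517
theorem L233521 : sm gf N30075 = N27223 := ded_29_2 (flp_g L224985) (flp_a L233511) (flp_f L233509) L233517
theorem L233523 : sm gg N26335 = N30076 := rfl
theorem L233525 : sm gd N30076 = N26341 := ded_24_1 (flp_g L203657) (flp_d L203629) L233523
theorem L233527 : sm gf N30059 = N30076 := ded_29_0 (flp_g L233523) (flp_f L203627) L203631 (flp_a L233389)
theorem L233529 : sm gb N26336 = N30077 := rfl
theorem L233531 : sm gd N30077 = N26342 := ded_14_2 (flp_b L203663) (flp_d L203633) L233529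
theorem L233533 : sm gg N30077 = N28604 := ded_17_2 L221662 L192479 (flp_b L170965) L203631 L233529
theorem L233535 : sm ga N28525 = N30077 := ded_9_3 L233531 (flp_a L221672) (flp_d L221108)
theorem L233537 : sm ge N30077 = N29317 := ded_10_2 (flp_a L227338) (flp_e L221110) L233535
theorem L233539 : sm gb N29317 = N30075 := ded_15_1 L233519 L233529 L233537
theorem L233541 : sm gf N26336 = N30078 := rfl
theorem L233543 : sm ga N30078 = N30076 := ded_11_1 (flp_f L233527) L233389 L233541
theorem L233545 : sm gd N30078 = N26343 := ded_23_1 (flp_f L203669) (flp_d L203633) L233541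
theorem L233547 : sm ge N30078 = N27223 := ded_25_1 (flp_f L233521) L233519 L233541
theorem L233549 : sm gg N30078 = N30058 := ded_29_3 L233377 (flp_f L203627) L203631 L233541
theorem L233551 : sm gb N30078 = N27001 := ded_31_2 (flp_g L209079) (flp_f L209035) (flp_b L216479) L216477 (flp_f L191995) (flp_b L209215) (flp_g L226343) (flp_f L228343) L228345 (flp_g L223120) (flp_f L193177) (flp_b L170965) L203631 L233541
theorem L233553 : sm gg N26337 = N30079 := rfl
theorem L233555 : sm gd N30079 = N26339 := ded_24_1 (flp_g L203645) L203635 L233553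
theorem L233557 : sm gg N26338 = N30080 := rfl
theorem L233559 : sm gc N30080 = N26344 := ded_21_1 (flp_g L203677) (flp_c L203641) L233557
theorem L233561 : sm ge N30080 = N26341 := ded_26_1 (flp_g L203657) (flp_e L203643) L233557
theorem L233563 : sm gf N30062 = N30080 := ded_29_0 (flp_g L233557) (flp_f L203639) L203645 (flp_a L233411)
theorem L233565 : sm gb N26339 = N30081 := rfl
theorem L233567 : sm ge N30081 = N26342 := ded_15_2 (flp_b L203663) (flp_e L203649) L233565
theorem L233569 : sm gc N30081 = N27962 := ded_13_2 (flp_b L216653) L187633 (flp_b L170993) (flp_c L203647) L233565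
theorem L233571 : sm gg N30081 = N28599 := ded_17_2 L221642 L192459 (flp_b L170969) L203645 L233565
theorem L233573 : sm gf N26339 = N30082 := rfl
theorem L233575 : sm ga N30082 = N30080 := ded_11_1 (flp_f L233563) L233411 L233573
theorem L233577 : sm gc N30082 = N26345 := ded_20_1 (flp_f L203685) (flp_c L203647) L233573
theorem L233579 : sm ge N30082 = N26343 := ded_25_1 (flp_f L203669) (flp_e L203649) L233573
theorem L233581 : sm gg N30082 = N30061 := ded_29_3 L233401 (flp_f L203639) L203645 L233573
theorem L233583 : sm gd N29374 = N30082 := ded_22_5 L233579 (flp_d L233545) L233547 L226047 (flp_e L227780)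
theorem L233585 : sm gb N29373 = N30082 := ded_17_5 L233581 (flp_b L233407) (flp_g L227754) L227752 L227770
theorem L233587 : sm gf N30079 = N29374 := ded_23_0 L233583 (flp_f L233573) (flp_d L233555)
theorem L233589 : sm gb N26341 = N30083 := rfl
theorem L233591 : sm gf N26342 = N30084 := rfl
theorem L233593 : sm gc N30084 = N27965 := ded_20_1 (flp_f L216673) (flp_c L203665) L233591
theorem L233595 : sm gb N26343 = N30085 := rfl
theorem L233597 : sm gd N30085 = N27001 := ded_14_2 (flp_b L233551) L233545 L233595
theorem L233599 : sm ge N30085 = N29373 := ded_15_2 L233585 L233579 L233595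
theorem L233601 : sm gg N30085 = N27000 := ded_17_2 (flp_b L219432) L233427 (flp_b L233417) (flp_g L203675) L233595
theorem L233603 : sm ga N30085 = N29376 := ded_28_8 L227792 L224085 (flp_c L209203) L209205 L177949 (flp_d L177825) (flp_c L209081) (flp_d L233597)
theorem L233605 : sm gb N26344 = N30086 := rfl
theorem L233607 : sm gd N30086 = N26844 := ded_14_2 (flp_b L207682) (flp_d L203679) L233605
theorem L233609 : sm ge N30086 = N26346 := ded_15_2 (flp_b L203695) (flp_e L203681) L233605
theorem L233611 : sm gb N26345 = N30087 := rfl
theorem L233613 : sm gd N30087 = N26845 := ded_14_2 (flp_b L207690) (flp_d L203689) L233611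
theorem L233615 : sm ge N30087 = N26347 := ded_15_2 (flp_b L203699) (flp_e L203691) L233611
theorem L233617 : sm gf N30087 = N27967 := ded_16_2 (flp_b L216677) (flp_f L187649) (flp_b L170993) L203685 L233611
theorem L233619 : sm ga N27336 = N30087 := ded_9_3 L233613 (flp_a L207696) L211783
theorem L233621 : sm gf N26346 = N30088 := rfl
theorem L233623 : sm gd N30088 = N26349 := ded_23_1 (flp_f L203715) (flp_d L203697) L233621
theorem L233625 : sm gb N30088 = N28506 := ded_16_1 L220934 (flp_b L203599) L170999 L203695 L233621
theorem L233627 : sm ga N26347 = N30089 := rfl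
theorem L233629 : sm gd N30089 = N26350 := ded_9_2 (flp_a L203723) (flp_d L203701) L233627
theorem L233631 : sm ge N30089 = N27336 := ded_10_2 L233619 L233615 L233627
theorem L233633 : sm gf N30089 = N27968 := ded_11_2 (flp_a L216683) (flp_f L203703) L233627
theorem L233635 : sm gb N30089 = N27342 := ded_7_2 (flp_a L231428) L231430 L201874 L220310 (flp_a L220314) (flp_b L203695) (flp_a L171003) L203699 L233627
theorem L233637 : sm gc N28042 = N30089 := ded_20_3 L233633 L222537 L217262
theorem L233639 : sm gc N26347 = N30090 := rfl
theorem L233641 : sm ga N30090 = N28042 := ded_8_1 L233637 (flp_a L233627) L233639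
theorem L233643 : sm gf N30090 = N27969 := ded_20_2 (flp_c L216687) (flp_f L203703) L233639
theorem L233645 : sm gd N28044 = N30090 := ded_9_0 L233641 L217264 (flp_a L217278)
theorem L233647 : sm gg N26347 = N30091 := rfl
theorem L233649 : sm gd N30091 = N26352 := ded_24_1 (flp_g L203739) (flp_d L203701) L233647
theorem L233651 : sm gb N30091 = N29581 := ded_17_1 L229168 (flp_b L203591) (flp_g L171007) L203699 L233647
theorem L233653 : sm gc N26350 = N30092 := rfl
theorem L233655 : sm ga N30092 = N26351 := ded_8_1 (flp_c L203731) L203723 L233653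
theorem L233657 : sm ge N30092 = N26846 := ded_19_2 (flp_c L207700) (flp_e L203725) L233653
theorem L233659 : sm gf N30092 = N27971 := ded_20_2 (flp_c L216695) (flp_f L203727) L233653
theorem L233661 : sm gg N30092 = N29288 := ded_21_2 (flp_c L227155) L216731 L233653
theorem L233663 : sm gd N26351 = N30093 := rfl
theorem L233665 : sm gb N30093 = N29203 := ded_14_1 L226493 (flp_b L203737) L233663
theorem L233667 : sm gf N30093 = N27973 := ded_23_2 (flp_d L216711) (flp_f L203735) L233663
theorem L233669 : sm gg N26351 = N30094 := rfl
theorem L233671 : sm ga N30094 = N29288 := ded_12_1 (flp_g L233661) L233655 L233669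
theorem L233673 : sm gc N30094 = N26352 := ded_21_1 (flp_g L203739) L203731 L233669
theorem L233675 : sm ge N30094 = N26847 := ded_26_1 (flp_g L207708) (flp_e L203733) L233669
theorem L233677 : sm gf N26353 = N30095 := rfl
theorem L233679 : sm gd N30095 = N27125 := ded_23_1 L210135 (flp_d L203749) L233677
theorem L233681 : sm ge N30095 = N26354 := ded_25_1 (flp_f L203751) L203745 L233677
theorem L233683 : sm gb N30095 = N27121 := ded_16_1 (flp_f L210101) L203767 (flp_f L203759) (flp_b L203747) L233677
theorem L233685 : sm gg N26353 = N30096 := rfl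
theorem L233687 : sm gd N30096 = N28883 := ded_24_1 (flp_g L224281) (flp_d L203749) L233685
theorem L233689 : sm ge N30096 = N26355 := ded_26_1 (flp_g L203755) L203745 L233685
theorem L233691 : sm gg N26354 = N30097 := rfl
theorem L233693 : sm gc N30097 = N27362 := ded_21_1 L213021 L213017 L233691
theorem L233695 : sm gd N30097 = N28717 := ded_24_1 (flp_g L222958) (flp_d L203753) L233691
theorem L233697 : sm gf N27360 = N30097 := ded_29_0 (flp_g L233691) (flp_f L203751) L203755 (flp_a L211961)
theorem L233699 : sm gb N26355 = N30098 := rfl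
theorem L233701 : sm gd N30098 = N27954 := ded_14_2 L216577 (flp_d L203757) L233699
theorem L233703 : sm gg N30098 = N26359 := ded_17_2 (flp_b L203785) (flp_g L171035) L171019 L203755 L233699
theorem L233705 : sm ga N30098 = N27956 := ded_7_1 L216595 L192291 (flp_b L192285) L160106 L168760 L200055 (flp_b L211965) L211961 L233699
theorem L233707 : sm gf N26355 = N30099 := rfl
theorem L233709 : sm ga N30099 = N30097 := ded_11_1 (flp_f L233697) L211961 L233707
theorem L233711 : sm gc N30099 = N27516 := ded_20_1 (flp_f L213079) L211957 L233707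
theorem L233713 : sm gd N30099 = N28718 := ded_23_1 (flp_f L222966) (flp_d L203757) L233707
theorem L233715 : sm gg N30099 = N27513 := ded_29_3 L213057 (flp_f L203751) L203755 L233707
theorem L233717 : sm gb N26357 = N30100 := rfl
theorem L233719 : sm gd N30100 = N27335 := ded_14_2 (flp_b L211781) (flp_d L203773) L233717
theorem L233721 : sm ge N30100 = N26359 := ded_15_2 (flp_b L203785) (flp_e L203775) L233717
theorem L233723 : sm ga N27333 = N30100 := ded_9_3 L233719 L211773 (flp_d L211763)
theorem L233725 : sm gf N27331 = N30100 := ded_23_0 L233719 (flp_f L211771) (flp_d L211757)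
theorem L233727 : sm gc N26358 = N30101 := rfl
theorem L233729 : sm ga N30101 = N27119 := ded_8_1 (flp_c L210087) (flp_a L203783) L233727
theorem L233731 : sm ge N30101 = N27120 := ded_19_2 (flp_c L210093) (flp_e L203781) L233727
theorem L233733 : sm gb N30101 = N28090 := ded_13_1 L231066 (flp_b L231060) L201508 L203777 L233727
theorem L233735 : sm gd N28116 = N30101 := ded_22_5 L233731 L210099 L188249 L190097 (flp_e L217835)
theorem L233737 : sm gg N26358 = N30102 := rfl
theorem L233739 : sm ga N30102 = N27072 := ded_12_1 L209725 (flp_a L203783) L233737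
theorem L233741 : sm gd N30102 = N27143 := ded_24_1 L210281 (flp_d L203779) L233737
theorem L233743 : sm ge N30102 = N27073 := ded_26_1 L209731 (flp_e L203781) L233737
theorem L233745 : sm gf N28445 = N30102 := ded_29_0 (flp_g L233737) (flp_f L232038) L232040 L231636
theorem L233747 : sm ga N26359 = N30103 := rfl
theorem L233749 : sm gd N30103 = N27723 := ded_9_2 L214557 (flp_d L203787) L233747
theorem L233751 : sm ge N30103 = N27333 := ded_10_2 L233723 L233721 L233747
theorem L233753 : sm gg N30103 = N27956 := ded_12_2 (flp_a L233705) L233703 L233747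
theorem L233755 : sm gf N27330 = N30103 := ded_23_0 L233749 (flp_f L214555) (flp_d L211751)
theorem L233757 : sm gf N26359 = N30104 := rfl
theorem L233759 : sm ga N30104 = N27330 := ded_11_1 L233755 (flp_a L233747) L233757
theorem L233761 : sm gd N30104 = N27721 := ded_23_1 (flp_f L214545) (flp_d L203787) L233757
theorem L233763 : sm ge N30104 = N27331 := ded_25_1 L233725 L233721 L233757
theorem L233765 : sm gg N29714 = N30104 := ded_29_1 (flp_f L233757) (flp_g L233703) L233705 (flp_f L230322)
theorem L233767 : sm gb N26360 = N30105 := rfl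
theorem L233769 : sm gd N30105 = N27391 := ded_14_2 (flp_b L212189) (flp_d L203791) L233767
theorem L233771 : sm ge N30105 = N26362 := ded_15_2 (flp_b L203807) (flp_e L203793) L233767
theorem L233773 : sm gc N30105 = N26686 := ded_13_2 L206338 L206418 L231140 L231134 L233767
theorem L233775 : sm gg N30105 = N30086 := ded_17_2 (flp_b L233605) (flp_g L203677) (flp_b L171047) L203789 L233767
theorem L233777 : sm ga N29020 = N30105 := ded_9_3 L233769 L225437 L225431
theorem L233779 : sm gb N26361 = N30106 := rfl
theorem L233781 : sm gd N30106 = N28276 := ded_14_2 L219216 (flp_d L203801) L233779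
theorem L233783 : sm ge N30106 = N26363 := ded_15_2 (flp_b L203813) (flp_e L203803) L233779
theorem L233785 : sm gf N30106 = N28710 := ded_16_2 (flp_b L222908) (flp_f L193057) (flp_b L171055) L203797 L233779
theorem L233787 : sm ga N26362 = N30107 := rfl
theorem L233789 : sm gc N30107 = N26681 := ded_8_2 L206302 (flp_c L206382) L233787
theorem L233791 : sm gd N30107 = N28418 := ded_9_2 L220270 (flp_d L203809) L233787
theorem L233793 : sm ge N30107 = N29020 := ded_10_2 L233777 L233771 L233787
theorem L233795 : sm gg N30107 = N28424 := ded_12_2 (flp_a L220314) (flp_g L203811) L233787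
theorem L233797 : sm gb N28417 = N30107 := ded_14_3 L233791 (flp_b L220262) (flp_d L220256)
theorem L233799 : sm gf N26362 = N30108 := rfl
theorem L233801 : sm gc N30108 = N26692 := ded_20_1 (flp_f L206370) (flp_c L206382) L233799
theorem L233803 : sm gd N30108 = N28720 := ded_23_1 (flp_f L222990) (flp_d L203809) L233799
theorem L233805 : sm gb N30108 = N30104 := ded_16_1 (flp_f L233757) (flp_b L203785) L171061 L203807 L233799
theorem L233807 : sm ga N26363 = N30109 := rfl
theorem L233809 : sm gd N30109 = N28274 := ded_9_2 L219190 (flp_d L203815) L233807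
theorem L233811 : sm gf N30109 = N28713 := ded_11_2 (flp_a L222928) (flp_f L203817) L233807
theorem L233813 : sm gc N30109 = N29028 := ded_28_0 L225387 L197331 L181117 (flp_c L152955) (flp_d L158627) (flp_c L190367) (flp_d L203815) L233807
theorem L233815 : sm gb N30109 = N29689 := ded_7_2 L230176 L229230 L220360 L233797 (flp_a L233787) (flp_b L203807) (flp_a L171065) L203813 L233807
theorem L233817 : sm gc N26363 = N30110 := rfl
theorem L233819 : sm ga N30110 = N29028 := ded_8_1 (flp_c L233813) (flp_a L233807) L233817
theorem L233821 : sm gf N30110 = N28714 := ded_20_2 (flp_c L222936) (flp_f L203817) L233817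
theorem L233823 : sm gd N30110 = N29029 := ded_28_7 (flp_a L225391) L197331 L181117 (flp_c L152955) (flp_d L158627) (flp_c L190367) (flp_d L203815) L233817
theorem L233825 : sm gg N26363 = N30111 := rfl
theorem L233827 : sm gd N30111 = N28277 := ded_24_1 (flp_g L219224) (flp_d L203815) L233825
theorem L233829 : sm gb N30111 = N30102 := ded_17_1 (flp_g L233737) (flp_b L203777) (flp_g L171069) L203813 L233825
theorem L233831 : sm gg N26364 = N30112 := rfl
theorem L233833 : sm ga N30112 = N27780 := ded_12_1 (flp_g L215123) L203828 L233831
theorem L233835 : sm gc N30112 = N28931 := ded_21_1 (flp_g L224694) (flp_c L203825) L233831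
theorem L233837 : sm gd N30112 = N26748 := ded_24_1 (flp_g L206898) (flp_d L203821) L233831
theorem L233839 : sm ge N30112 = N26367 := ded_26_1 (flp_g L203846) (flp_e L203823) L233831
theorem L233841 : sm gf N27780 = N30112 := ded_29_0 (flp_g L233831) L203827 L233831 L233833
theorem L233843 : sm gb N30112 = N29884 := ded_17_1 (flp_g L231902) (flp_b L202188) (flp_g L171103) L203819 L233831
theorem L233845 : sm gg N26366 = N30113 := rfl
theorem L233847 : sm gc N30113 = N26367 := ded_21_1 (flp_g L203846) L203839 L233845
theorem L233849 : sm ge N30113 = N28931 := ded_26_1 (flp_g L224694) (flp_e L203841) L233845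
theorem L233851 : sm ge N26370 = N30114 := rfl
theorem L233853 : sm gc N30114 = N26371 := ded_19_1 (flp_e L203869) L203867 L233851
theorem L233855 : sm gg N30114 = N29630 := ded_26_2 L229614 (flp_g L220026) L233851
theorem L233857 : sm gf N26370 = N30115 := rfl
theorem L233859 : sm ga N30115 = N28411 := ded_11_1 (flp_f L230448) L230446 L233857
theorem L233861 : sm gc N30115 = N26372 := ded_20_1 (flp_f L203877) L203867 L233857
theorem L233863 : sm gd N30115 = N28413 := ded_23_1 L220226 L220022 L233857
theorem L233865 : sm gb N28855 = N30115 := ded_30_2 L233859 (flp_f L230448) (flp_c L230444) L201143 L169417 L169473 L169475 (flp_b L181915) (flp_a L212595) L212599 (flp_c L188169) (flp_b L171362) (flp_a L118519) L118529 (flp_c L170640) (flp_b L202565) (flp_a L232202) (flp_f L232200) (flp_c L224023)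
theorem L233867 : sm gb N26374 = N30116 := rfl
theorem L233869 : sm ge N30116 = N26587 := ded_15_2 L205516 (flp_e L203899) L233867
theorem L233871 : sm gc N30116 = N26743 := ded_13_2 L206849 L174392 (flp_b L174346) (flp_c L203897) L233867
theorem L233873 : sm gf N30116 = N27928 := ded_16_2 (flp_b L216393) L216401 (flp_b L216411) L203901 L233867
theorem L233875 : sm gg N30116 = N28116 := ded_17_2 (flp_b L217833) (flp_g L188362) (flp_b L171168) L203893 L233867
theorem L233877 : sm gb N26375 = N30117 := rfl
theorem L233879 : sm gc N30117 = N27622 := ded_13_2 (flp_b L213764) L201207 L201203 L203903 L233877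
theorem L233881 : sm ga N29076 = N30117 := ded_8_3 L233879 L214389 (flp_c L225769)
theorem L233883 : sm ge N26375 = N30118 := rfl
theorem L233885 : sm ga N30118 = N26381 := ded_10_1 (flp_e L203935) (flp_a L203905) L233883
theorem L233887 : sm gc N30118 = N26376 := ded_19_1 (flp_e L203907) L203903 L233883
theorem L233889 : sm gf N26375 = N30119 := rfl
theorem L233891 : sm ga N30119 = N26382 := ded_11_1 (flp_f L203939) (flp_a L203905) L233889
theorem L233893 : sm gc N30119 = N26377 := ded_20_1 (flp_f L203915) L203903 L233889
theorem L233895 : sm gg N26375 = N30120 := rfl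
theorem L233897 : sm ga N30120 = N26383 := ded_12_1 (flp_g L203943) (flp_a L203905) L233895
theorem L233899 : sm gc N30120 = N26378 := ded_21_1 (flp_g L203923) L203903 L233895
theorem L233901 : sm ga N26379 = N30121 := rfl
theorem L233903 : sm gc N30121 = N26388 := ded_8_2 (flp_a L203983) (flp_c L203931) L233901
theorem L233905 : sm gd N26379 = N30122 := rfl
theorem L233907 : sm gb N30122 = N26380 := ded_14_1 (flp_d L203933) L203929 L233905
theorem L233909 : sm gc N27269 = N30122 := ded_28_0 (flp_d L233905) L203931 (flp_d L171452) (flp_c L204408) (flp_d L204825) L204821 (flp_d L211290) L211288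
theorem L233911 : sm ge N29030 = N30122 := ded_15_0 L233907 (flp_e L225099) (flp_b L225399)
theorem L233913 : sm gg N27268 = N30122 := ded_17_0 L233907 L220038 (flp_b L219448) L190833 (flp_b L211256)
theorem L233915 : sm ge N26379 = N30123 := rfl
theorem L233917 : sm gb N30123 = N26381 := ded_15_1 (flp_e L203935) L203929 L233915
theorem L233919 : sm gc N30123 = N26389 := ded_19_1 (flp_e L203985) (flp_c L203931) L233915
theorem L233921 : sm gg N26379 = N30124 := rfl
theorem L233923 : sm gc N30124 = N26391 := ded_21_1 (flp_g L203993) (flp_c L203931) L233921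
theorem L233925 : sm gd N30124 = N27268 := ded_24_1 L233913 (flp_d L233905) L233921
theorem L233927 : sm gb N30124 = N28331 := ded_17_1 (flp_g L219672) (flp_b L220034) (flp_g L203943) L203929 L233921
theorem L233929 : sm gf N27272 = N30124 := ded_23_0 L233925 L211254 L211280
theorem L233931 : sm gf N26380 = N30125 := rfl
theorem L233933 : sm gd N30125 = N26382 := ded_23_1 (flp_f L203939) L203933 L233931
theorem L233935 : sm gb N29129 = N30125 := ded_14_3 L233933 L217390 (flp_d L226055)
theorem L233937 : sm gd N26381 = N30126 := rfl
theorem L233939 : sm gf N26381 = N30127 := rfl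
theorem L233941 : sm gc N30127 = N26384 := ded_20_1 (flp_f L203947) (flp_c L203937) L233939
theorem L233943 : sm ge N30127 = N26382 := ded_25_1 (flp_f L203939) L203935 L233939
theorem L233945 : sm gg N26381 = N30128 := rfl
theorem L233947 : sm gc N30128 = N26385 := ded_21_1 (flp_g L203955) (flp_c L203937) L233945
theorem L233949 : sm ge N30128 = N26383 := ded_26_1 (flp_g L203943) L203935 L233945
theorem L233951 : sm gf N29648 = N30128 := ded_20_0 L233947 (flp_f L203963) L229760
theorem L233953 : sm gg N26382 = N30129 := rfl
theorem L233955 : sm gc N30129 = N26386 := ded_21_1 (flp_g L203965) (flp_c L203941) L233953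
theorem L233957 : sm gf N30120 = N30129 := ded_29_0 (flp_g L233953) (flp_f L203939) L203943 (flp_a L233897)
theorem L233959 : sm gf N26383 = N30130 := rfl
theorem L233961 : sm ga N30130 = N30129 := ded_11_1 (flp_f L233957) L233897 L233959
theorem L233963 : sm gc N30130 = N26387 := ded_20_1 (flp_f L203971) (flp_c L203945) L233959
theorem L233965 : sm ge N30130 = N29648 := ded_25_1 L233951 L233949 L233959
theorem L233967 : sm gg N30130 = N30119 := ded_29_3 L233891 (flp_f L203939) L203943 L233959
theorem L233969 : sm ge N26388 = N30131 := rfl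
theorem L233971 : sm ga N30131 = N26389 := ded_10_1 (flp_e L203985) L203983 L233969
theorem L233973 : sm gd N30131 = N28785 := ded_22_1 L223433 (flp_d L198216) (flp_e L204427) L204425 L233969
theorem L233975 : sm gf N26388 = N30132 := rfl
theorem L233977 : sm ga N30132 = N26390 := ded_11_1 (flp_f L203989) L203983 L233975
theorem L233979 : sm gg N26388 = N30133 := rfl
theorem L233981 : sm ga N30133 = N26391 := ded_12_1 (flp_g L203993) L203983 L233979
theorem L233983 : sm gf N26389 = N30134 := rfl
theorem L233985 : sm ge N30134 = N26390 := ded_25_1 (flp_f L203989) L203985 L233983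
theorem L233987 : sm gb N30134 = N28120 := ded_16_1 (flp_f L217851) L188376 (flp_f L171252) (flp_b L203987) L233983
theorem L233989 : sm gg N26389 = N30135 := rfl
theorem L233991 : sm ge N30135 = N26391 := ded_26_1 (flp_g L203993) L203985 L233989
theorem L233993 : sm gg N26390 = N30136 := rfl
theorem L233995 : sm gd N30136 = N27388 := ded_24_1 (flp_g L212175) L204431 L233993
theorem L233997 : sm gf N30133 = N30136 := ded_29_0 (flp_g L233993) (flp_f L203989) L203993 (flp_a L233981)
theorem L233999 : sm gb N30043 = N30136 := ded_31_14 (flp_g L233993) (flp_f L203989) (flp_b L171246) (flp_g L118621) L118619 (flp_b L156995) L222737 (flp_f L188442) L156958 (flp_g L118574) L118572 L170903 L203491 L233251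
theorem L234001 : sm gb N28122 = N30038 := ded_17_3 (flp_g L233257) L233999 (flp_g L233993) L203991 L217864
theorem L234003 : sm gb N28107 = N30133 := ded_16_5 L233997 (flp_b L233999) (flp_f L233251) L203493 L217767
theorem L234005 : sm gf N26391 = N30137 := rfl
theorem L234007 : sm ga N30137 = N30136 := ded_11_1 (flp_f L233997) L233981 L234005
theorem L234009 : sm gc N30137 = N27272 := ded_20_1 L233929 L233923 L234005
theorem L234011 : sm gg N30137 = N30132 := ded_29_3 L233977 (flp_f L203989) L203993 L234005
theorem L234013 : sm gb N26392 = N30138 := rfl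
theorem L234015 : sm gd N30138 = N27108 := ded_14_2 L209997 (flp_d L203999) L234013
theorem L234017 : sm gc N30138 = N26399 := ded_13_2 (flp_b L204051) (flp_c L171268) (flp_b L171256) L203995 L234013
theorem L234019 : sm ga N30138 = N27109 := ded_7_1 L210001 L206204 (flp_b L182673) L182671 L145614 (flp_a L145660) (flp_b L182773) (flp_a L203997) L234013
theorem L234021 : sm ge N26392 = N30139 := rfl
theorem L234023 : sm ga N30139 = N27600 := ded_10_1 (flp_e L213639) (flp_a L203997) L234021
theorem L234025 : sm gc N30139 = N26393 := ded_19_1 (flp_e L204001) L203995 L234021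
theorem L234027 : sm gd N30139 = N27788 := ded_22_1 (flp_e L215203) (flp_d L184816) (flp_e L182769) (flp_d L203999) L234021
theorem L234029 : sm gg N29668 = N30139 := ded_12_0 L234023 L229916 (flp_a L229984)
theorem L234031 : sm gf N26392 = N30140 := rfl
theorem L234033 : sm ga N30140 = N27601 := ded_11_1 (flp_f L213645) (flp_a L203997) L234031
theorem L234035 : sm gc N30140 = N26394 := ded_20_1 (flp_f L204007) L203995 L234031
theorem L234037 : sm gd N30140 = N27599 := ded_23_1 (flp_f L213629) (flp_d L203999) L234031
theorem L234039 : sm gg N26392 = N30141 := rfl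
theorem L234041 : sm ga N30141 = N27591 := ded_12_1 L213573 (flp_a L203997) L234039
theorem L234043 : sm gc N30141 = N26395 := ded_21_1 (flp_g L204013) L203995 L234039
theorem L234045 : sm gd N30141 = N27593 := ded_24_1 L213589 (flp_d L203999) L234039
theorem L234047 : sm ge N30141 = N29668 := ded_26_1 L234029 (flp_e L234021) L234039
theorem L234049 : sm gf N26393 = N30142 := rfl
theorem L234051 : sm gd N30142 = N26862 := ded_23_1 (flp_f L207842) (flp_d L204005) L234049
theorem L234053 : sm ge N30142 = N26394 := ded_25_1 (flp_f L204007) L204001 L234049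
theorem L234055 : sm gg N29659 = N30142 := ded_29_1 (flp_f L234049) (flp_g L229904) L229900 (flp_f L229896)
theorem L234057 : sm gb N30142 = N28997 := ded_31_2 (flp_g L225213) (flp_f L213317) (flp_b L213311) (flp_g L182575) (flp_f L182565) (flp_b L150406) L150408 L145833 (flp_b L182667) L213497 (flp_f L213503) (flp_b L229902) L229904 L234049
theorem L234059 : sm gg N26394 = N30143 := rfl
theorem L234061 : sm gd N30143 = N26396 := ded_24_1 (flp_g L204017) (flp_d L204009) L234059
theorem L234063 : sm ge N30143 = N29659 := ded_26_1 L234055 L234053 L234059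
theorem L234065 : sm gf N28955 = N30143 := ded_29_0 (flp_g L234059) (flp_f L204007) L204013 L224919
theorem L234067 : sm gb N30143 = N28879 := ded_17_1 L224245 L196925 L197121 L204011 L234059
theorem L234069 : sm gb N26395 = N30144 := rfl
theorem L234071 : sm gd N30144 = N26397 := ded_14_2 (flp_b L204027) (flp_d L204015) L234069
theorem L234073 : sm ge N30144 = N27573 := ded_15_2 (flp_b L229902) L229906 L234069
theorem L234075 : sm gg N30144 = N26407 := ded_17_2 (flp_b L204103) (flp_g L171284) (flp_b L171256) L204013 L234069
theorem L234077 : sm ga N30144 = N27564 := ded_7_1 (flp_b L213377) (flp_a L184674) (flp_b L193467) (flp_a L217474) (flp_b L221566) L221564 L224909 (flp_a L224919) L234069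
theorem L234079 : sm gf N29829 = N30144 := ded_31_1 (flp_b L234069) (flp_g L204013) L204007 (flp_b L204011) (flp_g L197121) (flp_f L197107) L201712 (flp_g L201700) (flp_f L169729) L117529 L117563 L169773 L201744 L231388
theorem L234081 : sm gf N26395 = N30145 := rfl
theorem L234083 : sm ga N30145 = N30143 := ded_11_1 (flp_f L234065) (flp_a L224919) L234081
theorem L234085 : sm gd N30145 = N26398 := ded_23_1 (flp_f L204039) (flp_d L204015) L234081
theorem L234087 : sm gg N30145 = N29955 := ded_29_3 L232548 (flp_f L204007) L204013 L234081
theorem L234089 : sm gb N30145 = N28646 := ded_16_1 (flp_f L221996) (flp_b L231394) L234079 (flp_b L234069) L234081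
theorem L234091 : sm ga N26399 = N30146 := rfl
theorem L234093 : sm gc N30146 = N27109 := ded_8_2 (flp_a L234019) L234017 L234091
theorem L234095 : sm gd N27173 = N30146 := ded_28_7 (flp_a L234091) (flp_c L234017) L234015 (flp_c L209991) L180349 (flp_c L180339) (flp_d L180257) L210545
theorem L234097 : sm gb N30146 = N29005 := ded_7_2 (flp_a L227461) L227463 (flp_a L223523) (flp_b L193469) L160894 (flp_b L118487) (flp_a L171270) L204051 L234091
theorem L234099 : sm gd N26399 = N30147 := rfl
theorem L234101 : sm ga N30147 = N27173 := ded_9_1 L234095 (flp_a L234091) L234099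
theorem L234103 : sm gb N30147 = N26400 := ded_14_1 (flp_d L204053) L204051 L234099
theorem L234105 : sm gc N27172 = N30147 := ded_28_0 (flp_d L234099) (flp_c L234017) L234015 (flp_c L209991) L180349 (flp_c L180339) (flp_d L180257) L210539
theorem L234107 : sm gg N30147 = N27278 := ded_21_2 (flp_c L211328) L210543 L234105
theorem L234109 : sm ge N26399 = N30148 := rfl
theorem L234111 : sm gb N30148 = N26401 := ded_15_1 (flp_e L204059) L204051 L234109
theorem L234113 : sm gf N26399 = N30149 := rfl
theorem L234115 : sm gg N26399 = N30150 := rfl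
theorem L234117 : sm gd N30150 = N27278 := ded_24_1 (flp_g L234107) (flp_d L234099) L234115
theorem L234119 : sm gb N29489 = N30150 := ded_14_3 L234117 L211330 (flp_d L228531)
theorem L234121 : sm ge N26400 = N30151 := rfl
theorem L234123 : sm ga N30151 = N26410 := ded_10_1 (flp_e L204127) (flp_a L204055) L234121
theorem L234125 : sm gc N30151 = N28980 := ded_19_1 L225099 (flp_c L204057) L234121
theorem L234127 : sm gg N28979 = N30151 := ded_21_0 L234125 (flp_g L225097) L225091
theorem L234129 : sm gf N26400 = N30152 := rfl
theorem L234131 : sm ga N30152 = N26411 := ded_11_1 (flp_f L204131) (flp_a L204055) L234129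
theorem L234133 : sm gc N30152 = N30125 := ded_20_1 (flp_f L233931) (flp_c L204057) L234129
theorem L234135 : sm gd N30152 = N26402 := ded_23_1 (flp_f L204065) L204053 L234129
theorem L234137 : sm gg N26400 = N30153 := rfl
theorem L234139 : sm ga N30153 = N26412 := ded_12_1 (flp_g L204135) (flp_a L204055) L234137
theorem L234141 : sm gc N30153 = N28301 := ded_21_1 (flp_g L220038) (flp_c L204057) L234137
theorem L234143 : sm gd N30153 = N26403 := ded_24_1 (flp_g L204071) L204053 L234137
theorem L234145 : sm ge N30153 = N28979 := ded_26_1 L234127 (flp_e L234121) L234137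
theorem L234147 : sm gb N30153 = N28302 := ded_17_1 L219460 (flp_b L211330) (flp_g L234107) L234103 L234137
theorem L234149 : sm gd N26401 = N30154 := rfl
theorem L234151 : sm ga N30154 = N26413 := ded_9_1 (flp_d L204139) (flp_a L204061) L234149
theorem L234153 : sm gf N26401 = N30155 := rfl
theorem L234155 : sm ga N30155 = N26414 := ded_11_1 (flp_f L204143) (flp_a L204061) L234153
theorem L234157 : sm gc N30155 = N26404 := ded_20_1 (flp_f L204077) (flp_c L204063) L234153
theorem L234159 : sm ge N30155 = N26402 := ded_25_1 (flp_f L204065) L204059 L234153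
theorem L234161 : sm gg N26401 = N30156 := rfl
theorem L234163 : sm ga N30156 = N26415 := ded_12_1 (flp_g L204149) (flp_a L204061) L234161
theorem L234165 : sm gc N30156 = N26405 := ded_21_1 (flp_g L204085) (flp_c L204063) L234161
theorem L234167 : sm ge N30156 = N26403 := ded_26_1 (flp_g L204071) L204059 L234161
theorem L234169 : sm gb N28073 = N30156 := ded_7_0 L234163 (flp_b L225719) L225717 (flp_b L223471) (flp_a L213403) L213411 L188145 L188199 L217542
theorem L234171 : sm gb N26402 = N30157 := rfl
theorem L234173 : sm gb N26403 = N30158 := rfl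
theorem L234175 : sm gd N30158 = N28302 := ded_14_2 (flp_b L234147) L234143 L234173
theorem L234177 : sm ge N30158 = N28073 := ded_15_2 L234169 L234167 L234173
theorem L234179 : sm gg N30158 = N29489 := ded_17_2 L234119 (flp_g L234115) (flp_b L204051) L204071 L234173
theorem L234181 : sm ga N30158 = N28074 := ded_7_1 L217548 (flp_a L217506) L217508 L193473 L193485 L222220 (flp_b L204167) (flp_a L204073) L234173
theorem L234183 : sm gf N28303 = N30158 := ded_23_0 L234175 L219458 L219462
theorem L234185 : sm gc N28117 = N30158 := ded_28_6 L234175 L219454 (flp_c L197733) L167138 L167446 L198111 (flp_c L213770) (flp_d L217841)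
theorem L234187 : sm gb N26404 = N30159 := rfl
theorem L234189 : sm gd N30159 = N26656 := ded_14_2 (flp_b L206086) (flp_d L204081) L234187
theorem L234191 : sm ge N30159 = N26406 := ded_15_2 (flp_b L204095) (flp_e L204083) L234187
theorem L234193 : sm gf N30159 = N28997 := ded_16_2 (flp_b L234057) (flp_f L234049) L204003 L204077 L234187
theorem L234195 : sm ga N29744 = N30159 := ded_9_3 L234189 L206078 (flp_d L230602)
theorem L234197 : sm gg N26655 = N30159 := ded_24_0 L234189 (flp_g L206076) L206074
theorem L234199 : sm gc N26406 = N30160 := rfl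
theorem L234201 : sm ga N30160 = N29743 := ded_8_1 (flp_c L230586) L204101 L234199
theorem L234203 : sm gf N30160 = N28996 := ded_20_2 L225211 (flp_f L204099) L234199
theorem L234205 : sm gc N26407 = N30161 := rfl
theorem L234207 : sm ga N30161 = N27566 := ded_8_1 (flp_c L213395) L204109 L234205
theorem L234209 : sm ge N30161 = N27577 := ded_19_2 (flp_c L213475) (flp_e L204107) L234205
theorem L234211 : sm gb N30161 = N28117 := ded_13_1 L234185 (flp_b L234173) L204075 L204103 L234205
theorem L234213 : sm gd N26408 = N30162 := rfl
theorem L234215 : sm ga N30162 = N27783 := ded_9_1 (flp_d L215149) (flp_a L204113) L234213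
theorem L234217 : sm gf N30162 = N27342 := ded_23_2 L211829 (flp_f L204117) L234213
theorem L234219 : sm gg N30162 = N28611 := ded_24_2 L221724 (flp_g L204119) L234213
theorem L234221 : sm ge N30162 = N27343 := ded_22_2 L211833 L181349 L176011 (flp_e L204115) L234213
theorem L234223 : sm gb N26409 = N30163 := rfl
theorem L234225 : sm gd N30163 = N30117 := ded_14_2 (flp_b L233877) (flp_d L204125) L234223
theorem L234227 : sm gc N30163 = N28736 := ded_13_2 L223090 L193159 (flp_b L171308) L204121 L234223
theorem L234229 : sm ga N29012 = N30163 := ded_9_3 L234225 (flp_a L233881) L225767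
theorem L234231 : sm ge N26409 = N30164 := rfl
theorem L234233 : sm ga N30164 = N28980 := ded_10_1 L225099 (flp_a L204123) L234231
theorem L234235 : sm gc N30164 = N26410 := ded_19_1 (flp_e L204127) L204121 L234231
theorem L234237 : sm gg N28978 = N30164 := ded_12_0 L234233 (flp_g L225097) L225089
theorem L234239 : sm gf N26409 = N30165 := rfl
theorem L234241 : sm ga N30165 = N30125 := ded_11_1 (flp_f L233931) (flp_a L204123) L234239
theorem L234243 : sm gc N30165 = N26411 := ded_20_1 (flp_f L204131) L204121 L234239
theorem L234245 : sm gd N30165 = N30119 := ded_23_1 (flp_f L233889) (flp_d L204125) L234239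
theorem L234247 : sm gg N26409 = N30166 := rfl
theorem L234249 : sm ga N30166 = N28301 := ded_12_1 (flp_g L220038) (flp_a L204123) L234247
theorem L234251 : sm gc N30166 = N26412 := ded_21_1 (flp_g L204135) L204121 L234247
theorem L234253 : sm gd N30166 = N30120 := ded_24_1 (flp_g L233895) (flp_d L204125) L234247
theorem L234255 : sm ge N30166 = N28978 := ded_26_1 L234237 (flp_e L234231) L234247
theorem L234257 : sm gd N26410 = N30167 := rfl
theorem L234259 : sm gb N30167 = N28790 := ded_14_1 L223459 (flp_b L204129) L234257
theorem L234261 : sm ge N30167 = N26413 := ded_22_2 (flp_d L204139) (flp_e L171310) L171306 L204127 L234257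
theorem L234263 : sm gf N26410 = N30168 := rfl
theorem L234265 : sm ge N30168 = N26411 := ded_25_1 (flp_f L204131) L204127 L234263
theorem L234267 : sm gg N30168 = N27211 := ded_29_1 (flp_f L225093) L234127 L234123 L234263
theorem L234269 : sm gg N26410 = N30169 := rfl
theorem L234271 : sm ga N30169 = N28979 := ded_12_1 L234127 L234123 L234269
theorem L234273 : sm gc N30169 = N28978 := ded_21_1 L234237 L234235 L234269
theorem L234275 : sm ge N30169 = N26412 := ded_26_1 (flp_g L204135) L204127 L234269
theorem L234277 : sm gb N26411 = N30170 := rfl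
theorem L234279 : sm gd N30170 = N26416 := ded_14_2 (flp_b L204155) (flp_d L204133) L234277
theorem L234281 : sm gf N30170 = N28661 := ded_16_2 L222106 L192793 (flp_b L171308) L204131 L234277
theorem L234283 : sm ga N28550 = N30170 := ded_9_3 L234279 (flp_a L217386) (flp_d L221277)
theorem L234285 : sm ge N30170 = N29459 := ded_10_2 (flp_a L228280) (flp_e L221279) L234283
theorem L234287 : sm gb N29459 = N30168 := ded_15_1 L234265 L234277 L234285
theorem L234289 : sm gg N26411 = N30171 := rfl
theorem L234291 : sm gd N30171 = N26417 := ded_24_1 (flp_g L204161) (flp_d L204133) L234289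
theorem L234293 : sm ge N30171 = N27211 := ded_26_1 (flp_g L234267) L234265 L234289
theorem L234295 : sm gf N30153 = N30171 := ded_29_0 (flp_g L234289) (flp_f L204131) L204135 (flp_a L234139)
theorem L234297 : sm gb N26992 = N30171 := ded_31_14 (flp_g L234289) (flp_f L204131) L171308 L193481 L223533 (flp_b L227405) (flp_g L227403) L226741 L209245 L192143 (flp_f L216501) L216505 L208963 L209007
theorem L234299 : sm gf N26412 = N30172 := rfl
theorem L234301 : sm ga N30172 = N30171 := ded_11_1 (flp_f L234295) L234139 L234299
theorem L234303 : sm gd N30172 = N26419 := ded_23_1 (flp_f L204173) (flp_d L204137) L234299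
theorem L234305 : sm gg N30172 = N30152 := ded_29_3 L234131 (flp_f L204131) L204135 L234299
theorem L234307 : sm gf N26413 = N30173 := rfl
theorem L234309 : sm gd N30173 = N26414 := ded_23_1 (flp_f L204143) L204139 L234307
theorem L234311 : sm gb N26414 = N30174 := rfl
theorem L234313 : sm ge N30174 = N26416 := ded_15_2 (flp_b L204155) (flp_e L204147) L234311
theorem L234315 : sm gc N30174 = N28034 := ded_13_2 (flp_b L217226) L187979 (flp_b L171330) (flp_c L204145) L234311
theorem L234317 : sm gf N30174 = N28656 := ded_16_2 L222078 L192769 (flp_b L171312) L204143 L234311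
theorem L234319 : sm gg N26414 = N30175 := rfl
theorem L234321 : sm gc N30175 = N26420 := ded_21_1 (flp_g L204181) (flp_c L204145) L234319
theorem L234323 : sm ge N30175 = N26417 := ded_26_1 (flp_g L204161) (flp_e L204147) L234319
theorem L234325 : sm gf N30156 = N30175 := ded_29_0 (flp_g L234319) (flp_f L204143) L204149 (flp_a L234163)
theorem L234327 : sm gd N29514 = N30175 := ded_22_5 L234323 (flp_d L234291) L234293 L226333 (flp_e L228703)
theorem L234329 : sm gb N30175 = N29513 := ded_16_1 (flp_f L228693) (flp_b L228673) L228675 L234169 L234325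
theorem L234331 : sm gg N30173 = N29514 := ded_24_0 L234327 (flp_g L234319) (flp_d L234309)
theorem L234333 : sm gf N26415 = N30176 := rfl
theorem L234335 : sm ga N30176 = N30175 := ded_11_1 (flp_f L234325) L234163 L234333
theorem L234337 : sm gc N30176 = N26421 := ded_20_1 (flp_f L204189) (flp_c L204151) L234333
theorem L234339 : sm ge N30176 = N26419 := ded_25_1 (flp_f L204173) (flp_e L204153) L234333
theorem L234341 : sm gg N30176 = N30155 := ded_29_3 L234155 (flp_f L204143) L204149 L234333
theorem L234343 : sm gg N26416 = N30177 := rfl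
theorem L234345 : sm gc N30177 = N28037 := ded_21_1 (flp_g L217246) (flp_c L204157) L234343
theorem L234347 : sm gb N26417 = N30178 := rfl
theorem L234349 : sm gd N30178 = N26992 := ded_14_2 L234297 L234291 L234347
theorem L234351 : sm ge N30178 = N29513 := ded_15_2 (flp_b L234329) L234323 L234347
theorem L234353 : sm gf N30178 = N26991 := ded_16_2 (flp_b L219464) L234183 (flp_b L234173) L204165 L234347
theorem L234355 : sm ga N30178 = N29516 := ded_28_8 L228715 L223777 (flp_c L209145) L209147 L177884 (flp_d L177799) (flp_c L209009) (flp_d L234349)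
theorem L234357 : sm gb N26419 = N30179 := rfl
theorem L234359 : sm gb N26420 = N30180 := rfl
theorem L234361 : sm gd N30180 = N26879 := ded_14_2 (flp_b L207967) (flp_d L204183) L234359
theorem L234363 : sm ge N30180 = N26422 := ded_15_2 (flp_b L204199) (flp_e L204185) L234359
theorem L234365 : sm gg N30180 = N28039 := ded_17_2 (flp_b L217250) (flp_g L187995) (flp_b L171330) L204181 L234359
theorem L234367 : sm ga N27426 = N30180 := ded_9_3 L234361 (flp_a L207973) L212439
theorem L234369 : sm gb N26421 = N30181 := rfl
theorem L234371 : sm gd N30181 = N26880 := ded_14_2 (flp_b L207977) (flp_d L204193) L234369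
theorem L234373 : sm ge N30181 = N26423 := ded_15_2 (flp_b L204205) (flp_e L204195) L234369
theorem L234375 : sm ga N26422 = N30182 := rfl
theorem L234377 : sm gd N30182 = N26424 := ded_9_2 (flp_a L204209) (flp_d L204201) L234375
theorem L234379 : sm ge N30182 = N27426 := ded_10_2 L234367 L234363 L234375
theorem L234381 : sm gg N30182 = N27969 := ded_12_2 L222529 (flp_g L204203) L234375
theorem L234383 : sm gb N30182 = N27431 := ded_7_2 (flp_a L229234) L229236 L200157 L220732 (flp_a L220736) (flp_b L204205) L171346 L204199 L234375
theorem L234385 : sm gc N27970 = N30182 := ded_21_3 L234381 (flp_c L216687) L216689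
theorem L234387 : sm gc N26422 = N30183 := rfl
theorem L234389 : sm ga N30183 = N27970 := ded_8_1 L234385 (flp_a L234375) L234387
theorem L234391 : sm gg N30183 = N27968 := ded_21_2 L222537 (flp_g L204203) L234387
theorem L234393 : sm gd N27972 = N30183 := ded_9_0 L234389 L216691 (flp_a L216705)
theorem L234395 : sm gf N30183 = N30091 := ded_29_0 (flp_g L233647) L203703 L216689 (flp_a L234389)
theorem L234397 : sm gf N26422 = N30184 := rfl
theorem L234399 : sm gc N30184 = N30091 := ded_20_1 (flp_f L234395) (flp_c L234387) L234397
theorem L234401 : sm gd N30184 = N26426 := ded_23_1 (flp_f L204225) (flp_d L204201) L234397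
theorem L234403 : sm gg N30184 = N30090 := ded_29_3 L233641 (flp_f L217262) (flp_g L204203) L234397
theorem L234405 : sm gb N30184 = N29827 := ded_16_1 L231378 (flp_b L204103) L171342 L204199 L234397
theorem L234407 : sm gg N26423 = N30185 := rfl
theorem L234409 : sm gd N30185 = N26428 := ded_24_1 (flp_g L204241) (flp_d L204207) L234407
theorem L234411 : sm gb N30185 = N28452 := ded_17_1 L220506 (flp_b L204095) (flp_g L171350) L204205 L234407
theorem L234413 : sm gc N26424 = N30186 := rfl
theorem L234415 : sm ga N30186 = N26425 := ded_8_1 (flp_c L204217) L204209 L234413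
theorem L234417 : sm ge N30186 = N26881 := ded_19_2 (flp_c L207985) (flp_e L204211) L234413
theorem L234419 : sm gf N30186 = N29234 := ded_20_2 (flp_c L226723) (flp_f L217296) L234413
theorem L234421 : sm gg N30186 = N28043 := ded_21_2 (flp_c L217268) (flp_g L204213) L234413
theorem L234423 : sm gb N30186 = N30094 := ded_13_1 L233673 L203743 (flp_c L200077) (flp_b L204215) L234413
theorem L234425 : sm gd N26425 = N30187 := rfl
theorem L234427 : sm gb N30187 = N29258 := ded_14_1 L226904 (flp_b L204223) L234425
theorem L234429 : sm gg N30187 = N28045 := ded_24_2 (flp_d L217284) (flp_g L204221) L234425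
theorem L234431 : sm gf N26425 = N30188 := rfl
theorem L234433 : sm ga N30188 = N29234 := ded_11_1 (flp_f L234419) L234415 L234431
theorem L234435 : sm gc N30188 = N26426 := ded_20_1 (flp_f L204225) L204217 L234431
theorem L234437 : sm ge N30188 = N26882 := ded_25_1 (flp_f L207995) (flp_e L204219) L234431
theorem L234439 : sm gb N30188 = N30092 := ded_16_1 L233659 L216701 (flp_f L207511) (flp_b L204223) L234431
theorem L234441 : sm gf N26429 = N30189 := rfl
theorem L234443 : sm gd N30189 = N28891 := ded_23_1 (flp_f L224349) (flp_d L204253) L234441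
theorem L234445 : sm ge N30189 = N26430 := ded_25_1 (flp_f L204255) L204249 L234441
theorem L234447 : sm gg N26429 = N30190 := rfl
theorem L234449 : sm gd N30190 = N27132 := ded_24_1 L210185 (flp_d L204253) L234447
theorem L234451 : sm ge N30190 = N26431 := ded_26_1 (flp_g L204259) L204249 L234447
theorem L234453 : sm gb N30190 = N27128 := ded_17_1 (flp_g L210151) L204279 (flp_g L204271) (flp_b L204251) L234447
theorem L234455 : sm gb N26430 = N30191 := rfl
theorem L234457 : sm gd N30191 = N28026 := ded_14_2 L217150 (flp_d L204257) L234455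
theorem L234459 : sm gc N30191 = N30104 := ded_13_2 (flp_b L233805) L233801 (flp_b L212597) L212601 L234455
theorem L234461 : sm gf N30191 = N26434 := ded_16_2 (flp_b L204281) (flp_f L171372) L171362 L204255 L234455
theorem L234463 : sm ga N30191 = N28028 := ded_7_1 L217168 L192601 (flp_b L192595) L160326 L169761 L201728 (flp_b L212609) L212605 L234455
theorem L234465 : sm gg N26430 = N30192 := rfl
theorem L234467 : sm gc N30192 = N27592 := ded_21_1 L213581 L212601 L234465
theorem L234469 : sm gd N30192 = N28781 := ded_24_1 (flp_g L223385) (flp_d L204257) L234465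
theorem L234471 : sm gf N27589 = N30192 := ded_29_0 (flp_g L234465) (flp_f L204255) L204259 (flp_a L213559)
theorem L234473 : sm gf N26431 = N30193 := rfl
theorem L234475 : sm ga N30193 = N30192 := ded_11_1 (flp_f L234471) L213559 L234473
theorem L234477 : sm gc N30193 = N27450 := ded_20_1 (flp_f L213523) L213519 L234473
theorem L234479 : sm gd N30193 = N28782 := ded_23_1 (flp_f L223395) (flp_d L204261) L234473
theorem L234481 : sm gg N30193 = N27449 := ded_29_3 L212605 (flp_f L204255) L204259 L234473
theorem L234483 : sm gb N26432 = N30194 := rfl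
theorem L234485 : sm gd N30194 = N27425 := ded_14_2 (flp_b L212437) (flp_d L204267) L234483
theorem L234487 : sm ge N30194 = N26434 := ded_15_2 (flp_b L204281) (flp_e L204269) L234483
theorem L234489 : sm gc N30194 = N30100 := ded_13_2 (flp_b L233717) (flp_c L231056) (flp_b L232841) L232837 L234483
theorem L234491 : sm ga N30194 = N27423 := ded_30_3 L216607 (flp_c L211759) (flp_b L181295) L144815 L144851 (flp_c L168768) L200067 (flp_a L200874) (flp_f L200872) L200864 L223809 L170292 L117897 (flp_c L118081) (flp_b L170634) (flp_a L203137) L232833 L232837 L234483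
theorem L234493 : sm gg N27421 = N30194 := ded_24_0 L234485 (flp_g L212427) (flp_d L212413)
theorem L234495 : sm ga N26434 = N30195 := rfl
theorem L234497 : sm gc N30195 = N30103 := ded_8_2 (flp_a L233747) (flp_c L206388) L234495
theorem L234499 : sm gd N30195 = N27741 := ded_9_2 L214729 (flp_d L204283) L234495
theorem L234501 : sm ge N30195 = N27423 := ded_10_2 (flp_a L234491) L234487 L234495
theorem L234503 : sm gf N30195 = N28028 := ded_11_2 (flp_a L234463) L234461 L234495
theorem L234505 : sm gg N27420 = N30195 := ded_21_0 L234497 L233753 L216597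
theorem L234507 : sm gg N26434 = N30196 := rfl
theorem L234509 : sm ga N30196 = N27420 := ded_12_1 L234505 (flp_a L234495) L234507
theorem L234511 : sm gc N30196 = N30098 := ded_21_1 L233703 (flp_c L206388) L234507
theorem L234513 : sm gd N30196 = N27739 := ded_24_1 (flp_g L214717) (flp_d L204283) L234507
theorem L234515 : sm ge N30196 = N27421 := ded_26_1 L234493 L234487 L234507
theorem L234517 : sm gf N30196 = N29932 := ded_29_2 L232336 (flp_a L234463) L234461 L234507
theorem L234519 : sm gc N26435 = N30197 := rfl
theorem L234521 : sm ga N30197 = N27126 := ded_8_1 (flp_c L210137) (flp_a L204291) L234519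
theorem L234523 : sm ge N30197 = N27127 := ded_19_2 (flp_c L210143) (flp_e L204289) L234519
theorem L234525 : sm gb N30197 = N28099 := ded_13_1 L232851 (flp_b L232843) L203151 L204285 L234519
theorem L234527 : sm gd N28100 = N30197 := ded_22_5 L234523 (flp_d L210147) L188315 (flp_d L190117) (flp_e L217734)
theorem L234529 : sm gf N26435 = N30198 := rfl
theorem L234531 : sm ga N30198 = N27098 := ded_11_1 L209927 (flp_a L204291) L234529
theorem L234533 : sm gd N30198 = N27152 := ded_23_1 L210367 (flp_d L204287) L234529
theorem L234535 : sm ge N30198 = N27099 := ded_25_1 L209933 (flp_e L204289) L234529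
theorem L234537 : sm gg N30198 = N28499 := ded_29_3 (flp_a L229456) (flp_f L229960) L229962 L234529
theorem L234539 : sm gb N26436 = N30199 := rfl
theorem L234541 : sm gd N30199 = N28286 := ded_14_2 L219320 (flp_d L204295) L234539
theorem L234543 : sm ge N30199 = N26438 := ded_15_2 (flp_b L204311) (flp_e L204297) L234539
theorem L234545 : sm gg N30199 = N28773 := ded_17_2 (flp_b L223323) (flp_g L193365) (flp_b L171390) L204293 L234539
theorem L234547 : sm gb N26437 = N30200 := rfl
theorem L234549 : sm gd N30200 = N27473 := ded_14_2 (flp_b L212769) (flp_d L204305) L234547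
theorem L234551 : sm ge N30200 = N26439 := ded_15_2 (flp_b L204317) (flp_e L204307) L234547
theorem L234553 : sm gc N30200 = N26665 := ded_13_2 L206164 L206194 L232937 L232929 L234547
theorem L234555 : sm gf N30200 = N30181 := ded_16_2 (flp_b L234369) (flp_f L204189) (flp_b L171398) L204301 L234547
theorem L234557 : sm ga N29031 = N30200 := ded_9_3 L234549 L225500 L225494
theorem L234559 : sm ga N26438 = N30201 := rfl
theorem L234561 : sm gd N30201 = N28284 := ded_9_2 L219294 (flp_d L204313) L234559
theorem L234563 : sm gg N30201 = N28775 := ded_12_2 (flp_a L223341) (flp_g L204315) L234559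
theorem L234565 : sm gc N30201 = N29017 := ded_28_0 L225333 L197281 L181007 (flp_c L153392) (flp_d L158754) (flp_c L190563) (flp_d L204313) L234559
theorem L234567 : sm gb N29913 = N30201 := ded_14_3 L234561 L219296 (flp_d L232186)
theorem L234569 : sm gc N26438 = N30202 := rfl
theorem L234571 : sm ga N30202 = N29017 := ded_8_1 (flp_c L234565) (flp_a L234559) L234569
theorem L234573 : sm gg N30202 = N28776 := ded_21_2 (flp_c L223349) (flp_g L204315) L234569
theorem L234575 : sm gd N30202 = N29018 := ded_28_7 (flp_a L225337) L197281 L181007 (flp_c L153392) (flp_d L158754) (flp_c L190563) (flp_d L204313) L234569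
theorem L234577 : sm gf N26438 = N30203 := rfl
theorem L234579 : sm gd N30203 = N28287 := ded_23_1 (flp_f L219328) (flp_d L204313) L234577
theorem L234581 : sm gb N30203 = N30198 := ded_16_1 (flp_f L234529) (flp_b L204285) L171404 L204311 L234577
theorem L234583 : sm ga N26439 = N30204 := rfl
theorem L234585 : sm gc N30204 = N26798 := ded_8_2 L207313 L206392 L234583
theorem L234587 : sm gd N30204 = N28472 := ded_9_2 L220700 (flp_d L204319) L234583
theorem L234589 : sm ge N30204 = N29031 := ded_10_2 L234557 L234551 L234583
theorem L234591 : sm gf N30204 = N28477 := ded_11_2 (flp_a L220736) (flp_f L204321) L234583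
theorem L234593 : sm gb N30204 = N28471 := ded_7_2 (flp_a L220790) (flp_b L231370) (flp_a L232182) L234567 (flp_a L234559) (flp_b L204311) (flp_a L171408) L204317 L234583
theorem L234595 : sm gg N26439 = N30205 := rfl
theorem L234597 : sm gc N30205 = N26802 := ded_21_1 (flp_g L207337) L206392 L234595
theorem L234599 : sm gd N30205 = N28784 := ded_24_1 (flp_g L223417) (flp_d L204319) L234595
theorem L234601 : sm gb N30205 = N30196 := ded_17_1 (flp_g L234507) (flp_b L204281) (flp_g L171412) L204317 L234595
theorem L234603 : sm gf N26440 = N30206 := rfl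
theorem L234605 : sm ga N30206 = N27469 := ded_11_1 L212747 L204329 L234603
theorem L234607 : sm gc N30206 = N26443 := ded_20_1 (flp_f L204342) (flp_c L204327) L234603
theorem L234609 : sm gd N30206 = N27390 := ded_23_1 L212183 L205073 L234603
theorem L234611 : sm ge N30206 = N29260 := ded_25_1 (flp_f L226910) (flp_e L204325) L234603
theorem L234613 : sm gg N30206 = N27470 := ded_29_3 L212755 L212759 L212763 L234603
theorem L234615 : sm gb N30206 = N27389 := ded_16_1 (flp_f L212171) (flp_b L204404) L171446 L204323 L234603
theorem L234617 : sm gb N26442 = N30207 := rfl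
theorem L234619 : sm gd N30207 = N27533 := ded_14_2 L214070 (flp_d L204338) L234617
theorem L234621 : sm ge N30207 = N29261 := ded_15_2 (flp_b L226922) (flp_e L204340) L234617
theorem L234623 : sm gc N30207 = N27579 := ded_13_2 L213489 L198619 (flp_b L198591) (flp_c L204336) L234617
theorem L234625 : sm ga N30207 = N27539 := ded_7_1 (flp_b L213996) L214002 (flp_b L204354) (flp_a L171421) (flp_b L118566) (flp_a L118548) L171417 L204334 L234617
theorem L234627 : sm gf N26442 = N30208 := rfl
theorem L234629 : sm ga N30208 = N26443 := ded_11_1 (flp_f L204342) L204334 L234627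
theorem L234631 : sm gc N30208 = N27469 := ded_20_1 L212747 (flp_c L204336) L234627
theorem L234633 : sm gd N30208 = N30038 := ded_23_1 (flp_f L233227) (flp_d L204338) L234627
theorem L234635 : sm ge N30208 = N29262 := ded_25_1 (flp_f L226928) (flp_e L204340) L234627
theorem L234637 : sm gg N30208 = N27471 := ded_29_1 L212767 (flp_g L204348) L204334 L234627
theorem L234639 : sm gb N28148 = N30208 := ded_30_2 L234629 (flp_f L204342) (flp_c L204327) (flp_b L204323) L171416 (flp_f L171446) (flp_c L171443) L118587 L96830 L85071 L91566 L108346 L156988 L222607 L156968 (flp_b L171431) (flp_a L204368) L204396 (flp_c L218052)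
theorem L234641 : sm gg N26442 = N30209 := rfl
theorem L234643 : sm ga N30209 = N26444 := ded_12_1 (flp_g L204348) L204334 L234641
theorem L234645 : sm gc N30209 = N29264 := ded_21_1 (flp_g L226950) (flp_c L204336) L234641
theorem L234647 : sm gd N30209 = N30039 := ded_24_1 (flp_g L233231) (flp_d L204338) L234641
theorem L234649 : sm ge N30209 = N29263 := ded_26_1 (flp_g L226942) (flp_e L204340) L234641
theorem L234651 : sm gg N26443 = N30210 := rfl
theorem L234653 : sm ga N30210 = N27471 := ded_12_1 (flp_g L234637) L234629 L234651
theorem L234655 : sm gc N30210 = N27470 := ded_21_1 (flp_g L234613) L234607 L234651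
theorem L234657 : sm gd N30210 = N30042 := ded_24_1 (flp_g L233245) (flp_d L204344) L234651
theorem L234659 : sm gf N30209 = N30210 := ded_29_0 (flp_g L234651) (flp_f L204342) L204348 (flp_a L234643)
theorem L234661 : sm gf N26445 = N30211 := rfl
theorem L234663 : sm gg N26445 = N30212 := rfl
theorem L234665 : sm gd N30212 = N27702 := ded_24_1 L222892 L214000 L234663
theorem L234667 : sm gf N27700 = N30212 := ded_23_0 L234665 (flp_f L214401) L214315
theorem L234669 : sm gg N30211 = N26460 := ded_29_3 (flp_a L214323) L234667 (flp_g L234663) L234661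
theorem L234671 : sm gf N26446 = N30213 := rfl
theorem L234673 : sm ga N30213 = N26451 := ded_11_1 (flp_f L204382) (flp_a L204358) L234671
theorem L234675 : sm gc N30213 = N29103 := ded_20_1 (flp_f L225919) L204360 L234671
theorem L234677 : sm gd N30213 = N26447 := ded_23_1 (flp_f L204362) L204356 L234671
theorem L234679 : sm gg N26446 = N30214 := rfl
theorem L234681 : sm ga N30214 = N26452 := ded_12_1 (flp_g L204388) (flp_a L204358) L234679
theorem L234683 : sm gc N30214 = N29104 := ded_21_1 (flp_g L225923) L204360 L234679
theorem L234685 : sm gd N30214 = N26448 := ded_24_1 (flp_g L204366) L204356 L234679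
theorem L234687 : sm gb N26447 = N30215 := rfl
theorem L234689 : sm gb N26448 = N30216 := rfl
theorem L234691 : sm ge N26449 = N30217 := rfl
theorem L234693 : sm ga N30217 = N29102 := ded_10_1 (flp_e L225915) (flp_a L204372) L234691
theorem L234695 : sm gb N30217 = N30020 := ded_15_1 (flp_e L233103) (flp_b L204374) L234691
theorem L234697 : sm gc N30217 = N26450 := ded_19_1 (flp_e L204378) L204370 L234691
theorem L234699 : sm gf N26449 = N30218 := rfl
theorem L234701 : sm ga N30218 = N29103 := ded_11_1 (flp_f L225919) (flp_a L204372) L234699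
theorem L234703 : sm gc N30218 = N26451 := ded_20_1 (flp_f L204382) L204370 L234699
theorem L234705 : sm gd N30218 = N28329 := ded_23_1 (flp_f L219642) (flp_d L204376) L234699
theorem L234707 : sm gb N30218 = N28326 := ded_16_1 (flp_f L219616) L219612 L219648 (flp_b L204374) L234699
theorem L234709 : sm gg N26449 = N30219 := rfl
theorem L234711 : sm ga N30219 = N29104 := ded_12_1 (flp_g L225923) (flp_a L204372) L234709
theorem L234713 : sm gc N30219 = N26452 := ded_21_1 (flp_g L204388) L204370 L234709
theorem L234715 : sm gd N30219 = N29101 := ded_24_1 (flp_g L225911) (flp_d L204376) L234709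
theorem L234717 : sm gb N30219 = N28706 := ded_17_1 (flp_g L223745) L233117 (flp_g L233109) (flp_b L204374) L234709
theorem L234719 : sm gf N26450 = N30220 := rfl
theorem L234721 : sm ge N30220 = N26451 := ded_25_1 (flp_f L204382) L204378 L234719
theorem L234723 : sm gb N30220 = N30040 := ded_16_1 (flp_f L233235) L203487 (flp_f L171439) (flp_b L204380) L234719
theorem L234725 : sm gg N26450 = N30221 := rfl
theorem L234727 : sm ge N30221 = N26452 := ded_26_1 (flp_g L204388) L204378 L234725
theorem L234729 : sm gb N30221 = N28140 := ded_17_1 (flp_g L217991) L188438 (flp_g L171441) (flp_b L204380) L234725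
theorem L234731 : sm gg N26451 = N30222 := rfl
theorem L234733 : sm gd N30222 = N26453 := ded_24_1 (flp_g L204394) (flp_d L204384) L234731
theorem L234735 : sm gf N30214 = N30222 := ded_29_0 (flp_g L234731) (flp_f L204382) L204388 (flp_a L234681)
theorem L234737 : sm gf N26452 = N30223 := rfl
theorem L234739 : sm ga N30223 = N30222 := ded_11_1 (flp_f L234735) L234681 L234737
theorem L234741 : sm gd N30223 = N26454 := ded_23_1 (flp_f L204398) (flp_d L204390) L234737
theorem L234743 : sm gg N30223 = N30213 := ded_29_3 L234673 (flp_f L204382) L204388 L234737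
theorem L234745 : sm gb N30223 = N29254 := ded_16_1 L226884 (flp_b L214379) (flp_f L222848) (flp_b L204392) L234737
theorem L234747 : sm gb N26453 = N30224 := rfl
theorem L234749 : sm gg N26455 = N30225 := rfl
theorem L234751 : sm ga N30225 = N27385 := ded_12_1 L212149 L204410 L234749
theorem L234753 : sm gc N30225 = N26459 := ded_21_1 (flp_g L204435) (flp_c L204408) L234749
theorem L234755 : sm gd N30225 = N27384 := ded_24_1 L212141 L204825 L234749
theorem L234757 : sm ge N30225 = N29205 := ded_26_1 (flp_g L226499) (flp_e L204406) L234749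
theorem L234759 : sm gf N27387 = N30225 := ded_29_0 (flp_g L234749) L212171 (flp_g L212167) (flp_a L212163)
theorem L234761 : sm gb N30225 = N27472 := ded_17_1 L212763 (flp_b L204323) (flp_g L171448) L204404 L234749
theorem L234763 : sm gb N26457 = N30226 := rfl
theorem L234765 : sm gd N30226 = N27609 := ded_14_2 L214391 (flp_d L204425) L234763
theorem L234767 : sm ge N30226 = N29206 := ded_15_2 (flp_b L226511) (flp_e L204427) L234763
theorem L234769 : sm gc N30226 = N27503 := ded_13_2 L212987 L198248 (flp_b L198220) (flp_c L204423) L234763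
theorem L234771 : sm ga N30226 = N27615 := ded_7_1 (flp_b L214317) L214323 (flp_b L204441) (flp_a L171454) (flp_b L118613) (flp_a L118595) L171450 L204421 L234763
theorem L234773 : sm gf N26457 = N30227 := rfl
theorem L234775 : sm ga N30227 = N26458 := ded_11_1 (flp_f L204429) L204421 L234773
theorem L234777 : sm gc N30227 = N29209 := ded_20_1 (flp_f L226539) (flp_c L204423) L234773
theorem L234779 : sm gd N30227 = N30132 := ded_23_1 (flp_f L233975) (flp_d L204425) L234773
theorem L234781 : sm ge N30227 = N29207 := ded_25_1 (flp_f L226517) (flp_e L204427) L234773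
theorem L234783 : sm gg N26457 = N30228 := rfl
theorem L234785 : sm ga N30228 = N26459 := ded_12_1 (flp_g L204435) L204421 L234783
theorem L234787 : sm gc N30228 = N27385 := ded_21_1 L212149 (flp_c L204423) L234783
theorem L234789 : sm gd N30228 = N30133 := ded_24_1 (flp_g L233979) (flp_d L204425) L234783
theorem L234791 : sm ge N30228 = N29208 := ded_26_1 (flp_g L226525) (flp_e L204427) L234783
theorem L234793 : sm gf N30228 = N27388 := ded_29_2 (flp_g L212175) (flp_a L234775) (flp_f L234773) L234783
theorem L234795 : sm gb N28128 = N30228 := ded_14_3 L234789 (flp_b L234003) (flp_d L217920)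
theorem L234797 : sm gf N26459 = N30229 := rfl
theorem L234799 : sm ga N30229 = N27388 := ded_11_1 (flp_f L234793) L234785 L234797
theorem L234801 : sm gc N30229 = N27387 := ded_20_1 L234759 L234753 L234797
theorem L234803 : sm gd N30229 = N30137 := ded_23_1 (flp_f L234005) (flp_d L204437) L234797
theorem L234805 : sm gg N30229 = N30227 := ded_29_3 L234775 (flp_f L204429) L204435 L234797
theorem L234807 : sm gf N26460 = N30230 := rfl
theorem L234809 : sm ga N30230 = N30212 := ded_11_1 (flp_f L234667) L214323 L234807
theorem L234811 : sm gc N30230 = N30212 := ded_20_1 (flp_f L234667) L214319 L234807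
theorem L234813 : sm gd N30230 = N27663 := ded_23_1 (flp_f L222888) L214321 L234807
theorem L234815 : sm gg N30230 = N27660 := ded_29_3 L214002 L234661 L234669 L234807
theorem L234817 : sm gf N26461 = N30231 := rfl
theorem L234819 : sm ga N30231 = N26466 := ded_11_1 (flp_f L204469) (flp_a L204445) L234817
theorem L234821 : sm gc N30231 = N29154 := ded_20_1 (flp_f L226191) L204447 L234817
theorem L234823 : sm gd N30231 = N26462 := ded_23_1 (flp_f L204449) L204443 L234817
theorem L234825 : sm gg N26461 = N30232 := rfl
theorem L234827 : sm ga N30232 = N26467 := ded_12_1 (flp_g L204475) (flp_a L204445) L234825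
theorem L234829 : sm gc N30232 = N29155 := ded_21_1 (flp_g L226195) L204447 L234825
theorem L234831 : sm gd N30232 = N26463 := ded_24_1 (flp_g L204453) L204443 L234825
theorem L234833 : sm gb N26462 = N30233 := rfl
theorem L234835 : sm gb N26463 = N30234 := rfl
theorem L234837 : sm ge N26464 = N30235 := rfl
theorem L234839 : sm ga N30235 = N29153 := ded_10_1 (flp_e L226187) (flp_a L204459) L234837
theorem L234841 : sm gb N30235 = N30114 := ded_15_1 (flp_e L233851) (flp_b L204461) L234837
theorem L234843 : sm gc N30235 = N26465 := ded_19_1 (flp_e L204465) L204457 L234837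
theorem L234845 : sm gf N26464 = N30236 := rfl
theorem L234847 : sm ga N30236 = N29154 := ded_11_1 (flp_f L226191) (flp_a L204459) L234845
theorem L234849 : sm gc N30236 = N26466 := ded_20_1 (flp_f L204469) L204457 L234845
theorem L234851 : sm gd N30236 = N29152 := ded_23_1 (flp_f L226183) (flp_d L204463) L234845
theorem L234853 : sm gb N30236 = N28769 := ded_16_1 (flp_f L224025) L233865 (flp_f L233857) (flp_b L204461) L234845
theorem L234855 : sm gg N26464 = N30237 := rfl
theorem L234857 : sm ga N30237 = N29155 := ded_12_1 (flp_g L226195) (flp_a L204459) L234855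
theorem L234859 : sm gc N30237 = N26467 := ded_21_1 (flp_g L204475) L204457 L234855
theorem L234861 : sm gd N30237 = N28337 := ded_24_1 L220028 (flp_d L204463) L234855
theorem L234863 : sm gb N30237 = N28334 := ded_17_1 (flp_g L219684) L219680 (flp_g L220026) (flp_b L204461) L234855
theorem L234865 : sm gf N26465 = N30238 := rfl
theorem L234867 : sm ge N30238 = N26466 := ded_25_1 (flp_f L204469) L204465 L234865
theorem L234869 : sm gb N30238 = N28160 := ded_16_1 (flp_f L218130) L188520 (flp_f L171472) (flp_b L204467) L234865

end Cfsg.Agent.Helper28.SzbA
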