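import Cfsg.Agent.Helper28.SzbB20

/-! # The Suzuki group presentation, cosets of the subgroup generated by a, b, c, d, f, g: the coset enumeration, part 21 (helper28; generated) -/

set_option autoImplicit false

noncomputable section

namespace Cfsg.Agent.Helper28.SzbA

open Cfsg.Agent.Helper28.CosetTable

theorem L234871 : sm gg N26465 = N30239 := rfl
theorem L234873 : sm ge N30239 = N26467 := ded_26_1 (flp_g L204475) L204465 L234871
theorem L234875 : sm gb N30239 = N30135 := ded_17_1 (flp_g L233989) L203987 (flp_g L171474) (flp_b L204467) L234871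
theorem L234877 : sm gg N26466 = N30240 := rfl
theorem L234879 : sm gd N30240 = N26468 := ded_24_1 (flp_g L204481) (flp_d L204471) L234877
theorem L234881 : sm gf N30232 = N30240 := ded_29_0 (flp_g L234877) (flp_f L204469) L204475 (flp_a L234827)
theorem L234883 : sm gb N30240 = N29199 := ded_17_1 L226473 (flp_b L214058) L222748 (flp_b L204473) L234877
theorem L234885 : sm gf N26467 = N30241 := rfl
theorem L234887 : sm ga N30241 = N30240 := ded_11_1 (flp_f L234881) L234827 L234885
theorem L234889 : sm gd N30241 = N26469 := ded_23_1 (flp_f L204485) (flp_d L204477) L234885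
theorem L234891 : sm gg N30241 = N30231 := ded_29_3 L234819 (flp_f L204469) L204475 L234885
theorem L234893 : sm gb N26469 = N30242 := rfl
theorem L234895 : sm gf N26470 = N30243 := rfl
theorem L234897 : sm ga N30243 = N26471 := ded_11_1 (flp_f L204502) L204491 L234895
theorem L234899 : sm gc N30243 = N26483 := ded_20_1 (flp_f L204613) (flp_c L204493) L234895
theorem L234901 : sm gd N30243 = N28922 := ded_23_1 (flp_f L224607) (flp_d L204495) L234895
theorem L234903 : sm ge N30243 = N26486 := ded_25_1 (flp_f L204640) (flp_e L204497) L234895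
theorem L234905 : sm gg N30243 = N26471 := ded_29_3 (flp_a L234897) (flp_f L234895) L204499 L234895
theorem L234907 : sm gg N26472 = N30244 := rfl
theorem L234909 : sm ga N30244 = N26473 := ded_12_1 (flp_g L204523) L204512 L234907
theorem L234911 : sm gc N30244 = N26488 := ded_21_1 (flp_g L204654) (flp_c L204514) L234907
theorem L234913 : sm gd N30244 = N28933 := ded_24_1 (flp_g L224707) (flp_d L204516) L234907
theorem L234915 : sm ge N30244 = N26491 := ded_26_1 (flp_g L204681) (flp_e L204518) L234907
theorem L234917 : sm gf N26473 = N30244 := ded_29_0 (flp_g L234907) L204520 L234907 L234909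
theorem L234919 : sm gb N30244 = N30243 := ded_17_1 L234905 L204510 (flp_g L196234) (flp_b L204521) L234907
theorem L234921 : sm gf N26485 = N30245 := rfl
theorem L234923 : sm ga N30245 = N26494 := ded_11_1 (flp_f L204712) (flp_a L204633) L234921
theorem L234925 : sm gc N30245 = N26581 := ded_20_1 (flp_f L205462) (flp_c L204727) L234921
theorem L234927 : sm gd N30245 = N26486 := ded_23_1 (flp_f L204640) L204631 L234921
theorem L234929 : sm ge N30245 = N26584 := ded_25_1 L205492 (flp_e L204638) L234921
theorem L234931 : sm gg N30245 = N26494 := ded_29_3 (flp_a L234923) (flp_f L234921) L204637 L234921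
theorem L234933 : sm gg N26490 = N30246 := rfl
theorem L234935 : sm ga N30246 = N26524 := ded_12_1 (flp_g L204946) (flp_a L204674) L234933
theorem L234937 : sm gc N30246 = N26735 := ded_21_1 (flp_g L206771) (flp_c L204961) L234933
theorem L234939 : sm gd N30246 = N26491 := ded_24_1 (flp_g L204681) L204672 L234933
theorem L234941 : sm ge N30246 = N26738 := ded_26_1 L206805 (flp_e L204679) L234933
theorem L234943 : sm gf N26524 = N30246 := ded_29_0 (flp_g L234933) L204678 L234933 L234935
theorem L234945 : sm gb N30246 = N30245 := ded_17_1 L234931 L204718 (flp_g L184569) (flp_b L204676) L234933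
theorem L234947 : sm gf N26493 = N30247 := rfl
theorem L234949 : sm ga N30247 = N26581 := ded_11_1 (flp_f L205462) L204722 L234947
theorem L234951 : sm gc N30247 = N26494 := ded_20_1 (flp_f L204712) L204703 L234947
theorem L234953 : sm gd N30247 = N26546 := ded_23_1 (flp_f L205139) (flp_d L204710) L234947
theorem L234955 : sm ge N30247 = N26575 := ded_25_1 (flp_f L205397) (flp_e L204705) L234947
theorem L234957 : sm gg N30247 = N26581 := ded_29_3 (flp_a L234949) (flp_f L234947) L204707 L234947
theorem L234959 : sm gb N30247 = N26600 := ded_16_1 (flp_f L205639) (flp_b L205434) (flp_f L172709) (flp_b L204708) L234947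
theorem L234961 : sm gb N26498 = N30248 := rfl
theorem L234963 : sm ge N30248 = N26499 := ded_15_2 (flp_b L204756) (flp_e L204754) L234961
theorem L234965 : sm gc N30248 = N27382 := ded_13_2 L212123 (flp_c L200299) L200295 (flp_c L204752) L234961
theorem L234967 : sm gf N30248 = N26502 := ded_16_2 (flp_b L204782) (flp_f L171990) (flp_b L171935) L204750 L234961
theorem L234969 : sm ga N27383 = N30248 := ded_10_3 L234963 (flp_a L204764) (flp_e L212127)
theorem L234971 : sm gg N26854 = N30248 := ded_26_0 L234963 (flp_g L204766) L207770
theorem L234973 : sm gf N26500 = N30249 := rfl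
theorem L234975 : sm gc N30249 = N26873 := ded_20_1 (flp_f L207931) (flp_c L204772) L234973
theorem L234977 : sm ge N30249 = N26501 := ded_25_1 (flp_f L204774) L204768 L234973
theorem L234979 : sm gg N26502 = N30249 := ded_29_1 (flp_f L234973) (flp_g L212129) L234969 L234967
theorem L234981 : sm ga N26502 = N30250 := rfl
theorem L234983 : sm ge N30250 = N26503 := ded_10_2 (flp_a L204786) (flp_e L204784) L234981
theorem L234985 : sm gf N30250 = N27383 := ded_11_2 L234969 L234967 L234981
theorem L234987 : sm gb N27365 = N30250 := ded_15_3 L234983 (flp_b L204794) (flp_e L211995)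
theorem L234989 : sm gc N27363 = N30250 := ded_19_3 L234983 L204792 (flp_e L211983)
theorem L234991 : sm gc N26502 = N30251 := rfl
theorem L234993 : sm ga N30251 = N27363 := ded_8_1 L234989 (flp_a L234981) L234991
theorem L234995 : sm ge N30251 = N26504 := ded_19_2 (flp_c L204796) (flp_e L204784) L234991
theorem L234997 : sm gf N30251 = N27382 := ded_20_2 (flp_c L234965) L234967 L234991
theorem L234999 : sm gg N30251 = N26873 := ded_21_2 (flp_c L234975) (flp_g L234979) L234991
theorem L235001 : sm gb N30251 = N26799 := ded_13_1 L207319 (flp_b L178967) L178959 L204782 L234991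
theorem L235003 : sm gb N26507 = N30252 := rfl
theorem L235005 : sm ge N30252 = N26508 := ded_15_2 (flp_b L204837) (flp_e L204833) L235003
theorem L235007 : sm gc N30252 = N27805 := ded_13_2 L215367 L185161 (flp_b L181541) (flp_c L204831) L235003
theorem L235009 : sm gf N30252 = N26509 := ded_16_2 (flp_b L204845) (flp_f L172053) (flp_b L172025) L204827 L235003
theorem L235011 : sm ga N26509 = N30253 := rfl
theorem L235013 : sm ge N30253 = N26510 := ded_10_2 (flp_a L204849) (flp_e L204847) L235011
theorem L235015 : sm gb N30253 = N26819 := ded_7_2 L207487 L205012 L172279 (flp_b L172230) L172228 (flp_b L172085) (flp_a L172055) L204845 L235011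
theorem L235017 : sm gc N26509 = N30254 := rfl
theorem L235019 : sm ge N30254 = N26511 := ded_19_2 (flp_c L204855) (flp_e L204847) L235017
theorem L235021 : sm gf N30254 = N27805 := ded_20_2 (flp_c L235007) L235009 L235017
theorem L235023 : sm gb N30254 = N27055 := ded_13_1 L209551 (flp_b L178915) L178907 L204845 L235017
theorem L235025 : sm gg N26509 = N30255 := rfl
theorem L235027 : sm ge N30255 = N26512 := ded_26_1 (flp_g L204863) (flp_e L204847) L235025
theorem L235029 : sm gb N30255 = N30249 := ded_17_1 (flp_g L234979) (flp_b L204782) L172059 L204845 L235025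
theorem L235031 : sm gf N30255 = N26515 := ded_31_1 (flp_b L204883) (flp_g L172090) (flp_f L121281) L97349 (flp_g L121208) L171990 L204782 L234979 (flp_f L234973) L204770 L171982 L172053 L204845 L235025
theorem L235033 : sm gg N26510 = N30256 := rfl
theorem L235035 : sm ga N30256 = N26512 := ded_12_1 (flp_g L204863) L204849 L235033
theorem L235037 : sm gd N30256 = N26513 := ded_24_1 (flp_g L204871) (flp_d L204851) L235033
theorem L235039 : sm gf N26519 = N30256 := ded_29_0 (flp_g L235033) L204908 L204904 L204910
theorem L235041 : sm gb N30256 = N27728 := ded_17_1 (flp_g L214603) L207497 (flp_g L207489) (flp_b L204853) L235033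
theorem L235043 : sm gb N26514 = N30257 := rfl
theorem L235045 : sm ge N30257 = N26518 := ded_15_2 (flp_b L204900) (flp_e L204881) L235043
theorem L235047 : sm gg N30257 = N26515 := ded_17_2 (flp_b L204883) (flp_g L172090) L172085 L204879 L235043
theorem L235049 : sm ga N30252 = N30257 := ded_10_3 L235045 (flp_a L204906) (flp_e L235005)
theorem L235051 : sm gf N30253 = N30257 := ded_25_0 L235045 (flp_f L204908) (flp_e L235013)
theorem L235053 : sm ga N26515 = N30258 := rfl
theorem L235055 : sm ge N30258 = N26519 := ded_10_2 (flp_a L204910) (flp_e L204885) L235053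
theorem L235057 : sm gg N30258 = N30252 := ded_12_2 L235049 L235047 L235053
theorem L235059 : sm gc N26515 = N30259 := rfl
theorem L235061 : sm ge N30259 = N26520 := ded_19_2 (flp_c L204916) (flp_e L204885) L235059
theorem L235063 : sm gb N30259 = N27934 := ded_13_1 L216433 (flp_b L209659) L178919 L204883 L235059
theorem L235065 : sm gd N27935 = N30259 := ded_22_5 L235061 L208507 L208501 (flp_d L195952) (flp_e L216443)
theorem L235067 : sm gg N26516 = N30260 := rfl
theorem L235069 : sm ga N30260 = N26735 := ded_12_1 (flp_g L206771) L204956 L235067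
theorem L235071 : sm gc N30260 = N26524 := ded_21_1 (flp_g L204946) L204894 L235067
theorem L235073 : sm gd N30260 = N26517 := ded_24_1 (flp_g L204896) L204887 L235067
theorem L235075 : sm ge N30260 = N26730 := ded_26_1 (flp_g L206716) (flp_e L204892) L235067
theorem L235077 : sm gf N26735 = N30260 := ded_29_0 (flp_g L235067) L204891 L235067 L235069
theorem L235079 : sm gb N30260 = N26750 := ded_17_1 (flp_g L206924) (flp_b L206759) L174234 (flp_b L204889) L235067
theorem L235081 : sm gb N26528 = N30261 := rfl
theorem L235083 : sm ge N30261 = N26529 := ded_15_2 (flp_b L204998) (flp_e L204994) L235081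
theorem L235085 : sm gc N30261 = N27467 := ded_13_2 L212735 (flp_c L201978) L201974 (flp_c L204992) L235081
theorem L235087 : sm gf N30261 = N26819 := ded_16_2 (flp_b L235015) L235051 (flp_b L235043) L204996 L235081
theorem L235089 : sm gg N30261 = N26532 := ded_17_2 (flp_b L205024) (flp_g L172289) (flp_b L172230) L204988 L235081
theorem L235091 : sm ga N30261 = N27468 := ded_7_1 L212743 (flp_a L212187) (flp_b L212177) (flp_a L204829) L235003 L235049 (flp_b L235043) (flp_a L204990) L235081
theorem L235093 : sm gg N26530 = N30262 := rfl
theorem L235095 : sm gc N30262 = N26838 := ded_21_1 (flp_g L207646) (flp_c L205014) L235093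
theorem L235097 : sm ge N30262 = N26531 := ded_26_1 (flp_g L205016) L205010 L235093
theorem L235099 : sm gf N30262 = N26532 := ded_29_2 (flp_g L235089) L235091 L212741 L235093
theorem L235101 : sm ga N26532 = N30263 := rfl
theorem L235103 : sm ge N30263 = N26533 := ded_10_2 (flp_a L205028) (flp_e L205026) L235101
theorem L235105 : sm gg N30263 = N27468 := ded_12_2 (flp_a L235091) L235089 L235101
theorem L235107 : sm gb N27453 = N30263 := ded_15_3 L235103 (flp_b L205036) (flp_e L212631)
theorem L235109 : sm gc N27451 = N30263 := ded_19_3 L235103 L205034 (flp_e L212619)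
theorem L235111 : sm gc N26532 = N30264 := rfl
theorem L235113 : sm ga N30264 = N27451 := ded_8_1 L235109 (flp_a L235101) L235111
theorem L235115 : sm ge N30264 = N26534 := ded_19_2 (flp_c L205038) (flp_e L205026) L235111
theorem L235117 : sm gf N30264 = N26838 := ded_20_2 (flp_c L235095) L235099 L235111
theorem L235119 : sm gg N30264 = N27467 := ded_21_2 (flp_c L235085) L235089 L235111
theorem L235121 : sm gb N30264 = N26683 := ded_13_1 L206316 (flp_b L178876) L178868 L205024 L235111
theorem L235123 : sm gb N26537 = N30265 := rfl
theorem L235125 : sm ge N30265 = N26538 := ded_15_2 (flp_b L205085) (flp_e L205081) L235123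
theorem L235127 : sm gc N30265 = N27814 := ded_13_2 L215455 L185363 (flp_b L182021) (flp_c L205079) L235123
theorem L235129 : sm gg N30265 = N26539 := ded_17_2 (flp_b L205093) (flp_g L172358) (flp_b L172330) L205075 L235123
theorem L235131 : sm ga N26539 = N30266 := rfl
theorem L235133 : sm ge N30266 = N26540 := ded_10_2 (flp_a L205097) (flp_e L205095) L235131
theorem L235135 : sm gb N30266 = N26854 := ded_7_2 L207772 L204770 L171980 (flp_b L171935) L172395 (flp_b L172390) (flp_a L172360) L205093 L235131
theorem L235137 : sm gc N26539 = N30267 := rfl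
theorem L235139 : sm ge N30267 = N26541 := ded_19_2 (flp_c L205103) (flp_e L205095) L235137
theorem L235141 : sm gg N30267 = N27814 := ded_21_2 (flp_c L235127) L235129 L235137
theorem L235143 : sm gb N30267 = N27047 := ded_13_1 L209479 (flp_b L178824) L178816 L205093 L235137
theorem L235145 : sm gf N26539 = N30268 := rfl
theorem L235147 : sm ge N30268 = N26542 := ded_25_1 (flp_f L205111) (flp_e L205095) L235145
theorem L235149 : sm gb N30268 = N30262 := ded_16_1 L235099 (flp_b L205024) (flp_f L172364) L205093 L235145
theorem L235151 : sm gg N26545 = N30268 := ded_31_0 (flp_f L235145) (flp_b L205093) (flp_g L172358) (flp_f L172281) (flp_b L205012) L235093 L235099 (flp_b L205024) (flp_g L172289) L121537 L97522 L121612 L172397 L205135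
theorem L235153 : sm gf N26540 = N30269 := rfl
theorem L235155 : sm ga N30269 = N26542 := ded_11_1 (flp_f L205111) L205097 L235153
theorem L235157 : sm gd N30269 = N26543 := ded_23_1 (flp_f L205119) (flp_d L205099) L235153
theorem L235159 : sm gg N30269 = N26548 := ded_29_3 (flp_a L205157) (flp_f L205151) L205153 L235153
theorem L235161 : sm gb N30269 = N27732 := ded_16_1 L214651 L207782 (flp_f L207774) (flp_b L205101) L235153
theorem L235163 : sm gb N26544 = N30270 := rfl
theorem L235165 : sm ge N30270 = N26547 := ded_15_2 (flp_b L205147) (flp_e L205131) L235163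
theorem L235167 : sm gf N30270 = N26545 := ded_16_2 (flp_b L205135) (flp_f L172397) L172390 L205127 L235163
theorem L235169 : sm gg N30270 = N30266 := ded_17_2 L235135 L234971 (flp_b L234961) (flp_g L205133) L235163
theorem L235171 : sm ga N30270 = N30265 := ded_7_1 (flp_b L235123) L205077 (flp_b L212143) L212135 (flp_b L212131) L234969 (flp_b L234961) (flp_a L205129) L235163
theorem L235173 : sm ga N26545 = N30271 := rfl
theorem L235175 : sm ge N30271 = N26548 := ded_10_2 (flp_a L205157) (flp_e L205137) L235173
theorem L235177 : sm gf N30271 = N30265 := ded_11_2 (flp_a L235171) L235167 L235173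
theorem L235179 : sm gc N26545 = N30272 := rfl
theorem L235181 : sm ge N30272 = N26549 := ded_19_2 (flp_c L205163) (flp_e L205137) L235179
theorem L235183 : sm gb N30272 = N27906 := ded_13_1 L216235 (flp_b L209601) L178828 L205135 L235179
theorem L235185 : sm gd N27907 = N30272 := ded_22_5 L235181 L208680 L208674 (flp_d L196351) (flp_e L216245)
theorem L235187 : sm gb N26555 = N30273 := rfl
theorem L235189 : sm ge N30273 = N26558 := ded_15_2 (flp_b L205242) (flp_e L205227) L235187
theorem L235191 : sm gg N30273 = N28228 := ded_17_2 L218756 L218762 (flp_b L218770) L212845 L235187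
theorem L235193 : sm ga N30273 = N28883 := ded_7_1 L224289 (flp_a L211797) L211803 L189311 (flp_b L182901) L145736 L172468 L205225 L235187
theorem L235195 : sm gf N26555 = N30274 := rfl
theorem L235197 : sm ga N30274 = N26557 := ded_11_1 (flp_f L205238) L205225 L235195
theorem L235199 : sm ge N30274 = N26560 := ded_25_1 (flp_f L205258) (flp_e L205227) L235195
theorem L235201 : sm gg N27484 = N30274 := ded_29_1 (flp_f L235195) (flp_g L212845) (flp_a L212839) L212847
theorem L235203 : sm gb N30274 = N28516 := ded_31_2 (flp_g L221030) (flp_f L220956) L220958 (flp_g L211947) (flp_f L211939) (flp_b L181387) L144863 L145386 L182323 L213043 (flp_f L218768) (flp_b L218770) L212845 L235195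
theorem L235205 : sm gf N26556 = N30275 := rfl
theorem L235207 : sm gc N30275 = N26557 := ded_20_1 (flp_f L205238) L205229 L235205
theorem L235209 : sm gd N30275 = N27854 := ded_23_1 (flp_f L215817) L205236 L235205
theorem L235211 : sm ge N30275 = N26562 := ded_25_1 (flp_f L205279) (flp_e L205231) L235205
theorem L235213 : sm gg N26557 = N30276 := rfl
theorem L235215 : sm ga N30276 = N27484 := ded_12_1 L235201 L235197 L235213
theorem L235217 : sm ge N30276 = N26563 := ded_26_1 (flp_g L205285) (flp_e L205240) L235213
theorem L235219 : sm gf N27483 = N30276 := ded_29_0 (flp_g L235213) (flp_f L205238) (flp_g L182219) L212839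
theorem L235221 : sm gb N30276 = N27369 := ded_17_1 (flp_g L212017) L212003 (flp_g L212009) L205806 L235213
theorem L235223 : sm gf N26559 = N30277 := rfl
theorem L235225 : sm ga N30277 = N26562 := ded_11_1 (flp_f L205279) (flp_a L205252) L235223
theorem L235227 : sm gc N30277 = N26560 := ded_20_1 (flp_f L205258) L205250 L235223
theorem L235229 : sm gd N30277 = N26943 := ded_23_1 (flp_f L208570) L205256 L235223
theorem L235231 : sm gg N30277 = N27715 := ded_29_3 L214487 (flp_f L208562) (flp_g L205254) L235223
theorem L235233 : sm gb N30277 = N27800 := ded_16_1 (flp_f L215323) L185093 L208104 L208106 L235223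
theorem L235235 : sm gb N26562 = N30278 := rfl
theorem L235237 : sm gd N30278 = N27874 := ded_14_2 L216010 (flp_d L205283) L235235
theorem L235239 : sm gc N30278 = N27793 := ded_13_2 L215264 (flp_c L205796) L173317 (flp_c L205281) L235235
theorem L235241 : sm gf N30278 = N30278 := ded_16_2 (flp_b L235235) (flp_f L205279) L172478 L205279 L235235
theorem L235242 : sm ga N30278 = N27794 := ded_7_1 L215271 L196125 (flp_b L195588) L195580 (flp_b L185105) (flp_a L215317) (flp_b L235233) L235225 L235235
theorem L235244 : sm gb N26570 = N30279 := rfl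
theorem L235246 : sm ge N30279 = N26571 := ded_15_2 (flp_b L205360) (flp_e L205358) L235244
theorem L235248 : sm ga N30279 = N27928 := ded_7_1 (flp_b L216393) (flp_a L216387) L231518 (flp_a L231508) (flp_b L201866) L169825 L191509 (flp_a L205354) L235244
theorem L235250 : sm gc N27931 = N30279 := ded_19_3 L235246 L205374 (flp_e L216415)
theorem L235252 : sm gb N26579 = N30280 := rfl
theorem L235254 : sm gd N30280 = N27036 := ded_14_2 (flp_b L229428) L229420 L235252
theorem L235256 : sm ge N30280 = N26580 := ded_15_2 (flp_b L205444) (flp_e L205440) L235252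
theorem L235258 : sm gc N30280 = N26752 := ded_13_2 L206940 (flp_c L178577) (flp_b L206785) L206777 L235252
theorem L235260 : sm gf N30280 = N26751 := ded_16_2 L206930 L205665 L205486 (flp_f L205484) L235252
theorem L235262 : sm gg N30280 = N26600 := ded_17_2 (flp_b L234959) L234957 (flp_b L205456) (flp_g L205442) L235252
theorem L235264 : sm ga N30280 = N26603 := ded_7_1 L205659 (flp_a L178489) (flp_b L204724) L204722 L204708 L172630 L172711 L205438 L235252
theorem L235266 : sm ge N26586 = N30281 := rfl
theorem L235268 : sm ga N30281 = N28015 := ded_10_1 L217062 (flp_a L205508) L235266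
theorem L235270 : sm gf N30281 = N28013 := ded_25_2 L217048 (flp_f L205510) L235266
theorem L235272 : sm gg N30281 = N28015 := ded_26_2 L217062 (flp_g L205512) L235266
theorem L235274 : sm ge N26592 = N30282 := rfl
theorem L235276 : sm ga N30282 = N26593 := ded_10_1 (flp_e L205572) L205564 L235274
theorem L235278 : sm gb N30282 = N28017 := ded_15_1 L217086 (flp_b L205570) L235274
theorem L235280 : sm gg N30282 = N27903 := ded_26_2 L216217 (flp_g L205568) L235274
theorem L235282 : sm gd N30282 = N28937 := ded_22_1 (flp_e L224752) (flp_d L196524) (flp_e L196474) (flp_d L205566) L235274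
theorem L235284 : sm gd N26593 = N30283 := rfl
theorem L235286 : sm ga N30283 = N28937 := ded_9_1 (flp_d L235282) L235276 L235284
theorem L235288 : sm gb N30283 = N26595 := ded_14_1 (flp_d L205588) (flp_b L205574) L235284
theorem L235290 : sm gg N30283 = N27904 := ded_24_2 (flp_d L216219) (flp_g L205576) L235284
theorem L235292 : sm ge N30283 = N27754 := ded_22_2 L214876 (flp_e L190303) (flp_d L190307) L205572 L235284
theorem L235294 : sm gc N27478 = N30283 := ded_8_0 L235286 (flp_c L229872) L229870
theorem L235296 : sm gf N30283 = N29656 := ded_29_0 (flp_g L229860) L229848 (flp_g L229858) (flp_a L235286)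
theorem L235298 : sm gf N26593 = N30284 := rfl
theorem L235300 : sm gc N30284 = N28100 := ded_20_1 (flp_f L233125) L233123 L235298
theorem L235302 : sm gd N30284 = N29656 := ded_23_1 (flp_f L235296) (flp_d L235284) L235298
theorem L235304 : sm ge N30284 = N26594 := ded_25_1 (flp_f L205578) L205572 L235298
theorem L235306 : sm gg N30284 = N28283 := ded_29_3 L219284 (flp_f L216227) (flp_g L205576) L235298
theorem L235308 : sm gb N30284 = N28783 := ded_16_1 L223411 L204237 (flp_f L191541) (flp_b L205574) L235298
theorem L235310 : sm gg N26601 = N30285 := rfl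
theorem L235312 : sm ga N30285 = N26752 := ded_12_1 (flp_g L215074) L215076 L235310
theorem L235314 : sm gc N30285 = N26603 := ded_21_1 (flp_g L205653) L205641 L235310
theorem L235316 : sm gd N30285 = N27039 := ded_24_1 (flp_g L215084) L215082 L235310
theorem L235318 : sm ge N30285 = N26608 := ded_26_1 (flp_g L205701) (flp_e L205643) L235310
theorem L235320 : sm gf N26750 = N30285 := ded_29_0 (flp_g L235310) (flp_f L206952) (flp_g L206942) L206920
theorem L235322 : sm gb N30285 = N26733 := ded_17_1 (flp_g L206795) L206797 (flp_g L205679) L205681 L235310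
theorem L235324 : sm ge N26612 = N30286 := rfl
theorem L235326 : sm ga N30286 = N26613 := ded_10_1 (flp_e L205749) L205739 L235324
theorem L235328 : sm gb N30286 = N28217 := ded_15_1 L218646 (flp_b L205747) L235324
theorem L235330 : sm gc N30286 = N26626 := ded_19_1 (flp_e L205854) (flp_c L205741) L235324
theorem L235332 : sm gf N30286 = N26638 := ded_25_2 L205929 (flp_f L205745) L235324
theorem L235334 : sm gd N30286 = N28641 := ded_22_1 (flp_e L223785) L223783 L193727 (flp_d L205743) L235324
theorem L235336 : sm ge N26618 = N30287 := rfl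
theorem L235338 : sm ga N30287 = N26620 := ded_10_1 (flp_e L205810) (flp_a L205798) L235336
theorem L235340 : sm gc N30287 = N26619 := ded_19_1 (flp_e L205802) L205796 L235336
theorem L235342 : sm gf N30287 = N27631 := ded_25_2 L213821 (flp_f L205800) L235336
theorem L235344 : sm gd N29902 = N30287 := ded_28_7 L235338 L205812 (flp_d L200870) L223829 (flp_d L170268) (flp_c L170244) L202440 L232084
theorem L235346 : sm gd N26620 = N30288 := rfl
theorem L235348 : sm ga N30288 = N29902 := ded_9_1 L235344 L235338 L235346
theorem L235350 : sm gc N29901 = N30288 := ded_28_0 (flp_d L235346) L205812 (flp_d L200870) L223829 (flp_d L170268) (flp_c L170244) L202440 (flp_a L232080)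
theorem L235352 : sm gg N26620 = N30289 := rfl
theorem L235354 : sm gc N30289 = N26623 := ded_21_1 (flp_g L205826) (flp_c L205812) L235352
theorem L235356 : sm ge N30289 = N26621 := ded_26_1 (flp_g L205814) L205810 L235352
theorem L235358 : sm gf N29043 = N30289 := ded_29_0 (flp_g L235352) L206454 (flp_g L213529) (flp_a L225479)
theorem L235360 : sm gb N30289 = N26871 := ded_17_1 (flp_g L207925) (flp_b L212727) (flp_g L214926) L214920 L235352
theorem L235362 : sm gd N26626 = N30290 := rfl
theorem L235364 : sm ga N30290 = N26628 := ded_9_1 (flp_d L205868) (flp_a L205856) L235362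
theorem L235366 : sm gb N30290 = N30045 := ded_14_1 L233273 L214968 L235362
theorem L235368 : sm ge N30290 = N30044 := ded_22_2 L233261 L209793 (flp_d L179783) L205854 L235362
theorem L235370 : sm gc N30054 = N30290 := ded_13_0 L235366 L233271 L203503 (flp_c L203559) (flp_b L233357)
theorem L235372 : sm gg N26626 = N30291 := rfl
theorem L235374 : sm ga N30291 = N26630 := ded_12_1 (flp_g L205878) (flp_a L205856) L235372
theorem L235376 : sm ge N30291 = N26627 := ded_26_1 (flp_g L205858) L205854 L235372
theorem L235378 : sm gf N30291 = N26916 := ded_29_2 L208311 L213727 (flp_f L213729) L235372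
theorem L235380 : sm gb N30291 = N28920 := ded_17_1 (flp_g L224587) (flp_b L224499) L224503 L214968 L235372
theorem L235382 : sm gc N26628 = N30292 := rfl
theorem L235384 : sm ga N30292 = N30054 := ded_8_1 L235370 L235364 L235382
theorem L235386 : sm ge N30292 = N30052 := ded_19_2 L233339 L209801 L235382
theorem L235388 : sm gb N30292 = N28563 := ded_13_1 L228396 L228393 (flp_c L205909) (flp_b L205870) L235382
theorem L235390 : sm gd N28559 = N30292 := ded_28_1 (flp_c L235382) (flp_d L205868) (flp_c L205753) (flp_d L223755) (flp_c L223763) L221952 (flp_a L221328) L221330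
theorem L235392 : sm gg N30083 = N30292 := ded_17_0 L235388 L227432 (flp_b L203651) L203657 L233589
theorem L235394 : sm gf N26628 = N30293 := rfl
theorem L235396 : sm gd N30293 = N26629 := ded_23_1 (flp_f L205872) L205868 L235394
theorem L235398 : sm gg N26628 = N30294 := rfl
theorem L235400 : sm gc N30294 = N30083 := ded_21_1 L235392 (flp_c L235382) L235398
theorem L235402 : sm gd N30294 = N26630 := ded_24_1 (flp_g L205878) L205868 L235398
theorem L235404 : sm gb N30294 = N26693 := ded_17_1 (flp_g L206374) L173811 (flp_g L173381) (flp_b L205870) L235398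
theorem L235406 : sm gb N26629 = N30295 := rfl
theorem L235408 : sm ge N30295 = N26631 := ded_15_2 (flp_b L205884) (flp_e L205876) L235406
theorem L235410 : sm gc N30295 = N26636 := ded_13_2 (flp_b L205917) L173385 L173391 (flp_c L205874) L235406
theorem L235412 : sm gf N30295 = N26636 := ded_16_2 (flp_b L205917) (flp_f L173383) (flp_b L173361) L205872 L235406
theorem L235414 : sm ga N30295 = N30295 := ded_7_1 (flp_b L235406) L213727 (flp_b L213721) L182821 L145698 (flp_a L182821) L213721 (flp_a L213727) L235406
theorem L235415 : sm gf N26630 = N30296 := rfl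
theorem L235417 : sm ga N30296 = N26916 := ded_11_1 (flp_f L235378) L235374 L235415
theorem L235419 : sm ge N30296 = N26632 := ded_25_1 (flp_f L205891) (flp_e L205880) L235415
theorem L235421 : sm gg N30296 = N27614 := ded_29_3 (flp_a L213727) (flp_f L205872) L205878 L235415
theorem L235423 : sm gb N30296 = N27608 := ded_31_2 (flp_g L213685) L213679 (flp_b L213683) (flp_g L202000) (flp_f L201920) (flp_b L209643) L210013 (flp_f L210005) L179289 (flp_g L173741) (flp_f L173383) (flp_b L173361) L205878 L235415
theorem L235425 : sm gf N26634 = N30297 := rfl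
theorem L235427 : sm ga N30297 = N29983 := ded_11_1 (flp_f L232813) L231022 L235425
theorem L235429 : sm gc N30297 = N26635 := ded_20_1 (flp_f L205913) L205909 L235425
theorem L235431 : sm gg N30297 = N29980 := ded_29_3 (flp_a L232773) (flp_f L203129) (flp_g L205911) L235425
theorem L235433 : sm gb N30297 = N30297 := ded_16_1 (flp_f L235425) (flp_b L228393) L228395 L228393 L235425
theorem L235434 : sm gb N26635 = N30298 := rfl
theorem L235436 : sm gd N30298 = N26636 := ded_14_2 (flp_b L205917) (flp_d L205915) L235434
theorem L235438 : sm gc N30298 = N30298 := ded_13_2 (flp_b L235434) (flp_c L235429) L235433 L235429 L235434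
theorem L235439 : sm ga N30298 = N30298 := ded_9_3 L235436 L205921 (flp_d L235436)
theorem L235440 : sm gg N26636 = N30299 := rfl
theorem L235442 : sm ga N30299 = N30299 := ded_12_1 (flp_g L235440) L205921 L235440
theorem L235443 : sm ge N30299 = N26637 := ded_26_1 (flp_g L205922) (flp_e L205919) L235440
theorem L235445 : sm gb N30299 = N27111 := ded_17_1 (flp_g L210015) L179289 (flp_g L173741) L205917 L235440
theorem L235447 : sm gg N26638 = N30300 := rfl
theorem L235449 : sm ga N30300 = N26639 := ded_12_1 (flp_g L205931) L205927 L235447
theorem L235451 : sm gc N30300 = N30296 := ded_21_1 L235421 L213725 L235447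
theorem L235453 : sm ge N30300 = N26640 := ded_26_1 (flp_g L205937) (flp_e L205929) L235447
theorem L235455 : sm gf N30300 = N28271 := ded_29_2 L219166 (flp_a L235326) L235332 L235447
theorem L235457 : sm gf N26639 = N30301 := rfl
theorem L235459 : sm ga N30301 = N28271 := ded_11_1 (flp_f L235455) L235449 L235457
theorem L235461 : sm gc N30301 = N30291 := ded_20_1 L235378 L208309 L235457
theorem L235463 : sm ge N30301 = N26641 := ded_25_1 (flp_f L205947) (flp_e L205933) L235457
theorem L235465 : sm gg N30301 = N30286 := ded_29_3 L235326 L205755 L205931 L235457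
theorem L235467 : sm gb N30301 = N26957 := ded_16_1 L209987 (flp_b L209979) (flp_f L179325) (flp_b L205935) L235457
theorem L235469 : sm ge N26652 = N30302 := rfl
theorem L235471 : sm ga N30302 = N26653 := ded_10_1 (flp_e L206058) L206048 L235469
theorem L235473 : sm gc N30302 = N26662 := ded_19_1 (flp_e L206138) (flp_c L206050) L235469
theorem L235475 : sm gf N30302 = N27424 := ded_25_2 L212425 (flp_f L206056) L235469
theorem L235477 : sm gg N30302 = N28870 := ded_26_2 L224139 (flp_g L206054) L235469
theorem L235479 : sm gd N26653 = N30303 := rfl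
theorem L235481 : sm gb N30303 = N26655 := ded_14_1 (flp_d L206074) (flp_b L206060) L235479
theorem L235483 : sm gg N30303 = N30181 := ded_24_2 L234371 L207981 L235479
theorem L235485 : sm ge N30303 = N30185 := ded_22_2 L234409 L204245 L176103 L206058 L235479
theorem L235487 : sm gf N26653 = N30304 := rfl
theorem L235489 : sm ga N30304 = N27424 := ded_11_1 (flp_f L235475) L235471 L235487
theorem L235491 : sm gc N30304 = N26666 := ded_20_1 (flp_f L206168) (flp_c L206062) L235487
theorem L235493 : sm ge N30304 = N26654 := ded_25_1 (flp_f L206064) L206058 L235487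
theorem L235495 : sm gg N30304 = N29045 := ded_29_3 (flp_a L225500) L212773 L207981 L235487
theorem L235497 : sm gb N30304 = N27446 := ded_16_1 L212579 (flp_b L204585) L204589 (flp_b L206060) L235487
theorem L235499 : sm gc N26655 = N30305 := rfl
theorem L235501 : sm gd N30305 = N30217 := ded_28_7 L234693 (flp_c L230674) (flp_d L230668) L201364 L169531 (flp_c L173657) L206074 L235499
theorem L235503 : sm ge N26661 = N30306 := rfl
theorem L235505 : sm ga N30306 = N27607 := ded_10_1 L213681 (flp_a L206132) L235503
theorem L235507 : sm gb N30306 = N26662 := ded_15_1 (flp_e L206138) L206128 L235503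
theorem L235509 : sm gc N30306 = N27531 := ded_19_1 L213171 L206134 L235503
theorem L235511 : sm gf N30306 = N27474 := ded_25_2 L212779 L206136 L235503
theorem L235513 : sm gd N29034 = N30306 := ded_28_7 L235505 (flp_c L226774) L226770 (flp_c L226011) L197825 L167190 (flp_d L197343) L225411
theorem L235515 : sm gd N26662 = N30307 := rfl
theorem L235517 : sm ga N30307 = N26665 := ded_9_1 (flp_d L206162) (flp_a L206140) L235515
theorem L235519 : sm gb N30307 = N29034 := ded_14_1 L235513 L235507 L235515
theorem L235521 : sm ge N30307 = N26798 := ded_22_2 (flp_d L207311) (flp_e L175216) (flp_d L173713) L206138 L235515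
theorem L235523 : sm gc N29031 = N30307 := ded_8_0 L235517 (flp_c L234553) (flp_a L234557)
theorem L235525 : sm gf N26662 = N30308 := rfl
theorem L235527 : sm ga N30308 = N26666 := ded_11_1 (flp_f L206168) (flp_a L206140) L235525
theorem L235529 : sm gc N30308 = N27424 := ded_20_1 (flp_f L235475) L235473 L235525
theorem L235531 : sm ge N30308 = N26663 := ded_25_1 (flp_f L206142) L206138 L235525
theorem L235533 : sm gb N30308 = N26878 := ded_16_1 (flp_f L207965) L212777 (flp_f L235511) L235507 L235525
theorem L235535 : sm gg N26662 = N30309 := rfl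
theorem L235537 : sm ga N30309 = N26667 := ded_12_1 (flp_g L206172) (flp_a L206140) L235535
theorem L235539 : sm gc N30309 = N28870 := ded_21_1 (flp_g L235477) L235473 L235535
theorem L235541 : sm ge N30309 = N26664 := ded_26_1 (flp_g L206152) L206138 L235535
theorem L235543 : sm gb N26682 = N30309 := ded_31_14 (flp_g L235535) L235525 L235533 (flp_g L207957) (flp_f L176021) (flp_b L124860) L176897 (flp_f L176903) L176494 L207646 (flp_f L235117) L235121 (flp_g L206312) L206304
theorem L235545 : sm gf N26665 = N30310 := rfl
theorem L235547 : sm gc N30310 = N30181 := ded_20_1 (flp_f L234555) L234553 L235545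
theorem L235549 : sm gd N30310 = N26666 := ded_23_1 (flp_f L206168) L206162 L235545
theorem L235551 : sm ge N30310 = N26801 := ded_25_1 (flp_f L207331) (flp_e L206166) L235545
theorem L235553 : sm gg N26665 = N30311 := rfl
theorem L235555 : sm gd N30311 = N26667 := ded_24_1 (flp_g L206172) L206162 L235553
theorem L235557 : sm ge N30311 = N26802 := ded_26_1 (flp_g L207337) (flp_e L206166) L235553
theorem L235559 : sm gg N26666 = N30312 := rfl
theorem L235561 : sm gc N30312 = N29045 := ded_21_1 (flp_g L235495) L235491 L235559
theorem L235563 : sm ge N30312 = N26668 := ded_26_1 (flp_g L206176) (flp_e L206170) L235559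
theorem L235565 : sm gf N30309 = N30312 := ded_29_0 (flp_g L235559) (flp_f L206168) L206172 (flp_a L235537)
theorem L235567 : sm gb N30312 = N29046 := ded_17_1 L225510 (flp_b L209643) L210013 L210011 L235559
theorem L235569 : sm gf N26667 = N30313 := rfl
theorem L235571 : sm ga N30313 = N30312 := ded_11_1 (flp_f L235565) L235537 L235569
theorem L235573 : sm gc N30313 = N27473 := ded_20_1 L212773 (flp_c L207983) L235569
theorem L235575 : sm ge N30313 = N26669 := ded_25_1 (flp_f L206182) (flp_e L206174) L235569
theorem L235577 : sm gg N30313 = N30308 := ded_29_3 L235527 (flp_f L206168) L206172 L235569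
theorem L235579 : sm gb N30313 = N27463 := ded_16_1 (flp_f L212691) L212681 (flp_f L212715) (flp_b L212717) L235569
theorem L235581 : sm ge N26673 = N30314 := rfl
theorem L235583 : sm ga N30314 = N27532 := ded_10_1 L213175 (flp_a L206228) L235581
theorem L235585 : sm gb N30314 = N26678 := ded_15_1 (flp_e L206276) (flp_b L206230) L235581
theorem L235587 : sm gc N30314 = N27608 := ded_19_1 L213687 (flp_c L206234) L235581
theorem L235589 : sm gg N30314 = N27392 := ded_26_2 L212199 L206232 L235581
theorem L235591 : sm gd N29023 = N30314 := ded_28_7 L235583 (flp_c L226375) (flp_d L227006) (flp_c L226297) L198005 L167328 (flp_d L197293) L225357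
theorem L235593 : sm gd N26674 = N30315 := rfl
theorem L235595 : sm ga N30315 = N29856 := ded_9_1 L231650 (flp_a L206238) L235593
theorem L235597 : sm gb N30315 = N26681 := ded_14_1 (flp_d L206300) (flp_b L206240) L235593
theorem L235599 : sm gg N30315 = N29854 := ded_24_2 (flp_d L231642) L206244 L235593
theorem L235601 : sm ge N30315 = N29023 := ded_22_2 L235591 (flp_e L235581) (flp_d L206226) L206236 L235593
theorem L235603 : sm gc N29021 = N30315 := ded_28_2 (flp_d L235593) L206242 L201986 (flp_c L202032) (flp_d L231702) L231700 (flp_c L231746) L231748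
theorem L235605 : sm ge N26677 = N30316 := rfl
theorem L235607 : sm ga N30316 = N26684 := ded_10_1 (flp_e L206320) (flp_a L206266) L235605
theorem L235609 : sm gb N30316 = N30300 := ded_15_1 L235453 (flp_b L206268) L235605
theorem L235611 : sm gc N30316 = N26678 := ded_19_1 (flp_e L206276) L206264 L235605
theorem L235613 : sm gf N30316 = N28868 := ded_25_2 L224121 L206272 L235605
theorem L235615 : sm gg N30316 = N27334 := ded_26_2 L211769 L206274 L235605
theorem L235617 : sm gd N26678 = N30317 := rfl
theorem L235619 : sm ga N30317 = N26686 := ded_9_1 (flp_d L206336) (flp_a L206278) L235617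
theorem L235621 : sm gb N30317 = N29023 := ded_14_1 L235591 L235585 L235617
theorem L235623 : sm ge N30317 = N26681 := ded_22_2 (flp_d L206300) (flp_e L173775) L173771 L206276 L235617
theorem L235625 : sm gc N29020 = N30317 := ded_8_0 L235619 (flp_c L233773) (flp_a L233777)
theorem L235627 : sm gf N26678 = N30318 := rfl
theorem L235629 : sm ga N30318 = N26687 := ded_11_1 (flp_f L206342) (flp_a L206278) L235627
theorem L235631 : sm gc N30318 = N28868 := ded_20_1 (flp_f L235613) L235611 L235627
theorem L235633 : sm ge N30318 = N26679 := ded_25_1 (flp_f L206280) L206276 L235627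
theorem L235635 : sm gb N26800 = N30318 := ded_7_0 L235629 L212089 (flp_a L212081) (flp_b L181463) L144887 (flp_b L144871) (flp_a L181397) L181403 (flp_a L207325)
theorem L235637 : sm gg N26678 = N30319 := rfl
theorem L235639 : sm ga N30319 = N26688 := ded_12_1 (flp_g L206346) (flp_a L206278) L235637
theorem L235641 : sm gc N30319 = N27334 := ded_21_1 (flp_g L235615) L235611 L235637
theorem L235643 : sm ge N30319 = N26680 := ded_26_1 (flp_g L206290) L206276 L235637
theorem L235645 : sm gb N30319 = N26843 := ded_17_1 L207680 L212197 (flp_g L235589) L235585 L235637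
theorem L235647 : sm gf N26681 = N30320 := rfl
theorem L235649 : sm ga N30320 = N26692 := ded_11_1 (flp_f L206370) (flp_a L206302) L235647
theorem L235651 : sm gd N30320 = N26682 := ded_23_1 (flp_f L206304) L206300 L235647
theorem L235653 : sm gg N26681 = N30321 := rfl
theorem L235655 : sm ga N30321 = N26693 := ded_12_1 (flp_g L206374) (flp_a L206302) L235653
theorem L235657 : sm gc N30321 = N28424 := ded_21_1 (flp_g L233795) L233789 L235653
theorem L235659 : sm gd N30321 = N26683 := ded_24_1 (flp_g L206312) L206300 L235653
theorem L235661 : sm gd N26684 = N30322 := rfl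
theorem L235663 : sm gb N30322 = N26790 := ded_14_1 (flp_d L207231) (flp_b L206322) L235661
theorem L235665 : sm gf N30322 = N30086 := ded_23_2 L233607 L207686 L235661
theorem L235667 : sm ge N30322 = N30088 := ded_22_2 L233623 L203719 L175687 L206320 L235661
theorem L235669 : sm gg N26684 = N30323 := rfl
theorem L235671 : sm ga N30323 = N27334 := ded_12_1 (flp_g L235615) L235607 L235669
theorem L235673 : sm gc N30323 = N26688 := ded_21_1 (flp_g L206346) (flp_c L206324) L235669
theorem L235675 : sm ge N30323 = N26685 := ded_26_1 (flp_g L206326) L206320 L235669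
theorem L235677 : sm gf N29038 = N30323 := ded_29_0 (flp_g L235669) (flp_f L207686) (flp_g L212195) L225437
theorem L235679 : sm gb N30323 = N27357 := ded_17_1 L211935 (flp_b L204559) L204565 (flp_b L206322) L235669
theorem L235681 : sm gf N26686 = N30324 := rfl
theorem L235683 : sm gd N30324 = N26687 := ded_23_1 (flp_f L206342) L206336 L235681
theorem L235685 : sm ge N30324 = N26692 := ded_25_1 (flp_f L206370) (flp_e L206340) L235681
theorem L235687 : sm gg N26686 = N30325 := rfl
theorem L235689 : sm gc N30325 = N30086 := ded_21_1 (flp_g L233775) L233773 L235687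
theorem L235691 : sm gd N30325 = N26688 := ded_24_1 (flp_g L206346) L206336 L235687
theorem L235693 : sm ge N30325 = N26693 := ded_26_1 (flp_g L206374) (flp_e L206340) L235687
theorem L235695 : sm gg N26687 = N30326 := rfl
theorem L235697 : sm gc N30326 = N27391 := ded_21_1 L212195 (flp_c L207688) L235695
theorem L235699 : sm ge N30326 = N26689 := ded_26_1 (flp_g L206350) (flp_e L206344) L235695
theorem L235701 : sm gf N30319 = N30326 := ded_29_0 (flp_g L235695) (flp_f L206342) L206346 (flp_a L235639)
theorem L235703 : sm gb N30326 = N27377 := ded_17_1 (flp_g L212073) L212053 L212087 (flp_b L212089) L235695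
theorem L235705 : sm gf N26688 = N30327 := rfl
theorem L235707 : sm ga N30327 = N30326 := ded_11_1 (flp_f L235701) L235639 L235705
theorem L235709 : sm gc N30327 = N29038 := ded_20_1 L235677 L235673 L235705
theorem L235711 : sm ge N30327 = N26690 := ded_25_1 (flp_f L206360) (flp_e L206348) L235705
theorem L235713 : sm gg N30327 = N30318 := ded_29_3 L235629 (flp_f L206342) L206346 L235705
theorem L235715 : sm gb N30327 = N29039 := ded_16_1 L225445 (flp_b L209585) L209817 L209819 L235705
theorem L235717 : sm gg N26692 = N30328 := rfl
theorem L235719 : sm gd N30328 = N26694 := ded_24_1 (flp_g L206394) (flp_d L206372) L235717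
theorem L235721 : sm gf N30321 = N30328 := ded_29_0 (flp_g L235717) (flp_f L206370) L206374 (flp_a L235655)
theorem L235723 : sm gf N26693 = N30329 := rfl
theorem L235725 : sm ga N30329 = N30328 := ded_11_1 (flp_f L235721) L235655 L235723
theorem L235727 : sm gc N30329 = N30088 := ded_20_1 (flp_f L233621) L206378 L235723
theorem L235729 : sm gd N30329 = N26695 := ded_23_1 (flp_f L206402) (flp_d L206376) L235723
theorem L235731 : sm gg N30329 = N30320 := ded_29_3 L235649 (flp_f L206370) L206374 L235723
theorem L235733 : sm gb N26695 = N30330 := rfl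
theorem L235735 : sm ge N30330 = N26696 := ded_15_2 (flp_b L206412) (flp_e L206408) L235733
theorem L235737 : sm gf N30330 = N27608 := ded_16_2 (flp_b L235423) (flp_f L235415) L205882 L206402 L235733
theorem L235739 : sm gg N30330 = N30306 := ded_17_2 L235507 L235535 (flp_b L235543) (flp_g L206410) L235733
theorem L235741 : sm gb N26700 = N30331 := rfl
theorem L235743 : sm gd N30331 = N26701 := ded_14_2 (flp_b L206448) (flp_d L206444) L235741
theorem L235745 : sm gf N30288 = N30331 := ded_23_0 L235743 (flp_f L206454) L235346
theorem L235747 : sm gc N26702 = N30332 := rfl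
theorem L235749 : sm ga N30332 = N26703 := ded_8_1 (flp_c L206464) L206456 L235747
theorem L235751 : sm ge N30332 = N26704 := ded_19_2 (flp_c L206472) (flp_e L206458) L235747
theorem L235753 : sm gg N30332 = N27316 := ded_21_2 (flp_c L211643) (flp_g L206460) L235747
theorem L235755 : sm gb N30332 = N27327 := ded_13_1 (flp_c L211731) (flp_b L181269) (flp_c L181175) L206462 L235747
theorem L235757 : sm gf N26702 = N30332 := ded_30_0 (flp_c L235747) (flp_b L206462) L181173 L181275 L181279 L211717 L232436 L232432 (flp_c L213115) L211729 (flp_a L205927) (flp_f L205755) L205753 L173361 (flp_a L173351) L173867 L173863 L173871 L206456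
theorem L235759 : sm gg N26708 = N30333 := rfl
theorem L235761 : sm ga N30333 = N27816 := ded_12_1 L215481 (flp_a L206514) L235759
theorem L235763 : sm gc N30333 = N28888 := ded_21_1 L224325 (flp_c L206516) L235759
theorem L235765 : sm gd N30333 = N26709 := ded_24_1 (flp_g L206524) (flp_d L206518) L235759
theorem L235767 : sm ge N30333 = N27817 := ded_26_1 L215487 (flp_e L206520) L235759
theorem L235769 : sm gf N28888 = N30333 := ded_29_0 (flp_g L235759) (flp_f L206512) (flp_g L195045) (flp_a L224321)
theorem L235771 : sm gb N30333 = N28189 := ded_17_1 (flp_g L218400) (flp_b L188927) (flp_g L188925) (flp_b L206522) L235759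
theorem L235773 : sm gb N26711 = N30334 := rfl
theorem L235775 : sm ge N30334 = N26714 := ded_15_2 (flp_b L206561) (flp_e L206546) L235773
theorem L235777 : sm gf N30334 = N28250 := ded_16_2 L218966 L218972 (flp_b L218980) L213347 L235773
theorem L235779 : sm ga N30334 = N28891 := ded_7_1 L224357 (flp_a L212453) L212459 L189743 (flp_b L183040) (flp_a L150401) L173947 L206544 L235773
theorem L235781 : sm gg N26711 = N30335 := rfl
theorem L235783 : sm ga N30335 = N26713 := ded_12_1 (flp_g L206557) L206544 L235781
theorem L235785 : sm ge N30335 = N26716 := ded_26_1 (flp_g L206577) (flp_e L206546) L235781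
theorem L235787 : sm gf N30335 = N27560 := ded_29_2 (flp_g L213349) L213341 L213347 L235781
theorem L235789 : sm gb N28464 = N30335 := ded_31_14 (flp_g L235781) (flp_f L213347) L218980 (flp_g L218978) (flp_f L213545) (flp_b L182685) (flp_g L145604) (flp_f L145130) L181895 L212583 (flp_f L212591) (flp_b L220528) L220526 L220616
theorem L235791 : sm gg N26712 = N30336 := rfl
theorem L235793 : sm gc N30336 = N26713 := ded_21_1 (flp_g L206557) L206548 L235791
theorem L235795 : sm gd N30336 = N27858 := ded_24_1 (flp_g L215853) L206555 L235791
theorem L235797 : sm ge N30336 = N26718 := ded_26_1 (flp_g L206600) (flp_e L206550) L235791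
theorem L235799 : sm gf N26713 = N30337 := rfl
theorem L235801 : sm ga N30337 = N27560 := ded_11_1 (flp_f L235787) L235783 L235799
theorem L235803 : sm ge N30337 = N26719 := ded_25_1 (flp_f L206606) (flp_e L206559) L235799
theorem L235805 : sm gg N30337 = N27559 := ded_29_3 (flp_a L213341) L182585 L206557 L235799
theorem L235807 : sm gb N30337 = N27457 := ded_16_1 (flp_f L212653) L212639 (flp_f L212645) L207029 L235799
theorem L235809 : sm gg N26715 = N30338 := rfl
theorem L235811 : sm ga N30338 = N26718 := ded_12_1 (flp_g L206600) (flp_a L206571) L235809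
theorem L235813 : sm gc N30338 = N26716 := ded_21_1 (flp_g L206577) L206569 L235809
theorem L235815 : sm gd N30338 = N26961 := ded_24_1 (flp_g L208743) L206575 L235809
theorem L235817 : sm gf N27711 = N30338 := ded_29_0 (flp_g L235809) L206573 L208735 (flp_a L214451)
theorem L235819 : sm gb N30338 = N27809 := ded_17_1 (flp_g L215411) L185295 (flp_g L208301) L208303 L235809
theorem L235821 : sm gb N26718 = N30339 := rfl
theorem L235823 : sm gd N30339 = N27875 := ded_14_2 L216019 (flp_d L206604) L235821
theorem L235825 : sm gc N30339 = N27768 := ded_13_2 L215021 (flp_c L207019) L174834 (flp_c L206602) L235821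
theorem L235827 : sm gg N30339 = N30339 := ded_17_2 (flp_b L235821) (flp_g L206600) L173957 L206600 L235821
theorem L235828 : sm ga N30339 = N27769 := ded_7_1 L215028 L196546 (flp_b L195606) L195598 (flp_b L185307) (flp_a L215405) (flp_b L235819) L235811 L235821
theorem L235830 : sm gb N26726 = N30340 := rfl
theorem L235832 : sm ge N30340 = N26727 := ded_15_2 (flp_b L206683) (flp_e L206679) L235830
theorem L235834 : sm ga N30340 = N27900 := ded_7_1 (flp_b L216195) (flp_a L216189) L229364 (flp_a L229358) (flp_b L200185) L168822 L191890 (flp_a L206675) L235830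
theorem L235836 : sm gc N27903 = N30340 := ded_19_3 L235832 L206689 (flp_e L216217)
theorem L235838 : sm ge N26740 = N30341 := rfl
theorem L235840 : sm ga N30341 = N28085 := ded_10_1 L217618 (flp_a L206823) L235838
theorem L235842 : sm gf N30341 = N28085 := ded_25_2 L217618 (flp_f L206825) L235838
theorem L235844 : sm gg N30341 = N28083 := ded_26_2 L217604 (flp_g L206827) L235838
theorem L235846 : sm ge N26742 = N30342 := rfl
theorem L235848 : sm ga N30342 = N26743 := ded_10_1 (flp_e L206847) L206839 L235846
theorem L235850 : sm gb N30342 = N28087 := ded_15_1 L217642 (flp_b L206845) L235846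
theorem L235852 : sm gf N30342 = N27931 := ded_25_2 L216415 (flp_f L206843) L235846
theorem L235854 : sm gd N30342 = N28928 := ded_22_1 (flp_e L224676) (flp_d L196107) (flp_e L196061) (flp_d L206841) L235846
theorem L235856 : sm gd N26743 = N30343 := rfl
theorem L235858 : sm ga N30343 = N28928 := ded_9_1 (flp_d L235854) L235848 L235856
theorem L235860 : sm gb N30343 = N26745 := ded_14_1 (flp_d L206863) (flp_b L206849) L235856
theorem L235862 : sm gf N30343 = N27932 := ded_23_2 (flp_d L216417) (flp_f L206851) L235856
theorem L235864 : sm ge N30343 = N27777 := ded_22_2 L215096 (flp_e L190469) (flp_d L190473) L206847 L235856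
theorem L235866 : sm gc N27554 = N30343 := ded_8_0 L235858 (flp_c L231962) L231960
theorem L235868 : sm gg N29887 = N30343 := ded_29_3 L235858 (flp_f L231956) (flp_g L231946) L231938
theorem L235870 : sm gg N26743 = N30344 := rfl
theorem L235872 : sm gc N30344 = N28116 := ded_21_1 (flp_g L233875) L233871 L235870
theorem L235874 : sm gd N30344 = N29887 := ded_24_1 L235868 (flp_d L235856) L235870
theorem L235876 : sm ge N30344 = N26744 := ded_26_1 (flp_g L206853) L206847 L235870
theorem L235878 : sm gf N28273 = N30344 := ded_29_0 (flp_g L235870) L206851 L216425 (flp_a L219180)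
theorem L235880 : sm gb N30344 = N28719 := ded_17_1 L222984 L203711 (flp_g L191916) (flp_b L206849) L235870
theorem L235882 : sm ge N26757 = N30345 := rfl
theorem L235884 : sm ga N30345 = N26758 := ded_10_1 (flp_e L206990) L206980 L235882
theorem L235886 : sm gb N30345 = N28241 := ded_15_1 L218878 (flp_b L206988) L235882
theorem L235888 : sm gc N30345 = N26768 := ded_19_1 (flp_e L207069) (flp_c L206982) L235882
theorem L235890 : sm gg N30345 = N26779 := ded_26_2 L207144 (flp_g L206986) L235882
theorem L235892 : sm gd N30345 = N28582 := ded_22_1 (flp_e L224051) L224049 L193931 (flp_d L206984) L235882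
theorem L235894 : sm ge N26761 = N30346 := rfl
theorem L235896 : sm ga N30346 = N26763 := ded_10_1 (flp_e L207033) (flp_a L207021) L235894
theorem L235898 : sm gc N30346 = N26762 := ded_19_1 (flp_e L207025) L207019 L235894
theorem L235900 : sm gg N30346 = N27671 := ded_26_2 L214126 (flp_g L207023) L235894
theorem L235902 : sm gd N29672 = N30346 := ded_28_7 L235896 L207035 (flp_d L223811) (flp_c L200864) (flp_d L169267) (flp_c L169239) L200799 L230018
theorem L235904 : sm gd N26763 = N30347 := rfl
theorem L235906 : sm ga N30347 = N29672 := ded_9_1 L235902 L235896 L235904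
theorem L235908 : sm gc N29671 = N30347 := ded_28_0 (flp_d L235904) L207035 (flp_d L223811) (flp_c L200864) (flp_d L169267) (flp_c L169239) L200799 (flp_a L230014)
theorem L235910 : sm gf N26763 = N30348 := rfl
theorem L235912 : sm gc N30348 = N26765 := ded_20_1 (flp_f L207043) (flp_c L207035) L235910
theorem L235914 : sm ge N30348 = N26764 := ded_25_1 (flp_f L207037) L207033 L235910
theorem L235916 : sm gg N30348 = N29050 := ded_29_3 L225542 L213027 (flp_g L207391) L235910
theorem L235918 : sm gb N30348 = N26836 := ded_16_1 L207640 (flp_b L212107) (flp_f L215163) L215159 L235910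
theorem L235920 : sm gd N26768 = N30349 := rfl
theorem L235922 : sm ga N30349 = N26770 := ded_9_1 (flp_d L207083) (flp_a L207071) L235920
theorem L235924 : sm gb N30349 = N30139 := ded_14_1 L234027 L215207 L235920
theorem L235926 : sm ge N30349 = N30138 := ded_22_2 L234015 L209995 (flp_d L180003) L207069 L235920
theorem L235928 : sm gc N30148 = N30349 := ded_13_0 L235924 L234025 L204003 (flp_c L204063) (flp_b L234111)
theorem L235930 : sm gf N26768 = N30350 := rfl
theorem L235932 : sm ga N30350 = N26771 := ded_11_1 (flp_f L207087) (flp_a L207071) L235930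
theorem L235934 : sm ge N30350 = N26769 := ded_25_1 (flp_f L207073) L207069 L235930
theorem L235936 : sm gg N26893 = N30350 := ded_29_1 (flp_f L235930) L213211 L213207 (flp_f L208114)
theorem L235938 : sm gb N30350 = N28907 := ded_16_1 (flp_f L224475) (flp_b L224455) L224459 L215207 L235930
theorem L235940 : sm gc N26770 = N30351 := rfl
theorem L235942 : sm ga N30351 = N30148 := ded_8_1 L235928 L235922 L235940
theorem L235944 : sm ge N30351 = N30146 := ded_19_2 L234093 L210003 L235940
theorem L235946 : sm gb N30351 = N28538 := ded_13_1 L227491 L227488 (flp_c L207118) (flp_b L207085) L235940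
theorem L235948 : sm gd N28534 = N30351 := ded_28_1 (flp_c L235940) (flp_d L207083) (flp_c L206994) (flp_d L224037) (flp_c L224045) L221496 (flp_a L221159) L221161
theorem L235950 : sm gf N30179 = N30351 := ded_16_0 L235946 (flp_f L222224) (flp_b L204167) L204173 L234357
theorem L235952 : sm gf N26770 = N30352 := rfl
theorem L235954 : sm gc N30352 = N30179 := ded_20_1 L235950 (flp_c L235940) L235952
theorem L235956 : sm gd N30352 = N26771 := ded_23_1 (flp_f L207087) L207083 L235952
theorem L235958 : sm gb N30352 = N26801 := ded_16_1 (flp_f L207331) L175236 (flp_f L174882) (flp_b L207085) L235952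
theorem L235960 : sm gg N26770 = N30353 := rfl
theorem L235962 : sm gd N30353 = N26772 := ded_24_1 (flp_g L207093) L207083 L235960
theorem L235964 : sm gg N26771 = N30354 := rfl
theorem L235966 : sm ga N30354 = N26893 := ded_12_1 L235936 L235932 L235964
theorem L235968 : sm ge N30354 = N26773 := ded_26_1 (flp_g L207099) (flp_e L207089) L235964
theorem L235970 : sm gf N27537 = N30354 := ded_29_0 (flp_g L235964) (flp_f L207087) L207093 (flp_a L213207)
theorem L235972 : sm gb N27531 = N30354 := ded_31_14 (flp_g L235964) (flp_f L207087) L174870 L174884 (flp_f L174890) (flp_b L179091) L209811 (flp_f L209817) L209585 L200241 L200317 L213177 (flp_g L213173) L213169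
theorem L235974 : sm gb N26772 = N30355 := rfl
theorem L235976 : sm ge N30355 = N26774 := ded_15_2 (flp_b L207109) (flp_e L207097) L235974
theorem L235978 : sm gc N30355 = N26777 := ded_13_2 (flp_b L207130) L174886 L174896 (flp_c L207095) L235974
theorem L235980 : sm gg N30355 = N26777 := ded_17_2 (flp_b L207130) (flp_g L174884) (flp_b L174870) L207093 L235974
theorem L235982 : sm ga N30355 = N30355 := ded_7_1 (flp_b L235974) (flp_a L213207) (flp_b L213203) L182431 L145462 (flp_a L182431) L213203 L213207 L235974
theorem L235983 : sm gg N26775 = N30356 := rfl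
theorem L235985 : sm ga N30356 = N29782 := ded_12_1 L232805 L232795 L235983
theorem L235987 : sm gc N30356 = N26776 := ded_21_1 (flp_g L207122) L207118 L235983
theorem L235989 : sm ge N30356 = N30297 := ded_26_1 L235431 (flp_e L232781) L235983
theorem L235991 : sm gf N29779 = N30356 := ded_29_0 (flp_g L235983) L207120 L201492 L231006
theorem L235993 : sm gb N30356 = N30356 := ded_17_1 (flp_g L235983) (flp_b L227488) L227490 L227488 L235983
theorem L235994 : sm gb N26776 = N30357 := rfl
theorem L235996 : sm gd N30357 = N26777 := ded_14_2 (flp_b L207130) (flp_d L207124) L235994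
theorem L235998 : sm ge N30357 = N30298 := ded_15_2 (flp_b L235434) (flp_e L207126) L235994
theorem L236000 : sm gc N30357 = N30357 := ded_13_2 (flp_b L235994) (flp_c L235987) L235993 L235987 L235994
theorem L236001 : sm ga N30357 = N30357 := ded_9_3 L235996 L207134 (flp_d L235996)
theorem L236002 : sm gf N26777 = N30358 := rfl
theorem L236004 : sm ga N30358 = N30358 := ded_11_1 (flp_f L236002) L207134 L236002
theorem L236005 : sm ge N30358 = N26778 := ded_25_1 (flp_f L207135) (flp_e L207132) L236002
theorem L236007 : sm gb N30358 = N27084 := ded_16_1 (flp_f L209803) L179091 L174890 L207130 L236002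
theorem L236009 : sm gf N26779 = N30359 := rfl
theorem L236011 : sm ga N30359 = N26780 := ded_11_1 (flp_f L207146) L207142 L236009
theorem L236013 : sm gc N30359 = N30354 := ded_20_1 (flp_f L235970) (flp_c L213209) L236009
theorem L236015 : sm ge N30359 = N26781 := ded_25_1 (flp_f L207152) (flp_e L207144) L236009
theorem L236017 : sm gg N28281 = N30359 := ded_29_1 (flp_f L236009) (flp_g L235890) L235884 (flp_f L219268)
theorem L236019 : sm gb N30359 = N30302 := ded_16_1 L235475 (flp_b L212423) (flp_f L212377) L212379 L236009
theorem L236021 : sm gg N26780 = N30360 := rfl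
theorem L236023 : sm ga N30360 = N28281 := ded_12_1 L236017 L236011 L236021
theorem L236025 : sm gc N30360 = N30350 := ded_21_1 (flp_g L235936) L208112 L236021
theorem L236027 : sm ge N30360 = N26782 := ded_26_1 (flp_g L207164) (flp_e L207148) L236021
theorem L236029 : sm gf N30345 = N30360 := ded_29_0 (flp_g L236021) (flp_f L207146) (flp_g L206996) (flp_a L235884)
theorem L236031 : sm gb N30360 = N26939 := ded_17_1 (flp_g L209785) (flp_b L209777) L179127 (flp_b L207150) L236021
theorem L236033 : sm gc N26790 = N30361 := rfl
theorem L236035 : sm gd N30361 = N30235 := ded_28_7 L234839 (flp_c L232614) (flp_d L232608) L203001 L170546 (flp_c L175144) L207231 L236033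
theorem L236037 : sm gd N26795 = N30362 := rfl
theorem L236039 : sm ga N30362 = N29619 := ded_9_1 L229504 (flp_a L207283) L236037
theorem L236041 : sm gb N30362 = N26798 := ded_14_1 (flp_d L207311) (flp_b L207285) L236037
theorem L236043 : sm gf N30362 = N29617 := ded_23_2 (flp_d L229496) L207289 L236037
theorem L236045 : sm ge N30362 = N29034 := ded_22_2 L235513 (flp_e L235503) L206130 L207281 L236037
theorem L236047 : sm gc N29032 = N30362 := ded_28_2 (flp_d L236037) L207287 L200307 (flp_c L200349) (flp_d L229554) L229552 (flp_c L229610) L229612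
theorem L236049 : sm gf N26798 = N30363 := rfl
theorem L236051 : sm ga N30363 = N26801 := ded_11_1 (flp_f L207331) (flp_a L207313) L236049
theorem L236053 : sm gc N30363 = N28477 := ded_20_1 (flp_f L234591) L234585 L236049
theorem L236055 : sm gd N30363 = N26799 := ded_23_1 (flp_f L207315) L207311 L236049
theorem L236057 : sm gg N26798 = N30364 := rfl
theorem L236059 : sm ga N30364 = N26802 := ded_12_1 (flp_g L207337) (flp_a L207313) L236057
theorem L236061 : sm gd N30364 = N26800 := ded_24_1 (flp_g L207323) L207311 L236057
theorem L236063 : sm gg N26801 = N30365 := rfl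
theorem L236065 : sm gc N30365 = N30185 := ded_21_1 (flp_g L234407) (flp_c L207333) L236063
theorem L236067 : sm gd N30365 = N26803 := ded_24_1 (flp_g L207341) (flp_d L207335) L236063
theorem L236069 : sm gf N30364 = N30365 := ded_29_0 (flp_g L236063) (flp_f L207331) L207337 (flp_a L236059)
theorem L236071 : sm gf N26802 = N30366 := rfl
theorem L236073 : sm ga N30366 = N30365 := ded_11_1 (flp_f L236069) L236059 L236071
theorem L236075 : sm gd N30366 = N26804 := ded_23_1 (flp_f L207349) (flp_d L207339) L236071
theorem L236077 : sm gg N30366 = N30363 := ded_29_3 L236051 (flp_f L207331) L207337 L236071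
theorem L236079 : sm gb N26803 = N30367 := rfl
theorem L236081 : sm ge N30367 = N26805 := ded_15_2 (flp_b L207359) (flp_e L207345) L236079
theorem L236083 : sm gc N30367 = N30330 := ded_13_2 (flp_b L235733) L206406 L176147 (flp_c L207343) L236079
theorem L236085 : sm gf N30367 = N30314 := ded_16_2 L235585 L235627 (flp_b L235635) L207347 L236079
theorem L236087 : sm gg N30367 = N27531 := ded_17_2 L235972 (flp_g L235964) L207091 L207341 L236079
theorem L236089 : sm gb N26807 = N30368 := rfl
theorem L236091 : sm gd N30368 = N26808 := ded_14_2 (flp_b L207385) (flp_d L207379) L236089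
theorem L236093 : sm ge N30368 = N30331 := ded_15_2 (flp_b L235741) (flp_e L207381) L236089
theorem L236095 : sm gg N30347 = N30368 := ded_24_0 L236091 (flp_g L207391) L235904
theorem L236097 : sm gc N26809 = N30369 := rfl
theorem L236099 : sm ga N30369 = N26810 := ded_8_1 (flp_c L207401) L207393 L236097
theorem L236101 : sm ge N30369 = N26811 := ded_19_2 (flp_c L207409) (flp_e L207395) L236097
theorem L236103 : sm gf N30369 = N27407 := ded_20_2 (flp_c L212311) (flp_f L207397) L236097
theorem L236105 : sm gb N30369 = N27416 := ded_13_1 (flp_c L212381) (flp_b L181781) (flp_c L181689) L207399 L236097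
theorem L236107 : sm gg N26809 = N30369 := ded_12_0 L236099 (flp_g L207407) L207393
theorem L236109 : sm gf N26815 = N30370 := rfl
theorem L236111 : sm ga N30370 = N27807 := ded_11_1 L215391 (flp_a L207451) L236109
theorem L236113 : sm gc N30370 = N28895 := ded_20_1 L224381 (flp_c L207453) L236109
theorem L236115 : sm gd N30370 = N26816 := ded_23_1 (flp_f L207461) (flp_d L207455) L236109
theorem L236117 : sm ge N30370 = N27808 := ded_25_1 L215399 (flp_e L207457) L236109
theorem L236119 : sm gg N30370 = N28895 := ded_29_3 L224377 L195291 L207449 L236109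
theorem L236121 : sm gb N30370 = N28191 := ded_16_1 (flp_f L218416) (flp_b L188965) (flp_f L188961) (flp_b L207459) L236109
theorem L236123 : sm gd N26819 = N30371 := rfl
theorem L236125 : sm ga N30371 = N29247 := ded_9_1 L226832 (flp_a L207487) L236123
theorem L236127 : sm ge N30371 = N26821 := ded_22_2 (flp_d L207499) (flp_e L175444) L175440 L207485 L236123
theorem L236129 : sm gg N26819 = N30372 := rfl
theorem L236131 : sm ga N30372 = N30262 := ded_12_1 (flp_g L235093) (flp_a L207487) L236129
theorem L236133 : sm ge N30372 = N26820 := ded_26_1 (flp_g L207489) L207485 L236129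
theorem L236135 : sm gf N30263 = N30372 := ded_29_0 (flp_g L236129) (flp_f L235087) L235089 L235101
theorem L236137 : sm gb N27368 = N30372 := ded_30_2 L236131 L235099 L235111 L235121 L206314 L206402 L206406 L176147 (flp_a L176151) (flp_f L176149) (flp_c L175246) (flp_b L181403) L181397 L181411 L181413 L181417 L211987 L211991 L212011
theorem L236139 : sm gc N26821 = N30373 := rfl
theorem L236141 : sm ga N30373 = N29246 := ded_8_1 (flp_c L226826) (flp_a L207501) L236139
theorem L236143 : sm gb N30373 = N29207 := ded_13_1 L226521 L226549 L226591 L226589 L236139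
theorem L236145 : sm gg N26821 = N30374 := rfl
theorem L236147 : sm ga N30374 = N29249 := ded_12_1 (flp_g L226842) (flp_a L207501) L236145
theorem L236149 : sm gd N30374 = N26822 := ded_24_1 (flp_g L207503) L207499 L236145
theorem L236151 : sm gf N29258 = N30374 := ded_29_0 (flp_g L236145) (flp_f L226822) L226824 L226902
theorem L236153 : sm gc N26830 = N30375 := rfl
theorem L236155 : sm gg N30375 = N30278 := ded_21_2 L235239 (flp_g L215266) L236153
theorem L236157 : sm gb N30375 = N28946 := ded_13_1 (flp_c L224843) L204853 L175579 (flp_b L207589) L236153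
theorem L236159 : sm gd N30375 = N28942 := ded_28_7 L224787 (flp_c L224711) (flp_d L234913) L234911 (flp_d L207531) L207535 L207587 L236153
theorem L236161 : sm ge N26830 = N30376 := rfl
theorem L236163 : sm gb N30376 = N26833 := ded_15_1 (flp_e L207612) (flp_b L207589) L236161
theorem L236165 : sm gd N26831 = N30377 := rfl
theorem L236167 : sm ga N30377 = N29239 := ded_9_1 L226764 (flp_a L207593) L236165
theorem L236169 : sm gb N30377 = N26835 := ded_14_1 (flp_d L207628) (flp_b L207595) L236165
theorem L236171 : sm gf N30377 = N29239 := ded_23_2 L226764 (flp_f L207599) L236165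
theorem L236173 : sm gg N30377 = N29051 := ded_24_2 (flp_d L225550) L207601 L236165
theorem L236175 : sm gd N26833 = N30378 := rfl
theorem L236177 : sm ga N30378 = N26837 := ded_9_1 (flp_d L207642) (flp_a L207614) L236175
theorem L236179 : sm ge N30378 = N26835 := ded_22_2 (flp_d L207628) (flp_e L175581) L175575 L207612 L236175
theorem L236181 : sm gg N26833 = N30379 := rfl
theorem L236183 : sm ga N30379 = N26838 := ded_12_1 (flp_g L207646) (flp_a L207614) L236181
theorem L236185 : sm gc N30379 = N30372 := ded_21_1 (flp_g L236129) (flp_c L207616) L236181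
theorem L236187 : sm ge N30379 = N26834 := ded_26_1 (flp_g L207618) L207612 L236181
theorem L236189 : sm gf N27451 = N30379 := ded_29_0 (flp_g L236181) (flp_f L212733) (flp_g L235119) L235113
theorem L236191 : sm gc N26835 = N30380 := rfl
theorem L236193 : sm ga N30380 = N26840 := ded_8_1 (flp_c L207660) (flp_a L207630) L236191
theorem L236195 : sm gf N30380 = N29061 := ded_20_2 L225627 L212209 L236191
theorem L236197 : sm gd N29062 = N30380 := ded_28_1 (flp_c L236191) (flp_d L207628) L175585 (flp_d L170933) (flp_c L203559) L233395 L233397 (flp_c L225649)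
theorem L236199 : sm gg N26835 = N30381 := rfl
theorem L236201 : sm ga N30381 = N26841 := ded_12_1 (flp_g L207662) (flp_a L207630) L236199
theorem L236203 : sm gd N30381 = N26836 := ded_24_1 (flp_g L207632) L207628 L236199
theorem L236205 : sm gf N30381 = N27396 := ded_29_2 (flp_g L212223) (flp_a L212207) L212209 L236199
theorem L236207 : sm gc N26837 = N30382 := rfl
theorem L236209 : sm ge N30382 = N26840 := ded_19_2 (flp_c L207660) (flp_e L207644) L236207
theorem L236211 : sm gg N26837 = N30383 := rfl
theorem L236213 : sm gd N30383 = N26838 := ded_24_1 (flp_g L207646) L207642 L236211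
theorem L236215 : sm ge N30383 = N26841 := ded_26_1 (flp_g L207662) (flp_e L207644) L236211
theorem L236217 : sm gb N26838 = N30384 := rfl
theorem L236219 : sm ge N30384 = N26839 := ded_15_2 (flp_b L207650) (flp_e L207648) L236217
theorem L236221 : sm gf N30384 = N28917 := ded_16_2 L224567 (flp_f L206400) (flp_b L235121) L235117 L236217
theorem L236223 : sm ga N30384 = N28914 := ded_30_3 L224553 L195793 L164486 (flp_a L164151) L164155 L114726 (flp_b L125846) (flp_a L177218) (flp_f L208537) (flp_c L218290) L218296 L212667 (flp_f L212635) L212629 L235107 (flp_a L235101) (flp_f L235099) L235095 L236217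
theorem L236225 : sm gc N28913 = N30384 := ded_19_3 L236219 (flp_c L207658) L224541
theorem L236227 : sm gb N26840 = N30385 := rfl
theorem L236229 : sm gd N26840 = N30386 := rfl
theorem L236231 : sm ga N30386 = N29062 := ded_9_1 L236197 L236193 L236229
theorem L236233 : sm gf N30386 = N29060 := ded_23_2 (flp_d L225635) L212213 L236229
theorem L236235 : sm gc N30060 = N30386 := ded_28_0 (flp_d L236229) (flp_c L207660) (flp_d L175625) L123600 (flp_d L118304) (flp_c L170971) L203635 (flp_a L233397)
theorem L236237 : sm gg N26840 = N30387 := rfl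
theorem L236239 : sm gc N30387 = N26841 := ded_21_1 (flp_g L207662) L207660 L236237
theorem L236241 : sm gb N26841 = N30388 := rfl
theorem L236243 : sm gd N30388 = N26842 := ded_14_2 (flp_b L207666) (flp_d L207664) L236241
theorem L236245 : sm gf N26841 = N30389 := rfl
theorem L236247 : sm ga N30389 = N27396 := ded_11_1 (flp_f L236205) L236201 L236245
theorem L236249 : sm gd N30389 = N26843 := ded_23_1 (flp_f L207672) (flp_d L207664) L236245
theorem L236251 : sm gg N30389 = N27393 := ded_29_3 L212207 L181605 L207662 L236245
theorem L236253 : sm gb N26850 = N30390 := rfl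
theorem L236255 : sm gd N30390 = N28521 := ded_14_2 L221084 L220944 L236253
theorem L236257 : sm ge N30390 = N28932 := ded_15_2 (flp_b L224698) (flp_e L207736) L236253
theorem L236259 : sm gg N30390 = N28520 := ded_17_2 (flp_b L221074) L191984 L196185 (flp_g L207738) L236253
theorem L236261 : sm ga N30390 = N30390 := ded_7_1 (flp_b L236253) L207732 (flp_b L196598) L196590 L178046 (flp_a L196590) L196598 (flp_a L207732) L236253
theorem L236262 : sm gd N26854 = N30391 := rfl
theorem L236264 : sm ga N30391 = N29192 := ded_9_1 L226421 (flp_a L207772) L236262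
theorem L236266 : sm ge N30391 = N26856 := ded_22_2 (flp_d L207784) (flp_e L175875) L175871 L207770 L236262
theorem L236268 : sm gf N26854 = N30392 := rfl
theorem L236270 : sm ga N30392 = N30249 := ded_11_1 (flp_f L234973) (flp_a L207772) L236268
theorem L236272 : sm ge N30392 = N26855 := ded_25_1 (flp_f L207774) L207770 L236268
theorem L236274 : sm gg N30392 = N30250 := ded_29_3 (flp_a L234981) (flp_f L234967) (flp_g L234971) L236268
theorem L236276 : sm gb N27456 = N30392 := ded_30_2 L236270 (flp_f L234973) L204772 (flp_b L176879) (flp_a L176915) L176919 L176522 L129870 L129860 (flp_f L147521) L147517 (flp_b L147707) (flp_a L158131) L177755 L177751 (flp_b L181945) (flp_a L212655) (flp_f L212653) L212647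
theorem L236278 : sm gc N26856 = N30393 := rfl
theorem L236280 : sm ga N30393 = N29191 := ded_8_1 (flp_c L226415) (flp_a L207786) L236278
theorem L236282 : sm gb N30393 = N29263 := ded_13_1 L226946 L226960 L227020 L227018 L236278
theorem L236284 : sm gf N26856 = N30394 := rfl
theorem L236286 : sm ga N30394 = N29193 := ded_11_1 (flp_f L226423) (flp_a L207786) L236284
theorem L236288 : sm gd N30394 = N26857 := ded_23_1 (flp_f L207788) L207784 L236284
theorem L236290 : sm gg N30394 = N29203 := ded_29_3 (flp_a L226491) (flp_f L226411) (flp_g L226413) L236284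
theorem L236292 : sm gc N26865 = N30395 := rfl
theorem L236294 : sm gf N30395 = N30339 := ded_20_2 L235825 (flp_f L215023) L236292
theorem L236296 : sm gb N30395 = N28950 := ded_13_1 (flp_c L224877) L205101 L175973 (flp_b L207874) L236292
theorem L236298 : sm gd N30395 = N28948 := ded_28_7 L224849 L224768 (flp_d L234901) L234899 (flp_d L207816) L207820 L207872 L236292
theorem L236300 : sm ge N26865 = N30396 := rfl
theorem L236302 : sm gb N30396 = N26868 := ded_15_1 (flp_e L207897) (flp_b L207874) L236300
theorem L236304 : sm gd N26866 = N30397 := rfl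
theorem L236306 : sm ga N30397 = N29184 := ded_9_1 L226369 (flp_a L207878) L236304
theorem L236308 : sm gb N30397 = N26870 := ded_14_1 (flp_d L207913) (flp_b L207880) L236304
theorem L236310 : sm gf N30397 = N29044 := ded_23_2 (flp_d L225487) L207886 L236304
theorem L236312 : sm gg N30397 = N29184 := ded_24_2 L226369 (flp_g L207884) L236304
theorem L236314 : sm gd N26868 = N30398 := rfl
theorem L236316 : sm ga N30398 = N26872 := ded_9_1 (flp_d L207927) (flp_a L207899) L236314
theorem L236318 : sm ge N30398 = N26870 := ded_22_2 (flp_d L207913) (flp_e L175975) L175969 L207897 L236314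
theorem L236320 : sm gf N26868 = N30399 := rfl
theorem L236322 : sm ga N30399 = N26873 := ded_11_1 (flp_f L207931) (flp_a L207899) L236320
theorem L236324 : sm gc N30399 = N30392 := ded_20_1 (flp_f L236268) (flp_c L207901) L236320
theorem L236326 : sm ge N30399 = N26869 := ded_25_1 (flp_f L207903) L207897 L236320
theorem L236328 : sm gg N30399 = N27363 := ded_29_3 (flp_a L234993) L234997 L212121 L236320
theorem L236330 : sm gc N26870 = N30400 := rfl
theorem L236332 : sm ga N30400 = N26875 := ded_8_1 (flp_c L207945) (flp_a L207915) L236330
theorem L236334 : sm gg N30400 = N29072 := ded_21_2 (flp_c L225745) L212789 L236330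
theorem L236336 : sm gd N29074 = N30400 := ded_28_1 (flp_c L236330) (flp_d L207913) L175979 (flp_d L171276) (flp_c L204063) L234149 L234151 (flp_c L225755)
theorem L236338 : sm gf N26870 = N30401 := rfl
theorem L236340 : sm ga N30401 = N26876 := ded_11_1 (flp_f L207947) (flp_a L207915) L236338
theorem L236342 : sm gd N30401 = N26871 := ded_23_1 (flp_f L207917) L207913 L236338
theorem L236344 : sm gg N27477 = N30401 := ded_29_1 (flp_f L236338) (flp_g L212789) L212787 L212795
theorem L236346 : sm gc N26872 = N30402 := rfl
theorem L236348 : sm ge N30402 = N26875 := ded_19_2 (flp_c L207945) (flp_e L207929) L236346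
theorem L236350 : sm gf N26872 = N30403 := rfl
theorem L236352 : sm gd N30403 = N26873 := ded_23_1 (flp_f L207931) L207927 L236350
theorem L236354 : sm ge N30403 = N26876 := ded_25_1 (flp_f L207947) (flp_e L207929) L236350
theorem L236356 : sm gb N26873 = N30404 := rfl
theorem L236358 : sm ge N30404 = N26874 := ded_15_2 (flp_b L207935) (flp_e L207933) L236356
theorem L236360 : sm gg N30404 = N28903 := ded_17_2 L224445 L207357 (flp_b L235001) L234999 L236356
theorem L236362 : sm ga N28900 = N30404 := ded_10_3 L236358 (flp_a L207941) L224425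
theorem L236364 : sm gc N28899 = N30404 := ded_19_3 L236358 (flp_c L207943) L224419
theorem L236366 : sm gb N26875 = N30405 := rfl
theorem L236368 : sm gd N26875 = N30406 := rfl
theorem L236370 : sm ga N30406 = N29074 := ded_9_1 L236336 L236332 L236368
theorem L236372 : sm gg N30406 = N29071 := ded_24_2 (flp_d L225733) L212793 L236368
theorem L236374 : sm gc N30154 = N30406 := ded_28_0 (flp_d L236368) (flp_c L207945) (flp_d L176019) L124069 (flp_d L118493) (flp_c L171314) L204139 (flp_a L234151)
theorem L236376 : sm gf N26875 = N30407 := rfl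
theorem L236378 : sm gc N30407 = N26876 := ded_20_1 (flp_f L207947) L207945 L236376
theorem L236380 : sm gb N26876 = N30408 := rfl
theorem L236382 : sm gd N30408 = N26877 := ded_14_2 (flp_b L207951) (flp_d L207949) L236380
theorem L236384 : sm gg N26876 = N30409 := rfl
theorem L236386 : sm ga N30409 = N27477 := ded_12_1 L236344 L236340 L236384
theorem L236388 : sm gd N30409 = N26878 := ded_24_1 (flp_g L207957) (flp_d L207949) L236384
theorem L236390 : sm gf N27475 = N30409 := ded_29_0 (flp_g L236384) (flp_f L207947) (flp_g L182087) (flp_a L212787)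
theorem L236392 : sm gb N26885 = N30410 := rfl
theorem L236394 : sm gd N30410 = N28469 := ded_14_2 L220670 L220514 L236392
theorem L236396 : sm ge N30410 = N28941 := ded_15_2 (flp_b L224776) (flp_e L208025) L236392
theorem L236398 : sm gf N30410 = N28468 := ded_16_2 (flp_b L220660) (flp_f L191603) L196606 L208027 L236392
theorem L236400 : sm ga N30410 = N30410 := ded_7_1 (flp_b L236392) L208021 L196626 L196171 L178086 (flp_a L196171) (flp_b L196626) (flp_a L208021) L236392
theorem L236401 : sm gd N26890 = N30411 := rfl
theorem L236403 : sm ga N30411 = N30088 := ded_9_1 L233623 (flp_a L208084) L236401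
theorem L236405 : sm gb N30411 = N29716 := ded_14_1 L230338 (flp_b L208086) L236401
theorem L236407 : sm gf N30411 = N28424 := ded_23_2 L220312 (flp_f L208090) L236401
theorem L236409 : sm gg N30411 = N30108 := ded_24_2 L233803 L222998 L236401
theorem L236411 : sm gc N30328 = N30411 := ded_28_0 (flp_d L236401) L208088 L176294 L196187 (flp_d L196195) (flp_c L206406) (flp_d L235729) L235725
theorem L236413 : sm gd N26893 = N30412 := rfl
theorem L236415 : sm gb N30412 = N26894 := ded_14_1 (flp_d L208116) (flp_b L208110) L236413
theorem L236417 : sm gf N30412 = N30353 := ded_23_2 L235962 (flp_f L208114) L236413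
theorem L236419 : sm ge N30412 = N28901 := ded_22_2 (flp_d L224433) L195462 (flp_d L176422) L208108 L236413
theorem L236421 : sm gc N26894 = N30413 := rfl
theorem L236423 : sm ga N30413 = N26903 := ded_8_1 (flp_c L208193) (flp_a L208118) L236421
theorem L236425 : sm gf N26894 = N30414 := rfl
theorem L236427 : sm ga N30414 = N26904 := ded_11_1 (flp_f L208195) (flp_a L208118) L236425
theorem L236429 : sm gd N30414 = N26895 := ded_23_1 (flp_f L208120) L208116 L236425
theorem L236431 : sm gg N30414 = N26924 := ded_29_1 L208365 (flp_g L208201) (flp_a L208118) L236425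
theorem L236433 : sm gg N26894 = N30415 := rfl
theorem L236435 : sm ga N30415 = N26905 := ded_12_1 (flp_g L208201) (flp_a L208118) L236433
theorem L236437 : sm gd N30415 = N26896 := ded_24_1 (flp_g L208130) L208116 L236433
theorem L236439 : sm ge N30415 = N26921 := ded_26_1 (flp_g L208341) L208217 L236433
theorem L236441 : sm gf N26919 = N30415 := ded_29_0 (flp_g L236433) L236425 L236431 L208363
theorem L236443 : sm gb N26895 = N30416 := rfl
theorem L236445 : sm ge N30416 = N26897 := ded_15_2 (flp_b L208140) (flp_e L208126) L236443
theorem L236447 : sm gc N30416 = N30358 := ded_13_2 L236007 L209805 L179099 (flp_c L208124) L236443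
theorem L236449 : sm gf N30416 = N30355 := ded_16_2 (flp_b L235974) (flp_f L208114) L208110 L208120 L236443
theorem L236451 : sm gg N30416 = N30358 := ded_17_2 L236007 (flp_g L209809) L195743 (flp_g L208128) L236443
theorem L236453 : sm ga N30416 = N30416 := ded_7_1 (flp_b L236443) L208122 L176518 L144959 L104193 (flp_a L144959) (flp_b L176518) (flp_a L208122) L236443
theorem L236454 : sm gb N26896 = N30417 := rfl
theorem L236456 : sm ge N30417 = N26898 := ded_15_2 (flp_b L208149) (flp_e L208136) L236454
theorem L236458 : sm gc N30417 = N28908 := ded_13_2 L224493 L216369 (flp_b L208159) (flp_c L208134) L236454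
theorem L236460 : sm gf N30417 = N30404 := ded_16_2 (flp_b L236356) (flp_f L207931) (flp_b L176879) L208138 L236454
theorem L236462 : sm gg N30417 = N28907 := ded_17_2 (flp_b L235938) (flp_g L235936) L208110 L208130 L236454
theorem L236464 : sm gc N26900 = N30418 := rfl
theorem L236466 : sm ge N30418 = N26903 := ded_19_2 (flp_c L208193) (flp_e L208171) L236464
theorem L236468 : sm gd N30418 = N26903 := ded_28_7 (flp_a L236423) (flp_c L236421) (flp_d L208116) L176432 L176452 (flp_c L176496) L208167 L236464
theorem L236470 : sm gg N26900 = N30419 := rfl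
theorem L236472 : sm ga N30419 = N26921 := ded_12_1 (flp_g L208341) L208215 L236470
theorem L236474 : sm gd N30419 = N26901 := ded_24_1 (flp_g L208173) L208167 L236470
theorem L236476 : sm ge N30419 = N26905 := ded_26_1 (flp_g L208201) (flp_e L208171) L236470
theorem L236478 : sm gf N26917 = N30419 := ded_29_0 (flp_g L236470) L208349 (flp_g L208343) (flp_a L208315)
theorem L236480 : sm gb N26901 = N30420 := rfl
theorem L236482 : sm ge N30420 = N26902 := ded_15_2 (flp_b L208183) (flp_e L208179) L236480
theorem L236484 : sm gc N30420 = N28921 := ded_13_2 L224605 L216171 (flp_b L208317) (flp_c L208177) L236480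
theorem L236486 : sm gf N30420 = N28920 := ded_16_2 (flp_b L235380) L235378 L208307 L208181 L236480
theorem L236488 : sm gg N30420 = N30384 := ded_17_2 (flp_b L236217) (flp_g L207646) (flp_b L176494) L208173 L236480
theorem L236490 : sm gb N26903 = N30421 := rfl
theorem L236492 : sm gc N30421 = N30385 := ded_13_2 (flp_b L236227) (flp_c L207660) (flp_b L176510) L208193 L236490
theorem L236494 : sm gf N26903 = N30422 := rfl
theorem L236496 : sm gc N30422 = N26904 := ded_20_1 (flp_f L208195) L208193 L236494
theorem L236498 : sm gg N26903 = N30423 := rfl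
theorem L236500 : sm gc N30423 = N26905 := ded_21_1 (flp_g L208201) L208193 L236498
theorem L236502 : sm gb N26905 = N30424 := rfl
theorem L236504 : sm gd N30424 = N26906 := ded_14_2 (flp_b L208205) (flp_d L208203) L236502
theorem L236506 : sm gg N30424 = N30388 := ded_17_2 (flp_b L236241) (flp_g L207662) (flp_b L176510) L208201 L236502
theorem L236508 : sm gc N26907 = N30425 := rfl
theorem L236510 : sm ga N30425 = N30418 := ded_8_1 (flp_c L236464) (flp_a L208215) L236508
theorem L236512 : sm ge N30425 = N30413 := ded_19_2 (flp_c L236421) (flp_e L208217) L236508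
theorem L236514 : sm gd N30425 = N30413 := ded_28_7 L236423 (flp_c L208193) (flp_d L176508) L124469 L124479 L176532 L208213 L236508
theorem L236516 : sm gf N26907 = N30426 := rfl
theorem L236518 : sm ga N30426 = N26922 := ded_11_1 (flp_f L208349) (flp_a L208215) L236516
theorem L236520 : sm gd N30426 = N26908 := ded_23_1 (flp_f L208219) L208213 L236516
theorem L236522 : sm ge N30426 = N30414 := ded_25_1 (flp_f L236425) (flp_e L208217) L236516
theorem L236524 : sm gg N30426 = N26917 := ded_29_3 L208315 L208337 (flp_g L208341) L236516
theorem L236526 : sm gb N26908 = N30427 := rfl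
theorem L236528 : sm ge N30427 = N26909 := ded_15_2 (flp_b L208229) (flp_e L208225) L236526
theorem L236530 : sm gc N30427 = N30299 := ded_13_2 L235445 L210017 L179307 (flp_c L208223) L236526
theorem L236532 : sm gf N30427 = N30299 := ded_16_2 L235445 (flp_f L210021) L195464 L208219 L236526
theorem L236534 : sm gg N30427 = N30295 := ded_17_2 (flp_b L235406) (flp_g L208311) L208307 (flp_g L208227) L236526
theorem L236536 : sm ga N30427 = N30427 := ded_7_1 (flp_b L236526) L208221 L176905 L145218 L104314 (flp_a L145218) (flp_b L176905) (flp_a L208221) L236526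
theorem L236537 : sm gd N26913 = N30428 := rfl
theorem L236539 : sm ga N30428 = N30185 := ded_9_1 L234409 (flp_a L208281) L236537
theorem L236541 : sm gb N30428 = N29934 := ded_14_1 L232352 (flp_b L208283) L236537
theorem L236543 : sm gf N30428 = N30205 := ded_23_2 L234599 (flp_f L223425) L236537
theorem L236545 : sm gg N30428 = N28477 := ded_24_2 L220734 (flp_g L208287) L236537
theorem L236547 : sm gc N30366 = N30428 := ded_28_0 (flp_d L236537) L208285 L176715 L196608 (flp_d L196618) (flp_c L207343) (flp_d L236067) (flp_a L236073)
theorem L236549 : sm gd N26916 = N30429 := rfl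
theorem L236551 : sm gb N30429 = N26917 := ded_14_1 (flp_d L208313) (flp_b L208307) L236549
theorem L236553 : sm gg N30429 = N30293 := ded_24_2 L235396 (flp_g L208311) L236549
theorem L236555 : sm ge N30429 = N28915 := ded_22_2 (flp_d L224555) L195741 (flp_d L176835) L208305 L236549
theorem L236557 : sm gc N26917 = N30430 := rfl
theorem L236559 : sm ga N30430 = N26920 := ded_8_1 (flp_c L208335) (flp_a L208315) L236557
theorem L236561 : sm gc N26919 = N30431 := rfl
theorem L236563 : sm ge N30431 = N26920 := ded_19_2 (flp_c L208335) (flp_e L208333) L236561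
theorem L236565 : sm gg N30431 = N30422 := ded_21_2 L236496 (flp_g L208331) L236561
theorem L236567 : sm gd N30431 = N26920 := ded_28_7 (flp_a L236559) (flp_c L236557) (flp_d L208313) L176845 (flp_d L176552) (flp_c L176881) L208327 L236561
theorem L236569 : sm gb N26920 = N30432 := rfl
theorem L236571 : sm gc N30432 = N30405 := ded_13_2 (flp_b L236366) (flp_c L207945) (flp_b L176887) L208335 L236569
theorem L236573 : sm gf N26920 = N30433 := rfl
theorem L236575 : sm gc N30433 = N26921 := ded_20_1 (flp_f L208337) L208335 L236573
theorem L236577 : sm gg N30425 = N30433 := ded_21_0 L236575 (flp_g L208341) L236508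
theorem L236579 : sm gg N26920 = N30434 := rfl
theorem L236581 : sm gc N30434 = N26922 := ded_21_1 (flp_g L208343) L208335 L236579
theorem L236583 : sm gd N30434 = N30422 := ded_24_1 (flp_g L236565) L236567 L236579
theorem L236585 : sm ge N30434 = N30422 := ded_26_1 (flp_g L236565) L236563 L236579
theorem L236587 : sm gf N30418 = N30434 := ded_29_0 (flp_g L236579) L236573 (flp_g L236577) L236510
theorem L236589 : sm gb N26921 = N30435 := rfl
theorem L236591 : sm gd N30435 = N26923 := ded_14_2 (flp_b L208353) (flp_d L208339) L236589
theorem L236593 : sm gf N30435 = N30408 := ded_16_2 (flp_b L236380) (flp_f L207947) (flp_b L176887) L208337 L236589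
theorem L236595 : sm gc N26924 = N30436 := rfl
theorem L236597 : sm ga N30436 = N30431 := ded_8_1 (flp_c L236561) (flp_a L208363) L236595
theorem L236599 : sm ge N30436 = N30430 := ded_19_2 (flp_c L236557) (flp_e L208367) L236595
theorem L236601 : sm gf N30436 = N30423 := ded_20_2 L236500 (flp_f L208365) L236595
theorem L236603 : sm gd N30436 = N30430 := ded_28_7 L236559 (flp_c L208335) (flp_d L176885) L124862 L124872 L176913 L208361 L236595
theorem L236605 : sm ge N26936 = N30437 := rfl
theorem L236607 : sm ga N30437 = N30259 := ded_10_1 L235061 (flp_a L208513) L236605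
theorem L236609 : sm gb N30437 = N26938 := ded_15_1 (flp_e L208533) (flp_b L208515) L236605
theorem L236611 : sm gc N30437 = N30258 := ded_19_1 L235055 L208519 L236605
theorem L236613 : sm gg N30437 = N27805 := ded_26_2 (flp_e L215365) (flp_g L208517) L236605
theorem L236615 : sm gf N26936 = N30438 := rfl
theorem L236617 : sm ga N30438 = N28898 := ded_11_1 L224413 (flp_a L208513) L236615
theorem L236619 : sm gc N30438 = N30256 := ded_20_1 (flp_f L235039) L208519 L236615
theorem L236621 : sm gd N30438 = N26937 := ded_23_1 (flp_f L208521) L208511 L236615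
theorem L236623 : sm gg N30438 = N28946 := ded_29_3 L224839 L204857 (flp_g L208517) L236615
theorem L236625 : sm gb N30438 = N26942 := ded_16_1 (flp_f L208562) L177200 (flp_f L177154) (flp_b L208515) L236615
theorem L236627 : sm gd N26939 = N30439 := rfl
theorem L236629 : sm gf N30439 = N26946 := ded_23_2 (flp_d L208602) (flp_f L208543) L236627
theorem L236631 : sm ge N30439 = N28503 := ded_22_2 L220902 L191840 (flp_d L177160) L208539 L236627
theorem L236633 : sm gf N26940 = N30440 := rfl
theorem L236635 : sm ga N30440 = N26949 := ded_11_1 (flp_f L208634) (flp_a L208552) L236633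
theorem L236637 : sm gc N30440 = N28279 := ded_20_1 (flp_f L219246) (flp_c L208549) L236633
theorem L236639 : sm ge N30440 = N27837 := ded_25_1 (flp_f L215675) (flp_e L208547) L236633
theorem L236641 : sm gg N30440 = N26949 := ded_29_3 (flp_a L236635) (flp_f L236633) L208551 L236633
theorem L236643 : sm gb N30440 = N28924 := ded_16_1 (flp_f L224623) (flp_b L195924) L189131 L208545 L236633
theorem L236645 : sm gf N26941 = N30441 := rfl
theorem L236647 : sm ga N30441 = N27856 := ded_11_1 (flp_f L215833) (flp_a L208556) L236645
theorem L236649 : sm gc N30441 = N30276 := ded_20_1 (flp_f L235219) L212841 L236645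
theorem L236651 : sm gd N30441 = N27855 := ded_23_1 (flp_f L215823) (flp_d L208560) L236645
theorem L236653 : sm ge N30441 = N26942 := ded_25_1 (flp_f L208562) L208554 L236645
theorem L236655 : sm gg N30275 = N30441 := ded_29_1 (flp_f L236645) (flp_g L220984) (flp_a L220986) L235205
theorem L236657 : sm ge N26944 = N30442 := rfl
theorem L236659 : sm ga N30442 = N27409 := ded_10_1 L212333 (flp_a L208592) L236657
theorem L236661 : sm gb N30442 = N26945 := ded_15_1 (flp_e L208594) L208582 L236657
theorem L236663 : sm gc N30442 = N28229 := ded_19_1 L218766 (flp_c L208586) L236657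
theorem L236665 : sm gf N30442 = N28889 := ded_25_2 L224331 (flp_f L208588) L236657
theorem L236667 : sm gg N30442 = N27102 := ded_26_2 L209945 (flp_g L208590) L236657
theorem L236669 : sm gd N26945 = N30443 := rfl
theorem L236671 : sm ga N30443 = N26946 := ded_9_1 (flp_d L208602) (flp_a L208596) L236669
theorem L236673 : sm gg N30443 = N28497 := ded_24_2 L220862 (flp_g L208600) L236669
theorem L236675 : sm ge N30443 = N28501 := ded_22_2 L220890 L191820 (flp_d L177214) L208594 L236669
theorem L236677 : sm gc N26946 = N30444 := rfl
theorem L236679 : sm ge N30444 = N28502 := ded_19_2 L220896 (flp_e L208606) L236677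
theorem L236681 : sm gg N30444 = N28498 := ded_21_2 (flp_c L220868) (flp_g L208604) L236677
theorem L236683 : sm gb N30444 = N28448 := ded_13_1 L220466 (flp_b L192363) (flp_c L221552) L221560 L236677
theorem L236685 : sm gd N28502 = N30444 := ded_28_1 (flp_c L236677) (flp_d L208602) L177224 (flp_d L177003) (flp_c L191818) (flp_d L220890) L220888 (flp_c L220896)
theorem L236687 : sm ge N26954 = N30445 := rfl
theorem L236689 : sm ga N30445 = N30272 := ded_10_1 L235181 (flp_a L208686) L236687
theorem L236691 : sm gb N30445 = N26956 := ded_15_1 (flp_e L208706) (flp_b L208688) L236687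
theorem L236693 : sm gc N30445 = N30271 := ded_19_1 L235175 L208692 L236687
theorem L236695 : sm gf N30445 = N27814 := ded_25_2 (flp_e L215453) (flp_f L208690) L236687
theorem L236697 : sm gg N26954 = N30446 := rfl
theorem L236699 : sm ga N30446 = N28912 := ded_12_1 L224537 (flp_a L208686) L236697
theorem L236701 : sm gc N30446 = N30269 := ded_21_1 L235159 L208692 L236697
theorem L236703 : sm gd N30446 = N26955 := ded_24_1 (flp_g L208694) L208684 L236697
theorem L236705 : sm gf N28950 = N30446 := ded_29_0 (flp_g L236697) L208690 (flp_g L205105) (flp_a L224873)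
theorem L236707 : sm gb N30446 = N26960 := ded_17_1 (flp_g L208735) L177475 (flp_g L177429) (flp_b L208688) L236697
theorem L236709 : sm gd N26957 = N30447 := rfl
theorem L236711 : sm gg N30447 = N26964 := ded_24_2 (flp_d L208775) (flp_g L208716) L236709
theorem L236713 : sm ge N30447 = N28449 := ded_22_2 L220472 L191459 (flp_d L177435) L208712 L236709
theorem L236715 : sm gg N26958 = N30448 := rfl
theorem L236717 : sm ga N30448 = N26967 := ded_12_1 (flp_g L208807) (flp_a L208725) L236715
theorem L236719 : sm gc N30448 = N28289 := ded_21_1 (flp_g L219350) (flp_c L208722) L236715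
theorem L236721 : sm ge N30448 = N27839 := ded_26_1 (flp_g L215691) (flp_e L208720) L236715
theorem L236723 : sm gf N26967 = N30448 := ded_29_0 (flp_g L236715) L208724 L236715 L236717
theorem L236725 : sm gb N30448 = N28935 := ded_17_1 (flp_g L224727) (flp_b L196325) L189009 L208718 L236715
theorem L236727 : sm gg N26959 = N30449 := rfl
theorem L236729 : sm ga N30449 = N27860 := ded_12_1 (flp_g L215869) (flp_a L208729) L236727
theorem L236731 : sm gc N30449 = N30337 := ded_21_1 L235805 L213343 L236727
theorem L236733 : sm gd N30449 = N27859 := ded_24_1 (flp_g L215859) (flp_d L208733) L236727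
theorem L236735 : sm ge N30449 = N26960 := ded_26_1 (flp_g L208735) L208727 L236727
theorem L236737 : sm gf N30449 = N30336 := ded_29_2 (flp_g L235791) (flp_a L220556) L220554 L236727
theorem L236739 : sm ge N26962 = N30450 := rfl
theorem L236741 : sm ga N30450 = N27318 := ded_10_1 L211665 (flp_a L208765) L236739
theorem L236743 : sm gb N30450 = N26963 := ded_15_1 (flp_e L208767) L208755 L236739
theorem L236745 : sm gc N30450 = N28251 := ded_19_1 L218976 (flp_c L208759) L236739
theorem L236747 : sm gf N30450 = N27076 := ded_25_2 L209743 (flp_f L208761) L236739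
theorem L236749 : sm gg N30450 = N28880 := ded_26_2 L224249 (flp_g L208763) L236739
theorem L236751 : sm gd N26963 = N30451 := rfl
theorem L236753 : sm ga N30451 = N26964 := ded_9_1 (flp_d L208775) (flp_a L208769) L236751
theorem L236755 : sm gf N30451 = N28443 := ded_23_2 L220432 (flp_f L208773) L236751
theorem L236757 : sm ge N30451 = N28447 := ded_22_2 L220460 L191439 (flp_d L177489) L208767 L236751
theorem L236759 : sm gc N26964 = N30452 := rfl
theorem L236761 : sm ge N30452 = N28448 := ded_19_2 L220466 (flp_e L208779) L236759
theorem L236763 : sm gf N30452 = N28444 := ded_20_2 (flp_c L220438) (flp_f L208777) L236759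
theorem L236765 : sm gb N30452 = N28502 := ded_13_1 L220896 (flp_b L192673) (flp_c L221518) L221526 L236759
theorem L236767 : sm gd N28448 = N30452 := ded_28_1 (flp_c L236759) (flp_d L208775) L177499 (flp_d L177340) (flp_c L191437) (flp_d L220460) L220458 (flp_c L220466)
theorem L236769 : sm gc N26969 = N30453 := rfl
theorem L236771 : sm ge N30453 = N27166 := ded_19_2 (flp_c L210491) (flp_e L208829) L236769
theorem L236773 : sm gb N30453 = N28306 := ded_13_1 (flp_c L219482) (flp_b L190711) (flp_c L177643) L208825 L236769
theorem L236775 : sm gc N26970 = N30454 := rfl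
theorem L236777 : sm ge N30454 = N27173 := ded_19_2 (flp_c L210545) (flp_e L208835) L236775
theorem L236779 : sm gb N30454 = N28309 := ded_13_1 (flp_c L219503) (flp_b L190725) (flp_c L177655) L208831 L236775
theorem L236781 : sm gg N26971 = N30455 := rfl
theorem L236783 : sm ga N30455 = N27281 := ded_12_1 L211358 L210571 L236781
theorem L236785 : sm gc N30455 = N27177 := ded_21_1 (flp_g L210581) (flp_c L208851) L236781
theorem L236787 : sm gd N30455 = N26983 := ded_24_1 (flp_g L208931) (flp_d L208839) L236781
theorem L236789 : sm ge N30455 = N27177 := ded_26_1 (flp_g L210581) (flp_e L208841) L236781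
theorem L236791 : sm gf N27177 = N30455 := ded_29_0 (flp_g L236781) (flp_f L210565) (flp_g L210567) (flp_a L210583)
theorem L236793 : sm gb N30455 = N27275 := ded_17_1 (flp_g L211324) L211326 (flp_g L208855) L208837 L236781
theorem L236795 : sm gd N26972 = N30456 := rfl
theorem L236797 : sm ga N30456 = N26974 := ded_9_1 (flp_d L208865) (flp_a L208845) L236795
theorem L236799 : sm gb N30456 = N27178 := ded_14_1 (flp_d L210587) (flp_b L208849) L236795
theorem L236801 : sm gf N30456 = N27960 := ded_23_2 L218636 L218634 L236795
theorem L236803 : sm gc N30456 = N27888 := ded_28_6 (flp_d L216111) (flp_a L216089) L216091 L187051 L157169 (flp_d L177673) L208843 L236795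
theorem L236805 : sm gg N26972 = N30457 := rfl
theorem L236807 : sm ga N30457 = N26975 := ded_12_1 (flp_g L208869) (flp_a L208845) L236805
theorem L236809 : sm gc N30457 = N26973 := ded_21_1 (flp_g L208855) L208843 L236805
theorem L236811 : sm ge N30457 = N27179 := ded_26_1 (flp_g L210595) (flp_e L208847) L236805
theorem L236813 : sm gf N30457 = N28219 := ded_29_2 (flp_g L218658) (flp_a L218630) L218634 L236805
theorem L236815 : sm gc N26974 = N30458 := rfl
theorem L236817 : sm ga N30458 = N27888 := ded_8_1 (flp_c L236803) L236797 L236815
theorem L236819 : sm gf N30458 = N27948 := ded_20_2 L218656 L218654 L236815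
theorem L236821 : sm gb N30458 = N28312 := ded_13_1 (flp_c L219526) L190748 (flp_c L190643) (flp_b L208867) L236815
theorem L236823 : sm gd N30458 = N27885 := ded_28_7 L216089 L187063 L155848 (flp_c L119431) (flp_d L128733) L177677 L208865 L236815
theorem L236825 : sm ge N28956 = N30458 := ded_10_0 L236817 (flp_e L219836) (flp_a L224923)
theorem L236827 : sm ge N26974 = N30459 := rfl
theorem L236829 : sm gb N30459 = N28294 := ded_15_1 (flp_e L219402) (flp_b L208867) L236827
theorem L236831 : sm gc N30459 = N28956 := ded_19_1 L236825 (flp_c L236815) L236827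
theorem L236833 : sm gf N30459 = N28420 := ded_25_2 L220284 L218654 L236827
theorem L236835 : sm gd N30459 = N27182 := ded_22_1 (flp_e L210621) (flp_d L180381) (flp_e L177679) L208865 L236827
theorem L236837 : sm gg N26974 = N30460 := rfl
theorem L236839 : sm gd N30460 = N26975 := ded_24_1 (flp_g L208869) L208865 L236837
theorem L236841 : sm gb N30460 = N30035 := ded_17_1 (flp_g L233205) (flp_b L219652) (flp_g L219410) (flp_b L208867) L236837
theorem L236843 : sm gb N26975 = N30461 := rfl
theorem L236845 : sm gd N30461 = N30035 := ded_14_2 (flp_b L236841) L236839 L236843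
theorem L236847 : sm ge N30461 = N27184 := ded_15_2 (flp_b L210633) (flp_e L208873) L236843
theorem L236849 : sm gc N30461 = N30078 := ded_13_2 L233551 L209081 L177829 (flp_c L208871) L236843
theorem L236851 : sm gg N30461 = N28296 := ded_17_2 (flp_b L219416) (flp_g L190645) (flp_b L177681) L208869 L236843
theorem L236853 : sm gf N30072 = N30461 := ded_23_0 L236845 (flp_f L233211) (flp_d L233501)
theorem L236855 : sm gf N26975 = N30462 := rfl
theorem L236857 : sm ga N30462 = N28219 := ded_11_1 (flp_f L236813) L236807 L236855
theorem L236859 : sm gc N30462 = N26976 := ded_20_1 (flp_f L208875) (flp_c L208871) L236855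
theorem L236861 : sm ge N30462 = N27185 := ded_25_1 (flp_f L210637) (flp_e L208873) L236855
theorem L236863 : sm gg N30462 = N28216 := ded_29_3 L218630 L189327 L208869 L236855
theorem L236865 : sm gf N26977 = N30463 := rfl
theorem L236867 : sm ga N30463 = N27256 := ded_11_1 L211165 L210665 L236865
theorem L236869 : sm gc N30463 = N27188 := ded_20_1 (flp_f L210657) (flp_c L210677) L236865
theorem L236871 : sm gd N30463 = N26984 := ded_23_1 (flp_f L208941) (flp_d L208889) L236865
theorem L236873 : sm ge N30463 = N27188 := ded_25_1 (flp_f L210657) (flp_e L208891) L236865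
theorem L236875 : sm gg N30463 = N27188 := ded_29_3 L210659 L210651 (flp_g L210653) L236865
theorem L236877 : sm gb N30463 = N27301 := ded_16_1 L211529 (flp_b L211531) (flp_f L208899) L208887 L236865
theorem L236879 : sm gd N26978 = N30464 := rfl
theorem L236881 : sm ga N30464 = N26980 := ded_9_1 (flp_d L208909) (flp_a L208895) L236879
theorem L236883 : sm gb N30464 = N27190 := ded_14_1 (flp_d L210683) L210679 L236879
theorem L236885 : sm gg N30464 = N28032 := ded_24_2 L218868 L218866 L236879
theorem L236887 : sm gc N30464 = N27916 := ded_28_6 (flp_d L216309) (flp_a L216287) L216289 L187235 L157279 (flp_d L177691) L208893 L236879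
theorem L236889 : sm gf N26978 = N30465 := rfl
theorem L236891 : sm ga N30465 = N26981 := ded_11_1 (flp_f L208913) (flp_a L208895) L236889
theorem L236893 : sm gc N30465 = N26979 := ded_20_1 (flp_f L208899) L208893 L236889
theorem L236895 : sm ge N30465 = N27191 := ded_25_1 (flp_f L210691) (flp_e L208897) L236889
theorem L236897 : sm gg N28243 = N30465 := ded_29_1 (flp_f L236889) (flp_g L218866) L218862 L218890
theorem L236899 : sm gc N26980 = N30466 := rfl
theorem L236901 : sm ga N30466 = N27916 := ded_8_1 (flp_c L236887) L236881 L236899
theorem L236903 : sm gg N30466 = N28020 := ded_21_2 L218888 L218886 L236899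
theorem L236905 : sm gb N30466 = N28318 := ded_13_1 (flp_c L219566) L190775 (flp_c L190673) (flp_b L208911) L236899
theorem L236907 : sm gd N30466 = N27913 := ded_28_7 L216287 L187247 L155946 L147575 (flp_d L128739) L177695 L208909 L236899
theorem L236909 : sm ge N28971 = N30466 := ded_10_0 L236901 (flp_e L220058) (flp_a L225031)
theorem L236911 : sm ge N26980 = N30467 := rfl
theorem L236913 : sm gb N30467 = N28299 := ded_15_1 (flp_e L219434) (flp_b L208911) L236911
theorem L236915 : sm gc N30467 = N28971 := ded_19_1 L236909 (flp_c L236899) L236911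
theorem L236917 : sm gg N30467 = N28474 := ded_26_2 L220714 L218886 L236911
theorem L236919 : sm gd N30467 = N27194 := ded_22_1 (flp_e L210717) (flp_d L180413) (flp_e L177697) L208909 L236911
theorem L236921 : sm gf N26980 = N30468 := rfl
theorem L236923 : sm gd N30468 = N26981 := ded_23_1 (flp_f L208913) L208909 L236921
theorem L236925 : sm gb N30468 = N30130 := ded_16_1 (flp_f L233959) L220034 (flp_f L219442) (flp_b L208911) L236921
theorem L236927 : sm gb N26981 = N30469 := rfl
theorem L236929 : sm gd N30469 = N30130 := ded_14_2 (flp_b L236925) L236923 L236927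
theorem L236931 : sm ge N30469 = N27196 := ded_15_2 (flp_b L210729) (flp_e L208917) L236927
theorem L236933 : sm gc N30469 = N30171 := ded_13_2 (flp_b L234297) L209009 L177803 (flp_c L208915) L236927
theorem L236935 : sm gf N30469 = N28301 := ded_16_2 (flp_b L219448) (flp_f L190675) (flp_b L177699) L208913 L236927
theorem L236937 : sm gg N30165 = N30469 := ded_24_0 L236929 L233967 (flp_d L234245)
theorem L236939 : sm gg N26981 = N30470 := rfl
theorem L236941 : sm ga N30470 = N28243 := ded_12_1 L236897 L236891 L236939
theorem L236943 : sm gc N30470 = N26982 := ded_21_1 (flp_g L208919) (flp_c L208915) L236939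
theorem L236945 : sm ge N30470 = N27197 := ded_26_1 (flp_g L210733) (flp_e L208917) L236939
theorem L236947 : sm gf N28240 = N30470 := ded_29_0 (flp_g L236939) (flp_f L208913) (flp_g L189759) (flp_a L218862)
theorem L236949 : sm gb N26985 = N30471 := rfl
theorem L236951 : sm gd N30471 = N27003 := ded_14_2 (flp_b L209095) (flp_d L208953) L236949
theorem L236953 : sm ge N30471 = N27205 := ded_15_2 (flp_b L210803) (flp_e L208955) L236949
theorem L236955 : sm gf N30471 = N27172 := ded_16_2 (flp_b L211262) (flp_f L211276) L211278 (flp_f L209021) L236949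
theorem L236957 : sm gg N30471 = N27097 := ded_17_2 L211370 (flp_g L211368) (flp_b L208973) (flp_g L208957) L236949
theorem L236959 : sm ga N30471 = N27171 := ded_7_1 (flp_b L210531) (flp_a L180423) L209223 (flp_a L209217) (flp_b L177981) L128911 L177779 L208951 L236949
theorem L236961 : sm gd N26986 = N30472 := rfl
theorem L236963 : sm ga N30472 = N28712 := ded_9_1 (flp_d L228121) L228115 L236961
theorem L236965 : sm gb N30472 = N28054 := ded_14_1 L217372 L216505 L236961
theorem L236967 : sm gg N30472 = N26991 := ded_24_2 (flp_d L209001) (flp_g L208963) L236961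
theorem L236969 : sm ge N30472 = N29508 := ded_22_2 (flp_d L228647) L199704 (flp_d L199327) (flp_e L208961) L236961
theorem L236971 : sm gc N28711 = N30472 := ded_28_0 (flp_d L236961) (flp_c L208959) L177781 L177837 (flp_d L190153) L190151 (flp_d L193069) L222914
theorem L236973 : sm gf N30472 = N28886 := ded_29_0 L228719 (flp_f L228713) (flp_g L222926) (flp_a L236963)
theorem L236975 : sm gf N26986 = N30473 := rfl
theorem L236977 : sm gc N30473 = N26987 := ded_20_1 (flp_f L208965) L208959 L236975
theorem L236979 : sm gd N30473 = N28886 := ded_23_1 (flp_f L236973) (flp_d L236961) L236975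
theorem L236981 : sm ge N30473 = N27206 := ded_25_1 (flp_f L210807) (flp_e L208961) L236975
theorem L236983 : sm gb N30473 = N28887 := ded_16_1 L224313 (flp_b L216511) (flp_f L216501) L216505 L236975
theorem L236985 : sm gc N26988 = N30474 := rfl
theorem L236987 : sm ge N30474 = N27207 := ded_19_2 (flp_c L210811) (flp_e L208977) L236985
theorem L236989 : sm gf N30474 = N27287 := ded_20_2 L211401 L208979 L236985
theorem L236991 : sm gb N26989 = N30475 := rfl
theorem L236993 : sm gd N30475 = N29480 := ded_14_2 L228467 (flp_d L208987) L236991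
theorem L236995 : sm ge N30475 = N27209 := ded_15_2 (flp_b L210821) (flp_e L208985) L236991
theorem L236997 : sm gf N26989 = N30476 := rfl
theorem L236999 : sm ga N30476 = N26992 := ded_11_1 (flp_f L209007) (flp_a L208983) L236997
theorem L237001 : sm gc N30476 = N26990 := ded_20_1 (flp_f L208989) L208981 L236997
theorem L237003 : sm gd N30476 = N29516 := ded_23_1 (flp_f L228713) (flp_d L208987) L236997
theorem L237005 : sm ge N30476 = N27210 := ded_25_1 (flp_f L210825) (flp_e L208985) L236997
theorem L237007 : sm gg N30473 = N30476 := ded_29_1 (flp_f L236997) (flp_g L228119) L228115 L236975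
theorem L237009 : sm gg N26992 = N30477 := rfl
theorem L237011 : sm ga N30477 = N30473 := ded_12_1 L237007 L236999 L237009
theorem L237013 : sm gc N30477 = N26993 := ded_21_1 (flp_g L209013) (flp_c L209009) L237009
theorem L237015 : sm ge N30477 = N27212 := ded_26_1 (flp_g L210839) (flp_e L209011) L237009
theorem L237017 : sm gf N29432 = N30477 := ded_29_0 (flp_g L237009) (flp_f L209007) (flp_g L208963) (flp_a L228115)
theorem L237019 : sm gb N26994 = N30478 := rfl
theorem L237021 : sm gd N30478 = N27009 := ded_14_2 (flp_b L209153) (flp_d L209025) L237019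
theorem L237023 : sm ge N30478 = N27217 := ded_15_2 (flp_b L210887) (flp_e L209027) L237019
theorem L237025 : sm gf N30478 = N27071 := ded_16_2 L211179 L211177 (flp_b L209045) (flp_f L209029) L237019
theorem L237027 : sm gg N30478 = N27165 := ded_17_2 (flp_b L211461) L211475 L211477 L209093 L237019
theorem L237029 : sm ga N30478 = N27164 := ded_7_1 (flp_b L210477) (flp_a L180391) L209253 (flp_a L209247) (flp_b L178007) L128951 L177805 L209023 L237019
theorem L237031 : sm gd N26995 = N30479 := rfl
theorem L237033 : sm ga N30479 = N28779 := ded_9_1 (flp_d L229096) L229090 L237031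
theorem L237035 : sm gb N30479 = N27983 := ded_14_1 L216807 L216479 L237031
theorem L237037 : sm gf N30479 = N27000 := ded_23_2 (flp_d L209073) (flp_f L209035) L237031
theorem L237039 : sm ge N30479 = N29368 := ded_22_2 (flp_d L227728) (flp_e L199963) (flp_d L199967) (flp_e L209033) L237031
theorem L237041 : sm gc N28778 = N30479 := ded_28_0 (flp_d L237031) (flp_c L209031) L177807 L177902 (flp_d L190232) L190230 (flp_d L193389) L223359
theorem L237043 : sm gg N28893 = N30479 := ded_29_3 L237033 L223371 L227790 (flp_f L227796)
theorem L237045 : sm gg N26995 = N30480 := rfl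
theorem L237047 : sm gc N30480 = N26996 := ded_21_1 (flp_g L209037) L209031 L237045
theorem L237049 : sm gd N30480 = N28893 := ded_24_1 L237043 (flp_d L237031) L237045
theorem L237051 : sm ge N30480 = N27218 := ded_26_1 (flp_g L210891) (flp_e L209033) L237045
theorem L237053 : sm gb N30480 = N28894 := ded_17_1 L224371 (flp_b L216485) (flp_g L216477) L216479 L237045
theorem L237055 : sm gc N26997 = N30481 := rfl
theorem L237057 : sm ge N30481 = N27219 := ded_19_2 (flp_c L210895) (flp_e L209049) L237055
theorem L237059 : sm gg N30481 = N27262 := ded_21_2 L211208 L209051 L237055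
theorem L237061 : sm gb N26998 = N30482 := rfl
theorem L237063 : sm gd N30482 = N29338 := ded_14_2 L227552 (flp_d L209059) L237061
theorem L237065 : sm ge N30482 = N27221 := ded_15_2 (flp_b L210905) (flp_e L209057) L237061
theorem L237067 : sm gg N26998 = N30483 := rfl
theorem L237069 : sm ga N30483 = N27001 := ded_12_1 (flp_g L209079) (flp_a L209055) L237067
theorem L237071 : sm gc N30483 = N26999 := ded_21_1 (flp_g L209061) L209053 L237067
theorem L237073 : sm gd N30483 = N29376 := ded_24_1 (flp_g L227790) (flp_d L209059) L237067
theorem L237075 : sm ge N30483 = N27222 := ded_26_1 (flp_g L210909) (flp_e L209057) L237067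
theorem L237077 : sm gf N30483 = N30480 := ded_29_2 (flp_g L237045) (flp_a L229090) L229094 L237067
theorem L237079 : sm gf N27001 = N30484 := rfl
theorem L237081 : sm ga N30484 = N30480 := ded_11_1 (flp_f L237077) L237069 L237079
theorem L237083 : sm gc N30484 = N27002 := ded_20_1 (flp_f L209085) (flp_c L209081) L237079
theorem L237085 : sm ge N30484 = N27224 := ded_25_1 (flp_f L210923) (flp_e L209083) L237079
theorem L237087 : sm gg N30484 = N29572 := ded_29_3 L229090 L209035 L209079 L237079
theorem L237089 : sm gd N27005 = N30485 := rfl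
theorem L237091 : sm ga N30485 = N28664 := ded_9_1 L222126 (flp_a L209119) L237089
theorem L237093 : sm gf N30485 = N27432 := ded_23_2 L212477 (flp_f L209123) L237089
theorem L237095 : sm gg N30485 = N27096 := ded_24_2 L209915 (flp_g L209125) L237089
theorem L237097 : sm ge N30485 = N28668 := ded_22_2 L222158 L192827 (flp_d L178157) (flp_e L209121) L237089
theorem L237099 : sm ga N27006 = N30486 := rfl
theorem L237101 : sm gc N30486 = N27248 := ded_8_2 L211091 L209521 L237099
theorem L237103 : sm gd N30486 = N30017 := ded_9_2 L233075 L223579 L237099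
theorem L237105 : sm ge N30486 = N27029 := ded_10_2 (flp_a L209319) (flp_e L209129) L237099
theorem L237107 : sm gf N30486 = N27247 := ded_29_0 (flp_g L211081) (flp_f L209511) (flp_g L209515) L237099
theorem L237109 : sm gf N27006 = N30487 := rfl
theorem L237111 : sm ga N30487 = N27247 := ded_11_1 (flp_f L237107) (flp_a L237099) L237109
theorem L237113 : sm gc N30487 = N27246 := ded_20_1 L211079 L209521 L237109
theorem L237115 : sm gd N30487 = N30016 := ded_23_1 L233069 L223579 L237109
theorem L237117 : sm ge N30487 = N27030 := ded_25_1 (flp_f L209325) (flp_e L209129) L237109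
theorem L237119 : sm gg N30487 = N27245 := ded_29_3 L211067 (flp_f L209511) (flp_g L209515) L237109
theorem L237121 : sm gb N30487 = N28923 := ded_16_1 L224621 L215353 (flp_f L185203) L209127 L237109
theorem L237123 : sm gd N27011 = N30488 := rfl
theorem L237125 : sm ga N30488 = N28607 := ded_9_1 L221696 (flp_a L209177) L237123
theorem L237127 : sm gf N30488 = N27070 := ded_23_2 L209713 (flp_f L209181) L237123
theorem L237129 : sm gg N30488 = N27343 := ded_24_2 L211833 (flp_g L209183) L237123
theorem L237131 : sm ge N30488 = N28611 := ded_22_2 L221724 L192505 (flp_d L178215) (flp_e L209179) L237123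
theorem L237133 : sm ga N27012 = N30489 := rfl
theorem L237135 : sm gc N30489 = N27233 := ded_8_2 L210983 L209449 L237133
theorem L237137 : sm gd N30489 = N29817 := ded_9_2 L231274 L223169 L237133
theorem L237139 : sm ge N30489 = N27031 := ded_10_2 (flp_a L209337) (flp_e L209187) L237133
theorem L237141 : sm gg N27232 = N30489 := ded_29_3 (flp_a L237133) L209443 L209439 L210973
theorem L237143 : sm gg N27012 = N30490 := rfl
theorem L237145 : sm ga N30490 = N27232 := ded_12_1 L237141 (flp_a L237133) L237143
theorem L237147 : sm gc N30490 = N27231 := ded_21_1 (flp_g L210971) L209449 L237143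
theorem L237149 : sm gd N30490 = N29816 := ded_24_1 (flp_g L231268) L223169 L237143
theorem L237151 : sm ge N30490 = N27032 := ded_26_1 (flp_g L209343) (flp_e L209187) L237143
theorem L237153 : sm gf N27230 = N30490 := ded_29_0 (flp_g L237143) L209443 L209439 (flp_a L210959)
theorem L237155 : sm gb N30490 = N28934 := ded_17_1 L224725 L215441 L185405 L209185 L237143
theorem L237157 : sm gd N27015 = N30491 := rfl
theorem L237159 : sm gb N30491 = N28000 := ded_14_1 L216962 (flp_b L209215) L237157
theorem L237161 : sm gf N30491 = N28723 := ded_23_2 L228323 L228317 L237157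
theorem L237163 : sm ge N28737 = N30491 := ded_25_3 L237161 L223016 L223092
theorem L237165 : sm gc N27016 = N30492 := rfl
theorem L237167 : sm ga N30492 = N27017 := ded_8_1 (flp_c L209225) L209217 L237165
theorem L237169 : sm ge N30492 = N27270 := ded_19_2 (flp_c L211264) (flp_e L209221) L237165
theorem L237171 : sm gf N30492 = N29029 := ded_20_2 L225393 L211545 L237165
theorem L237173 : sm gd N30492 = N28714 := ded_28_7 L222938 (flp_c L222932) L222930 (flp_c L219202) L219204 L196592 (flp_d L209219) L237165
theorem L237175 : sm gg N27017 = N30493 := rfl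
theorem L237177 : sm gc N30493 = N27018 := ded_21_1 (flp_g L209233) L209225 L237175
theorem L237179 : sm ge N30493 = N27273 := ded_26_1 (flp_g L211282) (flp_e L209227) L237175
theorem L237181 : sm gf N27018 = N30494 := rfl
theorem L237183 : sm ga N30494 = N27305 := ded_11_1 (flp_f L211555) L210855 L237181
theorem L237185 : sm gd N30494 = N27025 := ded_23_1 (flp_f L209286) (flp_d L209235) L237181
theorem L237187 : sm ge N30494 = N27274 := ded_25_1 (flp_f L211286) (flp_e L209237) L237181
theorem L237189 : sm gg N30494 = N27304 := ded_29_3 (flp_a L211539) L181121 L209233 L237181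
theorem L237191 : sm gd N27019 = N30495 := rfl
theorem L237193 : sm gb N30495 = N28070 := ded_14_1 L217518 (flp_b L209245) L237191
theorem L237195 : sm gg N30495 = N28787 := ded_24_2 (flp_d L227383) L227379 L237191
theorem L237197 : sm ge N28801 = N30495 := ded_26_3 L237195 L223443 L223527
theorem L237199 : sm gc N27020 = N30496 := rfl
theorem L237201 : sm ga N30496 = N27021 := ded_8_1 (flp_c L209255) L209247 L237199
theorem L237203 : sm ge N30496 = N27295 := ded_19_2 (flp_c L211463) (flp_e L209251) L237199
theorem L237205 : sm gg N30496 = N29018 := ded_21_2 L225339 L211336 L237199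
theorem L237207 : sm gd N30496 = N28776 := ded_28_7 L223351 (flp_c L223345) L223343 (flp_c L219306) L219308 L196173 (flp_d L209249) L237199
theorem L237209 : sm gf N27021 = N30497 := rfl
theorem L237211 : sm gc N30497 = N27022 := ded_20_1 (flp_f L209263) L209255 L237209
theorem L237213 : sm ge N30497 = N27298 := ded_25_1 (flp_f L211481) (flp_e L209257) L237209
theorem L237215 : sm gg N27022 = N30498 := rfl
theorem L237217 : sm ga N30498 = N27280 := ded_12_1 L211344 L210939 L237215
theorem L237219 : sm gd N30498 = N27028 := ded_24_1 (flp_g L209309) (flp_d L209265) L237215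
theorem L237221 : sm ge N30498 = N27299 := ded_26_1 (flp_g L211485) (flp_e L209267) L237215
theorem L237223 : sm gf N27279 = N30498 := ded_29_0 (flp_g L237215) (flp_f L209263) (flp_g L181009) L211332
theorem L237225 : sm gb N30498 = N30494 := ded_17_1 L237189 L211547 (flp_g L202174) (flp_b L209269) L237215
theorem L237227 : sm gb N27023 = N30499 := rfl
theorem L237229 : sm ge N30499 = N27033 := ded_15_2 (flp_b L209355) (flp_e L209275) L237227
theorem L237231 : sm gc N30499 = N27062 := ded_13_2 (flp_b L209625) L178880 L178283 L209271 L237227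
theorem L237233 : sm gf N30499 = N27063 := ded_16_2 L209643 L201920 (flp_b L184504) (flp_f L209277) L237227
theorem L237235 : sm gg N30499 = N27108 := ded_17_2 L209997 (flp_g L213589) (flp_b L213591) L211137 L237227
theorem L237237 : sm ga N30499 = N27111 := ded_30_3 (flp_f L210021) (flp_c L195460) (flp_b L163095) L113096 (flp_f L112472) (flp_c L112466) (flp_b L130042) (flp_a L178759) L178765 (flp_c L209541) L209545 L209109 (flp_f L177844) (flp_c L177848) (flp_b L178030) (flp_a L178287) (flp_f L178285) L209271 L237227
theorem L237239 : sm gd N27023 = N30500 := rfl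
theorem L237241 : sm ga N30500 = N27024 := ded_9_1 (flp_d L209279) (flp_a L209273) L237239
theorem L237243 : sm gf N30500 = N27534 := ded_23_2 L213189 (flp_f L209277) L237239
theorem L237245 : sm ge N30500 = N27535 := ded_22_2 L213195 L182433 (flp_d L178293) (flp_e L209275) L237239
theorem L237247 : sm gc N27024 = N30501 := rfl
theorem L237249 : sm ge N30501 = N27541 := ded_19_2 L213229 (flp_e L209284) L237247
theorem L237251 : sm gf N30501 = N27540 := ded_20_2 L213225 (flp_f L209282) L237247
theorem L237253 : sm gb N27026 = N30502 := rfl
theorem L237255 : sm ge N30502 = N27034 := ded_15_2 (flp_b L209367) (flp_e L209298) L237253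
theorem L237257 : sm gc N30502 = N27057 := ded_13_2 (flp_b L209567) L178789 (flp_b L178267) L209294 L237253
theorem L237259 : sm gf N30502 = N27082 := ded_16_2 L209795 (flp_f L213085) (flp_b L213087) (flp_f L211029) L237253
theorem L237261 : sm gg N30502 = N27058 := ded_17_2 L209585 L200241 (flp_b L184896) (flp_g L209300) L237253
theorem L237263 : sm ga N30502 = N27084 := ded_30_3 (flp_f L209803) (flp_c L179087) (flp_b L130240) (flp_a L102679) L102689 (flp_c L130264) L130268 (flp_a L145522) (flp_f L145520) (flp_c L149727) L116275 L95737 L95752 (flp_c L116322) L167655 (flp_a L180763) (flp_f L180767) L209294 L237253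
theorem L237265 : sm gd N27026 = N30503 := rfl
theorem L237267 : sm ga N30503 = N27027 := ded_9_1 (flp_d L209302) (flp_a L209296) L237265
theorem L237269 : sm gg N30503 = N27610 := ded_24_2 L213699 (flp_g L209300) L237265
theorem L237271 : sm ge N30503 = N27612 := ded_22_2 L213711 L182825 (flp_d L178359) (flp_e L209298) L237265
theorem L237273 : sm gc N27027 = N30504 := rfl
theorem L237275 : sm ge N30504 = N27618 := ded_19_2 L213743 (flp_e L209307) L237273
theorem L237277 : sm gg N30504 = N27616 := ded_21_2 L213735 (flp_g L209305) L237273
theorem L237279 : sm ga N27041 = N30505 := rfl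
theorem L237281 : sm gd N30505 = N27042 := ded_9_2 (flp_a L209429) (flp_d L209425) L237279
theorem L237283 : sm gg N30505 = N27227 := ded_12_2 (flp_a L210947) (flp_g L209427) L237279
theorem L237285 : sm gc N27041 = N30506 := rfl
theorem L237287 : sm gg N30506 = N27228 := ded_21_2 (flp_c L210951) (flp_g L209427) L237285
theorem L237289 : sm gf N27041 = N30507 := rfl
theorem L237291 : sm gd N30507 = N27044 := ded_23_1 (flp_f L209447) (flp_d L209425) L237289
theorem L237293 : sm gb N30507 = N30488 := ded_16_1 L237127 (flp_b L209711) L178999 L209423 L237289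
theorem L237295 : sm gc N27042 = N30508 := rfl
theorem L237297 : sm ga N30508 = N27043 := ded_8_1 (flp_c L209435) L209429 L237295
theorem L237299 : sm ge N30508 = N27133 := ded_19_2 (flp_c L210187) (flp_e L209431) L237295
theorem L237301 : sm gf N30508 = N30489 := ded_20_2 L237135 (flp_f L210987) L237295
theorem L237303 : sm gg N30508 = N27230 := ded_21_2 (flp_c L210957) (flp_g L209433) L237295
theorem L237305 : sm gd N28750 = N30508 := ded_9_0 L237297 (flp_d L209445) (flp_a L223157)
theorem L237307 : sm gb N27048 = N30509 := rfl
theorem L237309 : sm gd N30509 = N29723 := ded_14_2 L230402 L222345 L237307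
theorem L237311 : sm ge N30509 = N27134 := ded_15_2 (flp_b L210195) (flp_e L209491) L237307
theorem L237313 : sm gc N30509 = N30410 := ded_13_2 (flp_b L236392) L208023 (flp_b L178707) (flp_c L209489) L237307
theorem L237315 : sm gf N30509 = N29722 := ded_16_2 (flp_b L230384) L201082 L209465 L209493 L237307
theorem L237317 : sm gg N30509 = N30410 := ded_17_2 (flp_b L236392) (flp_g L208019) L178695 L209485 L237307
theorem L237319 : sm ga N30509 = N30509 := ded_7_1 (flp_b L237307) L209487 L209473 L209167 L177908 (flp_a L209167) (flp_b L209473) (flp_a L209487) L237307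
theorem L237320 : sm ga N27049 = N30510 := rfl
theorem L237322 : sm gd N30510 = N27050 := ded_9_2 (flp_a L209501) (flp_d L209497) L237320
theorem L237324 : sm gf N30510 = N27242 := ded_11_2 (flp_a L211055) (flp_f L209499) L237320
theorem L237326 : sm gc N27049 = N30511 := rfl
theorem L237328 : sm gf N30511 = N27243 := ded_20_2 (flp_c L211059) (flp_f L209499) L237326
theorem L237330 : sm gg N27049 = N30512 := rfl
theorem L237332 : sm gd N30512 = N27052 := ded_24_1 (flp_g L209519) (flp_d L209497) L237330
theorem L237334 : sm gb N30512 = N30485 := ded_17_1 L237095 (flp_b L209913) (flp_g L179195) L209495 L237330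
theorem L237336 : sm gc N27050 = N30513 := rfl
theorem L237338 : sm ga N30513 = N27051 := ded_8_1 (flp_c L209507) L209501 L237336
theorem L237340 : sm ge N30513 = N27135 := ded_19_2 (flp_c L210198) (flp_e L209503) L237336
theorem L237342 : sm gf N30513 = N27245 := ded_20_2 (flp_c L211065) (flp_f L209505) L237336
theorem L237344 : sm gg N30513 = N30486 := ded_21_2 L237101 L211095 L237336
theorem L237346 : sm gd N28808 = N30513 := ded_9_0 L237338 (flp_d L209517) (flp_a L223567)
theorem L237348 : sm gb N27056 = N30514 := rfl
theorem L237350 : sm gd N30514 = N29941 := ded_14_2 L232416 L221860 L237348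
theorem L237352 : sm ge N30514 = N27136 := ded_15_2 (flp_b L210206) (flp_e L209563) L237348
theorem L237354 : sm gc N30514 = N30390 := ded_13_2 (flp_b L236253) L207734 (flp_b L178785) (flp_c L209561) L237348
theorem L237356 : sm gf N30514 = N30390 := ded_16_2 (flp_b L236253) (flp_f L207730) L178773 L209557 L237348
theorem L237358 : sm gg N30514 = N29940 := ded_17_2 (flp_b L232398) (flp_g L202729) (flp_b L209535) (flp_g L209565) L237348
theorem L237360 : sm ga N30514 = N30514 := ded_7_1 (flp_b L237348) L209559 L209545 L209109 L177843 (flp_a L209109) (flp_b L209545) (flp_a L209559) L237348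
theorem L237361 : sm gd N27058 = N30515 := rfl
theorem L237363 : sm ga N30515 = N28915 := ded_9_1 (flp_d L224555) (flp_a L209581) L237361
theorem L237365 : sm gb N30515 = N29612 := ded_14_1 (flp_d L229450) (flp_b L209585) L237361
theorem L237367 : sm gd N27063 = N30516 := rfl
theorem L237369 : sm ga N30516 = N28901 := ded_9_1 (flp_d L224433) (flp_a L209639) L237367
theorem L237371 : sm gb N30516 = N29849 := ded_14_1 (flp_d L231596) (flp_b L209643) L237367
theorem L237373 : sm gf N27067 = N30517 := rfl
theorem L237375 : sm ga N30517 = N28270 := ded_11_1 (flp_f L220300) L220294 L237373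
theorem L237377 : sm gc N30517 = N27183 := ded_20_1 (flp_f L222375) L222371 L237373
theorem L237379 : sm gd N30517 = N27068 := ded_23_1 (flp_f L209689) (flp_d L209685) L237373
theorem L237381 : sm ge N30517 = N28423 := ded_25_1 (flp_f L220306) (flp_e L209687) L237373
theorem L237383 : sm gg N30517 = N27181 := ded_29_3 L210613 L190271 L209683 L237373
theorem L237385 : sm gb N27069 = N30518 := rfl
theorem L237387 : sm gd N30518 = N27141 := ded_14_2 (flp_b L210251) (flp_d L209705) L237385
theorem L237389 : sm ge N30518 = N27070 := ded_15_2 (flp_b L209711) (flp_e L209707) L237385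
theorem L237391 : sm gg N30518 = N29833 := ded_17_2 L231430 L201876 L191231 L209699 L237385
theorem L237393 : sm ga N28613 = N30518 := ded_9_3 L237387 L210259 (flp_d L221730)
theorem L237395 : sm gf N28611 = N30518 := ded_23_0 L237387 (flp_f L210261) (flp_d L221724)
theorem L237397 : sm gc N27070 = N30519 := rfl
theorem L237399 : sm gc N27071 = N30520 := rfl
theorem L237401 : sm ga N30520 = N28916 := ded_8_1 (flp_c L224559) (flp_a L209717) L237399
theorem L237403 : sm ge N27071 = N30521 := rfl
theorem L237405 : sm ga N30521 = N27266 := ded_10_1 L211238 (flp_a L209717) L237403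
theorem L237407 : sm gb N30521 = N27220 := ded_15_1 (flp_e L211173) (flp_b L211179) L237403
theorem L237409 : sm gf N30521 = N27217 := ded_25_2 (flp_e L237023) L237025 L237403
theorem L237411 : sm gg N30521 = N27263 := ded_26_2 L211214 L210501 L237403
theorem L237413 : sm gd N30521 = N27142 := ded_22_1 (flp_e L210263) (flp_d L179687) (flp_e L179009) L209715 L237403
theorem L237415 : sm gc N27072 = N30522 := rfl
theorem L237417 : sm ge N30522 = N27074 := ded_19_2 (flp_c L209733) (flp_e L209723) L237415
theorem L237419 : sm gg N30522 = N27119 := ded_21_2 (flp_c L210087) (flp_g L209725) L237415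
theorem L237421 : sm gb N27073 = N30523 := rfl
theorem L237423 : sm gd N30523 = N27076 := ded_14_2 (flp_b L209741) (flp_d L209729) L237421
theorem L237425 : sm ge N30523 = N30111 := ded_15_2 L233829 L233743 L237421
theorem L237427 : sm gg N30523 = N30106 := ded_17_2 (flp_b L233779) L203805 (flp_b L203767) (flp_g L209731) L237421
theorem L237429 : sm ga N28892 = N30523 := ded_9_3 L237423 (flp_a L209745) L224359
theorem L237431 : sm gb N27078 = N30524 := rfl
theorem L237433 : sm gc N30524 = N29621 := ded_13_2 L229522 L210171 L179431 L209759 L237431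
theorem L237435 : sm ge N27078 = N30525 := rfl
theorem L237437 : sm ga N30525 = N29970 := ded_10_1 L232674 L227068 L237435
theorem L237439 : sm gc N30525 = N27079 := ded_19_1 (flp_e L209763) L209759 L237435
theorem L237441 : sm gg N30525 = N27087 := ded_26_2 (flp_e L209831) (flp_g L209761) L237435
theorem L237443 : sm gd N30525 = N29166 := ded_22_1 L226265 (flp_d L198629) (flp_e L226982) L226980 L237435
theorem L237445 : sm gf N27078 = N30526 := rfl
theorem L237447 : sm gc N30526 = N27080 := ded_20_1 (flp_f L209773) L209759 L237445
theorem L237449 : sm gd N30526 = N29255 := ded_23_1 (flp_f L226984) L226980 L237445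
theorem L237451 : sm gg N30526 = N29254 := ded_29_3 L226882 (flp_f L209839) (flp_g L209761) L237445
theorem L237453 : sm gb N27080 = N30527 := rfl
theorem L237455 : sm gd N30527 = N27081 := ded_14_2 (flp_b L209777) (flp_d L209775) L237453
theorem L237457 : sm ge N30527 = N27920 := ded_15_2 (flp_b L232765) L232761 L237453
theorem L237459 : sm gf N30527 = N28497 := ded_16_2 L220866 (flp_f L210173) L179431 L209773 L237453
theorem L237461 : sm gg N30527 = N30439 := ded_31_3 L236629 (flp_b L221560) (flp_g L221558) (flp_f L214135) (flp_b L214129) (flp_g L183028) (flp_f L145833) L104627 L89462 (flp_f L102775) (flp_b L130260) (flp_g L179063) L209773 L237453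
theorem L237463 : sm ga N27919 = N30527 := ded_9_3 L237455 L209787 (flp_d L216325)
theorem L237465 : sm gf N27083 = N30528 := rfl
theorem L237467 : sm gd N30528 = N27084 := ded_23_1 (flp_f L209803) L209797 L237465
theorem L237469 : sm ge N30528 = N30293 := ded_25_1 (flp_f L235394) (flp_e L209801) L237465
theorem L237471 : sm gg N28915 = N30528 := ded_24_0 L237467 (flp_g L209809) L224555
theorem L237473 : sm gg N27083 = N30529 := rfl
theorem L237475 : sm gd N30529 = N27085 := ded_24_1 (flp_g L209811) L209797 L237473
theorem L237477 : sm ge N30529 = N30294 := ded_26_1 (flp_g L235398) (flp_e L209801) L237473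
theorem L237479 : sm gf N30515 = N30529 := ded_29_0 (flp_g L237473) L237465 (flp_g L237471) (flp_a L237363)
theorem L237481 : sm gb N30529 = N30325 := ded_17_1 (flp_g L235687) L206338 (flp_g L205905) (flp_b L209799) L237473
theorem L237483 : sm gf N27087 = N30530 := rfl
theorem L237485 : sm ga N30530 = N29977 := ded_11_1 (flp_f L232747) (flp_a L209833) L237483
theorem L237487 : sm gc N30530 = N27089 := ded_20_1 (flp_f L209843) (flp_c L209835) L237483
theorem L237489 : sm gd N30530 = N29142 := ded_23_1 L226131 (flp_d L209837) L237483
theorem L237491 : sm ge N30530 = N27088 := ded_25_1 (flp_f L209839) L209831 L237483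
theorem L237493 : sm gb N30530 = N30511 := ded_16_1 L237328 (flp_b L231386) L231384 L213399 L237483
theorem L237495 : sm gb N27088 = N30531 := rfl
theorem L237497 : sm ge N30531 = N30511 := ded_15_2 (flp_b L237493) L237491 L237495
theorem L237499 : sm gc N30531 = N27556 := ded_13_2 (flp_b L213321) L182545 (flp_b L179143) (flp_c L209841) L237495
theorem L237501 : sm gg N27088 = N30532 := rfl
theorem L237503 : sm ga N30532 = N30526 := ded_12_1 L237451 L226882 L237501
theorem L237505 : sm gc N30532 = N27090 := ded_21_1 (flp_g L209853) (flp_c L209841) L237501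
theorem L237507 : sm gd N30532 = N29279 := ded_24_1 L227088 (flp_d L226860) L237501
theorem L237509 : sm gf N29277 = N30532 := ded_29_0 (flp_g L237501) (flp_f L209839) (flp_g L209761) (flp_a L227068)
theorem L237511 : sm gb N27090 = N30533 := rfl
theorem L237513 : sm gd N30533 = N27091 := ded_14_2 (flp_b L209861) (flp_d L209857) L237511
theorem L237515 : sm gf N30533 = N28213 := ded_16_2 L232670 (flp_f L232660) (flp_b L209753) L209859 L237511
theorem L237517 : sm gg N30533 = N27557 := ded_17_2 (flp_b L213329) (flp_g L182559) (flp_b L179143) L209853 L237511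
theorem L237519 : sm gg N27093 = N30534 := rfl
theorem L237521 : sm ga N30534 = N28280 := ded_12_1 L220730 L220724 L237519
theorem L237523 : sm gc N30534 = N27195 := ded_21_1 L223189 L223185 L237519
theorem L237525 : sm gd N30534 = N27094 := ded_24_1 (flp_g L209891) (flp_d L209887) L237519
theorem L237527 : sm ge N30534 = N28479 := ded_26_1 L220752 (flp_e L209889) L237519
theorem L237529 : sm gf N27193 = N30534 := ded_29_0 (flp_g L237519) (flp_f L209885) (flp_g L190437) (flp_a L210709)
theorem L237531 : sm gb N27095 = N30535 := rfl
theorem L237533 : sm gd N30535 = N27150 := ded_14_2 (flp_b L210339) (flp_d L209907) L237531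
theorem L237535 : sm ge N30535 = N27096 := ded_15_2 (flp_b L209913) (flp_e L209909) L237531
theorem L237537 : sm gf N30535 = N29589 := ded_16_2 L229236 L200159 L191614 L209901 L237531
theorem L237539 : sm ga N28670 = N30535 := ded_9_3 L237533 (flp_a L210347) (flp_d L222164)
theorem L237541 : sm gg N28668 = N30535 := ded_24_0 L237533 (flp_g L210349) (flp_d L222158)
theorem L237543 : sm gc N27096 = N30536 := rfl
theorem L237545 : sm gc N27097 = N30537 := rfl
theorem L237547 : sm ga N30537 = N28902 := ded_8_1 (flp_c L224437) (flp_a L209919) L237545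
theorem L237549 : sm ge N27097 = N30538 := rfl
theorem L237551 : sm ga N30538 = N27290 := ded_10_1 L211423 (flp_a L209919) L237549
theorem L237553 : sm gb N30538 = N27208 := ded_15_1 (flp_e L211364) (flp_b L211370) L237549
theorem L237555 : sm gf N30538 = N27288 := ded_25_2 L211407 (flp_f L210555) L237549
theorem L237557 : sm gg N30538 = N27205 := ded_26_2 (flp_e L236953) L236957 L237549
theorem L237559 : sm gd N30538 = N27151 := ded_22_1 (flp_e L210351) (flp_d L179905) (flp_e L179205) L209917 L237549
theorem L237561 : sm gc N27098 = N30539 := rfl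
theorem L237563 : sm ge N30539 = N27100 := ded_19_2 (flp_c L209935) (flp_e L209925) L237561
theorem L237565 : sm gf N30539 = N27126 := ded_20_2 (flp_c L210137) (flp_f L209927) L237561
theorem L237567 : sm gb N27099 = N30540 := rfl
theorem L237569 : sm gd N30540 = N27102 := ded_14_2 (flp_b L209943) (flp_d L209931) L237567
theorem L237571 : sm ge N30540 = N30203 := ded_15_2 L234581 L234535 L237567
theorem L237573 : sm gf N30540 = N30199 := ded_16_2 (flp_b L234539) (flp_f L204299) (flp_b L204279) (flp_f L209933) L237567
theorem L237575 : sm ga N28884 = N30540 := ded_9_3 L237569 (flp_a L209947) L224291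
theorem L237577 : sm gb N27104 = N30541 := rfl
theorem L237579 : sm gc N30541 = N29858 := ded_13_2 L231670 L210121 L179381 L209961 L237577
theorem L237581 : sm ge N27104 = N30542 := rfl
theorem L237583 : sm ga N30542 = N29762 := ded_10_1 L230726 L226643 L237581
theorem L237585 : sm gc N30542 = N27105 := ded_19_1 (flp_e L209965) L209961 L237581
theorem L237587 : sm gf N30542 = N27113 := ded_25_2 (flp_e L210033) (flp_f L209963) L237581
theorem L237589 : sm gd N30542 = N29115 := ded_22_1 L225979 (flp_d L198258) (flp_e L226571) L226569 L237581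
theorem L237591 : sm gg N27104 = N30543 := rfl
theorem L237593 : sm gc N30543 = N27106 := ded_21_1 (flp_g L209975) L209961 L237591
theorem L237595 : sm gd N30543 = N29200 := ded_24_1 L226573 L226569 L237591
theorem L237597 : sm gf N29199 = N30543 := ded_29_0 (flp_g L237591) L209963 L210041 (flp_a L226471)
theorem L237599 : sm gb N27106 = N30544 := rfl
theorem L237601 : sm gd N30544 = N27107 := ded_14_2 (flp_b L209979) (flp_d L209977) L237599
theorem L237603 : sm ge N30544 = N27892 := ded_15_2 (flp_b L230986) L230982 L237599
theorem L237605 : sm gg N30544 = N28443 := ded_17_2 (flp_b L220436) (flp_g L210123) L179381 L209975 L237599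
theorem L237607 : sm gf N30447 = N30544 := ded_31_1 (flp_b L237599) (flp_g L209975) L179259 L130382 L102805 (flp_f L89421) (flp_b L104544) L145730 L182889 L213824 L213830 L221516 L221526 (flp_g L236711)
theorem L237609 : sm ga N27891 = N30544 := ded_9_3 L237601 (flp_a L209989) (flp_d L216127)
theorem L237611 : sm gf N27109 = N30545 := rfl
theorem L237613 : sm gd N30545 = N27110 := ded_23_1 (flp_f L210005) L209999 L237611
theorem L237615 : sm ge N30545 = N30352 := ded_25_1 (flp_f L235952) (flp_e L210003) L237611
theorem L237617 : sm gb N30545 = N30310 := ded_16_1 (flp_f L235545) L206164 L206202 (flp_b L210001) L237611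
theorem L237619 : sm gg N30516 = N30545 := ded_24_0 L237613 (flp_g L210013) L237367
theorem L237621 : sm gg N27109 = N30546 := rfl
theorem L237623 : sm gd N30546 = N27111 := ded_24_1 (flp_g L210015) L209999 L237621
theorem L237625 : sm ge N30546 = N30353 := ded_26_1 (flp_g L235960) (flp_e L210003) L237621
theorem L237627 : sm gf N28901 = N30546 := ded_29_0 (flp_g L237621) L237611 (flp_g L237619) L237369
theorem L237629 : sm gg N27113 = N30547 := rfl
theorem L237631 : sm ga N30547 = N29775 := ded_12_1 (flp_g L230968) (flp_a L210035) L237629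
theorem L237633 : sm gc N30547 = N27115 := ded_21_1 (flp_g L210045) (flp_c L210037) L237629
theorem L237635 : sm gd N30547 = N29091 := ded_24_1 L225859 (flp_d L210039) L237629
theorem L237637 : sm ge N30547 = N27114 := ded_26_1 (flp_g L210041) L210033 L237629
theorem L237639 : sm gb N30547 = N30506 := ded_17_1 L237287 (flp_b L229176) L229174 L212897 L237629
theorem L237641 : sm gb N27114 = N30548 := rfl
theorem L237643 : sm ge N30548 = N30506 := ded_15_2 (flp_b L237639) L237637 L237641
theorem L237645 : sm gc N30548 = N27480 := ded_13_2 (flp_b L212819) L182183 (flp_b L179341) (flp_c L210043) L237641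
theorem L237647 : sm gf N27114 = N30549 := rfl
theorem L237649 : sm ga N30549 = N30543 := ded_11_1 (flp_f L237597) L226471 L237647
theorem L237651 : sm gc N30549 = N27116 := ded_20_1 (flp_f L210055) (flp_c L210043) L237647
theorem L237653 : sm gd N30549 = N29224 := ded_23_1 (flp_f L226663) (flp_d L226449) L237647
theorem L237655 : sm gg N30549 = N29222 := ded_29_3 L226643 L209963 L210041 L237647
theorem L237657 : sm gb N27116 = N30550 := rfl
theorem L237659 : sm gd N30550 = N27117 := ded_14_2 (flp_b L210063) (flp_d L210059) L237657
theorem L237661 : sm gf N30550 = N27482 := ded_16_2 (flp_b L212835) (flp_f L182207) (flp_b L179341) L210055 L237657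
theorem L237663 : sm gg N30550 = N28201 := ded_17_2 L230710 (flp_g L230702) (flp_b L209955) (flp_g L210061) L237657
theorem L237665 : sm gd N27119 = N30551 := rfl
theorem L237667 : sm ga N30551 = N28116 := ded_9_1 L233735 L233729 L237665
theorem L237669 : sm gb N30551 = N27486 := ded_14_1 (flp_d L212863) (flp_b L210091) L237665
theorem L237671 : sm ge N30551 = N28230 := ded_22_2 (flp_d L218772) L210115 (flp_d L210109) (flp_e L210089) L237665
theorem L237673 : sm gf N27120 = N30552 := rfl
theorem L237675 : sm ga N30552 = N27123 := ded_11_1 (flp_f L210119) (flp_a L210095) L237673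
theorem L237677 : sm gc N30552 = N27121 := ded_20_1 (flp_f L210101) L210093 L237673
theorem L237679 : sm gd N30552 = N28088 := ded_23_1 (flp_f L217646) (flp_d L210099) L237673
theorem L237681 : sm gg N29602 = N30552 := ded_29_1 (flp_f L237673) (flp_g L229532) L229528 (flp_f L229356)
theorem L237683 : sm gb N30552 = N29901 := ded_31_2 L232082 L230026 L230022 (flp_g L202886) (flp_f L202878) L170454 L170490 (flp_f L197393) (flp_b L225453) (flp_g L229556) (flp_f L229550) (flp_b L229530) L229532 L237673
theorem L237685 : sm gg N27123 = N30553 := rfl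
theorem L237687 : sm ga N30553 = N29602 := ded_12_1 L237681 L237675 L237685
theorem L237689 : sm gc N30553 = N27124 := ded_21_1 (flp_g L210123) (flp_c L210121) L237685
theorem L237691 : sm gd N30553 = N29603 := ded_24_1 (flp_g L231660) L231664 L237685
theorem L237693 : sm gf N29622 = N30553 := ded_29_0 (flp_g L237685) (flp_f L210119) (flp_g L209735) (flp_a L229528)
theorem L237695 : sm gg N27125 = N30554 := rfl
theorem L237697 : sm ga N30554 = N27329 := ded_12_1 L224279 L224271 L237695
theorem L237699 : sm gc N30554 = N30273 := ded_21_1 L235191 L218758 L237695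
theorem L237701 : sm ge N30554 = N27159 := ded_26_1 (flp_g L210427) (flp_e L210133) L237695
theorem L237703 : sm gf N30273 = N30554 := ded_29_0 (flp_g L237695) L210135 L224281 (flp_a L235193)
theorem L237705 : sm gb N30554 = N28510 := ded_17_1 (flp_g L220972) (flp_b L191874) L179401 L210131 L237695
theorem L237707 : sm gd N27126 = N30555 := rfl
theorem L237709 : sm ga N30555 = N28100 := ded_9_1 L234527 L234521 L237707
theorem L237711 : sm gb N30555 = N27562 := ded_14_1 (flp_d L213365) (flp_b L210141) L237707
theorem L237713 : sm ge N30555 = N28252 := ded_22_2 (flp_d L218982) L210167 (flp_d L210159) (flp_e L210139) L237707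
theorem L237715 : sm gg N27127 = N30556 := rfl
theorem L237717 : sm ga N30556 = N27130 := ded_12_1 (flp_g L210169) (flp_a L210145) L237715
theorem L237719 : sm gc N30556 = N27128 := ded_21_1 (flp_g L210151) L210143 L237715
theorem L237721 : sm gd N30556 = N28108 := ded_24_1 (flp_g L217773) L210147 L237715
theorem L237723 : sm gf N30556 = N29840 := ded_29_2 L231506 (flp_a L231676) L231680 L237715
theorem L237725 : sm gb N29671 = N30556 := ded_31_14 (flp_g L237715) (flp_f L231680) L231678 L231698 (flp_f L231704) L225516 L197493 (flp_f L169473) (flp_b L169451) L201239 L202464 (flp_b L232088) (flp_g L232092) (flp_f L230016)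
theorem L237727 : sm gf N27130 = N30557 := rfl
theorem L237729 : sm ga N30557 = N29840 := ded_11_1 (flp_f L237723) L237717 L237727
theorem L237731 : sm gc N30557 = N27131 := ded_20_1 (flp_f L210173) (flp_c L210171) L237727
theorem L237733 : sm gd N30557 = N29841 := ded_23_1 L231514 L229516 L237727
theorem L237735 : sm gg N30557 = N29859 := ded_29_3 L231676 L209937 L210169 L237727
theorem L237737 : sm gf N27132 = N30558 := rfl
theorem L237739 : sm ga N30558 = N27418 := ded_11_1 L224347 L224339 L237737
theorem L237741 : sm gc N30558 = N30334 := ded_20_1 L235777 L218968 L237737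
theorem L237743 : sm ge N30558 = N27160 := ded_25_1 (flp_f L210439) (flp_e L210183) L237737
theorem L237745 : sm gg N30558 = N30334 := ded_29_3 L235779 (flp_f L224349) (flp_g L210185) L237737
theorem L237747 : sm gb N30558 = N28456 := ded_16_1 (flp_f L220542) (flp_b L191493) (flp_f L179451) L210181 L237737
theorem L237749 : sm gb N27133 = N30559 := rfl
theorem L237751 : sm gd N30559 = N30448 := ded_14_2 L236725 L224733 L237749
theorem L237753 : sm gc N30559 = N27780 := ded_13_2 L215127 (flp_c L206032) L206036 L210187 L237749
theorem L237755 : sm gg N30559 = N27779 := ded_17_2 L215119 L214453 (flp_b L214445) (flp_g L210193) L237749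
theorem L237757 : sm gf N28931 = N30559 := ded_31_1 (flp_b L237749) L210193 L209351 L209353 L196313 (flp_f L185321) L153970 L106374 L105770 L105798 (flp_g L151566) (flp_f L165082) L196148 L224694
theorem L237759 : sm ga N30559 = N28931 := ded_30_3 L237757 L237753 L215127 (flp_a L207545) L207553 L202204 (flp_b L183383) (flp_a L151898) (flp_f L151896) L105039 L105045 L151914 L151920 L178207 (flp_b L179475) (flp_a L183227) (flp_f L183231) L210187 L237749
theorem L237761 : sm gf N27134 = N30560 := rfl
theorem L237763 : sm ga N30560 = N30560 := ded_11_1 (flp_f L237761) L210197 L237761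
theorem L237764 : sm gd N30560 = N27827 := ded_23_1 L215586 L215493 L237761
theorem L237766 : sm ge N30560 = N29722 := ded_25_1 (flp_f L237315) L237311 L237761
theorem L237768 : sm gb N30560 = N27826 := ded_16_1 (flp_f L215568) L185917 L179529 L210195 L237761
theorem L237770 : sm gb N27135 = N30561 := rfl
theorem L237772 : sm gd N30561 = N30440 := ded_14_2 L236643 L224629 L237770
theorem L237774 : sm gc N30561 = N27752 := ded_13_2 L214858 (flp_c L207215) L207219 L210198 L237770
theorem L237776 : sm gf N30561 = N27751 := ded_16_2 L214850 L214489 (flp_b L214481) (flp_f L210202) L237770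
theorem L237778 : sm gg N30561 = N28940 := ded_31_3 (flp_f L224772) (flp_b L196567) (flp_g L165712) L151568 (flp_b L105597) (flp_g L105575) (flp_f L106051) (flp_b L153698) L185119 (flp_f L195912) (flp_b L209335) L209333 (flp_f L210202) L237770
theorem L237780 : sm ga N30561 = N28940 := ded_30_3 (flp_f L224772) (flp_c L203325) (flp_b L203319) L170756 (flp_f L169121) (flp_c L169057) L169065 L151714 (flp_f L151706) (flp_c L104953) (flp_b L89654) (flp_a L39599) L39607 (flp_c L89668) L104979 L151728 (flp_f L179533) L210198 L237770
theorem L237782 : sm gg N27136 = N30562 := rfl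
theorem L237784 : sm ga N30562 = N30562 := ded_12_1 (flp_g L237782) L210208 L237782
theorem L237785 : sm gd N30562 = N27822 := ded_24_1 (flp_g L215545) L215539 L237782
theorem L237787 : sm ge N30562 = N29940 := ded_26_1 (flp_g L237358) L237352 L237782
theorem L237789 : sm gb N30562 = N27821 := ded_17_1 (flp_g L215518) L185699 (flp_g L179597) L210206 L237782
theorem L237791 : sm gb N27137 = N30563 := rfl
theorem L237793 : sm gd N30563 = N27138 := ded_14_2 (flp_b L210221) (flp_d L210215) L237791
theorem L237795 : sm ge N30563 = N28520 := ded_15_2 (flp_b L221074) (flp_e L210217) L237791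
theorem L237797 : sm gc N30563 = N30562 := ded_13_2 L237789 L215522 L207483 (flp_c L210213) L237791
theorem L237799 : sm gf N30563 = N30562 := ded_16_2 L237789 (flp_f L215528) L202715 L210219 L237791
theorem L237801 : sm gg N30563 = N28932 := ded_17_2 (flp_b L224698) (flp_g L196203) L179615 L210209 L237791
theorem L237803 : sm ga N30563 = N30563 := ded_7_1 (flp_b L237791) L210211 L208106 L205252 L172478 (flp_a L205252) (flp_b L208106) (flp_a L210211) L237791
theorem L237804 : sm gb N27139 = N30564 := rfl
theorem L237806 : sm gd N30564 = N27140 := ded_14_2 (flp_b L210242) (flp_d L210236) L237804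
theorem L237808 : sm ge N30564 = N28468 := ded_15_2 (flp_b L220660) (flp_e L210238) L237804
theorem L237810 : sm gc N30564 = N30560 := ded_13_2 L237768 L215572 L207768 (flp_c L210234) L237804
theorem L237812 : sm gf N30564 = N28941 := ded_16_2 (flp_b L224776) (flp_f L196628) L179643 L210230 L237804
theorem L237814 : sm gg N30564 = N30560 := ded_17_2 L237768 L215578 L201068 (flp_g L210240) L237804
theorem L237816 : sm ga N30564 = N30564 := ded_7_1 (flp_b L237804) L210232 L208303 L206571 L173957 (flp_a L206571) (flp_b L208303) (flp_a L210232) L237804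
theorem L237817 : sm gf N27148 = N30565 := rfl
theorem L237819 : sm ga N30565 = N28623 := ded_11_1 L221804 (flp_a L210321) L237817
theorem L237821 : sm gd N30565 = N27149 := ded_23_1 (flp_f L210329) L210319 L237817
theorem L237823 : sm ge N30565 = N28509 := ded_25_1 L220968 (flp_e L210327) L237817
theorem L237825 : sm gb N30565 = N29853 := ded_16_1 L231638 (flp_b L209719) (flp_f L193545) (flp_b L210323) L237817
theorem L237827 : sm gg N27157 = N30566 := rfl
theorem L237829 : sm ga N30566 = N28680 := ded_12_1 L222285 (flp_a L210409) L237827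
theorem L237831 : sm gd N30566 = N27158 := ded_24_1 (flp_g L210417) L210407 L237827
theorem L237833 : sm ge N30566 = N28455 := ded_26_1 L220538 (flp_e L210415) L237827
theorem L237835 : sm gb N30566 = N29613 := ded_17_1 L229458 (flp_b L209921) L193757 (flp_b L210411) L237827
theorem L237837 : sm gg N27162 = N30567 := rfl
theorem L237839 : sm ga N30567 = N28689 := ded_12_1 (flp_g L222369) (flp_a L210463) L237837
theorem L237841 : sm gc N30567 = N28422 := ded_21_1 (flp_g L220292) L210469 L237837
theorem L237843 : sm gd N30567 = N27163 := ded_24_1 (flp_g L210473) L210461 L237837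
theorem L237845 : sm ge N30567 = N28421 := ded_26_1 (flp_g L220288) (flp_e L210471) L237837
theorem L237847 : sm gc N27164 = N30568 := rfl
theorem L237849 : sm gf N30568 = N28916 := ded_20_2 (flp_c L224559) L210483 L237847
theorem L237851 : sm gg N30568 = N27166 := ded_21_2 (flp_c L210491) (flp_g L210481) L237847
theorem L237853 : sm gf N27166 = N30569 := rfl
theorem L237855 : sm ga N30569 = N27303 := ded_11_1 (flp_f L233353) L233347 L237853
theorem L237857 : sm gc N30569 = N27167 := ded_20_1 (flp_f L210495) L210491 L237853
theorem L237859 : sm gg N30569 = N30520 := ded_29_3 L237401 (flp_f L237849) L237851 L237853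
theorem L237861 : sm gb N30569 = N30569 := ded_16_1 (flp_f L237853) L210493 L197158 (flp_b L210493) L237853
theorem L237862 : sm gf N27169 = N30570 := rfl
theorem L237864 : sm ga N30570 = N28753 := ded_11_1 (flp_f L223183) (flp_a L210517) L237862
theorem L237866 : sm gc N30570 = N28476 := ded_20_1 (flp_f L220722) L210523 L237862
theorem L237868 : sm gd N30570 = N27170 := ded_23_1 (flp_f L210527) L210515 L237862
theorem L237870 : sm ge N30570 = N28475 := ded_25_1 (flp_f L220718) (flp_e L210525) L237862
theorem L237872 : sm gc N27171 = N30571 := rfl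
theorem L237874 : sm gf N30571 = N27173 := ded_20_2 (flp_c L210545) (flp_f L210535) L237872
theorem L237876 : sm gg N30571 = N28902 := ded_21_2 (flp_c L224437) (flp_g L210537) L237872
theorem L237878 : sm gg N27173 = N30572 := rfl
theorem L237880 : sm ga N30572 = N27278 := ded_12_1 (flp_g L234107) L234101 L237878
theorem L237882 : sm gc N30572 = N27174 := ded_21_1 (flp_g L210549) L210545 L237878
theorem L237884 : sm gf N30537 = N30572 := ded_29_0 (flp_g L237878) (flp_f L237874) L237876 (flp_a L237547)
theorem L237886 : sm gb N30572 = N30572 := ded_17_1 (flp_g L237878) L210547 L197170 (flp_b L210547) L237878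
theorem L237887 : sm gg N27178 = N30573 := rfl
theorem L237889 : sm ga N30573 = N27183 := ded_12_1 (flp_g L210629) (flp_a L210589) L237887
theorem L237891 : sm gc N30573 = N28270 := ded_21_1 (flp_g L219156) (flp_c L210593) L237887
theorem L237893 : sm gd N30573 = N27179 := ded_24_1 (flp_g L210595) L210587 L237887
theorem L237895 : sm gf N30567 = N30573 := ded_29_0 (flp_g L237887) L210591 L222369 (flp_a L237839)
theorem L237897 : sm gb N27179 = N30574 := rfl
theorem L237899 : sm gc N30574 = N29395 := ded_13_2 (flp_b L227901) L210609 (flp_b L210603) (flp_c L210599) L237897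
theorem L237901 : sm gg N27182 = N30575 := rfl
theorem L237903 : sm gc N30575 = N28423 := ded_21_1 (flp_g L220302) (flp_c L210625) L237901
theorem L237905 : sm ge N30575 = N27183 := ded_26_1 (flp_g L210629) L210621 L237901
theorem L237907 : sm gf N29842 = N30575 := ded_29_0 (flp_g L237901) L210627 L220288 (flp_a L231522)
theorem L237909 : sm gb N27183 = N30576 := rfl
theorem L237911 : sm gd N30576 = N27184 := ded_14_2 (flp_b L210633) (flp_d L210631) L237909
theorem L237913 : sm gg N30576 = N28962 := ded_17_2 (flp_b L224977) (flp_g L196967) (flp_b L180383) L210629 L237909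
theorem L237915 : sm ga N27184 = N30577 := rfl
theorem L237917 : sm gg N30577 = N28963 := ded_12_2 (flp_a L224981) (flp_g L210635) L237915
theorem L237919 : sm gf N27184 = N30578 := rfl
theorem L237921 : sm gc N30578 = N30075 := ded_20_1 L233521 L210921 L237919
theorem L237923 : sm ge N30578 = N30072 := ded_25_1 L236853 L236847 L237919
theorem L237925 : sm gg N30578 = N30070 := ded_29_3 L233479 (flp_f L224989) (flp_g L210635) L237919
theorem L237927 : sm gb N27185 = N30579 := rfl
theorem L237929 : sm gf N27190 = N30580 := rfl
theorem L237931 : sm ga N30580 = N27195 := ded_11_1 (flp_f L210725) (flp_a L210685) L237929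
theorem L237933 : sm gc N30580 = N28280 := ded_20_1 (flp_f L219258) (flp_c L210689) L237929
theorem L237935 : sm gd N30580 = N27191 := ded_23_1 (flp_f L210691) L210683 L237929
theorem L237937 : sm gg N30580 = N30570 := ded_29_3 L237864 (flp_f L223183) (flp_g L210687) L237929
theorem L237939 : sm gb N27191 = N30581 := rfl
theorem L237941 : sm gc N30581 = N29533 := ded_13_2 (flp_b L228832) L210705 (flp_b L210699) (flp_c L210695) L237939
theorem L237943 : sm gf N27194 = N30582 := rfl
theorem L237945 : sm gc N30582 = N28479 := ded_20_1 (flp_f L220746) (flp_c L210721) L237943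
theorem L237947 : sm ge N30582 = N27195 := ded_25_1 (flp_f L210725) L210717 L237943
theorem L237949 : sm gg N30582 = N29594 := ded_29_3 L229276 (flp_f L220718) (flp_g L210723) L237943
theorem L237951 : sm gb N27195 = N30583 := rfl
theorem L237953 : sm gd N30583 = N27196 := ded_14_2 (flp_b L210729) (flp_d L210727) L237951
theorem L237955 : sm gf N30583 = N28977 := ded_16_2 (flp_b L225085) (flp_f L197045) (flp_b L180415) L210725 L237951
theorem L237957 : sm ga N27196 = N30584 := rfl
theorem L237959 : sm gf N30584 = N28978 := ded_11_2 (flp_a L225089) (flp_f L210731) L237957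
theorem L237961 : sm gg N27196 = N30585 := rfl
theorem L237963 : sm gc N30585 = N30168 := ded_21_1 L234267 L210837 L237961
theorem L237965 : sm ge N30585 = N30165 := ded_26_1 L236937 L236931 L237961
theorem L237967 : sm gf N30164 = N30585 := ded_29_0 (flp_g L237961) L210731 L225097 (flp_a L234233)
theorem L237969 : sm gb N27197 = N30586 := rfl
theorem L237971 : sm gg N27198 = N30587 := rfl
theorem L237973 : sm ga N30587 = N28952 := ded_12_1 (flp_g L224881) (flp_a L210743) L237971
theorem L237975 : sm gc N30587 = N29867 := ded_21_1 L231760 L224951 L237971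
theorem L237977 : sm gd N30587 = N27199 := ded_24_1 (flp_g L210749) L210741 L237971
theorem L237979 : sm ge N30587 = N28647 := ded_26_1 L222006 (flp_e L210747) L237971
theorem L237981 : sm gf N27200 = N30588 := rfl
theorem L237983 : sm ga N30588 = N28954 := ded_11_1 (flp_f L224901) (flp_a L210759) L237981
theorem L237985 : sm gc N30588 = N29631 := ded_20_1 L229620 L225059 L237981
theorem L237987 : sm gd N30588 = N27201 := ded_23_1 (flp_f L210765) L210757 L237981
theorem L237989 : sm ge N30588 = N28590 := ded_25_1 L221568 (flp_e L210763) L237981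
theorem L237991 : sm gb N27203 = N30589 := rfl
theorem L237993 : sm gg N30589 = N29078 := ded_17_2 (flp_b L225781) (flp_g L197679) (flp_b L180569) L210787 L237991
theorem L237995 : sm gc N27205 = N30590 := rfl
theorem L237997 : sm gb N27206 = N30591 := rfl
theorem L237999 : sm ge N30591 = N28887 := ded_15_2 (flp_b L236983) L236981 L237997
theorem L238001 : sm gf N30591 = N29439 := ded_16_2 (flp_b L228156) (flp_f L199365) L198813 L210807 L237997
theorem L238003 : sm gb N27207 = N30592 := rfl
theorem L238005 : sm gc N30592 = N27209 := ded_13_2 (flp_b L210821) (flp_c L180595) L180591 L210811 L238003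
theorem L238007 : sm gd N27207 = N30593 := rfl
theorem L238009 : sm ga N30593 = N28804 := ded_9_1 (flp_d L227401) L227397 L238007
theorem L238011 : sm gf N30593 = N28787 := ded_23_2 (flp_d L227383) L227377 L238007
theorem L238013 : sm ge N28800 = N30593 := ded_25_3 L238011 L223443 L223525
theorem L238015 : sm gg N27207 = N30594 := rfl
theorem L238017 : sm ga N30594 = N29236 := ded_12_1 L227403 L227397 L238015
theorem L238019 : sm gc N30594 = N27208 := ded_21_1 (flp_g L210813) L210811 L238015
theorem L238021 : sm gf N29319 = N30594 := ded_29_0 (flp_g L238015) (flp_f L227377) L227379 (flp_a L227352)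
theorem L238023 : sm ga N27209 = N30595 := rfl
theorem L238025 : sm gd N30595 = N28569 := ded_9_2 L221400 (flp_d L210823) L238023
theorem L238027 : sm gg N29441 = N30595 := ded_29_3 (flp_a L238023) L228232 (flp_g L228228) (flp_f L228172)
theorem L238029 : sm gg N27209 = N30596 := rfl
theorem L238031 : sm ga N30596 = N29441 := ded_12_1 L238027 (flp_a L238023) L238029
theorem L238033 : sm gd N30596 = N28568 := ded_24_1 L221396 (flp_d L210823) L238029
theorem L238035 : sm gf N29447 = N30596 := ded_29_0 (flp_g L238029) L228232 (flp_g L228228) (flp_a L228212)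
theorem L238037 : sm gb N27210 = N30597 := rfl
theorem L238039 : sm gd N30597 = N28570 := ded_14_2 (flp_b L221406) (flp_d L210831) L238037
theorem L238041 : sm ga N27211 = N30598 := rfl
theorem L238043 : sm gc N30598 = N30584 := ded_8_2 (flp_a L237957) (flp_c L210837) L238041
theorem L238045 : sm ge N30598 = N30172 := ded_10_2 L234301 L234293 L238041
theorem L238047 : sm gf N30598 = N30169 := ded_11_2 L234271 L225093 L238041
theorem L238049 : sm gb N27212 = N30599 := rfl
theorem L238051 : sm gd N30599 = N29433 := ded_14_2 (flp_b L228123) (flp_d L210845) L238049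
theorem L238053 : sm gg N30599 = N29459 := ded_17_2 L234287 L234267 (flp_b L210835) L210839 L238049
theorem L238055 : sm ga N30599 = N29452 := ded_30_3 L228240 L221410 (flp_b L220062) (flp_a L198777) L198781 L187479 (flp_b L166756) L166748 (flp_f L180953) L180957 (flp_b L144587) L103989 L116461 L116465 L144337 L180577 L180627 (flp_c L210843) L238049
theorem L238057 : sm gc N27213 = N30600 := rfl
theorem L238059 : sm ga N30600 = N30493 := ded_8_1 L237177 (flp_a L210855) L238057
theorem L238061 : sm gf N30600 = N29030 := ded_20_2 L225397 (flp_f L211555) L238057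
theorem L238063 : sm gg N30600 = N30492 := ded_21_2 (flp_c L237165) (flp_g L210853) L238057
theorem L238065 : sm gb N27215 = N30601 := rfl
theorem L238067 : sm gf N30601 = N29132 := ded_16_2 (flp_b L226069) (flp_f L197873) (flp_b L180637) L210871 L238065
theorem L238069 : sm gc N27217 = N30602 := rfl
theorem L238071 : sm gb N27218 = N30603 := rfl
theorem L238073 : sm ge N30603 = N28894 := ded_15_2 (flp_b L237053) L237051 L238071
theorem L238075 : sm gg N30603 = N29296 := ded_17_2 (flp_b L227206) (flp_g L198865) L198867 L210891 L238071
theorem L238077 : sm gb N27219 = N30604 := rfl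
theorem L238079 : sm gc N30604 = N27221 := ded_13_2 (flp_b L210905) (flp_c L180663) L180659 L210895 L238077
theorem L238081 : sm gd N27219 = N30605 := rfl
theorem L238083 : sm ga N30605 = N28746 := ded_9_1 (flp_d L228341) L228337 L238081
theorem L238085 : sm gg N30605 = N28723 := ded_24_2 L228323 L228319 L238081
theorem L238087 : sm ge N28738 = N30605 := ded_26_3 L238085 L223016 L223094
theorem L238089 : sm gf N27219 = N30606 := rfl
theorem L238091 : sm ga N30606 = N29180 := ded_11_1 (flp_f L228343) L228337 L238089
theorem L238093 : sm gc N30606 = N27220 := ded_20_1 (flp_f L210897) L210895 L238089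
theorem L238095 : sm gg N30606 = N29461 := ded_29_3 L228294 (flp_f L228317) L228319 L238089
theorem L238097 : sm ga N27221 = N30607 := rfl
theorem L238099 : sm gd N30607 = N28544 := ded_9_2 L221231 (flp_d L210907) L238097
theorem L238101 : sm gf N30607 = N29300 := ded_29_0 L227244 L227276 (flp_g L227280) L238097
theorem L238103 : sm gc N29300 = N29307 := ded_30_5 L227274 (flp_a L227294) L227726 L227722 (flp_b L226065) (flp_a L197875) (flp_f L197873) L167216 L115910 (flp_a L103873) L116657 L116653 L144359 L180645 L180649 L180663 L210905 L238097 L238101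
theorem L238105 : sm ge N29306 = N29300 := ded_19_0 L238103 (flp_e L227272) L227270
theorem L238107 : sm gg N29307 = N29306 := ded_21_2 (flp_c L227270) (flp_g L227244) L238103
theorem L238109 : sm gf N27221 = N30608 := rfl
theorem L238111 : sm ga N30608 = N29300 := ded_11_1 (flp_f L238101) (flp_a L238097) L238109
theorem L238113 : sm gd N30608 = N28543 := ded_23_1 L221225 (flp_d L210907) L238109
theorem L238115 : sm gg N30608 = N29304 := ded_29_3 L227260 L227276 (flp_g L227280) L238109
theorem L238117 : sm gb N27222 = N30609 := rfl
theorem L238119 : sm gd N30609 = N28545 := ded_14_2 (flp_b L221237) (flp_d L210915) L238117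
theorem L238121 : sm ga N27223 = N30610 := rfl
theorem L238123 : sm gc N30610 = N30577 := ded_8_2 (flp_a L237915) (flp_c L210921) L238121
theorem L238125 : sm ge N30610 = N30076 := ded_10_2 (flp_a L233543) L233547 L238121
theorem L238127 : sm gg N30610 = N30074 := ded_12_2 L233511 L224985 L238121
theorem L238129 : sm gb N27224 = N30611 := rfl
theorem L238131 : sm gd N30611 = N29573 := ded_14_2 (flp_b L229098) (flp_d L210929) L238129
theorem L238133 : sm gf N30611 = N29317 := ded_16_2 L233539 L233521 (flp_b L210919) L210923 L238129
theorem L238135 : sm ga N30611 = N29309 := ded_30_3 L227288 L198879 (flp_b L197767) (flp_a L167194) (flp_f L167198) (flp_c L167140) L167136 (flp_a L190691) L190687 L190693 L190697 (flp_a L208983) L236997 L237001 L208999 L180671 L180689 (flp_c L210927) L238129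
theorem L238137 : sm gc N27225 = N30612 := rfl
theorem L238139 : sm ga N30612 = N30497 := ded_8_1 L237211 (flp_a L210939) L238137
theorem L238141 : sm gf N30612 = N30496 := ded_20_2 (flp_c L237199) (flp_f L210937) L238137
theorem L238143 : sm gg N30612 = N29019 := ded_21_2 L225343 L211344 L238137
theorem L238145 : sm gc N27226 = N30613 := rfl
theorem L238147 : sm ge N30613 = N27228 := ded_19_2 (flp_c L210951) (flp_e L210945) L238145
theorem L238149 : sm gg N30613 = N30548 := ded_21_2 L237645 L212825 L238145
theorem L238151 : sm gb N30613 = N27504 := ded_13_1 L212993 L182305 (flp_c L180717) L210941 L238145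
theorem L238153 : sm gf N27226 = N30614 := rfl
theorem L238155 : sm gd N30614 = N27710 := ded_23_1 (flp_f L214443) (flp_d L210943) L238153
theorem L238157 : sm ge N30614 = N27229 := ded_25_1 (flp_f L210953) (flp_e L210945) L238153
theorem L238159 : sm gb N30614 = N30103 := ded_16_1 (flp_f L233755) (flp_b L211749) L181293 L210941 L238153
theorem L238161 : sm gg N28586 = N30614 := ded_31_0 (flp_f L238153) (flp_b L210941) (flp_g L180715) L144411 L104121 L104359 L145346 L182243 (flp_g L200053) L229178 L229184 (flp_g L221548) (flp_f L221542) L221528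
theorem L238163 : sm gf N27227 = N30615 := rfl
theorem L238165 : sm ga N30615 = N27229 := ded_11_1 (flp_f L210953) L210947 L238163
theorem L238167 : sm gd N30615 = N27231 := ded_23_1 (flp_f L210965) (flp_d L210949) L238163
theorem L238169 : sm gg N30507 = N30615 := ded_29_1 (flp_f L238163) (flp_g L237283) (flp_a L237279) L237289
theorem L238171 : sm gf N27228 = N30616 := rfl
theorem L238173 : sm gc N30616 = N27229 := ded_20_1 (flp_f L210953) L210951 L238171
theorem L238175 : sm gg N27229 = N30617 := rfl
theorem L238177 : sm ga N30617 = N30507 := ded_12_1 L238169 L238165 L238175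
theorem L238179 : sm gd N30617 = N27233 := ded_24_1 (flp_g L210981) (flp_d L210955) L238175
theorem L238181 : sm ge N30617 = N28586 := ded_26_1 L238161 L238157 L238175
theorem L238183 : sm gf N30505 = N30617 := ded_29_0 (flp_g L238175) (flp_f L210953) (flp_g L209427) L237279
theorem L238185 : sm gb N30617 = N28584 := ded_17_1 L221514 L216627 L216603 L211765 L238175
theorem L238187 : sm gd N27234 = N30618 := rfl
theorem L238189 : sm ga N30618 = N30408 := ded_9_1 L236382 (flp_a L210993) L238187
theorem L238191 : sm gb N27235 = N30619 := rfl
theorem L238193 : sm ge N30619 = N27712 := ded_15_2 (flp_b L214455) (flp_e L211001) L238191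
theorem L238195 : sm gf N30619 = N27532 := ded_16_2 (flp_b L213177) (flp_f L200317) (flp_b L184896) (flp_f L211003) L238191
theorem L238197 : sm gg N30619 = N29240 := ded_17_2 (flp_b L226768) (flp_g L198440) (flp_b L198420) (flp_g L211005) L238191
theorem L238199 : sm ga N30619 = N30367 := ded_7_1 (flp_b L236079) (flp_a L207351) (flp_b L224445) L224443 (flp_b L224455) L224453 (flp_b L211007) (flp_a L210999) L238191
theorem L238201 : sm gd N27235 = N30620 := rfl
theorem L238203 : sm ga N30620 = N27237 := ded_9_1 (flp_d L211015) (flp_a L210999) L238201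
theorem L238205 : sm gf N30620 = N27610 := ded_23_2 L213699 (flp_f L211003) L238201
theorem L238207 : sm gg N30620 = N29237 := ded_24_2 (flp_d L226745) (flp_g L211005) L238201
theorem L238209 : sm ge N30620 = N27611 := ded_22_2 L213705 L182817 (flp_d L183247) (flp_e L211001) L238201
theorem L238211 : sm gd N27236 = N30621 := rfl
theorem L238213 : sm gb N30621 = N27237 := ded_14_1 (flp_d L211015) L211007 L238211
theorem L238215 : sm gf N30621 = N27600 := ded_23_2 L213643 (flp_f L211013) L238211
theorem L238217 : sm ge N30621 = N27601 := ded_22_2 L213647 L182779 (flp_d L183251) (flp_e L211009) L238211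
theorem L238219 : sm gc N27237 = N30622 := rfl
theorem L238221 : sm ge N30622 = N27617 := ded_19_2 L213739 (flp_e L211019) L238219
theorem L238223 : sm gf N30622 = N27616 := ded_20_2 L213735 (flp_f L211017) L238219
theorem L238225 : sm gg N27237 = N30623 := rfl
theorem L238227 : sm ga N30623 = N29237 := ded_12_1 (flp_g L238207) L238203 L238225
theorem L238229 : sm gd N30623 = N27238 := ded_24_1 (flp_g L211021) L211015 L238225
theorem L238231 : sm ge N30623 = N27619 := ded_26_1 (flp_g L213745) (flp_e L211019) L238225
theorem L238233 : sm gf N30503 = N30623 := ded_29_0 (flp_g L238225) L211017 (flp_g L209305) (flp_a L237267)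
theorem L238235 : sm gb N30046 = N30623 := ded_14_3 L238229 L213087 (flp_d L233283)
theorem L238237 : sm gc N27241 = N30624 := rfl
theorem L238239 : sm ge N30624 = N27243 := ded_19_2 (flp_c L211059) (flp_e L211053) L238237
theorem L238241 : sm gf N30624 = N30531 := ded_20_2 L237499 L213327 L238237
theorem L238243 : sm gb N30624 = N27580 := ded_13_1 L213495 L182667 (flp_c L180825) L211049 L238237
theorem L238245 : sm gg N27241 = N30625 := rfl
theorem L238247 : sm gd N30625 = N27714 := ded_24_1 (flp_g L214479) (flp_d L211051) L238245
theorem L238249 : sm ge N30625 = N27244 := ded_26_1 (flp_g L211061) (flp_e L211053) L238245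
theorem L238251 : sm gb N30625 = N30195 := ded_17_1 (flp_g L234505) (flp_b L212405) (flp_g L181811) L211049 L238245
theorem L238253 : sm gf N30625 = N28644 := ded_31_1 (flp_b L221974) L221990 (flp_f L221996) (flp_b L231394) (flp_g L231388) L201750 (flp_b L182605) (flp_g L145568) (flp_f L104464) (flp_b L104242) (flp_g L144503) L180823 L211049 L238245
theorem L238255 : sm gg N27242 = N30626 := rfl
theorem L238257 : sm ga N30626 = N27244 := ded_12_1 (flp_g L211061) L211055 L238255
theorem L238259 : sm gd N30626 = N27246 := ded_24_1 (flp_g L211073) (flp_d L211057) L238255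
theorem L238261 : sm gf N30626 = N30512 := ded_29_2 (flp_g L237330) L237320 L237324 L238255
theorem L238263 : sm gg N27243 = N30627 := rfl
theorem L238265 : sm gc N30627 = N27244 := ded_21_1 (flp_g L211061) L211059 L238263
theorem L238267 : sm gb N30616 = N30627 := ded_13_5 L238265 (flp_b L212421) (flp_c L216605) L211765 (flp_c L238173)
theorem L238269 : sm gf N27244 = N30628 := rfl
theorem L238271 : sm ga N30628 = N30512 := ded_11_1 (flp_f L238261) L238257 L238269
theorem L238273 : sm gd N30628 = N27248 := ded_23_1 (flp_f L211089) (flp_d L211063) L238269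
theorem L238275 : sm ge N30628 = N28644 := ded_25_1 (flp_f L238253) L238249 L238269
theorem L238277 : sm gg N30628 = N30510 := ded_29_3 (flp_a L237320) L209499 L211061 L238269
theorem L238279 : sm gb N30628 = N28643 := ded_16_1 L221972 L217200 (flp_f L216607) L212421 L238269
theorem L238281 : sm gd N27249 = N30629 := rfl
theorem L238283 : sm ga N30629 = N30388 := ded_9_1 L236243 (flp_a L211101) L238281
theorem L238285 : sm gb N27250 = N30630 := rfl
theorem L238287 : sm ge N30630 = N27716 := ded_15_2 (flp_b L214491) (flp_e L211109) L238285
theorem L238289 : sm gc N30630 = N30619 := ded_13_2 (flp_b L238191) (flp_c L210997) (flp_b L180863) L211105 L238285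
theorem L238291 : sm gf N30630 = N29185 := ded_16_2 (flp_b L226371) (flp_f L198083) (flp_b L198063) (flp_f L211111) L238285
theorem L238293 : sm gg N30630 = N27607 := ded_17_2 (flp_b L213683) (flp_g L202000) (flp_b L184504) (flp_g L211113) L238285
theorem L238295 : sm ga N30630 = N30330 := ded_7_1 (flp_b L235733) L206404 (flp_b L224567) L224565 (flp_b L224499) L224497 (flp_b L211115) (flp_a L211107) L238285
theorem L238297 : sm gd N27250 = N30631 := rfl
theorem L238299 : sm ga N30631 = N27252 := ded_9_1 (flp_d L211123) (flp_a L211107) L238297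
theorem L238301 : sm gf N30631 = N29181 := ded_23_2 (flp_d L226347) (flp_f L211111) L238297
theorem L238303 : sm gg N30631 = N27534 := ded_24_2 L213189 (flp_g L211113) L238297
theorem L238305 : sm ge N30631 = N27536 := ded_22_2 L213201 L182439 (flp_d L183329) (flp_e L211109) L238297
theorem L238307 : sm gd N27251 = N30632 := rfl
theorem L238309 : sm gb N30632 = N27252 := ded_14_1 (flp_d L211123) L211115 L238307
theorem L238311 : sm gg N30632 = N27524 := ded_24_2 L213135 (flp_g L211121) L238307
theorem L238313 : sm ge N30632 = N27525 := ded_22_2 L213139 L182397 (flp_d L183333) (flp_e L211117) L238307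
theorem L238315 : sm gc N27252 = N30633 := rfl
theorem L238317 : sm ge N30633 = N27542 := ded_19_2 L213233 (flp_e L211127) L238315
theorem L238319 : sm gg N30633 = N27540 := ded_21_2 L213225 (flp_g L211125) L238315
theorem L238321 : sm gf N27252 = N30634 := rfl
theorem L238323 : sm ga N30634 = N29181 := ded_11_1 (flp_f L238301) L238299 L238321
theorem L238325 : sm gd N30634 = N27253 := ded_23_1 (flp_f L211129) L211123 L238321
theorem L238327 : sm ge N30634 = N27544 := ded_25_1 (flp_f L213241) (flp_e L211127) L238321
theorem L238329 : sm gg N30634 = N30500 := ded_29_3 L237241 L209282 (flp_g L211125) L238321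
theorem L238331 : sm gb N30141 = N30634 := ded_14_3 L238325 L213591 (flp_d L234045)
theorem L238333 : sm gc N27257 = N30635 := rfl
theorem L238335 : sm ga N30635 = N27258 := ded_8_1 (flp_c L211181) L211169 L238333
theorem L238337 : sm ge N30635 = N30606 := ded_19_2 L238093 (flp_e L211173) L238333
theorem L238339 : sm gf N30635 = N30481 := ded_20_2 (flp_c L237055) (flp_f L211177) L238333
theorem L238341 : sm gg N30635 = N27260 := ded_21_2 (flp_c L211197) (flp_g L211175) L238333
theorem L238343 : sm gd N27258 = N30636 := rfl
theorem L238345 : sm gb N30636 = N29300 := ded_14_1 (flp_d L227242) (flp_b L211185) L238343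
theorem L238347 : sm gg N30636 = N27261 := ded_24_2 (flp_d L211202) (flp_g L211183) L238343
theorem L238349 : sm gf N27258 = N30637 := rfl
theorem L238351 : sm ga N30637 = N30481 := ded_11_1 (flp_f L238339) L238335 L238349
theorem L238353 : sm gc N30637 = N27259 := ded_20_1 (flp_f L211187) L211181 L238349
theorem L238355 : sm ge N30637 = N29465 := ded_25_1 L228343 L226341 L238349
theorem L238357 : sm gg N30637 = N29462 := ded_29_3 L228303 (flp_f L211206) (flp_g L211183) L238349
theorem L238359 : sm gd N27260 = N30638 := rfl
theorem L238361 : sm ga N30638 = N27261 := ded_9_1 (flp_d L211202) (flp_a L211199) L238359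
theorem L238363 : sm gb N30638 = N30638 := ded_14_1 (flp_d L238359) L211201 L238359
theorem L238364 : sm gc N27261 = N30639 := rfl
theorem L238366 : sm ge N27261 = N30640 := rfl
theorem L238368 : sm gb N30640 = N29294 := ded_15_1 (flp_e L227196) (flp_b L211204) L238366
theorem L238370 : sm gd N30640 = N28737 := ded_22_1 L237163 (flp_d L237157) L209213 L211202 L238366
theorem L238372 : sm gf N28736 = N30640 := ded_23_0 L238370 (flp_f L223092) L223088
theorem L238374 : sm gf N27261 = N30641 := rfl
theorem L238376 : sm gd N30641 = N27262 := ded_23_1 (flp_f L211206) L211202 L238374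
theorem L238378 : sm ge N30641 = N28736 := ded_25_1 L238372 (flp_e L238366) L238374
theorem L238380 : sm gb N28739 = N30641 := ded_15_3 L238378 L223090 L223096
theorem L238382 : sm gb N27262 = N30642 := rfl
theorem L238384 : sm gd N30642 = N28739 := ded_14_2 L238380 L238376 L238382
theorem L238386 : sm ge N30642 = N28724 := ded_15_2 (flp_b L228321) L228315 L238382
theorem L238388 : sm gc N30642 = N30591 := ded_13_2 (flp_b L237997) L210809 (flp_b L180945) (flp_c L211208) L238382
theorem L238390 : sm gf N30642 = N29296 := ded_16_2 (flp_b L227206) (flp_f L198799) (flp_b L180939) L211206 L238382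
theorem L238392 : sm ga N28726 = N30642 := ded_9_3 L238384 L223098 (flp_d L223028)
theorem L238394 : sm gc N27263 = N30643 := rfl
theorem L238396 : sm ga N30643 = N27264 := ded_8_1 (flp_c L211220) L211210 L238394
theorem L238398 : sm ge N30643 = N30569 := ded_19_2 L237857 (flp_e L211214) L238394
theorem L238400 : sm gf N30643 = N30453 := ded_20_2 (flp_c L236769) L211218 L238394
theorem L238402 : sm gb N30643 = N30643 := ded_13_1 (flp_c L238394) L211216 L199465 (flp_b L211216) L238394
theorem L238403 : sm gd N27264 = N30644 := rfl
theorem L238405 : sm gb N30644 = N29518 := ded_14_1 (flp_d L228725) (flp_b L211222) L238403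
theorem L238407 : sm gf N27264 = N30645 := rfl
theorem L238409 : sm ga N30645 = N30453 := ded_11_1 (flp_f L238400) L238396 L238407
theorem L238411 : sm gc N30645 = N27265 := ded_20_1 (flp_f L211224) L211220 L238407
theorem L238413 : sm ge N30645 = N30053 := ded_25_1 L233353 L211535 L238407
theorem L238415 : sm gb N30645 = N30057 := ded_16_1 (flp_f L233373) L224987 (flp_f L199760) (flp_b L211222) L238407
theorem L238417 : sm gg N30602 = N30645 := ded_21_0 L238411 (flp_g L211232) L238069
theorem L238419 : sm gg N27264 = N30646 := rfl
theorem L238421 : sm gc N30646 = N27266 := ded_21_1 (flp_g L211234) L211220 L238419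
theorem L238423 : sm ge N30646 = N28916 := ded_26_1 L224561 L211535 L238419
theorem L238425 : sm gb N30646 = N29534 := ded_17_1 L228844 L199855 (flp_g L199762) (flp_b L211222) L238419
theorem L238427 : sm gc N27267 = N30647 := rfl
theorem L238429 : sm ga N30647 = N27268 := ded_8_1 (flp_c L211250) L211242 L238427
theorem L238431 : sm ge N30647 = N29029 := ded_19_2 L225393 L211543 L238427
theorem L238433 : sm gf N30647 = N27270 := ded_20_2 (flp_c L211264) (flp_f L211246) L238427
theorem L238435 : sm gb N27270 = N30648 := rfl
theorem L238437 : sm gd N27270 = N30649 := rfl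
theorem L238439 : sm ga N30649 = N27272 := ded_9_1 (flp_d L211280) (flp_a L211266) L238437
theorem L238441 : sm gc N30136 = N30649 := ded_28_0 (flp_d L238437) (flp_c L211264) L180973 L181527 L212161 (flp_c L234801) L234803 L234007
theorem L238443 : sm gg N28658 = N30649 := ded_29_3 L238439 L233929 (flp_g L233921) (flp_f L222086)
theorem L238445 : sm gg N27270 = N30650 := rfl
theorem L238447 : sm ga N30650 = N27273 := ded_12_1 (flp_g L211282) (flp_a L211266) L238445
theorem L238449 : sm gc N30650 = N27271 := ded_21_1 (flp_g L211268) L211264 L238445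
theorem L238451 : sm gd N30650 = N28658 := ded_24_1 L238443 (flp_d L238437) L238445
theorem L238453 : sm ge N30650 = N30600 := ded_26_1 L238063 L237169 L238445
theorem L238455 : sm gf N30650 = N30122 := ded_29_2 (flp_g L233913) (flp_a L238429) L238433 L238445
theorem L238457 : sm gb N28650 = N30650 := ded_14_3 L238451 (flp_b L222084) (flp_d L222032)
theorem L238459 : sm ge N27272 = N30651 := rfl
theorem L238461 : sm gg N27272 = N30652 := rfl
theorem L238463 : sm ga N30652 = N28658 := ded_12_1 L238443 L238439 L238461
theorem L238465 : sm gc N30652 = N30132 := ded_21_1 (flp_g L234011) L234009 L238461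
theorem L238467 : sm gd N30652 = N27273 := ded_24_1 (flp_g L211282) L211280 L238461
theorem L238469 : sm gf N30121 = N30652 := ded_29_0 (flp_g L238461) L233929 (flp_g L233921) L233901
theorem L238471 : sm gb N27273 = N30653 := rfl
theorem L238473 : sm gc N30653 = N30589 := ded_13_2 (flp_b L237991) L210791 (flp_b L180981) (flp_c L211284) L238471
theorem L238475 : sm gf N27273 = N30654 := rfl
theorem L238477 : sm ga N30654 = N30122 := ded_11_1 (flp_f L238455) L238447 L238475
theorem L238479 : sm gc N30654 = N27274 := ded_20_1 (flp_f L211286) (flp_c L211284) L238475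
theorem L238481 : sm gd N30654 = N30121 := ded_23_1 L238469 L238467 L238475
theorem L238483 : sm gg N30654 = N30647 := ded_29_3 L238429 L211254 L211282 L238475
theorem L238485 : sm gb N30654 = N29015 := ded_31_2 L225319 L198019 L220152 (flp_g L220154) L225419 L225427 L229668 (flp_f L229670) L219748 L197011 (flp_f L198781) L198783 L211282 L238475
theorem L238487 : sm gf N30653 = N29036 := ded_16_2 (flp_b L225417) (flp_f L225317) (flp_b L238485) (flp_f L238475) L238471
theorem L238489 : sm gc N27282 = N30655 := rfl
theorem L238491 : sm ga N30655 = N27283 := ded_8_1 (flp_c L211372) L211360 L238489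
theorem L238493 : sm ge N30655 = N30594 := ded_19_2 L238019 (flp_e L211364) L238489
theorem L238495 : sm gf N30655 = N27285 := ded_20_2 (flp_c L211390) (flp_f L211366) L238489
theorem L238497 : sm gg N30655 = N30474 := ded_21_2 (flp_c L236985) L211368 L238489
theorem L238499 : sm gd N27283 = N30656 := rfl
theorem L238501 : sm gb N30656 = N29441 := ded_14_1 (flp_d L228170) (flp_b L211376) L238499
theorem L238503 : sm gf N30656 = N27286 := ded_23_2 (flp_d L211395) (flp_f L211374) L238499
theorem L238505 : sm gg N27283 = N30657 := rfl
theorem L238507 : sm ga N30657 = N30474 := ded_12_1 (flp_g L238497) L238491 L238505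
theorem L238509 : sm gc N30657 = N27284 := ded_21_1 (flp_g L211378) L211372 L238505
theorem L238511 : sm ge N30657 = N29323 := ded_26_1 (flp_g L227403) L226739 L238505
theorem L238513 : sm gf N29320 = N30657 := ded_29_0 (flp_g L238505) L211374 L211399 (flp_a L227363)
theorem L238515 : sm gd N27285 = N30658 := rfl
theorem L238517 : sm ga N30658 = N27286 := ded_9_1 (flp_d L211395) (flp_a L211392) L238515
theorem L238519 : sm gb N30658 = N30658 := ded_14_1 (flp_d L238515) L211394 L238515
theorem L238520 : sm gc N27286 = N30659 := rfl
theorem L238522 : sm ge N27286 = N30660 := rfl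
theorem L238524 : sm gb N30660 = N29437 := ded_15_1 (flp_e L228144) (flp_b L211397) L238522
theorem L238526 : sm gd N30660 = N28801 := ded_22_1 L237197 (flp_d L237191) L209243 L211395 L238522
theorem L238528 : sm gg N28740 = N30660 := ded_24_0 L238526 (flp_g L223527) (flp_d L223104)
theorem L238530 : sm gg N27286 = N30661 := rfl
theorem L238532 : sm gd N30661 = N27287 := ded_24_1 (flp_g L211399) L211395 L238530
theorem L238534 : sm ge N30661 = N28740 := ded_26_1 L238528 (flp_e L238522) L238530
theorem L238536 : sm gb N28741 = N30661 := ded_15_3 L238534 (flp_b L223102) L223106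
theorem L238538 : sm gb N27287 = N30662 := rfl
theorem L238540 : sm gd N30662 = N28741 := ded_14_2 L238536 L238532 L238538
theorem L238542 : sm ge N30662 = N28788 := ded_15_2 L227381 L227375 L238538
theorem L238544 : sm gc N30662 = N30603 := ded_13_2 (flp_b L238071) L210893 (flp_b L181041) (flp_c L211401) L238538
theorem L238546 : sm gg N30662 = N29439 := ded_17_2 (flp_b L228156) (flp_g L199357) (flp_b L181035) L211399 L238538
theorem L238548 : sm ga N28790 = N30662 := ded_9_3 L238540 L223108 (flp_d L223459)
theorem L238550 : sm gc N27288 = N30663 := rfl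
theorem L238552 : sm ga N30663 = N27289 := ded_8_1 (flp_c L211413) L211403 L238550
theorem L238554 : sm ge N30663 = N30572 := ded_19_2 L237882 (flp_e L211407) L238550
theorem L238556 : sm gg N30663 = N30454 := ded_21_2 (flp_c L236775) L211411 L238550
theorem L238558 : sm gb N30663 = N30663 := ded_13_1 (flp_c L238550) L211409 L198913 (flp_b L211409) L238550
theorem L238559 : sm gd N27289 = N30664 := rfl
theorem L238561 : sm gb N30664 = N29378 := ded_14_1 (flp_d L227802) (flp_b L211417) L238559
theorem L238563 : sm gf N27289 = N30665 := rfl
theorem L238565 : sm gc N30665 = N27290 := ded_20_1 (flp_f L211419) L211413 L238563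
theorem L238567 : sm ge N30665 = N28902 := ded_25_1 L224439 (flp_e L211415) L238563
theorem L238569 : sm gb N30665 = N29393 := ded_16_1 L227897 L199225 (flp_f L199162) (flp_b L211417) L238563
theorem L238571 : sm gg N27289 = N30666 := rfl
theorem L238573 : sm ga N30666 = N30454 := ded_12_1 (flp_g L238556) L238552 L238571
theorem L238575 : sm gc N30666 = N27291 := ded_21_1 (flp_g L211427) L211413 L238571
theorem L238577 : sm ge N30666 = N30147 := ded_26_1 L234107 (flp_e L211415) L238571
theorem L238579 : sm gb N30666 = N30151 := ded_17_1 (flp_g L234127) L225095 (flp_g L199164) (flp_b L211417) L238571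
theorem L238581 : sm gf N30590 = N30666 := ded_20_0 L238575 (flp_f L211435) L237995
theorem L238583 : sm gc N27292 = N30667 := rfl
theorem L238585 : sm ga N30667 = N27293 := ded_8_1 (flp_c L211447) L211437 L238583
theorem L238587 : sm ge N30667 = N29018 := ded_19_2 L225339 (flp_e L211441) L238583
theorem L238589 : sm gg N30667 = N27295 := ded_21_2 (flp_c L211463) (flp_g L211443) L238583
theorem L238591 : sm gb N27295 = N30668 := rfl
theorem L238593 : sm gd N27295 = N30669 := rfl
theorem L238595 : sm ga N30669 = N27297 := ded_9_1 (flp_d L211479) (flp_a L211465) L238593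
theorem L238597 : sm gc N30043 = N30669 := ded_28_0 (flp_d L238593) (flp_c L211463) L181073 L182007 L212753 (flp_c L234655) L234657 (flp_a L233253)
theorem L238599 : sm gf N30669 = N28601 := ded_29_0 L221684 L233173 (flp_g L233181) (flp_a L238595)
theorem L238601 : sm gf N27295 = N30670 := rfl
theorem L238603 : sm ga N30670 = N27298 := ded_11_1 (flp_f L211481) (flp_a L211465) L238601
theorem L238605 : sm gc N30670 = N27296 := ded_20_1 (flp_f L211467) L211463 L238601
theorem L238607 : sm gd N30670 = N28601 := ded_23_1 (flp_f L238599) (flp_d L238593) L238601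
theorem L238609 : sm ge N30670 = N30612 := ded_25_1 L238141 L237203 L238601
theorem L238611 : sm gg N30028 = N30670 := ded_29_1 (flp_f L238601) (flp_g L238589) L238585 L233165
theorem L238613 : sm gb N30670 = N28593 := ded_30_2 (flp_a L221594) (flp_f L219912) (flp_c L221112) (flp_b L221106) (flp_a L216471) L216475 (flp_c L192013) (flp_b L180559) L180549 (flp_f L144329) L144317 L144325 L103873 L116659 L116663 L144685 L181071 L211467 (flp_c L238605)
theorem L238615 : sm ge N27297 = N30671 := rfl
theorem L238617 : sm gf N27297 = N30672 := rfl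
theorem L238619 : sm ga N30672 = N28601 := ded_11_1 (flp_f L238599) L238595 L238617
theorem L238621 : sm gc N30672 = N30039 := ded_20_1 L233249 L233247 L238617
theorem L238623 : sm gd N30672 = N27298 := ded_23_1 (flp_f L211481) L211479 L238617
theorem L238625 : sm gg N30672 = N30027 := ded_29_3 (flp_a L233153) L233173 (flp_g L233181) L238617
theorem L238627 : sm gb N27298 = N30673 := rfl
theorem L238629 : sm gc N30673 = N30601 := ded_13_2 (flp_b L238065) L210875 (flp_b L181081) (flp_c L211483) L238627
theorem L238631 : sm gg N27298 = N30674 := rfl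
theorem L238633 : sm ga N30674 = N30028 := ded_12_1 L238611 L238603 L238631
theorem L238635 : sm gc N30674 = N27299 := ded_21_1 (flp_g L211485) (flp_c L211483) L238631
theorem L238637 : sm gd N30674 = N30027 := ded_24_1 (flp_g L238625) L238623 L238631
theorem L238639 : sm gf N30667 = N30674 := ded_29_0 (flp_g L238631) (flp_f L211481) (flp_g L211451) (flp_a L238585)
theorem L238641 : sm gb N29010 = N30674 := ded_31_14 (flp_g L238631) (flp_f L211481) (flp_b L199375) L199373 (flp_f L196933) (flp_b L219720) (flp_g L231786) L231782 (flp_b L225373) (flp_g L225365) (flp_f L219936) (flp_b L219938) L197839 (flp_f L225287)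
theorem L238643 : sm gg N30673 = N29025 := ded_17_2 (flp_b L225363) (flp_g L225289) L238641 (flp_g L238631) L238627
theorem L238645 : sm gf N27314 = N30675 := rfl
theorem L238647 : sm gd N30675 = N27317 := ded_23_1 (flp_f L211651) (flp_d L211633) L238645
theorem L238649 : sm ge N30675 = N29815 := ded_25_1 (flp_f L231258) L223139 L238645
theorem L238651 : sm gg N29810 = N30675 := ded_29_1 (flp_f L238645) (flp_g L231212) (flp_a L231206) L231220
theorem L238653 : sm gb N28892 = N30675 := ded_14_3 L238647 (flp_b L211661) L224359
theorem L238655 : sm gb N27315 = N30676 := rfl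
theorem L238657 : sm gd N30676 = N27318 := ded_14_2 (flp_b L211663) (flp_d L211639) L238655
theorem L238659 : sm ge N30676 = N28715 := ded_15_2 L222944 L221612 L238655
theorem L238661 : sm gf N30676 = N28892 := ded_16_2 L238653 (flp_f L238645) (flp_b L211631) L211635 L238655
theorem L238663 : sm gg N30676 = N28710 := ded_17_2 (flp_b L222908) L193065 (flp_b L211583) (flp_g L211641) L238655
theorem L238665 : sm gd N27316 = N30677 := rfl
theorem L238667 : sm ga N30677 = N30675 := ded_9_1 L238647 L211653 L238665
theorem L238669 : sm gb N30677 = N27319 := ded_14_1 (flp_d L211673) (flp_b L211647) L238665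
theorem L238671 : sm gf N30677 = N28730 := ded_23_2 L223054 L211649 L238665
theorem L238673 : sm ge N30677 = N28749 := ded_22_2 L223151 L193227 L183395 (flp_e L211645) L238665
theorem L238675 : sm gc N27319 = N30678 := rfl
theorem L238677 : sm ga N30678 = N30519 := ded_8_1 (flp_c L237397) (flp_a L211675) L238675
theorem L238679 : sm gg N30678 = N27341 := ded_21_2 (flp_c L211825) (flp_g L211677) L238675
theorem L238681 : sm gd N27320 = N30679 := rfl
theorem L238683 : sm ga N30679 = N27432 := ded_9_1 L212477 (flp_a L211681) L238681
theorem L238685 : sm gb N30679 = N28786 := ded_14_1 L223437 (flp_b L211689) L238681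
theorem L238687 : sm gf N30679 = N28664 := ded_23_2 L222126 (flp_f L211685) L238681
theorem L238689 : sm gg N30679 = N27429 := ded_24_2 (flp_d L212461) (flp_g L211687) L238681
theorem L238691 : sm ge N30679 = N27758 := ded_22_2 (flp_d L214910) L184324 (flp_d L183459) (flp_e L211683) L238681
theorem L238693 : sm gb N27321 = N30680 := rfl
theorem L238695 : sm gd N30680 = N27718 := ded_14_2 (flp_b L214511) (flp_d L211693) L238693
theorem L238697 : sm ge N30680 = N27323 := ded_15_2 (flp_b L211703) (flp_e L211695) L238693
theorem L238699 : sm gc N30680 = N29932 := ded_13_2 (flp_b L232332) L232338 (flp_b L232346) L221452 L238693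
theorem L238701 : sm gg N30680 = N27330 := ded_17_2 (flp_b L211749) (flp_g L181285) (flp_b L181251) L211691 L238693
theorem L238703 : sm ga N30680 = N29714 := ded_7_1 (flp_b L230318) (flp_a L200948) (flp_b L169325) (flp_a L117481) L169673 L201616 L215731 L215725 L238693
theorem L238705 : sm gf N30098 = N30680 := ded_31_1 (flp_b L238693) (flp_g L211691) (flp_f L187023) L187021 (flp_g L156404) (flp_f L156398) (flp_b L118314) (flp_g L118310) L118306 (flp_b L118344) L171057 (flp_f L171061) L203785 (flp_g L233703)
theorem L238707 : sm gf N27321 = N30681 := rfl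
theorem L238709 : sm ga N30681 = N27883 := ded_11_1 (flp_f L216081) L215725 L238707
theorem L238711 : sm gd N30681 = N27719 := ded_23_1 (flp_f L214519) (flp_d L211693) L238707
theorem L238713 : sm ge N30681 = N27324 := ded_25_1 (flp_f L211709) (flp_e L211695) L238707
theorem L238715 : sm gg N30681 = N27840 := ded_29_3 L215699 L187023 L211691 L238707
theorem L238717 : sm gb N30681 = N30099 := ded_16_1 (flp_f L233707) L233699 L238705 (flp_b L238693) L238707
theorem L238719 : sm gb N27322 = N30682 := rfl
theorem L238721 : sm gd N30682 = N27325 := ded_14_2 (flp_b L211717) (flp_d L211699) L238719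
theorem L238723 : sm ge N30682 = N27970 := ded_15_2 L216693 L216079 L238719
theorem L238725 : sm gg N30682 = N27967 := ded_17_2 (flp_b L216677) L187657 L187047 L211697 L238719
theorem L238727 : sm gc N27426 = N30682 := ded_28_6 L238721 L232436 L232430 L216601 (flp_c L212415) L181815 L181821 L212439
theorem L238729 : sm gb N28576 = N27430 := ded_13_3 (flp_c L212469) (flp_b L212441) L238727 (flp_b L238719) (flp_c L221458)
theorem L238731 : sm ga N27323 = N30683 := rfl
theorem L238733 : sm gd N30683 = N27326 := ded_9_2 (flp_a L211723) (flp_d L211705) L238731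
theorem L238735 : sm ge N30683 = N29714 := ded_10_2 (flp_a L238703) L238697 L238731
theorem L238737 : sm gg N30683 = N27331 := ded_12_2 (flp_a L211755) (flp_g L211707) L238731
theorem L238739 : sm gf N30683 = N27422 := ded_29_0 L216603 (flp_f L211761) (flp_g L211707) L238731
theorem L238741 : sm gb N30683 = N29711 := ded_7_2 (flp_a L230292) (flp_b L200942) (flp_a L169665) L201610 L231206 (flp_b L231214) L211603 L211703 L238731
theorem L238743 : sm gc N27412 = N30683 := ded_20_3 L238739 (flp_c L212415) (flp_f L212357)
theorem L238745 : sm gc N27323 = N30684 := rfl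
theorem L238747 : sm ga N30684 = N27412 := ded_8_1 L238743 (flp_a L238731) L238745
theorem L238749 : sm ge N30684 = N29932 := ded_19_2 (flp_c L238699) L238697 L238745
theorem L238751 : sm gg N30684 = N27332 := ded_21_2 (flp_c L211759) (flp_g L211707) L238745
theorem L238753 : sm gb N30684 = N29929 := ded_13_1 (flp_c L232314) (flp_b L221464) L192321 L211703 L238745
theorem L238755 : sm gd N27415 = N30684 := ded_9_0 L238747 L212355 L212373
theorem L238757 : sm gf N27421 = N30684 := ded_11_0 L238747 L212357 L212411
theorem L238759 : sm gf N27323 = N30685 := rfl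
theorem L238761 : sm ga N30685 = N27422 := ded_11_1 (flp_f L238739) (flp_a L238731) L238759
theorem L238763 : sm gc N30685 = N27421 := ded_20_1 L238757 (flp_c L238745) L238759
theorem L238765 : sm gd N30685 = N27328 := ded_23_1 (flp_f L211739) (flp_d L211705) L238759
theorem L238767 : sm ge N30685 = N30098 := ded_25_1 L238705 L238697 L238759
theorem L238769 : sm gg N30685 = N30100 := ded_29_3 (flp_a L233723) (flp_f L211761) (flp_g L211707) L238759
theorem L238771 : sm gb N30685 = N30096 := ded_31_2 (flp_g L233685) L233677 L233683 (flp_g L210107) (flp_f L209737) (flp_b L179027) (flp_g L130200) (flp_f L129966) L129964 L144415 (flp_f L144819) L181295 (flp_g L211707) L238759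
theorem L238773 : sm gb N27324 = N30686 := rfl
theorem L238775 : sm gd N30686 = N27329 := ded_14_2 (flp_b L211745) (flp_d L211713) L238773
theorem L238777 : sm ge N30686 = N30099 := ded_15_2 (flp_b L238717) L238713 L238773
theorem L238779 : sm gf N30686 = N30096 := ded_16_2 (flp_b L238771) (flp_f L238759) (flp_b L211703) L211709 L238773
theorem L238781 : sm gd N27327 = N30687 := rfl
theorem L238783 : sm gf N30687 = N30682 := ded_23_2 L238721 L211737 L238781
theorem L238785 : sm gg N30687 = N27336 := ded_24_2 (flp_d L211783) (flp_g L211735) L238781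
theorem L238787 : sm gb N27331 = N30688 := rfl
theorem L238789 : sm gd N30688 = N27334 := ded_14_2 (flp_b L211767) (flp_d L211757) L238787
theorem L238791 : sm ge N30688 = N30108 := ded_15_2 L233805 L233763 L238787
theorem L238793 : sm gf N30688 = N30105 := ded_16_2 (flp_b L233767) (flp_f L203795) L233717 (flp_f L233725) L238787
theorem L238795 : sm gc N30324 = N30688 := ded_28_6 L238789 (flp_a L235671) L235673 (flp_d L235691) L235689 L233607 (flp_c L207688) (flp_d L235683)
theorem L238797 : sm gc N27331 = N30689 := rfl
theorem L238799 : sm ga N30689 = N27332 := ded_8_1 (flp_c L211759) L211755 L238797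
theorem L238801 : sm ge N30689 = N30191 := ded_19_2 L234459 L233763 L238797
theorem L238803 : sm gf N30689 = N30194 := ded_20_2 L234489 (flp_f L233725) L238797
theorem L238805 : sm gg N30689 = N27412 := ded_21_2 L238743 L238737 L238797
theorem L238807 : sm gd N27417 = N30689 := ded_9_0 L238799 L216609 L212453
theorem L238809 : sm gb N30189 = N30689 := ded_15_3 L238801 (flp_b L234455) (flp_e L234445)
theorem L238811 : sm gc N27336 = N30690 := rfl
theorem L238813 : sm ge N30690 = N28042 := ded_19_2 L233637 L233631 L238811
theorem L238815 : sm gd N30690 = N27419 := ded_28_7 (flp_a L230422) L230416 (flp_d L216609) (flp_c L211759) L181297 L181303 L211783 L238811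
theorem L238817 : sm gb N27414 = N30690 := ded_15_3 L238813 L217266 L216277
theorem L238819 : sm gf N28039 = N30690 := ded_25_0 L238813 (flp_f L217262) (flp_e L217254)
theorem L238821 : sm gb N27341 = N28637 := ded_13_5 L221930 L238817 (flp_c L238811) L211785 L211825
theorem L238823 : sm gf N27336 = N30691 := rfl
theorem L238825 : sm ga N30691 = N27967 := ded_11_1 (flp_f L233617) (flp_a L233619) L238823
theorem L238827 : sm gc N30691 = N28039 := ded_20_1 L238819 (flp_c L238811) L238823
theorem L238829 : sm gd N30691 = N27337 := ded_23_1 (flp_f L211787) L211783 L238823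
theorem L238831 : sm ge N30691 = N27968 := ded_25_1 (flp_f L233633) L233631 L238823
theorem L238833 : sm gc N27339 = N30692 := rfl
theorem L238835 : sm ga N30692 = N27341 := ded_8_1 (flp_c L211825) (flp_a L211807) L238833
theorem L238837 : sm gg N30692 = N30519 := ded_21_2 (flp_c L237397) (flp_g L211811) L238833
theorem L238839 : sm gd N30639 = N30692 := ded_28_1 (flp_c L238833) (flp_d L211805) (flp_c L181323) (flp_d L180935) L211197 L238359 L238361 L238364
theorem L238841 : sm gf N27339 = N30693 := rfl
theorem L238843 : sm ga N30693 = N27343 := ded_11_1 (flp_f L211831) (flp_a L211807) L238841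
theorem L238845 : sm gd N30693 = N27340 := ded_23_1 (flp_f L211813) L211805 L238841
theorem L238847 : sm ge N30693 = N27783 := ded_25_1 (flp_f L231432) L231434 L238841
theorem L238849 : sm gg N30693 = N28607 := ded_29_3 (flp_a L237125) L237127 (flp_g L211811) L238841
theorem L238851 : sm gb N30693 = N28722 := ded_31_2 (flp_g L223008) (flp_f L212929) (flp_b L212923) (flp_g L182271) (flp_f L181379) (flp_b L144845) (flp_g L104125) (flp_f L103901) (flp_b L129964) L178647 (flp_f L178999) L209711 (flp_g L211811) L238841
theorem L238853 : sm gd N27341 = N30694 := rfl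
theorem L238855 : sm ga N30694 = N30639 := ded_9_1 L238839 L238835 L238853
theorem L238857 : sm gb N30694 = N28555 := ded_14_1 (flp_d L221932) (flp_b L238821) L238853
theorem L238859 : sm gc N30638 = N30694 := ded_28_0 (flp_d L238853) (flp_c L211825) (flp_d L181343) (flp_c L144829) (flp_d L144585) L180937 L211202 (flp_a L238361)
theorem L238861 : sm ge N27341 = N30695 := rfl
theorem L238863 : sm gc N30695 = N27342 := ded_19_1 (flp_e L211827) L211825 L238861
theorem L238865 : sm gf N27341 = N30696 := rfl
theorem L238867 : sm gc N30696 = N27343 := ded_20_1 (flp_f L211831) L211825 L238865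
theorem L238869 : sm gb N27343 = N30697 := rfl
theorem L238871 : sm gd N30697 = N27344 := ded_14_2 (flp_b L211835) (flp_d L211833) L238869
theorem L238873 : sm ga N27482 = N30697 := ded_9_3 L238871 L211841 (flp_d L212837)
theorem L238875 : sm gc N29644 = N30697 := ded_28_6 L238871 L211841 L205596 (flp_d L205588) L172897 (flp_d L168995) (flp_c L200411) L229732
theorem L238877 : sm gc N27345 = N30698 := rfl
theorem L238879 : sm ga N30698 = N27346 := ded_8_1 (flp_c L211851) L211843 L238877
theorem L238881 : sm ge N30698 = N27350 := ded_19_2 (flp_c L211879) (flp_e L211847) L238877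
theorem L238883 : sm gf N30698 = N28051 := ded_20_2 (flp_c L217340) (flp_f L212891) L238877
theorem L238885 : sm gg N30698 = N27485 := ded_21_2 (flp_c L212853) (flp_g L211849) L238877
theorem L238887 : sm gb N30698 = N27439 := ded_13_1 (flp_c L212523) L212517 (flp_c L221788) L221794 L238877
theorem L238889 : sm gd N30698 = N28052 := ded_28_7 L217346 L217304 L217334 (flp_c L217340) L212887 L184316 (flp_d L211845) L238877
theorem L238891 : sm gf N27346 = N30699 := rfl
theorem L238893 : sm ga N30699 = N28051 := ded_11_1 (flp_f L238883) L238879 L238891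
theorem L238895 : sm gc N30699 = N27347 := ded_20_1 (flp_f L211857) L211851 L238891
theorem L238897 : sm gd N30699 = N28050 := ded_23_1 L217332 (flp_d L217308) L238891
theorem L238899 : sm ge N30699 = N27352 := ded_25_1 (flp_f L211905) (flp_e L211853) L238891
theorem L238901 : sm gg N30699 = N27756 := ded_29_3 L214892 (flp_f L212869) (flp_g L211855) L238891
theorem L238903 : sm gb N29830 = N30699 := ded_7_0 L238893 L217336 L188045 (flp_b L171222) (flp_a L203917) L203921 L201842 (flp_b L201784) (flp_a L231398)
theorem L238905 : sm gb N27347 = N30700 := rfl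
theorem L238907 : sm gd N30700 = N27722 := ded_14_2 L214551 (flp_d L211859) L238905
theorem L238909 : sm ge N30700 = N27353 := ded_15_2 (flp_b L211909) (flp_e L211861) L238905
theorem L238911 : sm gc N30700 = N28023 := ded_13_2 L231348 L231404 L238903 L238895 L238905
theorem L238913 : sm gf N30700 = N27348 := ded_16_2 (flp_b L211865) (flp_f L181359) L181351 L211857 L238905
theorem L238915 : sm ga N30700 = N28024 := ded_7_1 L222934 (flp_a L222928) (flp_b L193071) L160628 L193067 L222914 (flp_b L222920) L212885 L238905
theorem L238917 : sm ga N27348 = N30701 := rfl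
theorem L238919 : sm gd N30701 = N27724 := ded_9_2 (flp_a L214567) (flp_d L211867) L238917
theorem L238921 : sm ge N30701 = N27354 := ded_10_2 (flp_a L211915) (flp_e L211869) L238917
theorem L238923 : sm gf N30701 = N28024 := ded_11_2 (flp_a L238915) L238913 L238917
theorem L238925 : sm gg N30701 = N27951 := ded_12_2 (flp_a L216557) (flp_g L211871) L238917
theorem L238927 : sm gc N30701 = N27437 := ded_28_0 L212511 (flp_c L214731) (flp_d L234499) L234497 L233749 L214559 (flp_d L211867) L238917
theorem L238929 : sm gb N30701 = N29684 := ded_7_2 L230122 L200882 (flp_a L201348) L230642 (flp_a L230648) (flp_b L210941) (flp_a L181361) L211865 L238917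
theorem L238931 : sm gc N27348 = N30702 := rfl
theorem L238933 : sm ga N30702 = N27437 := ded_8_1 (flp_c L238927) (flp_a L238917) L238931
theorem L238935 : sm ge N30702 = N27355 := ded_19_2 (flp_c L211919) (flp_e L211869) L238931
theorem L238937 : sm gf N30702 = N28023 := ded_20_2 (flp_c L238911) L238913 L238931
theorem L238939 : sm gg N30702 = N27952 := ded_21_2 (flp_c L216561) (flp_g L211871) L238931
theorem L238941 : sm gb N30702 = N29912 := ded_13_1 L232174 (flp_b L213811) L182877 L211865 L238931
theorem L238943 : sm gd N30702 = N27742 := ded_28_7 (flp_a L214739) (flp_c L214731) (flp_d L234499) L234497 L233749 L214559 (flp_d L211867) L238931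
theorem L238945 : sm ga N27349 = N30703 := rfl
theorem L238947 : sm gc N30703 = N28683 := ded_8_2 L222311 L222269 L238945
theorem L238949 : sm gd N30703 = N27357 := ded_9_2 (flp_a L211929) (flp_d L211875) L238945
theorem L238951 : sm ge N30703 = N28626 := ded_10_2 L221826 L221792 L238945
theorem L238953 : sm gf N30703 = N28610 := ded_11_2 (flp_a L222257) L222265 L238945
theorem L238955 : sm gg N30703 = N28682 := ded_12_2 L222301 (flp_g L211877) L238945
theorem L238957 : sm gb N27350 = N30704 := rfl
theorem L238959 : sm gd N30704 = N27982 := ded_14_2 L216799 L211885 L238957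
theorem L238961 : sm ge N30704 = N27439 := ded_15_2 (flp_b L238887) L238881 L238957
theorem L238963 : sm gc N30704 = N27434 := ded_13_2 (flp_b L222275) L222269 (flp_b L211873) L211879 L238957
theorem L238965 : sm gf N30704 = N27561 := ded_16_2 (flp_b L213361) (flp_f L217380) L217378 (flp_f L212949) L238957
theorem L238967 : sm gg N30704 = N27980 := ded_17_2 L216771 L187701 (flp_b L187811) (flp_g L211883) L238957
theorem L238969 : sm ga N30704 = N27435 := ded_7_1 (flp_b L216747) L230556 (flp_b L230548) L201270 L202935 (flp_a L211901) L200061 (flp_a L211881) L238957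
theorem L238971 : sm gb N27352 = N30705 := rfl
theorem L238973 : sm gd N30705 = N27853 := ded_14_2 (flp_b L216934) L216928 L238971
theorem L238975 : sm ge N30705 = N29830 := ded_15_2 L238903 L238899 L238971
theorem L238977 : sm gg N30705 = N27852 := ded_17_2 L215807 (flp_g L202430) L212921 (flp_g L212919) L238971
theorem L238979 : sm ga N30705 = N29831 := ded_7_1 L231408 (flp_a L231448) L231450 L229764 L203953 (flp_a L217376) L217378 L212945 L238971
theorem L238981 : sm ga N27353 = N30706 := rfl
theorem L238983 : sm gd N30706 = N27364 := ded_9_2 (flp_a L211987) (flp_d L211911) L238981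
theorem L238985 : sm ge N30706 = N28024 := ded_10_2 (flp_a L238915) L238909 L238981
theorem L238987 : sm gf N30706 = N27354 := ded_11_2 (flp_a L211915) (flp_f L211913) L238981
theorem L238989 : sm gc N27445 = N30706 := ded_19_3 L238985 (flp_c L217134) (flp_e L212569)
theorem L238991 : sm gc N27353 = N30707 := rfl
theorem L238993 : sm ga N30707 = N27445 := ded_8_1 L238989 (flp_a L238981) L238991
theorem L238995 : sm ge N30707 = N28023 := ded_19_2 (flp_c L238911) L238909 L238991
theorem L238997 : sm gf N30707 = N27355 := ded_20_2 (flp_c L211919) (flp_f L211913) L238991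
theorem L238999 : sm gd N27457 = N30707 := ded_9_0 L238993 L212567 (flp_a L212655)
theorem L239001 : sm gg N27353 = N30708 := rfl
theorem L239003 : sm gd N30708 = N27366 := ded_24_1 (flp_g L211999) (flp_d L211911) L239001
theorem L239005 : sm gg N27354 = N30709 := rfl
theorem L239007 : sm ga N30709 = N27356 := ded_12_1 (flp_g L211921) L211915 L239005
theorem L239009 : sm gc N30709 = N27442 := ded_21_1 L212557 (flp_c L222543) L239005
theorem L239011 : sm gd N30709 = N27369 := ded_24_1 (flp_g L212017) (flp_d L211917) L239005
theorem L239013 : sm ge N30709 = N27951 := ded_26_1 (flp_g L238925) L238921 L239005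
theorem L239015 : sm gf N30709 = N30708 := ded_29_2 (flp_g L239001) L238981 L238987 L239005
theorem L239017 : sm gg N27355 = N30710 := rfl
theorem L239019 : sm ga N30710 = N27442 := ded_12_1 L212557 (flp_a L222547) L239017
theorem L239021 : sm gc N30710 = N27356 := ded_21_1 (flp_g L211921) L211919 L239017
theorem L239023 : sm gd N30710 = N27452 := ded_24_1 L212627 (flp_d L222549) L239017
theorem L239025 : sm ge N30710 = N27952 := ded_26_1 (flp_g L238939) L238935 L239017
theorem L239027 : sm gf N27356 = N30711 := rfl
theorem L239029 : sm ga N30711 = N30708 := ded_11_1 (flp_f L239015) L239007 L239027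
theorem L239031 : sm gd N30711 = N27372 := ded_23_1 (flp_f L212037) (flp_d L211923) L239027
theorem L239033 : sm ge N30711 = N27953 := ded_25_1 (flp_f L216563) (flp_e L211925) L239027
theorem L239035 : sm gg N30711 = N30706 := ded_29_3 (flp_a L238981) L211913 L211921 L239027
theorem L239037 : sm ge N27359 = N30712 := rfl
theorem L239039 : sm ga N30712 = N27361 := ded_10_1 (flp_e L211969) (flp_a L211951) L239037
theorem L239041 : sm gb N30712 = N30311 := ded_15_1 L235557 (flp_b L211953) L239037
theorem L239043 : sm gc N30712 = N30096 := ded_19_1 L233689 (flp_c L211957) L239037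
theorem L239045 : sm gg N30712 = N27506 := ded_26_2 (flp_e L213003) (flp_g L211955) L239037
theorem L239047 : sm gd N30712 = N27465 := ded_22_1 L212711 (flp_d L183659) (flp_e L181399) L211949 L239037
theorem L239049 : sm ge N27360 = N30713 := rfl
theorem L239051 : sm ga N30713 = N30096 := ded_10_1 L233689 (flp_a L211961) L239049
theorem L239053 : sm gb N30713 = N29579 := ded_15_1 L229154 (flp_b L211965) L239049
theorem L239055 : sm gc N30713 = N27361 := ded_19_1 (flp_e L211969) L211959 L239049
theorem L239057 : sm gg N30713 = N27512 := ded_26_2 (flp_e L213049) (flp_g L211963) L239049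
theorem L239059 : sm gd N30713 = N30273 := ded_22_1 L235189 L205244 (flp_e L200097) (flp_d L211967) L239049
theorem L239061 : sm gf N27361 = N30714 := rfl
theorem L239063 : sm gd N30714 = N27466 := ded_23_1 (flp_f L212719) (flp_d L211975) L239061
theorem L239065 : sm ge N30714 = N27362 := ded_25_1 (flp_f L211977) L211969 L239061
theorem L239067 : sm gb N30714 = N27477 := ded_16_1 (flp_f L212795) L182085 L181487 (flp_b L211971) L239061
theorem L239069 : sm gb N27362 = N30715 := rfl
theorem L239071 : sm gd N30715 = N27363 := ded_14_2 (flp_b L211981) (flp_d L211979) L239069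
theorem L239073 : sm ge N30715 = N27477 := ded_15_2 (flp_b L239067) L239065 L239069
theorem L239075 : sm gf N30715 = N27381 := ded_16_2 (flp_b L212109) (flp_f L181489) (flp_b L181407) L211977 L239069
theorem L239077 : sm gc N27364 = N30716 := rfl
theorem L239079 : sm ga N30716 = N27365 := ded_8_1 (flp_c L211993) L211987 L239077
theorem L239081 : sm ge N30716 = N27725 := ded_19_2 (flp_c L214577) (flp_e L211989) L239077
theorem L239083 : sm gf N30716 = N27368 := ded_20_2 (flp_c L212011) (flp_f L211991) L239077
theorem L239085 : sm gd N27365 = N30717 := rfl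
theorem L239087 : sm gf N30717 = N27370 := ded_23_2 (flp_d L212025) (flp_f L211997) L239085
theorem L239089 : sm ge N30717 = N30093 := ded_22_2 (flp_d L233663) L203733 L183701 (flp_e L211995) L239085
theorem L239091 : sm gg N27365 = N30718 := rfl
theorem L239093 : sm gc N30718 = N27366 := ded_21_1 (flp_g L211999) L211993 L239091
theorem L239095 : sm ge N30718 = N27726 := ded_26_1 (flp_g L214585) (flp_e L211995) L239091
theorem L239097 : sm gc N27367 = N30719 := rfl
theorem L239099 : sm ga N30719 = N30289 := ded_8_1 L235354 (flp_a L212007) L239097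
theorem L239101 : sm ge N30719 = N27727 := ded_19_2 (flp_c L214591) (flp_e L212005) L239097
theorem L239103 : sm gf N30719 = N27584 := ded_20_2 L225475 L225469 L239097
theorem L239105 : sm gg N30719 = N30287 := ded_21_2 L235340 L212009 L239097
theorem L239107 : sm gb N30719 = N30379 := ded_13_1 L236185 (flp_b L236137) (flp_c L212011) L212003 L239097
theorem L239109 : sm gd N27368 = N30720 := rfl
theorem L239111 : sm ga N30720 = N27370 := ded_9_1 (flp_d L212025) (flp_a L212013) L239109
theorem L239113 : sm gg N27368 = N30721 := rfl
theorem L239115 : sm ga N30721 = N27371 := ded_12_1 (flp_g L212029) (flp_a L212013) L239113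
theorem L239117 : sm gc N30721 = N27369 := ded_21_1 (flp_g L212017) L212011 L239113
theorem L239119 : sm ge N30721 = N27728 := ded_26_1 (flp_g L214603) (flp_e L212015) L239113
theorem L239121 : sm gf N30721 = N30718 := ded_29_2 (flp_g L239091) (flp_a L239079) L239083 L239113
theorem L239123 : sm gg N27370 = N30722 := rfl
theorem L239125 : sm gd N30722 = N27371 := ded_24_1 (flp_g L212029) L212025 L239123
theorem L239127 : sm gb N30722 = N27470 := ded_17_1 (flp_g L234613) L234615 (flp_g L212167) (flp_b L212027) L239123
theorem L239129 : sm gf N27371 = N30723 := rfl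
theorem L239131 : sm ga N30723 = N30718 := ded_11_1 (flp_f L239121) L239115 L239129
theorem L239133 : sm gc N30723 = N27372 := ded_20_1 (flp_f L212037) (flp_c L212031) L239129
theorem L239135 : sm ge N30723 = N27729 := ded_25_1 (flp_f L214611) (flp_e L212033) L239129
theorem L239137 : sm gg N30723 = N30716 := ded_29_3 L239079 L211997 L212029 L239129
theorem L239139 : sm gb N30723 = N30271 := ded_16_1 L235177 (flp_b L235123) (flp_f L205083) L212035 L239129
theorem L239141 : sm gd N27373 = N30724 := rfl
theorem L239143 : sm ga N30724 = N27375 := ded_9_1 (flp_d L212061) (flp_a L212047) L239141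
theorem L239145 : sm gf N30724 = N30424 := ded_23_2 L236504 (flp_f L212051) L239141
theorem L239147 : sm gd N27374 = N30725 := rfl
theorem L239149 : sm gb N30725 = N27375 := ded_14_1 (flp_d L212061) L212053 L239147
theorem L239151 : sm gf N30725 = N27590 := ded_23_2 L213565 L212059 L239147
theorem L239153 : sm ge N30725 = N27592 := ded_22_2 L213579 L182717 L183751 (flp_e L212055) L239147
theorem L239155 : sm gc N27375 = N30726 := rfl
theorem L239157 : sm ge N27375 = N30727 := rfl
theorem L239159 : sm gb N30727 = N27592 := ded_15_1 (flp_e L239153) L239149 L239157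
theorem L239161 : sm gd N30727 = N27595 := ded_22_1 L213601 (flp_d L183753) (flp_e L181447) L212061 L239157
theorem L239163 : sm gf N27375 = N30728 := rfl
theorem L239165 : sm ga N30728 = N30424 := ded_11_1 (flp_f L239145) L239143 L239163
theorem L239167 : sm gd N30728 = N27376 := ded_23_1 (flp_f L212063) L212061 L239163
theorem L239169 : sm gg N30629 = N30728 := ded_12_0 L239165 L236506 (flp_a L238283)
theorem L239171 : sm gg N27375 = N30729 := rfl
theorem L239173 : sm gd N30729 = N27377 := ded_24_1 (flp_g L212073) L212061 L239171
theorem L239175 : sm gf N30388 = N30729 := ded_29_0 (flp_g L239171) L239163 (flp_g L239169) L238283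
theorem L239177 : sm gb N27376 = N30730 := rfl
theorem L239179 : sm ge N30730 = N27731 := ded_15_2 (flp_b L214635) (flp_e L212069) L239177
theorem L239181 : sm gc N30730 = N27789 := ded_13_2 L215223 L184943 L181643 (flp_c L212067) L239177
theorem L239183 : sm gf N30730 = N27786 := ded_16_2 L215183 L212059 (flp_b L212053) L212063 L239177
theorem L239185 : sm gg N30730 = N28904 := ded_17_2 L224455 (flp_g L224431) L224427 L212071 L239177
theorem L239187 : sm ga N30730 = N29667 := ded_30_3 L229976 (flp_c L200731) L169211 (flp_a L169367) (flp_f L201024) (flp_c L201028) (flp_b L195123) L162617 (flp_f L162613) L162583 (flp_b L164240) L164238 L164274 (flp_c L195637) L195643 (flp_a L181439) L181449 (flp_c L212067) L239177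
theorem L239189 : sm gd N27378 = N30731 := rfl
theorem L239191 : sm ga N30731 = N27379 := ded_9_1 (flp_d L212091) L212081 L239189
theorem L239193 : sm gb N30731 = N30324 := ded_14_1 L235683 L212089 L239189
theorem L239195 : sm gf N30731 = N27582 := ded_23_2 L213513 (flp_f L212085) L239189
theorem L239197 : sm gg N30731 = N30725 := ded_24_2 (flp_d L239147) L212087 L239189
theorem L239199 : sm ge N30731 = N27448 := ded_22_2 (flp_d L212593) L181907 (flp_d L183773) (flp_e L212083) L239189
theorem L239201 : sm gc N30189 = N30731 := ded_13_0 L239193 L238795 (flp_b L238787) L238797 (flp_b L238809)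
theorem L239203 : sm gc N27379 = N30732 := rfl
theorem L239205 : sm ga N30732 = N30189 := ded_8_1 L239201 L239191 L239203
theorem L239207 : sm ge N30732 = N27449 := ded_19_2 (flp_c L212603) (flp_e L212097) L239203
theorem L239209 : sm gf N30732 = N27588 := ded_20_2 L213555 (flp_f L212095) L239203
theorem L239211 : sm gb N30732 = N29820 := ded_13_1 L231306 (flp_b L230548) L201272 (flp_b L212093) L239203
theorem L239213 : sm gd N30334 = N30732 := ded_9_0 L239205 L234443 (flp_a L235779)
theorem L239215 : sm gg N27379 = N30733 := rfl
theorem L239217 : sm ga N30733 = N30725 := ded_12_1 (flp_g L239197) L239191 L239215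
theorem L239219 : sm gd N30733 = N27380 := ded_24_1 (flp_g L212099) L212091 L239215
theorem L239221 : sm ge N30733 = N27450 := ded_26_1 (flp_g L212613) (flp_e L212097) L239215
theorem L239223 : sm gb N30733 = N27396 := ded_17_1 (flp_g L212223) L181603 (flp_g L181475) (flp_b L212093) L239215
theorem L239225 : sm ga N27381 = N30734 := rfl
theorem L239227 : sm gd N30734 = N27382 := ded_9_2 (flp_a L212117) (flp_d L212111) L239225
theorem L239229 : sm ge N30734 = N27475 := ded_10_2 L212787 (flp_e L212113) L239225
theorem L239231 : sm gg N30734 = N30398 := ded_12_2 L236316 (flp_g L212115) L239225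
theorem L239233 : sm gb N30734 = N29617 := ded_7_2 L229498 (flp_b L213697) L213695 L182831 L145701 (flp_b L145234) (flp_a L181491) L212109 L239225
theorem L239235 : sm gc N27381 = N30735 := rfl
theorem L239237 : sm ge N30735 = N27476 := ded_19_2 (flp_c L212791) (flp_e L212113) L239235
theorem L239239 : sm gg N30735 = N30402 := ded_21_2 (flp_c L236346) (flp_g L212115) L239235
theorem L239241 : sm gd N27383 = N30736 := rfl
theorem L239243 : sm gb N30736 = N27385 := ded_14_1 (flp_d L212145) (flp_b L212131) L239241
theorem L239245 : sm gg N30736 = N29192 := ded_24_2 L226421 (flp_g L212129) L239241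
theorem L239247 : sm ge N30736 = N29194 := ded_22_2 L226433 L198129 (flp_d L183803) (flp_e L212127) L239241
theorem L239249 : sm gc N30242 = N30736 := ded_13_0 L239243 (flp_c L234787) (flp_b L234795) L217918 L234893
theorem L239251 : sm ga N27386 = N30737 := rfl
theorem L239253 : sm gc N30737 = N27457 := ded_8_2 L212655 (flp_c L212157) L239251
theorem L239255 : sm ge N30737 = N27732 := ded_10_2 (flp_a L214647) (flp_e L212155) L239251
theorem L239257 : sm gf N30737 = N27456 := ded_11_2 L212649 (flp_f L212159) L239251
theorem L239259 : sm gd N27386 = N30738 := rfl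
theorem L239261 : sm gb N30738 = N27387 := ded_14_1 (flp_d L212161) L212153 L239259
theorem L239263 : sm gf N30738 = N27458 := ded_23_2 (flp_d L212661) (flp_f L212159) L239259
theorem L239265 : sm gc N30738 = N30717 := ded_28_6 (flp_d L239085) (flp_a L239079) (flp_c L239077) (flp_d L238983) (flp_c L238989) L212567 (flp_c L212157) L239259
theorem L239267 : sm gg N27386 = N30739 := rfl
theorem L239269 : sm gc N30739 = N27459 := ded_21_1 (flp_g L212665) (flp_c L212157) L239267
theorem L239271 : sm ge N30739 = N27733 := ded_26_1 (flp_g L214653) (flp_e L212155) L239267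
theorem L239273 : sm gb N30739 = N30258 := ded_17_1 L235057 (flp_b L235003) L204835 L212153 L239267
theorem L239275 : sm gd N27392 = N30740 := rfl
theorem L239277 : sm ga N30740 = N27530 := ded_9_1 (flp_d L213163) (flp_a L212203) L239275
theorem L239279 : sm gb N30740 = N27393 := ded_14_1 (flp_d L212205) L212197 L239275
theorem L239281 : sm gf N30740 = N29121 := ded_23_2 (flp_d L226770) L226776 L239275
theorem L239283 : sm gg N30740 = N29023 := ded_24_2 L235591 L235589 L239275
theorem L239285 : sm ge N30740 = N29854 := ded_22_2 (flp_d L231642) (flp_e L206260) L206258 (flp_e L212199) L239275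
theorem L239287 : sm gc N30740 = N29009 := ded_32_14 (flp_b L225277) L197216 L166654 (flp_d L166592) L166590 (flp_b L115725) L95504 L84422 L24924 L12009 L24959 L24961 (flp_d L22337) L46431 L93297 L111701 (flp_b L163198) (flp_d L163123) L163121 (flp_d L152544) (flp_c L184161) L214797 L214799 (flp_c L184846) (flp_d L214467) L214465 (flp_b L195723) L195719 L164396 (flp_d L149598) (flp_c L145971) (flp_b L104819) (flp_d L102209) (flp_c L102835) L119055 L98992 L98993 (flp_e L147473) (flp_d L99403) (flp_c L124866) (flp_d L176448) L176446 L176476 L176478 L157075 L108515 L108625 L157227 L188691 (flp_c L190321) (flp_d L190485) (flp_c L205374) (flp_b L205360) L172587 L121731 L97615 (flp_c L151224) (flp_b L107883) L91337 (flp_c L88648) L88650 L88278 L163245 (flp_e L163238) L102633 L102741 L130380 L179327 (flp_b L182299) L212985 (flp_c L234769) L234765 (flp_c L213689) (flp_b L213675) (flp_d L213673) (flp_c L212201) L239275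
theorem L239289 : sm ge N27393 = N30741 := rfl
theorem L239291 : sm ga N30741 = N27395 := ded_10_1 (flp_e L212215) (flp_a L212207) L239289
theorem L239293 : sm gb N30741 = N29854 := ded_15_1 (flp_e L239285) L239279 L239289
theorem L239295 : sm gf N30741 = N30378 := ded_25_2 L236179 (flp_f L212209) L239289
theorem L239297 : sm gd N30741 = N27467 := ded_22_1 L212731 (flp_d L183849) (flp_e L181597) L212205 L239289
theorem L239299 : sm ge N27394 = N30742 := rfl
theorem L239301 : sm gc N30742 = N27395 := ded_19_1 (flp_e L212215) L212211 L239299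
theorem L239303 : sm gf N30742 = N30382 := ded_25_2 L236209 (flp_f L212213) L239299
theorem L239305 : sm gg N27394 = N30743 := rfl
theorem L239307 : sm gc N30743 = N27396 := ded_21_1 (flp_g L212223) L212211 L239305
theorem L239309 : sm gd N30743 = N28386 := ded_24_1 L225619 (flp_d L225635) L239305
theorem L239311 : sm gb N30743 = N28383 := ded_17_1 (flp_g L219996) L219992 (flp_g L232464) L232466 L239305
theorem L239313 : sm gg N27395 = N30744 := rfl
theorem L239315 : sm gd N30744 = N27451 := ded_24_1 L212621 (flp_d L212221) L239313
theorem L239317 : sm ge N30744 = N27396 := ded_26_1 (flp_g L212223) L212215 L239313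
theorem L239319 : sm gb N30744 = N27450 := ded_17_1 (flp_g L212613) L181915 (flp_g L181617) (flp_b L212217) L239313
theorem L239321 : sm gg N27404 = N30745 := rfl
theorem L239323 : sm gd N30745 = N27408 := ded_24_1 (flp_g L212319) (flp_d L212295) L239321
theorem L239325 : sm ge N30745 = N30015 := ded_26_1 L233059 L223549 L239321
theorem L239327 : sm gf N30745 = N30010 := ded_29_2 (flp_g L233015) L232997 L233003 L239321
theorem L239329 : sm gb N28884 = N30745 := ded_14_3 L239323 (flp_b L212329) L224291
theorem L239331 : sm gb N27405 = N30746 := rfl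
theorem L239333 : sm gd N30746 = N27409 := ded_14_2 (flp_b L212331) (flp_d L212299) L239331
theorem L239335 : sm ge N30746 = N28777 := ded_15_2 L223357 L222048 L239331
theorem L239337 : sm gf N30746 = N28773 := ded_16_2 (flp_b L223323) (flp_f L193371) (flp_b L212261) L212301 L239331
theorem L239339 : sm gg N30746 = N28884 := ded_17_2 L239329 (flp_g L239321) (flp_b L212293) L212297 L239331
theorem L239341 : sm gd N27407 = N30747 := rfl
theorem L239343 : sm ga N30747 = N30745 := ded_9_1 L239323 L212321 L239341
theorem L239345 : sm gb N30747 = N27410 := ded_14_1 (flp_d L212341) (flp_b L212315) L239341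
theorem L239347 : sm gg N30747 = N28794 := ded_24_2 L223491 L212317 L239341
theorem L239349 : sm ge N30747 = N28807 := ded_22_2 L223561 L193531 L183893 (flp_e L212313) L239341
theorem L239351 : sm gc N27410 = N30748 := rfl
theorem L239353 : sm ga N30748 = N30536 := ded_8_1 (flp_c L237543) (flp_a L212343) L239351
theorem L239355 : sm gf N30748 = N27430 := ded_20_2 (flp_c L212469) (flp_f L212345) L239351
theorem L239357 : sm gb N27411 = N30749 := rfl
theorem L239359 : sm gd N30749 = N27736 := ded_14_2 (flp_b L214683) (flp_d L212349) L239357
theorem L239361 : sm ge N30749 = N27412 := ded_15_2 (flp_b L212353) (flp_e L212351) L239357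
theorem L239363 : sm gc N30749 = N29714 := ded_13_2 (flp_b L230318) L230324 (flp_b L230332) L221908 L239357
theorem L239365 : sm gf N30749 = N27420 := ded_16_2 (flp_b L212405) (flp_f L181803) (flp_b L181769) L212347 L239357
theorem L239367 : sm ga N30749 = N29932 := ded_7_1 (flp_b L232332) (flp_a L202595) (flp_b L170324) (flp_a L118095) L170688 L203253 L215747 L215741 L239357
theorem L239369 : sm gg N30749 = N30191 := ded_31_3 L234461 (flp_b L204281) (flp_g L171412) (flp_f L171406) L118539 (flp_g L118501) L118495 L118499 L156645 (flp_f L156651) (flp_b L187205) L187207 L212347 L239357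
theorem L239371 : sm gg N27411 = N30750 := rfl
theorem L239373 : sm ga N30750 = N27911 := ded_12_1 L216279 L215741 L239371
theorem L239375 : sm gd N30750 = N27737 := ded_24_1 (flp_g L214691) (flp_d L212349) L239371
theorem L239377 : sm ge N30750 = N27413 := ded_26_1 (flp_g L212359) (flp_e L212351) L239371
theorem L239379 : sm gf N27841 = N30750 := ded_29_0 (flp_g L239371) (flp_f L212347) (flp_g L187207) (flp_a L215709)
theorem L239381 : sm gb N30750 = N30192 := ded_17_1 (flp_g L234465) L234455 (flp_g L239369) (flp_b L239357) L239371
theorem L239383 : sm gb N27413 = N30751 := rfl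
theorem L239385 : sm gd N30751 = N27418 := ded_14_2 (flp_b L212391) (flp_d L212361) L239383
theorem L239387 : sm ge N30751 = N30192 := ded_15_2 (flp_b L239381) L239377 L239383
theorem L239389 : sm gg N30751 = N30189 := ded_17_2 L238809 L238805 (flp_b L212353) L212359 L239383
theorem L239391 : sm gc N30725 = N30751 := ded_28_6 L239385 (flp_a L237739) L237741 L239213 (flp_c L239203) (flp_d L212091) (flp_c L212057) L239147
theorem L239393 : sm gb N28636 = N30726 := ded_13_3 (flp_c L239155) (flp_b L239149) L239391 (flp_b L239383) (flp_c L221920)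
theorem L239395 : sm gd N27416 = N30752 := rfl
theorem L239397 : sm gf N30752 = N27426 := ded_23_2 (flp_d L212439) (flp_f L212385) L239395
theorem L239399 : sm gg N30752 = N30690 := ded_24_2 L238815 L212401 L239395
theorem L239401 : sm gc N30752 = N30687 := ded_28_6 (flp_d L238781) L213113 (flp_c L213115) (flp_d L238733) (flp_c L238743) L212355 L212381 L239395
theorem L239403 : sm gb N27421 = N30753 := rfl
theorem L239405 : sm gd N30753 = N27424 := ded_14_2 (flp_b L212423) (flp_d L212413) L239403
theorem L239407 : sm ge N30753 = N30205 := ded_15_2 L234601 L234515 L239403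
theorem L239409 : sm gc N30753 = N30311 := ded_13_2 (flp_b L239041) L239043 (flp_b L238771) L238763 L239403
theorem L239411 : sm gg N30753 = N30200 := ded_17_2 (flp_b L234547) L204309 L234483 (flp_g L234493) L239403
theorem L239413 : sm gg N27426 = N30754 := rfl
theorem L239415 : sm ga N30754 = N28039 := ded_12_1 (flp_g L234365) (flp_a L234367) L239413
theorem L239417 : sm gc N30754 = N27967 := ded_21_1 (flp_g L238725) (flp_c L238727) L239413
theorem L239419 : sm gd N30754 = N27427 := ded_24_1 (flp_g L212443) L212439 L239413
theorem L239421 : sm ge N30754 = N27969 := ded_26_1 (flp_g L234381) L234379 L239413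
theorem L239423 : sm gc N27429 = N30755 := rfl
theorem L239425 : sm ga N30755 = N27430 := ded_8_1 (flp_c L212469) (flp_a L212463) L239423
theorem L239427 : sm gf N30755 = N30536 := ded_20_2 (flp_c L237543) (flp_f L212467) L239423
theorem L239429 : sm gd N30659 = N30755 := ded_28_1 (flp_c L239423) (flp_d L212461) (flp_c L181841) (flp_d L181031) L211390 L238515 L238517 L238520
theorem L239431 : sm gd N27430 = N30756 := rfl
theorem L239433 : sm ga N30756 = N30659 := ded_9_1 L239429 L239425 L239431
theorem L239435 : sm gb N30756 = N28529 := ded_14_1 (flp_d L221460) L238729 L239431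
theorem L239437 : sm gc N30658 = N30756 := ded_28_0 (flp_d L239431) (flp_c L212469) (flp_d L181851) (flp_c L145096) (flp_d L144659) L181033 L211395 (flp_a L238517)
theorem L239439 : sm ge N27430 = N30757 := rfl
theorem L239441 : sm gc N30757 = N27431 := ded_19_1 (flp_e L212471) L212469 L239439
theorem L239443 : sm gg N27430 = N30758 := rfl
theorem L239445 : sm gc N30758 = N27432 := ded_21_1 (flp_g L212475) L212469 L239443
theorem L239447 : sm gb N27432 = N30759 := rfl
theorem L239449 : sm gd N30759 = N27433 := ded_14_2 (flp_b L212479) (flp_d L212477) L239447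
theorem L239451 : sm ga N27557 = N30759 := ded_9_3 L239449 (flp_a L212485) (flp_d L213331)
theorem L239453 : sm gc N29876 = N30759 := ded_28_6 L239449 (flp_a L212485) L206871 (flp_d L206863) L174392 (flp_d L170000) (flp_c L202088) L231834
theorem L239455 : sm gg N27435 = N30760 := rfl
theorem L239457 : sm ga N30760 = N27980 := ded_12_1 (flp_g L238967) L238969 L239455
theorem L239459 : sm gc N30760 = N27436 := ded_21_1 (flp_g L212501) L212495 L239455
theorem L239461 : sm gd N30760 = N27979 := ded_24_1 (flp_g L216767) (flp_d L216743) L239455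
theorem L239463 : sm ge N30760 = N27441 := ded_26_1 (flp_g L212549) (flp_e L212497) L239455
theorem L239465 : sm gf N27781 = N30760 := ded_29_0 (flp_g L239455) L212499 L213371 (flp_a L215131)
theorem L239467 : sm gb N29590 = N30760 := ded_7_0 L239457 L216771 L187699 (flp_b L170883) (flp_a L203423) L203427 L200163 (flp_b L200123) (flp_a L229244)
theorem L239469 : sm gb N27436 = N30761 := rfl
theorem L239471 : sm gd N30761 = N27740 := ded_14_2 L214723 (flp_d L212503) L239469
theorem L239473 : sm ge N30761 = N27442 := ded_15_2 (flp_b L212553) (flp_e L212505) L239469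
theorem L239475 : sm gc N30761 = N27951 := ded_13_2 L229214 L229248 L239467 L239459 L239469
theorem L239477 : sm gg N30761 = N27437 := ded_17_2 (flp_b L212509) (flp_g L181867) L181859 L212501 L239469
theorem L239479 : sm ga N30761 = N27952 := ded_7_1 L223347 (flp_a L223341) (flp_b L193383) (flp_a L160824) L193387 L223359 (flp_b L223365) L213387 L239469
theorem L239481 : sm ga N27438 = N30762 := rfl
theorem L239483 : sm gc N30762 = N28626 := ded_8_2 L221826 L221788 L239481
theorem L239485 : sm gd N30762 = N27446 := ded_9_2 (flp_a L212573) (flp_d L212519) L239481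
theorem L239487 : sm ge N30762 = N28683 := ded_10_2 L222311 L222273 L239481
theorem L239489 : sm gf N30762 = N28625 := ded_11_2 L221818 (flp_f L212521) L239481
theorem L239491 : sm gg N30762 = N28667 := ded_12_2 L222146 L221784 L239481
theorem L239493 : sm gb N27441 = N30763 := rfl
theorem L239495 : sm gd N30763 = N27849 := ded_14_2 (flp_b L217502) L217496 L239493
theorem L239497 : sm ge N30763 = N29590 := ded_15_2 L239467 L239463 L239493
theorem L239499 : sm gf N30763 = N27848 := ded_16_2 L215773 (flp_f L200789) L213423 L213421 L239493
theorem L239501 : sm ga N30763 = N29591 := ded_7_1 L229252 (flp_a L229294) (flp_b L231874) L231866 L203463 (flp_a L216811) L216813 L213447 L239493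
theorem L239503 : sm gf N27442 = N30764 := rfl
theorem L239505 : sm gc N30764 = N30708 := ded_20_1 (flp_f L239015) L239009 L239503
theorem L239507 : sm gd N30764 = N27454 := ded_23_1 (flp_f L212635) (flp_d L212555) L239503
theorem L239509 : sm gg N30764 = N30707 := ded_29_3 L238993 (flp_f L212565) (flp_g L212557) L239503
theorem L239511 : sm gg N27445 = N30765 := rfl
theorem L239513 : sm ga N30765 = N30764 := ded_12_1 L239509 L238993 L239511
theorem L239515 : sm gc N30765 = N30711 := ded_21_1 L239035 (flp_c L238989) L239511
theorem L239517 : sm gd N30765 = N27459 := ded_24_1 (flp_g L212665) (flp_d L212567) L239511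
theorem L239519 : sm ge N30765 = N28025 := ded_26_1 (flp_g L217136) (flp_e L212569) L239511
theorem L239521 : sm gf N30710 = N30765 := ded_29_0 (flp_g L239511) (flp_f L212565) (flp_g L212557) (flp_a L239019)
theorem L239523 : sm gc N27452 = N30766 := rfl
theorem L239525 : sm ga N30766 = N27453 := ded_8_1 (flp_c L212629) L212623 L239523
theorem L239527 : sm ge N30766 = N27743 := ded_19_2 (flp_c L214749) (flp_e L212625) L239523
theorem L239529 : sm gf N30766 = N30739 := ded_20_2 L239269 (flp_f L212671) L239523
theorem L239531 : sm gg N30766 = N27456 := ded_21_2 (flp_c L212647) (flp_g L212627) L239523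
theorem L239533 : sm gb N30766 = N30718 := ded_13_1 L239093 (flp_b L213047) (flp_c L224329) L224335 L239523
theorem L239535 : sm gd N27453 = N30767 := rfl
theorem L239537 : sm gg N30767 = N27458 := ded_24_2 (flp_d L212661) (flp_g L212633) L239535
theorem L239539 : sm ge N30767 = N30187 := ded_22_2 (flp_d L234425) L204219 L184109 (flp_e L212631) L239535
theorem L239541 : sm gc N30767 = N30722 := ded_28_6 L239125 (flp_a L239115) L239117 (flp_d L239011) L239009 L212555 L212629 L239535
theorem L239543 : sm gf N27453 = N30768 := rfl
theorem L239545 : sm ga N30768 = N30739 := ded_11_1 (flp_f L239529) L239525 L239543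
theorem L239547 : sm gc N30768 = N27454 := ded_20_1 (flp_f L212635) L212629 L239543
theorem L239549 : sm ge N30768 = N27744 := ded_25_1 (flp_f L214761) (flp_e L212631) L239543
theorem L239551 : sm gg N30768 = N30737 := ded_29_3 (flp_a L239251) L212159 (flp_g L212633) L239543
theorem L239553 : sm gb N30768 = N30716 := ded_16_1 L239083 L236137 (flp_f L236135) (flp_b L235107) L239543
theorem L239555 : sm gc N27455 = N30769 := rfl
theorem L239557 : sm ga N30769 = N30348 := ded_8_1 L235912 (flp_a L212643) L239555
theorem L239559 : sm ge N30769 = N27745 := ded_19_2 (flp_c L214773) (flp_e L212641) L239555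
theorem L239561 : sm gf N30769 = N30346 := ded_20_2 L235898 L212645 L239555
theorem L239563 : sm gg N30769 = N27508 := ded_21_2 L225538 L225534 L239555
theorem L239565 : sm gb N30769 = N30399 := ded_13_1 L236324 (flp_b L236276) (flp_c L212647) L212639 L239555
theorem L239567 : sm gd N27456 = N30770 := rfl
theorem L239569 : sm ga N30770 = N27458 := ded_9_1 (flp_d L212661) (flp_a L212649) L239567
theorem L239571 : sm gc N30720 = N30770 := ded_28_0 (flp_d L239567) (flp_c L212647) (flp_d L222549) (flp_c L211919) L181385 L181427 L212025 (flp_a L239111)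
theorem L239573 : sm gd N27460 = N30771 := rfl
theorem L239575 : sm ga N30771 = N27462 := ded_9_1 (flp_d L212689) (flp_a L212675) L239573
theorem L239577 : sm gg N30771 = N30435 := ded_24_2 L236591 (flp_g L212679) L239573
theorem L239579 : sm gd N27461 = N30772 := rfl
theorem L239581 : sm ga N30772 = N30714 := ded_9_1 L239063 L212721 L239579
theorem L239583 : sm gb N30772 = N27462 := ded_14_1 (flp_d L212689) L212681 L239579
theorem L239585 : sm gf N30772 = N30712 := ded_23_2 L239047 L212715 L239579
theorem L239587 : sm gg N30772 = N27514 := ded_24_2 L213063 L212687 L239579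
theorem L239589 : sm ge N30772 = N27516 := ded_22_2 L213077 L182353 (flp_d L183673) (flp_e L212683) L239579
theorem L239591 : sm gc N30772 = N30686 := ded_28_6 L238775 (flp_a L237697) L237699 (flp_d L239059) L239055 L211975 (flp_c L212685) L239579
theorem L239593 : sm gc N27462 = N30773 := rfl
theorem L239595 : sm gb N30773 = N28578 := ded_13_1 L221474 L238773 (flp_c L239591) L239583 L239593
theorem L239597 : sm ge N27462 = N30774 := rfl
theorem L239599 : sm gb N30774 = N27516 := ded_15_1 (flp_e L239589) L239583 L239597
theorem L239601 : sm gd N30774 = N27519 := ded_22_1 L213095 (flp_d L184147) (flp_e L181955) L212689 L239597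
theorem L239603 : sm gf N27462 = N30775 := rfl
theorem L239605 : sm gd N30775 = N27463 := ded_23_1 (flp_f L212691) L212689 L239603
theorem L239607 : sm gg N30775 = N30408 := ded_29_1 (flp_f L236593) (flp_g L239577) L239575 L239603
theorem L239609 : sm gg N27462 = N30776 := rfl
theorem L239611 : sm ga N30776 = N30435 := ded_12_1 (flp_g L239577) L239575 L239609
theorem L239613 : sm gd N30776 = N27464 := ded_24_1 (flp_g L212699) L212689 L239609
theorem L239615 : sm gf N30618 = N30776 := ded_29_0 (flp_g L239609) L239603 L239607 (flp_a L238189)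
theorem L239617 : sm gb N27464 = N30777 := rfl
theorem L239619 : sm ge N30777 = N27747 := ded_15_2 (flp_b L214797) (flp_e L212705) L239617
theorem L239621 : sm gc N30777 = N27764 := ded_13_2 L214984 L184543 L182119 (flp_c L212703) L239617
theorem L239623 : sm gf N30777 = N28909 := ded_16_2 L224499 (flp_f L224553) L224549 L212707 L239617
theorem L239625 : sm gg N30777 = N27761 := ded_17_2 L214944 L212687 (flp_b L212681) L212699 L239617
theorem L239627 : sm ga N30777 = N29898 := ded_30_3 L232054 L211119 (flp_b L180879) L144537 (flp_f L144525) (flp_c L144521) (flp_b L103951) (flp_a L89260) (flp_f L89264) L103933 (flp_b L148015) L109394 L109432 (flp_c L158175) L189767 L189775 L181969 (flp_c L212703) L239617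
theorem L239629 : sm gd N27468 = N30778 := rfl
theorem L239631 : sm gb N30778 = N27469 := ded_14_1 (flp_d L212745) (flp_b L212743) L239629
theorem L239633 : sm gf N30778 = N29247 := ded_23_2 L226832 (flp_f L212741) L239629
theorem L239635 : sm ge N30778 = N29248 := ded_22_2 L226838 L198488 (flp_d L183861) (flp_e L212739) L239629
theorem L239637 : sm gc N30224 = N30778 := ded_13_0 L239631 (flp_c L234631) (flp_b L234639) L218052 L234747
theorem L239639 : sm gd N27474 = N30779 := rfl
theorem L239641 : sm ga N30779 = N27606 := ded_9_1 (flp_d L213673) (flp_a L212783) L239639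
theorem L239643 : sm gb N30779 = N27475 := ded_14_1 (flp_d L212785) L212777 L239639
theorem L239645 : sm gf N30779 = N29034 := ded_23_2 L235513 L235511 L239639
theorem L239647 : sm gg N30779 = N29172 := ded_24_2 L227006 L226377 L239639
theorem L239649 : sm ge N30779 = N29617 := ded_22_2 (flp_d L229496) (flp_e L207299) L207297 (flp_e L212779) L239639
theorem L239651 : sm gc N29014 = N30779 := ded_28_4 (flp_d L239639) L212781 L213163 (flp_a L239277) L239287 L225279 (flp_c L197255) (flp_d L225307)
theorem L239653 : sm gf N27476 = N30780 := rfl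
theorem L239655 : sm gc N30780 = N27477 := ded_20_1 (flp_f L212795) L212791 L239653
theorem L239657 : sm gd N30780 = N28415 := ded_23_1 L225737 (flp_d L225733) L239653
theorem L239659 : sm gb N30780 = N28412 := ded_16_1 (flp_f L220212) L220208 (flp_f L230448) L230450 L239653
theorem L239661 : sm gc N27479 = N30781 := rfl
theorem L239663 : sm ga N30781 = N30361 := ded_8_1 (flp_c L236033) L212817 L239661
theorem L239665 : sm ge N30781 = N28403 := ded_19_2 L220160 (flp_e L212813) L239661
theorem L239667 : sm gg N30781 = N28989 := ded_21_2 L225163 (flp_g L212815) L239661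
theorem L239669 : sm gb N30781 = N28406 := ded_13_1 L220180 L210323 L193539 L212809 L239661
theorem L239671 : sm gd N30781 = N29153 := ded_28_7 (flp_a L234839) L234843 (flp_d L214200) L214198 L202973 L182179 (flp_d L212811) L239661
theorem L239673 : sm ga N27480 = N30782 := rfl
theorem L239675 : sm gd N30782 = N27946 := ded_9_2 (flp_a L216517) (flp_d L212821) L239673
theorem L239677 : sm ge N30782 = N30505 := ded_10_2 (flp_a L237279) (flp_e L212823) L239673
theorem L239679 : sm gg N30782 = N29749 := ded_12_2 (flp_a L230648) (flp_g L212825) L239673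
theorem L239681 : sm gf N30782 = N28586 := ded_29_0 L238161 (flp_f L238153) (flp_g L212825) L239673
theorem L239683 : sm gb N30782 = N29746 := ded_7_2 L230618 (flp_b L203515) L197101 (flp_b L203099) (flp_a L210321) L210323 L193537 L212819 L239673
theorem L239685 : sm gf N27480 = N30783 := rfl
theorem L239687 : sm ga N30783 = N28586 := ded_11_1 (flp_f L239681) (flp_a L239673) L239685
theorem L239689 : sm gd N30783 = N27947 := ded_23_1 (flp_f L216527) (flp_d L212821) L239685
theorem L239691 : sm ge N30783 = N30507 := ded_25_1 (flp_f L237289) (flp_e L212823) L239685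
theorem L239693 : sm gb N30783 = N28611 := ded_16_1 L237395 (flp_b L237385) (flp_f L209709) L212819 L239685
theorem L239695 : sm ga N27481 = N30784 := rfl
theorem L239697 : sm gd N30784 = N27483 := ded_9_2 (flp_a L212839) (flp_d L212829) L239695
theorem L239699 : sm ge N30784 = N29574 := ded_10_2 (flp_a L229104) (flp_e L212831) L239695
theorem L239701 : sm gg N30784 = N29579 := ded_12_2 (flp_a L229150) (flp_g L212833) L239695
theorem L239703 : sm gc N30784 = N27848 := ded_28_0 (flp_d L215771) (flp_c L186153) L154960 L154996 L186246 (flp_c L205211) (flp_d L212829) L239695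
theorem L239705 : sm gc N27481 = N30785 := rfl
theorem L239707 : sm ga N30785 = N27848 := ded_8_1 (flp_c L239703) (flp_a L239695) L239705
theorem L239709 : sm ge N30785 = N29575 := ded_19_2 (flp_c L229112) (flp_e L212831) L239705
theorem L239711 : sm gg N30785 = N28048 := ded_21_2 L217316 (flp_g L212833) L239705
theorem L239713 : sm gb N30785 = N30522 := ded_13_1 (flp_c L237415) (flp_b L209719) (flp_c L182199) L212827 L239705
theorem L239715 : sm gd N30785 = N27847 := ded_28_7 L215763 (flp_c L186153) L154960 L154996 L186246 (flp_c L205211) (flp_d L212829) L239705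
theorem L239717 : sm gf N29591 = N30785 := ded_11_0 L239707 (flp_f L239499) L239501
theorem L239719 : sm gf N27481 = N30786 := rfl
theorem L239721 : sm gc N30786 = N29591 := ded_20_1 L239717 (flp_c L239705) L239719
theorem L239723 : sm gd N30786 = N27484 := ded_23_1 (flp_f L212847) (flp_d L212829) L239719
theorem L239725 : sm ge N30786 = N29576 := ded_25_1 (flp_f L229122) (flp_e L212831) L239719
theorem L239727 : sm gb N30786 = N29954 := ded_16_1 L232540 (flp_b L212809) L182205 L212827 L239719
theorem L239729 : sm gc N27482 = N30787 := rfl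
theorem L239731 : sm ga N30787 = N29644 := ded_8_1 L238875 (flp_a L238873) L239729
theorem L239733 : sm gd N30787 = N29633 := ded_28_7 L229632 L200411 L168995 (flp_c L172897) L205588 (flp_c L205596) (flp_d L212837) L239729
theorem L239735 : sm gb N27487 = N30788 := rfl
theorem L239737 : sm gd N30788 = N28085 := ded_14_2 L217620 L217360 L239735
theorem L239739 : sm ge N30788 = N27495 := ded_15_2 (flp_b L212941) (flp_e L212873) L239735
theorem L239741 : sm gg N30788 = N28082 := ded_17_2 (flp_b L217597) L188224 (flp_b L217336) (flp_g L217342) L239735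
theorem L239743 : sm gc N27488 = N30789 := rfl
theorem L239745 : sm ge N30789 = N27498 := ded_19_2 (flp_c L212957) (flp_e L212879) L239743
theorem L239747 : sm gf N30789 = N27490 := ded_20_2 (flp_c L212893) (flp_f L212881) L239743
theorem L239749 : sm gg N27488 = N30790 := rfl
theorem L239751 : sm ga N30790 = N29583 := ded_12_1 (flp_g L233315) L233313 L239749
theorem L239753 : sm gd N30790 = N27757 := ded_24_1 (flp_g L214898) (flp_d L212877) L239749
theorem L239755 : sm ge N30790 = N27499 := ded_26_1 (flp_g L212961) (flp_e L212879) L239749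
theorem L239757 : sm gf N29581 = N30790 := ded_29_0 (flp_g L239749) L212881 (flp_g L200053) L229162
theorem L239759 : sm gb N30790 = N28832 := ded_17_1 L223773 (flp_b L222920) (flp_g L212883) L212875 L239749
theorem L239761 : sm ga N27493 = N30791 := rfl
theorem L239763 : sm gd N30791 = N27509 := ded_9_2 (flp_a L213029) (flp_d L212925) L239761
theorem L239765 : sm ge N30791 = N27995 := ded_10_2 L216903 (flp_e L212927) L239761
theorem L239767 : sm gf N30791 = N27994 := ded_11_2 L216893 (flp_f L212929) L239761
theorem L239769 : sm gb N30791 = N30587 := ded_7_2 L237973 (flp_b L224887) (flp_a L231990) L231992 (flp_a L212951) (flp_b L182279) (flp_a L182267) L212923 L239761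
theorem L239771 : sm gc N27493 = N30792 := rfl
theorem L239773 : sm ge N30792 = N28732 := ded_19_2 L223070 (flp_e L212927) L239771
theorem L239775 : sm gf N30792 = N28721 := ded_20_2 (flp_c L223002) (flp_f L212929) L239771
theorem L239777 : sm gb N30792 = N29900 := ded_13_1 (flp_c L232068) L212921 L212915 L212923 L239771
theorem L239779 : sm gg N27493 = N30793 := rfl
theorem L239781 : sm gd N30793 = N27511 := ded_24_1 (flp_g L213043) (flp_d L212925) L239779
theorem L239783 : sm ge N30793 = N28734 := ded_26_1 (flp_g L223078) (flp_e L212927) L239779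
theorem L239785 : sm gb N30793 = N30708 := ded_17_1 (flp_g L239001) (flp_b L211909) L182271 L212923 L239779
theorem L239787 : sm gc N27495 = N30794 := rfl
theorem L239789 : sm ga N30794 = N30541 := ded_8_1 L237579 L231668 L239787
theorem L239791 : sm gf N30794 = N30541 := ded_20_2 L237579 L231672 L239787
theorem L239793 : sm gb N30794 = N27498 := ded_13_1 (flp_c L212957) (flp_b L182279) (flp_c L182277) L212941 L239787
theorem L239795 : sm gc N27497 = N30795 := rfl
theorem L239797 : sm ga N30795 = N27498 := ded_8_1 (flp_c L212957) L212951 L239795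
theorem L239799 : sm gf N30795 = N27501 := ded_20_2 (flp_c L212973) (flp_f L212955) L239795
theorem L239801 : sm gd N27498 = N30796 := rfl
theorem L239803 : sm gf N30796 = N27503 := ded_23_2 (flp_d L212985) (flp_f L212959) L239801
theorem L239805 : sm ge N29211 = N30796 := ded_25_3 L239803 (flp_e L212989) L226555
theorem L239807 : sm gg N27498 = N30797 := rfl
theorem L239809 : sm gc N30797 = N27499 := ded_21_1 (flp_g L212961) L212957 L239807
theorem L239811 : sm gb N28118 = N30797 := ded_13_5 L239809 (flp_b L212965) (flp_c L202744) (flp_b L228673) (flp_c L228679)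
theorem L239813 : sm gf N27500 = N30798 := rfl
theorem L239815 : sm gc N30798 = N28676 := ded_20_1 (flp_f L228651) (flp_c L228655) L239813
theorem L239817 : sm gd N30798 = N27520 := ded_23_1 (flp_f L213099) (flp_d L212969) L239813
theorem L239819 : sm gg N30798 = N29515 := ded_29_3 (flp_a L232420) (flp_f L232418) (flp_g L212971) L239813
theorem L239821 : sm gb N30798 = N28678 := ded_16_1 L222265 (flp_b L211873) L182291 L212967 L239813
theorem L239823 : sm gg N27501 = N30799 := rfl
theorem L239825 : sm ga N30799 = N27504 := ded_12_1 (flp_g L212991) (flp_a L212975) L239823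
theorem L239827 : sm gc N30799 = N27502 := ded_21_1 (flp_g L212977) L212973 L239823
theorem L239829 : sm gf N30799 = N30797 := ded_29_2 (flp_g L239807) (flp_a L239797) L239799 L239823
theorem L239831 : sm gb N27502 = N30800 := rfl
theorem L239833 : sm gd N30800 = N27521 := ded_14_2 (flp_b L213107) (flp_d L212981) L239831
theorem L239835 : sm ge N30800 = N30091 := ded_15_2 L233651 L229166 L239831
theorem L239837 : sm gg N30800 = N30087 := ded_17_2 (flp_b L233611) L203693 (flp_b L203581) L212977 L239831
theorem L239839 : sm ga N30687 = N30800 := ded_9_3 L239833 (flp_a L213113) L238781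
theorem L239841 : sm gg N27503 = N30801 := rfl
theorem L239843 : sm gd N30801 = N27504 := ded_24_1 (flp_g L212991) L212985 L239841
theorem L239845 : sm ge N30801 = N29212 := ded_26_1 (flp_g L226559) L212989 L239841
theorem L239847 : sm gf N27504 = N30802 := rfl
theorem L239849 : sm ga N30802 = N30797 := ded_11_1 (flp_f L239829) L239825 L239847
theorem L239851 : sm gc N30802 = N27505 := ded_20_1 (flp_f L212995) (flp_c L212993) L239847
theorem L239853 : sm gg N30802 = N30795 := ded_29_3 L239797 L212959 L212991 L239847
theorem L239855 : sm gf N27506 = N30803 := rfl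
theorem L239857 : sm ga N30803 = N27514 := ded_11_1 (flp_f L213061) (flp_a L213005) L239855
theorem L239859 : sm gc N30803 = N30095 := ded_20_1 (flp_f L233677) (flp_c L213009) L239855
theorem L239861 : sm gd N30803 = N27759 := ded_23_1 L214924 (flp_d L213011) L239855
theorem L239863 : sm ge N30803 = N27507 := ded_25_1 (flp_f L213013) L213003 L239855
theorem L239865 : sm gg N30803 = N30714 := ded_29_3 (flp_a L239581) L239585 L239045 L239855
theorem L239867 : sm gb N30803 = N30288 := ded_16_1 L235745 (flp_b L235741) (flp_f L206446) (flp_b L213007) L239855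
theorem L239869 : sm gb N27507 = N30804 := rfl
theorem L239871 : sm gd N30804 = N27508 := ded_14_2 (flp_b L213023) (flp_d L213019) L239869
theorem L239873 : sm ge N30804 = N30288 := ded_15_2 (flp_b L239867) L239863 L239869
theorem L239875 : sm gf N30804 = N30368 := ded_16_2 (flp_b L236089) (flp_f L207375) (flp_b L182311) L213013 L239869
theorem L239877 : sm gd N27510 = N30805 := rfl
theorem L239879 : sm ga N30805 = N30199 := ded_9_1 L234541 L219318 L239877
theorem L239881 : sm gf N30805 = N28884 := ded_23_2 (flp_d L224291) (flp_f L213041) L239877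
theorem L239883 : sm ge N30805 = N30201 := ded_22_2 L234561 (flp_e L219292) (flp_d L190523) (flp_e L213039) L239877
theorem L239885 : sm gf N27512 = N30806 := rfl
theorem L239887 : sm ga N30806 = N30095 := ded_11_1 (flp_f L233677) (flp_a L213051) L239885
theorem L239889 : sm gc N30806 = N27514 := ded_20_1 (flp_f L213061) (flp_c L213053) L239885
theorem L239891 : sm gd N30806 = N28882 := ded_23_1 L224275 L218760 L239885
theorem L239893 : sm ge N30806 = N27513 := ded_25_1 (flp_f L213055) L213049 L239885
theorem L239895 : sm gg N30686 = N30806 := ded_29_1 (flp_f L239885) (flp_g L239057) L239051 (flp_f L238779)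
theorem L239897 : sm gg N27515 = N30807 := rfl
theorem L239899 : sm gc N30807 = N30051 := ded_21_1 L233333 L224895 L239897
theorem L239901 : sm gd N30807 = N27518 := ded_24_1 (flp_g L213089) (flp_d L213069) L239897
theorem L239903 : sm gf N30047 = N30807 := ded_29_0 (flp_g L239897) L213071 L213137 (flp_a L233289)
theorem L239905 : sm gb N27518 = N30808 := rfl
theorem L239907 : sm ge N30808 = N27746 := ded_15_2 L214795 (flp_e L213091) L239905
theorem L239909 : sm gc N30808 = N28865 := ded_13_2 L224091 L232050 L232058 L213655 L239905
theorem L239911 : sm gf N30808 = N28900 := ded_16_2 L224427 (flp_f L224581) L224577 L213129 L239905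
theorem L239913 : sm gg N30808 = N27519 := ded_17_2 (flp_b L213093) (flp_g L182347) L182341 L213089 L239905
theorem L239915 : sm ga N30808 = N30417 := ded_7_1 (flp_b L236454) L208132 L208205 (flp_a L212065) L239177 L239187 L229980 L213145 L239905
theorem L239917 : sm gf N27525 = N30809 := rfl
theorem L239919 : sm ga N30809 = N30807 := ded_11_1 (flp_f L239903) L233289 L239917
theorem L239921 : sm gc N30809 = N30050 := ded_20_1 (flp_f L233321) L230620 L239917
theorem L239923 : sm gd N30809 = N27526 := ded_23_1 (flp_f L213143) (flp_d L213139) L239917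
theorem L239925 : sm gg N30809 = N30046 := ded_29_3 L233279 L213071 L213137 L239917
theorem L239927 : sm gf N27527 = N30810 := rfl
theorem L239929 : sm ga N30810 = N30792 := ded_11_1 L239775 L223004 L239927
theorem L239931 : sm gc N30810 = N30791 := ded_20_1 L239767 L216897 L239927
theorem L239933 : sm gd N30810 = N30040 := ded_23_1 (flp_f L233235) (flp_d L213155) L239927
theorem L239935 : sm ge N30810 = N27528 := ded_25_1 (flp_f L213157) L213151 L239927
theorem L239937 : sm gg N27527 = N30811 := rfl
theorem L239939 : sm gd N30811 = N30041 := ded_24_1 (flp_g L233239) (flp_d L213155) L239937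
theorem L239941 : sm ge N30811 = N27529 := ded_26_1 (flp_g L213159) L213151 L239937
theorem L239943 : sm gb N30811 = N27551 := ded_17_1 (flp_g L213281) L182476 (flp_g L182417) (flp_b L213153) L239937
theorem L239945 : sm gg N27528 = N30812 := rfl
theorem L239947 : sm gc N30812 = N27944 := ded_21_1 (flp_g L216909) L216905 L239945
theorem L239949 : sm gf N28733 = N30812 := ded_29_0 (flp_g L239945) (flp_f L213157) L213159 (flp_a L223074)
theorem L239951 : sm gf N27529 = N30813 := rfl
theorem L239953 : sm ga N30813 = N30812 := ded_11_1 (flp_f L239949) L223074 L239951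
theorem L239955 : sm gc N30813 = N28734 := ded_20_1 (flp_f L223084) L216922 L239951
theorem L239957 : sm gd N30813 = N28061 := ded_23_1 (flp_f L217428) L213855 L239951
theorem L239959 : sm gg N30813 = N28732 := ded_29_3 L223068 (flp_f L213157) L213159 L239951
theorem L239961 : sm gc N27530 = N30814 := rfl
theorem L239963 : sm ga N30814 = N29009 := ded_8_1 (flp_c L239287) L239277 L239961
theorem L239965 : sm ge N30814 = N29855 := ded_19_2 (flp_c L231646) (flp_e L213167) L239961
theorem L239967 : sm gb N30814 = N30027 := ded_13_1 L233155 (flp_b L214070) (flp_c L213179) (flp_b L213165) L239961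
theorem L239969 : sm gd N30814 = N29010 := ded_28_7 (flp_a L225285) (flp_c L197255) (flp_d L225307) L239651 (flp_d L239639) L212781 L213163 L239961
theorem L239971 : sm gf N29120 = N30814 := ded_11_0 L239963 L225281 L226005
theorem L239973 : sm gg N29022 = N30814 := ded_12_0 L239963 L225283 L225353
theorem L239975 : sm gf N27530 = N30815 := rfl
theorem L239977 : sm ga N30815 = N29121 := ded_11_1 (flp_f L239281) L239277 L239975
theorem L239979 : sm gc N30815 = N29120 := ded_20_1 L239971 (flp_c L239961) L239975
theorem L239981 : sm gd N30815 = N27531 := ded_23_1 (flp_f L213169) L213163 L239975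
theorem L239983 : sm ge N30815 = N29849 := ded_25_1 L231598 (flp_e L213167) L239975
theorem L239985 : sm gg N27530 = N30816 := rfl
theorem L239987 : sm ga N30816 = N29023 := ded_12_1 (flp_g L239283) L239277 L239985
theorem L239989 : sm gc N30816 = N29022 := ded_21_1 L239973 (flp_c L239961) L239985
theorem L239991 : sm gd N30816 = N27532 := ded_24_1 (flp_g L213173) L213163 L239985
theorem L239993 : sm ge N30816 = N29856 := ded_26_1 (flp_g L231648) (flp_e L213167) L239985
theorem L239995 : sm gb N29619 = N30816 := ded_7_0 L239987 (flp_b L235621) L235619 L206338 L173841 (flp_b L175236) (flp_a L207313) (flp_b L236041) L236039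
theorem L239997 : sm ge N27533 = N30817 := rfl
theorem L239999 : sm ga N30817 = N27540 := ded_10_1 (flp_e L213223) (flp_a L213181) L239997
theorem L240001 : sm gb N30817 = N30037 := ded_15_1 (flp_e L233221) (flp_b L214070) L239997
theorem L240003 : sm gc N30817 = N27534 := ded_19_1 (flp_e L213183) L213179 L239997
theorem L240005 : sm gf N27533 = N30818 := rfl
theorem L240007 : sm ga N30818 = N27541 := ded_11_1 (flp_f L213227) (flp_a L213181) L240005
theorem L240009 : sm gc N30818 = N27535 := ded_20_1 (flp_f L213191) L213179 L240005
theorem L240011 : sm gb N30818 = N28119 := ded_16_1 L217866 L234001 (flp_f L233227) (flp_b L214070) L240005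
theorem L240013 : sm gg N27533 = N30819 := rfl
theorem L240015 : sm ga N30819 = N27542 := ded_12_1 (flp_g L213231) (flp_a L213181) L240013
theorem L240017 : sm gc N30819 = N27536 := ded_21_1 (flp_g L213197) L213179 L240013
theorem L240019 : sm gb N27535 = N30820 := rfl
theorem L240021 : sm gd N30820 = N27537 := ded_14_2 (flp_b L213203) (flp_d L213195) L240019
theorem L240023 : sm gg N30820 = N30349 := ded_17_2 L235924 (flp_g L234029) L229986 L213247 L240019
theorem L240025 : sm ga N30353 = N30820 := ded_9_3 L240021 L213207 (flp_d L235962)
theorem L240027 : sm gb N27536 = N30821 := rfl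
theorem L240029 : sm gd N30821 = N27538 := ded_14_2 (flp_b L213213) (flp_d L213201) L240027
theorem L240031 : sm gg N30821 = N29619 := ded_17_2 L239995 (flp_g L239985) L213165 L213197 L240027
theorem L240033 : sm ge N27539 = N30822 := rfl
theorem L240035 : sm ga N30822 = N29261 := ded_10_1 (flp_e L234621) L234625 L240033
theorem L240037 : sm gc N30822 = N27684 := ded_19_1 (flp_e L218024) L218026 L240033
theorem L240039 : sm gf N27539 = N30823 := rfl
theorem L240041 : sm gd N30823 = N27541 := ded_23_1 (flp_f L213227) L213221 L240039
theorem L240043 : sm gg N27539 = N30824 := rfl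
theorem L240045 : sm gd N30824 = N27542 := ded_24_1 (flp_g L213231) L213221 L240043
theorem L240047 : sm gd N27540 = N30825 := rfl
theorem L240049 : sm gc N29464 = N30825 := ded_28_0 (flp_d L240047) L213225 L182447 (flp_c L178026) (flp_d L199484) L228311 (flp_d L228323) (flp_a L228327)
theorem L240051 : sm gb N27541 = N30826 := rfl
theorem L240053 : sm gc N30826 = N30826 := ded_13_2 (flp_b L240051) L213229 L182453 (flp_c L213229) L240051
theorem L240054 : sm ga N30826 = N30826 := ded_7_1 (flp_b L240051) (flp_a L240007) L240011 L217849 L188384 (flp_a L217849) (flp_b L240011) L240007 L240051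
theorem L240055 : sm gg N27541 = N30827 := rfl
theorem L240057 : sm gc N30827 = N27543 := ded_21_1 (flp_g L213235) (flp_c L213229) L240055
theorem L240059 : sm gf N30819 = N30827 := ded_29_0 (flp_g L240055) (flp_f L213227) L213231 (flp_a L240015)
theorem L240061 : sm gb N27542 = N30828 := rfl
theorem L240063 : sm gc N30828 = N30782 := ded_13_2 L239683 L230620 L213141 (flp_c L213233) L240061
theorem L240065 : sm ga N30548 = N30828 := ded_8_3 L240063 (flp_a L239673) (flp_c L237645)
theorem L240067 : sm gf N27542 = N30829 := rfl
theorem L240069 : sm ga N30829 = N30827 := ded_11_1 (flp_f L240059) L240015 L240067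
theorem L240071 : sm gc N30829 = N27544 := ded_20_1 (flp_f L213241) (flp_c L213233) L240067
theorem L240073 : sm gg N30829 = N30818 := ded_29_3 L240007 (flp_f L213227) L213231 L240067
theorem L240075 : sm ga N27545 = N30830 := rfl
theorem L240077 : sm ge N30830 = N27768 := ded_10_2 (flp_a L215016) (flp_e L213251) L240075
theorem L240079 : sm gg N30830 = N30830 := ded_12_2 (flp_a L240075) L213253 L240075
theorem L240080 : sm gb N30830 = N30346 := ded_7_2 L235896 (flp_b L215159) L215157 (flp_b L215183) L215181 L200735 L182466 L213249 L240075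
theorem L240082 : sm gf N30396 = N30830 := ded_25_0 L240077 (flp_f L215023) L236300
theorem L240084 : sm gc N27545 = N30831 := rfl
theorem L240086 : sm ge N30831 = N27769 := ded_19_2 (flp_c L215025) (flp_e L213251) L240084
theorem L240088 : sm gg N30831 = N30831 := ded_21_2 (flp_c L240084) L213253 L240084
theorem L240089 : sm gb N30831 = N28016 := ded_13_1 (flp_c L217076) (flp_b L213623) L182759 L213249 L240084
theorem L240091 : sm gd N28014 = N30831 := ded_22_5 L240086 (flp_d L215030) (flp_e L196712) (flp_d L196717) (flp_e L217055)
theorem L240093 : sm gf N27545 = N30832 := rfl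
theorem L240095 : sm ga N30832 = N30396 := ded_11_1 L240082 (flp_a L240075) L240093
theorem L240097 : sm ge N30832 = N27770 := ded_25_1 (flp_f L215032) (flp_e L213251) L240093
theorem L240099 : sm gg N30832 = N30396 := ded_29_3 (flp_a L240095) (flp_f L240093) L213253 L240093
theorem L240101 : sm gb N30832 = N29611 := ded_16_1 L229446 (flp_b L213213) L182462 L213249 L240093
theorem L240103 : sm ge N27546 = N30833 := rfl
theorem L240105 : sm ga N30833 = N29112 := ded_10_1 (flp_e L225965) (flp_a L214068) L240103
theorem L240107 : sm gb N30833 = N27547 := ded_15_1 (flp_e L213256) L213254 L240103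
theorem L240109 : sm gd N30833 = N30066 := ded_22_1 L233449 (flp_d L217876) L217878 L213929 L240103
theorem L240111 : sm gf N27546 = N30834 := rfl
theorem L240113 : sm ga N30834 = N29113 := ded_11_1 (flp_f L225971) (flp_a L214068) L240111
theorem L240115 : sm gg N27546 = N30835 := rfl
theorem L240117 : sm ga N30835 = N29114 := ded_12_1 (flp_g L225973) (flp_a L214068) L240115
theorem L240119 : sm gf N27547 = N30836 := rfl
theorem L240121 : sm ga N30836 = N27550 := ded_11_1 (flp_f L213272) (flp_a L213258) L240119
theorem L240123 : sm gc N30836 = N28072 := ded_20_1 L217536 (flp_c L213260) L240119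
theorem L240125 : sm ge N30836 = N27548 := ded_25_1 (flp_f L213262) L213256 L240119
theorem L240127 : sm gg N30836 = N29669 := ded_29_3 L229992 L230078 L230086 L240119
theorem L240129 : sm gb N27548 = N30837 := rfl
theorem L240131 : sm gg N30837 = N28795 := ded_17_2 (flp_b L223499) L223509 L226537 L213299 L240129
theorem L240133 : sm gc N28801 = N30837 := ded_21_3 L240131 L223501 L223527
theorem L240135 : sm gb N27549 = N30838 := rfl
theorem L240137 : sm gc N30838 = N29632 := ded_13_2 (flp_b L229626) (flp_c L200375) (flp_b L200373) (flp_c L213270) L240135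
theorem L240139 : sm gc N27555 = N30839 := rfl
theorem L240141 : sm ga N30839 = N30305 := ded_8_1 (flp_c L235499) L213319 L240139
theorem L240143 : sm ge N30839 = N28374 := ded_19_2 L219944 (flp_e L213315) L240139
theorem L240145 : sm gf N30839 = N28995 := ded_20_2 L225205 (flp_f L213317) L240139
theorem L240147 : sm gb N30839 = N28377 := ded_13_1 L219964 L210411 L193751 L213311 L240139
theorem L240149 : sm gd N30839 = N29102 := ded_28_7 (flp_a L234693) L234697 (flp_d L213891) L213889 L201338 L182541 (flp_d L213313) L240139
theorem L240151 : sm ga N27556 = N30840 := rfl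
theorem L240153 : sm gd N30840 = N28018 := ded_9_2 (flp_a L217090) (flp_d L213323) L240151
theorem L240155 : sm ge N30840 = N30510 := ded_10_2 (flp_a L237320) (flp_e L213325) L240151
theorem L240157 : sm gf N30840 = N29958 := ded_11_2 (flp_a L232580) (flp_f L213327) L240151
theorem L240159 : sm gg N28644 = N30840 := ded_29_3 (flp_a L240151) L213327 L238245 L238253
theorem L240161 : sm gb N30840 = N29955 := ded_7_2 L232548 (flp_b L204011) L197123 (flp_b L201462) (flp_a L210409) L210411 L193749 L213321 L240151
theorem L240163 : sm gg N27556 = N30841 := rfl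
theorem L240165 : sm ga N30841 = N28644 := ded_12_1 L240159 (flp_a L240151) L240163
theorem L240167 : sm gd N30841 = N28019 := ded_24_1 (flp_g L217100) (flp_d L213323) L240163
theorem L240169 : sm ge N30841 = N30512 := ded_26_1 (flp_g L237330) (flp_e L213325) L240163
theorem L240171 : sm gb N30841 = N28668 := ded_17_1 L237541 (flp_b L237531) L209911 L213321 L240163
theorem L240173 : sm gc N27557 = N30842 := rfl
theorem L240175 : sm ga N30842 = N29876 := ded_8_1 L239453 (flp_a L239451) L240173
theorem L240177 : sm gd N30842 = N29869 := ded_28_7 L231770 L202088 L170000 (flp_c L174392) L206863 (flp_c L206871) (flp_d L213331) L240173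
theorem L240179 : sm ga N27558 = N30843 := rfl
theorem L240181 : sm gd N30843 = N27559 := ded_9_2 (flp_a L213341) (flp_d L213335) L240179
theorem L240183 : sm ge N30843 = N29818 := ded_10_2 (flp_a L231282) (flp_e L213337) L240179
theorem L240185 : sm gf N30843 = N29820 := ded_11_2 (flp_a L231304) (flp_f L213339) L240179
theorem L240187 : sm gc N30843 = N27852 := ded_28_0 (flp_d L215805) (flp_c L186185) L154982 L155016 L186309 (flp_c L186313) (flp_d L213335) L240179
theorem L240189 : sm gc N27558 = N30844 := rfl
theorem L240191 : sm ga N30844 = N27852 := ded_8_1 (flp_c L240187) (flp_a L240179) L240189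
theorem L240193 : sm ge N30844 = N29819 := ded_19_2 (flp_c L231292) (flp_e L213337) L240189
theorem L240195 : sm gf N30844 = N27977 := ded_20_2 L216751 (flp_f L213339) L240189
theorem L240197 : sm gb N30844 = N30539 := ded_13_1 (flp_c L237561) (flp_b L209921) (flp_c L182569) L213333 L240189
theorem L240199 : sm gd N30844 = N27851 := ded_28_7 L215797 (flp_c L186185) L154982 L155016 L186309 (flp_c L186313) (flp_d L213335) L240189
theorem L240201 : sm gg N29831 = N30844 := ded_12_0 L240191 (flp_g L238977) L238979
theorem L240203 : sm gg N27558 = N30845 := rfl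
theorem L240205 : sm gc N30845 = N29831 := ded_21_1 L240201 (flp_c L240189) L240203
theorem L240207 : sm gd N30845 = N27560 := ded_24_1 (flp_g L213349) (flp_d L213335) L240203
theorem L240209 : sm ge N30845 = N29742 := ded_26_1 L230582 (flp_e L213337) L240203
theorem L240211 : sm gb N30845 = N29744 := ded_17_1 L230600 (flp_b L213311) (flp_g L182575) L213333 L240203
theorem L240213 : sm gb N27563 = N30846 := rfl
theorem L240215 : sm gd N30846 = N28015 := ded_14_2 L217064 L216783 L240213
theorem L240217 : sm ge N30846 = N27571 := ded_15_2 (flp_b L213443) (flp_e L213375) L240213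
theorem L240219 : sm gf N30846 = N28012 := ded_16_2 (flp_b L217041) (flp_f L187878) (flp_b L216771) L216777 L240213
theorem L240221 : sm gc N27564 = N30847 := rfl
theorem L240223 : sm ge N30847 = N27574 := ded_19_2 (flp_c L213459) (flp_e L213381) L240221
theorem L240225 : sm gg N30847 = N27566 := ded_21_2 (flp_c L213395) (flp_g L213383) L240221
theorem L240227 : sm gf N27564 = N30848 := rfl
theorem L240229 : sm ga N30848 = N29829 := ded_11_1 L234079 L234077 L240227
theorem L240231 : sm gd N30848 = N27782 := ded_23_1 (flp_f L215137) (flp_d L213379) L240227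
theorem L240233 : sm ge N30848 = N27575 := ded_25_1 (flp_f L213463) (flp_e L213381) L240227
theorem L240235 : sm gg N30848 = N29827 := ded_29_3 (flp_a L231372) L201750 (flp_g L213383) L240227
theorem L240237 : sm gb N30848 = N28863 := ded_16_1 L224081 (flp_b L223365) (flp_f L213385) L213377 L240227
theorem L240239 : sm ga N27569 = N30849 := rfl
theorem L240241 : sm gd N30849 = N27585 := ded_9_2 (flp_a L213531) (flp_d L213427) L240239
theorem L240243 : sm ge N30849 = N28066 := ded_10_2 L217474 (flp_e L213429) L240239
theorem L240245 : sm gg N30849 = N28064 := ded_12_2 L217456 (flp_g L213431) L240239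
theorem L240247 : sm gb N30849 = N30588 := ded_7_2 L237983 (flp_b L224907) (flp_a L229900) L229902 (flp_a L213453) (flp_b L182641) (flp_a L182629) L213425 L240239
theorem L240249 : sm gc N27569 = N30850 := rfl
theorem L240251 : sm ge N30850 = N28797 := ded_19_2 L223513 (flp_e L213429) L240249
theorem L240253 : sm gg N30850 = N28785 := ded_21_2 (flp_c L223429) (flp_g L213431) L240249
theorem L240255 : sm gb N30850 = N29669 := ded_13_1 (flp_c L229990) L213423 L213417 L213425 L240249
theorem L240257 : sm gf N27569 = N30851 := rfl
theorem L240259 : sm gd N30851 = N27587 := ded_23_1 (flp_f L213545) (flp_d L213427) L240257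
theorem L240261 : sm ge N30851 = N28798 := ded_25_1 (flp_f L223515) (flp_e L213429) L240257
theorem L240263 : sm gb N30851 = N30764 := ded_16_1 (flp_f L239503) (flp_b L212553) (flp_f L182633) L213425 L240257
theorem L240265 : sm gc N27571 = N30852 := rfl
theorem L240267 : sm ga N30852 = N30524 := ded_8_1 L237433 L229520 L240265
theorem L240269 : sm gg N30852 = N30524 := ded_21_2 L237433 L229524 L240265
theorem L240271 : sm gb N30852 = N27574 := ded_13_1 (flp_c L213459) (flp_b L182641) (flp_c L182639) L213443 L240265
theorem L240273 : sm gc N27573 = N30853 := rfl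
theorem L240275 : sm ga N30853 = N27574 := ded_8_1 (flp_c L213459) L213453 L240273
theorem L240277 : sm gg N30853 = N27577 := ded_21_2 (flp_c L213475) (flp_g L213457) L240273
theorem L240279 : sm gb N30853 = N30829 := ded_13_1 L240071 (flp_b L229986) (flp_c L229988) L229902 L240273
theorem L240281 : sm gd N27574 = N30854 := rfl
theorem L240283 : sm gg N30854 = N27579 := ded_24_2 (flp_d L213487) (flp_g L213461) L240281
theorem L240285 : sm ge N29267 = N30854 := ded_26_3 L240283 (flp_e L213491) L226970
theorem L240287 : sm gf N27574 = N30855 := rfl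
theorem L240289 : sm gc N30855 = N27575 := ded_20_1 (flp_f L213463) L213459 L240287
theorem L240291 : sm gb N28103 = N30855 := ded_13_5 L240289 (flp_b L213467) (flp_c L201097) (flp_b L227752) (flp_c L227758)
theorem L240293 : sm gg N27576 = N30856 := rfl
theorem L240295 : sm gc N30856 = N28619 := ded_21_1 (flp_g L227734) (flp_c L227736) L240293
theorem L240297 : sm gd N30856 = N27596 := ded_24_1 (flp_g L213605) (flp_d L213471) L240293
theorem L240299 : sm gf N29375 = N30856 := ded_29_0 (flp_g L240293) L213473 L230404 L230406
theorem L240301 : sm gb N30856 = N28621 := ded_17_1 L221784 (flp_b L212517) (flp_g L182653) L213469 L240293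
theorem L240303 : sm gf N27577 = N30857 := rfl
theorem L240305 : sm ga N30857 = N27580 := ded_11_1 (flp_f L213493) (flp_a L213477) L240303
theorem L240307 : sm gc N30857 = N27578 := ded_20_1 (flp_f L213479) L213475 L240303
theorem L240309 : sm gg N30855 = N30857 := ded_29_1 (flp_f L240303) (flp_g L240277) L240275 L240287
theorem L240311 : sm gb N30857 = N30799 := ded_16_1 L239829 (flp_b L239811) (flp_f L217843) (flp_b L214393) L240303
theorem L240313 : sm gb N27578 = N30858 := rfl
theorem L240315 : sm gd N30858 = N27597 := ded_14_2 (flp_b L213613) (flp_d L213483) L240313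
theorem L240317 : sm ge N30858 = N30184 := ded_15_2 L234405 L231376 L240313
theorem L240319 : sm gc N30858 = N30800 := ded_13_2 (flp_b L239831) (flp_c L239827) (flp_b L240311) L240307 L240313
theorem L240321 : sm gf N30858 = N30180 := ded_16_2 (flp_b L234359) (flp_f L204187) (flp_b L204093) L213479 L240313
theorem L240323 : sm ga N30752 = N30858 := ded_9_3 L240315 L213621 L239395
theorem L240325 : sm gf N27579 = N30859 := rfl
theorem L240327 : sm gd N30859 = N27580 := ded_23_1 (flp_f L213493) L213487 L240325
theorem L240329 : sm ge N30859 = N29266 := ded_25_1 (flp_f L226966) L213491 L240325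
theorem L240331 : sm gg N27580 = N30860 := rfl
theorem L240333 : sm ga N30860 = N30855 := ded_12_1 L240309 L240305 L240331
theorem L240335 : sm gc N30860 = N27581 := ded_21_1 (flp_g L213497) (flp_c L213495) L240331
theorem L240337 : sm gf N30853 = N30860 := ded_29_0 (flp_g L240331) (flp_f L213493) (flp_g L213461) (flp_a L240275)
theorem L240339 : sm gg N27582 = N30861 := rfl
theorem L240341 : sm ga N30861 = N27590 := ded_12_1 (flp_g L213563) (flp_a L213507) L240339
theorem L240343 : sm gc N30861 = N30190 := ded_21_1 (flp_g L234447) (flp_c L213511) L240339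
theorem L240345 : sm gd N30861 = N27784 := ded_24_1 L215165 (flp_d L213513) L240339
theorem L240347 : sm ge N30861 = N27583 := ded_26_1 (flp_g L213515) L213505 L240339
theorem L240349 : sm gf N30733 = N30861 := ded_29_0 (flp_g L240339) (flp_f L239195) L239197 (flp_a L239217)
theorem L240351 : sm gb N30861 = N30347 := ded_17_1 L236095 (flp_b L236089) L207383 (flp_b L213509) L240339
theorem L240353 : sm gb N27583 = N30862 := rfl
theorem L240355 : sm gd N30862 = N27584 := ded_14_2 (flp_b L213525) (flp_d L213521) L240353
theorem L240357 : sm ge N30862 = N30347 := ded_15_2 (flp_b L240351) L240347 L240353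
theorem L240359 : sm gg N30862 = N30331 := ded_17_2 (flp_b L235741) (flp_g L206440) (flp_b L182673) L213515 L240353
theorem L240361 : sm gd N27586 = N30863 := rfl
theorem L240363 : sm ga N30863 = N30106 := ded_9_1 L233781 L219214 L240361
theorem L240365 : sm gg N30863 = N28892 := ded_24_2 (flp_d L224359) (flp_g L213543) L240361
theorem L240367 : sm ge N30863 = N30109 := ded_22_2 L233809 (flp_e L219188) (flp_d L190327) (flp_e L213541) L240361
theorem L240369 : sm gg N27588 = N30864 := rfl
theorem L240371 : sm ga N30864 = N30190 := ded_12_1 (flp_g L234447) (flp_a L213553) L240369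
theorem L240373 : sm gc N30864 = N27590 := ded_21_1 (flp_g L213563) (flp_c L213555) L240369
theorem L240375 : sm gd N30864 = N28890 := ded_24_1 L224343 L218970 L240369
theorem L240377 : sm ge N30864 = N27589 := ded_26_1 (flp_g L213557) L213551 L240369
theorem L240379 : sm gf N30864 = N30751 := ded_29_2 L239389 (flp_a L239205) L239209 L240369
theorem L240381 : sm gf N27591 = N30865 := rfl
theorem L240383 : sm gc N30865 = N30143 := ded_20_1 (flp_f L234065) L224915 L240381
theorem L240385 : sm gd N30865 = N27594 := ded_23_1 (flp_f L213593) (flp_d L213571) L240381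
theorem L240387 : sm gg N30865 = N30140 := ded_29_3 L234033 (flp_f L213645) (flp_g L213573) L240381
theorem L240389 : sm gb N27594 = N30866 := rfl
theorem L240391 : sm ge N30866 = N27730 := ded_15_2 L214633 (flp_e L213597) L240389
theorem L240393 : sm gc N30866 = N28837 := ded_13_2 L223859 L229972 L229980 (flp_c L213595) L240389
theorem L240395 : sm gf N30866 = N27595 := ded_16_2 (flp_b L213599) (flp_f L182711) L182703 L213593 L240389
theorem L240397 : sm gg N30866 = N28914 := ded_17_2 L224549 (flp_g L224471) L224465 (flp_g L213637) L240389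
theorem L240399 : sm ga N30866 = N30420 := ded_7_1 (flp_b L236480) L208175 L208353 (flp_a L212701) L239617 L239627 L232058 L213653 L240389
theorem L240401 : sm gg N27601 = N30867 := rfl
theorem L240403 : sm ga N30867 = N30865 := ded_12_1 L240387 L234033 L240401
theorem L240405 : sm gc N30867 = N30145 := ded_21_1 L234087 L232550 L240401
theorem L240407 : sm gd N30867 = N27602 := ded_24_1 (flp_g L213651) (flp_d L213647) L240401
theorem L240409 : sm gf N30141 = N30867 := ded_29_0 (flp_g L240401) (flp_f L213645) (flp_g L213573) (flp_a L234041)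
theorem L240411 : sm gf N27603 = N30868 := rfl
theorem L240413 : sm gd N30868 = N30134 := ded_23_1 (flp_f L233983) (flp_d L213665) L240411
theorem L240415 : sm ge N30868 = N27604 := ded_25_1 (flp_f L213667) L213661 L240411
theorem L240417 : sm gb N30868 = N27626 := ded_16_1 (flp_f L213782) L182866 (flp_f L182799) (flp_b L213663) L240411
theorem L240419 : sm gg N27603 = N30869 := rfl
theorem L240421 : sm ga N30869 = N30850 := ded_12_1 L240253 L223431 L240419
theorem L240423 : sm gc N30869 = N30849 := ded_21_1 L240245 L217460 L240419
theorem L240425 : sm gd N30869 = N30135 := ded_24_1 (flp_g L233989) (flp_d L213665) L240419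
theorem L240427 : sm ge N30869 = N27605 := ded_26_1 (flp_g L213671) L213661 L240419
theorem L240429 : sm gg N27604 = N30870 := rfl
theorem L240431 : sm gc N30870 = N28798 := ded_21_1 L223521 L217468 L240429
theorem L240433 : sm gd N30870 = N27991 := ded_24_1 (flp_g L216865) L214152 L240429
theorem L240435 : sm gf N28797 = N30870 := ded_29_0 (flp_g L240429) (flp_f L213667) L213671 (flp_a L223511)
theorem L240437 : sm gb N30870 = N30813 := ded_17_1 L239959 L226940 (flp_g L213797) (flp_b L213669) L240429
theorem L240439 : sm gf N27605 = N30871 := rfl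
theorem L240441 : sm ga N30871 = N30870 := ded_11_1 (flp_f L240435) L223511 L240439
theorem L240443 : sm gc N30871 = N27940 := ded_20_1 (flp_f L217480) L217476 L240439
theorem L240445 : sm gg N30871 = N28796 := ded_29_3 L223505 (flp_f L213667) L213671 L240439
theorem L240447 : sm gc N27606 = N30872 := rfl
theorem L240449 : sm ga N30872 = N29014 := ded_8_1 L239651 L239641 L240447
theorem L240451 : sm ge N30872 = N29618 := ded_19_2 (flp_c L229500) (flp_e L213677) L240447
theorem L240453 : sm gb N30872 = N30121 := ded_13_1 L233903 (flp_b L214391) (flp_c L213689) (flp_b L213675) L240447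
theorem L240455 : sm gd N30872 = N29015 := ded_28_7 (flp_a L225313) L197255 (flp_d L225279) (flp_c L239287) (flp_d L239275) L212201 L213673 L240447
theorem L240457 : sm gf N29033 = N30872 := ded_11_0 L240449 L225309 L225407
theorem L240459 : sm gg N29171 = N30872 := ded_12_0 L240449 L225311 L226291
theorem L240461 : sm gf N27606 = N30873 := rfl
theorem L240463 : sm ga N30873 = N29034 := ded_11_1 (flp_f L239645) L239641 L240461
theorem L240465 : sm gc N30873 = N29033 := ded_20_1 L240457 (flp_c L240447) L240461
theorem L240467 : sm gd N30873 = N27607 := ded_23_1 (flp_f L213679) L213673 L240461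
theorem L240469 : sm ge N30873 = N29619 := ded_25_1 (flp_f L229502) (flp_e L213677) L240461
theorem L240471 : sm gb N29856 = N30873 := ded_7_0 L240463 (flp_b L235519) L235517 L206164 L173729 (flp_b L173811) (flp_a L206302) (flp_b L235597) L235595
theorem L240473 : sm gg N27606 = N30874 := rfl
theorem L240475 : sm ga N30874 = N29172 := ded_12_1 (flp_g L239647) L239641 L240473
theorem L240477 : sm gc N30874 = N29171 := ded_21_1 L240459 (flp_c L240447) L240473
theorem L240479 : sm gd N30874 = N27608 := ded_24_1 (flp_g L213685) L213673 L240473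
theorem L240481 : sm ge N30874 = N29612 := ded_26_1 L229452 (flp_e L213677) L240473
theorem L240483 : sm ge N27609 = N30875 := rfl
theorem L240485 : sm ga N30875 = N27616 := ded_10_1 (flp_e L213733) (flp_a L213691) L240483
theorem L240487 : sm gb N30875 = N30131 := ded_15_1 (flp_e L233969) (flp_b L214391) L240483
theorem L240489 : sm gc N30875 = N27610 := ded_19_1 (flp_e L213693) L213689 L240483
theorem L240491 : sm gf N27609 = N30876 := rfl
theorem L240493 : sm ga N30876 = N27617 := ded_11_1 (flp_f L213737) (flp_a L213691) L240491
theorem L240495 : sm gc N30876 = N27611 := ded_20_1 (flp_f L213701) L213689 L240491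
theorem L240497 : sm gg N27609 = N30877 := rfl
theorem L240499 : sm ga N30877 = N27618 := ded_12_1 (flp_g L213741) (flp_a L213691) L240497
theorem L240501 : sm gc N30877 = N27612 := ded_21_1 (flp_g L213707) L213689 L240497
theorem L240503 : sm gb N30877 = N28102 := ded_17_1 (flp_g L217771) L234003 (flp_g L233979) (flp_b L214391) L240497
theorem L240505 : sm gb N27611 = N30878 := rfl
theorem L240507 : sm gd N30878 = N27613 := ded_14_2 (flp_b L213713) (flp_d L213705) L240505
theorem L240509 : sm gf N30878 = N29856 := ded_16_2 L240471 (flp_f L240461) L213675 L213701 L240505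
theorem L240511 : sm gb N27612 = N30879 := rfl
theorem L240513 : sm gd N30879 = N27614 := ded_14_2 (flp_b L213721) (flp_d L213711) L240511
theorem L240515 : sm gf N30879 = N30290 := ded_16_2 L235366 (flp_f L233275) L232064 (flp_f L213749) L240511
theorem L240517 : sm ga N30293 = N30879 := ded_9_3 L240513 (flp_a L213727) (flp_d L235396)
theorem L240519 : sm ge N27615 = N30880 := rfl
theorem L240521 : sm ga N30880 = N29206 := ded_10_1 (flp_e L234767) L234771 L240519
theorem L240523 : sm gc N30880 = N27644 := ded_19_1 (flp_e L217878) L217880 L240519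
theorem L240525 : sm gf N27615 = N30881 := rfl
theorem L240527 : sm gd N30881 = N27617 := ded_23_1 (flp_f L213737) L213731 L240525
theorem L240529 : sm gg N27615 = N30882 := rfl
theorem L240531 : sm gd N30882 = N27618 := ded_24_1 (flp_g L213741) L213731 L240529
theorem L240533 : sm gd N27616 = N30883 := rfl
theorem L240535 : sm gc N29322 = N30883 := ded_28_0 (flp_d L240533) L213735 L182833 (flp_c L178066) (flp_d L198932) L227371 L227383 (flp_a L227387)
theorem L240537 : sm gb N27617 = N30884 := rfl
theorem L240539 : sm gc N30884 = N30840 := ded_13_2 L240161 L232550 L213649 (flp_c L213739) L240537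
theorem L240541 : sm ga N30884 = N30531 := ded_30_3 (flp_f L238241) (flp_c L238237) (flp_b L211049) (flp_a L181869) (flp_f L181875) (flp_c L156583) (flp_b L166925) L166923 L197333 L197335 L197341 L225407 L240457 (flp_c L240447) L213675 L182809 L182835 (flp_c L213739) L240537
theorem L240543 : sm gg N27617 = N30885 := rfl
theorem L240545 : sm gc N30885 = N27619 := ded_21_1 (flp_g L213745) (flp_c L213739) L240543
theorem L240547 : sm gf N30877 = N30885 := ded_29_0 (flp_g L240543) (flp_f L213737) L213741 (flp_a L240499)
theorem L240549 : sm gb N30795 = N30885 := ded_31_14 (flp_g L240543) (flp_f L213737) (flp_b L183140) (flp_g L222752) (flp_f L214080) L182985 L213231 L240067 (flp_b L240279) L240277 L240303 L240311 (flp_g L239823) (flp_f L239799)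
theorem L240551 : sm gb N27618 = N30886 := rfl
theorem L240553 : sm gc N30886 = N30886 := ded_13_2 (flp_b L240551) L213743 L182843 (flp_c L213743) L240551
theorem L240554 : sm ga N30886 = N30886 := ded_7_1 (flp_b L240551) (flp_a L240499) L240503 L217744 L188310 (flp_a L217744) (flp_b L240503) L240499 L240551
theorem L240555 : sm gf N27618 = N30887 := rfl
theorem L240557 : sm ga N30887 = N30885 := ded_11_1 (flp_f L240547) L240499 L240555
theorem L240559 : sm gc N30887 = N27620 := ded_20_1 (flp_f L213751) (flp_c L213743) L240555
theorem L240561 : sm gg N30887 = N30876 := ded_29_3 L240493 (flp_f L213737) L213741 L240555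
theorem L240563 : sm ga N27621 = N30888 := rfl
theorem L240565 : sm ge N30888 = N27793 := ded_10_2 (flp_a L215259) (flp_e L213761) L240563
theorem L240567 : sm gf N30888 = N30888 := ded_11_2 (flp_a L240563) L213763 L240563
theorem L240568 : sm gb N30888 = N30287 := ded_7_2 L235338 (flp_b L214920) L214918 (flp_b L214944) L214942 L202376 (flp_a L182854) L213759 L240563
theorem L240570 : sm gg N30376 = N30888 := ded_26_0 L240565 (flp_g L215266) L236161
theorem L240572 : sm gc N27621 = N30889 := rfl
theorem L240574 : sm ge N30889 = N27794 := ded_19_2 (flp_c L215268) (flp_e L213761) L240572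
theorem L240576 : sm gf N30889 = N30889 := ded_20_2 (flp_c L240572) L213763 L240572
theorem L240577 : sm gb N30889 = N28086 := ded_13_1 (flp_c L217632) (flp_b L213117) (flp_c L182856) L213759 L240572
theorem L240579 : sm gd N28084 = N30889 := ded_22_5 L240574 (flp_d L215273) (flp_e L196822) (flp_d L196827) (flp_e L217611)
theorem L240581 : sm gg N27621 = N30890 := rfl
theorem L240583 : sm ga N30890 = N30376 := ded_12_1 L240570 (flp_a L240563) L240581
theorem L240585 : sm ge N30890 = N27795 := ded_26_1 (flp_g L215275) (flp_e L213761) L240581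
theorem L240587 : sm gf N30376 = N30890 := ded_29_0 (flp_g L240581) L213763 L240581 L240583
theorem L240589 : sm gb N30890 = N29848 := ded_17_1 L231594 (flp_b L213713) (flp_g L182860) L213759 L240581
theorem L240591 : sm ge N27622 = N30891 := rfl
theorem L240593 : sm ga N30891 = N29163 := ded_10_1 (flp_e L226251) (flp_a L214389) L240591
theorem L240595 : sm gb N30891 = N27623 := ded_15_1 (flp_e L213766) L213764 L240591
theorem L240597 : sm gd N30891 = N30161 := ded_22_1 L234209 (flp_d L218022) L218024 L214242 L240591
theorem L240599 : sm gf N27622 = N30892 := rfl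
theorem L240601 : sm ga N30892 = N29164 := ded_11_1 (flp_f L226257) (flp_a L214389) L240599
theorem L240603 : sm gg N30838 = N30892 := ded_31_0 (flp_f L240599) (flp_b L213764) L213778 L213799 (flp_b L226940) (flp_g L239959) (flp_f L239951) L213161 (flp_g L182481) L182478 L182480 L213287 (flp_f L213293) L240135
theorem L240605 : sm gf N30838 = N29165 := ded_29_2 (flp_g L226259) (flp_a L214389) L240599 (flp_g L240603)
theorem L240607 : sm gb N30892 = N30835 := ded_17_1 (flp_g L240115) (flp_b L213254) L213266 L240135 L240603
theorem L240609 : sm gg N27622 = N30893 := rfl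
theorem L240611 : sm ga N30893 = N29165 := ded_12_1 (flp_g L226259) (flp_a L214389) L240609
theorem L240613 : sm gg N27623 = N30894 := rfl
theorem L240615 : sm ga N30894 = N27627 := ded_12_1 (flp_g L213788) (flp_a L213768) L240613
theorem L240617 : sm gc N30894 = N28002 := ded_21_1 L216982 (flp_c L213770) L240613
theorem L240619 : sm ge N30894 = N27625 := ded_26_1 (flp_g L213778) L213766 L240613
theorem L240621 : sm gf N29900 = N30894 := ded_29_0 (flp_g L240613) L232158 (flp_g L232150) (flp_a L232070)
theorem L240623 : sm gb N27624 = N30895 := rfl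
theorem L240625 : sm gc N30895 = N29868 := ded_13_2 (flp_b L231764) (flp_c L202066) (flp_b L202062) (flp_c L213776) L240623
theorem L240627 : sm gf N30895 = N30835 := ded_16_2 (flp_b L240607) (flp_f L240599) (flp_b L213764) L213772 L240623
theorem L240629 : sm gg N30895 = N29113 := ded_29_1 (flp_f L225971) L225973 (flp_a L240117) (flp_f L240627)
theorem L240631 : sm gb N27625 = N30896 := rfl
theorem L240633 : sm gf N30896 = N28731 := ded_16_2 (flp_b L223062) L223066 L226940 (flp_f L213799) L240631
theorem L240635 : sm gc N28737 = N30896 := ded_20_3 L240633 L223064 L223092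
theorem L240637 : sm gd N27631 = N30897 := rfl
theorem L240639 : sm ga N30897 = N30331 := ded_9_1 L235743 (flp_a L213819) L240637
theorem L240641 : sm gb N30897 = N30897 := ded_14_1 (flp_d L240637) L213823 L240637
theorem L240642 : sm gf N30897 = N29902 := ded_23_2 L235344 L235342 L240637
theorem L240644 : sm gc N30897 = N29904 := ded_28_6 L232098 (flp_a L217692) L217688 (flp_d L232176) L232174 L213813 L213817 L240637
theorem L240646 : sm gg N27634 = N30898 := rfl
theorem L240648 : sm ga N30898 = N28061 := ded_12_1 (flp_g L226936) L226930 L240646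
theorem L240650 : sm gc N30898 = N28060 := ded_21_1 (flp_g L226918) L226914 L240646
theorem L240652 : sm gd N30898 = N30812 := ded_24_1 (flp_g L239945) (flp_d L213847) L240646
theorem L240654 : sm ge N30898 = N30210 := ded_26_1 (flp_g L234651) (flp_e L213849) L240646
theorem L240656 : sm gf N29263 = N30898 := ded_29_0 (flp_g L240646) (flp_f L213845) L213853 (flp_a L226944)
theorem L240658 : sm ga N27636 = N30899 := rfl
theorem L240660 : sm gd N30899 = N29750 := ded_9_2 (flp_a L230650) (flp_d L213863) L240658
theorem L240662 : sm ge N30899 = N27660 := ded_10_2 L214002 (flp_e L213865) L240658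
theorem L240664 : sm gc N30899 = N27636 := ded_28_0 L213863 L201360 L169563 L168226 (flp_d L169563) (flp_c L201360) (flp_d L213863) L240658
theorem L240666 : sm gb N30899 = N30822 := ded_7_2 L240035 (flp_b L226922) L198585 (flp_b L182912) L145752 L145762 L182918 L213861 L240658
theorem L240668 : sm gf N27636 = N30900 := rfl
theorem L240670 : sm gd N30900 = N29752 := ded_23_1 (flp_f L230660) (flp_d L213863) L240668
theorem L240672 : sm ge N30900 = N30211 := ded_25_1 (flp_f L234661) (flp_e L213865) L240668
theorem L240674 : sm gg N27676 = N30900 := ded_24_0 L240670 (flp_g L230925) (flp_d L214168)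
theorem L240676 : sm gg N27636 = N30901 := rfl
theorem L240678 : sm gd N30901 = N29753 := ded_24_1 (flp_g L230664) (flp_d L213863) L240676
theorem L240680 : sm ge N30901 = N30212 := ded_26_1 (flp_g L234663) (flp_e L213865) L240676
theorem L240682 : sm gb N27637 = N30902 := rfl
theorem L240684 : sm gd N30902 = N29757 := ded_14_2 (flp_b L230688) (flp_d L213871) L240682
theorem L240686 : sm ge N30902 = N30215 := ded_15_2 (flp_b L234687) (flp_e L213873) L240682
theorem L240688 : sm gg N30902 = N29256 := ded_17_2 (flp_b L226894) (flp_g L198530) L198514 L222844 L240682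
theorem L240690 : sm ga N30902 = N29226 := ded_7_1 L226669 (flp_a L198446) (flp_b L222898) L214270 L226938 L226930 L213851 (flp_a L213869) L240682
theorem L240692 : sm gc N29225 = N30902 := ded_21_3 L240688 (flp_c L227104) L227106
theorem L240694 : sm gb N27638 = N30903 := rfl
theorem L240696 : sm gd N30903 = N29758 := ded_14_2 (flp_b L230690) (flp_d L213879) L240694
theorem L240698 : sm ge N30903 = N30216 := ded_15_2 (flp_b L234689) (flp_e L213881) L240694
theorem L240700 : sm gf N27639 = N30904 := rfl
theorem L240702 : sm ga N30904 = N29755 := ded_11_1 (flp_f L230676) (flp_a L213885) L240700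
theorem L240704 : sm gc N30904 = N29747 := ded_20_1 (flp_f L230624) (flp_c L213889) L240700
theorem L240706 : sm gd N30904 = N30220 := ded_23_1 (flp_f L234719) (flp_d L213891) L240700
theorem L240708 : sm ge N30904 = N27640 := ded_25_1 (flp_f L213893) L213883 L240700
theorem L240710 : sm gb N30904 = N30810 := ded_16_1 (flp_f L239927) L213153 (flp_f L182948) (flp_b L213887) L240700
theorem L240712 : sm gg N27639 = N30905 := rfl
theorem L240714 : sm ga N30905 = N29756 := ded_12_1 (flp_g L230682) (flp_a L213885) L240712
theorem L240716 : sm gc N30905 = N29748 := ded_21_1 (flp_g L230632) (flp_c L213889) L240712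
theorem L240718 : sm gd N30905 = N30221 := ded_24_1 (flp_g L234725) (flp_d L213891) L240712
theorem L240720 : sm ge N30905 = N27641 := ded_26_1 (flp_g L213903) L213883 L240712
theorem L240722 : sm gb N30905 = N27665 := ded_17_1 (flp_g L214093) L182989 (flp_g L182950) (flp_b L213887) L240712
theorem L240724 : sm gb N27642 = N30906 := rfl
theorem L240726 : sm ge N30906 = N30224 := ded_15_2 (flp_b L234747) (flp_e L213915) L240724
theorem L240728 : sm gc N30906 = N29248 := ded_13_2 L226840 (flp_c L226932) (flp_b L226938) L214262 L240724
theorem L240730 : sm gf N29246 = N30906 := ded_31_1 (flp_b L240724) (flp_g L213913) (flp_f L182932) (flp_b L145762) L104583 L89446 L104605 L145791 L222829 (flp_b L214361) L167791 L198709 L227112 (flp_g L227118)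
theorem L240732 : sm gf N27644 = N30907 := rfl
theorem L240734 : sm ga N30907 = N29211 := ded_11_1 (flp_f L226555) (flp_a L214064) L240732
theorem L240736 : sm gd N30907 = N30834 := ded_23_1 (flp_f L240111) (flp_d L213929) L240732
theorem L240738 : sm gg N27644 = N30908 := rfl
theorem L240740 : sm ga N30908 = N29212 := ded_12_1 (flp_g L226559) (flp_a L214064) L240738
theorem L240742 : sm gd N30908 = N30835 := ded_24_1 (flp_g L240115) (flp_d L213929) L240738
theorem L240744 : sm gb N27645 = N30909 := rfl
theorem L240746 : sm gd N30909 = N30837 := ded_14_2 (flp_b L240129) (flp_d L213935) L240744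
theorem L240748 : sm gg N30909 = N29206 := ded_17_2 (flp_b L226511) L226525 (flp_b L226535) L213955 L240744
theorem L240750 : sm gc N29212 = N30909 := ded_21_3 L240748 L226515 L226559
theorem L240752 : sm gb N27646 = N30910 := rfl
theorem L240754 : sm gd N30910 = N30838 := ded_14_2 (flp_b L240135) (flp_d L213941) L240752
theorem L240756 : sm gf N30910 = N29267 := ded_16_2 L226992 (flp_f L226397) (flp_b L222894) (flp_f L213947) L240752
theorem L240758 : sm ge N27654 = N30911 := rfl
theorem L240760 : sm ga N30911 = N27661 := ded_10_1 (flp_e L214074) (flp_a L213972) L240758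
theorem L240762 : sm gb N30911 = N29754 := ded_15_1 L230672 L214056 L240758
theorem L240764 : sm gc N30911 = N27655 := ded_19_1 (flp_e L213974) L213970 L240758
theorem L240766 : sm gd N30911 = N29751 := ded_22_1 (flp_e L230654) (flp_d L213863) L213865 (flp_d L214000) L240758
theorem L240768 : sm gf N27654 = N30912 := rfl
theorem L240770 : sm ga N30912 = N27662 := ded_11_1 (flp_f L214080) (flp_a L213972) L240768
theorem L240772 : sm gc N30912 = N27656 := ded_20_1 (flp_f L213978) L213970 L240768
theorem L240774 : sm gd N30912 = N30211 := ded_23_1 (flp_f L234661) (flp_d L214000) L240768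
theorem L240776 : sm gg N30912 = N27694 := ded_29_3 L214293 L214401 L222892 L240768
theorem L240778 : sm gf N27655 = N30913 := rfl
theorem L240780 : sm ga N30913 = N27664 := ded_11_1 (flp_f L214088) (flp_a L213976) L240778
theorem L240782 : sm ge N30913 = N27656 := ded_25_1 (flp_f L213978) L213974 L240778
theorem L240784 : sm gg N30913 = N27695 := ded_29_3 L214297 L214409 L222874 L240778
theorem L240786 : sm gb N27656 = N30914 := rfl
theorem L240788 : sm gd N30914 = N27658 := ded_14_2 (flp_b L213990) (flp_d L213982) L240786
theorem L240790 : sm gf N30914 = N29221 := ded_16_2 (flp_b L226637) (flp_f L198316) L214054 L213978 L240786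
theorem L240792 : sm gg N30914 = N29276 := ded_17_2 (flp_b L227062) (flp_g L198687) L214375 (flp_g L222793) L240786
theorem L240794 : sm ga N27658 = N30915 := rfl
theorem L240796 : sm gf N30915 = N29225 := ded_11_2 (flp_a L226665) (flp_f L214060) L240794
theorem L240798 : sm gg N30915 = N29280 := ded_12_2 (flp_a L227090) (flp_g L222796) L240794
theorem L240800 : sm gc N27658 = N30916 := rfl
theorem L240802 : sm gf N30916 = N29226 := ded_20_2 (flp_c L226667) (flp_f L214060) L240800
theorem L240804 : sm gg N30916 = N29281 := ded_21_2 (flp_c L227094) (flp_g L222796) L240800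
theorem L240806 : sm gb N30916 = N30916 := ded_13_1 (flp_c L240800) (flp_b L213990) L182977 L213990 L240800
theorem L240807 : sm gf N27660 = N30917 := rfl
theorem L240809 : sm ga N30917 = N30211 := ded_11_1 (flp_f L234661) (flp_a L214002) L240807
theorem L240811 : sm gc N30917 = N30211 := ded_20_1 (flp_f L234661) (flp_c L213998) L240807
theorem L240813 : sm gd N30917 = N27662 := ded_23_1 (flp_f L214080) L213994 L240807
theorem L240815 : sm gg N30917 = N27700 := ded_29_3 L214323 L234807 L234815 L240807
theorem L240817 : sm gd N27661 = N30918 := rfl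
theorem L240819 : sm ga N30918 = N29751 := ded_9_1 (flp_d L240766) L240760 L240817
theorem L240821 : sm gb N30918 = N30825 := ded_14_1 (flp_d L240047) (flp_b L214076) L240817
theorem L240823 : sm ge N30918 = N29750 := ded_22_2 (flp_d L240660) L240662 (flp_d L213994) L214074 L240817
theorem L240825 : sm gc N29765 = N30918 := ded_28_0 (flp_d L240817) L214078 (flp_d L188440) (flp_c L217974) (flp_d L228046) L230930 (flp_d L230762) (flp_a L230747)
theorem L240827 : sm gg N29807 = N30918 := ded_12_0 L240819 (flp_g L232993) L232989
theorem L240829 : sm gf N27661 = N30919 := rfl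
theorem L240831 : sm gc N30919 = N27664 := ded_20_1 (flp_f L214088) (flp_c L214078) L240829
theorem L240833 : sm ge N30919 = N27662 := ded_25_1 (flp_f L214080) L214074 L240829
theorem L240835 : sm gg N27701 = N30919 := ded_21_0 L240831 L222714 (flp_c L214399)
theorem L240837 : sm gg N27661 = N30920 := rfl
theorem L240839 : sm gc N30920 = N27665 := ded_21_1 (flp_g L214093) (flp_c L214078) L240837
theorem L240841 : sm gd N30920 = N29807 := ded_24_1 L240827 (flp_d L240817) L240837
theorem L240843 : sm ge N30920 = N27663 := ded_26_1 (flp_g L214084) L214074 L240837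
theorem L240845 : sm gb N29813 = N30920 := ded_13_5 L240839 (flp_b L240722) L240716 (flp_b L230640) L231246
theorem L240847 : sm gb N27662 = N30921 := rfl
theorem L240849 : sm gc N30921 = N30921 := ded_13_2 (flp_b L240847) L214082 L182995 (flp_c L214082) L240847
theorem L240850 : sm gf N30921 = N30826 := ded_16_2 (flp_b L240051) (flp_f L213227) (flp_b L182985) L214080 L240847
theorem L240852 : sm gg N30921 = N30886 := ded_17_2 (flp_b L240551) (flp_g L213741) (flp_b L183140) (flp_g L222752) L240847
theorem L240854 : sm ga N30921 = N30921 := ded_30_3 L240850 L240053 (flp_b L240051) (flp_a L240007) (flp_f L240005) (flp_c L213179) (flp_b L213165) (flp_a L239277) L239281 (flp_c L226011) (flp_b L197823) (flp_a L197801) (flp_f L197799) L167539 L214054 L182971 L182991 (flp_c L214082) L240847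
theorem L240855 : sm gb N27663 = N30922 := rfl
theorem L240857 : sm ge N30922 = N29813 := ded_15_2 L240845 L240843 L240855
theorem L240859 : sm gc N30922 = N29749 := ded_13_2 (flp_b L230642) (flp_c L213907) L213911 (flp_c L214086) L240855
theorem L240861 : sm gg N30922 = N30828 := ded_17_2 (flp_b L240061) (flp_g L213231) (flp_b L182985) L214084 L240855
theorem L240863 : sm ga N30613 = N30922 := ded_10_3 L240857 L231244 (flp_e L238147)
theorem L240865 : sm gd N27671 = N30923 := rfl
theorem L240867 : sm ga N30923 = N30368 := ded_9_1 L236091 (flp_a L214124) L240865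
theorem L240869 : sm gb N30923 = N30923 := ded_14_1 (flp_d L240865) L214128 L240865
theorem L240870 : sm gg N30923 = N29672 := ded_24_2 L235902 L235900 L240865
theorem L240872 : sm ge N30923 = N30897 := ded_22_2 (flp_d L240637) L213821 (flp_d L206621) (flp_e L214126) L240865
theorem L240874 : sm gc N30923 = N29675 := ded_28_6 L230040 L217805 L217801 (flp_d L230126) L230124 L214118 L214122 L240865
theorem L240876 : sm gf N27675 = N30924 := rfl
theorem L240878 : sm ga N30924 = N27991 := ded_11_1 (flp_f L226533) L226527 L240876
theorem L240880 : sm gc N30924 = N27990 := ded_20_1 L226507 L226503 L240876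
theorem L240882 : sm gd N30924 = N30871 := ded_23_1 (flp_f L240439) (flp_d L214160) L240876
theorem L240884 : sm ge N30924 = N30229 := ded_25_1 (flp_f L234797) (flp_e L214162) L240876
theorem L240886 : sm gg N30924 = N29207 := ded_29_3 L226519 (flp_f L214150) L214158 L240876
theorem L240888 : sm ga N27676 = N30925 := rfl
theorem L240890 : sm gd N30925 = N29959 := ded_9_2 (flp_a L232582) (flp_d L214168) L240888
theorem L240892 : sm ge N30925 = N27700 := ded_10_2 L214323 (flp_e L214170) L240888
theorem L240894 : sm gf N30925 = N30901 := ded_29_0 (flp_g L240676) L240668 (flp_g L240674) L240888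
theorem L240896 : sm gc N30925 = N27676 := ded_28_0 L214168 L202997 L170578 L168640 (flp_d L170578) (flp_c L202997) (flp_d L214168) L240888
theorem L240898 : sm gb N30925 = N30880 := ded_7_2 L240521 (flp_b L226511) L198214 (flp_b L183055) L145872 L145882 L183061 L214166 L240888
theorem L240900 : sm gf N27676 = N30926 := rfl
theorem L240902 : sm ga N30926 = N30901 := ded_11_1 (flp_f L240894) (flp_a L240888) L240900
theorem L240904 : sm gc N30926 = N30901 := ded_20_1 (flp_f L240894) L240896 L240900
theorem L240906 : sm gd N30926 = N29961 := ded_23_1 (flp_f L232596) (flp_d L214168) L240900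
theorem L240908 : sm ge N30926 = N30230 := ded_25_1 (flp_f L234807) (flp_e L214170) L240900
theorem L240910 : sm gg N30926 = N30899 := ded_29_3 (flp_a L240658) L240668 (flp_g L240674) L240900
theorem L240912 : sm gb N27677 = N30927 := rfl
theorem L240914 : sm gd N30927 = N29965 := ded_14_2 (flp_b L232630) (flp_d L214178) L240912
theorem L240916 : sm ge N30927 = N30233 := ded_15_2 (flp_b L234833) (flp_e L214180) L240912
theorem L240918 : sm gb N27678 = N30928 := rfl
theorem L240920 : sm gd N30928 = N29967 := ded_14_2 (flp_b L232648) (flp_d L214188) L240918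
theorem L240922 : sm ge N30928 = N30234 := ded_15_2 (flp_b L234835) (flp_e L214190) L240918
theorem L240924 : sm gf N30928 = N29201 := ded_16_2 (flp_b L226483) (flp_f L198165) L198149 L222781 L240918
theorem L240926 : sm ga N30928 = N29281 := ded_7_1 L227096 L198738 (flp_b L222894) (flp_a L213951) L226535 L226527 L214164 (flp_a L214184) L240918
theorem L240928 : sm gc N29280 = N30928 := ded_20_3 L240924 (flp_c L226675) (flp_f L227092)
theorem L240930 : sm gf N27679 = N30929 := rfl
theorem L240932 : sm ga N30929 = N29963 := ded_11_1 (flp_f L232616) (flp_a L214194) L240930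
theorem L240934 : sm gc N30929 = N29956 := ded_20_1 (flp_f L232554) (flp_c L214198) L240930
theorem L240936 : sm gd N30929 = N30238 := ded_23_1 (flp_f L234865) (flp_d L214200) L240930
theorem L240938 : sm ge N30929 = N27680 := ded_25_1 (flp_f L214202) L214192 L240930
theorem L240940 : sm gb N30929 = N27704 := ded_16_1 (flp_f L214409) L183144 (flp_f L183097) (flp_b L214196) L240930
theorem L240942 : sm gg N27679 = N30930 := rfl
theorem L240944 : sm ga N30930 = N29964 := ded_12_1 (flp_g L232624) (flp_a L214194) L240942
theorem L240946 : sm gc N30930 = N29957 := ded_21_1 (flp_g L232564) (flp_c L214198) L240942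
theorem L240948 : sm gd N30930 = N30239 := ded_24_1 (flp_g L234871) (flp_d L214200) L240942
theorem L240950 : sm ge N30930 = N27681 := ded_26_1 (flp_g L214212) L214192 L240942
theorem L240952 : sm gb N30930 = N30869 := ded_17_1 (flp_g L240419) L213663 (flp_g L183099) (flp_b L214196) L240942
theorem L240954 : sm gb N27683 = N30931 := rfl
theorem L240956 : sm ge N30931 = N30242 := ded_15_2 (flp_b L234893) (flp_e L214236) L240954
theorem L240958 : sm gc N30931 = N29194 := ded_13_2 L226435 (flp_c L226529) (flp_b L226535) (flp_c L214234) L240954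
theorem L240960 : sm gg N30931 = N29191 := ded_31_3 L226685 (flp_b L226679) (flp_g L198338) (flp_f L167545) L214040 (flp_g L222666) (flp_f L145911) (flp_b L104698) L89491 (flp_f L104672) L145882 L183085 L214230 L240954
theorem L240962 : sm gf N27684 = N30932 := rfl
theorem L240964 : sm ga N30932 = N29266 := ded_11_1 (flp_f L226966) (flp_a L214385) L240962
theorem L240966 : sm gd N30932 = N30892 := ded_23_1 (flp_f L240599) (flp_d L214242) L240962
theorem L240968 : sm gg N30932 = N30910 := ded_29_1 L240756 (flp_g L226970) (flp_a L214385) L240962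
theorem L240970 : sm gb N30908 = N30932 := ded_14_3 L240966 L240607 (flp_d L240742)
theorem L240972 : sm gg N27684 = N30933 := rfl
theorem L240974 : sm ga N30933 = N29267 := ded_12_1 (flp_g L226970) (flp_a L214385) L240972
theorem L240976 : sm gd N30933 = N30893 := ded_24_1 (flp_g L240609) (flp_d L214242) L240972
theorem L240978 : sm gb N27685 = N30934 := rfl
theorem L240980 : sm gd N30934 = N30895 := ded_14_2 (flp_b L240623) (flp_d L214250) L240978
theorem L240982 : sm gf N30934 = N30908 := ded_16_2 L240970 (flp_f L240962) (flp_b L214240) L214244 L240978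
theorem L240984 : sm gg N30934 = N29211 := ded_17_2 (flp_b L226806) (flp_g L226798) (flp_b L222898) L214276 L240978
theorem L240986 : sm gb N27686 = N30935 := rfl
theorem L240988 : sm gd N30935 = N30896 := ded_14_2 (flp_b L240631) (flp_d L214258) L240986
theorem L240990 : sm gf N30935 = N29261 := ded_16_2 (flp_b L226922) L226928 (flp_b L226938) (flp_f L214266) L240986
theorem L240992 : sm gc N29266 = N30935 := ded_30_1 (flp_b L240986) L214254 L214268 (flp_c L222838) (flp_b L198514) (flp_a L198500) L198502 (flp_c L167754) (flp_b L167740) (flp_a L198565) L226910 L226914 L213851 (flp_a L213869) (flp_f L213867) (flp_c L183105) L214240 L214385 L226966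
theorem L240994 : sm ge N27694 = N30936 := rfl
theorem L240996 : sm ga N30936 = N27701 := ded_10_1 (flp_e L214395) (flp_a L214293) L240994
theorem L240998 : sm gb N30936 = N29962 := ded_15_1 L232612 L214377 L240994
theorem L241000 : sm gc N30936 = N27695 := ded_19_1 (flp_e L214295) L214291 L240994
theorem L241002 : sm gf N30936 = N30920 := ded_25_2 L240843 (flp_f L222888) L240994
theorem L241004 : sm gd N30936 = N29960 := ded_22_1 (flp_e L232588) (flp_d L214168) L214170 (flp_d L214321) L240994
theorem L241006 : sm gd N27701 = N30937 := rfl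
theorem L241008 : sm ga N30937 = N29960 := ded_9_1 (flp_d L241004) L240996 L241006
theorem L241010 : sm gb N30937 = N30883 := ded_14_1 (flp_d L240533) (flp_b L214397) L241006
theorem L241012 : sm ge N30937 = N29959 := ded_22_2 (flp_d L240890) L240892 (flp_d L214315) L214395 L241006
theorem L241014 : sm gc N29973 = N30937 := ded_28_0 (flp_d L241006) L214399 (flp_d L188522) (flp_c L218120) (flp_d L229005) L232719 (flp_d L232709) (flp_a L232701)
theorem L241016 : sm gf N30007 = N30937 := ded_11_0 L241008 (flp_f L232594) (flp_a L232989)
theorem L241018 : sm gf N27701 = N30938 := rfl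
theorem L241020 : sm ga N30938 = N30920 := ded_11_1 (flp_f L241002) L240996 L241018
theorem L241022 : sm gc N30938 = N27704 := ded_20_1 (flp_f L214409) (flp_c L214399) L241018
theorem L241024 : sm gd N30938 = N30007 := ded_23_1 L241016 (flp_d L241006) L241018
theorem L241026 : sm ge N30938 = N27702 := ded_25_1 (flp_f L214401) L214395 L241018
theorem L241028 : sm gg N30938 = N30911 := ded_29_3 L240760 L240829 (flp_g L240835) L241018
theorem L241030 : sm gb N30013 = N30938 := ded_30_2 L241020 (flp_f L241002) L241000 L214387 L198683 (flp_f L226131) L226129 L222068 L222058 (flp_f L220842) (flp_c L212233) L212231 L182507 L182551 L182553 L209495 L237320 L237324 L233043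
theorem L241032 : sm gb N27702 = N30939 := rfl
theorem L241034 : sm ge N30939 = N30013 := ded_15_2 L241030 L241026 L241032
theorem L241036 : sm gc N30939 = N29958 := ded_13_2 (flp_b L232574) (flp_c L214206) L214210 (flp_c L214403) L241032
theorem L241038 : sm gf N30939 = N30884 := ded_16_2 (flp_b L240537) (flp_f L213737) (flp_b L183140) L214401 L241032
theorem L241040 : sm ga N30939 = N30624 := ded_7_1 L238243 (flp_a L240305) L240311 L239825 (flp_b L238151) L240863 (flp_b L240855) L222890 L241032
theorem L241042 : sm gc N27758 = N30940 := rfl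
theorem L241044 : sm gf N30940 = N28669 := ded_20_2 (flp_c L222160) (flp_f L214914) L241042
theorem L241046 : sm gf N27769 = N30941 := rfl
theorem L241048 : sm ga N30941 = N30395 := ded_11_1 L236294 L235828 L241046
theorem L241050 : sm gc N30941 = N27770 := ded_20_1 (flp_f L215032) L215025 L241046
theorem L241052 : sm gd N30941 = N28939 := ded_23_1 L224770 L215030 L241046
theorem L241054 : sm gg N30941 = N30395 := ded_29_3 (flp_a L241048) (flp_f L241046) L215027 L241046
theorem L241056 : sm gb N30941 = N28938 := ded_16_1 (flp_f L224756) L196526 L196544 (flp_b L215028) L241046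
theorem L241058 : sm gb N27773 = N30942 := rfl
theorem L241060 : sm ge N30942 = N27774 := ded_15_2 (flp_b L215062) (flp_e L215058) L241058
theorem L241062 : sm gf N27774 = N30943 := rfl
theorem L241064 : sm ga N30943 = N28196 := ded_11_1 L218458 L218172 L241062
theorem L241066 : sm gc N30943 = N28195 := ded_20_1 L218454 L215313 L241062
theorem L241068 : sm gd N30943 = N28211 := ded_23_1 (flp_f L218586) (flp_d L215064) L241062
theorem L241070 : sm gg N30943 = N28210 := ded_29_3 (flp_a L224187) L224183 L218558 L241062
theorem L241072 : sm gb N30943 = N28940 := ded_16_1 (flp_f L224772) (flp_b L196567) L184539 L215062 L241062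
theorem L241074 : sm gc N27783 = N30944 := rfl
theorem L241076 : sm gg N30944 = N28612 := ded_21_2 (flp_c L221726) (flp_g L215153) L241074
theorem L241078 : sm gg N27794 = N30945 := rfl
theorem L241080 : sm ga N30945 = N30375 := ded_12_1 L236155 L235242 L241078
theorem L241082 : sm gc N30945 = N27795 := ded_21_1 (flp_g L215275) L215268 L241078
theorem L241084 : sm gd N30945 = N28930 := ded_24_1 L224692 L215273 L241078
theorem L241086 : sm gf N30375 = N30945 := ded_29_0 (flp_g L241078) L215270 L241078 L241080
theorem L241088 : sm gb N30945 = N28929 := ded_17_1 (flp_g L224680) L196109 L196123 (flp_b L215271) L241078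
theorem L241090 : sm gb N27798 = N30946 := rfl
theorem L241092 : sm ge N30946 = N27799 := ded_15_2 (flp_b L215309) (flp_e L215305) L241090
theorem L241094 : sm gc N30946 = N30942 := ded_13_2 (flp_b L241058) L215056 (flp_b L209317) (flp_c L215303) L241090
theorem L241096 : sm gg N27799 = N30947 := rfl
theorem L241098 : sm ga N30947 = N28208 := ded_12_1 L218562 L218182 L241096
theorem L241100 : sm gc N30947 = N28207 := ded_21_1 L218558 (flp_c L215313) L241096
theorem L241102 : sm gd N30947 = N28199 := ded_24_1 L218482 (flp_d L215311) L241096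
theorem L241104 : sm gf N28198 = N30947 := ded_29_0 (flp_g L241096) (flp_f L218454) (flp_g L224231) L224233
theorem L241106 : sm gb N30947 = N28931 := ded_17_1 (flp_g L224694) (flp_b L196148) (flp_g L184939) L215309 L241096
theorem L241108 : sm ge N27800 = N30948 := rfl
theorem L241110 : sm ga N30948 = N27802 := ded_10_1 (flp_e L215333) (flp_a L215317) L241108
theorem L241112 : sm gc N30948 = N27801 := ded_19_1 (flp_e L215325) L215315 L241108
theorem L241114 : sm gf N30948 = N27801 := ded_25_2 (flp_e L215325) L215323 L241108
theorem L241116 : sm gg N30948 = N28923 := ded_26_2 (flp_e L224615) (flp_g L215319) L241108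
theorem L241118 : sm gd N30948 = N28517 := ded_22_1 L221048 (flp_d L208049) L208051 (flp_d L215321) L241108
theorem L241120 : sm ge N27804 = N30949 := rfl
theorem L241122 : sm ga N30949 = N27805 := ded_10_1 (flp_e L215365) (flp_a L215357) L241120
theorem L241124 : sm gb N30949 = N29886 := ded_15_1 L231932 (flp_b L215359) L241120
theorem L241126 : sm gc N30949 = N30257 := ded_19_1 L235045 L215363 L241120
theorem L241128 : sm gg N30949 = N30259 := ded_26_2 L235061 (flp_g L215361) L241120
theorem L241130 : sm ge N27809 = N30950 := rfl
theorem L241132 : sm ga N30950 = N27811 := ded_10_1 (flp_e L215421) (flp_a L215405) L241130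
theorem L241134 : sm gc N30950 = N27810 := ded_19_1 (flp_e L215413) L215403 L241130
theorem L241136 : sm gf N30950 = N28934 := ded_25_2 (flp_e L224719) (flp_f L215407) L241130
theorem L241138 : sm gg N30950 = N27810 := ded_26_2 (flp_e L215413) L215411 L241130
theorem L241140 : sm gd N30950 = N28465 := ded_22_1 L220634 (flp_d L208246) L208248 (flp_d L215409) L241130
theorem L241142 : sm ge N27813 = N30951 := rfl
theorem L241144 : sm ga N30951 = N27814 := ded_10_1 (flp_e L215453) (flp_a L215445) L241142
theorem L241146 : sm gb N30951 = N29654 := ded_15_1 L229842 (flp_b L215447) L241142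
theorem L241148 : sm gc N30951 = N30270 := ded_19_1 L235165 L215451 L241142
theorem L241150 : sm gf N30951 = N30272 := ded_25_2 L235181 (flp_f L215449) L241142
theorem L241152 : sm gf N27828 = N30952 := rfl
theorem L241154 : sm ga N30952 = N27831 := ded_11_1 (flp_f L215621) (flp_a L215593) L241152
theorem L241156 : sm gc N30952 = N27829 := ded_20_1 (flp_f L215600) L215591 L241152
theorem L241158 : sm gd N30952 = N30019 := ded_23_1 (flp_f L233097) L215598 L241152
theorem L241160 : sm ge N30952 = N27836 := ded_25_1 (flp_f L215665) (flp_e L215595) L241152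
theorem L241162 : sm gg N30952 = N27831 := ded_29_3 (flp_a L241154) (flp_f L241152) L215597 L241152
theorem L241164 : sm gb N29946 = N30952 := ded_7_0 L241154 (flp_b L223573) L223567 L193527 (flp_a L202691) (flp_b L202683) (flp_a L170400) L202782 L232454
theorem L241166 : sm gf N27830 = N30953 := rfl
theorem L241168 : sm ga N30953 = N30019 := ded_11_1 (flp_f L233097) (flp_a L215612) L241166
theorem L241170 : sm gc N30953 = N29664 := ded_20_1 L229948 L215619 L241166
theorem L241172 : sm gd N30953 = N27831 := ded_23_1 (flp_f L215621) L215610 L241166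
theorem L241174 : sm ge N30953 = N30561 := ded_25_1 L237776 (flp_e L215617) L241166
theorem L241176 : sm gg N30953 = N30019 := ded_29_3 (flp_a L241168) (flp_f L241166) L215616 L241166
theorem L241178 : sm gb N30953 = N30513 := ded_16_1 L237342 L215841 (flp_f L215833) (flp_b L215614) L241166
theorem L241180 : sm gg N27832 = N30954 := rfl
theorem L241182 : sm ga N30954 = N27835 := ded_12_1 (flp_g L215659) (flp_a L215629) L241180
theorem L241184 : sm gc N30954 = N27833 := ded_21_1 (flp_g L215636) L215627 L241180
theorem L241186 : sm gd N30954 = N30113 := ded_24_1 (flp_g L233845) L215634 L241180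
theorem L241188 : sm ge N30954 = N27838 := ded_26_1 (flp_g L215681) (flp_e L215631) L241180
theorem L241190 : sm gf N27835 = N30954 := ded_29_0 (flp_g L241180) L215633 L241180 L241182
theorem L241192 : sm gb N29728 = N30954 := ded_7_0 L241182 (flp_b L223163) L223157 L193223 L201044 (flp_b L201036) (flp_a L169401) L201135 L230440
theorem L241194 : sm gg N27834 = N30955 := rfl
theorem L241196 : sm ga N30955 = N30113 := ded_12_1 (flp_g L233845) (flp_a L215650) L241194
theorem L241198 : sm gc N30955 = N29895 := ded_21_1 L232028 L215657 L241194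
theorem L241200 : sm gd N30955 = N27835 := ded_24_1 (flp_g L215659) L215648 L241194
theorem L241202 : sm ge N30955 = N30559 := ded_26_1 L237755 (flp_e L215655) L241194
theorem L241204 : sm gf N30113 = N30955 := ded_29_0 (flp_g L241194) L215654 L241194 L241196
theorem L241206 : sm gb N30955 = N30508 := ded_17_1 L237303 L215877 (flp_g L215869) (flp_b L215652) L241194
theorem L241208 : sm gg N27842 = N30956 := rfl
theorem L241210 : sm ga N30956 = N28575 := ded_12_1 (flp_g L221450) (flp_a L215719) L241208
theorem L241212 : sm gc N30956 = N27843 := ded_21_1 (flp_g L215723) L215717 L241208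
theorem L241214 : sm ge N30956 = N28573 := ded_26_1 (flp_g L221430) (flp_e L215721) L241208
theorem L241216 : sm gf N27844 = N30957 := rfl
theorem L241218 : sm ga N30957 = N28634 := ded_11_1 (flp_f L221906) (flp_a L215735) L241216
theorem L241220 : sm gc N30957 = N27845 := ded_20_1 (flp_f L215739) L215733 L241216
theorem L241222 : sm ge N30957 = N28632 := ded_25_1 (flp_f L221886) (flp_e L215737) L241216
theorem L241224 : sm gb N27847 = N30958 := rfl
theorem L241226 : sm gd N30958 = N30522 := ded_14_2 (flp_b L239713) L239715 L241224
theorem L241228 : sm ge N30958 = N28245 := ded_15_2 (flp_b L218908) (flp_e L215765) L241224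
theorem L241230 : sm gc N30958 = N30342 := ded_13_2 L235850 L217638 L188245 L215761 L241224
theorem L241232 : sm gf N30958 = N30279 := ded_16_2 (flp_b L235244) (flp_f L205352) (flp_b L205314) (flp_f L215767) L241224
theorem L241234 : sm gg N30958 = N30551 := ded_17_2 L237669 L217306 (flp_b L217300) (flp_g L215769) L241224
theorem L241236 : sm ga N30958 = N30116 := ded_7_1 (flp_b L233867) L203895 L172841 (flp_a L172865) L172867 L169245 (flp_b L186157) (flp_a L215763) L241224
theorem L241238 : sm gb N27851 = N30959 := rfl
theorem L241240 : sm gd N30959 = N30539 := ded_14_2 (flp_b L240197) L240199 L241238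
theorem L241242 : sm ge N30959 = N28222 := ded_15_2 (flp_b L218688) (flp_e L215799) L241238
theorem L241244 : sm gc N30959 = N30282 := ded_13_2 L235278 L217082 L187899 L215795 L241238
theorem L241246 : sm gf N30959 = N30555 := ded_16_2 L237711 L216741 (flp_b L216735) (flp_f L215801) L241238
theorem L241248 : sm gg N30959 = N30340 := ded_17_2 (flp_b L235830) (flp_g L206673) (flp_b L206635) (flp_g L215803) L241238
theorem L241250 : sm ga N30959 = N30022 := ded_7_1 (flp_b L233119) L203395 L174346 (flp_a L174372) L174374 L170256 (flp_b L186189) (flp_a L215797) L241238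
theorem L241252 : sm gb N27854 = N30960 := rfl
theorem L241254 : sm ge N30960 = N27876 := ded_15_2 L216025 (flp_e L215821) L241252
theorem L241256 : sm gc N30960 = N28083 := ded_13_2 (flp_b L217607) L215924 L186394 (flp_c L215819) L241252
theorem L241258 : sm gf N30960 = N30960 := ded_16_2 (flp_b L241252) (flp_f L215817) L186215 L215817 L241252
theorem L241259 : sm ga N30960 = N28084 := ded_7_1 L217614 L202400 (flp_b L202388) (flp_a L202364) (flp_b L207519) (flp_a L221044) L221050 L215845 L241252
theorem L241261 : sm gb N27855 = N30961 := rfl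
theorem L241263 : sm ge N30961 = N27878 := ded_15_2 (flp_b L216039) (flp_e L215829) L241261
theorem L241265 : sm gc N30961 = N27935 := ded_13_2 (flp_b L216441) L187357 (flp_b L186244) (flp_c L215827) L241261
theorem L241267 : sm gg N28947 = N30961 := ded_26_0 L241263 (flp_g L216045) L224845
theorem L241269 : sm gg N27856 = N30962 := rfl
theorem L241271 : sm ga N30962 = N30275 := ded_12_1 L236655 L236647 L241269
theorem L241273 : sm gc N30962 = N30274 := ded_21_1 (flp_g L235201) (flp_c L215835) L241269
theorem L241275 : sm gd N30962 = N27857 := ded_24_1 (flp_g L215843) (flp_d L215837) L241269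
theorem L241277 : sm ge N30962 = N30277 := ded_26_1 L235231 (flp_e L215839) L241269
theorem L241279 : sm gf N28511 = N30962 := ded_29_0 (flp_g L241269) (flp_f L215833) (flp_g L205233) L220986
theorem L241281 : sm gb N30962 = N30948 := ded_17_1 L241116 (flp_b L237121) L237119 L215841 L241269
theorem L241283 : sm gb N27858 = N30963 := rfl
theorem L241285 : sm ge N30963 = N27877 := ded_15_2 L216034 (flp_e L215857) L241283
theorem L241287 : sm gc N30963 = N28013 := ded_13_2 (flp_b L217051) L215969 L186440 (flp_c L215855) L241283
theorem L241289 : sm gg N30963 = N30963 := ded_17_2 (flp_b L241283) (flp_g L215853) L186278 L215853 L241283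
theorem L241290 : sm ga N30963 = N28014 := ded_7_1 L217058 L200759 (flp_b L200747) (flp_a L200723) (flp_b L207810) (flp_a L220630) L220636 L215881 L241283
theorem L241292 : sm gb N27859 = N30964 := rfl
theorem L241294 : sm ge N30964 = N27879 := ded_15_2 (flp_b L216047) (flp_e L215865) L241292
theorem L241296 : sm gc N30964 = N27907 := ded_13_2 (flp_b L216243) L187169 (flp_b L186307) (flp_c L215863) L241292
theorem L241298 : sm gf N28951 = N30964 := ded_25_0 L241294 (flp_f L216053) L224879
theorem L241300 : sm gf N27860 = N30965 := rfl
theorem L241302 : sm ga N30965 = N30336 := ded_11_1 (flp_f L236737) L236729 L241300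
theorem L241304 : sm gc N30965 = N30335 := ded_20_1 L235787 (flp_c L215871) L241300
theorem L241306 : sm gd N30965 = N27861 := ded_23_1 (flp_f L215879) (flp_d L215873) L241300
theorem L241308 : sm ge N30965 = N30338 := ded_25_1 (flp_f L235817) (flp_e L215875) L241300
theorem L241310 : sm gg N30965 = N28457 := ded_29_3 L220556 L206552 L215869 L241300
theorem L241312 : sm gb N30965 = N30950 := ded_16_1 L241136 (flp_b L237155) (flp_f L237153) L215877 L241300
theorem L241314 : sm gd N27864 = N30966 := rfl
theorem L241316 : sm gg N30966 = N27865 := ded_24_2 (flp_d L215919) (flp_g L215917) L241314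
theorem L241318 : sm gc N27865 = N30967 := rfl
theorem L241320 : sm gf N27865 = N30968 := rfl
theorem L241322 : sm gd N30968 = N27866 := ded_23_1 (flp_f L215922) L215919 L241320
theorem L241324 : sm gg N27929 = N30968 := ded_24_0 L241322 (flp_g L215928) L216399
theorem L241326 : sm gd N27869 = N30969 := rfl
theorem L241328 : sm gf N30969 = N27870 := ded_23_2 (flp_d L215962) (flp_f L215960) L241326
theorem L241330 : sm ge N30969 = N30968 := ded_22_2 L241322 L215926 L186973 (flp_e L215958) L241326
theorem L241332 : sm gc N27870 = N30970 := rfl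
theorem L241334 : sm ge N30970 = N30967 := ded_19_2 (flp_c L241318) (flp_e L215965) L241332
theorem L241336 : sm gd N30967 = N30970 := ded_28_1 (flp_c L241332) (flp_d L215962) (flp_c L186431) (flp_d L186359) (flp_c L201195) (flp_d L230490) (flp_a L230492) L241318
theorem L241338 : sm gg N27870 = N30971 := rfl
theorem L241340 : sm gd N30971 = N27871 := ded_24_1 (flp_g L215967) L215962 L241338
theorem L241342 : sm ge N30971 = N30966 := ded_26_1 L241316 (flp_e L215965) L241338
theorem L241344 : sm gf N27901 = N30971 := ded_23_0 L241340 (flp_f L215973) L216201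
theorem L241346 : sm gg N27880 = N30972 := rfl
theorem L241348 : sm ga N30972 = N29871 := ded_12_1 L231786 L219714 L241346
theorem L241350 : sm gc N30972 = N28340 := ded_21_1 (flp_g L219722) (flp_c L216057) L241346
theorem L241352 : sm gd N30972 = N29870 := ded_24_1 (flp_g L231776) L216085 L241346
theorem L241354 : sm ge N30972 = N29871 := ded_26_1 L231786 L219718 L241346
theorem L241356 : sm gf N28340 = N30972 := ded_29_0 (flp_g L241346) L216059 L224939 L224941
theorem L241358 : sm gb N30972 = N29874 := ded_17_1 (flp_g L231820) (flp_b L225797) L197701 L216055 L241346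
theorem L241360 : sm gf N27881 = N30973 := rfl
theorem L241362 : sm ga N30973 = N29638 := ded_11_1 (flp_f L229670) L219742 L241360
theorem L241364 : sm gc N30973 = N28343 := ded_20_1 (flp_f L219738) (flp_c L216063) L241360
theorem L241366 : sm gd N30973 = N29637 := ded_23_1 L229696 L216283 L241360
theorem L241368 : sm ge N30973 = N29638 := ded_25_1 (flp_f L229670) L219746 L241360
theorem L241370 : sm gg N30973 = N28343 := ded_29_3 (flp_a L225049) (flp_f L225047) (flp_g L216065) L241360
theorem L241372 : sm gb N30973 = N29642 := ded_16_1 (flp_f L229718) (flp_b L226065) (flp_f L197871) L216061 L241360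
theorem L241374 : sm gb N27882 = N30974 := rfl
theorem L241376 : sm gd N30974 = N29006 := ded_14_2 L225267 (flp_d L216073) L241374
theorem L241378 : sm ge N30974 = N28310 := ded_15_2 L219512 (flp_e L216069) L241374
theorem L241380 : sm gc N30974 = N27884 := ded_13_2 (flp_b L216083) (flp_c L187035) (flp_b L187021) L216067 L241374
theorem L241382 : sm gf N30974 = N28431 := ded_16_2 L220370 L191355 (flp_b L192309) (flp_f L216071) L241374
theorem L241384 : sm ga N30974 = N28313 := ded_7_1 L219530 (flp_a L219592) L219594 L216539 L187629 (flp_a L192327) (flp_b L221442) L221440 L241374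
theorem L241386 : sm gg N27882 = N30975 := rfl
theorem L241388 : sm gc N30975 = N27883 := ded_21_1 (flp_g L216075) L216067 L241386
theorem L241390 : sm gd N30975 = N30956 := ded_24_1 (flp_g L241208) (flp_d L216073) L241386
theorem L241392 : sm ge N30975 = N28576 := ded_26_1 (flp_g L221456) (flp_e L216069) L241386
theorem L241394 : sm gf N30956 = N30975 := ded_29_0 (flp_g L241386) L216071 L221450 (flp_a L241210)
theorem L241396 : sm gb N30757 = N30975 := ded_13_5 L241388 (flp_b L216693) L234385 L234383 (flp_c L239441)
theorem L241398 : sm ge N27884 = N30976 := rfl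
theorem L241400 : sm ga N30976 = N28312 := ded_10_1 (flp_e L231806) L231800 L241398
theorem L241402 : sm gb N30976 = N27885 := ded_15_1 (flp_e L216087) L216083 L241398
theorem L241404 : sm gc N30976 = N28310 := ded_19_1 (flp_e L241378) L241380 L241398
theorem L241406 : sm gf N30976 = N28427 := ded_25_2 L224935 L224933 L241398
theorem L241408 : sm gd N30976 = N28312 := ded_22_1 (flp_e L231806) L231804 L219718 (flp_d L216085) L241398
theorem L241410 : sm gg N27886 = N30977 := rfl
theorem L241412 : sm gc N30977 = N28434 := ded_21_1 (flp_g L220390) (flp_c L216099) L241410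
theorem L241414 : sm gd N30977 = N28826 := ded_24_1 L223737 (flp_d L216103) L241410
theorem L241416 : sm ge N30977 = N27887 := ded_26_1 (flp_g L216105) L216095 L241410
theorem L241418 : sm gf N28823 = N30977 := ded_29_0 (flp_g L241410) L216101 L220390 (flp_a L223707)
theorem L241420 : sm gb N27887 = N30978 := rfl
theorem L241422 : sm gd N30978 = N30589 := ded_14_2 (flp_b L237991) (flp_d L216109) L241420
theorem L241424 : sm gg N30978 = N27890 := ded_17_2 (flp_b L216123) (flp_g L187067) L187053 L216105 L241420
theorem L241426 : sm gg N27888 = N30979 := rfl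
theorem L241428 : sm gd N30979 = N27889 := ded_24_1 (flp_g L216117) L216111 L241426
theorem L241430 : sm gb N27889 = N30980 := rfl
theorem L241432 : sm ge N30980 = N27890 := ded_15_2 (flp_b L216123) (flp_e L216121) L241430
theorem L241434 : sm ga N27890 = N30981 := rfl
theorem L241436 : sm gc N27890 = N30982 := rfl
theorem L241438 : sm gb N30982 = N27893 := ded_13_1 (flp_c L216139) (flp_b L187077) (flp_c L187069) L216123 L241436
theorem L241440 : sm gf N27890 = N30983 := rfl
theorem L241442 : sm gc N27891 = N30984 := rfl
theorem L241444 : sm ge N30984 = N27893 := ded_19_2 (flp_c L216139) (flp_e L216129) L241442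
theorem L241446 : sm gg N30984 = N28444 := ded_21_2 (flp_c L220438) (flp_g L216131) L241442
theorem L241448 : sm gd N27893 = N30984 := ded_28_1 (flp_c L241442) L216127 (flp_c L208799) L216157 (flp_c L216147) (flp_d L216135) (flp_a L216133) L216139
theorem L241450 : sm gf N27891 = N30985 := rfl
theorem L241452 : sm ga N30985 = N30447 := ded_11_1 L237607 (flp_a L237609) L241450
theorem L241454 : sm gd N30985 = N28168 := ded_23_1 (flp_f L218184) (flp_d L216127) L241450
theorem L241456 : sm ge N30985 = N27894 := ded_25_1 (flp_f L216143) (flp_e L216129) L241450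
theorem L241458 : sm gg N30985 = N30451 := ded_29_3 L236753 L208777 (flp_g L216131) L241450
theorem L241460 : sm gb N30985 = N30711 := ded_16_1 (flp_f L239027) L211927 L187583 L216125 L241450
theorem L241462 : sm gc N27892 = N30986 := rfl
theorem L241464 : sm ga N30986 = N27893 := ded_8_1 (flp_c L216139) L216133 L241462
theorem L241466 : sm gg N30986 = N28446 := ded_21_2 (flp_c L220452) (flp_g L216137) L241462
theorem L241468 : sm gf N27893 = N30987 := rfl
theorem L241470 : sm gc N30987 = N27894 := ded_20_1 (flp_f L216143) L216139 L241468
theorem L241472 : sm gd N27899 = N30988 := rfl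
theorem L241474 : sm ga N30988 = N27901 := ded_9_1 (flp_d L216201) (flp_a L216189) L241472
theorem L241476 : sm gb N30988 = N30553 := ded_14_1 L237691 (flp_b L229364) L241472
theorem L241478 : sm gg N30988 = N30969 := ded_24_2 (flp_d L241326) (flp_g L216193) L241472
theorem L241480 : sm ge N30988 = N27929 := ded_22_2 (flp_d L216399) L187329 L188665 (flp_e L216191) L241472
theorem L241482 : sm gd N27900 = N30989 := rfl
theorem L241484 : sm gb N30989 = N27901 := ded_14_1 (flp_d L216201) L216195 L241482
theorem L241486 : sm ge N30989 = N30557 := ded_22_2 L237733 L231512 L206695 (flp_e L216197) L241482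
theorem L241488 : sm gc N28499 = N30989 := ded_28_0 (flp_d L241482) L216199 L216219 (flp_c L216225) L200231 L200243 L229454 L229456
theorem L241490 : sm gf N29666 = N30989 := ded_25_0 L241486 (flp_f L237727) (flp_e L229968)
theorem L241492 : sm gf N27900 = N30990 := rfl
theorem L241494 : sm gc N30990 = N27905 := ded_20_1 (flp_f L216227) (flp_c L216199) L241492
theorem L241496 : sm gd N30990 = N29666 := ded_23_1 L241490 (flp_d L241482) L241492
theorem L241498 : sm ge N30990 = N28169 := ded_25_1 (flp_f L218196) (flp_e L216197) L241492
theorem L241500 : sm gg N30990 = N30555 := ded_29_3 L237709 (flp_f L233125) L233127 L241492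
theorem L241502 : sm gb N30990 = N30281 := ded_16_1 L235270 (flp_b L217051) (flp_f L215973) L216195 L241492
theorem L241504 : sm gc N27901 = N30991 := rfl
theorem L241506 : sm gb N30991 = N28500 := ded_13_1 (flp_c L220882) L220874 L241488 L241484 L241504
theorem L241508 : sm ge N27901 = N30992 := rfl
theorem L241510 : sm ga N30992 = N27929 := ded_10_1 (flp_e L241480) L241474 L241508
theorem L241512 : sm gb N30992 = N30557 := ded_15_1 (flp_e L241486) L241484 L241508
theorem L241514 : sm gf N30992 = N30966 := ded_25_2 (flp_e L241342) (flp_f L241344) L241508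
theorem L241516 : sm gd N30992 = N27927 := ded_22_1 L216389 (flp_d L188671) (flp_e L187141) L216201 L241508
theorem L241518 : sm gg N27901 = N30993 := rfl
theorem L241520 : sm ga N30993 = N30969 := ded_12_1 (flp_g L241478) L241474 L241518
theorem L241522 : sm gd N30993 = N27902 := ded_24_1 (flp_g L216203) L216201 L241518
theorem L241524 : sm gf N29950 = N30993 := ded_29_0 (flp_g L241518) L241344 (flp_g L241338) L232498
theorem L241526 : sm gb N29948 = N30993 := ded_14_3 L241522 (flp_b L216213) (flp_d L232474)
theorem L241528 : sm gb N27903 = N30994 := rfl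
theorem L241530 : sm ge N30994 = N28170 := ded_15_2 (flp_b L218204) (flp_e L216217) L241528
theorem L241532 : sm gc N30994 = N28513 := ded_13_2 (flp_b L220994) (flp_c L206677) L235830 (flp_c L235836) L241528
theorem L241534 : sm gg N30994 = N29727 := ded_17_2 (flp_b L230432) (flp_g L217088) (flp_b L235278) L235280 L241528
theorem L241536 : sm ga N30994 = N28461 := ded_7_1 (flp_b L220580) (flp_a L191521) (flp_b L159585) L110469 (flp_b L107813) (flp_a L155882) L187153 L216215 L241528
theorem L241538 : sm gb N27905 = N30995 := rfl
theorem L241540 : sm gd N30995 = N30951 := ded_14_2 L241146 (flp_d L229846) L241538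
theorem L241542 : sm ge N30995 = N28172 := ded_15_2 (flp_b L218226) (flp_e L216229) L241538
theorem L241544 : sm gf N30995 = N27907 := ded_16_2 (flp_b L216243) (flp_f L187165) L187153 L216227 L241538
theorem L241546 : sm ga N30995 = N28268 := ded_7_1 L219140 L190198 L158510 (flp_a L109895) (flp_b L158752) (flp_a L190531) (flp_b L219286) L219284 L241538
theorem L241548 : sm gg N30995 = N28951 := ded_31_3 L241298 (flp_b L241292) (flp_g L215859) (flp_f L191505) (flp_b L191499) L159601 (flp_f L159593) L159585 L191533 (flp_f L191541) (flp_b L205574) L205576 L216227 L241538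
theorem L241550 : sm gc N28951 = N30995 := ded_19_3 L241542 (flp_c L218236) L224879
theorem L241552 : sm gg N27905 = N30996 := rfl
theorem L241554 : sm ga N30996 = N30284 := ded_12_1 L235306 L219284 L241552
theorem L241556 : sm gc N30996 = N30555 := ded_21_1 (flp_g L241500) L241494 L241552
theorem L241558 : sm ge N30996 = N28173 := ded_26_1 (flp_g L218238) (flp_e L216229) L241552
theorem L241560 : sm gf N30282 = N30996 := ded_29_0 (flp_g L241552) (flp_f L216227) (flp_g L205576) (flp_a L235276)
theorem L241562 : sm ga N27907 = N30997 := rfl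
theorem L241564 : sm gd N30997 = N30445 := ded_9_2 L236689 (flp_d L235185) L241562
theorem L241566 : sm ge N30997 = N28174 := ded_10_2 (flp_a L218244) (flp_e L216245) L241562
theorem L241568 : sm gf N30997 = N28268 := ded_11_2 (flp_a L241546) L241544 L241562
theorem L241570 : sm gg N30964 = N30997 := ded_29_3 (flp_a L241562) (flp_f L241544) L241548 L241298
theorem L241572 : sm gb N30997 = N28451 := ded_7_2 L220490 L208459 L200968 L169337 (flp_a L169345) L169351 (flp_a L187167) L216243 L241562
theorem L241574 : sm gg N27907 = N30998 := rfl
theorem L241576 : sm ga N30998 = N30964 := ded_12_1 L241570 (flp_a L241562) L241574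
theorem L241578 : sm gc N30998 = N30997 := ded_21_1 (flp_g L241570) L241296 L241574
theorem L241580 : sm ge N30998 = N28175 := ded_26_1 (flp_g L218254) (flp_e L216245) L241574
theorem L241582 : sm gb N30998 = N29720 := ded_17_1 L230368 (flp_b L216177) L187173 L216243 L241574
theorem L241584 : sm gb N27908 = N30999 := rfl
theorem L241586 : sm gd N30999 = N27909 := ded_14_2 (flp_b L216259) (flp_d L216253) L241584
theorem L241588 : sm ge N30999 = N28167 := ded_15_2 (flp_b L218174) (flp_e L216255) L241584
theorem L241590 : sm gf N30999 = N28197 := ded_16_2 L218466 L218486 (flp_b L218498) L216257 L241584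
theorem L241592 : sm gg N30999 = N29726 := ded_17_2 (flp_b L230424) L201127 L201022 L216247 L241584
theorem L241594 : sm ga N30999 = N30946 := ded_7_1 (flp_b L241090) L215301 (flp_b L215223) L215215 (flp_b L223859) (flp_a L224597) L224605 (flp_a L216249) L241584
theorem L241596 : sm ga N27909 = N31000 := rfl
theorem L241598 : sm gd N31000 = N30946 := ded_9_2 (flp_a L241594) L241586 L241596
theorem L241600 : sm ge N31000 = N28177 := ded_10_2 (flp_a L218276) (flp_e L216261) L241596
theorem L241602 : sm gf N31000 = N30994 := ded_11_2 L241536 L220586 L241596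
theorem L241604 : sm gg N31000 = N29728 := ded_12_2 (flp_a L230440) (flp_g L216263) L241596
theorem L241606 : sm gb N31000 = N28194 := ded_7_2 L218442 L200711 L200705 (flp_b L193739) (flp_a L216185) (flp_b L216177) (flp_a L187185) L216259 L241596
theorem L241608 : sm gb N27910 = N31001 := rfl
theorem L241610 : sm gd N31001 = N29011 := ded_14_2 L225295 (flp_d L216271) L241608
theorem L241612 : sm ge N31001 = N28316 := ded_15_2 L219552 (flp_e L216267) L241608
theorem L241614 : sm gc N31001 = N27912 := ded_13_2 (flp_b L216281) (flp_c L187219) (flp_b L187205) L216265 L241608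
theorem L241616 : sm gg N31001 = N28485 := ded_17_2 L220800 L191738 (flp_b L192619) (flp_g L216269) L241608
theorem L241618 : sm ga N31001 = N28319 := ded_7_1 L219570 (flp_a L219660) L219662 L217112 L187975 (flp_a L192637) (flp_b L221898) L221896 L241608
theorem L241620 : sm gf N27910 = N31002 := rfl
theorem L241622 : sm gc N31002 = N27911 := ded_20_1 (flp_f L216273) L216265 L241620
theorem L241624 : sm gd N31002 = N30957 := ded_23_1 (flp_f L241216) (flp_d L216271) L241620
theorem L241626 : sm ge N31002 = N28637 := ded_25_1 (flp_f L221926) (flp_e L216267) L241620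
theorem L241628 : sm gg N31002 = N30957 := ded_29_3 L241218 (flp_f L221906) (flp_g L216269) L241620
theorem L241630 : sm gb N30695 = N31002 := ded_13_5 L241622 (flp_b L217266) L233637 L233635 (flp_c L238863)
theorem L241632 : sm ge N27912 = N31003 := rfl
theorem L241634 : sm ga N31003 = N28318 := ded_10_1 (flp_e L229688) (flp_a L229692) L241632
theorem L241636 : sm gb N31003 = N27913 := ded_15_1 (flp_e L216285) L216281 L241632
theorem L241638 : sm gc N31003 = N28316 := ded_19_1 (flp_e L241612) L241614 L241632
theorem L241640 : sm gg N31003 = N28481 := ded_26_2 L225043 L225041 L241632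
theorem L241642 : sm gd N31003 = N28318 := ded_22_1 (flp_e L229688) L229686 L219746 (flp_d L216283) L241632
theorem L241644 : sm gf N27914 = N31004 := rfl
theorem L241646 : sm gc N31004 = N28488 := ded_20_1 (flp_f L220820) (flp_c L216297) L241644
theorem L241648 : sm gd N31004 = N28853 := ded_23_1 (flp_f L224009) (flp_d L216301) L241644
theorem L241650 : sm ge N31004 = N27915 := ded_25_1 (flp_f L216303) L216293 L241644
theorem L241652 : sm gg N31004 = N28851 := ded_29_3 L223989 (flp_f L220820) (flp_g L216299) L241644
theorem L241654 : sm gb N27915 = N31005 := rfl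
theorem L241656 : sm gd N31005 = N30601 := ded_14_2 (flp_b L238065) (flp_d L216307) L241654
theorem L241658 : sm gf N31005 = N27918 := ded_16_2 (flp_b L216321) (flp_f L187251) L187237 L216303 L241654
theorem L241660 : sm gf N27916 = N31006 := rfl
theorem L241662 : sm gd N31006 = N27917 := ded_23_1 (flp_f L216315) L216309 L241660
theorem L241664 : sm gb N27917 = N31007 := rfl
theorem L241666 : sm ge N31007 = N27918 := ded_15_2 (flp_b L216321) (flp_e L216319) L241664
theorem L241668 : sm ga N27918 = N31008 := rfl
theorem L241670 : sm gc N27918 = N31009 := rfl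
theorem L241672 : sm gb N31009 = N27921 := ded_13_1 (flp_c L216337) (flp_b L187261) (flp_c L187253) L216321 L241670
theorem L241674 : sm gg N27918 = N31010 := rfl
theorem L241676 : sm gc N27919 = N31011 := rfl
theorem L241678 : sm ge N31011 = N27921 := ded_19_2 (flp_c L216337) (flp_e L216327) L241676
theorem L241680 : sm gf N31011 = N28498 := ded_20_2 (flp_c L220868) (flp_f L216329) L241676
theorem L241682 : sm gd N27921 = N31011 := ded_28_1 (flp_c L241676) L216325 (flp_c L208626) L216355 (flp_c L216345) (flp_d L216333) (flp_a L216331) L216337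
theorem L241684 : sm gg N27919 = N31012 := rfl
theorem L241686 : sm ga N31012 = N30439 := ded_12_1 (flp_g L237461) (flp_a L237463) L241684
theorem L241688 : sm gd N31012 = N28178 := ded_24_1 (flp_g L218286) (flp_d L216325) L241684
theorem L241690 : sm ge N31012 = N27922 := ded_26_1 (flp_g L216341) (flp_e L216327) L241684
theorem L241692 : sm gf N30443 = N31012 := ded_29_0 (flp_g L241684) L216329 (flp_g L208604) (flp_a L236671)
theorem L241694 : sm gb N31012 = N30765 := ded_17_1 (flp_g L239511) L212571 (flp_g L187941) L216323 L241684
theorem L241696 : sm gc N27920 = N31013 := rfl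
theorem L241698 : sm ga N31013 = N27921 := ded_8_1 (flp_c L216337) L216331 L241696
theorem L241700 : sm gf N31013 = N28500 := ded_20_2 (flp_c L220882) (flp_f L216335) L241696
theorem L241702 : sm gg N27921 = N31014 := rfl
theorem L241704 : sm gc N31014 = N27922 := ded_21_1 (flp_g L216341) L216337 L241702
theorem L241706 : sm gb N30987 = N31014 := ded_13_5 L241704 (flp_b L217140) L217178 L216567 (flp_c L241470)
theorem L241708 : sm gd N27928 = N31015 := rfl
theorem L241710 : sm gb N31015 = N27929 := ded_14_1 (flp_d L216399) L216393 L241708
theorem L241712 : sm ge N31015 = N30553 := ded_22_2 L237691 L229360 L205370 (flp_e L216395) L241708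
theorem L241714 : sm gc N28445 = N31015 := ded_28_0 (flp_d L241708) L216397 L216417 (flp_c L216423) L201924 L201952 L231634 L231636
theorem L241716 : sm gg N29897 = N31015 := ded_26_0 L241712 (flp_g L237685) (flp_e L232046)
theorem L241718 : sm gg N27928 = N31016 := rfl
theorem L241720 : sm gc N31016 = N27933 := ded_21_1 (flp_g L216425) (flp_c L216397) L241718
theorem L241722 : sm gd N31016 = N29897 := ded_24_1 L241716 (flp_d L241708) L241718
theorem L241724 : sm ge N31016 = N28179 := ded_26_1 (flp_g L218298) (flp_e L216395) L241718
theorem L241726 : sm gf N30551 = N31016 := ded_29_0 (flp_g L241718) (flp_f L233873) L233875 (flp_a L237667)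
theorem L241728 : sm gb N31016 = N30341 := ded_17_1 L235844 (flp_b L217607) (flp_g L215928) L216393 L241718
theorem L241730 : sm gc N27929 = N31017 := rfl
theorem L241732 : sm gb N31017 = N28446 := ded_13_1 (flp_c L220452) L220444 L241714 L241710 L241730
theorem L241734 : sm gf N27929 = N31018 := rfl
theorem L241736 : sm ga N31018 = N30966 := ded_11_1 (flp_f L241514) L241510 L241734
theorem L241738 : sm gd N31018 = N27930 := ded_23_1 (flp_f L216401) L216399 L241734
theorem L241740 : sm gg N31018 = N29733 := ded_29_3 (flp_a L230492) L241320 (flp_g L241324) L241734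
theorem L241742 : sm gb N29730 = N31018 := ded_14_3 L241738 (flp_b L216411) (flp_d L230458)
theorem L241744 : sm gb N27931 = N31019 := rfl
theorem L241746 : sm ge N31019 = N28180 := ded_15_2 (flp_b L218306) (flp_e L216415) L241744
theorem L241748 : sm gc N31019 = N28461 := ded_13_2 (flp_b L220580) (flp_c L205356) L235244 (flp_c L235250) L241744
theorem L241750 : sm gf N31019 = N29945 := ded_16_2 (flp_b L232446) L217644 (flp_b L235850) L235852 L241744
theorem L241752 : sm ga N31019 = N28513 := ded_7_1 (flp_b L220994) (flp_a L191902) (flp_b L159785) L110569 (flp_b L107863) (flp_a L155986) L187341 L216413 L241744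
theorem L241754 : sm gb N27933 = N31020 := rfl
theorem L241756 : sm gd N31020 = N30949 := ded_14_2 L241124 (flp_d L231936) L241754
theorem L241758 : sm ge N31020 = N28182 := ded_15_2 (flp_b L218328) (flp_e L216427) L241754
theorem L241760 : sm gg N31020 = N27935 := ded_17_2 (flp_b L216441) (flp_g L187353) L187341 L216425 L241754
theorem L241762 : sm ga N31020 = N28265 := ded_7_1 L219110 L190125 L158473 (flp_a L109764) (flp_b L158625) (flp_a L190335) (flp_b L219182) L219180 L241754
theorem L241764 : sm gf N28947 = N31020 := ded_31_1 (flp_b L241754) (flp_g L216425) (flp_f L206851) L206849 L191916 (flp_f L191908) (flp_b L159785) L159793 L159801 L191880 L191886 L215823 L241261 (flp_g L241267)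
theorem L241766 : sm gc N28947 = N31020 := ded_30_1 (flp_b L241754) (flp_a L219180) L235878 L235872 (flp_b L217833) L188364 L158445 L156922 (flp_b L111118) (flp_a L111090) L111116 L111113 L160634 L193075 (flp_f L218812) L218810 (flp_b L219110) (flp_a L241762) (flp_f L241764)
theorem L241768 : sm gf N27933 = N31021 := rfl
theorem L241770 : sm ga N31021 = N30344 := ded_11_1 (flp_f L235878) L219180 L241768
theorem L241772 : sm gc N31021 = N30551 := ded_20_1 L241726 L241720 L241768
theorem L241774 : sm ge N31021 = N28183 := ded_25_1 (flp_f L218340) (flp_e L216427) L241768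
theorem L241776 : sm gg N31021 = N30342 := ded_29_3 L235848 L206851 L216425 L241768
theorem L241778 : sm ga N27935 = N31022 := rfl
theorem L241780 : sm gd N31022 = N30437 := ded_9_2 L236607 (flp_d L235065) L241778
theorem L241782 : sm ge N31022 = N28184 := ded_10_2 (flp_a L218346) (flp_e L216443) L241778
theorem L241784 : sm gg N31022 = N28265 := ded_12_2 (flp_a L241762) L241760 L241778
theorem L241786 : sm gf N31022 = N30961 := ded_29_0 (flp_g L241267) L241764 L241760 L241778
theorem L241788 : sm gb N31022 = N28505 := ded_7_2 L220920 L208397 L202615 L170336 (flp_a L170344) L170350 (flp_a L187355) L216441 L241778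
theorem L241790 : sm gf N27935 = N31023 := rfl
theorem L241792 : sm ga N31023 = N30961 := ded_11_1 (flp_f L241786) (flp_a L241778) L241790
theorem L241794 : sm gc N31023 = N31022 := ded_20_1 L241786 L241265 L241790
theorem L241796 : sm ge N31023 = N28185 := ded_25_1 (flp_f L218356) (flp_e L216443) L241790
theorem L241798 : sm gb N31023 = N29938 := ded_16_1 (flp_f L232382) (flp_b L216375) (flp_f L187361) L216441 L241790
theorem L241800 : sm gb N27936 = N31024 := rfl
theorem L241802 : sm gd N31024 = N27937 := ded_14_2 (flp_b L216457) (flp_d L216451) L241800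
theorem L241804 : sm ge N31024 = N28166 := ded_15_2 (flp_b L218166) (flp_e L216453) L241800
theorem L241806 : sm gc N31024 = N30999 := ded_13_2 (flp_b L241584) L216251 L188591 (flp_c L216449) L241800
theorem L241808 : sm gf N31024 = N29944 := ded_16_2 (flp_b L232438) (flp_f L202774) L202669 L216445 L241800
theorem L241810 : sm gg N31024 = N28209 := ded_17_2 L218570 L218590 (flp_b L218602) (flp_g L216455) L241800
theorem L241812 : sm ga N31024 = N30942 := ded_7_1 (flp_b L241058) L215054 (flp_b L214984) L214976 (flp_b L224091) (flp_a L224485) L224493 (flp_a L216447) L241800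
theorem L241814 : sm ga N27937 = N31025 := rfl
theorem L241816 : sm gd N31025 = N30942 := ded_9_2 (flp_a L241812) L241802 L241814
theorem L241818 : sm ge N31025 = N28187 := ded_10_2 (flp_a L218378) (flp_e L216459) L241814
theorem L241820 : sm gf N31025 = N29946 := ded_11_2 (flp_a L232454) (flp_f L216461) L241814
theorem L241822 : sm gg N31025 = N31019 := ded_12_2 L241752 L221000 L241814
theorem L241824 : sm gb N31025 = N28206 := ded_7_2 L218546 L202352 L202346 (flp_b L193943) (flp_a L216383) (flp_b L216375) (flp_a L187373) L216457 L241814
theorem L241826 : sm ge N27940 = N31026 := rfl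
theorem L241828 : sm ga N31026 = N30851 := ded_10_1 L240261 L223517 L241826
theorem L241830 : sm gb N31026 = N30534 := ded_15_1 L237527 L220754 L241826
theorem L241832 : sm gf N31026 = N30849 := ded_25_2 L240243 L217480 L241826
theorem L241834 : sm gg N31026 = N28786 := ded_26_2 L223439 (flp_g L216483) L241826
theorem L241836 : sm gd N31026 = N28881 := ded_22_1 L224261 L194847 (flp_e L187429) L216481 L241826
theorem L241838 : sm ge N27944 = N31027 := rfl
theorem L241840 : sm ga N31027 = N30793 := ded_10_1 L239783 L223080 L241838
theorem L241842 : sm gb N31027 = N30517 := ded_15_1 L237381 (flp_b L220308) L241838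
theorem L241844 : sm gf N31027 = N28722 := ded_25_2 L223012 (flp_f L216509) L241838
theorem L241846 : sm gg N31027 = N30791 := ded_26_2 L239765 L216909 L241838
theorem L241848 : sm gd N31027 = N28885 := ded_22_1 L224299 L195027 (flp_e L187501) L216507 L241838
theorem L241850 : sm gg N27948 = N31028 := rfl
theorem L241852 : sm ga N31028 = N27961 := ded_12_1 (flp_g L216649) (flp_a L216539) L241850
theorem L241854 : sm gd N31028 = N27949 := ded_24_1 (flp_g L216543) L216537 L241850
theorem L241856 : sm ge N31028 = N29440 := ded_26_1 L228168 (flp_e L216541) L241850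
theorem L241858 : sm gf N31028 = N30979 := ded_29_2 (flp_g L241426) (flp_a L236817) L236819 L241850
theorem L241860 : sm gb N30671 = N31028 := ded_15_3 L241856 L228166 L238615
theorem L241862 : sm gb N27949 = N31029 := rfl
theorem L241864 : sm gd N31029 = N30671 := ded_14_2 L241860 L241854 L241862
theorem L241866 : sm ge N31029 = N27950 := ded_15_2 (flp_b L216553) (flp_e L216549) L241862
theorem L241868 : sm gf N27950 = N31030 := rfl
theorem L241870 : sm gd N31030 = N30497 := ded_23_1 (flp_f L237209) (flp_d L216555) L241868
theorem L241872 : sm gb N31030 = N30983 := ded_16_1 (flp_f L241440) (flp_b L216123) (flp_f L187573) L216553 L241868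
theorem L241874 : sm gf N27951 = N31031 := rfl
theorem L241876 : sm ga N31031 = N27953 := ded_11_1 (flp_f L216563) L216557 L241874
theorem L241878 : sm gd N31031 = N27955 := ded_23_1 (flp_f L216581) (flp_d L216559) L241874
theorem L241880 : sm ge N31031 = N30708 := ded_25_1 (flp_f L239015) L239013 L241874
theorem L241882 : sm gg N31031 = N30700 := ded_29_3 L238915 (flp_f L238923) L238925 L241874
theorem L241884 : sm gb N31031 = N28734 := ded_16_1 (flp_f L223084) L229110 L229212 (flp_b L229214) L241874
theorem L241886 : sm gg N27960 = N31032 := rfl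
theorem L241888 : sm gc N31032 = N27961 := ded_21_1 (flp_g L216649) L216645 L241886
theorem L241890 : sm gd N31032 = N30462 := ded_24_1 L236863 (flp_d L218636) L241886
theorem L241892 : sm gf N31032 = N30460 := ded_29_2 (flp_g L236837) (flp_a L236797) L236801 L241886
theorem L241894 : sm gb N27961 = N31033 := rfl
theorem L241896 : sm gd N31033 = N27962 := ded_14_2 (flp_b L216653) (flp_d L216651) L241894
theorem L241898 : sm gg N31033 = N28596 := ded_17_2 (flp_b L221616) (flp_g L192421) (flp_b L187629) L216649 L241894
theorem L241900 : sm gf N27961 = N31034 := rfl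
theorem L241902 : sm ga N31034 = N30979 := ded_11_1 (flp_f L241858) L241852 L241900
theorem L241904 : sm gc N31034 = N30460 := ded_20_1 (flp_f L241892) L241888 L241900
theorem L241906 : sm gd N31034 = N27963 := ded_23_1 (flp_f L216659) (flp_d L216651) L241900
theorem L241908 : sm ge N31034 = N29878 := ded_25_1 (flp_f L231848) L219844 L241900
theorem L241910 : sm gg N31034 = N30458 := ded_29_3 L236817 L216115 L216649 L241900
theorem L241912 : sm gb N29877 = N31034 := ded_13_5 L241904 L236841 L233207 L203473 (flp_c L231838)
theorem L241914 : sm ga N27962 = N31035 := rfl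
theorem L241916 : sm ge N31035 = N27964 := ded_10_2 (flp_a L216669) (flp_e L216655) L241914
theorem L241918 : sm gg N31035 = N28598 := ded_12_2 (flp_a L221634) (flp_g L216657) L241914
theorem L241920 : sm gb N30034 = N31035 := ded_15_3 L241916 (flp_b L221680) (flp_e L233203)
theorem L241922 : sm gf N27962 = N31036 := rfl
theorem L241924 : sm ge N31036 = N27965 := ded_25_1 (flp_f L216673) (flp_e L216655) L241922
theorem L241926 : sm gb N27963 = N31037 := rfl
theorem L241928 : sm gd N31037 = N29877 := ded_14_2 L241912 L241906 L241926
theorem L241930 : sm ge N31037 = N27966 := ded_15_2 (flp_b L216675) (flp_e L216665) L241926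
theorem L241932 : sm gg N29876 = N31037 := ded_24_0 L241928 (flp_g L231836) L231834
theorem L241934 : sm ga N27966 = N31038 := rfl
theorem L241936 : sm gd N31038 = N29087 := ded_9_2 L225839 L225799 L241934
theorem L241938 : sm gf N31038 = N29086 := ded_11_2 L225831 (flp_f L222900) L241934
theorem L241940 : sm gg N27966 = N31039 := rfl
theorem L241942 : sm gd N31039 = N29874 := ded_24_1 (flp_g L231820) L225799 L241940
theorem L241944 : sm ge N31039 = N29876 := ded_26_1 L241932 L241930 L241940
theorem L241946 : sm gb N31039 = N29870 := ded_17_1 (flp_g L231776) (flp_b L216083) (flp_g L187647) L216675 L241940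
theorem L241948 : sm gf N27970 = N31040 := rfl
theorem L241950 : sm ga N31040 = N30091 := ded_11_1 (flp_f L234395) L234389 L241948
theorem L241952 : sm gd N31040 = N27975 := ded_23_1 (flp_f L216725) (flp_d L216691) L241948
theorem L241954 : sm ge N31040 = N30687 := ded_25_1 L238783 L238723 L241948
theorem L241956 : sm gg N31040 = N30089 := ded_29_3 (flp_a L233627) L203703 L216689 L241948
theorem L241958 : sm gb N31040 = N29812 := ded_16_1 (flp_f L231234) L215731 L216081 (flp_b L216693) L241948
theorem L241960 : sm gd N27971 = N31041 := rfl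
theorem L241962 : sm ga N31041 = N27973 := ded_9_1 (flp_d L216711) (flp_a L216697) L241960
theorem L241964 : sm gb N31041 = N30374 := ded_14_1 L236149 (flp_b L216701) L241960
theorem L241966 : sm ge N31041 = N30720 := ded_22_2 (flp_d L239109) L212015 (flp_d L189355) (flp_e L216699) L241960
theorem L241968 : sm gg N27971 = N31042 := rfl
theorem L241970 : sm ga N31042 = N27974 := ded_12_1 (flp_g L216717) (flp_a L216697) L241968
theorem L241972 : sm gc N31042 = N27972 := ded_21_1 (flp_g L216703) L216695 L241968
theorem L241974 : sm ge N31042 = N28221 := ded_26_1 (flp_g L218676) (flp_e L216699) L241968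
theorem L241976 : sm gf N30094 = N31042 := ded_29_0 (flp_g L241968) (flp_f L233659) L233661 (flp_a L233671)
theorem L241978 : sm gb N31042 = N29219 := ded_17_1 (flp_g L226619) L198282 L207503 (flp_b L216701) L241968
theorem L241980 : sm gg N27973 = N31043 := rfl
theorem L241982 : sm gc N31043 = N30187 := ded_21_1 L234429 (flp_c L222517) L241980
theorem L241984 : sm gd N31043 = N27974 := ded_24_1 (flp_g L216717) L216711 L241980
theorem L241986 : sm ge N31043 = N30722 := ded_26_1 (flp_g L239123) (flp_e L216715) L241980
theorem L241988 : sm gb N31043 = N28060 := ded_17_1 (flp_g L226918) L226920 (flp_g L216867) (flp_b L216713) L241980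
theorem L241990 : sm gg N27977 = N31044 := rfl
theorem L241992 : sm gc N31044 = N29821 := ded_21_1 (flp_g L231312) (flp_c L216751) L241990
theorem L241994 : sm gd N31044 = N27978 := ded_24_1 (flp_g L216753) L216745 L241990
theorem L241996 : sm ge N31044 = N29823 := ded_26_1 (flp_g L231332) (flp_e L216749) L241990
theorem L241998 : sm gf N30705 = N31044 := ded_29_0 (flp_g L241990) (flp_f L240195) (flp_g L240201) (flp_a L238979)
theorem L242000 : sm gb N31044 = N29585 := ded_17_1 (flp_g L229246) L239467 (flp_g L239455) (flp_b L216747) L241990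
theorem L242002 : sm ge N27983 = N31045 := rfl
theorem L242004 : sm ga N31045 = N27986 := ded_10_1 (flp_e L216821) (flp_a L216803) L242002
theorem L242006 : sm gb N31045 = N29368 := ded_15_1 (flp_e L237039) L237035 L242002
theorem L242008 : sm gc N31045 = N27984 := ded_19_1 (flp_e L216809) L216801 L242002
theorem L242010 : sm gg N31045 = N27999 := ded_26_2 (flp_e L216948) (flp_g L216805) L242002
theorem L242012 : sm gd N31045 = N29367 := ded_22_1 L227720 L227300 (flp_e L216473) (flp_d L216807) L242002
theorem L242014 : sm ge N27985 = N31046 := rfl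
theorem L242016 : sm ga N31046 = N30081 := ded_10_1 L233567 (flp_a L221672) L242014
theorem L242018 : sm gb N31046 = N27986 := ded_15_1 (flp_e L216821) L216819 L242014
theorem L242020 : sm gc N31046 = N31035 := ded_19_1 L241916 L221670 L242014
theorem L242022 : sm gf N27985 = N31047 := rfl
theorem L242024 : sm ga N31047 = N30084 := ded_11_1 (flp_f L233591) (flp_a L221672) L242022
theorem L242026 : sm gc N31047 = N28606 := ded_20_1 (flp_f L221692) L221670 L242022
theorem L242028 : sm gd N31047 = N28594 := ded_23_1 L221600 L221108 L242022
theorem L242030 : sm gg N28605 = N31047 := ded_29_1 (flp_f L242022) L221678 L221652 L221664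
theorem L242032 : sm gb N31047 = N29339 := ded_16_1 L227560 L221096 L192023 L216819 L242022
theorem L242034 : sm gc N27988 = N31048 := rfl
theorem L242036 : sm ga N31048 = N30128 := ded_8_1 L233947 L216841 L242034
theorem L242038 : sm ge N31048 = N30120 := ded_19_2 L233899 (flp_e L216839) L242034
theorem L242040 : sm gg N31048 = N30118 := ded_21_2 L233887 L216843 L242034
theorem L242042 : sm ga N27989 = N31049 := rfl
theorem L242044 : sm gc N31049 = N28044 := ded_8_2 L217278 (flp_c L216849) L242042
theorem L242046 : sm ge N31049 = N28227 := ded_10_2 (flp_a L218740) (flp_e L216847) L242042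
theorem L242048 : sm gf N31049 = N28043 := ded_11_2 L217270 (flp_f L216851) L242042
theorem L242050 : sm gg N31049 = N30188 := ded_12_2 L234433 L226721 L242042
theorem L242052 : sm gb N31049 = N29274 := ded_7_2 L227046 L198659 (flp_a L207505) (flp_b L216701) L216697 L187671 (flp_a L187727) L216845 L242042
theorem L242054 : sm gd N27989 = N31050 := rfl
theorem L242056 : sm gb N31050 = N27990 := ded_14_1 (flp_d L216853) L216845 L242054
theorem L242058 : sm gf N31050 = N28045 := ded_23_2 (flp_d L217284) (flp_f L216851) L242054
theorem L242060 : sm ge N31050 = N30738 := ded_22_2 (flp_d L239259) L212155 (flp_d L189483) (flp_e L216847) L242054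
theorem L242062 : sm gc N31050 = N30093 := ded_28_6 (flp_d L233663) (flp_a L233655) (flp_c L233653) (flp_d L233629) (flp_c L233637) L217264 (flp_c L216849) L242054
theorem L242064 : sm gg N27994 = N31051 := rfl
theorem L242066 : sm ga N31051 = N28722 := ded_12_1 (flp_g L223008) (flp_a L216893) L242064
theorem L242068 : sm gc N31051 = N30811 := ded_21_1 (flp_g L239937) (flp_c L216897) L242064
theorem L242070 : sm gd N31051 = N28229 := ded_24_1 (flp_g L218762) (flp_d L216899) L242064
theorem L242072 : sm ge N31051 = N27996 := ded_26_1 (flp_g L216918) L216891 L242064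
theorem L242074 : sm gf N30793 = N31051 := ded_29_0 (flp_g L242064) (flp_f L239767) (flp_g L241846) L241840
theorem L242076 : sm gb N31051 = N30784 := ded_17_1 L239701 (flp_b L239053) L239057 (flp_b L216895) L242064
theorem L242078 : sm gd N27999 = N31052 := rfl
theorem L242080 : sm ga N31052 = N28007 := ded_9_1 (flp_d L217006) (flp_a L216950) L242078
theorem L242082 : sm gb N31052 = N28673 := ded_14_1 L222186 (flp_b L216952) L242078
theorem L242084 : sm gg N31052 = N29367 := ded_24_2 (flp_d L242012) L242010 L242078
theorem L242086 : sm ge N31052 = N29295 := ded_22_2 L227204 L198805 (flp_d L187801) L216948 L242078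
theorem L242088 : sm gc N29136 = N31052 := ded_28_0 (flp_d L242078) L216954 L187831 (flp_c L189583) L218796 L226107 (flp_d L226101) L226093
theorem L242090 : sm gf N31052 = N29294 := ded_29_0 L227198 L227322 (flp_g L227330) (flp_a L242080)
theorem L242092 : sm gf N27999 = N31053 := rfl
theorem L242094 : sm ga N31053 = N28008 := ded_11_1 (flp_f L217012) (flp_a L216950) L242092
theorem L242096 : sm gc N31053 = N28001 := ded_20_1 (flp_f L216966) (flp_c L216954) L242092
theorem L242098 : sm gd N31053 = N29294 := ded_23_1 (flp_f L242090) (flp_d L242078) L242092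
theorem L242100 : sm ge N31053 = N28000 := ded_25_1 (flp_f L216956) L216948 L242092
theorem L242102 : sm gg N28524 = N31053 := ded_29_1 (flp_f L242092) (flp_g L242010) L242004 (flp_f L221102)
theorem L242104 : sm gb N31053 = N28737 := ded_16_1 (flp_f L223092) (flp_b L193153) L193161 (flp_b L216952) L242092
theorem L242106 : sm gf N28003 = N31054 := rfl
theorem L242108 : sm ga N31054 = N28005 := ded_11_1 (flp_f L216998) L216986 L242106
theorem L242110 : sm gc N31054 = N28102 := ded_20_1 (flp_f L217742) (flp_c L216988) L242106
theorem L242112 : sm ge N31054 = N29348 := ded_25_1 (flp_f L233423) L233421 L242106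
theorem L242114 : sm gg N29346 = N31054 := ded_29_1 (flp_f L242106) (flp_g L227754) L227750 (flp_f L227612)
theorem L242116 : sm gf N28004 = N31055 := rfl
theorem L242118 : sm ga N31055 = N29348 := ded_11_1 (flp_f L233423) L233425 L242116
theorem L242120 : sm gc N31055 = N28104 := ded_20_1 (flp_f L217750) (flp_c L216994) L242116
theorem L242122 : sm gd N31055 = N29135 := ded_23_1 (flp_f L226083) L216996 L242116
theorem L242124 : sm ge N31055 = N28005 := ded_25_1 (flp_f L216998) L216990 L242116
theorem L242126 : sm gg N31055 = N29340 := ded_29_3 L227564 L227598 (flp_g L227606) L242116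
theorem L242128 : sm gb N28005 = N31056 := rfl
theorem L242130 : sm gc N31056 = N31056 := ded_13_2 (flp_b L242128) L217000 L188310 (flp_c L217000) L242128
theorem L242131 : sm gf N31056 = N28009 := ded_16_2 (flp_b L217018) (flp_f L187861) L187853 L216998 L242128
theorem L242133 : sm ga N31056 = N31056 := ded_30_3 L242131 L217020 (flp_b L217018) (flp_a L216958) (flp_f L216956) (flp_c L187797) (flp_b L187811) L182263 L182275 L182277 L182279 L212951 L212955 L212973 L214072 (flp_a L188300) L188308 (flp_c L217000) L242128
theorem L242134 : sm gg N28005 = N31057 := rfl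
theorem L242136 : sm ga N31057 = N29346 := ded_12_1 L242114 L242108 L242134
theorem L242138 : sm gc N31057 = N28106 := ded_21_1 (flp_g L217763) (flp_c L217000) L242134
theorem L242140 : sm gd N31057 = N29372 := ded_24_1 (flp_g L227766) L226167 L242134
theorem L242142 : sm ge N31057 = N29340 := ded_26_1 (flp_g L242126) L242124 L242134
theorem L242144 : sm gf N29371 = N31057 := ded_29_0 (flp_g L242134) (flp_f L216998) L217002 (flp_a L227750)
theorem L242146 : sm gf N28007 = N31058 := rfl
theorem L242148 : sm ga N31058 = N29294 := ded_11_1 (flp_f L242090) L242080 L242146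
theorem L242150 : sm gc N31058 = N29138 := ded_20_1 (flp_f L226109) L217010 L242146
theorem L242152 : sm gd N31058 = N28008 := ded_23_1 (flp_f L217012) L217006 L242146
theorem L242154 : sm ge N31058 = N29292 := ded_25_1 L227188 L220144 L242146
theorem L242156 : sm gg N31058 = N29310 := ded_29_3 L227294 L227322 (flp_g L227330) L242146
theorem L242158 : sm gb N28008 = N31059 := rfl
theorem L242160 : sm ge N31059 = N28009 := ded_15_2 (flp_b L217018) (flp_e L217016) L242158
theorem L242162 : sm gc N31059 = N31059 := ded_13_2 (flp_b L242158) L217014 L187871 (flp_c L217014) L242158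
theorem L242163 : sm ga N31059 = N31059 := ded_10_3 L242160 L227183 (flp_e L242160)
theorem L242164 : sm gg N28008 = N31060 := rfl
theorem L242166 : sm ga N31060 = N28524 := ded_12_1 L242102 L242094 L242164
theorem L242168 : sm gc N31060 = N28011 := ded_21_1 (flp_g L217031) (flp_c L217014) L242164
theorem L242170 : sm gd N31060 = N29310 := ded_24_1 (flp_g L242156) L242152 L242164
theorem L242172 : sm ge N31060 = N28010 := ded_26_1 (flp_g L217021) (flp_e L217016) L242164
theorem L242174 : sm gf N31045 = N31060 := ded_29_0 (flp_g L242164) (flp_f L217012) (flp_g L216825) (flp_a L242004)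
theorem L242176 : sm gb N31057 = N31060 := ded_14_3 L242170 (flp_b L227768) (flp_d L242140)
theorem L242178 : sm gg N31059 = N31056 := ded_17_4 (flp_b L242128) L242134 L242176 (flp_g L242164) L242158
theorem L242180 : sm gg N28009 = N31061 := rfl
theorem L242182 : sm ga N31061 = N31061 := ded_12_1 (flp_g L242180) L227183 L242180
theorem L242183 : sm gc N31061 = N31061 := ded_21_1 (flp_g L242180) L217020 L242180
theorem L242184 : sm ge N31061 = N31056 := ded_26_1 (flp_g L242178) L242160 L242180
theorem L242186 : sm gf N31061 = N31059 := ded_29_0 L242178 L242131 L242180 L242182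
theorem L242188 : sm gb N31061 = N31055 := ded_17_1 L242126 L227566 (flp_g L217021) L217018 L242180
theorem L242190 : sm ga N28012 = N31062 := rfl
theorem L242192 : sm gd N31062 = N28013 := ded_9_2 (flp_a L217046) (flp_d L217043) L242190
theorem L242194 : sm gg N31062 = N31062 := ded_12_2 (flp_a L242190) L217045 L242190
theorem L242195 : sm gb N30971 = N31062 := ded_14_3 L242192 (flp_b L217051) (flp_d L241340)
theorem L242197 : sm gc N28012 = N31063 := rfl
theorem L242199 : sm gg N31063 = N31063 := ded_21_2 (flp_c L242197) L217045 L242197
theorem L242200 : sm gb N31063 = N29679 := ded_13_1 (flp_c L230076) L227566 L217025 L217041 L242197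
theorem L242202 : sm gd N29678 = N31063 := ded_14_0 L242200 (flp_d L230068) L230063
theorem L242204 : sm gf N28014 = N31064 := rfl
theorem L242206 : sm gc N31064 = N28015 := ded_20_1 (flp_f L217060) L217053 L242204
theorem L242208 : sm ge N31064 = N28239 := ded_25_1 (flp_f L218854) (flp_e L217055) L242204
theorem L242210 : sm gb N31064 = N30996 := ded_16_1 (flp_f L241560) L235278 (flp_f L217078) (flp_b L217058) L242204
theorem L242212 : sm gf N28020 = N31065 := rfl
theorem L242214 : sm ga N31065 = N28033 := ded_11_1 (flp_f L217222) (flp_a L217112) L242212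
theorem L242216 : sm gd N31065 = N28021 := ded_23_1 (flp_f L217116) L217110 L242212
theorem L242218 : sm ge N31065 = N29290 := ded_25_1 L227175 (flp_e L217114) L242212
theorem L242220 : sm gg N31006 = N31065 := ded_29_1 (flp_f L242212) (flp_g L236903) L236901 L241660
theorem L242222 : sm gb N30651 = N31065 := ded_15_3 L242218 L227173 L238459
theorem L242224 : sm gb N28021 = N31066 := rfl
theorem L242226 : sm gd N31066 = N30651 := ded_14_2 L242222 L242216 L242224
theorem L242228 : sm ge N31066 = N28022 := ded_15_2 (flp_b L217126) (flp_e L217122) L242224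
theorem L242230 : sm gg N28022 = N31067 := rfl
theorem L242232 : sm gd N31067 = N30493 := ded_24_1 (flp_g L237175) (flp_d L217128) L242230
theorem L242234 : sm gb N31067 = N31010 := ded_17_1 (flp_g L241674) (flp_b L216321) L187931 L217126 L242230
theorem L242236 : sm gg N28023 = N31068 := rfl
theorem L242238 : sm ga N31068 = N28025 := ded_12_1 (flp_g L217136) L217130 L242236
theorem L242240 : sm gc N31068 = N31031 := ded_21_1 L241882 L238911 L242236
theorem L242242 : sm gd N31068 = N28027 := ded_24_1 (flp_g L217154) (flp_d L217132) L242236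
theorem L242244 : sm ge N31068 = N30764 := ded_26_1 L239509 L238995 L242236
theorem L242246 : sm gf N30761 = N31068 := ded_29_0 (flp_g L242236) (flp_f L238937) L238939 (flp_a L239479)
theorem L242248 : sm gb N31068 = N28798 := ded_17_1 L223521 L231288 (flp_g L231346) (flp_b L231348) L242236
theorem L242250 : sm gf N28032 = N31069 := rfl
theorem L242252 : sm gc N31069 = N28033 := ded_20_1 (flp_f L217222) L217218 L242250
theorem L242254 : sm gd N31069 = N30470 := ded_23_1 (flp_f L236947) (flp_d L218868) L242250
theorem L242256 : sm gg N30468 = N31069 := ded_29_1 (flp_f L242250) (flp_g L236885) L236881 L236921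
theorem L242258 : sm gb N28033 = N31070 := rfl
theorem L242260 : sm gd N31070 = N28034 := ded_14_2 (flp_b L217226) (flp_d L217224) L242258
theorem L242262 : sm gf N31070 = N28653 := ded_16_2 (flp_b L222052) (flp_f L192731) (flp_b L187975) L217222 L242258
theorem L242264 : sm gg N28033 = N31071 := rfl
theorem L242266 : sm ga N31071 = N31006 := ded_12_1 L242220 L242214 L242264
theorem L242268 : sm gc N31071 = N30468 := ded_21_1 L242256 L242252 L242264
theorem L242270 : sm gd N31071 = N28035 := ded_24_1 (flp_g L217232) (flp_d L217224) L242264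
theorem L242272 : sm ge N31071 = N29646 := ded_26_1 (flp_g L229746) L220052 L242264
theorem L242274 : sm gf N30466 = N31071 := ded_29_0 (flp_g L242264) (flp_f L217222) (flp_g L216313) (flp_a L236901)
theorem L242276 : sm gb N29645 = N31071 := ded_30_2 L242266 (flp_f L241660) (flp_c L236887) L236883 L210685 L210725 (flp_c L237523) (flp_b L241830) L241828 (flp_f L240257) L240249 L240255 L229992 L230078 L230082 (flp_b L200833) L200383 L200417 (flp_c L229736)
theorem L242278 : sm ga N28034 = N31072 := rfl
theorem L242280 : sm ge N31072 = N28036 := ded_10_2 (flp_a L217242) (flp_e L217228) L242278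
theorem L242282 : sm gf N31072 = N28655 := ded_11_2 (flp_a L222070) (flp_f L217230) L242278
theorem L242284 : sm gb N30127 = N31072 := ded_15_3 L242280 (flp_b L217390) (flp_e L233943)
theorem L242286 : sm gg N28034 = N31073 := rfl
theorem L242288 : sm ge N31073 = N28037 := ded_26_1 (flp_g L217246) (flp_e L217228) L242286
theorem L242290 : sm gb N28035 = N31074 := rfl
theorem L242292 : sm gd N31074 = N29645 := ded_14_2 L242276 L242270 L242290
theorem L242294 : sm ge N31074 = N28038 := ded_15_2 (flp_b L217248) (flp_e L217238) L242290
theorem L242296 : sm gf N29644 = N31074 := ded_23_0 L242292 (flp_f L229734) L229732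
theorem L242298 : sm ga N28038 = N31075 := rfl
theorem L242300 : sm gd N31075 = N29139 := ded_9_2 L226115 L226067 L242298
theorem L242302 : sm gg N31075 = N29137 := ded_12_2 L226103 L222902 L242298
theorem L242304 : sm gf N28038 = N31076 := rfl
theorem L242306 : sm gd N31076 = N29642 := ded_23_1 (flp_f L229718) L226067 L242304
theorem L242308 : sm ge N31076 = N29644 := ded_25_1 L242296 L242294 L242304
theorem L242310 : sm gb N31076 = N29637 := ded_16_1 L229696 (flp_b L216281) L187993 L217248 L242304
theorem L242312 : sm gg N28042 = N31077 := rfl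
theorem L242314 : sm ga N31077 = N30184 := ded_12_1 L234403 L233641 L242312
theorem L242316 : sm gc N31077 = N31040 := ded_21_1 L241956 (flp_c L233637) L242312
theorem L242318 : sm gd N31077 = N28046 := ded_24_1 (flp_g L217290) (flp_d L217264) L242312
theorem L242320 : sm ge N31077 = N30752 := ded_26_1 L239399 L238813 L242312
theorem L242322 : sm gf N30182 = N31077 := ded_29_0 (flp_g L242312) (flp_f L217262) (flp_g L204203) L234375
theorem L242324 : sm gb N31077 = N30012 := ded_17_1 (flp_g L233031) L215747 (flp_g L216279) (flp_b L217266) L242312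
theorem L242326 : sm gd N28043 = N31078 := rfl
theorem L242328 : sm ga N31078 = N28045 := ded_9_1 (flp_d L217284) (flp_a L217270) L242326
theorem L242330 : sm gb N31078 = N30394 := ded_14_1 L236288 (flp_b L217274) L242326
theorem L242332 : sm ge N31078 = N30770 := ded_22_2 (flp_d L239567) L212651 (flp_d L189787) (flp_e L217272) L242326
theorem L242334 : sm gc N31041 = N31078 := ded_28_0 (flp_d L242326) (flp_c L217268) (flp_d L222533) (flp_c L216687) L187661 L187667 L216711 (flp_a L241962)
theorem L242336 : sm gf N28048 = N31079 := rfl
theorem L242338 : sm gc N31079 = N29580 := ded_20_1 (flp_f L229156) (flp_c L217316) L242336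
theorem L242340 : sm gd N31079 = N28049 := ded_23_1 (flp_f L217318) L217310 L242336
theorem L242342 : sm ge N31079 = N29585 := ded_25_1 (flp_f L229198) (flp_e L217314) L242336
theorem L242344 : sm gg N31079 = N30763 := ded_29_3 L239501 L239717 L239711 L242336
theorem L242346 : sm gb N31079 = N29823 := ded_16_1 (flp_f L231400) L238903 (flp_f L238891) (flp_b L217312) L242336
theorem L242348 : sm ge N28054 = N31080 := rfl
theorem L242350 : sm ga N31080 = N28057 := ded_10_1 (flp_e L217392) (flp_a L217368) L242348
theorem L242352 : sm gb N31080 = N29508 := ded_15_1 (flp_e L236969) L236965 L242348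
theorem L242354 : sm gc N31080 = N28055 := ded_19_1 (flp_e L217374) L217366 L242348
theorem L242356 : sm gf N31080 = N28069 := ded_25_2 (flp_e L217504) (flp_f L217370) L242348
theorem L242358 : sm gd N31080 = N29507 := ded_22_1 L228639 (flp_d L227210) (flp_e L216499) (flp_d L217372) L242348
theorem L242360 : sm ge N28056 = N31081 := rfl
theorem L242362 : sm ga N31081 = N30174 := ded_10_1 L234313 (flp_a L217386) L242360
theorem L242364 : sm gb N31081 = N28057 := ded_15_1 (flp_e L217392) L217384 L242360
theorem L242366 : sm gc N31081 = N31072 := ded_19_1 L242280 L217388 L242360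
theorem L242368 : sm gg N28056 = N31082 := rfl
theorem L242370 : sm ga N31082 = N30177 := ded_12_1 (flp_g L234343) (flp_a L217386) L242368
theorem L242372 : sm gc N31082 = N28663 := ded_21_1 L222122 L217388 L242368
theorem L242374 : sm gd N31082 = N28651 := ded_24_1 L222038 L221277 L242368
theorem L242376 : sm gf N31082 = N28662 := ded_29_2 (flp_g L222108) (flp_a L222092) L222094 L242368
theorem L242378 : sm gb N31082 = N29481 := ded_17_1 (flp_g L228475) L221265 L192169 L217384 L242368
theorem L242380 : sm gc N28059 = N31083 := rfl
theorem L242382 : sm ga N31083 = N30033 := ded_8_1 L233193 L217412 L242380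
theorem L242384 : sm ge N31083 = N30025 := ded_19_2 L233145 (flp_e L217410) L242380
theorem L242386 : sm gf N31083 = N30024 := ded_20_2 L233139 L217414 L242380
theorem L242388 : sm gf N28064 = N31084 := rfl
theorem L242390 : sm ga N31084 = N28786 := ded_11_1 (flp_f L223435) (flp_a L217456) L242388
theorem L242392 : sm gc N31084 = N30868 := ded_20_1 (flp_f L240411) (flp_c L217460) L242388
theorem L242394 : sm gd N31084 = N28251 := ded_23_1 (flp_f L218972) (flp_d L217462) L242388
theorem L242396 : sm ge N31084 = N28065 := ded_25_1 (flp_f L217464) L217454 L242388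
theorem L242398 : sm gg N31084 = N30851 := ded_29_3 (flp_a L241828) L241832 L240245 L242388
theorem L242400 : sm gb N31084 = N30843 := ded_16_1 L240185 (flp_b L239211) L239209 (flp_b L217458) L242388
theorem L242402 : sm gd N28069 = N31085 := rfl
theorem L242404 : sm ga N31085 = N28077 := ded_9_1 (flp_d L217562) (flp_a L217506) L242402
theorem L242406 : sm gb N31085 = N28616 := ded_14_1 L221752 (flp_b L217508) L242402
theorem L242408 : sm gf N31085 = N29507 := ded_23_2 (flp_d L242358) L242356 L242402
theorem L242410 : sm ge N31085 = N29438 := ded_22_2 L228152 L199363 (flp_d L188147) L217504 L242402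
theorem L242412 : sm gc N29085 = N31085 := ded_28_0 (flp_d L242402) L217510 L188177 (flp_c L190009) L219008 L225835 (flp_d L225829) L225821
theorem L242414 : sm gg N29437 = N31085 := ded_29_3 L242404 L228272 (flp_g L228264) (flp_f L228146)
theorem L242416 : sm gg N28069 = N31086 := rfl
theorem L242418 : sm ga N31086 = N28078 := ded_12_1 (flp_g L217568) (flp_a L217506) L242416
theorem L242420 : sm gc N31086 = N28071 := ded_21_1 (flp_g L217522) (flp_c L217510) L242416
theorem L242422 : sm gd N31086 = N29437 := ded_24_1 L242414 (flp_d L242402) L242416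
theorem L242424 : sm ge N31086 = N28070 := ded_26_1 (flp_g L217512) L217504 L242416
theorem L242426 : sm gf N31086 = N28549 := ded_29_2 L221271 (flp_a L242350) L242356 L242416
theorem L242428 : sm gb N31086 = N28801 := ded_17_1 (flp_g L223527) (flp_b L193469) L193471 (flp_b L217508) L242416
theorem L242430 : sm gg N28073 = N31087 := rfl
theorem L242432 : sm ga N31087 = N28076 := ded_12_1 (flp_g L217558) L217542 L242430
theorem L242434 : sm gc N31087 = N28119 := ded_21_1 (flp_g L217847) (flp_c L217544) L242430
theorem L242436 : sm ge N31087 = N29489 := ded_26_1 (flp_g L234179) L234177 L242430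
theorem L242438 : sm gf N31087 = N29488 := ded_29_2 (flp_g L228521) (flp_a L228671) L228675 L242430
theorem L242440 : sm gg N28074 = N31088 := rfl
theorem L242442 : sm ga N31088 = N29489 := ded_12_1 (flp_g L234179) L234181 L242440
theorem L242444 : sm gc N31088 = N28121 := ded_21_1 (flp_g L217857) (flp_c L217550) L242440
theorem L242446 : sm gd N31088 = N29084 := ded_24_1 (flp_g L225811) L217552 L242440
theorem L242448 : sm ge N31088 = N28076 := ded_26_1 (flp_g L217558) L217546 L242440
theorem L242450 : sm gf N29482 = N31088 := ded_29_0 (flp_g L242440) L228543 (flp_g L228533) (flp_a L228479)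
theorem L242452 : sm gb N28076 = N31089 := rfl
theorem L242454 : sm gc N31089 = N31089 := ded_13_2 (flp_b L242452) L217560 L188384 (flp_c L217560) L242452
theorem L242455 : sm gg N31089 = N28079 := ded_17_2 (flp_b L217574) (flp_g L188207) L188199 L217558 L242452
theorem L242457 : sm ga N31089 = N31089 := ded_12_3 L242455 L227360 (flp_g L242455)
theorem L242458 : sm gf N28076 = N31090 := rfl
theorem L242460 : sm ga N31090 = N29488 := ded_11_1 (flp_f L242438) L242432 L242458
theorem L242462 : sm gc N31090 = N28123 := ded_20_1 (flp_f L217868) (flp_c L217560) L242458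
theorem L242464 : sm gd N31090 = N29512 := ded_23_1 L228689 L225905 L242458
theorem L242466 : sm ge N31090 = N29482 := ded_25_1 L242450 L242448 L242458
theorem L242468 : sm gg N31090 = N29511 := ded_29_3 L228671 (flp_f L217554) L217558 L242458
theorem L242470 : sm gg N28077 = N31091 := rfl
theorem L242472 : sm ga N31091 = N29437 := ded_12_1 L242414 L242404 L242470
theorem L242474 : sm gc N31091 = N29088 := ded_21_1 (flp_g L225841) L217566 L242470
theorem L242476 : sm gd N31091 = N28078 := ded_24_1 (flp_g L217568) L217562 L242470
theorem L242478 : sm ge N31091 = N29435 := ded_26_1 L228138 L219928 L242470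
theorem L242480 : sm gf N29453 = N31091 := ded_29_0 (flp_g L242470) L228272 (flp_g L228264) (flp_a L228246)
theorem L242482 : sm gb N28078 = N31092 := rfl
theorem L242484 : sm ge N31092 = N28079 := ded_15_2 (flp_b L217574) (flp_e L217572) L242482
theorem L242486 : sm gc N31092 = N31092 := ded_13_2 (flp_b L242482) L217570 L188217 (flp_c L217570) L242482
theorem L242487 : sm ga N31092 = N31092 := ded_10_3 L242484 L227360 (flp_e L242484)
theorem L242488 : sm gf N31092 = N31089 := ded_30_4 L242454 (flp_b L242452) (flp_a L242432) L242438 L228523 L234001 L233229 (flp_f L203489) (flp_c L203431) (flp_b L203429) (flp_a L203405) L233141 L233145 L217404 (flp_a L217589) (flp_f L217587) (flp_c L217570) L242482 L242487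
theorem L242490 : sm gf N28078 = N31093 := rfl
theorem L242492 : sm ga N31093 = N28549 := ded_11_1 (flp_f L242426) L242418 L242490
theorem L242494 : sm gc N31093 = N28081 := ded_20_1 (flp_f L217587) (flp_c L217570) L242490
theorem L242496 : sm gd N31093 = N29453 := ded_23_1 L242480 L242476 L242490
theorem L242498 : sm ge N31093 = N28080 := ded_25_1 (flp_f L217577) (flp_e L217572) L242490
theorem L242500 : sm gg N31093 = N31080 := ded_29_3 L242350 L217396 L217568 L242490
theorem L242502 : sm gb N31093 = N31090 := ded_16_1 (flp_f L242458) L242452 (flp_f L242488) (flp_b L242482) L242490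
theorem L242504 : sm gf N28079 = N31094 := rfl
theorem L242506 : sm ga N31094 = N31094 := ded_11_1 (flp_f L242504) L227360 L242504
theorem L242507 : sm gc N31094 = N31094 := ded_20_1 (flp_f L242504) L217576 L242504
theorem L242508 : sm ge N31094 = N31089 := ded_25_1 (flp_f L242488) L242484 L242504
theorem L242510 : sm gg N31092 = N31094 := ded_29_3 L242506 (flp_f L242504) (flp_g L242455) (flp_f L242488)
theorem L242512 : sm gb N31094 = N31088 := ded_16_1 (flp_f L242450) L228481 (flp_f L217577) L217574 L242504
theorem L242514 : sm ga N28082 = N31095 := rfl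
theorem L242516 : sm gd N31095 = N28083 := ded_9_2 (flp_a L217602) (flp_d L217599) L242514
theorem L242518 : sm gf N31095 = N31095 := ded_11_2 (flp_a L242514) L217601 L242514
theorem L242519 : sm gb N30968 = N31095 := ded_14_3 L242516 (flp_b L217607) (flp_d L241322)
theorem L242521 : sm gc N28082 = N31096 := rfl
theorem L242523 : sm gf N31096 = N31096 := ded_20_2 (flp_c L242521) L217601 L242521
theorem L242524 : sm gb N31096 = N29909 := ded_13_1 (flp_c L232148) L228481 L217581 L217597 L242521
theorem L242526 : sm gd N29908 = N31096 := ded_14_0 L242524 (flp_d L232140) L232135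
theorem L242528 : sm gg N28084 = N31097 := rfl
theorem L242530 : sm gc N31097 = N28085 := ded_21_1 (flp_g L217616) L217609 L242528
theorem L242532 : sm ge N31097 = N28261 := ded_26_1 (flp_g L219066) (flp_e L217611) L242528
theorem L242534 : sm gb N31097 = N31021 := ded_17_1 L241776 L235850 (flp_g L217634) (flp_b L217614) L242528
theorem L242536 : sm gf N28089 = N31098 := rfl
theorem L242538 : sm ga N31098 = N28096 := ded_11_1 (flp_f L217704) (flp_a L217656) L242536
theorem L242540 : sm gc N31098 = N28091 := ded_20_1 (flp_f L217668) L217654 L242536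
theorem L242542 : sm gd N31098 = N29990 := ded_23_1 (flp_f L232859) L217658 L242536
theorem L242544 : sm gg N31098 = N29988 := ded_29_1 L232847 (flp_g L217708) (flp_a L217656) L242536
theorem L242546 : sm gb N31098 = N29983 := ded_16_1 (flp_f L232813) L231024 L228782 L228776 L242536
theorem L242548 : sm gg N28089 = N31099 := rfl
theorem L242550 : sm ga N31099 = N28097 := ded_12_1 (flp_g L217708) (flp_a L217656) L242548
theorem L242552 : sm gc N31099 = N28092 := ded_21_1 (flp_g L217674) L217654 L242548
theorem L242554 : sm gd N31099 = N29991 := ded_24_1 (flp_g L232863) L217658 L242548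
theorem L242556 : sm ge N31099 = N28114 := ded_26_1 L231068 L231062 L242548
theorem L242558 : sm gf N28113 = N31099 := ded_29_0 (flp_g L242548) L242536 L242544 L232849
theorem L242560 : sm gb N29915 = N31099 := ded_31_14 (flp_g L242548) L242536 L242546 (flp_g L232807) (flp_f L203129) L206384 (flp_g L201552) (flp_f L169623) (flp_b L117455) (flp_g L117283) L169315 L200940 L230288 (flp_f L232198)
theorem L242562 : sm gb N28091 = N31100 := rfl
theorem L242564 : sm gd N31100 = N28093 := ded_14_2 (flp_b L217684) (flp_d L217672) L242562
theorem L242566 : sm gc N31100 = N30331 := ded_13_2 (flp_b L235741) (flp_c L232809) (flp_b L242546) L242540 L242562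
theorem L242568 : sm gf N31100 = N29901 := ded_16_2 (flp_b L237683) (flp_f L237673) (flp_b L210097) L217668 L242562
theorem L242570 : sm ga N29904 = N31100 := ded_9_3 L242564 L217692 (flp_d L232098)
theorem L242572 : sm ge N28094 = N31101 := rfl
theorem L242574 : sm ga N31101 = N29989 := ded_10_1 (flp_e L232853) (flp_a L217696) L242572
theorem L242576 : sm gc N31101 = N29984 := ded_19_1 (flp_e L232815) L217698 L242572
theorem L242578 : sm gf N28094 = N31102 := rfl
theorem L242580 : sm ga N31102 = N29990 := ded_11_1 (flp_f L232859) (flp_a L217696) L242578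
theorem L242582 : sm gc N31102 = N29985 := ded_20_1 (flp_f L232819) L217698 L242578
theorem L242584 : sm gd N31102 = N28096 := ded_23_1 (flp_f L217704) L217694 L242578
theorem L242586 : sm gg N28094 = N31103 := rfl
theorem L242588 : sm ga N31103 = N29991 := ded_12_1 (flp_g L232863) (flp_a L217696) L242586
theorem L242590 : sm gc N31103 = N29986 := ded_21_1 (flp_g L232827) L217698 L242586
theorem L242592 : sm gd N31103 = N28097 := ded_24_1 (flp_g L217708) L217694 L242586
theorem L242594 : sm gb N31103 = N29691 := ded_30_2 L230188 L230208 (flp_c L230204) L200908 L169303 L199084 L199086 L199096 L227698 L227702 L232236 L232232 L223805 (flp_f L223821) L207373 (flp_b L232895) L232889 (flp_f L232885) (flp_c L242590)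
theorem L242596 : sm gd N28095 = N31104 := rfl
theorem L242598 : sm gb N31104 = N29420 := ded_14_1 L228046 L217972 L242596
theorem L242600 : sm gc N29794 = N31104 := ded_28_0 (flp_d L242596) L217702 L188279 (flp_c L160646) (flp_d L171067) (flp_c L201562) (flp_d L231110) L231108
theorem L242602 : sm gg N31104 = N29789 := ded_21_2 L231078 L231098 L242600
theorem L242604 : sm gg N28095 = N31105 := rfl
theorem L242606 : sm ga N31105 = N28114 := ded_12_1 L231068 L231064 L242604
theorem L242608 : sm gc N31105 = N28098 := ded_21_1 (flp_g L217712) (flp_c L217702) L242604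
theorem L242610 : sm gd N31105 = N29789 := ded_24_1 (flp_g L242602) (flp_d L242596) L242604
theorem L242612 : sm ge N31105 = N28097 := ded_26_1 (flp_g L217708) L217700 L242604
theorem L242614 : sm gf N28109 = N31105 := ded_29_0 (flp_g L242604) L217831 (flp_g L217825) (flp_a L217783)
theorem L242616 : sm gb N31105 = N29692 := ded_17_1 (flp_g L232304) (flp_b L232745) L232743 L217972 L242604
theorem L242618 : sm gb N28096 = N31106 := rfl
theorem L242620 : sm gc N31106 = N31106 := ded_13_2 (flp_b L242618) L217706 L188285 (flp_c L217706) L242618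
theorem L242621 : sm ga N31106 = N31106 := ded_7_1 (flp_b L242618) (flp_a L242538) L242546 (flp_a L235427) L235433 L235427 (flp_b L242546) L242538 L242618
theorem L242622 : sm gg N28100 = N31107 := rfl
theorem L242624 : sm ga N31107 = N30990 := ded_12_1 L241500 L237709 L242622
theorem L242626 : sm gc N31107 = N28283 := ded_21_1 (flp_g L235306) L235300 L242622
theorem L242628 : sm ge N31107 = N28263 := ded_26_1 (flp_g L219084) (flp_e L217734) L242622
theorem L242630 : sm gf N30340 = N31107 := ded_29_0 (flp_g L242622) (flp_f L233125) L233127 (flp_a L235834)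
theorem L242632 : sm gb N31107 = N29907 := ded_17_1 L232133 (flp_b L217684) (flp_g L188298) L217732 L242622
theorem L242634 : sm gf N28101 = N31108 := rfl
theorem L242636 : sm ga N31108 = N28104 := ded_11_1 (flp_f L217750) (flp_a L217738) L242634
theorem L242638 : sm gc N31108 = N29348 := ded_20_1 (flp_f L233423) (flp_c L233429) L242634
theorem L242640 : sm gd N31108 = N30836 := ded_23_1 (flp_f L240119) (flp_d L217740) L242634
theorem L242642 : sm ge N31108 = N28102 := ded_25_1 (flp_f L217742) L217736 L242634
theorem L242644 : sm gg N31108 = N29345 := ded_29_1 (flp_f L227610) (flp_g L217757) (flp_a L217738) L242634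
theorem L242646 : sm gg N28101 = N31109 := rfl
theorem L242648 : sm ga N31109 = N28105 := ded_12_1 (flp_g L217757) (flp_a L217738) L242646
theorem L242650 : sm gc N31109 = N28298 := ded_21_1 L233427 (flp_c L233429) L242646
theorem L242652 : sm gd N31109 = N29680 := ded_24_1 L230086 (flp_d L217740) L242646
theorem L242654 : sm ge N31109 = N28103 := ded_26_1 (flp_g L217746) L217736 L242646
theorem L242656 : sm gf N29679 = N31109 := ded_29_0 (flp_g L242646) L242634 L242644 (flp_a L230070)
theorem L242658 : sm gb N28106 = N31110 := rfl
theorem L242660 : sm gd N31110 = N29187 := ded_14_2 L226392 L217908 L242658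
theorem L242662 : sm ge N31110 = N31063 := ded_15_2 L242200 L230074 L242658
theorem L242664 : sm gc N31110 = N29607 := ded_13_2 L229395 (flp_c L242168) (flp_b L242176) L242138 L242658
theorem L242666 : sm gf N31110 = N30852 := ded_16_2 L240271 L240287 (flp_b L240291) L217765 L242658
theorem L242668 : sm gg N31110 = N31110 := ded_17_2 (flp_b L242658) (flp_g L217763) L188310 L217763 L242658
theorem L242669 : sm gg N28109 = N31111 := rfl
theorem L242671 : sm ga N31111 = N28115 := ded_12_1 (flp_g L217825) (flp_a L217783) L242669
theorem L242673 : sm gc N31111 = N28110 := ded_21_1 (flp_g L217787) L217781 L242669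
theorem L242675 : sm gd N31111 = N29790 := ded_24_1 (flp_g L231080) L217785 L242669
theorem L242677 : sm ge N31111 = N31098 := ded_26_1 L242544 L232845 L242669
theorem L242679 : sm gf N29787 = N31111 := ded_29_0 (flp_g L242669) L242614 (flp_g L242604) (flp_a L231064)
theorem L242681 : sm gb N31111 = N29782 := ded_17_1 L232805 L232797 L227849 L227843 L242669
theorem L242683 : sm gb N28110 = N31112 := rfl
theorem L242685 : sm gd N31112 = N28111 := ded_14_2 (flp_b L217797) (flp_d L217791) L242683
theorem L242687 : sm ge N31112 = N31100 := ded_15_2 (flp_b L242562) (flp_e L217793) L242683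
theorem L242689 : sm gc N31112 = N30368 := ded_13_2 (flp_b L236089) (flp_c L231034) (flp_b L242681) L242673 L242683
theorem L242691 : sm gg N31112 = N29671 := ded_17_2 L237725 (flp_g L237715) (flp_b L210149) L217787 L242683
theorem L242693 : sm ga N29675 = N31112 := ded_9_3 L242685 (flp_a L217805) (flp_d L230040)
theorem L242695 : sm ge N28112 = N31113 := rfl
theorem L242697 : sm ga N31113 = N29788 := ded_10_1 (flp_e L231070) (flp_a L217809) L242695
theorem L242699 : sm gc N31113 = N29783 := ded_19_1 (flp_e L231036) L217811 L242695
theorem L242701 : sm gf N28112 = N31114 := rfl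
theorem L242703 : sm ga N31114 = N29789 := ded_11_1 (flp_f L231076) (flp_a L217809) L242701
theorem L242705 : sm gc N31114 = N29784 := ded_20_1 (flp_f L231040) L217811 L242701
theorem L242707 : sm gd N31114 = N28114 := ded_23_1 (flp_f L217819) L217807 L242701
theorem L242709 : sm gb N29914 = N31114 := ded_14_3 L242707 L217823 L232190
theorem L242711 : sm gg N28112 = N31115 := rfl
theorem L242713 : sm ga N31115 = N29790 := ded_12_1 (flp_g L231080) (flp_a L217809) L242711
theorem L242715 : sm gc N31115 = N29785 := ded_21_1 (flp_g L231046) L217811 L242711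
theorem L242717 : sm gd N31115 = N28115 := ded_24_1 (flp_g L217825) L217807 L242711
theorem L242719 : sm gf N31115 = N31104 := ded_29_2 L242602 (flp_a L242703) (flp_f L242701) L242711
theorem L242721 : sm gd N28113 = N31116 := rfl
theorem L242723 : sm gb N31116 = N29560 := ded_14_1 L229005 L218118 L242721
theorem L242725 : sm gf N31116 = N29991 := ded_23_2 (flp_d L242554) (flp_f L242558) L242721
theorem L242727 : sm gg N31116 = N31102 := ded_24_2 L242584 L217817 L242721
theorem L242729 : sm gc N29996 = N31116 := ded_28_0 (flp_d L242721) L217815 L188345 (flp_c L160838) (flp_d L171402) (flp_c L203187) (flp_d L232883) (flp_a L232889)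
theorem L242731 : sm gb N28115 = N31117 := rfl
theorem L242733 : sm ge N31117 = N31106 := ded_15_2 (flp_b L242618) (flp_e L217829) L242731
theorem L242735 : sm gc N31117 = N31117 := ded_13_2 (flp_b L242731) L217827 L188359 (flp_c L217827) L242731
theorem L242736 : sm ga N31117 = N31117 := ded_7_1 (flp_b L242731) (flp_a L242671) L242681 (flp_a L235985) L235993 L235985 (flp_b L242681) L242671 L242731
theorem L242737 : sm gf N28116 = N31118 := rfl
theorem L242739 : sm ga N31118 = N31016 := ded_11_1 (flp_f L241726) L237667 L242737
theorem L242741 : sm gc N31118 = N28273 := ded_20_1 L235878 L235872 L242737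
theorem L242743 : sm ge N31118 = N28262 := ded_25_1 (flp_f L219072) (flp_e L217835) L242737
theorem L242745 : sm gg N31118 = N30279 := ded_29_3 L235248 (flp_f L233873) L233875 L242737
theorem L242747 : sm gb N31118 = N29676 := ded_16_1 (flp_f L230050) (flp_b L217797) L188370 L217833 L242737
theorem L242749 : sm gf N28117 = N31119 := rfl
theorem L242751 : sm ga N31119 = N28120 := ded_11_1 (flp_f L217851) (flp_a L217839) L242749
theorem L242753 : sm gc N31119 = N28303 := ded_20_1 L234183 (flp_c L234185) L242749
theorem L242755 : sm gd N31119 = N29910 := ded_23_1 (flp_f L232158) (flp_d L217841) L242749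
theorem L242757 : sm ge N31119 = N28118 := ded_25_1 (flp_f L217843) L217837 L242749
theorem L242759 : sm gg N31119 = N29909 := ded_29_1 L232144 (flp_g L217857) (flp_a L217839) L242749
theorem L242761 : sm gg N28117 = N31120 := rfl
theorem L242763 : sm ga N31120 = N28121 := ded_12_1 (flp_g L217857) (flp_a L217839) L242761
theorem L242765 : sm gc N31120 = N29489 := ded_21_1 (flp_g L234179) (flp_c L234185) L242761
theorem L242767 : sm gd N31120 = N30894 := ded_24_1 (flp_g L240613) (flp_d L217841) L242761
theorem L242769 : sm ge N31120 = N28119 := ded_26_1 (flp_g L217847) L217837 L242761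
theorem L242771 : sm gf N29487 = N31120 := ded_29_0 (flp_g L242761) L242749 L242759 L232142
theorem L242773 : sm gb N28123 = N31121 := rfl
theorem L242775 : sm gd N31121 = N29242 := ded_14_2 L226793 L218066 L242773
theorem L242777 : sm ge N31121 = N31096 := ded_15_2 L242524 L232146 L242773
theorem L242779 : sm gc N31121 = N29844 := ded_13_2 L231541 (flp_c L242494) L242502 L242462 L242773
theorem L242781 : sm gf N31121 = N31121 := ded_16_2 (flp_b L242773) (flp_f L217868) L188384 L217868 L242773
theorem L242782 : sm gg N31121 = N30794 := ded_17_2 L239793 L239807 (flp_b L239811) (flp_g L217872) L242773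
theorem L242784 : sm gf N28124 = N31122 := rfl
theorem L242786 : sm ga N31122 = N30796 := ded_11_1 L239803 (flp_a L217882) L242784
theorem L242788 : sm gc N31122 = N30881 := ded_20_1 (flp_f L240525) (flp_c L217880) L242784
theorem L242790 : sm gd N31122 = N30795 := ded_23_1 L239799 (flp_d L217876) L242784
theorem L242792 : sm ge N31122 = N30907 := ded_25_1 (flp_f L240732) (flp_e L217878) L242784
theorem L242794 : sm gg N28124 = N31123 := rfl
theorem L242796 : sm ga N31123 = N30801 := ded_12_1 (flp_g L239841) (flp_a L217882) L242794
theorem L242798 : sm gc N31123 = N30882 := ded_21_1 (flp_g L240529) (flp_c L217880) L242794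
theorem L242800 : sm gd N31123 = N30799 := ded_24_1 (flp_g L239823) (flp_d L217876) L242794
theorem L242802 : sm ge N31123 = N30908 := ded_26_1 (flp_g L240738) (flp_e L217878) L242794
theorem L242804 : sm gb N28125 = N31124 := rfl
theorem L242806 : sm gd N31124 = N30877 := ded_14_2 L240503 (flp_d L217890) L242804
theorem L242808 : sm ge N31124 = N30909 := ded_15_2 (flp_b L240744) (flp_e L217892) L242804
theorem L242810 : sm gg N31124 = N30226 := ded_17_2 (flp_b L234763) L234783 (flp_b L234795) L217924 L242804
theorem L242812 : sm ga N30882 = N31124 := ded_9_3 L242806 L240499 (flp_d L240531)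
theorem L242814 : sm gc N30801 = N31124 := ded_28_6 L242806 L240499 L213743 L182841 L145694 (flp_d L182303) (flp_c L212993) (flp_d L239843)
theorem L242816 : sm gb N28126 = N31125 := rfl
theorem L242818 : sm gd N31125 = N30855 := ded_14_2 (flp_b L240291) (flp_d L217900) L242816
theorem L242820 : sm ge N31125 = N30910 := ded_15_2 (flp_b L240752) (flp_e L217902) L242816
theorem L242822 : sm gf N30854 = N31125 := ded_23_0 L242818 (flp_f L240287) L240281
theorem L242824 : sm gd N28129 = N31126 := rfl
theorem L242826 : sm ga N31126 = N28135 := ded_9_1 (flp_d L217964) (flp_a L217928) L242824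
theorem L242828 : sm gb N31126 = N29773 := ded_14_1 L230798 (flp_b L217930) L242824
theorem L242830 : sm gc N28135 = N31126 := ded_28_0 (flp_d L242824) (flp_c L217926) (flp_d L188414) L156953 L188414 L217926 L242824 L242826
theorem L242832 : sm gf N28129 = N31127 := rfl
theorem L242834 : sm ga N31127 = N28137 := ded_11_1 (flp_f L217976) (flp_a L217928) L242832
theorem L242836 : sm gc N31127 = N28131 := ded_20_1 (flp_f L217944) L217926 L242832
theorem L242838 : sm ge N31127 = N29770 := ded_25_1 L230778 L217932 L242832
theorem L242840 : sm gg N31127 = N28150 := ded_29_3 L218074 L218122 L222882 L242832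
theorem L242842 : sm gb N31127 = N29769 := ded_16_1 (flp_f L230770) L201418 L201434 (flp_b L217930) L242832
theorem L242844 : sm gf N28130 = N31128 := rfl
theorem L242846 : sm ga N31128 = N28139 := ded_11_1 (flp_f L217984) (flp_a L217936) L242844
theorem L242848 : sm gc N31128 = N29770 := ded_20_1 L230778 (flp_c L217940) L242844
theorem L242850 : sm gd N31128 = N30913 := ded_23_1 (flp_f L240778) (flp_d L217942) L242844
theorem L242852 : sm ge N31128 = N28131 := ded_25_1 (flp_f L217944) L217934 L242844
theorem L242854 : sm gg N31128 = N28151 := ded_29_3 L218082 L218130 L222880 L242844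
theorem L242856 : sm gb N28131 = N31129 := rfl
theorem L242858 : sm gd N31129 = N28133 := ded_14_2 (flp_b L217956) (flp_d L217948) L242856
theorem L242860 : sm ga N28133 = N31130 := rfl
theorem L242862 : sm ge N31130 = N30915 := ded_10_2 (flp_a L240794) (flp_e L217958) L242860
theorem L242864 : sm gc N28133 = N31131 := rfl
theorem L242866 : sm ge N31131 = N30916 := ded_19_2 (flp_c L240800) (flp_e L217958) L242864
theorem L242868 : sm gb N31131 = N31131 := ded_13_1 (flp_c L242864) (flp_b L217956) L188422 L217956 L242864
theorem L242869 : sm ge N28135 = N31132 := rfl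
theorem L242871 : sm gb N31132 = N31101 := ded_15_1 (flp_e L242572) (flp_b L217966) L242869
theorem L242873 : sm gf N28135 = N31133 := rfl
theorem L242875 : sm gd N31133 = N28137 := ded_23_1 (flp_f L217976) L217964 L242873
theorem L242877 : sm gg N28156 = N31133 := ded_24_0 L242875 L222750 L218110
theorem L242879 : sm gg N28135 = N31134 := rfl
theorem L242881 : sm gd N31134 = N28138 := ded_24_1 (flp_g L217980) L217964 L242879
theorem L242883 : sm gf N28136 = N31135 := rfl
theorem L242885 : sm ga N31135 = N29770 := ded_11_1 L230778 (flp_a L217970) L242883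
theorem L242887 : sm gc N31135 = N28139 := ded_20_1 (flp_f L217984) (flp_c L217974) L242883
theorem L242889 : sm ge N31135 = N28137 := ded_25_1 (flp_f L217976) L217968 L242883
theorem L242891 : sm gg N31135 = N28157 := ded_29_3 L218116 L232733 L232743 L242883
theorem L242893 : sm gb N28137 = N31136 := rfl
theorem L242895 : sm gc N31136 = N31136 := ded_13_2 (flp_b L242893) L217978 L188446 (flp_c L217978) L242893
theorem L242896 : sm gf N31136 = N31106 := ded_16_2 (flp_b L242618) (flp_f L217704) (flp_b L188434) L217976 L242893
theorem L242898 : sm gg N31136 = N31117 := ded_17_2 (flp_b L242731) (flp_g L217825) (flp_b L188516) (flp_g L222750) L242893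
theorem L242900 : sm ga N31136 = N31136 := ded_30_3 L242896 L242620 (flp_b L242618) (flp_a L242538) (flp_f L242536) (flp_c L217654) L210097 L210095 L210119 L210121 L179381 (flp_a L209953) L209957 L198328 (flp_b L214058) L188416 L188442 (flp_c L217978) L242893
theorem L242901 : sm gf N28145 = N31137 := rfl
theorem L242903 : sm ga N31137 = N30859 := ded_11_1 (flp_f L240325) (flp_a L218028) L242901
theorem L242905 : sm gc N31137 = N30823 := ded_20_1 (flp_f L240039) (flp_c L218026) L242901
theorem L242907 : sm gd N31137 = N30857 := ded_23_1 (flp_f L240303) (flp_d L218022) L242901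
theorem L242909 : sm ge N31137 = N30932 := ded_25_1 (flp_f L240962) (flp_e L218024) L242901
theorem L242911 : sm gg N31137 = N31125 := ded_29_1 (flp_f L242822) L240283 (flp_a L218028) L242901
theorem L242913 : sm gb N31123 = N31137 := ded_14_3 L242907 L240311 (flp_d L242800)
theorem L242915 : sm gg N28145 = N31138 := rfl
theorem L242917 : sm ga N31138 = N30854 := ded_12_1 L240283 (flp_a L218028) L242915
theorem L242919 : sm gc N31138 = N30824 := ded_21_1 (flp_g L240043) (flp_c L218026) L242915
theorem L242921 : sm gd N31138 = N30853 := ded_24_1 L240277 (flp_d L218022) L242915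
theorem L242923 : sm ge N31138 = N30933 := ded_26_1 (flp_g L240972) (flp_e L218024) L242915
theorem L242925 : sm gb N28146 = N31139 := rfl
theorem L242927 : sm gd N31139 = N30797 := ded_14_2 (flp_b L239811) (flp_d L218036) L242925
theorem L242929 : sm ge N31139 = N30934 := ded_15_2 (flp_b L240978) (flp_e L218038) L242925
theorem L242931 : sm gf N31139 = N31123 := ded_16_2 L242913 (flp_f L242901) (flp_b L218020) L218030 L242925
theorem L242933 : sm gg N30796 = N31139 := ded_24_0 L242927 (flp_g L239807) L239801
theorem L242935 : sm gb N28147 = N31140 := rfl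
theorem L242937 : sm gd N31140 = N30818 := ded_14_2 L240011 (flp_d L218046) L242935
theorem L242939 : sm ge N31140 = N30935 := ded_15_2 (flp_b L240986) (flp_e L218048) L242935
theorem L242941 : sm gf N31140 = N30207 := ded_16_2 (flp_b L234617) L234627 (flp_b L234639) (flp_f L218058) L242935
theorem L242943 : sm ga N31140 = N30823 := ded_30_3 (flp_f L240039) (flp_c L218026) (flp_b L218020) (flp_a L188467) L188475 L188477 (flp_b L204346) (flp_a L234629) (flp_f L234627) L204336 L198591 L167762 (flp_f L167722) (flp_c L198526) (flp_b L222868) L204400 (flp_f L204396) (flp_c L218044) L242935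
theorem L242945 : sm gc N30859 = N31140 := ded_30_1 (flp_b L242935) L218042 L218060 L218064 L222868 (flp_a L226854) L226858 L198619 (flp_b L198591) L204329 L234603 L234607 L204346 (flp_a L204364) (flp_f L204362) (flp_c L188469) L218020 L218028 L240325
theorem L242947 : sm gd N28150 = N31141 := rfl
theorem L242949 : sm ga N31141 = N28156 := ded_9_1 (flp_d L218110) (flp_a L218074) L242947
theorem L242951 : sm gb N31141 = N29975 := ded_14_1 L232727 (flp_b L218076) L242947
theorem L242953 : sm gf N31141 = N31134 := ded_23_2 L242881 (flp_f L222884) L242947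
theorem L242955 : sm gc N28156 = N31141 := ded_28_0 (flp_d L242947) (flp_c L218072) (flp_d L188496) L156990 L188496 L218072 L242947 L242949
theorem L242957 : sm ge N28156 = N31142 := rfl
theorem L242959 : sm gb N31142 = N31113 := ded_15_1 (flp_e L242695) (flp_b L218112) L242957
theorem L242961 : sm gf N28156 = N31143 := rfl
theorem L242963 : sm ga N31143 = N31134 := ded_11_1 (flp_f L242953) L242949 L242961
theorem L242965 : sm gc N31143 = N31134 := ded_20_1 (flp_f L242953) (flp_c L242955) L242961
theorem L242967 : sm gd N31143 = N28158 := ded_23_1 (flp_f L218122) L218110 L242961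
theorem L242969 : sm gg N31143 = N31126 := ded_29_3 L242826 L242873 (flp_g L242877) L242961
theorem L242971 : sm ge N28195 = N31144 := rfl
theorem L242973 : sm ga N31144 = N28197 := ded_10_1 (flp_e L218464) (flp_a L218450) L242971
theorem L242975 : sm gb N31144 = N29655 := ded_15_1 L229856 (flp_b L218452) L242971
theorem L242977 : sm gf N31144 = N30946 := ded_25_2 L241092 (flp_f L218454) L242971
theorem L242979 : sm gd N31144 = N30994 := ded_22_1 L241530 (flp_d L218392) L218394 L218448 L242971
theorem L242981 : sm gg N28197 = N31145 := rfl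
theorem L242983 : sm ge N31145 = N28198 := ded_26_1 (flp_g L218468) L218464 L242981
theorem L242985 : sm gb N31145 = N30489 := ded_17_1 (flp_g L237141) (flp_b L218424) L218428 (flp_b L218466) L242981
theorem L242987 : sm gc N28201 = N31146 := rfl
theorem L242989 : sm ge N31146 = N29137 := ded_19_2 (flp_c L226107) L218802 L242987
theorem L242991 : sm gb N29140 = N31146 := ded_15_3 L242989 L226105 L226117
theorem L242993 : sm gf N28201 = N31147 := rfl
theorem L242995 : sm ga N31147 = N28695 := ded_11_1 (flp_f L222427) L218848 L242993
theorem L242997 : sm gd N31147 = N28202 := ded_23_1 (flp_f L218502) L218500 L242993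
theorem L242999 : sm ge N31147 = N28696 := ded_25_1 L222433 L218802 L242993
theorem L243001 : sm gg N31147 = N30697 := ded_29_3 (flp_a L238873) (flp_f L237661) L237663 L242993
theorem L243003 : sm gb N31147 = N30615 := ded_16_1 (flp_f L238163) L230640 L230708 (flp_b L230710) L242993
theorem L243005 : sm ge N28207 = N31148 := rfl
theorem L243007 : sm ga N31148 = N28209 := ded_10_1 (flp_e L218568) (flp_a L218554) L243005
theorem L243009 : sm gb N31148 = N29888 := ded_15_1 L231954 (flp_b L218556) L243005
theorem L243011 : sm gg N31148 = N30942 := ded_26_2 L241060 (flp_g L218558) L243005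
theorem L243013 : sm gd N31148 = N31019 := ded_22_1 L241746 (flp_d L218408) L218410 L218552 L243005
theorem L243015 : sm gf N28209 = N31149 := rfl
theorem L243017 : sm ge N31149 = N28210 := ded_25_1 (flp_f L218572) L218568 L243015
theorem L243019 : sm gb N31149 = N30486 := ded_16_1 L237107 (flp_b L218528) L218530 (flp_b L218570) L243015
theorem L243021 : sm gc N28213 = N31150 := rfl
theorem L243023 : sm ge N31150 = N29086 := ded_19_2 (flp_c L225835) L219014 L243021
theorem L243025 : sm gb N29089 = N31150 := ded_15_3 L243023 L225833 L225845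
theorem L243027 : sm gg N28213 = N31151 := rfl
theorem L243029 : sm ga N31151 = N28759 := ded_12_1 (flp_g L223241) L219060 L243027
theorem L243031 : sm gd N31151 = N28214 := ded_24_1 (flp_g L218606) L218604 L243027
theorem L243033 : sm ge N31151 = N28760 := ded_26_1 L223247 L219014 L243027
theorem L243035 : sm gf N30759 = N31151 := ded_29_0 (flp_g L243027) (flp_f L237515) L237517 L239451
theorem L243037 : sm gb N31151 = N30626 := ded_17_1 (flp_g L238255) L232562 (flp_g L232668) (flp_b L232670) L243027
theorem L243039 : sm gg N28218 = N31152 := rfl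
theorem L243041 : sm ga N31152 = N31032 := ded_12_1 (flp_g L241886) (flp_a L218652) L243039
theorem L243043 : sm gc N31152 = N31028 := ded_21_1 (flp_g L241850) L218656 L243039
theorem L243045 : sm gd N31152 = N28219 := ded_24_1 (flp_g L218658) L218650 L243039
theorem L243047 : sm gc N28220 = N31153 := rfl
theorem L243049 : sm ga N31153 = N30602 := ded_8_1 (flp_c L238069) (flp_a L218674) L243047
theorem L243051 : sm ge N31153 = N30568 := ded_19_2 (flp_c L237847) (flp_e L218668) L243047
theorem L243053 : sm gf N31153 = N30646 := ded_20_2 L238421 (flp_f L218670) L243047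
theorem L243055 : sm gg N31153 = N30453 := ded_21_2 (flp_c L236769) (flp_g L218672) L243047
theorem L243057 : sm gd N28223 = N31154 := rfl
theorem L243059 : sm ga N31154 = N28225 := ded_9_1 (flp_d L218722) (flp_a L218700) L243057
theorem L243061 : sm gb N31154 = N29763 := ded_14_1 L230734 (flp_b L218702) L243057
theorem L243063 : sm gf N31154 = N28688 := ded_23_2 L222363 (flp_f L218706) L243057
theorem L243065 : sm gg N31154 = N28232 := ded_24_2 (flp_d L218796) (flp_g L218708) L243057
theorem L243067 : sm ge N31154 = N30550 := ded_22_2 L237659 L210065 L189433 L218698 L243057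
theorem L243069 : sm gc N31075 = N31154 := ded_28_0 (flp_d L243057) L218704 (flp_d L216817) (flp_c L242008) L242012 L227722 L226067 L242298
theorem L243071 : sm gd N28224 = N31155 := rfl
theorem L243073 : sm ga N31155 = N30550 := ded_9_1 L237659 (flp_a L218712) L243071
theorem L243075 : sm gb N31155 = N30691 := ded_14_1 L238829 (flp_b L218714) L243071
theorem L243077 : sm gf N31155 = N30697 := ded_23_2 L238871 (flp_f L218718) L243071
theorem L243079 : sm gg N31155 = N28237 := ded_24_2 (flp_d L218846) (flp_g L218720) L243071
theorem L243081 : sm ge N31155 = N28225 := ded_22_2 (flp_d L218722) (flp_e L189455) L189443 L218710 L243071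
theorem L243083 : sm gc N31074 = N31155 := ded_28_2 (flp_d L243071) L218716 (flp_d L220594) L220592 (flp_d L229650) L229648 (flp_c L229736) (flp_d L242292)
theorem L243085 : sm gf N28225 = N31156 := rfl
theorem L243087 : sm ga N31156 = N28688 := ded_11_1 (flp_f L243063) L243059 L243085
theorem L243089 : sm gc N31156 = N31076 := ded_20_1 (flp_f L242304) L222866 L243085
theorem L243091 : sm gd N31156 = N28226 := ded_23_1 (flp_f L218728) L218722 L243085
theorem L243093 : sm ge N31156 = N30697 := ded_25_1 (flp_f L243077) L243081 L243085
theorem L243095 : sm gg N31156 = N28696 := ded_29_3 (flp_a L222429) (flp_f L192985) (flp_g L218726) L243085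
theorem L243097 : sm gb N31156 = N30162 := ded_16_1 L234217 (flp_b L233635) L233633 (flp_b L218724) L243085
theorem L243099 : sm gd N28233 = N31157 := rfl
theorem L243101 : sm ga N31157 = N28235 := ded_9_1 (flp_d L218828) (flp_a L218806) L243099
theorem L243103 : sm gb N31157 = N28624 := ded_14_1 L221812 (flp_b L218808) L243099
theorem L243105 : sm gf N31157 = N28711 := ded_23_2 L222916 (flp_f L218812) L243099
theorem L243107 : sm gg N31157 = N28833 := ded_24_2 L223777 (flp_g L218814) L243099
theorem L243109 : sm ge N31157 = N30798 := ded_22_2 L239817 L213103 L189601 L218804 L243099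
theorem L243111 : sm gc N31157 = N28886 := ded_28_6 (flp_d L236979) (flp_a L237011) L237013 L209017 (flp_c L185161) (flp_d L190127) (flp_c L218810) L243099
theorem L243113 : sm gd N28234 = N31158 := rfl
theorem L243115 : sm ga N31158 = N30798 := ded_9_1 L239817 (flp_a L218818) L243113
theorem L243117 : sm gb N31158 = N28237 := ded_14_1 (flp_d L218846) (flp_b L218820) L243113
theorem L243119 : sm gf N31158 = N28709 := ded_23_2 L222511 (flp_f L218824) L243113
theorem L243121 : sm gg N31158 = N29942 := ded_24_2 L232424 (flp_g L218826) L243113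
theorem L243123 : sm ge N31158 = N28235 := ded_22_2 (flp_d L218828) (flp_e L189613) L189605 L218816 L243113
theorem L243125 : sm gc N29509 = N31158 := ded_28_0 (flp_d L243113) L218822 L202772 L170402 (flp_d L168570) (flp_c L199752) (flp_d L222239) (flp_a L228659)
theorem L243127 : sm gc N28235 = N31159 := rfl
theorem L243129 : sm ga N31159 = N28886 := ded_8_1 (flp_c L243111) L243101 L243127
theorem L243131 : sm ge N31159 = N29509 := ded_19_2 L243125 L243123 L243127
theorem L243133 : sm gf N31159 = N28712 := ded_20_2 (flp_c L222922) (flp_f L218832) L243127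
theorem L243135 : sm gb N31159 = N30177 := ded_13_1 L234345 L222906 (flp_c L218852) (flp_b L218830) L243127
theorem L243137 : sm gd N31159 = N30477 := ded_28_7 L237011 L236977 L208967 L177848 (flp_d L158475) (flp_c L189617) L218828 L243127
theorem L243139 : sm gg N30178 = N31159 := ded_12_0 L243129 L228719 (flp_a L234355)
theorem L243141 : sm gg N28235 = N31160 := rfl
theorem L243143 : sm ga N31160 = N28833 := ded_12_1 (flp_g L243107) L243101 L243141
theorem L243145 : sm gc N31160 = N30178 := ded_21_1 L243139 (flp_c L243127) L243141
theorem L243147 : sm gd N31160 = N28236 := ded_24_1 (flp_g L218834) L218828 L243141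
theorem L243149 : sm ge N31160 = N29942 := ded_26_1 (flp_g L243121) L243123 L243141
theorem L243151 : sm gf N28832 = N31160 := ded_29_0 (flp_g L243141) L218832 (flp_g L193705) L223765
theorem L243153 : sm gb N31160 = N30183 := ded_17_1 L234391 (flp_b L218724) L218726 (flp_b L218830) L243141
theorem L243155 : sm gc N28237 = N31161 := rfl
theorem L243157 : sm ga N31161 = N31146 := ded_8_1 (flp_c L242987) (flp_a L218848) L243155
theorem L243159 : sm ge N31161 = N28238 := ded_19_2 (flp_c L218852) (flp_e L218850) L243155
theorem L243161 : sm gg N31161 = N31074 := ded_21_2 L243083 L243079 L243155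
theorem L243163 : sm gb N31073 = N31161 := ded_15_3 L243159 (flp_b L222906) (flp_e L242288)
theorem L243165 : sm gf N28242 = N31162 := rfl
theorem L243167 : sm ga N31162 = N31069 := ded_11_1 (flp_f L242250) (flp_a L218884) L243165
theorem L243169 : sm gc N31162 = N31065 := ded_20_1 (flp_f L242212) L218888 L243165
theorem L243171 : sm gd N31162 = N28243 := ded_23_1 (flp_f L218890) L218882 L243165
theorem L243173 : sm gc N28244 = N31163 := rfl
theorem L243175 : sm ga N31163 = N30590 := ded_8_1 (flp_c L237995) (flp_a L218906) L243173
theorem L243177 : sm ge N31163 = N30571 := ded_19_2 (flp_c L237872) (flp_e L218900) L243173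
theorem L243179 : sm gf N31163 = N30454 := ded_20_2 (flp_c L236775) (flp_f L218902) L243173
theorem L243181 : sm gg N31163 = N30665 := ded_21_2 L238565 (flp_g L218904) L243173
theorem L243183 : sm gd N28246 = N31164 := rfl
theorem L243185 : sm ga N31164 = N28248 := ded_9_1 (flp_d L218944) (flp_a L218922) L243183
theorem L243187 : sm gb N31164 = N29971 := ded_14_1 L232682 (flp_b L218924) L243183
theorem L243189 : sm gf N31164 = N28254 := ded_23_2 (flp_d L219008) (flp_f L218928) L243183
theorem L243191 : sm gg N31164 = N28752 := ded_24_2 L223177 (flp_g L218930) L243183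
theorem L243193 : sm ge N31164 = N30533 := ded_22_2 L237513 L209863 L189865 L218920 L243183
theorem L243195 : sm gc N31038 = N31164 := ded_28_0 (flp_d L243183) L218926 (flp_d L217382) (flp_c L242354) L242358 L228641 L225799 L241934
theorem L243197 : sm gd N28247 = N31165 := rfl
theorem L243199 : sm ga N31165 = N30533 := ded_9_1 L237513 (flp_a L218934) L243197
theorem L243201 : sm gb N31165 = N30754 := ded_14_1 L239419 (flp_b L218936) L243197
theorem L243203 : sm gf N31165 = N28259 := ded_23_2 (flp_d L219058) (flp_f L218940) L243197
theorem L243205 : sm gg N31165 = N30759 := ded_24_2 L239449 (flp_g L218942) L243197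
theorem L243207 : sm ge N31165 = N28248 := ded_22_2 (flp_d L218944) (flp_e L189887) L189875 L218932 L243197
theorem L243209 : sm gc N31037 = N31165 := ded_28_2 (flp_d L243197) L218938 (flp_d L221008) L221006 (flp_d L229380) L229376 (flp_c L231838) (flp_d L241928)
theorem L243211 : sm gg N28248 = N31166 := rfl
theorem L243213 : sm ga N31166 = N28752 := ded_12_1 (flp_g L243191) L243185 L243211
theorem L243215 : sm gc N31166 = N31039 := ded_21_1 (flp_g L241940) (flp_c L222864) L243211
theorem L243217 : sm gd N31166 = N28249 := ded_24_1 (flp_g L218950) L218944 L243211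
theorem L243219 : sm ge N31166 = N30759 := ded_26_1 (flp_g L243205) L243207 L243211
theorem L243221 : sm gf N28760 = N31166 := ded_29_0 (flp_g L243211) L218948 L193299 L223243
theorem L243223 : sm gb N31166 = N30068 := ded_17_1 L233465 (flp_b L234383) L234381 L222531 L243211
theorem L243225 : sm gd N28255 = N31167 := rfl
theorem L243227 : sm ga N31167 = N28257 := ded_9_1 (flp_d L219040) (flp_a L219018) L243225
theorem L243229 : sm gb N31167 = N28681 := ded_14_1 L222293 (flp_b L219020) L243225
theorem L243231 : sm gf N31167 = N28864 := ded_23_2 L224085 (flp_f L219024) L243225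
theorem L243233 : sm gg N31167 = N28778 := ded_24_2 L223361 (flp_g L219026) L243225
theorem L243235 : sm ge N31167 = N30856 := ded_22_2 L240297 L213609 L190027 L219016 L243225
theorem L243237 : sm gc N31167 = N28893 := ded_28_6 (flp_d L237049) (flp_a L237081) L237083 L209089 (flp_c L185363) (flp_d L190200) (flp_c L219022) L243225
theorem L243239 : sm gd N28256 = N31168 := rfl
theorem L243241 : sm ga N31168 = N30856 := ded_9_1 L240297 (flp_a L219030) L243239
theorem L243243 : sm gb N31168 = N28259 := ded_14_1 (flp_d L219058) (flp_b L219032) L243239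
theorem L243245 : sm gf N31168 = N29724 := ded_23_2 L230410 (flp_f L219036) L243239
theorem L243247 : sm gg N31168 = N28774 := ded_24_2 L223331 (flp_g L219038) L243239
theorem L243249 : sm ge N31168 = N28257 := ded_22_2 (flp_d L219040) (flp_e L190039) L190031 L219028 L243239
theorem L243251 : sm gc N29369 = N31168 := ded_28_0 (flp_d L243239) L219034 L201125 L169403 (flp_d L168172) (flp_c L199156) (flp_d L221766) (flp_a L227740)
theorem L243253 : sm gc N28257 = N31169 := rfl
theorem L243255 : sm ga N31169 = N28893 := ded_8_1 (flp_c L243237) L243227 L243253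
theorem L243257 : sm ge N31169 = N29369 := ded_19_2 L243251 L243249 L243253
theorem L243259 : sm gg N31169 = N28779 := ded_21_2 (flp_c L223367) (flp_g L219044) L243253
theorem L243261 : sm gb N31169 = N30084 := ded_13_1 L233593 (flp_b L222904) (flp_c L219064) (flp_b L219042) L243253
theorem L243263 : sm gd N31169 = N30484 := ded_28_7 L237081 L237047 L209039 L177913 (flp_d L158512) (flp_c L190043) L219040 L243253
theorem L243265 : sm gf N30085 = N31169 := ded_11_0 L243255 L227796 (flp_a L233603)
theorem L243267 : sm gf N28257 = N31170 := rfl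
theorem L243269 : sm ga N31170 = N28864 := ded_11_1 (flp_f L243231) L243227 L243267
theorem L243271 : sm gc N31170 = N30085 := ded_20_1 L243265 (flp_c L243253) L243267
theorem L243273 : sm gd N31170 = N28258 := ded_23_1 (flp_f L219046) L219040 L243267
theorem L243275 : sm ge N31170 = N29724 := ded_25_1 (flp_f L243245) L243249 L243267
theorem L243277 : sm gg N31170 = N28863 := ded_29_3 (flp_a L224073) L193927 (flp_g L219044) L243267
theorem L243279 : sm gb N31170 = N30090 := ded_16_1 L233643 L222531 L218948 (flp_b L219042) L243267
theorem L243281 : sm gc N28259 = N31171 := rfl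
theorem L243283 : sm ga N31171 = N31150 := ded_8_1 (flp_c L243021) (flp_a L219060) L243281
theorem L243285 : sm ge N31171 = N28260 := ded_19_2 (flp_c L219064) (flp_e L219062) L243281
theorem L243287 : sm gf N31171 = N31037 := ded_20_2 L243209 L243203 L243281
theorem L243289 : sm gb N31036 = N31171 := ded_15_3 L243285 L222904 (flp_e L241924)
theorem L243291 : sm ge N28264 = N31172 := rfl
theorem L243293 : sm ga N31172 = N28947 := ded_10_1 (flp_e L224845) (flp_a L219098) L243291
theorem L243295 : sm gb N31172 = N28628 := ded_15_1 L221850 (flp_b L219102) L243291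
theorem L243297 : sm gc N31172 = N28265 := ded_19_1 (flp_e L219108) L219096 L243291
theorem L243299 : sm gf N31172 = N28265 := ded_25_2 (flp_e L219108) L219106 L243291
theorem L243301 : sm gg N31172 = N31023 := ded_26_2 L241796 (flp_g L219100) L243291
theorem L243303 : sm gd N31172 = N30254 := ded_22_1 L235019 L204861 (flp_e L196745) (flp_d L219104) L243291
theorem L243305 : sm ge N28267 = N31173 := rfl
theorem L243307 : sm ga N31173 = N28951 := ded_10_1 (flp_e L224879) (flp_a L219128) L243305
theorem L243309 : sm gb N31173 = N28685 := ded_15_1 L222335 (flp_b L219132) L243305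
theorem L243311 : sm gc N31173 = N28268 := ded_19_1 (flp_e L219138) L219126 L243305
theorem L243313 : sm gf N31173 = N30998 := ded_25_2 L241580 (flp_f L219130) L243305
theorem L243315 : sm gg N31173 = N28268 := ded_26_2 (flp_e L219138) L219136 L243305
theorem L243317 : sm gd N31173 = N30267 := ded_22_1 L235139 L205109 (flp_e L196847) (flp_d L219134) L243305
theorem L243319 : sm gb N28270 = N31174 := rfl
theorem L243321 : sm gd N31174 = N28271 := ded_14_2 (flp_b L219160) (flp_d L219158) L243319
theorem L243323 : sm ge N31174 = N28836 := ded_15_2 L223855 L220322 L243319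
theorem L243325 : sm gg N31174 = N28831 := ded_17_2 (flp_b L223753) L193699 (flp_b L190269) L219156 L243319
theorem L243327 : sm gb N28280 = N31175 := rfl
theorem L243329 : sm gd N31175 = N28281 := ded_14_2 (flp_b L219262) (flp_d L219260) L243327
theorem L243331 : sm ge N31175 = N28862 := ded_15_2 L224071 L220742 L243327
theorem L243333 : sm gf N31175 = N28859 := ded_16_2 (flp_b L224035) (flp_f L193905) (flp_b L190435) L219258 L243327
theorem L243335 : sm gg N28290 = N31176 := rfl
theorem L243337 : sm ga N31176 = N29867 := ded_12_1 L231760 L224955 L243335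
theorem L243339 : sm gc N31176 = N28952 := ded_21_1 (flp_g L224881) (flp_c L219366) L243335
theorem L243341 : sm gd N31176 = N28866 := ded_24_1 (flp_g L224099) (flp_d L219370) L243335
theorem L243343 : sm ge N31176 = N28291 := ded_26_1 (flp_g L219372) L219362 L243335
theorem L243345 : sm gf N30587 = N31176 := ded_29_0 (flp_g L243335) L219368 L224881 (flp_a L237973)
theorem L243347 : sm gb N31176 = N30806 := ded_17_1 (flp_g L239895) (flp_b L238773) L211715 (flp_b L219364) L243335
theorem L243349 : sm gf N28292 = N31177 := rfl
theorem L243351 : sm ga N31177 = N29631 := ded_11_1 L229620 L225063 L243349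
theorem L243353 : sm gc N31177 = N28954 := ded_20_1 (flp_f L224901) (flp_c L219386) L243349
theorem L243355 : sm gd N31177 = N28867 := ded_23_1 (flp_f L224109) (flp_d L219390) L243349
theorem L243357 : sm ge N31177 = N28293 := ded_25_1 (flp_f L219392) L219382 L243349
theorem L243359 : sm gg N31177 = N30588 := ded_29_3 L237983 (flp_f L224901) (flp_g L219388) L243349
theorem L243361 : sm gb N31177 = N30864 := ded_16_1 L240379 (flp_b L239383) (flp_f L212363) (flp_b L219384) L243349
theorem L243363 : sm gg N28294 = N31178 := rfl
theorem L243365 : sm gc N31178 = N28324 := ded_21_1 (flp_g L219606) (flp_c L219404) L243363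
theorem L243367 : sm gd N31178 = N28961 := ded_24_1 (flp_g L224969) (flp_d L219408) L243363
theorem L243369 : sm ge N31178 = N28295 := ded_26_1 (flp_g L219410) L219402 L243363
theorem L243371 : sm gb N30033 = N31178 := ded_13_5 L243365 (flp_b L231752) L231746 (flp_b L203453) (flp_c L233193)
theorem L243373 : sm gf N28299 = N31179 := rfl
theorem L243375 : sm gc N31179 = N28332 := ded_20_1 (flp_f L219674) (flp_c L219436) L243373
theorem L243377 : sm gd N31179 = N28976 := ded_23_1 (flp_f L225077) (flp_d L219440) L243373
theorem L243379 : sm ge N31179 = N28300 := ded_25_1 (flp_f L219442) L219434 L243373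
theorem L243381 : sm gb N30128 = N31179 := ded_13_5 L243375 (flp_b L229616) L229610 (flp_b L203961) (flp_c L233947)
theorem L243383 : sm gc N28304 = N31180 := rfl
theorem L243385 : sm ga N31180 = N28427 := ded_8_1 L220336 (flp_a L219468) L243383
theorem L243387 : sm gf N31180 = N28312 := ded_20_2 (flp_c L219526) (flp_f L219472) L243383
theorem L243389 : sm gb N31180 = N28341 := ded_13_1 L219728 L219594 L218656 (flp_b L219470) L243383
theorem L243391 : sm gd N31180 = N28427 := ded_28_7 (flp_a L243385) (flp_c L243383) (flp_d L219466) (flp_c L190703) L158897 L190703 L219466 L243383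
theorem L243393 : sm ge N28338 = N31180 := ded_10_0 L243385 L224935 L224929
theorem L243395 : sm ge N28304 = N31181 := rfl
theorem L243397 : sm ga N31181 = N28431 := ded_10_1 (flp_e L220368) (flp_a L219468) L243395
theorem L243399 : sm gb N31181 = N28420 := ded_15_1 L220284 (flp_b L219470) L243395
theorem L243401 : sm gc N31181 = N28338 := ded_19_1 L243393 (flp_c L243383) L243395
theorem L243403 : sm gf N31181 = N28313 := ded_25_2 (flp_e L219528) (flp_f L219472) L243395
theorem L243405 : sm gd N31181 = N28419 := ded_22_1 L220274 (flp_d L197147) (flp_e L190705) L219466 L243395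
theorem L243407 : sm gc N28307 = N31182 := rfl
theorem L243409 : sm ga N31182 = N28481 := ded_8_1 L220766 (flp_a L219489) L243407
theorem L243411 : sm gg N31182 = N28318 := ded_21_2 (flp_c L219566) (flp_g L219493) L243407
theorem L243413 : sm gb N31182 = N28345 := ded_13_1 L219754 L219662 L218888 (flp_b L219491) L243407
theorem L243415 : sm gd N31182 = N28481 := ded_28_7 (flp_a L243409) (flp_c L243407) (flp_d L219487) (flp_c L190717) L158911 L190717 L219487 L243407
theorem L243417 : sm ge N28342 = N31182 := ded_10_0 L243409 L225043 L225037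
theorem L243419 : sm ge N28307 = N31183 := rfl
theorem L243421 : sm ga N31183 = N28485 := ded_10_1 (flp_e L220798) (flp_a L219489) L243419
theorem L243423 : sm gb N31183 = N28474 := ded_15_1 L220714 (flp_b L219491) L243419
theorem L243425 : sm gc N31183 = N28342 := ded_19_1 L243417 (flp_c L243407) L243419
theorem L243427 : sm gg N31183 = N28319 := ded_26_2 (flp_e L219568) (flp_g L219493) L243419
theorem L243429 : sm gd N31183 = N28473 := ded_22_1 L220704 (flp_d L197159) (flp_e L190719) L219487 L243419
theorem L243431 : sm gg N28310 = N31184 := rfl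
theorem L243433 : sm ga N31184 = N28314 := ded_12_1 (flp_g L219534) (flp_a L219510) L243431
theorem L243435 : sm gd N31184 = N28311 := ded_24_1 (flp_g L219516) L219508 L243431
theorem L243437 : sm gf N28349 = N31184 := ded_29_0 (flp_g L243431) L219514 L191347 (flp_a L219781)
theorem L243439 : sm gb N31184 = N30758 := ded_17_1 (flp_g L239443) (flp_b L238729) (flp_g L221456) (flp_b L219512) L243431
theorem L243441 : sm gb N28311 = N31185 := rfl
theorem L243443 : sm gd N31185 = N30758 := ded_14_2 (flp_b L243439) L243435 L243441
theorem L243445 : sm ge N31185 = N29007 := ded_15_2 (flp_b L225269) (flp_e L219522) L243441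
theorem L243447 : sm gg N31185 = N30756 := ded_17_2 L239435 (flp_g L221136) L192054 L219516 L243441
theorem L243449 : sm ga N28315 = N31186 := rfl
theorem L243451 : sm ge N31186 = N29010 := ded_10_2 (flp_a L225285) (flp_e L219542) L243449
theorem L243453 : sm gf N31186 = N28384 := ded_11_2 (flp_a L220004) (flp_f L219544) L243449
theorem L243455 : sm gg N31186 = N28327 := ded_12_2 (flp_a L219626) (flp_g L219546) L243449
theorem L243457 : sm gf N28316 = N31187 := rfl
theorem L243459 : sm ga N31187 = N28320 := ded_11_1 (flp_f L219574) (flp_a L219550) L243457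
theorem L243461 : sm gd N31187 = N28317 := ded_23_1 (flp_f L219556) L219548 L243457
theorem L243463 : sm gg N31187 = N28355 := ded_29_3 L219816 (flp_f L191730) (flp_g L219554) L243457
theorem L243465 : sm gb N31187 = N30696 := ded_16_1 (flp_f L238865) L238821 (flp_f L221926) (flp_b L219552) L243457
theorem L243467 : sm gb N28317 = N31188 := rfl
theorem L243469 : sm gd N31188 = N30696 := ded_14_2 (flp_b L243465) L243461 L243467
theorem L243471 : sm ge N31188 = N29012 := ded_15_2 (flp_b L225297) (flp_e L219562) L243467
theorem L243473 : sm gf N31188 = N30694 := ded_16_2 L238857 (flp_f L221309) L192203 L219556 L243467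
theorem L243475 : sm ga N28321 = N31189 := rfl
theorem L243477 : sm gc N31189 = N31186 := ded_8_2 (flp_a L243449) (flp_c L219584) L243475
theorem L243479 : sm ge N31189 = N29015 := ded_10_2 (flp_a L225313) (flp_e L219582) L243475
theorem L243481 : sm gf N31189 = N28335 := ded_11_2 (flp_a L219694) (flp_f L219586) L243475
theorem L243483 : sm gg N31189 = N28413 := ded_12_2 (flp_a L220220) (flp_g L219588) L243475
theorem L243485 : sm gg N28322 = N31190 := rfl
theorem L243487 : sm ga N31190 = N28324 := ded_12_1 (flp_g L219606) (flp_a L219592) L243485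
theorem L243489 : sm gd N31190 = N29016 := ded_24_1 (flp_g L225321) (flp_d L219596) L243485
theorem L243491 : sm ge N31190 = N28323 := ded_26_1 (flp_g L219598) L219590 L243485
theorem L243493 : sm gf N31190 = N31178 := ded_29_2 (flp_g L243363) (flp_a L219726) L219730 L243485
theorem L243495 : sm gf N28324 = N31191 := rfl
theorem L243497 : sm ga N31191 = N31178 := ded_11_1 (flp_f L243493) L243487 L243495
theorem L243499 : sm gc N31191 = N31190 := ded_20_1 L243493 L243365 L243495
theorem L243501 : sm gd N31191 = N28428 := ded_23_1 L220346 (flp_d L219608) L243495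
theorem L243503 : sm ge N31191 = N28326 := ded_25_1 (flp_f L219616) (flp_e L219610) L243495
theorem L243505 : sm gg N31191 = N28341 := ded_29_3 L219726 L219406 L219606 L243495
theorem L243507 : sm ga N28325 = N31192 := rfl
theorem L243509 : sm gc N31192 = N29948 := ded_8_2 L232472 L219650 L243507
theorem L243511 : sm gd N31192 = N28327 := ded_9_2 (flp_a L219626) (flp_d L219614) L243507
theorem L243513 : sm gf N31192 = N29947 := ded_11_2 L232462 (flp_f L219648) L243507
theorem L243515 : sm gb N28327 = N31193 := rfl
theorem L243517 : sm ge N31193 = N29025 := ded_15_2 (flp_b L225363) (flp_e L219628) L243515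
theorem L243519 : sm gf N28330 = N31194 := rfl
theorem L243521 : sm ga N31194 = N28332 := ded_11_1 (flp_f L219674) (flp_a L219660) L243519
theorem L243523 : sm gd N31194 = N29027 := ded_23_1 (flp_f L225375) (flp_d L219664) L243519
theorem L243525 : sm ge N31194 = N28331 := ded_25_1 (flp_f L219666) L219658 L243519
theorem L243527 : sm gg N31179 = N31194 := ded_29_1 (flp_f L243519) (flp_g L219756) L219752 L243373
theorem L243529 : sm gg N28332 = N31195 := rfl
theorem L243531 : sm ga N31195 = N31179 := ded_12_1 L243527 L243521 L243529
theorem L243533 : sm gc N31195 = N31194 := ded_21_1 (flp_g L243527) L243375 L243529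
theorem L243535 : sm gd N31195 = N28482 := ded_24_1 (flp_g L220776) (flp_d L219676) L243529
theorem L243537 : sm ge N31195 = N28334 := ded_26_1 (flp_g L219684) (flp_e L219678) L243529
theorem L243539 : sm gf N28345 = N31195 := ded_29_0 (flp_g L243529) (flp_f L219674) (flp_g L219438) (flp_a L219752)
theorem L243541 : sm ga N28333 = N31196 := rfl
theorem L243543 : sm gc N31196 = N29730 := ded_8_2 L230456 (flp_c L220030) L243541
theorem L243545 : sm gd N31196 = N28335 := ded_9_2 (flp_a L219694) (flp_d L219682) L243541
theorem L243547 : sm gg N31196 = N29729 := ded_12_2 L230446 L220026 L243541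
theorem L243549 : sm gb N28335 = N31197 := rfl
theorem L243551 : sm ge N31197 = N29036 := ded_15_2 (flp_b L225417) (flp_e L219696) L243549
theorem L243553 : sm gg N28338 = N31198 := rfl
theorem L243555 : sm ga N31198 = N29777 := ded_12_1 L230996 L224929 L243553
theorem L243557 : sm gd N31198 = N28340 := ded_24_1 (flp_g L219722) L219708 L243553
theorem L243559 : sm gf N29870 = N31198 := ded_29_0 (flp_g L243553) L231808 (flp_g L231798) L231774
theorem L243561 : sm gf N28342 = N31199 := rfl
theorem L243563 : sm ga N31199 = N29641 := ded_11_1 (flp_f L229706) L225037 L243561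
theorem L243565 : sm gd N31199 = N28343 := ded_23_1 (flp_f L219738) L219734 L243561
theorem L243567 : sm gg N31199 = N29637 := ded_29_3 (flp_a L229660) L229682 (flp_g L229690) L243561
theorem L243569 : sm gc N28346 = N31200 := rfl
theorem L243571 : sm ga N31200 = N28347 := ded_8_1 (flp_c L219769) L219760 L243569
theorem L243573 : sm ge N31200 = N29057 := ded_19_2 (flp_c L225599) (flp_e L219763) L243569
theorem L243575 : sm gf N31200 = N28347 := ded_20_2 (flp_c L219769) (flp_f L219767) L243569
theorem L243577 : sm gg N31200 = N29466 := ded_21_2 (flp_c L228352) (flp_g L219765) L243569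
theorem L243579 : sm gd N29467 = N31200 := ded_22_5 L243573 (flp_d L225645) L223038 (flp_d L227415) (flp_e L228360)
theorem L243581 : sm gb N28347 = N31201 := rfl
theorem L243583 : sm ge N31201 = N29058 := ded_15_2 (flp_b L225607) (flp_e L219771) L243581
theorem L243585 : sm gc N31201 = N28348 := ded_13_2 (flp_b L219775) (flp_c L190896) L190889 L219769 L243581
theorem L243587 : sm gf N30073 = N31201 := ded_25_0 L243583 (flp_f L225633) (flp_e L233507)
theorem L243589 : sm gd N30074 = N31201 := ded_22_5 L243583 L225625 L203643 (flp_d L203629) (flp_e L233515)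
theorem L243591 : sm gd N28347 = N31202 := rfl
theorem L243593 : sm ga N31202 = N29467 := ded_9_1 L243579 L243571 L243591
theorem L243595 : sm gb N31202 = N30074 := ded_14_1 L243589 (flp_b L243581) L243591
theorem L243597 : sm gf N31202 = N29467 := ded_23_2 L243579 L243575 L243591
theorem L243599 : sm gg N31202 = N28561 := ded_24_2 L227440 (flp_g L219773) L243591
theorem L243601 : sm ge N31202 = N28564 := ded_22_2 (flp_d L227421) (flp_e L225637) (flp_d L225611) (flp_e L219771) L243591
theorem L243603 : sm gc N28562 = N31202 := ded_28_2 (flp_d L243591) (flp_c L219769) L190891 L219769 L243591 L243593 L228358 (flp_d L221347)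
theorem L243605 : sm gd N28348 = N31203 := rfl
theorem L243607 : sm gb N31203 = N28349 := ded_14_1 (flp_d L219779) L219775 L243605
theorem L243609 : sm gf N28348 = N31204 := rfl
theorem L243611 : sm gc N31204 = N30073 := ded_20_1 L243587 L243585 L243609
theorem L243613 : sm ge N31204 = N29062 := ded_25_1 (flp_f L225647) (flp_e L219777) L243609
theorem L243615 : sm gg N29128 = N31204 := ded_29_1 (flp_f L243609) (flp_g L226039) (flp_a L226035) L226049
theorem L243617 : sm gc N28349 = N31205 := rfl
theorem L243619 : sm ga N31205 = N28350 := ded_8_1 (flp_c L219785) (flp_a L219781) L243617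
theorem L243621 : sm gg N31205 = N31180 := ded_21_2 (flp_c L243383) (flp_g L219783) L243617
theorem L243623 : sm gd N31205 = N28350 := ded_28_7 (flp_a L243619) (flp_c L243617) (flp_d L219779) (flp_c L190896) L159116 L190896 L219779 L243617
theorem L243625 : sm ge N31198 = N31205 := ded_10_0 L243619 L230998 (flp_a L243555)
theorem L243627 : sm ge N28349 = N31206 := rfl
theorem L243629 : sm ga N31206 = N28351 := ded_10_1 (flp_e L219787) (flp_a L219781) L243627
theorem L243631 : sm gc N31206 = N31198 := ded_19_1 L243625 (flp_c L243617) L243627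
theorem L243633 : sm gg N31206 = N31181 := ded_26_2 (flp_e L243395) (flp_g L219783) L243627
theorem L243635 : sm gd N31206 = N29064 := ded_22_1 (flp_e L225657) (flp_d L197609) (flp_e L190900) L219779 L243627
theorem L243637 : sm gc N28352 = N31207 := rfl
theorem L243639 : sm ga N31207 = N28353 := ded_8_1 (flp_c L219804) L219793 L243637
theorem L243641 : sm ge N31207 = N29068 := ded_19_2 (flp_c L225695) (flp_e L219796) L243637
theorem L243643 : sm gf N31207 = N29324 := ded_20_2 (flp_c L227447) (flp_f L219798) L243637
theorem L243645 : sm gg N31207 = N28353 := ded_21_2 (flp_c L219804) (flp_g L219800) L243637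
theorem L243647 : sm gd N29325 = N31207 := ded_22_5 L243641 (flp_d L225705) L223473 L222208 (flp_e L227455)
theorem L243649 : sm gb N28353 = N31208 := rfl
theorem L243651 : sm ge N31208 = N29069 := ded_15_2 (flp_b L225707) (flp_e L219806) L243649
theorem L243653 : sm gc N31208 = N28354 := ded_13_2 (flp_b L219810) (flp_c L190927) L190920 L219804 L243649
theorem L243655 : sm gg N30167 = N31208 := ded_26_0 L243651 L225711 (flp_e L234261)
theorem L243657 : sm gd N30169 = N31208 := ded_22_5 L243651 (flp_d L225713) L204153 (flp_d L204137) (flp_e L234275)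
theorem L243659 : sm gd N28353 = N31209 := rfl
theorem L243661 : sm ga N31209 = N29325 := ded_9_1 L243647 L243639 L243659
theorem L243663 : sm gb N31209 = N30169 := ded_14_1 L243657 (flp_b L243649) L243659
theorem L243665 : sm gf N31209 = N28536 := ded_23_2 L225729 (flp_f L219808) L243659
theorem L243667 : sm gg N31209 = N29325 := ded_24_2 L243647 L243645 L243659
theorem L243669 : sm ge N31209 = N28539 := ded_22_2 L222216 L225725 (flp_d L225715) (flp_e L219806) L243659
theorem L243671 : sm gc N28537 = N31209 := ded_28_2 (flp_d L243659) (flp_c L219804) L190922 L219804 L243659 L243661 L227453 (flp_d L221178)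
theorem L243673 : sm gd N28354 = N31210 := rfl
theorem L243675 : sm gb N31210 = N28355 := ded_14_1 (flp_d L219814) L219810 L243673
theorem L243677 : sm gg N28354 = N31211 := rfl
theorem L243679 : sm gc N31211 = N30167 := ded_21_1 L243655 L243653 L243677
theorem L243681 : sm ge N31211 = N29074 := ded_26_1 (flp_g L225753) (flp_e L219812) L243677
theorem L243683 : sm gf N31211 = N29179 := ded_29_2 (flp_g L226335) L226321 L226325 L243677
theorem L243685 : sm gc N28355 = N31212 := rfl
theorem L243687 : sm ga N31212 = N28356 := ded_8_1 (flp_c L219820) (flp_a L219816) L243685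
theorem L243689 : sm gf N31212 = N31182 := ded_20_2 (flp_c L243407) (flp_f L219818) L243685
theorem L243691 : sm gd N31212 = N28356 := ded_28_7 (flp_a L243687) (flp_c L243685) (flp_d L219814) (flp_c L190927) L159154 L190927 L219814 L243685
theorem L243693 : sm ge N31199 = N31212 := ded_10_0 L243687 (flp_e L229704) (flp_a L243563)
theorem L243695 : sm ge N28355 = N31213 := rfl
theorem L243697 : sm ga N31213 = N28357 := ded_10_1 (flp_e L219822) (flp_a L219816) L243695
theorem L243699 : sm gc N31213 = N31199 := ded_19_1 L243693 (flp_c L243685) L243695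
theorem L243701 : sm gf N31213 = N31183 := ded_25_2 (flp_e L243419) (flp_f L219818) L243695
theorem L243703 : sm gd N31213 = N29075 := ded_22_1 (flp_e L225757) (flp_d L197657) (flp_e L190931) L219814 L243695
theorem L243705 : sm gf N28358 = N31214 := rfl
theorem L243707 : sm ga N31214 = N30459 := ded_11_1 L236833 L220282 L243705
theorem L243709 : sm gc N31214 = N28359 := ded_20_1 (flp_f L219832) L219828 L243705
theorem L243711 : sm gd N31214 = N28813 := ded_23_1 L223615 (flp_d L220250) L243705
theorem L243713 : sm ge N31214 = N30456 := ded_25_1 L236801 (flp_e L219830) L243705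
theorem L243715 : sm gb N31214 = N28813 := ded_16_1 L223615 L220248 L222407 L222401 L243705
theorem L243717 : sm gg N28358 = N31215 := rfl
theorem L243719 : sm gc N31215 = N28360 := ded_21_1 (flp_g L219840) L219828 L243717
theorem L243721 : sm gd N31215 = N29842 := ded_24_1 L231526 (flp_d L220250) L243717
theorem L243723 : sm ge N31215 = N31032 := ded_26_1 (flp_g L241886) (flp_e L219830) L243717
theorem L243725 : sm gg N28359 = N31216 := rfl
theorem L243727 : sm ga N31216 = N29878 := ded_12_1 L231846 L224923 L243725
theorem L243729 : sm gd N31216 = N28361 := ded_24_1 (flp_g L219846) (flp_d L219834) L243725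
theorem L243731 : sm ge N31216 = N30979 := ded_26_1 (flp_g L241426) (flp_e L219836) L243725
theorem L243733 : sm gf N29440 = N31216 := ded_29_0 (flp_g L243725) (flp_f L219832) L219840 (flp_a L228164)
theorem L243735 : sm gb N28360 = N31217 := rfl
theorem L243737 : sm gd N31217 = N28362 := ded_14_2 (flp_b L219854) (flp_d L219842) L243735
theorem L243739 : sm ge N31217 = N31033 := ded_15_2 (flp_b L241894) (flp_e L219844) L243735
theorem L243741 : sm gb N28361 = N31218 := rfl
theorem L243743 : sm ge N31218 = N29078 := ded_15_2 (flp_b L225781) (flp_e L219850) L243741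
theorem L243745 : sm gc N31218 = N29132 := ded_13_2 (flp_b L226069) L197877 (flp_b L190963) (flp_c L219848) L243741
theorem L243747 : sm gf N31218 = N30673 := ded_16_2 (flp_b L238627) (flp_f L211481) (flp_b L199375) L219852 L243741
theorem L243749 : sm ga N28362 = N31219 := rfl
theorem L243751 : sm ge N31219 = N29079 := ded_10_2 (flp_a L225785) (flp_e L219856) L243749
theorem L243753 : sm gf N31219 = N29096 := ded_29_0 (flp_g L225879) (flp_f L221590) L221592 L243749
theorem L243755 : sm gf N28362 = N31220 := rfl
theorem L243757 : sm ga N31220 = N29096 := ded_11_1 (flp_f L243753) (flp_a L243749) L243755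
theorem L243759 : sm ge N31220 = N29080 := ded_25_1 (flp_f L225791) (flp_e L219856) L243755
theorem L243761 : sm gg N31220 = N29095 := ded_29_3 (flp_a L225877) (flp_f L221590) L221592 L243755
theorem L243763 : sm ga N28365 = N31221 := rfl
theorem L243765 : sm gc N31221 = N29438 := ded_8_2 L228150 (flp_c L219930) L243763
theorem L243767 : sm gd N31221 = N28459 := ded_9_2 (flp_a L231480) L231484 L243763
theorem L243769 : sm ge N31221 = N29085 := ded_10_2 (flp_a L225821) (flp_e L219878) L243763
theorem L243771 : sm gf N31221 = N29875 := ded_11_2 L231824 (flp_f L228258) L243763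
theorem L243773 : sm gg N31221 = N29436 := ded_12_2 (flp_a L231460) (flp_g L231468) L243763
theorem L243775 : sm gb N31221 = N31220 := ded_7_2 L243757 (flp_b L225963) (flp_a L229790) (flp_b L220408) L191379 L191001 (flp_a L191015) L219876 L243763
theorem L243777 : sm ge N28366 = N31222 := rfl
theorem L243779 : sm ga N31222 = N28368 := ded_10_1 (flp_e L219892) (flp_a L219882) L243777
theorem L243781 : sm gc N31222 = N30566 := ded_19_1 L237833 (flp_c L220540) L243777
theorem L243783 : sm gg N31222 = N28377 := ded_26_2 (flp_e L219960) (flp_g L219884) L243777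
theorem L243785 : sm gd N31222 = N29089 := ded_22_1 (flp_e L225845) (flp_d L197749) (flp_e L191017) L219880 L243777
theorem L243787 : sm gf N28367 = N31223 := rfl
theorem L243789 : sm gc N31223 = N28369 := ded_20_1 (flp_f L219900) L219886 L243787
theorem L243791 : sm gd N31223 = N28467 := ded_23_1 (flp_f L220658) (flp_d L220530) L243787
theorem L243793 : sm ge N31223 = N28843 := ded_25_1 L223913 L222281 L243787
theorem L243795 : sm gg N31223 = N28466 := ded_29_3 L220640 (flp_f L219982) (flp_g L219888) L243787
theorem L243797 : sm gb N31223 = N29375 := ded_16_1 L240299 L240301 L221780 (flp_b L219890) L243787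
theorem L243799 : sm gf N28368 = N31224 := rfl
theorem L243801 : sm gc N31224 = N28843 := ded_20_1 L223913 L222283 L243799
theorem L243803 : sm gd N31224 = N29093 := ded_23_1 (flp_f L225869) (flp_d L219898) L243799
theorem L243805 : sm ge N31224 = N28369 := ded_25_1 (flp_f L219900) L219892 L243799
theorem L243807 : sm gg N31224 = N28842 := ded_29_3 L223903 (flp_f L219986) (flp_g L219896) L243799
theorem L243809 : sm gb N31224 = N28600 := ded_16_1 (flp_f L221644) (flp_b L192425) L192429 (flp_b L219894) L243799
theorem L243811 : sm ga N28370 = N31225 := rfl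
theorem L243813 : sm gc N31225 = N30077 := ded_8_2 (flp_a L233535) L221112 L243811
theorem L243815 : sm gd N31225 = N28603 := ded_9_2 L221656 (flp_d L219908) L243811
theorem L243817 : sm ge N31225 = N29095 := ded_10_2 (flp_a L225877) (flp_e L219910) L243811
theorem L243819 : sm gf N31225 = N28593 := ded_11_2 (flp_a L221594) (flp_f L219912) L243811
theorem L243821 : sm gg N29080 = N31225 := ded_29_3 (flp_a L243811) L219912 (flp_g L197691) L225791
theorem L243823 : sm gg N28370 = N31226 := rfl
theorem L243825 : sm ga N31226 = N29080 := ded_12_1 L243821 (flp_a L243811) L243823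
theorem L243827 : sm gd N31226 = N28606 := ded_24_1 (flp_g L221688) (flp_d L219908) L243823
theorem L243829 : sm ge N31226 = N29096 := ded_26_1 (flp_g L225879) (flp_e L219910) L243823
theorem L243831 : sm gf N29079 = N31226 := ded_29_0 (flp_g L243823) L219912 (flp_g L197691) L225785
theorem L243833 : sm gg N28371 = N31227 := rfl
theorem L243835 : sm ga N31227 = N29378 := ded_12_1 L227806 L225103 L243833
theorem L243837 : sm gc N31227 = N28376 := ded_21_1 (flp_g L219956) (flp_c L219918) L243833
theorem L243839 : sm gd N31227 = N28985 := ded_24_1 L225135 L219920 L243833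
theorem L243841 : sm ge N31227 = N29099 := ded_26_1 (flp_g L225901) (flp_e L219916) L243833
theorem L243843 : sm gf N28984 = N31227 := ded_29_0 (flp_g L243833) (flp_f L225115) L225117 (flp_a L225123)
theorem L243845 : sm gd N28373 = N31228 := rfl
theorem L243847 : sm ga N31228 = N28374 := ded_9_1 (flp_d L219940) L219932 L243845
theorem L243849 : sm gb N31228 = N29024 := ded_14_1 L225361 L219938 L243845
theorem L243851 : sm gf N31228 = N28992 := ded_23_2 L225187 (flp_f L219936) L243845
theorem L243853 : sm ge N31228 = N30305 := ded_22_2 L235501 (flp_e L234691) L204376 (flp_e L219934) L243845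
theorem L243855 : sm gc N28452 = N31228 := ded_28_0 (flp_d L243845) L225107 (flp_d L225101) (flp_c L197051) L166372 L166452 L197105 (flp_a L220502)
theorem L243857 : sm gg N30160 = N31228 := ded_12_0 L243847 (flp_g L230590) (flp_a L234201)
theorem L243859 : sm gg N28373 = N31229 := rfl
theorem L243861 : sm ga N31229 = N28376 := ded_12_1 (flp_g L219956) L219932 L243859
theorem L243863 : sm gc N31229 = N29378 := ded_21_1 L227806 (flp_c L225107) L243859
theorem L243865 : sm gd N31229 = N30160 := ded_24_1 L243857 (flp_d L243845) L243859
theorem L243867 : sm ge N31229 = N29101 := ded_26_1 (flp_g L225911) (flp_e L219934) L243859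
theorem L243869 : sm gf N29404 = N31229 := ded_29_0 (flp_g L243859) L219936 L225365 (flp_a L227959)
theorem L243871 : sm gb N28375 = N31230 := rfl
theorem L243873 : sm gd N31230 = N28994 := ded_14_2 (flp_b L225201) (flp_d L219952) L243871
theorem L243875 : sm ge N31230 = N29105 := ded_15_2 (flp_b L225927) (flp_e L219954) L243871
theorem L243877 : sm gc N31230 = N29162 := ded_13_2 L226235 (flp_c L228286) L228290 (flp_c L225119) L243871
theorem L243879 : sm gf N31230 = N28379 := ded_16_2 (flp_b L219976) (flp_f L191047) L191039 L219948 L243871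
theorem L243881 : sm gb N28378 = N31231 := rfl
theorem L243883 : sm gd N31231 = N28379 := ded_14_2 (flp_b L219976) (flp_d L219972) L243881
theorem L243885 : sm gf N31231 = N28994 := ded_16_2 (flp_b L225201) L219946 L219942 L219968 L243881
theorem L243887 : sm ga N31231 = N28812 := ded_7_1 (flp_b L223607) L193577 L193669 L223741 L233117 L233111 (flp_b L219992) (flp_a L219970) L243881
theorem L243889 : sm gg N28379 = N31232 := rfl
theorem L243891 : sm ga N31232 = N29083 := ded_12_1 (flp_g L229778) (flp_a L229780) L243889
theorem L243893 : sm gc N31232 = N29157 := ded_21_1 L226209 (flp_c L219980) L243889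
theorem L243895 : sm ge N31232 = N29111 := ded_26_1 (flp_g L225961) (flp_e L219978) L243889
theorem L243897 : sm gb N31232 = N31226 := ded_17_1 (flp_g L243823) (flp_b L219906) L191055 L219976 L243889
theorem L243899 : sm gb N28380 = N31233 := rfl
theorem L243901 : sm gd N31233 = N30335 := ded_14_2 (flp_b L235789) L220622 L243899
theorem L243903 : sm ge N31233 = N29822 := ded_15_2 (flp_b L231330) L223895 L243899
theorem L243905 : sm gf N31233 = N30845 := ded_16_2 L240211 L230598 L201484 L219982 L243899
theorem L243907 : sm ga N31233 = N29821 := ded_7_1 L231318 L230098 L223809 L170292 (flp_b L161128) (flp_a L193795) (flp_b L220648) L220640 L243899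
theorem L243909 : sm gg N31233 = N29820 := ded_31_3 (flp_f L240185) (flp_b L242400) L242398 (flp_f L240257) (flp_b L213425) (flp_g L182627) (flp_f L181881) L212517 (flp_g L221784) L221780 (flp_b L219890) L219888 L219982 L243899
theorem L243911 : sm gg N28380 = N31234 := rfl
theorem L243913 : sm ga N31234 = N31223 := ded_12_1 L243795 L220640 L243911
theorem L243915 : sm gc N31234 = N28383 := ded_21_1 (flp_g L219996) (flp_c L219984) L243911
theorem L243917 : sm gd N31234 = N28456 := ded_24_1 L220626 L220622 L243911
theorem L243919 : sm gf N28455 = N31234 := ded_29_0 (flp_g L243911) (flp_f L219982) (flp_g L219888) (flp_a L220534)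
theorem L243921 : sm gg N28381 = N31235 := rfl
theorem L243923 : sm ga N31235 = N31224 := ded_12_1 L243807 L223903 L243921
theorem L243925 : sm gd N31235 = N29119 := ded_24_1 (flp_g L225997) (flp_d L219988) L243921
theorem L243927 : sm ge N31235 = N28383 := ded_26_1 (flp_g L219996) (flp_e L219990) L243921
theorem L243929 : sm gf N31222 = N31235 := ded_29_0 (flp_g L243921) (flp_f L219986) (flp_g L219896) (flp_a L243779)
theorem L243931 : sm gb N28384 = N31236 := rfl
theorem L243933 : sm gd N31236 = N28828 := ded_14_2 L233117 L233115 L243931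
theorem L243935 : sm ge N31236 = N29124 := ded_15_2 (flp_b L226025) (flp_e L220008) L243931
theorem L243937 : sm ga N31236 = N28820 := ded_7_1 (flp_b L223675) (flp_a L200481) L229772 (flp_a L229780) (flp_b L219976) L191049 L191067 L220004 L243931
theorem L243939 : sm gf N28386 = N31237 := rfl
theorem L243941 : sm gc N31237 = N30079 := ded_20_1 L233587 L227782 L243939
theorem L243943 : sm ge N31237 = N29128 := ded_25_1 (flp_f L226049) (flp_e L220042) L243939
theorem L243945 : sm gg N31237 = N29062 := ded_29_3 (flp_a L236231) L236233 (flp_g L225619) L243939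
theorem L243947 : sm gb N31237 = N29456 := ded_16_1 (flp_f L228258) (flp_b L219876) L191081 L220040 L243939
theorem L243949 : sm gf N28387 = N31238 := rfl
theorem L243951 : sm gc N31238 = N28388 := ded_20_1 (flp_f L220048) L220044 L243949
theorem L243953 : sm gd N31238 = N29594 := ded_23_1 L229280 (flp_d L220680) L243949
theorem L243955 : sm ge N31238 = N31069 := ded_25_1 (flp_f L242250) (flp_e L220046) L243949
theorem L243957 : sm gg N28387 = N31239 := rfl
theorem L243959 : sm ga N31239 = N30467 := ded_12_1 L236917 L220712 L243957
theorem L243961 : sm gc N31239 = N28389 := ded_21_1 (flp_g L220054) L220044 L243957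
theorem L243963 : sm gd N31239 = N28844 := ded_24_1 L223921 (flp_d L220680) L243957
theorem L243965 : sm ge N31239 = N30464 := ded_26_1 L236885 (flp_e L220046) L243957
theorem L243967 : sm gb N31239 = N28844 := ded_17_1 L223921 L220678 L223221 L223215 L243957
theorem L243969 : sm gb N28388 = N31240 := rfl
theorem L243971 : sm gd N31240 = N28390 := ded_14_2 (flp_b L220062) (flp_d L220050) L243969
theorem L243973 : sm ge N31240 = N31070 := ded_15_2 (flp_b L242258) (flp_e L220052) L243969
theorem L243975 : sm gf N28389 = N31241 := rfl
theorem L243977 : sm ga N31241 = N29646 := ded_11_1 L229744 L225031 L243975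
theorem L243979 : sm gd N31241 = N28392 := ded_23_1 (flp_f L220074) (flp_d L220056) L243975
theorem L243981 : sm ge N31241 = N31006 := ded_25_1 (flp_f L241660) (flp_e L220058) L243975
theorem L243983 : sm gg N31241 = N29290 := ded_29_3 L227171 (flp_f L220048) L220054 L243975
theorem L243985 : sm ga N28390 = N31242 := rfl
theorem L243987 : sm ge N31242 = N29129 := ded_10_2 (flp_a L226053) (flp_e L220064) L243985
theorem L243989 : sm gg N29147 = N31242 := ded_29_3 (flp_a L243985) (flp_f L222026) L222028 L226151
theorem L243991 : sm gg N28390 = N31243 := rfl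
theorem L243993 : sm ga N31243 = N29147 := ded_12_1 L243989 (flp_a L243985) L243991
theorem L243995 : sm ge N31243 = N29130 := ded_26_1 (flp_g L226059) (flp_e L220064) L243991
theorem L243997 : sm gf N29146 = N31243 := ded_29_0 (flp_g L243991) (flp_f L222026) L222028 L226149
theorem L243999 : sm gb N28392 = N31244 := rfl
theorem L244001 : sm ge N31244 = N29132 := ded_15_2 (flp_b L226069) (flp_e L220080) L243999
theorem L244003 : sm gc N31244 = N29078 := ded_13_2 (flp_b L225781) L197681 (flp_b L191119) (flp_c L220078) L243999
theorem L244005 : sm gg N31244 = N30653 := ded_17_2 (flp_b L238471) (flp_g L211282) (flp_b L198783) (flp_g L220082) L243999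
theorem L244007 : sm ga N28394 = N31245 := rfl
theorem L244009 : sm gc N31245 = N29295 := ded_8_2 L227202 (flp_c L220146) L244007
theorem L244011 : sm gd N31245 = N28512 := ded_9_2 (flp_a L229334) L229338 L244007
theorem L244013 : sm ge N31245 = N29136 := ded_10_2 (flp_a L226093) (flp_e L220094) L244007
theorem L244015 : sm gf N31245 = N29293 := ded_11_2 (flp_a L229314) L229322 L244007
theorem L244017 : sm gg N31245 = N29643 := ded_12_2 L229722 (flp_g L227316) L244007
theorem L244019 : sm gb N31245 = N31243 := ded_7_2 L243993 (flp_b L226235) (flp_a L226237) (flp_b L220838) L191760 L191145 (flp_a L191159) L220092 L244007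
theorem L244021 : sm ge N28395 = N31246 := rfl
theorem L244023 : sm ga N31246 = N28397 := ded_10_1 (flp_e L220108) (flp_a L220098) L244021
theorem L244025 : sm gc N31246 = N30565 := ded_19_1 L237823 (flp_c L220970) L244021
theorem L244027 : sm gf N31246 = N28406 := ded_25_2 (flp_e L220176) (flp_f L220100) L244021
theorem L244029 : sm gd N31246 = N29140 := ded_22_1 (flp_e L226117) (flp_d L197929) (flp_e L191161) L220096 L244021
theorem L244031 : sm gg N28396 = N31247 := rfl
theorem L244033 : sm gc N31247 = N28398 := ded_21_1 (flp_g L220116) L220102 L244031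
theorem L244035 : sm gd N31247 = N28519 := ded_24_1 L221072 (flp_d L220960) L244031
theorem L244037 : sm ge N31247 = N28816 := ded_26_1 (flp_g L223639) L221800 L244031
theorem L244039 : sm gf N28518 = N31247 := ded_29_0 (flp_g L244031) L220104 L220198 (flp_a L221054)
theorem L244041 : sm gb N31247 = N29515 := ded_17_1 (flp_g L239819) L239821 L222261 (flp_b L220106) L244031
theorem L244043 : sm gg N28397 = N31248 := rfl
theorem L244045 : sm gc N31248 = N28816 := ded_21_1 (flp_g L223639) L221802 L244043
theorem L244047 : sm gd N31248 = N29144 := ded_24_1 (flp_g L226141) (flp_d L220114) L244043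
theorem L244049 : sm ge N31248 = N28398 := ded_26_1 (flp_g L220116) L220108 L244043
theorem L244051 : sm gf N28815 = N31248 := ded_29_0 (flp_g L244043) L220112 L220202 (flp_a L223629)
theorem L244053 : sm gb N31248 = N28657 := ded_17_1 (flp_g L222080) (flp_b L192735) L192739 (flp_b L220110) L244043
theorem L244055 : sm ga N28399 = N31249 := rfl
theorem L244057 : sm gc N31249 = N30170 := ded_8_2 (flp_a L234283) L221281 L244055
theorem L244059 : sm gd N31249 = N28660 := ded_9_2 L222100 (flp_d L220124) L244055
theorem L244061 : sm ge N31249 = N29146 := ded_10_2 (flp_a L226149) (flp_e L220126) L244055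
theorem L244063 : sm gg N31249 = N28650 := ded_12_2 (flp_a L222030) (flp_g L220128) L244055
theorem L244065 : sm gf N31249 = N29130 := ded_29_0 (flp_g L226059) L197863 (flp_g L220128) L244055
theorem L244067 : sm gf N28399 = N31250 := rfl
theorem L244069 : sm ga N31250 = N29130 := ded_11_1 (flp_f L244065) (flp_a L244055) L244067
theorem L244071 : sm gd N31250 = N28663 := ded_23_1 (flp_f L222118) (flp_d L220124) L244067
theorem L244073 : sm ge N31250 = N29147 := ded_25_1 (flp_f L226151) (flp_e L220126) L244067
theorem L244075 : sm gg N31250 = N29129 := ded_29_3 (flp_a L226053) L197863 (flp_g L220128) L244067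
theorem L244077 : sm gf N28400 = N31251 := rfl
theorem L244079 : sm ga N31251 = N29518 := ded_11_1 L228727 L224995 L244077
theorem L244081 : sm gc N31251 = N28404 := ded_20_1 (flp_f L220164) (flp_c L220134) L244077
theorem L244083 : sm gd N31251 = N28970 := ded_23_1 (flp_f L225027) L220136 L244077
theorem L244085 : sm ge N31251 = N29149 := ded_25_1 (flp_f L226163) (flp_e L220132) L244077
theorem L244087 : sm gg N31251 = N28969 := ded_29_3 L225015 (flp_f L225007) L225009 L244077
theorem L244089 : sm gd N28402 = N31252 := rfl
theorem L244091 : sm ga N31252 = N28403 := ded_9_1 (flp_d L220156) L220148 L244089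
theorem L244093 : sm gb N31252 = N29035 := ded_14_1 L225415 L220152 L244089
theorem L244095 : sm gg N31252 = N28986 := ded_24_2 L225145 L220154 L244089
theorem L244097 : sm ge N31252 = N30361 := ded_22_2 L236035 (flp_e L234837) L204463 (flp_e L220150) L244089
theorem L244099 : sm gc N28506 = N31252 := ded_28_0 (flp_d L244089) L224999 (flp_d L224993) (flp_c L196973) L166322 L166406 L197083 (flp_a L220932)
theorem L244101 : sm gf N30067 = N31252 := ded_11_0 L244091 L229306 (flp_a L233455)
theorem L244103 : sm gf N28402 = N31253 := rfl
theorem L244105 : sm ga N31253 = N28404 := ded_11_1 (flp_f L220164) L220148 L244103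
theorem L244107 : sm gc N31253 = N29518 := ded_20_1 L228727 (flp_c L224999) L244103
theorem L244109 : sm gd N31253 = N30067 := ded_23_1 L244101 (flp_d L244089) L244103
theorem L244111 : sm ge N31253 = N29152 := ded_25_1 (flp_f L226183) (flp_e L220150) L244103
theorem L244113 : sm gg N31253 = N29544 := ded_29_3 L228916 (flp_f L225419) L220154 L244103
theorem L244115 : sm gb N28405 = N31254 := rfl
theorem L244117 : sm gd N31254 = N28988 := ded_14_2 (flp_b L225159) (flp_d L220172) L244115
theorem L244119 : sm ge N31254 = N29157 := ded_15_2 (flp_b L226207) (flp_e L220174) L244115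
theorem L244121 : sm gc N31254 = N29111 := ded_13_2 L225963 (flp_c L227344) L227348 (flp_c L225011) L244115
theorem L244123 : sm gg N31254 = N28408 := ded_17_2 (flp_b L220192) (flp_g L191191) L191183 L220168 L244115
theorem L244125 : sm gb N28407 = N31255 := rfl
theorem L244127 : sm gd N31255 = N28408 := ded_14_2 (flp_b L220192) (flp_d L220188) L244125
theorem L244129 : sm gg N31255 = N28988 := ded_17_2 (flp_b L225159) L220162 L220158 L220184 L244125
theorem L244131 : sm ga N31255 = N28840 := ded_7_1 (flp_b L223889) L193783 L193871 L224021 L233865 L233859 (flp_b L220208) (flp_a L220186) L244125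
theorem L244133 : sm gf N28408 = N31256 := rfl
theorem L244135 : sm ga N31256 = N29134 := ded_11_1 (flp_f L231884) (flp_a L231886) L244133
theorem L244137 : sm gc N31256 = N29105 := ded_20_1 L225929 (flp_c L220196) L244133
theorem L244139 : sm ge N31256 = N29162 := ded_25_1 (flp_f L226233) (flp_e L220194) L244133
theorem L244141 : sm gb N31256 = N31250 := ded_16_1 (flp_f L244067) (flp_b L220122) (flp_f L191199) L220192 L244133
theorem L244143 : sm gb N28409 = N31257 := rfl
theorem L244145 : sm gd N31257 = N30274 := ded_14_2 L235203 L221036 L244143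
theorem L244147 : sm ge N31257 = N29584 := ded_15_2 L229196 L223621 L244143
theorem L244149 : sm gg N31257 = N30786 := ded_17_2 L239727 L232542 L203121 L220198 L244143
theorem L244151 : sm ga N31257 = N29580 := ded_7_1 (flp_b L230112) L230110 L200868 L169293 (flp_b L161022) (flp_a L193583) (flp_b L221062) L221054 L244143
theorem L244153 : sm gf N29579 = N31257 := ded_31_1 (flp_b L244143) (flp_g L220198) (flp_f L220104) L220106 (flp_g L222261) L222265 (flp_b L211873) L181373 L182265 L212923 L239779 L242074 L242076 L239701
theorem L244155 : sm gf N28409 = N31258 := rfl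
theorem L244157 : sm ga N31258 = N31247 := ded_11_1 (flp_f L244039) L221054 L244155
theorem L244159 : sm gc N31258 = N28412 := ded_20_1 (flp_f L220212) (flp_c L220200) L244155
theorem L244161 : sm gd N31258 = N28510 := ded_23_1 (flp_f L221040) L221036 L244155
theorem L244163 : sm gg N31258 = N28509 := ded_29_3 L220964 L220104 L220198 L244155
theorem L244165 : sm gf N28410 = N31259 := rfl
theorem L244167 : sm ga N31259 = N31248 := ded_11_1 (flp_f L244051) L223629 L244165
theorem L244169 : sm gd N31259 = N29170 := ded_23_1 (flp_f L226283) (flp_d L220204) L244165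
theorem L244171 : sm ge N31259 = N28412 := ded_25_1 (flp_f L220212) (flp_e L220206) L244165
theorem L244173 : sm gg N31259 = N31246 := ded_29_3 L244023 L220112 L220202 L244165
theorem L244175 : sm gb N28413 = N31260 := rfl
theorem L244177 : sm gd N31260 = N28855 := ded_14_2 L233865 L233863 L244175
theorem L244179 : sm ge N31260 = N29175 := ded_15_2 (flp_b L226311) (flp_e L220224) L244175
theorem L244181 : sm ga N31260 = N28847 := ded_7_1 (flp_b L223947) (flp_a L202148) L231876 (flp_a L231886) (flp_b L220192) L191193 L191211 L220220 L244175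
theorem L244183 : sm gg N28415 = N31261 := rfl
theorem L244185 : sm gc N31261 = N30173 := ded_21_1 L234331 L228705 L244183
theorem L244187 : sm ge N31261 = N29179 := ded_26_1 (flp_g L226335) (flp_e L220240) L244183
theorem L244189 : sm gf N29074 = N31261 := ded_29_0 (flp_g L244183) L225737 (flp_g L236372) L236370
theorem L244191 : sm gb N31261 = N29314 := ded_17_1 (flp_g L227316) (flp_b L220092) (flp_g L191225) L220238 L244183
theorem L244193 : sm gg N28420 = N31262 := rfl
theorem L244195 : sm ga N31262 = N31215 := ded_12_1 (flp_g L243717) (flp_a L220282) L244193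
theorem L244197 : sm gc N31262 = N29440 := ded_21_1 L228168 L220286 L244193
theorem L244199 : sm gd N31262 = N28421 := ded_24_1 (flp_g L220288) L220280 L244193
theorem L244201 : sm ge N31262 = N31152 := ded_26_1 (flp_g L243039) (flp_e L220284) L244193
theorem L244203 : sm gb N28421 = N31263 := rfl
theorem L244205 : sm gf N28421 = N31264 := rfl
theorem L244207 : sm ga N31264 = N30575 := ded_11_1 (flp_f L237907) L231522 L244205
theorem L244209 : sm gc N31264 = N28425 := ded_20_1 (flp_f L220316) (flp_c L220290) L244205
theorem L244211 : sm ge N31264 = N30573 := ded_25_1 (flp_f L237895) L237845 L244205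
theorem L244213 : sm gg N31264 = N28813 := ded_29_3 L223611 L210627 L220288 L244205
theorem L244215 : sm gb N28422 = N31265 := rfl
theorem L244217 : sm gd N31265 = N28868 := ded_14_2 (flp_b L224119) (flp_d L220296) L244215
theorem L244219 : sm ge N31265 = N28424 := ded_15_2 (flp_b L220310) (flp_e L220298) L244215
theorem L244221 : sm gg N31265 = N29020 := ded_17_2 (flp_b L225347) (flp_g L197283) (flp_b L191257) L220292 L244215
theorem L244223 : sm ga N31265 = N30086 := ded_7_1 (flp_b L233605) (flp_a L203687) L233611 (flp_a L233619) L211785 (flp_a L211807) L211809 (flp_a L220294) L244215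
theorem L244225 : sm gb N28428 = N31266 := rfl
theorem L244227 : sm ge N31266 = N28992 := ded_15_2 L225185 (flp_e L220344) L244225
theorem L244229 : sm gc N31266 = N28993 := ded_13_2 L225193 L221820 L192501 (flp_c L220342) L244225
theorem L244231 : sm gg N31266 = N29778 := ded_17_2 L231002 L220338 (flp_b L220334) L220340 L244225
theorem L244233 : sm ga N28995 = N31266 := ded_10_3 L244227 L225181 L225203
theorem L244235 : sm gf N30305 = N31266 := ded_25_0 L244227 (flp_f L243851) L243853
theorem L244237 : sm gb N28432 = N31267 := rfl
theorem L244239 : sm gg N31267 = N28705 := ded_17_2 (flp_b L222501) (flp_g L193033) L191359 L220374 L244237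
theorem L244241 : sm gb N28434 = N31268 := rfl
theorem L244243 : sm ge N31268 = N28435 := ded_15_2 (flp_b L220394) (flp_e L220392) L244241
theorem L244245 : sm gg N31268 = N28439 := ded_17_2 (flp_b L220418) (flp_g L191391) (flp_b L191373) L220390 L244241
theorem L244247 : sm gf N28434 = N31269 := rfl
theorem L244249 : sm ga N31269 = N30977 := ded_11_1 (flp_f L241418) L223707 L244247
theorem L244251 : sm gc N31269 = N28823 := ded_20_1 L241418 L241412 L244247
theorem L244253 : sm gd N31269 = N28824 := ded_23_1 (flp_f L223719) L223603 L244247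
theorem L244255 : sm ge N31269 = N28436 := ded_25_1 (flp_f L220398) (flp_e L220392) L244247
theorem L244257 : sm gg N31269 = N28822 := ded_29_3 L223695 L216101 L220390 L244247
theorem L244259 : sm gc N28435 = N31270 := rfl
theorem L244261 : sm gg N31270 = N28441 := ded_21_2 (flp_c L220424) (flp_g L220396) L244259
theorem L244263 : sm gf N28435 = N31271 := rfl
theorem L244265 : sm gc N28437 = N31272 := rfl
theorem L244267 : sm ga N31272 = N31254 := ded_8_1 L244121 (flp_a L229790) L244265
theorem L244269 : sm gg N31272 = N29882 := ded_21_2 L231882 L229786 L244265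
theorem L244271 : sm gb N31272 = N28542 := ded_13_1 (flp_c L221217) (flp_b L192095) (flp_c L191381) L220408 L244265
theorem L244273 : sm gf N28437 = N31273 := rfl
theorem L244275 : sm gd N31273 = N28442 := ded_23_1 (flp_f L220428) (flp_d L220410) L244273
theorem L244277 : sm gg N29105 = N31273 := ded_29_1 (flp_f L244273) (flp_g L229786) (flp_a L225959) (flp_f L225929)
theorem L244279 : sm gb N31273 = N28535 := ded_16_1 (flp_f L221165) (flp_b L192071) L191385 L220408 L244273
theorem L244281 : sm gb N28438 = N31274 := rfl
theorem L244283 : sm gd N31274 = N28439 := ded_14_2 (flp_b L220418) (flp_d L220416) L244281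
theorem L244285 : sm gc N31274 = N28988 := ded_13_2 (flp_b L225159) (flp_c L197093) (flp_b L196921) (flp_c L220414) L244281
theorem L244287 : sm ga N28439 = N31275 := rfl
theorem L244289 : sm ge N31275 = N28440 := ded_10_2 (flp_a L220422) (flp_e L220420) L244287
theorem L244291 : sm gc N28439 = N31276 := rfl
theorem L244293 : sm ge N31276 = N28441 := ded_19_2 (flp_c L220424) (flp_e L220420) L244291
theorem L244295 : sm gb N31276 = N28444 := ded_13_1 (flp_c L220438) (flp_b L191399) (flp_c L191393) L220418 L244291
theorem L244297 : sm gd N28441 = N31276 := ded_28_1 (flp_c L244291) (flp_d L244283) L244285 (flp_d L244117) L244121 L229794 (flp_a L220422) L220424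
theorem L244299 : sm gf N28439 = N31277 := rfl
theorem L244301 : sm ge N31277 = N28442 := ded_25_1 (flp_f L220428) (flp_e L220420) L244299
theorem L244303 : sm gb N28440 = N31278 := rfl
theorem L244305 : sm gd N31278 = N29096 := ded_14_2 (flp_b L225963) L229794 L244303
theorem L244307 : sm gg N31278 = N29094 := ded_17_2 (flp_b L225873) L197805 L225955 (flp_g L229796) L244303
theorem L244309 : sm gc N28440 = N31279 := rfl
theorem L244311 : sm ga N31279 = N28441 := ded_8_1 (flp_c L220424) L220422 L244309
theorem L244313 : sm gf N28440 = N31280 := rfl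
theorem L244315 : sm ga N31280 = N28442 := ded_11_1 (flp_f L220428) L220422 L244313
theorem L244317 : sm gg N31271 = N31280 := ded_29_1 (flp_f L244313) L229796 L229792 L244263
theorem L244319 : sm gf N28441 = N31281 := rfl
theorem L244321 : sm gc N31281 = N28442 := ded_20_1 (flp_f L220428) L220424 L244319
theorem L244323 : sm gg N28442 = N31282 := rfl
theorem L244325 : sm ga N31282 = N31271 := ded_12_1 L244317 L244315 L244323
theorem L244327 : sm gd N31282 = N29105 := ded_24_1 L244277 L244275 L244323
theorem L244329 : sm gf N29109 = N31282 := ded_29_0 (flp_g L244323) (flp_f L220428) (flp_g L220396) (flp_a L229792)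
theorem L244331 : sm gb N29103 = N31282 := ded_14_3 L244327 (flp_b L225927) (flp_d L225921)
theorem L244333 : sm gc N28443 = N31283 := rfl
theorem L244335 : sm ga N31283 = N28444 := ded_8_1 (flp_c L220438) L220430 L244333
theorem L244337 : sm ge N31283 = N28446 := ded_19_2 (flp_c L220452) (flp_e L220434) L244333
theorem L244339 : sm gd N31283 = N28446 := ded_28_7 L220454 (flp_c L191409) L159537 L159543 (flp_d L177366) (flp_c L194091) (flp_d L220432) L244333
theorem L244341 : sm gf N28446 = N31284 := rfl
theorem L244343 : sm ga N31284 = N28448 := ded_11_1 (flp_f L220464) (flp_a L220454) L244341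
theorem L244345 : sm gc N31284 = N28447 := ded_20_1 (flp_f L220456) L220452 L244341
theorem L244347 : sm gg N30987 = N31284 := ded_29_1 (flp_f L244341) (flp_g L241466) L241464 L241468
theorem L244349 : sm gb N28447 = N31285 := rfl
theorem L244351 : sm gd N31285 = N28450 := ded_14_2 (flp_b L220476) (flp_d L220460) L244349
theorem L244353 : sm gf N31285 = N30111 := ded_16_2 L233829 (flp_f L233745) (flp_b L220444) L220456 L244349
theorem L244355 : sm gg N31285 = N28713 := ded_17_2 (flp_b L222934) (flp_g L217176) L216567 L220462 L244349
theorem L244357 : sm ga N31285 = N28715 := ded_7_1 L222944 (flp_a L224191) (flp_b L233335) L233327 L233323 L221544 L192363 (flp_a L220458) L244349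
theorem L244359 : sm gc N31067 = N31285 := ded_32_14 (flp_b L244349) L220460 L191437 L177340 (flp_c L177499) (flp_b L194384) (flp_d L221520) L221518 L192671 L186226 (flp_b L186220) L154994 (flp_d L155386) L186633 (flp_d L186787) L186785 (flp_b L157979) (flp_d L177291) L177289 (flp_d L165710) L165708 L129257 L129084 (flp_c L151600) (flp_d L178119) L178117 L200547 L200549 L205641 (flp_d L215082) (flp_c L215086) L196109 (flp_d L165043) (flp_c L165015) (flp_d L165262) (flp_c L186716) (flp_b L186704) (flp_e L186579) L186577 (flp_c L189389) L189391 L174010 L173990 L174830 L207019 (flp_d L215171) L215169 L205310 L180095 L161332 (flp_d L194067) (flp_c L197434) (flp_b L207840) L207834 (flp_c L204629) (flp_d L202210) (flp_c L202216) L175539 (flp_d L175549) (flp_c L175557) (flp_d L178157) (flp_c L178149) (flp_b L129101) (flp_e L128851) (flp_d L177789) L208981 L208987 L202709 (flp_b L193701) L161026 L111349 (flp_d L118208) (flp_c L169069) (flp_b L178051) (flp_d L209235) (flp_c L237177) (flp_d L242232)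
theorem L244361 : sm gg N28448 = N31286 := rfl
theorem L244363 : sm ga N31286 = N30987 := ded_12_1 L244347 L244343 L244361
theorem L244365 : sm gc N31286 = N28449 := ded_21_1 (flp_g L220468) (flp_c L220466) L244361
theorem L244367 : sm gf N30986 = N31286 := ded_29_0 (flp_g L244361) (flp_f L220464) (flp_g L216141) (flp_a L241464)
theorem L244369 : sm gc N28458 = N31287 := rfl
theorem L244371 : sm ge N31287 = N28512 := ded_19_2 (flp_c L220990) (flp_e L220566) L244369
theorem L244373 : sm gg N31287 = N29645 := ded_21_2 L229736 (flp_g L220564) L244369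
theorem L244375 : sm gd N31287 = N31161 := ded_28_7 L243157 (flp_c L242987) (flp_d L218500) L189087 L163282 (flp_c L191513) L220560 L244369
theorem L244377 : sm gb N28459 = N31288 := rfl
theorem L244379 : sm gd N31288 = N31220 := ded_14_2 (flp_b L243775) L243767 L244377
theorem L244381 : sm gf N31288 = N31217 := ded_16_2 (flp_b L243735) L231848 (flp_b L231842) (flp_f L220570) L244377
theorem L244383 : sm ga N31288 = N31278 := ded_7_1 (flp_b L244303) (flp_a L220422) (flp_b L191397) (flp_a L160222) (flp_b L191023) (flp_a L219882) (flp_b L231488) L231480 L244377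
theorem L244385 : sm ge N28459 = N31289 := rfl
theorem L244387 : sm gc N31289 = N28460 := ded_19_1 (flp_e L220572) L220568 L244385
theorem L244389 : sm gf N31289 = N29877 := ded_25_2 L231840 (flp_f L220570) L244385
theorem L244391 : sm gd N31289 = N31171 := ded_22_1 L243285 L225823 (flp_e L243769) L243767 L244385
theorem L244393 : sm gg N28461 = N31290 := rfl
theorem L244395 : sm ga N31290 = N29727 := ded_12_1 (flp_g L241534) L241536 L244393
theorem L244397 : sm gc N31290 = N31025 := ded_21_1 L241822 L241748 L244393
theorem L244399 : sm gd N31290 = N31145 := ded_24_1 (flp_g L242981) (flp_d L220582) L244393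
theorem L244401 : sm ge N31290 = N28869 := ded_26_1 (flp_g L224125) (flp_e L220584) L244393
theorem L244403 : sm gf N29728 = N31290 := ded_29_0 (flp_g L244393) L220586 L216263 L230440
theorem L244405 : sm gb N31290 = N29817 := ded_17_1 (flp_g L231272) L220600 (flp_g L220588) L220580 L244393
theorem L244407 : sm gf N28474 = N31291 := rfl
theorem L244409 : sm ga N31291 = N31238 := ded_11_1 (flp_f L243949) (flp_a L220712) L244407
theorem L244411 : sm gc N31291 = N29290 := ded_20_1 L227175 L220716 L244407
theorem L244413 : sm gd N31291 = N28475 := ded_23_1 (flp_f L220718) L220710 L244407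
theorem L244415 : sm ge N31291 = N31162 := ded_25_1 (flp_f L243165) (flp_e L220714) L244407
theorem L244417 : sm gb N28475 = N31292 := rfl
theorem L244419 : sm gg N28475 = N31293 := rfl
theorem L244421 : sm ga N31293 = N30582 := ded_12_1 L237949 L229276 L244419
theorem L244423 : sm gc N31293 = N28478 := ded_21_1 (flp_g L220738) (flp_c L220720) L244419
theorem L244425 : sm ge N31293 = N30580 := ded_26_1 L237937 L237870 L244419
theorem L244427 : sm gf N28844 = N31293 := ded_29_0 (flp_g L244419) (flp_f L220718) (flp_g L210723) (flp_a L223917)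
theorem L244429 : sm gb N28476 = N31294 := rfl
theorem L244431 : sm gd N31294 = N28870 := ded_14_2 (flp_b L224137) (flp_d L220726) L244429
theorem L244433 : sm ge N31294 = N28477 := ded_15_2 (flp_b L220732) (flp_e L220728) L244429
theorem L244435 : sm gf N31294 = N29031 := ded_16_2 (flp_b L225401) (flp_f L197333) (flp_b L191640) L220722 L244429
theorem L244437 : sm ga N31294 = N30181 := ded_7_1 (flp_b L234369) L204191 L234359 (flp_a L234367) L212441 (flp_a L212463) L212465 (flp_a L220724) L244429
theorem L244439 : sm gb N28482 = N31295 := rfl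
theorem L244441 : sm ge N31295 = N28986 := ded_15_2 L225143 (flp_e L220774) L244439
theorem L244443 : sm gc N31295 = N28987 := ded_13_2 L225151 L222303 L192823 (flp_c L220772) L244439
theorem L244445 : sm gf N31295 = N29979 := ded_16_2 L232769 L220768 (flp_b L220764) L220770 L244439
theorem L244447 : sm ga N28989 = N31295 := ded_10_3 L244441 L225139 L225161
theorem L244449 : sm gg N30361 = N31295 := ded_26_0 L244441 (flp_g L244095) L244097
theorem L244451 : sm gb N28486 = N31296 := rfl
theorem L244453 : sm gf N31296 = N28772 := ded_16_2 (flp_b L223321) (flp_f L193357) (flp_b L193841) L220804 L244451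
theorem L244455 : sm gb N28488 = N31297 := rfl
theorem L244457 : sm ge N31297 = N28489 := ded_15_2 (flp_b L220824) (flp_e L220822) L244455
theorem L244459 : sm gf N31297 = N28493 := ded_16_2 (flp_b L220848) (flp_f L191772) (flp_b L191754) L220820 L244455
theorem L244461 : sm gg N28488 = N31298 := rfl
theorem L244463 : sm ga N31298 = N31004 := ded_12_1 L241652 L223989 L244461
theorem L244465 : sm gc N31298 = N28851 := ded_21_1 (flp_g L241652) L241646 L244461
theorem L244467 : sm gd N31298 = N28854 := ded_24_1 L224019 L223885 L244461
theorem L244469 : sm ge N31298 = N28490 := ded_26_1 (flp_g L220828) (flp_e L220822) L244461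
theorem L244471 : sm gf N28850 = N31298 := ded_29_0 (flp_g L244461) (flp_f L220820) (flp_g L216299) (flp_a L223977)
theorem L244473 : sm gc N28489 = N31299 := rfl
theorem L244475 : sm gf N31299 = N28495 := ded_20_2 (flp_c L220854) (flp_f L220826) L244473
theorem L244477 : sm gg N28489 = N31300 := rfl
theorem L244479 : sm gc N28491 = N31301 := rfl
theorem L244481 : sm ga N31301 = N31230 := ded_8_1 L243877 (flp_a L226237) L244479
theorem L244483 : sm gf N31301 = N29650 := ded_20_2 L229776 L226239 L244479
theorem L244485 : sm gb N31301 = N28567 := ded_13_1 (flp_c L221386) (flp_b L192241) (flp_c L191762) L220838 L244479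
theorem L244487 : sm gg N28491 = N31302 := rfl
theorem L244489 : sm gd N31302 = N28496 := ded_24_1 (flp_g L220858) (flp_d L220840) L244487
theorem L244491 : sm gf N31302 = N29157 := ded_29_2 L226209 L226231 L226239 L244487
theorem L244493 : sm gb N31302 = N28560 := ded_17_1 (flp_g L221334) (flp_b L192217) (flp_g L191766) L220838 L244487
theorem L244495 : sm gb N28492 = N31303 := rfl
theorem L244497 : sm gd N31303 = N28493 := ded_14_2 (flp_b L220848) (flp_d L220846) L244495
theorem L244499 : sm gc N31303 = N28994 := ded_13_2 (flp_b L225201) (flp_c L197115) (flp_b L196925) (flp_c L220844) L244495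
theorem L244501 : sm ga N28493 = N31304 := rfl
theorem L244503 : sm ge N31304 = N28494 := ded_10_2 (flp_a L220852) (flp_e L220850) L244501
theorem L244505 : sm gc N28493 = N31305 := rfl
theorem L244507 : sm ge N31305 = N28495 := ded_19_2 (flp_c L220854) (flp_e L220850) L244505
theorem L244509 : sm gb N31305 = N28498 := ded_13_1 (flp_c L220868) (flp_b L191780) (flp_c L191774) L220848 L244505
theorem L244511 : sm gd N28495 = N31305 := ded_28_1 (flp_c L244505) (flp_d L244497) L244499 (flp_d L243873) L243877 L226241 (flp_a L220852) L220854
theorem L244513 : sm gg N28493 = N31306 := rfl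
theorem L244515 : sm ge N31306 = N28496 := ded_26_1 (flp_g L220858) (flp_e L220850) L244513
theorem L244517 : sm gb N28494 = N31307 := rfl
theorem L244519 : sm gd N31307 = N29147 := ded_14_2 (flp_b L226235) L226241 L244517
theorem L244521 : sm gf N31307 = N29145 := ded_16_2 (flp_b L226145) (flp_f L197985) L226227 (flp_f L226247) L244517
theorem L244523 : sm gc N28494 = N31308 := rfl
theorem L244525 : sm ga N31308 = N28495 := ded_8_1 (flp_c L220854) L220852 L244523
theorem L244527 : sm gg N28494 = N31309 := rfl
theorem L244529 : sm ga N31309 = N28496 := ded_12_1 (flp_g L220858) L220852 L244527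
theorem L244531 : sm gf N31309 = N31300 := ded_29_2 (flp_g L244477) (flp_a L226249) (flp_f L226247) L244527
theorem L244533 : sm gg N28495 = N31310 := rfl
theorem L244535 : sm gc N31310 = N28496 := ded_21_1 (flp_g L220858) L220854 L244533
theorem L244537 : sm gf N28496 = N31311 := rfl
theorem L244539 : sm ga N31311 = N31300 := ded_11_1 (flp_f L244531) L244529 L244537
theorem L244541 : sm gd N31311 = N29157 := ded_23_1 (flp_f L244491) L244489 L244537
theorem L244543 : sm gg N31311 = N29160 := ded_29_3 L226249 L220826 L220858 L244537
theorem L244545 : sm gb N29155 = N31311 := ded_14_3 L244541 (flp_b L226207) (flp_d L226197)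
theorem L244547 : sm gc N28497 = N31312 := rfl
theorem L244549 : sm ga N31312 = N28498 := ded_8_1 (flp_c L220868) L220860 L244547
theorem L244551 : sm ge N31312 = N28500 := ded_19_2 (flp_c L220882) (flp_e L220864) L244547
theorem L244553 : sm gd N31312 = N28500 := ded_28_7 L220884 (flp_c L191790) L159737 L159743 (flp_d L177027) (flp_c L194253) (flp_d L220862) L244547
theorem L244555 : sm gg N28500 = N31313 := rfl
theorem L244557 : sm ga N31313 = N28502 := ded_12_1 (flp_g L220894) (flp_a L220884) L244555
theorem L244559 : sm gc N31313 = N28501 := ded_21_1 (flp_g L220886) L220882 L244555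
theorem L244561 : sm gf N31313 = N31014 := ded_29_2 (flp_g L241702) (flp_a L241698) L241700 L244555
theorem L244563 : sm gb N28501 = N31314 := rfl
theorem L244565 : sm gd N31314 = N28504 := ded_14_2 (flp_b L220906) (flp_d L220890) L244563
theorem L244567 : sm gf N31314 = N28775 := ded_16_2 (flp_b L223347) L217180 L217140 (flp_f L220892) L244563
theorem L244569 : sm gg N31314 = N30203 := ded_17_2 L234581 L234537 (flp_b L220874) L220886 L244563
theorem L244571 : sm ga N31314 = N28777 := ded_7_1 L223357 (flp_a L224237) (flp_b L234067) (flp_a L234083) L234089 L221992 L192673 (flp_a L220888) L244563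
theorem L244573 : sm gc N31030 = N31314 := ded_32_14 (flp_b L244563) L220890 L191818 L177003 (flp_c L177224) (flp_b L194577) (flp_d L221554) L221552 L192361 L186289 (flp_b L186283) L155014 (flp_d L155404) L186718 (flp_d L186817) L186815 (flp_b L158277) (flp_d L177552) L177550 (flp_d L165080) L165078 L129334 L129144 (flp_c L151708) (flp_d L178177) L178175 L202188 L202190 L206926 (flp_d L214862) (flp_c L214866) L196526 (flp_d L165672) (flp_c L165642) L165644 (flp_c L186631) (flp_b L186619) (flp_e L186549) L186547 (flp_c L189829) L189831 L172535 L151301 L173313 L205796 (flp_d L214932) L214930 L206631 L180127 L161583 (flp_d L194229) (flp_c L197534) (flp_b L207555) L207549 (flp_c L204670) (flp_d L200569) (flp_c L200575) L175935 (flp_d L175947) (flp_c L175955) (flp_d L178215) (flp_c L178207) (flp_b L129167) (flp_e L128875) (flp_d L177815) L209053 L209059 L201062 (flp_b L193923) L161148 L111423 (flp_d L118381) (flp_c L170096) (flp_b L178091) (flp_d L209265) (flp_c L237211) (flp_d L241870)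
theorem L244575 : sm gf N28502 = N31315 := rfl
theorem L244577 : sm ga N31315 = N31014 := ded_11_1 (flp_f L244561) L244557 L244575
theorem L244579 : sm gc N31315 = N28503 := ded_20_1 (flp_f L220898) (flp_c L220896) L244575
theorem L244581 : sm gg N31315 = N31013 := ded_29_3 L241698 L216339 L220894 L244575
theorem L244583 : sm gb N28512 = N31316 := rfl
theorem L244585 : sm gd N31316 = N31243 := ded_14_2 (flp_b L244019) L244011 L244583
theorem L244587 : sm gg N31316 = N31240 := ded_17_2 (flp_b L243969) L229746 (flp_b L229740) (flp_g L220992) L244583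
theorem L244589 : sm ga N31316 = N31307 := ded_7_1 (flp_b L244517) (flp_a L220852) (flp_b L191778) (flp_a L160452) (flp_b L191167) (flp_a L220098) (flp_b L229340) L229334 L244583
theorem L244591 : sm gf N28513 = N31317 := rfl
theorem L244593 : sm ga N31317 = N29945 := ded_11_1 (flp_f L241750) L241752 L244591
theorem L244595 : sm gc N31317 = N31000 := ded_20_1 L241602 L241532 L244591
theorem L244597 : sm gd N31317 = N31149 := ded_23_1 (flp_f L243015) (flp_d L220996) L244591
theorem L244599 : sm ge N31317 = N28871 := ded_25_1 (flp_f L224143) (flp_e L220998) L244591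
theorem L244601 : sm gg N31317 = N29946 := ded_29_3 (flp_a L232454) (flp_f L216461) (flp_g L221000) L244591
theorem L244603 : sm gb N31317 = N30017 := ded_16_1 (flp_f L233073) L221014 (flp_f L221002) L220994 L244591
theorem L244605 : sm gb N28522 = N31318 := rfl
theorem L244607 : sm ge N31318 = N29303 := ded_15_2 (flp_b L227256) (flp_e L221090) L244605
theorem L244609 : sm gc N31318 = N29303 := ded_13_2 (flp_b L227256) (flp_c L198835) (flp_b L192005) L221086 L244605
theorem L244611 : sm gd N28522 = N31319 := rfl
theorem L244613 : sm ga N31319 = N28523 := ded_9_1 (flp_d L221094) (flp_a L221088) L244611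
theorem L244615 : sm gg N31319 = N29335 := ded_24_2 (flp_d L227528) (flp_g L221092) L244611
theorem L244617 : sm gc N28523 = N31320 := rfl
theorem L244619 : sm gb N31320 = N31048 := ded_13_1 (flp_c L242034) (flp_b L216835) L192021 (flp_b L221096) L244617
theorem L244621 : sm ge N28523 = N31321 := rfl
theorem L244623 : sm gb N31321 = N28524 := ded_15_1 (flp_e L221098) (flp_b L221096) L244621
theorem L244625 : sm gd N31321 = N29307 := ded_22_1 (flp_e L227272) (flp_d L198845) (flp_e L192009) L221094 L244621
theorem L244627 : sm gg N28525 = N31322 := rfl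
theorem L244629 : sm ga N31322 = N28604 := ded_12_1 (flp_g L233533) (flp_a L233535) L244627
theorem L244631 : sm gc N31322 = N31226 := ded_21_1 (flp_g L243823) (flp_c L221112) L244627
theorem L244633 : sm gd N31322 = N28602 := ded_24_1 (flp_g L221678) (flp_d L221108) L244627
theorem L244635 : sm ge N31322 = N29318 := ded_26_1 (flp_g L227342) (flp_e L221110) L244627
theorem L244637 : sm gf N29377 = N31322 := ded_29_0 (flp_g L244627) (flp_f L221600) L221602 L227798
theorem L244639 : sm gb N31322 = N29150 := ded_17_1 (flp_g L226169) (flp_b L197949) (flp_g L192033) L221106 L244627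
theorem L244641 : sm gb N28526 = N31323 := rfl
theorem L244643 : sm ge N31323 = N30756 := ded_15_2 L239435 L221141 L244641
theorem L244645 : sm gg N31323 = N29007 := ded_17_2 (flp_b L225269) (flp_g L197199) (flp_b L192038) L221114 L244641
theorem L244647 : sm gb N28528 = N31324 := rfl
theorem L244649 : sm gd N31324 = N30773 := ded_14_2 L239595 L221476 L244647
theorem L244651 : sm ge N31324 = N28530 := ded_15_2 (flp_b L221145) (flp_e L221132) L244647
theorem L244653 : sm gg N31324 = N28532 := ded_17_2 (flp_b L221155) (flp_g L192065) (flp_b L192042) L221129 L244647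
theorem L244655 : sm ga N28530 = N31325 := rfl
theorem L244657 : sm gd N31325 = N29930 := ded_9_2 L232318 L221466 L244655
theorem L244659 : sm gg N31325 = N28533 := ded_12_2 (flp_a L221159) (flp_g L221147) L244655
theorem L244661 : sm gc N28530 = N31326 := rfl
theorem L244663 : sm gg N31326 = N28534 := ded_21_2 (flp_c L221161) (flp_g L221147) L244661
theorem L244665 : sm gb N31326 = N31326 := ded_13_1 (flp_c L244661) (flp_b L221145) L192058 L221145 L244661
theorem L244666 : sm gf N28530 = N31327 := rfl
theorem L244668 : sm gb N28531 = N31328 := rfl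
theorem L244670 : sm gd N31328 = N28532 := ded_14_2 (flp_b L221155) (flp_d L221153) L244668
theorem L244672 : sm gg N31328 = N30773 := ded_17_2 L239595 L221478 L221123 L221149 L244668
theorem L244674 : sm gc N30776 = N31328 := ded_21_3 L244672 (flp_c L239593) L239609
theorem L244676 : sm ga N28532 = N31329 := rfl
theorem L244678 : sm ge N31329 = N28533 := ded_10_2 (flp_a L221159) (flp_e L221157) L244676
theorem L244680 : sm gc N28532 = N31330 := rfl
theorem L244682 : sm ge N31330 = N28534 := ded_19_2 (flp_c L221161) (flp_e L221157) L244680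
theorem L244684 : sm gb N31330 = N28536 := ded_13_1 (flp_c L221167) (flp_b L192073) (flp_c L192067) L221155 L244680
theorem L244686 : sm gd N31330 = N30454 := ded_28_7 (flp_a L238573) L238575 L211431 (flp_c L212703) (flp_d L239613) L244674 L244670 L244680
theorem L244688 : sm gf N28532 = N31331 := rfl
theorem L244690 : sm ge N31331 = N28535 := ded_25_1 (flp_f L221165) (flp_e L221157) L244688
theorem L244692 : sm gb N28533 = N31332 := rfl
theorem L244694 : sm ga N31332 = N30673 := ded_7_1 (flp_b L238627) (flp_a L238603) L238613 (flp_a L221594) (flp_b L192411) L160204 L192071 L221159 L244692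
theorem L244696 : sm gc N28533 = N31333 := rfl
theorem L244698 : sm ga N31333 = N28534 := ded_8_1 (flp_c L221161) L221159 L244696
theorem L244700 : sm gd N31333 = N30148 := ded_28_7 (flp_a L235942) (flp_c L235940) (flp_d L207083) (flp_c L206994) (flp_d L224037) (flp_c L224045) L221496 L244696
theorem L244702 : sm gb N30154 = N31333 := ded_7_0 L244698 L221163 L192084 (flp_b L198942) (flp_a L227373) (flp_b L227381) L223447 (flp_b L204141) (flp_a L234151)
theorem L244704 : sm gf N28533 = N31334 := rfl
theorem L244706 : sm ga N31334 = N28535 := ded_11_1 (flp_f L221165) L221159 L244704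
theorem L244708 : sm gg N31327 = N31334 := ded_29_1 (flp_f L244704) (flp_g L244659) (flp_a L244655) L244666
theorem L244710 : sm gf N28534 = N31335 := rfl
theorem L244712 : sm gc N31335 = N28535 := ded_20_1 (flp_f L221165) L221161 L244710
theorem L244714 : sm gd N31335 = N30179 := ded_23_1 L235950 (flp_d L235948) L244710
theorem L244716 : sm gb N31335 = N30172 := ded_16_1 (flp_f L234299) L222210 (flp_f L221189) (flp_b L221163) L244710
theorem L244718 : sm gg N28535 = N31336 := rfl
theorem L244720 : sm ga N31336 = N31327 := ded_12_1 L244708 L244706 L244718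
theorem L244722 : sm gf N31325 = N31336 := ded_29_0 (flp_g L244718) (flp_f L221165) (flp_g L221147) L244655
theorem L244724 : sm gb N31336 = N29106 := ded_17_1 (flp_g L225931) L225927 L244277 L244279 L244718
theorem L244726 : sm gc N28540 = N31337 := rfl
theorem L244728 : sm ga N31337 = N29082 := ded_8_1 (flp_c L225801) (flp_a L221205) L244726
theorem L244730 : sm gf N31337 = N28542 := ded_20_2 (flp_c L221217) (flp_f L221201) L244726
theorem L244732 : sm gg N31337 = N29301 := ded_21_2 (flp_c L227246) (flp_g L221203) L244726
theorem L244734 : sm gb N31337 = N30166 := ded_13_1 L234251 L222210 L221193 L221197 L244726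
theorem L244736 : sm gc N28541 = N31338 := rfl
theorem L244738 : sm ga N31338 = N28542 := ded_8_1 (flp_c L221217) L221207 L244736
theorem L244740 : sm ge N31338 = N31337 := ded_19_2 (flp_c L244726) (flp_e L221211) L244736
theorem L244742 : sm gf N31338 = N29082 := ded_20_2 (flp_c L225801) (flp_f L221213) L244736
theorem L244744 : sm gb N31338 = N28978 := ded_13_1 (flp_c L234273) (flp_b L243663) (flp_c L243671) (flp_b L221215) L244736
theorem L244746 : sm gd N28542 = N31339 := rfl
theorem L244748 : sm gg N31339 = N28858 := ded_24_2 L227240 L227236 L244746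
theorem L244750 : sm gb N28544 = N31340 := rfl
theorem L244752 : sm ge N31340 = N28615 := ded_15_2 (flp_b L222206) (flp_e L221233) L244750
theorem L244754 : sm gc N31340 = N28802 := ded_13_2 L227457 L227453 L198961 L221229 L244750
theorem L244756 : sm ga N28617 = N31340 := ded_10_3 L244752 L221740 L221754
theorem L244758 : sm gg N28739 = N31340 := ded_26_0 L244752 L221742 L223096
theorem L244760 : sm ga N28545 = N31341 := rfl
theorem L244762 : sm gc N31341 = N31219 := ded_8_2 (flp_a L243749) (flp_c L221241) L244760
theorem L244764 : sm ge N31341 = N29377 := ded_10_2 (flp_a L227798) (flp_e L221239) L244760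
theorem L244766 : sm gg N31341 = N30611 := ded_12_2 L238135 L227290 L244760
theorem L244768 : sm gf N31341 = N29318 := ded_29_0 (flp_g L227342) (flp_f L227288) L227290 L244760
theorem L244770 : sm gf N28545 = N31342 := rfl
theorem L244772 : sm ga N31342 = N29318 := ded_11_1 (flp_f L244768) (flp_a L244760) L244770
theorem L244774 : sm gc N31342 = N31220 := ded_20_1 (flp_f L243755) (flp_c L221241) L244770
theorem L244776 : sm ge N31342 = N28604 := ded_25_1 L221676 (flp_e L221239) L244770
theorem L244778 : sm gg N31342 = N29317 := ded_29_3 (flp_a L227338) (flp_f L227288) L227290 L244770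
theorem L244780 : sm gb N31342 = N28617 := ded_31_2 L221756 L223112 L228362 (flp_g L228356) L199510 (flp_b L228309) (flp_g L238357) (flp_f L238349) L211185 L198827 L198849 L227282 L227290 L244770
theorem L244782 : sm gb N28546 = N31343 := rfl
theorem L244784 : sm gd N31343 = N30603 := ded_14_2 (flp_b L238071) (flp_d L221249) L244782
theorem L244786 : sm ge N31343 = N28618 := ded_15_2 L221762 (flp_e L221251) L244782
theorem L244788 : sm gf N31343 = N28617 := ded_16_2 (flp_b L244780) (flp_f L244770) (flp_b L221237) L221243 L244782
theorem L244790 : sm gb N28547 = N31344 := rfl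
theorem L244792 : sm ge N31344 = N29446 := ded_15_2 (flp_b L228208) (flp_e L221259) L244790
theorem L244794 : sm gc N31344 = N29446 := ded_13_2 (flp_b L228208) (flp_c L199397) (flp_b L192151) L221255 L244790
theorem L244796 : sm gd N28547 = N31345 := rfl
theorem L244798 : sm ga N31345 = N28548 := ded_9_1 (flp_d L221263) (flp_a L221257) L244796
theorem L244800 : sm gf N31345 = N29477 := ded_23_2 (flp_d L228443) (flp_f L221261) L244796
theorem L244802 : sm gc N28548 = N31346 := rfl
theorem L244804 : sm gb N31346 = N31083 := ded_13_1 (flp_c L242380) (flp_b L217406) L192167 (flp_b L221265) L244802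
theorem L244806 : sm ge N28548 = N31347 := rfl
theorem L244808 : sm gb N31347 = N28549 := ded_15_1 (flp_e L221267) (flp_b L221265) L244806
theorem L244810 : sm gd N31347 = N29450 := ded_22_1 (flp_e L228224) (flp_d L199407) (flp_e L192155) L221263 L244806
theorem L244812 : sm gf N28550 = N31348 := rfl
theorem L244814 : sm ga N31348 = N28661 := ded_11_1 (flp_f L234281) (flp_a L234283) L244812
theorem L244816 : sm gc N31348 = N31250 := ded_20_1 (flp_f L244067) (flp_c L221281) L244812
theorem L244818 : sm gd N31348 = N28659 := ded_23_1 L222094 (flp_d L221277) L244812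
theorem L244820 : sm ge N31348 = N29460 := ded_25_1 (flp_f L228284) (flp_e L221279) L244812
theorem L244822 : sm gg N31348 = N29517 := ded_29_3 (flp_a L228721) (flp_f L222036) L222038 L244812
theorem L244824 : sm gb N31348 = N29098 := ded_16_1 (flp_f L225891) (flp_b L197769) L192179 L221275 L244812
theorem L244826 : sm gb N28551 = N31349 := rfl
theorem L244828 : sm ge N31349 = N30694 := ded_15_2 L238857 L221314 L244826
theorem L244830 : sm gf N31349 = N29012 := ded_16_2 (flp_b L225297) (flp_f L197232) (flp_b L192184) L221283 L244826
theorem L244832 : sm gb N28553 = N31350 := rfl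
theorem L244834 : sm gd N31350 = N30726 := ded_14_2 (flp_b L239393) L221922 L244832
theorem L244836 : sm ge N31350 = N28554 := ded_15_2 (flp_b L221305) (flp_e L221301) L244832
theorem L244838 : sm gf N31350 = N28557 := ded_16_2 (flp_b L221324) (flp_f L192211) (flp_b L192188) L221298 L244832
theorem L244840 : sm ga N28554 = N31351 := rfl
theorem L244842 : sm gd N31351 = N29712 := ded_9_2 L230304 L221914 L244840
theorem L244844 : sm gf N31351 = N28558 := ded_11_2 (flp_a L221328) (flp_f L221307) L244840
theorem L244846 : sm gc N28554 = N31352 := rfl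
theorem L244848 : sm gf N31352 = N28559 := ded_20_2 (flp_c L221330) (flp_f L221307) L244846
theorem L244850 : sm gb N31352 = N31352 := ded_13_1 (flp_c L244846) (flp_b L221305) L192195 L221305 L244846
theorem L244851 : sm gg N28554 = N31353 := rfl
theorem L244853 : sm gb N28556 = N31354 := rfl
theorem L244855 : sm gd N31354 = N28557 := ded_14_2 (flp_b L221324) (flp_d L221322) L244853
theorem L244857 : sm gf N31354 = N30726 := ded_16_2 (flp_b L239393) (flp_f L221924) L221292 L221318 L244853
theorem L244859 : sm gc N30728 = N31354 := ded_20_3 L244857 (flp_c L239155) L239163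
theorem L244861 : sm ga N28557 = N31355 := rfl
theorem L244863 : sm ge N31355 = N28558 := ded_10_2 (flp_a L221328) (flp_e L221326) L244861
theorem L244865 : sm gc N28557 = N31356 := rfl
theorem L244867 : sm ge N31356 = N28559 := ded_19_2 (flp_c L221330) (flp_e L221326) L244865
theorem L244869 : sm gb N31356 = N28561 := ded_13_1 (flp_c L221336) (flp_b L192219) (flp_c L192213) L221324 L244865
theorem L244871 : sm gd N31356 = N30453 := ded_28_7 (flp_a L238409) L238411 L211228 (flp_c L212067) (flp_d L239167) L244859 L244855 L244865
theorem L244873 : sm gg N28557 = N31357 := rfl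
theorem L244875 : sm ge N31357 = N28560 := ded_26_1 (flp_g L221334) (flp_e L221326) L244873
theorem L244877 : sm gb N28558 = N31358 := rfl
theorem L244879 : sm ga N31358 = N30653 := ded_7_1 (flp_b L238471) (flp_a L238447) (flp_b L238457) (flp_a L222030) (flp_b L192721) L160434 L192217 L221328 L244877
theorem L244881 : sm gc N28558 = N31359 := rfl
theorem L244883 : sm ga N31359 = N28559 := ded_8_1 (flp_c L221330) L221328 L244881
theorem L244885 : sm gd N31359 = N30054 := ded_28_7 (flp_a L235384) (flp_c L235382) (flp_d L205868) (flp_c L205753) (flp_d L223755) (flp_c L223763) L221952 L244881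
theorem L244887 : sm gb N31359 = N30060 := ded_30_2 L233397 L225633 L225609 (flp_b L197607) L167008 L166656 L166654 (flp_b L151170) (flp_a L166664) (flp_f L166662) L166658 (flp_b L192184) (flp_a L192181) L192193 L192195 L221305 L244840 L244844 L244881
theorem L244889 : sm gg N28558 = N31360 := rfl
theorem L244891 : sm ga N31360 = N28560 := ded_12_1 (flp_g L221334) L221328 L244889
theorem L244893 : sm gf N31360 = N31353 := ded_29_2 (flp_g L244851) L244840 L244844 L244889
theorem L244895 : sm gg N28559 = N31361 := rfl
theorem L244897 : sm gc N31361 = N28560 := ded_21_1 (flp_g L221334) L221330 L244895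
theorem L244899 : sm gd N31361 = N30083 := ded_24_1 L235392 (flp_d L235390) L244895
theorem L244901 : sm gb N31361 = N30076 := ded_17_1 (flp_g L233523) L227419 (flp_g L221358) (flp_b L221332) L244895
theorem L244903 : sm gf N28560 = N31362 := rfl
theorem L244905 : sm ga N31362 = N31353 := ded_11_1 (flp_f L244893) L244891 L244903
theorem L244907 : sm gg N31362 = N31351 := ded_29_3 (flp_a L244840) L221307 L221334 L244903
theorem L244909 : sm gb N31362 = N29158 := ded_16_1 (flp_f L226211) L226207 (flp_f L244491) L244493 L244903
theorem L244911 : sm gc N28565 = N31363 := rfl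
theorem L244913 : sm ga N31363 = N29133 := ded_8_1 (flp_c L226073) (flp_a L221374) L244911
theorem L244915 : sm gf N31363 = N29444 := ded_20_2 (flp_c L228198) (flp_f L221370) L244911
theorem L244917 : sm gg N31363 = N28567 := ded_21_2 (flp_c L221386) (flp_g L221372) L244911
theorem L244919 : sm gb N31363 = N30071 := ded_13_1 L233489 L227419 L221362 L221366 L244911
theorem L244921 : sm gc N28566 = N31364 := rfl
theorem L244923 : sm ga N31364 = N28567 := ded_8_1 (flp_c L221386) L221376 L244921
theorem L244925 : sm ge N31364 = N31363 := ded_19_2 (flp_c L244911) (flp_e L221380) L244921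
theorem L244927 : sm gg N31364 = N29133 := ded_21_2 (flp_c L226073) (flp_g L221382) L244921
theorem L244929 : sm gb N31364 = N28963 := ded_13_1 (flp_c L233513) (flp_b L243595) (flp_c L243603) (flp_b L221384) L244921
theorem L244931 : sm gd N28567 = N31365 := rfl
theorem L244933 : sm gf N31365 = N28827 := ded_23_2 L228196 L228190 L244931
theorem L244935 : sm gb N28569 = N31366 := rfl
theorem L244937 : sm ge N31366 = N28672 := ded_15_2 L227407 (flp_e L221402) L244935
theorem L244939 : sm gc N31366 = N28742 := ded_13_2 L228362 L228358 L199515 L221398 L244935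
theorem L244941 : sm ga N28674 = N31366 := ded_10_3 L244937 L222174 L222190
theorem L244943 : sm gf N28741 = N31366 := ded_25_0 L244937 L222176 L223106
theorem L244945 : sm ga N28570 = N31367 := rfl
theorem L244947 : sm gc N31367 = N31242 := ded_8_2 (flp_a L243985) (flp_c L221410) L244945
theorem L244949 : sm ge N31367 = N29517 := ded_10_2 (flp_a L228721) (flp_e L221408) L244945
theorem L244951 : sm gf N31367 = N30599 := ded_11_2 L238055 L228240 L244945
theorem L244953 : sm gg N29460 = N31367 := ded_29_3 (flp_a L244945) (flp_f L228240) L228242 L228284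
theorem L244955 : sm gg N28570 = N31368 := rfl
theorem L244957 : sm ga N31368 = N29460 := ded_12_1 L244953 (flp_a L244945) L244955
theorem L244959 : sm gc N31368 = N31243 := ded_21_1 (flp_g L243991) (flp_c L221410) L244955
theorem L244961 : sm ge N31368 = N28661 := ded_26_1 L222116 (flp_e L221408) L244955
theorem L244963 : sm gf N29459 = N31368 := ded_29_0 (flp_g L244955) (flp_f L228240) L228242 L228280
theorem L244965 : sm gb N28674 = N31368 := ded_31_14 (flp_g L244955) (flp_f L228240) (flp_b L228234) (flp_g L199411) (flp_f L199379) (flp_b L211376) L238505 (flp_f L238513) L227369 L198956 L227451 (flp_b L227457) (flp_g L223529) (flp_f L222192)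
theorem L244967 : sm gb N28571 = N31369 := rfl
theorem L244969 : sm gd N31369 = N30591 := ded_14_2 (flp_b L237997) (flp_d L221418) L244967
theorem L244971 : sm ge N31369 = N28675 := ded_15_2 L222202 (flp_e L221420) L244967
theorem L244973 : sm gc N31369 = N31343 := ded_13_2 (flp_b L244782) L221247 (flp_b L192283) (flp_c L221416) L244967
theorem L244975 : sm gg N31369 = N28674 := ded_17_2 L244965 (flp_g L244955) (flp_b L221406) L221412 L244967
theorem L244977 : sm gb N28573 = N31370 := rfl
theorem L244979 : sm gd N31370 = N31323 := ded_14_2 (flp_b L244641) (flp_d L221436) L244977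
theorem L244981 : sm gg N31370 = N29065 := ded_17_2 (flp_b L225665) L197623 L197197 L221430 L244977
theorem L244983 : sm gc N29114 = N31370 := ded_21_3 L244981 L225669 L225973
theorem L244985 : sm gg N28574 = N31371 := rfl
theorem L244987 : sm ga N31371 = N30975 := ded_12_1 (flp_g L241386) (flp_a L221440) L244985
theorem L244989 : sm gc N31371 = N30681 := ded_21_1 L238715 L221448 L244985
theorem L244991 : sm gd N31371 = N28575 := ded_24_1 (flp_g L221450) L221438 L244985
theorem L244993 : sm ge N31371 = N28578 := ded_26_1 L221478 (flp_e L221446) L244985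
theorem L244995 : sm gf N28575 = N31371 := ded_29_0 (flp_g L244985) L221444 L241208 L241210
theorem L244997 : sm gf N28577 = N31372 := rfl
theorem L244999 : sm gd N31372 = N31327 := ded_23_1 (flp_f L244666) (flp_d L221466) L244997
theorem L245001 : sm gb N28579 = N31373 := rfl
theorem L245003 : sm gd N31373 = N28580 := ded_14_2 (flp_b L221490) (flp_d L221484) L245001
theorem L245005 : sm ge N31373 = N31328 := ded_15_2 (flp_b L244668) (flp_e L221486) L245001
theorem L245007 : sm gf N28580 = N31374 := rfl
theorem L245009 : sm gc N31374 = N29937 := ded_20_1 (flp_f L232368) (flp_c L224057) L245007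
theorem L245011 : sm ge N31374 = N28583 := ded_25_1 (flp_f L221502) (flp_e L221492) L245007
theorem L245013 : sm gg N29936 = N31374 := ded_29_1 (flp_f L245007) (flp_g L232344) L232340 L232358
theorem L245015 : sm gb N31374 = N31277 := ded_16_1 (flp_f L244299) (flp_b L220418) (flp_f L192339) L221490 L245007
theorem L245017 : sm gb N28581 = N31375 := rfl
theorem L245019 : sm gd N31375 = N31332 := ded_14_2 (flp_b L244692) (flp_d L221496) L245017
theorem L245021 : sm gf N28581 = N31376 := rfl
theorem L245023 : sm ga N31376 = N28583 := ded_11_1 (flp_f L221502) L221494 L245021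
theorem L245025 : sm gc N31376 = N31175 := ded_20_1 L243333 (flp_c L224045) L245021
theorem L245027 : sm gd N31376 = N31334 := ded_23_1 (flp_f L244704) (flp_d L221496) L245021
theorem L245029 : sm gg N31372 = N31376 := ded_29_1 (flp_f L245021) (flp_g L232322) L232318 L244997
theorem L245031 : sm gf N28582 = N31377 := rfl
theorem L245033 : sm ga N31377 = N31175 := ded_11_1 L243333 L224043 L245031
theorem L245035 : sm gc N31377 = N28583 := ded_20_1 (flp_f L221502) L221498 L245031
theorem L245037 : sm gd N31377 = N30360 := ded_23_1 (flp_f L236029) L235892 L245031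
theorem L245039 : sm ge N31377 = N29937 := ded_25_1 (flp_f L232368) L224051 L245031
theorem L245041 : sm gg N29931 = N31377 := ded_29_1 (flp_f L245031) (flp_g L232312) (flp_a L232306) L232324
theorem L245043 : sm gb N31377 = N30439 := ded_16_1 L236629 (flp_b L221560) (flp_f L221550) (flp_b L221500) L245031
theorem L245045 : sm gg N28583 = N31378 := rfl
theorem L245047 : sm ga N31378 = N31372 := ded_12_1 L245029 L245023 L245045
theorem L245049 : sm gc N31378 = N29931 := ded_21_1 L245041 L245035 L245045
theorem L245051 : sm gd N31378 = N31336 := ded_24_1 (flp_g L244718) (flp_d L221504) L245045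
theorem L245053 : sm ge N31378 = N29936 := ded_26_1 L245013 L245011 L245045
theorem L245055 : sm gf N29930 = N31378 := ded_29_0 (flp_g L245045) (flp_f L221502) (flp_g L221468) (flp_a L232318)
theorem L245057 : sm gf N28584 = N31379 := rfl
theorem L245059 : sm ga N31379 = N28585 := ded_11_1 (flp_f L221516) L221508 L245057
theorem L245061 : sm gc N31379 = N28646 := ded_20_1 (flp_f L221996) L221880 L245057
theorem L245063 : sm gd N31379 = N28873 := ded_23_1 (flp_f L224167) (flp_d L221510) L245057
theorem L245065 : sm ge N31379 = N28588 := ded_25_1 (flp_f L221542) (flp_e L221512) L245057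
theorem L245067 : sm gg N31379 = N28645 := ded_29_3 L221980 L216633 (flp_g L221514) L245057
theorem L245069 : sm gc N28586 = N31380 := rfl
theorem L245071 : sm gf N31380 = N30828 := ded_20_2 L240063 L239681 L245069
theorem L245073 : sm gb N31380 = N30860 := ded_13_1 L240335 L221540 (flp_c L221532) L221528 L245069
theorem L245075 : sm gf N28587 = N31381 := rfl
theorem L245077 : sm ga N31381 = N28589 := ded_11_1 (flp_f L221550) (flp_a L221534) L245075
theorem L245079 : sm gc N31381 = N28588 := ded_20_1 (flp_f L221542) L221532 L245075
theorem L245081 : sm gd N31381 = N28877 := ded_23_1 (flp_f L224221) (flp_d L221538) L245075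
theorem L245083 : sm ge N31381 = N28646 := ded_25_1 (flp_f L221996) L221884 L245075
theorem L245085 : sm gg N31381 = N28643 := ded_29_3 (flp_a L221964) (flp_f L214135) (flp_g L221536) L245075
theorem L245087 : sm gb N28591 = N31382 := rfl
theorem L245089 : sm gd N31382 = N28592 := ded_14_2 (flp_b L221586) (flp_d L221580) L245087
theorem L245091 : sm ge N31382 = N28596 := ded_15_2 (flp_b L221616) (flp_e L221582) L245087
theorem L245093 : sm gf N31382 = N29094 := ded_16_2 (flp_b L225873) (flp_f L197763) (flp_b L197727) (flp_f L221584) L245087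
theorem L245095 : sm gg N31382 = N31217 := ded_17_2 (flp_b L243735) (flp_g L219840) (flp_b L192397) L221574 L245087
theorem L245097 : sm ga N28592 = N31383 := rfl
theorem L245099 : sm gc N31383 = N30611 := ded_8_2 L238135 L227286 L245097
theorem L245101 : sm ge N31383 = N28593 := ded_10_2 (flp_a L221594) (flp_e L221588) L245097
theorem L245103 : sm gf N31383 = N29095 := ded_11_2 (flp_a L225877) (flp_f L221590) L245097
theorem L245105 : sm gg N31383 = N31219 := ded_12_2 (flp_a L243749) (flp_g L221592) L245097
theorem L245107 : sm gb N30612 = N31383 := ded_30_2 (flp_a L245097) L221590 (flp_c L198879) (flp_b L198877) (flp_a L198861) (flp_f L198859) (flp_c L167924) L167914 (flp_a L177771) (flp_f L177769) (flp_c L144315) (flp_b L144313) L128823 L159972 L159976 L178007 L209247 (flp_f L210937) L238137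
theorem L245109 : sm gc N28593 = N31384 := rfl
theorem L245111 : sm ga N31384 = N28594 := ded_8_1 (flp_c L221598) L221594 L245109
theorem L245113 : sm ge N31384 = N30611 := ded_19_2 (flp_c L245099) L245101 L245109
theorem L245115 : sm gf N31384 = N30077 := ded_20_2 (flp_c L243813) L243819 L245109
theorem L245117 : sm gg N31384 = N29377 := ded_21_2 L227800 L225789 L245109
theorem L245119 : sm gb N31384 = N30484 := ded_13_1 L237083 (flp_b L211477) (flp_c L238605) L238613 L245109
theorem L245121 : sm gd N31384 = N30084 := ded_28_7 (flp_a L242024) L242026 (flp_d L243827) (flp_c L244631) L244633 (flp_c L221650) (flp_d L221596) L245109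
theorem L245123 : sm ga N28596 = N31385 := rfl
theorem L245125 : sm gd N31385 = N28598 := ded_9_2 (flp_a L221634) (flp_d L221618) L245123
theorem L245127 : sm gc N28596 = N31386 := rfl
theorem L245129 : sm gf N28596 = N31387 := rfl
theorem L245131 : sm gd N31387 = N28600 := ded_23_1 (flp_f L221644) (flp_d L221618) L245129
theorem L245133 : sm ge N31387 = N29094 := ded_25_1 (flp_f L245093) L245091 L245129
theorem L245135 : sm gb N31387 = N29093 := ded_16_1 (flp_f L225869) L221632 (flp_f L221620) L221616 L245129
theorem L245137 : sm gb N28598 = N31388 := rfl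
theorem L245139 : sm ge N31388 = N28601 := ded_15_2 (flp_b L221648) (flp_e L221636) L245137
theorem L245141 : sm gg N31388 = N30029 := ded_17_2 L233169 L233199 L241920 L241918 L245137
theorem L245143 : sm gc N30041 = N31388 := ded_19_3 L245139 (flp_c L221686) (flp_e L233241)
theorem L245145 : sm gc N28598 = N31389 := rfl
theorem L245147 : sm ga N31389 = N28599 := ded_8_1 (flp_c L221638) L221634 L245145
theorem L245149 : sm ge N31389 = N28602 := ded_19_2 (flp_c L221650) (flp_e L221636) L245145
theorem L245151 : sm gg N31389 = N31046 := ded_21_2 L242020 L241918 L245145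
theorem L245153 : sm gb N31389 = N29347 := ded_13_1 L227604 (flp_b L233243) L245143 (flp_b L245137) L245145
theorem L245155 : sm gd N29349 = N31389 := ded_22_5 L245149 (flp_d L244633) L244635 L227346 (flp_e L227624)
theorem L245157 : sm gf N28598 = N31390 := rfl
theorem L245159 : sm ga N31390 = N28600 := ded_11_1 (flp_f L221644) L221634 L245157
theorem L245161 : sm ge N31390 = N28603 := ded_25_1 (flp_f L221654) (flp_e L221636) L245157
theorem L245163 : sm gg N31036 = N31390 := ded_29_1 (flp_f L245157) (flp_g L241918) (flp_a L241914) L241922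
theorem L245165 : sm gd N28599 = N31391 := rfl
theorem L245167 : sm ga N31391 = N29349 := ded_9_1 L245155 L245147 L245165
theorem L245169 : sm gb N31391 = N28609 := ded_14_1 (flp_d L221710) (flp_b L221642) L245165
theorem L245171 : sm gf N28599 = N31392 := rfl
theorem L245173 : sm gc N31392 = N28600 := ded_20_1 (flp_f L221644) L221638 L245171
theorem L245175 : sm ge N31392 = N28605 := ded_25_1 (flp_f L221664) (flp_e L221640) L245171
theorem L245177 : sm gb N31392 = N29376 := ded_16_1 (flp_f L227796) (flp_b L224361) L195277 (flp_b L221642) L245171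
theorem L245179 : sm gg N28600 = N31393 := rfl
theorem L245181 : sm ga N31393 = N31036 := ded_12_1 L245163 L245159 L245179
theorem L245183 : sm ge N31393 = N28606 := ded_26_1 (flp_g L221688) (flp_e L221646) L245179
theorem L245185 : sm gf N31035 = N31393 := ded_29_0 (flp_g L245179) (flp_f L221644) (flp_g L216657) L241914
theorem L245187 : sm gf N28602 = N31394 := rfl
theorem L245189 : sm ga N31394 = N28605 := ded_11_1 (flp_f L221664) (flp_a L221652) L245187
theorem L245191 : sm gc N31394 = N28603 := ded_20_1 (flp_f L221654) L221650 L245187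
theorem L245193 : sm gd N31394 = N29377 := ded_23_1 L244637 L244633 L245187
theorem L245195 : sm gg N31394 = N30084 := ded_29_3 (flp_a L242024) (flp_f L242022) L221678 L245187
theorem L245197 : sm gb N28603 = N31395 := rfl
theorem L245199 : sm gb N28606 = N31396 := rfl
theorem L245201 : sm gd N31396 = N31232 := ded_14_2 L243897 L243827 L245199
theorem L245203 : sm gg N31396 = N31231 := ded_17_2 (flp_b L243881) (flp_g L219974) L219904 L221688 L245199
theorem L245205 : sm gc N28607 = N31397 := rfl
theorem L245207 : sm ge N31397 = N28612 := ded_19_2 (flp_c L221726) (flp_e L221698) L245205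
theorem L245209 : sm gf N31397 = N30678 := ded_20_2 (flp_c L238675) L221700 L245205
theorem L245211 : sm gb N28608 = N31398 := rfl
theorem L245213 : sm ge N31398 = N28614 := ded_15_2 (flp_b L221736) (flp_e L221706) L245211
theorem L245215 : sm ga N31398 = N29338 := ded_7_1 L227552 (flp_a L209075) (flp_b L219432) (flp_a L227600) (flp_b L245153) L245147 L221642 (flp_a L221704) L245211
theorem L245217 : sm gd N28608 = N31399 := rfl
theorem L245219 : sm ga N31399 = N28609 := ded_9_1 (flp_d L221710) (flp_a L221704) L245217
theorem L245221 : sm gf N31399 = N28789 := ded_23_2 L223453 (flp_f L223050) L245217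
theorem L245223 : sm gg N31399 = N28724 := ded_24_2 (flp_d L223018) (flp_g L221708) L245217
theorem L245225 : sm gc N31399 = N28666 := ded_28_6 (flp_d L222140) (flp_a L222134) (flp_c L222132) L192759 L162092 (flp_d L192449) L221702 L245217
theorem L245227 : sm gc N28609 = N31400 := rfl
theorem L245229 : sm ga N31400 = N28666 := ded_8_1 (flp_c L245225) L245219 L245227
theorem L245231 : sm gf N31400 = N28788 := ded_20_2 L224373 L224369 L245227
theorem L245233 : sm gg N31400 = N28725 := ded_21_2 (flp_c L223024) (flp_g L221712) L245227
theorem L245235 : sm gd N31400 = N28665 := ded_28_7 L222134 (flp_c L192765) L160460 (flp_c L149776) (flp_d L160230) L192455 L221710 L245227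
theorem L245237 : sm ge N28609 = N31401 := rfl
theorem L245239 : sm gf N31401 = N30603 := ded_25_2 L238073 L224369 L245237
theorem L245241 : sm gg N31401 = N28726 := ded_26_2 (flp_e L223026) (flp_g L221712) L245237
theorem L245243 : sm gd N31401 = N28617 := ded_22_1 (flp_e L221754) (flp_d L192477) (flp_e L192457) L221710 L245237
theorem L245245 : sm gc N28611 = N31402 := rfl
theorem L245247 : sm ga N31402 = N28612 := ded_8_1 (flp_c L221726) L221722 L245245
theorem L245249 : sm gb N28612 = N31403 := rfl
theorem L245251 : sm gc N31403 = N28614 := ded_13_2 (flp_b L221736) (flp_c L192471) L192467 L221726 L245249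
theorem L245253 : sm ga N29337 = N31403 := ded_8_3 L245251 (flp_a L222222) L227544
theorem L245255 : sm gd N28612 = N31404 := rfl
theorem L245257 : sm gf N28612 = N31405 := rfl
theorem L245259 : sm gc N31405 = N28613 := ded_20_1 (flp_f L221728) L221726 L245257
theorem L245261 : sm ge N31405 = N30678 := ded_25_1 (flp_f L245209) L245207 L245257
theorem L245263 : sm gg N30695 = N31405 := ded_21_0 L245259 (flp_g L221734) (flp_c L238863)
theorem L245265 : sm gg N28614 = N31406 := rfl
theorem L245267 : sm ga N31406 = N29339 := ded_12_1 (flp_g L227556) L222222 L245265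
theorem L245269 : sm gd N31406 = N29336 := ded_24_1 (flp_g L227534) (flp_d L222212) L245265
theorem L245271 : sm gf N31319 = N31406 := ded_29_0 (flp_g L245265) (flp_f L227472) L227474 (flp_a L244613)
theorem L245273 : sm gb N31406 = N28738 := ded_17_1 (flp_g L223094) (flp_b L193153) (flp_g L192475) L221736 L245265
theorem L245275 : sm ge N28616 = N31407 := rfl
theorem L245277 : sm ga N31407 = N28802 := ded_10_1 L223531 (flp_a L221748) L245275
theorem L245279 : sm gb N31407 = N29438 := ded_15_1 (flp_e L242410) L242406 L245275
theorem L245281 : sm gc N31407 = N28617 := ded_19_1 (flp_e L221754) L221746 L245275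
theorem L245283 : sm gf N31407 = N31369 := ded_25_2 L244971 (flp_f L222200) L245275
theorem L245285 : sm gg N31407 = N28741 := ded_26_2 (flp_e L223106) (flp_g L221750) L245275
theorem L245287 : sm gd N31407 = N29439 := ded_22_1 L228158 L216513 L213405 (flp_d L221752) L245275
theorem L245289 : sm gb N28626 = N31408 := rfl
theorem L245291 : sm gd N31408 = N28630 := ded_14_2 (flp_b L221866) (flp_d L221828) L245289
theorem L245293 : sm gf N31408 = N30107 := ded_16_2 (flp_b L233797) L220260 (flp_b L192501) L221824 L245289
theorem L245295 : sm gg N31408 = N30088 := ded_17_2 L233625 L220936 L221776 (flp_g L221830) L245289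
theorem L245297 : sm ga N31408 = N30108 := ded_7_1 L233805 L233759 (flp_b L211749) L181287 L181351 L211843 (flp_b L221794) (flp_a L221826) L245289
theorem L245299 : sm gc N30320 = N31408 := ded_32_4 (flp_b L245289) L221828 (flp_c L221858) L221860 L209561 L178785 L175739 (flp_c L173815) (flp_d L206372) (flp_c L233801) L233805 L233761 (flp_c L216615) (flp_d L217174) (flp_c L217134) (flp_b L187943) L156603 L108170 (flp_d L107985) L150323 (flp_b L96526) L96524 (flp_d L93667) (flp_c L112290) (flp_d L163710) L114538 L114542 (flp_d L165390) (flp_c L196379) L196381 L194538 L194542 (flp_d L206332) L206330 L173807 L122442 (flp_b L109677) L109675 (flp_c L103570) L119513 L108453 (flp_b L111755) L111751 (flp_c L150039) L148096 L103660 (flp_b L99355) (flp_e L124770) (flp_d L151578) (flp_c L151680) L153036 (flp_c L137015) (flp_b L137017) L149021 (flp_c L179527) (flp_d L185523) L185521 (flp_b L154756) L154752 (flp_c L154063) (flp_d L158516) (flp_c L190051) L190055 (flp_d L214705) L214703 L184037 (flp_c L158149) (flp_b L109404) (flp_d L109400) (flp_c L149053) L129074 (flp_c L149208) L157699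 (flp_e L189119) L189117 (flp_c L206308) (flp_d L235651)
theorem L245301 : sm gb N28632 = N31409 := rfl
theorem L245303 : sm gd N31409 = N31349 := ded_14_2 (flp_b L244826) (flp_d L221892) L245301
theorem L245305 : sm gf N31409 = N29076 := ded_16_2 (flp_b L225765) L197669 L197230 L221886 L245301
theorem L245307 : sm gc N29164 = N31409 := ded_30_1 (flp_b L245301) L221888 (flp_f L192623) L160356 L145064 L104224 L104246 (flp_c L117559) L169761 L201728 (flp_f L231286) (flp_c L231290) (flp_b L230518) (flp_a L202060) L202064 (flp_c L201207) L213764 L214389 L226257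
theorem L245309 : sm gf N28633 = N31410 := rfl
theorem L245311 : sm ga N31410 = N31002 := ded_11_1 (flp_f L241620) (flp_a L221896) L245309
theorem L245313 : sm gc N31410 = N30750 := ded_20_1 (flp_f L239379) L221904 L245309
theorem L245315 : sm gd N31410 = N28634 := ded_23_1 (flp_f L221906) L221894 L245309
theorem L245317 : sm ge N31410 = N28636 := ded_25_1 (flp_f L221924) (flp_e L221902) L245309
theorem L245319 : sm gg N31410 = N28634 := ded_29_3 (flp_a L241218) (flp_f L241216) (flp_g L221900) L245309
theorem L245321 : sm gg N28635 = N31411 := rfl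
theorem L245323 : sm gd N31411 = N31353 := ded_24_1 (flp_g L244851) (flp_d L221914) L245321
theorem L245325 : sm gb N28638 = N31412 := rfl
theorem L245327 : sm gd N31412 = N28639 := ded_14_2 (flp_b L221946) (flp_d L221940) L245325
theorem L245329 : sm ge N31412 = N31354 := ded_15_2 (flp_b L244853) (flp_e L221942) L245325
theorem L245331 : sm gg N28639 = N31413 := rfl
theorem L245333 : sm gc N31413 = N29719 := ded_21_1 L230354 (flp_c L223791) L245331
theorem L245335 : sm ge N31413 = N28642 := ded_26_1 (flp_g L221958) (flp_e L221948) L245331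
theorem L245337 : sm gf N31413 = N29718 := ded_29_2 (flp_g L230344) (flp_a L230326) L230330 L245331
theorem L245339 : sm gb N31413 = N31306 := ded_17_1 (flp_g L244513) (flp_b L220848) L192649 L221946 L245331
theorem L245341 : sm gb N28640 = N31414 := rfl
theorem L245343 : sm gd N31414 = N31358 := ded_14_2 (flp_b L244877) (flp_d L221952) L245341
theorem L245345 : sm gg N28640 = N31415 := rfl
theorem L245347 : sm ga N31415 = N28642 := ded_12_1 (flp_g L221958) L221950 L245345
theorem L245349 : sm gc N31415 = N31174 := ded_21_1 L243325 (flp_c L223763) L245345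
theorem L245351 : sm gd N31415 = N31360 := ded_24_1 (flp_g L244889) (flp_d L221952) L245345
theorem L245353 : sm gf N31415 = N31411 := ded_29_2 (flp_g L245321) (flp_a L230304) L230308 L245345
theorem L245355 : sm gg N28641 = N31416 := rfl
theorem L245357 : sm ga N31416 = N31174 := ded_12_1 L243325 L223761 L245355
theorem L245359 : sm gc N31416 = N28642 := ded_21_1 (flp_g L221958) L221954 L245355
theorem L245361 : sm gd N31416 = N30301 := ded_24_1 L235465 L235334 L245355
theorem L245363 : sm ge N31416 = N29719 := ded_26_1 L230354 L223785 L245355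
theorem L245365 : sm gf N31416 = N29713 := ded_29_2 (flp_g L230310) L230292 L230298 L245355
theorem L245367 : sm gb N31416 = N30447 := ded_17_1 L236711 (flp_b L221526) (flp_g L221524) (flp_b L221956) L245355
theorem L245369 : sm gf N28642 = N31417 := rfl
theorem L245371 : sm ga N31417 = N31411 := ded_11_1 (flp_f L245353) L245347 L245369
theorem L245373 : sm gc N31417 = N29713 := ded_20_1 (flp_f L245365) L245359 L245369
theorem L245375 : sm gd N31417 = N31362 := ded_23_1 (flp_f L244903) (flp_d L221960) L245369
theorem L245377 : sm ge N31417 = N29718 := ded_25_1 (flp_f L245337) L245335 L245369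
theorem L245379 : sm gg N31417 = N29712 := ded_29_3 L230304 L221916 L221958 L245369
theorem L245381 : sm gc N28644 = N31418 := rfl
theorem L245383 : sm gg N31418 = N30884 := ded_21_2 L240539 (flp_g L240159) L245381
theorem L245385 : sm gb N31418 = N30802 := ded_13_1 L239851 L221988 (flp_c L221978) L221974 L245381
theorem L245387 : sm gb N28648 = N31419 := rfl
theorem L245389 : sm gd N31419 = N28649 := ded_14_2 (flp_b L222022) (flp_d L222016) L245387
theorem L245391 : sm ge N31419 = N28653 := ded_15_2 (flp_b L222052) (flp_e L222018) L245387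
theorem L245393 : sm gf N31419 = N31240 := ded_16_2 (flp_b L243969) (flp_f L220048) (flp_b L192707) L222010 L245387
theorem L245395 : sm gg N31419 = N29145 := ded_17_2 (flp_b L226145) (flp_g L197943) (flp_b L197907) L222020 L245387
theorem L245397 : sm gc N31385 = N31419 := ded_32_14 (flp_b L245387) L222016 L192715 (flp_d L168326) (flp_c L170106) (flp_b L200525) L200519 L169089 L117215 (flp_c L111359) L161044 L161046 (flp_d L173134) L173136 L151445 (flp_c L143385) (flp_b L103280) (flp_d L103160) L163326 (flp_d L159807) (flp_c L163459) (flp_b L143353) (flp_d L123436) (flp_c L150494) L106242 L106272 L106274 L106320 L142756 (flp_d L106759) (flp_c L90664) (flp_b L41290) L19605 L9516 (flp_d L11338) (flp_c L23517) L83893 L83895 (flp_d L41472) (flp_c L90388) L106418 L153465 (flp_b L129319) L129317 (flp_c L152454) L175617 (flp_c L175609) (flp_b L123592) (flp_d L123584) (flp_c L152222) L183849 L205008 (flp_b L204998) L172237 L121509 (flp_d L121487) (flp_c L172215) L172217 (flp_d L172663) (flp_c L184215) L184217 L152696 L152726 (flp_e L182223) (flp_d L212837) L239729 L239733 L229634 L200833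 L200829 L169247 (flp_d L168094) (flp_c L199048) L227622 L245155 (flp_c L245145) (flp_d L245125)
theorem L245399 : sm ga N31419 = N31386 := ded_8_1 (flp_c L245127) L245123 L245397
theorem L245401 : sm ga N28649 = N31420 := rfl
theorem L245403 : sm gc N31420 = N30599 := ded_8_2 L238055 L228238 L245401
theorem L245405 : sm gd N31420 = N31386 := ded_9_2 (flp_a L245399) L245389 L245401
theorem L245407 : sm ge N31420 = N28650 := ded_10_2 (flp_a L222030) (flp_e L222024) L245401
theorem L245409 : sm gf N31420 = N31242 := ded_11_2 (flp_a L243985) (flp_f L222026) L245401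
theorem L245411 : sm gg N31420 = N29146 := ded_12_2 (flp_a L226149) (flp_g L222028) L245401
theorem L245413 : sm gb N30600 = N31420 := ded_13_5 L245403 (flp_b L238049) L210843 L210849 L238057
theorem L245415 : sm gc N28650 = N31421 := rfl
theorem L245417 : sm ga N31421 = N28651 := ded_8_1 (flp_c L222034) L222030 L245415
theorem L245419 : sm ge N31421 = N30599 := ded_19_2 (flp_c L245403) L245407 L245415
theorem L245421 : sm gf N31421 = N29517 := ded_20_2 L228723 L226057 L245415
theorem L245423 : sm gg N31421 = N30170 := ded_21_2 (flp_c L244057) L244063 L245415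
theorem L245425 : sm gb N31421 = N30477 := ded_13_1 L237013 (flp_b L211278) (flp_c L238449) (flp_b L238457) L245415
theorem L245427 : sm gd N31421 = N30177 := ded_28_7 (flp_a L242370) L242372 (flp_d L244071) (flp_c L244816) L244818 (flp_c L222090) (flp_d L222032) L245415
theorem L245429 : sm ga N28653 = N31422 := rfl
theorem L245431 : sm gd N31422 = N28655 := ded_9_2 (flp_a L222070) (flp_d L222054) L245429
theorem L245433 : sm ge N31422 = N31386 := ded_10_2 (flp_a L245399) L245391 L245429
theorem L245435 : sm gc N31382 = N31422 := ded_19_3 L245433 (flp_c L245127) (flp_e L245091)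
theorem L245437 : sm gc N28653 = N31423 := rfl
theorem L245439 : sm ga N31423 = N31382 := ded_8_1 L245435 (flp_a L245429) L245437
theorem L245441 : sm ge N31423 = N31385 := ded_19_2 L245397 L245391 L245437
theorem L245443 : sm gd N31423 = N31383 := ded_32_18 L245099 (flp_b L238129) L210929 L199979 L168700 (flp_c L170724) L203307 L203311 (flp_d L174368) (flp_c L162038) (flp_d L112188) (flp_c L93611) (flp_b L46565) L22401 (flp_c L26865) (flp_d L85650) (flp_c L98248) (flp_b L147613) L97676 L93492 L46517 L22379 (flp_b L12938) L12936 L26813 L85519 L97839 L122190 L151445 (flp_c L143385) (flp_d L143163) L179603 (flp_b L188647) L188645 L188869 (flp_c L188875) L176859 (flp_c L157079) (flp_b L157087) (flp_d L157089) L157329 L188665 (flp_c L188659) (flp_b L157327) L177405 (flp_c L177395) (flp_d L148842) L177084 (flp_b L177401) (flp_d L177405) L188677 (flp_d L188671) (flp_c L157217) (flp_b L108623) (flp_d L108515) (flp_c L157075) (flp_d L176478) L188725 (flp_b L195560) (flp_e L224489) L224487 L216379 (flp_d L224049) (flp_c L224057) (flp_b L221490) (flp_d L221484) (flp_c L224193) L224195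 L194432 (flp_b L162072) L162068 L112218 (flp_d L111021) (flp_c L160444) L192735 (flp_d L222054) L245437
theorem L245445 : sm gg N28653 = N31424 := rfl
theorem L245447 : sm gd N31424 = N28657 := ded_24_1 (flp_g L222080) (flp_d L222054) L245445
theorem L245449 : sm ge N31424 = N29145 := ded_26_1 (flp_g L245395) L245391 L245445
theorem L245451 : sm gb N31424 = N29144 := ded_17_1 (flp_g L226141) L222068 (flp_g L222056) L222052 L245445
theorem L245453 : sm gb N28655 = N31425 := rfl
theorem L245455 : sm ge N31425 = N28658 := ded_15_2 (flp_b L222084) (flp_e L222072) L245453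
theorem L245457 : sm gf N31425 = N30123 := ded_16_2 L233917 L233939 L242284 L242282 L245453
theorem L245459 : sm gc N30134 = N31425 := ded_19_3 L245455 (flp_c L222088) (flp_e L233985)
theorem L245461 : sm gc N28655 = N31426 := rfl
theorem L245463 : sm ga N31426 = N28656 := ded_8_1 (flp_c L222074) L222070 L245461
theorem L245465 : sm ge N31426 = N28659 := ded_19_2 (flp_c L222090) (flp_e L222072) L245461
theorem L245467 : sm gf N31426 = N31081 := ded_20_2 L242366 L242282 L245461
theorem L245469 : sm gb N31426 = N29490 := ded_13_1 L228537 (flp_b L233987) L245459 (flp_b L245453) L245461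
theorem L245471 : sm gd N31426 = N29491 := ded_28_5 (flp_c L229102) (flp_d L238131) L238135 L227286 (flp_d L245089) L245435 L245431 L245461
theorem L245473 : sm gg N28655 = N31427 := rfl
theorem L245475 : sm ga N31427 = N28657 := ded_12_1 (flp_g L222080) L222070 L245473
theorem L245477 : sm ge N31427 = N28660 := ded_26_1 (flp_g L222098) (flp_e L222072) L245473
theorem L245479 : sm gf N31427 = N31073 := ded_29_2 (flp_g L242286) L242278 L242282 L245473
theorem L245481 : sm gd N28656 = N31428 := rfl
theorem L245483 : sm ga N31428 = N29491 := ded_9_1 (flp_d L245471) L245463 L245481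
theorem L245485 : sm gb N31428 = N28666 := ded_14_1 (flp_d L222140) (flp_b L222078) L245481
theorem L245487 : sm gg N28656 = N31429 := rfl
theorem L245489 : sm gc N31429 = N28657 := ded_21_1 (flp_g L222080) L222074 L245487
theorem L245491 : sm ge N31429 = N28662 := ded_26_1 (flp_g L222108) (flp_e L222076) L245487
theorem L245493 : sm gb N31429 = N29516 := ded_17_1 (flp_g L228719) (flp_b L224305) L194999 (flp_b L222078) L245487
theorem L245495 : sm gf N28657 = N31430 := rfl
theorem L245497 : sm ga N31430 = N31073 := ded_11_1 (flp_f L245479) L245475 L245495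
theorem L245499 : sm ge N31430 = N28663 := ded_25_1 (flp_f L222118) (flp_e L222082) L245495
theorem L245501 : sm gg N31430 = N31072 := ded_29_3 (flp_a L242278) L217230 L222080 L245495
theorem L245503 : sm gg N28659 = N31431 := rfl
theorem L245505 : sm ga N31431 = N28662 := ded_12_1 (flp_g L222108) (flp_a L222092) L245503
theorem L245507 : sm gc N31431 = N28660 := ded_21_1 (flp_g L222098) L222090 L245503
theorem L245509 : sm gd N31431 = N29517 := ded_24_1 (flp_g L244822) L244818 L245503
theorem L245511 : sm gf N30177 = N31431 := ded_29_0 (flp_g L245503) L222094 L242368 L242370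
theorem L245513 : sm gb N28660 = N31432 := rfl
theorem L245515 : sm gb N28663 = N31433 := rfl
theorem L245517 : sm gd N31433 = N31256 := ded_14_2 L244141 L244071 L245515
theorem L245519 : sm gf N31433 = N31255 := ded_16_2 (flp_b L244125) L220190 L220120 L222118 L245515
theorem L245521 : sm gc N28664 = N31434 := rfl
theorem L245523 : sm ge N31434 = N28669 := ded_19_2 (flp_c L222160) (flp_e L222128) L245521
theorem L245525 : sm gg N31434 = N30748 := ded_21_2 (flp_c L239351) L222130 L245521
theorem L245527 : sm gb N28665 = N31435 := rfl
theorem L245529 : sm ge N31435 = N28671 := ded_15_2 (flp_b L222170) (flp_e L222136) L245527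
theorem L245531 : sm ga N31435 = N29480 := ded_7_1 L228467 (flp_a L209003) (flp_b L219464) (flp_a L228535) (flp_b L245469) L245463 L222078 (flp_a L222134) L245527
theorem L245533 : sm ge N28666 = N31436 := rfl
theorem L245535 : sm gf N31436 = N28790 := ded_25_2 (flp_e L223457) (flp_f L222142) L245533
theorem L245537 : sm gg N31436 = N30591 := ded_26_2 L237999 L224315 L245533
theorem L245539 : sm gd N31436 = N28674 := ded_22_1 (flp_e L222190) (flp_d L192791) (flp_e L192767) L222140 L245533
theorem L245541 : sm gc N28668 = N31437 := rfl
theorem L245543 : sm ga N31437 = N28669 := ded_8_1 (flp_c L222160) L222156 L245541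
theorem L245545 : sm gb N28669 = N31438 := rfl
theorem L245547 : sm gc N31438 = N28671 := ded_13_2 (flp_b L222170) (flp_c L192785) L192781 L222160 L245545
theorem L245549 : sm ga N29479 = N31438 := ded_8_3 L245547 L227417 L228459
theorem L245551 : sm gd N28669 = N31439 := rfl
theorem L245553 : sm gg N28669 = N31440 := rfl
theorem L245555 : sm gc N31440 = N28670 := ded_21_1 (flp_g L222162) L222160 L245553
theorem L245557 : sm ge N31440 = N30748 := ded_26_1 (flp_g L245525) L245523 L245553
theorem L245559 : sm gf N30757 = N31440 := ded_20_0 L245555 (flp_f L222168) (flp_c L239441)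
theorem L245561 : sm gf N28671 = N31441 := rfl
theorem L245563 : sm ga N31441 = N29481 := ded_11_1 (flp_f L228471) (flp_a L227417) L245561
theorem L245565 : sm gd N31441 = N29478 := ded_23_1 (flp_f L228449) L227409 L245561
theorem L245567 : sm gg N31441 = N31345 := ded_29_3 L244798 (flp_f L228377) L228379 L245561
theorem L245569 : sm gb N31441 = N28800 := ded_16_1 (flp_f L223525) (flp_b L193469) (flp_f L192789) L222170 L245561
theorem L245571 : sm ge N28673 = N31442 := rfl
theorem L245573 : sm ga N31442 = N28742 := ded_10_1 L223114 (flp_a L222182) L245571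
theorem L245575 : sm gb N31442 = N29295 := ded_15_1 (flp_e L242086) L242082 L245571
theorem L245577 : sm gc N31442 = N28674 := ded_19_1 (flp_e L222190) L222180 L245571
theorem L245579 : sm gf N31442 = N28739 := ded_25_2 (flp_e L223096) (flp_f L222184) L245571
theorem L245581 : sm gg N31442 = N31343 := ded_26_2 L244786 L222188 L245571
theorem L245583 : sm gd N31442 = N29296 := ded_22_1 L227208 L216487 L212903 (flp_d L222186) L245571
theorem L245585 : sm gb N28683 = N31443 := rfl
theorem L245587 : sm gd N31443 = N28687 := ded_14_2 (flp_b L222351) (flp_d L222313) L245585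
theorem L245589 : sm gf N31443 = N30185 := ded_16_2 L234411 L220504 L222253 L222315 L245585
theorem L245591 : sm gg N31443 = N30204 := ded_17_2 L234593 (flp_g L220690) (flp_b L192823) L222309 L245585
theorem L245593 : sm ga N31443 = N30205 := ded_7_1 L234601 L234509 (flp_b L212405) L181805 L181859 L212487 (flp_b L222275) (flp_a L222311) L245585
theorem L245595 : sm gc N30364 = N31443 := ded_32_4 (flp_b L245585) L222313 (flp_c L222343) L222345 L209489 L178707 L176139 (flp_c L175246) (flp_d L207339) (flp_c L234597) L234601 L234513 (flp_c L217186) L217188 (flp_c L216561) (flp_b L187585) L156356 L108051 (flp_d L107929) L107927 (flp_b L96241) L96239 (flp_d L93528) (flp_c L112060) (flp_d L163536) L113977 L113981 (flp_d L164781) (flp_c L195968) L195970 L194731 L194735 (flp_d L206070) L206068 L173721 L123315 (flp_b L109802) L109800 (flp_c L103660) (flp_d L148096) L150039 (flp_b L111593) L111589 (flp_c L108453) (flp_d L119513) L103570 (flp_b L99131) (flp_e L124381) (flp_d L146134) (flp_c L151790) L153475 (flp_c L133821) L133819 (flp_d L143037) (flp_c L179595) (flp_d L185793) L185791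 L154590 L154384 (flp_c L153802) (flp_d L158484) (flp_c L189625) L189629 (flp_d L214533) L214531 L183583 (flp_c L157843) (flp_b L109215) (flp_d L109211) (flp_c L129042) L129044 (flp_c L119421) L157567 (flp_e L188997) L188995 (flp_c L207327) (flp_d L236061)
theorem L245597 : sm gc N28688 = N31444 := rfl
theorem L245599 : sm ga N31444 = N31076 := ded_8_1 (flp_c L243089) L243087 L245597
theorem L245601 : sm ge N31444 = N30787 := ded_19_2 (flp_c L239729) (flp_e L222365) L245597
theorem L245603 : sm gf N31444 = N31075 := ded_20_2 L243069 L243063 L245597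
theorem L245605 : sm gg N31444 = N28697 := ded_21_2 (flp_c L222435) (flp_g L222367) L245597
theorem L245607 : sm gb N31444 = N30519 := ded_13_1 (flp_c L237397) (flp_b L209711) (flp_c L192921) L222361 L245597
theorem L245609 : sm gd N31444 = N29313 := ded_28_7 (flp_a L229712) L229714 (flp_d L242170) L242168 L217035 L192935 (flp_d L222363) L245597
theorem L245611 : sm gb N28689 = N31445 := rfl
theorem L245613 : sm gd N31445 = N30579 := ded_14_2 (flp_b L237927) (flp_d L222373) L245611
theorem L245615 : sm gg N31445 = N28694 := ded_17_2 (flp_b L222417) (flp_g L192959) L192937 L222369 L245611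
theorem L245617 : sm gb N28691 = N31446 := rfl
theorem L245619 : sm gd N31446 = N28694 := ded_14_2 (flp_b L222417) (flp_d L222395) L245617
theorem L245621 : sm gg N31446 = N30579 := ded_17_2 (flp_b L237927) L210643 L210457 L222389 L245617
theorem L245623 : sm gb N28693 = N31447 := rfl
theorem L245625 : sm ge N31447 = N28694 := ded_15_2 (flp_b L222417) (flp_e L222415) L245623
theorem L245627 : sm ga N28694 = N31448 := rfl
theorem L245629 : sm gc N28694 = N31449 := rfl
theorem L245631 : sm gb N31449 = N28697 := ded_13_1 (flp_c L222435) (flp_b L192981) (flp_c L192963) L222417 L245629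
theorem L245633 : sm gf N31432 = N31449 := ded_16_0 L245631 L222437 (flp_b L222906) (flp_f L222102) L245513
theorem L245635 : sm gf N28694 = N31450 := rfl
theorem L245637 : sm gc N31450 = N31432 := ded_20_1 L245633 (flp_c L245629) L245635
theorem L245639 : sm gc N28695 = N31451 := rfl
theorem L245641 : sm ge N31451 = N28697 := ded_19_2 (flp_c L222435) (flp_e L222423) L245639
theorem L245643 : sm gf N31451 = N31161 := ded_20_2 (flp_c L243155) L222427 L245639
theorem L245645 : sm gg N31451 = N30787 := ded_21_2 (flp_c L239729) (flp_g L222425) L245639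
theorem L245647 : sm gb N28696 = N31452 := rfl
theorem L245649 : sm gd N31452 = N28698 := ded_14_2 (flp_b L222439) (flp_d L222431) L245647
theorem L245651 : sm ge N31452 = N30615 := ded_15_2 (flp_b L243003) L242999 L245647
theorem L245653 : sm gf N31452 = N29749 := ded_16_2 (flp_b L230642) L201396 (flp_b L218800) (flp_f L222433) L245647
theorem L245655 : sm gg N31452 = N30783 := ded_17_2 L239693 (flp_g L234219) (flp_b L243097) L243095 L245647
theorem L245657 : sm ga N31452 = N30614 := ded_7_1 L238159 (flp_a L233747) (flp_b L203785) L171037 L118350 (flp_a L160580) L192981 L222429 L245647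
theorem L245659 : sm gc N28696 = N31453 := rfl
theorem L245661 : sm ga N31453 = N28697 := ded_8_1 (flp_c L222435) L222429 L245659
theorem L245663 : sm gf N31453 = N29137 := ded_20_2 (flp_c L226107) (flp_f L222433) L245659
theorem L245665 : sm gg N31453 = N31076 := ded_21_2 (flp_c L243089) L243095 L245659
theorem L245667 : sm gd N29138 = N31453 := ded_28_1 (flp_c L245659) L222431 L192997 (flp_d L216970) (flp_c L242096) L242098 (flp_a L242148) L242150
theorem L245669 : sm gb N31453 = N29154 := ded_30_2 (flp_a L234847) (flp_f L234845) (flp_c L204457) L171458 L118617 L118457 (flp_c L108291) (flp_b L108244) (flp_a L156741) (flp_f L188047) L217366 (flp_b L236965) L236963 (flp_f L243133) (flp_c L243127) L218830 (flp_a L218798) (flp_f L222433) L245659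
theorem L245671 : sm ga N31449 = N28758 := ded_7_3 (flp_b L223231) L193269 L193347 L223315 (flp_b L234853) L234847 (flp_b L245669) L245661 (flp_b L245631)
theorem L245673 : sm gc N28758 = N31448 := ded_8_2 (flp_a L245627) L245629 L245671
theorem L245675 : sm gb N31448 = N28761 := ded_13_1 (flp_c L223249) (flp_b L193295) (flp_c L193271) L223231 L245673
theorem L245677 : sm gg N31395 = N31448 := ded_17_0 L245675 L223251 L222904 L221658 L245197
theorem L245679 : sm ga N31445 = N31395 := ded_12_3 L245677 (flp_a L245627) (flp_g L245615)
theorem L245681 : sm gd N28697 = N31454 := rfl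
theorem L245683 : sm ga N31454 = N29138 := ded_9_1 L245667 L245661 L245681
theorem L245685 : sm gf N31454 = N29136 := ded_23_2 (flp_d L226095) (flp_f L222437) L245681
theorem L245687 : sm gg N31454 = N29313 := ded_24_2 (flp_d L245609) L245605 L245681
theorem L245689 : sm gc N29294 = N31454 := ded_28_0 (flp_d L245681) (flp_c L222435) L192983 (flp_c L175482) (flp_d L187867) (flp_c L217014) (flp_d L242152) L242148
theorem L245691 : sm ge N29293 = N31454 := ded_10_0 L245683 L229324 L229314
theorem L245693 : sm gb N28699 = N31455 := rfl
theorem L245695 : sm gd N31455 = N28705 := ded_14_2 (flp_b L222501) (flp_d L222453) L245693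
theorem L245697 : sm ge N31455 = N28700 := ded_15_2 (flp_b L222459) (flp_e L222455) L245693
theorem L245699 : sm ga N28700 = N31456 := rfl
theorem L245701 : sm gd N31456 = N28706 := ded_9_2 (flp_a L222503) (flp_d L222461) L245699
theorem L245703 : sm gg N31456 = N31236 := ded_12_2 L243937 L223679 L245699
theorem L245705 : sm gb N29101 = N31456 := ded_14_3 L245701 (flp_b L234717) L234715
theorem L245707 : sm gc N28700 = N31457 := rfl
theorem L245709 : sm gf N28700 = N31458 := rfl
theorem L245711 : sm gd N31458 = N28707 := ded_23_1 (flp_f L222505) (flp_d L222461) L245709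
theorem L245713 : sm gb N28701 = N31459 := rfl
theorem L245715 : sm gd N31459 = N28708 := ded_14_2 (flp_b L222507) (flp_d L222469) L245713
theorem L245717 : sm ge N31459 = N31446 := ded_15_2 (flp_b L245617) (flp_e L222471) L245713
theorem L245719 : sm gb N28702 = N31460 := rfl
theorem L245721 : sm gd N31460 = N28703 := ded_14_2 (flp_b L222485) (flp_d L222479) L245719
theorem L245723 : sm ge N31460 = N28705 := ded_15_2 (flp_b L222501) (flp_e L222481) L245719
theorem L245725 : sm gc N31460 = N29506 := ded_13_2 L228635 L222521 (flp_b L222509) (flp_c L222477) L245719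
theorem L245727 : sm ga N28703 = N31461 := rfl
theorem L245729 : sm gc N31461 = N29928 := ded_8_2 L232298 L230232 L245727
theorem L245731 : sm ge N31461 = N28706 := ded_10_2 (flp_a L222503) (flp_e L222487) L245727
theorem L245733 : sm gf N31461 = N29927 := ded_30_4 (flp_c L232292) (flp_b L202587) (flp_a L170672) (flp_f L170670) L118085 (flp_b L111275) (flp_a L160898) L160902 (flp_c L192797) L222237 (flp_a L228659) (flp_f L228657) L222521 (flp_b L222509) (flp_a L193059) (flp_f L193057) (flp_c L193029) L222485 L245727
theorem L245735 : sm gf N28703 = N31462 := rfl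
theorem L245737 : sm ga N31462 = N29927 := ded_11_1 (flp_f L245733) (flp_a L245727) L245735
theorem L245739 : sm gc N31462 = N29926 := ded_20_1 L232288 L230232 L245735
theorem L245741 : sm ge N31462 = N28707 := ded_25_1 (flp_f L222505) (flp_e L222487) L245735
theorem L245743 : sm gb N28704 = N31463 := rfl
theorem L245745 : sm gd N31463 = N31447 := ded_14_2 (flp_b L245623) (flp_d L222495) L245743
theorem L245747 : sm ge N31463 = N28708 := ded_15_2 (flp_b L222507) (flp_e L222497) L245743
theorem L245749 : sm ga N28705 = N31464 := rfl
theorem L245751 : sm gc N28705 = N31465 := rfl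
theorem L245753 : sm ge N31465 = N29506 := ded_19_2 (flp_c L245725) L245723 L245751
theorem L245755 : sm gb N31465 = N28712 := ded_13_1 (flp_c L222922) (flp_b L193067) (flp_c L193035) L222501 L245751
theorem L245757 : sm ga N30157 = N31465 := ded_7_9 L245755 (flp_a L236963) L236965 L217368 L217384 L217386 (flp_b L204155) (flp_a L204067) L234171
theorem L245759 : sm gc N31464 = N30157 := ded_8_0 L245757 (flp_c L245751) L245749
theorem L245761 : sm gb N30160 = N31464 := ded_13_5 L245759 (flp_b L234171) L204069 L204095 L234199
theorem L245763 : sm gf N28705 = N31466 := rfl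
theorem L245765 : sm gb N31466 = N31450 := ded_16_1 (flp_f L245635) (flp_b L222417) L193037 L222501 L245763
theorem L245767 : sm gf N28706 = N31467 := rfl
theorem L245769 : sm ga N31467 = N28707 := ded_11_1 (flp_f L222505) L222503 L245767
theorem L245771 : sm gc N31467 = N29702 := ded_20_1 (flp_f L230246) L230202 L245767
theorem L245773 : sm ge N31467 = N29927 := ded_25_1 (flp_f L245733) L245731 L245767
theorem L245775 : sm gg N28829 = N31467 := ded_29_1 (flp_f L245767) (flp_g L223745) (flp_a L223741) L223747
theorem L245777 : sm gb N29930 = N31467 := ded_13_5 L245771 (flp_b L230936) L202583 L202589 L232316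
theorem L245779 : sm gb N28707 = N31468 := rfl
theorem L245781 : sm gf N31468 = N28708 := ded_16_2 (flp_b L222507) (flp_f L193041) L193039 L222505 L245779
theorem L245783 : sm gg N28707 = N31469 := rfl
theorem L245785 : sm ga N31469 = N28829 := ded_12_1 L245775 L245769 L245783
theorem L245787 : sm gc N31469 = N29693 := ded_21_1 (flp_g L230254) L230252 L245783
theorem L245789 : sm gf N28828 = N31469 := ded_29_0 (flp_g L245783) (flp_f L222505) (flp_g L193673) L223741
theorem L245791 : sm gb N30202 = N31469 := ded_13_5 L245787 (flp_b L230256) L203187 L204311 L234569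
theorem L245793 : sm ga N28708 = N31470 := rfl
theorem L245795 : sm gb N31470 = N29834 := ded_7_2 L231438 (flp_b L230592) (flp_a L234201) L245761 (flp_a L245749) (flp_b L222501) (flp_a L193043) L222507 L245793
theorem L245797 : sm gc N28708 = N31471 := rfl
theorem L245799 : sm gb N31471 = N28714 := ded_13_1 (flp_c L222936) (flp_b L193071) (flp_c L193045) L222507 L245797
theorem L245801 : sm gg N28708 = N31472 := rfl
theorem L245803 : sm gb N31472 = N31032 := ded_17_1 (flp_g L241886) L216647 (flp_g L193047) L222507 L245801
theorem L245805 : sm ga N28710 = N31473 := rfl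
theorem L245807 : sm gd N31473 = N28880 := ded_9_2 (flp_a L224247) (flp_d L222910) L245805
theorem L245809 : sm ge N31473 = N28713 := ded_10_2 (flp_a L222928) (flp_e L222912) L245805
theorem L245811 : sm gf N31473 = N30863 := ded_11_2 L240363 L233785 L245805
theorem L245813 : sm gb N31473 = N30706 := ded_7_2 (flp_a L238981) (flp_b L211909) (flp_a L182287) L212967 L222519 (flp_b L222509) (flp_a L193059) L222908 L245805
theorem L245815 : sm gc N31066 = N31473 := ded_19_3 L245809 L222932 (flp_e L242228)
theorem L245817 : sm gc N28710 = N31474 := rfl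
theorem L245819 : sm ga N31474 = N31066 := ded_8_1 L245815 (flp_a L245805) L245817
theorem L245821 : sm ge N31474 = N28714 := ded_19_2 (flp_c L222936) (flp_e L222912) L245817
theorem L245823 : sm gg N28714 = N31475 := rfl
theorem L245825 : sm ga N31475 = N31067 := ded_12_1 (flp_g L242230) (flp_a L222938) L245823
theorem L245827 : sm gc N31475 = N28715 := ded_21_1 (flp_g L222940) L222936 L245823
theorem L245829 : sm gd N31475 = N30600 := ded_24_1 L238063 L237173 L245823
theorem L245831 : sm gb N31386 = N31475 := ded_13_5 L245827 L222944 L221608 L221616 L245127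
theorem L245833 : sm gf N28715 = N31476 := rfl
theorem L245835 : sm ga N31476 = N30111 := ded_11_1 (flp_f L244353) L244357 L245833
theorem L245837 : sm gd N31476 = N28716 := ded_23_1 (flp_f L222946) (flp_d L222942) L245833
theorem L245839 : sm ge N31476 = N28892 := ded_25_1 (flp_f L238661) L238659 L245833
theorem L245841 : sm gg N31476 = N30109 := ded_29_3 (flp_a L233807) L203817 L222940 L245833
theorem L245843 : sm gb N31476 = N29815 := ded_16_1 (flp_f L231258) L223143 L221614 (flp_b L222944) L245833
theorem L245845 : sm gb N28721 = N31477 := rfl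
theorem L245847 : sm gd N31477 = N30817 := ded_14_2 L240001 L233225 L245845
theorem L245849 : sm ge N31477 = N28731 := ded_15_2 (flp_b L223062) (flp_e L223006) L245845
theorem L245851 : sm gc N31477 = N28723 := ded_13_2 (flp_b L223014) (flp_c L193115) L193109 L223002 L245845
theorem L245853 : sm ga N31477 = N30825 := ded_7_1 (flp_b L240821) L240819 L230656 (flp_a L213885) L213887 L182944 (flp_b L213153) (flp_a L223004) L245845
theorem L245855 : sm gg N28721 = N31478 := rfl
theorem L245857 : sm ga N31478 = N30811 := ded_12_1 (flp_g L239937) (flp_a L223004) L245855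
theorem L245859 : sm gc N31478 = N28722 := ded_21_1 (flp_g L223008) L223002 L245855
theorem L245861 : sm ge N31478 = N28733 := ded_26_1 (flp_g L223072) (flp_e L223006) L245855
theorem L245863 : sm gb N28725 = N31479 := rfl
theorem L245865 : sm ge N28725 = N31480 := rfl
theorem L245867 : sm ga N31480 = N30591 := ded_10_1 L237999 L224311 L245865
theorem L245869 : sm gc N31480 = N28726 := ded_19_1 (flp_e L223026) L223024 L245865
theorem L245871 : sm gf N28726 = N31481 := rfl
theorem L245873 : sm ga N31481 = N29296 := ded_11_1 (flp_f L238390) (flp_a L238392) L245871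
theorem L245875 : sm gd N31481 = N28742 := ded_23_1 (flp_f L223112) (flp_d L223028) L245871
theorem L245877 : sm ge N31481 = N28727 := ded_25_1 (flp_f L223030) L223026 L245871
theorem L245879 : sm gb N31481 = N31200 := ded_16_1 L243575 L243581 (flp_f L243587) L233505 L245871
theorem L245881 : sm gb N28729 = N31482 := rfl
theorem L245883 : sm ge N31482 = N28746 := ded_15_2 (flp_b L223133) (flp_e L223048) L245881
theorem L245885 : sm gg N31482 = N28735 := ded_17_2 (flp_b L228368) L228371 (flp_b L223036) L223042 L245881
theorem L245887 : sm ga N31482 = N28738 := ded_7_1 (flp_b L245273) L245267 (flp_b L242032) L242024 (flp_b L243261) L243255 (flp_b L224361) (flp_a L223044) L245881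
theorem L245889 : sm gc N28730 = N31483 := rfl
theorem L245891 : sm ga N31483 = N29090 := ded_8_1 L225853 L223060 L245889
theorem L245893 : sm ge N31483 = N28748 := ded_19_2 (flp_c L223145) (flp_e L223056) L245889
theorem L245895 : sm gg N31483 = N29809 := ded_21_2 (flp_c L231216) (flp_g L223058) L245889
theorem L245897 : sm ga N28731 = N31484 := rfl
theorem L245899 : sm gc N31484 = N28735 := ded_8_2 (flp_a L223086) (flp_c L223064) L245897
theorem L245901 : sm gd N31484 = N30822 := ded_9_2 L240035 L226924 L245897
theorem L245903 : sm ge N31484 = N30825 := ded_10_2 (flp_a L245853) L245849 L245897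
theorem L245905 : sm gb N31484 = N29750 := ded_7_2 (flp_a L230650) (flp_b L201358) (flp_a L182926) L182928 L145768 L182411 (flp_a L193141) L223062 L245897
theorem L245907 : sm gg N28731 = N31485 := rfl
theorem L245909 : sm gc N31485 = N28738 := ded_21_1 (flp_g L223094) (flp_c L223064) L245907
theorem L245911 : sm gb N28733 = N31486 := rfl
theorem L245913 : sm gd N31486 = N30393 := ded_14_2 L236282 L226948 L245911
theorem L245915 : sm gd N28735 = N31487 := rfl
theorem L245917 : sm ga N31487 = N28736 := ded_9_1 (flp_d L223088) L223086 L245915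
theorem L245919 : sm gb N31487 = N29002 := ded_14_1 (flp_d L228373) L228368 L245915
theorem L245921 : sm gc N29012 = N31487 := ded_28_0 (flp_d L245915) (flp_c L245899) L245901 L240037 L214242 (flp_c L233879) (flp_d L234225) (flp_a L234229)
theorem L245923 : sm gf N28735 = N31488 := rfl
theorem L245925 : sm ga N31488 = N28737 := ded_11_1 (flp_f L223092) L223086 L245923
theorem L245927 : sm gb N31488 = N31488 := ded_16_1 (flp_f L245923) (flp_b L228368) L228370 L228368 L245923
theorem L245928 : sm gg N28736 = N31489 := rfl
theorem L245930 : sm gd N31489 = N28738 := ded_24_1 (flp_g L223094) L223088 L245928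
theorem L245932 : sm gb N31489 = N29336 := ded_17_1 (flp_g L227534) L222206 L221742 (flp_b L223090) L245928
theorem L245934 : sm gg N28737 = N31490 := rfl
theorem L245936 : sm gf N31482 = N31490 := ded_29_0 (flp_g L245934) (flp_f L223092) L223094 (flp_a L245887)
theorem L245938 : sm gf N28738 = N31491 := rfl
theorem L245940 : sm ga N31491 = N31490 := ded_11_1 (flp_f L245936) L245887 L245938
theorem L245942 : sm gg N31491 = N31488 := ded_29_3 L245925 (flp_f L223092) L223094 L245938
theorem L245944 : sm ga N28740 = N31492 := rfl
theorem L245946 : sm gc N31492 = N29007 := ded_8_2 L233475 L233473 L245944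
theorem L245948 : sm gd N31492 = N28799 := ded_9_2 (flp_a L223523) (flp_d L223104) L245944
theorem L245950 : sm gb N31492 = N29004 := ded_7_2 L225257 (flp_b L210547) (flp_a L234101) L234103 L204055 L171308 (flp_a L193171) L223102 L245944
theorem L245952 : sm gf N31479 = N31492 := ded_16_0 L245950 (flp_f L225699) L225703 (flp_f L223469) L245863
theorem L245954 : sm gf N28740 = N31493 := rfl
theorem L245956 : sm ga N31493 = N31479 := ded_11_1 L245952 (flp_a L245944) L245954
theorem L245958 : sm gd N31493 = N28800 := ded_23_1 (flp_f L223525) (flp_d L223104) L245954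
theorem L245960 : sm gb N31493 = N29478 := ded_16_1 (flp_f L228449) (flp_b L227407) L222176 L223102 L245954
theorem L245962 : sm gg N28742 = N31494 := rfl
theorem L245964 : sm ga N31494 = N31343 := ded_12_1 (flp_g L245581) L245573 L245962
theorem L245966 : sm ge N31494 = N28744 := ded_26_1 (flp_g L223120) (flp_e L223114) L245962
theorem L245968 : sm gf N31340 = N31494 := ded_29_0 (flp_g L245962) (flp_f L223112) (flp_g L221756) L244756
theorem L245970 : sm gb N31494 = N30637 := ded_17_1 L238357 L228309 L228356 (flp_b L228362) L245962
theorem L245972 : sm gc N28746 = N31495 := rfl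
theorem L245974 : sm gg N31495 = N30825 := ded_21_2 (flp_c L240049) (flp_g L228333) L245972
theorem L245976 : sm gb N31495 = N28748 := ded_13_1 (flp_c L223145) (flp_b L193193) (flp_c L193189) L223133 L245972
theorem L245978 : sm gd N30633 = N31495 := ded_28_1 (flp_c L245972) (flp_d L228341) L228339 L199500 L211105 L238297 L238299 L238315
theorem L245980 : sm gf N28746 = N31496 := rfl
theorem L245982 : sm gd N31496 = N29180 := ded_23_1 (flp_f L228343) L228341 L245980
theorem L245984 : sm ge N31496 = N31490 := ded_25_1 (flp_f L245936) L245883 L245980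
theorem L245986 : sm gg N30491 = N31496 := ded_29_1 (flp_f L245980) L228333 L228327 (flp_f L237161)
theorem L245988 : sm gb N31496 = N29327 := ded_16_1 L227472 (flp_b L221736) L193191 L223133 L245980
theorem L245990 : sm gc N28747 = N31497 := rfl
theorem L245992 : sm ga N31497 = N28748 := ded_8_1 (flp_c L223145) L223135 L245990
theorem L245994 : sm ge N31497 = N29090 := ded_19_2 L225853 (flp_e L223139) L245990
theorem L245996 : sm gg N31497 = N29811 := ded_21_2 (flp_c L231228) (flp_g L223141) L245990
theorem L245998 : sm gb N31497 = N29091 := ded_13_1 L225857 L221632 L221624 (flp_b L223143) L245990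
theorem L246000 : sm gd N30506 = N31497 := ded_28_1 (flp_c L245990) L223137 L223155 L237305 (flp_c L237295) (flp_d L237281) (flp_a L237279) L237285
theorem L246002 : sm gd N28748 = N31498 := rfl
theorem L246004 : sm ga N31498 = N30506 := ded_9_1 L246000 L245992 L246002
theorem L246006 : sm gb N31498 = N30633 := ded_14_1 L245978 L245976 L246002
theorem L246008 : sm gg N31498 = N29813 := ded_24_2 (flp_d L231242) (flp_g L223147) L246002
theorem L246010 : sm gc N30505 = N31498 := ded_28_0 (flp_d L246002) (flp_c L223145) L193195 L193217 L209445 (flp_c L209435) (flp_d L209425) L237279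
theorem L246012 : sm ge N30828 = N31498 := ded_10_0 L246004 (flp_e L237643) L240065
theorem L246014 : sm gf N28748 = N31499 := rfl
theorem L246016 : sm gc N31499 = N28749 := ded_20_1 (flp_f L223149) L223145 L246014
theorem L246018 : sm gc N28752 = N31500 := rfl
theorem L246020 : sm ga N31500 = N31039 := ded_8_1 (flp_c L243215) L243213 L246018
theorem L246022 : sm ge N31500 = N30842 := ded_19_2 (flp_c L240173) (flp_e L223179) L246018
theorem L246024 : sm gf N31500 = N28761 := ded_20_2 (flp_c L223249) (flp_f L223181) L246018
theorem L246026 : sm gg N31500 = N31038 := ded_21_2 L243195 L243191 L246018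
theorem L246028 : sm gb N31500 = N30536 := ded_13_1 (flp_c L237543) (flp_b L209913) (flp_c L193235) L223175 L246018
theorem L246030 : sm gd N31500 = N29455 := ded_28_7 (flp_a L231814) L231816 (flp_d L242496) L242494 L217591 L193249 (flp_d L223177) L246018
theorem L246032 : sm gb N28753 = N31501 := rfl
theorem L246034 : sm gd N31501 = N30586 := ded_14_2 (flp_b L237969) (flp_d L223187) L246032
theorem L246036 : sm gf N31501 = N28758 := ded_16_2 (flp_b L223231) (flp_f L193267) L193251 L223183 L246032
theorem L246038 : sm ga N31501 = N31432 := ded_30_3 L245633 (flp_c L245629) (flp_b L222417) L192961 L193041 L193045 L193071 L222928 (flp_f L233811) L233813 (flp_b L225385) L197323 (flp_f L166788) L166784 (flp_b L191640) L191638 L209885 (flp_c L223185) L246032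
theorem L246040 : sm gb N28755 = N31502 := rfl
theorem L246042 : sm gd N31502 = N28758 := ded_14_2 (flp_b L223231) (flp_d L223209) L246040
theorem L246044 : sm gf N31502 = N30586 := ded_16_2 (flp_b L237969) (flp_f L210739) L210511 L223203 L246040
theorem L246046 : sm gb N28757 = N31503 := rfl
theorem L246048 : sm ge N31503 = N28758 := ded_15_2 (flp_b L223231) (flp_e L223229) L246046
theorem L246050 : sm gg N28758 = N31504 := rfl
theorem L246052 : sm gc N31504 = N31395 := ded_21_1 L245677 (flp_c L245673) L246050
theorem L246054 : sm gc N28759 = N31505 := rfl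
theorem L246056 : sm ge N31505 = N28761 := ded_19_2 (flp_c L223249) (flp_e L223237) L246054
theorem L246058 : sm gf N31505 = N30842 := ded_20_2 (flp_c L240173) (flp_f L223239) L246054
theorem L246060 : sm gg N31505 = N31171 := ded_21_2 (flp_c L243281) L223241 L246054
theorem L246062 : sm gb N28760 = N31506 := rfl
theorem L246064 : sm gd N31506 = N28762 := ded_14_2 (flp_b L223253) (flp_d L223245) L246062
theorem L246066 : sm ge N31506 = N30626 := ded_15_2 (flp_b L243037) L243033 L246062
theorem L246068 : sm gf N31506 = N30841 := ded_16_2 L240171 (flp_f L233463) (flp_b L243223) (flp_f L243221) L246062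
theorem L246070 : sm gg N31506 = N29958 := ded_17_2 (flp_b L232574) (flp_g L203041) (flp_b L219012) (flp_g L223247) L246062
theorem L246072 : sm ga N31506 = N30625 := ded_7_1 L238251 (flp_a L234495) (flp_b L204281) L171374 L118533 (flp_a L160770) L193295 L223243 L246062
theorem L246074 : sm gc N28760 = N31507 := rfl
theorem L246076 : sm ga N31507 = N28761 := ded_8_1 (flp_c L223249) L223243 L246074
theorem L246078 : sm gf N31507 = N31039 := ded_20_2 (flp_c L243215) (flp_f L243221) L246074
theorem L246080 : sm gg N31507 = N29086 := ded_21_2 (flp_c L225835) (flp_g L223247) L246074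
theorem L246082 : sm gd N29088 = N31507 := ded_28_1 (flp_c L246074) L223245 L193303 (flp_d L217526) (flp_c L242420) L242422 (flp_a L242472) L242474
theorem L246084 : sm gb N29104 = N31507 := ded_7_0 L246076 (flp_b L245675) (flp_a L245627) (flp_b L222417) L192961 L193039 L222503 (flp_b L234717) L234711
theorem L246086 : sm gd N28761 = N31508 := rfl
theorem L246088 : sm ga N31508 = N29088 := ded_9_1 L246082 L246076 L246086
theorem L246090 : sm gf N31508 = N29455 := ded_23_2 (flp_d L246030) L246024 L246086
theorem L246092 : sm gg N31508 = N29085 := ded_24_2 (flp_d L225823) (flp_g L223251) L246086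
theorem L246094 : sm gc N29437 = N31508 := ded_28_0 (flp_d L246086) (flp_c L223249) L193297 L163808 (flp_d L188213) (flp_c L217570) (flp_d L242476) L242472
theorem L246096 : sm ge N29436 = N31508 := ded_10_0 L246088 L231470 L231460
theorem L246098 : sm gb N28763 = N31509 := rfl
theorem L246100 : sm gd N31509 = N28772 := ded_14_2 (flp_b L223321) (flp_d L223267) L246098
theorem L246102 : sm ge N31509 = N28764 := ded_15_2 (flp_b L223273) (flp_e L223269) L246098
theorem L246104 : sm ga N28764 = N31510 := rfl
theorem L246106 : sm gd N31510 = N28769 := ded_9_2 (flp_a L223315) (flp_d L223275) L246104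
theorem L246108 : sm gf N31510 = N31260 := ded_11_2 L244181 L223951 L246104
theorem L246110 : sm gb N29152 = N31510 := ded_14_3 L246106 (flp_b L234853) L234851
theorem L246112 : sm gc N28764 = N31511 := rfl
theorem L246114 : sm gg N28764 = N31512 := rfl
theorem L246116 : sm gd N31512 = N28770 := ded_24_1 (flp_g L223317) (flp_d L223275) L246114
theorem L246118 : sm gb N28765 = N31513 := rfl
theorem L246120 : sm gd N31513 = N28771 := ded_14_2 (flp_b L223319) (flp_d L223283) L246118
theorem L246122 : sm ge N31513 = N31502 := ded_15_2 (flp_b L246040) (flp_e L223285) L246118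
theorem L246124 : sm gb N28766 = N31514 := rfl
theorem L246126 : sm gd N31514 = N28767 := ded_14_2 (flp_b L223299) (flp_d L223293) L246124
theorem L246128 : sm ge N31514 = N28772 := ded_15_2 (flp_b L223321) (flp_e L223295) L246124
theorem L246130 : sm gc N31514 = N29366 := ded_13_2 L227716 L223339 (flp_b L223329) (flp_c L223291) L246124
theorem L246132 : sm ga N28767 = N31515 := rfl
theorem L246134 : sm gc N31515 = N29710 := ded_8_2 (flp_a L232240) L232242 L246132
theorem L246136 : sm ge N31515 = N28769 := ded_10_2 (flp_a L223315) (flp_e L223301) L246132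
theorem L246138 : sm gg N29709 = N31515 := ded_21_0 L246134 (flp_g L230288) L230284
theorem L246140 : sm gg N28767 = N31516 := rfl
theorem L246142 : sm ga N31516 = N29709 := ded_12_1 L246138 (flp_a L246132) L246140
theorem L246144 : sm gc N31516 = N29708 := ded_21_1 (flp_g L232246) L232242 L246140
theorem L246146 : sm ge N31516 = N28770 := ded_26_1 (flp_g L223317) (flp_e L223301) L246140
theorem L246148 : sm gb N28768 = N31517 := rfl
theorem L246150 : sm gd N31517 = N31503 := ded_14_2 (flp_b L246046) (flp_d L223309) L246148
theorem L246152 : sm ge N31517 = N28771 := ded_15_2 (flp_b L223319) (flp_e L223311) L246148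
theorem L246154 : sm gg N28769 = N31518 := rfl
theorem L246156 : sm ga N31518 = N28770 := ded_12_1 (flp_g L223317) L223315 L246154
theorem L246158 : sm gc N31518 = N29707 := ded_21_1 L232208 L232204 L246154
theorem L246160 : sm ge N31518 = N29709 := ded_26_1 L246138 L246136 L246154
theorem L246162 : sm gf N31518 = N28856 := ded_29_2 (flp_g L224027) L224021 L224025 L246154
theorem L246164 : sm gb N29712 = N31518 := ded_13_5 L246158 (flp_b L230278) L200936 L200942 L230302
theorem L246166 : sm gb N28770 = N31519 := rfl
theorem L246168 : sm gc N31519 = N31468 := ded_13_2 (flp_b L245779) (flp_c L230252) (flp_b L232260) L232254 L246166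
theorem L246170 : sm gg N31519 = N28771 := ded_17_2 (flp_b L223319) (flp_g L193349) L193347 L223317 L246166
theorem L246172 : sm gf N31471 = N31519 := ded_20_0 L246168 L245781 L245797
theorem L246174 : sm gf N28770 = N31520 := rfl
theorem L246176 : sm ga N31520 = N28856 := ded_11_1 (flp_f L246162) L246156 L246174
theorem L246178 : sm gc N31520 = N29800 := ded_20_1 L232258 L232254 L246174
theorem L246180 : sm gg N31520 = N28855 := ded_29_3 (flp_a L224021) L193875 L223317 L246174
theorem L246182 : sm gb N31520 = N30110 := ded_16_1 L233821 (flp_b L245799) L246172 (flp_b L246166) L246174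
theorem L246184 : sm ga N28771 = N31521 := rfl
theorem L246186 : sm gc N28771 = N31522 := rfl
theorem L246188 : sm gg N31522 = N31468 := ded_21_2 (flp_c L246168) L246170 L246186
theorem L246190 : sm gb N31522 = N28776 := ded_13_1 (flp_c L223349) (flp_b L193383) (flp_c L193351) L223319 L246186
theorem L246192 : sm gf N28771 = N31523 := rfl
theorem L246194 : sm gb N31523 = N31069 := ded_16_1 (flp_f L242250) L217220 L193353 L223319 L246192
theorem L246196 : sm ga N28772 = N31524 := rfl
theorem L246198 : sm gc N28772 = N31525 := rfl
theorem L246200 : sm ge N31525 = N29366 := ded_19_2 (flp_c L246130) L246128 L246198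
theorem L246202 : sm gb N31525 = N28779 := ded_13_1 (flp_c L223367) (flp_b L193387) (flp_c L193361) L223321 L246198
theorem L246204 : sm ga N30064 = N31525 := ded_7_9 L246202 (flp_a L237033) L237035 L216803 L216819 L221672 (flp_b L203663) (flp_a L203569) L233431
theorem L246206 : sm gc N31524 = N30064 := ded_8_0 L246204 (flp_c L246198) L246196
theorem L246208 : sm gb N30067 = N31524 := ded_13_5 L246206 (flp_b L233431) L203571 L203599 L233453
theorem L246210 : sm gb N31521 = N29595 := ded_7_6 L229284 L229302 (flp_a L233455) L246208 (flp_a L246196) (flp_b L223321) L193359 L223319 L246184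
theorem L246212 : sm gg N28772 = N31526 := rfl
theorem L246214 : sm gb N31526 = N31504 := ded_17_1 (flp_g L246050) (flp_b L223231) (flp_g L193363) L223321 L246212
theorem L246216 : sm ga N28773 = N31527 := rfl
theorem L246218 : sm gd N31527 = N28889 := ded_9_2 (flp_a L224327) (flp_d L223325) L246216
theorem L246220 : sm ge N31527 = N28775 := ded_10_2 (flp_a L223341) (flp_e L223327) L246216
theorem L246222 : sm gg N31527 = N30805 := ded_12_2 L239879 L234545 L246216
theorem L246224 : sm gb N31527 = N30710 := ded_7_2 L239019 (flp_b L212553) (flp_a L182649) L213469 L223337 (flp_b L223329) L193375 L223323 L246216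
theorem L246226 : sm gc N31029 = N31527 := ded_19_3 L246220 L223345 (flp_e L241866)
theorem L246228 : sm gc N28773 = N31528 := rfl
theorem L246230 : sm ga N31528 = N31029 := ded_8_1 L246226 (flp_a L246216) L246228
theorem L246232 : sm ge N31528 = N28776 := ded_19_2 (flp_c L223349) (flp_e L223327) L246228
theorem L246234 : sm gf N28776 = N31529 := rfl
theorem L246236 : sm ga N31529 = N31030 := ded_11_1 (flp_f L241868) (flp_a L223351) L246234
theorem L246238 : sm gc N31529 = N28777 := ded_20_1 (flp_f L223353) L223349 L246234
theorem L246240 : sm gd N31529 = N30612 := ded_23_1 L238141 L237207 L246234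
theorem L246242 : sm gb N31423 = N31529 := ded_13_5 L246238 L223357 L222044 L222052 L245437
theorem L246244 : sm gg N28777 = N31530 := rfl
theorem L246246 : sm ga N31530 = N30203 := ded_12_1 (flp_g L244569) L244571 L246244
theorem L246248 : sm gd N31530 = N28780 := ded_24_1 (flp_g L223373) (flp_d L223355) L246244
theorem L246250 : sm ge N31530 = N28884 := ded_26_1 (flp_g L239339) L239335 L246244
theorem L246252 : sm gf N30201 = N31530 := ded_29_0 (flp_g L246244) (flp_f L223353) (flp_g L204315) L234559
theorem L246254 : sm gb N31530 = N30015 := ded_17_1 L233059 L223553 (flp_g L222050) (flp_b L223357) L246244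
theorem L246256 : sm gb N28785 = N31531 := rfl
theorem L246258 : sm gd N31531 = N30875 := ded_14_2 L240487 L233973 L246256
theorem L246260 : sm ge N31531 = N28795 := ded_15_2 (flp_b L223499) (flp_e L223433) L246256
theorem L246262 : sm gc N31531 = N28787 := ded_13_2 (flp_b L223441) (flp_c L193431) L193425 L223429 L246256
theorem L246264 : sm ga N31531 = N30883 := ded_7_1 (flp_b L241010) L241008 L232590 (flp_a L214194) L214196 L183093 (flp_b L213663) (flp_a L223431) L246256
theorem L246266 : sm gf N28785 = N31532 := rfl
theorem L246268 : sm ga N31532 = N30868 := ded_11_1 (flp_f L240411) (flp_a L223431) L246266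
theorem L246270 : sm gc N31532 = N28786 := ded_20_1 (flp_f L223435) L223429 L246266
theorem L246272 : sm ge N31532 = N28796 := ded_25_1 (flp_f L223503) (flp_e L223433) L246266
theorem L246274 : sm gb N28789 = N31533 := rfl
theorem L246276 : sm gd N31533 = N31482 := ded_14_2 (flp_b L245881) (flp_d L223453) L246274
theorem L246278 : sm gg N31533 = N31487 := ded_17_2 L245919 (flp_g L225605) L225641 L223455 L246274
theorem L246280 : sm ga N31533 = N31489 := ded_7_1 L245932 L227536 (flp_b L221604) (flp_a L245111) L245119 L237081 L237053 L224367 L246274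
theorem L246282 : sm ge N28789 = N31534 := rfl
theorem L246284 : sm ga N31534 = N30603 := ded_10_1 L238073 L224367 L246282
theorem L246286 : sm gc N31534 = N28790 := ded_19_1 (flp_e L223457) L223451 L246282
theorem L246288 : sm gg N31534 = N31481 := ded_26_2 L245877 L223455 L246282
theorem L246290 : sm gd N31534 = N31494 := ded_22_1 L245966 L223124 (flp_e L223048) (flp_d L223453) L246282
theorem L246292 : sm gg N28790 = N31535 := rfl
theorem L246294 : sm ga N31535 = N29439 := ded_12_1 (flp_g L238546) (flp_a L238548) L246292
theorem L246296 : sm gc N31535 = N31481 := ded_21_1 (flp_g L246288) L246286 L246292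
theorem L246298 : sm gd N31535 = N28802 := ded_24_1 (flp_g L223529) (flp_d L223459) L246292
theorem L246300 : sm ge N31535 = N28791 := ded_26_1 (flp_g L223461) L223457 L246292
theorem L246302 : sm gf N31480 = N31535 := ded_29_0 (flp_g L246292) (flp_f L245535) L245537 (flp_a L245867)
theorem L246304 : sm gb N31535 = N31207 := ded_17_1 L243645 L243649 (flp_g L243655) L234259 L246292
theorem L246306 : sm gb N28793 = N31536 := rfl
theorem L246308 : sm gd N31536 = N31479 := ded_14_2 (flp_b L245863) (flp_d L223483) L246306
theorem L246310 : sm ge N31536 = N28804 := ded_15_2 (flp_b L223543) (flp_e L223485) L246306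
theorem L246312 : sm gf N31536 = N28799 := ded_16_2 (flp_b L227463) L227465 (flp_b L223471) L223477 L246306
theorem L246314 : sm ga N31536 = N28800 := ded_7_1 (flp_b L245569) L245563 (flp_b L242378) L242370 (flp_b L243135) L243129 (flp_b L224305) (flp_a L223479) L246306
theorem L246316 : sm gc N28794 = N31537 := rfl
theorem L246318 : sm ga N31537 = N29141 := ded_8_1 L226125 L223497 L246316
theorem L246320 : sm ge N31537 = N28806 := ded_19_2 (flp_c L223555) (flp_e L223493) L246316
theorem L246322 : sm gf N31537 = N30009 := ded_20_2 (flp_c L233007) (flp_f L223495) L246316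
theorem L246324 : sm ga N28795 = N31538 := rfl
theorem L246326 : sm gc N31538 = N28799 := ded_8_2 (flp_a L223523) (flp_c L223501) L246324
theorem L246328 : sm gd N31538 = N30880 := ded_9_2 L240521 L226513 L246324
theorem L246330 : sm ge N31538 = N30883 := ded_10_2 (flp_a L246264) L246260 L246324
theorem L246332 : sm gb N31538 = N29959 := ded_7_2 (flp_a L232582) (flp_b L202995) (flp_a L183071) L183073 L145890 L182793 (flp_a L193457) L223499 L246324
theorem L246334 : sm gf N28795 = N31539 := rfl
theorem L246336 : sm gc N31539 = N28800 := ded_20_1 (flp_f L223525) (flp_c L223501) L246334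
theorem L246338 : sm gb N28796 = N31540 := rfl
theorem L246340 : sm gd N31540 = N30373 := ded_14_2 L236143 L226523 L246338
theorem L246342 : sm gg N28799 = N31541 := rfl
theorem L246344 : sm ga N31541 = N28801 := ded_12_1 (flp_g L223527) L223523 L246342
theorem L246346 : sm gb N31541 = N31541 := ded_17_1 (flp_g L246342) (flp_b L227463) L227467 L227463 L246342
theorem L246347 : sm gg N28800 = N31542 := rfl
theorem L246349 : sm gf N31541 = N31542 := ded_29_0 (flp_g L246347) (flp_f L223525) L223527 (flp_a L246344)
theorem L246351 : sm gf N28801 = N31543 := rfl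
theorem L246353 : sm ga N31543 = N31542 := ded_11_1 (flp_f L246349) L246344 L246351
theorem L246355 : sm gg N31543 = N31536 := ded_29_3 L246314 (flp_f L223525) L223527 L246351
theorem L246357 : sm gf N28802 = N31544 := rfl
theorem L246359 : sm ga N31544 = N31369 := ded_11_1 (flp_f L245283) L245277 L246357
theorem L246361 : sm gc N31544 = N31494 := ded_20_1 (flp_f L245968) L244754 L246357
theorem L246363 : sm gd N31544 = N31480 := ded_23_1 L246302 L246298 L246357
theorem L246365 : sm ge N31544 = N28803 := ded_25_1 (flp_f L223533) (flp_e L223531) L246357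
theorem L246367 : sm gg N31544 = N31366 := ded_29_3 (flp_a L244941) L222192 L223529 L246357
theorem L246369 : sm gb N31544 = N30657 := ded_16_1 (flp_f L238513) L227369 L227451 (flp_b L227457) L246357
theorem L246371 : sm gc N28804 = N31545 := rfl
theorem L246373 : sm gf N31545 = N30883 := ded_20_2 (flp_c L240535) (flp_f L227393) L246371
theorem L246375 : sm gb N31545 = N28806 := ded_13_1 (flp_c L223555) (flp_b L193497) (flp_c L193493) L223543 L246371
theorem L246377 : sm gd N30622 = N31545 := ded_28_1 (flp_c L246371) (flp_d L227401) L227399 L198948 L210997 L238201 L238203 L238219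
theorem L246379 : sm gg N28804 = N31546 := rfl
theorem L246381 : sm gd N31546 = N29236 := ded_24_1 L227403 L227401 L246379
theorem L246383 : sm ge N31546 = N31543 := ded_26_1 L246355 L246310 L246379
theorem L246385 : sm gf N31546 = N30495 := ded_29_2 L237195 (flp_a L227387) (flp_f L227393) L246379
theorem L246387 : sm gb N31546 = N29469 := ded_17_1 L228379 (flp_b L222170) (flp_g L193495) L223543 L246379
theorem L246389 : sm gc N28805 = N31547 := rfl
theorem L246391 : sm ga N31547 = N28806 := ded_8_1 (flp_c L223555) L223545 L246389
theorem L246393 : sm ge N31547 = N29141 := ded_19_2 L226125 (flp_e L223549) L246389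
theorem L246395 : sm gf N31547 = N30011 := ded_20_2 (flp_c L233025) (flp_f L223551) L246389
theorem L246397 : sm gb N31547 = N29142 := ded_13_1 L226129 L222068 L222060 (flp_b L223553) L246389
theorem L246399 : sm gd N30511 = N31547 := ded_28_1 (flp_c L246389) L223547 L223565 L237346 (flp_c L237336) (flp_d L237322) (flp_a L237320) L237326
theorem L246401 : sm gd N28806 = N31548 := rfl
theorem L246403 : sm ga N31548 = N30511 := ded_9_1 L246399 L246391 L246401
theorem L246405 : sm gb N31548 = N30622 := ded_14_1 L246377 L246375 L246401
theorem L246407 : sm gf N31548 = N30013 := ded_23_2 (flp_d L233039) (flp_f L223557) L246401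
theorem L246409 : sm gc N30510 = N31548 := ded_28_0 (flp_d L246401) (flp_c L223555) L193499 L193521 L209517 (flp_c L209507) (flp_d L209497) L237320
theorem L246411 : sm ge N30884 = N31548 := ded_10_0 L246403 (flp_e L237497) (flp_a L240541)
theorem L246413 : sm gg N28806 = N31549 := rfl
theorem L246415 : sm gc N31549 = N28807 := ded_21_1 (flp_g L223559) L223555 L246413
theorem L246417 : sm gb N28810 = N31550 := rfl
theorem L246419 : sm gd N31550 = N29083 := ded_14_2 (flp_b L225807) (flp_d L223591) L246417
theorem L246421 : sm ge N31550 = N31274 := ded_15_2 (flp_b L244281) (flp_e L223593) L246417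
theorem L246423 : sm gg N31550 = N28812 := ded_17_2 (flp_b L223607) (flp_g L193575) L193547 L223585 L246417
theorem L246425 : sm ga N31550 = N31396 := ded_7_1 (flp_b L245199) L221690 (flp_b L222904) (flp_a L225831) L225833 L197751 (flp_b L197727) (flp_a L223587) L246417
theorem L246427 : sm gb N28811 = N31551 := rfl
theorem L246429 : sm gd N31551 = N31268 := ded_14_2 (flp_b L244241) (flp_d L223603) L246427
theorem L246431 : sm ge N31551 = N28812 := ded_15_2 (flp_b L223607) (flp_e L223605) L246427
theorem L246433 : sm gc N31551 = N31255 := ded_13_2 (flp_b L244125) (flp_c L221056) L221062 (flp_c L223601) L246427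
theorem L246435 : sm gg N31551 = N31274 := ded_17_2 (flp_b L244281) (flp_g L220412) (flp_b L193563) L223597 L246427
theorem L246437 : sm gc N28812 = N31552 := rfl
theorem L246439 : sm ge N31552 = N31255 := ded_19_2 (flp_c L246433) L246431 L246437
theorem L246441 : sm gb N31552 = N28815 := ded_13_1 (flp_c L223627) (flp_b L193599) (flp_c L193579) L223607 L246437
theorem L246443 : sm gf N28812 = N31553 := rfl
theorem L246445 : sm ga N31553 = N28994 := ded_11_1 (flp_f L243885) L243887 L246443
theorem L246447 : sm gd N31553 = N31301 := ded_23_1 L244483 L229774 L246443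
theorem L246449 : sm gb N31553 = N31365 := ded_16_1 L244933 (flp_b L223739) (flp_f L193667) L223607 L246443
theorem L246451 : sm gf N28814 = N31554 := rfl
theorem L246453 : sm ga N31554 = N28816 := ded_11_1 (flp_f L223635) L223617 L246451
theorem L246455 : sm gc N31554 = N31259 := ded_20_1 (flp_f L244165) L223625 L246451
theorem L246457 : sm gd N31554 = N28817 := ded_23_1 (flp_f L223641) (flp_d L223619) L246451
theorem L246459 : sm ge N31554 = N31258 := ded_25_1 (flp_f L244155) (flp_e L223621) L246451
theorem L246461 : sm gg N31554 = N30565 := ded_29_3 L237819 L221804 (flp_g L223623) L246451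
theorem L246463 : sm gb N31554 = N30097 := ded_16_1 (flp_f L233697) L211965 L229186 L229196 L246451
theorem L246465 : sm gb N28818 = N31555 := rfl
theorem L246467 : sm gd N31555 = N31267 := ded_14_2 (flp_b L244237) (flp_d L223659) L246465
theorem L246469 : sm ge N31555 = N28820 := ded_15_2 (flp_b L223675) (flp_e L223661) L246465
theorem L246471 : sm gg N31555 = N31455 := ded_17_2 (flp_b L245693) (flp_g L222451) (flp_b L193621) L223653 L246465
theorem L246473 : sm ga N31555 = N29124 := ded_7_1 (flp_b L226025) (flp_a L197835) (flp_b L167188) (flp_a L167174) L197807 L225959 L229784 (flp_a L223655) L246465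
theorem L246475 : sm gc N28820 = N31556 := rfl
theorem L246477 : sm gg N31556 = N31457 := ded_21_2 (flp_c L245707) (flp_g L223679) L246475
theorem L246479 : sm gb N31556 = N29018 := ded_13_1 L225339 L211338 L200463 L223675 L246475
theorem L246481 : sm gd N31556 = N31469 := ded_28_7 L245785 L223749 (flp_d L230210) (flp_c L230204) (flp_d L200906) (flp_c L193671) (flp_d L223677) L246475
theorem L246483 : sm gf N31236 = N31556 := ded_30_0 (flp_c L246475) (flp_b L223675) (flp_a L200481) L223673 L223667 L200525 L170104 (flp_f L168385) L116710 L95949 (flp_a L149701) L168322 (flp_c L170106) (flp_b L200525) L200517 (flp_f L200503) L200463 L223675 (flp_a L243937)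
theorem L246485 : N31457 = N31458 := coi_24_1 L245711 L245783 (flp_d L246481) L246477
theorem L246486 : N31458 = N31457 := (eqc rfl L246485 rfl).symm
theorem L246487 : sm gd N31457 = N28707 := trfs L246486 L245711 rfl
theorem L246489 : sm gf N31457 = N28700 := trfs L246486 (flp_f L245709) rfl
theorem L246491 : sm gf N28820 = N31557 := rfl
theorem L246493 : sm ga N31557 = N31556 := ded_11_1 (flp_f L246483) L243937 L246491
theorem L246495 : sm gc N31557 = N31236 := ded_20_1 L246483 (flp_c L246475) L246491
theorem L246497 : sm gd N31557 = N28829 := ded_23_1 (flp_f L223747) (flp_d L223677) L246491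
theorem L246499 : sm gb N28821 = N31558 := rfl
theorem L246501 : sm gd N31558 = N28830 := ded_14_2 (flp_b L223751) (flp_d L223687) L246499
theorem L246503 : sm ge N31558 = N30589 := ded_15_2 (flp_b L237991) (flp_e L223689) L246499
theorem L246505 : sm gg N31558 = N31218 := ded_17_2 (flp_b L243741) (flp_g L219846) (flp_b L200477) (flp_g L223691) L246499
theorem L246507 : sm gb N28823 = N31559 := rfl
theorem L246509 : sm gd N31559 = N28825 := ded_14_2 (flp_b L223721) (flp_d L223709) L246507
theorem L246511 : sm ge N31559 = N31267 := ded_15_2 (flp_b L244237) (flp_e L223711) L246507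
theorem L246513 : sm gg N31559 = N31460 := ded_17_2 (flp_b L245719) (flp_g L222475) (flp_b L193639) L223705 L246507
theorem L246515 : sm ga N28825 = N31560 := rfl
theorem L246517 : sm gc N31560 = N29692 := ded_8_2 L230192 (flp_c L223725) L246515
theorem L246519 : sm ge N31560 = N28828 := ded_10_2 (flp_a L223741) (flp_e L223723) L246515
theorem L246521 : sm gg N31560 = N31461 := ded_12_2 (flp_a L245727) (flp_g L223727) L246515
theorem L246523 : sm gf N28825 = N31561 := rfl
theorem L246525 : sm gc N31561 = N29699 := ded_20_1 (flp_f L230226) (flp_c L223725) L246523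
theorem L246527 : sm ge N31561 = N28829 := ded_25_1 (flp_f L223747) (flp_e L223723) L246523
theorem L246529 : sm gg N31561 = N29927 := ded_29_3 (flp_a L245737) (flp_f L245735) (flp_g L223727) L246523
theorem L246531 : sm gb N28826 = N31562 := rfl
theorem L246533 : sm ge N31562 = N28830 := ded_15_2 (flp_b L223751) (flp_e L223735) L246531
theorem L246535 : sm gc N31562 = N31414 := ded_13_2 (flp_b L245341) L223763 (flp_b L223753) (flp_c L223733) L246531
theorem L246537 : sm ga N28827 = N31563 := rfl
theorem L246539 : sm gc N31563 = N31435 := ded_8_2 L245531 L228469 L246537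
theorem L246541 : sm ge N31563 = N31438 := ded_10_2 (flp_a L245549) (flp_e L228463) L246537
theorem L246543 : sm gb N31434 = N31563 := ded_13_5 L246539 (flp_b L245527) (flp_c L222132) L222124 L245521
theorem L246545 : sm gb N28829 = N31564 := rfl
theorem L246547 : sm gf N31564 = N28830 := ded_16_2 (flp_b L223751) (flp_f L193675) L193669 L223747 L246545
theorem L246549 : sm gg N31564 = N31375 := ded_17_2 (flp_b L245017) (flp_g L232322) L245777 (flp_g L245775) L246545
theorem L246551 : sm ga N28830 = N31565 := rfl
theorem L246553 : sm gc N28830 = N31566 := rfl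
theorem L246555 : sm ge N31566 = N31414 := ded_19_2 (flp_c L246535) L246533 L246553
theorem L246557 : sm gb N31566 = N28835 := ded_13_1 (flp_c L223843) (flp_b L193707) (flp_c L193679) L223751 L246553
theorem L246559 : sm gg N28830 = N31567 := rfl
theorem L246561 : sm gd N31567 = N31218 := ded_24_1 (flp_g L246505) L246501 L246559
theorem L246563 : sm gb N31567 = N31216 := ded_17_1 (flp_g L243725) L219838 (flp_g L193681) L223751 L246559
theorem L246565 : sm gd N28835 = N31568 := rfl
theorem L246567 : sm ga N31568 = N31412 := ded_9_1 L245327 (flp_a L223845) L246565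
theorem L246569 : sm gf N31568 = N29717 := ded_23_2 (flp_d L230342) (flp_f L223849) L246565
theorem L246571 : sm gg N28835 = N31569 := rfl
theorem L246573 : sm ga N31569 = N31413 := ded_12_1 (flp_g L245331) (flp_a L223845) L246571
theorem L246575 : sm gc N31569 = N28836 := ded_21_1 (flp_g L223851) L223843 L246571
theorem L246577 : sm ge N31569 = N31415 := ded_26_1 (flp_g L245345) (flp_e L223847) L246571
theorem L246579 : sm gb N28838 = N31570 := rfl
theorem L246581 : sm gd N31570 = N29134 := ded_14_2 (flp_b L226079) (flp_d L223873) L246579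
theorem L246583 : sm ge N31570 = N31303 := ded_15_2 (flp_b L244495) (flp_e L223875) L246579
theorem L246585 : sm gf N31570 = N28840 := ded_16_2 (flp_b L223889) (flp_f L193781) L193759 L223867 L246579
theorem L246587 : sm ga N31570 = N31433 := ded_7_1 (flp_b L245515) L222120 L222906 (flp_a L226103) L226105 L197931 (flp_b L197907) (flp_a L223869) L246579
theorem L246589 : sm gb N28839 = N31571 := rfl
theorem L246591 : sm gd N31571 = N31297 := ded_14_2 (flp_b L244455) (flp_d L223885) L246589
theorem L246593 : sm ge N31571 = N28840 := ded_15_2 (flp_b L223889) (flp_e L223887) L246589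
theorem L246595 : sm gc N31571 = N31231 := ded_13_2 (flp_b L243881) (flp_c L220642) L220648 (flp_c L223883) L246589
theorem L246597 : sm gf N31571 = N31303 := ded_16_2 (flp_b L244495) (flp_f L220842) (flp_b L193775) L223879 L246589
theorem L246599 : sm ga N31552 = N31571 := ded_10_3 L246593 (flp_a L244131) (flp_e L246439)
theorem L246601 : sm gc N28840 = N31572 := rfl
theorem L246603 : sm ga N31572 = N31551 := ded_8_1 L246433 L244131 L246601
theorem L246605 : sm ge N31572 = N31231 := ded_19_2 (flp_c L246595) L246593 L246601
theorem L246607 : sm gb N31572 = N28842 := ded_13_1 (flp_c L223901) (flp_b L193801) (flp_c L193785) L223889 L246601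
theorem L246609 : sm gg N28840 = N31573 := rfl
theorem L246611 : sm ga N31573 = N28988 := ded_12_1 (flp_g L244129) L244131 L246609
theorem L246613 : sm gd N31573 = N31272 := ded_24_1 L244269 L231878 L246609
theorem L246615 : sm gb N31573 = N31339 := ded_17_1 L244748 (flp_b L224033) L193897 L223889 L246609
theorem L246617 : sm gg N28841 = N31574 := rfl
theorem L246619 : sm ga N31574 = N28843 := ded_12_1 (flp_g L223909) L223891 L246617
theorem L246621 : sm gc N31574 = N31235 := ded_21_1 (flp_g L243921) L223899 L246617
theorem L246623 : sm gd N31574 = N28845 := ded_24_1 (flp_g L223923) (flp_d L223893) L246617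
theorem L246625 : sm ge N31574 = N31234 := ded_26_1 (flp_g L243911) (flp_e L223895) L246617
theorem L246627 : sm gf N30566 = N31574 := ded_29_0 (flp_g L246617) L223897 (flp_g L222285) (flp_a L237829)
theorem L246629 : sm gb N31574 = N30193 := ded_17_1 L234481 L212609 L231320 (flp_b L231330) L246617
theorem L246631 : sm gb N28846 = N31575 := rfl
theorem L246633 : sm gd N31575 = N31296 := ded_14_2 (flp_b L244451) (flp_d L223941) L246631
theorem L246635 : sm ge N31575 = N28847 := ded_15_2 (flp_b L223947) (flp_e L223943) L246631
theorem L246637 : sm gf N31575 = N31509 := ded_16_2 (flp_b L246098) (flp_f L223265) (flp_b L193833) L223935 L246631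
theorem L246639 : sm ga N31575 = N29175 := ded_7_1 (flp_b L226311) (flp_a L198015) (flp_b L167326) (flp_a L167312) L197987 L226231 (flp_b L226245) (flp_a L223937) L246631
theorem L246641 : sm gc N28847 = N31576 := rfl
theorem L246643 : sm gf N31576 = N31511 := ded_20_2 (flp_c L246112) (flp_f L223951) L246641
theorem L246645 : sm gb N31576 = N29029 := ded_13_1 L225393 L211547 L202130 L223947 L246641
theorem L246647 : sm gd N31576 = N31520 := ded_28_7 L246176 L224029 L232216 (flp_c L232212) (flp_d L202553) (flp_c L193873) (flp_d L223949) L246641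
theorem L246649 : N31511 = N31512 := coi_23_1 L246116 L246174 (flp_d L246647) L246643
theorem L246650 : N31512 = N31511 := (eqc rfl L246649 rfl).symm
theorem L246651 : sm gd N31511 = N28770 := trfs L246650 L246116 rfl
theorem L246653 : sm gg N31511 = N28764 := trfs L246650 (flp_g L246114) rfl
theorem L246655 : sm gg N31260 = N31576 := ded_29_1 L246643 L246653 L246104 L246108
theorem L246657 : sm gg N28847 = N31577 := rfl
theorem L246659 : sm ga N31577 = N31576 := ded_12_1 (flp_g L246655) L244181 L246657
theorem L246661 : sm gc N31577 = N31260 := ded_21_1 L246655 (flp_c L246641) L246657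
theorem L246663 : sm gd N31577 = N28856 := ded_24_1 (flp_g L224027) (flp_d L223949) L246657
theorem L246665 : sm gb N28848 = N31578 := rfl
theorem L246667 : sm gd N31578 = N28857 := ded_14_2 (flp_b L224031) (flp_d L223957) L246665
theorem L246669 : sm ge N31578 = N30601 := ded_15_2 (flp_b L238065) (flp_e L223959) L246665
theorem L246671 : sm gf N31578 = N31244 := ded_16_2 (flp_b L243999) (flp_f L220074) (flp_b L202164) L223961 L246665
theorem L246673 : sm gb N28851 = N31579 := rfl
theorem L246675 : sm gd N31579 = N28852 := ded_14_2 (flp_b L223995) (flp_d L223991) L246673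
theorem L246677 : sm ge N31579 = N31296 := ded_15_2 (flp_b L244451) (flp_e L223993) L246673
theorem L246679 : sm gf N31579 = N31514 := ded_16_2 (flp_b L246124) (flp_f L223289) (flp_b L193855) L223987 L246673
theorem L246681 : sm ga N28852 = N31580 := rfl
theorem L246683 : sm gc N31580 = N29915 := ded_8_2 L232196 (flp_c L223999) L246681
theorem L246685 : sm ge N31580 = N28855 := ded_10_2 (flp_a L224021) (flp_e L223997) L246681
theorem L246687 : sm gf N31580 = N31515 := ded_11_2 (flp_a L246132) (flp_f L224001) L246681
theorem L246689 : sm gg N28852 = N31581 := rfl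
theorem L246691 : sm gc N31581 = N29701 := ded_21_1 L230952 (flp_c L223999) L246689
theorem L246693 : sm ge N31581 = N28856 := ded_26_1 (flp_g L224027) (flp_e L223997) L246689
theorem L246695 : sm gf N29709 = N31581 := ded_29_0 (flp_g L246689) L224001 L246140 L246142
theorem L246697 : sm gb N28853 = N31582 := rfl
theorem L246699 : sm ge N31582 = N28857 := ded_15_2 (flp_b L224031) (flp_e L224007) L246697
theorem L246701 : sm gc N31582 = N31375 := ded_13_2 (flp_b L245017) L224045 (flp_b L224035) (flp_c L224005) L246697
theorem L246703 : sm gb N28856 = N31583 := rfl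
theorem L246705 : sm gf N31583 = N31414 := ded_16_2 (flp_b L245341) (flp_f L230308) L246164 L246162 L246703
theorem L246707 : sm gg N31583 = N28857 := ded_17_2 (flp_b L224031) (flp_g L193877) L193871 L224027 L246703
theorem L246709 : sm ga N28857 = N31584 := rfl
theorem L246711 : sm gc N28857 = N31585 := rfl
theorem L246713 : sm ge N31585 = N31375 := ded_19_2 (flp_c L246701) L246699 L246711
theorem L246715 : sm gb N31585 = N28861 := ded_13_1 (flp_c L224059) (flp_b L193917) (flp_c L193879) L224031 L246711
theorem L246717 : sm gf N28857 = N31586 := rfl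
theorem L246719 : sm gd N31586 = N31244 := ded_23_1 (flp_f L246671) L246667 L246717
theorem L246721 : sm gb N31586 = N31241 := ded_16_1 (flp_f L243975) L220060 L193881 L224031 L246717
theorem L246723 : sm ga N28858 = N31587 := rfl
theorem L246725 : sm gc N31587 = N31398 := ded_8_2 L245215 L227554 L246723
theorem L246727 : sm ge N31587 = N31403 := ded_10_2 (flp_a L245253) (flp_e L227548) L246723
theorem L246729 : sm gb N31397 = N31587 := ded_13_5 L246725 (flp_b L245211) (flp_c L221702) L221694 L245205
theorem L246731 : sm gd N28861 = N31588 := rfl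
theorem L246733 : sm ga N31588 = N31373 := ded_9_1 L245003 (flp_a L224061) L246731
theorem L246735 : sm gg N31588 = N29935 := ded_24_2 (flp_d L232356) (flp_g L224065) L246731
theorem L246737 : sm gf N28861 = N31589 := rfl
theorem L246739 : sm ga N31589 = N31374 := ded_11_1 (flp_f L245007) (flp_a L224061) L246737
theorem L246741 : sm gc N31589 = N28862 := ded_20_1 (flp_f L224067) L224059 L246737
theorem L246743 : sm ge N31589 = N31376 := ded_25_1 (flp_f L245021) (flp_e L224063) L246737
theorem L246745 : sm gb N28872 = N31590 := rfl
theorem L246747 : sm gd N31590 = N29945 := ded_14_2 (flp_b L232446) (flp_d L224163) L246745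
theorem L246749 : sm ge N31590 = N28874 := ded_15_2 (flp_b L224177) (flp_e L224159) L246745
theorem L246751 : sm gc N31590 = N31145 := ded_13_2 L242985 L237135 (flp_b L210989) L224155 L246745
theorem L246753 : sm gf N31590 = N31148 := ded_16_2 L243009 L231956 L224678 L224165 L246745
theorem L246755 : sm gg N31590 = N29944 := ded_17_2 (flp_b L232438) (flp_g L202768) L202758 (flp_g L224161) L246745
theorem L246757 : sm ga N31590 = N31149 := ded_7_1 L243019 (flp_a L237099) (flp_b L209127) L177860 (flp_b L177596) (flp_a L205600) L205605 (flp_a L224157) L246745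
theorem L246759 : sm gb N28876 = N31591 := rfl
theorem L246761 : sm gd N31591 = N29727 := ded_14_2 (flp_b L230432) (flp_d L224209) L246759
theorem L246763 : sm ge N31591 = N28878 := ded_15_2 (flp_b L224223) (flp_e L224205) L246759
theorem L246765 : sm gc N31591 = N31149 := ded_13_2 L243019 L237101 (flp_b L211097) L224201 L246759
theorem L246767 : sm gf N31591 = N29726 := ded_16_2 (flp_b L230424) (flp_f L201121) L201111 (flp_f L224207) L246759
theorem L246769 : sm gg N31591 = N31144 := ded_17_2 L242975 (flp_g L229858) L224754 L224211 L246759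
theorem L246771 : sm ga N31591 = N31145 := ded_7_1 L242985 (flp_a L237133) (flp_b L209185) L177925 (flp_b L177611) (flp_a L206875) L206880 (flp_a L224203) L246759
theorem L246773 : sm gc N28884 = N31592 := rfl
theorem L246775 : sm gd N30029 = N31592 := ded_28_1 (flp_c L246773) (flp_d L224291) (flp_c L194979) (flp_d L193111) L223002 (flp_d L233225) L233223 (flp_c L233171)
theorem L246777 : sm gb N31592 = N30032 := ded_32_15 (flp_d L233189) L203437 L170873 (flp_c L175448) (flp_b L198282) (flp_d L226587) (flp_c L226591) L226551 (flp_c L221046) L221050 L215849 L186787 (flp_c L186633) L155386 L155427 L161637 L163562 (flp_c L125530) L99903 L100029 L125826 L177198 (flp_c L205205) L184232 L205191 L205199 (flp_d L206016) L206014 (flp_d L184610) L184614 L177475 (flp_d L126640) (flp_c L100453) (flp_d L100327) L126342 L177328 L177332 L177473 (flp_c L184614) L184610 (flp_c L206014) L206020 L205201 (flp_c L205191) (flp_d L184232) L205205 L177200 (flp_d L125828) (flp_c L100029) (flp_d L99903) L125530 L176991 L176993 (flp_c L155427) (flp_d L155386) L186633 (flp_b L208055) L208049 L194343 (flp_d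 L204839) L204841 L185145 L185157 (flp_d L190127) (flp_c L218810) L243099 L243111 (flp_b L224305) L224309 (flp_c L224317) (flp_d L223018) (flp_c L193115) L193109 L193111 L194979 L224291 L246773
theorem L246779 : sm gc N28892 = N31593 := rfl
theorem L246781 : sm gd N30123 = N31593 := ded_28_1 (flp_c L246779) (flp_d L224359) (flp_c L195265) (flp_d L193427) L223429 (flp_d L233973) L233971 (flp_c L233919)
theorem L246783 : sm gb N31593 = N30126 := ded_32_15 (flp_d L233937) L203937 L171216 (flp_c L175879) (flp_b L198653) (flp_d L227016) (flp_c L227020) L226962 (flp_c L220632) L220636 L215885 L186817 (flp_c L186718) L155404 L155472 L161386 L163421 (flp_c L126342) L100327 L100453 L126638 L177473 (flp_c L184614) L184610 (flp_c L206014) L206020 L205201 (flp_c L205191) (flp_d L184232) L205205 L177200 (flp_d L125828) (flp_c L100029) (flp_d L99903) L125530 L176991 L176995 L177198 (flp_c L205205) L184232 L205191 L205199 (flp_d L206016) L206014 (flp_d L184610) L184614 L177475 (flp_d L126640) (flp_c L100453) (flp_d L100327) L126342 L177328 L177330 (flp_c L155472) (flp_d L155404) L186718 (flp_b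 L208252) L208246 L194171 (flp_d L205087) L205089 L185347 L185359 (flp_d L190200) (flp_c L219022) L243225 L243237 (flp_b L224361) L224365 (flp_c L224373) (flp_d L223445) (flp_c L193431) L193425 L193427 L195265 L224359 L246779
theorem L246785 : sm gd N28896 = N31594 := rfl
theorem L246787 : sm ga N31594 = N30545 := ded_9_1 L237613 (flp_a L224385) L246785
theorem L246789 : sm gb N31594 = N30771 := ded_14_1 (flp_d L239573) (flp_b L224393) L246785
theorem L246791 : sm gf N31594 = N30138 := ded_23_2 L234015 (flp_f L224389) L246785
theorem L246793 : sm gg N31594 = N28901 := ded_24_2 (flp_d L224433) (flp_g L224391) L246785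

end Cfsg.Agent.Helper28.SzbA
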