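import Cfsg.Agent.Helper28.SzbB21

/-! # The Suzuki group presentation, cosets of the subgroup generated by a, b, c, d, f, g: the coset enumeration, part 22 (helper28; generated) -/

set_option autoImplicit false

noncomputable section

namespace Cfsg.Agent.Helper28.SzbA

open Cfsg.Agent.Helper28.CosetTable

theorem L246795 : sm gc N30149 = N31594 := ded_20_3 L246791 L234017 L234113
theorem L246797 : sm ge N28898 = N31595 := rfl
theorem L246799 : sm gb N31595 = N28899 := ded_15_1 (flp_e L224419) (flp_b L224411) L246797
theorem L246801 : sm gc N31595 = N30255 := ded_19_1 L235027 (flp_c L224417) L246797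
theorem L246803 : sm gf N31595 = N30259 := ded_25_2 L235061 (flp_f L224413) L246797
theorem L246805 : sm gg N31595 = N30254 := ded_26_2 L235019 (flp_g L224415) L246797
theorem L246807 : sm gd N31595 = N31023 := ded_22_1 L241796 (flp_d L224397) L224399 L224409 L246797
theorem L246809 : sm gd N28900 = N31596 := rfl
theorem L246811 : sm gb N31596 = N30629 := ded_14_1 (flp_d L238281) (flp_b L224427) L246809
theorem L246813 : sm gg N31596 = N28906 := ded_24_2 (flp_d L224473) (flp_g L224431) L246809
theorem L246815 : sm ge N31596 = N30618 := ded_22_2 (flp_d L238187) L210995 (flp_d L195424) L224425 L246809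
theorem L246817 : sm gc N28901 = N31597 := rfl
theorem L246819 : sm gg N31597 = N30149 := ded_21_2 L246795 L246793 L246817
theorem L246821 : sm gd N31597 = N30537 := ded_28_7 L237547 (flp_c L224437) (flp_d L195466) (flp_c L163101) (flp_d L163097) L195460 L224433 L246817
theorem L246823 : sm gd N28902 = N31598 := rfl
theorem L246825 : sm ga N31598 = N31597 := ded_9_1 L246821 L237547 L246823
theorem L246827 : sm gf N31598 = N30150 := ded_23_2 L234117 (flp_f L224439) L246823
theorem L246829 : sm gc N30516 = N31598 := ded_28_0 (flp_d L246823) (flp_c L224437) (flp_d L195466) (flp_c L163101) (flp_d L163097) L195460 L224433 (flp_a L237369)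
theorem L246831 : sm gd N28903 = N31599 := rfl
theorem L246833 : sm ga N31599 = N28906 := ded_9_1 (flp_d L224473) (flp_a L224443) L246831
theorem L246835 : sm gb N31599 = N30366 := ded_14_1 L236075 (flp_b L224445) L246831
theorem L246837 : sm gf N31599 = N30774 := ded_23_2 L239601 (flp_f L224449) L246831
theorem L246839 : sm ge N31599 = N30775 := ded_22_2 L239605 L212695 L195490 L224441 L246831
theorem L246841 : sm gd N28904 = N31600 := rfl
theorem L246843 : sm ga N31600 = N30621 := ded_9_1 (flp_d L238211) (flp_a L224453) L246841
theorem L246845 : sm gb N31600 = N28906 := ded_14_1 (flp_d L224473) (flp_b L224455) L246841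
theorem L246847 : sm gf N31600 = N30139 := ded_23_2 L234027 (flp_f L224459) L246841
theorem L246849 : sm ge N31600 = N30140 := ded_22_2 L234037 L213635 (flp_d L195516) L224451 L246841
theorem L246851 : sm gc N31600 = N30142 := ded_28_6 L234051 (flp_a L229932) L229934 L200671 (flp_c L200765) L200767 (flp_c L224457) L246841
theorem L246853 : sm gd N28905 = N31601 := rfl
theorem L246855 : sm ga N31601 = N30775 := ded_9_1 L239605 (flp_a L224463) L246853
theorem L246857 : sm gb N31601 = N30140 := ded_14_1 L234037 (flp_b L224465) L246853
theorem L246859 : sm gf N31601 = N30771 := ded_23_2 (flp_d L239573) (flp_f L224469) L246853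
theorem L246861 : sm gg N31601 = N30618 := ded_24_2 (flp_d L238187) (flp_g L224471) L246853
theorem L246863 : sm ge N31601 = N28906 := ded_22_2 (flp_d L224473) (flp_e L195534) L195522 L224461 L246853
theorem L246865 : sm gc N28906 = N31602 := rfl
theorem L246867 : sm gd N29936 = N31602 := ded_28_1 (flp_c L246865) (flp_d L224473) L195536 (flp_d L195482) (flp_c L202627) (flp_d L232352) L232350 (flp_c L232360)
theorem L246869 : sm gf N31602 = N29935 := ded_23_2 (flp_d L232356) L232358 L246867
theorem L246871 : sm gf N28906 = N31603 := rfl
theorem L246873 : sm ga N31603 = N30774 := ded_11_1 (flp_f L246837) L246833 L246871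
theorem L246875 : sm gc N31603 = N29935 := ded_20_1 (flp_f L246869) (flp_c L246865) L246871
theorem L246877 : sm gd N31603 = N28907 := ded_23_1 (flp_f L224475) L224473 L246871
theorem L246879 : sm ge N31603 = N30771 := ded_25_1 (flp_f L246859) L246863 L246871
theorem L246881 : sm gd N28909 = N31604 := rfl
theorem L246883 : sm ga N31604 = N30632 := ded_9_1 (flp_d L238307) (flp_a L224497) L246881
theorem L246885 : sm gb N31604 = N28919 := ded_14_1 (flp_d L224585) (flp_b L224499) L246881
theorem L246887 : sm gg N31604 = N30045 := ded_24_2 L233273 (flp_g L224503) L246881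
theorem L246889 : sm ge N31604 = N30047 := ded_22_2 L233293 L213127 (flp_d L195568) L224495 L246881
theorem L246891 : sm gc N31604 = N30048 := ded_28_6 L233297 (flp_a L232010) L232012 L202312 (flp_c L202406) L202408 (flp_c L224501) L246881
theorem L246893 : sm gd N28910 = N31605 := rfl
theorem L246895 : sm ga N31605 = N30529 := ded_9_1 L237475 (flp_a L224507) L246893
theorem L246897 : sm gb N31605 = N30724 := ded_14_1 (flp_d L239141) (flp_b L224515) L246893
theorem L246899 : sm gf N31605 = N28915 := ded_23_2 (flp_d L224555) (flp_f L224511) L246893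
theorem L246901 : sm gg N31605 = N30044 := ded_24_2 L233261 (flp_g L224513) L246893
theorem L246903 : sm gc N30056 = N31605 := ded_21_3 L246901 L233263 L233365
theorem L246905 : sm ge N28912 = N31606 := rfl
theorem L246907 : sm gb N31606 = N28913 := ded_15_1 (flp_e L224541) (flp_b L224533) L246905
theorem L246909 : sm gc N31606 = N30268 := ded_19_1 L235147 (flp_c L224539) L246905
theorem L246911 : sm gf N31606 = N30267 := ded_25_2 L235139 (flp_f L224535) L246905
theorem L246913 : sm gg N31606 = N30272 := ded_26_2 L235181 (flp_g L224537) L246905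
theorem L246915 : sm gd N31606 = N30998 := ded_22_1 L241580 (flp_d L224519) L224521 L224531 L246905
theorem L246917 : sm gd N28914 = N31607 := rfl
theorem L246919 : sm gb N31607 = N30618 := ded_14_1 (flp_d L238187) (flp_b L224549) L246917
theorem L246921 : sm gf N31607 = N28919 := ded_23_2 (flp_d L224585) (flp_f L224553) L246917
theorem L246923 : sm ge N31607 = N30629 := ded_22_2 (flp_d L238281) L211103 (flp_d L195709) L224547 L246917
theorem L246925 : sm gc N28915 = N31608 := rfl
theorem L246927 : sm gf N31608 = N30056 := ded_20_2 L246903 L246899 L246925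
theorem L246929 : sm gd N31608 = N30520 := ded_28_7 L237401 (flp_c L224559) (flp_d L195745) (flp_c L164406) (flp_d L164402) L195739 L224555 L246925
theorem L246931 : sm gd N28916 = N31609 := rfl
theorem L246933 : sm ga N31609 = N31608 := ded_9_1 L246929 L237401 L246931
theorem L246935 : sm gg N31609 = N30055 := ded_24_2 L233361 (flp_g L224561) L246931
theorem L246937 : sm gc N30515 = N31609 := ded_28_0 (flp_d L246931) (flp_c L224559) (flp_d L195745) (flp_c L164406) (flp_d L164402) L195739 L224555 (flp_a L237363)
theorem L246939 : sm gd N28917 = N31610 := rfl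
theorem L246941 : sm ga N31610 = N28919 := ded_9_1 (flp_d L224585) (flp_a L224565) L246939
theorem L246943 : sm gb N31610 = N30328 := ded_14_1 L235719 (flp_b L224567) L246939
theorem L246945 : sm gg N31610 = N30727 := ded_24_2 L239161 (flp_g L224571) L246939
theorem L246947 : sm ge N31610 = N30729 := ded_22_2 L239173 L212077 L195771 L224563 L246939
theorem L246949 : sm gd N28918 = N31611 := rfl
theorem L246951 : sm ga N31611 = N30729 := ded_9_1 L239173 (flp_a L224575) L246949
theorem L246953 : sm gb N31611 = N30047 := ded_14_1 L233293 (flp_b L224577) L246949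
theorem L246955 : sm gf N31611 = N30629 := ded_23_2 (flp_d L238281) (flp_f L224581) L246949
theorem L246957 : sm gg N31611 = N30724 := ded_24_2 (flp_d L239141) (flp_g L224583) L246949
theorem L246959 : sm ge N31611 = N28919 := ded_22_2 (flp_d L224585) (flp_e L195791) L195779 L224573 L246949
theorem L246961 : sm gc N28919 = N31612 := rfl
theorem L246963 : sm gd N29718 = N31612 := ded_28_1 (flp_c L246961) (flp_d L224585) L195793 (flp_d L195761) (flp_c L200980) (flp_d L230338) L230336 (flp_c L230346)
theorem L246965 : sm gg N31612 = N29717 := ded_24_2 (flp_d L230342) L230344 L246963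
theorem L246967 : sm gg N28919 = N31613 := rfl
theorem L246969 : sm ga N31613 = N30727 := ded_12_1 (flp_g L246945) L246941 L246967
theorem L246971 : sm gc N31613 = N29717 := ded_21_1 (flp_g L246965) (flp_c L246961) L246967
theorem L246973 : sm gd N31613 = N28920 := ded_24_1 (flp_g L224587) L224585 L246967
theorem L246975 : sm ge N31613 = N30724 := ded_26_1 (flp_g L246957) L246959 L246967
theorem L246977 : sm gg N28928 = N31614 := rfl
theorem L246979 : sm ga N31614 = N29887 := ded_12_1 L235868 L235858 L246977
theorem L246981 : sm gc N31614 = N29847 := ded_21_1 (flp_g L231968) L231962 L246977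
theorem L246983 : sm gd N31614 = N31021 := ded_24_1 L241776 L235854 L246977
theorem L246985 : sm ge N31614 = N28929 := ded_26_1 (flp_g L224680) L224676 L246977
theorem L246987 : sm gf N29886 = N31614 := ded_29_0 (flp_g L246977) (flp_f L231956) (flp_g L231946) (flp_a L231930)
theorem L246989 : sm gf N28937 = N31615 := rfl
theorem L246991 : sm ga N31615 = N29656 := ded_11_1 (flp_f L235296) L235286 L246989
theorem L246993 : sm gc N31615 = N29610 := ded_20_1 L229878 L229872 L246989
theorem L246995 : sm gd N31615 = N30996 := ded_23_1 (flp_f L241560) L235282 L246989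
theorem L246997 : sm ge N31615 = N28938 := ded_25_1 (flp_f L224756) L224752 L246989
theorem L246999 : sm gg N31615 = N29654 := ded_29_3 L229840 L229848 (flp_g L229858) L246989
theorem L247001 : sm ge N28944 = N31616 := rfl
theorem L247003 : sm ga N31616 = N31097 := ded_10_1 L242532 (flp_a L224813) L247001
theorem L247005 : sm gb N31616 = N28947 := ded_15_1 (flp_e L224845) (flp_b L224815) L247001
theorem L247007 : sm gc N31616 = N30341 := ded_19_1 (flp_e L235838) L224821 L247001
theorem L247009 : sm gf N31616 = N31097 := ded_25_2 L242532 (flp_f L224817) L247001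
theorem L247011 : sm gg N31616 = N30960 := ded_26_2 L241254 (flp_g L224819) L247001
theorem L247013 : sm ge N28946 = N31617 := rfl
theorem L247015 : sm ga N31617 = N30254 := ded_10_1 L235019 (flp_a L224839) L247013
theorem L247017 : sm gc N31617 = N30253 := ded_19_1 L235013 L224843 L247013
theorem L247019 : sm gf N31617 = N30949 := ded_25_2 (flp_e L241120) (flp_f L224841) L247013
theorem L247021 : sm gd N31617 = N28947 := ded_22_1 (flp_e L224845) (flp_d L196751) (flp_e L196731) L224837 L247013
theorem L247023 : sm ge N28949 = N31618 := rfl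
theorem L247025 : sm ga N31618 = N31064 := ded_10_1 L242208 (flp_a L224861) L247023
theorem L247027 : sm gb N31618 = N28951 := ded_15_1 (flp_e L224879) (flp_b L224863) L247023
theorem L247029 : sm gc N31618 = N30281 := ded_19_1 (flp_e L235266) L224869 L247023
theorem L247031 : sm gf N31618 = N30963 := ded_25_2 L241285 (flp_f L224865) L247023
theorem L247033 : sm gg N31618 = N31064 := ded_26_2 L242208 (flp_g L224867) L247023
theorem L247035 : sm ge N28950 = N31619 := rfl
theorem L247037 : sm ga N31619 = N30267 := ded_10_1 L235139 (flp_a L224873) L247035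
theorem L247039 : sm gc N31619 = N30266 := ded_19_1 L235133 L224877 L247035
theorem L247041 : sm gg N31619 = N30951 := ded_26_2 (flp_e L241142) (flp_g L224875) L247035
theorem L247043 : sm gd N31619 = N28951 := ded_22_1 (flp_e L224879) (flp_d L196853) (flp_e L196833) L224871 L247035
theorem L247045 : sm gb N28961 = N31620 := rfl
theorem L247047 : sm gd N31620 = N30033 := ded_14_2 L243371 L243367 L247045
theorem L247049 : sm ge N31620 = N28962 := ded_15_2 (flp_b L224977) (flp_e L224975) L247045
theorem L247051 : sm gf N30032 = N31620 := ded_23_0 L247047 (flp_f L233191) L233189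
theorem L247053 : sm ga N28962 = N31621 := rfl
theorem L247055 : sm gd N31621 = N28963 := ded_9_2 (flp_a L224981) (flp_d L224979) L247053
theorem L247057 : sm gc N28962 = N31622 := rfl
theorem L247059 : sm gf N28962 = N31623 := rfl
theorem L247061 : sm gd N31623 = N28965 := ded_23_1 (flp_f L224989) (flp_d L224979) L247059
theorem L247063 : sm ge N31623 = N30032 := ded_25_1 L247051 L247049 L247059
theorem L247065 : sm gd N28964 = N31624 := rfl
theorem L247067 : sm ga N31624 = N31201 := ded_9_1 (flp_d L243589) L233511 L247065
theorem L247069 : sm gb N31624 = N28966 := ded_14_1 (flp_d L224993) (flp_b L224987) L247065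
theorem L247071 : sm gg N31624 = N29127 := ded_24_2 (flp_d L226047) (flp_g L224985) L247065
theorem L247073 : sm gc N31624 = N29125 := ded_32_24 (flp_b L226027) (flp_e L220018) (flp_d L232468) (flp_c L232460) (flp_d L202788) L170412 (flp_b L169409) L169415 (flp_c L169419) (flp_d L145212) (flp_c L104290) L104286 (flp_d L144691) (flp_c L156840) L168200 L199181 (flp_b L201518) L217785 (flp_c L217781) (flp_d L188317) L156906 L160654 (flp_d L171021) L187823 (flp_d L182307) (flp_c L145380) L145372 L145374 L120587 L93783 (flp_d L112250) L149788 L161870 L161872 (flp_c L153211) L153209 (flp_c L105738) (flp_b L152886) (flp_d L183333) L183335 L164115 (flp_c L173208) L173206 (flp_d L169387) L184794 L184786 (flp_c L190243) (flp_b L195051) (flp_d L215473) L215477 (flp_d L195041) (flp_c L162508) (flp_b L112542) (flp_e L111181) (flp_d L160718) (flp_c L193189) (flp_d L223124) (flp_c L223537) (flp_b L227405) L227401 L246371 (flp_d L246377) (flp_c L238219) (flp_b L238213) (flp_d L238211) L211011 (flp_d L192899) L192903 (flp_b L166879) (flp_d L166867) (flp_c L197415) (flp_d L224963) L224961 L224977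 L224979 L224983 L247065
theorem L247075 : sm gg N28965 = N31625 := rfl
theorem L247077 : sm ga N31625 = N30578 := ded_12_1 L237925 L233479 L247075
theorem L247079 : sm ge N31625 = N30031 := ded_26_1 (flp_g L233183) (flp_e L224991) L247075
theorem L247081 : sm gf N30577 = N31625 := ded_29_0 (flp_g L247075) (flp_f L224989) (flp_g L210635) L237915
theorem L247083 : sm gb N31625 = N31219 := ded_17_1 (flp_g L245105) (flp_b L245107) L238143 L225345 L247075
theorem L247085 : sm ga N28967 = N31626 := rfl
theorem L247087 : sm gd N31626 = N31342 := ded_9_2 L244772 L227346 L247085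
theorem L247089 : sm ge N31626 = N31391 := ded_10_2 L245167 L227624 L247085
theorem L247091 : sm gb N31401 = N31626 := ded_14_3 L247087 L244780 (flp_d L245243)
theorem L247093 : sm gf N30609 = N31626 := ded_23_0 L247087 (flp_f L244770) (flp_d L238119)
theorem L247095 : sm gf N28967 = N31627 := rfl
theorem L247097 : sm ga N31627 = N30609 := ded_11_1 L247093 (flp_a L247085) L247095
theorem L247099 : sm gd N31627 = N31341 := ded_23_1 L244768 L227346 L247095
theorem L247101 : sm gb N31627 = N29543 := ded_16_1 (flp_f L228906) L199855 (flp_f L196981) L225001 L247095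
theorem L247103 : sm gg N29573 = N31627 := ded_24_0 L247099 L244766 L238131
theorem L247105 : sm gb N28970 = N31628 := rfl
theorem L247107 : sm gc N31628 = N29291 := ded_13_2 (flp_b L227177) (flp_c L198785) (flp_b L197003) (flp_c L225025) L247105
theorem L247109 : sm gg N31628 = N29291 := ded_17_2 (flp_b L227177) L198793 L196993 L225021 L247105
theorem L247111 : sm ga N31628 = N31628 := ded_7_1 (flp_b L247105) L225023 (flp_b L211222) (flp_a L238396) L238402 L238396 L211222 (flp_a L225023) L247105
theorem L247112 : sm gb N28976 = N31629 := rfl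
theorem L247114 : sm gd N31629 = N30128 := ded_14_2 L243381 L243377 L247112
theorem L247116 : sm ge N31629 = N28977 := ded_15_2 (flp_b L225085) (flp_e L225083) L247112
theorem L247118 : sm gg N30126 = N31629 := ded_24_0 L247114 (flp_g L233945) L233937
theorem L247120 : sm ga N28977 = N31630 := rfl
theorem L247122 : sm gd N31630 = N28978 := ded_9_2 (flp_a L225089) (flp_d L225087) L247120
theorem L247124 : sm gc N28977 = N31631 := rfl
theorem L247126 : sm gg N28977 = N31632 := rfl
theorem L247128 : sm gd N31632 = N28980 := ded_24_1 (flp_g L225097) (flp_d L225087) L247126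
theorem L247130 : sm ge N31632 = N30126 := ded_26_1 L247118 L247116 L247126
theorem L247132 : sm gd N28979 = N31633 := rfl
theorem L247134 : sm ga N31633 = N31208 := ded_9_1 (flp_d L243657) L234271 L247132
theorem L247136 : sm gb N31633 = N28981 := ded_14_1 (flp_d L225101) (flp_b L225095) L247132
theorem L247138 : sm gf N31633 = N29178 := ded_23_2 (flp_d L226333) (flp_f L225093) L247132
theorem L247140 : sm gc N31633 = N29176 := ded_32_24 (flp_b L226313) (flp_e L220234) L230452 (flp_c L230444) (flp_d L201139) (flp_c L170412) (flp_b L170408) L170416 (flp_c L170420) (flp_d L144953) (flp_c L104169) L104165 (flp_d L144611) (flp_c L156865) L168604 L199795 (flp_b L203155) L217658 (flp_c L217654) (flp_d L188251) L156784 L160850 (flp_d L171364) L188169 (flp_d L182669) (flp_c L145598) L145594 L145596 L151411 L93903 (flp_d L112020) (flp_c L149788) L162104 L162106 (flp_c L152796) L152794 (flp_c L105786) (flp_b L153315) (flp_d L183251) L183253 (flp_d L164516) (flp_c L174727) L174725 (flp_d L170386) L184416 L184408 (flp_c L190170) (flp_b L195297) (flp_d L215385) L215389 (flp_d L195287) (flp_c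 L162804) (flp_b L112788) (flp_e L111297) (flp_d L160914) (flp_c L193493) (flp_d L223539) L223537 (flp_b L228345) L228341 L245972 (flp_d L245978) (flp_c L238315) (flp_b L238309) (flp_d L238307) L211119 (flp_d L192577) L192581 (flp_b L166962) (flp_d L166950) (flp_c L197515) (flp_d L225071) L225069 L225085 L225087 L225091 L247132
theorem L247142 : sm gf N28980 = N31634 := rfl
theorem L247144 : sm ga N31634 = N30585 := ded_11_1 (flp_f L237967) L234233 L247142
theorem L247146 : sm ge N31634 = N30125 := ded_25_1 (flp_f L233931) (flp_e L225099) L247142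
theorem L247148 : sm gg N31634 = N30584 := ded_29_3 (flp_a L237957) L210731 L225097 L247142
theorem L247150 : sm gb N31634 = N31242 := ded_16_1 (flp_f L245409) (flp_b L245413) L238061 L225399 L247142
theorem L247152 : sm ga N28982 = N31635 := rfl
theorem L247154 : sm gd N31635 = N31368 := ded_9_2 L244957 L228288 L247152
theorem L247156 : sm ge N31635 = N31428 := ded_10_2 L245483 L228547 L247152
theorem L247158 : sm gb N31436 = N31635 := ded_14_3 L247154 (flp_b L244965) (flp_d L245539)
theorem L247160 : sm gg N30597 = N31635 := ded_24_0 L247154 (flp_g L244955) (flp_d L238039)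
theorem L247162 : sm gg N28982 = N31636 := rfl
theorem L247164 : sm ga N31636 = N30597 := ded_12_1 L247160 (flp_a L247152) L247162
theorem L247166 : sm gd N31636 = N31367 := ded_24_1 (flp_g L244953) L228288 L247162
theorem L247168 : sm gb N31636 = N29403 := ded_17_1 (flp_g L227951) L199225 (flp_g L197059) L225109 L247162
theorem L247170 : sm gf N31636 = N29433 := ded_30_4 L228125 (flp_b L227622) L199046 (flp_f L199034) (flp_c L199028) (flp_b L177777) L177771 (flp_f L167918) (flp_c L144317) (flp_b L103826) L89064 L95322 L95326 L103859 L144343 L180601 (flp_c L210829) L238037 (flp_a L247164)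
theorem L247172 : sm gb N28985 = N31637 := rfl
theorem L247174 : sm gc N31637 = N29434 := ded_13_2 (flp_b L228127) (flp_c L199343) (flp_b L197081) (flp_c L225133) L247172
theorem L247176 : sm gf N31637 = N29434 := ded_16_2 (flp_b L228127) L199349 L197071 L225129 L247172
theorem L247178 : sm ga N31637 = N31637 := ded_7_1 (flp_b L247172) L225131 (flp_b L211417) (flp_a L238552) L238558 L238552 L211417 (flp_a L225131) L247172
theorem L247179 : sm ge N28988 = N31638 := rfl
theorem L247181 : sm gb N31638 = N28989 := ded_15_1 (flp_e L225161) L225159 L247179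
theorem L247183 : sm gc N31638 = N31550 := ded_19_1 L246421 L244285 L247179
theorem L247185 : sm gg N31638 = N31552 := ded_26_2 L246439 L244129 L247179
theorem L247187 : sm gf N28988 = N31639 := rfl
theorem L247189 : sm gg N31639 = N31570 := ded_29_3 L246587 L245519 L244129 L247187
theorem L247191 : sm gd N28989 = N31640 := rfl
theorem L247193 : sm gg N31640 = N29153 := ded_24_2 (flp_d L239671) L239667 L247191
theorem L247195 : sm ge N31640 = N29155 := ded_22_2 L226197 (flp_e L220174) L220172 L225161 L247191
theorem L247197 : sm gf N28989 = N31641 := rfl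
theorem L247199 : sm ga N31641 = N29979 := ded_11_1 (flp_f L244445) (flp_a L244447) L247197
theorem L247201 : sm gc N31641 = N28991 := ded_20_1 (flp_f L225171) (flp_c L225163) L247197
theorem L247203 : sm ge N31641 = N28990 := ded_25_1 (flp_f L225165) L225161 L247197
theorem L247205 : sm gb N31612 = N31641 := ded_13_5 L247201 L233303 (flp_c L246891) L246885 L246961
theorem L247207 : sm gb N28990 = N31642 := rfl
theorem L247209 : sm ge N31642 = N31612 := ded_15_2 L247205 L247203 L247207
theorem L247211 : sm gc N31642 = N31611 := ded_13_2 L246953 L233291 (flp_b L203515) (flp_c L225169) L247207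
theorem L247213 : sm ge N28994 = N31643 := rfl
theorem L247215 : sm gb N31643 = N28995 := ded_15_1 (flp_e L225203) L225201 L247213
theorem L247217 : sm gc N31643 = N31570 := ded_19_1 L246583 L244499 L247213
theorem L247219 : sm gf N31643 = N31572 := ded_25_2 L246605 L243885 L247213
theorem L247221 : sm gg N28994 = N31644 := rfl
theorem L247223 : sm gf N31550 = N31644 := ded_29_0 (flp_g L247221) (flp_f L243885) (flp_g L245203) (flp_a L246425)
theorem L247225 : sm gd N28995 = N31645 := rfl
theorem L247227 : sm gf N31645 = N29102 := ded_23_2 (flp_d L240149) L240145 L247225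
theorem L247229 : sm ge N31645 = N29103 := ded_22_2 L225921 (flp_e L219954) L219952 L225203 L247225
theorem L247231 : sm gg N28995 = N31646 := rfl
theorem L247233 : sm ga N31646 = N29778 := ded_12_1 (flp_g L244231) (flp_a L244233) L247231
theorem L247235 : sm gc N31646 = N28997 := ded_21_1 (flp_g L225213) (flp_c L225205) L247231
theorem L247237 : sm ge N31646 = N28996 := ded_26_1 (flp_g L225207) L225203 L247231
theorem L247239 : sm gb N31602 = N31646 := ded_13_5 L247235 (flp_b L234057) (flp_c L246851) L246845 L246865
theorem L247241 : sm gb N28996 = N31647 := rfl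
theorem L247243 : sm ge N31647 = N31602 := ded_15_2 L247239 L247237 L247241
theorem L247245 : sm gc N31647 = N31601 := ded_13_2 L246857 L234035 (flp_b L204011) (flp_c L225211) L247241
theorem L247247 : sm gc N28998 = N31648 := rfl
theorem L247249 : sm ga N31648 = N28999 := ded_8_1 (flp_c L225229) L225221 L247247
theorem L247251 : sm ge N31648 = N31648 := ded_19_2 (flp_c L247247) L225225 L247247
theorem L247252 : sm gf N31648 = N31648 := ded_20_2 (flp_c L247247) L225226 L247247
theorem L247253 : sm gb N31648 = N29055 := ded_13_1 (flp_c L225580) (flp_b L197568) (flp_c L197186) L225227 L247247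
theorem L247255 : sm gd N28999 = N31649 := rfl
theorem L247257 : sm gb N31649 = N31649 := ded_14_1 (flp_d L247255) L225233 L247255
theorem L247258 : sm gf N31649 = N31649 := ded_23_2 (flp_d L247255) L225232 L247255
theorem L247259 : sm gc N29406 = N31649 := ded_28_2 (flp_d L247255) (flp_c L225229) L197137 L197156 L225252 (flp_a L228366) L230938 L230742
theorem L247261 : sm gc N29000 = N31650 := rfl
theorem L247263 : sm ga N31650 = N29001 := ded_8_1 (flp_c L225242) L225234 L247261
theorem L247265 : sm ge N31650 = N31650 := ded_19_2 (flp_c L247261) L225238 L247261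
theorem L247266 : sm gg N31650 = N31650 := ded_21_2 (flp_c L247261) L225239 L247261
theorem L247267 : sm gb N31650 = N29053 := ded_13_1 (flp_c L225564) (flp_b L197561) (flp_c L197175) (flp_b L225240) L247261
theorem L247269 : sm gd N29001 = N31651 := rfl
theorem L247271 : sm gb N31651 = N31651 := ded_14_1 (flp_d L247269) L225246 L247269
theorem L247272 : sm gg N31651 = N31651 := ded_24_2 (flp_d L247269) L225245 L247269
theorem L247273 : sm gc N29546 = N31651 := ded_28_2 (flp_d L247269) (flp_c L225242) L197143 L197168 L225260 (flp_a L227461) L232695 L232690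
theorem L247275 : sm gc N29003 = N31652 := rfl
theorem L247277 : sm ga N31652 = N29764 := ded_8_1 (flp_c L230938) L228366 L247275
theorem L247279 : sm ge N31652 = N29471 := ded_19_2 (flp_c L228396) (flp_e L227438) L247275
theorem L247281 : sm gf N31652 = N31652 := ded_20_2 (flp_c L247275) L225254 L247275
theorem L247282 : sm gg N31652 = N29797 := ded_21_2 L231126 L225613 L247275
theorem L247284 : sm gb N31652 = N29779 := ded_13_1 L231008 (flp_b L209799) (flp_c L233339) L233343 L247275
theorem L247286 : sm gc N29005 = N31653 := rfl
theorem L247288 : sm ga N31653 = N29972 := ded_8_1 (flp_c L232695) L227461 L247286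
theorem L247290 : sm ge N31653 = N29329 := ded_19_2 (flp_c L227491) (flp_e L225727) L247286
theorem L247292 : sm gf N31653 = N29999 := ded_20_2 L232919 L225721 L247286
theorem L247294 : sm gg N31653 = N31653 := ded_21_2 (flp_c L247286) L225262 L247286
theorem L247295 : sm gb N31653 = N29980 := ded_13_1 L232775 (flp_b L210001) (flp_c L234093) L234097 L247286
theorem L247297 : sm gf N29007 = N31654 := rfl
theorem L247299 : sm gc N31654 = N31479 := ded_20_1 L245952 L245946 L247297
theorem L247301 : sm gb N31654 = N29062 := ded_16_1 (flp_f L225647) (flp_b L197607) L197205 L225269 L247297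
theorem L247303 : sm gg N29454 = N31654 := ded_31_0 (flp_f L247297) (flp_b L225269) (flp_g L197199) (flp_f L166998) (flp_b L190981) (flp_g L190989) (flp_f L192409) L221586 L221592 L243755 (flp_b L243775) L243773 L228142 L228248
theorem L247305 : sm gg N29012 = N31655 := rfl
theorem L247307 : sm gc N31655 = N31533 := ded_21_1 L246278 (flp_c L245921) L247305
theorem L247309 : sm gb N31655 = N29074 := ded_17_1 (flp_g L225753) (flp_b L197655) (flp_g L197238) L225297 L247305
theorem L247311 : sm gf N31655 = N29312 := ded_31_1 (flp_b L227306) (flp_g L227194) (flp_f L244015) L244019 (flp_g L243991) (flp_f L222026) (flp_b L222022) (flp_g L192719) L191133 L191125 L167054 L197232 L225297 L247305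
theorem L247313 : sm gb N29016 = N31656 := rfl
theorem L247315 : sm ge N31656 = N29017 := ded_15_2 (flp_b L225331) (flp_e L225327) L247313
theorem L247317 : sm gf N31656 = N31592 := ded_16_2 L246777 L247051 (flp_b L247045) L225329 L247313
theorem L247319 : sm gg N31656 = N31029 := ded_17_2 (flp_b L241862) (flp_g L216543) (flp_b L197265) L225321 L247313
theorem L247321 : sm gc N30805 = N31656 := ded_30_1 (flp_b L247313) L225323 (flp_f L220346) L220342 (flp_b L192501) (flp_a L221808) L221814 L221788 (flp_b L212517) (flp_a L181877) L145116 L145584 (flp_b L179425) (flp_a L210145) (flp_f L231680) (flp_c L231682) L237567 (flp_a L237575) (flp_f L239881)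
theorem L247323 : sm gf N29017 = N31657 := rfl
theorem L247325 : sm gc N31657 = N31530 := ded_20_1 (flp_f L246252) L234565 L247323
theorem L247327 : sm gd N31657 = N29019 := ded_23_1 (flp_f L225341) (flp_d L225333) L247323
theorem L247329 : sm ge N31657 = N31592 := ded_25_1 (flp_f L247317) L247315 L247323
theorem L247331 : sm gg N31657 = N31529 := ded_29_3 L246236 (flp_f L241868) (flp_g L225335) L247323
theorem L247333 : sm gb N31657 = N31623 := ded_16_1 (flp_f L247059) (flp_b L224977) (flp_f L197277) L225331 L247323
theorem L247335 : sm gf N29018 = N31658 := rfl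
theorem L247337 : sm ga N31658 = N29019 := ded_11_1 (flp_f L225341) L225337 L247335
theorem L247339 : sm gc N31658 = N30498 := ded_20_1 (flp_f L237223) (flp_c L225339) L247335
theorem L247341 : sm ge N31658 = N30674 := ded_25_1 (flp_f L238639) L238587 L247335
theorem L247343 : sm gg N31658 = N30497 := ded_29_3 (flp_a L238139) L238141 L237205 L247335
theorem L247345 : sm gb N31658 = N31186 := ded_16_1 L243453 L243931 L246483 L246479 L247335
theorem L247347 : sm gf N29020 = N31659 := rfl
theorem L247349 : sm ga N31659 = N30688 := ded_11_1 L238793 (flp_a L233777) L247347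
theorem L247351 : sm gd N31659 = N30323 := ded_23_1 (flp_f L235677) L225431 L247347
theorem L247353 : sm ge N31659 = N31408 := ded_25_1 L245293 L233793 L247347
theorem L247355 : sm gg N30322 = N31659 := ded_29_1 (flp_f L247347) (flp_g L244221) L244223 (flp_f L235665)
theorem L247357 : sm gb N31659 = N30703 := ded_16_1 L238953 L221720 (flp_f L220356) L225347 L247347
theorem L247359 : sm ga N29021 = N31660 := rfl
theorem L247361 : sm gc N31660 = N29856 := ded_8_2 (flp_a L235595) (flp_c L235603) L247359
theorem L247363 : sm ge N31660 = N29022 := ded_10_2 (flp_a L225353) (flp_e L225351) L247359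
theorem L247365 : sm gg N31660 = N29855 := ded_12_2 (flp_a L231720) (flp_g L231730) L247359
theorem L247367 : sm gf N29021 = N31661 := rfl
theorem L247369 : sm gd N31661 = N30020 := ded_23_1 L233107 L231748 L247367
theorem L247371 : sm ge N31661 = N29024 := ded_25_1 (flp_f L225359) (flp_e L225351) L247367
theorem L247373 : sm gb N31661 = N30305 := ded_16_1 L244235 (flp_b L244225) L220346 L225349 L247367
theorem L247375 : sm gb N29022 = N31662 := rfl
theorem L247377 : sm gd N31662 = N29025 := ded_14_2 (flp_b L225363) (flp_d L225355) L247375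
theorem L247379 : sm ga N31662 = N31564 := ded_7_1 (flp_b L246545) (flp_a L245785) (flp_b L245791) L234571 (flp_b L225331) L197273 L197291 L225353 L247375
theorem L247381 : sm gf N31565 = N31662 := ded_11_0 L247379 L246547 L246551
theorem L247383 : sm gf N29023 = N31663 := rfl
theorem L247385 : sm gc N31663 = N29024 := ded_20_1 (flp_f L225359) L225357 L247383
theorem L247387 : sm gd N31663 = N30367 := ded_23_1 L236085 (flp_d L235591) L247383
theorem L247389 : sm gg N31663 = N30815 := ded_29_3 L239977 (flp_f L239281) L239283 L247383
theorem L247391 : sm gb N30365 = N31663 := ded_13_5 L247385 (flp_b L243849) (flp_c L243855) (flp_b L234411) (flp_c L236065)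
theorem L247393 : sm ga N29025 = N31664 := rfl
theorem L247395 : sm gd N31664 = N31564 := ded_9_2 (flp_a L247379) L247377 L247393
theorem L247397 : sm gg N31664 = N31332 := ded_12_2 L244694 L238643 L247393
theorem L247399 : sm gf N31664 = N31558 := ded_29_0 L246505 L243747 L238643 L247393
theorem L247401 : sm gb N31664 = N31557 := ded_7_2 L246493 L246479 (flp_a L225337) (flp_b L197279) L166706 L166730 L197303 L225363 L247393
theorem L247403 : sm gc N31197 = N31664 := ded_13_0 L247401 L246495 (flp_b L243931) L220006 L243549
theorem L247405 : sm gc N29025 = N31665 := rfl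
theorem L247407 : sm ga N31665 = N31197 := ded_8_1 L247403 (flp_a L247393) L247405
theorem L247409 : sm gg N31665 = N30601 := ded_21_2 (flp_c L238629) L238643 L247405
theorem L247411 : sm gf N29025 = N31666 := rfl
theorem L247413 : sm ga N31666 = N31558 := ded_11_1 (flp_f L247399) (flp_a L247393) L247411
theorem L247415 : sm gd N31666 = N31565 := ded_23_1 L247381 L247377 L247411
theorem L247417 : sm gb N29027 = N31667 := rfl
theorem L247419 : sm ge N31667 = N29028 := ded_15_2 (flp_b L225385) (flp_e L225381) L247417
theorem L247421 : sm gf N31667 = N31066 := ded_16_2 (flp_b L242224) (flp_f L217116) (flp_b L197315) L225375 L247417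
theorem L247423 : sm gg N31667 = N31593 := ded_17_2 L246783 L247118 (flp_b L247112) (flp_g L225383) L247417
theorem L247425 : sm gc N30863 = N31667 := ded_32_19 (flp_b L247417) (flp_d L243523) (flp_c L243533) L243535 L220772 (flp_b L192823) (flp_e L222152) L222150 L194649 L178617 L178741 (flp_b L209513) (flp_d L209517) (flp_c L193521) (flp_d L193499) L223555 (flp_b L246375) (flp_d L246377) (flp_c L238219) (flp_d L211015) (flp_c L180755) (flp_b L144439) (flp_d L144345) L180595 (flp_d L180599) (flp_c L160070) (flp_b L110729) L92777 (flp_c L92919) (flp_d L111035) (flp_c L160454) (flp_b L191167) L220108 L220114 (flp_c L226129) (flp_d L237489) L237487 L209851 L182555 L153131 (flp_d L169874) L169872 L178925 L178927 L163606 (flp_d L155894) (flp_c L107809) (flp_b L91299) (flp_d L72432) L43342 (flp_d L45201) (flp_c L92558) L110294 L110296 L159159 L190935 L219820 (flp_b L232769) (flp_e L232767) (flp_d L225423) L225421 L225017 L196991 L166342 L144331 (flp_c L166162) (flp_d L196907) (flp_c L219396) (flp_b L219400) (flp_d L217448) L217446 (flp_d L213419) L213417 L213425 L213427 L213539 L240361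
theorem L247427 : sm gg N29028 = N31668 := rfl
theorem L247429 : sm gc N31668 = N31476 := ded_21_1 L245841 L233813 L247427
theorem L247431 : sm gd N31668 = N29030 := ded_24_1 (flp_g L225395) (flp_d L225387) L247427
theorem L247433 : sm ge N31668 = N31593 := ded_26_1 (flp_g L247423) L247419 L247427
theorem L247435 : sm gf N31475 = N31668 := ded_29_0 (flp_g L247427) L225389 L242230 (flp_a L245825)
theorem L247437 : sm gb N31668 = N31632 := ded_17_1 (flp_g L247126) (flp_b L225085) L197327 L225385 L247427
theorem L247439 : sm gg N29029 = N31669 := rfl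
theorem L247441 : sm ga N31669 = N29030 := ded_12_1 (flp_g L225395) L225391 L247439
theorem L247443 : sm gc N31669 = N30494 := ded_21_1 L237189 (flp_c L225393) L247439
theorem L247445 : sm ge N31669 = N30654 := ded_26_1 L238483 L238431 L247439
theorem L247447 : sm gf N30493 = N31669 := ded_29_0 (flp_g L247439) (flp_f L237171) (flp_g L238063) L238059
theorem L247449 : sm gb N31669 = N31189 := ded_17_1 L243483 L244175 L246655 L246645 L247439
theorem L247451 : sm gg N29031 = N31670 := rfl
theorem L247453 : sm ga N31670 = N30753 := ded_12_1 L239411 (flp_a L234557) L247451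
theorem L247455 : sm gd N31670 = N30304 := ded_24_1 L235495 L225494 L247451
theorem L247457 : sm ge N31670 = N31443 := ded_26_1 L245591 L234589 L247451
theorem L247459 : sm gf N31670 = N30303 := ded_29_2 L235483 (flp_a L244437) L244435 L247451
theorem L247461 : sm gb N31670 = N30762 := ded_17_1 L239491 L222154 L220786 L225401 L247451
theorem L247463 : sm ga N29032 = N31671 := rfl
theorem L247465 : sm gc N31671 = N29619 := ded_8_2 (flp_a L236039) (flp_c L236047) L247463
theorem L247467 : sm ge N31671 = N29033 := ded_10_2 (flp_a L225407) (flp_e L225405) L247463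
theorem L247469 : sm gf N31671 = N29618 := ded_11_2 (flp_a L229584) (flp_f L229594) L247463
theorem L247471 : sm gg N29032 = N31672 := rfl
theorem L247473 : sm gd N31672 = N30114 := ded_24_1 L233855 L229612 L247471
theorem L247475 : sm ge N31672 = N29035 := ded_26_1 (flp_g L225413) (flp_e L225405) L247471
theorem L247477 : sm gb N31672 = N30361 := ded_17_1 L244449 (flp_b L244439) (flp_g L220776) L225403 L247471
theorem L247479 : sm gb N29033 = N31673 := rfl
theorem L247481 : sm gd N31673 = N29036 := ded_14_2 (flp_b L225417) (flp_d L225409) L247479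
theorem L247483 : sm ga N31673 = N31583 := ded_7_1 (flp_b L246703) (flp_a L246176) L246182 L233819 (flp_b L225385) L197323 L197341 L225407 L247479
theorem L247485 : sm gg N31584 = N31673 := ded_12_0 L247483 L246707 L246709
theorem L247487 : sm gg N29034 = N31674 := rfl
theorem L247489 : sm gc N31674 = N29035 := ded_21_1 (flp_g L225413) L225411 L247487
theorem L247491 : sm gd N31674 = N30330 := ded_24_1 L235739 (flp_d L235513) L247487
theorem L247493 : sm gf N30874 = N31674 := ded_29_0 (flp_g L247487) (flp_f L239645) L239647 (flp_a L240475)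
theorem L247495 : sm gb N30329 = N31674 := ded_13_5 L247489 (flp_b L244093) (flp_c L244099) (flp_b L233625) (flp_c L235727)
theorem L247497 : sm ga N29036 = N31675 := rfl
theorem L247499 : sm gd N31675 = N31583 := ded_9_2 (flp_a L247483) L247481 L247497
theorem L247501 : sm ge N31675 = N31665 := ded_10_2 L247407 L243551 L247497
theorem L247503 : sm gf N31675 = N31358 := ded_11_2 L244879 L238487 L247497
theorem L247505 : sm gg N31578 = N31675 := ded_29_3 (flp_a L247497) (flp_f L238487) (flp_g L244005) (flp_f L246671)
theorem L247507 : sm gb N31675 = N31577 := ded_7_2 L246659 L246645 (flp_a L225391) (flp_b L197329) L166768 L166792 L197353 L225417 L247497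
theorem L247509 : sm gc N31193 = N31675 := ded_19_3 L247501 (flp_c L247405) (flp_e L243517)
theorem L247511 : sm gc N29036 = N31676 := rfl
theorem L247513 : sm ga N31676 = N31193 := ded_8_1 L247509 (flp_a L247497) L247511
theorem L247515 : sm ge N31676 = N31664 := ded_19_2 (flp_c L247403) L243551 L247511
theorem L247517 : sm gf N31676 = N30589 := ded_20_2 (flp_c L238473) L238487 L247511
theorem L247519 : sm gg N29036 = N31677 := rfl
theorem L247521 : sm ga N31677 = N31578 := ded_12_1 L247505 (flp_a L247497) L247519
theorem L247523 : sm gd N31677 = N31584 := ded_24_1 L247485 L247481 L247519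
theorem L247525 : sm gd N29039 = N31678 := rfl
theorem L247527 : sm ga N31678 = N30821 := ded_9_1 L240029 (flp_a L225441) L247525
theorem L247529 : sm gf N31678 = N29612 := ded_23_2 (flp_d L229450) (flp_f L225445) L247525
theorem L247531 : sm gg N31678 = N30362 := ded_24_2 (flp_d L236037) (flp_g L225447) L247525
theorem L247533 : sm ge N31678 = N31674 := ded_22_2 L247491 L235735 (flp_d L207307) (flp_e L225443) L247525
theorem L247535 : sm gc N31672 = N31678 := ded_28_2 (flp_d L247525) (flp_c L225439) L197375 L197379 L225449 L225451 (flp_c L233853) (flp_d L247473)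
theorem L247537 : sm gc N29040 = N31679 := rfl
theorem L247539 : sm ga N31679 = N30114 := ded_8_1 L233853 (flp_a L225451) L247537
theorem L247541 : sm ge N31679 = N29729 := ded_19_2 (flp_c L230444) (flp_e L225457) L247537
theorem L247543 : sm gf N31679 = N29615 := ded_20_2 (flp_c L229474) (flp_f L225455) L247537
theorem L247545 : sm gb N31679 = N30735 := ded_13_1 (flp_c L239235) (flp_b L212109) L197397 (flp_b L225453) L247537
theorem L247547 : sm ga N29041 = N31680 := rfl
theorem L247549 : sm gc N31680 = N29826 := ded_8_2 (flp_a L232182) L232184 L247547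
theorem L247551 : sm gd N31680 = N29042 := ded_9_2 (flp_a L225465) (flp_d L225461) L247547
theorem L247553 : sm ge N31680 = N29689 := ded_10_2 L230176 L229226 L247547
theorem L247555 : sm gf N31680 = N29825 := ded_11_2 L231352 L230170 L247547
theorem L247557 : sm gg N31680 = N29687 := ded_12_2 L230154 (flp_g L225463) L247547
theorem L247559 : sm gb N31680 = N30863 := ded_7_2 L240363 (flp_b L233779) L203799 L233767 (flp_a L233777) (flp_b L225347) (flp_a L197401) L225459 L247547
theorem L247561 : sm gd N29043 = N31681 := rfl
theorem L247563 : sm ga N31681 = N30862 := ded_9_1 L240355 (flp_a L225479) L247561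
theorem L247565 : sm gb N31681 = N29044 := ded_14_1 (flp_d L225487) (flp_b L225485) L247561
theorem L247567 : sm gg N31681 = N30897 := ded_24_2 (flp_d L240637) (flp_g L225483) L247561
theorem L247569 : sm ge N31681 = N29672 := ded_22_2 L235902 (flp_e L235894) (flp_d L215171) (flp_e L225481) L247561
theorem L247571 : sm gc N31681 = N29673 := ded_28_6 L230024 (flp_a L232127) L232129 (flp_d L232186) L232184 L225461 L225477 L247561
theorem L247573 : sm ge N29044 = N31682 := rfl
theorem L247575 : sm ga N31682 = N29183 := ded_10_1 (flp_e L226360) (flp_a L225489) L247573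
theorem L247577 : sm gb N31682 = N29672 := ded_15_1 (flp_e L247569) L247565 L247573
theorem L247579 : sm gc N31682 = N29678 := ded_19_1 L230065 (flp_c L226388) L247573
theorem L247581 : sm gg N31682 = N31682 := ded_26_2 (flp_e L247573) L225491 L247573
theorem L247582 : sm gd N31682 = N30830 := ded_22_1 L240077 L215018 L207894 L225487 L247573
theorem L247584 : sm gd N29046 = N31683 := rfl
theorem L247586 : sm ga N31683 = N30878 := ded_9_1 L240507 (flp_a L225504) L247584
theorem L247588 : sm gf N31683 = N30315 := ded_23_2 (flp_d L235593) (flp_f L225508) L247584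
theorem L247590 : sm gg N31683 = N29849 := ded_24_2 (flp_d L231596) (flp_g L225510) L247584
theorem L247592 : sm ge N31683 = N31663 := ded_22_2 L247387 L236081 L207361 (flp_e L225506) L247584
theorem L247594 : sm gc N31661 = N31683 := ded_28_2 (flp_d L247584) (flp_c L225502) L197475 L197479 L225512 L225514 (flp_c L233105) (flp_d L247369)
theorem L247596 : sm gc N29047 = N31684 := rfl
theorem L247598 : sm ga N31684 = N30020 := ded_8_1 L233105 (flp_a L225514) L247596
theorem L247600 : sm ge N31684 = N29947 := ded_19_2 (flp_c L232460) (flp_e L225520) L247596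
theorem L247602 : sm gg N31684 = N29851 := ded_21_2 (flp_c L231612) (flp_g L225518) L247596
theorem L247604 : sm gb N31684 = N30742 := ded_13_1 L239301 L212217 L197497 (flp_b L225516) L247596
theorem L247606 : sm ga N29048 = N31685 := rfl
theorem L247608 : sm gc N31685 = N29588 := ded_8_2 (flp_a L230176) L230178 L247606
theorem L247610 : sm gd N31685 = N29049 := ded_9_2 (flp_a L225528) (flp_d L225524) L247606
theorem L247612 : sm ge N31685 = N29913 := ded_10_2 L232182 L231366 L247606
theorem L247614 : sm gf N31685 = N29686 := ded_11_2 L230144 (flp_f L225526) L247606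
theorem L247616 : sm gg N31685 = N29587 := ded_12_2 (flp_a L230130) L230138 L247606
theorem L247618 : sm gb N31685 = N30805 := ded_7_2 L239879 (flp_b L234539) (flp_a L204303) L234547 (flp_a L234557) (flp_b L225401) (flp_a L197501) L225522 L247606
theorem L247620 : sm gd N29050 = N31686 := rfl
theorem L247622 : sm ga N31686 = N30804 := ded_9_1 L239871 (flp_a L225542) L247620
theorem L247624 : sm gb N31686 = N29051 := ded_14_1 (flp_d L225550) (flp_b L225548) L247620
theorem L247626 : sm gf N31686 = N30923 := ded_23_2 (flp_d L240865) (flp_f L225546) L247620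
theorem L247628 : sm ge N31686 = N29902 := ded_22_2 L235344 (flp_e L235336) (flp_d L214932) (flp_e L225544) L247620
theorem L247630 : sm gc N31686 = N29903 := ded_28_6 L232090 (flp_a L230044) L230046 (flp_d L230180) L230178 L225524 L225540 L247620
theorem L247632 : sm ge N29051 = N31687 := rfl
theorem L247634 : sm ga N31687 = N29238 := ded_10_1 (flp_e L226753) (flp_a L225552) L247632
theorem L247636 : sm gb N31687 = N29902 := ded_15_1 (flp_e L247628) L247624 L247632
theorem L247638 : sm gc N31687 = N29908 := ded_19_1 L232137 (flp_c L226787) L247632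
theorem L247640 : sm gf N31687 = N31687 := ded_25_2 (flp_e L247632) L225554 L247632
theorem L247641 : sm gd N31687 = N30888 := ded_22_1 L240565 L215261 L207609 L225550 L247632
theorem L247643 : sm gc N29052 = N31688 := rfl
theorem L247645 : sm ga N31688 = N29053 := ded_8_1 (flp_c L225564) L225555 L247643
theorem L247647 : sm ge N31688 = N31688 := ded_19_2 (flp_c L247643) L225559 L247643
theorem L247648 : sm gf N31688 = N29053 := ded_20_2 (flp_c L225564) (flp_f L225562) L247643
theorem L247650 : sm gg N31688 = N31648 := ded_21_2 (flp_c L247247) (flp_g L225560) L247643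
theorem L247652 : sm gd N29053 = N31689 := rfl
theorem L247654 : sm gg N31689 = N31649 := ded_24_2 (flp_d L247255) (flp_g L225567) L247652
theorem L247656 : sm gc N31689 = N29806 := ded_28_6 L231198 (flp_a L231130) L231126 (flp_d L225611) (flp_c L197603) (flp_d L197563) L225564 L247652
theorem L247658 : sm gc N29054 = N31690 := rfl
theorem L247660 : sm ga N31690 = N29055 := ded_8_1 (flp_c L225580) L225569 L247658
theorem L247662 : sm ge N31690 = N31690 := ded_19_2 (flp_c L247658) L225573 L247658
theorem L247663 : sm gf N31690 = N31650 := ded_20_2 (flp_c L247261) (flp_f L225574) L247658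
theorem L247665 : sm gg N31690 = N29055 := ded_21_2 (flp_c L225580) (flp_g L225576) L247658
theorem L247667 : sm gd N29055 = N31691 := rfl
theorem L247669 : sm gf N31691 = N31651 := ded_23_2 (flp_d L247269) (flp_f L225583) L247667
theorem L247671 : sm gc N31691 = N30006 := ded_28_6 L232983 (flp_a L232923) L232919 (flp_d L225715) (flp_c L197651) (flp_d L197570) L225580 L247667
theorem L247673 : sm ga N29058 = N31692 := rfl
theorem L247675 : sm gc N31692 = N29060 := ded_8_2 (flp_a L225615) (flp_c L225609) L247673
theorem L247677 : sm gd N31692 = N30061 := ded_9_2 L233401 (flp_d L225625) L247673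
theorem L247679 : sm ge N31692 = N31624 := ded_10_2 L247067 L243583 L247673
theorem L247681 : sm gf N31692 = N30060 := ded_11_2 L233397 L225633 L247673
theorem L247683 : sm gg N29374 = N31692 := ded_29_3 (flp_a L247673) (flp_f L225633) L233553 L233587
theorem L247685 : sm gb N31692 = N29148 := ded_7_2 (flp_a L226153) (flp_b L197949) (flp_a L187461) L216485 (flp_a L223032) (flp_b L225641) L225601 L225607 L247673
theorem L247687 : sm gg N29058 = N31693 := rfl
theorem L247689 : sm ga N31693 = N29374 := ded_12_1 L247683 (flp_a L247673) L247687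
theorem L247691 : sm gc N31693 = N29063 := ded_21_1 (flp_g L225651) (flp_c L225609) L247687
theorem L247693 : sm gd N31693 = N30080 := ded_24_1 (flp_g L233557) (flp_d L225625) L247687
theorem L247695 : sm gb N31693 = N30568 := ded_17_1 L237851 L210493 (flp_g L197605) L225607 L247687
theorem L247697 : sm ge N29061 = N31694 := rfl
theorem L247699 : sm ga N31694 = N30742 := ded_10_1 (flp_e L239299) (flp_a L225629) L247697
theorem L247701 : sm gb N31694 = N29064 := ded_15_1 (flp_e L225657) (flp_b L225623) L247697
theorem L247703 : sm gc N31694 = N30741 := ded_19_1 (flp_e L239289) (flp_c L225627) L247697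
theorem L247705 : sm gg N31263 = N31694 := ded_17_0 L247701 L225663 (flp_b L220272) L220288 L244203
theorem L247707 : sm gg N29061 = N31695 := rfl
theorem L247709 : sm ga N31695 = N30743 := ded_12_1 (flp_g L239305) (flp_a L225629) L247707
theorem L247711 : sm gc N31695 = N30389 := ded_21_1 L236251 (flp_c L225627) L247707
theorem L247713 : sm gd N31695 = N29063 := ded_24_1 (flp_g L225651) L225621 L247707
theorem L247715 : sm ge N31695 = N31263 := ded_26_1 L247705 (flp_e L247697) L247707
theorem L247717 : sm gf N31695 = N30387 := ded_29_2 (flp_g L236237) (flp_a L236193) L236195 L247707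
theorem L247719 : sm gb N31695 = N30567 := ded_17_1 (flp_g L237837) L210465 (flp_g L197613) (flp_b L225623) L247707
theorem L247721 : sm gf N29063 = N31696 := rfl
theorem L247723 : sm ga N31696 = N31237 := ded_11_1 (flp_f L243939) (flp_a L225653) L247721
theorem L247725 : sm gd N31696 = N30387 := ded_23_1 (flp_f L247717) L247713 L247721
theorem L247727 : sm gg N31696 = N30386 := ded_29_3 L236231 (flp_f L225647) L225651 L247721
theorem L247729 : sm ge N29065 = N31697 := rfl
theorem L247731 : sm gb N31697 = N29066 := ded_15_1 (flp_e L225671) L225665 L247729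
theorem L247733 : sm gc N31697 = N29112 := ded_19_1 (flp_e L225965) (flp_c L225669) L247729
theorem L247735 : sm gf N29065 = N31698 := rfl
theorem L247737 : sm gc N31698 = N29113 := ded_20_1 (flp_f L225971) (flp_c L225669) L247735
theorem L247739 : sm gd N31698 = N31654 := ded_23_1 (flp_f L247297) (flp_d L225667) L247735
theorem L247741 : sm gb N31698 = N30380 := ded_16_1 L236195 L225623 (flp_f L197621) L225665 L247735
theorem L247743 : sm gg N29868 = N31698 := ded_31_0 (flp_f L247735) (flp_b L225665) L197623 (flp_f L197581) L197579 (flp_g L197729) (flp_f L221584) L245087 L245095 (flp_f L244381) (flp_b L244377) (flp_g L231442) L231440 L231764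
theorem L247745 : sm gd N29066 = N31699 := rfl
theorem L247747 : sm ga N31699 = N29863 := ded_9_1 (flp_d L231712) (flp_a L225673) L247745
theorem L247749 : sm gf N31699 = N31206 := ded_23_2 L243635 (flp_f L225677) L247745
theorem L247751 : sm gg N31699 = N30974 := ded_24_2 L241376 (flp_g L225679) L247745
theorem L247753 : sm ge N31699 = N31184 := ded_22_2 L243435 L219522 (flp_d L197625) L225671 L247745
theorem L247755 : sm gc N29870 = N31699 := ded_28_0 (flp_d L247745) L225675 (flp_d L219791) (flp_c L230992) L230990 (flp_c L231784) (flp_d L231778) L231774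
theorem L247757 : sm ga N29069 = N31700 := rfl
theorem L247759 : sm gc N31700 = N29071 := ded_8_2 (flp_a L225731) (flp_c L225709) L247757
theorem L247761 : sm gd N31700 = N30156 := ded_9_2 L234163 L225713 L247757
theorem L247763 : sm ge N31700 = N31633 := ded_10_2 L247134 L243651 L247757
theorem L247765 : sm gg N31700 = N30154 := ded_12_2 L234151 (flp_g L225711) L247757
theorem L247767 : sm gf N31700 = N29514 := ded_29_0 (flp_g L234331) (flp_f L234307) (flp_g L225711) L247757
theorem L247769 : sm gb N31700 = N29097 := ded_7_2 (flp_a L225881) (flp_b L197769) (flp_a L187535) L216511 (flp_a L223463) (flp_b L225703) L225697 L225707 L247757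
theorem L247771 : sm gf N29069 = N31701 := rfl
theorem L247773 : sm ga N31701 = N29514 := ded_11_1 (flp_f L247767) (flp_a L247757) L247771
theorem L247775 : sm gc N31701 = N29073 := ded_20_1 (flp_f L225747) (flp_c L225709) L247771
theorem L247777 : sm gd N31701 = N30176 := ded_23_1 (flp_f L234333) L225713 L247771
theorem L247779 : sm gb N31701 = N30571 := ded_16_1 L237874 L210547 (flp_f L197653) L225707 L247771
theorem L247781 : sm ge N29072 = N31702 := rfl
theorem L247783 : sm ga N31702 = N30735 := ded_10_1 L239237 (flp_a L225741) L247781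
theorem L247785 : sm gb N31702 = N29075 := ded_15_1 (flp_e L225757) (flp_b L225743) L247781
theorem L247787 : sm gc N31702 = N30734 := ded_19_1 L239229 L225745 L247781
theorem L247789 : sm gf N31292 = N31702 := ded_16_0 L247785 L225763 (flp_b L220702) L220718 L244417
theorem L247791 : sm gf N29072 = N31703 := rfl
theorem L247793 : sm ga N31703 = N30780 := ded_11_1 (flp_f L239653) (flp_a L225741) L247791
theorem L247795 : sm gc N31703 = N30409 := ded_20_1 (flp_f L236390) L225745 L247791
theorem L247797 : sm gd N31703 = N29073 := ded_23_1 (flp_f L225747) L225739 L247791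
theorem L247799 : sm ge N31703 = N31292 := ded_25_1 L247789 (flp_e L247781) L247791
theorem L247801 : sm gg N30407 = N31703 := ded_29_1 (flp_f L247791) (flp_g L236334) L236332 L236376
theorem L247803 : sm gb N31703 = N30570 := ded_16_1 (flp_f L237862) L210519 (flp_f L197661) (flp_b L225743) L247791
theorem L247805 : sm gg N29073 = N31704 := rfl
theorem L247807 : sm ga N31704 = N31261 := ded_12_1 (flp_g L244183) (flp_a L225749) L247805
theorem L247809 : sm gd N31704 = N30407 := ded_24_1 L247801 L247797 L247805
theorem L247811 : sm gf N30406 = N31704 := ded_29_0 (flp_g L247805) (flp_f L225747) L225753 (flp_a L236370)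
theorem L247813 : sm ge N29076 = N31705 := rfl
theorem L247815 : sm gb N31705 = N29077 := ded_15_1 (flp_e L225771) L225765 L247813
theorem L247817 : sm gc N31705 = N29163 := ded_19_1 (flp_e L226251) (flp_c L225769) L247813
theorem L247819 : sm gg N29076 = N31706 := rfl
theorem L247821 : sm gc N31706 = N29165 := ded_21_1 (flp_g L226259) (flp_c L225769) L247819
theorem L247823 : sm gd N31706 = N31655 := ded_24_1 (flp_g L247305) (flp_d L225767) L247819
theorem L247825 : sm gb N31706 = N30400 := ded_17_1 L236334 L225743 (flp_g L197671) L225765 L247819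
theorem L247827 : sm gf N31706 = N29632 := ded_31_1 (flp_b L229626) (flp_g L229288) L229286 L244583 L244587 (flp_f L245393) (flp_b L245387) (flp_g L222020) L197909 (flp_b L197635) L197639 (flp_f L197669) L225765 L247819
theorem L247829 : sm gd N29077 = N31707 := rfl
theorem L247831 : sm ga N31707 = N29627 := ded_9_1 (flp_d L229576) (flp_a L225773) L247829
theorem L247833 : sm gf N31707 = N31001 := ded_23_2 L241610 (flp_f L225777) L247829
theorem L247835 : sm gg N31707 = N31213 := ded_24_2 L243703 (flp_g L225779) L247829
theorem L247837 : sm ge N31707 = N31187 := ded_22_2 L243461 L219562 (flp_d L197673) L225771 L247829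
theorem L247839 : sm gc N29637 = N31707 := ded_28_0 (flp_d L247829) L225775 (flp_d L219826) (flp_c L229700) L229702 L229666 (flp_d L229662) L229660
theorem L247841 : sm ga N29078 = N31708 := rfl
theorem L247843 : sm gd N31708 = N30981 := ded_9_2 (flp_a L241434) (flp_d L225783) L247841
theorem L247845 : sm gf N29078 = N31709 := rfl
theorem L247847 : sm gc N31709 = N31578 := ded_20_1 L246671 L244003 L247845
theorem L247849 : sm gd N31709 = N30983 := ded_23_1 (flp_f L241440) (flp_d L225783) L247845
theorem L247851 : sm ge N31709 = N30673 := ded_25_1 (flp_f L243747) L243743 L247845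
theorem L247853 : sm gg N31709 = N31193 := ded_29_3 (flp_a L247513) L247517 L237993 L247845
theorem L247855 : sm gb N31709 = N30497 := ded_16_1 (flp_f L237209) L209261 L197685 L225781 L247845
theorem L247857 : sm gb N29082 = N31710 := rfl
theorem L247859 : sm ge N31710 = N31272 := ded_15_2 L244271 (flp_e L225803) L247857
theorem L247861 : sm gc N31710 = N29083 := ded_13_2 (flp_b L225807) (flp_c L197715) L197707 L225801 L247857
theorem L247863 : sm gg N31710 = N29161 := ded_17_2 (flp_b L226245) L220818 L200537 (flp_g L225805) L247857
theorem L247865 : sm ga N31710 = N29157 := ded_7_1 (flp_b L226207) L220032 (flp_b L219702) L190849 L219448 (flp_a L234249) (flp_b L244734) L244728 L247857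
theorem L247867 : sm gd N31300 = N31710 := ded_24_3 L247863 (flp_d L226243) L244477
theorem L247869 : sm gd N29082 = N31711 := rfl
theorem L247871 : sm gb N31711 = N31300 := ded_14_1 L247867 (flp_b L247857) L247869
theorem L247873 : sm gg N31711 = N29302 := ded_24_2 (flp_d L227250) (flp_g L225805) L247869
theorem L247875 : sm gf N29083 = N31712 := rfl
theorem L247877 : sm gd N31712 = N31644 := ded_23_1 (flp_f L247223) L246419 L247875
theorem L247879 : sm ge N31712 = N31273 := ded_25_1 (flp_f L244273) (flp_e L225809) L247875
theorem L247881 : sm gg N31712 = N31230 := ded_29_3 (flp_a L244481) L244483 L229778 L247875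
theorem L247883 : sm gb N31712 = N31331 := ded_16_1 (flp_f L244688) (flp_b L221155) (flp_f L197721) L225807 L247875
theorem L247885 : sm gb N29084 = N31713 := rfl
theorem L247887 : sm gd N31713 = N31094 := ded_14_2 L242512 L242446 L247885
theorem L247889 : sm ge N31713 = N31637 := ded_15_2 (flp_b L247172) (flp_e L225817) L247885
theorem L247891 : sm gc N31713 = N29100 := ded_13_2 (flp_b L225907) L197779 (flp_b L197745) (flp_c L225815) L247885
theorem L247893 : sm gf N31713 = N29100 := ded_16_2 (flp_b L225907) (flp_f L197783) (flp_b L199602) L225819 L247885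
theorem L247895 : sm ga N31713 = N31713 := ded_7_1 (flp_b L247885) L225813 (flp_b L211330) (flp_a L237880) L237886 L237880 L211330 (flp_a L225813) L247885
theorem L247896 : sm gf N29090 = N31714 := rfl
theorem L247898 : sm gc N31714 = N30675 := ded_20_1 (flp_f L238645) (flp_c L225853) L247896
theorem L247900 : sm gg N31714 = N29965 := ded_29_1 L232636 (flp_g L245895) L245891 L247896
theorem L247902 : sm gg N29090 = N31715 := rfl
theorem L247904 : sm ga N31715 = N29809 := ded_12_1 (flp_g L245895) L245891 L247902
theorem L247906 : sm gc N31715 = N29808 := ded_21_1 L231212 (flp_c L225853) L247902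
theorem L247908 : sm ge N31715 = N29811 := ded_26_1 (flp_g L245996) L245994 L247902
theorem L247910 : sm gb N31715 = N29114 := ded_17_1 (flp_g L225973) (flp_b L197809) (flp_g L197757) L225851 L247902
theorem L247912 : sm gf N29091 = N31716 := rfl
theorem L247914 : sm gc N31716 = N29093 := ded_20_1 (flp_f L225869) (flp_c L225857) L247912
theorem L247916 : sm ge N31716 = N29092 := ded_25_1 (flp_f L225861) L225855 L247912
theorem L247918 : sm gg N31716 = N29220 := ded_29_3 L226631 (flp_f L225975) (flp_g L225859) L247912
theorem L247920 : sm gb N29092 = N31717 := rfl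
theorem L247922 : sm gd N31717 = N29228 := ded_14_2 (flp_b L226679) (flp_d L225865) L247920
theorem L247924 : sm ga N29094 = N31718 := rfl
theorem L247926 : sm gd N31718 = N29095 := ded_9_2 (flp_a L225877) (flp_d L225875) L247924
theorem L247928 : sm gf N31718 = N31423 := ded_11_2 L245439 L245093 L247924
theorem L247930 : sm gg N31718 = N31288 := ded_12_2 L244383 L244307 L247924
theorem L247932 : sm gc N31070 = N31718 := ded_20_3 L247928 (flp_c L245437) (flp_f L242262)
theorem L247934 : sm gc N29094 = N31719 := rfl
theorem L247936 : sm ga N31719 = N31070 := ded_8_1 L247932 (flp_a L247924) L247934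
theorem L247938 : sm gf N31719 = N31422 := ded_20_2 (flp_c L245435) L245093 L247934
theorem L247940 : sm gd N31072 = N31719 := ded_9_0 L247936 L242260 L242278
theorem L247942 : sm gb N29095 = N31720 := rfl
theorem L247944 : sm gg N29097 = N31721 := rfl
theorem L247946 : sm ga N31721 = N29099 := ded_12_1 (flp_g L225901) L225881 L247944
theorem L247948 : sm gc N31721 = N29101 := ded_21_1 (flp_g L225911) (flp_c L225883) L247944
theorem L247950 : sm gd N31721 = N31087 := ded_24_1 (flp_g L242430) (flp_d L225885) L247944
theorem L247952 : sm ge N31721 = N29378 := ded_26_1 L227806 (flp_e L225887) L247944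
theorem L247954 : sm gf N29405 = N31721 := ded_29_0 (flp_g L247944) L225889 L228681 L228683
theorem L247956 : sm gb N29099 = N31722 := rfl
theorem L247958 : sm gd N31722 = N31089 := ded_14_2 (flp_b L242452) (flp_d L225905) L247956
theorem L247960 : sm gg N31722 = N29100 := ded_17_2 (flp_b L225907) (flp_g L197775) L197769 L225901 L247956
theorem L247962 : sm ga N31722 = N31722 := ded_9_3 L247958 L242457 (flp_d L247958)
theorem L247963 : sm gg N29102 = N31723 := rfl
theorem L247965 : sm ge N31723 = N29104 := ded_26_1 (flp_g L225923) L225915 L247963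
theorem L247967 : sm gg N29103 = N31724 := rfl
theorem L247969 : sm gc N31724 = N30223 := ded_21_1 L234743 L234675 L247967
theorem L247971 : sm gd N31724 = N29106 := ded_24_1 (flp_g L225931) (flp_d L225921) L247967
theorem L247973 : sm gf N30219 = N31724 := ded_29_0 (flp_g L247967) (flp_f L225919) L225923 (flp_a L234711)
theorem L247975 : sm gb N31724 = N31378 := ded_17_1 (flp_g L245045) L221506 L244323 (flp_b L244331) L247967
theorem L247977 : sm gf N29104 = N31725 := rfl
theorem L247979 : sm ga N31725 = N31724 := ded_11_1 (flp_f L247973) L234711 L247977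
theorem L247981 : sm gc N31725 = N30222 := ded_20_1 (flp_f L234735) L234683 L247977
theorem L247983 : sm gd N31725 = N29107 := ded_23_1 (flp_f L225935) (flp_d L225925) L247977
theorem L247985 : sm gg N31725 = N30218 := ded_29_3 L234701 (flp_f L225919) L225923 L247977
theorem L247987 : sm gb N31725 = N31198 := ded_16_1 (flp_f L243559) (flp_b L241946) (flp_f L246078) (flp_b L246084) L247977
theorem L247989 : sm ga N29105 = N31726 := rfl
theorem L247991 : sm gc N31726 = N29134 := ded_8_2 (flp_a L244135) L244137 L247989
theorem L247993 : sm gd N31726 = N31271 := ded_9_2 (flp_a L244325) L244327 L247989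
theorem L247995 : sm ge N31726 = N31301 := ded_10_2 L244481 L243875 L247989
theorem L247997 : sm gf N31726 = N29110 := ded_11_2 (flp_a L225959) (flp_f L225929) L247989
theorem L247999 : sm gb N31726 = N29133 := ded_7_2 (flp_a L244913) L244919 L233487 (flp_b L219416) (flp_a L190813) L219634 L219640 L225927 L247989
theorem L248001 : sm gb N29108 = N31727 := rfl
theorem L248003 : sm gd N31727 = N31572 := ded_14_2 L246607 (flp_d L225949) L248001
theorem L248005 : sm ge N31727 = N29109 := ded_15_2 (flp_b L225955) (flp_e L225951) L248001
theorem L248007 : sm ga N31268 = N31727 := ded_9_3 L248003 L246603 L246429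
theorem L248009 : sm gg N31275 = N31727 := ded_26_0 L248005 (flp_g L229796) (flp_e L244289)
theorem L248011 : sm gc N29109 = N31728 := rfl
theorem L248013 : sm ga N31728 = N31270 := ded_8_1 (flp_c L244259) (flp_a L229792) L248011
theorem L248015 : sm gg N31728 = N31279 := ded_21_2 (flp_c L244309) L229796 L248011
theorem L248017 : sm gf N29111 = N31729 := rfl
theorem L248019 : sm ga N31729 = N31273 := ded_11_1 (flp_f L244273) L229790 L248017
theorem L248021 : sm gd N31729 = N31280 := ded_23_1 (flp_f L244313) (flp_d L229794) L248017
theorem L248023 : sm gg N31729 = N31726 := ded_29_3 (flp_a L247989) L225929 L225961 L248017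
theorem L248025 : sm gb N31729 = N30577 := ded_16_1 L247081 L247083 L243753 (flp_b L225963) L248017
theorem L248027 : sm gf N29112 = N31730 := rfl
theorem L248029 : sm gd N31730 = N30789 := ded_23_1 L239747 (flp_d L225969) L248027
theorem L248031 : sm ge N31730 = N29113 := ded_25_1 (flp_f L225971) L225965 L248027
theorem L248033 : sm gg N29112 = N31731 := rfl
theorem L248035 : sm gd N31731 = N29582 := ded_24_1 L229174 (flp_d L225969) L248033
theorem L248037 : sm ge N31731 = N29114 := ded_26_1 (flp_g L225973) L225965 L248033
theorem L248039 : sm gb N31731 = N29811 := ded_17_1 (flp_g L245996) L245998 L225859 (flp_b L225967) L248033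
theorem L248041 : sm gb N29113 = N31732 := rfl
theorem L248043 : sm gd N31732 = N29243 := ded_14_2 L226806 L226557 L248041
theorem L248045 : sm gc N31732 = N30377 := ded_13_2 L236169 L236191 (flp_b L247741) L247737 L248041
theorem L248047 : sm gf N31732 = N29116 := ded_16_2 (flp_b L225981) (flp_f L197815) L197809 L225971 L248041
theorem L248049 : sm gg N31732 = N29241 := ded_17_2 L226784 L213809 L240623 L240629 L248041
theorem L248051 : sm ga N31732 = N29116 := ded_30_3 (flp_f L248047) L248045 L236169 L207630 (flp_f L181605) L212211 (flp_b L232466) L232462 (flp_f L219648) (flp_c L219650) L203383 (flp_a L203417) (flp_f L203415) L203403 L233129 (flp_a L233133) L247735 L247737 L248041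
theorem L248053 : sm gf N29114 = N31733 := rfl
theorem L248055 : sm ga N31733 = N30895 := ded_11_1 L240627 L240117 L248053
theorem L248057 : sm gg N31733 = N30834 := ded_29_3 L240113 (flp_f L225971) L225973 L248053
theorem L248059 : sm gb N29115 = N31734 := rfl
theorem L248061 : sm ge N31734 = N29116 := ded_15_2 (flp_b L225981) (flp_e L225979) L248059
theorem L248063 : sm gg N29115 = N31735 := rfl
theorem L248065 : sm ga N31735 = N31716 := ded_12_1 L247918 L226631 L248063
theorem L248067 : sm gc N31735 = N29119 := ded_21_1 (flp_g L225997) (flp_c L225977) L248063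
theorem L248069 : sm ge N31735 = N29117 := ded_26_1 (flp_g L225983) (flp_e L225979) L248063
theorem L248071 : sm gf N29198 = N31735 := ded_29_0 (flp_g L248063) (flp_f L225975) (flp_g L225859) (flp_a L226463)
theorem L248073 : sm gb N29117 = N31736 := rfl
theorem L248075 : sm gd N31736 = N29201 := ded_14_2 (flp_b L226483) (flp_d L225989) L248073
theorem L248077 : sm gf N31736 = N29967 := ded_16_2 (flp_b L232648) (flp_f L226455) L226453 L225991 L248073
theorem L248079 : sm ga N29118 = N31737 := rfl
theorem L248081 : sm ge N31737 = N29120 := ded_10_2 (flp_a L226005) (flp_e L225995) L248079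
theorem L248083 : sm gf N31737 = N29855 := ded_11_2 (flp_a L231720) L231724 L248079
theorem L248085 : sm gg N31661 = N31737 := ded_29_3 (flp_a L248079) (flp_f L231724) (flp_g L231730) L247367
theorem L248087 : sm gc N31737 = N29849 := ded_28_0 (flp_d L231596) (flp_c L201918) L169854 L169884 L201948 L231612 (flp_d L231618) L248079
theorem L248089 : sm gc N29118 = N31738 := rfl
theorem L248091 : sm ga N31738 = N29849 := ded_8_1 (flp_c L248087) (flp_a L248079) L248089
theorem L248093 : sm ge N31738 = N29121 := ded_19_2 (flp_c L226011) (flp_e L225995) L248089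
theorem L248095 : sm gf N31738 = N29854 := ded_20_2 L231726 L231724 L248089
theorem L248097 : sm gd N31738 = N29848 := ded_28_7 L231588 (flp_c L201918) L169854 L169884 L201948 L231612 (flp_d L231618) L248089
theorem L248099 : sm gg N30878 = N31738 := ded_12_0 L248091 (flp_g L247590) L247586
theorem L248101 : sm gg N29118 = N31739 := rfl
theorem L248103 : sm ga N31739 = N31661 := ded_12_1 L248085 (flp_a L248079) L248101
theorem L248105 : sm gc N31739 = N30878 := ded_21_1 L248099 (flp_c L248089) L248101
theorem L248107 : sm gd N31739 = N31684 := ded_24_1 L247602 (flp_d L231618) L248101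
theorem L248109 : sm ge N31739 = N29122 := ded_26_1 (flp_g L226013) (flp_e L225995) L248101
theorem L248111 : sm gf N31660 = N31739 := ded_29_0 (flp_g L248101) (flp_f L231724) (flp_g L231730) L247359
theorem L248113 : sm gb N29119 = N31740 := rfl
theorem L248115 : sm ge N31740 = N29123 := ded_15_2 (flp_b L226021) (flp_e L226001) L248113
theorem L248117 : sm gb N29120 = N31741 := rfl
theorem L248119 : sm gd N31741 = N29124 := ded_14_2 (flp_b L226025) (flp_d L226007) L248117
theorem L248121 : sm gg N31741 = N31464 := ded_17_2 (flp_b L245761) L243857 L243849 L226009 L248117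
theorem L248123 : sm ga N31741 = N31267 := ded_7_1 (flp_b L244237) L220376 L220394 (flp_a L229792) (flp_b L225955) L197801 L197823 L226005 L248117
theorem L248125 : sm gg N29121 = N31742 := rfl
theorem L248127 : sm ga N31742 = N31663 := ded_12_1 L247389 L239977 L248125
theorem L248129 : sm gc N31742 = N29122 := ded_21_1 (flp_g L226013) L226011 L248125
theorem L248131 : sm gd N31742 = N30619 := ded_24_1 L238197 L226770 L248125
theorem L248133 : sm ge N31742 = N30878 := ded_26_1 L248099 L248093 L248125
theorem L248135 : sm gf N30816 = N31742 := ded_29_0 (flp_g L248125) (flp_f L239281) L239283 (flp_a L239987)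
theorem L248137 : sm gb N31742 = N30620 := ded_17_1 L238207 L226747 L226760 (flp_b L226766) L248125
theorem L248139 : sm gb N29122 = N31743 := rfl
theorem L248141 : sm gd N31743 = N29125 := ded_14_2 (flp_b L226027) (flp_d L226017) L248139
theorem L248143 : sm gg N31743 = N29123 := ded_17_2 (flp_b L226021) (flp_g L197827) L197823 L226013 L248139
theorem L248145 : sm ga N31743 = N31203 := ded_7_1 L243607 L219781 L190906 (flp_a L191045) (flp_b L219942) (flp_a L243847) L243849 (flp_a L226015) L248139
theorem L248147 : sm ga N29123 = N31744 := rfl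
theorem L248149 : sm gd N31744 = N29126 := ded_9_2 (flp_a L226035) (flp_d L226023) L248147
theorem L248151 : sm gg N31744 = N31203 := ded_12_2 (flp_a L248145) L248143 L248147
theorem L248153 : sm gb N31152 = N31744 := ded_14_3 L248149 (flp_b L226041) (flp_d L243045)
theorem L248155 : sm gc N29123 = N31745 := rfl
theorem L248157 : sm gf N29123 = N31746 := rfl
theorem L248159 : sm gd N31746 = N29128 := ded_23_1 (flp_f L226049) (flp_d L226023) L248157
theorem L248161 : sm gb N31746 = N31038 := ded_16_1 L241938 L225833 L197833 L226021 L248157
theorem L248163 : sm gc N29124 = N31747 := rfl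
theorem L248165 : sm ge N31747 = N31557 := ded_19_2 L246495 L243935 L248163
theorem L248167 : sm gb N31747 = N31676 := ded_13_1 (flp_c L247511) (flp_b L225417) (flp_c L197837) L226025 L248163
theorem L248169 : sm gf N31555 = N31747 := ded_30_0 (flp_c L248163) (flp_b L226025) (flp_a L197835) (flp_f L197222) (flp_c L197255) (flp_b L197253) (flp_a L197234) (flp_f L197232) (flp_c L166658) L151158 (flp_a L115507) L115513 (flp_c L166674) L197253 L225313 L225317 (flp_c L197837) L226025 (flp_a L246473)
theorem L248171 : sm gf N29124 = N31748 := rfl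
theorem L248173 : sm ga N31748 = N31747 := ded_11_1 (flp_f L248169) L246473 L248171
theorem L248175 : sm gc N31748 = N31555 := ded_20_1 L248169 (flp_c L248163) L248171
theorem L248177 : sm ge N31748 = N31556 := ded_25_1 (flp_f L246483) L243935 L248171
theorem L248179 : sm gb N31748 = N30667 := ded_16_1 L238639 (flp_b L238641) L225287 L226025 L248171
theorem L248181 : sm gg N29124 = N31749 := rfl
theorem L248183 : sm ga N31749 = N31455 := ded_12_1 (flp_g L246471) L246473 L248181
theorem L248185 : sm gd N31749 = N31464 := ded_24_1 (flp_g L248121) L248119 L248181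
theorem L248187 : sm ge N31749 = N31456 := ded_26_1 L245703 L243935 L248181
theorem L248189 : sm gb N31749 = N31229 := ded_17_1 (flp_g L243859) (flp_b L219938) L197839 L226025 L248181
theorem L248191 : sm gf N29125 = N31750 := rfl
theorem L248193 : sm ga N31750 = N31204 := ded_11_1 (flp_f L243609) (flp_a L226033) L248191
theorem L248195 : sm ge N31750 = N30386 := ded_25_1 L236233 (flp_e L226029) L248191
theorem L248197 : sm gb N31750 = N31666 := ded_16_1 (flp_f L247411) (flp_b L225363) L197847 L226027 L248191
theorem L248199 : sm gc N29126 = N31751 := rfl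
theorem L248201 : sm ga N31751 = N29127 := ded_8_1 (flp_c L226043) L226035 L248199
theorem L248203 : sm ge N31751 = N31693 := ded_19_2 L247691 (flp_e L226037) L248199
theorem L248205 : sm gg N31751 = N31201 := ded_21_2 L243585 (flp_g L226039) L248199
theorem L248207 : sm gb N31751 = N31153 := ded_13_1 (flp_c L243047) (flp_b L218664) (flp_c L218660) L226041 L248199
theorem L248209 : sm gd N30610 = N31751 := ded_9_0 L248201 (flp_d L226047) L238121
theorem L248211 : sm gf N29126 = N31752 := rfl
theorem L248213 : sm ga N31752 = N29128 := ded_11_1 (flp_f L226049) L226035 L248211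
theorem L248215 : sm ge N31752 = N31696 := ded_25_1 (flp_f L247721) (flp_e L226037) L248211
theorem L248217 : sm gg N31752 = N31750 := ded_29_3 L248193 (flp_f L243609) (flp_g L226039) L248211
theorem L248219 : sm gf N29127 = N31753 := rfl
theorem L248221 : sm gc N31753 = N29128 := ded_20_1 (flp_f L226049) L226043 L248219
theorem L248223 : sm gd N31753 = N30075 := ded_23_1 L233521 L226047 L248219
theorem L248225 : sm ge N31753 = N30079 := ded_25_1 L233587 L227780 L248219
theorem L248227 : sm gg N30073 = N31753 := ded_29_1 (flp_f L248219) (flp_g L247071) L247067 (flp_f L243587)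
theorem L248229 : sm ga N29132 = N31754 := rfl
theorem L248231 : sm gd N31754 = N31008 := ded_9_2 (flp_a L241668) (flp_d L226071) L248229
theorem L248233 : sm gg N29132 = N31755 := rfl
theorem L248235 : sm gc N31755 = N31558 := ded_21_1 L246505 L243745 L248233
theorem L248237 : sm gd N31755 = N31010 := ded_24_1 (flp_g L241674) (flp_d L226071) L248233
theorem L248239 : sm ge N31755 = N30653 := ded_26_1 (flp_g L244005) L244001 L248233
theorem L248241 : sm gf N31197 = N31755 := ded_29_0 (flp_g L248233) (flp_f L238067) (flp_g L247409) L247407
theorem L248243 : sm gb N31755 = N30493 := ded_17_1 (flp_g L237175) L209231 (flp_g L197881) L226069 L248233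
theorem L248245 : sm gd N29133 = N31756 := rfl
theorem L248247 : sm gb N31756 = N31271 := ded_14_1 (flp_d L247993) L247999 L248245
theorem L248249 : sm gf N31756 = N29445 := ded_23_2 (flp_d L228202) (flp_f L226077) L248245
theorem L248251 : sm gg N29134 = N31757 := rfl
theorem L248253 : sm gc N31757 = N31729 := ded_21_1 L248023 L247991 L248251
theorem L248255 : sm gd N31757 = N31639 := ded_24_1 L247189 L246581 L248251
theorem L248257 : sm ge N31757 = N31302 := ded_26_1 (flp_g L244487) (flp_e L226081) L248251
theorem L248259 : sm gf N31254 = N31757 := ded_29_0 (flp_g L248251) (flp_f L231884) (flp_g L244269) L244267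
theorem L248261 : sm gb N31757 = N31357 := ded_17_1 (flp_g L244873) (flp_b L221324) (flp_g L197903) L226079 L248251
theorem L248263 : sm gb N29135 = N31758 := rfl
theorem L248265 : sm gd N31758 = N31061 := ded_14_2 L242188 L242122 L248263
theorem L248267 : sm ge N31758 = N31628 := ded_15_2 (flp_b L247105) (flp_e L226089) L248263
theorem L248269 : sm gc N31758 = N29151 := ded_13_2 (flp_b L226179) L197959 (flp_b L197925) (flp_c L226087) L248263
theorem L248271 : sm gg N31758 = N29151 := ded_17_2 (flp_b L226179) L197963 (flp_b L199036) (flp_g L226091) L248263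
theorem L248273 : sm ga N31758 = N31758 := ded_7_1 (flp_b L248263) L226085 (flp_b L211537) (flp_a L237855) L237861 L237855 L211537 (flp_a L226085) L248263
theorem L248274 : sm gf N29141 = N31759 := rfl
theorem L248276 : sm ga N31759 = N30009 := ded_11_1 (flp_f L246322) L246318 L248274
theorem L248278 : sm gc N31759 = N30008 := ded_20_1 L233003 (flp_c L226125) L248274
theorem L248280 : sm ge N31759 = N30011 := ded_25_1 (flp_f L246395) L246393 L248274
theorem L248282 : sm gb N31759 = N29164 := ded_16_1 (flp_f L226257) (flp_b L197989) (flp_f L197937) L226123 L248274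
theorem L248284 : sm gg N29141 = N31760 := rfl
theorem L248286 : sm gc N31760 = N30745 := ded_21_1 (flp_g L239321) (flp_c L226125) L248284
theorem L248288 : sm gf N31760 = N29758 := ded_29_2 L233013 (flp_a L248276) (flp_f L248274) L248284
theorem L248290 : sm gg N29142 = N31761 := rfl
theorem L248292 : sm gc N31761 = N29144 := ded_21_1 (flp_g L226141) (flp_c L226129) L248290
theorem L248294 : sm ge N31761 = N29143 := ded_26_1 (flp_g L226133) L226127 L248290
theorem L248296 : sm gf N29275 = N31761 := ded_29_0 (flp_g L248290) L226131 L226261 (flp_a L227056)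
theorem L248298 : sm gb N29143 = N31762 := rfl
theorem L248300 : sm gd N31762 = N29283 := ded_14_2 (flp_b L227112) (flp_d L226137) L248298
theorem L248302 : sm ga N29145 = N31763 := rfl
theorem L248304 : sm gd N31763 = N29146 := ded_9_2 (flp_a L226149) (flp_d L226147) L248302
theorem L248306 : sm gf N31763 = N31316 := ded_11_2 L244589 L244521 L248302
theorem L248308 : sm gg N31763 = N31386 := ded_12_2 (flp_a L245399) L245395 L248302
theorem L248310 : sm gc N31033 = N31763 := ded_21_3 L248308 (flp_c L245127) (flp_g L241898)
theorem L248312 : sm gc N29145 = N31764 := rfl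
theorem L248314 : sm ga N31764 = N31033 := ded_8_1 L248310 (flp_a L248302) L248312
theorem L248316 : sm gg N31764 = N31385 := ded_21_2 L245397 L245395 L248312
theorem L248318 : sm gd N31035 = N31764 := ded_9_0 L248314 L241896 L241914
theorem L248320 : sm gb N29146 = N31765 := rfl
theorem L248322 : sm gf N29148 = N31766 := rfl
theorem L248324 : sm ga N31766 = N29149 := ded_11_1 (flp_f L226163) L226153 L248322
theorem L248326 : sm gc N31766 = N29152 := ded_20_1 (flp_f L226183) (flp_c L226155) L248322
theorem L248328 : sm gd N31766 = N31054 := ded_23_1 (flp_f L242106) (flp_d L226157) L248322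
theorem L248330 : sm ge N31766 = N29518 := ded_25_1 L228727 (flp_e L226159) L248322
theorem L248332 : sm gg N31766 = N29545 := ded_29_3 L228926 (flp_f L227760) L226161 L248322
theorem L248334 : sm gb N29149 = N31767 := rfl
theorem L248336 : sm gd N31767 = N31056 := ded_14_2 (flp_b L242128) (flp_d L226167) L248334
theorem L248338 : sm gf N31767 = N29151 := ded_16_2 (flp_b L226179) (flp_f L197955) L197949 L226163 L248334
theorem L248340 : sm ga N31767 = N31767 := ded_30_3 L248338 (flp_c L248269) (flp_b L248263) L226085 (flp_f L219426) (flp_c L219420) (flp_b L190651) (flp_a L158999) (flp_f L158997) (flp_c L158993) L190807 L219626 L220020 L220016 (flp_b L220024) (flp_a L197965) L197971 (flp_c L226165) L248334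
theorem L248341 : sm gf N29153 = N31768 := rfl
theorem L248343 : sm ge N31768 = N29154 := ded_25_1 (flp_f L226191) L226187 L248341
theorem L248345 : sm gg N29154 = N31769 := rfl
theorem L248347 : sm gc N31769 = N30241 := ded_21_1 L234891 L234821 L248345
theorem L248349 : sm gd N31769 = N29156 := ded_24_1 (flp_g L226199) (flp_d L226193) L248345
theorem L248351 : sm gf N30237 = N31769 := ded_29_0 (flp_g L248345) (flp_f L226191) L226195 (flp_a L234857)
theorem L248353 : sm gb N31769 = N31199 := ded_17_1 L243567 (flp_b L242310) (flp_g L245665) L245669 L248345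
theorem L248355 : sm gf N29155 = N31770 := rfl
theorem L248357 : sm ga N31770 = N31769 := ded_11_1 (flp_f L248351) L234857 L248355
theorem L248359 : sm gc N31770 = N30240 := ded_20_1 (flp_f L234881) L234829 L248355
theorem L248361 : sm gd N31770 = N29158 := ded_23_1 (flp_f L226211) (flp_d L226197) L248355
theorem L248363 : sm gg N31770 = N30236 := ded_29_3 L234847 (flp_f L226191) L226195 L248355
theorem L248365 : sm gb N31770 = N31417 := ded_16_1 (flp_f L245369) L221962 L244537 (flp_b L244545) L248355
theorem L248367 : sm gb N29159 = N31771 := rfl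
theorem L248369 : sm gd N31771 = N31552 := ded_14_2 L246441 (flp_d L226221) L248367
theorem L248371 : sm ge N31771 = N29160 := ded_15_2 (flp_b L226227) (flp_e L226223) L248367
theorem L248373 : sm ga N31297 = N31771 := ded_9_3 L248369 L246599 L246591
theorem L248375 : sm gf N31304 = N31771 := ded_25_0 L248371 (flp_f L226247) (flp_e L244503)
theorem L248377 : sm gc N29160 = N31772 := rfl
theorem L248379 : sm ga N31772 = N31299 := ded_8_1 (flp_c L244473) (flp_a L226249) L248377
theorem L248381 : sm gf N31772 = N31308 := ded_20_2 (flp_c L244523) L226247 L248377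
theorem L248383 : sm gg N29162 = N31773 := rfl
theorem L248385 : sm ga N31773 = N31302 := ded_12_1 (flp_g L244487) L226237 L248383
theorem L248387 : sm gc N31773 = N31712 := ded_21_1 L247881 L243877 L248383
theorem L248389 : sm gd N31773 = N31309 := ded_24_1 (flp_g L244527) (flp_d L226241) L248383
theorem L248391 : sm gf N31710 = N31773 := ded_29_0 (flp_g L248383) (flp_f L226233) (flp_g L226209) (flp_a L247865)
theorem L248393 : sm gb N31773 = N30584 := ded_17_1 (flp_g L247148) L247150 (flp_g L243989) (flp_b L226235) L248383
theorem L248395 : sm gf N29163 = N31774 := rfl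
theorem L248397 : sm gd N31774 = N29828 := ded_23_1 L231384 (flp_d L226255) L248395
theorem L248399 : sm ge N31774 = N29164 := ded_25_1 (flp_f L226257) L226251 L248395
theorem L248401 : sm gb N31774 = N30011 := ded_16_1 (flp_f L246395) L246397 L226131 (flp_b L226253) L248395
theorem L248403 : sm gg N29163 = N31775 := rfl
theorem L248405 : sm gd N31775 = N30847 := ded_24_1 L240225 (flp_d L226255) L248403
theorem L248407 : sm ge N31775 = N29165 := ded_26_1 (flp_g L226259) L226251 L248403
theorem L248409 : sm gg N29164 = N31776 := rfl
theorem L248411 : sm ga N31776 = N30838 := ded_12_1 L240603 L240601 L248409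
theorem L248413 : sm gf N30893 = N31776 := ded_29_0 (flp_g L248409) (flp_f L226257) L226259 (flp_a L240611)
theorem L248415 : sm gb N29165 = N31777 := rfl
theorem L248417 : sm gd N31777 = N29188 := ded_14_2 (flp_b L226992) L226972 L248415
theorem L248419 : sm gc N31777 = N30397 := ded_13_2 L236308 L236330 (flp_b L247825) L247821 L248415
theorem L248421 : sm gf N31777 = N29186 := ded_16_2 L226385 (flp_f L213293) L240135 L240605 L248415
theorem L248423 : sm gg N31777 = N29167 := ded_17_2 (flp_b L226267) (flp_g L197995) L197989 L226259 L248415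
theorem L248425 : sm ga N29167 = N31777 := ded_9_3 L248417 (flp_a L226998) L226988
theorem L248427 : sm gb N29166 = N31778 := rfl
theorem L248429 : sm ge N31778 = N29167 := ded_15_2 (flp_b L226267) (flp_e L226265) L248427
theorem L248431 : sm gf N29166 = N31779 := rfl
theorem L248433 : sm ga N31779 = N31761 := ded_11_1 (flp_f L248296) L227056 L248431
theorem L248435 : sm gc N31779 = N29170 := ded_20_1 (flp_f L226283) (flp_c L226263) L248431
theorem L248437 : sm ge N31779 = N29168 := ded_25_1 (flp_f L226269) (flp_e L226265) L248431
theorem L248439 : sm gg N31779 = N29253 := ded_29_3 L226874 L226131 L226261 L248431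
theorem L248441 : sm gb N29168 = N31780 := rfl
theorem L248443 : sm gd N31780 = N29256 := ded_14_2 (flp_b L226894) (flp_d L226275) L248441
theorem L248445 : sm gg N31780 = N29757 := ded_17_2 (flp_b L230688) (flp_g L226868) L226864 (flp_g L226277) L248441
theorem L248447 : sm ga N31736 = N31780 := ded_9_3 L248443 (flp_a L227108) (flp_d L248075)
theorem L248449 : sm ga N29169 = N31781 := rfl
theorem L248451 : sm ge N31781 = N29171 := ded_10_2 (flp_a L226291) (flp_e L226281) L248449
theorem L248453 : sm gg N31781 = N29618 := ded_12_2 (flp_a L229584) L229588 L248449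
theorem L248455 : sm gf N31781 = N31672 := ded_29_0 (flp_g L247471) L229594 L229588 L248449
theorem L248457 : sm gc N31781 = N29612 := ded_28_0 (flp_d L229450) (flp_c L200239) L168857 L168883 L200273 L229474 (flp_d L229480) L248449
theorem L248459 : sm gc N29169 = N31782 := rfl
theorem L248461 : sm ga N31782 = N29612 := ded_8_1 (flp_c L248457) (flp_a L248449) L248459
theorem L248463 : sm ge N31782 = N29172 := ded_19_2 (flp_c L226297) (flp_e L226281) L248459
theorem L248465 : sm gg N31782 = N29617 := ded_21_2 L229590 L229588 L248459
theorem L248467 : sm gd N31782 = N29611 := ded_28_7 L229442 (flp_c L200239) L168857 L168883 L200273 L229474 (flp_d L229480) L248459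
theorem L248469 : sm gf N30821 = N31782 := ded_11_0 L248461 (flp_f L247529) L247527
theorem L248471 : sm gf N29169 = N31783 := rfl
theorem L248473 : sm ga N31783 = N31672 := ded_11_1 (flp_f L248455) (flp_a L248449) L248471
theorem L248475 : sm gc N31783 = N30821 := ded_20_1 L248469 (flp_c L248459) L248471
theorem L248477 : sm gd N31783 = N31679 := ded_23_1 L247543 (flp_d L229480) L248471
theorem L248479 : sm ge N31783 = N29173 := ded_25_1 (flp_f L226299) (flp_e L226281) L248471
theorem L248481 : sm gg N31783 = N31671 := ded_29_3 (flp_a L247463) L229594 L229588 L248471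
theorem L248483 : sm gb N29170 = N31784 := rfl
theorem L248485 : sm ge N31784 = N29174 := ded_15_2 (flp_b L226307) (flp_e L226287) L248483
theorem L248487 : sm gb N29171 = N31785 := rfl
theorem L248489 : sm gd N31785 = N29175 := ded_14_2 (flp_b L226311) (flp_d L226293) L248487
theorem L248491 : sm gf N31785 = N31524 := ded_16_2 (flp_b L246208) L244101 L244093 (flp_f L226295) L248487
theorem L248493 : sm ga N31785 = N31296 := ded_7_1 (flp_b L244451) L220806 L220824 (flp_a L226249) (flp_b L226227) L197981 L198003 L226291 L248487
theorem L248495 : sm gf N29172 = N31786 := rfl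
theorem L248497 : sm ga N31786 = N31674 := ded_11_1 (flp_f L247493) L240475 L248495
theorem L248499 : sm gc N31786 = N29173 := ded_20_1 (flp_f L226299) L226297 L248495
theorem L248501 : sm gd N31786 = N30630 := ded_23_1 L238291 (flp_d L227006) L248495
theorem L248503 : sm ge N31786 = N30821 := ded_25_1 L248469 L248463 L248495
theorem L248505 : sm gg N31786 = N30873 := ded_29_3 L240463 (flp_f L239645) L239647 L248495
theorem L248507 : sm gb N31786 = N30631 := ded_16_1 L238301 L226349 L226367 L227004 L248495
theorem L248509 : sm gb N29173 = N31787 := rfl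
theorem L248511 : sm gd N31787 = N29176 := ded_14_2 (flp_b L226313) (flp_d L226303) L248509
theorem L248513 : sm gf N31787 = N29174 := ded_16_2 (flp_b L226307) (flp_f L198007) L198003 L226299 L248509
theorem L248515 : sm ga N31787 = N31210 := ded_7_1 L243675 L219816 L190937 (flp_a L191189) (flp_b L220158) (flp_a L244091) L244093 (flp_a L226301) L248509
theorem L248517 : sm ga N29174 = N31788 := rfl
theorem L248519 : sm gd N31788 = N29177 := ded_9_2 (flp_a L226321) (flp_d L226309) L248517
theorem L248521 : sm gf N31788 = N31210 := ded_11_2 (flp_a L248515) L248513 L248517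
theorem L248523 : sm gb N31162 = N31788 := ded_14_3 L248519 (flp_b L226327) (flp_d L243171)
theorem L248525 : sm gc N29174 = N31789 := rfl
theorem L248527 : sm gg N29174 = N31790 := rfl
theorem L248529 : sm gd N31790 = N29179 := ded_24_1 (flp_g L226335) (flp_d L226309) L248527
theorem L248531 : sm gb N31790 = N31075 := ded_17_1 L242302 L226105 (flp_g L198013) L226307 L248527
theorem L248533 : sm gc N29175 = N31791 := rfl
theorem L248535 : sm ge N31791 = N31577 := ded_19_2 L246661 L244179 L248533
theorem L248537 : sm gb N31791 = N31665 := ded_13_1 (flp_c L247405) (flp_b L225363) (flp_c L198017) L226311 L248533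
theorem L248539 : sm gg N31575 = N31791 := ded_26_0 L248535 (flp_g L246657) (flp_e L246635)
theorem L248541 : sm gf N29175 = N31792 := rfl
theorem L248543 : sm ga N31792 = N31509 := ded_11_1 (flp_f L246637) L246639 L248541
theorem L248545 : sm gd N31792 = N31524 := ded_23_1 (flp_f L248491) L248489 L248541
theorem L248547 : sm ge N31792 = N31510 := ded_25_1 L246108 L244179 L248541
theorem L248549 : sm gb N31792 = N31253 := ded_16_1 (flp_f L244103) (flp_b L220152) (flp_f L198019) L226311 L248541
theorem L248551 : sm gg N29175 = N31793 := rfl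
theorem L248553 : sm ga N31793 = N31791 := ded_12_1 (flp_g L248539) L246639 L248551
theorem L248555 : sm gc N31793 = N31575 := ded_21_1 L248539 (flp_c L248533) L248551
theorem L248557 : sm ge N31793 = N31576 := ded_26_1 (flp_g L246655) L244179 L248551
theorem L248559 : sm gb N31793 = N30647 := ded_17_1 (flp_g L238483) L238485 L225319 L226311 L248551
theorem L248561 : sm gg N29176 = N31794 := rfl
theorem L248563 : sm ga N31794 = N31211 := ded_12_1 (flp_g L243677) (flp_a L226319) L248561
theorem L248565 : sm ge N31794 = N30406 := ded_26_1 L236372 (flp_e L226315) L248561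
theorem L248567 : sm gb N31794 = N31677 := ded_17_1 (flp_g L247519) (flp_b L225417) (flp_g L198027) L226313 L248561
theorem L248569 : sm gc N29177 = N31795 := rfl
theorem L248571 : sm ga N31795 = N29178 := ded_8_1 (flp_c L226329) L226321 L248569
theorem L248573 : sm ge N31795 = N31701 := ded_19_2 L247775 (flp_e L226323) L248569
theorem L248575 : sm gf N31795 = N31208 := ded_20_2 L243653 (flp_f L226325) L248569
theorem L248577 : sm gb N31795 = N31163 := ded_13_1 (flp_c L243173) (flp_b L218896) (flp_c L218892) L226327 L248569
theorem L248579 : sm gd N30598 = N31795 := ded_9_0 L248571 (flp_d L226333) L238041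
theorem L248581 : sm gg N29177 = N31796 := rfl
theorem L248583 : sm ga N31796 = N29179 := ded_12_1 (flp_g L226335) L226321 L248581
theorem L248585 : sm ge N31796 = N31704 := ded_26_1 (flp_g L247805) (flp_e L226323) L248581
theorem L248587 : sm gf N31794 = N31796 := ded_29_0 (flp_g L248581) L226325 L243677 (flp_a L248563)
theorem L248589 : sm gg N29178 = N31797 := rfl
theorem L248591 : sm gc N31797 = N29179 := ded_21_1 (flp_g L226335) L226329 L248589
theorem L248593 : sm gd N31797 = N30168 := ded_24_1 L234267 L226333 L248589
theorem L248595 : sm ge N31797 = N30173 := ded_26_1 L234331 L228703 L248589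
theorem L248597 : sm gf N31797 = N30167 := ded_29_2 L243655 (flp_a L247134) L247138 L248589
theorem L248599 : sm gc N29181 = N31798 := rfl
theorem L248601 : sm ge N31798 = N30827 := ded_19_2 L240057 (flp_e L226353) L248599
theorem L248603 : sm gg N31798 = N30501 := ded_21_2 (flp_c L237247) (flp_g L226351) L248599
theorem L248605 : sm gb N29182 = N31799 := rfl
theorem L248607 : sm gd N31799 = N29281 := ded_14_2 L227096 (flp_d L226358) L248605
theorem L248609 : sm gf N31799 = N31780 := ded_16_2 (flp_b L248441) (flp_f L226269) L226267 (flp_f L227002) L248605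
theorem L248611 : sm ga N31799 = N29967 := ded_7_1 (flp_b L232648) (flp_a L214214) L214220 (flp_a L223511) L226537 L213297 (flp_b L226385) L226383 L248605
theorem L248613 : sm ge N29182 = N31800 := rfl
theorem L248615 : sm ga N31800 = N29678 := ded_10_1 L230065 L226383 L248613
theorem L248617 : sm gc N31800 = N29183 := ded_19_1 (flp_e L226360) L226355 L248613
theorem L248619 : sm gf N31800 = N31778 := ded_25_2 L248429 (flp_f L227002) L248613
theorem L248621 : sm gg N31800 = N31800 := ded_26_2 (flp_e L248613) L226357 L248613
theorem L248622 : sm gf N29183 = N31801 := rfl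
theorem L248624 : sm gc N31801 = N31778 := ded_20_1 (flp_f L248619) L248617 L248622
theorem L248626 : sm gd N31801 = N30832 := ded_23_1 (flp_f L240093) (flp_d L226365) L248622
theorem L248628 : sm ge N31801 = N29184 := ded_25_1 (flp_f L226367) L226360 L248622
theorem L248630 : sm gb N31801 = N31782 := ded_16_1 (flp_f L248469) (flp_b L240027) L213239 (flp_b L226362) L248622
theorem L248632 : sm gf N29187 = N31802 := rfl
theorem L248634 : sm gc N31802 = N29189 := ded_20_1 (flp_f L226401) (flp_c L226394) L248632
theorem L248636 : sm gd N31802 = N30852 := ded_23_1 (flp_f L242666) L242660 L248632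
theorem L248638 : sm ge N31802 = N29188 := ded_25_1 (flp_f L226397) L226390 L248632
theorem L248640 : sm gb N31802 = N30854 := ded_16_1 L242822 (flp_b L242816) L217912 (flp_b L226392) L248632
theorem L248642 : sm gb N29189 = N31803 := rfl
theorem L248644 : sm gd N31803 = N30248 := ded_14_2 (flp_b L234961) (flp_d L226403) L248642
theorem L248646 : sm ge N31803 = N29190 := ded_15_2 (flp_b L226407) (flp_e L226405) L248642
theorem L248648 : sm gf N31803 = N29202 := ded_16_2 (flp_b L226485) (flp_f L198169) (flp_b L198092) L226401 L248642
theorem L248650 : sm ga N30736 = N31803 := ded_9_3 L248644 (flp_a L234969) L239241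
theorem L248652 : sm gg N30391 = N31803 := ded_24_0 L248644 (flp_g L234971) L236262
theorem L248654 : sm gc N29190 = N31804 := rfl
theorem L248656 : sm ga N31804 = N30931 := ded_8_1 L240958 L226431 L248654
theorem L248658 : sm gf N31804 = N29204 := ded_20_2 (flp_c L226497) (flp_f L226411) L248654
theorem L248660 : sm gg N31804 = N30393 := ded_21_2 (flp_c L236278) L226413 L248654
theorem L248662 : sm gb N29191 = N31805 := rfl
theorem L248664 : sm gc N31805 = N29195 := ded_13_2 (flp_b L226437) (flp_c L198133) (flp_b L198115) L226415 L248662
theorem L248666 : sm gf N31805 = N29195 := ded_16_2 (flp_b L226437) L198344 L226679 (flp_f L226685) L248662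
theorem L248668 : sm gg N31805 = N30927 := ded_17_2 (flp_b L240912) (flp_g L214238) L240954 L240960 L248662
theorem L248670 : sm gd N31714 = N31805 := ded_28_5 L248664 L226439 (flp_a L245891) (flp_c L245889) L223054 (flp_c L211655) (flp_d L238647) (flp_c L247898)
theorem L248672 : sm gd N29191 = N31806 := rfl
theorem L248674 : sm ga N31806 = N31486 := ded_9_1 L245913 L236280 L248672
theorem L248676 : sm gb N31806 = N31714 := ded_14_1 L248670 (flp_b L248662) L248672
theorem L248678 : sm gf N31806 = N31717 := ded_23_2 L247922 (flp_f L226685) L248672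
theorem L248680 : sm gc N31806 = N30126 := ded_28_6 (flp_d L233937) (flp_a L233885) L233887 L203913 L175869 L198113 L226415 L248672
theorem L248682 : sm ge N29191 = N31807 := rfl
theorem L248684 : sm gc N31807 = N29192 := ded_19_1 (flp_e L226417) L226415 L248682
theorem L248686 : sm gg N31807 = N30242 := ded_26_2 (flp_e L240956) L240960 L248682
theorem L248688 : sm gf N29192 = N31808 := rfl
theorem L248690 : sm gd N31808 = N30249 := ded_23_1 (flp_f L234973) (flp_d L226421) L248688
theorem L248692 : sm ge N31808 = N29193 := ded_25_1 (flp_f L226423) L226417 L248688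
theorem L248694 : sm gg N29202 = N31808 := ded_29_1 (flp_f L248688) (flp_g L239245) L248650 L248648
theorem L248696 : sm ga N29195 = N31809 := rfl
theorem L248698 : sm gd N31809 = N31483 := ded_9_2 L245891 (flp_d L226439) L248696
theorem L248700 : sm ge N29195 = N31810 := rfl
theorem L248702 : sm gb N31810 = N29196 := ded_15_1 (flp_e L226441) L226437 L248700
theorem L248704 : sm gd N31810 = N30548 := ded_22_1 L237643 L246000 L245994 (flp_d L226439) L248700
theorem L248706 : sm gg N29195 = N31811 := rfl
theorem L248708 : sm gc N31811 = N30927 := ded_21_1 (flp_g L248668) L248664 L248706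
theorem L248710 : sm gd N31811 = N31715 := ded_24_1 (flp_g L247902) (flp_d L226439) L248706
theorem L248712 : sm gb N31811 = N29212 := ded_17_1 (flp_g L226559) (flp_b L198240) (flp_g L198137) L226437 L248706
theorem L248714 : sm ge N29197 = N31812 := rfl
theorem L248716 : sm gb N31812 = N29198 := ded_15_1 (flp_e L226461) (flp_b L226453) L248714
theorem L248718 : sm gc N31812 = N29969 := ded_19_1 L232666 L226459 L248714
theorem L248720 : sm gf N31812 = N29964 := ded_25_2 L232628 (flp_f L226455) L248714
theorem L248722 : sm gg N31812 = N30929 := ded_26_2 L240938 (flp_g L226457) L248714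
theorem L248724 : sm gb N29200 = N31813 := rfl
theorem L248726 : sm ge N31813 = N29201 := ded_15_2 (flp_b L226483) (flp_e L226481) L248724
theorem L248728 : sm gf N31813 = N30234 := ded_16_2 (flp_b L234835) L204483 L222896 L226477 L248724
theorem L248730 : sm ga N29202 = N31814 := rfl
theorem L248732 : sm gd N31814 = N30250 := ded_9_2 (flp_a L234981) (flp_d L226487) L248730
theorem L248734 : sm ge N31814 = N29203 := ded_10_2 (flp_a L226491) (flp_e L226489) L248730
theorem L248736 : sm gf N31814 = N30736 := ded_11_2 L248650 L248648 L248730
theorem L248738 : sm gb N30717 = N31814 := ded_14_3 L248732 (flp_b L234987) L239085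
theorem L248740 : sm gc N29202 = N31815 := rfl
theorem L248742 : sm ge N31815 = N29204 := ded_19_2 (flp_c L226497) (flp_e L226489) L248740
theorem L248744 : sm gc N29203 = N31816 := rfl
theorem L248746 : sm ga N31816 = N29204 := ded_8_1 (flp_c L226497) L226491 L248744
theorem L248748 : sm gf N31816 = N30931 := ded_20_2 L240958 (flp_f L226495) L248744
theorem L248750 : sm gb N31816 = N30924 := ded_13_1 L240880 (flp_b L242056) L242062 L233665 L248744
theorem L248752 : sm gd N29204 = N31817 := rfl
theorem L248754 : sm gg N31817 = N31717 := ded_24_2 L247922 L226683 L248752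
theorem L248756 : sm gf N29206 = N31818 := rfl
theorem L248758 : sm gc N31818 = N29211 := ded_20_1 (flp_f L226555) (flp_c L226515) L248756
theorem L248760 : sm gd N31818 = N31539 := ded_23_1 (flp_f L246334) (flp_d L226513) L248756
theorem L248762 : sm gb N29209 = N31819 := rfl
theorem L248764 : sm gd N31819 = N30252 := ded_14_2 (flp_b L235003) (flp_d L226543) L248762
theorem L248766 : sm ge N31819 = N29210 := ded_15_2 (flp_b L226549) (flp_e L226545) L248762
theorem L248768 : sm gf N31819 = N29215 := ded_16_2 (flp_b L226579) (flp_f L198262) (flp_b L198220) L226539 L248762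
theorem L248770 : sm gf N29212 = N31820 := rfl
theorem L248772 : sm ga N31820 = N30934 := ded_11_1 L240982 L240740 L248770
theorem L248774 : sm gd N31820 = N31733 := ded_23_1 (flp_f L248053) (flp_d L226561) L248770
theorem L248776 : sm gg N31820 = N30907 := ded_29_3 L240734 (flp_f L226555) L226559 L248770
theorem L248778 : sm gb N29213 = N31821 := rfl
theorem L248780 : sm gd N31821 = N30541 := ded_14_2 (flp_b L237577) (flp_d L226569) L248778
theorem L248782 : sm ge N31821 = N29214 := ded_15_2 (flp_b L226575) (flp_e L226571) L248778
theorem L248784 : sm gc N29230 = N31821 := ded_28_6 L248780 (flp_a L239789) (flp_c L239787) (flp_d L231554) L231552 (flp_d L209651) L209649 (flp_d L226694)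
theorem L248786 : sm gg N29229 = N31821 := ded_26_0 L248782 L226607 (flp_e L226689)
theorem L248788 : sm ga N29215 = N31822 := rfl
theorem L248790 : sm gd N31822 = N30253 := ded_9_2 (flp_a L235011) (flp_d L226581) L248788
theorem L248792 : sm ge N31822 = N29216 := ded_10_2 (flp_a L226585) (flp_e L226583) L248788
theorem L248794 : sm gc N31822 = N31819 := ded_28_0 L248764 L235007 (flp_d L219112) (flp_c L243297) L243303 (flp_c L235017) (flp_d L226581) L248788
theorem L248796 : sm gb N31822 = N30371 := ded_7_2 L236125 L226830 L198508 (flp_b L198453) L198451 (flp_b L198346) (flp_a L198264) L226579 L248788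
theorem L248798 : sm gc N29215 = N31823 := rfl
theorem L248800 : sm ga N31823 = N31819 := ded_8_1 (flp_c L248794) (flp_a L248788) L248798
theorem L248802 : sm ge N31823 = N29217 := ded_19_2 (flp_c L226593) (flp_e L226583) L248798
theorem L248804 : sm gf N31823 = N31822 := ded_20_2 L248794 L248768 L248798
theorem L248806 : sm gb N31823 = N29230 := ded_13_1 L248784 (flp_b L248778) L226567 L226579 L248798
theorem L248808 : sm gd N31823 = N30257 := ded_28_7 (flp_a L235049) L235007 (flp_d L219112) (flp_c L243297) L243303 (flp_c L235017) (flp_d L226581) L248798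
theorem L248810 : sm gg N29231 = N31823 := ded_26_0 L248802 L226603 (flp_e L226702)
theorem L248812 : sm gg N29215 = N31824 := rfl
theorem L248814 : sm gc N31824 = N29231 := ded_21_1 L248810 (flp_c L248798) L248812
theorem L248816 : sm gd N31824 = N30255 := ded_24_1 (flp_g L235025) (flp_d L226581) L248812
theorem L248818 : sm ge N31824 = N29218 := ded_26_1 (flp_g L226609) (flp_e L226583) L248812
theorem L248820 : sm gf N31824 = N29231 := ded_29_2 L248810 L248800 L248768 L248812
theorem L248822 : sm gb N31824 = N31808 := ded_17_1 (flp_g L248694) (flp_b L226485) L198270 L226579 L248812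
theorem L248824 : sm gg N29216 = N31825 := rfl
theorem L248826 : sm ga N31825 = N29218 := ded_12_1 (flp_g L226609) L226585 L248824
theorem L248828 : sm gc N31825 = N29233 := ded_21_1 L226715 L226591 L248824
theorem L248830 : sm gd N31825 = N29219 := ded_24_1 (flp_g L226619) (flp_d L226587) L248824
theorem L248832 : sm gf N29233 = N31825 := ded_29_0 (flp_g L248824) (flp_f L226597) L226603 L226711
theorem L248834 : sm gb N29220 = N31826 := rfl
theorem L248836 : sm ge N31826 = N29221 := ded_15_2 (flp_b L226637) (flp_e L226635) L248834
theorem L248838 : sm ga N29221 = N31827 := rfl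
theorem L248840 : sm gd N31827 = N29225 := ded_9_2 (flp_a L226665) (flp_d L226639) L248838
theorem L248842 : sm gc N29221 = N31828 := rfl
theorem L248844 : sm gb N31828 = N31728 := ded_13_1 (flp_c L248011) (flp_b L225955) (flp_c L198320) L226637 L248842
theorem L248846 : sm gg N29221 = N31829 := rfl
theorem L248848 : sm gd N31829 = N29227 := ded_24_1 (flp_g L226673) (flp_d L226639) L248846
theorem L248850 : sm gb N31829 = N31817 := ded_17_1 L248754 (flp_b L247920) L225867 L226637 L248846
theorem L248852 : sm gb N29222 = N31830 := rfl
theorem L248854 : sm gd N31830 = N29223 := ded_14_2 (flp_b L226649) (flp_d L226647) L248852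
theorem L248856 : sm gf N31830 = N31129 := ded_16_2 (flp_b L242856) (flp_f L217944) L214058 L226641 L248852
theorem L248858 : sm ga N29223 = N31831 := rfl
theorem L248860 : sm ge N31831 = N29225 := ded_10_2 (flp_a L226665) (flp_e L226651) L248858
theorem L248862 : sm gf N31831 = N31130 := ded_11_2 (flp_a L242860) (flp_f L226653) L248858
theorem L248864 : sm gc N30215 = N31831 := ded_19_3 L248860 L240692 L240686
theorem L248866 : sm gc N29223 = N31832 := rfl
theorem L248868 : sm ga N31832 = N30215 := ded_8_1 L248864 (flp_a L248858) L248866
theorem L248870 : sm ge N31832 = N29226 := ded_19_2 (flp_c L226667) (flp_e L226651) L248866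
theorem L248872 : sm gf N31832 = N31131 := ded_20_2 (flp_c L242864) (flp_f L226653) L248866
theorem L248874 : sm gb N31832 = N29229 := ded_13_1 (flp_c L226687) (flp_b L198346) (flp_c L198332) L226649 L248866
theorem L248876 : sm gg N31813 = N31832 := ded_26_0 L248870 (flp_g L226671) (flp_e L248726)
theorem L248878 : sm gg N29223 = N31833 := rfl
theorem L248880 : sm gc N31833 = N31813 := ded_21_1 L248876 (flp_c L248866) L248878
theorem L248882 : sm ge N31833 = N29227 := ded_26_1 (flp_g L226673) (flp_e L226651) L248878
theorem L248884 : sm gb N31815 = N31833 := ded_13_5 L248880 (flp_b L248724) L226479 L226485 L248740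
theorem L248886 : sm gb N29224 = N31834 := rfl
theorem L248888 : sm ge N31834 = N29228 := ded_15_2 (flp_b L226679) (flp_e L226661) L248886
theorem L248890 : sm gc N31834 = N31808 := ded_13_2 (flp_b L248822) L248814 (flp_b L226698) (flp_c L226659) L248886
theorem L248892 : sm gg N31834 = N31815 := ded_17_2 L248884 (flp_g L248878) (flp_b L226649) L226655 L248886
theorem L248894 : sm gf N31807 = N31834 := ded_31_1 (flp_b L248886) (flp_g L226655) (flp_f L198330) L214034 L222861 (flp_f L156997) (flp_b L108346) L91568 (flp_f L96838) L118613 L171464 L204485 L234893 (flp_g L248686)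
theorem L248896 : sm gb N29225 = N31835 := rfl
theorem L248898 : sm gc N31835 = N30934 := ded_13_2 (flp_b L240978) L214248 L240682 (flp_c L240692) L248896
theorem L248900 : sm gg N31818 = N31835 := ded_21_0 L248898 L240984 (flp_c L248758)
theorem L248902 : sm gd N29226 = N31836 := rfl
theorem L248904 : sm ga N31836 = N29757 := ded_9_1 (flp_d L240684) L240690 L248902
theorem L248906 : sm gb N31836 = N29232 := ded_14_1 (flp_d L226704) (flp_b L226669) L248902
theorem L248908 : sm gg N31836 = N31736 := ded_24_2 L248075 L226671 L248902
theorem L248910 : sm ga N29228 = N31837 := rfl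
theorem L248912 : sm gc N31837 = N30394 := ded_8_2 L236286 (flp_c L226681) L248910
theorem L248914 : sm gf N31837 = N30393 := ded_11_2 L236280 L226685 L248910
theorem L248916 : sm gg N31837 = N31816 := ded_12_2 L248746 (flp_g L226683) L248910
theorem L248918 : sm gd N29229 = N31838 := rfl
theorem L248920 : sm ga N31838 = N31121 := ded_9_1 L242775 L226791 L248918
theorem L248922 : sm gf N31838 = N31838 := ded_23_2 (flp_d L248918) L226691 L248918
theorem L248923 : sm gg N31838 = N30541 := ded_24_2 (flp_d L248780) (flp_g L248786) L248918
theorem L248925 : sm ga N29231 = N31839 := rfl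
theorem L248927 : sm gd N31839 = N30258 := ded_9_2 (flp_a L235053) (flp_d L226700) L248925
theorem L248929 : sm ge N31839 = N29233 := ded_10_2 (flp_a L226711) (flp_e L226702) L248925
theorem L248931 : sm gg N31839 = N31819 := ded_12_2 (flp_a L248800) (flp_g L248810) L248925
theorem L248933 : sm ge N29232 = N31840 := rfl
theorem L248935 : sm ga N31840 = N29908 := ded_10_1 L232137 L226782 L248933
theorem L248937 : sm gc N31840 = N29238 := ded_19_1 (flp_e L226753) L226709 L248933
theorem L248939 : sm gf N31840 = N31840 := ded_25_2 (flp_e L248933) L226706 L248933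
theorem L248940 : sm gg N31840 = N31734 := ded_26_2 L248061 (flp_g L226707) L248933
theorem L248942 : sm gb N29233 = N31841 := rfl
theorem L248944 : sm gd N31841 = N29234 := ded_14_2 (flp_b L226717) (flp_d L226713) L248942
theorem L248946 : sm gg N31841 = N31050 := ded_17_2 L242056 L216857 L226549 (flp_g L226715) L248942
theorem L248948 : sm gc N29237 = N31842 := rfl
theorem L248950 : sm ge N31842 = N30887 := ded_19_2 L240559 (flp_e L226751) L248948
theorem L248952 : sm gf N31842 = N30504 := ded_20_2 (flp_c L237273) (flp_f L226749) L248948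
theorem L248954 : sm gg N29238 = N31843 := rfl
theorem L248956 : sm gc N31843 = N31734 := ded_21_1 (flp_g L248940) L248937 L248954
theorem L248958 : sm gd N31843 = N30890 := ded_24_1 (flp_g L240581) (flp_d L226758) L248954
theorem L248960 : sm ge N31843 = N29239 := ded_26_1 (flp_g L226760) L226753 L248954
theorem L248962 : sm gb N31843 = N31738 := ded_17_1 (flp_g L248099) (flp_b L240505) (flp_g L213757) (flp_b L226755) L248954
theorem L248964 : sm gg N29242 = N31844 := rfl
theorem L248966 : sm ga N31844 = N31821 := ded_12_1 (flp_g L248786) (flp_a L226791) L248964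
theorem L248968 : sm gc N31844 = N29244 := ded_21_1 (flp_g L226808) (flp_c L226795) L248964
theorem L248970 : sm gd N31844 = N30794 := ded_24_1 (flp_g L242782) L242775 L248964
theorem L248972 : sm ge N31844 = N29243 := ded_26_1 (flp_g L226798) L226789 L248964
theorem L248974 : sm gf N31821 = N31844 := ded_29_0 (flp_g L248964) L226797 L248964 L248966
theorem L248976 : sm gb N31844 = N30796 := ded_17_1 L242933 (flp_b L242925) (flp_g L218070) (flp_b L226793) L248964
theorem L248978 : sm gb N29244 = N31845 := rfl
theorem L248980 : sm gd N31845 = N30261 := ded_14_2 (flp_b L235081) (flp_d L226812) L248978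
theorem L248982 : sm ge N31845 = N29245 := ded_15_2 (flp_b L226818) (flp_e L226814) L248978
theorem L248984 : sm gf N31845 = N30371 := ded_16_2 (flp_b L248796) (flp_f L248804) L248806 L226816 L248978
theorem L248986 : sm gg N31845 = N29257 := ded_17_2 (flp_b L226896) (flp_g L198534) (flp_b L198453) L226808 L248978
theorem L248988 : sm ga N31845 = N30778 := ded_7_1 L239631 (flp_a L234605) L234615 (flp_a L226541) L248762 (flp_a L248800) L248806 (flp_a L226810) L248978
theorem L248990 : sm gc N29245 = N31846 := rfl
theorem L248992 : sm ga N31846 = N30906 := ded_8_1 L240728 L226836 L248990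
theorem L248994 : sm gf N31846 = N30373 := ded_20_2 (flp_c L236139) (flp_f L226822) L248990
theorem L248996 : sm gg N31846 = N29259 := ded_21_2 (flp_c L226908) (flp_g L226824) L248990
theorem L248998 : sm gb N31846 = N31818 := ded_13_1 L248758 (flp_b L226806) L226802 L226818 L248990
theorem L249000 : sm gb N29246 = N31847 := rfl
theorem L249002 : sm gc N31847 = N29250 := ded_13_2 (flp_b L226848) (flp_c L198498) (flp_b L198480) L226826 L249000
theorem L249004 : sm gf N31847 = N30903 := ded_16_2 (flp_b L240694) L213917 L240724 (flp_f L240730) L249000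
theorem L249006 : sm gg N31847 = N29250 := ded_17_2 (flp_b L226848) (flp_g L198715) L227112 (flp_g L227118) L249000
theorem L249008 : sm gd N31760 = N31847 := ded_28_5 L249002 L226850 (flp_a L246318) (flp_c L246316) L223491 (flp_c L212323) (flp_d L239323) (flp_c L248286)
theorem L249010 : sm gd N29246 = N31848 := rfl
theorem L249012 : sm ga N31848 = N31540 := ded_9_1 L246340 L236141 L249010
theorem L249014 : sm gb N31848 = N31760 := ded_14_1 L249008 (flp_b L249000) L249010
theorem L249016 : sm gg N31848 = N31762 := ded_24_2 L248300 (flp_g L227118) L249010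
theorem L249018 : sm gc N31848 = N30032 := ded_28_6 (flp_d L233189) (flp_a L233137) L233139 L203413 L175438 L198478 L226826 L249010
theorem L249020 : sm ge N29246 = N31849 := rfl
theorem L249022 : sm gc N31849 = N29247 := ded_19_1 (flp_e L226828) L226826 L249020
theorem L249024 : sm gf N31849 = N30224 := ded_25_2 (flp_e L240726) (flp_f L240730) L249020
theorem L249026 : sm gg N29247 = N31850 := rfl
theorem L249028 : sm gd N31850 = N30262 := ded_24_1 (flp_g L235093) (flp_d L226832) L249026
theorem L249030 : sm ge N31850 = N29249 := ded_26_1 (flp_g L226842) L226828 L249026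
theorem L249032 : sm gf N31850 = N29257 := ded_29_2 (flp_g L248986) L248988 L239633 L249026
theorem L249034 : sm ga N29250 = N31851 := rfl
theorem L249036 : sm gd N31851 = N31537 := ded_9_2 L246318 (flp_d L226850) L249034
theorem L249038 : sm ge N29250 = N31852 := rfl
theorem L249040 : sm gb N31852 = N29251 := ded_15_1 (flp_e L226852) L226848 L249038
theorem L249042 : sm gd N31852 = N30531 := ded_22_1 L237497 L246399 L246393 (flp_d L226850) L249038
theorem L249044 : sm gf N29250 = N31853 := rfl
theorem L249046 : sm gc N31853 = N30903 := ded_20_1 (flp_f L249004) L249002 L249044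
theorem L249048 : sm gd N31853 = N31759 := ded_23_1 (flp_f L248274) (flp_d L226850) L249044
theorem L249050 : sm gb N31853 = N29266 := ded_16_1 (flp_f L226966) (flp_b L198611) (flp_f L198502) L226848 L249044
theorem L249052 : sm ge N29252 = N31854 := rfl
theorem L249054 : sm gb N31854 = N29253 := ded_15_1 (flp_e L226872) (flp_b L226864) L249052
theorem L249056 : sm gc N31854 = N29760 := ded_19_1 L230706 L226870 L249052
theorem L249058 : sm gf N31854 = N30905 := ded_25_2 L240720 (flp_f L226866) L249052
theorem L249060 : sm gg N31854 = N29755 := ded_26_2 L230680 (flp_g L226868) L249052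
theorem L249062 : sm gb N29255 = N31855 := rfl
theorem L249064 : sm ge N31855 = N29256 := ded_15_2 (flp_b L226894) (flp_e L226892) L249062
theorem L249066 : sm gg N31855 = N30215 := ded_17_2 (flp_b L234687) (flp_g L204402) L222868 L226888 L249062
theorem L249068 : sm ga N31813 = N31855 := ded_10_3 L249064 (flp_a L227108) (flp_e L248726)
theorem L249070 : sm ga N29257 = N31856 := rfl
theorem L249072 : sm gd N31856 = N30263 := ded_9_2 (flp_a L235101) (flp_d L226898) L249070
theorem L249074 : sm ge N31856 = N29258 := ded_10_2 (flp_a L226902) (flp_e L226900) L249070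
theorem L249076 : sm gg N31856 = N30778 := ded_12_2 (flp_a L248988) L248986 L249070
theorem L249078 : sm gb N30767 = N31856 := ded_14_3 L249072 (flp_b L235107) L239535
theorem L249080 : sm gc N29257 = N31857 := rfl
theorem L249082 : sm ge N31857 = N29259 := ded_19_2 (flp_c L226908) (flp_e L226900) L249080
theorem L249084 : sm gc N29258 = N31858 := rfl
theorem L249086 : sm ga N31858 = N29259 := ded_8_1 (flp_c L226908) L226902 L249084
theorem L249088 : sm gg N31858 = N30906 := ded_21_2 L240728 (flp_g L226906) L249084
theorem L249090 : sm gb N31858 = N30898 := ded_13_1 L240650 (flp_b L241988) L241982 L234427 L249084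
theorem L249092 : sm gd N29259 = N31859 := rfl
theorem L249094 : sm gf N31859 = N31762 := ded_23_2 L248300 L227116 L249092
theorem L249096 : sm gg N29261 = N31860 := rfl
theorem L249098 : sm gc N31860 = N29267 := ded_21_1 (flp_g L226970) (flp_c L226926) L249096
theorem L249100 : sm gd N31860 = N31485 := ded_24_1 (flp_g L245907) (flp_d L226924) L249096
theorem L249102 : sm gb N31860 = N31804 := ded_17_1 L248660 L236282 (flp_g L226942) L226922 L249096
theorem L249104 : sm gb N29264 = N31861 := rfl
theorem L249106 : sm gd N31861 = N30265 := ded_14_2 (flp_b L235123) (flp_d L226954) L249104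
theorem L249108 : sm ge N31861 = N29265 := ded_15_2 (flp_b L226960) (flp_e L226956) L249104
theorem L249110 : sm gg N31861 = N29270 := ded_17_2 (flp_b L227008) (flp_g L198633) (flp_b L198591) L226950 L249104
theorem L249112 : sm gg N29266 = N31862 := rfl
theorem L249114 : sm ga N31862 = N30910 := ded_12_1 (flp_g L240968) L240964 L249112
theorem L249116 : sm gd N31862 = N31776 := ded_24_1 (flp_g L248409) (flp_d L226968) L249112
theorem L249118 : sm gf N30933 = N31862 := ded_29_0 (flp_g L249112) (flp_f L226966) L226970 (flp_a L240974)
theorem L249120 : sm gb N29268 = N31863 := rfl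
theorem L249122 : sm gd N31863 = N30524 := ded_14_2 (flp_b L237431) (flp_d L226980) L249120
theorem L249124 : sm ge N31863 = N29269 := ded_15_2 (flp_b L226986) (flp_e L226982) L249120
theorem L249126 : sm gg N31863 = N31802 := ded_17_2 L248640 L240283 L213489 L226974 L249120
theorem L249128 : sm ga N31802 = N31863 := ded_9_3 L249122 (flp_a L240267) (flp_d L248636)
theorem L249130 : sm gc N29285 = N31863 := ded_28_6 L249122 (flp_a L240267) (flp_c L240265) (flp_d L229408) L229406 (flp_d L209593) L209591 (flp_d L227131)
theorem L249132 : sm gf N29284 = N31863 := ded_25_0 L249124 L226996 (flp_e L227124)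
theorem L249134 : sm ga N29270 = N31864 := rfl
theorem L249136 : sm gd N31864 = N30266 := ded_9_2 (flp_a L235131) (flp_d L227010) L249134
theorem L249138 : sm ge N31864 = N29271 := ded_10_2 (flp_a L227014) (flp_e L227012) L249134
theorem L249140 : sm gc N31864 = N31861 := ded_28_0 L249106 L235127 (flp_d L219142) (flp_c L243311) L243317 (flp_c L235137) (flp_d L227010) L249134
theorem L249142 : sm gb N31864 = N30391 := ded_7_2 L236264 L226419 L198143 (flp_b L198092) L198724 (flp_b L198717) (flp_a L198635) L227008 L249134
theorem L249144 : sm gc N29270 = N31865 := rfl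
theorem L249146 : sm ga N31865 = N31861 := ded_8_1 (flp_c L249140) (flp_a L249134) L249144
theorem L249148 : sm ge N31865 = N29272 := ded_19_2 (flp_c L227022) (flp_e L227012) L249144
theorem L249150 : sm gg N31865 = N31864 := ded_21_2 L249140 L249110 L249144
theorem L249152 : sm gb N31865 = N29285 := ded_13_1 L249130 (flp_b L249120) L226978 L227008 L249144
theorem L249154 : sm gd N31865 = N30270 := ded_28_7 L235171 L235127 (flp_d L219142) (flp_c L243311) L243317 (flp_c L235137) (flp_d L227010) L249144
theorem L249156 : sm gf N29286 = N31865 := ded_25_0 L249148 (flp_f L227032) (flp_e L227141)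
theorem L249158 : sm gf N29270 = N31866 := rfl
theorem L249160 : sm gc N31866 = N29286 := ded_20_1 L249156 (flp_c L249144) L249158
theorem L249162 : sm gd N31866 = N30268 := ded_23_1 (flp_f L235145) (flp_d L227010) L249158
theorem L249164 : sm ge N31866 = N29273 := ded_25_1 (flp_f L227034) (flp_e L227012) L249158
theorem L249166 : sm gg N29286 = N31866 := ded_29_1 (flp_f L249158) (flp_g L249110) (flp_a L249146) (flp_f L249156)
theorem L249168 : sm gb N31866 = N31850 := ded_16_1 L249032 (flp_b L226896) (flp_f L198641) L227008 L249158
theorem L249170 : sm gf N29271 = N31867 := rfl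
theorem L249172 : sm ga N31867 = N29273 := ded_11_1 (flp_f L227034) L227014 L249170
theorem L249174 : sm gc N31867 = N29287 := ded_20_1 L227147 L227020 L249170
theorem L249176 : sm gd N31867 = N29274 := ded_23_1 (flp_f L227044) (flp_d L227016) L249170
theorem L249178 : sm gg N31867 = N29287 := ded_29_3 (flp_a L227143) L227032 L227026 L249170
theorem L249180 : sm gb N29275 = N31868 := rfl
theorem L249182 : sm ge N31868 = N29276 := ded_15_2 (flp_b L227062) (flp_e L227060) L249180
theorem L249184 : sm ga N29276 = N31869 := rfl
theorem L249186 : sm gd N31869 = N29280 := ded_9_2 (flp_a L227090) (flp_d L227064) L249184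
theorem L249188 : sm gf N31869 = N31829 := ded_29_0 (flp_g L248846) (flp_f L240790) L240792 L249184
theorem L249190 : sm gc N29276 = N31870 := rfl
theorem L249192 : sm gb N31870 = N31772 := ded_13_1 (flp_c L248377) (flp_b L226227) (flp_c L198691) L227062 L249190
theorem L249194 : sm gf N29276 = N31871 := rfl
theorem L249196 : sm ga N31871 = N31829 := ded_11_1 (flp_f L249188) (flp_a L249184) L249194
theorem L249198 : sm gd N31871 = N29282 := ded_23_1 (flp_f L227100) (flp_d L227064) L249194
theorem L249200 : sm gg N31871 = N31827 := ded_29_3 (flp_a L248838) (flp_f L240790) L240792 L249194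
theorem L249202 : sm gb N31871 = N31859 := ded_16_1 L249094 (flp_b L248298) (flp_f L226139) L227062 L249194
theorem L249204 : sm gb N29277 = N31872 := rfl
theorem L249206 : sm gd N31872 = N29278 := ded_14_2 (flp_b L227074) (flp_d L227072) L249204
theorem L249208 : sm gg N31872 = N31129 := ded_17_2 (flp_b L242856) (flp_g L222817) L214379 L227066 L249204
theorem L249210 : sm ga N29278 = N31873 := rfl
theorem L249212 : sm ge N31873 = N29280 := ded_10_2 (flp_a L227090) (flp_e L227076) L249210
theorem L249214 : sm gg N31873 = N31130 := ded_12_2 (flp_a L242860) (flp_g L227078) L249210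
theorem L249216 : sm gf N31873 = N31833 := ded_29_0 (flp_g L248878) L226653 (flp_g L227078) L249210
theorem L249218 : sm gc N30234 = N31873 := ded_19_3 L249212 L240928 L240922
theorem L249220 : sm gc N29278 = N31874 := rfl
theorem L249222 : sm ga N31874 = N30234 := ded_8_1 L249218 (flp_a L249210) L249220
theorem L249224 : sm ge N31874 = N29281 := ded_19_2 (flp_c L227094) (flp_e L227076) L249220
theorem L249226 : sm gg N31874 = N31131 := ded_21_2 (flp_c L242864) (flp_g L227078) L249220
theorem L249228 : sm gb N31874 = N29284 := ded_13_1 (flp_c L227120) (flp_b L198717) (flp_c L198703) L227074 L249220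
theorem L249230 : sm gf N31855 = N31874 := ded_11_0 L249222 (flp_f L248728) L249068
theorem L249232 : sm gf N29278 = N31875 := rfl
theorem L249234 : sm ga N31875 = N31833 := ded_11_1 (flp_f L249216) (flp_a L249210) L249232
theorem L249236 : sm gc N31875 = N31855 := ded_20_1 L249230 (flp_c L249220) L249232
theorem L249238 : sm ge N31875 = N29282 := ded_25_1 (flp_f L227100) (flp_e L227076) L249232
theorem L249240 : sm gg N31875 = N31831 := ded_29_3 (flp_a L248858) L226653 (flp_g L227078) L249232
theorem L249242 : sm gb N31857 = N31875 := ded_13_5 L249236 (flp_b L249062) L226890 L226896 L249080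
theorem L249244 : sm gb N29279 = N31876 := rfl
theorem L249246 : sm ge N31876 = N29283 := ded_15_2 (flp_b L227112) (flp_e L227086) L249244
theorem L249248 : sm gc N31876 = N31850 := ded_13_2 (flp_b L249168) L249160 (flp_b L227137) (flp_c L227084) L249244
theorem L249250 : sm gf N31876 = N31857 := ded_16_2 L249242 (flp_f L249232) (flp_b L227074) L227080 L249244
theorem L249252 : sm gg N31876 = N31849 := ded_31_3 L249024 (flp_b L234747) (flp_g L204394) (flp_f L171427) (flp_b L118566) L96809 L91552 L108315 L156966 (flp_f L222607) (flp_b L214355) L198701 L227080 L249244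
theorem L249254 : sm gb N29280 = N31877 := rfl
theorem L249256 : sm gc N31877 = N30910 := ded_13_2 (flp_b L240752) (flp_c L214186) L240918 (flp_c L240928) L249254
theorem L249258 : sm gf N31877 = N31860 := ded_16_2 L249102 L248658 L226677 (flp_f L227092) L249254
theorem L249260 : sm ga N29283 = N31878 := rfl
theorem L249262 : sm gc N31878 = N30374 := ded_8_2 L236147 (flp_c L227114) L249260
theorem L249264 : sm gf N31878 = N31858 := ded_11_2 L249086 (flp_f L227116) L249260
theorem L249266 : sm gg N31878 = N30373 := ded_12_2 L236141 L227118 L249260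
theorem L249268 : sm gb N31878 = N31837 := ded_7_2 (flp_a L248910) (flp_b L226679) L198340 L226483 L227108 (flp_b L226894) (flp_a L198711) L227112 L249260
theorem L249270 : sm gd N29284 = N31879 := rfl
theorem L249272 : sm ga N31879 = N31110 := ded_9_1 L242660 (flp_a L227122) L249270
theorem L249274 : sm gf N31879 = N30524 := ded_23_2 (flp_d L249122) (flp_f L249132) L249270
theorem L249276 : sm gg N31879 = N31879 := ded_24_2 (flp_d L249270) L227126 L249270
theorem L249277 : sm ga N29286 = N31880 := rfl
theorem L249279 : sm gd N31880 = N30271 := ded_9_2 (flp_a L235173) (flp_d L227139) L249277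
theorem L249281 : sm ge N31880 = N29287 := ded_10_2 (flp_a L227143) (flp_e L227141) L249277
theorem L249283 : sm gf N31880 = N31861 := ded_11_2 (flp_a L249146) (flp_f L249156) L249277
theorem L249285 : sm gb N29287 = N31881 := rfl
theorem L249287 : sm gd N31881 = N29288 := ded_14_2 (flp_b L227149) (flp_d L227145) L249285
theorem L249289 : sm gf N31881 = N31043 := ded_16_2 L241988 L217420 L226960 (flp_f L227147) L249285
theorem L249291 : sm gd N29291 = N31882 := rfl
theorem L249293 : sm ga N31882 = N31882 := ded_9_1 (flp_d L249291) L227181 L249291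
theorem L249294 : sm gb N31882 = N29292 := ded_14_1 (flp_d L227184) L227177 L249291
theorem L249296 : sm gf N31882 = N31628 := ded_30_4 L247107 (flp_b L227177) L198787 L198799 L198803 (flp_b L168300) L168292 (flp_f L159263) (flp_c L168366) L199429 L228280 L244963 L244959 (flp_b L244019) (flp_a L244007) (flp_f L229322) (flp_c L229320) (flp_b L249294) L249293
theorem L249298 : sm gf N29291 = N31883 := rfl
theorem L249300 : sm ga N31883 = N31883 := ded_11_1 (flp_f L249298) L227181 L249298
theorem L249301 : sm gc N31883 = N31882 := ded_20_1 L249296 L247107 L249298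
theorem L249303 : sm gd N31883 = N31628 := ded_23_1 (flp_f L249296) (flp_d L249291) L249298
theorem L249305 : sm ge N31883 = N31767 := ded_25_1 L248338 (flp_e L227179) L249298
theorem L249307 : sm gg N31882 = N31883 := ded_29_3 L249300 (flp_f L249298) (flp_g L247109) (flp_f L249296)
theorem L249309 : sm gb N31883 = N31251 := ded_16_1 (flp_f L244077) (flp_b L220130) (flp_f L198791) L227177 L249298
theorem L249311 : sm gb N29293 = N31884 := rfl
theorem L249313 : sm gd N31884 = N31521 := ded_14_2 L246210 (flp_d L229290) L249311
theorem L249315 : sm gf N31884 = N31765 := ded_16_2 (flp_b L248320) L243997 (flp_b L244019) L244015 L249311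
theorem L249317 : sm ga N31884 = N31513 := ded_7_1 (flp_b L246118) L223279 L246098 (flp_a L248543) L248549 L244105 (flp_b L229316) L229314 L249311
theorem L249319 : sm gc N29298 = N31885 := rfl
theorem L249321 : sm ga N31885 = N29299 := ded_8_1 (flp_c L227230) L227218 L249319
theorem L249323 : sm ge N31885 = N29301 := ded_19_2 (flp_c L227246) (flp_e L227222) L249319
theorem L249325 : sm gf N31885 = N29301 := ded_20_2 (flp_c L227246) (flp_f L227224) L249319
theorem L249327 : sm gg N31885 = N31338 := ded_21_2 (flp_c L244736) (flp_g L227226) L249319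
theorem L249329 : sm gd N31587 = N31885 := ded_9_0 L249321 (flp_d L227240) L246723
theorem L249331 : sm gb N29301 = N31886 := rfl
theorem L249333 : sm gc N31886 = N31489 := ded_13_2 L245932 L227538 (flp_b L199014) L227246 L249331
theorem L249335 : sm gg N31886 = N30163 := ded_17_2 (flp_b L234223) L234247 (flp_b L244734) L244732 L249331
theorem L249337 : sm ga N31655 = N31886 := ded_8_3 L249333 (flp_a L246280) (flp_c L247307)
theorem L249339 : sm gd N29301 = N31887 := rfl
theorem L249341 : sm ga N31887 = N29302 := ded_9_1 (flp_d L227250) (flp_a L227248) L249339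
theorem L249343 : sm gf N31887 = N31587 := ded_23_2 L249329 L249325 L249339
theorem L249345 : sm gc N29302 = N31888 := rfl
theorem L249347 : sm gf N31888 = N29338 := ded_20_2 L227554 (flp_f L227254) L249345
theorem L249349 : sm ge N29335 = N31888 := ded_25_3 L249347 (flp_e L227550) (flp_f L227532)
theorem L249351 : sm ge N29302 = N31889 := rfl
theorem L249353 : sm gb N31889 = N31298 := ded_15_1 L244469 (flp_b L227252) L249351
theorem L249355 : sm gc N31889 = N29335 := ded_19_1 L249349 (flp_c L249345) L249351
theorem L249357 : sm gf N31889 = N29337 := ded_25_2 (flp_e L227548) (flp_f L227254) L249351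
theorem L249359 : sm gd N31889 = N29337 := ded_22_1 (flp_e L227548) L227240 L227232 L227250 L249351
theorem L249361 : sm ga N29303 = N31890 := rfl
theorem L249363 : sm gb N31890 = N29540 := ded_7_2 L228890 L199855 (flp_a L196989) (flp_b L196993) L167926 (flp_b L167906) (flp_a L198837) L227256 L249361
theorem L249365 : sm gg N29303 = N31890 := ded_17_0 L249363 (flp_g L229066) L229068 L221227 L227256
theorem L249367 : sm gd N29303 = N31891 := rfl
theorem L249369 : sm gb N31891 = N29304 := ded_14_1 (flp_d L227258) L227256 L249367
theorem L249371 : sm gf N29303 = N31892 := rfl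
theorem L249373 : sm gg N31892 = N31892 := ded_29_1 (flp_f L249371) L249365 (flp_a L249361) L249371
theorem L249374 : sm gc N29304 = N31893 := rfl
theorem L249376 : sm ga N31893 = N29306 := ded_8_1 (flp_c L227270) (flp_a L227260) L249374
theorem L249378 : sm gd N31888 = N31893 := ded_28_1 (flp_c L249374) (flp_d L227258) (flp_c L198835) (flp_d L198831) L227246 L249339 L249341 L249345
theorem L249380 : sm ge N30608 = N31893 := ded_10_0 L249376 L238105 (flp_a L238111)
theorem L249382 : sm gf N31893 = N30482 := ded_23_2 L237063 (flp_f L249347) L249378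
theorem L249384 : sm ge N29304 = N31894 := rfl
theorem L249386 : sm ga N31894 = N29307 := ded_10_1 (flp_e L227272) (flp_a L227260) L249384
theorem L249388 : sm gc N31894 = N30608 := ded_19_1 L249380 (flp_c L249374) L249384
theorem L249390 : sm gg N31894 = N31893 := ded_26_2 (flp_e L249380) L238115 L249384
theorem L249392 : sm gf N31894 = N30604 := ded_30_4 L238079 (flp_b L210905) L180665 (flp_f L180653) (flp_c L180651) (flp_b L144359) (flp_a L104055) (flp_f L104059) (flp_c L103869) (flp_b L115910) (flp_a L155808) L167224 (flp_c L197867) L226065 (flp_a L226115) L227320 L227310 (flp_b L227274) (flp_a L249386)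
theorem L249394 : sm gf N29304 = N31895 := rfl
theorem L249396 : sm ga N31895 = N29308 := ded_11_1 (flp_f L227276) (flp_a L227260) L249394
theorem L249398 : sm gc N31895 = N30482 := ded_20_1 (flp_f L249382) (flp_c L249374) L249394
theorem L249400 : sm gd N31895 = N29305 := ded_23_1 (flp_f L227262) L227258 L249394
theorem L249402 : sm ge N31895 = N30604 := ded_25_1 (flp_f L249392) (flp_e L249384) L249394
theorem L249404 : sm gg N31895 = N30607 := ded_29_3 (flp_a L238097) L238109 L238115 L249394
theorem L249406 : sm gb N30481 = N31895 := ded_13_5 L249398 (flp_b L237061) (flp_c L209053) L209045 L237055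
theorem L249408 : sm gb N29305 = N31896 := rfl
theorem L249410 : sm gd N31896 = N30481 := ded_14_2 L249406 L249400 L249408
theorem L249412 : sm ge N31896 = N31489 := ded_15_2 L245932 L227540 L249408
theorem L249414 : sm gg N31896 = N30641 := ded_17_2 (flp_b L238380) L244758 (flp_b L244750) (flp_g L227268) L249408
theorem L249416 : sm gb N29306 = N31897 := rfl
theorem L249418 : sm ge N31897 = N30636 := ded_15_2 L238345 (flp_e L238105) L249416
theorem L249420 : sm gc N31897 = N29312 := ded_13_2 (flp_b L227306) (flp_c L198869) (flp_b L198847) L227270 L249416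
theorem L249422 : sm gg N31897 = N30640 := ded_17_2 L238368 L227198 (flp_b L227274) L238107 L249416
theorem L249424 : sm gd N31490 = N31897 := ded_22_5 L249418 (flp_d L238343) (flp_e L226341) (flp_d L245982) L245984
theorem L249426 : sm gf N31533 = N31897 := ded_20_0 L249420 (flp_f L247311) L247307
theorem L249428 : sm gd N29306 = N31898 := rfl
theorem L249430 : sm ga N31898 = N31888 := ded_9_1 L249378 L249376 L249428
theorem L249432 : sm gb N31898 = N31490 := ded_14_1 L249424 (flp_b L249416) L249428
theorem L249434 : sm gg N31898 = N31321 := ded_24_2 L244625 L238107 L249428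
theorem L249436 : sm ge N31898 = N29327 := ded_22_2 (flp_d L227470) L198972 L227242 (flp_e L238105) L249428
theorem L249438 : sm gc N31887 = N31898 := ded_28_0 (flp_d L249428) (flp_c L227270) (flp_d L198845) (flp_c L167904) (flp_d L167900) L198833 L227250 (flp_a L249341)
theorem L249440 : sm gf N31398 = N31898 := ded_11_0 L249430 L249347 (flp_a L245215)
theorem L249442 : sm gf N29306 = N31899 := rfl
theorem L249444 : sm ga N31899 = N30482 := ded_11_1 (flp_f L249382) L249376 L249442
theorem L249446 : sm gc N31899 = N29308 := ded_20_1 (flp_f L227276) L227270 L249442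
theorem L249448 : sm gd N31899 = N31398 := ded_23_1 L249440 (flp_d L249428) L249442
theorem L249450 : sm ge N31899 = N30607 := ded_25_1 L238101 (flp_e L238105) L249442
theorem L249452 : sm gg N30604 = N31899 := ded_29_1 (flp_f L249442) (flp_g L238107) (flp_a L249386) L249392
theorem L249454 : sm gb N31899 = N31399 := ded_16_1 L245221 L246274 L249426 (flp_b L249416) L249442
theorem L249456 : sm gf N29307 = N31900 := rfl
theorem L249458 : sm ga N31900 = N30604 := ded_11_1 (flp_f L249392) L249386 L249456
theorem L249460 : sm gc N31900 = N30607 := ded_20_1 L238101 L238103 L249456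
theorem L249462 : sm ge N31900 = N29308 := ded_25_1 (flp_f L227276) L227272 L249456
theorem L249464 : sm gg N31900 = N30482 := ded_29_3 (flp_a L249444) (flp_f L249442) (flp_g L238107) L249456
theorem L249466 : sm gb N29308 = N31901 := rfl
theorem L249468 : sm gd N31901 = N29309 := ded_14_2 (flp_b L227282) (flp_d L227278) L249466
theorem L249470 : sm gc N31901 = N31428 := ded_13_2 L245485 (flp_c L245225) (flp_b L249454) L249446 L249466
theorem L249472 : sm gf N31901 = N29316 := ded_16_2 (flp_b L227332) (flp_f L198873) (flp_b L198847) L227276 L249466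
theorem L249474 : sm gg N31901 = N30609 := ded_17_2 (flp_b L238117) (flp_g L210909) L210905 L227280 L249466
theorem L249476 : sm ga N31901 = N29573 := ded_7_1 (flp_b L229098) (flp_a L221245) L244782 (flp_a L245964) L245970 L238351 L249406 L249396 L249466
theorem L249478 : sm ga N29312 = N31902 := rfl
theorem L249480 : sm gf N31902 = N31886 := ded_11_2 (flp_a L249337) L247311 L249478
theorem L249482 : sm gg N31349 = N31902 := ded_29_3 (flp_a L249478) (flp_f L247311) (flp_g L247305) (flp_f L244830)
theorem L249484 : sm ge N29312 = N31903 := rfl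
theorem L249486 : sm gb N31903 = N29313 := ded_15_1 (flp_e L227308) L227306 L249484
theorem L249488 : sm gc N31903 = N30636 := ded_19_1 (flp_e L249418) L249420 L249484
theorem L249490 : sm gd N31903 = N30519 := ded_32_1 (flp_c L237397) L209713 L181225 (flp_b L181223) L209715 L237399 (flp_d L246929) (flp_c L246925) L224557 (flp_d L208361) (flp_c L176913) (flp_d L124872) (flp_c L124862) L124860 L176019 L207945 L236368 (flp_c L236374) L244702 L244700 L235928 (flp_d L235920) (flp_c L235888) L235886 L218878 L189751 L158161 (flp_d L157687) L157685 (flp_b L113769) (flp_d L113647) (flp_c L164541) (flp_d L195823) L195821 (flp_b L172725) (flp_d L194077) L194075 L161326 (flp_c L161258) L194033 (flp_d L214665) L214663 L206364 L173835 L149556 (flp_d L124780) (flp_c L176723) L195197 (flp_c L195191) (flp_b L162680) (flp_e L160866) (flp_d L171410) (flp_c L203199) (flp_d L232891) L242729 L242723 L229005 L218120 L188522 (flp_c L214399) L214397 L240533 (flp_c L240535) (flp_d L227385) (flp_c L198940) (flp_b L167971) (flp_d L117059) L117057 L96115 L84697 L84703 (flp_d L95842) L116497 L167938 L198869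 L227306 L249484
theorem L249492 : sm gg N30639 = N31903 := ded_21_0 L249488 L238347 L238364
theorem L249494 : sm gg N29312 = N31904 := rfl
theorem L249496 : sm ga N31904 = N31349 := ded_12_1 L249482 (flp_a L249478) L249494
theorem L249498 : sm gc N31904 = N30640 := ded_21_1 (flp_g L249422) L249420 L249494
theorem L249500 : sm ge N31904 = N30639 := ded_26_1 L249492 (flp_e L249484) L249494
theorem L249502 : sm gf N30163 = N31904 := ded_29_0 (flp_g L249494) (flp_f L247311) (flp_g L247305) L234229
theorem L249504 : sm gb N29315 = N31905 := rfl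
theorem L249506 : sm gd N31905 = N31046 := ded_14_2 L242018 (flp_d L227326) L249504
theorem L249508 : sm ge N31905 = N29316 := ded_15_2 (flp_b L227332) (flp_e L227328) L249504
theorem L249510 : sm gg N31905 = N29349 := ded_17_2 (flp_b L227622) (flp_g L199052) (flp_b L217008) L227330 L249504
theorem L249512 : sm ga N29316 = N31906 := rfl
theorem L249514 : sm gd N31906 = N29317 := ded_9_2 (flp_a L227338) (flp_d L227334) L249512
theorem L249516 : sm gf N31906 = N29573 := ded_11_2 (flp_a L249476) L249472 L249512
theorem L249518 : sm gg N31906 = N31626 := ded_12_2 (flp_a L247085) (flp_g L227336) L249512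
theorem L249520 : sm gb N31753 = N31906 := ded_30_2 (flp_a L249512) (flp_f L249472) L249470 L245485 (flp_a L245229) L245231 L224373 (flp_b L237053) (flp_a L237081) (flp_f L237079) L209081 L177829 (flp_a L208857) L208863 (flp_c L218660) L226041 (flp_a L226035) L226049 (flp_c L248221)
theorem L249522 : sm gc N29316 = N31907 := rfl
theorem L249524 : sm gf N31907 = N31428 := ded_20_2 (flp_c L249470) L249472 L249522
theorem L249526 : sm gg N31907 = N29510 := ded_21_2 L228667 (flp_g L227336) L249522
theorem L249528 : sm gb N31907 = N30173 := ded_13_1 (flp_c L244185) L244191 L227314 L227332 L249522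
theorem L249530 : sm gd N31907 = N30174 := ded_28_7 (flp_a L242362) L242366 L247940 (flp_c L247934) L225875 (flp_c L198879) (flp_d L227334) L249522
theorem L249532 : sm gd N29319 = N31908 := rfl
theorem L249534 : sm ga N31908 = N30495 := ded_9_1 (flp_d L237191) (flp_a L227352) L249532
theorem L249536 : sm gb N31908 = N31908 := ded_14_1 (flp_d L249532) L227358 L249532
theorem L249537 : sm gg N31908 = N29322 := ded_24_2 (flp_d L227385) (flp_g L227356) L249532
theorem L249539 : sm ge N31541 = N31908 := ded_10_0 L249534 (flp_e L237197) (flp_a L246344)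
theorem L249541 : sm gd N29320 = N31909 := rfl
theorem L249543 : sm ga N31909 = N30661 := ded_9_1 L238532 (flp_a L227363) L249541
theorem L249545 : sm gb N31909 = N29324 := ded_14_1 (flp_d L227442) (flp_b L227369) L249541
theorem L249547 : sm gg N31909 = N30658 := ded_24_2 (flp_d L238515) (flp_g L227367) L249541
theorem L249549 : sm ge N31909 = N31492 := ded_22_2 L245948 L227391 (flp_d L227385) (flp_e L227365) L249541
theorem L249551 : sm gc N31185 = N31909 := ded_28_2 (flp_d L249541) (flp_c L227361) L198922 L211679 L238681 L238683 (flp_c L239445) (flp_d L243443)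
theorem L249553 : sm gc N29327 = N31910 := rfl
theorem L249555 : sm ga N31910 = N31889 := ded_8_1 L249355 L227530 L249553
theorem L249557 : sm ge N31910 = N31887 := ded_19_2 L249438 L249436 L249553
theorem L249559 : sm gf N31910 = N31403 := ded_20_2 L245251 (flp_f L227472) L249553
theorem L249561 : sm gg N31910 = N31320 := ded_21_2 (flp_c L244617) (flp_g L227474) L249553
theorem L249563 : sm gd N31910 = N31403 := ded_28_7 (flp_a L245253) (flp_c L227544) (flp_d L199016) (flp_c L168026) (flp_d L167992) L198970 L227470 L249553
theorem L249565 : sm gb N31910 = N31404 := ded_32_5 (flp_d L245255) (flp_c L221726) L192469 (flp_c L184684) (flp_b L184680) (flp_d L182601) (flp_c L213373) (flp_d L216783) L216781 (flp_b L237711) (flp_d L237707) (flp_c L210137) L179415 (flp_c L169173) L169177 (flp_d L170736) L170734 L129432 (flp_c L178405) L200313 L200309 (flp_d L205468) (flp_c L206753) (flp_d L231566) L231564 (flp_b L215283) L215279 L207579 L198433 (flp_c L204525) L204531 L172685 L165784 (flp_d L120375) L120369 L143051 (flp_d L163372) L121610 L97525 L85376 L26761 (flp_d L46391) (flp_c L93189)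 L93191 (flp_c L97154) L120939 (flp_e L166881) (flp_d L197457) (flp_c L207844) (flp_d L234051) (flp_c L246851) L246845 (flp_d L224473) L195536 (flp_d L195482) (flp_c L202627) (flp_b L208283) L236537 (flp_c L236547) L236075 L207353 (flp_b L176157) (flp_d L178625) (flp_c L194641) L194643 (flp_c L192495) (flp_b L160260) L110867 L92847 (flp_d L92736) (flp_c L110655) L159928 L159930 (flp_d L167992) L198970 L227470 L249553
theorem L249567 : sm ge N29328 = N31911 := rfl
theorem L249569 : sm gb N31911 = N29330 := ded_15_1 (flp_e L227495) L227476 L249567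
theorem L249571 : sm gc N31911 = N29356 := ded_19_1 (flp_e L227658) (flp_c L227478) L249567
theorem L249573 : sm gf N31911 = N29556 := ded_25_2 L228983 L227480 L249567
theorem L249575 : sm gg N29328 = N31912 := rfl
theorem L249577 : sm gc N31912 = N29357 := ded_21_1 (flp_g L227666) (flp_c L227478) L249575
theorem L249579 : sm gd N31912 = N30356 := ded_24_1 (flp_g L235983) (flp_d L227482) L249575
theorem L249581 : sm gf N30005 = N31912 := ded_29_0 (flp_g L249575) (flp_f L227480) (flp_g L231018) (flp_a L232975)
theorem L249583 : sm gb N31912 = N31912 := ded_17_1 (flp_g L249575) (flp_b L227476) L198978 L227476 L249575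
theorem L249584 : sm gd N29330 = N31913 := rfl
theorem L249586 : sm gg N31913 = N31913 := ded_24_2 (flp_d L249584) L227499 L249584
theorem L249587 : sm gf N29330 = N31914 := rfl
theorem L249589 : sm ga N31914 = N30003 := ded_11_1 (flp_f L232961) L229031 L249587
theorem L249591 : sm gc N31914 = N29332 := ded_20_1 (flp_f L227512) (flp_c L227497) L249587
theorem L249593 : sm ge N31914 = N29331 := ded_25_1 (flp_f L227500) L227495 L249587
theorem L249595 : sm gg N31914 = N30003 := ded_29_3 (flp_a L249589) (flp_f L249587) L227499 L249587
theorem L249597 : sm gb N29994 = N31914 := ded_15_3 L249593 (flp_b L227510) (flp_e L232879)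
theorem L249599 : sm gb N29332 = N31915 := rfl
theorem L249601 : sm ge N31915 = N29333 := ded_15_2 (flp_b L227516) (flp_e L227514) L249599
theorem L249603 : sm gf N31915 = N29361 := ded_16_2 (flp_b L227694) (flp_f L199092) (flp_b L198981) L227512 L249599
theorem L249605 : sm gc N29333 = N31916 := rfl
theorem L249607 : sm ga N31916 = N29920 := ded_8_1 (flp_c L232236) L227652 L249605
theorem L249609 : sm gf N31916 = N29363 := ded_20_2 (flp_c L227704) (flp_f L227520) L249605
theorem L249611 : sm gb N31916 = N29991 := ded_13_1 L232865 L227510 L227504 L227516 L249605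
theorem L249613 : sm gd N29915 = N31916 := ded_32_11 (flp_c L249605) L227518 L227522 L227526 L227528 (flp_c L249355) L249359 (flp_c L227544) L199018 (flp_d L168162) (flp_c L116577) L95880 L96233 (flp_b L117239) L117237 L122126 L173190 (flp_d L173196) L161944 (flp_b L121038) (flp_d L121029) L150916 L120989 L97180 L97184 (flp_d L98531) L163931 (flp_d L97949) (flp_c L85541) (flp_b L26821) (flp_d L12928) L26913 L85762 L98029 (flp_b L122428) (flp_d L122426) L98023 (flp_d L86077) (flp_c L99081) (flp_b L99079) L141052 (flp_d L94684) (flp_c L94967) L94969 L84111 (flp_b L141980) L27914 (flp_c L79330) (flp_d L22842) (flp_c L47412) L94371 (flp_d L113558) L164440 (flp_d L176835) L176837 L173403 L143657 (flp_c L162802) (flp_d L194657) L194659 (flp_b L179643) L165746 (flp_c L137024) L149748 L178545 (flp_b L209397) (flp_e L229864) (flp_d L235302) L235300 L234527 (flp_c L234519) (flp_b L204285) L171382 (flp_c L188267) (flp_d L217678) (flp_c L242552) (flp_b L242560)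
theorem L249615 : sm gd N29334 = N31917 := rfl
theorem L249617 : sm gb N31917 = N29335 := ded_14_1 (flp_d L227528) (flp_b L227526) L249615
theorem L249619 : sm gf N31917 = N29366 := ded_23_2 (flp_d L227714) (flp_f L227524) L249615
theorem L249621 : sm gc N31917 = N31579 := ded_28_6 L246675 L246681 L246683 L249613 (flp_c L249605) L227518 L227522 L249615
theorem L249623 : sm gg N29337 = N31918 := rfl
theorem L249625 : sm gc N31918 = N29339 := ded_21_1 (flp_g L227556) L227544 L249623
theorem L249627 : sm ge N31918 = N31339 := ded_26_1 L244748 L227548 L249623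
theorem L249629 : sm gf N31918 = N31320 := ded_29_2 (flp_g L249561) L249555 L249357 L249623
theorem L249631 : sm gg N29338 = N31919 := rfl
theorem L249633 : sm gc N31919 = N31339 := ded_21_1 L244748 (flp_c L227554) L249631
theorem L249635 : sm gd N31919 = N31900 := ded_24_1 L249464 L237063 L249631
theorem L249637 : sm ge N31919 = N29339 := ded_26_1 (flp_g L227556) L227550 L249631
theorem L249639 : sm gf N31919 = N31321 := ded_29_2 (flp_g L249434) L249430 L249347 L249631
theorem L249641 : sm gb N29341 = N31920 := rfl
theorem L249643 : sm ge N31920 = N31890 := ded_15_2 L249363 L228892 L249641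
theorem L249645 : sm gc N31920 = N31890 := ded_13_2 L249363 (flp_c L228888) L199849 (flp_c L227572) L249641
theorem L249647 : sm gg N31920 = N31318 := ded_17_2 (flp_b L244605) L221092 (flp_b L227526) L227574 L249641
theorem L249649 : sm ga N31920 = N31318 := ded_7_1 (flp_b L244605) L221088 L192011 (flp_a L192015) (flp_b L199036) L199030 L199038 L227570 L249641
theorem L249651 : sm gd N29341 = N31921 := rfl
theorem L249653 : sm ga N31921 = N29342 := ded_9_1 (flp_d L227576) L227570 L249651
theorem L249655 : sm gg N31921 = N31917 := ded_24_2 (flp_d L249615) L227574 L249651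
theorem L249657 : sm gf N29341 = N31922 := rfl
theorem L249659 : sm ga N31922 = N29343 := ded_11_1 (flp_f L227580) L227570 L249657
theorem L249661 : sm gc N31922 = N29351 := ded_20_1 (flp_f L227632) (flp_c L227572) L249657
theorem L249663 : sm gg N31922 = N29365 := ded_29_3 L227710 (flp_f L227524) L227574 L249657
theorem L249665 : sm gc N29342 = N31923 := rfl
theorem L249667 : sm ge N29342 = N31924 := rfl
theorem L249669 : sm gb N31924 = N29346 := ded_15_1 (flp_e L227596) (flp_b L227578) L249667
theorem L249671 : sm gf N29342 = N31925 := rfl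
theorem L249673 : sm gd N31925 = N29343 := ded_23_1 (flp_f L227580) L227576 L249671
theorem L249675 : sm gg N31925 = N29366 := ded_29_1 (flp_f L249619) (flp_g L249655) L249653 L249671
theorem L249677 : sm gg N29342 = N31926 := rfl
theorem L249679 : sm ga N31926 = N31917 := ded_12_1 (flp_g L249655) L249653 L249677
theorem L249681 : sm gd N31926 = N29344 := ded_24_1 (flp_g L227586) L227576 L249677
theorem L249683 : sm gb N31926 = N31609 := ded_17_1 L246935 (flp_b L233363) (flp_g L227618) (flp_b L227578) L249677
theorem L249685 : sm gb N29343 = N31927 := rfl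
theorem L249687 : sm ge N31927 = N31627 := ded_15_2 L247101 L228910 L249685
theorem L249689 : sm gc N31927 = N31636 := ded_13_2 L247168 L227953 (flp_b L199303) (flp_c L227582) L249685
theorem L249691 : sm gf N31927 = N29349 := ded_16_2 (flp_b L227622) (flp_f L199044) L199038 L227580 L249685
theorem L249693 : sm gg N31927 = N29370 := ded_17_2 (flp_b L227744) (flp_g L199118) (flp_b L199104) (flp_g L227584) L249685
theorem L249695 : sm gb N29345 = N31928 := rfl
theorem L249697 : sm gd N31928 = N30850 := ded_14_2 L240255 (flp_d L229996) L249695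
theorem L249699 : sm ge N31928 = N30133 := ded_15_2 (flp_b L234003) (flp_e L227614) L249695
theorem L249701 : sm ga N30135 = N31928 := ded_9_3 L249697 (flp_a L240421) L240425
theorem L249703 : sm gg N30131 = N31928 := ded_24_0 L249697 L240253 (flp_d L233973)
theorem L249705 : sm gc N29350 = N31929 := rfl
theorem L249707 : sm ga N31929 = N29352 := ded_8_1 (flp_c L227638) (flp_a L227628) L249705
theorem L249709 : sm gg N31929 = N31916 := ded_21_2 (flp_c L249605) (flp_g L227630) L249705
theorem L249711 : sm gb N31929 = N29527 := ded_13_1 L228798 L228818 L228876 L228862 L249705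
theorem L249713 : sm ge N29350 = N31930 := rfl
theorem L249715 : sm ga N31930 = N29353 := ded_10_1 (flp_e L227640) (flp_a L227628) L249713
theorem L249717 : sm gg N31930 = N31915 := ded_26_2 L249601 (flp_g L227630) L249713
theorem L249719 : sm gf N29350 = N31931 := rfl
theorem L249721 : sm ga N31931 = N29354 := ded_11_1 (flp_f L227644) (flp_a L227628) L249719
theorem L249723 : sm gd N31931 = N29351 := ded_23_1 (flp_f L227632) L227626 L249719
theorem L249725 : sm gg N31931 = N29362 := ded_29_3 (flp_a L227698) (flp_f L227520) (flp_g L227630) L249719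
theorem L249727 : sm gb N29351 = N31932 := rfl
theorem L249729 : sm ge N29352 = N31933 := rfl
theorem L249731 : sm gc N31933 = N29353 := ded_19_1 (flp_e L227640) L227638 L249729
theorem L249733 : sm gf N29353 = N31934 := rfl
theorem L249735 : sm ge N31934 = N29354 := ded_25_1 (flp_f L227644) L227640 L249733
theorem L249737 : sm gg N31934 = N29361 := ded_29_1 (flp_f L249603) (flp_g L249717) L249715 L249733
theorem L249739 : sm gg N29353 = N31935 := rfl
theorem L249741 : sm ga N31935 = N31915 := ded_12_1 (flp_g L249717) L249715 L249739
theorem L249743 : sm ge N31935 = N29355 := ded_26_1 (flp_g L227650) L227640 L249739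
theorem L249745 : sm gb N31935 = N29389 := ded_17_1 (flp_g L227871) L199185 (flp_g L199074) (flp_b L227642) L249739
theorem L249747 : sm gg N29356 = N31936 := rfl
theorem L249749 : sm gd N31936 = N29499 := ded_24_1 (flp_g L228595) (flp_d L227664) L249747
theorem L249751 : sm ge N31936 = N29357 := ded_26_1 (flp_g L227666) L227658 L249747
theorem L249753 : sm gf N30002 = N31936 := ded_29_0 (flp_g L249747) L227662 L228985 (flp_a L232949)
theorem L249755 : sm gb N31936 = N29412 := ded_17_1 (flp_g L228001) L199238 (flp_g L199082) (flp_b L227660) L249747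
theorem L249757 : sm gc N29358 = N31937 := rfl
theorem L249759 : sm ge N31937 = N29470 := ded_19_2 L228383 (flp_e L227680) L249757
theorem L249761 : sm gg N31937 = N29416 := ded_21_2 (flp_c L228022) (flp_g L227678) L249757
theorem L249763 : sm gb N31937 = N29472 := ded_13_1 L228404 L199539 (flp_c L199666) (flp_b L227676) L249757
theorem L249765 : sm gf N29358 = N31938 := rfl
theorem L249767 : sm gd N31938 = N29359 := ded_23_1 (flp_f L227682) L227674 L249765
theorem L249769 : sm ge N31938 = N29498 := ded_25_1 (flp_f L228587) (flp_e L227680) L249765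
theorem L249771 : sm gg N31938 = N29802 := ded_29_3 L231170 (flp_f L228026) (flp_g L227678) L249765
theorem L249773 : sm gb N31938 = N29551 := ded_16_1 (flp_f L228955) L199872 (flp_f L199668) (flp_b L227676) L249765
theorem L249775 : sm gb N29359 = N31939 := rfl
theorem L249777 : sm gd N31939 = N29551 := ded_14_2 (flp_b L249773) L249767 L249775
theorem L249779 : sm ge N31939 = N29360 := ded_15_2 (flp_b L227690) (flp_e L227686) L249775
theorem L249781 : sm gf N31939 = N29550 := ded_16_2 L228953 (flp_f L227662) L227660 L227682 L249775
theorem L249783 : sm ga N29361 = N31940 := rfl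
theorem L249785 : sm ge N31940 = N29362 := ded_10_2 (flp_a L227698) (flp_e L227696) L249783
theorem L249787 : sm gf N31940 = N31935 := ded_11_2 L249741 L249603 L249783
theorem L249789 : sm gc N29361 = N31941 := rfl
theorem L249791 : sm ge N31941 = N29363 := ded_19_2 (flp_c L227704) (flp_e L227696) L249789
theorem L249793 : sm gb N29362 = N31942 := rfl
theorem L249795 : sm gd N31942 = N29364 := ded_14_2 (flp_b L227706) (flp_d L227700) L249793
theorem L249797 : sm gc N29362 = N31943 := rfl
theorem L249799 : sm ga N31943 = N29363 := ded_8_1 (flp_c L227704) L227698 L249797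
theorem L249801 : sm gf N31943 = N29920 := ded_20_2 (flp_c L232236) (flp_f L227702) L249797
theorem L249803 : sm gd N31943 = N29921 := ded_28_3 L232242 (flp_d L246126) L246130 (flp_d L227714) (flp_a L227710) (flp_c L227708) (flp_d L227700) L249797
theorem L249805 : sm gb N29997 = N31943 := ded_30_10 L249799 (flp_f L249609) (flp_c L249605) (flp_b L227516) (flp_a L199927) (flp_f L199925) L199920 (flp_b L229009) (flp_a L232711) L232715 (flp_c L228056) (flp_b L228058) (flp_a L249799) L249801 (flp_c L232236) L227656 (flp_a L227833) L227885 (flp_c L232899)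
theorem L249807 : sm ga N29364 = N31944 := rfl
theorem L249809 : sm gg N29569 = N31944 := ded_29_3 (flp_a L249807) (flp_f L227903) (flp_g L228850) (flp_f L229074)
theorem L249811 : sm gc N29364 = N31945 := rfl
theorem L249813 : sm gf N31945 = N30574 := ded_20_2 L237899 L227903 L249811
theorem L249815 : sm gb N31696 = N31945 := ded_16_5 L249813 (flp_b L237897) L210601 (flp_b L225655) L247721
theorem L249817 : sm gg N29364 = N31946 := rfl
theorem L249819 : sm ga N31946 = N29569 := ded_12_1 L249809 (flp_a L249807) L249817
theorem L249821 : sm ge N31946 = N31944 := ded_26_1 (flp_g L249809) L229072 L249817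
theorem L249823 : sm gb N29365 = N31947 := rfl
theorem L249825 : sm gc N31947 = N31696 := ded_13_2 L249815 (flp_c L249811) (flp_b L227706) L227708 L249823
theorem L249827 : sm gf N31947 = N31693 := ded_16_2 L247695 L237849 (flp_b L227592) (flp_f L227712) L249823
theorem L249829 : sm gg N31947 = N30060 := ded_31_3 (flp_f L247681) L247685 (flp_g L226161) L227760 L227768 (flp_g L242156) (flp_f L242146) L217008 L199052 (flp_f L199044) L199038 L227586 (flp_f L227712) L249823
theorem L249831 : sm ga N31947 = N30079 := ded_30_3 L233587 L227782 (flp_b L220040) L191075 (flp_f L191027) (flp_c L159245) (flp_b L110323) (flp_a L92734) (flp_f L92732) (flp_c L92728) L110646 (flp_a L168067) L116545 (flp_c L168018) L198988 (flp_a L199309) (flp_f L199307) L227708 L249823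
theorem L249833 : sm gd N31947 = N30062 := ded_28_3 L233413 L203587 (flp_c L207636) (flp_d L236203) L236201 (flp_c L236239) (flp_d L247725) (flp_c L249825)
theorem L249835 : sm gd N29365 = N31948 := rfl
theorem L249837 : sm ga N31948 = N29366 := ded_9_1 (flp_d L227714) (flp_a L227710) L249835
theorem L249839 : sm gb N31948 = N30062 := ded_14_1 (flp_d L249833) (flp_b L249823) L249835
theorem L249841 : sm gf N31948 = N31926 := ded_23_2 L249681 (flp_f L227712) L249835
theorem L249843 : sm ge N30064 = N31948 := ded_10_0 L249837 (flp_e L246200) (flp_a L246204)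
theorem L249845 : sm gb N29369 = N31949 := rfl
theorem L249847 : sm gd N31949 = N29370 := ded_14_2 (flp_b L227744) (flp_d L227742) L249845
theorem L249849 : sm ge N31949 = N30084 := ded_15_2 (flp_b L243261) L243257 L249845
theorem L249851 : sm gc N31949 = N31036 := ded_13_2 L243289 (flp_c L243281) (flp_b L243243) (flp_c L243251) L249845
theorem L249853 : sm gf N31949 = N30081 := ded_16_2 (flp_b L233565) L233573 (flp_b L233585) (flp_f L227776) L249845
theorem L249855 : sm ga N29370 = N31950 := rfl
theorem L249857 : sm gc N31950 = N31635 := ded_8_2 (flp_a L247152) (flp_c L227746) L249855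
theorem L249859 : sm ge N31950 = N31901 := ded_10_2 L249476 L229100 L249855
theorem L249861 : sm gf N31950 = N31905 := ded_29_0 L249510 (flp_f L249691) L249693 L249855
theorem L249863 : sm gb N31950 = N31900 := ded_7_2 L249458 (flp_b L238077) (flp_a L228337) L228345 L223122 L221762 L199154 L227744 L249855
theorem L249865 : sm gf N29370 = N31951 := rfl
theorem L249867 : sm ga N31951 = N31905 := ded_11_1 (flp_f L249861) (flp_a L249855) L249865
theorem L249869 : sm gc N31951 = N29458 := ded_20_1 L228278 (flp_c L227746) L249865
theorem L249871 : sm gd N31951 = N30081 := ded_23_1 (flp_f L249853) L249847 L249865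
theorem L249873 : sm ge N31951 = N31906 := ded_25_1 L249516 L229100 L249865
theorem L249875 : sm gg N31951 = N31391 := ded_29_3 L245167 (flp_f L249691) L249693 L249865
theorem L249877 : sm gb N31951 = N30079 := ded_16_1 L233587 (flp_b L227778) L199138 L227744 L249865
theorem L249879 : sm gb N29377 = N31952 := rfl
theorem L249881 : sm gc N29379 = N31953 := rfl
theorem L249883 : sm ga N31953 = N31953 := ded_8_1 (flp_c L249881) L227810 L249881
theorem L249884 : sm ge N29379 = N31954 := rfl
theorem L249886 : sm ga N31954 = N31954 := ded_10_1 (flp_e L249884) L227810 L249884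
theorem L249887 : sm gb N31954 = N29381 := ded_15_1 (flp_e L227821) (flp_b L227811) L249884
theorem L249889 : sm gb N29380 = N31955 := rfl
theorem L249891 : sm gd N31955 = N29999 := ded_14_2 (flp_b L232915) L227817 L249889
theorem L249893 : sm gg N31955 = N30006 := ded_17_2 (flp_b L232981) (flp_g L203223) (flp_b L203171) (flp_g L227819) L249889
theorem L249895 : sm ga N31955 = N30006 := ded_7_1 (flp_b L232981) (flp_a L232723) (flp_b L242951) L242949 L218112 L217809 L201518 (flp_a L227815) L249889
theorem L249897 : sm ge N29380 = N31956 := rfl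
theorem L249899 : sm ga N31956 = N29385 := ded_10_1 (flp_e L227851) (flp_a L227815) L249897
theorem L249901 : sm gc N31956 = N29381 := ded_19_1 (flp_e L227821) L227813 L249897
theorem L249903 : sm gg N31956 = N29992 := ded_26_2 L232871 (flp_g L227819) L249897
theorem L249905 : sm gd N31956 = N29994 := ded_22_1 L232879 L203167 (flp_e L203183) L227817 L249897
theorem L249907 : sm gf N29381 = N31957 := rfl
theorem L249909 : sm ga N31957 = N29388 := ded_11_1 (flp_f L227867) (flp_a L227823) L249907
theorem L249911 : sm ge N31957 = N29382 := ded_25_1 (flp_f L227825) L227821 L249907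
theorem L249913 : sm gg N29381 = N31958 := rfl
theorem L249915 : sm ga N31958 = N29389 := ded_12_1 (flp_g L227871) (flp_a L227823) L249913
theorem L249917 : sm gc N31958 = N29992 := ded_21_1 (flp_g L249903) L249901 L249913
theorem L249919 : sm ge N31958 = N29383 := ded_26_1 (flp_g L227831) L227821 L249913
theorem L249921 : sm gd N29385 = N31959 := rfl
theorem L249923 : sm ga N31959 = N29994 := ded_9_1 (flp_d L249905) L249899 L249921
theorem L249925 : sm ge N31959 = N29986 := ded_22_2 L232831 L227847 (flp_d L227839) L227851 L249921
theorem L249927 : sm gg N29984 = N31959 := ded_12_0 L249923 (flp_g L232877) (flp_a L232817)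
theorem L249929 : sm gf N29385 = N31960 := rfl
theorem L249931 : sm gc N31960 = N29388 := ded_20_1 (flp_f L227867) (flp_c L227853) L249929
theorem L249933 : sm ge N31960 = N29386 := ded_25_1 (flp_f L227855) L227851 L249929
theorem L249935 : sm gg N29385 = N31961 := rfl
theorem L249937 : sm ga N31961 = N29992 := ded_12_1 (flp_g L249903) L249899 L249935
theorem L249939 : sm gc N31961 = N29389 := ded_21_1 (flp_g L227871) (flp_c L227853) L249935
theorem L249941 : sm gd N31961 = N29984 := ded_24_1 L249927 (flp_d L249921) L249935
theorem L249943 : sm ge N31961 = N29387 := ded_26_1 (flp_g L227859) L227851 L249935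
theorem L249945 : sm gb N29386 = N31962 := rfl
theorem L249947 : sm gc N31962 = N29492 := ded_13_2 L228553 (flp_c L227925) (flp_b L227875) (flp_c L227857) L249945
theorem L249949 : sm ga N29494 = N31962 := ded_8_3 L249947 L228551 L228565
theorem L249951 : sm gf N29387 = N31963 := rfl
theorem L249953 : sm ga N31963 = N29997 := ded_11_1 (flp_f L232897) (flp_a L227861) L249951
theorem L249955 : sm gc N31963 = N29392 := ded_20_1 (flp_f L227887) (flp_c L227863) L249951
theorem L249957 : sm gd N31963 = N29987 := ded_23_1 (flp_f L232833) (flp_d L227865) L249951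
theorem L249959 : sm gg N31963 = N29804 := ded_29_3 (flp_a L231188) (flp_f L227855) L227859 L249951
theorem L249961 : sm gb N29388 = N31964 := rfl
theorem L249963 : sm ge N31964 = N29390 := ded_15_2 (flp_b L227875) (flp_e L227869) L249961
theorem L249965 : sm gf N31964 = N29396 := ded_16_2 (flp_b L227905) (flp_f L199209) (flp_b L199185) L227867 L249961
theorem L249967 : sm gg N29388 = N31965 := rfl
theorem L249969 : sm ge N31965 = N29391 := ded_26_1 (flp_g L227881) (flp_e L227869) L249967
theorem L249971 : sm gf N31958 = N31965 := ded_29_0 (flp_g L249967) (flp_f L227867) L227871 (flp_a L249915)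
theorem L249973 : sm gf N29389 = N31966 := rfl
theorem L249975 : sm ga N31966 = N31965 := ded_11_1 (flp_f L249971) L249915 L249973
theorem L249977 : sm ge N31966 = N29392 := ded_25_1 (flp_f L227887) (flp_e L227873) L249973
theorem L249979 : sm gg N31966 = N31957 := ded_29_3 L249909 (flp_f L227867) L227871 L249973
theorem L249981 : sm gb N29391 = N31967 := rfl
theorem L249983 : sm gd N31967 = N29394 := ded_14_2 (flp_b L227899) (flp_d L227883) L249981
theorem L249985 : sm gc N31967 = N31942 := ded_13_2 (flp_b L249793) L249797 (flp_b L249805) L232899 L249981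
theorem L249987 : sm gb N29392 = N31968 := rfl
theorem L249989 : sm gd N31968 = N29395 := ded_14_2 (flp_b L227901) (flp_d L227891) L249987
theorem L249991 : sm gf N31968 = N31942 := ded_16_2 (flp_b L249793) L227702 L227656 L227887 L249987
theorem L249993 : sm gd N29393 = N31969 := rfl
theorem L249995 : sm gf N31969 = N29402 := ded_23_2 (flp_d L227947) (flp_f L227897) L249993
theorem L249997 : sm gc N31969 = N29402 := ded_28_6 (flp_d L227947) (flp_a L227939) (flp_c L227937) (flp_d L227911) (flp_c L227925) L227877 L227895 L249993
theorem L249999 : sm ga N29394 = N31970 := rfl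
theorem L250001 : sm gc N29394 = N31971 := rfl
theorem L250003 : sm ge N31971 = N30581 := ded_19_2 L237941 L228834 L250001
theorem L250005 : sm gf N31971 = N30581 := ded_20_2 L237941 L228836 L250001
theorem L250007 : sm gb N31971 = N30465 := ded_13_1 L236893 L211531 L211523 L227899 L250001
theorem L250009 : sm ga N31932 = N29533 := ded_30_19 L228836 L250001 L250007 L236891 (flp_f L208913) (flp_c L177695) (flp_b L128737) L101883 L101943 (flp_c L110071) L158817 (flp_a L168092) (flp_f L168090) L168088 L199038 L227570 L249657 L249661 L249727
theorem L250011 : sm ge N31970 = N31932 := ded_10_0 L250009 L228834 L249999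
theorem L250013 : sm gf N31970 = N31932 := ded_11_0 L250009 L228836 L249999
theorem L250015 : sm gb N29541 = N31970 := ded_15_3 L250011 (flp_b L249727) (flp_e L228898)
theorem L250017 : sm ga N29395 = N31972 := rfl
theorem L250019 : sm gf N31972 = N31944 := ded_11_2 (flp_a L249807) (flp_f L227903) L250017
theorem L250021 : sm gb N31972 = N29493 := ded_7_2 L228559 (flp_b L199861) (flp_a L228896) L250015 (flp_a L249999) (flp_b L227899) (flp_a L199205) L227901 L250017
theorem L250023 : sm ga N29396 = N31973 := rfl
theorem L250025 : sm ge N31973 = N29397 := ded_10_2 (flp_a L227909) (flp_e L227907) L250023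
theorem L250027 : sm gc N31964 = N31973 := ded_19_3 L250025 (flp_c L227925) (flp_e L249963)
theorem L250029 : sm gc N29396 = N31974 := rfl
theorem L250031 : sm ga N31974 = N31964 := ded_8_1 L250027 (flp_a L250023) L250029
theorem L250033 : sm ge N31974 = N29398 := ded_19_2 (flp_c L227913) (flp_e L227907) L250029
theorem L250035 : sm gf N31974 = N31973 := ded_20_2 (flp_c L250027) L249965 L250029
theorem L250037 : sm gb N31974 = N29425 := ded_13_1 L231180 (flp_b L231176) L201576 L227905 L250029
theorem L250039 : sm gg N29426 = N31974 := ded_26_0 L250033 (flp_g L227919) (flp_e L228081)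
theorem L250041 : sm gg N29396 = N31975 := rfl
theorem L250043 : sm gc N31975 = N29426 := ded_21_1 L250039 (flp_c L250029) L250041
theorem L250045 : sm ge N31975 = N29399 := ded_26_1 (flp_g L227927) (flp_e L227907) L250041
theorem L250047 : sm gf N31975 = N29426 := ded_29_2 L250039 L250031 L249965 L250041
theorem L250049 : sm gb N31975 = N31934 := ded_17_1 L249737 (flp_b L227694) L199215 L227905 L250041
theorem L250051 : sm gg N29397 = N31976 := rfl
theorem L250053 : sm ga N31976 = N29399 := ded_12_1 (flp_g L227927) L227909 L250051
theorem L250055 : sm gc N31976 = N29427 := ded_21_1 L228087 L227925 L250051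
theorem L250057 : sm gd N31976 = N29401 := ded_24_1 (flp_g L227941) (flp_d L227911) L250051
theorem L250059 : sm gf N29427 = N31976 := ded_29_0 (flp_g L250051) (flp_f L227923) (flp_g L227919) L228083
theorem L250061 : sm gb N29400 = N31977 := rfl
theorem L250063 : sm gf N31977 = N29446 := ded_16_2 (flp_b L228208) (flp_f L221394) (flp_b L228097) L228093 L250061
theorem L250065 : sm ga N31977 = N29446 := ded_7_1 (flp_b L228208) L199399 L168340 (flp_a L168360) L197071 L197067 (flp_b L199225) (flp_a L227939) L250061
theorem L250067 : sm gd N29400 = N31978 := rfl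
theorem L250069 : sm ga N31978 = N29402 := ded_9_1 (flp_d L227947) (flp_a L227939) L250067
theorem L250071 : sm gg N29400 = N31979 := rfl
theorem L250073 : sm ga N31979 = N29403 := ded_12_1 (flp_g L227951) (flp_a L227939) L250071
theorem L250075 : sm gc N31979 = N29401 := ded_21_1 (flp_g L227941) L227937 L250071
theorem L250077 : sm gf N29430 = N31979 := ded_29_0 (flp_g L250071) (flp_f L228093) L228095 (flp_a L228105)
theorem L250079 : sm gb N29401 = N31980 := rfl
theorem L250081 : sm ge N31980 = N31972 := ded_15_2 L250021 L228561 L250079
theorem L250083 : sm gg N31980 = N31972 := ded_17_2 L250021 (flp_g L228557) L199632 L227941 L250079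
theorem L250085 : sm ga N31980 = N29535 := ded_7_1 (flp_b L228846) L199825 L228832 (flp_a L250009) (flp_b L249727) L227634 L199303 (flp_a L227943) L250079
theorem L250087 : sm gf N31946 = N31980 := ded_31_1 (flp_b L250079) (flp_g L227941) L199297 (flp_b L199291) (flp_g L168252) L116630 (flp_b L116626) L116631 (flp_f L116637) L168106 L199066 (flp_f L199307) L227706 L249817
theorem L250089 : sm ge N29402 = N31981 := rfl
theorem L250091 : sm gb N31981 = N29405 := ded_15_1 (flp_e L227967) (flp_b L227949) L250089
theorem L250093 : sm gg N29402 = N31982 := rfl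
theorem L250095 : sm gd N31982 = N29403 := ded_24_1 (flp_g L227951) L227947 L250093
theorem L250097 : sm gb N31982 = N31367 := ded_17_1 (flp_g L244953) L228290 L225117 (flp_b L227949) L250093
theorem L250099 : sm gf N29431 = N31982 := ded_23_0 L250095 (flp_f L227955) L228109
theorem L250101 : sm gb N29404 = N31983 := rfl
theorem L250103 : sm gd N31983 = N31647 := ded_14_2 (flp_b L247241) (flp_d L227963) L250101
theorem L250105 : sm ge N31983 = N31336 := ded_15_2 L244724 L227965 L250101
theorem L250107 : sm gg N31983 = N31331 := ded_17_2 (flp_b L247883) L247881 (flp_b L243871) (flp_g L227961) L250101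
theorem L250109 : sm ga N29406 = N31984 := rfl
theorem L250111 : sm gd N31984 = N31652 := ded_9_2 L247277 L230742 L250109
theorem L250113 : sm gf N31984 = N31984 := ded_11_2 (flp_a L250109) L227986 L250109
theorem L250114 : sm gb N31984 = N30005 := ded_7_2 L232975 L231016 L201496 L169615 L117461 L168224 L199233 L227973 L250109
theorem L250116 : sm ge N29406 = N31985 := rfl
theorem L250118 : sm gb N31985 = N29407 := ded_15_1 (flp_e L227975) L227973 L250116
theorem L250120 : sm gf N31985 = N31985 := ded_25_2 (flp_e L250116) L227986 L250116
theorem L250121 : sm gd N31985 = N29424 := ded_22_1 L228072 (flp_d L227434) L230940 L230742 L250116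
theorem L250123 : sm gd N29407 = N31986 := rfl
theorem L250125 : sm ga N31986 = N29410 := ded_9_1 (flp_d L227992) (flp_a L227977) L250123
theorem L250127 : sm gb N31986 = N29424 := ded_14_1 (flp_d L250121) L250118 L250123
theorem L250129 : sm gg N31986 = N31939 := ded_24_2 L249777 L230909 L250123
theorem L250131 : sm ge N31986 = N29421 := ded_22_2 L230932 (flp_e L230745) L201414 L227975 L250123
theorem L250133 : sm gc N29418 = N31986 := ded_13_0 L250127 (flp_c L228070) (flp_b L199267) (flp_c L199251) L228030
theorem L250135 : sm gf N29407 = N31987 := rfl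
theorem L250137 : sm ga N31987 = N29411 := ded_11_1 (flp_f L227996) (flp_a L227977) L250135
theorem L250139 : sm gc N31987 = N31987 := ded_20_1 (flp_f L250135) L227979 L250135
theorem L250140 : sm ge N31987 = N29408 := ded_25_1 (flp_f L227980) L227975 L250135
theorem L250142 : sm gg N31987 = N29547 := ded_29_3 L228938 L228955 L230909 L250135
theorem L250144 : sm gb N31987 = N31987 := ded_16_1 (flp_f L250135) (flp_b L250118) L250120 L250118 L250135
theorem L250145 : sm gc N29410 = N31988 := rfl
theorem L250147 : sm ga N31988 = N29418 := ded_8_1 L250133 L250125 L250145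
theorem L250149 : sm ge N31988 = N29420 := ded_19_2 L230930 L230768 L250145
theorem L250151 : sm gd N31132 = N31988 := ded_22_5 L250149 L228046 (flp_e L217968) L217964 L242869
theorem L250153 : sm gf N29410 = N31989 := rfl
theorem L250155 : sm gd N31989 = N29411 := ded_23_1 (flp_f L227996) L227992 L250153
theorem L250157 : sm gg N31989 = N29550 := ded_29_1 (flp_f L249781) (flp_g L250129) L250125 L250153
theorem L250159 : sm gg N29410 = N31990 := rfl
theorem L250161 : sm ga N31990 = N31939 := ded_12_1 (flp_g L250129) L250125 L250159
theorem L250163 : sm gd N31990 = N29412 := ded_24_1 (flp_g L228001) L227992 L250159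
theorem L250165 : sm ge N31990 = N29500 := ded_26_1 (flp_g L230766) L230768 L250159
theorem L250167 : sm gb N31990 = N29499 := ded_17_1 (flp_g L228595) (flp_b L227676) L227678 (flp_b L227994) L250159
theorem L250169 : sm gb N29411 = N31991 := rfl
theorem L250171 : sm ge N31991 = N29413 := ded_15_2 (flp_b L228006) (flp_e L227999) L250169
theorem L250173 : sm gf N31991 = N29418 := ded_16_2 (flp_b L228030) (flp_f L199249) (flp_b L199238) L227996 L250169
theorem L250175 : sm gg N31991 = N29558 := ded_17_2 (flp_b L228989) (flp_g L199883) (flp_b L199872) (flp_g L230898) L250169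
theorem L250177 : sm ga N29413 = N31992 := rfl
theorem L250179 : sm gd N31992 = N31135 := ded_9_2 L242885 L230776 L250177
theorem L250181 : sm gf N31992 = N29420 := ded_11_2 (flp_a L228044) (flp_f L228008) L250177
theorem L250183 : sm gg N31992 = N29560 := ded_12_2 (flp_a L229003) (flp_g L230825) L250177
theorem L250185 : sm gc N29413 = N31993 := rfl
theorem L250187 : sm gf N31993 = N29421 := ded_20_2 (flp_c L228048) (flp_f L228008) L250185
theorem L250189 : sm gg N31993 = N29561 := ded_21_2 (flp_c L229007) (flp_g L230825) L250185
theorem L250191 : sm gb N31993 = N31993 := ded_13_1 (flp_c L250185) (flp_b L228006) L199243 L228006 L250185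
theorem L250192 : sm gb N29416 = N31994 := rfl
theorem L250194 : sm ge N31994 = N29794 := ded_15_2 L231104 (flp_e L228024) L250192
theorem L250196 : sm gg N29792 = N31994 := ded_26_0 L250194 (flp_g L231098) (flp_e L231092)
theorem L250198 : sm gf N29416 = N31995 := rfl
theorem L250200 : sm gc N31995 = N29417 := ded_20_1 (flp_f L228026) L228022 L250198
theorem L250202 : sm ge N31995 = N29981 := ded_25_1 L232789 (flp_e L228024) L250198
theorem L250204 : sm gb N29984 = N31995 := ded_15_3 L250202 L232787 L232815
theorem L250206 : sm gb N29417 = N31996 := rfl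
theorem L250208 : sm gd N31996 = N29418 := ded_14_2 (flp_b L228030) (flp_d L228028) L250206
theorem L250210 : sm ge N31996 = N31126 := ded_15_2 L242828 L230800 L250206
theorem L250212 : sm gc N31996 = N31132 := ded_13_2 L242871 L242576 L250204 L250200 L250206
theorem L250214 : sm ga N31132 = N31996 := ded_9_3 L250208 (flp_a L250147) (flp_d L250151)
theorem L250216 : sm gg N29417 = N31997 := rfl
theorem L250218 : sm ga N31997 = N31938 := ded_12_1 L249771 L231170 L250216
theorem L250220 : sm gd N31997 = N29419 := ded_24_1 (flp_g L228034) (flp_d L228028) L250216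
theorem L250222 : sm ge N31997 = N29706 := ded_26_1 (flp_g L230802) L230800 L250216
theorem L250224 : sm gf N29704 = N31997 := ded_29_0 (flp_g L250216) (flp_f L228026) (flp_g L227678) (flp_a L230260)
theorem L250226 : sm gg N29418 = N31998 := rfl
theorem L250228 : sm gc N31998 = N31939 := ded_21_1 (flp_g L250129) (flp_c L250133) L250226
theorem L250230 : sm ge N31998 = N29422 := ded_26_1 (flp_g L228054) (flp_e L228032) L250226
theorem L250232 : sm gb N31941 = N31998 := ded_13_5 L250228 (flp_b L249775) L227684 L227694 L249789
theorem L250234 : sm gb N29419 = N31999 := rfl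
theorem L250236 : sm ge N31999 = N29423 := ded_15_2 (flp_b L228060) (flp_e L228040) L250234
theorem L250238 : sm gc N31999 = N31934 := ded_13_2 (flp_b L250049) L250043 (flp_b L228079) (flp_c L228038) L250234
theorem L250240 : sm gg N31999 = N31941 := ded_17_2 L250232 (flp_g L250226) (flp_b L228030) L228034 L250234
theorem L250242 : sm gf N31933 = N31999 := ded_25_0 L250236 (flp_f L228068) L249729
theorem L250244 : sm ga N29423 = N32000 := rfl
theorem L250246 : sm gc N32000 = N31931 := ded_8_2 L249721 (flp_c L228064) L250244
theorem L250248 : sm gd N32000 = N29708 := ded_9_2 (flp_a L230282) (flp_d L228062) L250244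
theorem L250250 : sm gf N32000 = N31929 := ded_11_2 L249707 L228068 L250244
theorem L250252 : sm gg N32000 = N31943 := ded_12_2 L249799 (flp_g L228066) L250244
theorem L250254 : sm ga N29426 = N32001 := rfl
theorem L250256 : sm ge N32001 = N29427 := ded_10_2 (flp_a L228083) (flp_e L228081) L250254
theorem L250258 : sm gg N32001 = N31964 := ded_12_2 (flp_a L250031) (flp_g L250039) L250254
theorem L250260 : sm gb N29427 = N32002 := rfl
theorem L250262 : sm gd N32002 = N29429 := ded_14_2 (flp_b L228099) (flp_d L228085) L250260
theorem L250264 : sm gg N32002 = N31967 := ded_17_2 (flp_b L249981) (flp_g L227881) L227875 (flp_g L228087) L250260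
theorem L250266 : sm gd N29428 = N32003 := rfl
theorem L250268 : sm ga N32003 = N31969 := ded_9_1 (flp_d L249993) (flp_a L228091) L250266
theorem L250270 : sm gb N32003 = N30596 := ded_14_1 L238033 (flp_b L228097) L250266
theorem L250272 : sm gf N32003 = N31978 := ded_23_2 (flp_d L250067) (flp_f L228093) L250266
theorem L250274 : sm gg N32003 = N29431 := ded_24_2 (flp_d L228109) (flp_g L228095) L250266
theorem L250276 : sm gc N31978 = N32003 := ded_28_0 (flp_d L250266) (flp_c L228089) L227917 (flp_c L227913) L199219 L199223 L227947 (flp_a L250069)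
theorem L250278 : sm ga N29429 = N32004 := rfl
theorem L250280 : sm gg N32004 = N31970 := ded_12_2 (flp_a L249999) (flp_g L228101) L250278
theorem L250282 : sm gf N32004 = N29504 := ded_29_0 (flp_g L228838) L228836 (flp_g L228101) L250278
theorem L250284 : sm gb N32004 = N31944 := ded_7_2 (flp_a L249807) (flp_b L227706) (flp_a L199100) (flp_b L168126) (flp_a L116633) L168256 L199313 L228099 L250278
theorem L250286 : sm gc N29429 = N32005 := rfl
theorem L250288 : sm gg N32005 = N31971 := ded_21_2 (flp_c L250001) (flp_g L228101) L250286
theorem L250290 : sm gb N31796 = N32005 := ded_17_5 L250288 L250007 (flp_g L236897) L226327 L248581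
theorem L250292 : sm gf N29429 = N32006 := rfl
theorem L250294 : sm ga N32006 = N29504 := ded_11_1 (flp_f L250282) (flp_a L250278) L250292
theorem L250296 : sm ge N32006 = N32004 := ded_25_1 L250282 L228623 L250292
theorem L250298 : sm gg N32006 = N31932 := ded_29_3 L250009 L228836 (flp_g L228101) L250292
theorem L250300 : sm gb N32006 = N31946 := ded_16_1 L250087 (flp_b L250079) (flp_f L227945) L228099 L250292
theorem L250302 : sm gb N29430 = N32007 := rfl
theorem L250304 : sm gc N32007 = N31796 := ded_13_2 L250290 (flp_c L250286) (flp_b L228099) L228103 L250302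
theorem L250306 : sm gg N32007 = N31795 := ded_17_2 L248577 L243181 L238569 (flp_g L228107) L250302
theorem L250308 : sm ga N31797 = N32007 := ded_8_3 L250304 L248583 (flp_c L248591)
theorem L250310 : sm gd N29430 = N32008 := rfl
theorem L250312 : sm ga N32008 = N29431 := ded_9_1 (flp_d L228109) (flp_a L228105) L250310
theorem L250314 : sm gg N32008 = N31969 := ded_24_2 (flp_d L249993) (flp_g L228107) L250310
theorem L250316 : sm gc N32008 = N31982 := ded_28_6 L250095 (flp_a L250073) L250075 (flp_d L250057) L250055 L228085 L228103 L250310
theorem L250318 : sm gc N29431 = N32009 := rfl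
theorem L250320 : sm ga N32009 = N31982 := ded_8_1 (flp_c L250316) L250312 L250318
theorem L250322 : sm gf N32009 = N32008 := ded_20_2 L250316 (flp_f L250099) L250318
theorem L250324 : sm gg N32009 = N31978 := ded_21_2 L250276 L250274 L250318
theorem L250326 : sm gb N32009 = N30590 := ded_13_1 (flp_c L237995) (flp_b L210803) L199335 (flp_b L228111) L250318
theorem L250328 : sm gd N32009 = N31979 := ded_28_7 L250073 L227953 (flp_d L227931) L227929 L199289 L199317 L228109 L250318
theorem L250330 : sm ge N29431 = N32010 := rfl
theorem L250332 : sm gb N32010 = N29432 := ded_15_1 (flp_e L228113) (flp_b L228111) L250330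
theorem L250334 : sm gd N32010 = N31465 := ded_22_1 L245753 (flp_d L228633) L199696 L228109 L250330
theorem L250336 : sm ga N29433 = N32011 := rfl
theorem L250338 : sm gc N32011 = N31391 := ded_8_2 L245167 (flp_c L228125) L250336
theorem L250340 : sm gd N32011 = N29452 := ded_9_2 (flp_a L238055) L238051 L250336
theorem L250342 : sm gf N32011 = N30597 := ded_11_2 (flp_a L247164) L247170 L250336
theorem L250344 : sm gg N29458 = N32011 := ded_29_3 (flp_a L250336) (flp_f L247170) (flp_g L247162) (flp_f L228278)
theorem L250346 : sm gb N32011 = N29451 := ded_32_20 L228230 L199413 (flp_d L199383) L228186 L228194 L223671 (flp_d L220404) L220402 (flp_d L223659) L223657 L211445 L211439 (flp_c L212181) (flp_d L234609) L234607 L204346 (flp_d L204384) (flp_c L234703) L234705 L219638 (flp_b L199718) L199722 L202744 (flp_d L202740) (flp_c L170380) (flp_b L170216) (flp_d L170214) (flp_c L117845) (flp_d L117829) L170154 (flp_b L202186) L202182 L171502 L118770 (flp_d L111437) (flp_c L161176) (flp_b L189503) (flp_d L194873) (flp_c L194865) L162356 (flp_c L158023) L189519 L218772 (flp_c L218780)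 (flp_d L219172) (flp_c L219274) (flp_b L224835) L224829 L218856 (flp_d L205428) L205426 L172649 (flp_d L173036) L204944 L204936 L172182 (flp_b L143341) (flp_e L143339) (flp_d L179023) (flp_c L182199) L182201 (flp_c L182123) L203337 L203332 L203352 L205607 (flp_c L205598) (flp_b L172937) (flp_d L172931) (flp_c L192989) (flp_d L221610) L221608 L221616 L221618 L221638 L245165 (flp_c L250338)
theorem L250348 : sm gg N29433 = N32012 := rfl
theorem L250350 : sm ga N32012 = N29458 := ded_12_1 L250344 (flp_a L250336) L250348
theorem L250352 : sm gc N32012 = N31905 := ded_21_1 L249510 (flp_c L228125) L250348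
theorem L250354 : sm gd N32012 = N29459 := ded_24_1 (flp_g L238053) L238051 L250348
theorem L250356 : sm ge N32012 = N31907 := ded_26_1 L249526 L228665 L250348
theorem L250358 : sm gf N31635 = N32012 := ded_29_0 (flp_g L250348) (flp_f L247170) (flp_g L247162) L247152
theorem L250360 : sm gb N32012 = N31797 := ded_17_1 (flp_g L248589) L226331 (flp_g L199341) L228123 L250348
theorem L250362 : sm gd N29434 = N32013 := rfl
theorem L250364 : sm ga N32013 = N32013 := ded_9_1 (flp_d L250362) L228131 L250362
theorem L250365 : sm gb N32013 = N29435 := ded_14_1 (flp_d L228132) L228127 L250362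
theorem L250367 : sm gg N31637 = N32013 := ded_17_0 L250365 L228138 L219924 (flp_g L225135) L247172
theorem L250369 : sm gg N29434 = N32014 := rfl
theorem L250371 : sm ga N32014 = N32014 := ded_12_1 (flp_g L250369) L228131 L250369
theorem L250372 : sm gc N32014 = N32013 := ded_21_1 (flp_g L250367) L247174 L250369
theorem L250374 : sm gd N32014 = N31637 := ded_24_1 L250367 (flp_d L250362) L250369
theorem L250376 : sm ge N32014 = N31722 := ded_26_1 L247960 (flp_e L228129) L250369
theorem L250378 : sm gf N32014 = N32013 := ded_29_0 (flp_g L250367) L247176 L250369 L250371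
theorem L250380 : sm gb N32014 = N31227 := ded_17_1 (flp_g L243833) (flp_b L219914) (flp_g L199351) L228127 L250369
theorem L250382 : sm gb N29436 = N32015 := rfl
theorem L250384 : sm gd N32015 = N31470 := ded_14_2 L245795 (flp_d L231444) L250382
theorem L250386 : sm gg N32015 = N31720 := ded_17_2 (flp_b L247942) (flp_g L243761) (flp_b L243775) L243773 L250382
theorem L250388 : sm ga N32015 = N31459 := ded_7_1 (flp_b L245713) L222465 L245693 (flp_a L248183) L248189 L243861 (flp_b L231462) L231460 L250382
theorem L250390 : sm gc N29441 = N32016 := rfl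
theorem L250392 : sm gf N32016 = N29449 := ded_20_2 (flp_c L228222) (flp_f L228172) L250390
theorem L250394 : sm ge N29441 = N32017 := rfl
theorem L250396 : sm gf N32017 = N29450 := ded_25_2 (flp_e L228224) (flp_f L228172) L250394
theorem L250398 : sm gc N29442 = N32018 := rfl
theorem L250400 : sm ga N32018 = N29443 := ded_8_1 (flp_c L228186) L228174 L250398
theorem L250402 : sm ge N32018 = N29444 := ded_19_2 (flp_c L228198) (flp_e L228178) L250398
theorem L250404 : sm gf N32018 = N31364 := ded_20_2 (flp_c L244921) (flp_f L228180) L250398
theorem L250406 : sm gg N32018 = N29444 := ded_21_2 (flp_c L228198) (flp_g L228182) L250398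
theorem L250408 : sm gd N31563 = N32018 := ded_9_0 L250400 (flp_d L228196) L246537
theorem L250410 : sm gb N29444 = N32019 := rfl
theorem L250412 : sm gc N32019 = N31493 := ded_13_2 L245960 L228453 (flp_b L199580) L228198 L250410
theorem L250414 : sm gf N32019 = N30069 := ded_16_2 (flp_b L233469) L233485 (flp_b L244919) L244915 L250410
theorem L250416 : sm ga N32019 = N31654 := ded_30_3 (flp_f L247297) (flp_c L245946) L245950 L225257 (flp_f L197653) (flp_c L197651) (flp_b L167056) (flp_a L115802) (flp_f L115800) L167048 (flp_b L191125) L191123 (flp_f L197901) (flp_c L197895) L197887 (flp_a L221374) L221370 L228198 L250410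
theorem L250418 : sm gd N29444 = N32020 := rfl
theorem L250420 : sm ga N32020 = N29445 := ded_9_1 (flp_d L228202) (flp_a L228200) L250418
theorem L250422 : sm gg N32020 = N31563 := ded_24_2 L250408 L250406 L250418
theorem L250424 : sm gc N29445 = N32021 := rfl
theorem L250426 : sm gg N32021 = N29480 := ded_21_2 L228469 (flp_g L228206) L250424
theorem L250428 : sm ge N29477 = N32021 := ded_26_3 L250426 (flp_e L228465) (flp_g L228447)
theorem L250430 : sm ge N29445 = N32022 := rfl
theorem L250432 : sm gb N32022 = N31269 := ded_15_1 L244255 (flp_b L228204) L250430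
theorem L250434 : sm gc N32022 = N29477 := ded_19_1 L250428 (flp_c L250424) L250430
theorem L250436 : sm gg N32022 = N29479 := ded_26_2 (flp_e L228463) (flp_g L228206) L250430
theorem L250438 : sm gd N32022 = N29479 := ded_22_1 (flp_e L228463) L228196 L228188 L228202 L250430
theorem L250440 : sm gd N29446 = N32023 := rfl
theorem L250442 : sm gb N32023 = N29447 := ded_14_1 (flp_d L228210) L228208 L250440
theorem L250444 : sm gg N29446 = N32024 := rfl
theorem L250446 : sm gf N32024 = N32024 := ded_29_2 (flp_g L250444) (flp_a L250065) L250063 L250444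
theorem L250447 : sm gc N29447 = N32025 := rfl
theorem L250449 : sm ga N32025 = N29449 := ded_8_1 (flp_c L228222) (flp_a L228212) L250447
theorem L250451 : sm gd N32021 = N32025 := ded_28_1 (flp_c L250447) (flp_d L228210) (flp_c L199397) (flp_d L199393) L228198 L250418 L250420 L250424
theorem L250453 : sm gg N32025 = N30475 := ded_24_2 L236993 (flp_g L250426) L250451
theorem L250455 : sm ge N32025 = N30596 := ded_22_2 L238033 L221392 L228443 L250428 L250451
theorem L250457 : N32017 = N29449 := coi_10_3 (flp_a L250449) L250455 L238031 L250394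
theorem L250458 : N32017 = N29449 := eqc rfl L250457 rfl
theorem L250459 : sm ge N29449 = N29441 := trfs L250458 (flp_e L250394) rfl
theorem L250461 : sm gf N29449 = N29450 := trfs L250458 L250396 rfl
theorem L250462 : N29450 = N32016 := eqes L250461 (flp_f L250392)
theorem L250463 : N32016 = N29450 := (eqc rfl L250462 rfl).symm
theorem L250464 : sm gc N29450 = N29441 := trfs L250463 (flp_c L250390) rfl
theorem L250466 : sm gf N29450 = N29449 := trfs L250463 L250392 rfl
theorem L250468 : sm ge N29447 = N32026 := rfl
theorem L250470 : sm ga N32026 = N29450 := ded_10_1 (flp_e L228224) (flp_a L228212) L250468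
theorem L250472 : sm gc N32026 = N30596 := ded_19_1 (flp_e L250455) (flp_c L250447) L250468
theorem L250474 : sm gf N32026 = N32025 := ded_25_2 L250455 (flp_f L238035) L250468
theorem L250476 : sm gg N30592 = N32026 := ded_21_0 L250472 (flp_g L238029) (flp_c L238005)
theorem L250478 : sm gg N29447 = N32027 := rfl
theorem L250480 : sm ga N32027 = N29451 := ded_12_1 (flp_g L228228) (flp_a L228212) L250478
theorem L250482 : sm gc N32027 = N30475 := ded_21_1 (flp_g L250453) (flp_c L250447) L250478
theorem L250484 : sm gd N32027 = N29448 := ded_24_1 (flp_g L228214) L228210 L250478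
theorem L250486 : sm ge N32027 = N30592 := ded_26_1 L250476 (flp_e L250468) L250478
theorem L250488 : sm gf N30595 = N32027 := ded_29_0 (flp_g L250478) L238035 (flp_g L238029) L238023
theorem L250490 : sm gb N30474 = N32027 := ded_31_14 (flp_g L250478) L238035 (flp_b L250270) L250274 L250099 L250097 (flp_g L244953) (flp_f L228284) (flp_b L199429) (flp_g L168364) (flp_f L168288) (flp_b L181035) L211399 (flp_f L236989)
theorem L250492 : sm gb N29448 = N32028 := rfl
theorem L250494 : sm gd N32028 = N30474 := ded_14_2 L250490 L250484 L250492
theorem L250496 : sm ge N32028 = N31493 := ded_15_2 L245960 L228455 L250492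
theorem L250498 : sm gf N32028 = N30661 := ded_16_2 (flp_b L238536) L244943 (flp_b L244935) L228220 L250492
theorem L250500 : sm gb N29449 = N32029 := rfl
theorem L250502 : sm ge N32029 = N30656 := ded_15_2 L238501 (flp_e L250459) L250500
theorem L250504 : sm gc N32029 = N29454 := ded_13_2 (flp_b L228248) (flp_c L199421) (flp_b L199409) L228222 L250500
theorem L250506 : sm gf N32029 = N30660 := ded_16_2 L238524 L228146 (flp_b L228226) L250466 L250500
theorem L250508 : sm gd N31543 = N32029 := ded_22_5 L250502 (flp_d L238499) (flp_e L226739) (flp_d L246381) L246383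
theorem L250510 : sm gg N31479 = N32029 := ded_21_0 L250504 L247303 L247299
theorem L250512 : sm gd N29449 = N32030 := rfl
theorem L250514 : sm ga N32030 = N32021 := ded_9_1 L250451 L250449 L250512
theorem L250516 : sm gb N32030 = N31543 := ded_14_1 L250508 (flp_b L250500) L250512
theorem L250518 : sm gf N32030 = N31347 := ded_23_2 L244810 L250466 L250512
theorem L250520 : sm ge N32030 = N29469 := ded_22_2 (flp_d L228375) L199526 L228170 (flp_e L250459) L250512
theorem L250522 : sm gc N32020 = N32030 := ded_28_0 (flp_d L250512) (flp_c L228222) (flp_d L199407) (flp_c L168338) (flp_d L168334) L199395 L228202 (flp_a L250420)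
theorem L250524 : sm gg N31435 = N32030 := ded_12_0 L250514 L250426 (flp_a L245531)
theorem L250526 : sm gg N29449 = N32031 := rfl
theorem L250528 : sm ga N32031 = N30475 := ded_12_1 (flp_g L250453) L250449 L250526
theorem L250530 : sm gc N32031 = N29451 := ded_21_1 (flp_g L228228) L228222 L250526
theorem L250532 : sm gd N32031 = N31435 := ded_24_1 L250524 (flp_d L250512) L250526
theorem L250534 : sm ge N32031 = N30595 := ded_26_1 (flp_g L238027) (flp_e L250459) L250526
theorem L250536 : sm gf N32031 = N30592 := ded_29_2 L250476 L250470 L250466 L250526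
theorem L250538 : sm gb N32031 = N31400 := ded_17_1 L245233 L245863 L250510 (flp_b L250500) L250526
theorem L250540 : sm gg N29450 = N32032 := rfl
theorem L250542 : sm ga N32032 = N30592 := ded_12_1 L250476 L250470 L250540
theorem L250544 : sm gc N32032 = N30595 := ded_21_1 (flp_g L238027) (flp_c L250464) L250540
theorem L250546 : sm ge N32032 = N29451 := ded_26_1 (flp_g L228228) L228224 L250540
theorem L250548 : sm gf N30475 = N32032 := ded_29_0 (flp_g L250540) L250466 L250526 L250528
theorem L250550 : sm ga N29454 = N32033 := rfl
theorem L250552 : sm gg N32033 = N32019 := ded_12_2 L250416 (flp_g L247303) L250550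
theorem L250554 : sm gf N32033 = N31323 := ded_29_0 L244645 L247297 (flp_g L247303) L250550
theorem L250556 : sm ge N29454 = N32034 := rfl
theorem L250558 : sm gb N32034 = N29455 := ded_15_1 (flp_e L228250) L228248 L250556
theorem L250560 : sm gc N32034 = N30656 := ded_19_1 (flp_e L250502) L250504 L250556
theorem L250562 : sm gd N32034 = N30536 := ded_32_1 (flp_c L237543) L209915 L181747 (flp_b L181745) L209917 L237545 (flp_d L246821) (flp_c L246817) L224435 (flp_d L208213) (flp_c L176532) (flp_d L124479) (flp_c L124469) L124467 L175625 L207660 L236229 (flp_c L236235) (flp_b L244887) L244885 L235370 (flp_d L235362) (flp_c L235330) L235328 L218646 L189319 L157863 (flp_d L157555) L157553 (flp_b L114328) (flp_d L114210) (flp_c L165151) (flp_d L196230) L196228 (flp_b L174226) (flp_d L194239) L194237 L161577 (flp_c L161509) L194195 (flp_d L214813) L214811 L206178 L175252 (flp_b L149556) (flp_d L124395) (flp_c L176312) L194911 (flp_c L194905) (flp_b L162362) (flp_e L160670) (flp_d L171059) (flp_c L201554) (flp_d L231100) L242600 L242598 L228046 L217974 L188440 (flp_c L214078) L214076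 L240047 (flp_c L240049) (flp_d L228325) (flp_c L199492) (flp_b L168395) (flp_d L117689) L117687 L96400 L84819 L84825 (flp_d L95943) L116697 L168362 L199421 L228248 L250556
theorem L250564 : sm gf N30659 = N32034 := ded_20_0 L250560 L238503 L238520
theorem L250566 : sm gf N29454 = N32035 := rfl
theorem L250568 : sm ga N32035 = N31323 := ded_11_1 (flp_f L250554) (flp_a L250550) L250566
theorem L250570 : sm gc N32035 = N30660 := ded_20_1 (flp_f L250506) L250504 L250566
theorem L250572 : sm ge N32035 = N30659 := ded_25_1 L250564 (flp_e L250556) L250566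
theorem L250574 : sm gg N32035 = N30069 := ded_29_3 (flp_a L233475) L247297 (flp_g L247303) L250566
theorem L250576 : sm gb N29457 = N32036 := rfl
theorem L250578 : sm gd N32036 = N31081 := ded_14_2 L242364 (flp_d L228268) L250576
theorem L250580 : sm ge N32036 = N29458 := ded_15_2 (flp_b L228274) (flp_e L228270) L250576
theorem L250582 : sm gc N32036 = N31906 := ded_13_2 (flp_b L249520) L248221 L226051 (flp_c L228266) L250576
theorem L250584 : sm gf N32036 = N29491 := ded_16_2 (flp_b L228545) (flp_f L199626) (flp_b L217564) L228272 L250576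
theorem L250586 : sm ga N31907 = N32036 := ded_9_3 L250578 L242362 (flp_d L249530)
theorem L250588 : sm gd N29461 = N32037 := rfl
theorem L250590 : sm ga N32037 = N30491 := ded_9_1 (flp_d L237157) (flp_a L228294) L250588
theorem L250592 : sm gb N32037 = N32037 := ded_14_1 (flp_d L250588) L228300 L250588
theorem L250593 : sm gf N32037 = N29464 := ded_23_2 (flp_d L228325) (flp_f L228298) L250588
theorem L250595 : sm ge N31488 = N32037 := ded_10_0 L250590 (flp_e L237163) (flp_a L245925)
theorem L250597 : sm gd N29462 = N32038 := rfl
theorem L250599 : sm ga N32038 = N30641 := ded_9_1 L238376 (flp_a L228303) L250597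
theorem L250601 : sm gb N32038 = N29466 := ded_14_1 (flp_d L228347) (flp_b L228309) L250597
theorem L250603 : sm gf N32038 = N30638 := ded_23_2 (flp_d L238359) (flp_f L228307) L250597
theorem L250605 : sm ge N32038 = N31487 := ded_22_2 (flp_d L245915) L228331 (flp_d L228325) (flp_e L228305) L250597
theorem L250607 : sm gc N31188 = N32038 := ded_28_2 (flp_d L250597) (flp_c L228301) L199474 (flp_c L211817) (flp_d L238845) L238843 (flp_c L238867) (flp_d L243469)
theorem L250609 : sm gc N29469 = N32039 := rfl
theorem L250611 : sm ga N32039 = N32022 := ded_8_1 L250434 L228445 L250609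
theorem L250613 : sm ge N32039 = N32020 := ded_19_2 L250522 L250520 L250609
theorem L250615 : sm gf N32039 = N31346 := ded_20_2 (flp_c L244802) (flp_f L228377) L250609
theorem L250617 : sm gg N32039 = N31438 := ded_21_2 L245547 (flp_g L228379) L250609
theorem L250619 : sm gd N32039 = N31438 := ded_28_7 (flp_a L245549) (flp_c L228459) (flp_d L199582) (flp_c L168440) (flp_d L168411) L199524 L228375 L250609
theorem L250621 : sm gb N32039 = N31439 := ded_32_5 (flp_d L245551) (flp_c L222160) L192783 (flp_c L184308) (flp_b L184304) (flp_d L182239) (flp_c L212871) (flp_d L217360) L217358 (flp_b L237669) (flp_d L237665) (flp_c L210087) L179365 (flp_c L170174) L170178 (flp_d L171075) L171073 L129470 (flp_c L178427) L201990 L201992 (flp_d L206779) L206777 (flp_d L229420) L229418 (flp_b L215040) L215036 L207864 L198076 (flp_c L204504) L204510 L174178 L165953 (flp_d L146460) L146458 L143103 (flp_d L163231) L121279 L97352 L85307 L26731 (flp_d L46401) (flp_c L93215) (flp_d L150160) (flp_c L97202) L121038 (flp_e L166964) (flp_d L197557) (flp_c L207559) (flp_d L233297) (flp_c L246891) L246885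 (flp_d L224585) L195793 (flp_d L195761) (flp_c L200980) (flp_b L208086) L236401 (flp_c L236411) L235719 L206396 (flp_b L175755) (flp_d L178609) (flp_c L194448) L194450 (flp_c L192813) (flp_b L160490) L111035 L92919 (flp_d L92777) (flp_c L110723) L160058 L160060 (flp_d L168411) L199524 L228375 L250609
theorem L250623 : sm gf N29470 = N32040 := rfl
theorem L250625 : sm gc N32040 = N29498 := ded_20_1 (flp_f L228587) (flp_c L228383) L250623
theorem L250627 : sm gd N32040 = N30297 := ded_23_1 (flp_f L235425) (flp_d L228387) L250623
theorem L250629 : sm gg N32040 = N29805 := ded_29_3 (flp_a L232785) L232789 L228385 L250623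
theorem L250631 : sm gb N32040 = N32040 := ded_16_1 (flp_f L250623) (flp_b L228381) L199534 L228381 L250623
theorem L250632 : sm gd N29472 = N32041 := rfl
theorem L250634 : sm ga N32041 = N31985 := ded_9_1 L250121 (flp_a L228402) L250632
theorem L250636 : sm gf N32041 = N32041 := ded_23_2 (flp_d L250632) L228406 L250632
theorem L250637 : sm ge N32041 = N31984 := ded_22_2 L250111 L247279 (flp_d L228389) L228400 L250632
theorem L250639 : sm gg N29472 = N32042 := rfl
theorem L250641 : sm ga N32042 = N29803 := ded_12_1 (flp_g L231182) (flp_a L228402) L250639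
theorem L250643 : sm gc N32042 = N29474 := ded_21_1 (flp_g L228419) (flp_c L228404) L250639
theorem L250645 : sm ge N32042 = N29473 := ded_26_1 (flp_g L228407) L228400 L250639
theorem L250647 : sm gf N29803 = N32042 := ded_29_0 (flp_g L250639) L228406 L250639 L250641
theorem L250649 : sm gb N32042 = N29792 := ded_17_1 L250196 (flp_b L250192) (flp_g L249761) L249763 L250639
theorem L250651 : sm gb N29474 = N32043 := rfl
theorem L250653 : sm gd N32043 = N31974 := ded_14_2 L250037 (flp_d L228423) L250651
theorem L250655 : sm ge N32043 = N29475 := ded_15_2 (flp_b L228429) (flp_e L228425) L250651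
theorem L250657 : sm gg N32043 = N29501 := ded_17_2 (flp_b L228607) (flp_g L199678) (flp_b L199539) L228419 L250651
theorem L250659 : sm gc N29475 = N32044 := rfl
theorem L250661 : sm ga N32044 = N29698 := ded_8_1 L230966 L228575 L250659
theorem L250663 : sm gf N32044 = N31962 := ded_20_2 L249947 L228555 L250659
theorem L250665 : sm gg N32044 = N29503 := ded_21_2 (flp_c L228619) (flp_g L228433) L250659
theorem L250667 : sm gb N32044 = N29789 := ded_13_1 L231078 L228417 L228411 L228429 L250659
theorem L250669 : sm gd N29692 = N32044 := ded_32_11 (flp_c L250659) L228431 L228435 L228441 L228443 (flp_c L250434) L250438 (flp_c L228459) L199584 (flp_d L168560) (flp_c L116783) L95987 L96518 (flp_b L117849) L117847 L123029 L174707 L174715 L162172 (flp_b L120939) (flp_d L120905) L120903 L120870 L97134 L97138 L97985 L163945 (flp_d L98517) (flp_c L85750) (flp_b L26909) L12928 L26823 L85549 L97999 L122384 L122386 L98573 (flp_d L86188) (flp_c L99305) (flp_b L99303) (flp_e L141977) (flp_d L94969) L94967 L94684 L83955 (flp_b L142534) L27582 L80856 (flp_d L22665) (flp_c L47073) L94120 (flp_d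 L113130) L164015 (flp_d L176422) L176424 L174908 (flp_d L151339) L161916 (flp_d L194464) L194466 (flp_b L179615) L165114 (flp_c L140974) (flp_d L130516) L178591 (flp_b L209419) (flp_e L231942) (flp_d L235874) L235872 L233735 (flp_c L233727) (flp_b L203777) L171033 (flp_c L188325) (flp_d L217716) (flp_c L242608) L242616
theorem L250671 : sm gd N29476 = N32045 := rfl
theorem L250673 : sm gb N32045 = N29477 := ded_14_1 (flp_d L228443) (flp_b L228441) L250671
theorem L250675 : sm gg N32045 = N29506 := ded_24_2 (flp_d L228633) (flp_g L228439) L250671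
theorem L250677 : sm gc N32045 = N31559 := ded_28_6 L246509 L246515 L246517 L250669 (flp_c L250659) L228431 L228435 L250671
theorem L250679 : sm gf N29479 = N32046 := rfl
theorem L250681 : sm gc N32046 = N29481 := ded_20_1 (flp_f L228471) L228459 L250679
theorem L250683 : sm ge N32046 = N31365 := ded_25_1 L244933 L228463 L250679
theorem L250685 : sm gg N31346 = N32046 := ded_29_1 (flp_f L250679) (flp_g L250436) (flp_a L250611) L250615
theorem L250687 : sm gf N29480 = N32047 := rfl
theorem L250689 : sm gc N32047 = N31365 := ded_20_1 L244933 (flp_c L228469) L250687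
theorem L250691 : sm gd N32047 = N32032 := ded_23_1 (flp_f L250548) L236993 L250687
theorem L250693 : sm ge N32047 = N29481 := ded_25_1 (flp_f L228471) L228465 L250687
theorem L250695 : sm gg N31347 = N32047 := ded_29_1 (flp_f L250687) (flp_g L250426) (flp_a L250514) L250518
theorem L250697 : sm gb N29483 = N32048 := rfl
theorem L250699 : sm ge N32048 = N31977 := ded_15_2 (flp_b L250061) (flp_e L228489) L250697
theorem L250701 : sm gc N32048 = N31977 := ded_13_2 (flp_b L250061) (flp_c L227937) (flp_b L199632) (flp_c L228487) L250697
theorem L250703 : sm gf N32048 = N31344 := ded_16_2 (flp_b L244790) L221261 (flp_b L228441) (flp_f L228491) L250697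
theorem L250705 : sm ga N32048 = N31344 := ded_7_1 (flp_b L244790) L221257 L192157 (flp_a L192161) (flp_b L199602) L199596 L199604 L228485 L250697
theorem L250707 : sm gd N29483 = N32049 := rfl
theorem L250709 : sm ga N32049 = N29484 := ded_9_1 (flp_d L228493) L228485 L250707
theorem L250711 : sm gf N32049 = N32045 := ded_23_2 (flp_d L250671) (flp_f L228491) L250707
theorem L250713 : sm gg N29483 = N32050 := rfl
theorem L250715 : sm ga N32050 = N29486 := ded_12_1 (flp_g L228507) L228485 L250713
theorem L250717 : sm gc N32050 = N29493 := ded_21_1 (flp_g L228557) (flp_c L228487) L250713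
theorem L250719 : sm ge N32050 = N31979 := ded_26_1 (flp_g L250071) (flp_e L228489) L250713
theorem L250721 : sm gf N29505 = N32050 := ded_29_0 (flp_g L250713) L228491 L228439 (flp_a L228627)
theorem L250723 : sm gc N29484 = N32051 := rfl
theorem L250725 : sm ge N29484 = N32052 := rfl
theorem L250727 : sm gb N32052 = N29488 := ded_15_1 (flp_e L228517) (flp_b L228495) L250725
theorem L250729 : sm gd N32052 = N31981 := ded_22_1 (flp_e L250089) (flp_d L227947) (flp_e L199606) L228493 L250725
theorem L250731 : sm gf N29484 = N32053 := rfl
theorem L250733 : sm ga N32053 = N32045 := ded_11_1 (flp_f L250711) L250709 L250731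
theorem L250735 : sm gd N32053 = N29485 := ded_23_1 (flp_f L228497) L228493 L250731
theorem L250737 : sm gb N32053 = N31598 := ded_16_1 L246827 (flp_b L234119) (flp_f L228529) (flp_b L228495) L250731
theorem L250739 : sm gg N29484 = N32054 := rfl
theorem L250741 : sm gd N32054 = N29486 := ded_24_1 (flp_g L228507) L228493 L250739
theorem L250743 : sm gf N32054 = N29506 := ded_29_2 (flp_g L250675) (flp_a L250733) (flp_f L250731) L250739
theorem L250745 : sm gb N29486 = N32055 := rfl
theorem L250747 : sm ge N32055 = N31636 := ded_15_2 L247168 (flp_e L228511) L250745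
theorem L250749 : sm gc N32055 = N31627 := ded_13_2 L247101 L228908 L199861 (flp_c L228509) L250745
theorem L250751 : sm gf N32055 = N29510 := ded_16_2 (flp_b L228663) (flp_f L199712) (flp_b L199698) (flp_f L228513) L250745
theorem L250753 : sm gg N32055 = N29491 := ded_17_2 (flp_b L228545) (flp_g L199618) L199604 L228507 L250745
theorem L250755 : sm gb N29487 = N32056 := rfl
theorem L250757 : sm gd N32056 = N30792 := ded_14_2 L239777 (flp_d L232076) L250755
theorem L250759 : sm ge N32056 = N30038 := ded_15_2 (flp_b L234001) L228525 L250755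
theorem L250761 : sm ga N32056 = N30040 := ded_30_3 (flp_f L233235) (flp_c L233171) L233169 (flp_a L233137) (flp_f L242386) (flp_c L242380) (flp_b L217406) (flp_a L188220) (flp_f L188218) (flp_c L188209) L217574 L227360 L242504 L242507 L242512 L242442 (flp_f L228529) L228515 L250755
theorem L250763 : sm gf N30037 = N32056 := ded_23_0 L250757 L239775 (flp_d L233225)
theorem L250765 : sm ge N29492 = N32057 := rfl
theorem L250767 : sm ga N32057 = N29495 := ded_10_1 (flp_e L228567) (flp_a L228551) L250765
theorem L250769 : sm gb N32057 = N31973 := ded_15_1 L250025 (flp_b L228553) L250765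
theorem L250771 : sm gf N32057 = N32043 := ded_25_2 L250655 (flp_f L228555) L250765
theorem L250773 : sm gd N32057 = N31973 := ded_22_1 L250025 L227911 (flp_e L199630) L228549 L250765
theorem L250775 : sm gg N29492 = N32058 := rfl
theorem L250777 : sm ga N32058 = N29497 := ded_12_1 (flp_g L228581) (flp_a L228551) L250775
theorem L250779 : sm gd N32058 = N29493 := ded_24_1 (flp_g L228557) L228549 L250775
theorem L250781 : sm gf N29502 = N32058 := ded_29_0 (flp_g L250775) L228555 L228433 L228613
theorem L250783 : sm ge N29494 = N32059 := rfl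
theorem L250785 : sm gc N32059 = N29495 := ded_19_1 (flp_e L228567) L228565 L250783
theorem L250787 : sm gf N29495 = N32060 := rfl
theorem L250789 : sm ga N32060 = N32043 := ded_11_1 (flp_f L250771) L250767 L250787
theorem L250791 : sm gd N32060 = N31964 := ded_23_1 L249965 (flp_d L228571) L250787
theorem L250793 : sm ge N32060 = N29496 := ded_25_1 (flp_f L228573) L228567 L250787
theorem L250795 : sm gb N32060 = N29528 := ded_16_1 (flp_f L228800) L199799 (flp_f L199658) (flp_b L228569) L250787
theorem L250797 : sm gg N29495 = N32061 := rfl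
theorem L250799 : sm gd N32061 = N31975 := ded_24_1 (flp_g L250041) (flp_d L228571) L250797
theorem L250801 : sm ge N32061 = N29497 := ded_26_1 (flp_g L228581) L228567 L250797
theorem L250803 : sm gf N32061 = N29501 := ded_29_2 (flp_g L250657) (flp_a L250789) (flp_f L250787) L250797
theorem L250805 : sm ga N29501 = N32062 := rfl
theorem L250807 : sm gd N32062 = N32001 := ded_9_2 (flp_a L250254) (flp_d L228609) L250805
theorem L250809 : sm ge N32062 = N29502 := ded_10_2 (flp_a L228613) (flp_e L228611) L250805
theorem L250811 : sm gg N32062 = N32060 := ded_12_2 L250789 L250657 L250805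
theorem L250813 : sm gc N29501 = N32063 := rfl
theorem L250815 : sm ge N32063 = N29503 := ded_19_2 (flp_c L228619) (flp_e L228611) L250813
theorem L250817 : sm gb N29502 = N32064 := rfl
theorem L250819 : sm gd N32064 = N29504 := ded_14_2 (flp_b L228621) (flp_d L228615) L250817
theorem L250821 : sm gc N29502 = N32065 := rfl
theorem L250823 : sm ga N32065 = N29503 := ded_8_1 (flp_c L228619) L228613 L250821
theorem L250825 : sm gg N32065 = N29698 := ded_21_2 L230966 (flp_g L228617) L250821
theorem L250827 : sm gd N32065 = N29700 := ded_28_3 L230232 (flp_d L245721) L245725 (flp_d L228633) (flp_a L228627) (flp_c L228625) (flp_d L228615) L250821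
theorem L250829 : sm gb N29796 = N32065 := ded_17_5 L250825 L230224 L200932 (flp_b L201534) L231114
theorem L250831 : sm gc N29504 = N32066 := rfl
theorem L250833 : sm ge N32066 = N32005 := ded_19_2 (flp_c L250286) (flp_e L228623) L250831
theorem L250835 : sm gg N32066 = N30581 := ded_21_2 L237941 L228838 L250831
theorem L250837 : sm gb N32066 = N31704 := ded_30_2 L247807 (flp_f L244189) L225755 L204141 (flp_a L223447) (flp_f L245231) (flp_c L245227) (flp_b L245169) L245167 (flp_f L249691) L249689 L247168 (flp_a L250073) (flp_f L250077) (flp_c L228103) L228099 L250278 L250282 L250831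
theorem L250839 : sm gb N29505 = N32067 := rfl
theorem L250841 : sm ge N32067 = N32007 := ded_15_2 (flp_b L250302) (flp_e L228629) L250839
theorem L250843 : sm gc N32067 = N31704 := ded_13_2 (flp_b L250837) (flp_c L250831) (flp_b L228621) L228625 L250839
theorem L250845 : sm gg N32067 = N31701 := ded_17_2 L247779 L237876 (flp_b L228505) (flp_g L228631) L250839
theorem L250847 : sm ga N32067 = N30173 := ded_7_1 (flp_b L249528) L250586 (flp_b L250576) (flp_a L228643) (flp_b L228637) L199702 (flp_b L199698) (flp_a L228627) L250839
theorem L250849 : sm gf N30154 = N32067 := ded_31_1 (flp_b L250839) L228631 (flp_f L228497) (flp_b L199604) L199618 (flp_f L199626) (flp_b L217564) L242470 (flp_f L242480) (flp_b L228691) (flp_g L228681) (flp_f L225889) (flp_b L247769) L247765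
theorem L250851 : sm gd N32067 = N30155 := ded_28_3 L234157 L204081 (flp_c L207921) (flp_d L236342) L236340 (flp_c L236378) (flp_d L247809) (flp_c L250843)
theorem L250853 : sm gd N29505 = N32068 := rfl
theorem L250855 : sm ga N32068 = N29506 := ded_9_1 (flp_d L228633) (flp_a L228627) L250853
theorem L250857 : sm gb N32068 = N30155 := ded_14_1 (flp_d L250851) (flp_b L250839) L250853
theorem L250859 : sm gg N32068 = N32053 := ded_24_2 L250735 (flp_g L228631) L250853
theorem L250861 : sm ge N30157 = N32068 := ded_10_0 L250855 (flp_e L245753) (flp_a L245757)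
theorem L250863 : sm gb N29509 = N32069 := rfl
theorem L250865 : sm gd N32069 = N29510 := ded_14_2 (flp_b L228663) (flp_d L228661) L250863
theorem L250867 : sm ge N32069 = N30177 := ded_15_2 (flp_b L243135) L243131 L250863
theorem L250869 : sm gc N32069 = N31073 := ded_13_2 L243163 (flp_c L243155) (flp_b L243117) (flp_c L243125) L250863
theorem L250871 : sm gg N32069 = N30174 := ded_17_2 (flp_b L234311) L234319 L234329 L228699 L250863
theorem L250873 : sm ga N29510 = N32070 := rfl
theorem L250875 : sm gc N32070 = N31626 := ded_8_2 (flp_a L247085) (flp_c L228667) L250873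
theorem L250877 : sm ge N32070 = N32011 := ded_10_2 (flp_a L250336) (flp_e L228665) L250873
theorem L250879 : sm gg N32070 = N32036 := ded_12_2 (flp_a L250586) L249526 L250873
theorem L250881 : sm gb N32070 = N32032 := ded_7_2 L250542 (flp_b L238003) (flp_a L227397) L227405 L223535 L222202 L199750 L228663 L250873
theorem L250883 : sm gb N29517 = N32071 := rfl
theorem L250885 : sm ge N32071 = N31982 := ded_15_2 L250097 L244949 L250883
theorem L250887 : sm gf N32071 = N32010 := ded_16_2 L250332 L237017 (flp_b L245425) L245421 L250883
theorem L250889 : sm gg N32071 = N31981 := ded_17_2 L250091 L227971 (flp_b L244824) L244822 L250883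
theorem L250891 : sm gc N29519 = N32072 := rfl
theorem L250893 : sm ga N32072 = N32072 := ded_8_1 (flp_c L250891) L228733 L250891
theorem L250894 : sm gf N32072 = N31953 := ded_20_2 (flp_c L249881) (flp_f L228736) L250891
theorem L250896 : sm gg N32072 = N31953 := ded_21_2 (flp_c L249881) (flp_g L228738) L250891
theorem L250898 : sm ge N29519 = N32073 := rfl
theorem L250900 : sm ga N32073 = N32073 := ded_10_1 (flp_e L250898) L228733 L250898
theorem L250901 : sm gb N32073 = N29521 := ded_15_1 (flp_e L228748) (flp_b L228734) L250898
theorem L250903 : sm gf N32073 = N31954 := ded_25_2 (flp_e L249884) (flp_f L228736) L250898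
theorem L250905 : sm gg N32073 = N31954 := ded_26_2 (flp_e L249884) (flp_g L228738) L250898
theorem L250907 : sm gd N32073 = N31954 := ded_22_1 (flp_e L249884) (flp_d L227808) (flp_e L199766) L228731 L250898
theorem L250909 : sm gb N29520 = N32074 := rfl
theorem L250911 : sm gd N32074 = N29797 := ded_14_2 (flp_b L231122) L228744 L250909
theorem L250913 : sm gf N32074 = N29806 := ded_16_2 (flp_b L231196) (flp_f L201586) (flp_b L201534) (flp_f L228746) L250909
theorem L250915 : sm gg N32074 = N31984 := ded_17_2 L250114 (flp_g L232973) L232963 (flp_g L232971) L250909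
theorem L250917 : sm ga N32074 = N29806 := ded_7_1 (flp_b L231196) (flp_a L230796) (flp_b L242828) L242826 L217966 L217696 L203155 (flp_a L228742) L250909
theorem L250919 : sm ge N29520 = N32075 := rfl
theorem L250921 : sm ga N32075 = N29525 := ded_10_1 (flp_e L228784) (flp_a L228742) L250919
theorem L250923 : sm gc N32075 = N29521 := ded_19_1 (flp_e L228748) L228740 L250919
theorem L250925 : sm gf N32075 = N29791 := ded_25_2 L231088 (flp_f L228746) L250919
theorem L250927 : sm gd N32075 = N29792 := ded_22_1 L231092 L201526 (flp_e L201540) L228744 L250919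
theorem L250929 : sm gf N29521 = N32076 := rfl
theorem L250931 : sm ga N32076 = N29528 := ded_11_1 (flp_f L228800) (flp_a L228750) L250929
theorem L250933 : sm gc N32076 = N29791 := ded_20_1 (flp_f L250925) L250923 L250929
theorem L250935 : sm gd N32076 = N31957 := ded_23_1 (flp_f L249907) (flp_d L228752) L250929
theorem L250937 : sm ge N32076 = N29522 := ded_25_1 (flp_f L228754) L228748 L250929
theorem L250939 : sm gb N32076 = N31957 := ded_16_1 (flp_f L249907) (flp_b L249887) (flp_f L250903) L250901 L250929
theorem L250941 : sm gg N29521 = N32077 := rfl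
theorem L250943 : sm ga N32077 = N29529 := ded_12_1 (flp_g L228806) (flp_a L228750) L250941
theorem L250945 : sm gd N32077 = N31958 := ded_24_1 (flp_g L249913) (flp_d L228752) L250941
theorem L250947 : sm ge N32077 = N29523 := ded_26_1 (flp_g L228764) L228748 L250941
theorem L250949 : sm gb N32077 = N31958 := ded_17_1 (flp_g L249913) (flp_b L249887) (flp_g L250905) L250901 L250941
theorem L250951 : sm gd N29525 = N32078 := rfl
theorem L250953 : sm ga N32078 = N29792 := ded_9_1 (flp_d L250927) L250921 L250951
theorem L250955 : sm ge N32078 = N29784 := ded_22_2 L231044 L228780 (flp_d L228772) L228784 L250951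
theorem L250957 : sm gf N29783 = N32078 := ded_11_0 L250953 (flp_f L231090) (flp_a L231038)
theorem L250959 : sm gf N29525 = N32079 := rfl
theorem L250961 : sm ga N32079 = N29791 := ded_11_1 (flp_f L250925) L250921 L250959
theorem L250963 : sm gc N32079 = N29528 := ded_20_1 (flp_f L228800) (flp_c L228786) L250959
theorem L250965 : sm gd N32079 = N29783 := ded_23_1 L250957 (flp_d L250951) L250959
theorem L250967 : sm ge N32079 = N29526 := ded_25_1 (flp_f L228788) L228784 L250959
theorem L250969 : sm gg N29525 = N32080 := rfl
theorem L250971 : sm gc N32080 = N29529 := ded_21_1 (flp_g L228806) (flp_c L228786) L250969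
theorem L250973 : sm ge N32080 = N29527 := ded_26_1 (flp_g L228796) L228784 L250969
theorem L250975 : sm gg N29526 = N32081 := rfl
theorem L250977 : sm ga N32081 = N29796 := ded_12_1 (flp_g L231114) (flp_a L228790) L250975
theorem L250979 : sm gc N32081 = N29530 := ded_21_1 (flp_g L228812) (flp_c L228792) L250975
theorem L250981 : sm gd N32081 = N29786 := ded_24_1 (flp_g L231052) (flp_d L228794) L250975
theorem L250983 : sm gf N30004 = N32081 := ded_29_0 (flp_g L250975) (flp_f L228788) L228796 L232969
theorem L250985 : sm gb N32081 = N31963 := ded_17_1 L249959 (flp_b L231184) (flp_g L230270) L230960 L250975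
theorem L250987 : sm gg N29528 = N32082 := rfl
theorem L250989 : sm gd N32082 = N31965 := ded_24_1 (flp_g L249967) (flp_d L228802) L250987
theorem L250991 : sm ge N32082 = N29530 := ded_26_1 (flp_g L228812) (flp_e L228804) L250987
theorem L250993 : sm gf N32077 = N32082 := ded_29_0 (flp_g L250987) (flp_f L228800) L228806 (flp_a L250943)
theorem L250995 : sm gb N29529 = N32083 := rfl
theorem L250997 : sm gd N32083 = N31935 := ded_14_2 L249745 (flp_d L228808) L250995
theorem L250999 : sm ge N32083 = N29531 := ded_15_2 (flp_b L228818) (flp_e L228810) L250995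
theorem L251001 : sm gg N32083 = N29536 := ded_17_2 (flp_b L228852) (flp_g L199831) (flp_b L199799) L228806 L250995
theorem L251003 : sm gf N29529 = N32084 := rfl
theorem L251005 : sm ga N32084 = N32082 := ded_11_1 (flp_f L250993) L250943 L251003
theorem L251007 : sm gd N32084 = N31966 := ded_23_1 (flp_f L249973) (flp_d L228808) L251003
theorem L251009 : sm ge N32084 = N29532 := ded_25_1 (flp_f L228824) (flp_e L228810) L251003
theorem L251011 : sm gg N32084 = N32076 := ded_29_3 L250931 (flp_f L228800) L228806 L251003
theorem L251013 : sm gb N29530 = N32085 := rfl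
theorem L251015 : sm gd N32085 = N29533 := ded_14_2 (flp_b L228832) (flp_d L228814) L251013
theorem L251017 : sm gc N32085 = N31968 := ded_13_2 (flp_b L249987) (flp_c L249955) (flp_b L250985) L250979 L251013
theorem L251019 : sm gf N32085 = N31967 := ded_16_2 (flp_b L249981) (flp_f L227885) (flp_b L228770) L228816 L251013
theorem L251021 : sm gg N32085 = N32064 := ded_17_2 (flp_b L250817) L228617 L228579 L228812 L251013
theorem L251023 : sm gb N29532 = N32086 := rfl
theorem L251025 : sm gd N32086 = N29535 := ded_14_2 (flp_b L228846) (flp_d L228828) L251023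
theorem L251027 : sm gc N32086 = N32064 := ded_13_2 (flp_b L250817) L250821 (flp_b L250829) L231116 L251023
theorem L251029 : sm gg N32086 = N31968 := ded_17_2 (flp_b L249987) L227893 (flp_b L228762) (flp_g L228830) L251023
theorem L251031 : sm gd N29534 = N32087 := rfl
theorem L251033 : sm gg N32087 = N29542 := ded_24_2 (flp_d L228902) (flp_g L228844) L251031
theorem L251035 : sm gc N32087 = N29542 := ded_28_6 (flp_d L228902) (flp_a L228890) (flp_c L228888) (flp_d L228860) (flp_c L228876) L228820 L228840 L251031
theorem L251037 : sm gc N29535 = N32088 := rfl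
theorem L251039 : sm ge N32088 = N30574 := ded_19_2 L237899 (flp_e L228848) L251037
theorem L251041 : sm gg N32088 = N30574 := ded_21_2 L237899 (flp_g L228850) L251037
theorem L251043 : sm gb N32088 = N30457 := ded_13_1 L236809 (flp_b L211326) L211318 L228846 L251037
theorem L251045 : sm ga N29536 = N32089 := rfl
theorem L251047 : sm gd N32089 = N31930 := ded_9_2 L249715 (flp_d L228854) L251045
theorem L251049 : sm ge N32089 = N29537 := ded_10_2 (flp_a L228858) (flp_e L228856) L251045
theorem L251051 : sm gb N32089 = N31930 := ded_7_2 L249715 L227642 L199072 (flp_b L198981) L199908 (flp_b L199901) (flp_a L199833) L228852 L251045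
theorem L251053 : sm gc N32083 = N32089 := ded_19_3 L251049 (flp_c L228876) (flp_e L250999)
theorem L251055 : sm gc N29536 = N32090 := rfl
theorem L251057 : sm ga N32090 = N32083 := ded_8_1 L251053 (flp_a L251045) L251055
theorem L251059 : sm ge N32090 = N29538 := ded_19_2 (flp_c L228864) (flp_e L228856) L251055
theorem L251061 : sm gg N32090 = N32089 := ded_21_2 (flp_c L251053) L251001 L251055
theorem L251063 : sm gb N32090 = N29565 := ded_13_1 L232959 (flp_b L232955) L203213 L228852 L251055
theorem L251065 : sm gd N31915 = N32090 := ded_9_0 L251057 L250997 L249741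
theorem L251067 : sm gf N29566 = N32090 := ded_25_0 L251059 (flp_f L228870) (flp_e L229050)
theorem L251069 : sm gf N29536 = N32091 := rfl
theorem L251071 : sm gc N32091 = N29566 := ded_20_1 L251067 (flp_c L251055) L251069
theorem L251073 : sm gd N32091 = N31934 := ded_23_1 (flp_f L249733) (flp_d L228854) L251069
theorem L251075 : sm ge N32091 = N29539 := ded_25_1 (flp_f L228878) (flp_e L228856) L251069
theorem L251077 : sm gg N29566 = N32091 := ded_29_1 (flp_f L251069) (flp_g L251001) (flp_a L251057) (flp_f L251067)
theorem L251079 : sm gb N32091 = N32061 := ded_16_1 L250803 (flp_b L228607) (flp_f L199839) L228852 L251069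
theorem L251081 : sm gf N29537 = N32092 := rfl
theorem L251083 : sm ga N32092 = N29539 := ded_11_1 (flp_f L228878) L228858 L251081
theorem L251085 : sm gc N32092 = N29567 := ded_20_1 L229056 L228876 L251081
theorem L251087 : sm gd N32092 = N29541 := ded_23_1 (flp_f L228894) (flp_d L228860) L251081
theorem L251089 : sm gg N32092 = N29567 := ded_29_3 (flp_a L229052) L228870 (flp_g L228872) L251081
theorem L251091 : sm gd N29540 = N32093 := rfl
theorem L251093 : sm ga N32093 = N29542 := ded_9_1 (flp_d L228902) (flp_a L228890) L251091
theorem L251095 : sm gf N29540 = N32094 := rfl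
theorem L251097 : sm ga N32094 = N29543 := ded_11_1 (flp_f L228906) (flp_a L228890) L251095
theorem L251099 : sm gc N32094 = N29541 := ded_20_1 (flp_f L228894) L228888 L251095
theorem L251101 : sm ge N32094 = N31922 := ded_25_1 (flp_f L249657) (flp_e L228892) L251095
theorem L251103 : sm gg N32094 = N29570 := ded_29_3 L229078 (flp_f L229064) L229066 L251095
theorem L251105 : sm ge N29542 = N32095 := rfl
theorem L251107 : sm gb N32095 = N29545 := ded_15_1 (flp_e L228924) (flp_b L228904) L251105
theorem L251109 : sm gd N32095 = N31924 := ded_22_1 (flp_e L249667) (flp_d L227576) (flp_e L199853) L228902 L251105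
theorem L251111 : sm gf N31952 = N32095 := ded_16_0 L251107 L228930 (flp_b L244639) (flp_f L244637) L249879
theorem L251113 : sm gf N29542 = N32096 := rfl
theorem L251115 : sm gd N32096 = N29543 := ded_23_1 (flp_f L228906) L228902 L251113
theorem L251117 : sm ge N32096 = N31952 := ded_25_1 L251111 (flp_e L251105) L251113
theorem L251119 : sm gb N32096 = N31341 := ded_16_1 L244768 L227348 L225007 (flp_b L228904) L251113
theorem L251121 : sm gg N29571 = N32096 := ded_31_0 (flp_f L251113) L228904 (flp_g L228729) L228727 (flp_b L247069) L247071 L248219 L249520 L249518 (flp_f L247093) (flp_b L238117) (flp_g L210909) (flp_f L199973) (flp_b L229086)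
theorem L251123 : sm gb N29544 = N32097 := rfl
theorem L251125 : sm gd N32097 = N31642 := ded_14_2 (flp_b L247207) (flp_d L228920) L251123
theorem L251127 : sm ge N32097 = N31362 := ded_15_2 L244909 L228922 L251123
theorem L251129 : sm gf N32097 = N31357 := ded_16_2 (flp_b L248261) (flp_f L248259) (flp_b L244115) (flp_f L228918) L251123
theorem L251131 : sm ga N29546 = N32098 := rfl
theorem L251133 : sm gd N32098 = N31653 := ded_9_2 L247288 L232690 L251131
theorem L251135 : sm gf N32098 = N31955 := ded_11_2 L249895 L232985 L251131
theorem L251137 : sm gg N32098 = N32098 := ded_12_2 (flp_a L251131) L230927 L251131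
theorem L251138 : sm gb N32098 = N29805 := ded_7_2 (flp_a L232785) L232787 L203133 L170630 L118075 L168638 L199867 L228934 L251131
theorem L251140 : sm ge N31913 = N32098 := ded_22_0 L251133 L247290 (flp_d L227484) L227495 L249584
theorem L251142 : sm ge N29546 = N32099 := rfl
theorem L251144 : sm ga N32099 = N31913 := ded_10_1 L251140 (flp_a L251131) L251142
theorem L251146 : sm gb N32099 = N29547 := ded_15_1 (flp_e L228936) L228934 L251142
theorem L251148 : sm gg N32099 = N32099 := ded_26_2 (flp_e L251142) L230927 L251142
theorem L251149 : sm gd N32099 = N29564 := ded_22_1 L229033 (flp_d L222235) L232697 L232690 L251142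
theorem L251151 : sm gd N29547 = N32100 := rfl
theorem L251153 : sm ga N32100 = N29550 := ded_9_1 (flp_d L228951) (flp_a L228938) L251151
theorem L251155 : sm gb N32100 = N29564 := ded_14_1 (flp_d L251149) L251146 L251151
theorem L251157 : sm gf N32100 = N31990 := ded_23_2 L250163 L230923 L251151
theorem L251159 : sm ge N32100 = N29561 := ded_22_2 L232707 (flp_e L232699) L203051 L228936 L251151
theorem L251161 : sm gc N29558 = N32100 := ded_13_0 L251155 (flp_c L229029) (flp_b L199901) (flp_c L199885) L228989
theorem L251163 : sm gc N29550 = N32101 := rfl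
theorem L251165 : sm ga N32101 = N29558 := ded_8_1 L251161 L251153 L251163
theorem L251167 : sm ge N32101 = N29560 := ded_19_2 L232719 L232717 L251163
theorem L251169 : sm gf N32101 = N31998 := ded_20_2 L250228 L249781 L251163
theorem L251171 : sm gd N31142 = N32101 := ded_22_5 L251167 L229005 (flp_e L218114) L218110 L242957
theorem L251173 : sm gb N29556 = N32102 := rfl
theorem L251175 : sm ge N32102 = N29996 := ded_15_2 L232895 (flp_e L228983) L251173
theorem L251177 : sm gf N32102 = N29994 := ded_16_2 L249597 (flp_f L249587) (flp_b L249569) L249573 L251173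
theorem L251179 : sm gg N29556 = N32103 := rfl
theorem L251181 : sm gc N32103 = N29557 := ded_21_1 (flp_g L228985) L228981 L251179
theorem L251183 : sm ge N32103 = N29780 := ded_26_1 L231018 (flp_e L228983) L251179
theorem L251185 : sm gb N29783 = N32103 := ded_15_3 L251183 L231016 L231036
theorem L251187 : sm gb N29557 = N32104 := rfl
theorem L251189 : sm gd N32104 = N29558 := ded_14_2 (flp_b L228989) (flp_d L228987) L251187
theorem L251191 : sm ge N32104 = N31141 := ded_15_2 L242951 L232729 L251187
theorem L251193 : sm gc N32104 = N31142 := ded_13_2 L242959 L242699 L251185 L251181 L251187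
theorem L251195 : sm ga N31142 = N32104 := ded_9_3 L251189 (flp_a L251165) (flp_d L251171)
theorem L251197 : sm gf N29557 = N32105 := rfl
theorem L251199 : sm ga N32105 = N31936 := ded_11_1 (flp_f L249753) L232949 L251197
theorem L251201 : sm gd N32105 = N29559 := ded_23_1 (flp_f L228993) (flp_d L228987) L251197
theorem L251203 : sm ge N32105 = N29925 := ded_25_1 L232731 L232729 L251197
theorem L251205 : sm gg N32105 = N29923 := ded_29_3 L232264 L227662 L228985 L251197
theorem L251207 : sm gf N29558 = N32106 := rfl
theorem L251209 : sm ga N32106 = N31998 := ded_11_1 (flp_f L251169) L251165 L251207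
theorem L251211 : sm gc N32106 = N31990 := ded_20_1 (flp_f L251157) (flp_c L251161) L251207
theorem L251213 : sm ge N32106 = N29562 := ded_25_1 (flp_f L229013) (flp_e L228991) L251207
theorem L251215 : sm gg N32106 = N31988 := ded_29_3 L250147 (flp_f L250173) L250175 L251207
theorem L251217 : sm gb N32063 = N32106 := ded_13_5 L251211 L250167 L228597 L228607 L250813
theorem L251219 : sm gb N29559 = N32107 := rfl
theorem L251221 : sm ge N32107 = N29563 := ded_15_2 (flp_b L229019) (flp_e L228999) L251219
theorem L251223 : sm gc N32107 = N32061 := ded_13_2 (flp_b L251079) L251071 (flp_b L229046) (flp_c L228997) L251219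
theorem L251225 : sm gf N32107 = N32063 := ded_16_2 L251217 (flp_f L251207) (flp_b L228989) L228993 L251219
theorem L251227 : sm gg N32059 = N32107 := ded_26_0 L251221 (flp_g L229027) L250783
theorem L251229 : sm ga N29563 = N32108 := rfl
theorem L251231 : sm gc N32108 = N32058 := ded_8_2 L250777 (flp_c L229023) L251229
theorem L251233 : sm gd N32108 = N29926 := ded_9_2 (flp_a L232284) (flp_d L229021) L251229
theorem L251235 : sm gf N32108 = N32065 := ded_11_2 L250823 (flp_f L229025) L251229
theorem L251237 : sm gg N32108 = N31962 := ded_12_2 (flp_a L249949) L229027 L251229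
theorem L251239 : sm gb N32108 = N32000 := ded_7_2 (flp_a L250244) (flp_b L228060) L199259 L227690 L230928 (flp_b L228603) (flp_a L199893) L229019 L251229
theorem L251241 : sm ga N29566 = N32109 := rfl
theorem L251243 : sm gd N32109 = N31940 := ded_9_2 (flp_a L249783) (flp_d L229048) L251241
theorem L251245 : sm ge N32109 = N29567 := ded_10_2 (flp_a L229052) (flp_e L229050) L251241
theorem L251247 : sm gf N32109 = N32083 := ded_11_2 (flp_a L251057) (flp_f L251067) L251241
theorem L251249 : sm gb N29567 = N32110 := rfl
theorem L251251 : sm gd N32110 = N29569 := ded_14_2 (flp_b L229070) (flp_d L229054) L251249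
theorem L251253 : sm gf N32110 = N32086 := ded_16_2 (flp_b L251023) (flp_f L228824) L228818 (flp_f L229056) L251249
theorem L251255 : sm gd N29568 = N32111 := rfl
theorem L251257 : sm ga N32111 = N32087 := ded_9_1 (flp_d L251031) (flp_a L229060) L251255
theorem L251259 : sm gb N32111 = N30608 := ded_14_1 L238113 (flp_b L229068) L251255
theorem L251261 : sm gf N32111 = N29571 := ded_23_2 (flp_d L229084) (flp_f L229064) L251255
theorem L251263 : sm gg N32111 = N32093 := ded_24_2 (flp_d L251091) (flp_g L229066) L251255
theorem L251265 : sm gc N32093 = N32111 := ded_28_0 (flp_d L251255) (flp_c L229058) L228868 (flp_c L228864) L199843 L199851 L228902 (flp_a L251093)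
theorem L251267 : sm gc N29569 = N32112 := rfl
theorem L251269 : sm ge N32112 = N31945 := ded_19_2 (flp_c L249811) (flp_e L229072) L251267
theorem L251271 : sm gf N32112 = N32088 := ded_20_2 (flp_c L251037) (flp_f L229074) L251267
theorem L251273 : sm gb N32112 = N31752 := ded_30_2 L248213 (flp_f L226049) L226043 L226045 L197853 L221243 L221247 (flp_b L192283) L192275 (flp_f L168268) L168264 (flp_b L199319) (flp_a L228105) L250077 L250075 L250079 L250085 (flp_f L229074) L251267
theorem L251275 : sm gb N29570 = N32113 := rfl
theorem L251277 : sm ge N32113 = N31947 := ded_15_2 (flp_b L249823) (flp_e L229080) L251275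
theorem L251279 : sm gc N32113 = N31752 := ded_13_2 (flp_b L251273) (flp_c L251267) (flp_b L229070) L229076 L251275
theorem L251281 : sm gf N32113 = N31751 := ded_16_2 L248207 L243053 L238425 (flp_f L229082) L251275
theorem L251283 : sm ga N32113 = N31753 := ded_7_1 L249520 (flp_a L249512) (flp_b L227332) (flp_a L227298) L227304 L199961 (flp_b L199957) (flp_a L229078) L251275
theorem L251285 : sm gd N29570 = N32114 := rfl
theorem L251287 : sm ga N32114 = N29571 := ded_9_1 (flp_d L229084) (flp_a L229078) L251285
theorem L251289 : sm gf N32114 = N32087 := ded_23_2 (flp_d L251031) (flp_f L229082) L251285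
theorem L251291 : sm gc N32114 = N32096 := ded_28_6 L251115 (flp_a L251097) L251099 (flp_d L251087) L251085 L229054 L229076 L251285
theorem L251293 : sm gc N29571 = N32115 := rfl
theorem L251295 : sm ga N32115 = N32096 := ded_8_1 (flp_c L251291) L251287 L251293
theorem L251297 : sm gf N32115 = N32093 := ded_20_2 L251265 L251261 L251293
theorem L251299 : sm gg N32115 = N32114 := ded_21_2 L251291 (flp_g L251121) L251293
theorem L251301 : sm gb N32115 = N30602 := ded_13_1 (flp_c L238069) (flp_b L210887) L199975 (flp_b L229086) L251293
theorem L251303 : sm gd N32115 = N32094 := ded_28_7 L251097 L228908 (flp_d L228882) L228880 L199935 L199953 L229084 L251293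
theorem L251305 : sm ge N29571 = N32116 := rfl
theorem L251307 : sm gb N32116 = N29572 := ded_15_1 (flp_e L229088) (flp_b L229086) L251305
theorem L251309 : sm gg N32116 = N31952 := ded_26_2 (flp_e L251117) (flp_g L251121) L251305
theorem L251311 : sm gd N32116 = N31525 := ded_22_1 L246200 (flp_d L227714) (flp_e L199955) L229084 L251305
theorem L251313 : sm ge N29578 = N32117 := rfl
theorem L251315 : sm ga N32117 = N31079 := ded_10_1 L242342 L229200 L251313
theorem L251317 : sm gb N32117 = N29616 := ded_15_1 (flp_e L229484) (flp_b L229144) L251313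
theorem L251319 : sm gc N32117 = N31257 := ded_19_1 L244147 L229190 L251313
theorem L251321 : sm gf N32117 = N29732 := ded_25_2 L230480 (flp_f L229146) L251313
theorem L251323 : sm gg N32117 = N29591 := ded_26_2 (flp_e L229250) (flp_g L229148) L251313
theorem L251325 : sm gd N32117 = N29731 := ded_22_1 L230466 (flp_d L205213) (flp_e L200025) L229142 L251313
theorem L251327 : sm gg N29580 = N32118 := rfl
theorem L251329 : sm ga N32118 = N30786 := ded_12_1 (flp_g L244149) L244151 L251327
theorem L251331 : sm gc N32118 = N30763 := ded_21_1 (flp_g L242344) L242338 L251327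
theorem L251333 : sm gd N32118 = N30276 := ded_24_1 (flp_g L235213) (flp_d L229158) L251327
theorem L251335 : sm ge N32118 = N29586 := ded_26_1 (flp_g L229206) (flp_e L229160) L251327
theorem L251337 : sm gf N30784 = N32118 := ded_29_0 (flp_g L251327) (flp_f L229156) (flp_g L212833) L239695
theorem L251339 : sm gb N32118 = N30709 := ded_17_1 (flp_g L239005) (flp_b L231358) L231356 L230112 L251327
theorem L251341 : sm gc N29581 = N32119 := rfl
theorem L251343 : sm ga N32119 = N29582 := ded_8_1 (flp_c L229170) L229162 L251341
theorem L251345 : sm ge N32119 = N30799 := ded_19_2 L239827 (flp_e L229166) L251341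
theorem L251347 : sm gg N32119 = N30066 := ded_21_2 (flp_c L233445) (flp_g L229168) L251341
theorem L251349 : sm gf N29582 = N32120 := rfl
theorem L251351 : sm gc N32120 = N29583 := ded_20_1 (flp_f L229178) L229170 L251349
theorem L251353 : sm ge N32120 = N30802 := ded_25_1 (flp_f L239847) (flp_e L229172) L251349
theorem L251355 : sm gc N29589 = N32121 := rfl
theorem L251357 : sm ga N32121 = N30757 := ded_8_1 L239441 (flp_a L229234) L251355
theorem L251359 : sm ge N32121 = N30755 := ded_19_2 (flp_c L239423) (flp_e L229240) L251355
theorem L251361 : sm gg N32121 = N30940 := ded_21_2 (flp_c L241042) (flp_g L229238) L251355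
theorem L251363 : sm gc N29593 = N32122 := rfl
theorem L251365 : sm gf N32122 = N30347 := ded_20_2 (flp_c L235908) L230016 L251363
theorem L251367 : sm gg N32122 = N31686 := ded_21_2 L247630 (flp_g L232092) L251363
theorem L251369 : sm gd N32122 = N30348 := ded_28_7 (flp_a L239557) (flp_c L239555) L229220 (flp_c L229216) L200069 L200141 L229270 L251363
theorem L251371 : sm gb N32122 = N30381 := ded_30_2 L236201 L236245 (flp_c L247711) L247719 L237839 L222375 (flp_c L237377) (flp_b L241842) L241840 L242074 L242068 L239943 (flp_a L230080) (flp_f L230078) (flp_c L200817) (flp_b L200801) (flp_a L230014) L230016 L251363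
theorem L251373 : sm gb N29594 = N32123 := rfl
theorem L251375 : sm ge N32123 = N31501 := ded_15_2 (flp_b L246032) (flp_e L229278) L251373
theorem L251377 : sm gf N32123 = N31503 := ded_16_2 (flp_b L246046) (flp_f L223223) (flp_b L220678) (flp_f L229280) L251373
theorem L251379 : sm ge N29595 = N32124 := rfl
theorem L251381 : sm ga N32124 = N29599 := ded_10_1 (flp_e L229326) (flp_a L229284) L251379
theorem L251383 : sm gc N32124 = N29596 := ded_19_1 (flp_e L229292) L229282 L251379
theorem L251385 : sm gf N32124 = N31287 := ded_25_2 L244371 (flp_f L229286) L251379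
theorem L251387 : sm gg N32124 = N29633 := ded_26_2 (flp_e L229630) (flp_g L229288) L251379
theorem L251389 : sm gd N32124 = N31451 := ded_22_1 L245641 L245681 (flp_e L245691) L229290 L251379
theorem L251391 : sm ge N29597 = N32125 := rfl
theorem L251393 : sm gb N32125 = N29599 := ded_15_1 (flp_e L229326) L229302 L251391
theorem L251395 : sm gc N32125 = N29954 := ded_19_1 (flp_e L232538) (flp_c L229304) L251391
theorem L251397 : sm gf N32125 = N30781 := ded_25_2 L239665 L229306 L251391
theorem L251399 : sm gg N32125 = N29979 := ded_26_2 (flp_e L232767) L229308 L251391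
theorem L251401 : sm gd N32125 = N31768 := ded_22_1 L248343 L226193 (flp_e L220166) (flp_d L229310) L251391
theorem L251403 : sm gd N29599 = N32126 := rfl
theorem L251405 : sm ga N32126 = N31451 := ded_9_1 (flp_d L251389) L251381 L251403
theorem L251407 : sm gb N32126 = N31768 := ded_14_1 (flp_d L251401) L251393 L251403
theorem L251409 : sm gg N32126 = N29644 := ded_24_2 (flp_d L229732) (flp_g L229330) L251403
theorem L251411 : sm ge N32126 = N31453 := ded_22_2 (flp_d L245667) L229324 (flp_d L229312) L229326 L251403
theorem L251413 : sm gc N31147 = N32126 := ded_28_0 (flp_d L251403) L229328 L200177 (flp_c L205346) (flp_d L218492) L218490 (flp_d L222421) (flp_a L242995)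
theorem L251415 : sm gf N31146 = N32126 := ded_11_0 L251405 L245643 L243157
theorem L251417 : sm gf N29599 = N32127 := rfl
theorem L251419 : sm ga N32127 = N31287 := ded_11_1 (flp_f L251385) L251381 L251417
theorem L251421 : sm gc N32127 = N29601 := ded_20_1 (flp_f L229342) (flp_c L229328) L251417
theorem L251423 : sm gd N32127 = N31146 := ded_23_1 L251415 (flp_d L251403) L251417
theorem L251425 : sm ge N32127 = N29600 := ded_25_1 (flp_f L229332) L229326 L251417
theorem L251427 : sm gb N32127 = N31246 := ded_16_1 L244027 (flp_b L239669) (flp_f L251397) L251393 L251417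
theorem L251429 : sm gb N29601 = N32128 := rfl
theorem L251431 : sm gd N32128 = N30279 := ded_14_2 (flp_b L235244) (flp_d L229346) L251429
theorem L251433 : sm ge N32128 = N29602 := ded_15_2 (flp_b L229350) (flp_e L229348) L251429
theorem L251435 : sm gc N32128 = N29853 := ded_13_2 (flp_b L237825) (flp_c L244025) (flp_b L251427) L251421 L251429
theorem L251437 : sm gf N32128 = N30522 := ded_16_2 (flp_b L239713) (flp_f L239717) L229252 L229342 L251429
theorem L251439 : sm ga N32128 = N31015 := ded_7_1 L241710 (flp_a L241510) L241512 L237729 (flp_b L231500) L201860 (flp_b L220562) (flp_a L229344) L251429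
theorem L251441 : sm gb N29604 = N32129 := rfl
theorem L251443 : sm gd N32129 = N31237 := ded_14_2 L243947 L229372 L251441
theorem L251445 : sm gc N32129 = N30381 := ded_13_2 (flp_b L251371) (flp_c L251363) L229272 L229366 L251441
theorem L251447 : sm gf N32129 = N30743 := ded_16_2 L239311 (flp_f L220002) (flp_b L231488) (flp_f L231486) L251441
theorem L251449 : sm gg N32129 = N30380 := ded_17_2 (flp_b L247741) (flp_g L247743) (flp_b L231764) (flp_g L229370) L251441
theorem L251451 : sm ga N30387 = N32129 := ded_9_3 L251443 (flp_a L247723) L247725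
theorem L251453 : sm ge N29604 = N32130 := rfl
theorem L251455 : sm ga N32130 = N29877 := ded_10_1 L231840 (flp_a L229368) L251453
theorem L251457 : sm gc N32130 = N29605 := ded_19_1 (flp_e L229374) L229366 L251453
theorem L251459 : sm gg N32130 = N29869 := ded_26_2 (flp_e L231768) (flp_g L229370) L251453
theorem L251461 : sm gd N29606 = N32131 := rfl
theorem L251463 : sm ga N32131 = N29607 := ded_9_1 (flp_d L229393) (flp_a L229384) L251461
theorem L251465 : sm gb N32131 = N30966 := ded_14_1 (flp_d L241314) (flp_b L229391) L251461
theorem L251467 : sm gf N32131 = N29621 := ded_23_2 (flp_d L229518) (flp_f L229388) L251461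
theorem L251469 : sm gg N32131 = N32131 := ded_24_2 (flp_d L251461) L229390 L251461
theorem L251470 : sm ge N32131 = N31062 := ded_22_2 L242192 L217048 (flp_d L205418) (flp_e L229386) L251461
theorem L251472 : sm gc N31879 = N32131 := ded_28_0 (flp_d L251461) (flp_c L229382) L204738 L204735 (flp_d L198095) (flp_c L226394) (flp_d L242660) (flp_a L249272)
theorem L251474 : sm gc N29613 = N32132 := rfl
theorem L251476 : sm ga N32132 = N30989 := ded_8_1 (flp_c L241488) (flp_a L229456) L251474
theorem L251478 : sm ge N32132 = N29840 := ded_19_2 L231504 (flp_e L229460) L251474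
theorem L251480 : sm gg N32132 = N30539 := ded_21_2 (flp_c L237561) (flp_g L229458) L251474
theorem L251482 : sm gd N32132 = N30340 := ded_28_7 L235834 L216199 L216219 (flp_c L216225) L200231 L200243 L229454 L251474
theorem L251484 : sm gb N32132 = N29839 := ded_32_5 L231494 L206677 L191904 (flp_c L190061) (flp_b L219032) L243239 (flp_c L243251) L227742 L199120 L168144 L166378 L166458 L197109 L225179 L225185 L197299 L166736 L115541 (flp_c L115633) L166879 L166881 (flp_d L171756) L171762 L122955 L123013 L163828 (flp_d L99037) (flp_c L86025) (flp_d L27538) (flp_c L13213) (flp_b L6497) (flp_d L6406) L13003 L27085 L27612 (flp_b L86093) (flp_d L86091) L27606 (flp_d L29034) L142456 L86097 L86115 (flp_c L94114) L94116 L47073 L47087 L47091 L22671 L82061 (flp_d L22848) L47450 (flp_b L94379) L113588 L164482 L195779 (flp_c L195787) L179691 (flp_d L151916) (flp_c L151924) (flp_d L179677) L179679 L174054 (flp_d L184812) (flp_c L196548) L196550 L165680 (flp_b L164545) L113647 (flp_c L113747) (flp_d L164609) (flp_c L195856) (flp_b L214888) L214886 L200231 L200243 L229454 L251474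
theorem L251486 : sm gc N29614 = N32133 := rfl
theorem L251488 : sm ga N32133 = N29615 := ded_8_1 (flp_c L229474) (flp_a L229464) L251486
theorem L251490 : sm ge N32133 = N30115 := ded_19_2 L233861 (flp_e L229472) L251486
theorem L251492 : sm gf N32133 = N30114 := ded_20_2 L233853 (flp_f L229468) L251486
theorem L251494 : sm gg N32133 = N29623 := ded_21_2 (flp_c L229536) (flp_g L229470) L251486
theorem L251496 : sm gb N32133 = N31580 := ded_13_1 L246683 L242560 L242552 (flp_b L229466) L251486
theorem L251498 : sm gd N32133 = N31781 := ded_28_7 (flp_a L248449) L248459 L248467 (flp_c L229440) L200235 L200261 L229462 L251486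
theorem L251500 : sm gb N29618 = N32134 := rfl
theorem L251502 : sm ge N32134 = N30121 := ded_15_2 (flp_b L240453) L240451 L251500
theorem L251504 : sm gc N32134 = N30131 := ded_13_2 (flp_b L240487) L240489 L213697 L229500 L251500
theorem L251506 : sm ga N32134 = N30123 := ded_30_3 (flp_f L245457) (flp_c L245459) L233987 (flp_a L242751) (flp_f L242749) L234185 (flp_b L234173) L204073 L204173 L204177 L204205 L220736 (flp_f L234591) L234585 (flp_b L236041) L236039 (flp_f L229502) L229500 L251500
theorem L251508 : sm ge N29621 = N32135 := rfl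
theorem L251510 : sm ga N32135 = N30846 := ded_10_1 L240217 (flp_a L229520) L251508
theorem L251512 : sm gb N32135 = N29666 := ded_15_1 L229968 (flp_b L229522) L251508
theorem L251514 : sm gf N32135 = N31062 := ded_25_2 (flp_e L251470) L251467 L251508
theorem L251516 : sm gg N32135 = N30846 := ded_26_2 L240217 (flp_g L229524) L251508
theorem L251518 : sm gd N32135 = N30281 := ded_22_1 (flp_e L235266) (flp_d L205506) (flp_e L200333) L229518 L251508
theorem L251520 : sm ge N29622 = N32136 := rfl
theorem L251522 : sm ga N32136 = N30522 := ded_10_1 L237417 (flp_a L229528) L251520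
theorem L251524 : sm gb N32136 = N29624 := ded_15_1 (flp_e L229542) (flp_b L229530) L251520
theorem L251526 : sm gc N32136 = N30102 := ded_19_1 L233743 L229534 L251520
theorem L251528 : sm gf N32136 = N31015 := ded_25_2 L241712 (flp_f L237693) L251520
theorem L251530 : sm gg N32136 = N30101 := ded_26_2 L233731 (flp_g L229532) L251520
theorem L251532 : sm gd N32136 = N30116 := ded_22_1 L233869 (flp_d L205514) (flp_e L200337) L229526 L251520
theorem L251534 : sm gb N29623 = N32137 := rfl
theorem L251536 : sm gd N32137 = N32134 := ded_14_2 (flp_b L251500) L229540 L251534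
theorem L251538 : sm gc N32137 = N30523 := ded_13_2 (flp_b L237421) L229534 L229530 L229536 L251534
theorem L251540 : sm ga N31593 = N32137 := ded_9_3 L251536 L251506 L246781
theorem L251542 : sm ge N29623 = N32138 := rfl
theorem L251544 : sm ga N32138 = N29629 := ded_10_1 (flp_e L229596) (flp_a L229538) L251542
theorem L251546 : sm gc N32138 = N29624 := ded_19_1 (flp_e L229542) L229536 L251542
theorem L251548 : sm gg N32138 = N30115 := ded_26_2 (flp_e L251490) L251494 L251542
theorem L251550 : sm gd N32138 = N31189 := ded_22_1 L243479 (flp_d L240455) L240451 L229540 L251542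
theorem L251552 : sm gf N31196 = N32138 := ded_11_0 L251544 (flp_f L229606) L243541
theorem L251554 : sm gf N29623 = N32139 := rfl
theorem L251556 : sm ga N32139 = N29630 := ded_11_1 (flp_f L229608) (flp_a L229538) L251554
theorem L251558 : sm gc N32139 = N29625 := ded_20_1 (flp_f L229550) L229536 L251554
theorem L251560 : sm gd N32139 = N31671 := ded_23_1 L247469 L229540 L251554
theorem L251562 : sm ge N32139 = N31196 := ded_25_1 L251552 (flp_e L251542) L251554
theorem L251564 : sm gg N32139 = N31679 := ded_29_3 L247539 (flp_f L251492) L251494 L251554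
theorem L251566 : sm gb N29625 = N32140 := rfl
theorem L251568 : sm gd N32140 = N29626 := ded_14_2 (flp_b L229558) (flp_d L229554) L251566
theorem L251570 : sm ge N32140 = N31018 := ded_15_2 (flp_b L241742) L230460 L251566
theorem L251572 : sm gf N32140 = N30988 := ded_16_2 L241476 (flp_f L237693) L229530 L229550 L251566
theorem L251574 : sm gg N32140 = N29950 := ded_17_2 (flp_b L232492) L202822 (flp_b L225453) (flp_g L229556) L251566
theorem L251576 : sm ga N32140 = N30971 := ded_7_1 L242195 (flp_a L242190) (flp_b L217041) L187874 L216835 (flp_a L216841) L203961 (flp_a L229552) L251566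
theorem L251578 : sm ga N29632 = N32141 := rfl
theorem L251580 : sm gc N32141 = N31776 := ded_8_2 L248411 L240137 L251578
theorem L251582 : sm gd N32141 = N31902 := ded_9_2 (flp_a L249478) (flp_d L229628) L251578
theorem L251584 : sm gg N31409 = N32141 := ded_29_3 (flp_a L251578) (flp_f L247827) (flp_g L247819) (flp_f L245305)
theorem L251586 : sm gb N32141 = N30678 := ded_7_2 L238677 (flp_b L245607) L245599 L242310 (flp_a L229660) (flp_b L200401) (flp_a L200377) L229626 L251578
theorem L251588 : sm ge N29632 = N32142 := rfl
theorem L251590 : sm gb N32142 = N29633 := ded_15_1 (flp_e L229630) L229626 L251588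
theorem L251592 : sm gg N29632 = N32143 := rfl
theorem L251594 : sm ga N32143 = N31409 := ded_12_1 L251584 (flp_a L251578) L251592
theorem L251596 : sm gc N32143 = N30892 := ded_21_1 (flp_g L240603) L240137 L251592
theorem L251598 : sm gd N32143 = N31904 := ded_24_1 (flp_g L249494) (flp_d L229628) L251592
theorem L251600 : sm gf N30117 = N32143 := ded_29_0 (flp_g L251592) (flp_f L247827) (flp_g L247819) L233881
theorem L251602 : sm gf N29633 = N32144 := rfl
theorem L251604 : sm ga N32144 = N29645 := ded_11_1 (flp_f L229734) (flp_a L229632) L251602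
theorem L251606 : sm gc N32144 = N29635 := ded_20_1 (flp_f L229646) (flp_c L229634) L251602
theorem L251608 : sm ge N32144 = N29634 := ded_25_1 (flp_f L229636) L229630 L251602
theorem L251610 : sm gg N32144 = N32127 := ded_29_3 L251419 (flp_f L251385) L251387 L251602
theorem L251612 : sm gb N29634 = N32145 := rfl
theorem L251614 : sm gd N32145 = N31261 := ded_14_2 L244191 (flp_d L229642) L251612
theorem L251616 : sm gf N32145 = N30400 := ded_16_2 (flp_b L247825) L247827 (flp_b L229626) L229636 L251612
theorem L251618 : sm gg N32145 = N30780 := ded_17_2 L239659 L220218 (flp_b L229340) (flp_g L229644) L251612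
theorem L251620 : sm ga N30407 = N32145 := ded_9_3 L251614 (flp_a L247807) L247809
theorem L251622 : sm gc N30401 = N32145 := ded_28_6 L251614 (flp_a L247807) (flp_c L250843) L250851 L234157 L204081 (flp_c L207921) (flp_d L236342)
theorem L251624 : sm gc N29636 = N32146 := rfl
theorem L251626 : sm gf N32146 = N31681 := ded_20_2 L247571 (flp_f L230026) L251624
theorem L251628 : sm gg N32146 = N30288 := ded_21_2 (flp_c L235350) L232082 L251624
theorem L251630 : sm gb N32146 = N30401 := ded_13_1 L251622 (flp_b L251612) L229640 L229656 L251624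
theorem L251632 : sm gd N32146 = N30289 := ded_28_7 (flp_a L239099) (flp_c L239097) L231360 (flp_c L231350) L201742 (flp_c L200399) (flp_d L229658) L251624
theorem L251634 : sm ge N29637 = N32147 := rfl
theorem L251636 : sm ga N32147 = N29639 := ded_10_1 (flp_e L229672) L229660 L251634
theorem L251638 : sm gb N32147 = N29644 := ded_15_1 (flp_e L242308) L242310 L251634
theorem L251640 : sm gc N32147 = N31187 := ded_19_1 (flp_e L247837) (flp_c L247839) L251634
theorem L251642 : sm gf N32147 = N31003 := ded_25_2 (flp_e L241632) (flp_f L229696) L251634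
theorem L251644 : sm gg N32147 = N31212 := ded_26_2 (flp_e L243693) L243567 L251634
theorem L251646 : sm gd N32147 = N29639 := ded_22_1 (flp_e L229672) L229662 (flp_e L241368) L241366 L251634
theorem L251648 : sm gc N29646 = N32148 := rfl
theorem L251650 : sm ge N32148 = N30468 := ded_19_2 (flp_c L242268) L242272 L251648
theorem L251652 : sm gf N32148 = N30467 := ded_20_2 L236915 (flp_f L229744) L251648
theorem L251654 : sm gg N32148 = N31238 := ded_21_2 L243951 L229746 L251648
theorem L251656 : sm gb N32148 = N29648 := ded_13_1 (flp_c L229760) (flp_b L200423) (flp_c L200415) L229740 L251648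
theorem L251658 : sm gd N32148 = N30582 := ded_28_7 (flp_a L244421) L244423 L220740 L191660 (flp_d L191101) (flp_c L220068) (flp_d L229742) L251648
theorem L251660 : sm gc N29647 = N32149 := rfl
theorem L251662 : sm ga N32149 = N29648 := ded_8_1 (flp_c L229760) L229748 L251660
theorem L251664 : sm ge N32149 = N30129 := ded_19_2 L233955 (flp_e L229752) L251660
theorem L251666 : sm gf N32149 = N31048 := ded_20_2 (flp_c L242034) (flp_f L229754) L251660
theorem L251668 : sm gg N32149 = N30127 := ded_21_2 L233941 L229756 L251660
theorem L251670 : sm gd N29648 = N32150 := rfl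
theorem L251672 : sm gb N32150 = N30582 := ded_14_1 (flp_d L251658) L251656 L251670
theorem L251674 : sm gf N32150 = N31629 := ded_23_2 L247114 (flp_f L233951) L251670
theorem L251676 : sm ge N32150 = N30583 := ded_22_2 L237953 (flp_e L236931) L236929 L233965 L251670
theorem L251678 : sm gg N29648 = N32151 := rfl
theorem L251680 : sm ga N32151 = N30127 := ded_12_1 (flp_g L251668) L251662 L251678
theorem L251682 : sm gc N32151 = N29649 := ded_21_1 (flp_g L229762) L229760 L251678
theorem L251684 : sm ge N32151 = N30119 := ded_26_1 (flp_g L233967) L233965 L251678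
theorem L251686 : sm gf N30118 = N32151 := ded_29_0 (flp_g L251678) L233951 (flp_g L233945) (flp_a L233885)
theorem L251688 : sm gd N29658 = N32152 := rfl
theorem L251690 : sm ga N32152 = N29659 := ded_9_1 (flp_d L229892) (flp_a L229884) L251688
theorem L251692 : sm gb N32152 = N31381 := ded_14_1 L245081 (flp_b L229890) L251688
theorem L251694 : sm gf N32152 = N29660 := ded_23_2 (flp_d L229898) (flp_f L229888) L251688
theorem L251696 : sm ge N32152 = N30145 := ded_22_2 L234085 L204045 (flp_d L207856) (flp_e L229886) L251688
theorem L251698 : sm gc N29659 = N32153 := rfl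
theorem L251700 : sm ge N32153 = N30865 := ded_19_2 L240383 L234063 L251698
theorem L251702 : sm gf N32153 = N29661 := ded_20_2 (flp_c L229908) (flp_f L229896) L251698
theorem L251704 : sm gg N32153 = N31600 := ded_21_2 L246851 (flp_g L234055) L251698
theorem L251706 : sm gb N32153 = N30728 := ded_13_1 L244859 (flp_b L244853) L221320 (flp_b L229894) L251698
theorem L251708 : sm gd N32153 = N30730 := ded_28_7 L239187 (flp_c L229972) (flp_d L200713) (flp_c L169185) (flp_d L169141) L200623 L229892 L251698
theorem L251710 : sm gf N29662 = N32154 := rfl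
theorem L251712 : sm ga N32154 = N30142 := ded_11_1 (flp_f L234049) (flp_a L229920) L251710
theorem L251714 : sm gc N32154 = N30621 := ded_20_1 L238215 (flp_c L229922) L251710
theorem L251716 : sm gd N32154 = N29663 := ded_23_1 (flp_f L229930) (flp_d L229924) L251710
theorem L251718 : sm ge N32154 = N29955 := ded_25_1 (flp_f L232546) (flp_e L229926) L251710
theorem L251720 : sm gg N32154 = N32152 := ded_29_3 L251690 L229896 L229918 L251710
theorem L251722 : sm gb N32154 = N30510 := ded_16_1 L237324 L232562 (flp_f L232554) L229928 L251710
theorem L251724 : sm gc N29665 = N32155 := rfl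
theorem L251726 : sm ga N32155 = N29666 := ded_8_1 (flp_c L229966) (flp_a L229956) L251724
theorem L251728 : sm ge N32155 = N30556 := ded_19_2 L237719 (flp_e L229964) L251724
theorem L251730 : sm gf N32155 = N32132 := ded_20_2 (flp_c L251474) (flp_f L229960) L251724
theorem L251732 : sm gg N32155 = N30197 := ded_21_2 (flp_c L234519) (flp_g L229962) L251724
theorem L251734 : sm gd N32155 = N31107 := ded_28_7 L242624 L241494 L229846 (flp_c L229838) L200593 L200675 L229954 L251724
theorem L251736 : sm gd N29667 = N32156 := rfl
theorem L251738 : sm ga N32156 = N32153 := ded_9_1 L251708 L239187 L251736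
theorem L251740 : sm gb N32156 = N30809 := ded_14_1 L239923 (flp_b L229980) L251736
theorem L251742 : sm gf N32156 = N29668 := ded_23_2 (flp_d L229982) (flp_f L229976) L251736
theorem L251744 : sm gg N32156 = N30621 := ded_24_2 (flp_d L238211) (flp_g L229978) L251736
theorem L251746 : sm ge N32156 = N30867 := ded_22_2 L240407 L213657 (flp_d L214467) (flp_e L229974) L251736
theorem L251748 : sm gc N32152 = N32156 := ded_28_0 (flp_d L251736) (flp_c L229972) (flp_d L200713) (flp_c L169185) (flp_d L169141) L200623 L229892 (flp_a L251690)
theorem L251750 : sm ge N29671 = N32157 := rfl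
theorem L251752 : sm ga N32157 = N29673 := ded_10_1 (flp_e L230020) (flp_a L230014) L251750
theorem L251754 : sm gb N32157 = N32155 := ded_15_1 L251728 (flp_b L237725) L251750
theorem L251756 : sm gc N32157 = N30862 := ded_19_1 L240357 (flp_c L235908) L251750
theorem L251758 : sm gf N32157 = N29905 := ded_25_2 L232110 (flp_f L230016) L251750
theorem L251760 : sm gg N32157 = N31100 := ded_26_2 (flp_e L242687) L242691 L251750
theorem L251762 : sm gd N32157 = N29907 := ded_22_1 L232131 (flp_d L205757) (flp_e L200795) L230012 L251750
theorem L251764 : sm ga N30405 = N31005 := ded_30_11 L241658 L241670 L241672 (flp_a L241698) L241700 (flp_c L220882) L220874 (flp_a L229456) (flp_f L229960) L251724 (flp_b L251754) L251752 (flp_f L230026) L251624 L251630 L236340 (flp_f L207947) L207945 L236366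
theorem L251766 : sm gf N31008 = N30405 := ded_11_0 L251764 L241658 L241668
theorem L251768 : sm gf N29672 = N32158 := rfl
theorem L251770 : sm ga N32158 = N32122 := ded_11_1 L251365 L235906 L251768
theorem L251772 : sm gc N32158 = N29674 := ded_20_1 (flp_f L230028) L230018 L251768
theorem L251774 : sm gd N32158 = N30769 := ded_23_1 L239561 (flp_d L235902) L251768
theorem L251776 : sm ge N32158 = N32146 := ded_25_1 L251626 L247569 L251768
theorem L251778 : sm gg N32158 = N30804 := ded_29_3 (flp_a L247622) L247626 L240870 L251768
theorem L251780 : sm gg N29674 = N32159 := rfl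
theorem L251782 : sm ga N32159 = N29903 := ded_12_1 (flp_g L232092) (flp_a L230030) L251780
theorem L251784 : sm gc N32159 = N30804 := ded_21_1 (flp_g L251778) L251772 L251780
theorem L251786 : sm gd N32159 = N29676 := ded_24_1 (flp_g L230042) (flp_d L230032) L251780
theorem L251788 : sm ge N32159 = N29901 := ded_26_1 L232082 (flp_e L230034) L251780
theorem L251790 : sm gf N31112 = N32159 := ded_29_0 (flp_g L251780) (flp_f L230028) L230038 L242693
theorem L251792 : sm gb N29675 = N32160 := rfl
theorem L251794 : sm gd N32160 = N29677 := ded_14_2 (flp_b L230052) (flp_d L230040) L251792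
theorem L251796 : sm gc N32160 = N32160 := ded_13_2 (flp_b L251792) (flp_c L240874) L240869 L240874 L251792
theorem L251797 : sm gf N32160 = N29738 := ded_16_2 (flp_b L230540) L202464 (flp_b L232088) (flp_f L232094) L251792
theorem L251799 : sm gg N32160 = N29681 := ded_17_2 (flp_b L230088) (flp_g L200837) (flp_b L200801) L230038 L251792
theorem L251801 : sm ga N32160 = N32160 := ded_7_1 (flp_b L251792) L242693 (flp_b L242683) L217789 L188359 (flp_a L217789) L242683 (flp_a L242693) L251792
theorem L251802 : sm gf N29678 = N32161 := rfl
theorem L251804 : sm ga N32161 = N31778 := ded_11_1 (flp_f L248619) L248615 L251802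
theorem L251806 : sm ge N32161 = N31777 := ded_25_1 L248421 (flp_e L230065) L251802
theorem L251808 : sm gg N32161 = N31778 := ded_29_3 (flp_a L251804) (flp_f L251802) L230067 L251802
theorem L251810 : sm gb N31775 = N32161 := ded_15_3 L251806 (flp_b L248415) (flp_e L248407)
theorem L251812 : sm gb N29680 = N32162 := rfl
theorem L251814 : sm ge N32162 = N30838 := ded_15_2 (flp_b L240135) (flp_e L230084) L251812
theorem L251816 : sm gc N32162 = N32142 := ded_13_2 L251590 L229634 L200833 (flp_c L230082) L251812
theorem L251818 : sm gf N32162 = N31775 := ded_16_2 L251810 (flp_f L251802) (flp_b L230063) L230078 L251812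
theorem L251820 : sm gc N29691 = N32163 := rfl
theorem L251822 : sm ga N32163 = N29695 := ded_8_1 (flp_c L230204) (flp_a L230188) L251820
theorem L251824 : sm gd N32163 = N29693 := ded_28_7 L230196 (flp_c L223749) (flp_d L246497) L246495 L243933 L223743 L230186 L251820
theorem L251826 : sm gf N29691 = N32163 := ded_30_0 (flp_c L251820) (flp_b L242594) L242588 (flp_f L242725) (flp_c L242729) L232895 L207371 (flp_f L232274) (flp_c L232270) (flp_b L232232) (flp_a L249607) L249609 (flp_c L227704) (flp_b L199096) (flp_a L168246) (flp_f L168250) L169307 (flp_b L200908) (flp_a L230188)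
theorem L251828 : sm gb N32163 = N29995 := ded_32_15 L232883 L203187 L171402 L160838 L158500 (flp_d L156932) (flp_c L157012) L157015 L145922 (flp_b L182831) (flp_e L182829) (flp_d L145682) L104522 (flp_d L145370) L182297 L182299 L198250 L198248 L167518 (flp_c L163248) L178933 L178935 L179285 L209999 (flp_c L234093) L234097 (flp_d L225260) (flp_c L197168) (flp_d L197143) L225242 L225246 L247269 (flp_c L247273) (flp_d L232690) (flp_c L232695) L227463 L227391 (flp_d L227385) (flp_c L198940) (flp_d L168907) (flp_c L184898) L184896 L200315 L229500 L229540 (flp_c L229536) (flp_b L229530) (flp_d L229526) (flp_c L229510) L229516 L210171 L179431 (flp_d L179061) (flp_c L130226) (flp_d L130072) L163479 L172390 (flp_d L198719) L227120 L249270 L251472 L251465 (flp_e L241342) L241340 L215969 (flp_d L187335) (flp_c L216405) (flp_b L216411) (flp_d L230458) (flp_c L243543) L243545 (flp_c L220006) L243931 L243933 L223743 L230186 L251820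
theorem L251830 : sm ge N29691 = N32164 := rfl
theorem L251832 : sm ga N32164 = N29696 := ded_10_1 (flp_e L230212) (flp_a L230188) L251830
theorem L251834 : sm gg N29691 = N32165 := rfl
theorem L251836 : sm ga N32165 = N29697 := ded_12_1 (flp_g L230216) (flp_a L230188) L251834
theorem L251838 : sm gd N32165 = N29694 := ded_24_1 (flp_g L230198) L230186 L251834
theorem L251840 : sm gb N32165 = N31134 := ded_17_1 (flp_g L242879) L217966 L242586 L242594 L251834
theorem L251842 : sm gf N29692 = N32166 := rfl
theorem L251844 : sm ga N32166 = N29699 := ded_11_1 (flp_f L230226) (flp_a L230192) L251842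
theorem L251846 : sm gd N32166 = N31962 := ded_23_1 (flp_f L250663) (flp_d L250669) L251842
theorem L251848 : sm ge N32166 = N29693 := ded_25_1 (flp_f L230194) L230190 L251842
theorem L251850 : sm gg N32166 = N29926 := ded_29_3 (flp_a L232284) L232296 L232304 L251842
theorem L251852 : sm gb N32166 = N29998 := ded_16_1 (flp_f L232913) L227843 L242614 L242616 L251842
theorem L251854 : sm ge N29695 = N32167 := rfl
theorem L251856 : sm gb N32167 = N31933 := ded_15_1 (flp_e L249729) (flp_b L230206) L251854
theorem L251858 : sm gc N32167 = N29696 := ded_19_1 (flp_e L230212) L230204 L251854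
theorem L251860 : sm gf N32167 = N29696 := ded_25_2 (flp_e L230212) L230208 L251854
theorem L251862 : sm gd N32167 = N32059 := ded_22_1 (flp_e L250783) (flp_d L230942) L230228 (flp_d L230210) L251854
theorem L251864 : sm gg N29695 = N32168 := rfl
theorem L251866 : sm gc N32168 = N29697 := ded_21_1 (flp_g L230216) L230204 L251864
theorem L251868 : sm gd N32168 = N29702 := ded_24_1 (flp_g L230244) (flp_d L230210) L251864
theorem L251870 : sm gf N32165 = N32168 := ded_29_0 (flp_g L251864) (flp_f L230208) L230216 (flp_a L251836)
theorem L251872 : sm gb N32168 = N29925 := ded_17_1 (flp_g L232278) (flp_b L232232) L232234 (flp_b L230206) L251864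
theorem L251874 : sm gd N29696 = N32169 := rfl
theorem L251876 : sm gb N32169 = N29704 := ded_14_1 (flp_d L230258) (flp_b L230214) L251874
theorem L251878 : sm gf N32169 = N32059 := ded_23_2 (flp_d L251862) L251860 L251874
theorem L251880 : sm ge N32169 = N29698 := ded_22_2 (flp_d L230222) (flp_e L200910) L200906 L230212 L251874
theorem L251882 : sm gc N32060 = N32169 := ded_28_0 (flp_d L251874) (flp_c L251858) L251862 L250785 L228571 L250029 (flp_d L250653) (flp_a L250789)
theorem L251884 : sm gg N29696 = N32170 := rfl
theorem L251886 : sm ge N32170 = N29697 := ded_26_1 (flp_g L230216) L230212 L251884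
theorem L251888 : sm gb N32170 = N29793 := ded_17_1 (flp_g L231094) L201522 (flp_g L200928) (flp_b L230214) L251884
theorem L251890 : sm gf N29697 = N32171 := rfl
theorem L251892 : sm ga N32171 = N32168 := ded_11_1 (flp_f L251870) L251836 L251890
theorem L251894 : sm gc N32171 = N32165 := ded_20_1 L251870 L251866 L251890
theorem L251896 : sm gd N32171 = N29703 := ded_23_1 (flp_f L230248) (flp_d L230218) L251890
theorem L251898 : sm gg N32171 = N32163 := ded_29_3 L251822 (flp_f L230208) L230216 L251890
theorem L251900 : sm ga N29701 = N32172 := rfl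
theorem L251902 : sm gd N32172 = N31929 := ded_9_2 L249707 (flp_d L230240) L251900
theorem L251904 : sm ge N32172 = N29800 := ded_10_2 (flp_a L231158) L230956 L251900
theorem L251906 : sm gf N32172 = N29708 := ded_11_2 (flp_a L230282) (flp_f L230242) L251900
theorem L251908 : sm gg N32172 = N29915 := ded_12_2 L232196 (flp_g L230952) L251900
theorem L251910 : sm gb N32172 = N29799 := ded_7_2 L231144 (flp_b L231140) L206420 (flp_b L206390) L203197 L230256 L230196 L230238 L251900
theorem L251912 : sm gc N29704 = N32173 := rfl
theorem L251914 : sm ga N32173 = N31937 := ded_8_1 (flp_c L249757) (flp_a L230260) L251912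
theorem L251916 : sm ge N32173 = N29705 := ded_19_2 (flp_c L230266) (flp_e L230264) L251912
theorem L251918 : sm gg N32173 = N29801 := ded_21_2 (flp_c L231160) (flp_g L230262) L251912
theorem L251920 : sm gb N32173 = N32079 := ded_13_1 L250963 (flp_b L250795) L251882 L251876 L251912
theorem L251922 : sm gd N32103 = N32173 := ded_28_1 (flp_c L251912) (flp_d L230258) L200926 (flp_d L199835) (flp_c L203213) (flp_d L232951) L232949 (flp_c L251181)
theorem L251924 : sm gf N29705 = N32174 := rfl
theorem L251926 : sm ga N32174 = N32040 := ded_11_1 (flp_f L250623) (flp_a L230268) L251924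
theorem L251928 : sm gc N32174 = N29706 := ded_20_1 (flp_f L230272) L230266 L251924
theorem L251930 : sm gd N32174 = N29983 := ded_23_1 (flp_f L232813) (flp_d L231030) L251924
theorem L251932 : sm gg N32174 = N29981 := ded_29_3 L232785 (flp_f L231192) (flp_g L230270) L251924
theorem L251934 : sm gb N32174 = N29990 := ded_16_1 (flp_f L232859) L203155 L228788 (flp_b L230960) L251924
theorem L251936 : sm gb N29706 = N32175 := rfl
theorem L251938 : sm gd N32175 = N29707 := ded_14_2 (flp_b L230278) (flp_d L230276) L251936
theorem L251940 : sm gc N32175 = N29919 := ded_13_2 L232228 (flp_c L232861) (flp_b L251934) L251928 L251936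
theorem L251942 : sm gf N32175 = N29917 := ded_16_2 L232214 L230954 L230224 L230272 L251936
theorem L251944 : sm gd N29709 = N32176 := rfl
theorem L251946 : sm gb N32176 = N29717 := ded_14_1 (flp_d L230342) (flp_b L230286) L251944
theorem L251948 : sm gg N29711 = N32177 := rfl
theorem L251950 : sm ga N32177 = N29713 := ded_12_1 (flp_g L230310) L230292 L251948
theorem L251952 : sm gc N32177 = N31411 := ded_21_1 (flp_g L245321) L230300 L251948
theorem L251954 : sm gd N32177 = N30300 := ded_24_1 (flp_g L235447) (flp_d L230294) L251948
theorem L251956 : sm ge N32177 = N29716 := ded_26_1 (flp_g L230334) (flp_e L230296) L251948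
theorem L251958 : sm gf N31174 = N32177 := ded_29_0 (flp_g L251948) L230298 L245355 L245357
theorem L251960 : sm gd N29715 = N32178 := rfl
theorem L251962 : sm ga N32178 = N29717 := ded_9_1 (flp_d L230342) (flp_a L230326) L251960
theorem L251964 : sm gb N32178 = N31410 := ded_14_1 L245315 L230332 L251960
theorem L251966 : sm gf N32178 = N31412 := ded_23_2 L245327 (flp_f L230330) L251960
theorem L251968 : sm ge N32178 = N30726 := ded_22_2 (flp_d L244834) L244836 (flp_d L221914) (flp_e L230328) L251960
theorem L251970 : sm gc N30727 = N32178 := ded_28_0 (flp_d L251960) (flp_c L230324) L200950 L200966 (flp_d L200974) (flp_c L224591) (flp_d L246973) L246969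
theorem L251972 : sm gg N29715 = N32179 := rfl
theorem L251974 : sm ga N32179 = N29718 := ded_12_1 (flp_g L230344) (flp_a L230326) L251972
theorem L251976 : sm gc N32179 = N29716 := ded_21_1 (flp_g L230334) L230324 L251972
theorem L251978 : sm ge N32179 = N31411 := ded_26_1 (flp_g L245321) (flp_e L230328) L251972
theorem L251980 : sm gf N31569 = N32179 := ded_29_0 (flp_g L251972) L230330 L245331 (flp_a L246573)
theorem L251982 : sm ge N29717 = N32180 := rfl
theorem L251984 : sm ga N32180 = N30726 := ded_10_1 (flp_e L251968) L251962 L251982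
theorem L251986 : sm gc N32180 = N30724 := ded_19_1 (flp_e L246975) L246971 L251982
theorem L251988 : sm gg N32180 = N31642 := ded_26_2 L247209 L246965 L251982
theorem L251990 : sm gb N29718 = N32181 := rfl
theorem L251992 : sm gd N32181 = N31641 := ded_14_2 (flp_b L247205) (flp_d L246963) L251990
theorem L251994 : sm ge N32181 = N31770 := ded_15_2 L248365 L245377 L251990
theorem L251996 : sm gf N31640 = N32181 := ded_23_0 L251992 (flp_f L247197) L247191
theorem L251998 : sm gb N29724 = N32182 := rfl
theorem L252000 : sm gd N32182 = N29725 := ded_14_2 (flp_b L230412) (flp_d L230410) L251998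
theorem L252002 : sm ge N32182 = N30090 := ded_15_2 (flp_b L243279) L243275 L251998
theorem L252004 : sm gc N32182 = N30087 := ded_13_2 (flp_b L233611) (flp_c L233577) (flp_b L233585) (flp_c L230408) L251998
theorem L252006 : sm gf N32182 = N30754 := ded_16_2 (flp_b L243201) L243203 (flp_b L243243) L243245 L251998
theorem L252008 : sm gg N32182 = N30858 := ded_17_2 (flp_b L240313) (flp_g L213485) (flp_b L213467) L230404 L251998
theorem L252010 : sm ga N30690 = N32182 := ded_9_3 L252000 L230422 (flp_d L238815)
theorem L252012 : sm ga N29726 = N32183 := rfl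
theorem L252014 : sm gc N32183 = N31148 := ded_8_2 L243007 (flp_c L230430) L252012
theorem L252016 : sm gd N32183 = N29728 := ded_9_2 (flp_a L230440) (flp_d L230426) L252012
theorem L252018 : sm ge N32183 = N30947 := ded_10_2 L241098 (flp_e L230428) L252012
theorem L252020 : sm gf N32183 = N31145 := ded_11_2 (flp_a L246771) L246767 L252012
theorem L252022 : sm gg N32183 = N30946 := ded_12_2 (flp_a L241594) L241592 L252012
theorem L252024 : sm gb N32183 = N30113 := ded_7_2 (flp_a L241196) L241206 L237297 L209441 (flp_a L209457) (flp_b L209465) (flp_a L201123) L230424 L252012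
theorem L252026 : sm gc N29733 = N32184 := rfl
theorem L252028 : sm ga N32184 = N30967 := ded_8_1 (flp_c L241318) L230492 L252026
theorem L252030 : sm gb N32184 = N30434 := ded_13_1 L236581 L208351 (flp_c L201175) L230488 L252026
theorem L252032 : sm gf N29733 = N32185 := rfl
theorem L252034 : sm ga N32185 = N30968 := ded_11_1 (flp_f L241320) L230492 L252032
theorem L252036 : sm gd N32185 = N29734 := ded_23_1 (flp_f L230494) (flp_d L230490) L252032
theorem L252038 : sm ge N32185 = N30993 := ded_25_1 (flp_f L241524) L232496 L252032
theorem L252040 : sm gg N32185 = N30992 := ded_29_3 L241510 L241734 L241740 L252032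
theorem L252042 : sm gb N32185 = N29862 := ded_16_1 (flp_f L231704) L225516 L201179 L230488 L252032
theorem L252044 : sm gg N29739 = N32186 := rfl
theorem L252046 : sm ga N32186 = N31044 := ded_12_1 (flp_g L241990) L230556 L252044
theorem L252048 : sm gc N32186 = N31233 := ded_21_1 L243909 L231306 L252044
theorem L252050 : sm gd N32186 = N29949 := ded_24_1 L232488 (flp_d L230550) L252044
theorem L252052 : sm ge N32186 = N29740 := ded_26_1 (flp_g L230558) (flp_e L230552) L252044
theorem L252054 : sm gf N29831 = N32186 := ded_29_0 (flp_g L252044) L230554 (flp_g L238977) L238979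
theorem L252056 : sm gb N32186 = N29852 := ded_17_1 L231630 L202792 (flp_g L201278) L230548 L252044
theorem L252058 : sm ge N29743 = N32187 := rfl
theorem L252060 : sm gb N32187 = N29837 := ded_15_1 (flp_e L231472) (flp_b L230592) L252058
theorem L252062 : sm gc N32187 = N29744 := ded_19_1 (flp_e L230596) L230586 L252058
theorem L252064 : sm gf N32187 = N29778 := ded_25_2 (flp_e L231000) (flp_f L230588) L252058
theorem L252066 : sm gg N32187 = N30839 := ded_26_2 L240143 (flp_g L230590) L252058
theorem L252068 : sm gd N32187 = N31723 := ded_22_1 L247965 L225925 (flp_e L219958) L230594 L252058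
theorem L252070 : sm gg N29745 = N32188 := rfl
theorem L252072 : sm ga N32188 = N30048 := ded_12_1 (flp_g L233295) (flp_a L230606) L252070
theorem L252074 : sm gc N32188 = N30632 := ded_21_1 L238311 (flp_c L230610) L252070
theorem L252076 : sm gd N32188 = N29894 := ded_24_1 (flp_g L232008) (flp_d L230614) L252070
theorem L252078 : sm ge N32188 = N29746 := ded_26_1 (flp_g L230616) L230604 L252070
theorem L252080 : sm gb N32188 = N30505 := ded_17_1 L237283 L230640 (flp_g L230632) (flp_b L230608) L252070
theorem L252082 : sm gf N29750 = N32189 := rfl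
theorem L252084 : sm ga N32189 = N29752 := ded_11_1 (flp_f L230660) L230650 L252082
theorem L252086 : sm gc N32189 = N29766 := ded_20_1 (flp_f L230749) (flp_c L230652) L252082
theorem L252088 : sm gg N32189 = N29959 := ded_29_3 (flp_a L232582) L232596 L232604 L252082
theorem L252090 : sm gf N29751 = N32190 := rfl
theorem L252092 : sm gc N32190 = N29769 := ded_20_1 (flp_f L230770) (flp_c L230658) L252090
theorem L252094 : sm ge N32190 = N29752 := ded_25_1 (flp_f L230660) L230654 L252090
theorem L252096 : sm gg N32190 = N29960 := ded_29_3 (flp_a L241008) (flp_f L241016) L232993 L252090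
theorem L252098 : sm gb N29752 = N32191 := rfl
theorem L252100 : sm gf N32191 = N29757 := ded_16_2 (flp_b L230688) (flp_f L201366) L201358 L230660 L252098
theorem L252102 : sm gg N32191 = N29967 := ded_17_2 (flp_b L232648) (flp_g L203007) L202995 L230925 L252098
theorem L252104 : sm gf N29754 = N32192 := rfl
theorem L252106 : sm ga N32192 = N30220 := ded_11_1 (flp_f L234719) (flp_a L230670) L252104
theorem L252108 : sm gc N32192 = N31645 := ded_20_1 L247227 (flp_c L230674) L252104
theorem L252110 : sm gd N32192 = N29755 := ded_23_1 (flp_f L230676) L230668 L252104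
theorem L252112 : sm ge N32192 = N30213 := ded_25_1 (flp_f L234671) (flp_e L230672) L252104
theorem L252114 : sm gg N29754 = N32193 := rfl
theorem L252116 : sm ga N32193 = N30221 := ded_12_1 (flp_g L234725) (flp_a L230670) L252114
theorem L252118 : sm gc N32193 = N31723 := ded_21_1 (flp_g L247963) (flp_c L230674) L252114
theorem L252120 : sm gd N32193 = N29756 := ded_24_1 (flp_g L230682) L230668 L252114
theorem L252122 : sm ge N32193 = N30214 := ded_26_1 (flp_g L234679) (flp_e L230672) L252114
theorem L252124 : sm gb N29755 = N32194 := rfl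
theorem L252126 : sm ge N32194 = N29757 := ded_15_2 (flp_b L230688) (flp_e L230680) L252124
theorem L252128 : sm gc N32194 = N31830 := ded_13_2 (flp_b L248852) L226645 L209955 (flp_c L230678) L252124
theorem L252130 : sm gf N29756 = N32195 := rfl
theorem L252132 : sm ga N32195 = N31854 := ded_11_1 L249058 L240714 L252130
theorem L252134 : sm gc N32195 = N29761 := ded_20_1 (flp_f L230712) (flp_c L230684) L252130
theorem L252136 : sm ge N32195 = N29759 := ded_25_1 (flp_f L230692) (flp_e L230686) L252130
theorem L252138 : sm gg N32195 = N30904 := ded_29_3 L240702 (flp_f L230676) L230682 L252130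
theorem L252140 : sm gb N31622 = N32195 := ded_13_5 L252134 L230722 L224961 L224977 L247057
theorem L252142 : sm gc N29757 = N32196 := rfl
theorem L252144 : sm ge N32196 = N31830 := ded_19_2 (flp_c L252128) L252126 L252142
theorem L252146 : sm gb N32196 = N29762 := ded_13_1 (flp_c L230724) (flp_b L201386) (flp_c L201368) L230688 L252142
theorem L252148 : sm gd N31826 = N32196 := ded_22_5 L252144 L248854 L226651 (flp_d L226639) (flp_e L248836)
theorem L252150 : sm ga N29758 = N32197 := rfl
theorem L252152 : sm gg N32197 = N31759 := ded_12_2 L248276 (flp_g L233013) L252150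
theorem L252154 : sm gb N29759 = N32198 := rfl
theorem L252156 : sm gd N32198 = N30906 := ded_14_2 (flp_b L240724) (flp_d L230698) L252154
theorem L252158 : sm ge N32198 = N31622 := ded_15_2 L252140 L252136 L252154
theorem L252160 : sm gc N32198 = N31620 := ded_13_2 (flp_b L247045) L224973 L220332 (flp_c L230696) L252154
theorem L252162 : sm gf N32198 = N31848 := ded_16_2 L249014 L248288 (flp_b L230690) L230692 L252154
theorem L252164 : sm gg N29762 = N32199 := rfl
theorem L252166 : sm gc N32199 = N29763 := ded_21_1 (flp_g L230732) L230724 L252164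
theorem L252168 : sm gd N32199 = N31716 := ded_24_1 L247918 (flp_d L230730) L252164
theorem L252170 : sm ge N32199 = N30549 := ded_26_1 L237655 (flp_e L230726) L252164
theorem L252172 : sm gf N30547 = N32199 := ded_29_0 (flp_g L252164) L230728 L230968 (flp_a L237631)
theorem L252174 : sm gf N29765 = N32200 := rfl
theorem L252176 : sm ga N32200 = N29769 := ded_11_1 (flp_f L230770) (flp_a L230747) L252174
theorem L252178 : sm gd N32200 = N31993 := ded_23_1 L250187 L230932 L252174
theorem L252180 : sm ge N32200 = N29766 := ded_25_1 (flp_f L230749) L230745 L252174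
theorem L252182 : sm gg N32200 = N29973 := ded_29_3 L232701 L223823 (flp_g L230913) L252174
theorem L252184 : sm gb N32200 = N32200 := ded_16_1 (flp_f L252174) (flp_b L230934) L216917 L230934 L252174
theorem L252185 : sm gf N29768 = N32201 := rfl
theorem L252187 : sm ga N32201 = N31993 := ded_11_1 L250187 (flp_a L230948) L252185
theorem L252189 : sm gc N32201 = N31992 := ded_20_1 L250181 L230930 L252185
theorem L252191 : sm gd N32201 = N29769 := ded_23_1 (flp_f L230770) L230762 L252185
theorem L252193 : sm ge N32201 = N31989 := ded_25_1 (flp_f L250153) (flp_e L230768) L252185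
theorem L252195 : sm gg N32201 = N29974 := ded_29_3 L232711 (flp_f L229011) (flp_g L230766) L252185
theorem L252197 : sm gb N29775 = N32202 := rfl
theorem L252199 : sm gd N32202 = N31812 := ded_14_2 L248716 (flp_d L230972) L252197
theorem L252201 : sm ge N32202 = N30240 := ded_15_2 L234883 (flp_e L230974) L252197
theorem L252203 : sm gc N32202 = N32181 := ded_13_2 (flp_b L251990) L230346 (flp_b L201458) (flp_c L230970) L252197
theorem L252205 : sm gg N32202 = N30238 := ded_17_2 L234869 L222880 L217938 L230968 L252197
theorem L252207 : sm gf N29775 = N32203 := rfl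
theorem L252209 : sm ga N32203 = N32199 := ded_11_1 (flp_f L252172) L237631 L252207
theorem L252211 : sm gc N32203 = N29776 := ded_20_1 (flp_f L230976) (flp_c L230970) L252207
theorem L252213 : sm gd N32203 = N31735 := ded_23_1 (flp_f L248071) (flp_d L230972) L252207
theorem L252215 : sm ge N32203 = N30543 := ded_25_1 (flp_f L237597) (flp_e L230974) L252207
theorem L252217 : sm gg N32203 = N30542 := ded_29_3 L237583 L230728 L230968 L252207
theorem L252219 : sm gd N29778 = N32204 := rfl
theorem L252221 : sm gb N32204 = N31205 := ded_14_1 L243623 (flp_b L231002) L252219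
theorem L252223 : sm gf N32204 = N31723 := ded_23_2 (flp_d L252068) L252064 L252219
theorem L252225 : sm ge N32204 = N31725 := ded_22_2 L247983 L225939 L225369 L231000 L252219
theorem L252227 : sm gf N29780 = N32205 := rfl
theorem L252229 : sm ga N32205 = N31912 := ded_11_1 (flp_f L249581) L232975 L252227
theorem L252231 : sm gc N32205 = N29925 := ded_20_1 L232731 L232725 L252227
theorem L252233 : sm gd N32205 = N29782 := ded_23_1 (flp_f L231032) L231014 L252227
theorem L252235 : sm gg N32205 = N29924 := ded_29_3 L232272 (flp_f L227480) (flp_g L231018) L252227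
theorem L252237 : sm gb N32205 = N29790 := ded_31_2 (flp_g L231080) L231076 (flp_b L250667) L250665 (flp_f L229025) (flp_b L229019) L199899 L170304 (flp_b L170630) L203165 L232887 L232895 (flp_g L231018) L252227
theorem L252239 : sm gg N29783 = N32206 := rfl
theorem L252241 : sm ga N32206 = N29793 := ded_12_1 (flp_g L231094) (flp_a L231038) L252239
theorem L252243 : sm ge N32206 = N29785 := ded_26_1 (flp_g L231046) L231036 L252239
theorem L252245 : sm gf N32206 = N31994 := ded_29_2 (flp_g L250196) (flp_a L250953) (flp_f L250957) L252239
theorem L252247 : sm gb N29784 = N32207 := rfl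
theorem L252249 : sm gd N32207 = N29787 := ded_14_2 (flp_b L231060) (flp_d L231044) L252247
theorem L252251 : sm gf N32207 = N29790 := ded_16_2 (flp_b L252237) (flp_f L252227) L231016 L231040 L252247
theorem L252253 : sm ga N32207 = N31104 := ded_7_1 L242598 (flp_a L228044) (flp_b L199255) (flp_a L169639) L201580 (flp_a L228409) (flp_b L228417) (flp_a L231042) L252247
theorem L252255 : sm gc N29795 = N32207 := ded_30_1 (flp_b L252247) L231042 (flp_f L201524) L201516 L201518 (flp_a L227815) L231190 L231186 (flp_b L228762) L228756 (flp_f L199803) L199795 (flp_b L203155) (flp_a L217696) L242578 L242582 L232825 L231048 L231106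
theorem L252257 : sm gg N31114 = N32207 := ded_24_0 L252249 (flp_g L231068) (flp_d L242707)
theorem L252259 : sm gd N29788 = N32208 := rfl
theorem L252261 : sm gb N32208 = N31959 := ded_14_1 (flp_d L249921) (flp_b L231072) L252259
theorem L252263 : sm gf N29788 = N32209 := rfl
theorem L252265 : sm gc N32209 = N29792 := ded_20_1 (flp_f L231090) (flp_c L231074) L252263
theorem L252267 : sm ge N32209 = N29789 := ded_25_1 (flp_f L231076) L231070 L252263
theorem L252269 : sm gg N29788 = N32210 := rfl
theorem L252271 : sm gc N32210 = N29793 := ded_21_1 (flp_g L231094) (flp_c L231074) L252269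
theorem L252273 : sm ge N32210 = N29790 := ded_26_1 (flp_g L231080) L231070 L252269
theorem L252275 : sm gg N29791 = N32211 := rfl
theorem L252277 : sm gc N32211 = N32084 := ded_21_1 L251011 L250933 L252275
theorem L252279 : sm gd N32211 = N29793 := ded_24_1 (flp_g L231094) L231084 L252275
theorem L252281 : sm ge N32211 = N29796 := ded_26_1 (flp_g L231114) (flp_e L231088) L252275
theorem L252283 : sm gf N32211 = N32080 := ded_29_2 (flp_g L250969) (flp_a L250921) L250925 L252275
theorem L252285 : sm gf N29793 = N32212 := rfl
theorem L252287 : sm ga N32212 = N31994 := ded_11_1 (flp_f L252245) L252241 L252285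
theorem L252289 : sm gd N32212 = N32080 := ded_23_1 (flp_f L252283) L252279 L252285
theorem L252291 : sm ge N32212 = N29795 := ded_25_1 (flp_f L231106) (flp_e L231096) L252285
theorem L252293 : sm gg N32212 = N32078 := ded_29_3 L250953 (flp_f L231090) L231094 L252285
theorem L252295 : sm gb N29795 = N32213 := rfl
theorem L252297 : sm gd N32213 = N29800 := ded_14_2 (flp_b L231154) (flp_d L231110) L252295
theorem L252299 : sm gc N32213 = N29914 := ded_13_2 L242709 L242705 L252247 (flp_c L252255) L252295
theorem L252301 : sm gg N32213 = N29914 := ded_17_2 L242709 L252257 (flp_b L252247) (flp_g L231112) L252295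
theorem L252303 : sm ga N32213 = N29917 := ded_7_1 L232214 L249949 (flp_b L249945) L231188 (flp_b L231184) (flp_a L206436) (flp_b L231104) (flp_a L231108) L252295
theorem L252305 : sm gb N29801 = N32214 := rfl
theorem L252307 : sm gd N32214 = N32102 := ded_14_2 (flp_b L251173) L231166 L252305
theorem L252309 : sm ge N32214 = N29804 := ded_15_2 (flp_b L231184) (flp_e L231164) L252305
theorem L252311 : sm gc N32214 = N31957 := ded_13_2 (flp_b L250939) L250933 L231086 L231160 L252305
theorem L252313 : sm gf N31956 = N32214 := ded_23_0 L252307 L251177 (flp_d L249905)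
theorem L252315 : sm ga N31960 = N32214 := ded_10_3 L252309 (flp_a L231188) (flp_e L249933)
theorem L252317 : sm gf N29801 = N32215 := rfl
theorem L252319 : sm ga N32215 = N31995 := ded_11_1 (flp_f L250198) (flp_a L231162) L252317
theorem L252321 : sm gc N32215 = N29802 := ded_20_1 (flp_f L231168) L231160 L252317
theorem L252323 : sm gd N32215 = N31911 := ded_23_1 L249573 L231166 L252317
theorem L252325 : sm ge N32215 = N29805 := ded_25_1 (flp_f L231192) (flp_e L231164) L252317
theorem L252327 : sm gb N31913 = N32215 := ded_7_0 L252319 (flp_b L250204) L232817 L203159 L170648 (flp_b L199872) (flp_a L228938) (flp_b L251146) L251144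
theorem L252329 : sm gb N29802 = N32216 := rfl
theorem L252331 : sm gd N32216 = N29803 := ded_14_2 (flp_b L231176) (flp_d L231172) L252329
theorem L252333 : sm ge N32216 = N29806 := ded_15_2 (flp_b L231196) (flp_e L231174) L252329
theorem L252335 : sm gg N32216 = N31985 := ded_17_2 L250118 (flp_g L230909) (flp_b L249773) L249771 L252329
theorem L252337 : sm gf N29808 = N32217 := rfl
theorem L252339 : sm ga N32217 = N29810 := ded_11_1 (flp_f L231220) L231206 L252337
theorem L252341 : sm gd N32217 = N30332 := ded_23_1 (flp_f L235757) (flp_d L231208) L252337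
theorem L252343 : sm ge N32217 = N29812 := ded_25_1 (flp_f L231234) (flp_e L231210) L252337
theorem L252345 : sm gg N32217 = N30677 := ded_29_3 L238667 (flp_f L238645) (flp_g L231212) L252337
theorem L252347 : sm gb N32217 = N30687 := ded_16_1 L238783 (flp_b L238719) (flp_f L211701) L231214 L252337
theorem L252349 : sm gd N29809 = N32218 := rfl
theorem L252351 : sm ga N32218 = N31811 := ded_9_1 L248710 L247904 L252349
theorem L252353 : sm gb N32218 = N30926 := ded_14_1 L240906 (flp_b L232606) L252349
theorem L252355 : sm gf N32218 = N30927 := ded_23_2 L240914 L232636 L252349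
theorem L252357 : sm gg N32218 = N31809 := ded_24_2 L248698 L245895 L252349
theorem L252359 : sm gf N29811 = N32219 := rfl
theorem L252361 : sm ga N32219 = N29814 := ded_11_1 (flp_f L231248) (flp_a L231230) L252359
theorem L252363 : sm gc N32219 = N29812 := ded_20_1 (flp_f L231234) L231228 L252359
theorem L252365 : sm gd N32219 = N30616 := ded_23_1 (flp_f L238171) L231232 L252359
theorem L252367 : sm gg N31499 = N32219 := ded_29_1 (flp_f L252359) (flp_g L245996) L245992 L246014
theorem L252369 : sm gf N29813 = N32220 := rfl
theorem L252371 : sm ga N32220 = N30616 := ded_11_1 (flp_f L238171) (flp_a L231244) L252369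
theorem L252373 : sm gc N32220 = N30615 := ded_20_1 (flp_f L238163) L231246 L252369
theorem L252375 : sm gd N32220 = N29814 := ded_23_1 (flp_f L231248) L231242 L252369
theorem L252377 : sm gg N29814 = N32221 := rfl
theorem L252379 : sm ga N32221 = N31499 := ded_12_1 L252367 L252361 L252377
theorem L252381 : sm gc N32221 = N29815 := ded_21_1 (flp_g L231252) (flp_c L231250) L252377
theorem L252383 : sm ge N32221 = N31714 := ded_26_1 L247900 L232632 L252377
theorem L252385 : sm gf N31497 = N32221 := ded_29_0 (flp_g L252377) (flp_f L231248) (flp_g L223147) (flp_a L245992)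
theorem L252387 : sm gf N29821 = N32222 := rfl
theorem L252389 : sm ga N32222 = N30845 := ded_11_1 (flp_f L243905) L243907 L252387
theorem L252391 : sm gc N32222 = N30705 := ded_20_1 L241998 L241992 L252387
theorem L252393 : sm gd N32222 = N30337 := ded_23_1 (flp_f L235799) (flp_d L231314) L252387
theorem L252395 : sm ge N32222 = N29824 := ded_25_1 (flp_f L231340) (flp_e L231316) L252387
theorem L252397 : sm gg N32222 = N30843 := ded_29_3 (flp_a L240179) L213339 L231312 L252387
theorem L252399 : sm gb N32222 = N30707 := ded_16_1 L238997 (flp_b L229218) (flp_f L230100) (flp_b L231318) L252387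
theorem L252401 : sm gc N29827 = N32223 := rfl
theorem L252403 : sm ga N32223 = N29828 := ded_8_1 (flp_c L231380) L231372 L252401
theorem L252405 : sm ge N32223 = N30857 := ded_19_2 L240307 (flp_e L231376) L252401
theorem L252407 : sm gf N32223 = N30161 := ded_20_2 (flp_c L234205) (flp_f L231378) L252401
theorem L252409 : sm gb N32223 = N32119 := ded_13_1 (flp_c L251341) (flp_b L233651) (flp_c L234399) L234405 L252401
theorem L252411 : sm gg N29828 = N32224 := rfl
theorem L252413 : sm gc N32224 = N29829 := ded_21_1 (flp_g L231388) L231380 L252411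
theorem L252415 : sm ge N32224 = N30860 := ded_26_1 (flp_g L240331) (flp_e L231382) L252411
theorem L252417 : sm gc N29833 = N32225 := rfl
theorem L252419 : sm ga N32225 = N30695 := ded_8_1 L238863 (flp_a L231428) L252417
theorem L252421 : sm ge N32225 = N30692 := ded_19_2 (flp_c L238833) (flp_e L231434) L252417
theorem L252423 : sm gf N32225 = N30944 := ded_20_2 (flp_c L241074) (flp_f L231432) L252417
theorem L252425 : sm ge N29834 = N32226 := rfl
theorem L252427 : sm ga N32226 = N29837 := ded_10_1 (flp_e L231472) (flp_a L231438) L252425
theorem L252429 : sm gc N32226 = N29835 := ded_19_1 (flp_e L231446) L231436 L252425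
theorem L252431 : sm gf N32226 = N29869 := ded_25_2 (flp_e L231768) (flp_f L231440) L252425
theorem L252433 : sm gg N32226 = N31289 := ded_26_2 (flp_e L244385) (flp_g L231442) L252425
theorem L252435 : sm gd N32226 = N31505 := ded_22_1 L246056 L246086 (flp_e L246096) L231444 L252425
theorem L252437 : sm gd N29837 = N32227 := rfl
theorem L252439 : sm ga N32227 = N31505 := ded_9_1 (flp_d L252435) L252427 L252437
theorem L252441 : sm gb N32227 = N31723 := ded_14_1 (flp_d L252068) L252060 L252437
theorem L252443 : sm gf N32227 = N29876 := ded_23_2 (flp_d L231834) (flp_f L231476) L252437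
theorem L252445 : sm ge N32227 = N31507 := ded_22_2 (flp_d L246082) L231470 (flp_d L231458) L231472 L252437
theorem L252447 : sm gc N31151 = N32227 := ded_28_0 (flp_d L252437) L231474 L201856 (flp_c L206667) (flp_d L218596) L218594 (flp_d L223235) (flp_a L243029)
theorem L252449 : sm gg N31150 = N32227 := ded_12_0 L252439 L246060 L243283
theorem L252451 : sm gg N29837 = N32228 := rfl
theorem L252453 : sm ga N32228 = N31289 := ded_12_1 (flp_g L252433) L252427 L252451
theorem L252455 : sm gc N32228 = N29839 := ded_21_1 (flp_g L231490) (flp_c L231474) L252451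
theorem L252457 : sm gd N32228 = N31150 := ded_24_1 L252449 (flp_d L252437) L252451
theorem L252459 : sm ge N32228 = N29838 := ded_26_1 (flp_g L231478) L231472 L252451
theorem L252461 : sm gf N32130 = N32228 := ded_29_0 (flp_g L252451) L231476 L231836 (flp_a L251455)
theorem L252463 : sm gb N32228 = N31222 := ded_17_1 L243783 (flp_b L240147) (flp_g L252066) L252060 L252451
theorem L252465 : sm gb N29842 = N32229 := rfl
theorem L252467 : sm ge N32229 = N31445 := ded_15_2 (flp_b L245611) (flp_e L231524) L252465
theorem L252469 : sm gg N32229 = N31447 := ded_17_2 (flp_b L245623) (flp_g L222409) (flp_b L220248) (flp_g L231526) L252465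
theorem L252471 : sm gd N29843 = N32230 := rfl
theorem L252473 : sm ga N32230 = N29844 := ded_9_1 (flp_d L231539) (flp_a L231530) L252471
theorem L252475 : sm gb N32230 = N30969 := ded_14_1 (flp_d L241326) (flp_b L231537) L252471
theorem L252477 : sm gf N32230 = N32230 := ded_23_2 (flp_d L252471) L231534 L252471
theorem L252478 : sm gg N32230 = N29858 := ded_24_2 (flp_d L231666) (flp_g L231535) L252471
theorem L252480 : sm ge N32230 = N31095 := ded_22_2 L242516 L217604 (flp_d L206737) (flp_e L231532) L252471
theorem L252482 : sm gc N31838 = N32230 := ded_28_0 (flp_d L252471) (flp_c L231528) L204972 L204969 (flp_d L198456) (flp_c L226795) (flp_d L242775) (flp_a L248920)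
theorem L252484 : sm gc N29850 = N32231 := rfl
theorem L252486 : sm ga N32231 = N29851 := ded_8_1 (flp_c L231612) (flp_a L231602) L252484
theorem L252488 : sm ge N32231 = N30021 := ded_19_2 L233113 (flp_e L231610) L252484
theorem L252490 : sm gf N32231 = N29860 := ded_20_2 (flp_c L231684) (flp_f L231606) L252484
theorem L252492 : sm gg N32231 = N30020 := ded_21_2 L233105 (flp_g L231608) L252484
theorem L252494 : sm gb N32231 = N31560 := ded_13_1 L246517 (flp_b L242616) L242608 (flp_b L231604) L252484
theorem L252496 : sm gd N32231 = N31737 := ded_28_7 (flp_a L248079) L248089 L248097 (flp_c L231586) L201914 L201936 L231600 L252484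
theorem L252498 : sm gb N29855 = N32232 := rfl
theorem L252500 : sm ge N32232 = N30027 := ded_15_2 (flp_b L239967) L239965 L252498
theorem L252502 : sm gc N32232 = N30037 := ded_13_2 (flp_b L240001) L240003 L213187 L231646 L252498
theorem L252504 : sm ga N30029 = N32232 := ded_10_3 L252500 (flp_a L233153) L233167
theorem L252506 : sm ge N29858 = N32233 := rfl
theorem L252508 : sm ga N32233 = N30788 := ded_10_1 L239739 (flp_a L231668) L252506
theorem L252510 : sm gb N32233 = N29897 := ded_15_1 L232046 (flp_b L231670) L252506
theorem L252512 : sm gf N32233 = N30788 := ded_25_2 L239739 (flp_f L231672) L252506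
theorem L252514 : sm gg N32233 = N31095 := ded_26_2 (flp_e L252480) L252478 L252506
theorem L252516 : sm gd N32233 = N30341 := ded_22_1 (flp_e L235838) (flp_d L206821) (flp_e L202016) L231666 L252506
theorem L252518 : sm ge N29859 = N32234 := rfl
theorem L252520 : sm ga N32234 = N30539 := ded_10_1 L237563 (flp_a L231676) L252518
theorem L252522 : sm gb N32234 = N29861 := ded_15_1 (flp_e L231690) (flp_b L231678) L252518
theorem L252524 : sm gc N32234 = N30198 := ded_19_1 L234535 L231682 L252518
theorem L252526 : sm gf N32234 = N30197 := ded_25_2 L234523 (flp_f L231680) L252518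
theorem L252528 : sm gg N32234 = N30989 := ded_26_2 L241486 L237735 L252518
theorem L252530 : sm gd N32234 = N30022 := ded_22_1 L233121 L205538 (flp_e L202020) L231674 L252518
theorem L252532 : sm gb N29860 = N32235 := rfl
theorem L252534 : sm gd N32235 = N32232 := ded_14_2 (flp_b L252498) L231688 L252532
theorem L252536 : sm gc N32235 = N30540 := ded_13_2 (flp_b L237567) L231682 L231678 L231684 L252532
theorem L252538 : sm ga N32235 = N31592 := ded_30_3 (flp_f L247317) (flp_c L247321) (flp_b L247618) (flp_a L247606) L225526 (flp_c L230124) (flp_b L238929) (flp_a L238917) (flp_f L238913) L238911 L231348 L231342 (flp_f L231328) L231324 L230562 (flp_a L231602) L231606 L231684 L252532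
theorem L252540 : sm ge N29860 = N32236 := rfl
theorem L252542 : sm ga N32236 = N29865 := ded_10_1 (flp_e L231732) (flp_a L231686) L252540
theorem L252544 : sm gc N32236 = N29861 := ded_19_1 (flp_e L231690) L231684 L252540
theorem L252546 : sm gf N32236 = N30021 := ded_25_2 (flp_e L252488) L252490 L252540
theorem L252548 : sm gd N32236 = N31186 := ded_22_1 L243451 (flp_d L239969) L239965 L231688 L252540
theorem L252550 : sm gg N31192 = N32236 := ded_12_0 L252542 (flp_g L231742) L243507
theorem L252552 : sm gg N29860 = N32237 := rfl
theorem L252554 : sm ga N32237 = N29866 := ded_12_1 (flp_g L231744) (flp_a L231686) L252552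
theorem L252556 : sm gc N32237 = N29862 := ded_21_1 (flp_g L231698) L231684 L252552
theorem L252558 : sm gd N32237 = N31660 := ded_24_1 L247365 L231688 L252552
theorem L252560 : sm ge N32237 = N31192 := ded_26_1 L252550 (flp_e L252540) L252552
theorem L252562 : sm gf N31684 = N32237 := ded_29_0 (flp_g L252552) (flp_f L252490) L252492 (flp_a L247598)
theorem L252564 : sm ga N29868 = N32238 := rfl
theorem L252566 : sm gc N32238 = N31733 := ded_8_2 L248055 L240625 L252564
theorem L252568 : sm gd N32238 = N32033 := ded_9_2 (flp_a L250550) (flp_d L231766) L252564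
theorem L252570 : sm gf N32238 = N31370 := ded_29_0 L244981 L247735 (flp_g L247743) L252564
theorem L252572 : sm gb N32238 = N30748 := ded_7_2 L239353 (flp_b L246028) L246020 L241946 (flp_a L231774) (flp_b L202078) (flp_a L202068) L231764 L252564
theorem L252574 : sm ge N29868 = N32239 := rfl
theorem L252576 : sm gb N32239 = N29869 := ded_15_1 (flp_e L231768) L231764 L252574
theorem L252578 : sm gf N29868 = N32240 := rfl
theorem L252580 : sm ga N32240 = N31370 := ded_11_1 (flp_f L252570) (flp_a L252564) L252578
theorem L252582 : sm gc N32240 = N30835 := ded_20_1 (flp_f L240627) L240625 L252578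
theorem L252584 : sm gd N32240 = N32035 := ded_23_1 (flp_f L250566) (flp_d L231766) L252578
theorem L252586 : sm gg N32240 = N30023 := ded_29_3 (flp_a L233133) L247735 (flp_g L247743) L252578
theorem L252588 : sm ge N29870 = N32241 := rfl
theorem L252590 : sm ga N32241 = N29872 := ded_10_1 (flp_e L231788) L231774 L252588
theorem L252592 : sm gb N32241 = N29876 := ded_15_1 (flp_e L241944) L241946 L252588
theorem L252594 : sm gc N32241 = N31184 := ded_19_1 (flp_e L247753) (flp_c L247755) L252588
theorem L252596 : sm gf N32241 = N31205 := ded_25_2 (flp_e L243625) (flp_f L243559) L252588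
theorem L252598 : sm gg N32241 = N30976 := ded_26_2 (flp_e L241398) L231776 L252588
theorem L252600 : sm gd N32241 = N29872 := ded_22_1 (flp_e L231788) L231778 (flp_e L241354) L241352 L252588
theorem L252602 : sm gc N29878 = N32242 := rfl
theorem L252604 : sm ge N32242 = N30460 := ded_19_2 (flp_c L241904) L241908 L252602
theorem L252606 : sm gf N32242 = N31215 := ded_20_2 L243719 L231848 L252602
theorem L252608 : sm gg N32242 = N30459 := ded_21_2 L236831 (flp_g L231846) L252602
theorem L252610 : sm gb N32242 = N29880 := ded_13_1 (flp_c L231862) (flp_b L202100) (flp_c L202092) L231842 L252602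
theorem L252612 : sm gd N32242 = N30575 := ded_28_7 (flp_a L244207) L244209 L220320 L191289 (flp_d L190969) (flp_c L219862) (flp_d L231844) L252602
theorem L252614 : sm gc N29879 = N32243 := rfl
theorem L252616 : sm ga N32243 = N29880 := ded_8_1 (flp_c L231862) L231850 L252614
theorem L252618 : sm ge N32243 = N30036 := ded_19_2 L233217 (flp_e L231854) L252614
theorem L252620 : sm gf N32243 = N30034 := ded_20_2 L233201 (flp_f L231858) L252614
theorem L252622 : sm gg N32243 = N31083 := ded_21_2 (flp_c L242380) (flp_g L231856) L252614
theorem L252624 : sm gd N29880 = N32244 := rfl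
theorem L252626 : sm gb N32244 = N30575 := ded_14_1 (flp_d L252612) L252610 L252624
theorem L252628 : sm gg N32244 = N31620 := ded_24_2 L247047 (flp_g L233197) L252624
theorem L252630 : sm ge N32244 = N30576 := ded_22_2 L237911 (flp_e L236847) L236845 L233209 L252624
theorem L252632 : sm gf N29880 = N32245 := rfl
theorem L252634 : sm ga N32245 = N30034 := ded_11_1 (flp_f L252620) L252616 L252632
theorem L252636 : sm gc N32245 = N29881 := ded_20_1 (flp_f L231864) L231862 L252632
theorem L252638 : sm ge N32245 = N30026 := ded_25_1 L233211 L233209 L252632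
theorem L252640 : sm gg N32245 = N30024 := ded_29_3 L233137 L233191 (flp_g L233197) L252632
theorem L252642 : sm gd N29890 = N32246 := rfl
theorem L252644 : sm ga N32246 = N29891 := ded_9_1 (flp_d L231982) (flp_a L231974) L252642
theorem L252646 : sm gb N32246 = N31379 := ded_14_1 L245063 (flp_b L231980) L252642
theorem L252648 : sm gf N32246 = N32188 := ded_23_2 L252076 (flp_f L232016) L252642
theorem L252650 : sm gg N32246 = N29892 := ded_24_2 (flp_d L231988) (flp_g L231978) L252642
theorem L252652 : sm ge N32246 = N30050 := ded_22_2 L233319 L203531 (flp_d L207571) (flp_e L231976) L252642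
theorem L252654 : sm gc N29891 = N32247 := rfl
theorem L252656 : sm ge N32247 = N30807 := ded_19_2 L239899 L233331 L252654
theorem L252658 : sm gf N32247 = N31604 := ded_20_2 L246891 L233301 L252654
theorem L252660 : sm gg N32247 = N29893 := ded_21_2 (flp_c L231998) (flp_g L231986) L252654
theorem L252662 : sm gb N32247 = N30776 := ded_13_1 L244674 (flp_b L244668) L221151 (flp_b L231984) L252654
theorem L252664 : sm gd N32247 = N30777 := ded_28_7 L239627 (flp_c L232050) (flp_d L202354) (flp_c L170190) (flp_d L170146) L202264 L231982 L252654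
theorem L252666 : sm gc N29896 = N32248 := rfl
theorem L252668 : sm ga N32248 = N29897 := ded_8_1 (flp_c L232044) (flp_a L232034) L252666
theorem L252670 : sm ge N32248 = N30552 := ded_19_2 L237677 (flp_e L232042) L252666
theorem L252672 : sm gf N32248 = N30101 := ded_20_2 (flp_c L233727) (flp_f L232038) L252666
theorem L252674 : sm gg N32248 = N32128 := ded_21_2 L251435 (flp_g L232040) L252666
theorem L252676 : sm gb N32248 = N32159 := ded_13_1 L251784 (flp_b L239869) L213017 (flp_b L232036) L252666
theorem L252678 : sm gd N32248 = N31118 := ded_28_7 L242739 L241720 L231936 (flp_c L231928) L202234 L202316 L232032 L252666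
theorem L252680 : sm gd N29898 = N32249 := rfl
theorem L252682 : sm ga N32249 = N32247 := ded_9_1 L252664 L239627 L252680
theorem L252684 : sm gb N32249 = N30867 := ded_14_1 L240407 (flp_b L232058) L252680
theorem L252686 : sm gf N32249 = N30632 := ded_23_2 (flp_d L238307) (flp_f L232054) L252680
theorem L252688 : sm gg N32249 = N29899 := ded_24_2 (flp_d L232060) (flp_g L232056) L252680
theorem L252690 : sm ge N32249 = N30809 := ded_22_2 L239923 L213147 (flp_d L214505) (flp_e L232052) L252680
theorem L252692 : sm gc N32246 = N32249 := ded_28_0 (flp_d L252680) (flp_c L232050) (flp_d L202354) (flp_c L170190) (flp_d L170146) L202264 L231982 (flp_a L252644)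
theorem L252694 : sm gg N29902 = N32250 := rfl
theorem L252696 : sm ga N32250 = N32146 := ded_12_1 L251628 L235348 L252694
theorem L252698 : sm gc N32250 = N29905 := ded_21_1 (flp_g L232104) L232084 L252694
theorem L252700 : sm gd N32250 = N30719 := ded_24_1 L239105 (flp_d L235344) L252694
theorem L252702 : sm ge N32250 = N32122 := ded_26_1 L251367 L247628 L252694
theorem L252704 : sm gf N30862 = N32250 := ded_29_0 (flp_g L252694) (flp_f L240642) (flp_g L247567) L247563
theorem L252706 : sm gb N29904 = N32251 := rfl
theorem L252708 : sm gd N32251 = N29906 := ded_14_2 (flp_b L232114) (flp_d L232098) L252706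
theorem L252710 : sm ge N32251 = N32160 := ded_15_2 (flp_b L251792) (flp_e L232100) L252706
theorem L252712 : sm gc N32251 = N32251 := ded_13_2 (flp_b L252706) (flp_c L240644) L240641 L240644 L252706
theorem L252713 : sm gf N32251 = N29911 := ded_16_2 (flp_b L232160) (flp_f L202468) (flp_b L202442) L232096 L252706
theorem L252715 : sm gg N32251 = N29952 := ded_17_2 (flp_b L232514) L202886 (flp_b L230022) (flp_g L232102) L252706
theorem L252717 : sm ga N32251 = N32251 := ded_7_1 (flp_b L252706) L242570 (flp_b L242562) L217670 L188285 (flp_a L217670) L242562 (flp_a L242570) L252706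
theorem L252718 : sm gg N29908 = N32252 := rfl
theorem L252720 : sm ga N32252 = N31734 := ded_12_1 (flp_g L248940) L248935 L252718
theorem L252722 : sm ge N32252 = N31732 := ded_26_1 L248049 (flp_e L232137) L252718
theorem L252724 : sm gf N31734 = N32252 := ded_29_0 (flp_g L252718) L232139 L252718 L252720
theorem L252726 : sm gb N31730 = N32252 := ded_15_3 L252722 (flp_b L248041) (flp_e L248031)
theorem L252728 : sm gb N29910 = N32253 := rfl
theorem L252730 : sm ge N32253 = N30895 := ded_15_2 (flp_b L240623) (flp_e L232156) L252728
theorem L252732 : sm gc N32253 = N32239 := ded_13_2 L252576 L231772 L202486 (flp_c L232154) L252728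
theorem L252734 : sm gg N32253 = N31730 := ded_17_2 L252726 (flp_g L252718) (flp_b L232135) L232150 L252728
theorem L252736 : sm ge N29914 = N32254 := rfl
theorem L252738 : sm ga N32254 = N29918 := ded_10_1 (flp_e L232220) (flp_a L232192) L252736
theorem L252740 : sm gf N29914 = N32255 := rfl
theorem L252742 : sm ga N32255 = N29919 := ded_11_1 (flp_f L232224) (flp_a L232192) L252740
theorem L252744 : sm gd N32255 = N29916 := ded_23_1 (flp_f L232200) L232190 L252740
theorem L252746 : sm gg N32175 = N32255 := ded_29_1 (flp_f L252740) (flp_g L252301) L252303 (flp_f L251942)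
theorem L252748 : sm gb N32255 = N31143 := ded_16_1 (flp_f L242961) L218112 L242701 (flp_b L242709) L252740
theorem L252750 : sm ge N29917 = N32256 := rfl
theorem L252752 : sm gb N32256 = N32059 := ded_15_1 (flp_e L250783) (flp_b L232214) L252750
theorem L252754 : sm gc N32256 = N29918 := ded_19_1 (flp_e L232220) L232212 L252750
theorem L252756 : sm gg N32256 = N29918 := ded_26_2 (flp_e L232220) L232218 L252750
theorem L252758 : sm gd N32256 = N31933 := ded_22_1 (flp_e L249729) (flp_d L230240) (flp_e L230956) L232216 L252750
theorem L252760 : sm gd N29918 = N32257 := rfl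
theorem L252762 : sm gb N32257 = N29923 := ded_14_1 (flp_d L232262) (flp_b L232222) L252760
theorem L252764 : sm gg N32257 = N31933 := ded_24_2 (flp_d L252758) L252756 L252760
theorem L252766 : sm ge N32257 = N29920 := ded_22_2 (flp_d L232230) (flp_e L202557) L202553 L232220 L252760
theorem L252768 : sm gc N31935 = N32257 := ded_28_0 (flp_d L252760) (flp_c L252754) L252758 L249731 (flp_d L228854) L251055 (flp_d L251065) (flp_a L249741)
theorem L252770 : sm gf N29918 = N32258 := rfl
theorem L252772 : sm ge N32258 = N29919 := ded_25_1 (flp_f L232224) L232220 L252770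
theorem L252774 : sm gb N32258 = N29993 := ded_16_1 (flp_f L232873) L203159 (flp_f L202575) (flp_b L232222) L252770
theorem L252776 : sm gg N29919 = N32259 := rfl
theorem L252778 : sm ga N32259 = N32175 := ded_12_1 L252746 L252742 L252776
theorem L252780 : sm gc N32259 = N32255 := ded_21_1 (flp_g L252746) L251940 L252776
theorem L252782 : sm gd N32259 = N29922 := ded_24_1 (flp_g L232250) (flp_d L232226) L252776
theorem L252784 : sm gf N32213 = N32259 := ded_29_0 (flp_g L252776) (flp_f L232224) L232218 (flp_a L252303)
theorem L252786 : sm gb N32259 = N32171 := ded_17_1 L251898 L251828 (flp_g L232881) (flp_b L232228) L252776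
theorem L252788 : sm gc N29923 = N32260 := rfl
theorem L252790 : sm ga N32260 = N31911 := ded_8_1 L249571 (flp_a L232264) L252788
theorem L252792 : sm ge N32260 = N29924 := ded_19_2 (flp_c L232270) (flp_e L232268) L252788
theorem L252794 : sm gf N32260 = N30001 := ded_20_2 (flp_c L232939) (flp_f L232266) L252788
theorem L252796 : sm gb N32260 = N31961 := ded_13_1 L249939 (flp_b L249745) L252768 L252762 L252788
theorem L252798 : sm gd N32260 = N31995 := ded_28_7 (flp_a L252319) L252321 L231172 L201576 (flp_d L199660) (flp_c L202573) L232262 L252788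
theorem L252800 : sm gd N29927 = N32261 := rfl
theorem L252802 : sm gb N32261 = N29935 := ded_14_1 (flp_d L232356) (flp_b L232294) L252800
theorem L252804 : sm gf N29929 = N32262 := rfl
theorem L252806 : sm ga N32262 = N29931 := ded_11_1 (flp_f L232324) L232306 L252804
theorem L252808 : sm gc N32262 = N31372 := ded_20_1 (flp_f L244997) L232314 L252804
theorem L252810 : sm gd N32262 = N30359 := ded_23_1 (flp_f L236009) (flp_d L232308) L252804
theorem L252812 : sm ge N32262 = N29934 := ded_25_1 (flp_f L232348) (flp_e L232310) L252804
theorem L252814 : sm gg N32262 = N31175 := ded_29_3 (flp_a L245033) (flp_f L245031) (flp_g L232312) L252804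
theorem L252816 : sm gd N29933 = N32263 := rfl
theorem L252818 : sm ga N32263 = N29935 := ded_9_1 (flp_d L232356) (flp_a L232340) L252816
theorem L252820 : sm gb N32263 = N31371 := ded_14_1 L244991 L232346 L252816
theorem L252822 : sm gg N32263 = N31373 := ded_24_2 L245003 (flp_g L232344) L252816
theorem L252824 : sm ge N32263 = N30773 := ded_22_2 (flp_d L244649) L244651 (flp_d L221466) (flp_e L232342) L252816
theorem L252826 : sm gc N30774 = N32263 := ded_28_0 (flp_d L252816) (flp_c L232338) L202597 L202613 (flp_d L202621) (flp_c L224479) (flp_d L246877) L246873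
theorem L252828 : sm gf N29933 = N32264 := rfl
theorem L252830 : sm ga N32264 = N29936 := ded_11_1 (flp_f L232358) (flp_a L232340) L252828
theorem L252832 : sm gc N32264 = N29934 := ded_20_1 (flp_f L232348) L232338 L252828
theorem L252834 : sm ge N32264 = N31372 := ded_25_1 (flp_f L244997) (flp_e L232342) L252828
theorem L252836 : sm gg N32264 = N31589 := ded_29_3 L246739 (flp_f L245007) (flp_g L232344) L252828
theorem L252838 : sm ge N29935 = N32265 := rfl
theorem L252840 : sm ga N32265 = N30773 := ded_10_1 (flp_e L252824) L252818 L252838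
theorem L252842 : sm gc N32265 = N30771 := ded_19_1 (flp_e L246879) L246875 L252838
theorem L252844 : sm gf N32265 = N31647 := ded_25_2 L247243 L246869 L252838
theorem L252846 : sm gb N29936 = N32266 := rfl
theorem L252848 : sm gd N32266 = N31646 := ded_14_2 (flp_b L247239) (flp_d L246867) L252846
theorem L252850 : sm ge N32266 = N31724 := ded_15_2 L247975 L245053 L252846
theorem L252852 : sm ga N32204 = N32266 := ded_9_3 L252848 L247233 L252219
theorem L252854 : sm gg N31645 = N32266 := ded_24_0 L252848 (flp_g L247231) L247225
theorem L252856 : sm gb N29942 = N32267 := rfl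
theorem L252858 : sm gd N32267 = N29943 := ded_14_2 (flp_b L232426) (flp_d L232424) L252856
theorem L252860 : sm ge N32267 = N30183 := ded_15_2 (flp_b L243153) L243149 L252856
theorem L252862 : sm gc N32267 = N30180 := ded_13_2 (flp_b L234359) (flp_c L234321) L234329 (flp_c L232422) L252856
theorem L252864 : sm gf N32267 = N30800 := ded_16_2 (flp_b L239831) L212983 (flp_b L212965) L232418 L252856
theorem L252866 : sm gg N32267 = N30691 := ded_17_2 (flp_b L243075) L243079 (flp_b L243117) L243121 L252856
theorem L252868 : sm ga N30682 = N32267 := ded_9_3 L252858 (flp_a L232436) (flp_d L238721)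
theorem L252870 : sm ga N29944 = N32268 := rfl
theorem L252872 : sm gc N32268 = N31144 := ded_8_2 L242973 (flp_c L232444) L252870
theorem L252874 : sm gd N32268 = N29946 := ded_9_2 (flp_a L232454) (flp_d L232440) L252870
theorem L252876 : sm ge N32268 = N30943 := ded_10_2 L241064 (flp_e L232442) L252870
theorem L252878 : sm gf N32268 = N30942 := ded_11_2 (flp_a L241812) L241808 L252870
theorem L252880 : sm gg N32268 = N31149 := ded_12_2 (flp_a L246757) L246755 L252870
theorem L252882 : sm gb N32268 = N30019 := ded_7_2 (flp_a L241168) L241178 L237338 L209513 (flp_a L209529) L209535 (flp_a L202770) L232438 L252870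
theorem L252884 : sm gc N29950 = N32269 := rfl
theorem L252886 : sm ga N32269 = N30970 := ded_8_1 (flp_c L241332) L232498 L252884
theorem L252888 : sm ge N32269 = N32184 := ded_19_2 (flp_c L252026) (flp_e L232496) L252884
theorem L252890 : sm gb N32269 = N30422 := ded_13_1 L236496 L208199 (flp_c L202816) L232492 L252884
theorem L252892 : sm gd N32269 = N32184 := ded_28_7 L252028 (flp_c L241318) (flp_d L215919) (flp_c L186385) (flp_d L186341) (flp_c L202828) (flp_d L232494) L252884
theorem L252894 : sm gf N29962 = N32270 := rfl
theorem L252896 : sm ga N32270 = N30238 := ded_11_1 (flp_f L234865) (flp_a L232610) L252894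
theorem L252898 : sm gc N32270 = N31768 := ded_20_1 (flp_f L248341) (flp_c L232614) L252894
theorem L252900 : sm gd N32270 = N29963 := ded_23_1 (flp_f L232616) L232608 L252894
theorem L252902 : sm ge N32270 = N30231 := ded_25_1 (flp_f L234817) (flp_e L232612) L252894
theorem L252904 : sm gb N32270 = N32220 := ded_16_1 (flp_f L252369) L240845 (flp_f L241002) L240998 L252894
theorem L252906 : sm gg N29962 = N32271 := rfl
theorem L252908 : sm ga N32271 = N30239 := ded_12_1 (flp_g L234871) (flp_a L232610) L252906
theorem L252910 : sm gc N32271 = N31640 := ded_21_1 L247193 (flp_c L232614) L252906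
theorem L252912 : sm gd N32271 = N29964 := ded_24_1 (flp_g L232624) L232608 L252906
theorem L252914 : sm ge N32271 = N30232 := ded_26_1 (flp_g L234825) (flp_e L232612) L252906
theorem L252916 : sm gf N32271 = N32202 := ded_29_2 L252205 (flp_a L252896) (flp_f L252894) L252906
theorem L252918 : sm gg N29963 = N32272 := rfl
theorem L252920 : sm ga N32272 = N31812 := ded_12_1 L248722 L240932 L252918
theorem L252922 : sm gc N32272 = N29968 := ded_21_1 (flp_g L232650) (flp_c L232618) L252918
theorem L252924 : sm ge N32272 = N29966 := ded_26_1 (flp_g L232638) (flp_e L232620) L252918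
theorem L252926 : sm gf N30930 = N32272 := ded_29_0 (flp_g L252918) (flp_f L232616) L232624 (flp_a L240944)
theorem L252928 : sm gb N31631 = N32272 := ded_13_5 L252922 L232658 L225069 L225085 L247124
theorem L252930 : sm gb N29964 = N32273 := rfl
theorem L252932 : sm ge N32273 = N29967 := ded_15_2 (flp_b L232648) (flp_e L232628) L252930
theorem L252934 : sm gc N32273 = N31872 := ded_13_2 (flp_b L249204) L227070 L209753 (flp_c L232626) L252930
theorem L252936 : sm ga N29965 = N32274 := rfl
theorem L252938 : sm gc N32274 = N32217 := ded_8_2 L252339 (flp_c L232634) L252936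
theorem L252940 : sm ge N32274 = N32219 := ded_10_2 L252361 (flp_e L232632) L252936
theorem L252942 : sm gf N32274 = N31715 := ded_11_2 L247904 (flp_f L232636) L252936
theorem L252944 : sm gb N32274 = N32197 := ded_7_2 (flp_a L252150) (flp_b L230690) (flp_a L213905) L213911 (flp_a L222765) (flp_b L214210) L214204 L232630 L252936
theorem L252946 : sm gb N29966 = N32275 := rfl
theorem L252948 : sm gd N32275 = N30931 := ded_14_2 (flp_b L240954) (flp_d L232644) L252946
theorem L252950 : sm ge N32275 = N31631 := ded_15_2 L252928 L252924 L252946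
theorem L252952 : sm gc N32275 = N31629 := ded_13_2 (flp_b L247112) L225081 L220762 (flp_c L232642) L252946
theorem L252954 : sm gg N32275 = N31806 := ded_17_2 L248676 L247900 (flp_b L232630) L232638 L252946
theorem L252956 : sm gc N29967 = N32276 := rfl
theorem L252958 : sm ge N32276 = N31872 := ded_19_2 (flp_c L252934) L252932 L252956
theorem L252960 : sm gb N32276 = N29970 := ded_13_1 (flp_c L232672) (flp_b L203029) (flp_c L203009) L232648 L252956
theorem L252962 : sm gd N31868 = N32276 := ded_22_5 L252958 L249206 L227076 (flp_d L227064) (flp_e L249182)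
theorem L252964 : sm gf N29970 = N32277 := rfl
theorem L252966 : sm gc N32277 = N29971 := ded_20_1 (flp_f L232680) L232672 L252964
theorem L252968 : sm gd N32277 = N31761 := ded_23_1 (flp_f L248296) (flp_d L232678) L252964
theorem L252970 : sm ge N32277 = N30532 := ded_25_1 (flp_f L237509) (flp_e L232674) L252964
theorem L252972 : sm gg N32277 = N30530 := ded_29_3 L237485 (flp_f L232747) (flp_g L232676) L252964
theorem L252974 : sm gb N29977 = N32278 := rfl
theorem L252976 : sm gd N32278 = N31854 := ded_14_2 L249054 (flp_d L232751) L252974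
theorem L252978 : sm ge N32278 = N30223 := ded_15_2 L234745 (flp_e L232753) L252974
theorem L252980 : sm gc N32278 = N32266 := ded_13_2 (flp_b L252846) L232360 (flp_b L203095) (flp_c L232749) L252974
theorem L252982 : sm gf N32278 = N30221 := ded_16_2 L234729 (flp_f L222876) L218084 L232747 L252974
theorem L252984 : sm gg N32192 = N32278 := ded_24_0 L252976 L249060 (flp_d L252110)
theorem L252986 : sm gg N29977 = N32279 := rfl
theorem L252988 : sm ga N32279 = N32277 := ded_12_1 L252972 L237485 L252986
theorem L252990 : sm gc N32279 = N29978 := ded_21_1 (flp_g L232755) (flp_c L232749) L252986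
theorem L252992 : sm gd N32279 = N31779 := ded_24_1 L248439 (flp_d L232751) L252986
theorem L252994 : sm ge N32279 = N30526 := ded_26_1 L237451 (flp_e L232753) L252986
theorem L252996 : sm gf N30525 = N32279 := ded_29_0 (flp_g L252986) (flp_f L232747) (flp_g L232676) (flp_a L237437)
theorem L252998 : sm gd N29979 = N32280 := rfl
theorem L253000 : sm ga N32280 = N32181 := ded_9_1 L251992 L247199 L252998
theorem L253002 : sm gb N32280 = N31212 := ded_14_1 L243691 (flp_b L232769) L252998
theorem L253004 : sm gg N32280 = N31768 := ded_24_2 (flp_d L251401) L251399 L252998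
theorem L253006 : sm ge N32280 = N31769 := ded_22_2 L248349 L226201 L225423 L232767 L252998
theorem L253008 : sm gf N29984 = N32281 := rfl
theorem L253010 : sm ga N32281 = N29993 := ded_11_1 (flp_f L232873) (flp_a L232817) L253008
theorem L253012 : sm ge N32281 = N29985 := ded_25_1 (flp_f L232819) L232815 L253008
theorem L253014 : sm gg N32102 = N32281 := ded_29_1 (flp_f L253008) L249927 L249923 (flp_f L251177)
theorem L253016 : sm gb N32281 = N32206 := ded_16_1 L252245 (flp_b L250192) L250198 (flp_b L250204) L253008
theorem L253018 : sm gb N29986 = N32282 := rfl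
theorem L253020 : sm gd N32282 = N29988 := ded_14_2 (flp_b L232843) (flp_d L232831) L253018
theorem L253022 : sm ge N32282 = N32208 := ded_15_2 L252261 L249925 L253018
theorem L253024 : sm gc N32282 = N29995 := ded_13_2 (flp_b L251828) (flp_c L251820) (flp_b L242594) L242590 L253018
theorem L253026 : sm gf N32282 = N31103 := ded_16_2 L242594 L251826 L251828 (flp_f L232885) L253018
theorem L253028 : sm gg N32282 = N29990 := ded_17_2 (flp_b L251934) L251932 L232787 L232827 L253018
theorem L253030 : sm ga N32282 = N31116 := ded_7_1 L242723 (flp_a L229003) (flp_b L199889) (flp_a L170654) L203217 (flp_a L227502) (flp_b L227510) (flp_a L232829) L253018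
theorem L253032 : sm gd N29989 = N32283 := rfl
theorem L253034 : sm gb N32283 = N32078 := ded_14_1 (flp_d L250951) (flp_b L232855) L253032
theorem L253036 : sm ge N32283 = N32207 := ded_22_2 L252249 L231062 (flp_d L217658) L232853 L253032
theorem L253038 : sm gc N32212 = N32283 := ded_28_2 (flp_d L253032) L232857 L232867 (flp_c L249917) (flp_d L250945) L250943 (flp_c L250971) (flp_d L252289)
theorem L253040 : sm gf N32210 = N32283 := ded_25_0 L253036 L252251 (flp_e L252273)
theorem L253042 : sm gf N29989 = N32284 := rfl
theorem L253044 : sm gc N32284 = N29993 := ded_20_1 (flp_f L232873) (flp_c L232857) L253042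
theorem L253046 : sm gd N32284 = N32210 := ded_23_1 L253040 (flp_d L253032) L253042
theorem L253048 : sm ge N32284 = N29990 := ded_25_1 (flp_f L232859) L232853 L253042
theorem L253050 : sm gg N32208 = N32284 := ded_24_0 L253046 (flp_g L252269) L252259
theorem L253052 : sm gg N29989 = N32285 := rfl
theorem L253054 : sm gc N32285 = N29994 := ded_21_1 (flp_g L232877) (flp_c L232857) L253052
theorem L253056 : sm ge N32285 = N29991 := ded_26_1 (flp_g L232863) L232853 L253052
theorem L253058 : sm gf N29992 = N32286 := rfl
theorem L253060 : sm gc N32286 = N31965 := ded_20_1 (flp_f L249971) L249917 L253058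
theorem L253062 : sm gd N32286 = N29993 := ded_23_1 (flp_f L232873) L232867 L253058
theorem L253064 : sm ge N32286 = N29997 := ded_25_1 (flp_f L232897) (flp_e L232871) L253058
theorem L253066 : sm gg N32286 = N31960 := ded_29_3 L252315 (flp_f L252313) L249903 L253058
theorem L253068 : sm gg N29993 = N32287 := rfl
theorem L253070 : sm ga N32287 = N32102 := ded_12_1 L253014 L253010 L253068
theorem L253072 : sm gc N32287 = N32208 := ded_21_1 L253050 L253044 L253068
theorem L253074 : sm gd N32287 = N31960 := ded_24_1 (flp_g L253066) L253062 L253068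
theorem L253076 : sm ge N32287 = N29995 := ded_26_1 (flp_g L232881) (flp_e L232875) L253068
theorem L253078 : sm gf N31959 = N32287 := ded_29_0 (flp_g L253068) (flp_f L232873) L232877 (flp_a L249923)
theorem L253080 : sm gb N30001 = N32288 := rfl
theorem L253082 : sm gd N32288 = N31994 := ded_14_2 (flp_b L250192) (flp_d L232945) L253080
theorem L253084 : sm ge N32288 = N30004 := ded_15_2 (flp_b L232963) (flp_e L232943) L253080
theorem L253086 : sm gc N32288 = N32077 := ded_13_2 L250949 L249917 L232869 L232939 L253080
theorem L253088 : sm ga N32080 = N32288 := ded_9_3 L253082 (flp_a L252287) L252289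
theorem L253090 : sm gg N32075 = N32288 := ded_24_0 L253082 (flp_g L250196) (flp_d L250927)
theorem L253092 : sm gg N30001 = N32289 := rfl
theorem L253094 : sm ga N32289 = N32103 := ded_12_1 (flp_g L251179) (flp_a L232941) L253092
theorem L253096 : sm gc N32289 = N30002 := ded_21_1 (flp_g L232947) L232939 L253092
theorem L253098 : sm gd N32289 = N31937 := ded_24_1 L249761 (flp_d L232945) L253092
theorem L253100 : sm ge N32289 = N30005 := ded_26_1 (flp_g L232973) (flp_e L232943) L253092
theorem L253102 : sm gb N32041 = N32289 := ded_7_0 L253094 (flp_b L251185) L231038 L201522 L169633 (flp_b L199238) (flp_a L227977) (flp_b L250118) (flp_a L250634)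
theorem L253104 : sm gb N30002 = N32290 := rfl
theorem L253106 : sm gd N32290 = N30003 := ded_14_2 (flp_b L232955) (flp_d L232951) L253104
theorem L253108 : sm ge N32290 = N30006 := ded_15_2 (flp_b L232981) (flp_e L232953) L253104
theorem L253110 : sm gf N32290 = N32099 := ded_16_2 L251146 (flp_f L230923) (flp_b L249755) (flp_f L249753) L253104
theorem L253112 : sm gg N30008 = N32291 := rfl
theorem L253114 : sm ga N32291 = N30010 := ded_12_1 (flp_g L233015) L232997 L253112
theorem L253116 : sm gc N32291 = N32197 := ded_21_1 L252152 L248278 L253112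
theorem L253118 : sm gd N32291 = N30369 := ded_24_1 (flp_g L236107) (flp_d L232999) L253112
theorem L253120 : sm ge N32291 = N30012 := ded_26_1 (flp_g L233031) (flp_e L233001) L253112
theorem L253122 : sm gf N30747 = N32291 := ded_29_0 (flp_g L253112) L233003 L239321 (flp_a L239343)
theorem L253124 : sm gb N32291 = N30752 := ded_17_1 L239399 (flp_b L238817) L212371 L233005 L253112
theorem L253126 : sm gd N30009 = N32292 := rfl
theorem L253128 : sm ga N32292 = N31853 := ded_9_1 L249048 L248276 L253126
theorem L253130 : sm gb N32292 = N30901 := ded_14_1 L240678 (flp_b L233011) L253126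
theorem L253132 : sm gf N32292 = N31851 := ded_23_2 L249036 L246322 L253126
theorem L253134 : sm gg N32292 = N30903 := ded_24_2 L240696 L233013 L253126
theorem L253136 : sm gg N30011 = N32293 := rfl
theorem L253138 : sm ga N32293 = N30014 := ded_12_1 (flp_g L233045) (flp_a L233027) L253136
theorem L253140 : sm gc N32293 = N30012 := ded_21_1 (flp_g L233031) L233025 L253136
theorem L253142 : sm gd N32293 = N30627 := ded_24_1 (flp_g L238263) L233029 L253136
theorem L253144 : sm ge N32293 = N32197 := ded_26_1 L252152 L248280 L253136
theorem L253146 : sm gf N32293 = N31549 := ded_29_2 (flp_g L246413) (flp_a L246391) L246395 L253136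
theorem L253148 : sm gb N32219 = N32293 := ded_7_0 L253138 L233051 (flp_a L240714) L240722 L222872 (flp_b L240940) L240932 L232622 (flp_a L252361)
theorem L253150 : sm gg N30013 = N32294 := rfl
theorem L253152 : sm ga N32294 = N30627 := ded_12_1 (flp_g L238263) (flp_a L233041) L253150
theorem L253154 : sm gc N32294 = N30626 := ded_21_1 (flp_g L238255) L233043 L253150
theorem L253156 : sm gd N32294 = N30014 := ded_24_1 (flp_g L233045) L233039 L253150
theorem L253158 : sm gb N32294 = N32193 := ded_17_1 (flp_g L252114) (flp_b L240762) (flp_g L241028) (flp_b L241030) L253150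
theorem L253160 : sm gf N30014 = N32295 := rfl
theorem L253162 : sm ga N32295 = N31549 := ded_11_1 (flp_f L253146) L253138 L253160
theorem L253164 : sm gc N32295 = N30015 := ded_20_1 (flp_f L233053) (flp_c L233047) L253160
theorem L253166 : sm ge N32295 = N31760 := ded_25_1 L248288 (flp_e L233049) L253160
theorem L253168 : sm gg N32295 = N31547 := ded_29_3 L246391 L223557 L233045 L253160
theorem L253170 : sm ge N30023 = N32296 := rfl
theorem L253172 : sm ga N32296 = N31697 := ded_10_1 (flp_e L247729) L233133 L253170
theorem L253174 : sm gb N32296 = N30024 := ded_15_1 (flp_e L233135) L233129 L253170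
theorem L253176 : sm gc N32296 = N30833 := ded_19_1 (flp_e L240103) (flp_c L233131) L253170
theorem L253178 : sm gd N30940 = N32296 := ded_28_7 L253172 L247733 L225969 (flp_c L212893) L182245 L184322 L214910 L241042
theorem L253180 : sm gf N31439 = N32296 := ded_16_0 L253174 (flp_f L242386) (flp_b L244804) (flp_f L250615) L250621
theorem L253182 : sm gf N30023 = N32297 := rfl
theorem L253184 : sm ga N32297 = N31698 := ded_11_1 (flp_f L247735) L233133 L253182
theorem L253186 : sm gc N32297 = N30834 := ded_20_1 (flp_f L240111) (flp_c L233131) L253182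
theorem L253188 : sm gd N32297 = N32019 := ded_23_1 L250414 L233471 L253182
theorem L253190 : sm ge N32297 = N31439 := ded_25_1 L253180 (flp_e L253170) L253182
theorem L253192 : sm gg N32297 = N32238 := ded_29_3 (flp_a L252564) L252578 L252586 L253182
theorem L253194 : sm gb N32020 = N32297 := ded_14_3 L253188 (flp_b L250410) L250418
theorem L253196 : sm ga N30385 = N30978 := ded_7_5 (flp_b L241420) (flp_a L220400) (flp_b L228204) (flp_a L250420) L253194 L253184 L247741 L236193 L236227
theorem L253198 : sm gg N30981 = N30385 := ded_12_0 L253196 L241424 L241434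
theorem L253200 : sm gd N30024 = N32298 := rfl
theorem L253202 : sm ga N32298 = N30032 := ded_9_1 (flp_d L233189) (flp_a L233137) L253200
theorem L253204 : sm gb N32298 = N30940 := ded_14_1 L253178 L253174 L253200
theorem L253206 : sm gc N31540 = N32298 := ded_28_0 (flp_d L253200) L233139 L203413 L175438 L198478 L226826 L249010 L249012
theorem L253208 : sm gb N30025 = N32299 := rfl
theorem L253210 : sm gd N32299 = N31363 := ded_14_2 L244919 L233491 L253208
theorem L253212 : sm ge N32299 = N31346 := ded_15_2 L244804 L242384 L253208
theorem L253214 : sm gc N32299 = N31347 := ded_13_2 L244808 L221269 (flp_b L217404) (flp_c L233145) L253208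
theorem L253216 : sm gf N32299 = N32020 := ded_16_2 L253194 (flp_f L253182) (flp_b L233129) L233141 L253208
theorem L253218 : sm ga N32299 = N31756 := ded_7_1 L248247 (flp_a L244325) (flp_b L244331) (flp_a L234701) L234707 L219618 L219652 (flp_a L233143) L253208
theorem L253220 : sm gg N31365 = N32299 := ded_24_0 L253210 L244917 L244931
theorem L253222 : sm gb N30026 = N32300 := rfl
theorem L253224 : sm gc N32300 = N31521 := ded_13_2 L246210 (flp_c L229282) (flp_b L203427) (flp_c L233151) L253222
theorem L253226 : sm gf N32300 = N31472 := ded_16_2 L245803 L241892 L236841 (flp_f L233211) L253222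
theorem L253228 : sm ga N32300 = N31522 := ded_7_1 L246190 L223351 (flp_b L216553) L187567 L187637 L216669 (flp_b L221680) (flp_a L233149) L253222
theorem L253230 : sm gf N30027 = N32301 := rfl
theorem L253232 : sm ga N32301 = N30030 := ded_11_1 (flp_f L233173) L233153 L253230
theorem L253234 : sm gc N32301 = N30038 := ded_20_1 (flp_f L233227) (flp_c L233155) L253230
theorem L253236 : sm gd N32301 = N30667 := ded_23_1 L238639 L238637 L253230
theorem L253238 : sm gg N32301 = N30669 := ded_29_3 L238595 L238617 L238625 L253230
theorem L253240 : sm gf N30029 = N32302 := rfl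
theorem L253242 : sm gc N32302 = N30040 := ded_20_1 (flp_f L233235) (flp_c L233171) L253240
theorem L253244 : sm gd N32302 = N31656 := ded_23_1 L247317 (flp_d L246775) L253240
theorem L253246 : sm ge N32302 = N30030 := ded_25_1 (flp_f L233173) L233167 L253240
theorem L253248 : sm gb N32302 = N31190 := ded_16_1 L243493 (flp_b L243371) (flp_f L233191) (flp_b L233169) L253240
theorem L253250 : sm gg N30671 = N32302 := ded_24_0 L253244 L247319 L241864
theorem L253252 : sm gf N30031 = N32303 := rfl
theorem L253254 : sm ga N32303 = N30461 := ded_11_1 (flp_f L236853) L233497 L253252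
theorem L253256 : sm gc N32303 = N30076 := ded_20_1 (flp_f L233527) L233391 L253252
theorem L253258 : sm gd N32303 = N30036 := ded_23_1 (flp_f L233213) (flp_d L233185) L253252
theorem L253260 : sm ge N32303 = N30577 := ded_25_1 L247081 L247079 L253252
theorem L253262 : sm gg N32303 = N30071 := ded_29_3 L233487 L219656 L233183 L253252
theorem L253264 : sm gg N30032 = N32304 := rfl
theorem L253266 : sm gc N32304 = N31762 := ded_21_1 (flp_g L249016) L249018 L253264
theorem L253268 : sm gd N32304 = N30034 := ded_24_1 (flp_g L233199) L233189 L253264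
theorem L253270 : sm gb N31764 = N32304 := ded_13_5 L253266 (flp_b L248298) L226135 L226145 L248312
theorem L253272 : sm gb N30036 = N32305 := rfl
theorem L253274 : sm gf N32305 = N31396 := ded_16_2 (flp_b L245199) (flp_f L221692) (flp_b L221680) L233213 L253272
theorem L253276 : sm gg N32305 = N31553 := ded_17_2 L246449 L253220 (flp_b L253208) (flp_g L233219) L253272
theorem L253278 : sm ga N32305 = N31644 := ded_30_3 (flp_f L247223) (flp_c L247183) L247181 L244447 L244445 L232771 L203121 (flp_a L191954) (flp_f L220968) (flp_c L220970) (flp_b L229340) L229334 (flp_f L229286) (flp_c L229282) (flp_b L203427) L203423 L203475 (flp_c L233217) L253272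
theorem L253280 : sm gg N30037 = N32306 := rfl
theorem L253282 : sm ga N32306 = N30041 := ded_12_1 (flp_g L233239) (flp_a L233223) L253280
theorem L253284 : sm gd N32306 = N31478 := ded_24_1 (flp_g L245855) (flp_d L233225) L253280
theorem L253286 : sm ge N32306 = N30039 := ded_26_1 (flp_g L233231) L233221 L253280
theorem L253288 : sm gb N30039 = N32307 := rfl
theorem L253290 : sm gg N30040 = N32308 := rfl
theorem L253292 : sm gc N32308 = N30671 := ded_21_1 L253250 L253242 L253290
theorem L253294 : sm ge N32308 = N30042 := ded_26_1 (flp_g L233245) (flp_e L233237) L253290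
theorem L253296 : sm gf N32306 = N32308 := ded_29_0 (flp_g L253290) (flp_f L233235) L233239 (flp_a L253282)
theorem L253298 : sm gf N30041 = N32309 := rfl
theorem L253300 : sm ga N32309 = N32308 := ded_11_1 (flp_f L253296) L253282 L253298
theorem L253302 : sm ge N32309 = N30043 := ded_25_1 (flp_f L233251) (flp_e L233241) L253298
theorem L253304 : sm gg N32309 = N32056 := ded_29_3 L250761 (flp_f L233235) L233239 L253298
theorem L253306 : sm gb N30042 = N32310 := rfl
theorem L253308 : sm gf N30044 = N32311 := rfl
theorem L253310 : sm ga N32311 = N30528 := ded_11_1 (flp_f L237465) (flp_a L233265) L253308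
theorem L253312 : sm gc N32311 = N30055 := ded_20_1 (flp_f L233359) (flp_c L233263) L253308
theorem L253314 : sm gd N32311 = N30502 := ded_23_1 L237259 (flp_d L233261) L253308
theorem L253316 : sm ge N32311 = N30879 := ded_25_1 L240515 L235368 L253308
theorem L253318 : sm gg N32311 = N30515 := ded_29_3 L237363 (flp_f L246899) L246901 L253308
theorem L253320 : sm gb N32311 = N30503 := ded_16_1 L238233 (flp_b L238235) (flp_f L233277) L233259 L253308
theorem L253322 : sm gc N30049 = N32312 := rfl
theorem L253324 : sm ga N32312 = N30789 := ded_8_1 (flp_c L239743) (flp_a L233313) L253322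
theorem L253326 : sm ge N32312 = N30795 := ded_19_2 (flp_c L239795) (flp_e L233309) L253322
theorem L253328 : sm gf N32312 = N30066 := ded_20_2 (flp_c L233445) (flp_f L233311) L253322
theorem L253330 : sm gg N32312 = N32120 := ded_21_2 L251351 (flp_g L233315) L253322
theorem L253332 : sm gf N30052 = N32313 := rfl
theorem L253334 : sm ga N32313 = N30055 := ded_11_1 (flp_f L233359) L233337 L253332
theorem L253336 : sm gc N32313 = N30528 := ded_20_1 (flp_f L237465) (flp_c L233339) L253332
theorem L253338 : sm gd N32313 = N30569 := ded_23_1 (flp_f L237853) L233341 L253332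
theorem L253340 : sm gg N32313 = N31608 := ded_29_1 L246927 (flp_g L233365) L233337 L253332
theorem L253342 : sm gb N32313 = N32313 := ded_16_1 (flp_f L253332) L233343 L225254 (flp_b L233343) L253332
theorem L253343 : sm gg N30052 = N32314 := rfl
theorem L253345 : sm ga N32314 = N30056 := ded_12_1 (flp_g L233365) L233337 L253343
theorem L253347 : sm gc N32314 = N30529 := ded_21_1 (flp_g L237473) (flp_c L233339) L253343
theorem L253349 : sm gd N32314 = N30568 := ded_24_1 L237851 L233341 L253343
theorem L253351 : sm ge N32314 = N30083 := ded_26_1 L235392 L235386 L253343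
theorem L253353 : sm gf N31609 = N32314 := ded_29_0 (flp_g L253343) L253332 L253340 (flp_a L246933)
theorem L253355 : sm gb N32314 = N30080 := ded_17_1 (flp_g L233557) L225631 L225613 (flp_b L233343) L253343
theorem L253357 : sm gg N30053 = N32315 := rfl
theorem L253359 : sm ga N32315 = N30568 := ded_12_1 L237851 (flp_a L233347) L253357
theorem L253361 : sm gc N32315 = N30478 := ded_21_1 L237027 L233351 L253357
theorem L253363 : sm gd N32315 = N30056 := ded_24_1 (flp_g L233365) L233345 L253357
theorem L253365 : sm ge N32315 = N30602 := ded_26_1 L238417 L238413 L253357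
theorem L253367 : sm gf N30520 = N32315 := ded_29_0 (flp_g L253357) L233353 (flp_g L224561) (flp_a L237401)
theorem L253369 : sm gf N30054 = N32316 := rfl
theorem L253371 : sm gc N32316 = N30879 := ded_20_1 L240515 (flp_c L235370) L253369
theorem L253373 : sm ge N32316 = N30055 := ded_25_1 (flp_f L233359) L233355 L253369
theorem L253375 : sm gb N32316 = N31054 := ded_16_1 (flp_f L242106) L233407 (flp_f L233399) (flp_b L233357) L253369
theorem L253377 : sm gg N30054 = N32317 := rfl
theorem L253379 : sm ga N32317 = N30083 := ded_12_1 L235392 L235384 L253377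
theorem L253381 : sm ge N32317 = N30056 := ded_26_1 (flp_g L233365) L233355 L253377
theorem L253383 : sm gb N30056 = N32318 := rfl
theorem L253385 : sm gg N32318 = N30064 := ded_17_2 (flp_b L233431) (flp_g L203567) L203547 L233365 L253383
theorem L253387 : sm gd N30057 = N32319 := rfl
theorem L253389 : sm ga N32319 = N30073 := ded_9_1 (flp_d L233503) (flp_a L233369) L253387
theorem L253391 : sm gf N32319 = N31624 := ded_23_2 (flp_d L247065) L233373 L253387
theorem L253393 : sm ge N32319 = N30060 := ded_22_2 (flp_d L233395) (flp_e L203555) L203549 L233367 L253387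
theorem L253395 : sm gc N31750 = N32319 := ded_8_0 L253389 (flp_c L243611) (flp_a L248193)
theorem L253397 : sm gg N32113 = N32319 := ded_12_0 L253389 L248227 (flp_a L251283)
theorem L253399 : sm gg N30057 = N32320 := rfl
theorem L253401 : sm ga N32320 = N30075 := ded_12_1 (flp_g L233517) (flp_a L233369) L253399
theorem L253403 : sm gc N32320 = N31625 := ded_21_1 (flp_g L247075) (flp_c L233371) L253399
theorem L253405 : sm gd N32320 = N32113 := ded_24_1 L253397 (flp_d L253387) L253399
theorem L253407 : sm ge N32320 = N30059 := ded_26_1 (flp_g L233387) L233367 L253399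
theorem L253409 : sm gf N30610 = N32320 := ded_29_0 (flp_g L253399) (flp_f L233373) L224985 L238121
theorem L253411 : sm gb N32320 = N32114 := ded_17_1 (flp_g L251299) L251301 L238417 L238415 L253399
theorem L253413 : sm gb N30059 = N32321 := rfl
theorem L253415 : sm gd N32321 = N30064 := ded_14_2 (flp_b L233431) (flp_d L233393) L253413
theorem L253417 : sm ge N32321 = N32114 := ded_15_2 (flp_b L253411) L253407 L253413
theorem L253419 : sm gc N32321 = N31952 := ded_13_2 (flp_b L249879) L227800 L233187 (flp_c L233391) L253413
theorem L253421 : sm ga N32321 = N32116 := ded_7_1 L251307 L229090 (flp_b L216479) L216471 L221106 L233535 (flp_b L233529) (flp_a L233389) L253413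
theorem L253423 : sm gf N30064 = N32322 := rfl
theorem L253425 : sm gc N32322 = N31785 := ded_20_1 L248491 L246206 L253423
theorem L253427 : sm ge N32322 = N31926 := ded_25_1 (flp_f L249841) (flp_e L249843) L253423
theorem L253429 : sm gg N31924 = N32322 := ded_31_0 (flp_f L253423) (flp_b L233431) (flp_g L203567) L203561 L233417 (flp_g L233427) (flp_f L227568) L227566 (flp_g L217021) (flp_f L187861) L187853 L217002 (flp_f L227612) (flp_b L249669)
theorem L253431 : sm gc N30065 = N32323 := rfl
theorem L253433 : sm ga N32323 = N32125 := ded_8_1 L251395 L233441 L253431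
theorem L253435 : sm ge N32323 = N30067 := ded_19_2 (flp_c L233453) (flp_e L233437) L253431
theorem L253437 : sm gf N32323 = N30361 := ded_20_2 (flp_c L236033) L233443 L253431
theorem L253439 : sm gg N32323 = N31641 := ded_21_2 L247201 (flp_g L233439) L253431
theorem L253441 : sm gc N30068 = N32324 := rfl
theorem L253443 : sm ga N32324 = N30940 := ded_8_1 (flp_c L241042) (flp_a L233461) L253441
theorem L253445 : sm ge N32324 = N30758 := ded_19_2 L239445 (flp_e L233467) L253441
theorem L253447 : sm gf N32324 = N31437 := ded_20_2 (flp_c L245541) (flp_f L233463) L253441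
theorem L253449 : sm gg N32324 = N30757 := ded_21_2 L239441 (flp_g L233465) L253441
theorem L253451 : sm gb N32324 = N31699 := ded_13_1 (flp_c L247755) (flp_b L241946) (flp_c L243215) L243223 L253441
theorem L253453 : sm gd N32324 = N31697 := ded_28_7 (flp_a L253172) L253176 L240109 (flp_c L233445) L203593 L203607 L233459 L253441
theorem L253455 : sm ge N30069 = N32325 := rfl
theorem L253457 : sm ga N32325 = N31185 := ded_10_1 L243445 L233475 L253455
theorem L253459 : sm gb N32325 = N30070 := ded_15_1 (flp_e L233477) L233469 L253455
theorem L253461 : sm gc N32325 = N30661 := ded_19_1 L238534 (flp_c L233473) L253455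
theorem L253463 : sm gg N32325 = N30659 := ded_26_2 (flp_e L250572) L250574 L253455
theorem L253465 : sm gd N30070 = N32326 := rfl
theorem L253467 : sm ga N32326 = N31623 := ded_9_1 L247061 (flp_a L233479) L253465
theorem L253469 : sm gf N32326 = N31621 := ded_23_2 L247055 L233483 L253465
theorem L253471 : sm ge N32326 = N32298 := ded_22_2 (flp_d L253200) (flp_e L233135) (flp_d L203621) L233477 L253465
theorem L253473 : sm gb N30072 = N32327 := rfl
theorem L253475 : sm gd N32327 = N32300 := ded_14_2 (flp_b L253222) (flp_d L233501) L253473
theorem L253477 : sm gf N30083 = N32328 := rfl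
theorem L253479 : sm ge N32328 = N31609 := ded_25_1 L253353 L253351 L253477
theorem L253481 : sm gg N32316 = N32328 := ded_29_1 (flp_f L253477) L235392 L235384 L253369
theorem L253483 : sm gb N32328 = N32322 := ded_16_1 (flp_f L253423) (flp_b L233431) L203661 L233589 L253477
theorem L253485 : sm gd N30092 = N32329 := rfl
theorem L253487 : sm ga N32329 = N30093 := ded_9_1 (flp_d L233663) (flp_a L233655) L253485
theorem L253489 : sm gf N32329 = N31041 := ded_23_2 (flp_d L241960) (flp_f L233659) L253485
theorem L253491 : sm gg N32329 = N31881 := ded_24_2 L249287 (flp_g L233661) L253485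
theorem L253493 : sm gg N30093 = N32330 := rfl
theorem L253495 : sm ga N32330 = N31881 := ded_12_1 (flp_g L253491) L253487 L253493
theorem L253497 : sm gc N32330 = N31841 := ded_21_1 L248946 L242062 L253493
theorem L253499 : sm gd N32330 = N30094 := ded_24_1 (flp_g L233669) L233663 L253493
theorem L253501 : sm gg N30095 = N32331 := rfl
theorem L253503 : sm ga N32331 = N30686 := ded_12_1 L239895 L239887 L253501
theorem L253505 : sm gc N32331 = N30714 := ded_21_1 (flp_g L239865) L239859 L253501
theorem L253507 : sm gd N32331 = N30554 := ded_24_1 (flp_g L237695) (flp_d L233679) L253501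
theorem L253509 : sm ge N32331 = N30097 := ded_26_1 (flp_g L233691) (flp_e L233681) L253501
theorem L253511 : sm gf N30713 = N32331 := ded_29_0 (flp_g L253501) (flp_f L233677) L233685 (flp_a L239051)
theorem L253513 : sm gb N32331 = N31258 := ded_17_1 L244163 L220966 L210107 (flp_b L233683) L253501
theorem L253515 : sm gc N30106 = N32332 := rfl
theorem L253517 : sm ga N32332 = N31667 := ded_8_1 (flp_c L247425) L240363 L253515
theorem L253519 : sm ge N32332 = N30110 := ded_19_2 (flp_c L233817) (flp_e L233783) L253515
theorem L253521 : sm gf N32332 = N31474 := ded_20_2 (flp_c L245817) (flp_f L233785) L253515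
theorem L253523 : sm gg N32332 = N32137 := ded_21_2 L251538 L237427 L253515
theorem L253525 : sm gg N30110 = N32333 := rfl
theorem L253527 : sm ga N32333 = N31668 := ded_12_1 (flp_g L247427) (flp_a L233819) L253525
theorem L253529 : sm gc N32333 = N30111 := ded_21_1 (flp_g L233825) L233817 L253525
theorem L253531 : sm gd N32333 = N31669 := ded_24_1 (flp_g L247439) (flp_d L233823) L253525
theorem L253533 : sm ge N32333 = N32137 := ded_26_1 (flp_g L253523) L253519 L253525
theorem L253535 : sm gf N31067 = N32333 := ded_29_0 (flp_g L253525) L233821 L245823 L245825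
theorem L253537 : sm gb N32333 = N32138 := ded_17_1 L251548 (flp_b L233865) (flp_g L246180) L246182 L253525
theorem L253539 : sm ge N30117 = N32334 := rfl
theorem L253541 : sm ga N32334 = N31705 := ded_10_1 (flp_e L247813) L233881 L253539
theorem L253543 : sm gb N32334 = N30118 := ded_15_1 (flp_e L233883) L233877 L253539
theorem L253545 : sm gc N32334 = N30891 := ded_19_1 (flp_e L240591) (flp_c L233879) L253539
theorem L253547 : sm gd N30944 = N32334 := ded_28_7 L253541 L247817 L226255 (flp_c L213395) L182607 L184698 L215149 L241074
theorem L253549 : sm gg N31404 = N32334 := ded_17_0 L253543 (flp_g L242040) (flp_b L244619) (flp_g L249561) L249565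
theorem L253551 : sm gg N30117 = N32335 := rfl
theorem L253553 : sm ga N32335 = N31706 := ded_12_1 (flp_g L247819) L233881 L253551
theorem L253555 : sm gc N32335 = N30893 := ded_21_1 (flp_g L240609) (flp_c L233879) L253551
theorem L253557 : sm gd N32335 = N31886 := ded_24_1 L249335 L234225 L253551
theorem L253559 : sm ge N32335 = N31404 := ded_26_1 L253549 (flp_e L253539) L253551
theorem L253561 : sm gf N32141 = N32335 := ded_29_0 (flp_g L253551) L251600 (flp_g L251592) L251578
theorem L253563 : sm gb N31887 = N32335 := ded_7_0 L253553 L247825 L236332 L236366 L251764 (flp_b L241654) (flp_a L220830) (flp_b L227252) (flp_a L249341)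
theorem L253565 : sm gd N30118 = N32336 := rfl
theorem L253567 : sm ga N32336 = N30126 := ded_9_1 (flp_d L233937) (flp_a L233885) L253565
theorem L253569 : sm gb N32336 = N30944 := ded_14_1 L253547 L253543 L253565
theorem L253571 : sm gc N31486 = N32336 := ded_28_0 (flp_d L253565) L233887 L203913 L175869 L198113 L226415 L248672 L248674
theorem L253573 : sm gb N30119 = N32337 := rfl
theorem L253575 : sm gc N32337 = N31470 := ded_13_2 L245795 (flp_c L231436) (flp_b L203921) (flp_c L233893) L253573
theorem L253577 : sm gg N32337 = N31523 := ded_17_2 L246194 (flp_g L242256) L236925 L233967 L253573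
theorem L253579 : sm ga N32337 = N31471 := ded_7_1 L245799 L222938 (flp_b L217126) L187925 L187983 L217242 (flp_b L217390) (flp_a L233891) L253573
theorem L253581 : sm gb N30120 = N32338 := rfl
theorem L253583 : sm gd N32338 = N31337 := ded_14_2 L244734 L234253 L253581
theorem L253585 : sm ge N32338 = N31320 := ded_15_2 L244619 L242038 L253581
theorem L253587 : sm gc N32338 = N31321 := ded_13_2 L244623 L221100 L216833 (flp_c L233899) L253581
theorem L253589 : sm gg N32338 = N31887 := ded_17_2 L253563 (flp_g L253551) (flp_b L233877) L233895 L253581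
theorem L253591 : sm ga N32338 = N31711 := ded_7_1 L247871 (flp_a L244539) (flp_b L244545) (flp_a L234857) L234863 L219686 (flp_b L220034) (flp_a L233897) L253581
theorem L253593 : sm gf N31339 = N32338 := ded_31_1 (flp_b L253581) (flp_g L233895) L233889 L253573 L253577 (flp_f L246192) (flp_b L223319) (flp_g L193349) (flp_f L160796) (flp_b L111391) L161118 L193891 L224033 (flp_g L244748)
theorem L253595 : sm gg N30121 = N32339 := rfl
theorem L253597 : sm ga N32339 = N30124 := ded_12_1 (flp_g L233921) L233901 L253595
theorem L253599 : sm gc N32339 = N30133 := ded_21_1 (flp_g L233979) (flp_c L233903) L253595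
theorem L253601 : sm gd N32339 = N30647 := ded_24_1 (flp_g L238483) L238481 L253595
theorem L253603 : sm gf N30649 = N32339 := ded_29_0 (flp_g L253595) L238469 (flp_g L238461) (flp_a L238439)
theorem L253605 : sm gg N30123 = N32340 := rfl
theorem L253607 : sm gc N32340 = N30135 := ded_21_1 (flp_g L233989) (flp_c L233919) L253605
theorem L253609 : sm gd N32340 = N31667 := ded_24_1 L247423 (flp_d L246781) L253605
theorem L253611 : sm ge N32340 = N30124 := ded_26_1 (flp_g L233921) L233915 L253605
theorem L253613 : sm gb N32340 = N31194 := ded_17_1 (flp_g L243527) (flp_b L243381) (flp_g L233945) (flp_b L233917) L253605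
theorem L253615 : sm gf N30651 = N32340 := ded_23_0 L253609 L247421 L242226
theorem L253617 : sm gg N30125 = N32341 := rfl
theorem L253619 : sm ga N32341 = N30469 := ded_12_1 (flp_g L236937) L234241 L253617
theorem L253621 : sm gc N32341 = N30172 := ded_21_1 L234305 L234133 L253617
theorem L253623 : sm gd N32341 = N30129 := ded_24_1 (flp_g L233953) (flp_d L233933) L253617
theorem L253625 : sm ge N32341 = N30584 := ded_26_1 (flp_g L247148) L247146 L253617
theorem L253627 : sm gf N30166 = N32341 := ded_29_0 (flp_g L253617) (flp_f L233931) L220038 (flp_a L234249)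
theorem L253629 : sm gf N30126 = N32342 := rfl
theorem L253631 : sm gc N32342 = N31717 := ded_20_1 (flp_f L248678) L248680 L253629
theorem L253633 : sm gd N32342 = N30127 := ded_23_1 (flp_f L233939) L233937 L253629
theorem L253635 : sm gb N31719 = N32342 := ded_13_5 L253631 (flp_b L247920) L225863 L225873 L247934
theorem L253637 : sm gb N30129 = N32343 := rfl
theorem L253639 : sm gf N32343 = N31573 := ded_16_2 L246615 L253593 (flp_b L253581) L233957 L253637
theorem L253641 : sm gg N32343 = N31433 := ded_17_2 (flp_b L245515) L222122 (flp_b L217390) L233953 L253637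
theorem L253643 : sm ga N32343 = N31639 := ded_30_3 (flp_f L247187) (flp_c L244285) (flp_b L244281) (flp_a L221622) (flp_f L221620) (flp_c L221608) (flp_b L222944) (flp_a L244357) L244353 (flp_c L253529) L253537 L251544 (flp_f L229606) L220030 L203889 (flp_a L203925) L203969 (flp_c L233955) L253637
theorem L253645 : sm gf N30131 = N32344 := rfl
theorem L253647 : sm ga N32344 = N30134 := ded_11_1 (flp_f L233983) (flp_a L233971) L253645
theorem L253649 : sm gd N32344 = N31532 := ded_23_1 (flp_f L246266) (flp_d L233973) L253645
theorem L253651 : sm ge N32344 = N30132 := ded_25_1 (flp_f L233975) L233969 L253645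
theorem L253653 : sm gb N30132 = N32345 := rfl
theorem L253655 : sm gg N30134 = N32346 := rfl
theorem L253657 : sm ge N32346 = N30136 := ded_26_1 (flp_g L233993) (flp_e L233985) L253655
theorem L253659 : sm gf N31928 = N32346 := ded_29_0 (flp_g L253655) (flp_f L233983) L233989 L249701
theorem L253661 : sm gb N32346 = N32309 := ded_17_1 L253304 (flp_b L250755) L228527 (flp_b L233987) L253655
theorem L253663 : sm gf N30135 = N32347 := rfl
theorem L253665 : sm ga N32347 = N32346 := ded_11_1 (flp_f L253659) (flp_a L249701) L253663
theorem L253667 : sm gc N32347 = N30651 := ded_20_1 L253615 L253607 L253663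
theorem L253669 : sm ge N32347 = N30137 := ded_25_1 (flp_f L234005) (flp_e L233991) L253663
theorem L253671 : sm gg N32347 = N32344 := ded_29_3 L253647 (flp_f L233983) L233989 L253663
theorem L253673 : sm gb N30137 = N32348 := rfl
theorem L253675 : sm gg N30138 = N32349 := rfl
theorem L253677 : sm ga N32349 = N30546 := ded_12_1 (flp_g L237621) (flp_a L234019) L253675
theorem L253679 : sm gc N32349 = N30150 := ded_21_1 (flp_g L234115) (flp_c L234017) L253675
theorem L253681 : sm gd N32349 = N30499 := ded_24_1 L237235 (flp_d L234015) L253675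
theorem L253683 : sm ge N32349 = N30820 := ded_26_1 L240023 L235926 L253675
theorem L253685 : sm gf N30516 = N32349 := ded_29_0 (flp_g L253675) (flp_f L246791) L246793 (flp_a L237369)
theorem L253687 : sm gb N32349 = N30500 := ded_17_1 (flp_g L238329) (flp_b L238331) (flp_g L234039) L234013 L253675
theorem L253689 : sm gc N30144 = N32350 := rfl
theorem L253691 : sm ga N32350 = N30847 := ded_8_1 (flp_c L240221) (flp_a L234077) L253689
theorem L253693 : sm ge N32350 = N30853 := ded_19_2 (flp_c L240273) (flp_e L234073) L253689
theorem L253695 : sm gf N32350 = N32224 := ded_20_2 L252413 L234079 L253689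
theorem L253697 : sm gg N32350 = N30161 := ded_21_2 (flp_c L234205) (flp_g L234075) L253689
theorem L253699 : sm gf N30146 = N32351 := rfl
theorem L253701 : sm ga N32351 = N30149 := ded_11_1 (flp_f L234113) L234091 L253699
theorem L253703 : sm gc N32351 = N30545 := ded_20_1 (flp_f L237611) (flp_c L234093) L253699
theorem L253705 : sm gd N32351 = N30571 := ded_23_1 L237874 L234095 L253699
theorem L253707 : sm ge N32351 = N30179 := ded_25_1 L235950 L235944 L253699
theorem L253709 : sm gg N32351 = N31598 := ded_29_1 L246827 (flp_g L234115) L234091 L253699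
theorem L253711 : sm gb N32351 = N30176 := ded_16_1 (flp_f L234333) (flp_b L225719) L225721 (flp_b L234097) L253699
theorem L253713 : sm gg N30146 = N32352 := rfl
theorem L253715 : sm ga N32352 = N30150 := ded_12_1 (flp_g L234115) L234091 L253713
theorem L253717 : sm gc N32352 = N30546 := ded_21_1 (flp_g L237621) (flp_c L234093) L253713
theorem L253719 : sm gd N32352 = N30572 := ded_24_1 (flp_g L237878) L234095 L253713
theorem L253721 : sm gf N31597 = N32352 := ded_29_0 (flp_g L253713) L253699 L253709 L246825
theorem L253723 : sm gb N32352 = N32352 := ded_17_1 (flp_g L253713) L234097 L225262 (flp_b L234097) L253713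
theorem L253724 : sm gf N30147 = N32353 := rfl
theorem L253726 : sm ga N32353 = N30571 := ded_11_1 L237874 (flp_a L234101) L253724
theorem L253728 : sm gc N32353 = N30471 := ded_20_1 L236955 L234105 L253724
theorem L253730 : sm gd N32353 = N30149 := ded_23_1 (flp_f L234113) L234099 L253724
theorem L253732 : sm ge N32353 = N30590 := ded_25_1 L238581 L238577 L253724
theorem L253734 : sm gg N32353 = N30537 := ded_29_3 L237547 L224439 (flp_g L234107) L253724
theorem L253736 : sm gf N30148 = N32354 := rfl
theorem L253738 : sm ga N32354 = N30179 := ded_11_1 L235950 L235942 L253736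
theorem L253740 : sm ge N32354 = N30149 := ded_25_1 (flp_f L234113) L234109 L253736
theorem L253742 : sm gg N30148 = N32355 := rfl
theorem L253744 : sm gc N32355 = N30820 := ded_21_1 L240023 (flp_c L235928) L253742
theorem L253746 : sm ge N32355 = N30150 := ded_26_1 (flp_g L234115) L234109 L253742
theorem L253748 : sm gb N32355 = N31087 := ded_17_1 (flp_g L242430) L234169 (flp_g L234161) (flp_b L234111) L253742
theorem L253750 : sm gb N30149 = N32356 := rfl
theorem L253752 : sm gf N32356 = N30157 := ded_16_2 (flp_b L234171) (flp_f L204065) L204051 L234113 L253750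
theorem L253754 : sm gd N30151 = N32357 := rfl
theorem L253756 : sm ga N32357 = N30167 := ded_9_1 (flp_d L234257) (flp_a L234123) L253754
theorem L253758 : sm gg N32357 = N31633 := ded_24_2 (flp_d L247132) L234127 L253754
theorem L253760 : sm ge N32357 = N30154 := ded_22_2 (flp_d L234149) (flp_e L204059) L204053 L234121 L253754
theorem L253762 : sm gc N31794 = N32357 := ded_8_0 L253756 (flp_c L243679) (flp_a L248563)
theorem L253764 : sm gf N32007 = N32357 := ded_11_0 L253756 (flp_f L248597) L250308
theorem L253766 : sm gf N30151 = N32358 := rfl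
theorem L253768 : sm ga N32358 = N30168 := ded_11_1 (flp_f L234263) (flp_a L234123) L253766
theorem L253770 : sm gc N32358 = N31634 := ded_20_1 (flp_f L247142) (flp_c L234125) L253766
theorem L253772 : sm gd N32358 = N32007 := ded_23_1 L253764 (flp_d L253754) L253766
theorem L253774 : sm ge N32358 = N30152 := ded_25_1 (flp_f L234129) L234121 L253766
theorem L253776 : sm gg N32358 = N30598 := ded_29_3 (flp_a L238041) (flp_f L225093) L234127 L253766
theorem L253778 : sm gb N32358 = N32008 := ded_16_1 (flp_f L250322) L250326 L238581 L238579 L253766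
theorem L253780 : sm gb N30152 = N32359 := rfl
theorem L253782 : sm gd N32359 = N30157 := ded_14_2 (flp_b L234171) (flp_d L234135) L253780
theorem L253784 : sm ge N32359 = N32008 := ded_15_2 (flp_b L253778) L253774 L253780
theorem L253786 : sm gc N32359 = N32071 := ded_13_2 (flp_b L250883) L228723 L233935 (flp_c L234133) L253780
theorem L253788 : sm ga N32359 = N32010 := ded_7_1 L250332 L228115 (flp_b L216505) L216497 L221275 L234283 (flp_b L234277) (flp_a L234131) L253780
theorem L253790 : sm gg N30157 = N32360 := rfl
theorem L253792 : sm gc N32360 = N31741 := ded_21_1 L248121 L245759 L253790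
theorem L253794 : sm ge N32360 = N32053 := ded_26_1 (flp_g L250859) (flp_e L250861) L253790
theorem L253796 : sm gf N32360 = N32052 := ded_31_1 L250727 (flp_g L228521) (flp_f L217554) (flp_b L188199) L188207 L217577 (flp_b L228481) L228483 L234183 (flp_b L234173) (flp_g L204071) L204065 L234171 L253790
theorem L253798 : sm gc N30159 = N32361 := rfl
theorem L253800 : sm ga N32361 = N32187 := ded_8_1 L252062 L234195 L253798
theorem L253802 : sm ge N32361 = N30160 := ded_19_2 (flp_c L234199) (flp_e L234191) L253798
theorem L253804 : sm gf N32361 = N31646 := ded_20_2 L247235 (flp_f L234193) L253798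
theorem L253806 : sm gg N32361 = N30305 := ded_21_2 (flp_c L235499) L234197 L253798
theorem L253808 : sm gc N30162 = N32362 := rfl
theorem L253810 : sm ga N32362 = N30944 := ded_8_1 (flp_c L241074) (flp_a L234215) L253808
theorem L253812 : sm ge N32362 = N30696 := ded_19_2 L238867 (flp_e L234221) L253808
theorem L253814 : sm gf N32362 = N30695 := ded_20_2 L238863 (flp_f L234217) L253808
theorem L253816 : sm gg N32362 = N31402 := ded_21_2 (flp_c L245245) (flp_g L234219) L253808
theorem L253818 : sm gb N32362 = N31707 := ded_13_1 (flp_c L247839) (flp_b L242310) (flp_c L243089) L243097 L253808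
theorem L253820 : sm gd N32362 = N31705 := ded_28_7 (flp_a L253541) L253545 L240597 (flp_c L234205) L204105 L204111 L234213 L253808
theorem L253822 : sm ge N30163 = N32363 := rfl
theorem L253824 : sm ga N32363 = N31188 := ded_10_1 L243471 L234229 L253822
theorem L253826 : sm gb N32363 = N30164 := ded_15_1 (flp_e L234231) L234223 L253822
theorem L253828 : sm gc N32363 = N30641 := ded_19_1 L238378 (flp_c L234227) L253822
theorem L253830 : sm gf N32363 = N30639 := ded_25_2 (flp_e L249500) (flp_f L249502) L253822
theorem L253832 : sm gd N30164 = N32364 := rfl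
theorem L253834 : sm ga N32364 = N31632 := ded_9_1 L247128 (flp_a L234233) L253832
theorem L253836 : sm gg N32364 = N31630 := ded_24_2 L247122 L234237 L253832
theorem L253838 : sm ge N32364 = N32336 := ded_22_2 (flp_d L253565) (flp_e L233883) (flp_d L204125) L234231 L253832
theorem L253840 : sm gb N30165 = N32365 := rfl
theorem L253842 : sm gd N32365 = N32337 := ded_14_2 (flp_b L253573) (flp_d L234245) L253840
theorem L253844 : sm gg N30179 = N32366 := rfl
theorem L253846 : sm ge N32366 = N31598 := ded_26_1 (flp_g L253709) L253707 L253844
theorem L253848 : sm gf N32366 = N32355 := ded_29_2 (flp_g L253742) (flp_a L235942) (flp_f L235950) L253844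
theorem L253850 : sm gb N32366 = N32360 := ded_17_1 (flp_g L253790) (flp_b L234171) (flp_g L204179) L234357 L253844
theorem L253852 : sm gd N30186 = N32367 := rfl
theorem L253854 : sm ga N32367 = N30187 := ded_9_1 (flp_d L234425) (flp_a L234415) L253852
theorem L253856 : sm gb N32367 = N32330 := ded_14_1 L253499 (flp_b L234423) L253852
theorem L253858 : sm gf N32367 = N31841 := ded_23_2 L248944 (flp_f L234419) L253852
theorem L253860 : sm gg N32367 = N31078 := ded_24_2 (flp_d L242326) (flp_g L234421) L253852
theorem L253862 : sm gf N30187 = N32368 := rfl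
theorem L253864 : sm ga N32368 = N31841 := ded_11_1 (flp_f L253858) L253854 L253862
theorem L253866 : sm gc N32368 = N31881 := ded_20_1 L249289 L241982 L253862
theorem L253868 : sm gd N32368 = N30188 := ded_23_1 (flp_f L234431) L234425 L253862
theorem L253870 : sm gb N32368 = N32329 := ded_16_1 L253489 L241964 (flp_f L236151) (flp_b L234427) L253862
theorem L253872 : sm gf N30190 = N32369 := rfl
theorem L253874 : sm ga N32369 = N30751 := ded_11_1 (flp_f L240379) L240371 L253872
theorem L253876 : sm gc N32369 = N30733 := ded_20_1 L240349 L240343 L253872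
theorem L253878 : sm gd N32369 = N30558 := ded_23_1 (flp_f L237737) (flp_d L234449) L253872
theorem L253880 : sm ge N32369 = N30193 := ded_25_1 (flp_f L234473) (flp_e L234451) L253872
theorem L253882 : sm gg N32369 = N30732 := ded_29_3 L239205 (flp_f L234441) L234447 L253872
theorem L253884 : sm gb N32369 = N31234 := ded_16_1 (flp_f L243919) L220536 (flp_f L210157) (flp_b L234453) L253872
theorem L253886 : sm gc N30199 = N32370 := rfl
theorem L253888 : sm ga N32370 = N31656 := ded_8_1 (flp_c L247321) L239879 L253886
theorem L253890 : sm ge N32370 = N30202 := ded_19_2 (flp_c L234569) (flp_e L234543) L253886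
theorem L253892 : sm gf N32370 = N32235 := ded_20_2 L252536 L237573 L253886
theorem L253894 : sm gg N32370 = N31528 := ded_21_2 (flp_c L246228) (flp_g L234545) L253886
theorem L253896 : sm gf N30202 = N32371 := rfl
theorem L253898 : sm ga N32371 = N31657 := ded_11_1 (flp_f L247323) (flp_a L234571) L253896
theorem L253900 : sm gc N32371 = N30203 := ded_20_1 (flp_f L234577) L234569 L253896
theorem L253902 : sm gd N32371 = N31658 := ded_23_1 (flp_f L247335) (flp_d L234575) L253896
theorem L253904 : sm ge N32371 = N32235 := ded_25_1 (flp_f L253892) L253890 L253896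
theorem L253906 : sm gg N32371 = N31030 := ded_29_3 (flp_a L246236) (flp_f L246234) (flp_g L234573) L253896
theorem L253908 : sm gb N32371 = N32236 := ded_16_1 L252546 (flp_b L233117) L245789 (flp_b L245791) L253896
theorem L253910 : sm gg N30207 = N32372 := rfl
theorem L253912 : sm ga N32372 = N30824 := ded_12_1 (flp_g L240043) (flp_a L234625) L253910
theorem L253914 : sm gc N32372 = N30854 := ded_21_1 L240283 (flp_c L234623) L253910
theorem L253916 : sm gd N32372 = N30819 := ded_24_1 (flp_g L240013) (flp_d L234619) L253910
theorem L253918 : sm ge N32372 = N31860 := ded_26_1 (flp_g L249096) (flp_e L234621) L253910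
theorem L253920 : sm gb N30209 = N32373 := rfl
theorem L253922 : sm gd N32373 = N32307 := ded_14_2 (flp_b L253288) (flp_d L234647) L253920
theorem L253924 : sm ge N32373 = N30393 := ded_15_2 L236282 (flp_e L234649) L253920
theorem L253926 : sm gc N32373 = N30391 := ded_13_2 (flp_b L249142) L249140 (flp_b L249104) (flp_c L234645) L253920
theorem L253928 : sm ga N31807 = N32373 := ded_10_3 L253924 L236280 L248682
theorem L253930 : sm gb N30210 = N32374 := rfl
theorem L253932 : sm gd N32374 = N32310 := ded_14_2 (flp_b L253306) (flp_d L234657) L253930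
theorem L253934 : sm ge N32374 = N31858 := ded_15_2 L249090 L240654 L253930
theorem L253936 : sm gc N32374 = N31856 := ded_13_2 (flp_b L249078) L239541 L239127 (flp_c L234655) L253930
theorem L253938 : sm gg N32374 = N30224 := ded_17_2 (flp_b L234747) (flp_g L204394) (flp_b L204346) L234651 L253930
theorem L253940 : sm ga N31857 = N32374 := ded_10_3 L253934 L249086 (flp_e L249082)
theorem L253942 : sm gb N30211 = N32375 := rfl
theorem L253944 : sm gf N32375 = N30215 := ded_16_2 (flp_b L234687) (flp_f L204362) L204354 L234661 L253942
theorem L253946 : sm gg N32375 = N30234 := ded_17_2 (flp_b L234835) (flp_g L204453) L204441 (flp_g L234669) L253942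
theorem L253948 : sm ga N32375 = N31131 := ded_30_3 (flp_f L248872) (flp_c L248866) (flp_b L226649) (flp_a L226565) (flp_f L226563) L198248 (flp_b L198220) L204410 L212171 L212173 L204433 (flp_a L218032) (flp_f L218030) L188469 L204354 (flp_a L214002) L240807 L240811 L253942
theorem L253950 : sm gc N31130 = N32375 := ded_30_1 (flp_b L253942) (flp_a L240809) (flp_f L240807) L213998 (flp_b L204354) (flp_a L171421) L171427 (flp_c L188477) (flp_b L204433) (flp_a L234775) (flp_f L234773) L204423 L198220 L167516 L167549 (flp_c L198332) L226649 L248858 L248862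
theorem L253952 : sm gb N30212 = N32376 := rfl
theorem L253954 : sm gd N32376 = N30939 := ded_14_2 (flp_b L241032) (flp_d L234665) L253952
theorem L253956 : sm ge N32376 = N32292 := ded_15_2 L253130 L240680 L253952
theorem L253958 : sm gg N32376 = N30216 := ded_17_2 (flp_b L234689) (flp_g L204366) L204354 L234663 L253952
theorem L253960 : sm gb N30213 = N32377 := rfl
theorem L253962 : sm gd N32377 = N30215 := ded_14_2 (flp_b L234687) (flp_d L234677) L253960
theorem L253964 : sm gb N30214 = N32378 := rfl
theorem L253966 : sm gd N32378 = N30216 := ded_14_2 (flp_b L234689) (flp_d L234685) L253964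
theorem L253968 : sm ge N32378 = N32294 := ded_15_2 L253158 L252122 L253964
theorem L253970 : sm gc N32378 = N31506 := ded_13_2 (flp_b L246062) L246074 (flp_b L246084) (flp_c L234683) L253964
theorem L253972 : sm gg N32378 = N30939 := ded_17_2 (flp_b L241032) L222892 (flp_b L214056) L234679 L253964
theorem L253974 : sm ga N30216 = N32379 := rfl
theorem L253976 : sm gc N32379 = N32376 := ded_28_0 L253954 L241036 L232576 (flp_c L223257) (flp_d L246064) (flp_c L253970) L253966 L253974
theorem L253978 : sm gc N30216 = N32380 := rfl
theorem L253980 : sm ga N32380 = N32376 := ded_8_1 (flp_c L253976) (flp_a L253974) L253978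
theorem L253982 : sm ge N32380 = N31853 := ded_19_2 L249046 L240698 L253978
theorem L253984 : sm gg N32380 = N32379 := ded_21_2 L253976 L253958 L253978
theorem L253986 : sm gb N32380 = N30859 := ded_13_1 L242945 (flp_b L242935) L218044 L234689 L253978
theorem L253988 : sm gd N32380 = N30624 := ded_28_7 (flp_a L241040) L241036 L232576 (flp_c L223257) (flp_d L246064) (flp_c L253970) L253966 L253978
theorem L253990 : sm gf N31852 = N32380 := ded_25_0 L253982 (flp_f L249044) L249038
theorem L253992 : sm gf N30216 = N32381 := rfl
theorem L253994 : sm gc N32381 = N31852 := ded_20_1 L253990 (flp_c L253978) L253992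
theorem L253996 : sm ge N32381 = N31847 := ded_25_1 L249004 L240698 L253992
theorem L253998 : sm gg N31852 = N32381 := ded_29_1 (flp_f L253992) (flp_g L253958) (flp_a L253980) (flp_f L253990)
theorem L254000 : sm gb N32381 = N31849 := ded_16_1 L249024 (flp_b L234747) (flp_f L204396) L234689 L253992
theorem L254002 : sm gf N30217 = N32382 := rfl
theorem L254004 : sm ga N32382 = N31645 := ded_11_1 L247227 (flp_a L234693) L254002
theorem L254006 : sm gc N32382 = N30220 := ded_20_1 (flp_f L234719) (flp_c L234697) L254002
theorem L254008 : sm gd N32382 = N31266 := ded_23_1 (flp_f L244235) L235501 L254002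
theorem L254010 : sm ge N32382 = N30218 := ded_25_1 (flp_f L234699) L234691 L254002
theorem L254012 : sm gg N32382 = N32204 := ded_29_1 L252223 (flp_g L247963) (flp_a L234693) L254002
theorem L254014 : sm gb N32382 = N31191 := ded_16_1 (flp_f L243495) (flp_b L231752) (flp_f L233107) (flp_b L234695) L254002
theorem L254016 : sm gg N30217 = N32383 := rfl
theorem L254018 : sm ga N32383 = N31723 := ded_12_1 (flp_g L247963) (flp_a L234693) L254016
theorem L254020 : sm gc N32383 = N30221 := ded_21_1 (flp_g L234725) (flp_c L234697) L254016
theorem L254022 : sm gd N32383 = N32361 := ded_24_1 L253806 L235501 L254016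
theorem L254024 : sm ge N32383 = N30219 := ded_26_1 (flp_g L234709) L234691 L254016
theorem L254026 : sm gf N32266 = N32383 := ded_29_0 (flp_g L254016) L254002 L254012 L252852
theorem L254028 : sm gb N32383 = N31461 := ded_17_1 (flp_g L246521) (flp_b L252494) L252492 (flp_b L234695) L254016
theorem L254030 : sm gg N30220 = N32384 := rfl
theorem L254032 : sm ga N32384 = N32278 := ded_12_1 (flp_g L252984) L252106 L254030
theorem L254034 : sm gc N32384 = N32204 := ded_21_1 (flp_g L254012) L254006 L254030
theorem L254036 : sm gd N32384 = N32195 := ded_24_1 L252138 L240706 L254030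
theorem L254038 : sm ge N32384 = N30222 := ded_26_1 (flp_g L234731) (flp_e L234721) L254030
theorem L254040 : sm gf N32193 = N32384 := ded_29_0 (flp_g L254030) (flp_f L234719) L234725 (flp_a L252116)
theorem L254042 : sm gb N30222 = N32385 := rfl
theorem L254044 : sm gd N32385 = N30224 := ded_14_2 (flp_b L234747) (flp_d L234733) L254042
theorem L254046 : sm gg N32385 = N32310 := ded_17_2 (flp_b L253306) (flp_g L233245) (flp_b L204386) L234731 L254042
theorem L254048 : sm ga N30224 = N32386 := rfl
theorem L254050 : sm gc N32386 = N31845 := ded_8_2 L248988 (flp_c L239637) L254048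
theorem L254052 : sm ge N32386 = N31846 := ded_10_2 L248992 L240726 L254048
theorem L254054 : sm gg N32386 = N31857 := ded_12_2 L253940 L253938 L254048
theorem L254056 : sm gf N30226 = N32387 := rfl
theorem L254058 : sm ga N32387 = N30881 := ded_11_1 (flp_f L240525) (flp_a L234771) L254056
theorem L254060 : sm gc N32387 = N30796 := ded_20_1 L239803 (flp_c L234769) L254056
theorem L254062 : sm gd N32387 = N30876 := ded_23_1 (flp_f L240491) (flp_d L234765) L254056
theorem L254064 : sm ge N32387 = N31818 := ded_25_1 (flp_f L248756) (flp_e L234767) L254056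
theorem L254066 : sm gb N32387 = N32386 := ded_31_2 L254054 (flp_f L249250) (flp_b L249244) L227088 L226858 (flp_b L213489) (flp_g L240283) L242822 (flp_b L242816) (flp_g L217894) L217884 L242804 L242810 L254056
theorem L254068 : sm gb N30227 = N32388 := rfl
theorem L254070 : sm gd N32388 = N32345 := ded_14_2 (flp_b L253653) (flp_d L234779) L254068
theorem L254072 : sm ge N32388 = N30373 := ded_15_2 L236143 (flp_e L234781) L254068
theorem L254074 : sm gc N32388 = N30371 := ded_13_2 (flp_b L248796) L248794 (flp_b L248762) (flp_c L234777) L254068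
theorem L254076 : sm gf N32388 = N32386 := ded_16_2 (flp_b L254066) (flp_f L254056) (flp_b L234763) L234773 L254068
theorem L254078 : sm ga N32388 = N31849 := ded_30_3 L249024 L239637 L239631 (flp_a L234605) (flp_f L234603) L204327 (flp_b L171417) L118548 (flp_f L118550) (flp_c L118546) (flp_b L118544) L118543 (flp_f L118589) L171443 L204404 (flp_a L204410) L226539 (flp_c L234777) L254068
theorem L254080 : sm gb N30229 = N32389 := rfl
theorem L254082 : sm gd N32389 = N32348 := ded_14_2 (flp_b L253673) (flp_d L234803) L254080
theorem L254084 : sm ge N32389 = N31816 := ded_15_2 L248750 L240884 L254080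
theorem L254086 : sm gc N32389 = N31814 := ded_13_2 (flp_b L248738) (flp_c L239265) L239261 (flp_c L234801) L254080
theorem L254088 : sm gf N32389 = N30242 := ded_16_2 (flp_b L234893) (flp_f L204485) (flp_b L204439) L234797 L254080
theorem L254090 : sm ga N32389 = N31815 := ded_7_1 L248884 (flp_a L249234) (flp_b L249242) L253940 (flp_b L253930) L234653 (flp_b L222539) (flp_a L234799) L254080
theorem L254092 : sm gb N30230 = N32390 := rfl
theorem L254094 : sm gd N32390 = N30922 := ded_14_2 (flp_b L240855) (flp_d L234813) L254092
theorem L254096 : sm ge N32390 = N32218 := ded_15_2 L252353 L240908 L254092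
theorem L254098 : sm gf N32390 = N30233 := ded_16_2 (flp_b L234833) (flp_f L204449) L204441 L234807 L254092
theorem L254100 : sm gb N30231 = N32391 := rfl
theorem L254102 : sm gd N32391 = N30233 := ded_14_2 (flp_b L234833) (flp_d L234823) L254100
theorem L254104 : sm ge N32391 = N32220 := ded_15_2 (flp_b L252904) L252902 L254100
theorem L254106 : sm gc N32391 = N31452 := ded_13_2 (flp_b L245647) L245659 L245669 (flp_c L234821) L254100
theorem L254108 : sm gf N32391 = N30922 := ded_16_2 (flp_b L240855) (flp_f L222888) (flp_b L214377) L234817 L254100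
theorem L254110 : sm gb N30232 = N32392 := rfl
theorem L254112 : sm gd N32392 = N30234 := ded_14_2 (flp_b L234835) (flp_d L234831) L254110
theorem L254114 : sm ga N30233 = N32393 := rfl
theorem L254116 : sm gc N32393 = N32390 := ded_28_0 L254094 L240859 L230644 (flp_c L222443) (flp_d L245649) (flp_c L254106) L254102 L254114
theorem L254118 : sm gb N32393 = N32379 := ded_7_2 (flp_a L253974) (flp_b L234689) L204368 L171431 (flp_a L222851) (flp_b L171462) (flp_a L204451) L234833 L254114
theorem L254120 : sm gc N30233 = N32394 := rfl
theorem L254122 : sm ga N32394 = N32390 := ded_8_1 (flp_c L254116) (flp_a L254114) L254120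
theorem L254124 : sm ge N32394 = N31811 := ded_19_2 L248708 L240916 L254120
theorem L254126 : sm gf N32394 = N32393 := ded_20_2 L254116 L254098 L254120
theorem L254128 : sm gb N32394 = N30801 := ded_13_1 L242814 (flp_b L242804) L217888 L234833 L254120
theorem L254130 : sm gd N32394 = N30613 := ded_28_7 L240863 L240859 L230644 (flp_c L222443) (flp_d L245649) (flp_c L254106) L254102 L254120
theorem L254132 : sm gg N31810 = N32394 := ded_26_0 L254124 (flp_g L248706) L248700
theorem L254134 : sm gg N30233 = N32395 := rfl
theorem L254136 : sm gc N32395 = N31810 := ded_21_1 L254132 (flp_c L254120) L254134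
theorem L254138 : sm ge N32395 = N31805 := ded_26_1 L248668 L240916 L254134
theorem L254140 : sm gf N32395 = N31810 := ded_29_2 L254132 L254122 L254098 L254134
theorem L254142 : sm gb N32395 = N31807 := ded_17_1 L248686 (flp_b L234893) L204489 L234833 L254134
theorem L254144 : sm gf N30235 = N32396 := rfl
theorem L254146 : sm ga N32396 = N31768 := ded_11_1 (flp_f L248341) (flp_a L234839) L254144
theorem L254148 : sm gc N32396 = N30238 := ded_20_1 (flp_f L234865) (flp_c L234843) L254144
theorem L254150 : sm gd N32396 = N32323 := ded_23_1 L253437 L236035 L254144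
theorem L254152 : sm ge N32396 = N30236 := ded_25_1 (flp_f L234845) L234837 L254144
theorem L254154 : sm gg N32396 = N32181 := ded_29_1 (flp_f L251996) L247193 (flp_a L234839) L254144
theorem L254156 : sm gb N32396 = N31515 := ded_16_1 (flp_f L246687) (flp_b L251496) L251492 (flp_b L234841) L254144
theorem L254158 : sm gg N30235 = N32397 := rfl
theorem L254160 : sm ga N32397 = N31640 := ded_12_1 L247193 (flp_a L234839) L254158
theorem L254162 : sm gc N32397 = N30239 := ded_21_1 (flp_g L234871) (flp_c L234843) L254158
theorem L254164 : sm gd N32397 = N31295 := ded_24_1 (flp_g L244449) L236035 L254158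
theorem L254166 : sm ge N32397 = N30237 := ded_26_1 (flp_g L234855) L234837 L254158
theorem L254168 : sm gf N32280 = N32397 := ded_29_0 (flp_g L254158) L254144 L254154 (flp_a L253000)
theorem L254170 : sm gb N32397 = N31195 := ded_17_1 (flp_g L243529) (flp_b L229616) (flp_g L233855) (flp_b L234841) L254158
theorem L254172 : sm gf N30239 = N32398 := rfl
theorem L254174 : sm ga N32398 = N32202 := ded_11_1 (flp_f L252916) L252908 L254172
theorem L254176 : sm gc N32398 = N32280 := ded_20_1 L254168 L254162 L254172
theorem L254178 : sm gd N32398 = N32272 := ded_23_1 (flp_f L252926) L240948 L254172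
theorem L254180 : sm ge N32398 = N30241 := ded_25_1 (flp_f L234885) (flp_e L234873) L254172
theorem L254182 : sm gg N32398 = N32270 := ded_29_3 L252896 (flp_f L234865) L234871 L254172
theorem L254184 : sm gb N30241 = N32399 := rfl
theorem L254186 : sm gd N32399 = N30242 := ded_14_2 (flp_b L234893) (flp_d L234889) L254184
theorem L254188 : sm gf N32399 = N32348 := ded_16_2 (flp_b L253673) (flp_f L234005) (flp_b L204479) L234885 L254184
theorem L254190 : sm ga N30242 = N32400 := rfl
theorem L254192 : sm gc N32400 = N31803 := ded_8_2 (flp_a L248650) (flp_c L239249) L254190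
theorem L254194 : sm ge N32400 = N31804 := ded_10_2 L248656 L240956 L254190
theorem L254196 : sm gf N32400 = N31815 := ded_11_2 (flp_a L254090) L254088 L254190
theorem L254198 : sm gg N32400 = N32373 := ded_12_2 (flp_a L253928) L248686 L254190
theorem L254200 : sm gb N32372 = N32400 := ded_13_5 L254192 (flp_b L248642) (flp_c L248634) L248640 (flp_c L253914)
theorem L254202 : sm gd N30251 = N32401 := rfl
theorem L254204 : sm ga N32401 = N30715 := ded_9_1 L239071 (flp_a L234993) L254202
theorem L254206 : sm gb N32401 = N30363 := ded_14_1 L236055 (flp_b L235001) L254202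
theorem L254208 : sm gf N32401 = N30734 := ded_23_2 L239227 (flp_f L234997) L254202
theorem L254210 : sm gg N32401 = N30403 := ded_24_2 L236352 (flp_g L234999) L254202
theorem L254212 : sm ge N32401 = N30409 := ded_22_2 L236388 L207963 (flp_d L204806) (flp_e L234995) L254202
theorem L254214 : sm gc N32401 = N31292 := ded_32_9 (flp_b L244417) (flp_d L244413) L244411 (flp_d L227169) (flp_c L198775) (flp_b L167838) L116451 (flp_c L116937) (flp_d L168754) L168752 L180723 L180725 L180731 (flp_d L180737) (flp_c L169681) (flp_b L117487) L96299 (flp_d L98047) (flp_c L122472) (flp_d L123337) L123335 L123349 L123351 L123355 L175316 L207439 L207443 L204932 (flp_c L204924) (flp_d L204912) L208519 L208515 (flp_d L177150) (flp_c L125719) (flp_d L125483) L176939 L208383 (flp_d L218348) (flp_c L218360) (flp_d L224397) L224401 L195964 L164857 L114059 (flp_c L151060) (flp_d L154586) (flp_c L185791) L215537 L215539 (flp_c L224702) L224700 (flp_c L210225) (flp_b L210221) (flp_d L210215) L210213 L205735 (flp_c L175204) L175210 (flp_d L179733) (flp_c L179741) L177031 L125586 L125604 L148811 (flp_c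 L126402) (flp_d L177370) L179959 (flp_b L179949) (flp_e L179265) (flp_d L209977) (flp_c L237593) L237595 L226479 L226485 L226487 L234991 L254202
theorem L254216 : sm gg N30253 = N32402 := rfl
theorem L254218 : sm ga N32402 = N30255 := ded_12_1 (flp_g L235025) L235011 L254216
theorem L254220 : sm ge N32402 = N30256 := ded_26_1 (flp_g L235033) (flp_e L235013) L254216
theorem L254222 : sm gf N30258 = N32402 := ded_29_0 (flp_g L254216) L235051 L235047 L235053
theorem L254224 : sm gb N32402 = N30721 := ded_17_1 (flp_g L239113) L236137 (flp_g L236129) (flp_b L235015) L254216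
theorem L254226 : sm gd N30264 = N32403 := rfl
theorem L254228 : sm ga N32403 = N30744 := ded_9_1 L239315 (flp_a L235113) L254226
theorem L254230 : sm gb N32403 = N30321 := ded_14_1 L235659 (flp_b L235121) L254226
theorem L254232 : sm gf N32403 = N30383 := ded_23_2 L236213 (flp_f L235117) L254226
theorem L254234 : sm gg N32403 = N30741 := ded_24_2 L239297 (flp_g L235119) L254226
theorem L254236 : sm ge N32403 = N30389 := ded_22_2 L236249 L207678 (flp_d L205048) (flp_e L235115) L254226
theorem L254238 : sm gc N32403 = N31263 := ded_32_9 (flp_b L244203) (flp_d L244199) L244197 (flp_d L228162) (flp_c L199367) (flp_b L168302) L116665 (flp_c L117589) (flp_d L169779) L169777 L180831 L180833 L180839 (flp_d L180845) (flp_c L170696) (flp_b L118101) L96586 (flp_d L98591) (flp_c L123335) L123337 L122472 L122484 L122486 L122490 L173903 L206502 L206506 L205179 (flp_c L205171) (flp_d L205159) L208692 L208688 (flp_d L177425) (flp_c L126541) (flp_d L147055) L177063 L208445 (flp_d L218246) (flp_c L218258) (flp_d L224519) L224523 L196363 L165470 L114620 L151050 (flp_d L154218) (flp_c L185521)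 L215491 L215493 (flp_c L224780) L224778 (flp_c L210246) (flp_b L210242) (flp_d L210236) L210234 L206976 L174637 L173765 (flp_d L179951) (flp_c L179959) L177370 L126402 L148692 L125412 (flp_c L125586) (flp_d L177031) L179741 (flp_b L179731) (flp_e L179069) (flp_d L209775) (flp_c L237447) L237449 L226890 L226896 L226898 L235111 L254226
theorem L254240 : sm gf N30266 = N32404 := rfl
theorem L254242 : sm ga N32404 = N30268 := ded_11_1 (flp_f L235145) L235131 L254240
theorem L254244 : sm ge N32404 = N30269 := ded_25_1 (flp_f L235153) (flp_e L235133) L254240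
theorem L254246 : sm gg N32404 = N30271 := ded_29_3 (flp_a L235173) (flp_f L235167) L235169 L254240
theorem L254248 : sm gb N32404 = N30737 := ded_16_1 L239257 L236276 (flp_f L236268) (flp_b L235135) L254240
theorem L254250 : sm gb N30275 = N32405 := rfl
theorem L254252 : sm gd N32405 = N30960 := ded_14_2 (flp_b L241252) (flp_d L235209) L254250
theorem L254254 : sm ge N32405 = N30278 := ded_15_2 (flp_b L235235) (flp_e L235211) L254250
theorem L254256 : sm gc N32405 = N30888 := ded_13_2 L240568 L235340 L205806 (flp_c L235207) L254250
theorem L254258 : sm gf N32405 = N32405 := ded_16_2 (flp_b L254250) (flp_f L235205) L205235 L235205 L254250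
theorem L254259 : sm ga N32405 = N30889 := ded_7_1 L240577 L217624 L202386 (flp_a L211141) (flp_b L215335) (flp_a L241110) (flp_b L241281) L241271 L254250
theorem L254261 : sm gg N30290 = N32406 := rfl
theorem L254263 : sm ga N32406 = N30294 := ded_12_1 (flp_g L235398) (flp_a L235364) L254261
theorem L254265 : sm gc N32406 = N32317 := ded_21_1 (flp_g L253377) L235370 L254261
theorem L254267 : sm gd N32406 = N30291 := ded_24_1 (flp_g L235372) L235362 L254261
theorem L254269 : sm ge N32406 = N31605 := ded_26_1 L246901 (flp_e L235368) L254261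
theorem L254271 : sm gf N32406 = N30429 := ded_29_2 L236553 L240517 L240515 L254261
theorem L254273 : sm gb N32406 = N31613 := ded_17_1 (flp_g L246967) (flp_b L246885) L246887 (flp_b L235366) L254261
theorem L254275 : sm gf N30292 = N32407 := rfl
theorem L254277 : sm ga N32407 = N32316 := ded_11_1 (flp_f L253369) (flp_a L235384) L254275
theorem L254279 : sm gc N32407 = N30293 := ded_20_1 (flp_f L235394) L235382 L254275
theorem L254281 : sm gd N32407 = N31352 := ded_23_1 L244848 L235390 L254275
theorem L254283 : sm ge N32407 = N32313 := ded_25_1 (flp_f L253332) (flp_e L235386) L254275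
theorem L254285 : sm gb N32407 = N32407 := ded_16_1 (flp_f L254275) L235388 L221357 (flp_b L235388) L254275
theorem L254286 : sm gb N30293 = N32408 := rfl
theorem L254288 : sm gd N32408 = N30295 := ded_14_2 (flp_b L235406) (flp_d L235396) L254286
theorem L254290 : sm gc N32408 = N32408 := ded_13_2 (flp_b L254286) (flp_c L254279) L254285 L254279 L254286
theorem L254291 : sm gf N32408 = N30298 := ded_16_2 (flp_b L235434) (flp_f L205913) (flp_b L205870) L235394 L254286
theorem L254293 : sm ga N32408 = N32408 := ded_7_1 (flp_b L254286) L240517 (flp_b L240511) L213709 L182843 (flp_a L213709) L240511 (flp_a L240517) L254286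
theorem L254294 : sm gf N30294 = N32409 := rfl
theorem L254296 : sm ga N32409 = N30429 := ded_11_1 (flp_f L254271) L254263 L254294
theorem L254298 : sm gc N32409 = N32328 := ded_20_1 (flp_f L253477) (flp_c L235400) L254294
theorem L254300 : sm gd N32409 = N30296 := ded_23_1 (flp_f L235415) (flp_d L235402) L254294
theorem L254302 : sm ge N32409 = N30515 := ded_25_1 L237479 L237477 L254294
theorem L254304 : sm gg N32409 = N30879 := ded_29_3 (flp_a L240517) (flp_f L235394) L235398 L254294
theorem L254306 : sm gb N32409 = N30874 := ded_16_1 L247493 (flp_b L247495) (flp_f L235723) (flp_b L235404) L254294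
theorem L254308 : sm gg N30298 = N32410 := rfl
theorem L254310 : sm ga N32410 = N32410 := ded_12_1 (flp_g L254308) L235439 L254308
theorem L254311 : sm gc N32410 = N32410 := ded_21_1 (flp_g L254308) L235438 L254308
theorem L254312 : sm gd N32410 = N30299 := ded_24_1 (flp_g L235440) (flp_d L235436) L254308
theorem L254314 : sm gb N32410 = N30546 := ded_17_1 (flp_g L237621) L210001 (flp_g L206210) L235434 L254308
theorem L254316 : sm gd N30302 = N32411 := rfl
theorem L254318 : sm ga N32411 = N30303 := ded_9_1 (flp_d L235479) (flp_a L235471) L254316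
theorem L254320 : sm gb N32411 = N32262 := ded_14_1 L252810 L236019 L254316
theorem L254322 : sm gf N32411 = N30753 := ded_23_2 L239405 (flp_f L235475) L254316
theorem L254324 : sm gg N32411 = N31294 := ded_24_2 L244431 (flp_g L235477) L254316
theorem L254326 : sm ge N32411 = N30428 := ded_22_2 (flp_d L236537) (flp_e L208279) (flp_d L206052) L235469 L254316
theorem L254328 : sm gc N30303 = N32412 := rfl
theorem L254330 : sm ge N32412 = N30365 := ded_19_2 L236065 (flp_e L235485) L254328
theorem L254332 : sm gg N32412 = N30310 := ded_21_2 L235547 (flp_g L235483) L254328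
theorem L254334 : sm gb N32412 = N31683 := ded_13_1 (flp_c L247594) L247373 (flp_c L235499) (flp_b L235481) L254328
theorem L254336 : sm gd N32412 = N30312 := ded_28_7 (flp_a L235571) L235573 (flp_d L234549) L234553 (flp_d L206162) (flp_c L206062) L235479 L254328
theorem L254338 : sm gf N30307 = N32413 := rfl
theorem L254340 : sm ga N32413 = N30310 := ded_11_1 (flp_f L235545) (flp_a L235517) L254338
theorem L254342 : sm gc N32413 = N31294 := ded_20_1 L244435 L235523 L254338
theorem L254344 : sm gd N32413 = N30308 := ded_23_1 (flp_f L235525) L235515 L254338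
theorem L254346 : sm ge N32413 = N30363 := ded_25_1 (flp_f L236049) (flp_e L235521) L254338
theorem L254348 : sm gb N32413 = N30409 := ded_16_1 (flp_f L236390) (flp_b L239643) L239645 (flp_b L235519) L254338
theorem L254350 : sm gg N30307 = N32414 := rfl
theorem L254352 : sm ga N32414 = N30311 := ded_12_1 (flp_g L235553) (flp_a L235517) L254350
theorem L254354 : sm gc N32414 = N31670 := ded_21_1 (flp_g L247451) L235523 L254350
theorem L254356 : sm gd N32414 = N30309 := ded_24_1 (flp_g L235535) L235515 L254350
theorem L254358 : sm ge N32414 = N30364 := ded_26_1 (flp_g L236057) (flp_e L235521) L254350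
theorem L254360 : sm gf N32414 = N32412 := ded_29_2 L254332 (flp_a L254340) (flp_f L254338) L254350
theorem L254362 : sm gb N32414 = N30320 := ded_17_1 (flp_g L235731) L247495 (flp_g L247487) (flp_b L235519) L254350
theorem L254364 : sm gf N30311 = N32415 := rfl
theorem L254366 : sm ga N32415 = N32412 := ded_11_1 (flp_f L254360) L254352 L254364
theorem L254368 : sm gc N32415 = N32411 := ded_20_1 L254322 L239409 L254364
theorem L254370 : sm gd N32415 = N30313 := ded_23_1 (flp_f L235569) (flp_d L235555) L254364
theorem L254372 : sm ge N32415 = N30366 := ded_25_1 (flp_f L236071) (flp_e L235557) L254364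
theorem L254374 : sm gg N32415 = N32413 := ded_29_3 L254340 (flp_f L235545) L235553 L254364
theorem L254376 : sm gb N32415 = N30775 := ded_16_1 (flp_f L239603) (flp_b L239583) L239585 L239041 L254364
theorem L254378 : sm gd N30316 = N32416 := rfl
theorem L254380 : sm ga N32416 = N30322 := ded_9_1 (flp_d L235661) (flp_a L235607) L254378
theorem L254382 : sm gb N32416 = N32177 := ded_14_1 L251954 (flp_b L235609) L254378
theorem L254384 : sm gf N32416 = N31265 := ded_23_2 L244217 (flp_f L235613) L254378
theorem L254386 : sm gg N32416 = N30688 := ded_24_2 L238789 (flp_g L235615) L254378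
theorem L254388 : sm ge N32416 = N30411 := ded_22_2 (flp_d L236401) (flp_e L208082) (flp_d L206270) L235605 L254378
theorem L254390 : sm gf N30317 = N32417 := rfl
theorem L254392 : sm ga N32417 = N30324 := ded_11_1 (flp_f L235681) (flp_a L235619) L254390
theorem L254394 : sm gc N32417 = N31659 := ded_20_1 (flp_f L247347) L235625 L254390
theorem L254396 : sm gd N32417 = N30318 := ded_23_1 (flp_f L235627) L235617 L254390
theorem L254398 : sm ge N32417 = N30320 := ded_25_1 (flp_f L235647) (flp_e L235623) L254390
theorem L254400 : sm gb N32417 = N30364 := ded_16_1 L236069 L247391 (flp_f L247383) (flp_b L235621) L254390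
theorem L254402 : sm gg N30317 = N32418 := rfl
theorem L254404 : sm ga N32418 = N30325 := ded_12_1 (flp_g L235687) (flp_a L235619) L254402
theorem L254406 : sm gc N32418 = N31265 := ded_21_1 L244221 L235625 L254402
theorem L254408 : sm gd N32418 = N30319 := ded_24_1 (flp_g L235637) L235617 L254402
theorem L254410 : sm ge N32418 = N30321 := ded_26_1 (flp_g L235653) (flp_e L235623) L254402
theorem L254412 : sm gb N32418 = N30389 := ded_17_1 L236251 (flp_b L239279) L239283 (flp_b L235621) L254402
theorem L254414 : sm gc N30322 = N32419 := rfl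
theorem L254416 : sm ge N32419 = N30329 := ded_19_2 L235727 (flp_e L235667) L254414
theorem L254418 : sm gf N32419 = N30325 := ded_20_2 L235689 (flp_f L235665) L254414
theorem L254420 : sm gg N32419 = N32417 := ded_21_2 L254394 (flp_g L247355) L254414
theorem L254422 : sm gb N32419 = N31678 := ded_13_1 (flp_c L247535) L247477 (flp_c L236033) (flp_b L235663) L254414
theorem L254424 : sm gd N32419 = N30327 := ded_28_7 L235707 L235697 (flp_d L233769) L233773 (flp_d L206336) (flp_c L206324) L235661 L254414
theorem L254426 : sm gg N30324 = N32420 := rfl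
theorem L254428 : sm ga N32420 = N32419 := ded_12_1 L254420 L254392 L254426
theorem L254430 : sm gc N32420 = N32416 := ded_21_1 L254386 (flp_c L238795) L254426
theorem L254432 : sm gd N32420 = N30326 := ded_24_1 (flp_g L235695) (flp_d L235683) L254426
theorem L254434 : sm ge N32420 = N30328 := ded_26_1 (flp_g L235717) (flp_e L235685) L254426
theorem L254436 : sm gf N32418 = N32420 := ded_29_0 (flp_g L254426) (flp_f L235681) L235687 (flp_a L254404)
theorem L254438 : sm gb N32420 = N30729 := ded_17_1 (flp_g L239171) (flp_b L239149) (flp_g L239197) L239193 L254426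
theorem L254440 : sm gb N30336 = N32421 := rfl
theorem L254442 : sm gd N32421 = N30963 := ded_14_2 (flp_b L241283) (flp_d L235795) L254440
theorem L254444 : sm ge N32421 = N30339 := ded_15_2 (flp_b L235821) (flp_e L235797) L254440
theorem L254446 : sm gc N32421 = N30830 := ded_13_2 L240080 L235898 L207029 (flp_c L235793) L254440
theorem L254448 : sm gg N32421 = N32421 := ded_17_2 (flp_b L254440) (flp_g L235791) L206554 L235791 L254440
theorem L254449 : sm ga N32421 = N30831 := ded_7_1 L240089 L217068 L200745 (flp_a L211033) (flp_b L215423) (flp_a L241132) (flp_b L241312) L241302 L254440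
theorem L254451 : sm gf N30349 = N32422 := rfl
theorem L254453 : sm ga N32422 = N30352 := ded_11_1 (flp_f L235952) (flp_a L235922) L254451
theorem L254455 : sm gc N32422 = N32354 := ded_20_1 (flp_f L253736) L235928 L254451
theorem L254457 : sm gd N32422 = N30350 := ded_23_1 (flp_f L235930) L235920 L254451
theorem L254459 : sm ge N32422 = N31594 := ded_25_1 L246791 (flp_e L235926) L254451
theorem L254461 : sm gg N30412 = N32422 := ded_29_1 (flp_f L254451) (flp_g L240023) (flp_a L240025) (flp_f L236417)
theorem L254463 : sm gb N32422 = N31603 := ded_16_1 (flp_f L246871) (flp_b L246845) L246847 (flp_b L235924) L254451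
theorem L254465 : sm gg N30351 = N32423 := rfl
theorem L254467 : sm ga N32423 = N32355 := ded_12_1 (flp_g L253742) (flp_a L235942) L254465
theorem L254469 : sm gc N32423 = N30353 := ded_21_1 (flp_g L235960) L235940 L254465
theorem L254471 : sm gd N32423 = N31326 := ded_24_1 L244663 L235948 L254465
theorem L254473 : sm ge N32423 = N32352 := ded_26_1 (flp_g L253713) (flp_e L235944) L254465
theorem L254475 : sm gb N32423 = N32423 := ded_17_1 (flp_g L254465) L235946 L221188 (flp_b L235946) L254465
theorem L254476 : sm gg N30352 = N32424 := rfl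
theorem L254478 : sm ga N32424 = N30412 := ded_12_1 L254461 L254453 L254476
theorem L254480 : sm gc N32424 = N32366 := ded_21_1 (flp_g L253844) (flp_c L235954) L254476
theorem L254482 : sm gd N32424 = N30354 := ded_24_1 (flp_g L235964) (flp_d L235956) L254476
theorem L254484 : sm ge N32424 = N30516 := ded_26_1 L237619 L237615 L254476
theorem L254486 : sm gf N30820 = N32424 := ded_29_0 (flp_g L254476) (flp_f L235952) L235960 L240025
theorem L254488 : sm gb N32424 = N30815 := ded_17_1 (flp_g L247389) (flp_b L247391) (flp_g L236063) (flp_b L235958) L254476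
theorem L254490 : sm gb N30353 = N32425 := rfl
theorem L254492 : sm gd N32425 = N30355 := ded_14_2 (flp_b L235974) (flp_d L235962) L254490
theorem L254494 : sm ge N32425 = N32410 := ded_15_2 L254314 L237625 L254490
theorem L254496 : sm gc N32425 = N32425 := ded_13_2 (flp_b L254490) (flp_c L254469) L254475 L254469 L254490
theorem L254497 : sm gg N32425 = N30357 := ded_17_2 (flp_b L235994) (flp_g L207122) (flp_b L207085) L235960 L254490
theorem L254499 : sm ga N32425 = N32425 := ded_7_1 (flp_b L254490) L240025 (flp_b L240019) L213193 L182453 (flp_a L213193) L240019 (flp_a L240025) L254490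
theorem L254500 : sm gf N30357 = N32426 := rfl
theorem L254502 : sm ga N32426 = N32426 := ded_11_1 (flp_f L254500) L236001 L254500
theorem L254503 : sm gc N32426 = N32426 := ded_20_1 (flp_f L254500) L236000 L254500
theorem L254504 : sm gd N32426 = N30358 := ded_23_1 (flp_f L236002) (flp_d L235996) L254500
theorem L254506 : sm ge N32426 = N32408 := ded_25_1 L254291 (flp_e L235998) L254500
theorem L254508 : sm gb N32426 = N30528 := ded_16_1 (flp_f L237465) L209799 L207128 L235994 L254500
theorem L254510 : sm gg N30371 = N32427 := rfl
theorem L254512 : sm ga N32427 = N31850 := ded_12_1 (flp_g L249026) (flp_a L236125) L254510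
theorem L254514 : sm gd N32427 = N30372 := ded_24_1 (flp_g L236129) L236123 L254510
theorem L254516 : sm ge N32427 = N30374 := ded_26_1 (flp_g L236145) (flp_e L236127) L254510
theorem L254518 : sm gf N31856 = N32427 := ded_29_0 (flp_g L254510) (flp_f L248984) L248986 L249070
theorem L254520 : sm gb N30720 = N32427 := ded_14_3 L254514 (flp_b L236137) L239109
theorem L254522 : sm ge N30375 = N32428 := rfl
theorem L254524 : sm gb N32428 = N31617 := ded_15_1 (flp_e L247013) (flp_b L236157) L254522
theorem L254526 : sm gc N32428 = N30376 := ded_19_1 (flp_e L236161) L236153 L254522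
theorem L254528 : sm gg N32428 = N32405 := ded_26_2 L254254 (flp_g L236155) L254522
theorem L254530 : sm gd N32428 = N31616 := ded_22_1 (flp_e L247001) (flp_d L224811) (flp_e L224789) (flp_d L236159) L254522
theorem L254532 : sm gd N30376 = N32429 := rfl
theorem L254534 : sm ga N32429 = N31843 := ded_9_1 L248958 L240583 L254532
theorem L254536 : sm gb N32429 = N30378 := ded_14_1 (flp_d L236175) (flp_b L236163) L254532
theorem L254538 : sm gf N32429 = N31843 := ded_23_2 L248958 (flp_f L240587) L254532
theorem L254540 : sm gg N32429 = N31687 := ded_24_2 L247641 (flp_g L240570) L254532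
theorem L254542 : sm ge N32429 = N30377 := ded_22_2 (flp_d L236165) (flp_e L207591) L207587 L236161 L254532
theorem L254544 : sm gc N32429 = N32252 := ded_32_19 (flp_b L252726) L248029 (flp_c L239743) L212877 L184308 (flp_b L160494) L111041 (flp_d L112250) L149788 L112020 (flp_c L93903) (flp_b L151391) L105702 L105716 L153231 L184718 L184724 (flp_d L184738) (flp_c L205838) L205840 (flp_c L205781) (flp_b L219082) L219078 (flp_c L206641) (flp_d L218690) L218692 L205570 L189665 (flp_c L165941) L165943 (flp_c L185509) L185515 (flp_e L185077) (flp_d L153678) (flp_c L105993) L90127 L141861 (flp_b L19840) (flp_d L19694) (flp_c L41420) (flp_d L90766) L90764 (flp_b L106821) (flp_d L106819) (flp_c L106103) L141750 (flp_c L158065) (flp_b L158063) L158067 (flp_c L158071) (flp_d L157645) (flp_c L109023) L109019 L109021 L109287 L158005 L183911 (flp_b L179931) (flp_e L179239) (flp_d L209931) L231682 (flp_d L231674) (flp_c L231656) (flp_b L231652) L231666 (flp_c L237579) (flp_d L248780) (flp_c L248784) (flp_b L248806) L248808 (flp_c L241126) (flp_d L241756) (flp_c L241766) (flp_b L247005) (flp_d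 L254530) L254526 L254532
theorem L254546 : sm gc N30378 = N32430 := rfl
theorem L254548 : sm ga N32430 = N30382 := ded_8_1 (flp_c L236207) (flp_a L236177) L254546
theorem L254550 : sm ge N32430 = N30380 := ded_19_2 (flp_c L236191) (flp_e L236179) L254546
theorem L254552 : sm gf N32430 = N31694 := ded_20_2 L247703 L239295 L254546
theorem L254554 : sm gg N30378 = N32431 := rfl
theorem L254556 : sm ga N32431 = N30383 := ded_12_1 (flp_g L236211) (flp_a L236177) L254554
theorem L254558 : sm gd N32431 = N30379 := ded_24_1 (flp_g L236181) L236175 L254554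
theorem L254560 : sm ge N32431 = N30381 := ded_26_1 (flp_g L236199) (flp_e L236179) L254554
theorem L254562 : sm gf N30744 = N32431 := ded_29_0 (flp_g L254554) (flp_f L239295) (flp_g L254234) L254228
theorem L254564 : sm gb N32431 = N32250 := ded_17_1 (flp_g L252694) (flp_b L247636) (flp_g L254540) L254536 L254554
theorem L254566 : sm gb N30382 = N32432 := rfl
theorem L254568 : sm ge N32432 = N30385 := ded_15_2 (flp_b L236227) (flp_e L236209) L254566
theorem L254570 : sm gd N30382 = N32433 := rfl
theorem L254572 : sm gc N32433 = N32345 := ded_28_6 (flp_d L254070) L254078 L249022 L226832 L205014 L207642 L236207 L254570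
theorem L254574 : sm gg N30382 = N32434 := rfl
theorem L254576 : sm gc N32434 = N30383 := ded_21_1 (flp_g L236211) L236207 L254574
theorem L254578 : sm ge N32434 = N30387 := ded_26_1 (flp_g L236237) (flp_e L236209) L254574
theorem L254580 : sm gf N32434 = N31263 := ded_29_2 L247705 L247699 L239303 L254574
theorem L254582 : sm gb N30383 = N32435 := rfl
theorem L254584 : sm gd N32435 = N30384 := ded_14_2 (flp_b L236217) (flp_d L236213) L254582
theorem L254586 : sm ge N32435 = N30388 := ded_15_2 (flp_b L236241) (flp_e L236215) L254582
theorem L254588 : sm gf N32435 = N31610 := ded_16_2 L246943 (flp_f L235721) (flp_b L254230) L254232 L254582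
theorem L254590 : sm ga N32435 = N31607 := ded_7_1 L246919 L238189 (flp_b L236380) (flp_a L236340) (flp_b L251630) (flp_a L252696) (flp_b L254564) L254556 L254582
theorem L254592 : sm gd N30385 = N32436 := rfl
theorem L254594 : sm ga N32436 = N30589 := ded_9_1 (flp_d L241422) (flp_a L253196) L254592
theorem L254596 : sm gb N32436 = N30386 := ded_14_1 (flp_d L236229) L236227 L254592
theorem L254598 : sm gg N32436 = N31708 := ded_24_2 L247843 L253198 L254592
theorem L254600 : sm gc N31358 = N32436 := ded_32_12 (flp_d L254592) (flp_c L236492) (flp_b L236490) (flp_d L236468) (flp_c L236464) (flp_d L208167) L176496 (flp_b L178862) L178856 (flp_c L179123) (flp_d L209825) L226886 (flp_b L234745) (flp_e L252978) L252976 L249056 L230704 L206090 L191551 (flp_d L191549) (flp_c L191057) (flp_d L159283) (flp_c L110337) (flp_b L92585) L45183 (flp_c L43326) (flp_d L72432) L43342 L45243 (flp_d L92613) L110387 L159405 L191201 (flp_b L203121) L203123 (flp_c L207259) (flp_d L232664) (flp_c L248718) L248716 (flp_e L226461) (flp_d L198151) (flp_c L167470) (flp_d L116131) (flp_c L95668) (flp_b L84496)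 (flp_d L84449) (flp_c L95566) (flp_d L115848) (flp_c L167098) L197703 L197705 L200539 (flp_d L224903) (flp_c L243353) L243361 L240375 (flp_c L224337) (flp_d L204253) (flp_c L213511) L213509 L206430 L173849 (flp_d L170296) (flp_c L223797) (flp_b L200892) L200896 L223819 (flp_c L228383) L228387 (flp_c L205909) (flp_b L205870) (flp_d L205868) (flp_c L205753) (flp_d L223755) (flp_c L223763) L245341 L245343
theorem L254602 : sm ge N31666 = N32436 := ded_10_0 L254594 (flp_e L246503) (flp_a L247413)
theorem L254604 : sm gf N31193 = N32436 := ded_11_0 L254594 (flp_f L247517) L247513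
theorem L254606 : sm gf N30385 = N32437 := rfl
theorem L254608 : sm gd N32437 = N31193 := ded_23_1 L254604 (flp_d L254592) L254606
theorem L254610 : sm gg N30983 = N32437 := ded_29_1 (flp_f L254606) (flp_g L253198) (flp_a L241434) L241440
theorem L254612 : sm gb N32437 = N31192 := ded_16_1 L243513 L232466 L212213 L236227 L254606
theorem L254614 : sm gb N30387 = N32438 := rfl
theorem L254616 : sm gd N32438 = N31945 := ded_14_2 (flp_b L249815) L247725 L254614
theorem L254618 : sm gc N30388 = N32439 := rfl
theorem L254620 : sm gf N30391 = N32440 := rfl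
theorem L254622 : sm ga N32440 = N31808 := ded_11_1 (flp_f L248688) (flp_a L236264) L254620
theorem L254624 : sm gd N32440 = N30392 := ded_23_1 (flp_f L236268) L236262 L254620
theorem L254626 : sm ge N32440 = N30394 := ded_25_1 (flp_f L236284) (flp_e L236266) L254620
theorem L254628 : sm gg N32440 = N31814 := ded_29_3 (flp_a L248730) (flp_f L248648) (flp_g L248652) L254620
theorem L254630 : sm gb N30770 = N32440 := ded_14_3 L254624 (flp_b L236276) L239567
theorem L254632 : sm ge N30395 = N32441 := rfl
theorem L254634 : sm gb N32441 = N31619 := ded_15_1 (flp_e L247035) (flp_b L236296) L254632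
theorem L254636 : sm gc N32441 = N30396 := ded_19_1 (flp_e L236300) L236292 L254632
theorem L254638 : sm gf N32441 = N32421 := ded_25_2 L254444 (flp_f L236294) L254632
theorem L254640 : sm gd N32441 = N31618 := ded_22_1 (flp_e L247023) (flp_d L224859) (flp_e L224851) (flp_d L236298) L254632
theorem L254642 : sm gd N30396 = N32442 := rfl
theorem L254644 : sm ga N32442 = N31801 := ded_9_1 L248626 L240095 L254642
theorem L254646 : sm gb N32442 = N30398 := ded_14_1 (flp_d L236314) (flp_b L236302) L254642
theorem L254648 : sm gf N32442 = N31682 := ded_23_2 L247582 (flp_f L240082) L254642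
theorem L254650 : sm gg N32442 = N31801 := ded_24_2 L248626 L240099 L254642
theorem L254652 : sm ge N32442 = N30397 := ded_22_2 (flp_d L236304) (flp_e L207876) L207872 L236300 L254642
theorem L254654 : sm gc N32442 = N32161 := ded_32_19 (flp_b L251810) L248405 (flp_c L240221) L213379 L184684 (flp_b L160264) L110873 (flp_d L112020) (flp_c L149788) L112250 (flp_c L93783) (flp_b L120577) L105515 L105529 L152816 L184342 L184348 (flp_d L184362) (flp_c L207061) L207063 (flp_c L205765) (flp_b L219094) L219090 (flp_c L205320) (flp_d L218910) L218912 L206845 L190093 (flp_c L166126) L166128 (flp_c L185777) L185785 (flp_e L185279) (flp_d L153950) (flp_c L106312) L90303 L141888 (flp_b L19738) (flp_d L19605) (flp_c L41284) (flp_d L90644) (flp_c L90850) (flp_b L107043) (flp_d L107041) (flp_c L106426) L133429 (flp_c L158365) (flp_b L158363) L158367 (flp_c L158371) (flp_d L157779) (flp_c L109121) L109117 L109119 L109478 L158305 L183427 (flp_b L179713) (flp_e L179043) (flp_d L209729) L229534 (flp_d L229526) (flp_c L229510) (flp_b L229506) L229518 (flp_c L237433) (flp_d L249122) (flp_c L249130)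 (flp_b L249152) L249154 (flp_c L241148) (flp_d L241540) (flp_c L241550) (flp_b L247027) (flp_d L254640) L254636 L254642
theorem L254656 : sm gc N30398 = N32443 := rfl
theorem L254658 : sm ga N32443 = N30402 := ded_8_1 (flp_c L236346) (flp_a L236316) L254656
theorem L254660 : sm ge N32443 = N30400 := ded_19_2 (flp_c L236330) (flp_e L236318) L254656
theorem L254662 : sm gg N32443 = N31702 := ded_21_2 L247787 L239231 L254656
theorem L254664 : sm gf N30398 = N32444 := rfl
theorem L254666 : sm ga N32444 = N30403 := ded_11_1 (flp_f L236350) (flp_a L236316) L254664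
theorem L254668 : sm gd N32444 = N30399 := ded_23_1 (flp_f L236320) L236314 L254664
theorem L254670 : sm ge N32444 = N30401 := ded_25_1 (flp_f L236338) (flp_e L236318) L254664
theorem L254672 : sm gg N32444 = N30715 := ded_29_3 (flp_a L254204) L254208 L239231 L254664
theorem L254674 : sm gb N32444 = N32158 := ded_16_1 (flp_f L251768) (flp_b L247577) (flp_f L254648) L254646 L254664
theorem L254676 : sm gb N30402 = N32445 := rfl
theorem L254678 : sm ge N32445 = N30405 := ded_15_2 (flp_b L236366) (flp_e L236348) L254676
theorem L254680 : sm gd N30402 = N32446 := rfl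
theorem L254682 : sm gc N32446 = N32307 := ded_28_6 (flp_d L253922) (flp_a L253928) L248684 L226421 L204772 L207927 L236346 L254680
theorem L254684 : sm gf N30402 = N32447 := rfl
theorem L254686 : sm gc N32447 = N30403 := ded_20_1 (flp_f L236350) L236346 L254684
theorem L254688 : sm ge N32447 = N30407 := ded_25_1 (flp_f L236376) (flp_e L236348) L254684
theorem L254690 : sm gg N31292 = N32447 := ded_29_1 (flp_f L254684) (flp_g L239239) (flp_a L247783) (flp_f L247789)
theorem L254692 : sm gb N30403 = N32448 := rfl
theorem L254694 : sm gd N32448 = N30404 := ded_14_2 (flp_b L236356) (flp_d L236352) L254692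
theorem L254696 : sm ge N32448 = N30408 := ded_15_2 (flp_b L236380) (flp_e L236354) L254692
theorem L254698 : sm gg N32448 = N31599 := ded_17_2 L246835 L236077 (flp_b L254206) L254210 L254692
theorem L254700 : sm ga N32448 = N31596 := ded_7_1 L246811 L238283 (flp_b L236241) (flp_a L236201) (flp_b L251371) (flp_a L251770) (flp_b L254674) L254666 L254692
theorem L254702 : sm gd N30405 = N32449 := rfl
theorem L254704 : sm ga N32449 = N30601 := ded_9_1 (flp_d L241656) (flp_a L251764) L254702
theorem L254706 : sm gb N32449 = N30406 := ded_14_1 (flp_d L236368) L236366 L254702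
theorem L254708 : sm gf N32449 = N31754 := ded_23_2 L248231 L251766 L254702
theorem L254710 : sm gc N31332 = N32449 := ded_32_12 (flp_d L254702) (flp_c L236571) (flp_b L236569) (flp_d L236567) (flp_c L236561) (flp_d L208327) L176881 (flp_b L178953) L178947 (flp_c L179321) (flp_d L210027) L226475 (flp_b L234883) (flp_e L252201) L252199 L248718 L232664 L207259 L191932 (flp_d L191930) (flp_c L191201) (flp_d L159405) (flp_c L110387) (flp_b L92611) L45201 (flp_c L43342) L72432 L43326 L45223 (flp_d L92587) L110337 L159283 L191057 (flp_b L201484) L201486 (flp_c L206090) (flp_d L230704) (flp_c L249056) L249054 (flp_e L226872) (flp_d L198516) (flp_c L167716) (flp_d L116363) (flp_c L95767) (flp_b L84540) (flp_d L84467) (flp_c L95602) (flp_d L115930) (flp_c L167236) L197883 L197885 L202180 (flp_d L224883) (flp_c L243339) L243347 L239891 (flp_c L224269) (flp_d L203749) (flp_c L213009) L213007 (flp_d L205846) L173353 (flp_d L169297) (flp_c L200900) L223817 (flp_e L223799) L200894 (flp_c L227478) L227482 (flp_c L207118) (flp_b L207085) (flp_d L207083) (flp_c L206994) (flp_d L224037) (flp_c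 L224045) L245017 L245019
theorem L254712 : sm ge N31677 = N32449 := ded_10_0 L254704 (flp_e L246669) (flp_a L247521)
theorem L254714 : sm gg N31197 = N32449 := ded_12_0 L254704 (flp_g L247409) L247407
theorem L254716 : sm gg N30405 = N32450 := rfl
theorem L254718 : sm gd N32450 = N31197 := ded_24_1 L254714 (flp_d L254702) L254716
theorem L254720 : sm gf N32450 = N31010 := ded_29_2 (flp_g L241674) L241668 L251766 L254716
theorem L254722 : sm gb N32450 = N31196 := ded_17_1 L243547 L230450 L212793 L236366 L254716
theorem L254724 : sm gb N30407 = N32451 := rfl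
theorem L254726 : sm gd N32451 = N32066 := ded_14_2 L250837 L247809 L254724
theorem L254728 : sm gc N30408 = N32452 := rfl
theorem L254730 : sm gc N30412 = N32453 := rfl
theorem L254732 : sm ga N32453 = N32366 := ded_8_1 (flp_c L254480) L254478 L254730
theorem L254734 : sm ge N32453 = N31597 := ded_19_2 (flp_c L246817) (flp_e L236419) L254730
theorem L254736 : sm gf N32453 = N32423 := ded_20_2 L254469 (flp_f L236417) L254730
theorem L254738 : sm gg N32453 = N32354 := ded_21_2 (flp_c L254455) (flp_g L254461) L254730
theorem L254740 : sm gb N30413 = N32454 := rfl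
theorem L254742 : sm gf N30413 = N32455 := rfl
theorem L254744 : sm ga N32455 = N30422 := ded_11_1 (flp_f L236494) (flp_a L236423) L254742
theorem L254746 : sm gc N32455 = N30414 := ded_20_1 (flp_f L236425) L236421 L254742
theorem L254748 : sm gg N32455 = N30436 := ded_29_1 L236601 (flp_g L236498) (flp_a L236423) L254742
theorem L254750 : sm gb N32455 = N32455 := ded_30_2 L254744 (flp_f L236494) (flp_c L208193) L176510 (flp_a L207630) (flp_f L212209) (flp_c L225627) L225623 L197611 L197218 (flp_c L197615) (flp_b L225623) L225629 L212213 (flp_c L207660) (flp_b L176510) (flp_a L208118) L236425 (flp_c L254746)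
theorem L254751 : sm gf N32454 = N32454 := ded_16_4 (flp_b L254740) L254742 L254750 (flp_f L254742) L254740
theorem L254752 : sm gg N30413 = N32456 := rfl
theorem L254754 : sm ga N32456 = N30423 := ded_12_1 (flp_g L236498) (flp_a L236423) L254752
theorem L254756 : sm gc N32456 = N30415 := ded_21_1 (flp_g L236433) L236421 L254752
theorem L254758 : sm gd N32456 = N30433 := ded_24_1 (flp_g L236577) L236514 L254752
theorem L254760 : sm ge N32456 = N30433 := ded_26_1 (flp_g L236577) L236512 L254752
theorem L254762 : sm gf N30431 = N32456 := ded_29_0 (flp_g L254752) L254742 L254748 L236597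
theorem L254764 : sm gb N30414 = N32457 := rfl
theorem L254766 : sm gd N32457 = N30416 := ded_14_2 (flp_b L236443) (flp_d L236429) L254764
theorem L254768 : sm gc N32457 = N32457 := ded_13_2 (flp_b L254764) (flp_c L254746) L254750 L254746 L254764
theorem L254769 : sm gf N32457 = N32425 := ded_16_2 (flp_b L254490) (flp_f L236417) L236415 L236425 L254764
theorem L254771 : sm gg N32457 = N32426 := ded_17_2 L254508 (flp_g L237471) L224557 (flp_g L236431) L254764
theorem L254773 : sm ga N32457 = N32457 := ded_7_1 (flp_b L254764) L236427 L208199 L181623 L144983 (flp_a L181623) (flp_b L208199) (flp_a L236427) L254764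
theorem L254774 : sm gb N30415 = N32458 := rfl
theorem L254776 : sm gd N32458 = N30417 := ded_14_2 (flp_b L236454) (flp_d L236437) L254774
theorem L254778 : sm ge N32458 = N30435 := ded_15_2 (flp_b L236589) (flp_e L236439) L254774
theorem L254780 : sm gf N32458 = N32448 := ded_16_2 (flp_b L254692) (flp_f L236350) (flp_b L208329) L236441 L254774
theorem L254782 : sm gg N32458 = N31603 := ded_17_2 (flp_b L254463) (flp_g L254461) L236415 L236433 L254774
theorem L254784 : sm gc N31588 = N32458 := ded_32_19 (flp_b L254774) L236437 L208134 (flp_d L176851) (flp_c L208177) L236480 L236482 L208185 L176528 L129004 L145971 (flp_b L146054) (flp_d L146056) (flp_c L163085) (flp_d L195434) (flp_c L214789) L214795 (flp_d L214799) L214801 L184482 (flp_c L164526) L164530 (flp_d L153398) L153396 (flp_d L152560) L155528 L121569 (flp_d L97506) (flp_c L85361) (flp_d L46465) L93367 L111833 (flp_e L159787) L163447 (flp_c L189209) L218604 L243021 (flp_b L243025) (flp_d L243785) L243781 L237831 L210421 L180057 (flp_d L182193) L182191 L178649 L129970 L129974 (flp_d L178601) (flp_c L194456) (flp_d L221716)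 (flp_c L222251) (flp_b L222253) (flp_d L197109) (flp_c L166458) (flp_d L166378) L197055 L225109 (flp_e L228547) (flp_d L245471) (flp_c L245461) (flp_d L245431) (flp_c L245435) (flp_b L245087) L221580 L192405 (flp_d L167888) (flp_c L169101) L200527 L200529 L170084 L117825 (flp_c L111413) L161152 (flp_d L193919) L224059 L246731
theorem L254786 : sm gb N30418 = N32459 := rfl
theorem L254788 : sm gd N32459 = N30421 := ded_14_2 (flp_b L236490) (flp_d L236468) L254786
theorem L254790 : sm ge N32459 = N30421 := ded_15_2 (flp_b L236490) (flp_e L236466) L254786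
theorem L254792 : sm gc N32459 = N32432 := ded_13_2 (flp_b L254566) (flp_c L236207) (flp_b L208169) L236464 L254786
theorem L254794 : sm gg N30418 = N32460 := rfl
theorem L254796 : sm ga N32460 = N30433 := ded_12_1 (flp_g L236577) L236510 L254794
theorem L254798 : sm gc N32460 = N30419 := ded_21_1 (flp_g L236470) L236464 L254794
theorem L254800 : sm gd N32460 = N30423 := ded_24_1 (flp_g L236498) (flp_d L236468) L254794
theorem L254802 : sm ge N32460 = N30423 := ded_26_1 (flp_g L236498) (flp_e L236466) L254794
theorem L254804 : sm gf N30430 = N32460 := ded_29_0 (flp_g L254794) L236587 (flp_g L236579) (flp_a L236559)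
theorem L254806 : sm gb N30419 = N32461 := rfl
theorem L254808 : sm gd N32461 = N30420 := ded_14_2 (flp_b L236480) (flp_d L236474) L254806
theorem L254810 : sm ge N32461 = N30424 := ded_15_2 (flp_b L236502) (flp_e L236476) L254806
theorem L254812 : sm gf N32461 = N31613 := ded_16_2 (flp_b L254273) L254271 L236551 L236478 L254806
theorem L254814 : sm gg N32461 = N32435 := ded_17_2 (flp_b L254582) (flp_g L236211) (flp_b L208169) L236470 L254806
theorem L254816 : sm gc N31568 = N32461 := ded_32_19 (flp_b L254806) L236474 L208177 L176851 (flp_c L208134) L236454 L236456 L208151 L176909 L129022 L146050 L146054 L149598 (flp_c L164396) (flp_d L195719) (flp_c L214627) L214633 (flp_d L214637) L214639 L184874 L164526 L164127 (flp_d L152961) L152959 L152644 L153745 L121234 (flp_d L97333) (flp_c L85292) (flp_d L46429) L93281 L111687 (flp_e L159587) (flp_d L163282) (flp_c L189087) L218500 L242987 (flp_b L242991) (flp_d L244029) L244025 L237821 L210333 L179839 (flp_d L182555) L182553 L178727 L130016 L130020 (flp_d L178617) (flp_c L194649) (flp_d L222150) L222148 (flp_b L221776) (flp_d L197087)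 (flp_c L166412) (flp_d L166328) L196977 L225001 (flp_e L227624) L245155 (flp_c L245145) (flp_d L245125) L245397 (flp_b L245387) L222016 L192715 (flp_d L168326) (flp_c L170106) (flp_b L200525) L200519 L169089 L117215 (flp_c L111359) L161044 (flp_d L193709) L223843 L246565
theorem L254818 : sm ga N30421 = N32462 := rfl
theorem L254820 : sm gc N32462 = N30978 := ded_8_2 (flp_a L253196) (flp_c L236492) L254818
theorem L254822 : sm gg N30982 = N32462 := ded_21_0 L254820 L241424 L241436
theorem L254824 : sm gb N31270 = N32462 := ded_13_5 L254820 (flp_b L241420) L216107 L220394 L244259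
theorem L254826 : sm gf N30421 = N32463 := rfl
theorem L254828 : sm gc N32463 = N32437 := ded_20_1 (flp_f L254606) (flp_c L236492) L254826
theorem L254830 : sm gg N30421 = N32464 := rfl
theorem L254832 : sm ga N32464 = N30982 := ded_12_1 L254822 (flp_a L254818) L254830
theorem L254834 : sm gc N32464 = N30981 := ded_21_1 L253198 (flp_c L236492) L254830
theorem L254836 : sm gb N30423 = N32465 := rfl
theorem L254838 : sm gc N30424 = N32466 := rfl
theorem L254840 : sm ga N32466 = N31354 := ded_8_1 (flp_c L244859) L239165 L254838
theorem L254842 : sm ge N32466 = N31568 := ded_19_2 L254816 L254810 L254838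
theorem L254844 : sm gf N32466 = N32180 := ded_20_2 L251986 L239145 L254838
theorem L254846 : sm gg N32466 = N32439 := ded_21_2 (flp_c L254618) (flp_g L236506) L254838
theorem L254848 : sm gd N32466 = N31355 := ded_28_7 (flp_a L244861) L244865 L244871 (flp_c L236769) L208827 (flp_c L208209) (flp_d L236504) L254838
theorem L254850 : sm gb N30425 = N32467 := rfl
theorem L254852 : sm gd N32467 = N32454 := ded_14_2 (flp_b L254740) (flp_d L236514) L254850
theorem L254854 : sm ge N32467 = N32454 := ded_15_2 (flp_b L254740) (flp_e L236512) L254850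
theorem L254856 : sm gf N32467 = N32467 := ded_23_0 L254852 L254751 (flp_d L254852)
theorem L254857 : sm gf N30425 = N32468 := rfl
theorem L254859 : sm ga N32468 = N30434 := ded_11_1 (flp_f L236587) (flp_a L236510) L254857
theorem L254861 : sm gc N32468 = N30426 := ded_20_1 (flp_f L236516) L236508 L254857
theorem L254863 : sm gd N32468 = N32455 := ded_23_1 (flp_f L254742) (flp_d L236514) L254857
theorem L254865 : sm ge N32468 = N32455 := ded_25_1 (flp_f L254742) (flp_e L236512) L254857
theorem L254867 : sm gg N32468 = N30430 := ded_29_3 L236559 L236573 (flp_g L236577) L254857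
theorem L254869 : sm gb N32468 = N32468 := ded_16_1 (flp_f L254857) L254850 L254856 (flp_b L254850) L254857
theorem L254870 : sm gb N30426 = N32469 := rfl
theorem L254872 : sm gd N32469 = N30427 := ded_14_2 (flp_b L236526) (flp_d L236520) L254870
theorem L254874 : sm ge N32469 = N32457 := ded_15_2 (flp_b L254764) (flp_e L236522) L254870
theorem L254876 : sm gc N32469 = N32469 := ded_13_2 (flp_b L254870) (flp_c L254861) L254869 L254861 L254870
theorem L254877 : sm gf N32469 = N32410 := ded_16_2 L254314 (flp_f L237627) L224435 L236516 L254870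
theorem L254879 : sm gg N32469 = N32408 := ded_17_2 (flp_b L254286) (flp_g L236553) L236551 (flp_g L236524) L254870
theorem L254881 : sm ga N32469 = N32469 := ded_7_1 (flp_b L254870) L236518 L208351 L182097 L145242 (flp_a L182097) (flp_b L208351) (flp_a L236518) L254870
theorem L254882 : sm gc N30429 = N32470 := rfl
theorem L254884 : sm ga N32470 = N32328 := ded_8_1 (flp_c L254298) L254296 L254882
theorem L254886 : sm ge N32470 = N31608 := ded_19_2 (flp_c L246925) (flp_e L236555) L254882
theorem L254888 : sm gf N32470 = N32317 := ded_20_2 (flp_c L254265) L254271 L254882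
theorem L254890 : sm gg N32470 = N32407 := ded_21_2 L254279 (flp_g L236553) L254882
theorem L254892 : sm gb N30430 = N32471 := rfl
theorem L254894 : sm gg N32471 = N32471 := ded_17_2 (flp_b L254892) (flp_g L254867) L254869 L254867 L254892
theorem L254895 : sm gb N30431 = N32472 := rfl
theorem L254897 : sm gd N32472 = N30432 := ded_14_2 (flp_b L236569) (flp_d L236567) L254895
theorem L254899 : sm ge N32472 = N30432 := ded_15_2 (flp_b L236569) (flp_e L236563) L254895
theorem L254901 : sm gc N32472 = N32445 := ded_13_2 (flp_b L254676) (flp_c L236346) (flp_b L208329) L236561 L254895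
theorem L254903 : sm ga N30432 = N32473 := rfl
theorem L254905 : sm gc N32473 = N31005 := ded_8_2 (flp_a L251764) (flp_c L236571) L254903
theorem L254907 : sm gf N32473 = N31009 := ded_30_4 (flp_c L241670) (flp_b L216321) (flp_a L187989) (flp_f L187993) (flp_c L187219) (flp_b L187205) (flp_a L215709) L239379 (flp_c L245313) (flp_b L251964) L251962 (flp_f L246569) L254816 (flp_b L254806) L236472 (flp_f L208337) L208335 L236569 L254903
theorem L254909 : sm gb N31299 = N32473 := ded_13_5 L254905 (flp_b L241654) L216305 L220824 L244473
theorem L254911 : sm gf N30432 = N32474 := rfl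
theorem L254913 : sm ga N32474 = N31009 := ded_11_1 (flp_f L254907) (flp_a L254903) L254911
theorem L254915 : sm gc N32474 = N31008 := ded_20_1 L251766 (flp_c L236571) L254911
theorem L254917 : sm gg N30432 = N32475 := rfl
theorem L254919 : sm gc N32475 = N32450 := ded_21_1 (flp_g L254716) (flp_c L236571) L254917
theorem L254921 : sm gb N30433 = N32476 := rfl
theorem L254923 : sm gc N30435 = N32477 := rfl
theorem L254925 : sm ga N32477 = N31328 := ded_8_1 (flp_c L244674) L239611 L254923
theorem L254927 : sm ge N32477 = N31588 := ded_19_2 L254784 L254778 L254923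
theorem L254929 : sm gf N32477 = N32452 := ded_20_2 (flp_c L254728) (flp_f L236593) L254923
theorem L254931 : sm gg N32477 = N32265 := ded_21_2 L252842 L239577 L254923
theorem L254933 : sm gd N32477 = N31329 := ded_28_7 (flp_a L244676) L244680 L244686 (flp_c L236775) L208833 (flp_c L208357) (flp_d L236591) L254923
theorem L254935 : sm gb N30436 = N32478 := rfl
theorem L254937 : sm gd N32478 = N32471 := ded_14_2 (flp_b L254892) (flp_d L236603) L254935
theorem L254939 : sm ge N32478 = N32471 := ded_15_2 (flp_b L254892) (flp_e L236599) L254935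
theorem L254941 : sm gg N32478 = N32478 := ded_17_2 (flp_b L254935) (flp_g L254748) L254750 L254748 L254935
theorem L254942 : sm gf N30437 = N32479 := rfl
theorem L254944 : sm ga N32479 = N31595 := ded_11_1 L246803 (flp_a L236607) L254942
theorem L254946 : sm gc N32479 = N32402 := ded_20_1 (flp_f L254222) (flp_c L236611) L254942
theorem L254948 : sm gd N32479 = N30961 := ded_23_1 (flp_f L241786) L241780 L254942
theorem L254950 : sm ge N32479 = N30438 := ded_25_1 (flp_f L236615) L236605 L254942
theorem L254952 : sm gg N32479 = N31617 := ded_29_3 L247015 L235021 (flp_g L236613) L254942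
theorem L254954 : sm gb N32479 = N30441 := ded_16_1 (flp_f L236645) L208558 (flp_f L208537) (flp_b L236609) L254942
theorem L254956 : sm gc N30439 = N32480 := rfl
theorem L254958 : sm ge N32480 = N31315 := ded_19_2 L244579 (flp_e L236631) L254956
theorem L254960 : sm gf N32480 = N30444 := ded_20_2 (flp_c L236677) (flp_f L236629) L254956
theorem L254962 : sm gb N32480 = N31281 := ded_13_1 L244321 (flp_b L221506) (flp_c L245035) L245043 L254956
theorem L254964 : sm gd N32480 = N31315 := ded_28_7 L244577 L241704 L216343 (flp_c L208399) L208405 (flp_c L208541) L236627 L254956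
theorem L254966 : sm gd N30442 = N32481 := rfl
theorem L254968 : sm ga N32481 = N30746 := ded_9_1 L239333 (flp_a L236659) L254966
theorem L254970 : sm gb N32481 = N30443 := ded_14_1 (flp_d L236669) (flp_b L236661) L254966
theorem L254972 : sm gf N32481 = N31527 := ded_23_2 L246218 (flp_f L236665) L254966
theorem L254974 : sm gg N32481 = N30540 := ded_24_2 L237569 (flp_g L236667) L254966
theorem L254976 : sm ge N32481 = N31314 := ded_22_2 L244565 L220908 (flp_d L208584) L236657 L254966
theorem L254978 : sm gc N30443 = N32482 := rfl
theorem L254980 : sm ga N32482 = N30444 := ded_8_1 (flp_c L236677) (flp_a L236671) L254978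
theorem L254982 : sm ge N32482 = N31313 := ded_19_2 L244559 (flp_e L236675) L254978
theorem L254984 : sm gg N32482 = N31312 := ded_21_2 (flp_c L244547) (flp_g L236673) L254978
theorem L254986 : sm gd N32482 = N31313 := ded_28_7 L244557 L220896 L191794 (flp_c L191828) L191830 (flp_c L208598) L236669 L254978
theorem L254988 : sm gg N30445 = N32483 := rfl
theorem L254990 : sm ga N32483 = N31606 := ded_12_1 L246913 (flp_a L236689) L254988
theorem L254992 : sm gc N32483 = N32404 := ded_21_1 L254246 (flp_c L236693) L254988
theorem L254994 : sm gd N32483 = N30964 := ded_24_1 L241570 L241564 L254988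
theorem L254996 : sm ge N32483 = N30446 := ded_26_1 (flp_g L236697) L236687 L254988
theorem L254998 : sm gf N31619 = N32483 := ded_29_0 (flp_g L254988) L236695 (flp_g L235141) (flp_a L247037)
theorem L255000 : sm gb N32483 = N30449 := ded_17_1 (flp_g L236727) L208731 (flp_g L208710) (flp_b L236691) L254988
theorem L255002 : sm gc N30447 = N32484 := rfl
theorem L255004 : sm ge N32484 = N31286 := ded_19_2 L244365 (flp_e L236713) L255002
theorem L255006 : sm gg N32484 = N30452 := ded_21_2 (flp_c L236759) (flp_g L236711) L255002
theorem L255008 : sm gb N32484 = N31310 := ded_13_1 L244535 (flp_b L221962) (flp_c L245359) L245367 L255002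
theorem L255010 : sm gd N32484 = N31286 := ded_28_7 L244363 L241470 L216145 (flp_c L208461) L208467 (flp_c L208714) L236709 L255002
theorem L255012 : sm gd N30450 = N32485 := rfl
theorem L255014 : sm ga N32485 = N30676 := ded_9_1 L238657 (flp_a L236741) L255012
theorem L255016 : sm gb N32485 = N30451 := ded_14_1 (flp_d L236751) (flp_b L236743) L255012
theorem L255018 : sm gf N32485 = N30523 := ded_23_2 L237423 (flp_f L236747) L255012
theorem L255020 : sm gg N32485 = N31473 := ded_24_2 L245807 (flp_g L236749) L255012
theorem L255022 : sm ge N32485 = N31285 := ded_22_2 L244351 L220478 (flp_d L208757) L236739 L255012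
theorem L255024 : sm gc N30451 = N32486 := rfl
theorem L255026 : sm ga N32486 = N30452 := ded_8_1 (flp_c L236759) (flp_a L236753) L255024
theorem L255028 : sm ge N32486 = N31284 := ded_19_2 L244345 (flp_e L236757) L255024
theorem L255030 : sm gf N32486 = N31283 := ded_20_2 (flp_c L244333) (flp_f L236755) L255024
theorem L255032 : sm gd N32486 = N31284 := ded_28_7 L244343 L220466 L191413 (flp_c L191447) L191449 (flp_c L208771) L236751 L255024
theorem L255034 : sm gg N30456 = N32487 := rfl
theorem L255036 : sm ga N32487 = N30460 := ded_12_1 (flp_g L236837) (flp_a L236797) L255034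
theorem L255038 : sm gc N32487 = N30979 := ded_21_1 (flp_g L241426) (flp_c L236803) L255034
theorem L255040 : sm gd N32487 = N30457 := ded_24_1 (flp_g L236805) L236795 L255034
theorem L255042 : sm gf N31152 = N32487 := ded_29_0 (flp_g L255034) L236801 L241886 (flp_a L243041)
theorem L255044 : sm gb N30462 = N32488 := rfl
theorem L255046 : sm gd N32488 = N31472 := ded_14_2 L245803 L241890 L255044
theorem L255048 : sm ge N32488 = N30579 := ded_15_2 (flp_b L237927) (flp_e L236861) L255044
theorem L255050 : sm gc N32488 = N30668 := ded_13_2 (flp_b L238591) (flp_c L211463) L208885 (flp_c L236859) L255044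
theorem L255052 : sm gf N32488 = N32327 := ded_16_2 (flp_b L253473) L236853 (flp_b L236843) L236855 L255044
theorem L255054 : sm gg N32488 = N31459 := ded_17_2 (flp_b L245713) L222473 L222381 (flp_g L236863) L255044
theorem L255056 : sm ga N32488 = N31720 := ded_7_1 (flp_b L247942) (flp_a L225877) (flp_b L197767) (flp_a L167194) L197849 L226035 (flp_b L226041) (flp_a L236857) L255044
theorem L255058 : sm gf N30464 = N32489 := rfl
theorem L255060 : sm ga N32489 = N30468 := ded_11_1 (flp_f L236921) (flp_a L236881) L255058
theorem L255062 : sm gc N32489 = N31006 := ded_20_1 (flp_f L241660) (flp_c L236887) L255058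
theorem L255064 : sm gd N32489 = N30465 := ded_23_1 (flp_f L236889) L236879 L255058
theorem L255066 : sm gg N32489 = N31162 := ded_29_3 L243167 (flp_f L242250) (flp_g L236885) L255058
theorem L255068 : sm gb N30470 = N32490 := rfl
theorem L255070 : sm gd N32490 = N31523 := ded_14_2 L246194 L242254 L255068
theorem L255072 : sm ge N32490 = N30586 := ded_15_2 (flp_b L237969) (flp_e L236945) L255068
theorem L255074 : sm gc N32490 = N30648 := ded_13_2 (flp_b L238435) (flp_c L211264) L208929 (flp_c L236943) L255068
theorem L255076 : sm gf N32490 = N31513 := ded_16_2 (flp_b L246118) (flp_f L223287) L223195 L236947 L255068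
theorem L255078 : sm gg N32490 = N32365 := ded_17_2 (flp_b L253840) L236937 (flp_b L236927) L236939 L255068
theorem L255080 : sm ga N32490 = N31765 := ded_7_1 (flp_b L248320) (flp_a L226149) (flp_b L197947) (flp_a L167332) L198029 L226321 (flp_b L226327) (flp_a L236941) L255068
theorem L255082 : sm gb N30476 = N32491 := rfl
theorem L255084 : sm gd N32491 = N31429 := ded_14_2 L245493 (flp_d L237003) L255082
theorem L255086 : sm ge N32491 = N30597 := ded_15_2 (flp_b L238037) (flp_e L237005) L255082
theorem L255088 : sm gc N32491 = N30609 := ded_13_2 (flp_b L238117) L210913 (flp_b L208999) (flp_c L237001) L255082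
theorem L255090 : sm gf N32491 = N32070 := ded_16_2 L250881 (flp_f L250548) (flp_b L236991) L236997 L255082
theorem L255092 : sm gg N32491 = N31428 := ded_17_2 L245485 (flp_g L224315) (flp_b L236983) L237007 L255082
theorem L255094 : sm ga N32491 = N32055 := ded_30_3 L250751 L228667 (flp_b L225001) L196979 L196987 L196991 L166342 (flp_a L180549) (flp_f L180547) L144315 (flp_b L128771) L101911 L110087 L110091 L128805 L177787 L208989 (flp_c L237001) L255082
theorem L255096 : sm gb N30483 = N32492 := rfl
theorem L255098 : sm gd N32492 = N31392 := ded_14_2 L245177 (flp_d L237073) L255096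
theorem L255100 : sm ge N32492 = N30609 := ded_15_2 (flp_b L238117) (flp_e L237075) L255096
theorem L255102 : sm gc N32492 = N30597 := ded_13_2 (flp_b L238037) L210829 (flp_b L209071) (flp_c L237071) L255096
theorem L255104 : sm gf N32492 = N31391 := ded_16_2 L245169 (flp_f L224369) (flp_b L237053) (flp_f L237077) L255096
theorem L255106 : sm gg N32492 = N31950 := ded_17_2 L249863 L249464 (flp_b L237061) L237067 L255096
theorem L255108 : sm ga N32492 = N31927 := ded_30_3 L249691 (flp_c L228125) (flp_b L228123) (flp_a L221414) (flp_f L221422) (flp_c L199321) (flp_b L190975) L190967 (flp_f L190961) L199367 L199375 (flp_a L211465) L238601 L238605 L211477 L209087 (flp_f L209069) (flp_c L237071) L255096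
theorem L255110 : sm gc N30485 = N32493 := rfl
theorem L255112 : sm ga N32493 = N31434 := ded_8_1 (flp_c L245521) (flp_a L237091) L255110
theorem L255114 : sm ge N32493 = N31437 := ded_19_2 (flp_c L245541) (flp_e L237097) L255110
theorem L255116 : sm gf N32493 = N30758 := ded_20_2 L239445 (flp_f L237093) L255110
theorem L255118 : sm gg N32493 = N30536 := ded_21_2 (flp_c L237543) (flp_g L237095) L255110
theorem L255120 : sm gc N30488 = N32494 := rfl
theorem L255122 : sm ga N32494 = N31397 := ded_8_1 (flp_c L245205) (flp_a L237125) L255120
theorem L255124 : sm ge N32494 = N31402 := ded_19_2 (flp_c L245245) (flp_e L237131) L255120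
theorem L255126 : sm gf N32494 = N30519 := ded_20_2 (flp_c L237397) (flp_f L237127) L255120
theorem L255128 : sm gg N32494 = N30696 := ded_21_2 L238867 (flp_g L237129) L255120
theorem L255130 : sm gc N30491 = N32495 := rfl
theorem L255132 : sm ge N32495 = N30896 := ded_19_2 (flp_c L240635) L237163 L255130
theorem L255134 : sm gf N32495 = N31477 := ded_20_2 L245851 (flp_f L237161) L255130
theorem L255136 : sm gb N32495 = N30894 := ded_13_1 L240617 (flp_b L216976) (flp_c L216960) (flp_b L237159) L255130
theorem L255138 : sm gb N30492 = N32496 := rfl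
theorem L255140 : sm gd N32496 = N31471 := ded_14_2 L245799 (flp_d L237173) L255138
theorem L255142 : sm ge N32496 = N30648 := ded_15_2 (flp_b L238435) (flp_e L237169) L255138
theorem L255144 : sm gc N32496 = N30586 := ded_13_2 (flp_b L237969) L210737 L209223 L237165 L255138
theorem L255146 : sm gg N32496 = N31765 := ded_17_2 (flp_b L248320) (flp_g L245411) (flp_b L245413) L238063 L255138
theorem L255148 : sm ga N32496 = N32365 := ded_7_1 (flp_b L253840) L234241 (flp_b L233935) (flp_a L226053) (flp_b L197859) (flp_a L187483) (flp_b L209231) (flp_a L237167) L255138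
theorem L255150 : sm gc N30495 = N32497 := rfl
theorem L255152 : sm ge N32497 = N30837 := ded_19_2 (flp_c L240133) L237197 L255150
theorem L255154 : sm gg N32497 = N31531 := ded_21_2 L246262 (flp_g L237195) L255150
theorem L255156 : sm gb N32497 = N30836 := ded_13_1 L240123 (flp_b L217532) (flp_c L217516) (flp_b L237193) L255150
theorem L255158 : sm gb N30496 = N32498 := rfl
theorem L255160 : sm gd N32498 = N31522 := ded_14_2 L246190 (flp_d L237207) L255158
theorem L255162 : sm ge N32498 = N30668 := ded_15_2 (flp_b L238591) (flp_e L237203) L255158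
theorem L255164 : sm gc N32498 = N30579 := ded_13_2 (flp_b L237927) L210641 L209253 L237199 L255158
theorem L255166 : sm gf N32498 = N31720 := ded_16_2 (flp_b L247942) (flp_f L245103) (flp_b L245107) L238141 L255158
theorem L255168 : sm ga N32498 = N32327 := ded_7_1 (flp_b L253473) L233497 (flp_b L233187) (flp_a L225785) (flp_b L197687) (flp_a L187411) (flp_b L209261) (flp_a L237201) L255158
theorem L255170 : sm gc N30500 = N32499 := rfl
theorem L255172 : sm ga N32499 = N30501 := ded_8_1 (flp_c L237247) (flp_a L237241) L255170
theorem L255174 : sm ge N32499 = N30818 := ded_19_2 L240009 (flp_e L237245) L255170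
theorem L255176 : sm gf N32499 = N30817 := ded_20_2 L240003 (flp_f L237243) L255170
theorem L255178 : sm gb N32499 = N31120 := ded_13_1 L242765 L234119 (flp_c L253679) L253687 L255170
theorem L255180 : sm gd N32495 = N32499 := ded_28_1 (flp_c L255170) (flp_d L237239) (flp_c L209271) (flp_d L199453) L228292 L250588 L250590 L255130
theorem L255182 : sm gb N30501 = N32500 := rfl
theorem L255184 : sm ge N32500 = N30826 := ded_15_2 (flp_b L240051) (flp_e L237249) L255182
theorem L255186 : sm gc N32500 = N32500 := ded_13_2 (flp_b L255182) (flp_c L237247) L209281 L237247 L255182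
theorem L255187 : sm ga N32500 = N32500 := ded_7_1 (flp_b L255182) (flp_a L255172) L255178 L242763 L217863 (flp_a L242763) (flp_b L255178) L255172 L255182
theorem L255188 : sm gd N30501 = N32501 := rfl
theorem L255190 : sm ga N32501 = N32495 := ded_9_1 L255180 L255172 L255188
theorem L255192 : sm gf N32501 = N30825 := ded_23_2 (flp_d L240047) (flp_f L237251) L255188
theorem L255194 : sm gc N32037 = N32501 := ded_28_0 (flp_d L255188) (flp_c L237247) (flp_d L209279) (flp_c L178017) (flp_d L177963) L209211 L237157 (flp_a L250590)
theorem L255196 : sm gc N30503 = N32502 := rfl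
theorem L255198 : sm ga N32502 = N30504 := ded_8_1 (flp_c L237273) (flp_a L237267) L255196
theorem L255200 : sm ge N32502 = N30877 := ded_19_2 L240501 (flp_e L237271) L255196
theorem L255202 : sm gg N32502 = N30875 := ded_21_2 L240489 (flp_g L237269) L255196
theorem L255204 : sm gb N32502 = N31108 := ded_13_1 L242638 L233363 (flp_c L253312) L253320 L255196
theorem L255206 : sm gd N32497 = N32502 := ded_28_1 (flp_c L255196) (flp_d L237265) (flp_c L209294) (flp_d L198901) L227350 L249532 L249534 L255150
theorem L255208 : sm gb N30504 = N32503 := rfl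
theorem L255210 : sm ge N32503 = N30886 := ded_15_2 (flp_b L240551) (flp_e L237275) L255208
theorem L255212 : sm gc N32503 = N32503 := ded_13_2 (flp_b L255208) (flp_c L237273) L209304 L237273 L255208
theorem L255213 : sm ga N32503 = N32503 := ded_7_1 (flp_b L255208) (flp_a L255198) L255204 L242636 L217756 (flp_a L242636) (flp_b L255204) L255198 L255208
theorem L255214 : sm gd N30504 = N32504 := rfl
theorem L255216 : sm ga N32504 = N32497 := ded_9_1 L255206 L255198 L255214
theorem L255218 : sm gg N32504 = N30883 := ded_24_2 (flp_d L240533) (flp_g L237277) L255214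
theorem L255220 : sm gc N31908 = N32504 := ded_28_0 (flp_d L255214) (flp_c L237273) (flp_d L209302) (flp_c L178057) (flp_d L177989) L209241 L237191 (flp_a L249534)
theorem L255222 : sm gf N30506 = N32505 := rfl
theorem L255224 : sm gc N32505 = N30507 := ded_20_1 (flp_f L237289) L237285 L255222
theorem L255226 : sm gd N32505 = N32221 := ded_23_1 (flp_f L252385) (flp_d L246000) L255222
theorem L255228 : sm gg N32505 = N32220 := ded_29_3 L252371 (flp_f L238171) (flp_g L237287) L255222
theorem L255230 : sm gg N30511 = N32506 := rfl
theorem L255232 : sm gc N32506 = N30512 := ded_21_1 (flp_g L237330) L237326 L255230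
theorem L255234 : sm gd N32506 = N32295 := ded_24_1 L253168 (flp_d L246399) L255230
theorem L255236 : sm gf N32294 = N32506 := ded_29_0 (flp_g L255230) L237328 L238263 (flp_a L253152)
theorem L255238 : sm gc N30518 = N32507 := rfl
theorem L255240 : sm ga N32507 = N31405 := ded_8_1 L245259 L237393 L255238
theorem L255242 : sm ge N32507 = N30519 := ded_19_2 (flp_c L237397) (flp_e L237389) L255238
theorem L255244 : sm gf N32507 = N31402 := ded_20_2 (flp_c L245245) L237395 L255238
theorem L255246 : sm gg N32507 = N32225 := ded_21_2 (flp_c L252417) (flp_g L237391) L255238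
theorem L255248 : sm gb N32507 = N30787 := ded_13_1 (flp_c L239729) (flp_b L212835) (flp_c L209703) L237385 L255238
theorem L255250 : sm gd N32142 = N32507 := ded_32_16 (flp_c L255238) L237387 L210255 L201838 (flp_d L221882) L221880 L221510 L224155 L246745 L246749 L224179 (flp_c L196391) L196389 L175031 (flp_b L173522) (flp_d L164799) (flp_c L164795) L113945 L113957 (flp_b L162044) L174368 (flp_c L174360) (flp_d L122840) (flp_c L98282) L98276 (flp_d L112172) L162028 (flp_d L183173) L183171 L152600 L152596 L152184 L112400 (flp_c L109614) L158486 (flp_e L188315) L210147 (flp_c L210143) L179421 L130448 L179383 (flp_d L203763) L228778 (flp_d L228772) (flp_c L199795) L168606 (flp_d L116819) (flp_c L95995) L84652 L84881 L96546 L118029 L170540 L183067 L183063 L213927 L213929 (flp_c L233131) (flp_d L233471) L233473 (flp_b L223102) L223106 (flp_d L238540) L238544 (flp_d L244784) (flp_c L244973) (flp_b L244967) L221418 L210809 L180589 (flp_c L165550) (flp_b L196458) (flp_d L201672) L201676 (flp_d L200385) (flp_c L229634) (flp_b L251590)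
theorem L255252 : sm gb N30520 = N32508 := rfl
theorem L255254 : sm gg N32508 = N32508 := ded_17_2 (flp_b L255252) (flp_g L237859) L237861 L237859 L255252
theorem L255255 : sm ge N30520 = N32509 := rfl
theorem L255257 : sm ga N32509 = N30646 := ded_10_1 L238423 (flp_a L237401) L255255
theorem L255259 : sm gc N32509 = N30521 := ded_19_1 (flp_e L237403) L237399 L255255
theorem L255261 : sm gf N32509 = N30602 := ded_25_2 (flp_e L253365) (flp_f L253367) L255255
theorem L255263 : sm gg N32509 = N30643 := ded_26_2 L238398 L237859 L255255
theorem L255265 : sm ge N30524 = N32510 := rfl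
theorem L255267 : sm gb N32510 = N30525 := ded_15_1 (flp_e L237435) L237431 L255265
theorem L255269 : sm gc N32510 = N32135 := ded_19_1 (flp_e L251508) (flp_c L237433) L255265
theorem L255271 : sm gd N32510 = N31778 := ded_22_1 L248429 (flp_d L226988) (flp_e L249124) L249122 L255265
theorem L255273 : sm gb N30526 = N32511 := rfl
theorem L255275 : sm gd N32511 = N31855 := ded_14_2 (flp_b L249062) (flp_d L237449) L255273
theorem L255277 : sm gg N32511 = N32377 := ded_17_2 (flp_b L253960) (flp_g L234743) L234745 (flp_g L237451) L255273
theorem L255279 : sm gc N30527 = N32512 := rfl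
theorem L255281 : sm ga N32512 = N31011 := ded_8_1 (flp_c L241676) L237463 L255279
theorem L255283 : sm ge N32512 = N31013 := ded_19_2 (flp_c L241696) (flp_e L237457) L255279
theorem L255285 : sm gf N32512 = N31312 := ded_20_2 (flp_c L244547) (flp_f L237459) L255279
theorem L255287 : sm gg N32512 = N32480 := ded_21_2 (flp_c L254956) (flp_g L237461) L255279
theorem L255289 : sm gd N32512 = N31013 := ded_28_7 L241698 (flp_c L216337) L187263 L187273 (flp_d L208437) (flp_c L209781) (flp_d L237455) L255279
theorem L255291 : sm gg N30531 = N32513 := rfl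
theorem L255293 : sm ga N32513 = N31418 := ded_12_1 L245383 L240541 L255291
theorem L255295 : sm gc N32513 = N30841 := ded_21_1 (flp_g L240163) (flp_c L237499) L255291
theorem L255297 : sm gd N32513 = N32381 := ded_24_1 (flp_g L253998) L249042 L255291
theorem L255299 : sm ge N32513 = N32506 := ded_26_1 (flp_g L255230) (flp_e L237497) L255291
theorem L255301 : sm gf N32513 = N32378 := ded_29_2 L253972 L241040 L238241 L255291
theorem L255303 : sm gb N30532 = N32514 := rfl
theorem L255305 : sm gd N32514 = N31876 := ded_14_2 (flp_b L249244) (flp_d L237507) L255303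
theorem L255307 : sm gc N30533 = N32515 := rfl
theorem L255309 : sm ga N32515 = N31037 := ded_8_1 L243209 L243199 L255307
theorem L255311 : sm ge N32515 = N31038 := ded_19_2 L243195 L243193 L255307
theorem L255313 : sm gf N32515 = N31150 := ded_20_2 (flp_c L243021) (flp_f L237515) L255307
theorem L255315 : sm gg N32515 = N30842 := ded_21_2 (flp_c L240173) (flp_g L237517) L255307
theorem L255317 : sm gd N32515 = N32130 := ded_28_7 L251455 L231838 L202096 (flp_c L191910) L191912 L209869 (flp_d L237513) L255307
theorem L255319 : sm gc N30535 = N32516 := rfl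
theorem L255321 : sm ga N32516 = N31440 := ded_8_1 L245555 L237539 L255319
theorem L255323 : sm ge N32516 = N30536 := ded_19_2 (flp_c L237543) (flp_e L237535) L255319
theorem L255325 : sm gf N32516 = N32121 := ded_20_2 (flp_c L251355) (flp_f L237537) L255319
theorem L255327 : sm gg N32516 = N31437 := ded_21_2 (flp_c L245541) L237541 L255319
theorem L255329 : sm gb N32516 = N30842 := ded_13_1 (flp_c L240173) (flp_b L213329) (flp_c L209905) L237531 L255319
theorem L255331 : sm gd N32239 = N32516 := ded_32_16 (flp_c L255319) L237533 L210343 L200093 (flp_d L221428) (flp_c L221966) L221968 L224201 L246759 L246763 L224225 L196561 L195978 (flp_c L175031) (flp_b L175029) (flp_d L165412) (flp_c L165408) L114506 L114518 (flp_b L161814) L172861 (flp_c L172853) (flp_d L121913) (flp_c L97704) L97702 (flp_d L111936) L161798 (flp_d L183181) L183179 L152192 (flp_d L152608) L152606 L112644 (flp_c L109555) L158415 (flp_e L188249) (flp_d L210099) (flp_c L210093) L179371 (flp_c L130448) L179433 (flp_d L204275) L227845 (flp_d L227839) (flp_c L199181) L168202 (flp_d L116601) (flp_c L95886) L84600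 L84759 L96259 L117415 L169525 L182922 (flp_c L183105) L214240 L214242 (flp_c L233879) (flp_d L234225) L234227 L223090 L223096 (flp_d L238384) L238388 (flp_d L244969) L244973 (flp_b L244782) L221249 L210893 L180657 (flp_c L164929) (flp_b L196045) (flp_d L203309) L203313 (flp_d L202076) (flp_c L231772) (flp_b L252576)
theorem L255333 : sm gb N30537 = N32517 := rfl
theorem L255335 : sm gf N32517 = N32517 := ded_16_2 (flp_b L255333) L237884 L237886 (flp_f L237884) L255333
theorem L255336 : sm ge N30537 = N32518 := rfl
theorem L255338 : sm ga N32518 = N30665 := ded_10_1 L238567 (flp_a L237547) L255336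
theorem L255340 : sm gc N32518 = N30538 := ded_19_1 (flp_e L237549) L237545 L255336
theorem L255342 : sm gf N32518 = N30663 := ded_25_2 L238554 (flp_f L237884) L255336
theorem L255344 : sm gg N32518 = N30590 := ded_26_2 (flp_e L253732) L253734 L255336
theorem L255346 : sm ge N30541 = N32519 := rfl
theorem L255348 : sm gb N32519 = N30542 := ded_15_1 (flp_e L237581) L237577 L255346
theorem L255350 : sm gc N32519 = N32233 := ded_19_1 (flp_e L252506) (flp_c L237579) L255346
theorem L255352 : sm gd N32519 = N31734 := ded_22_1 L248061 (flp_d L226577) (flp_e L248782) L248780 L255346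
theorem L255354 : sm gb N30543 = N32520 := rfl
theorem L255356 : sm gd N32520 = N31813 := ded_14_2 (flp_b L248724) (flp_d L237595) L255354
theorem L255358 : sm gf N32520 = N32392 := ded_16_2 (flp_b L254110) L234881 L234883 L237597 L255354
theorem L255360 : sm ga N32511 = N32520 := ded_9_3 L255356 L249068 (flp_d L255275)
theorem L255362 : sm gc N30544 = N32521 := rfl
theorem L255364 : sm ga N32521 = N30984 := ded_8_1 (flp_c L241442) L237609 L255362
theorem L255366 : sm ge N32521 = N30986 := ded_19_2 (flp_c L241462) (flp_e L237603) L255362
theorem L255368 : sm gf N32521 = N32484 := ded_20_2 (flp_c L255002) L237607 L255362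
theorem L255370 : sm gg N32521 = N31283 := ded_21_2 (flp_c L244333) (flp_g L237605) L255362
theorem L255372 : sm gd N32521 = N30986 := ded_28_7 L241464 (flp_c L216139) L187079 L187089 (flp_d L208648) (flp_c L209983) (flp_d L237601) L255362
theorem L255374 : sm gf N30548 = N32522 := rfl
theorem L255376 : sm ga N32522 = N31380 := ded_11_1 L245071 (flp_a L240065) L255374
theorem L255378 : sm gc N32522 = N30783 := ded_20_1 (flp_f L239685) (flp_c L237645) L255374
theorem L255380 : sm gd N32522 = N32395 := ded_23_1 L254140 L248704 L255374
theorem L255382 : sm ge N32522 = N32505 := ded_25_1 (flp_f L255222) (flp_e L237643) L255374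
theorem L255384 : sm gg N32391 = N32522 := ded_29_1 (flp_f L255374) (flp_g L238149) L240863 (flp_f L254108)
theorem L255386 : sm gb N30549 = N32523 := rfl
theorem L255388 : sm gd N32523 = N31834 := ded_14_2 (flp_b L248886) (flp_d L237653) L255386
theorem L255390 : sm gc N30550 = N32524 := rfl
theorem L255392 : sm ga N32524 = N31074 := ded_8_1 L243083 L243073 L255390
theorem L255394 : sm ge N32524 = N31075 := ded_19_2 L243069 L243067 L255390
theorem L255396 : sm gf N32524 = N30787 := ded_20_2 (flp_c L239729) (flp_f L237661) L255390
theorem L255398 : sm gg N32524 = N31146 := ded_21_2 (flp_c L242987) (flp_g L237663) L255390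
theorem L255400 : sm gd N32524 = N32144 := ded_28_7 L251604 L229736 L200419 (flp_c L191535) L191537 L210071 (flp_d L237659) L255390
theorem L255402 : sm gb N30573 = N32525 := rfl
theorem L255404 : sm gd N32525 = N30574 := ded_14_2 (flp_b L237897) (flp_d L237893) L255402
theorem L255406 : sm gf N32525 = N32438 := ded_16_2 (flp_b L254614) (flp_f L247717) L247719 L237895 L255402
theorem L255408 : sm ga N30574 = N32526 := rfl
theorem L255410 : sm gc N32526 = N31972 := ded_8_2 (flp_a L250017) (flp_c L237899) L255408
theorem L255412 : sm gb N32526 = N31334 := ded_7_2 L244706 (flp_b L244279) (flp_a L248019) L248025 (flp_a L237915) (flp_b L210633) (flp_a L210597) L237897 L255408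
theorem L255414 : sm ga N30576 = N32527 := rfl
theorem L255416 : sm gd N32527 = N30577 := ded_9_2 (flp_a L237915) (flp_d L237911) L255414
theorem L255418 : sm gg N32527 = N31621 := ded_12_2 (flp_a L247053) (flp_g L237913) L255414
theorem L255420 : sm gb N31280 = N32527 := ded_14_3 L255416 (flp_b L248025) L248021
theorem L255422 : sm gc N30576 = N32528 := rfl
theorem L255424 : sm gg N32528 = N31622 := ded_21_2 (flp_c L247057) (flp_g L237913) L255422
theorem L255426 : sm gf N30576 = N32529 := rfl
theorem L255428 : sm gd N32529 = N30578 := ded_23_1 (flp_f L237919) (flp_d L237911) L255426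
theorem L255430 : sm gg N32529 = N32326 := ded_29_3 L253467 (flp_f L247059) (flp_g L237913) L255426
theorem L255432 : sm gb N30578 = N32530 := rfl
theorem L255434 : sm ge N32530 = N32327 := ded_15_2 (flp_b L253473) (flp_e L237923) L255432
theorem L255436 : sm gc N32530 = N31720 := ded_13_2 (flp_b L247942) (flp_c L227340) L233539 (flp_c L237921) L255432
theorem L255438 : sm gf N32530 = N30579 := ded_16_2 (flp_b L237927) (flp_f L210637) L210633 L237919 L255432
theorem L255440 : sm ga N32530 = N30668 := ded_7_1 (flp_b L238591) L211465 (flp_b L199375) L199369 L219854 L243749 (flp_b L247083) L247077 L255432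
theorem L255442 : sm ga N30579 = N32531 := rfl
theorem L255444 : sm gc N32531 = N32327 := ded_8_2 (flp_a L255168) L255164 L255442
theorem L255446 : sm gd N32531 = N31395 := ded_9_2 (flp_a L245679) L245613 L255442
theorem L255448 : sm ge N32531 = N31720 := ded_10_2 (flp_a L255056) L255048 L255442
theorem L255450 : sm gf N32531 = N30668 := ded_11_2 (flp_a L255440) L255438 L255442
theorem L255452 : sm gb N32531 = N31225 := ded_7_2 (flp_a L243811) (flp_b L219906) (flp_a L191075) L220040 (flp_a L225653) L225655 (flp_a L210639) L237927 L255442
theorem L255454 : sm gb N30580 = N32532 := rfl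
theorem L255456 : sm gd N32532 = N30581 := ded_14_2 (flp_b L237939) (flp_d L237935) L255454
theorem L255458 : sm gg N32532 = N32451 := ded_17_2 (flp_b L254724) L247801 L247803 (flp_g L237937) L255454
theorem L255460 : sm ga N30581 = N32533 := rfl
theorem L255462 : sm gc N32533 = N31932 := ded_8_2 L250009 (flp_c L237941) L255460
theorem L255464 : sm gb N32533 = N31360 := ded_7_2 L244891 (flp_b L244493) (flp_a L248385) L248393 (flp_a L237957) (flp_b L210729) (flp_a L210693) L237939 L255460
theorem L255466 : sm ga N30583 = N32534 := rfl
theorem L255468 : sm gd N32534 = N30584 := ded_9_2 (flp_a L237957) (flp_d L237953) L255466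
theorem L255470 : sm gf N32534 = N31630 := ded_11_2 (flp_a L247120) (flp_f L237955) L255466
theorem L255472 : sm gb N31309 = N32534 := ded_14_3 L255468 (flp_b L248393) L248389
theorem L255474 : sm gc N30583 = N32535 := rfl
theorem L255476 : sm gf N32535 = N31631 := ded_20_2 (flp_c L247124) (flp_f L237955) L255474
theorem L255478 : sm gg N30583 = N32536 := rfl
theorem L255480 : sm gd N32536 = N30585 := ded_24_1 (flp_g L237961) (flp_d L237953) L255478
theorem L255482 : sm gf N32364 = N32536 := ded_29_0 (flp_g L255478) L237955 L247126 (flp_a L253834)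
theorem L255484 : sm gb N30585 = N32537 := rfl
theorem L255486 : sm ge N32537 = N32365 := ded_15_2 (flp_b L253840) (flp_e L237965) L255484
theorem L255488 : sm gc N32537 = N31765 := ded_13_2 (flp_b L248320) (flp_c L228282) L234287 (flp_c L237963) L255484
theorem L255490 : sm gg N32537 = N30586 := ded_17_2 (flp_b L237969) (flp_g L210733) L210729 L237961 L255484
theorem L255492 : sm ga N32537 = N30648 := ded_7_1 (flp_b L238435) L211266 (flp_b L198783) L198777 L220062 L243985 (flp_b L247150) L247144 L255484
theorem L255494 : sm ga N30586 = N32538 := rfl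
theorem L255496 : sm gc N32538 = N32365 := ded_8_2 (flp_a L255148) L255144 L255494
theorem L255498 : sm gd N32538 = N31432 := ded_9_2 (flp_a L246038) L246034 L255494
theorem L255500 : sm ge N32538 = N31765 := ded_10_2 (flp_a L255080) L255072 L255494
theorem L255502 : sm gg N32538 = N30648 := ded_12_2 (flp_a L255492) L255490 L255494
theorem L255504 : sm gb N32538 = N31249 := ded_7_2 (flp_a L244055) (flp_b L220122) (flp_a L191219) L220238 (flp_a L225749) L225751 (flp_a L210735) L237969 L255494
theorem L255506 : sm gd N30590 = N32539 := rfl
theorem L255508 : sm gb N32539 = N31979 := ded_14_1 (flp_d L250328) L250326 L255506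
theorem L255510 : sm gd N30592 = N32540 := rfl
theorem L255512 : sm ga N32540 = N32047 := ded_9_1 L250691 L250542 L255510
theorem L255514 : sm gb N32540 = N30593 := ded_14_1 (flp_d L238007) L238003 L255510
theorem L255516 : sm gf N32540 = N31435 := ded_23_2 (flp_d L250532) L250536 L255510
theorem L255518 : sm ge N32540 = N31441 := ded_22_2 L245565 L228455 (flp_d L250484) L250486 L255510
theorem L255520 : sm gc N30593 = N32541 := rfl
theorem L255522 : sm ga N32541 = N31545 := ded_8_1 (flp_c L246371) (flp_a L238009) L255520
theorem L255524 : sm ge N32541 = N31539 := ded_19_2 L246336 L238013 L255520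
theorem L255526 : sm gf N32541 = N31531 := ded_20_2 L246262 (flp_f L238011) L255520
theorem L255528 : sm gg N30593 = N32542 := rfl
theorem L255530 : sm ga N32542 = N31546 := ded_12_1 (flp_g L246379) (flp_a L238009) L255528
theorem L255532 : sm gd N32542 = N30594 := ded_24_1 (flp_g L238015) L238007 L255528
theorem L255534 : sm ge N32542 = N31542 := ded_26_1 (flp_g L246347) L238013 L255528
theorem L255536 : sm gf N31908 = N32542 := ded_29_0 (flp_g L255528) L238011 (flp_g L237195) (flp_a L249534)
theorem L255538 : sm gb N30594 = N32543 := rfl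
theorem L255540 : sm gf N32543 = N32543 := ded_16_2 (flp_b L255538) (flp_f L238021) L227358 L238021 L255538
theorem L255541 : sm ga N32543 = N32517 := ded_7_1 (flp_b L255333) L237547 (flp_b L228505) L228499 L228441 L199560 (flp_b L226743) (flp_a L238017) L255538
theorem L255543 : sm gb N30595 = N32544 := rfl
theorem L255545 : sm gd N32544 = N31366 := ded_14_2 (flp_b L244935) (flp_d L238025) L255543
theorem L255547 : sm ge N32544 = N31400 := ded_15_2 (flp_b L250538) L250534 L255543
theorem L255549 : sm gc N32544 = N31401 := ded_13_2 L247091 (flp_c L250875) L250881 L250544 L255543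
theorem L255551 : sm gf N32544 = N30662 := ded_16_2 (flp_b L238538) (flp_f L236989) L250490 (flp_f L250488) L255543
theorem L255553 : sm ga N32544 = N31436 := ded_7_1 L247158 (flp_a L247152) (flp_b L225109) L197057 L166384 (flp_a L180597) L210821 L238023 L255543
theorem L255555 : sm gg N31480 = N32544 := ded_24_0 L255545 (flp_g L246367) L246363
theorem L255557 : sm gb N30598 = N32545 := rfl
theorem L255559 : sm gd N32545 = N31163 := ded_14_2 (flp_b L248577) (flp_d L248579) L255557
theorem L255561 : sm ge N32545 = N31335 := ded_15_2 L244716 (flp_e L238045) L255557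
theorem L255563 : sm gc N32545 = N31331 := ded_13_2 (flp_b L247883) (flp_c L248387) L248393 (flp_c L238043) L255557
theorem L255565 : sm gf N32545 = N31330 := ded_16_2 L244684 (flp_f L243665) L243663 (flp_f L238047) L255557
theorem L255567 : sm ga N32545 = N32539 := ded_7_1 L255508 L250073 (flp_b L247168) L247164 (flp_b L238037) L210827 L210835 L238041 L255557
theorem L255569 : sm gd N30602 = N32546 := rfl
theorem L255571 : sm gb N32546 = N32094 := ded_14_1 (flp_d L251303) L251301 L255569
theorem L255573 : sm gd N30604 = N32547 := rfl
theorem L255575 : sm ga N32547 = N31919 := ded_9_1 L249635 L249458 L255573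
theorem L255577 : sm gb N32547 = N30605 := ded_14_1 (flp_d L238081) L238077 L255573
theorem L255579 : sm gg N32547 = N31398 := ded_24_2 (flp_d L249448) (flp_g L249452) L255573
theorem L255581 : sm ge N32547 = N31406 := ded_22_2 L245269 L227540 (flp_d L249400) L249402 L255573
theorem L255583 : sm gc N30605 = N32548 := rfl
theorem L255585 : sm ga N32548 = N31495 := ded_8_1 (flp_c L245972) (flp_a L238083) L255583
theorem L255587 : sm ge N32548 = N31485 := ded_19_2 L245909 L238087 L255583
theorem L255589 : sm gg N32548 = N31477 := ded_21_2 L245851 (flp_g L238085) L255583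
theorem L255591 : sm gf N30605 = N32549 := rfl
theorem L255593 : sm ga N32549 = N31496 := ded_11_1 (flp_f L245980) (flp_a L238083) L255591
theorem L255595 : sm gd N32549 = N30606 := ded_23_1 (flp_f L238089) L238081 L255591
theorem L255597 : sm ge N32549 = N31491 := ded_25_1 (flp_f L245938) L238087 L255591
theorem L255599 : sm gg N32549 = N32037 := ded_29_3 L250590 L237161 (flp_g L238085) L255591
theorem L255601 : sm gb N30606 = N32550 := rfl
theorem L255603 : sm gg N32550 = N32550 := ded_17_2 (flp_b L255601) L238095 L228300 (flp_g L238095) L255601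
theorem L255604 : sm ga N32550 = N32508 := ded_7_1 (flp_b L255252) L237401 (flp_b L227592) L227588 L227526 L198994 (flp_b L226345) (flp_a L238091) L255601
theorem L255606 : sm gb N30607 = N32551 := rfl
theorem L255608 : sm gd N32551 = N31340 := ded_14_2 (flp_b L244750) (flp_d L238099) L255606
theorem L255610 : sm ge N32551 = N31399 := ded_15_2 (flp_b L249454) L249450 L255606
theorem L255612 : sm gc N32551 = N31436 := ded_13_2 L247158 (flp_c L249857) L249863 L249460 L255606
theorem L255614 : sm gg N32551 = N30642 := ded_17_2 (flp_b L238382) (flp_g L237059) L249406 L249404 L255606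
theorem L255616 : sm ga N32551 = N31401 := ded_7_1 L247091 (flp_a L247085) (flp_b L225001) L196979 L166334 (flp_a L180665) L210905 L238097 L255606
theorem L255618 : sm gf N31534 = N32551 := ded_23_0 L255608 L245968 (flp_d L246290)
theorem L255620 : sm gb N30610 = N32552 := rfl
theorem L255622 : sm gd N32552 = N31153 := ded_14_2 (flp_b L248207) (flp_d L248209) L255620
theorem L255624 : sm ge N32552 = N31361 := ded_15_2 L244901 (flp_e L238125) L255620
theorem L255626 : sm gc N32552 = N31357 := ded_13_2 (flp_b L248261) L248253 L248025 (flp_c L238123) L255620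
theorem L255628 : sm gg N32552 = N31356 := ded_17_2 L244869 (flp_g L243599) L243595 (flp_g L238127) L255620
theorem L255630 : sm ga N32552 = N32546 := ded_7_1 L255571 L251097 (flp_b L247101) L247097 (flp_b L238117) L210911 L210919 L238121 L255620
theorem L255632 : sm gf N30613 = N32553 := rfl
theorem L255634 : sm ga N32553 = N32391 := ded_11_1 L254108 (flp_a L240863) L255632
theorem L255636 : sm gc N32553 = N30614 := ded_20_1 (flp_f L238153) L238145 L255632
theorem L255638 : sm gd N32553 = N32393 := ded_23_1 (flp_f L254126) L254130 L255632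
theorem L255640 : sm ge N32553 = N30616 := ded_25_1 (flp_f L238171) (flp_e L238147) L255632
theorem L255642 : sm gg N32553 = N31380 := ded_29_3 (flp_a L255376) (flp_f L255374) (flp_g L238149) L255632
theorem L255644 : sm gg N30616 = N32554 := rfl
theorem L255646 : sm ga N32554 = N32505 := ded_12_1 L255228 L252371 L255644
theorem L255648 : sm gc N32554 = N30617 := ded_21_1 (flp_g L238175) (flp_c L238173) L255644
theorem L255650 : sm gd N32554 = N31499 := ded_24_1 L252367 L252365 L255644
theorem L255652 : sm ge N32554 = N31380 := ded_26_1 (flp_g L255642) L255640 L255644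
theorem L255654 : sm gf N31498 = N32554 := ded_29_0 (flp_g L255644) (flp_f L238171) (flp_g L237287) (flp_a L246004)
theorem L255656 : sm gb N32554 = N32224 := ded_17_1 (flp_g L252411) L231386 L238263 (flp_b L238267) L255644
theorem L255658 : sm gc N30618 = N32555 := rfl
theorem L255660 : sm ga N32555 = N32452 := ded_8_1 (flp_c L254728) (flp_a L238189) L255658
theorem L255662 : sm gf N32555 = N31328 := ded_20_2 (flp_c L244674) (flp_f L239615) L255658
theorem L255664 : sm gg N32555 = N31647 := ded_21_2 L247245 L246861 L255658
theorem L255666 : sm gd N31331 = N32555 := ded_28_1 (flp_c L255658) (flp_d L238187) (flp_c L210991) (flp_d L210805) L237995 L255506 (flp_a L255567) L255563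
theorem L255668 : sm gb N31644 = N32555 := ded_16_5 L255662 (flp_b L244668) L223595 L246417 L247223
theorem L255670 : sm gc N30620 = N32556 := rfl
theorem L255672 : sm ga N32556 = N30622 := ded_8_1 (flp_c L238219) (flp_a L238203) L255670
theorem L255674 : sm ge N32556 = N30876 := ded_19_2 L240495 (flp_e L238209) L255670
theorem L255676 : sm gf N32556 = N30875 := ded_20_2 L240489 (flp_f L238205) L255670
theorem L255678 : sm gg N32556 = N31842 := ded_21_2 (flp_c L248948) (flp_g L238207) L255670
theorem L255680 : sm gd N32556 = N32541 := ded_28_7 L255522 (flp_c L246371) (flp_d L227401) L227399 L198948 L210997 L238201 L255670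
theorem L255682 : sm gg N30622 = N32557 := rfl
theorem L255684 : sm ga N32557 = N31842 := ded_12_1 (flp_g L255678) L255672 L255682
theorem L255686 : sm gc N32557 = N30623 := ded_21_1 (flp_g L238225) L238219 L255682
theorem L255688 : sm ge N32557 = N30885 := ded_26_1 (flp_g L240543) (flp_e L238221) L255682
theorem L255690 : sm gf N32502 = N32557 := ded_29_0 (flp_g L255682) L238223 (flp_g L237277) (flp_a L255198)
theorem L255692 : sm gb N32312 = N32557 := ded_13_5 L255686 (flp_b L238235) L233281 L233305 L253322
theorem L255694 : sm gg N30624 = N32558 := rfl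
theorem L255696 : sm ga N32558 = N32378 := ded_12_1 L253972 L241040 L255694
theorem L255698 : sm gc N32558 = N30625 := ded_21_1 (flp_g L238245) L238237 L255694
theorem L255700 : sm gd N32558 = N32379 := ded_24_1 (flp_g L253984) L253988 L255694
theorem L255702 : sm ge N32558 = N30627 := ded_26_1 (flp_g L238263) (flp_e L238239) L255694
theorem L255704 : sm gf N31418 = N32558 := ded_29_0 (flp_g L255694) L238241 L255291 L255293
theorem L255706 : sm gb N32558 = N32553 := ded_17_1 L255642 L245073 (flp_g L240331) (flp_b L238243) L255694
theorem L255708 : sm gf N30627 = N32559 := rfl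
theorem L255710 : sm ga N32559 = N32506 := ded_11_1 (flp_f L255236) L253152 L255708
theorem L255712 : sm gc N32559 = N30628 := ded_20_1 (flp_f L238269) (flp_c L238265) L255708
theorem L255714 : sm gd N32559 = N31549 := ded_23_1 (flp_f L253146) L253142 L255708
theorem L255716 : sm ge N32559 = N31418 := ded_25_1 L255704 L255702 L255708
theorem L255718 : sm gg N32559 = N31548 := ded_29_3 L246403 L237328 L238263 L255708
theorem L255720 : sm gb N32559 = N32120 := ded_16_1 (flp_f L251349) L229176 L238171 L238267 L255708
theorem L255722 : sm gc N30629 = N32560 := rfl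
theorem L255724 : sm ga N32560 = N32439 := ded_8_1 (flp_c L254618) (flp_a L238283) L255722
theorem L255726 : sm gf N32560 = N31642 := ded_20_2 L247211 L246955 L255722
theorem L255728 : sm gg N32560 = N31354 := ded_21_2 (flp_c L244859) (flp_g L239169) L255722
theorem L255730 : sm gd N31357 = N32560 := ded_28_1 (flp_c L255722) (flp_d L238281) (flp_c L211099) (flp_d L210889) L238069 L255569 (flp_a L255630) L255626
theorem L255732 : sm gb N31639 = N32560 := ded_16_5 L255726 (flp_b L247207) (flp_f L225165) L225159 L247187
theorem L255734 : sm gc N30631 = N32561 := rfl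
theorem L255736 : sm ga N32561 = N30633 := ded_8_1 (flp_c L238315) (flp_a L238299) L255734
theorem L255738 : sm ge N32561 = N30819 := ded_19_2 L240017 (flp_e L238305) L255734
theorem L255740 : sm gf N32561 = N31798 := ded_20_2 (flp_c L248599) (flp_f L238301) L255734
theorem L255742 : sm gg N32561 = N30817 := ded_21_2 L240003 (flp_g L238303) L255734
theorem L255744 : sm gd N32561 = N32548 := ded_28_7 L255585 (flp_c L245972) (flp_d L228341) L228339 L199500 L211105 L238297 L255734
theorem L255746 : sm gf N30633 = N32562 := rfl
theorem L255748 : sm ga N32562 = N31798 := ded_11_1 (flp_f L255740) L255736 L255746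
theorem L255750 : sm gc N32562 = N30634 := ded_20_1 (flp_f L238321) L238315 L255746
theorem L255752 : sm ge N32562 = N30829 := ded_25_1 (flp_f L240067) (flp_e L238317) L255746
theorem L255754 : sm gg N32562 = N32499 := ded_29_3 L255172 L237251 (flp_g L238319) L255746
theorem L255756 : sm gb N32562 = N32350 := ded_16_1 L253695 (flp_b L255656) (flp_f L255654) L246006 L255746
theorem L255758 : sm gb N30635 = N32563 := rfl
theorem L255760 : sm ge N32563 = N32550 := ded_15_2 (flp_b L255601) (flp_e L238337) L255758
theorem L255762 : sm gc N32563 = N32508 := ded_13_2 (flp_b L255252) (flp_c L237399) L211179 L238333 L255758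
theorem L255764 : sm gf N32563 = N31891 := ded_16_2 L249369 L249394 (flp_b L249406) (flp_f L238339) L255758
theorem L255766 : sm gg N32563 = N32563 := ded_17_2 (flp_b L255758) L238341 L211201 (flp_g L238341) L255758
theorem L255767 : sm gd N31892 = N32563 := ded_23_3 L255764 (flp_d L249367) L249371
theorem L255769 : sm gd N30635 = N32564 := rfl
theorem L255771 : sm ga N32564 = N30636 := ded_9_1 (flp_d L238343) (flp_a L238335) L255769
theorem L255773 : sm gb N32564 = N31892 := ded_14_1 L255767 (flp_b L255758) L255769
theorem L255775 : sm gf N32564 = N31896 := ded_23_2 L249410 (flp_f L238339) L255769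
theorem L255777 : sm gg N32564 = N30638 := ded_24_2 (flp_d L238359) (flp_g L238341) L255769
theorem L255779 : sm gf N30636 = N32565 := rfl
theorem L255781 : sm ga N32565 = N31896 := ded_11_1 (flp_f L255775) L255771 L255779
theorem L255783 : sm gd N32565 = N30637 := ded_23_1 (flp_f L238349) L238343 L255779
theorem L255785 : sm ge N32565 = N31533 := ded_25_1 L249426 L249418 L255779
theorem L255787 : sm gg N32565 = N32038 := ded_29_3 L250599 (flp_f L238374) (flp_g L238347) L255779
theorem L255789 : sm gb N32565 = N31534 := ded_16_1 L255618 (flp_b L255606) L238101 (flp_b L238345) L255779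
theorem L255791 : sm ge N30638 = N32566 := rfl
theorem L255793 : sm ga N32566 = N30640 := ded_10_1 (flp_e L238366) (flp_a L238361) L255791
theorem L255795 : sm gb N32566 = N32566 := ded_15_1 (flp_e L255791) L238363 L255791
theorem L255796 : sm gc N32566 = N31349 := ded_19_1 L244828 (flp_c L238859) L255791
theorem L255798 : sm gf N32566 = N31487 := ded_25_2 (flp_e L250605) L250603 L255791
theorem L255800 : sm gd N32566 = N31488 := ded_22_1 L250595 (flp_d L250588) L228296 L238359 L255791
theorem L255802 : sm gb N30639 = N32567 := rfl
theorem L255804 : sm gc N32567 = N31884 := ded_13_2 (flp_b L249311) (flp_c L227192) (flp_b L211204) L238364 L255802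
theorem L255806 : sm gf N32567 = N32537 := ded_16_2 (flp_b L255484) (flp_f L237967) (flp_b L253826) L253830 L255802
theorem L255808 : sm gd N30643 = N32568 := rfl
theorem L255810 : sm ga N32568 = N30644 := ded_9_1 (flp_d L238403) (flp_a L238396) L255808
theorem L255812 : sm gb N32568 = N32568 := ded_14_1 (flp_d L255808) L238402 L255808
theorem L255813 : sm gf N32568 = N31356 := ded_23_2 L244871 (flp_f L238400) L255808
theorem L255815 : sm ge N32568 = N31352 := ded_22_2 (flp_d L254281) L254283 L253338 (flp_e L238398) L255808
theorem L255817 : sm gc N32568 = N31350 := ded_28_6 L244834 (flp_a L251984) L251986 (flp_d L239141) (flp_c L212045) (flp_d L211212) L238394 L255808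
theorem L255819 : sm gc N30644 = N32569 := rfl
theorem L255821 : sm ga N32569 = N31350 := ded_8_1 (flp_c L255817) L255810 L255819
theorem L255823 : sm gd N32569 = N32180 := ded_28_7 L251984 (flp_c L239155) (flp_d L212061) (flp_c L181445) (flp_d L180963) L211220 L238403 L255819
theorem L255825 : sm gf N31355 = N32569 := ded_30_0 (flp_c L255819) L238405 (flp_a L244079) (flp_f L244077) L220134 (flp_b L191183) L159389 (flp_f L159371) (flp_c L159367) (flp_b L110373) (flp_a L92775) (flp_f L92781) L110355 L159319 (flp_a L159325) L160029 (flp_c L192213) L221324 L244861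
theorem L255827 : sm ge N31351 = N32569 := ded_10_0 L255821 L244836 L244840
theorem L255829 : sm gg N32097 = N32569 := ded_29_3 L255821 L244838 L244873 (flp_f L251129)
theorem L255831 : sm ge N30644 = N32570 := rfl
theorem L255833 : sm ga N32570 = N31352 := ded_10_1 (flp_e L255815) L255810 L255831
theorem L255835 : sm gb N32570 = N31766 := ded_15_1 L248330 (flp_b L238405) L255831
theorem L255837 : sm gc N32570 = N31351 := ded_19_1 L255827 (flp_c L255819) L255831
theorem L255839 : sm gd N32570 = N32316 := ded_22_1 L253373 L233361 L211535 L238403 L255831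
theorem L255841 : sm gf N31359 = N32570 := ded_11_0 L255833 L244848 (flp_a L244883)
theorem L255843 : sm gf N30644 = N32571 := rfl
theorem L255845 : sm ga N32571 = N31356 := ded_11_1 (flp_f L255813) L255810 L255843
theorem L255847 : sm gc N32571 = N31355 := ded_20_1 L255825 (flp_c L255819) L255843
theorem L255849 : sm gd N32571 = N30645 := ded_23_1 (flp_f L238407) L238403 L255843
theorem L255851 : sm ge N32571 = N31359 := ded_25_1 L255841 (flp_e L255831) L255843
theorem L255853 : sm gb N32571 = N32319 := ded_16_1 L253391 L247069 (flp_f L228727) (flp_b L238405) L255843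
theorem L255855 : sm gg N32546 = N32571 := ded_31_0 (flp_f L255843) L238405 L228729 (flp_f L225007) (flp_b L227348) (flp_g L227342) (flp_f L227288) (flp_b L227282) (flp_g L198853) (flp_f L221225) (flp_b L229068) L229066 L251095 (flp_b L255571)
theorem L255857 : sm gg N30644 = N32572 := rfl
theorem L255859 : sm gc N32572 = N32097 := ded_21_1 L255829 (flp_c L255819) L255857
theorem L255861 : sm gd N32572 = N30646 := ded_24_1 (flp_g L238419) L238403 L255857
theorem L255863 : sm gf N32552 = N32572 := ded_29_0 (flp_g L255857) L255843 (flp_g L255855) (flp_a L255630)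
theorem L255865 : sm gb N32572 = N32087 := ded_17_1 L251033 L228904 (flp_g L228729) (flp_b L238405) L255857
theorem L255867 : sm gd N30648 = N32573 := rfl
theorem L255869 : sm gb N32573 = N30649 := ded_14_1 (flp_d L238437) L238435 L255867
theorem L255871 : sm gg N32573 = N31432 := ded_24_2 (flp_d L255498) L255502 L255867
theorem L255873 : sm gf N31504 = N32573 := ded_31_1 L255869 (flp_g L238443) L222086 (flp_b L203929) L203943 L233959 (flp_b L236925) L242256 (flp_f L242250) L217220 (flp_g L193273) L193267 L223231 L246050
theorem L255875 : sm gf N30648 = N32574 := rfl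
theorem L255877 : sm ga N32574 = N32567 := ded_11_1 L255806 L255492 L255875
theorem L255879 : sm gc N32574 = N31513 := ded_20_1 (flp_f L255076) L255074 L255875
theorem L255881 : sm gd N32574 = N31504 := ded_23_1 L255873 (flp_d L255867) L255875
theorem L255883 : sm gg N31502 = N32574 := ded_29_1 (flp_f L255875) (flp_g L255502) (flp_a L255494) (flp_f L246044)
theorem L255885 : sm ge N30649 = N32575 := rfl
theorem L255887 : sm ga N32575 = N30651 := ded_10_1 (flp_e L238459) (flp_a L238439) L255885
theorem L255889 : sm gc N32575 = N32346 := ded_19_1 L253657 L238441 L255885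
theorem L255891 : sm gg N32575 = N31425 := ded_26_2 L245455 L238443 L255885
theorem L255893 : sm gd N32575 = N31474 := ded_22_1 L245821 (flp_d L237173) L237169 L238437 L255885
theorem L255895 : sm gg N30651 = N32576 := rfl
theorem L255897 : sm ga N32576 = N31425 := ded_12_1 (flp_g L255891) L255887 L255895
theorem L255899 : sm gc N32576 = N32344 := ded_21_1 (flp_g L253671) L253667 L255895
theorem L255901 : sm ge N32576 = N30652 := ded_26_1 (flp_g L238461) L238459 L255895
theorem L255903 : sm gf N32134 = N32576 := ded_29_0 (flp_g L255895) L253615 (flp_g L253605) (flp_a L251506)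
theorem L255905 : sm gb N30652 = N32577 := rfl
theorem L255907 : sm gd N32577 = N30653 := ded_14_2 (flp_b L238471) (flp_d L238467) L255905
theorem L255909 : sm gf N32577 = N31673 := ded_16_2 (flp_b L247479) L240457 L240453 L238469 L255905
theorem L255911 : sm gg N32577 = N31586 := ded_17_2 L246721 L243983 L227173 L238461 L255905
theorem L255913 : sm ga N32577 = N31414 := ded_7_1 (flp_b L245341) (flp_a L221950) (flp_b L192651) L160366 L160448 L192749 L222084 (flp_a L238463) L255905
theorem L255915 : sm gb N30655 = N32578 := rfl
theorem L255917 : sm ge N32578 = N32543 := ded_15_2 (flp_b L255538) (flp_e L238493) L255915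
theorem L255919 : sm gc N32578 = N32517 := ded_13_2 (flp_b L255333) (flp_c L237545) L211370 L238489 L255915
theorem L255921 : sm gf N32578 = N32578 := ded_16_2 (flp_b L255915) L238495 L211394 (flp_f L238495) L255915
theorem L255922 : sm gg N32578 = N32023 := ded_17_2 L250442 L250478 (flp_b L250490) (flp_g L238497) L255915
theorem L255924 : sm gd N32024 = N32578 := ded_24_3 L255922 (flp_d L250440) L250444
theorem L255926 : sm gd N30655 = N32579 := rfl
theorem L255928 : sm ga N32579 = N30656 := ded_9_1 (flp_d L238499) (flp_a L238491) L255926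
theorem L255930 : sm gb N32579 = N32024 := ded_14_1 L255924 (flp_b L255915) L255926
theorem L255932 : sm gf N32579 = N30658 := ded_23_2 (flp_d L238515) (flp_f L238495) L255926
theorem L255934 : sm gg N32579 = N32028 := ded_24_2 L250494 (flp_g L238497) L255926
theorem L255936 : sm gg N30656 = N32580 := rfl
theorem L255938 : sm ga N32580 = N32028 := ded_12_1 (flp_g L255934) L255928 L255936
theorem L255940 : sm gd N32580 = N30657 := ded_24_1 (flp_g L238505) L238499 L255936
theorem L255942 : sm ge N32580 = N31479 := ded_26_1 L250510 L250502 L255936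
theorem L255944 : sm gf N31909 = N32580 := ded_29_0 (flp_g L255936) L238503 L238530 (flp_a L249543)
theorem L255946 : sm gb N32580 = N31480 := ded_17_1 L255555 (flp_b L255543) (flp_g L238027) (flp_b L238501) L255936
theorem L255948 : sm ge N30658 = N32581 := rfl
theorem L255950 : sm ga N32581 = N30660 := ded_10_1 (flp_e L238522) (flp_a L238517) L255948
theorem L255952 : sm gb N32581 = N32581 := ded_15_1 (flp_e L255948) L238519 L255948
theorem L255953 : sm gc N32581 = N31323 := ded_19_1 L244643 (flp_c L239437) L255948
theorem L255955 : sm gg N32581 = N31492 := ded_26_2 (flp_e L249549) L249547 L255948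
theorem L255957 : sm gd N32581 = N31541 := ded_22_1 L249539 (flp_d L249532) L227354 L238515 L255948
theorem L255959 : sm gb N30659 = N32582 := rfl
theorem L255961 : sm gc N32582 = N32015 := ded_13_2 (flp_b L250382) (flp_c L228140) (flp_b L211397) L238520 L255959
theorem L255963 : sm gg N32582 = N32530 := ded_17_2 (flp_b L255432) L237925 (flp_b L253459) L253463 L255959
theorem L255965 : sm gd N30663 = N32583 := rfl
theorem L255967 : sm ga N32583 = N30664 := ded_9_1 (flp_d L238559) (flp_a L238552) L255965
theorem L255969 : sm gb N32583 = N32583 := ded_14_1 (flp_d L255965) L238558 L255965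
theorem L255970 : sm gg N32583 = N31330 := ded_24_2 L244686 (flp_g L238556) L255965
theorem L255972 : sm ge N32583 = N31326 := ded_22_2 (flp_d L254471) L254473 L253719 (flp_e L238554) L255965
theorem L255974 : sm gc N32583 = N31324 := ded_28_6 L244649 (flp_a L252840) L252842 (flp_d L239573) (flp_c L212673) (flp_d L211405) L238550 L255965
theorem L255976 : sm gc N30664 = N32584 := rfl
theorem L255978 : sm ga N32584 = N31324 := ded_8_1 (flp_c L255974) L255967 L255976
theorem L255980 : sm gd N32584 = N32265 := ded_28_7 L252840 (flp_c L239593) (flp_d L212689) (flp_c L181953) (flp_d L181059) L211413 L238559 L255976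
theorem L255982 : sm ge N31325 = N32584 := ded_10_0 L255978 L244651 L244655
theorem L255984 : sm gg N31329 = N32584 := ded_12_0 L255978 L244653 L244676
theorem L255986 : sm gf N32584 = N31983 := ded_29_0 L250107 (flp_f L244688) (flp_g L244653) (flp_a L255978)
theorem L255988 : sm ge N30664 = N32585 := rfl
theorem L255990 : sm ga N32585 = N31326 := ded_10_1 (flp_e L255972) L255967 L255988
theorem L255992 : sm gb N32585 = N31721 := ded_15_1 L247952 (flp_b L238561) L255988
theorem L255994 : sm gc N32585 = N31325 := ded_19_1 L255982 (flp_c L255976) L255988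
theorem L255996 : sm gd N32585 = N32355 := ded_22_1 L253746 L234117 (flp_e L211415) L238559 L255988
theorem L255998 : sm gg N31333 = N32585 := ded_12_0 L255990 L244663 (flp_a L244698)
theorem L256000 : sm gf N30664 = N32586 := rfl
theorem L256002 : sm gc N32586 = N31983 := ded_20_1 (flp_f L255986) (flp_c L255976) L256000
theorem L256004 : sm gd N32586 = N30665 := ded_23_1 (flp_f L238563) L238559 L256000
theorem L256006 : sm gg N32586 = N32545 := ded_29_1 L255565 (flp_g L255970) L255967 L256000
theorem L256008 : sm gb N32586 = N31969 := ded_16_1 L249995 L227949 (flp_f L227804) (flp_b L238561) L256000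
theorem L256010 : sm gg N30664 = N32587 := rfl
theorem L256012 : sm ga N32587 = N31330 := ded_12_1 (flp_g L255970) L255967 L256010
theorem L256014 : sm gc N32587 = N31329 := ded_21_1 L255984 (flp_c L255976) L256010
theorem L256016 : sm gd N32587 = N30666 := ded_24_1 (flp_g L238571) L238559 L256010
theorem L256018 : sm ge N32587 = N31333 := ded_26_1 L255998 (flp_e L255988) L256010
theorem L256020 : sm gf N32539 = N32587 := ded_29_0 (flp_g L256010) L256000 L256006 L255567
theorem L256022 : sm gb N32587 = N32357 := ded_17_1 L253758 L247136 (flp_g L227806) (flp_b L238561) L256010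
theorem L256024 : sm gd N30668 = N32588 := rfl
theorem L256026 : sm gb N32588 = N30669 := ded_14_1 (flp_d L238593) L238591 L256024
theorem L256028 : sm gf N32588 = N31395 := ded_23_2 (flp_d L255446) L255450 L256024
theorem L256030 : sm gc N32588 = N32573 := ded_32_9 L255869 (flp_d L238437) (flp_c L211264) L180973 L181527 L212153 L239259 L239265 (flp_d L239085) (flp_c L211993) (flp_b L181417) (flp_d L181381) (flp_c L211907) (flp_d L216928) (flp_c L222970) L222976 L214525 L183481 L151964 (flp_d L157159) L157157 (flp_b L157769) (flp_d L157761) L157759 L154002 (flp_c L129327) (flp_b L102337) L88206 (flp_c L89809) (flp_d L105308) L105306 L151724 L151726 L151730 (flp_d L164723) (flp_c L195902) (flp_b L195900) L195908 (flp_c L195914) L189229 L157801 (flp_b L155648) (flp_e L155576) (flp_d L165865) L165863 L155356 (flp_c L111515) L111521 (flp_d L98501) (flp_c L123179) (flp_d L163975) L122290 (flp_b L97975) (flp_d L111529) L150944 (flp_d L155368) (flp_c L166046) (flp_b L196470) L196464 (flp_c L188949) (flp_d L194157) L194159 L172378 (flp_d L205020) L205018 L175623 L123608 L98770 (flp_e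 L109245) (flp_d L156394) (flp_c L187633) (flp_d L216651) (flp_c L241888) (flp_b L245803) (flp_d L255046) L255050 L256024
theorem L256032 : sm gg N32588 = N31450 := ded_31_3 (flp_f L245635) (flp_b L222417) (flp_g L192959) L192953 (flp_b L216647) L241886 L241892 L236841 (flp_g L233205) (flp_f L203439) L203429 (flp_g L221684) (flp_f L238599) (flp_b L256026)
theorem L256034 : sm gg N30668 = N32589 := rfl
theorem L256036 : sm ga N32589 = N32582 := ded_12_1 L255963 L255440 L256034
theorem L256038 : sm gc N32589 = N31459 := ded_21_1 (flp_g L255054) L255050 L256034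
theorem L256040 : sm gd N32589 = N31450 := ded_24_1 (flp_g L256032) (flp_d L256024) L256034
theorem L256042 : sm gf N32589 = N31446 := ded_29_2 L245621 L255442 L255450 L256034
theorem L256044 : sm ge N30669 = N32590 := rfl
theorem L256046 : sm ga N32590 = N30671 := ded_10_1 (flp_e L238615) (flp_a L238595) L256044
theorem L256048 : sm gc N32590 = N32309 := ded_19_1 L253302 L238597 L256044
theorem L256050 : sm gf N32590 = N31388 := ded_25_2 L245139 (flp_f L238599) L256044
theorem L256052 : sm gd N32590 = N31528 := ded_22_1 L246232 (flp_d L237207) L237203 L238593 L256044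
theorem L256054 : sm gf N30671 = N32591 := rfl
theorem L256056 : sm ga N32591 = N31388 := ded_11_1 (flp_f L256050) L256046 L256054
theorem L256058 : sm gc N32591 = N32306 := ded_20_1 L253296 L253292 L256054
theorem L256060 : sm ge N32591 = N30672 := ded_25_1 (flp_f L238617) L238615 L256054
theorem L256062 : sm gg N32591 = N32232 := ded_29_3 (flp_a L252504) L253240 (flp_g L253250) L256054
theorem L256064 : sm gb N30672 = N32592 := rfl
theorem L256066 : sm gd N32592 = N30673 := ded_14_2 (flp_b L238627) (flp_d L238623) L256064
theorem L256068 : sm gf N32592 = N31567 := ded_16_2 L246563 (flp_f L243733) L228166 L238617 L256064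
theorem L256070 : sm gg N32592 = N31662 := ded_17_2 (flp_b L247375) L239973 L239967 (flp_g L238625) L256064
theorem L256072 : sm ga N32592 = N31375 := ded_7_1 (flp_b L245017) (flp_a L221494) (flp_b L192341) L160136 L160218 L192439 L221648 (flp_a L238619) L256064
theorem L256074 : sm gc N30676 = N32593 := rfl
theorem L256076 : sm ge N32593 = N31475 := ded_19_2 L245827 (flp_e L238659) L256074
theorem L256078 : sm gf N32593 = N31593 := ded_20_2 (flp_c L246779) (flp_f L238661) L256074
theorem L256080 : sm gg N32593 = N31474 := ded_21_2 (flp_c L245817) (flp_g L238663) L256074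
theorem L256082 : sm gb N32593 = N31422 := ded_13_1 (flp_c L245435) (flp_b L245087) L221578 L238655 L256074
theorem L256084 : sm gd N32593 = N31425 := ded_28_7 (flp_a L255897) L255899 L253649 L246270 L223437 L211671 (flp_d L238657) L256074
theorem L256086 : sm gc N30677 = N32594 := rfl
theorem L256088 : sm ga N32594 = N31714 := ded_8_1 L247898 (flp_a L238667) L256086
theorem L256090 : sm ge N32594 = N31499 := ded_19_2 L246016 (flp_e L238673) L256086
theorem L256092 : sm gf N32594 = N31483 := ded_20_2 (flp_c L245889) (flp_f L238671) L256086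
theorem L256094 : sm gg N32594 = N32274 := ded_21_2 L252938 L252345 L256086
theorem L256096 : sm gb N32594 = N31776 := ded_13_1 (flp_c L251580) L251586 (flp_c L238675) (flp_b L238669) L256086
theorem L256098 : sm gd N30678 = N32595 := rfl
theorem L256100 : sm ga N32595 = N31903 := ded_9_1 L249490 (flp_a L238677) L256098
theorem L256102 : sm gb N32595 = N31902 := ded_14_1 (flp_d L251582) L251586 L256098
theorem L256104 : sm gg N32595 = N30694 := ded_24_2 (flp_d L238853) (flp_g L238679) L256098
theorem L256106 : sm gc N32564 = N32595 := ded_28_0 (flp_d L256098) (flp_c L238675) (flp_d L211673) (flp_c L181227) (flp_d L180929) L211181 L238343 (flp_a L255771)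
theorem L256108 : sm ge N31902 = N32595 := ded_10_0 L256100 (flp_e L249484) L249478
theorem L256110 : sm gc N30679 = N32596 := rfl
theorem L256112 : sm ga N32596 = N30758 := ded_8_1 L239445 (flp_a L238683) L256110
theorem L256114 : sm ge N32596 = N30940 := ded_19_2 (flp_c L241042) (flp_e L238691) L256110
theorem L256116 : sm gf N32596 = N31434 := ded_20_2 (flp_c L245521) (flp_f L238687) L256110
theorem L256118 : sm gg N32596 = N30755 := ded_21_2 (flp_c L239423) (flp_g L238689) L256110
theorem L256120 : sm gd N32596 = N32325 := ded_28_7 L253457 L249551 (flp_d L249541) (flp_c L227361) L198922 L211679 L238681 L256110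
theorem L256122 : sm gb N32596 = N32326 := ded_30_2 L253467 (flp_f L247059) L247057 L252140 L252132 L249058 L240716 (flp_b L230640) (flp_a L210947) L210953 (flp_c L238173) L238267 (flp_a L253152) L255236 L255232 L237334 L237091 (flp_f L238687) L256110
theorem L256124 : sm gb N30692 = N32597 := rfl
theorem L256126 : sm gd N32597 = N32567 := ded_14_2 (flp_b L255802) L238839 L256124
theorem L256128 : sm gc N32597 = N31445 := ded_13_2 (flp_b L245611) L222371 (flp_b L211809) L238833 L256124
theorem L256130 : sm gg N32597 = N31449 := ded_17_2 L245631 (flp_g L245605) L245607 (flp_g L238837) L256124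
theorem L256132 : sm ga N31504 = N32597 := ded_9_3 L256126 (flp_a L255877) L255881
theorem L256134 : sm gf N30692 = N32598 := rfl
theorem L256136 : sm ga N32598 = N30696 := ded_11_1 (flp_f L238865) (flp_a L238835) L256134
theorem L256138 : sm gc N32598 = N30693 := ded_20_1 (flp_f L238841) L238833 L256134
theorem L256140 : sm gd N32598 = N32363 := ded_23_1 L253830 L238839 L256134
theorem L256142 : sm ge N32598 = N30944 := ded_25_1 (flp_f L252423) L252421 L256134
theorem L256144 : sm gg N32598 = N31397 := ded_29_3 (flp_a L255122) L255126 (flp_g L238837) L256134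
theorem L256146 : sm gb N32598 = N32364 := ded_31_2 L253836 (flp_f L255470) (flp_b L255472) (flp_g L244527) L226247 (flp_b L226227) (flp_g L197979) (flp_f L197933) (flp_b L226105) (flp_g L242302) (flp_f L245603) L245607 (flp_g L238837) L256134
theorem L256148 : sm gd N30695 = N32599 := rfl
theorem L256150 : sm gb N32599 = N30957 := ded_14_1 (flp_d L241624) (flp_b L241630) L256148
theorem L256152 : sm gf N32599 = N31705 := ded_23_2 (flp_d L253820) L253814 L256148
theorem L256154 : sm ge N32599 = N31409 := ded_22_2 L245303 L244828 (flp_d L238853) L238861 L256148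
theorem L256156 : sm gc N32599 = N31774 := ded_28_6 L248397 (flp_a L252403) (flp_c L252401) L231374 (flp_c L201822) (flp_d L211829) (flp_c L238863) L256148
theorem L256158 : sm gc N30715 = N32600 := rfl
theorem L256160 : sm ga N32600 = N31292 := ded_8_1 (flp_c L254214) L254204 L256158
theorem L256162 : sm ge N32600 = N30780 := ded_19_2 L239655 (flp_e L239073) L256158
theorem L256164 : sm gf N32600 = N30735 := ded_20_2 (flp_c L239235) (flp_f L239075) L256158
theorem L256166 : sm gb N32600 = N31259 := ded_13_1 (flp_c L246455) L246463 L233693 L239069 L256158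
theorem L256168 : sm gd N31784 = N32600 := ded_32_16 (flp_c L256158) L239071 L234989 (flp_b L234987) L239085 (flp_c L239265) (flp_d L239259) L212157 L181945 L158143 L109400 L92039 (flp_d L91904) (flp_c L109073) L148120 (flp_d L112982) L112980 L94046 L47053 L83869 (flp_d L90836) (flp_c L106434) (flp_d L153467) (flp_c L129158) (flp_b L102273) L88160 (flp_c L89668) (flp_d L104977) (flp_c L105306) L152486 L152488 L152516 L158207 (flp_c L158203) (flp_b L109444) (flp_e L108200) (flp_d L156649) (flp_c L187991) (flp_d L197869) L197867 L168134 L168130 L169343 L201018 (flp_c L201028) (flp_b L195123) (flp_d L193377) (flp_c L223291) L223293 L193343 (flp_b L171390) L171386 (flp_c L180477) (flp_d L210605) (flp_c L210609) L227901 (flp_d L249989) (flp_c L251017) L251015 (flp_c L237941) (flp_b L237939) (flp_e L236895) (flp_d L255064) L255062 L241662 L216317 L216323 L216325 (flp_c L208626) L216355 (flp_c L216345) (flp_b L203115) (flp_d L232759) (flp_c L252990) L252992 L248435 L248483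
theorem L256170 : sm gd N30716 = N32601 := rfl
theorem L256172 : sm ga N32601 = N30717 := ded_9_1 (flp_d L239085) (flp_a L239079) L256170
theorem L256174 : sm gf N32601 = N30720 := ded_23_2 (flp_d L239109) (flp_f L239083) L256170
theorem L256176 : sm ge N32601 = N32329 := ded_22_2 (flp_d L253485) L233657 (flp_d L214583) (flp_e L239081) L256170
theorem L256178 : sm gg N30717 = N32602 := rfl
theorem L256180 : sm gd N32602 = N30718 := ded_24_1 (flp_g L239091) L239085 L256178
theorem L256182 : sm ge N32602 = N32330 := ded_26_1 (flp_g L253493) (flp_e L239089) L256178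
theorem L256184 : sm gg N30720 = N32603 := rfl
theorem L256186 : sm ga N32603 = N30722 := ded_12_1 (flp_g L239123) (flp_a L239111) L256184
theorem L256188 : sm gd N32603 = N30721 := ded_24_1 (flp_g L239113) L239109 L256184
theorem L256190 : sm gf N32603 = N32602 := ded_29_2 (flp_g L256178) (flp_a L256172) L256174 L256184
theorem L256192 : sm gf N30722 = N32604 := rfl
theorem L256194 : sm ga N32604 = N32602 := ded_11_1 (flp_f L256190) L256186 L256192
theorem L256196 : sm gd N32604 = N30723 := ded_23_1 (flp_f L239129) (flp_d L239125) L256192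
theorem L256198 : sm ge N32604 = N31881 := ded_25_1 L249289 L241986 L256192
theorem L256200 : sm gg N32604 = N32601 := ded_29_3 L256172 L239087 L239123 L256192
theorem L256202 : sm gb N32604 = N31880 := ded_16_1 L249283 (flp_b L249104) (flp_f L226958) (flp_b L239127) L256192
theorem L256204 : sm gg N30726 = N32605 := rfl
theorem L256206 : sm ga N32605 = N31642 := ded_12_1 (flp_g L251988) L251984 L256204
theorem L256208 : sm gc N32605 = N30729 := ded_21_1 (flp_g L239171) L239155 L256204
theorem L256210 : sm gf N32439 = N32605 := ded_29_0 (flp_g L256204) (flp_f L244857) (flp_g L255728) L255724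
theorem L256212 : sm gb N32605 = N31411 := ded_17_1 (flp_g L245321) (flp_b L221912) L221918 L239393 L256204
theorem L256214 : sm gf N30727 = N32606 := rfl
theorem L256216 : sm ga N32606 = N32461 := ded_11_1 L254812 L246969 L256214
theorem L256218 : sm gc N32606 = N31412 := ded_20_1 (flp_f L251966) (flp_c L251970) L256214
theorem L256220 : sm gd N32606 = N30866 := ded_23_1 L240395 (flp_d L239161) L256214
theorem L256222 : sm ge N32606 = N30728 := ded_25_1 (flp_f L239163) L239157 L256214
theorem L256224 : sm gg N32606 = N31607 := ded_29_3 (flp_a L254590) L254588 L246945 L256214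
theorem L256226 : sm gb N32606 = N30865 := ded_16_1 (flp_f L240381) (flp_b L213569) L213575 (flp_b L239159) L256214
theorem L256228 : sm gd N30735 = N32607 := rfl
theorem L256230 : sm gb N32607 = N31783 := ded_14_1 L248477 L247545 L256228
theorem L256232 : sm gf N32607 = N31784 := ded_23_2 L256168 L256164 L256228
theorem L256234 : sm gg N32607 = N32446 := ded_24_2 (flp_d L254680) (flp_g L239239) L256228
theorem L256236 : sm ge N32607 = N31787 := ded_22_2 L248511 L226315 (flp_d L225733) (flp_e L239237) L256228
theorem L256238 : sm gd N30737 = N32608 := rfl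
theorem L256240 : sm ga N32608 = N30738 := ded_9_1 (flp_d L239259) L239251 L256238
theorem L256242 : sm gf N32608 = N30770 := ded_23_2 (flp_d L239567) (flp_f L239257) L256238
theorem L256244 : sm gc N32601 = N32608 := ded_28_0 (flp_d L256238) L239253 L238999 (flp_c L238991) L211911 L211993 L239085 (flp_a L256172)
theorem L256246 : sm gg N30738 = N32609 := rfl
theorem L256248 : sm gc N32609 = N32602 := ded_21_1 (flp_g L256178) (flp_c L239265) L256246
theorem L256250 : sm gd N32609 = N30739 := ded_24_1 (flp_g L239267) L239259 L256246
theorem L256252 : sm ge N32609 = N31841 := ded_26_1 L248946 L242060 L256246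
theorem L256254 : sm gb N32609 = N31839 := ded_17_1 L248931 (flp_b L248762) L226547 (flp_b L239261) L256246
theorem L256256 : sm gd N30742 = N32610 := rfl
theorem L256258 : sm gb N32610 = N31739 := ded_14_1 L248107 L247604 L256256
theorem L256260 : sm gf N32610 = N32433 := ded_23_2 (flp_d L254570) (flp_f L239303) L256256
theorem L256262 : sm ge N32610 = N31743 := ded_22_2 L248141 L226029 (flp_d L225635) L239299 L256256
theorem L256264 : sm gg N31740 = N32610 := ded_17_0 L256258 (flp_g L248101) (flp_b L225993) L225997 L248113
theorem L256266 : sm gg N30742 = N32611 := rfl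
theorem L256268 : sm ga N32611 = N31263 := ded_12_1 L247705 L247699 L256266
theorem L256270 : sm gc N32611 = N30744 := ded_21_1 (flp_g L239313) (flp_c L239301) L256266
theorem L256272 : sm gd N32611 = N31740 := ded_24_1 L256264 (flp_d L256256) L256266
theorem L256274 : sm ge N32611 = N30743 := ded_26_1 (flp_g L239305) L239299 L256266
theorem L256276 : sm gb N32611 = N31235 := ded_17_1 (flp_g L243921) (flp_b L231616) (flp_g L247602) L247604 L256266
theorem L256278 : sm gc N30746 = N32612 := rfl
theorem L256280 : sm ge N32612 = N31529 := ded_19_2 L246238 (flp_e L239335) L256278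
theorem L256282 : sm gf N32612 = N31528 := ded_20_2 (flp_c L246228) (flp_f L239337) L256278
theorem L256284 : sm gg N32612 = N31592 := ded_21_2 (flp_c L246773) (flp_g L239339) L256278
theorem L256286 : sm gb N32612 = N31385 := ded_13_1 L245397 (flp_b L245387) L222014 L239331 L256278
theorem L256288 : sm gd N32612 = N31388 := ded_28_7 (flp_a L256056) L256058 L253284 L245859 L223010 (flp_c L212335) (flp_d L239333) L256278
theorem L256290 : sm gc N30747 = N32613 := rfl
theorem L256292 : sm ga N32613 = N31760 := ded_8_1 L248286 (flp_a L239343) L256290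
theorem L256294 : sm ge N32613 = N31549 := ded_19_2 L246415 (flp_e L239349) L256290
theorem L256296 : sm gf N32613 = N32197 := ded_20_2 (flp_c L253116) (flp_f L253122) L256290
theorem L256298 : sm gg N32613 = N31537 := ded_21_2 (flp_c L246316) (flp_g L239347) L256290
theorem L256300 : sm gb N32613 = N31733 := ded_13_1 (flp_c L252566) L252572 (flp_c L239351) (flp_b L239345) L256290
theorem L256302 : sm gd N30748 = N32614 := rfl
theorem L256304 : sm ga N32614 = N32034 := ded_9_1 L250562 (flp_a L239353) L256302
theorem L256306 : sm gb N32614 = N32033 := ded_14_1 (flp_d L252568) L252572 L256302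
theorem L256308 : sm gf N32614 = N30756 := ded_23_2 (flp_d L239431) (flp_f L239355) L256302
theorem L256310 : sm gc N32579 = N32614 := ded_28_0 (flp_d L256302) (flp_c L239351) (flp_d L212341) (flp_c L181749) (flp_d L181025) L211372 L238499 (flp_a L255928)
theorem L256312 : sm ge N32033 = N32614 := ded_10_0 L256304 (flp_e L250556) L250550
theorem L256314 : sm gb N30755 = N32615 := rfl
theorem L256316 : sm gd N32615 = N32582 := ded_14_2 (flp_b L255959) L239429 L256314
theorem L256318 : sm gc N32615 = N31501 := ded_13_2 (flp_b L246032) L223185 (flp_b L212465) L239423 L256314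
theorem L256320 : sm gf N32615 = N31448 := ded_16_2 L245675 (flp_f L246024) L246028 (flp_f L239427) L256314
theorem L256322 : sm ga N32615 = N31450 := ded_30_3 (flp_f L245635) L245629 L245631 (flp_a L245661) L245663 (flp_c L226107) L218800 (flp_a L201400) (flp_f L201398) (flp_c L201372) L230690 L252150 (flp_f L256296) (flp_c L256290) L239345 L212343 (flp_f L212467) L239423 L256314
theorem L256324 : sm gd N30757 = N32616 := rfl
theorem L256326 : sm gb N32616 = N30956 := ded_14_1 (flp_d L241390) (flp_b L241396) L256324
theorem L256328 : sm gg N32616 = N31697 := ded_24_2 (flp_d L253453) L253449 L256324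
theorem L256330 : sm ge N32616 = N31370 := ded_22_2 L244979 L244643 (flp_d L239431) L239439 L256324
theorem L256332 : sm gc N32616 = N31731 := ded_28_6 L248035 (flp_a L251343) (flp_c L251341) L229164 (flp_c L200077) (flp_d L212473) (flp_c L239441) L256324
theorem L256334 : sm gd N30766 = N32617 := rfl
theorem L256336 : sm ga N32617 = N30767 := ded_9_1 (flp_d L239535) (flp_a L239525) L256334
theorem L256338 : sm gb N32617 = N32602 := ded_14_1 L256180 (flp_b L239533) L256334
theorem L256340 : sm gf N32617 = N32609 := ded_23_2 L256250 (flp_f L239529) L256334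
theorem L256342 : sm gg N32617 = N30770 := ded_24_2 (flp_d L239567) (flp_g L239531) L256334
theorem L256344 : sm ge N32617 = N32367 := ded_22_2 (flp_d L253852) L234417 (flp_d L214759) (flp_e L239527) L256334
theorem L256346 : sm gc N32603 = N32617 := ded_28_0 (flp_d L256334) (flp_c L239523) (flp_d L239023) L239021 L211923 (flp_c L212031) (flp_d L239125) (flp_a L256186)
theorem L256348 : sm gf N30767 = N32618 := rfl
theorem L256350 : sm ga N32618 = N32609 := ded_11_1 (flp_f L256340) L256336 L256348
theorem L256352 : sm gc N32618 = N32604 := ded_20_1 (flp_f L256192) (flp_c L239541) L256348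
theorem L256354 : sm gd N32618 = N30768 := ded_23_1 (flp_f L239543) L239535 L256348
theorem L256356 : sm ge N32618 = N32368 := ded_25_1 (flp_f L253862) (flp_e L239539) L256348
theorem L256358 : sm gg N32618 = N32608 := ded_29_3 L256240 L239263 (flp_g L239537) L256348
theorem L256360 : sm gb N32618 = N32601 := ded_16_1 L256174 L254520 (flp_f L254518) (flp_b L249078) L256348
theorem L256362 : sm gf N30773 = N32619 := rfl
theorem L256364 : sm ga N32619 = N31647 := ded_11_1 (flp_f L252844) L252840 L256362
theorem L256366 : sm gc N32619 = N30775 := ded_20_1 (flp_f L239603) L239593 L256362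
theorem L256368 : sm gg N32619 = N32452 := ded_29_3 (flp_a L255660) L255662 L244672 L256362
theorem L256370 : sm gb N32619 = N31372 := ded_16_1 (flp_f L244997) (flp_b L221464) L221470 (flp_b L239595) L256362
theorem L256372 : sm gg N30774 = N32620 := rfl
theorem L256374 : sm ga N32620 = N32458 := ded_12_1 L254782 L246873 L256372
theorem L256376 : sm gc N32620 = N31373 := ded_21_1 (flp_g L252822) (flp_c L252826) L256372
theorem L256378 : sm gd N32620 = N30808 := ded_24_1 L239913 (flp_d L239601) L256372
theorem L256380 : sm ge N32620 = N30776 := ded_26_1 (flp_g L239609) L239597 L256372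
theorem L256382 : sm gf N31596 = N32620 := ded_29_0 (flp_g L256372) (flp_f L246837) (flp_g L254698) L254700
theorem L256384 : sm gb N32620 = N30807 := ded_17_1 (flp_g L239897) (flp_b L213067) L213073 (flp_b L239599) L256372
theorem L256386 : sm gc N30788 = N32621 := rfl
theorem L256388 : sm ga N32621 = N32519 := ded_8_1 L255350 L252508 L256386
theorem L256390 : sm ge N32621 = N30794 := ded_19_2 (flp_c L239787) (flp_e L239739) L256386
theorem L256392 : sm gf N32621 = N32519 := ded_20_2 L255350 L252512 L256386
theorem L256394 : sm gg N32621 = N31096 := ded_21_2 (flp_c L242521) (flp_g L239741) L256386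
theorem L256396 : sm gb N32621 = N30789 := ded_13_1 (flp_c L239743) (flp_b L212875) (flp_c L212871) L239735 L256386
theorem L256398 : sm gd N32621 = N32252 := ded_28_3 (flp_c L254544) (flp_d L254532) (flp_c L254526) L254530 L247003 L242530 (flp_d L239737) L256386
theorem L256400 : sm gg N30789 = N32622 := rfl
theorem L256402 : sm ga N32622 = N32120 := ded_12_1 (flp_g L253330) L253324 L256400
theorem L256404 : sm gc N32622 = N30790 := ded_21_1 (flp_g L239749) L239743 L256400
theorem L256406 : sm gd N32622 = N32253 := ded_24_1 L252734 L248029 L256400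
theorem L256408 : sm ge N32622 = N30797 := ded_26_1 (flp_g L239807) (flp_e L239745) L256400
theorem L256410 : sm gf N32119 = N32622 := ded_29_0 (flp_g L256400) L239747 (flp_g L229174) (flp_a L251343)
theorem L256412 : sm gb N32622 = N31119 := ded_17_1 L242759 (flp_b L242524) (flp_g L256394) L256396 L256400
theorem L256414 : sm gg N30792 = N32623 := rfl
theorem L256416 : sm gc N32623 = N30793 := ded_21_1 (flp_g L239779) L239771 L256414
theorem L256418 : sm gd N32623 = N32309 := ded_24_1 L253304 L250757 L256414
theorem L256420 : sm ge N32623 = N30813 := ded_26_1 L239959 (flp_e L239773) L256414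
theorem L256422 : sm gf N30811 = N32623 := ded_29_0 (flp_g L256414) L239775 L245855 L245857
theorem L256424 : sm gf N30801 = N32624 := rfl
theorem L256426 : sm ga N32624 = N31139 := ded_11_1 L242931 L242796 L256424
theorem L256428 : sm gd N32624 = N30802 := ded_23_1 (flp_f L239847) (flp_d L239843) L256424
theorem L256430 : sm ge N32624 = N31820 := ded_25_1 (flp_f L248770) (flp_e L239845) L256424
theorem L256432 : sm gg N32624 = N31122 := ded_29_3 L242786 L239803 L239841 L256424
theorem L256434 : sm gg N30810 = N32625 := rfl
theorem L256436 : sm ga N32625 = N32623 := ded_12_1 (flp_g L256414) (flp_a L239929) L256434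
theorem L256438 : sm gc N32625 = N31027 := ded_21_1 L241846 (flp_c L239931) L256434
theorem L256440 : sm gd N32625 = N32308 := ded_24_1 (flp_g L253290) (flp_d L239933) L256434
theorem L256442 : sm ge N32625 = N30812 := ded_26_1 (flp_g L239945) (flp_e L239935) L256434
theorem L256444 : sm gf N31478 = N32625 := ded_29_0 (flp_g L256434) (flp_f L239927) L239937 (flp_a L245857)
theorem L256446 : sm gb N32625 = N32528 := ded_17_1 L255424 L252140 L252138 L240710 L256434
theorem L256448 : sm gb N30812 = N32626 := rfl
theorem L256450 : sm gd N32626 = N31858 := ded_14_2 L249090 L240652 L256448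
theorem L256452 : sm ge N32626 = N32528 := ded_15_2 (flp_b L256446) L256442 L256448
theorem L256454 : sm gc N32626 = N32244 := ded_13_2 L252626 L237903 (flp_b L220308) (flp_c L239947) L256448
theorem L256456 : sm gg N32626 = N32198 := ded_17_2 (flp_b L252154) L230700 L213901 L239945 L256448
theorem L256458 : sm ga N31859 = N32626 := ded_9_3 L256450 L249086 L249092
theorem L256460 : sm gb N30819 = N32627 := rfl
theorem L256462 : sm gd N32627 = N32400 := ded_14_2 (flp_b L254200) L253916 L256460
theorem L256464 : sm gc N32627 = N32607 := ded_13_2 L256230 L248475 (flp_b L240027) (flp_c L240017) L256460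
theorem L256466 : sm gg N32627 = N32307 := ded_17_2 (flp_b L253288) (flp_g L233231) (flp_b L214070) L240013 L256460
theorem L256468 : sm ga N32627 = N32399 := ded_7_1 (flp_b L254184) L234887 L234883 L226471 L237641 L240065 (flp_b L240061) (flp_a L240015) L256460
theorem L256470 : sm gf N30822 = N32628 := rfl
theorem L256472 : sm ga N32628 = N30935 := ded_11_1 L240990 (flp_a L240035) L256470
theorem L256474 : sm gc N32628 = N30932 := ded_20_1 (flp_f L240962) (flp_c L240037) L256470
theorem L256476 : sm ge N32628 = N30823 := ded_25_1 (flp_f L240039) L240033 L256470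
theorem L256478 : sm gg N32628 = N31877 := ded_29_1 L249258 (flp_g L249096) (flp_a L240035) L256470
theorem L256480 : sm gg N30822 = N32629 := rfl
theorem L256482 : sm ga N32629 = N31860 := ded_12_1 (flp_g L249096) (flp_a L240035) L256480
theorem L256484 : sm gc N32629 = N30933 := ded_21_1 (flp_g L240972) (flp_c L240037) L256480
theorem L256486 : sm ge N32629 = N30824 := ded_26_1 (flp_g L240043) L240033 L256480
theorem L256488 : sm gb N32629 = N31809 := ded_17_1 (flp_g L252357) L252353 L240910 L240666 L256480
theorem L256490 : sm gb N30823 = N32630 := rfl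
theorem L256492 : sm gd N32630 = N30826 := ded_14_2 (flp_b L240051) (flp_d L240041) L256490
theorem L256494 : sm ga N32630 = N32630 := ded_7_1 (flp_b L256490) (flp_a L242943) (flp_b L242935) L218042 L188491 (flp_a L218042) L242935 L242943 L256490
theorem L256495 : sm gg N30823 = N32631 := rfl
theorem L256497 : sm gc N32631 = N31125 := ded_21_1 (flp_g L242911) L242905 L256495
theorem L256499 : sm gd N32631 = N30827 := ded_24_1 (flp_g L240055) (flp_d L240041) L256495
theorem L256501 : sm ge N32631 = N31877 := ded_26_1 (flp_g L256478) L256476 L256495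
theorem L256503 : sm gf N32372 = N32631 := ded_29_0 (flp_g L256495) (flp_f L240039) L240043 (flp_a L253912)
theorem L256505 : sm gb N31873 = N32631 := ded_31_14 (flp_g L256495) (flp_f L240039) (flp_b L213996) (flp_g L234815) (flp_f L234807) (flp_b L204441) L204453 L204483 L222896 L198163 L198330 L226649 L248878 (flp_f L249216)
theorem L256507 : sm gb N30824 = N32632 := rfl
theorem L256509 : sm gd N32632 = N30828 := ded_14_2 (flp_b L240061) (flp_d L240045) L256507
theorem L256511 : sm ge N32632 = N31809 := ded_15_2 (flp_b L256488) L256486 L256507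
theorem L256513 : sm gg N32632 = N32390 := ded_17_2 (flp_b L254092) L234815 L213996 L240043 L256507
theorem L256515 : sm ga N32632 = N31810 := ded_7_1 L248702 L226443 (flp_b L222896) (flp_a L204487) L234893 L254190 (flp_b L254200) L253912 L256507
theorem L256517 : sm gf N30824 = N32633 := rfl
theorem L256519 : sm ga N32633 = N32631 := ded_11_1 (flp_f L256503) L253912 L256517
theorem L256521 : sm gd N32633 = N30829 := ded_23_1 (flp_f L240067) (flp_d L240045) L256517
theorem L256523 : sm gg N32633 = N31140 := ded_29_3 L242943 (flp_f L240039) L240043 L256517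
theorem L256525 : sm gb N31138 = N32633 := ded_30_2 L256519 (flp_f L256503) L253914 (flp_b L248640) L249128 (flp_f L249132) (flp_c L227120) (flp_b L198717) (flp_a L198635) L198641 (flp_c L226890) L249062 (flp_a L249068) L248728 L249218 L256505 (flp_a L256519) (flp_f L256517) (flp_c L242919)
theorem L256527 : sm gg N30826 = N32634 := rfl
theorem L256529 : sm ga N32634 = N32634 := ded_12_1 (flp_g L256527) L240054 L256527
theorem L256530 : sm gc N32634 = N32634 := ded_21_1 (flp_g L256527) L240053 L256527
theorem L256531 : sm gf N32634 = N30886 := ded_29_0 (flp_g L240852) L240850 L256527 L256529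
theorem L256533 : sm gb N30827 = N32635 := rfl
theorem L256535 : sm gd N32635 = N31873 := ded_14_2 L256505 L256499 L256533
theorem L256537 : sm ga N32635 = N31872 := ded_7_1 (flp_b L249204) L227068 L237431 (flp_a L240267) L240271 (flp_a L240275) L240279 L240069 L256533
theorem L256539 : sm gf N30831 = N32636 := rfl
theorem L256541 : sm ga N32636 = N32441 := ded_11_1 L254638 L254449 L256539
theorem L256543 : sm gc N32636 = N30832 := ded_20_1 (flp_f L240093) L240084 L256539
theorem L256545 : sm gd N32636 = N31064 := ded_23_1 (flp_f L242204) L240091 L256539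
theorem L256547 : sm ge N32636 = N30941 := ded_25_1 (flp_f L241046) (flp_e L240086) L256539
theorem L256549 : sm gg N32636 = N32441 := ded_29_3 (flp_a L256541) (flp_f L256539) L240088 L256539
theorem L256551 : sm gb N32636 = N31615 := ded_16_1 (flp_f L246989) L224754 L217074 (flp_b L240089) L256539
theorem L256553 : sm gf N30833 = N32637 := rfl
theorem L256555 : sm ga N32637 = N31730 := ded_11_1 (flp_f L248027) (flp_a L240105) L256553
theorem L256557 : sm gc N32637 = N31439 := ded_20_1 L253180 L253176 L256553
theorem L256559 : sm gd N32637 = N32312 := ded_23_1 L253328 (flp_d L240109) L256553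
theorem L256561 : sm ge N32637 = N30834 := ded_25_1 (flp_f L240111) L240103 L256553
theorem L256563 : sm gg N30833 = N32638 := rfl
theorem L256565 : sm ga N32638 = N31731 := ded_12_1 (flp_g L248033) (flp_a L240105) L256563
theorem L256567 : sm gd N32638 = N32119 := ded_24_1 L251347 (flp_d L240109) L256563
theorem L256569 : sm ge N32638 = N30835 := ded_26_1 (flp_g L240115) L240103 L256563
theorem L256571 : sm gf N32638 = N32253 := ded_29_2 L252734 (flp_a L256555) (flp_f L256553) L256563
theorem L256573 : sm gb N30834 = N32639 := rfl
theorem L256575 : sm gc N32639 = N31543 := ded_13_2 (flp_b L250516) (flp_c L250522) L253194 L253186 L256573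
theorem L256577 : sm gf N32639 = N30837 := ded_16_2 (flp_b L240129) (flp_f L213262) L213254 L240111 L256573
theorem L256579 : sm ga N30837 = N32640 := rfl
theorem L256581 : sm gc N32640 = N31541 := ded_8_2 L246344 L240133 L256579
theorem L256583 : sm ge N32640 = N32504 := ded_10_2 L255216 L255152 L256579
theorem L256585 : sm gg N32640 = N31538 := ded_12_2 (flp_a L246324) (flp_g L240131) L256579
theorem L256587 : sm gc N30846 = N32641 := rfl
theorem L256589 : sm ga N32641 = N32510 := ded_8_1 L255269 L251510 L256587
theorem L256591 : sm ge N32641 = N30852 := ded_19_2 (flp_c L240265) (flp_e L240217) L256587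
theorem L256593 : sm gf N32641 = N31063 := ded_20_2 (flp_c L242197) (flp_f L240219) L256587
theorem L256595 : sm gg N32641 = N32510 := ded_21_2 L255269 L251516 L256587
theorem L256597 : sm gb N32641 = N30847 := ded_13_1 (flp_c L240221) (flp_b L213377) (flp_c L213373) L240213 L256587
theorem L256599 : sm gd N32641 = N32161 := ded_28_7 L251804 (flp_c L248624) L248626 (flp_c L256543) L256545 L242206 (flp_d L240215) L256587
theorem L256601 : sm gf N30847 = N32642 := rfl
theorem L256603 : sm ga N32642 = N32224 := ded_11_1 (flp_f L253695) L253691 L256601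
theorem L256605 : sm gc N32642 = N30848 := ded_20_1 (flp_f L240227) L240221 L256601
theorem L256607 : sm gd N32642 = N32162 := ded_23_1 L251818 L248405 L256601
theorem L256609 : sm ge N32642 = N30855 := ded_25_1 (flp_f L240287) (flp_e L240223) L256601
theorem L256611 : sm gg N32642 = N32223 := ded_29_3 L252403 L231384 (flp_g L240225) L256601
theorem L256613 : sm gb N32642 = N31109 := ded_16_1 (flp_f L242656) (flp_b L242200) (flp_f L256593) L256597 L256601
theorem L256615 : sm gf N30850 = N32643 := rfl
theorem L256617 : sm gc N32643 = N30851 := ded_20_1 (flp_f L240257) L240249 L256615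
theorem L256619 : sm gd N32643 = N32346 := ded_23_1 (flp_f L253659) L249697 L256615
theorem L256621 : sm ge N32643 = N30870 := ded_25_1 (flp_f L240435) (flp_e L240251) L256615
theorem L256623 : sm gg N32643 = N30868 := ded_29_3 (flp_a L246268) (flp_f L246266) (flp_g L240253) L256615
theorem L256625 : sm gb N32643 = N32623 := ded_16_1 (flp_f L256422) L239943 (flp_f L229994) (flp_b L240255) L256615
theorem L256627 : sm gg N30859 = N32644 := rfl
theorem L256629 : sm ga N32644 = N31125 := ded_12_1 (flp_g L242911) L242903 L256627
theorem L256631 : sm gc N32644 = N32633 := ded_21_1 L256523 (flp_c L242945) L256627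
theorem L256633 : sm gd N32644 = N30860 := ded_24_1 (flp_g L240331) (flp_d L240327) L256627
theorem L256635 : sm ge N32644 = N31862 := ded_26_1 (flp_g L249112) (flp_e L240329) L256627
theorem L256637 : sm gf N31138 = N32644 := ded_29_0 (flp_g L256627) (flp_f L240325) (flp_g L240283) (flp_a L242917)
theorem L256639 : sm gf N30869 = N32645 := rfl
theorem L256641 : sm ga N32645 = N32643 := ded_11_1 (flp_f L256615) (flp_a L240421) L256639
theorem L256643 : sm gc N32645 = N31026 := ded_20_1 L241832 (flp_c L240423) L256639
theorem L256645 : sm gd N32645 = N32347 := ded_23_1 (flp_f L253663) (flp_d L240425) L256639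
theorem L256647 : sm ge N32645 = N30871 := ded_25_1 (flp_f L240439) (flp_e L240427) L256639
theorem L256649 : sm gg N32645 = N31532 := ded_29_3 L246268 (flp_f L240411) L240419 L256639
theorem L256651 : sm gb N32645 = N32535 := ded_16_1 L255476 L252928 (flp_f L252926) L240952 L256639
theorem L256653 : sm gb N30871 = N32646 := rfl
theorem L256655 : sm gd N32646 = N31816 := ded_14_2 L248750 L240882 L256653
theorem L256657 : sm ge N32646 = N32535 := ded_15_2 (flp_b L256651) L256647 L256653
theorem L256659 : sm gc N32646 = N32150 := ded_13_2 L251672 L237945 L220754 (flp_c L240443) L256653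
theorem L256661 : sm gf N32646 = N32275 := ded_16_2 (flp_b L252946) (flp_f L232646) L214220 L240439 L256653
theorem L256663 : sm ga N32646 = N31817 := ded_7_1 (flp_b L248850) (flp_a L249196) L249202 L256458 (flp_b L256448) (flp_a L239953) (flp_b L240437) (flp_a L240441) L256653
theorem L256665 : sm gb N30876 = N32647 := rfl
theorem L256667 : sm gd N32647 = N32386 := ded_14_2 (flp_b L254066) L254062 L256665
theorem L256669 : sm gc N32647 = N32610 := ded_13_2 L256258 L248105 (flp_b L240505) (flp_c L240495) L256665
theorem L256671 : sm gf N32647 = N32345 := ded_16_2 (flp_b L253653) (flp_f L233975) (flp_b L214391) L240491 L256665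
theorem L256673 : sm ga N32647 = N32385 := ded_7_1 (flp_b L254042) (flp_a L234739) L234745 L226882 L237495 (flp_a L240541) (flp_b L240537) (flp_a L240493) L256665
theorem L256675 : sm gf N30880 = N32648 := rfl
theorem L256677 : sm ga N32648 = N31818 := ded_11_1 (flp_f L248756) (flp_a L240521) L256675
theorem L256679 : sm gc N32648 = N30907 := ded_20_1 (flp_f L240732) (flp_c L240523) L256675
theorem L256681 : sm ge N32648 = N30881 := ded_25_1 (flp_f L240525) L240519 L256675
theorem L256683 : sm gb N32648 = N31851 := ded_16_1 (flp_f L253132) L253130 (flp_f L240894) L240898 L256675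
theorem L256685 : sm gg N30880 = N32649 := rfl
theorem L256687 : sm ga N32649 = N30909 := ded_12_1 L240748 (flp_a L240521) L256685
theorem L256689 : sm gc N32649 = N30908 := ded_21_1 (flp_g L240738) (flp_c L240523) L256685
theorem L256691 : sm gd N32649 = N32640 := ded_24_1 L256585 L246328 L256685
theorem L256693 : sm ge N32649 = N30882 := ded_26_1 (flp_g L240529) L240519 L256685
theorem L256695 : sm gf N32649 = N31835 := ded_29_2 (flp_g L248900) (flp_a L256677) (flp_f L256675) L256685
theorem L256697 : sm gb N30881 = N32650 := rfl
theorem L256699 : sm gd N32650 = N30884 := ded_14_2 (flp_b L240537) (flp_d L240527) L256697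
theorem L256701 : sm ge N32650 = N31851 := ded_15_2 (flp_b L256683) L256681 L256697
theorem L256703 : sm gf N32650 = N32376 := ded_16_2 (flp_b L253952) (flp_f L234667) L214317 L240525 L256697
theorem L256705 : sm ga N32650 = N31852 := ded_7_1 L249040 L226854 (flp_b L222868) L204400 L234747 L254048 (flp_b L254066) L254058 L256697
theorem L256707 : sm gg N30881 = N32651 := rfl
theorem L256709 : sm gc N32651 = N32624 := ded_21_1 L256432 L242788 L256707
theorem L256711 : sm gd N32651 = N30885 := ded_24_1 (flp_g L240543) (flp_d L240527) L256707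
theorem L256713 : sm gf N31124 = N32651 := ded_29_0 (flp_g L256707) (flp_f L240525) L240529 L242812
theorem L256715 : sm gb N31122 = N32651 := ded_31_14 (flp_g L256707) (flp_f L240525) (flp_b L214317) (flp_g L240815) (flp_f L240807) L213996 L240043 L256517 (flp_b L256525) (flp_g L242915) L242901 (flp_b L242913) (flp_g L242794) L242784
theorem L256717 : sm gb N30882 = N32652 := rfl
theorem L256719 : sm gd N32652 = N30886 := ded_14_2 (flp_b L240551) (flp_d L240531) L256717
theorem L256721 : sm gc N32652 = N32630 := ded_13_2 (flp_b L256490) (flp_c L242905) (flp_b L242913) L242798 L256717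
theorem L256723 : sm ga N32652 = N32652 := ded_7_1 (flp_b L256717) L242812 (flp_b L242804) L217886 L188401 (flp_a L217886) L242804 (flp_a L242812) L256717
theorem L256724 : sm gf N30882 = N32653 := rfl
theorem L256726 : sm ga N32653 = N32651 := ded_11_1 (flp_f L256713) (flp_a L242812) L256724
theorem L256728 : sm gc N32653 = N31139 := ded_20_1 L242931 L242798 L256724
theorem L256730 : sm gd N32653 = N30887 := ded_23_1 (flp_f L240555) (flp_d L240531) L256724
theorem L256732 : sm ge N32653 = N31835 := ded_25_1 (flp_f L256695) L256693 L256724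
theorem L256734 : sm gg N32653 = N32387 := ded_29_3 L254058 (flp_f L240525) L240529 L256724
theorem L256736 : sm gb N32653 = N31831 := ded_31_2 (flp_g L249240) (flp_f L249232) (flp_b L227074) (flp_g L198701) (flp_f L198528) (flp_b L222868) L204402 (flp_f L204362) L204354 L234663 (flp_f L234667) L214317 L240529 L256724
theorem L256738 : sm gb N30887 = N32654 := rfl
theorem L256740 : sm gd N32654 = N31831 := ded_14_2 (flp_b L256736) L256730 L256738
theorem L256742 : sm ga N32654 = N31830 := ded_7_1 (flp_b L248852) L226643 L237577 (flp_a L239789) L239793 (flp_a L239797) L240549 (flp_a L240557) L256738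
theorem L256744 : sm gg N30889 = N32655 := rfl
theorem L256746 : sm ga N32655 = N32428 := ded_12_1 L254528 L254259 L256744
theorem L256748 : sm gc N32655 = N30890 := ded_21_1 (flp_g L240581) L240572 L256744
theorem L256750 : sm gd N32655 = N31097 := ded_24_1 (flp_g L242528) L240579 L256744
theorem L256752 : sm ge N32655 = N30945 := ded_26_1 (flp_g L241078) (flp_e L240574) L256744
theorem L256754 : sm gf N32428 = N32655 := ded_29_0 (flp_g L256744) L240576 L256744 L256746
theorem L256756 : sm gb N32655 = N31614 := ded_17_1 (flp_g L246977) L224678 L217630 (flp_b L240577) L256744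
theorem L256758 : sm gf N30891 = N32656 := rfl
theorem L256760 : sm ga N32656 = N31774 := ded_11_1 (flp_f L248395) (flp_a L240593) L256758
theorem L256762 : sm gd N32656 = N32223 := ded_23_1 L252407 (flp_d L240597) L256758
theorem L256764 : sm ge N32656 = N30892 := ded_25_1 (flp_f L240599) L240591 L256758
theorem L256766 : sm gg N32656 = N32162 := ded_29_1 L251818 (flp_g L248403) (flp_a L240593) L256758
theorem L256768 : sm gb N32656 = N32638 := ded_16_1 L256571 (flp_b L252728) (flp_f L232158) (flp_b L240595) L256758
theorem L256770 : sm gg N30891 = N32657 := rfl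
theorem L256772 : sm ga N32657 = N31775 := ded_12_1 (flp_g L248403) (flp_a L240593) L256770
theorem L256774 : sm gc N32657 = N31404 := ded_21_1 L253549 L253545 L256770
theorem L256776 : sm gd N32657 = N32350 := ded_24_1 L253697 (flp_d L240597) L256770
theorem L256778 : sm ge N32657 = N30893 := ded_26_1 (flp_g L240609) L240591 L256770
theorem L256780 : sm gb N30893 = N32658 := rfl
theorem L256782 : sm gc N32658 = N31490 := ded_13_2 (flp_b L249432) (flp_c L249438) L253563 L253555 L256780
theorem L256784 : sm gg N32658 = N30896 := ded_17_2 (flp_b L240631) (flp_g L213778) L213764 L240609 L256780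
theorem L256786 : sm ga N30896 = N32659 := rfl
theorem L256788 : sm gc N32659 = N31488 := ded_8_2 L245925 L240635 L256786
theorem L256790 : sm gd N32659 = N32628 := ded_9_2 L256472 L240988 L256786
theorem L256792 : sm ge N32659 = N32501 := ded_10_2 L255190 L255132 L256786
theorem L256794 : sm gf N32659 = N31484 := ded_11_2 (flp_a L245897) (flp_f L240633) L256786
theorem L256796 : sm gf N30899 = N32660 := rfl
theorem L256798 : sm ga N32660 = N30900 := ded_11_1 (flp_f L240668) L240658 L256796
theorem L256800 : sm gc N32660 = N30900 := ded_20_1 (flp_f L240668) (flp_c L240664) L256796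
theorem L256802 : sm gd N32660 = N32189 := ded_23_1 (flp_f L252082) (flp_d L240660) L256796
theorem L256804 : sm ge N32660 = N30917 := ded_25_1 (flp_f L240807) (flp_e L240662) L256796
theorem L256806 : sm gg N32660 = N30925 := ded_29_3 (flp_a L240888) L240900 L240910 L256796
theorem L256808 : sm gb N30900 = N32661 := rfl
theorem L256810 : sm gd N32661 = N32191 := ded_14_2 (flp_b L252098) (flp_d L240670) L256808
theorem L256812 : sm ge N32661 = N32375 := ded_15_2 (flp_b L253942) (flp_e L240672) L256808
theorem L256814 : sm gf N32661 = N30902 := ded_16_2 (flp_b L240682) (flp_f L213867) L213861 L240668 L256808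
theorem L256816 : sm gg N32661 = N30928 := ded_17_2 (flp_b L240918) (flp_g L214182) L214166 L240674 L256808
theorem L256818 : sm ga N32661 = N30916 := ded_30_3 L240802 (flp_c L226667) (flp_b L198336) (flp_a L198254) (flp_f L198252) (flp_c L167508) (flp_b L167494) (flp_a L198194) L216877 L216871 L214156 (flp_a L214246) (flp_f L214244) L183105 L213861 L240658 L256796 L256800 L256808
theorem L256820 : sm gc N30915 = N32661 := ded_30_1 (flp_b L256808) (flp_a L256798) (flp_f L256796) L240664 (flp_b L213861) (flp_a L182918) L182932 (flp_c L183111) (flp_b L214156) (flp_a L226519) (flp_f L226517) (flp_c L198212) L167494 L116165 L116184 (flp_c L167547) L198336 L226665 (flp_f L240796)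
theorem L256822 : sm ga N30903 = N32662 := rfl
theorem L256824 : sm gc N32662 = N32292 := ded_8_2 L253128 L249046 L256822
theorem L256826 : sm gd N32662 = N32197 := ded_9_2 (flp_a L252150) (flp_d L240696) L256822
theorem L256828 : sm ge N32662 = N32379 := ded_10_2 (flp_a L253974) (flp_e L240698) L256822
theorem L256830 : sm gg N32662 = N31853 := ded_12_2 (flp_a L253128) L253134 L256822
theorem L256832 : sm gb N30907 = N32663 := rfl
theorem L256834 : sm gd N32663 = N32639 := ded_14_2 (flp_b L256573) (flp_d L240736) L256832
theorem L256836 : sm ge N32663 = N32651 := ded_15_2 (flp_b L256715) L242792 L256832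
theorem L256838 : sm gf N32663 = N30909 := ded_16_2 (flp_b L240744) (flp_f L213931) L213927 L240732 L256832
theorem L256840 : sm ga N32663 = N31835 := ded_7_1 (flp_b L248896) (flp_a L226665) (flp_b L198336) (flp_a L198254) L226575 (flp_a L226800) L226806 (flp_a L240734) L256832
theorem L256842 : sm gc N31820 = N32663 := ded_30_1 (flp_b L256832) L240734 (flp_f L226555) (flp_c L226515) (flp_b L226511) L198214 L214150 (flp_c L216871) (flp_b L226920) L226912 (flp_f L198595) L198583 L226922 (flp_a L240035) L256470 L256474 (flp_b L240970) L240740 L248770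
theorem L256844 : sm gg N32648 = N32663 := ded_26_0 L256836 (flp_g L256707) (flp_e L256681)
theorem L256846 : sm gf N30911 = N32664 := rfl
theorem L256848 : sm ga N32664 = N30919 := ded_11_1 (flp_f L240829) (flp_a L240760) L256846
theorem L256850 : sm gc N32664 = N30913 := ded_20_1 (flp_f L240778) (flp_c L240764) L256846
theorem L256852 : sm gd N32664 = N32190 := ded_23_1 (flp_f L252090) (flp_d L240766) L256846
theorem L256854 : sm ge N32664 = N30912 := ded_25_1 (flp_f L240768) L240758 L256846
theorem L256856 : sm gg N32664 = N30936 := ded_29_3 L240996 L241018 L241028 L256846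
theorem L256858 : sm gb N30912 = N32665 := rfl
theorem L256860 : sm gd N32665 = N32375 := ded_14_2 (flp_b L253942) (flp_d L240774) L256858
theorem L256862 : sm gf N32665 = N32377 := ded_16_2 (flp_b L253960) (flp_f L234671) L214056 L240768 L256858
theorem L256864 : sm gg N32665 = N32392 := ded_17_2 (flp_b L254110) (flp_g L234825) L214377 (flp_g L240776) L256858
theorem L256866 : sm gb N30913 = N32666 := rfl
theorem L256868 : sm ge N32666 = N30914 := ded_15_2 (flp_b L240786) (flp_e L240782) L256866
theorem L256870 : sm gf N32666 = N31826 := ded_16_2 (flp_b L248834) (flp_f L226629) (flp_b L214066) L240778 L256866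
theorem L256872 : sm gg N32666 = N31868 := ded_17_2 (flp_b L249180) (flp_g L227054) (flp_b L214387) (flp_g L240784) L256866
theorem L256874 : sm ga N30914 = N32667 := rfl
theorem L256876 : sm gd N32667 = N30915 := ded_9_2 (flp_a L240794) (flp_d L240788) L256874
theorem L256878 : sm gf N32667 = N31827 := ded_11_2 (flp_a L248838) (flp_f L240790) L256874
theorem L256880 : sm gg N32667 = N31869 := ded_12_2 (flp_a L249184) (flp_g L240792) L256874
theorem L256882 : sm gc N30914 = N32668 := rfl
theorem L256884 : sm gf N32668 = N31828 := ded_20_2 (flp_c L248842) (flp_f L240790) L256882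
theorem L256886 : sm gg N32668 = N31870 := ded_21_2 (flp_c L249190) (flp_g L240792) L256882
theorem L256888 : sm gb N30915 = N32669 := rfl
theorem L256890 : sm ga N32669 = N32669 := ded_7_1 (flp_b L256888) (flp_a L240794) (flp_b L213990) L182975 L145790 (flp_a L182975) L213990 L240794 L256888
theorem L256891 : sm gd N30916 = N32670 := rfl
theorem L256893 : sm ga N32670 = N32191 := ded_9_1 (flp_d L256810) L256818 L256891
theorem L256895 : sm gb N32670 = N32670 := ded_14_1 (flp_d L256891) L240806 L256891
theorem L256896 : sm gf N32670 = N31836 := ded_23_2 (flp_d L248902) (flp_f L240802) L256891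
theorem L256898 : sm gg N32670 = N31799 := ded_24_2 L248607 (flp_g L240804) L256891
theorem L256900 : sm gb N30917 = N32671 := rfl
theorem L256902 : sm gd N32671 = N30921 := ded_14_2 (flp_b L240847) (flp_d L240813) L256900
theorem L256904 : sm gf N32671 = N32630 := ded_16_2 (flp_b L256490) (flp_f L240039) (flp_b L213996) L240807 L256900
theorem L256906 : sm gg N32671 = N32652 := ded_17_2 (flp_b L256717) (flp_g L240529) (flp_b L214317) (flp_g L240815) L256900
theorem L256908 : sm ga N32671 = N32671 := ded_7_1 (flp_b L256900) L240809 L253942 L253948 L242868 (flp_a L253948) (flp_b L253942) (flp_a L240809) L256900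
theorem L256909 : sm gf N30918 = N32672 := rfl
theorem L256911 : sm ga N32672 = N32190 := ded_11_1 (flp_f L252090) (flp_a L240819) L256909
theorem L256913 : sm gc N32672 = N32200 := ded_20_1 (flp_f L252174) L240825 L256909
theorem L256915 : sm gd N32672 = N30919 := ded_23_1 (flp_f L240829) L240817 L256909
theorem L256917 : sm ge N32672 = N32189 := ded_25_1 (flp_f L252082) (flp_e L240823) L256909
theorem L256919 : sm gg N32672 = N30937 := ded_29_3 L241008 (flp_f L232594) L240827 L256909
theorem L256921 : sm gb N30919 = N32673 := rfl
theorem L256923 : sm ge N32673 = N30921 := ded_15_2 (flp_b L240847) (flp_e L240833) L256921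
theorem L256925 : sm gc N32673 = N32673 := ded_13_2 (flp_b L256921) L240831 L214092 (flp_c L240831) L256921
theorem L256926 : sm gf N32673 = N32500 := ded_16_2 (flp_b L255182) L237251 (flp_b L214076) L240829 L256921
theorem L256928 : sm gg N32673 = N32503 := ded_17_2 (flp_b L255208) L237277 (flp_b L214397) L240835 L256921
theorem L256930 : sm ga N32673 = N32673 := ded_30_3 L256926 L255186 (flp_b L255182) (flp_a L255172) L255176 L240003 L213187 (flp_a L231644) (flp_f L248095) (flp_c L248089) (flp_b L225993) (flp_a L225947) (flp_f L225945) (flp_c L198314) (flp_b L214066) L213976 L214088 (flp_c L240831) L256921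
theorem L256931 : sm ga N30927 = N32674 := rfl
theorem L256933 : sm gc N32674 = N32218 := ded_8_2 L252351 L248708 L256931
theorem L256935 : sm gd N32674 = N32274 := ded_9_2 (flp_a L252936) (flp_d L240914) L256931
theorem L256937 : sm ge N32674 = N32393 := ded_10_2 (flp_a L254114) (flp_e L240916) L256931
theorem L256939 : sm gf N32674 = N31811 := ded_11_2 (flp_a L252351) L252355 L256931
theorem L256941 : sm gb N32674 = N32662 := ded_7_2 (flp_a L256822) (flp_b L240694) L213877 L182940 L222823 (flp_b L183083) (flp_a L214174) L240912 L256931
theorem L256943 : sm gb N30933 = N32675 := rfl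
theorem L256945 : sm gd N32675 = N32658 := ded_14_2 (flp_b L256780) (flp_d L240976) L256943
theorem L256947 : sm ge N32675 = N32633 := ded_15_2 (flp_b L256525) L242923 L256943
theorem L256949 : sm gg N32675 = N30935 := ded_17_2 (flp_b L240986) (flp_g L214252) L214240 L240972 L256943
theorem L256951 : sm ga N32675 = N31877 := ded_7_1 (flp_b L249254) (flp_a L227090) (flp_b L198707) (flp_a L198625) L226986 L226998 (flp_b L226992) (flp_a L240974) L256943
theorem L256953 : sm gf N32629 = N32675 := ded_31_1 (flp_b L256943) (flp_g L240972) L240962 (flp_b L240970) (flp_g L240738) L240732 L256832 (flp_g L256844) (flp_f L256675) (flp_b L240898) (flp_g L256806) (flp_f L256796) L240666 L256480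
theorem L256955 : sm gc N31862 = N32675 := ded_30_1 (flp_b L256943) L240974 (flp_f L240756) (flp_c L249256) (flp_b L249254) (flp_a L227090) L227100 L227104 (flp_b L226894) (flp_a L198711) (flp_f L198709) L167793 L167801 (flp_a L167806) L198097 (flp_c L226399) (flp_b L226992) (flp_a L240974) L249118
theorem L256957 : sm gc N30966 = N32676 := rfl
theorem L256959 : sm gg N32676 = N30967 := ded_21_2 (flp_c L241318) (flp_g L241316) L256957
theorem L256961 : sm gb N30967 = N32677 := rfl
theorem L256963 : sm gc N32677 = N32677 := ded_13_2 (flp_b L256961) (flp_c L241318) L215921 L241318 L256961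
theorem L256964 : sm ga N32677 = N32677 := ded_7_1 (flp_b L256961) (flp_a L252028) L252030 (flp_a L254859) L254869 L254859 (flp_b L252030) L252028 L256961
theorem L256965 : sm gf N30967 = N32678 := rfl
theorem L256967 : sm gc N32678 = N30968 := ded_20_1 (flp_f L241320) L241318 L256965
theorem L256969 : sm gg N31017 = N32678 := ded_21_0 L256967 (flp_g L241324) L241730
theorem L256971 : sm gc N30969 = N32679 := rfl
theorem L256973 : sm ge N32679 = N32678 := ded_19_2 L256967 (flp_e L241330) L256971
theorem L256975 : sm gf N32679 = N30970 := ded_20_2 (flp_c L241332) (flp_f L241328) L256971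
theorem L256977 : sm gd N32678 = N32679 := ded_28_1 (flp_c L256971) (flp_d L241326) (flp_c L215956) (flp_d L215903) (flp_c L230498) (flp_d L252036) L252034 (flp_c L256967)
theorem L256979 : sm gb N30970 = N32680 := rfl
theorem L256981 : sm gd N32680 = N32677 := ded_14_2 (flp_b L256961) L241336 L256979
theorem L256983 : sm ge N32680 = N32677 := ded_15_2 (flp_b L256961) (flp_e L241334) L256979
theorem L256985 : sm gc N32680 = N32680 := ded_13_2 (flp_b L256979) (flp_c L241332) L215964 L241332 L256979
theorem L256986 : sm ga N32680 = N32680 := ded_7_1 (flp_b L256979) (flp_a L252886) L252890 (flp_a L254744) L254750 L254744 (flp_b L252890) L252886 L256979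
theorem L256987 : sm gg N30970 = N32681 := rfl
theorem L256989 : sm gc N32681 = N30971 := ded_21_1 (flp_g L241338) L241332 L256987
theorem L256991 : sm gd N32681 = N32676 := ded_24_1 L256959 L241336 L256987
theorem L256993 : sm ge N32681 = N32676 := ded_26_1 L256959 (flp_e L241334) L256987
theorem L256995 : sm gf N30991 = N32681 := ded_20_0 L256989 (flp_f L241344) L241504
theorem L256997 : sm gb N30977 = N32682 := rfl
theorem L256999 : sm gd N32682 = N31562 := ded_14_2 (flp_b L246531) (flp_d L241414) L256997
theorem L257001 : sm ge N32682 = N30978 := ded_15_2 (flp_b L241420) (flp_e L241416) L256997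
theorem L257003 : sm gg N32682 = N30980 := ded_17_2 (flp_b L241430) (flp_g L216117) (flp_b L216097) L241410 L256997
theorem L257005 : sm ga N32682 = N32432 := ded_28_8 (flp_c L254792) L254788 L236492 L254592 (flp_c L254600) (flp_d L245343) (flp_c L246535) (flp_d L256999)
theorem L257007 : sm gf N30978 = N32683 := rfl
theorem L257009 : sm ga N32683 = N32437 := ded_11_1 (flp_f L254606) L253196 L257007
theorem L257011 : sm gd N32683 = N31676 := ded_23_1 L247517 (flp_d L241422) L257007
theorem L257013 : sm gb N30979 = N32684 := rfl
theorem L257015 : sm gd N32684 = N30980 := ded_14_2 (flp_b L241430) (flp_d L241428) L257013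
theorem L257017 : sm ge N32684 = N31567 := ded_15_2 L246563 L243731 L257013
theorem L257019 : sm gg N32684 = N31562 := ded_17_2 (flp_b L246531) L223737 (flp_b L216113) L241426 L257013
theorem L257021 : sm ga N30980 = N32685 := rfl
theorem L257023 : sm ge N32685 = N30981 := ded_10_2 (flp_a L241434) (flp_e L241432) L257021
theorem L257025 : sm gg N32685 = N32432 := ded_12_2 (flp_a L257005) L257003 L257021
theorem L257027 : sm gc N30980 = N32686 := rfl
theorem L257029 : sm ge N32686 = N30982 := ded_19_2 (flp_c L241436) (flp_e L241432) L257027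
theorem L257031 : sm gb N32686 = N30984 := ded_13_1 (flp_c L241442) (flp_b L216125) (flp_c L216119) L241430 L257027
theorem L257033 : sm gd N32686 = N30982 := ded_32_8 (flp_c L241436) (flp_b L216123) (flp_d L197683) L197681 L167084 L115980 L156140 L156142 L156444 L187733 L216861 (flp_b L222525) (flp_d L239957) L239955 L223082 L193203 (flp_b L184264) L152738 (flp_d L105823) L105822 L105823 (flp_c L151948) L183467 L183469 L183499 (flp_d L189375) L205169 (flp_b L205165) (flp_d L205159) L208692 (flp_d L208684) (flp_c L208662) (flp_b L208656) (flp_d L196440) (flp_c L196428) (flp_d L196395) L196399 (flp_b L196253) L165179 (flp_c L154696) L154698 L157471 (flp_b L155664) (flp_e L155584) L155582 (flp_c L122514) (flp_d L112072) (flp_c L155030) L155038 L151228 (flp_c L157537) (flp_d L163445) L174066 L174060 L172923 L123954 (flp_d L124045) (flp_c L175985) (flp_b L205818) (flp_d L214783) (flp_c L214773) L184115 (flp_c L190109) (flp_b L190107) (flp_d L158494) L158492 (flp_d L162313) L162311 L152218 (flp_e L177717) (flp_d L208859) (flp_c L236809) (flp_d L255040) L255038 L257013 L257015 L257027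
theorem L257035 : sm gf N30980 = N32687 := rfl
theorem L257037 : sm ge N32687 = N30983 := ded_25_1 (flp_f L241440) (flp_e L241432) L257035
theorem L257039 : sm gb N30981 = N32688 := rfl
theorem L257041 : sm gg N32688 = N32438 := ded_17_2 (flp_b L254614) (flp_g L236237) L236227 (flp_g L253198) L257039
theorem L257043 : sm gf N30981 = N32689 := rfl
theorem L257045 : sm ga N32689 = N30983 := ded_11_1 (flp_f L241440) L241434 L257043
theorem L257047 : sm gg N32689 = N32683 := ded_29_3 L257009 (flp_f L254606) (flp_g L253198) L257043
theorem L257049 : sm gb N32689 = N32477 := ded_31_2 L254931 L252844 (flp_b L247241) (flp_g L225207) L219946 L219942 (flp_g L219884) L220002 (flp_b L239311) (flp_g L239305) L212213 L236227 (flp_g L253198) L257043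
theorem L257051 : sm gb N32464 = N32474 := ded_30_2 L254913 (flp_f L254907) L254905 (flp_b L241654) (flp_a L220830) (flp_f L220836) L193885 L193841 (flp_a L193275) L193353 L193351 L193383 L223341 (flp_f L244567) (flp_c L244573) L241872 (flp_a L257045) (flp_f L257043) (flp_c L254834)
theorem L257053 : sm gc N32689 = N32476 := ded_30_1 (flp_b L254921) (flp_a L254796) (flp_f L254804) (flp_c L236557) (flp_b L236551) (flp_a L254296) (flp_f L254294) L235400 (flp_b L233589) (flp_a L203671) (flp_f L203669) L170979 L118314 (flp_a L156354) L156358 (flp_c L187069) L216123 L241434 L257043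
theorem L257055 : sm gf N32464 = N32476 := ded_20_2 (flp_c L257053) (flp_f L257043) (flp_c L254834)
theorem L257057 : sm gg N32474 = N32465 := ded_17_2 (flp_b L254836) (flp_g L236498) L236490 L254830 L257051
theorem L257059 : sm gf N30982 = N32690 := rfl
theorem L257061 : sm ga N32690 = N32476 := ded_11_1 (flp_f L257055) L254832 L257059
theorem L257063 : sm gc N32690 = N30983 := ded_20_1 (flp_f L241440) L241436 L257059
theorem L257065 : sm gg N32463 = N32690 := ded_29_1 (flp_f L257059) L254822 (flp_a L254818) L254826
theorem L257067 : sm gb N32690 = N31313 := ded_16_1 L244561 (flp_b L241706) (flp_f L241468) (flp_b L241438) L257059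
theorem L257069 : sm gf N30984 = N32691 := rfl
theorem L257071 : sm ga N32691 = N32484 := ded_11_1 (flp_f L255368) L255364 L257069
theorem L257073 : sm gc N32691 = N30985 := ded_20_1 (flp_f L241450) L241442 L257069
theorem L257075 : sm gd N32691 = N30987 := ded_23_1 (flp_f L241468) L241448 L257069
theorem L257077 : sm ge N32691 = N30987 := ded_25_1 (flp_f L241468) (flp_e L241444) L257069
theorem L257079 : sm gg N32691 = N32486 := ded_29_3 L255026 L236763 (flp_g L241446) L257069
theorem L257081 : sm gb N30986 = N32692 := rfl
theorem L257083 : sm gc N30988 = N32693 := rfl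
theorem L257085 : sm ga N32693 = N30991 := ded_8_1 (flp_c L241504) (flp_a L241474) L257083
theorem L257087 : sm ge N32693 = N31017 := ded_19_2 (flp_c L241730) (flp_e L241480) L257083
theorem L257089 : sm gg N32693 = N32679 := ded_21_2 (flp_c L256971) (flp_g L241478) L257083
theorem L257091 : sm gb N32693 = N31283 := ded_13_1 (flp_c L244333) (flp_b L220436) (flp_c L237689) (flp_b L241476) L257083
theorem L257093 : sm gd N31017 = N32693 := ded_28_1 (flp_c L257083) (flp_d L241472) (flp_c L216187) (flp_d L187319) L216385 (flp_d L241516) L241510 L241730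
theorem L257095 : sm gd N30991 = N32694 := rfl
theorem L257097 : sm ga N32694 = N31017 := ded_9_1 L257093 L257085 L257095
theorem L257099 : sm gb N32694 = N31312 := ded_14_1 L244553 (flp_b L241506) L257095
theorem L257101 : sm gf N32694 = N32676 := ded_23_2 (flp_d L256991) (flp_f L256995) L257095
theorem L257103 : sm gc N30992 = N32694 := ded_28_0 (flp_d L257095) (flp_c L241504) (flp_d L216201) (flp_c L187139) (flp_d L155980) L187327 L216399 (flp_a L241510)
theorem L257105 : sm ge N30991 = N32694 := ded_10_0 L257097 (flp_e L257087) L257085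
theorem L257107 : sm gg N30991 = N32695 := rfl
theorem L257109 : sm ga N32695 = N32679 := ded_12_1 (flp_g L257089) L257085 L257107
theorem L257111 : sm gc N32695 = N30993 := ded_21_1 (flp_g L241518) L241504 L257107
theorem L257113 : sm gf N32269 = N32695 := ded_29_0 (flp_g L257107) L256995 (flp_g L256987) (flp_a L252886)
theorem L257115 : sm gb N32695 = N32463 := ded_17_1 L257065 L257067 (flp_g L244555) (flp_b L241506) L257107
theorem L257117 : sm gb N31004 = N32696 := rfl
theorem L257119 : sm gd N32696 = N31582 := ded_14_2 (flp_b L246697) (flp_d L241648) L257117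
theorem L257121 : sm ge N32696 = N31005 := ded_15_2 (flp_b L241654) (flp_e L241650) L257117
theorem L257123 : sm gf N32696 = N31007 := ded_16_2 (flp_b L241664) (flp_f L216315) (flp_b L216295) L241644 L257117
theorem L257125 : sm ga N32696 = N32445 := ded_28_8 (flp_c L254901) L254897 L236571 L254702 (flp_c L254710) (flp_d L245019) (flp_c L246701) (flp_d L257119)
theorem L257127 : sm gg N31005 = N32697 := rfl
theorem L257129 : sm ga N32697 = N32450 := ded_12_1 (flp_g L254716) L251764 L257127
theorem L257131 : sm gd N32697 = N31665 := ded_24_1 L247409 (flp_d L241656) L257127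
theorem L257133 : sm gb N31006 = N32698 := rfl
theorem L257135 : sm gd N32698 = N31007 := ded_14_2 (flp_b L241664) (flp_d L241662) L257133
theorem L257137 : sm ge N32698 = N31586 := ded_15_2 L246721 L243981 L257133
theorem L257139 : sm gf N32698 = N31582 := ded_16_2 (flp_b L246697) (flp_f L224009) (flp_b L216311) L241660 L257133
theorem L257141 : sm ga N31007 = N32699 := rfl
theorem L257143 : sm ge N32699 = N31008 := ded_10_2 (flp_a L241668) (flp_e L241666) L257141
theorem L257145 : sm gf N32699 = N32445 := ded_11_2 (flp_a L257125) L257123 L257141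
theorem L257147 : sm gc N31007 = N32700 := rfl
theorem L257149 : sm ge N32700 = N31009 := ded_19_2 (flp_c L241670) (flp_e L241666) L257147
theorem L257151 : sm gb N32700 = N31011 := ded_13_1 (flp_c L241676) (flp_b L216323) (flp_c L216317) L241664 L257147
theorem L257153 : sm gd N32700 = N31009 := ded_32_8 (flp_c L241670) (flp_b L216321) (flp_d L197879) L197877 L167230 L150908 L156250 L156252 L156693 L188079 L217424 L222525 (flp_d L240433) L240431 L223519 L193507 (flp_b L184640) L153153 (flp_d L106137) L106136 L106137 (flp_c L152392) L183935 L183937 L183961 (flp_d L189805) L204922 (flp_b L204918) (flp_d L204912) L208519 (flp_d L208511) (flp_c L208489) (flp_b L208483) (flp_d L196027) (flp_c L196015) (flp_d L195982) L195986 (flp_b L195844) L164572 L154502 L154344 L157389 (flp_b L155700) (flp_e L155630) L155628 (flp_c L121655) (flp_d L111865) (flp_c L155044) L155052 L151317 (flp_c L157455) L163278 L172563 (flp_b L174422) L174418 L123522 (flp_d L123590) (flp_c L175591) (flp_b L207041) L214601 (flp_c L214591) L183707 (flp_c L190186) (flp_b L190182) L158494 L158429 (flp_d L162627) L162625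 (flp_b L152624) (flp_e L177743) (flp_d L208903) (flp_c L236893) (flp_d L255064) L255062 L257133 L257135 L257147
theorem L257155 : sm gg N31007 = N32701 := rfl
theorem L257157 : sm ge N32701 = N31010 := ded_26_1 (flp_g L241674) (flp_e L241666) L257155
theorem L257159 : sm gb N31008 = N32702 := rfl
theorem L257161 : sm gc N32702 = N32688 := ded_13_2 (flp_b L257039) (flp_c L254834) L257051 L254915 L257159
theorem L257163 : sm gf N32702 = N32451 := ded_16_2 (flp_b L254724) (flp_f L236376) L236366 (flp_f L251766) L257159
theorem L257165 : sm gg N31008 = N32703 := rfl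
theorem L257167 : sm ga N32703 = N31010 := ded_12_1 (flp_g L241674) L241668 L257165
theorem L257169 : sm gc N32703 = N32465 := ded_21_1 (flp_g L257057) L254915 L257165
theorem L257171 : sm gf N32697 = N32703 := ded_29_0 (flp_g L257165) L251766 L254716 (flp_a L257129)
theorem L257173 : sm gb N32466 = N32703 := ded_31_14 (flp_g L257165) L251766 (flp_b L236366) (flp_g L212793) L239653 L239659 L220218 L220100 (flp_b L220158) (flp_g L220162) L225165 L247207 (flp_g L251988) (flp_f L254844)
theorem L257175 : sm gg N31009 = N32704 := rfl
theorem L257177 : sm ga N32704 = N32465 := ded_12_1 (flp_g L257057) L254913 L257175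
theorem L257179 : sm gc N32704 = N31010 := ded_21_1 (flp_g L241674) L241670 L257175
theorem L257181 : sm gf N32704 = N32475 := ded_29_2 (flp_g L254917) L254903 L254907 L257175
theorem L257183 : sm gb N32704 = N31284 := ded_17_1 (flp_g L244347) L241706 (flp_g L241702) (flp_b L241672) L257175
theorem L257185 : sm gg N31011 = N32705 := rfl
theorem L257187 : sm ga N32705 = N32480 := ded_12_1 (flp_g L255287) L255281 L257185
theorem L257189 : sm gc N32705 = N31012 := ded_21_1 (flp_g L241684) L241676 L257185
theorem L257191 : sm gd N32705 = N31014 := ded_24_1 (flp_g L241702) L241682 L257185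
theorem L257193 : sm ge N32705 = N31014 := ded_26_1 (flp_g L241702) (flp_e L241678) L257185
theorem L257195 : sm gf N32482 = N32705 := ded_29_0 (flp_g L257185) L241680 (flp_g L236681) (flp_a L254980)
theorem L257197 : sm gb N32691 = N32705 := ded_30_2 L257187 L254960 (flp_c L236677) (flp_b L221560) (flp_a L245077) (flp_f L245075) (flp_c L221532) L221528 (flp_a L239687) (flp_f L239685) (flp_c L237645) (flp_b L237641) (flp_a L226471) L237597 L237593 L237599 (flp_a L237609) L241450 (flp_c L257073)
theorem L257199 : sm gb N31013 = N32706 := rfl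
theorem L257201 : sm ga N32706 = N32692 := ded_7_1 (flp_b L257081) L241464 (flp_b L241438) (flp_a L254832) L257051 L254913 L241672 (flp_a L241698) L257199
theorem L257203 : sm gf N31017 = N32707 := rfl
theorem L257205 : sm ga N32707 = N32676 := ded_11_1 (flp_f L257101) L257097 L257203
theorem L257207 : sm gc N32707 = N31018 := ded_20_1 (flp_f L241734) L241730 L257203
theorem L257209 : sm gg N32707 = N32184 := ded_29_3 L252028 L256965 (flp_g L256969) L257203
theorem L257211 : sm gb N32707 = N32475 := ded_16_1 (flp_f L257181) L257183 (flp_f L244341) (flp_b L241732) L257203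
theorem L257213 : sm gf N31029 = N32708 := rfl
theorem L257215 : sm ga N32708 = N32612 := ded_11_1 L256282 L246230 L257213
theorem L257217 : sm gc N32708 = N32481 := ded_20_1 L254972 (flp_c L246226) L257213
theorem L257219 : sm gd N32708 = N32591 := ded_23_1 (flp_f L256054) (flp_d L241864) L257213
theorem L257221 : sm ge N32708 = N31030 := ded_25_1 (flp_f L241868) (flp_e L241866) L257213
theorem L257223 : sm gg N32708 = N32235 := ded_29_3 L252538 (flp_f L247317) L247319 L257213
theorem L257225 : sm gb N32708 = N32687 := ded_16_1 (flp_f L257035) (flp_b L241430) (flp_f L216551) L241862 L257213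
theorem L257227 : sm gf N31033 = N32709 := rfl
theorem L257229 : sm gc N32709 = N31316 := ded_20_1 (flp_f L248306) (flp_c L248310) L257227
theorem L257231 : sm gd N32709 = N31036 := ded_23_1 (flp_f L241922) (flp_d L241896) L257227
theorem L257233 : sm ge N32709 = N31288 := ded_25_1 L244381 L243739 L257227
theorem L257235 : sm gb N32709 = N31289 := ded_16_1 L244389 L241912 (flp_f L241900) L241894 L257227
theorem L257237 : sm gg N31041 = N32710 := rfl
theorem L257239 : sm ga N32710 = N31043 := ded_12_1 (flp_g L241980) (flp_a L241962) L257237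
theorem L257241 : sm gc N32710 = N32367 := ded_21_1 L253860 (flp_c L242334) L257237
theorem L257243 : sm gd N32710 = N31042 := ded_24_1 (flp_g L241968) L241960 L257237
theorem L257245 : sm ge N32710 = N32603 := ded_26_1 (flp_g L256184) (flp_e L241966) L257237
theorem L257247 : sm gf N32330 = N32710 := ded_29_0 (flp_g L257237) (flp_f L253489) L253491 (flp_a L253495)
theorem L257249 : sm gb N32710 = N31825 := ded_17_1 (flp_g L248824) L226589 L236145 (flp_b L241964) L257237
theorem L257251 : sm gf N31046 = N32711 := rfl
theorem L257253 : sm ga N32711 = N31949 := ded_11_1 L249853 (flp_a L242016) L257251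
theorem L257255 : sm gc N32711 = N31393 := ded_20_1 (flp_f L245185) (flp_c L242020) L257251
theorem L257257 : sm gd N32711 = N31950 := ded_23_1 L249861 L249506 L257251
theorem L257259 : sm ge N32711 = N31047 := ded_25_1 (flp_f L242022) L242014 L257251
theorem L257261 : sm gg N31392 = N32711 := ded_29_1 (flp_f L257251) (flp_g L245151) L245147 L245171
theorem L257263 : sm gb N32711 = N31919 := ded_16_1 L249639 L244623 L221102 (flp_b L242018) L257251
theorem L257265 : sm gd N31048 = N32712 := rfl
theorem L257267 : sm ga N32712 = N31629 := ded_9_1 L247114 (flp_a L242036) L257265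
theorem L257269 : sm gg N32712 = N32336 := ded_24_2 (flp_d L253565) (flp_g L242040) L257265
theorem L257271 : sm ge N32712 = N31630 := ded_22_2 L247122 (flp_e L234255) L234253 (flp_e L242038) L257265
theorem L257273 : sm gd N31049 = N32713 := rfl
theorem L257275 : sm ga N32713 = N31050 := ded_9_1 (flp_d L242054) L242042 L257273
theorem L257277 : sm gb N32713 = N31867 := ded_14_1 L249176 (flp_b L242052) L257273
theorem L257279 : sm gf N32713 = N31078 := ded_23_2 (flp_d L242326) (flp_f L242048) L257273
theorem L257281 : sm gg N32713 = N32368 := ded_24_2 L253868 (flp_g L242050) L257273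
theorem L257283 : sm ge N32713 = N32608 := ded_22_2 (flp_d L256238) L239255 (flp_d L218744) (flp_e L242046) L257273
theorem L257285 : sm gc N32329 = N32713 := ded_28_0 (flp_d L257273) L242044 L233645 (flp_c L233639) L203701 L203731 L233663 (flp_a L253487)
theorem L257287 : sm gb N31058 = N32714 := rfl
theorem L257289 : sm gd N32714 = N31059 := ded_14_2 (flp_b L242158) (flp_d L242152) L257287
theorem L257291 : sm ge N32714 = N31882 := ded_15_2 L249294 (flp_e L242154) L257287
theorem L257293 : sm gc N32714 = N31767 := ded_13_2 (flp_b L248334) L226165 (flp_b L226111) (flp_c L242150) L257287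
theorem L257295 : sm gf N32714 = N31758 := ded_16_2 (flp_b L248263) (flp_f L226083) (flp_b L217008) L242146 L257287
theorem L257297 : sm gg N32714 = N31767 := ded_17_2 (flp_b L248334) L227766 L227768 (flp_g L242156) L257287
theorem L257299 : sm ga N32714 = N32714 := ded_7_1 (flp_b L257287) L242148 (flp_b L238368) (flp_a L255793) L255795 L255793 L238368 (flp_a L242148) L257287
theorem L257300 : sm gc N31062 = N32715 := rfl
theorem L257302 : sm ga N32715 = N31063 := ded_8_1 (flp_c L242197) L242190 L257300
theorem L257304 : sm ge N32715 = N31879 := ded_19_2 L251472 L251470 L257300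
theorem L257306 : sm gf N32715 = N32510 := ded_20_2 L255269 L251514 L257300
theorem L257308 : sm gg N32715 = N32715 := ded_21_2 (flp_c L257300) L242194 L257300
theorem L257309 : sm gd N32715 = N31800 := ded_28_7 L248615 (flp_c L247579) L247582 (flp_c L254446) L254442 L241287 (flp_d L242192) L257300
theorem L257311 : sm gg N31066 = N32716 := rfl
theorem L257313 : sm ga N32716 = N32593 := ded_12_1 L256080 L245819 L257311
theorem L257315 : sm gc N32716 = N32485 := ded_21_1 L255020 (flp_c L245815) L257311
theorem L257317 : sm gd N32716 = N32576 := ded_24_1 (flp_g L255895) (flp_d L242226) L257311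
theorem L257319 : sm ge N32716 = N31067 := ded_26_1 (flp_g L242230) (flp_e L242228) L257311
theorem L257321 : sm gf N32137 = N32716 := ded_29_0 (flp_g L257311) (flp_f L247421) L247423 L251540
theorem L257323 : sm gb N32716 = N32701 := ded_17_1 (flp_g L257155) (flp_b L241664) L217124 L242224 L257311
theorem L257325 : sm gg N31070 = N32717 := rfl
theorem L257327 : sm gc N32717 = N31288 := ded_21_1 (flp_g L247930) (flp_c L247932) L257325
theorem L257329 : sm gd N32717 = N31073 := ded_24_1 (flp_g L242286) (flp_d L242260) L257325
theorem L257331 : sm ge N32717 = N31316 := ded_26_1 L244587 L243973 L257325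
theorem L257333 : sm gb N32717 = N31287 := ded_17_1 L244373 L242276 (flp_g L242264) L242258 L257325
theorem L257335 : sm gg N31081 = N32718 := rfl
theorem L257337 : sm ga N32718 = N32069 := ded_12_1 L250871 (flp_a L242362) L257335
theorem L257339 : sm gc N32718 = N31430 := ded_21_1 L245501 (flp_c L242366) L257335
theorem L257341 : sm gd N32718 = N32070 := ded_24_1 L250879 L250578 L257335
theorem L257343 : sm ge N32718 = N31082 := ded_26_1 (flp_g L242368) L242360 L257335
theorem L257345 : sm gf N32718 = N31429 := ded_29_2 (flp_g L245487) (flp_a L245463) L245467 L257335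
theorem L257347 : sm gb N32718 = N32047 := ded_17_1 (flp_g L250695) L244808 L221271 (flp_b L242364) L257335
theorem L257349 : sm gd N31083 = N32719 := rfl
theorem L257351 : sm ga N32719 = N31620 := ded_9_1 L247047 (flp_a L242382) L257349
theorem L257353 : sm gf N32719 = N32298 := ded_23_2 (flp_d L253200) (flp_f L242386) L257349
theorem L257355 : sm ge N32719 = N31621 := ded_22_2 L247055 (flp_e L233493) L233491 (flp_e L242384) L257349
theorem L257357 : sm gb N31091 = N32720 := rfl
theorem L257359 : sm gd N32720 = N31092 := ded_14_2 (flp_b L242482) (flp_d L242476) L257357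
theorem L257361 : sm ge N32720 = N32013 := ded_15_2 L250365 (flp_e L242478) L257357
theorem L257363 : sm gc N32720 = N31722 := ded_13_2 (flp_b L247956) L225903 (flp_b L225843) (flp_c L242474) L257357
theorem L257365 : sm gf N32720 = N31722 := ded_16_2 (flp_b L247956) (flp_f L228689) L228691 L242480 L257357
theorem L257367 : sm gg N32720 = N31713 := ded_17_2 (flp_b L247885) (flp_g L225811) (flp_b L217564) L242470 L257357
theorem L257369 : sm ga N32720 = N32720 := ded_7_1 (flp_b L257357) L242472 (flp_b L238524) (flp_a L255950) L255952 L255950 L238524 (flp_a L242472) L257357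
theorem L257370 : sm gc N31095 = N32721 := rfl
theorem L257372 : sm ga N32721 = N31096 := ded_8_1 (flp_c L242521) L242514 L257370
theorem L257374 : sm ge N32721 = N31838 := ded_19_2 L252482 L252480 L257370
theorem L257376 : sm gf N32721 = N32721 := ded_20_2 (flp_c L257370) L242518 L257370
theorem L257377 : sm gg N32721 = N32519 := ded_21_2 L255350 L252514 L257370
theorem L257379 : sm gd N32721 = N31840 := ded_28_7 L248935 (flp_c L247638) L247641 (flp_c L254256) L254252 L241256 (flp_d L242516) L257370
theorem L257381 : sm gd N31101 = N32722 := rfl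
theorem L257383 : sm ga N32722 = N32283 := ded_9_1 (flp_d L253032) (flp_a L242574) L257381
theorem L257385 : sm gb N32722 = N31988 := ded_14_1 (flp_d L250151) L242871 L257381
theorem L257387 : sm ge N32722 = N31104 := ded_22_2 (flp_d L242596) (flp_e L217700) L217694 L242572 L257381
theorem L257389 : sm gc N31994 = N32722 := ded_28_0 (flp_d L257381) L242576 (flp_d L249941) L249939 (flp_d L228808) (flp_c L250971) (flp_d L252289) L252287
theorem L257391 : sm gg N32209 = N32722 := ded_29_3 L257383 (flp_f L253040) (flp_g L252269) L252263
theorem L257393 : sm gf N31101 = N32723 := rfl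
theorem L257395 : sm ga N32723 = N32284 := ded_11_1 (flp_f L253042) (flp_a L242574) L257393
theorem L257397 : sm gc N32723 = N32281 := ded_20_1 (flp_f L253008) (flp_c L242576) L257393
theorem L257399 : sm ge N32723 = N31102 := ded_25_1 (flp_f L242578) L242572 L257393
theorem L257401 : sm gg N31101 = N32724 := rfl
theorem L257403 : sm ga N32724 = N32285 := ded_12_1 (flp_g L253052) (flp_a L242574) L257401
theorem L257405 : sm gc N32724 = N31959 := ded_21_1 (flp_g L249927) (flp_c L242576) L257401
theorem L257407 : sm gd N32724 = N32209 := ded_24_1 L257391 (flp_d L257381) L257401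
theorem L257409 : sm ge N32724 = N31103 := ded_26_1 (flp_g L242586) L242572 L257401
theorem L257411 : sm gf N32724 = N32208 := ded_29_2 L253050 (flp_a L257395) (flp_f L257393) L257401
theorem L257413 : sm gb N32724 = N32164 := ded_30_2 L251832 (flp_f L251860) L251858 L230214 L200924 L227682 L227684 L227694 L249783 L249787 L252768 L252762 L232264 L227662 L228981 L251173 (flp_a L253070) (flp_f L253078) (flp_c L257405)
theorem L257415 : sm gb N31102 = N32725 := rfl
theorem L257417 : sm gd N32725 = N31106 := ded_14_2 (flp_b L242618) (flp_d L242584) L257415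
theorem L257419 : sm ga N32725 = N32725 := ded_7_1 (flp_b L257415) L242580 (flp_b L251934) L251926 L250631 (flp_a L251926) L251934 (flp_a L242580) L257415
theorem L257420 : sm gg N31106 = N32726 := rfl
theorem L257422 : sm ga N32726 = N32726 := ded_12_1 (flp_g L257420) L242621 L257420
theorem L257423 : sm gc N32726 = N32726 := ded_21_1 (flp_g L257420) L242620 L257420
theorem L257424 : sm ge N32726 = N31136 := ded_26_1 L242898 L242733 L257420
theorem L257426 : sm gf N32726 = N31117 := ded_29_0 (flp_g L242898) L242896 L257420 L257422
theorem L257428 : sm gb N32726 = N31135 := ded_17_1 L242891 L218118 (flp_g L217817) L242618 L257420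
theorem L257430 : sm gd N31113 = N32727 := rfl
theorem L257432 : sm ga N32727 = N32208 := ded_9_1 (flp_d L252259) (flp_a L242697) L257430
theorem L257434 : sm gb N32727 = N32101 := ded_14_1 (flp_d L251171) L242959 L257430
theorem L257436 : sm ge N32727 = N31116 := ded_22_2 (flp_d L242721) (flp_e L217813) L217807 L242695 L257430
theorem L257438 : sm gc N32102 = N32727 := ded_28_0 (flp_d L257430) L242699 (flp_d L250965) L250963 L228802 (flp_c L249931) (flp_d L253074) L253070
theorem L257440 : sm gf N32285 = N32727 := ded_11_0 L257432 (flp_f L257411) L257403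
theorem L257442 : sm gg N32723 = N32727 := ded_12_0 L257432 L253050 (flp_a L257395)
theorem L257444 : sm gf N31113 = N32728 := rfl
theorem L257446 : sm ga N32728 = N32209 := ded_11_1 (flp_f L252263) (flp_a L242697) L257444
theorem L257448 : sm gc N32728 = N32078 := ded_20_1 (flp_f L250957) (flp_c L242699) L257444
theorem L257450 : sm gd N32728 = N32285 := ded_23_1 L257440 (flp_d L257430) L257444
theorem L257452 : sm ge N32728 = N31114 := ded_25_1 (flp_f L242701) L242695 L257444
theorem L257454 : sm gg N32728 = N32283 := ded_29_1 (flp_f L253040) (flp_g L252269) (flp_a L242697) L257444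
theorem L257456 : sm gb N32254 = N32728 := ded_15_3 L257452 (flp_b L242709) L252736
theorem L257458 : sm gg N31113 = N32729 := rfl
theorem L257460 : sm ga N32729 = N32210 := ded_12_1 (flp_g L252269) (flp_a L242697) L257458
theorem L257462 : sm gc N32729 = N32206 := ded_21_1 (flp_g L252239) (flp_c L242699) L257458
theorem L257464 : sm gd N32729 = N32723 := ded_24_1 L257442 (flp_d L257430) L257458
theorem L257466 : sm ge N32729 = N31115 := ded_26_1 (flp_g L242711) L242695 L257458
theorem L257468 : sm gf N32722 = N32729 := ded_29_0 (flp_g L257458) L257444 L257454 (flp_a L257383)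
theorem L257470 : sm gb N31115 = N32730 := rfl
theorem L257472 : sm gd N32730 = N31117 := ded_14_2 (flp_b L242731) (flp_d L242717) L257470
theorem L257474 : sm gc N32730 = N32725 := ded_13_2 (flp_b L257415) L242582 L232825 (flp_c L242715) L257470
theorem L257476 : sm ga N32730 = N32730 := ded_7_1 (flp_b L257470) L242713 (flp_b L252237) L252229 L249583 (flp_a L252229) L252237 (flp_a L242713) L257470
theorem L257477 : sm gf N31126 = N32731 := rfl
theorem L257479 : sm ga N32731 = N31133 := ded_11_1 (flp_f L242873) (flp_a L242826) L257477
theorem L257481 : sm gc N32731 = N31133 := ded_20_1 (flp_f L242873) L242830 L257477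
theorem L257483 : sm gd N32731 = N31127 := ded_23_1 (flp_f L242832) L242824 L257477
theorem L257485 : sm gg N32731 = N31141 := ded_29_3 L242949 L242961 L242969 L257477
theorem L257487 : sm gb N32731 = N32201 := ded_16_1 (flp_f L252185) L230764 L230794 (flp_b L242828) L257477
theorem L257489 : sm gb N31128 = N32732 := rfl
theorem L257491 : sm gd N32732 = N32666 := ded_14_2 (flp_b L256866) (flp_d L242850) L257489
theorem L257493 : sm ge N32732 = N31129 := ded_15_2 (flp_b L242856) (flp_e L242852) L257489
theorem L257495 : sm gc N32732 = N32191 := ded_13_2 (flp_b L252098) L230662 L230774 (flp_c L242848) L257489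
theorem L257497 : sm gf N32732 = N32196 := ded_16_2 L252146 L230728 (flp_b L217938) L242844 L257489
theorem L257499 : sm gg N32732 = N32276 := ded_17_2 L252960 L232676 (flp_b L218084) (flp_g L242854) L257489
theorem L257501 : sm ga N31129 = N32733 := rfl
theorem L257503 : sm gd N32733 = N31130 := ded_9_2 (flp_a L242860) (flp_d L242858) L257501
theorem L257505 : sm gf N32733 = N32654 := ded_11_2 L256742 L248856 L257501
theorem L257507 : sm gg N32733 = N32635 := ded_12_2 L256537 L249208 L257501
theorem L257509 : sm gb N32634 = N32733 := ded_30_2 (flp_a L257501) (flp_f L248856) (flp_c L252128) (flp_b L252124) (flp_a L240702) (flp_f L240700) L213889 (flp_b L230608) L230606 (flp_f L231994) L232066 L232064 (flp_a L213753) (flp_f L213751) (flp_c L213743) L240551 L240554 (flp_f L256531) L256530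
theorem L257511 : sm gc N31129 = N32734 := rfl
theorem L257513 : sm ge N32734 = N32191 := ded_19_2 (flp_c L257495) L257493 L257511
theorem L257515 : sm gf N32734 = N32194 := ded_20_2 L252128 L248856 L257511
theorem L257517 : sm gg N32734 = N32273 := ded_21_2 L252934 L249208 L257511
theorem L257519 : sm gb N32734 = N32190 := ded_13_1 L252092 (flp_b L242842) L242836 L242856 L257511
theorem L257521 : sm gb N31130 = N32735 := rfl
theorem L257523 : sm gd N32735 = N32634 := ded_14_2 L257509 L257503 L257521
theorem L257525 : sm ge N32735 = N32669 := ded_15_2 (flp_b L256888) (flp_e L242862) L257521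
theorem L257527 : sm gc N32735 = N32671 := ded_13_2 (flp_b L256900) L240811 L253942 (flp_c L253950) L257521
theorem L257529 : sm gf N32735 = N32652 := ded_16_2 (flp_b L256717) L256724 L256736 L248862 L257521
theorem L257531 : sm gg N32735 = N32630 := ded_17_2 (flp_b L256490) L256495 (flp_b L256505) L249214 L257521
theorem L257533 : sm ga N32735 = N32735 := ded_7_1 (flp_b L257521) (flp_a L242860) (flp_b L217956) L188420 L156965 (flp_a L188420) L217956 L242860 L257521
theorem L257534 : sm gd N31131 = N32736 := rfl
theorem L257536 : sm ga N32736 = N32665 := ded_9_1 L256860 L253948 L257534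
theorem L257538 : sm gb N32736 = N32736 := ded_14_1 (flp_d L257534) L242868 L257534
theorem L257539 : sm gf N31132 = N32737 := rfl
theorem L257541 : sm ge N32737 = N31133 := ded_25_1 (flp_f L242873) L242869 L257539
theorem L257543 : sm gg N31142 = N32737 := ded_31_0 (flp_f L257539) L242871 L257401 L257411 L252261 (flp_g L249927) L253008 L253016 (flp_g L252239) L250957 (flp_b L253034) (flp_g L257454) (flp_f L257444) (flp_b L242959)
theorem L257545 : sm gg N31132 = N32738 := rfl
theorem L257547 : sm gd N32738 = N32106 := ded_24_1 L251215 (flp_d L250151) L257545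
theorem L257549 : sm ge N32738 = N31134 := ded_26_1 (flp_g L242879) L242869 L257545
theorem L257551 : sm gf N32104 = N32738 := ded_29_0 (flp_g L257545) L257539 (flp_g L257543) L251195
theorem L257553 : sm gb N31133 = N32739 := rfl
theorem L257555 : sm gd N32739 = N31136 := ded_14_2 (flp_b L242893) (flp_d L242875) L257553
theorem L257557 : sm gf N32739 = N32725 := ded_16_2 (flp_b L257415) (flp_f L242578) (flp_b L217966) L242873 L257553
theorem L257559 : sm gg N32739 = N32730 := ded_17_2 (flp_b L257470) (flp_g L242711) (flp_b L218112) L242877 L257553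
theorem L257561 : sm ga N32739 = N32739 := ded_7_1 (flp_b L257553) (flp_a L257479) L257487 L252187 L250191 (flp_a L252187) (flp_b L257487) L257479 L257553
theorem L257562 : sm gf N31142 = N32740 := rfl
theorem L257564 : sm ga N32740 = N32738 := ded_11_1 (flp_f L257551) (flp_a L251195) L257562
theorem L257566 : sm gc N32740 = N32738 := ded_20_1 (flp_f L257551) L251193 L257562
theorem L257568 : sm gd N32740 = N31998 := ded_23_1 (flp_f L251169) (flp_d L251171) L257562
theorem L257570 : sm ge N32740 = N31143 := ded_25_1 (flp_f L242961) L242957 L257562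
theorem L257572 : sm gg N32740 = N31996 := ded_29_3 (flp_a L250214) L257539 (flp_g L257543) L257562
theorem L257574 : sm gf N31185 = N32741 := rfl
theorem L257576 : sm gc N32741 = N32580 := ded_20_1 (flp_f L255944) (flp_c L249551) L257574
theorem L257578 : sm gd N32741 = N32493 := ded_23_1 L255116 (flp_d L243443) L257574
theorem L257580 : sm ge N32741 = N31654 := ded_25_1 (flp_f L247297) (flp_e L243445) L257574
theorem L257582 : sm gg N32741 = N32034 := ded_29_3 (flp_a L256304) L256308 (flp_g L243447) L257574
theorem L257584 : sm gb N32741 = N31204 := ded_16_1 (flp_f L243609) (flp_b L219775) L219524 L243441 L257574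
theorem L257586 : sm gg N31188 = N32742 := rfl
theorem L257588 : sm gc N32742 = N32565 := ded_21_1 L255787 (flp_c L250607) L257586
theorem L257590 : sm gd N32742 = N32494 := ded_24_1 L255128 (flp_d L243469) L257586
theorem L257592 : sm ge N32742 = N31655 := ded_26_1 (flp_g L247305) (flp_e L243471) L257586
theorem L257594 : sm gf N31903 = N32742 := ded_29_0 (flp_g L257586) L243473 (flp_g L256104) L256100
theorem L257596 : sm gb N32742 = N31211 := ded_17_1 (flp_g L243677) (flp_b L219810) (flp_g L219564) L243467 L257586
theorem L257598 : sm gc N31203 = N32743 := rfl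
theorem L257600 : sm gb N32743 = N32384 := ded_13_1 L254034 L252221 (flp_c L243617) (flp_b L243607) L257598
theorem L257602 : sm gd N31622 = N32743 := ded_28_1 (flp_c L257598) (flp_d L243605) (flp_c L243585) (flp_d L243589) L233513 (flp_d L247055) (flp_a L247053) L247057
theorem L257604 : sm ge N32743 = N32385 := ded_32_52 L254044 L239637 (flp_d L239629) (flp_c L212737) (flp_b L181977) (flp_d L181619) L197497 (flp_d L197489) (flp_c L166913) (flp_b L115681) (flp_d L115557) (flp_c L166770) (flp_d L197325) (flp_c L197503) L225522 L225524 L225540 L247620 L247630 L232088 L202462 L174815 (flp_d L201402) (flp_c L230696) L252154 L252158 L257602 (flp_c L257598) (flp_d L243605) (flp_c L243585) (flp_b L243581) L243591 (flp_c L243603) L221347 (flp_c L228358) (flp_b L228362) (flp_d L245875) (flp_c L246296) L246298 (flp_c L244754) (flp_b L244750) (flp_d L238099) (flp_c L249460) (flp_d L249635) L249633 (flp_b L246615) L246613 (flp_c L244265) L220410 L220424 L220426 (flp_e L220440) (flp_d L220442) (flp_c L191409) L159537 L159543 L159547 L159569 L191487 L220532 (flp_c L220540) (flp_b L231488)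 L231484 L219930 (flp_d L219922) (flp_c L191033) (flp_b L159257) L110333 L110467 L159589 L191543 (flp_b L191551) (flp_d L201486) (flp_c L231004) L252219 (flp_c L254034) (flp_b L257600)
theorem L257606 : sm ge N31203 = N32744 := rfl
theorem L257608 : sm ga N32744 = N32610 := ded_10_1 L256262 L248145 L257606
theorem L257610 : sm gb N32744 = N31206 := ded_15_1 (flp_e L243627) (flp_b L243607) L257606
theorem L257612 : sm gc N32744 = N32385 := ded_19_1 (flp_e L257604) (flp_c L257598) L257606
theorem L257614 : sm gd N32744 = N31694 := ded_22_1 (flp_e L247697) (flp_d L225621) (flp_e L219777) L243605 L257606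
theorem L257616 : sm gf N31203 = N32745 := rfl
theorem L257618 : sm gd N32745 = N31204 := ded_23_1 (flp_f L243609) L243605 L257616
theorem L257620 : sm gg N31746 = N32745 := ded_29_1 (flp_f L257616) (flp_g L248151) (flp_a L248147) L248157
theorem L257622 : sm gb N32745 = N32493 := ded_16_1 L255116 (flp_b L243439) (flp_f L243437) (flp_b L243607) L257616
theorem L257624 : sm gc N31210 = N32746 := rfl
theorem L257626 : sm gb N32746 = N32398 := ded_13_1 L254176 L253002 (flp_c L243685) (flp_b L243675) L257624
theorem L257628 : sm gd N31631 = N32746 := ded_28_1 (flp_c L257624) (flp_d L243673) (flp_c L243653) (flp_d L243657) L234273 (flp_d L247122) (flp_a L247120) L247124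
theorem L257630 : sm ge N32746 = N32399 := ded_32_52 L254186 L239249 (flp_d L239241) (flp_c L212125) (flp_b L181497) (flp_d L181493) L197397 (flp_d L197389) (flp_c L166830) (flp_b L115607) (flp_d L115527) (flp_c L166708) (flp_d L197275) (flp_c L197403) L225459 L225461 L225477 L247561 L247571 L230022 L200821 L173296 (flp_d L203025) (flp_c L232642) L252946 L252950 L257628 (flp_c L257624) (flp_d L243673) (flp_c L243653) (flp_b L243649) L243659 (flp_c L243671) L221178 (flp_c L227453) (flp_b L227457) (flp_d L246298) L246296 L245875 (flp_c L244939) (flp_b L244935) (flp_d L238025) (flp_c L250544) (flp_d L250691) L250689 (flp_b L246449) L246447 (flp_c L244479) L220840 L220854 L220856 (flp_e L220870) (flp_d L220872) (flp_c L191790) L159737 L159743 L159747 L159769 L191868 L220962 (flp_c L220970) (flp_b L229340) L229338 L220146 (flp_d L220138) (flp_c L191177) (flp_b L159379) L110383 L110567 L159789 L191924 (flp_b L191932) (flp_d L203123) (flp_c L232771) L252998 (flp_c L254176) (flp_b L257626)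
theorem L257632 : sm ge N31210 = N32747 := rfl
theorem L257634 : sm ga N32747 = N32607 := ded_10_1 L256236 L248515 L257632
theorem L257636 : sm gb N32747 = N31213 := ded_15_1 (flp_e L243695) (flp_b L243675) L257632
theorem L257638 : sm gc N32747 = N32399 := ded_19_1 (flp_e L257630) (flp_c L257624) L257632
theorem L257640 : sm gd N32747 = N31702 := ded_22_1 (flp_e L247781) (flp_d L225739) (flp_e L219812) L243673 L257632
theorem L257642 : sm gg N31210 = N32748 := rfl
theorem L257644 : sm gd N32748 = N31211 := ded_24_1 (flp_g L243677) L243673 L257642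
theorem L257646 : sm gf N32748 = N31790 := ded_29_2 (flp_g L248527) L248517 L248521 L257642
theorem L257648 : sm gb N32748 = N32494 := ded_17_1 L255128 (flp_b L243465) L243463 (flp_b L243675) L257642
theorem L257650 : sm gg N31214 = N32749 := rfl
theorem L257652 : sm ga N32749 = N32242 := ded_12_1 L252608 (flp_a L243707) L257650
theorem L257654 : sm gc N32749 = N31216 := ded_21_1 (flp_g L243725) (flp_c L243709) L257650
theorem L257656 : sm gd N32749 = N31264 := ded_24_1 L244213 (flp_d L243711) L257650
theorem L257658 : sm ge N32749 = N32487 := ded_26_1 (flp_g L255034) (flp_e L243713) L257650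
theorem L257660 : sm gf N31262 = N32749 := ded_29_0 (flp_g L257650) (flp_f L243705) L243717 (flp_a L244195)
theorem L257662 : sm gb N31215 = N32750 := rfl
theorem L257664 : sm gd N32750 = N32229 := ded_14_2 (flp_b L252465) (flp_d L243721) L257662
theorem L257666 : sm ge N32750 = N31472 := ded_15_2 L245803 (flp_e L243723) L257662
theorem L257668 : sm gg N32750 = N31463 := ded_17_2 (flp_b L245743) L222499 L222401 L243717 L257662
theorem L257670 : sm ga N31217 = N32751 := rfl
theorem L257672 : sm gd N32751 = N31219 := ded_9_2 (flp_a L243749) (flp_d L243737) L257670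
theorem L257674 : sm ge N32751 = N31764 := ded_10_2 L248314 (flp_e L243739) L257670
theorem L257676 : sm gf N32751 = N31278 := ded_11_2 (flp_a L244383) L244381 L257670
theorem L257678 : sm gg N32751 = N31423 := ded_12_2 L245439 L245095 L257670
theorem L257680 : sm gc N32751 = N31424 := ded_28_0 L245447 (flp_c L245489) (flp_d L255084) L255088 L238119 L221241 (flp_d L243737) L257670
theorem L257682 : sm gc N31217 = N32752 := rfl
theorem L257684 : sm ga N32752 = N31424 := ded_8_1 (flp_c L257680) (flp_a L257670) L257682
theorem L257686 : sm ge N32752 = N31763 := ded_19_2 (flp_c L248310) (flp_e L243739) L257682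
theorem L257688 : sm gf N32752 = N32717 := ded_20_2 L257327 L244381 L257682
theorem L257690 : sm gg N32752 = N31422 := ded_21_2 (flp_c L245435) L245095 L257682
theorem L257692 : sm gd N32752 = N31427 := ded_28_7 L245475 (flp_c L245489) (flp_d L255084) L255088 L238119 L221241 (flp_d L243737) L257682
theorem L257694 : sm ga N31218 = N32753 := rfl
theorem L257696 : sm gc N32753 = N31754 := ded_8_2 (flp_a L248229) (flp_c L243745) L257694
theorem L257698 : sm ge N32753 = N31708 := ded_10_2 (flp_a L247841) (flp_e L243743) L257694
theorem L257700 : sm gf N32753 = N31332 := ded_11_2 L244694 (flp_f L243747) L257694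
theorem L257702 : sm gg N32753 = N31666 := ded_12_2 L247413 L246505 L257694
theorem L257704 : sm gf N31232 = N32754 := rfl
theorem L257706 : sm ga N32754 = N31712 := ded_11_1 (flp_f L247875) (flp_a L243891) L257704
theorem L257708 : sm gc N32754 = N31302 := ded_20_1 L244491 (flp_c L243893) L257704
theorem L257710 : sm gd N32754 = N32305 := ded_23_1 L253274 L245201 L257704
theorem L257712 : sm ge N32754 = N31729 := ded_25_1 (flp_f L248017) (flp_e L243895) L257704
theorem L257714 : sm gg N32754 = N31301 := ded_29_3 L244481 L243879 L243889 L257704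
theorem L257716 : sm gb N32754 = N32303 := ded_16_1 (flp_f L253252) (flp_b L233187) L243831 (flp_b L243897) L257704
theorem L257718 : sm gb N31238 = N32755 := rfl
theorem L257720 : sm gd N32755 = N32123 := ded_14_2 (flp_b L251373) (flp_d L243953) L257718
theorem L257722 : sm ge N32755 = N31523 := ded_15_2 L246194 (flp_e L243955) L257718
theorem L257724 : sm gf N32755 = N31517 := ded_16_2 (flp_b L246148) (flp_f L223313) L223215 L243949 L257718
theorem L257726 : sm gf N31239 = N32756 := rfl
theorem L257728 : sm ga N32756 = N32148 := ded_11_1 L251652 (flp_a L243959) L257726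
theorem L257730 : sm gc N32756 = N31241 := ded_20_1 (flp_f L243975) (flp_c L243961) L257726
theorem L257732 : sm gd N32756 = N31293 := ded_23_1 (flp_f L244427) (flp_d L243963) L257726
theorem L257734 : sm ge N32756 = N32489 := ded_25_1 (flp_f L255058) (flp_e L243965) L257726
theorem L257736 : sm gg N32756 = N31291 := ded_29_3 L244409 (flp_f L243949) L243957 L257726
theorem L257738 : sm ga N31240 = N32757 := rfl
theorem L257740 : sm gd N32757 = N31242 := ded_9_2 (flp_a L243985) (flp_d L243971) L257738
theorem L257742 : sm ge N32757 = N31719 := ded_10_2 L247936 (flp_e L243973) L257738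
theorem L257744 : sm gf N32757 = N31386 := ded_11_2 (flp_a L245399) L245393 L257738
theorem L257746 : sm gg N32757 = N31307 := ded_12_2 (flp_a L244589) L244587 L257738
theorem L257748 : sm gc N32757 = N31387 := ded_28_0 L245131 (flp_c L245173) (flp_d L255098) L255102 L238039 L221410 (flp_d L243971) L257738
theorem L257750 : sm gc N31240 = N32758 := rfl
theorem L257752 : sm ga N32758 = N31387 := ded_8_1 (flp_c L257748) (flp_a L257738) L257750
theorem L257754 : sm ge N32758 = N31718 := ded_19_2 (flp_c L247932) (flp_e L243973) L257750
theorem L257756 : sm gf N32758 = N31385 := ded_20_2 L245397 L245393 L257750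
theorem L257758 : sm gg N32758 = N32709 := ded_21_2 L257229 L244587 L257750
theorem L257760 : sm gd N32758 = N31390 := ded_28_7 L245159 (flp_c L245173) (flp_d L255098) L255102 L238039 L221410 (flp_d L243971) L257750
theorem L257762 : sm ga N31244 = N32759 := rfl
theorem L257764 : sm gc N32759 = N31708 := ded_8_2 (flp_a L247841) (flp_c L244003) L257762
theorem L257766 : sm ge N32759 = N31754 := ded_10_2 (flp_a L248229) (flp_e L244001) L257762
theorem L257768 : sm gf N32759 = N31677 := ded_11_2 L247521 L246671 L257762
theorem L257770 : sm gg N32759 = N31358 := ded_12_2 L244879 (flp_g L244005) L257762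
theorem L257772 : sm gg N31256 = N32760 := rfl
theorem L257774 : sm ga N32760 = N31757 := ded_12_1 (flp_g L248251) (flp_a L244135) L257772
theorem L257776 : sm gc N32760 = N31273 := ded_21_1 (flp_g L244277) (flp_c L244137) L257772
theorem L257778 : sm gd N32760 = N32343 := ded_24_1 L253641 L245517 L257772
theorem L257780 : sm ge N32760 = N31773 := ded_26_1 (flp_g L248383) (flp_e L244139) L257772
theorem L257782 : sm gf N31272 = N32760 := ded_29_0 (flp_g L257772) (flp_f L244133) (flp_g L244123) (flp_a L244267)
theorem L257784 : sm gb N32760 = N32341 := ded_17_1 (flp_g L253617) (flp_b L233935) (flp_g L244075) (flp_b L244141) L257772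
theorem L257786 : sm gb N31262 = N32761 := rfl
theorem L257788 : sm gd N32761 = N31263 := ded_14_2 (flp_b L244203) (flp_d L244199) L257786
theorem L257790 : sm ge N32761 = N31744 := ded_15_2 (flp_b L248153) (flp_e L244201) L257786
theorem L257792 : sm gc N32761 = N32310 := ded_13_2 (flp_b L253306) L233247 (flp_b L228166) (flp_c L244197) L257786
theorem L257794 : sm gg N32761 = N32744 := ded_17_2 L257610 L243633 L243399 L244193 L257786
theorem L257796 : sm ga N31740 = N32761 := ded_9_3 L257788 (flp_a L256268) L256272
theorem L257798 : sm gb N31264 = N32762 := rfl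
theorem L257800 : sm ge N32762 = N32525 := ded_15_2 (flp_b L255402) (flp_e L244211) L257798
theorem L257802 : sm gc N31267 = N32763 := rfl
theorem L257804 : sm ga N32763 = N32360 := ded_8_1 L253792 L248123 L257802
theorem L257806 : sm ge N32763 = N32045 := ded_19_2 L250677 L246511 L257802
theorem L257808 : sm gg N32763 = N31465 := ded_21_2 (flp_c L245751) (flp_g L244239) L257802
theorem L257810 : sm gb N32763 = N32021 := ded_13_1 (flp_c L250424) L228204 L220402 L244237 L257802
theorem L257812 : sm gf N31267 = N32764 := rfl
theorem L257814 : sm gd N32764 = N31747 := ded_23_1 (flp_f L248169) L246467 L257812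
theorem L257816 : sm gb N32764 = N32683 := ded_16_1 (flp_f L257007) (flp_b L241420) (flp_f L220378) L244237 L257812
theorem L257818 : sm gc N31268 = N32765 := rfl
theorem L257820 : sm ge N32765 = N31270 := ded_19_2 (flp_c L244259) (flp_e L244243) L257818
theorem L257822 : sm gg N32765 = N31276 := ded_21_2 (flp_c L244291) (flp_g L244245) L257818
theorem L257824 : sm gd N32765 = N31270 := ded_28_7 (flp_a L248013) (flp_c L248011) L225957 (flp_c L220196) (flp_d L244127) (flp_c L246433) L246429 L257818
theorem L257826 : sm gf N31268 = N32766 := rfl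
theorem L257828 : sm ge N32766 = N31271 := ded_25_1 (flp_f L244263) (flp_e L244243) L257826
theorem L257830 : sm gf N31270 = N32767 := rfl
theorem L257832 : sm gc N32767 = N31271 := ded_20_1 (flp_f L244263) L244259 L257830
theorem L257834 : sm ga N31274 = N32768 := rfl
theorem L257836 : sm gc N32768 = N31573 := ded_8_2 L246611 (flp_c L244285) L257834
theorem L257838 : sm gd N32768 = N31275 := ded_9_2 (flp_a L244287) (flp_d L244283) L257834
theorem L257840 : sm ge N32768 = N31396 := ded_10_2 (flp_a L246425) L246421 L257834
theorem L257842 : sm gg N32768 = N31572 := ded_12_2 L246603 L246435 L257834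
theorem L257844 : sm gb N32768 = N31393 := ded_7_2 L245181 L243289 L243283 (flp_b L243025) L225847 L221632 L221622 L244281 L257834
theorem L257846 : sm gf N31274 = N32769 := rfl
theorem L257848 : sm gc N32769 = N31639 := ded_20_1 (flp_f L247187) (flp_c L244285) L257846
theorem L257850 : sm gd N32769 = N31277 := ded_23_1 (flp_f L244299) (flp_d L244283) L257846
theorem L257852 : sm ge N32769 = N31644 := ded_25_1 (flp_f L247223) L246421 L257846
theorem L257854 : sm gg N31643 = N32769 := ded_29_1 (flp_f L257846) (flp_g L246435) (flp_a L246603) (flp_f L247219)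
theorem L257856 : sm gb N31275 = N32770 := rfl
theorem L257858 : sm gd N32770 = N31393 := ded_14_2 (flp_b L257844) L257838 L257856
theorem L257860 : sm ge N32770 = N31278 := ded_15_2 (flp_b L244303) (flp_e L244289) L257856
theorem L257862 : sm gg N32770 = N31387 := ded_17_2 L245135 L225953 L248001 (flp_g L248009) L257856
theorem L257864 : sm ga N32770 = N32709 := ded_7_1 L257235 (flp_a L252453) L252463 L243779 L219894 L192431 L220418 L244287 L257856
theorem L257866 : sm gc N31307 = N32770 := ded_32_19 (flp_b L257856) (flp_d L257838) L257836 L246613 (flp_c L244265) (flp_b L220408) (flp_e L197719) (flp_d L223591) L223589 L211589 L181143 L181149 (flp_d L211159) L211163 L197705 L200539 L200545 L200655 L229908 L229912 L215185 L184866 L153335 L124634 (flp_d L171186) (flp_c L171470) (flp_b L204467) (flp_d L214200) L214198 L202973 L182179 (flp_b L182171) L145290 (flp_d L121669) L121667 (flp_d L121829) (flp_c L172699) (flp_b L172703) L204631 L204727 (flp_d L204720) (flp_c L171928) L121175 (flp_d L97311) (flp_c L85284) (flp_d L46423) L93269 (flp_b L111657) (flp_d L163256) (flp_c L125739)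 L147204 L100347 (flp_b L124796) L176803 (flp_c L179935) (flp_d L180047) L180045 L143687 (flp_e L152718) (flp_d L182193) L182191 L178649 L129970 L129974 (flp_d L178601) (flp_c L194456) (flp_d L221716) (flp_c L222251) (flp_b L222253) (flp_d L197109) (flp_c L166458) (flp_d L166378) L197055 L225109 (flp_d L228288) L228286 (flp_d L244519)
theorem L257868 : sm gf N31764 = N32770 := ded_23_0 L257858 (flp_f L245185) L248318
theorem L257870 : sm gc N31275 = N32771 := rfl
theorem L257872 : sm ga N32771 = N31276 := ded_8_1 (flp_c L244291) L244287 L257870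
theorem L257874 : sm ge N32771 = N31279 := ded_19_2 (flp_c L244309) (flp_e L244289) L257870
theorem L257876 : sm gb N32771 = N31308 := ded_13_1 (flp_c L244523) L244517 L257866 (flp_b L257856) L257870
theorem L257878 : sm gd N32771 = N31279 := ded_28_7 L244311 (flp_c L220424) (flp_d L220410) L244265 (flp_d L246613) (flp_c L257836) L257838 L257870
theorem L257880 : sm gf N31275 = N32772 := rfl
theorem L257882 : sm ga N32772 = N31277 := ded_11_1 (flp_f L244299) L244287 L257880
theorem L257884 : sm ge N32772 = N31280 := ded_25_1 (flp_f L244313) (flp_e L244289) L257880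
theorem L257886 : sm gg N32766 = N32772 := ded_29_1 (flp_f L257880) L248009 (flp_a L248007) L257826
theorem L257888 : sm gf N31276 = N32773 := rfl
theorem L257890 : sm gc N32773 = N31277 := ded_20_1 (flp_f L244299) L244291 L257888
theorem L257892 : sm gd N32773 = N31281 := ded_23_1 (flp_f L244319) L244297 L257888
theorem L257894 : sm ge N32773 = N31281 := ded_25_1 (flp_f L244319) (flp_e L244293) L257888
theorem L257896 : sm gb N32773 = N31315 := ded_16_1 (flp_f L244575) (flp_b L236765) L236763 (flp_b L244295) L257888
theorem L257898 : sm gg N31277 = N32774 := rfl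
theorem L257900 : sm ga N32774 = N32766 := ded_12_1 L257886 L257882 L257898
theorem L257902 : sm gd N32774 = N31643 := ded_24_1 L257854 L257850 L257898
theorem L257904 : sm ge N32774 = N31282 := ded_26_1 (flp_g L244323) (flp_e L244301) L257898
theorem L257906 : sm gf N31727 = N32774 := ded_29_0 (flp_g L257898) (flp_f L244299) (flp_g L244245) L248007
theorem L257908 : sm gb N32774 = N31645 := ded_17_1 L252854 (flp_b L252846) L245013 L245015 L257898
theorem L257910 : sm gc N31278 = N32775 := rfl
theorem L257912 : sm ga N32775 = N32717 := ded_8_1 L257327 L244383 L257910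
theorem L257914 : sm ge N32775 = N31307 := ded_19_2 L257866 L257860 L257910
theorem L257916 : sm gf N32775 = N31424 := ded_20_2 (flp_c L257680) L257676 L257910
theorem L257918 : sm gg N32775 = N31719 := ded_21_2 (flp_c L247934) (flp_g L244307) L257910
theorem L257920 : sm gd N32775 = N31430 := ded_28_7 L245497 (flp_c L250869) L250865 L228667 (flp_d L227346) L227344 (flp_d L244305) L257910
theorem L257922 : sm gb N31304 = N32775 := ded_7_0 L257912 L257333 (flp_a L251419) L251427 L244023 L220110 L192741 L220848 L244501
theorem L257924 : sm gb N31279 = N32776 := rfl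
theorem L257926 : sm gd N32776 = N31308 := ded_14_2 (flp_b L257876) L257878 L257924
theorem L257928 : sm ge N32776 = N31308 := ded_15_2 (flp_b L257876) L257874 L257924
theorem L257930 : sm gc N32776 = N31304 := ded_13_2 L257922 (flp_c L257910) (flp_b L244303) L244309 L257924
theorem L257932 : sm ga N32776 = N31305 := ded_7_1 L244509 (flp_a L244549) (flp_b L257099) L257097 L241732 L220454 (flp_b L220426) (flp_a L244311) L257924
theorem L257934 : sm gf N31279 = N32777 := rfl
theorem L257936 : sm ga N32777 = N31281 := ded_11_1 (flp_f L244319) (flp_a L244311) L257934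
theorem L257938 : sm gc N32777 = N31280 := ded_20_1 (flp_f L244313) L244309 L257934
theorem L257940 : sm gg N32767 = N32777 := ded_29_1 (flp_f L257934) (flp_g L248015) L248013 L257830
theorem L257942 : sm gg N31281 = N32778 := rfl
theorem L257944 : sm ga N32778 = N32767 := ded_12_1 L257940 L257936 L257942
theorem L257946 : sm gc N32778 = N31282 := ded_21_1 (flp_g L244323) (flp_c L244321) L257942
theorem L257948 : sm gf N31728 = N32778 := ded_29_0 (flp_g L257942) (flp_f L244319) (flp_g L244261) (flp_a L248013)
theorem L257950 : sm gb N31286 = N32779 := rfl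
theorem L257952 : sm gd N32779 = N31310 := ded_14_2 (flp_b L255008) L255010 L257950
theorem L257954 : sm ge N32779 = N31310 := ded_15_2 (flp_b L255008) L255004 L257950
theorem L257956 : sm gc N32779 = N31306 := ded_13_2 (flp_b L245339) L245333 L230356 (flp_c L244365) L257950
theorem L257958 : sm gg N32779 = N31305 := ded_17_2 L244509 (flp_g L236681) L236683 L244361 L257950
theorem L257960 : sm gb N31291 = N32780 := rfl
theorem L257962 : sm gd N32780 = N31292 := ded_14_2 (flp_b L244417) (flp_d L244413) L257960
theorem L257964 : sm ge N32780 = N31788 := ded_15_2 (flp_b L248523) (flp_e L244415) L257960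
theorem L257966 : sm gc N32780 = N32348 := ded_13_2 (flp_b L253673) L234009 (flp_b L227173) (flp_c L244411) L257960
theorem L257968 : sm gf N32780 = N32747 := ded_16_2 L257636 L243701 L243423 L244407 L257960
theorem L257970 : sm ga N32780 = N31784 := ded_30_3 (flp_f L256232) (flp_c L256464) (flp_b L256460) L240015 L240067 L240071 (flp_b L229986) L229984 (flp_f L251702) (flp_c L251698) L229894 L212305 (flp_f L212301) L212255 L192707 (flp_a L216491) (flp_f L227175) (flp_c L244411) L257960
theorem L257972 : sm gb N31293 = N32781 := rfl
theorem L257974 : sm ge N32781 = N32532 := ded_15_2 (flp_b L255454) (flp_e L244425) L257972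
theorem L257976 : sm gc N31296 = N32782 := rfl
theorem L257978 : sm ga N32782 = N32322 := ded_8_1 L253425 L248493 L257976
theorem L257980 : sm ge N32782 = N31917 := ded_19_2 L249621 L246677 L257976
theorem L257982 : sm gf N32782 = N31525 := ded_20_2 (flp_c L246198) (flp_f L244453) L257976
theorem L257984 : sm gb N32782 = N31888 := ded_13_1 (flp_c L249345) L227252 L220832 L244451 L257976
theorem L257986 : sm gg N31296 = N32783 := rfl
theorem L257988 : sm gd N32783 = N31791 := ded_24_1 (flp_g L248539) L246633 L257986
theorem L257990 : sm gb N32783 = N32697 := ded_17_1 (flp_g L257127) (flp_b L241654) L220808 L244451 L257986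
theorem L257992 : sm gc N31297 = N32784 := rfl
theorem L257994 : sm ge N32784 = N31299 := ded_19_2 (flp_c L244473) (flp_e L244457) L257992
theorem L257996 : sm gf N32784 = N31305 := ded_20_2 (flp_c L244505) (flp_f L244459) L257992
theorem L257998 : sm gd N32784 = N31299 := ded_28_7 (flp_a L248379) (flp_c L248377) L226229 (flp_c L219980) (flp_d L243883) (flp_c L246595) L246591 L257992
theorem L258000 : sm gg N31297 = N32785 := rfl
theorem L258002 : sm ge N32785 = N31300 := ded_26_1 (flp_g L244477) (flp_e L244457) L258000
theorem L258004 : sm gg N31299 = N32786 := rfl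
theorem L258006 : sm gc N32786 = N31300 := ded_21_1 (flp_g L244477) L244473 L258004
theorem L258008 : sm ga N31303 = N32787 := rfl
theorem L258010 : sm gc N32787 = N31553 := ded_8_2 L246445 (flp_c L244499) L258008
theorem L258012 : sm gd N32787 = N31304 := ded_9_2 (flp_a L244501) (flp_d L244497) L258008
theorem L258014 : sm ge N32787 = N31433 := ded_10_2 (flp_a L246587) L246583 L258008
theorem L258016 : sm gf N32787 = N31552 := ded_11_2 L246599 L246597 L258008
theorem L258018 : sm gb N32787 = N31430 := ded_7_2 L245497 L243163 L243157 (flp_b L242991) L226119 L222068 L222058 L244495 L258008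
theorem L258020 : sm gg N31303 = N32788 := rfl
theorem L258022 : sm gc N32788 = N31644 := ded_21_1 (flp_g L247221) (flp_c L244499) L258020
theorem L258024 : sm gd N32788 = N31306 := ded_24_1 (flp_g L244513) (flp_d L244497) L258020
theorem L258026 : sm ge N32788 = N31639 := ded_26_1 L247189 L246583 L258020
theorem L258028 : sm gf N32788 = N31638 := ded_29_2 L247185 L246599 L246597 L258020
theorem L258030 : sm gg N31304 = N32789 := rfl
theorem L258032 : sm ga N32789 = N31306 := ded_12_1 (flp_g L244513) L244501 L258030
theorem L258034 : sm ge N32789 = N31309 := ded_26_1 (flp_g L244527) (flp_e L244503) L258030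
theorem L258036 : sm gf N32789 = N32785 := ded_29_2 (flp_g L258000) L248373 (flp_f L248375) L258030
theorem L258038 : sm gf N31306 = N32790 := rfl
theorem L258040 : sm ga N32790 = N32785 := ded_11_1 (flp_f L258036) L258032 L258038
theorem L258042 : sm gd N32790 = N31638 := ded_23_1 (flp_f L258028) L258024 L258038
theorem L258044 : sm ge N32790 = N31311 := ded_25_1 (flp_f L244537) (flp_e L244515) L258038
theorem L258046 : sm gg N32790 = N31771 := ded_29_3 (flp_a L248373) L244459 L244513 L258038
theorem L258048 : sm gb N32790 = N31640 := ded_16_1 L251996 (flp_b L251990) (flp_f L245337) L245339 L258038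
theorem L258050 : sm gg N31308 = N32791 := rfl
theorem L258052 : sm ga N32791 = N31310 := ded_12_1 (flp_g L244533) (flp_a L244525) L258050
theorem L258054 : sm gc N32791 = N31309 := ded_21_1 (flp_g L244527) L244523 L258050
theorem L258056 : sm gf N32791 = N32786 := ded_29_2 (flp_g L258004) (flp_a L248379) L248381 L258050
theorem L258058 : sm gf N31310 = N32792 := rfl
theorem L258060 : sm ga N32792 = N32786 := ded_11_1 (flp_f L258056) L258052 L258058
theorem L258062 : sm gc N32792 = N31311 := ded_20_1 (flp_f L244537) (flp_c L244535) L258058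
theorem L258064 : sm gg N32792 = N31772 := ded_29_3 L248379 L244475 L244533 L258058
theorem L258066 : sm gd N31318 = N32793 := rfl
theorem L258068 : sm gb N32793 = N31319 := ded_14_1 (flp_d L244611) L244605 L258066
theorem L258070 : sm gf N31318 = N32794 := rfl
theorem L258072 : sm gc N32794 = N31892 := ded_20_1 (flp_f L249371) (flp_c L244609) L258070
theorem L258074 : sm ge N32794 = N31892 := ded_25_1 (flp_f L249371) (flp_e L244607) L258070
theorem L258076 : sm gg N32794 = N32794 := ded_29_1 (flp_f L258070) (flp_g L249647) L249649 L258070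
theorem L258077 : sm gc N31319 = N32795 := rfl
theorem L258079 : sm ga N32795 = N31320 := ded_8_1 (flp_c L244617) (flp_a L244613) L258077
theorem L258081 : sm gg N32795 = N31889 := ded_21_2 L249355 (flp_g L244615) L258077
theorem L258083 : sm gd N31918 = N32795 := ded_28_1 (flp_c L258077) (flp_d L244611) (flp_c L221086) (flp_d L199008) (flp_c L227538) (flp_d L245269) L245267 (flp_c L249625)
theorem L258085 : sm gb N32795 = N32785 := ded_30_2 (flp_a L258040) (flp_f L258038) (flp_c L257956) (flp_b L257950) L244363 (flp_f L241468) (flp_c L216139) (flp_b L187077) (flp_a L156400) (flp_f L156398) (flp_c L156390) L187637 L216669 L221692 (flp_c L242026) L242032 (flp_a L245267) (flp_f L245271) L258077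
theorem L258087 : sm ge N31711 = N32795 := ded_10_0 L258079 (flp_e L253585) L253591
theorem L258089 : sm ge N31319 = N32796 := rfl
theorem L258091 : sm ga N32796 = N31321 := ded_10_1 (flp_e L244621) (flp_a L244613) L258089
theorem L258093 : sm gc N32796 = N31711 := ded_19_1 L258087 (flp_c L258077) L258089
theorem L258095 : sm gf N32796 = N32547 := ded_25_2 L255581 (flp_f L245271) L258089
theorem L258097 : sm gg N32796 = N31888 := ded_26_2 (flp_e L249349) (flp_g L244615) L258089
theorem L258099 : sm gd N32796 = N31894 := ded_22_1 (flp_e L249384) (flp_d L227258) (flp_e L221090) L244611 L258089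
theorem L258101 : sm gd N31320 = N32797 := rfl
theorem L258103 : sm ga N32797 = N31918 := ded_9_1 L258083 L258079 L258101
theorem L258105 : sm gb N32797 = N32712 := ded_14_1 (flp_d L257265) (flp_b L244619) L258101
theorem L258107 : sm gf N32797 = N32795 := ded_23_2 (flp_d L258083) L249629 L258101
theorem L258109 : sm gg N32797 = N31403 := ded_24_2 (flp_d L249563) L249561 L258101
theorem L258111 : sm gc N31406 = N32797 := ded_28_0 (flp_d L258101) (flp_c L244617) (flp_d L221094) (flp_c L192007) (flp_d L168032) (flp_c L199022) (flp_d L227558) (flp_a L245267)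
theorem L258113 : sm gf N31324 = N32798 := rfl
theorem L258115 : sm ga N32798 = N31983 := ded_11_1 (flp_f L255986) L255978 L258113
theorem L258117 : sm gd N32798 = N32619 := ded_23_1 (flp_f L256362) (flp_d L244649) L258113
theorem L258119 : sm ge N32798 = N31327 := ded_25_1 (flp_f L244666) (flp_e L244651) L258113
theorem L258121 : sm gb N32798 = N31327 := ded_16_1 (flp_f L244666) (flp_b L221145) L221134 L244647 L258113
theorem L258123 : sm gb N31325 = N32799 := rfl
theorem L258125 : sm gd N32799 = N31467 := ded_14_2 (flp_b L245777) (flp_d L244657) L258123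
theorem L258127 : sm gc N32799 = N31456 := ded_13_2 (flp_b L245705) (flp_c L247948) (flp_b L255992) L255994 L258123
theorem L258129 : sm gf N32799 = N31456 := ded_16_2 (flp_b L245705) L225933 (flp_b L244724) (flp_f L244722) L258123
theorem L258131 : sm gg N32799 = N31557 := ded_17_2 (flp_b L247401) L247397 (flp_b L244692) (flp_g L244659) L258123
theorem L258133 : sm ga N31457 = N32799 := ded_9_3 L258125 L245769 (flp_d L246487)
theorem L258135 : sm gf N31326 = N32800 := rfl
theorem L258137 : sm gc N32800 = N31327 := ded_20_1 (flp_f L244666) L244661 L258135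
theorem L258139 : sm gd N32800 = N32453 := ded_23_1 L254736 L254471 L258135
theorem L258141 : sm gb N31329 = N32801 := rfl
theorem L258143 : sm gd N32801 = N32689 := ded_14_2 L257049 L254933 L258141
theorem L258145 : sm ge N32801 = N31332 := ded_15_2 (flp_b L244692) (flp_e L244678) L258141
theorem L258147 : sm gc N32801 = N31677 := ded_13_2 (flp_b L248567) L253762 (flp_b L256022) L256014 L258141
theorem L258149 : sm ga N32801 = N31709 := ded_7_1 L247855 (flp_a L238139) L245107 (flp_a L245097) (flp_b L221586) L192403 L221155 L244676 L258141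
theorem L258151 : sm gf N31708 = N32801 := ded_31_1 (flp_b L258141) L255984 L255986 (flp_b L250101) L227961 (flp_f L219948) (flp_b L191039) (flp_g L191019) L191081 L220040 L225619 (flp_f L236233) (flp_b L254596) L254598
theorem L258153 : sm gg N31676 = N32801 := ded_24_0 L258143 L257047 L257011
theorem L258155 : sm gf N31329 = N32802 := rfl
theorem L258157 : sm ga N32802 = N31331 := ded_11_1 (flp_f L244688) L244676 L258155
theorem L258159 : sm gc N32802 = N32539 := ded_20_1 L256020 L256014 L258155
theorem L258161 : sm gd N32802 = N32452 := ded_23_1 (flp_f L254929) L254933 L258155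
theorem L258163 : sm ge N32802 = N31334 := ded_25_1 (flp_f L244704) (flp_e L244678) L258155
theorem L258165 : sm gg N32802 = N32798 := ded_29_3 L258115 (flp_f L255986) (flp_g L255984) L258155
theorem L258167 : sm gf N31333 = N32803 := rfl
theorem L258169 : sm ga N32803 = N31335 := ded_11_1 (flp_f L244710) (flp_a L244698) L258167
theorem L258171 : sm gc N32803 = N31334 := ded_20_1 (flp_f L244704) L244696 L258167
theorem L258173 : sm gd N32803 = N32354 := ded_23_1 (flp_f L253736) (flp_d L244700) L258167
theorem L258175 : sm ge N32803 = N32539 := ded_25_1 L256020 L256018 L258167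
theorem L258177 : sm gg N32800 = N32803 := ded_29_1 (flp_f L258167) L255998 L255990 L258135
theorem L258179 : sm gb N32803 = N32050 := ded_16_1 (flp_f L250721) L250839 (flp_f L250849) L244702 L258167
theorem L258181 : sm gg N31335 = N32804 := rfl
theorem L258183 : sm ga N32804 = N32800 := ded_12_1 L258177 L258169 L258181
theorem L258185 : sm gc N32804 = N31336 := ded_21_1 (flp_g L244718) (flp_c L244712) L258181
theorem L258187 : sm gd N32804 = N32366 := ded_24_1 (flp_g L253844) (flp_d L244714) L258181
theorem L258189 : sm ge N32804 = N32586 := ded_26_1 L256006 L255561 L258181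
theorem L258191 : sm gf N32585 = N32804 := ded_29_0 (flp_g L258181) (flp_f L244710) (flp_g L244663) (flp_a L255990)
theorem L258193 : sm gd N31338 = N32805 := rfl
theorem L258195 : sm ga N32805 = N31339 := ded_9_1 (flp_d L244746) (flp_a L244738) L258193
theorem L258197 : sm gb N32805 = N31630 := ded_14_1 L247122 (flp_b L244744) L258193
theorem L258199 : sm gf N32805 = N31711 := ded_23_2 (flp_d L247869) (flp_f L244742) L258193
theorem L258201 : sm gg N32805 = N31587 := ded_24_2 L249329 L249327 L258193
theorem L258203 : sm ge N32805 = N32797 := ded_22_2 (flp_d L258101) (flp_e L253585) L253583 (flp_e L244740) L258193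
theorem L258205 : sm gc N32547 = N32805 := ded_28_0 (flp_d L258193) (flp_c L244736) L221209 L221229 (flp_d L238099) (flp_c L249460) (flp_d L249635) (flp_a L255575)
theorem L258207 : sm gd N31344 = N32806 := rfl
theorem L258209 : sm gb N32806 = N31345 := ded_14_1 (flp_d L244796) L244790 L258207
theorem L258211 : sm gg N31344 = N32807 := rfl
theorem L258213 : sm gc N32807 = N32024 := ded_21_1 (flp_g L250444) (flp_c L244794) L258211
theorem L258215 : sm ge N32807 = N32024 := ded_26_1 (flp_g L250444) (flp_e L244792) L258211
theorem L258217 : sm gf N32807 = N32807 := ded_29_2 (flp_g L258211) (flp_a L250705) L250703 L258211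
theorem L258218 : sm gc N31345 = N32808 := rfl
theorem L258220 : sm ga N32808 = N31346 := ded_8_1 (flp_c L244802) (flp_a L244798) L258218
theorem L258222 : sm gf N32808 = N32022 := ded_20_2 L250434 (flp_f L244800) L258218
theorem L258224 : sm gd N32046 = N32808 := ded_28_1 (flp_c L258218) (flp_d L244796) (flp_c L221255) (flp_d L199574) (flp_c L228453) (flp_d L245565) L245563 (flp_c L250681)
theorem L258226 : sm gb N32808 = N32766 := ded_32_25 L257828 (flp_d L247993) L247991 (flp_d L246581) (flp_c L247217) L247215 L247225 (flp_c L252108) L252110 L230678 (flp_b L209955) (flp_d L209951) (flp_c L179247) (flp_d L178909) L178907 L204845 (flp_d L226581) L248798 L248808 (flp_c L241126) L241124 (flp_d L231936) (flp_c L241720) L241722 (flp_c L232044) (flp_b L209969) (flp_e L209965) (flp_d L179257) (flp_c L130346) (flp_d L130133) L163415 L172085 (flp_d L198348) L226687 L248918 L252482 L252475 (flp_d L241326) (flp_c L215956) (flp_d L215903) (flp_c L230498) L230504 (flp_d L231702) (flp_c L252556) L252558 L247361 L240471 L240467 (flp_c L226774) L226770 (flp_c L226011) (flp_b L197823) (flp_e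 L197821) (flp_d L219988) L223899 L223893 L193817 (flp_b L169541) (flp_d L169535) (flp_c L201368) (flp_d L213871) (flp_c L214248) L240978 L240980 L240625 L231766 (flp_c L250504) (flp_b L250500) L250512 (flp_c L250522) (flp_d L250418) (flp_c L228198) L199580 L199574 L221255 L244796 L258218
theorem L258228 : sm ge N31756 = N32808 := ded_10_0 L258220 (flp_e L253212) L253218
theorem L258230 : sm ge N31345 = N32809 := rfl
theorem L258232 : sm ga N32809 = N31347 := ded_10_1 (flp_e L244806) (flp_a L244798) L258230
theorem L258234 : sm gc N32809 = N31756 := ded_19_1 L258228 (flp_c L258218) L258230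
theorem L258236 : sm gf N32809 = N32021 := ded_25_2 (flp_e L250428) (flp_f L244800) L258230
theorem L258238 : sm gg N32809 = N32540 := ded_26_2 L255518 L245567 L258230
theorem L258240 : sm gd N32809 = N32026 := ded_22_1 (flp_e L250468) (flp_d L228210) (flp_e L221259) L244796 L258230
theorem L258242 : sm gd N31346 = N32810 := rfl
theorem L258244 : sm ga N32810 = N32046 := ded_9_1 L258224 L258220 L258242
theorem L258246 : sm gb N32810 = N32719 := ded_14_1 (flp_d L257349) (flp_b L244804) L258242
theorem L258248 : sm gf N32810 = N31438 := ded_23_2 (flp_d L250619) L250615 L258242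
theorem L258250 : sm gg N32810 = N32808 := ded_24_2 (flp_d L258224) (flp_g L250685) L258242
theorem L258252 : sm gc N31441 = N32810 := ded_28_0 (flp_d L258242) (flp_c L244802) (flp_d L221263) (flp_c L192153) (flp_d L168446) (flp_c L199588) (flp_d L228473) (flp_a L245563)
theorem L258254 : sm gg N31350 = N32811 := rfl
theorem L258256 : sm ga N32811 = N32097 := ded_12_1 L255829 L255821 L258254
theorem L258258 : sm gd N32811 = N32605 := ded_24_1 (flp_g L256204) (flp_d L244834) L258254
theorem L258260 : sm ge N32811 = N31353 := ded_26_1 (flp_g L244851) (flp_e L244836) L258254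
theorem L258262 : sm gb N32811 = N31353 := ded_17_1 (flp_g L244851) (flp_b L221305) (flp_g L221303) L244832 L258254
theorem L258264 : sm gb N31351 = N32812 := rfl
theorem L258266 : sm gd N32812 = N31518 := ded_14_2 (flp_b L246164) (flp_d L244842) L258264
theorem L258268 : sm gc N32812 = N31510 := ded_13_2 (flp_b L246110) (flp_c L248326) (flp_b L255835) L255837 L258264
theorem L258270 : sm gf N32812 = N31577 := ded_16_2 (flp_b L247507) L247503 (flp_b L244877) (flp_f L244844) L258264
theorem L258272 : sm gg N32812 = N31510 := ded_17_2 (flp_b L246110) (flp_g L226215) (flp_b L244909) L244907 L258264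
theorem L258274 : sm ga N32812 = N31511 := ded_30_3 (flp_f L246643) (flp_c L246641) (flp_b L223947) (flp_a L202148) (flp_f L202146) (flp_c L170032) L117751 L96428 L116712 L116714 L116720 L160040 L160039 L192228 (flp_b L221332) (flp_a L244883) L255841 L255837 L258264
theorem L258276 : sm gg N31352 = N32813 := rfl
theorem L258278 : sm gc N32813 = N31353 := ded_21_1 (flp_g L244851) L244846 L258276
theorem L258280 : sm gd N32813 = N32470 := ded_24_1 L254890 L254281 L258276
theorem L258282 : sm gb N31355 = N32814 := rfl
theorem L258284 : sm gd N32814 = N32703 := ded_14_2 (flp_b L257173) L254848 L258282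
theorem L258286 : sm ge N32814 = N31358 := ded_15_2 (flp_b L244877) (flp_e L244863) L258282
theorem L258288 : sm gc N32814 = N31666 := ded_13_2 (flp_b L248197) L253395 (flp_b L255853) L255847 L258282
theorem L258290 : sm ga N32814 = N31755 := ded_7_1 L248243 (flp_a L238059) L245413 (flp_a L245401) (flp_b L222022) L192713 L221324 L244861 L258282
theorem L258292 : sm gg N32814 = N31754 := ded_31_3 (flp_f L254708) L254706 L236372 (flp_f L225737) (flp_b L220238) L191225 L191163 L191183 L220168 (flp_f L228918) L251123 L255829 (flp_f L255825) L258282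
theorem L258294 : sm gf N31665 = N32814 := ded_23_0 L258284 (flp_f L257171) L257131
theorem L258296 : sm gg N31355 = N32815 := rfl
theorem L258298 : sm ga N32815 = N31357 := ded_12_1 (flp_g L244873) L244861 L258296
theorem L258300 : sm gc N32815 = N32546 := ded_21_1 L255855 L255847 L258296
theorem L258302 : sm gd N32815 = N32439 := ded_24_1 (flp_g L254846) L254848 L258296
theorem L258304 : sm ge N32815 = N31360 := ded_26_1 (flp_g L244889) (flp_e L244863) L258296
theorem L258306 : sm gf N32811 = N32815 := ded_29_0 (flp_g L258296) L255825 (flp_g L255829) (flp_a L258256)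
theorem L258308 : sm gg N31359 = N32816 := rfl
theorem L258310 : sm ga N32816 = N31361 := ded_12_1 (flp_g L244895) (flp_a L244883) L258308
theorem L258312 : sm gc N32816 = N31360 := ded_21_1 (flp_g L244889) L244881 L258308
theorem L258314 : sm gd N32816 = N32317 := ded_24_1 (flp_g L253377) (flp_d L244885) L258308
theorem L258316 : sm ge N32816 = N32546 := ded_26_1 L255855 L255851 L258308
theorem L258318 : sm gf N32816 = N32813 := ded_29_2 (flp_g L258276) (flp_a L255833) (flp_f L255841) L258308
theorem L258320 : sm gb N32816 = N31922 := ded_17_1 L249663 L249823 L249829 (flp_b L244887) L258308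
theorem L258322 : sm gf N31361 = N32817 := rfl
theorem L258324 : sm ga N32817 = N32813 := ded_11_1 (flp_f L258318) L258310 L258322
theorem L258326 : sm gc N32817 = N31362 := ded_20_1 (flp_f L244903) (flp_c L244897) L258322
theorem L258328 : sm gd N32817 = N32328 := ded_23_1 (flp_f L253477) (flp_d L244899) L258322
theorem L258330 : sm ge N32817 = N32572 := ded_25_1 (flp_f L255863) L255624 L258322
theorem L258332 : sm gg N32817 = N32570 := ded_29_3 L255833 L244848 L244895 L258322
theorem L258334 : sm gd N31364 = N32818 := rfl
theorem L258336 : sm ga N32818 = N31365 := ded_9_1 (flp_d L244931) (flp_a L244923) L258334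
theorem L258338 : sm gb N32818 = N31621 := ded_14_1 L247055 (flp_b L244929) L258334
theorem L258340 : sm gf N32818 = N31563 := ded_23_2 L250408 L250404 L258334
theorem L258342 : sm gg N32818 = N31756 := ded_24_2 (flp_d L248245) (flp_g L244927) L258334
theorem L258344 : sm ge N32818 = N32810 := ded_22_2 (flp_d L258242) (flp_e L253212) L253210 (flp_e L244925) L258334
theorem L258346 : sm gc N32540 = N32818 := ded_28_0 (flp_d L258334) (flp_c L244921) L221378 L221398 (flp_d L238025) (flp_c L250544) (flp_d L250691) (flp_a L255512)
theorem L258348 : sm gf N31373 = N32819 := rfl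
theorem L258350 : sm gc N32819 = N31596 := ded_20_1 L256382 L256376 L258348
theorem L258352 : sm gd N32819 = N31374 := ded_23_1 (flp_f L245007) (flp_d L245003) L258348
theorem L258354 : sm ge N32819 = N32555 := ded_25_1 L255662 (flp_e L245005) L258348
theorem L258356 : sm gg N31602 = N32819 := ded_29_1 (flp_f L258348) (flp_g L252822) L252818 (flp_f L246869)
theorem L258358 : sm gb N32819 = N32769 := ded_16_1 (flp_f L257846) (flp_b L244281) (flp_f L221488) L245001 L258348
theorem L258360 : sm gf N31375 = N32820 := rfl
theorem L258362 : sm ga N32820 = N31567 := ded_11_1 (flp_f L256068) L256072 L258360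
theorem L258364 : sm gc N32820 = N32698 := ded_20_1 L257139 L246701 L258360
theorem L258366 : sm gd N32820 = N32753 := ded_23_1 L257700 (flp_d L245019) L258360
theorem L258368 : sm gg N32820 = N31565 := ded_29_3 (flp_a L246551) (flp_f L246547) L246549 L258360
theorem L258370 : sm gb N31376 = N32821 := rfl
theorem L258372 : sm gd N32821 = N32526 := ded_14_2 L255412 (flp_d L245027) L258370
theorem L258374 : sm gc N32821 = N32532 := ded_13_2 (flp_b L255454) L237933 L243327 (flp_c L245025) L258370
theorem L258376 : sm ga N32821 = N32525 := ded_7_1 (flp_b L255402) L237889 L237909 L255414 (flp_b L255420) L244315 (flp_b L221506) (flp_a L245023) L258370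
theorem L258378 : sm gd N31380 = N32822 := rfl
theorem L258380 : sm ga N32822 = N32395 := ded_9_1 (flp_d L255380) L255376 L258378
theorem L258382 : sm gb N32822 = N32644 := ded_14_1 L256633 (flp_b L245073) L258378
theorem L258384 : sm gf N32822 = N32632 := ded_23_2 L256509 (flp_f L245071) L258378
theorem L258386 : sm gg N32822 = N32393 := ded_24_2 (flp_d L255638) L255642 L258378
theorem L258388 : sm gc N32632 = N32822 := ded_28_0 (flp_d L258378) (flp_c L245069) L221530 L192369 (flp_d L212821) (flp_c L237645) (flp_d L248704) (flp_a L256515)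
theorem L258390 : sm gf N31389 = N32823 := rfl
theorem L258392 : sm ga N32823 = N31392 := ded_11_1 (flp_f L245171) (flp_a L245147) L258390
theorem L258394 : sm gc N32823 = N31390 := ded_20_1 (flp_f L245157) L245145 L258390
theorem L258396 : sm gd N32823 = N31927 := ded_23_1 L249691 L245155 L258390
theorem L258398 : sm ge N32823 = N31394 := ded_25_1 (flp_f L245187) (flp_e L245149) L258390
theorem L258400 : sm gg N32823 = N31949 := ded_29_3 (flp_a L257253) (flp_f L257251) (flp_g L245151) L258390
theorem L258402 : sm gb N32823 = N31925 := ded_16_1 (flp_f L249671) L227578 L227598 (flp_b L245153) L258390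
theorem L258404 : sm gb N31390 = N32824 := rfl
theorem L258406 : sm ge N32824 = N31395 := ded_15_2 (flp_b L245197) (flp_e L245161) L258404
theorem L258408 : sm ga N32824 = N32229 := ded_7_1 (flp_b L252465) L231522 L244203 (flp_a L256268) L256276 L243923 L243809 (flp_a L245159) L258404
theorem L258410 : sm gb N31394 = N32825 := rfl
theorem L258412 : sm gd N32825 = N31952 := ded_14_2 (flp_b L249879) (flp_d L245193) L258410
theorem L258414 : sm ge N32825 = N31925 := ded_15_2 (flp_b L258402) L258398 L258410
theorem L258416 : sm gc N32825 = N31526 := ded_13_2 L246214 L246052 (flp_b L245197) (flp_c L245191) L258410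
theorem L258418 : sm gf N32825 = N31924 := ded_16_2 L249669 L227612 (flp_b L221682) L245187 L258410
theorem L258420 : sm gg N32825 = N31525 := ded_17_2 L246202 (flp_g L243259) L243261 (flp_g L245195) L258410
theorem L258422 : sm ga N32825 = N32318 := ded_7_1 (flp_b L253383) (flp_a L253345) L253355 (flp_a L233575) (flp_b L233585) L227772 (flp_b L221674) (flp_a L245189) L258410
theorem L258424 : sm gc N31396 = N32826 := rfl
theorem L258426 : sm ga N32826 = N31638 := ded_8_1 L247183 L246425 L258424
theorem L258428 : sm ge N32826 = N31573 := ded_19_2 (flp_c L257836) L257840 L258424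
theorem L258430 : sm gg N32826 = N31571 := ded_21_2 L246595 (flp_g L245203) L258424
theorem L258432 : sm gb N32826 = N31918 := ded_13_1 L249625 (flp_b L242032) L242026 L245199 L258424
theorem L258434 : sm gd N32785 = N32826 := ded_32_21 (flp_c L258424) L245201 L243893 (flp_b L226207) (flp_e L220174) L220172 (flp_c L197093) (flp_d L166420) (flp_c L115379) (flp_b L95348) (flp_d L95312) L95310 L89092 (flp_c L88374) L102599 (flp_d L129938) (flp_c L162102) (flp_d L192773) L192777 L221796 L221798 (flp_c L192541) (flp_d L203093) (flp_c L232749) L252974 L252976 L249056 L230704 L206090 L191551 L191547 (flp_d L173743) (flp_c L122412) (flp_d L120601) (flp_c L103368) L103366 (flp_d L143251) L179631 (flp_d L188805) L188807 (flp_b L174958) (flp_d L189751) L189749 L165696 (flp_c L165654) L165660 L185451 (flp_c L185445) L154124 L154260 L154262 L179599 L205721 (flp_d L205713) L173110 (flp_b L123269) (flp_e L118039) (flp_d L170554) (flp_c L203009) (flp_d L214188) L214186 L240752 L240754 L240137 L229628 (flp_c L249420) (flp_b L249416) L249428 (flp_c L249438) (flp_d L249339) (flp_c L227246) L199014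 L199008 L221086 L244611 L258077 L258085
theorem L258436 : sm gd N31397 = N32827 := rfl
theorem L258438 : sm ga N32827 = N32742 := ded_9_1 L257590 L255122 L258436
theorem L258440 : sm gb N32827 = N31885 := ded_14_1 (flp_d L249329) (flp_b L246729) L258436
theorem L258442 : sm gf N32827 = N32595 := ded_23_2 (flp_d L256098) (flp_f L245209) L258436
theorem L258444 : sm gg N32827 = N32363 := ded_24_2 (flp_d L256140) L256144 L258436
theorem L258446 : sm ge N32827 = N31886 := ded_22_2 (flp_d L253557) L253559 (flp_d L245255) (flp_e L245207) L258436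
theorem L258448 : sm gc N31896 = N32827 := ded_28_0 (flp_d L258436) (flp_c L245205) L221696 (flp_c L194442) (flp_d L211191) (flp_c L238353) (flp_d L255783) L255781
theorem L258450 : sm gb N31402 = N32828 := rfl
theorem L258452 : sm ge N32828 = N32748 := ded_15_2 L257648 L255124 L258450
theorem L258454 : sm gg N32828 = N32747 := ded_17_2 L257636 (flp_g L247835) (flp_b L253818) L253816 L258450
theorem L258456 : sm gd N32828 = N32443 := ded_32_6 (flp_c L254656) (flp_d L236314) L207901 (flp_b L235135) (flp_d L249136) L249140 L249106 L235127 L215455 (flp_d L190200) (flp_c L219022) L243225 L243237 (flp_b L224361) L224365 (flp_c L224373) (flp_d L223445) (flp_c L193431) L193425 L193429 L160890 L156709 (flp_d L187509) L187507 L198185 L198190 (flp_c L183046) (flp_d L145859) L104655 (flp_b L104568) L104573 L145750 (flp_d L145760) (flp_c L145440) (flp_b L145396) (flp_d L145394) (flp_c L104383) (flp_d L104367) L145362 (flp_b L179375) L210109 (flp_c L210117) L210147 (flp_c L210143) L204279 L204277 L171382 (flp_c L188267) (flp_d L217678) (flp_c L242552) (flp_b L242560) L249613 (flp_c L249605)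 L227518 L227522 L227526 L227528 (flp_c L249355) L249359 (flp_c L227544) L199018 (flp_d L168162) (flp_c L116577) L95880 L96233 (flp_b L117239) L169209 L200731 L229982 (flp_c L229988) L229902 (flp_e L234073) L234071 (flp_c L204037) (flp_d L221724) L245245 L258450
theorem L258458 : sm ga N32446 = N32828 := ded_12_3 L258454 L257634 L256234
theorem L258460 : sm gd N31402 = N32829 := rfl
theorem L258462 : sm ga N32829 = N31404 := ded_9_1 (flp_d L245255) (flp_a L245247) L258460
theorem L258464 : sm gb N32829 = N32443 := ded_14_1 (flp_d L258456) (flp_b L258450) L258460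
theorem L258466 : sm gf N32829 = N32142 := ded_23_2 L255250 L255244 L258460
theorem L258468 : sm gg N32829 = N31705 := ded_24_2 (flp_d L253820) L253816 L258460
theorem L258470 : sm ge N32829 = N31706 := ded_22_2 L247823 (flp_e L257592) L257590 L255124 L258460
theorem L258472 : sm gc N31775 = N32829 := ded_28_0 (flp_d L258460) (flp_c L245245) L221724 L204037 (flp_d L234071) L253689 (flp_d L256776) L256772
theorem L258474 : sm gf N31404 = N32830 := rfl
theorem L258476 : sm ga N32830 = N32142 := ded_11_1 (flp_f L258466) L258462 L258474
theorem L258478 : sm gd N32830 = N31405 := ded_23_1 (flp_f L245257) L245255 L258474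
theorem L258480 : sm ge N32830 = N32141 := ded_25_1 L253561 L253559 L258474
theorem L258482 : sm gg N32599 = N32830 := ded_29_1 (flp_f L258474) L253549 L253541 (flp_f L256152)
theorem L258484 : sm gb N32830 = N31405 := ded_16_1 (flp_f L245257) L245249 (flp_f L249559) L249565 L258474
theorem L258486 : sm gg N31412 = N32831 := rfl
theorem L258488 : sm gc N32831 = N31607 := ded_21_1 (flp_g L256224) L256218 L258486
theorem L258490 : sm gd N32831 = N31413 := ded_24_1 (flp_g L245331) (flp_d L245327) L258486
theorem L258492 : sm ge N32831 = N32560 := ded_26_1 L255728 (flp_e L245329) L258486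
theorem L258494 : sm gf N32831 = N31612 := ded_29_2 L246965 (flp_a L251962) L251966 L258486
theorem L258496 : sm gb N32831 = N32788 := ded_17_1 (flp_g L258020) (flp_b L244495) L221944 L245325 L258486
theorem L258498 : sm gg N31414 = N32832 := rfl
theorem L258500 : sm ga N32832 = N31586 := ded_12_1 (flp_g L255911) L255913 L258498
theorem L258502 : sm gc N32832 = N32684 := ded_21_1 L257019 L246535 L258498
theorem L258504 : sm gd N32832 = N32759 := ded_24_1 L257770 (flp_d L245343) L258498
theorem L258506 : sm gf N31584 = N32832 := ded_29_0 (flp_g L258498) (flp_f L246705) L246707 L246709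
theorem L258508 : sm gb N31415 = N32833 := rfl
theorem L258510 : sm gd N32833 = N32533 := ded_14_2 L255464 (flp_d L245351) L258508
theorem L258512 : sm gc N32833 = N32525 := ded_13_2 (flp_b L255402) L237891 L243319 (flp_c L245349) L258508
theorem L258514 : sm ga N32833 = N32532 := ded_7_1 (flp_b L255454) L237931 L237951 L255466 (flp_b L255472) L244529 (flp_b L221962) (flp_a L245347) L258508
theorem L258516 : sm gd N31418 = N32834 := rfl
theorem L258518 : sm ga N32834 = N32381 := ded_9_1 (flp_d L255297) L255293 L258516
theorem L258520 : sm gb N32834 = N32624 := ded_14_1 L256428 (flp_b L245385) L258516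
theorem L258522 : sm gf N32834 = N32379 := ded_23_2 (flp_d L255700) (flp_f L255704) L258516
theorem L258524 : sm gg N32834 = N32650 := ded_24_2 L256699 (flp_g L245383) L258516
theorem L258526 : sm gc N32650 = N32834 := ded_28_0 (flp_d L258516) (flp_c L245381) L221976 L192679 (flp_d L213323) (flp_c L237499) (flp_d L249042) (flp_a L256705)
theorem L258528 : sm gg N31426 = N32835 := rfl
theorem L258530 : sm ga N32835 = N31429 := ded_12_1 (flp_g L245487) (flp_a L245463) L258528
theorem L258532 : sm gc N32835 = N31427 := ded_21_1 (flp_g L245473) L245461 L258528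
theorem L258534 : sm gd N32835 = N32055 := ded_24_1 L250753 (flp_d L245471) L258528
theorem L258536 : sm ge N32835 = N31431 := ded_26_1 (flp_g L245503) (flp_e L245465) L258528
theorem L258538 : sm gf N32069 = N32835 := ded_29_0 (flp_g L258528) L245467 L257335 L257337
theorem L258540 : sm gb N32835 = N32054 := ded_17_1 (flp_g L250739) L228495 L228533 (flp_b L245469) L258528
theorem L258542 : sm gb N31427 = N32836 := rfl
theorem L258544 : sm ge N32836 = N31432 := ded_15_2 (flp_b L245513) (flp_e L245477) L258542
theorem L258546 : sm ga N32836 = N32123 := ded_7_1 (flp_b L251373) L229276 L244417 (flp_a L256160) L256166 L244167 L244053 (flp_a L245475) L258542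
theorem L258548 : sm gb N31431 = N32837 := rfl
theorem L258550 : sm gd N32837 = N32071 := ded_14_2 (flp_b L250883) (flp_d L245509) L258548
theorem L258552 : sm ge N32837 = N32054 := ded_15_2 (flp_b L258540) L258536 L258548
theorem L258554 : sm gc N32837 = N31466 := ded_13_2 L245765 L245637 (flp_b L245513) (flp_c L245507) L258548
theorem L258556 : sm gf N32837 = N31465 := ded_16_2 L245755 (flp_f L243133) L243135 L245511 L258548
theorem L258558 : sm gg N32837 = N32052 := ded_17_2 L250727 (flp_g L228521) (flp_b L222096) L245503 L258548
theorem L258560 : sm ga N32837 = N32356 := ded_7_1 (flp_b L253750) (flp_a L253701) L253711 L234335 L234329 L228695 (flp_b L222114) (flp_a L245505) L258548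
theorem L258562 : sm gc N31433 = N32838 := rfl
theorem L258564 : sm ga N32838 = N31643 := ded_8_1 L247217 L246587 L258562
theorem L258566 : sm ge N32838 = N31553 := ded_19_2 (flp_c L258010) L258014 L258562
theorem L258568 : sm gf N32838 = N31551 := ded_20_2 L246433 (flp_f L245519) L258562
theorem L258570 : sm gb N32838 = N32046 := ded_13_1 L250681 (flp_b L242378) L242372 L245515 L258562
theorem L258572 : sm gd N32766 = N32838 := ded_32_21 (flp_c L258562) L245517 L244137 (flp_b L225927) (flp_e L219954) L219952 (flp_c L197115) (flp_d L166466) (flp_c L115429) (flp_b L95368) (flp_d L95328) L95326 L89078 (flp_c L88358) L102577 (flp_d L129914) (flp_c L161868) (flp_d L192463) (flp_c L192811) L222277 L222279 (flp_c L192863) (flp_d L201456) (flp_c L230970) L252197 L252199 L248718 L232664 L207259 L191932 L191928 (flp_d L175192) (flp_c L123293) (flp_d L151354) (flp_c L103282) L103280 (flp_d L143163) L179603 (flp_d L188651) L188653 (flp_b L173152) (flp_d L189319) L189317 L165061 (flp_c L165033) L165035 (flp_d L185603) L185601 L154454 L154464 L154468 L179627 L206116 (flp_d L206110) (flp_c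 L173697) (flp_b L122370) (flp_e L117421) (flp_d L169535) (flp_c L201368) (flp_d L213871) (flp_c L214248) L240978 L240980 L240625 L231766 (flp_c L250504) (flp_b L250500) L250512 (flp_c L250522) (flp_d L250418) (flp_c L228198) L199580 L199574 L221255 L244796 L258218 L258226
theorem L258574 : sm gd N31434 = N32839 := rfl
theorem L258576 : sm ga N32839 = N32741 := ded_9_1 L257578 L255112 L258574
theorem L258578 : sm gb N32839 = N32018 := ded_14_1 (flp_d L250408) (flp_b L246543) L258574
theorem L258580 : sm gf N32839 = N32325 := ded_23_2 (flp_d L256120) L256116 L258574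
theorem L258582 : sm gg N32839 = N32614 := ded_24_2 (flp_d L256302) (flp_g L245525) L258574
theorem L258584 : sm ge N32839 = N32019 := ded_22_2 (flp_d L253188) L253190 (flp_d L245551) (flp_e L245523) L258574
theorem L258586 : sm gc N32028 = N32839 := ded_28_0 (flp_d L258574) (flp_c L245521) L222126 L194635 (flp_d L211382) (flp_c L238509) (flp_d L255940) L255938
theorem L258588 : sm gb N31437 = N32840 := rfl
theorem L258590 : sm ge N32840 = N32745 := ded_15_2 L257622 L255114 L258588
theorem L258592 : sm gf N32840 = N32744 := ded_16_2 L257610 (flp_f L247749) (flp_b L253451) L253447 L258588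
theorem L258594 : sm ga N32840 = N32433 := ded_30_3 (flp_f L256260) (flp_c L256669) (flp_b L256665) L240493 (flp_f L213737) (flp_c L182827) L145684 L104526 (flp_f L104516) L145666 L182793 (flp_a L193457) L223503 L223507 (flp_b L214912) (flp_a L233461) L233463 L245541 L258588
theorem L258596 : sm gd N32840 = N32430 := ded_32_6 (flp_c L254546) (flp_d L236175) L207616 (flp_b L235015) (flp_d L248790) L248794 L248764 L235007 L215367 (flp_d L190127) (flp_c L218810) L243099 L243111 (flp_b L224305) L224309 (flp_c L224317) (flp_d L223018) (flp_c L193115) L193109 L193113 L160694 L156458 (flp_d L187437) L187435 L198550 L198561 (flp_c L182907) (flp_d L145743) (flp_c L104655) (flp_b L104651) L104662 L145870 (flp_d L145880) (flp_c L145666) (flp_b L145614) (flp_d L145612) (flp_c L104488) (flp_d L104472) L145584 (flp_b L179425) L210159 (flp_c L210165) (flp_d L210099) (flp_c L210093) L203767 L203765 L171033 (flp_c L188325) (flp_d L217716) (flp_c L242608) L242616 L250669 (flp_c L250659) L228431 L228435 L228441 L228443 (flp_c L250434) L250438 (flp_c L228459) L199584 (flp_d L168560) (flp_c L116783)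 L95987 L96518 (flp_b L117849) L170214 L202372 L232060 (flp_c L232066) L231992 (flp_e L233309) L233307 (flp_c L203527) (flp_d L222158) L245541 L258588
theorem L258598 : sm gd N31437 = N32841 := rfl
theorem L258600 : sm ga N32841 = N31439 := ded_9_1 (flp_d L245551) (flp_a L245543) L258598
theorem L258602 : sm gb N32841 = N32430 := ded_14_1 (flp_d L258596) (flp_b L258588) L258598
theorem L258604 : sm gf N32841 = N31697 := ded_23_2 (flp_d L253453) L253447 L258598
theorem L258606 : sm gg N32841 = N32239 := ded_24_2 L255331 L255327 L258598
theorem L258608 : sm ge N32841 = N31698 := ded_22_2 L247739 (flp_e L257580) L257578 L255114 L258598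
theorem L258610 : sm gc N31730 = N32841 := ded_28_0 (flp_d L258598) (flp_c L245541) L222158 L203527 (flp_d L233307) L253322 (flp_d L256559) L256555
theorem L258612 : sm gg N31439 = N32842 := rfl
theorem L258614 : sm ga N32842 = N32239 := ded_12_1 (flp_g L258606) L258600 L258612
theorem L258616 : sm gd N32842 = N31440 := ded_24_1 (flp_g L245553) L245551 L258612
theorem L258618 : sm ge N32842 = N32238 := ded_26_1 (flp_g L253192) L253190 L258612
theorem L258620 : sm gf N32842 = N32616 := ded_29_2 L256328 (flp_a L253172) (flp_f L253180) L258612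
theorem L258622 : sm gb N32842 = N31440 := ded_17_1 (flp_g L245553) L245545 (flp_g L250617) L250621 L258612
theorem L258624 : sm gf N31445 = N32843 := rfl
theorem L258626 : sm ga N32843 = N32588 := ded_11_1 L256028 (flp_a L245679) L258624
theorem L258628 : sm gd N32843 = N32530 := ded_23_1 L255438 (flp_d L245613) L258624
theorem L258630 : sm gg N32843 = N32615 := ded_29_3 L256322 (flp_f L245635) (flp_g L245615) L258624
theorem L258632 : sm gb N32843 = N32529 := ded_16_1 (flp_f L255426) (flp_b L237909) (flp_f L222375) L245611 L258624
theorem L258634 : sm ga N31446 = N32844 := rfl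
theorem L258636 : sm gd N32844 = N31448 := ded_9_2 (flp_a L245627) (flp_d L245619) L258634
theorem L258638 : sm ge N32844 = N32015 := ded_10_2 L250388 L245717 L258634
theorem L258640 : sm gf N32844 = N32582 := ded_11_2 (flp_a L256036) L256042 L258634
theorem L258642 : sm gg N32844 = N32531 := ded_12_2 (flp_a L255442) (flp_g L245621) L258634
theorem L258644 : sm gb N32844 = N31508 := ded_7_2 L246088 L225843 (flp_a L225913) L245705 (flp_a L245699) (flp_b L222459) (flp_a L222391) L245617 L258634
theorem L258646 : sm gc N31446 = N32845 := rfl
theorem L258648 : sm ge N32845 = N32589 := ded_19_2 L256038 L245717 L258646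
theorem L258650 : sm gf N32845 = N31459 := ded_20_2 (flp_c L256038) L256042 L258646
theorem L258652 : sm gg N32845 = N32498 := ded_21_2 L255164 (flp_g L245621) L258646
theorem L258654 : sm gb N32845 = N31457 := ded_13_1 (flp_c L245707) (flp_b L222459) (flp_c L222393) L245617 L258646
theorem L258656 : sm gd N31468 = N32845 := ded_32_16 (flp_c L258646) L245619 L245629 L245631 L245681 (flp_c L245689) (flp_d L242098) L242096 (flp_b L230516) L230514 L216978 L187845 (flp_d L197739) (flp_c L225815) L247885 L247887 L242507 (flp_d L247887) L247891 (flp_b L225907) L197781 L188209 L156763 L108248 L91505 (flp_d L107326) (flp_c L155088) (flp_d L177995) L177999 (flp_b L166696) (flp_d L156871) (flp_c L170426) (flp_d L202818) L202816 (flp_b L208199) (flp_e L208347) L208345 L176899 (flp_d L176464) (flp_c L208124) L236443 (flp_d L254766) L254768 L254766 L236447 L236007 (flp_d L237467) (flp_c L253336) L253338 L237857 L210503 L199438 (flp_c L195366) L195362 L164302 L179165 (flp_d L209627) (flp_c L237231) (flp_d L253681) L253679 (flp_b L234119) (flp_e L242436) (flp_d L247950) L247948 (flp_d L234715)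 L234713 L204392 L188449 L156968 (flp_d L188449) (flp_c L217982) (flp_b L230950) (flp_d L251838) (flp_c L251894) L251896 L230252 L245779
theorem L258658 : sm ga N31447 = N32846 := rfl
theorem L258660 : sm ge N32846 = N31448 := ded_10_2 (flp_a L245627) (flp_e L245625) L258658
theorem L258662 : sm gg N32846 = N32824 := ded_12_2 L258408 L252469 L258658
theorem L258664 : sm gb N32846 = N31505 := ded_7_2 (flp_a L252439) L252441 (flp_a L254018) L254028 (flp_a L245727) (flp_b L222485) (flp_a L222411) L245623 L258658
theorem L258666 : sm gc N31503 = N32846 := ded_19_3 L258660 (flp_c L245673) (flp_e L246048)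
theorem L258668 : sm gc N31447 = N32847 := rfl
theorem L258670 : sm ga N32847 = N31503 := ded_8_1 L258666 (flp_a L258658) L258668

end Cfsg.Agent.Helper28.SzbA
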