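import Cfsg.Agent.Helper28.SzbB22

/-! # The Suzuki group presentation, cosets of the subgroup generated by a, b, c, d, f, g: the coset enumeration, part 23 (helper28; generated) -/

set_option autoImplicit false

noncomputable section

namespace Cfsg.Agent.Helper28.SzbA

open Cfsg.Agent.Helper28.CosetTable

theorem L258672 : sm ge N32847 = N31449 := ded_19_2 (flp_c L245629) (flp_e L245625) L258668
theorem L258674 : sm gb N32847 = N31451 := ded_13_1 (flp_c L245639) (flp_b L222419) (flp_c L222413) L245623 L258668
theorem L258676 : sm gf N32836 = N32847 := ded_30_0 (flp_c L258668) (flp_b L245623) L222411 L222489 L222493 L222908 L245805 L245811 L247425 (flp_b L247417) L225377 (flp_f L197337) L191624 L191620 (flp_a L191612) (flp_f L200159) L229274 L251373 (flp_a L258546)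
theorem L258678 : sm gf N31447 = N32848 := rfl
theorem L258680 : sm gc N32848 = N32836 := ded_20_1 L258676 (flp_c L258668) L258678
theorem L258682 : sm ge N32848 = N31450 := ded_25_1 (flp_f L245635) (flp_e L245625) L258678
theorem L258684 : sm gd N31449 = N32849 := rfl
theorem L258686 : sm ga N32849 = N31502 := ded_9_1 L246042 (flp_a L245671) L258684
theorem L258688 : sm gb N32849 = N31454 := ded_14_1 (flp_d L245681) (flp_b L245631) L258684
theorem L258690 : sm gf N32849 = N32538 := ded_23_2 L255498 L245633 L258684
theorem L258692 : sm gg N32849 = N32567 := ded_24_2 (flp_d L256126) L256130 L258684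
theorem L258694 : sm ge N31884 = N32849 := ded_32_0 (flp_d L258684) (flp_c L245629) (flp_d L245619) L258646 L258654 L246487 (flp_c L230252) (flp_d L251896) L251894 L251840 L242881 L217982 L188449 L156968 (flp_b L171431) (flp_d L204390) (flp_c L234713) L234715 (flp_c L247948) (flp_b L255992) L255996 L253744 L240021 (flp_c L213209) (flp_b L212379) L212375 L183955 (flp_c L174962) (flp_d L184137) (flp_c L214655) L214659 L204912 L204924 (flp_d L204932) (flp_c L195884) (flp_b L164683) (flp_d L164675) L173467 (flp_d L173457) (flp_c L122226) L97883 (flp_d L111741) (flp_c L161533) L161535 L158694 L109802 (flp_d L99353) (flp_c L124680) (flp_d L176719) (flp_c L195205) L195211 (flp_e L214713) (flp_d L234513) L234511 L233701 (flp_c L216569) L200139 (flp_d L229210) L229248 (flp_d L229242) (flp_c L200105) L200095 (flp_d L211967) (flp_c L211959) (flp_d L181405) (flp_c L144865) (flp_b L104129) (flp_d L104127) (flp_c L116927) L116929 L96058 L96068 (flp_d L116457) L167858 L198795 L227192 L249311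
theorem L258696 : sm gc N31455 = N32850 := rfl
theorem L258698 : sm ge N32850 = N31457 := ded_19_2 (flp_c L245707) (flp_e L245697) L258696
theorem L258700 : sm gg N32850 = N31748 := ded_21_2 L248175 L246471 L258696
theorem L258702 : sm gb N32850 = N32589 := ded_13_1 L256038 (flp_b L245713) L222467 L245693 L258696
theorem L258704 : sm gd N31466 = N32850 := ded_28_3 (flp_c L258696) L245695 L245751 (flp_d L250334) (flp_a L253788) L253786 (flp_d L258550) L258554
theorem L258706 : sm gf N31455 = N32850 := ded_30_0 (flp_c L258696) (flp_b L245693) (flp_a L222465) (flp_f L222463) (flp_c L222393) L245617 L258634 L258640 L255961 (flp_b L250382) (flp_a L231460) L231464 (flp_c L202084) L225127 L225123 (flp_f L227804) (flp_c L243863) (flp_b L248189) L248183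
theorem L258708 : sm ga N31460 = N32851 := rfl
theorem L258710 : sm gc N32851 = N32068 := ded_8_2 L250855 (flp_c L245725) L258708
theorem L258712 : sm gd N32851 = N31461 := ded_9_2 (flp_a L245727) (flp_d L245721) L258708
theorem L258714 : sm ge N32851 = N31464 := ded_10_2 (flp_a L245749) (flp_e L245723) L258708
theorem L258716 : sm gb N32361 = N32851 := ded_13_5 L258710 L250857 L234157 L234187 L253798
theorem L258718 : sm gf N32261 = N32851 := ded_23_0 L258712 L245733 L252800
theorem L258720 : sm gf N31460 = N32852 := rfl
theorem L258722 : sm ga N32852 = N32261 := ded_11_1 L258718 (flp_a L258708) L258720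
theorem L258724 : sm gc N32852 = N32054 := ded_20_1 L250743 (flp_c L245725) L258720
theorem L258726 : sm gd N32852 = N31462 := ded_23_1 (flp_f L245735) (flp_d L245721) L258720
theorem L258728 : sm ge N32852 = N31466 := ded_25_1 (flp_f L245763) (flp_e L245723) L258720
theorem L258730 : sm gb N32852 = N32848 := ded_16_1 (flp_f L258678) (flp_b L245623) L222483 L245719 L258720
theorem L258732 : sm gg N32051 = N32852 := ded_21_0 L258724 (flp_g L250739) L250723
theorem L258734 : sm gb N31462 = N32853 := rfl
theorem L258736 : sm gd N32853 = N32848 := ded_14_2 (flp_b L258730) L258726 L258734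
theorem L258738 : sm ge N32853 = N31468 := ded_15_2 (flp_b L245779) (flp_e L245741) L258734
theorem L258740 : sm gf N32853 = N31463 := ded_16_2 (flp_b L245743) (flp_f L222489) L222485 L245735 L258734
theorem L258742 : sm gg N31462 = N32854 := rfl
theorem L258744 : sm ga N32854 = N31561 := ded_12_1 L246529 (flp_a L245737) L258742
theorem L258746 : sm gc N32854 = N32166 := ded_21_1 L251850 (flp_c L245739) L258742
theorem L258748 : sm gd N32854 = N32051 := ded_24_1 L258732 L258726 L258742
theorem L258750 : sm ge N32854 = N31469 := ded_26_1 (flp_g L245783) (flp_e L245741) L258742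
theorem L258752 : sm gf N31560 = N32854 := ded_29_0 (flp_g L258742) (flp_f L245735) (flp_g L223727) L246515
theorem L258754 : sm gb N32370 = N32854 := ded_31_14 (flp_g L258742) (flp_f L245735) (flp_b L222485) (flp_g L193027) (flp_f L193019) (flp_b L193639) L223705 L241418 L256997 L257003 L257035 (flp_b L257225) L257223 (flp_f L253892)
theorem L258756 : sm ga N31463 = N32855 := rfl
theorem L258758 : sm gd N32855 = N32846 := ded_9_2 (flp_a L258658) (flp_d L245745) L258756
theorem L258760 : sm ge N32855 = N31470 := ded_10_2 (flp_a L245793) (flp_e L245747) L258756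
theorem L258762 : sm gb N32855 = N32226 := ded_7_2 L252427 (flp_b L252060) (flp_a L253800) L258716 (flp_a L258708) (flp_b L245719) (flp_a L222491) L245743 L258756
theorem L258764 : sm gc N31463 = N32856 := rfl
theorem L258766 : sm ge N32856 = N31471 := ded_19_2 (flp_c L245797) (flp_e L245747) L258764
theorem L258768 : sm gb N32856 = N31474 := ded_13_1 (flp_c L245817) (flp_b L222908) (flp_c L222493) L245743 L258764
theorem L258770 : sm gf N31464 = N32857 := rfl
theorem L258772 : sm ga N32857 = N31466 := ded_11_1 (flp_f L245763) L245749 L258770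
theorem L258774 : sm gc N32857 = N32356 := ded_20_1 L253752 (flp_c L245759) L258770
theorem L258776 : sm ge N32857 = N32261 := ded_25_1 L258718 L258714 L258770
theorem L258778 : sm gg N32764 = N32857 := ded_29_1 (flp_f L258770) (flp_g L248121) L248123 L257812
theorem L258780 : sm gb N32857 = N32265 := ded_16_1 L252844 (flp_b L247241) (flp_f L234203) L245761 L258770
theorem L258782 : sm gg N31466 = N32858 := rfl
theorem L258784 : sm ga N32858 = N32764 := ded_12_1 L258778 L258772 L258782
theorem L258786 : sm gc N32858 = N32052 := ded_21_1 (flp_g L258558) L258554 L258782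
theorem L258788 : sm gd N32858 = N31748 := ded_24_1 (flp_g L258700) (flp_d L258704) L258782
theorem L258790 : sm ge N32858 = N32051 := ded_26_1 L258732 L258728 L258782
theorem L258792 : sm gf N31741 = N32858 := ded_29_0 (flp_g L258782) (flp_f L245763) (flp_g L244239) (flp_a L248123)
theorem L258794 : sm gb N32858 = N32301 := ded_17_1 L253238 (flp_b L256026) L256032 (flp_b L245765) L258782
theorem L258796 : sm ga N31468 = N32859 := rfl
theorem L258798 : sm gf N32859 = N31470 := ded_11_2 (flp_a L245793) (flp_f L245781) L258796
theorem L258800 : sm gg N32859 = N32300 := ded_12_2 L253228 L246188 L258796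
theorem L258802 : sm gb N32859 = N32240 := ded_7_2 L252580 (flp_b L244977) L221432 L221464 (flp_a L232318) L245777 L245769 L245779 L258796
theorem L258804 : sm gg N31470 = N32860 := rfl
theorem L258806 : sm ga N32860 = N31472 := ded_12_1 (flp_g L245801) L245793 L258804
theorem L258808 : sm gc N32860 = N31523 := ded_21_1 (flp_g L253577) L253575 L258804
theorem L258810 : sm gd N32860 = N31720 := ded_24_1 (flp_g L250386) L250384 L258804
theorem L258812 : sm gf N31522 = N32860 := ded_29_0 (flp_g L258804) (flp_f L258798) L258800 L253228
theorem L258814 : sm gb N32860 = N31718 := ded_17_1 L247930 (flp_b L244377) (flp_g L231442) (flp_b L245795) L258804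
theorem L258816 : sm gg N31471 = N32861 := rfl
theorem L258818 : sm ga N32861 = N31523 := ded_12_1 (flp_g L253577) L253579 L258816
theorem L258820 : sm gc N32861 = N31472 := ded_21_1 (flp_g L245801) L245797 L258816
theorem L258822 : sm gd N32861 = N31765 := ded_24_1 (flp_g L255146) L255140 L258816
theorem L258824 : sm gf N31521 = N32861 := ded_29_0 (flp_g L258816) L246172 L246170 L246184
theorem L258826 : sm gb N32861 = N31763 := ded_17_1 L248308 L245831 (flp_g L245823) (flp_b L245799) L258816
theorem L258828 : sm gb N31478 = N32862 := rfl
theorem L258830 : sm ge N32862 = N31486 := ded_15_2 (flp_b L245911) (flp_e L245861) L258828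
theorem L258832 : sm gc N32862 = N32364 := ded_13_2 (flp_b L256146) L256138 L238851 (flp_c L245859) L258828
theorem L258834 : sm gc N31482 = N32863 := rfl
theorem L258836 : sm ga N32863 = N31485 := ded_8_1 L245909 (flp_a L245887) L258834
theorem L258838 : sm ge N32863 = N31495 := ded_19_2 (flp_c L245972) (flp_e L245883) L258834
theorem L258840 : sm gf N32863 = N32658 := ded_20_2 L256782 (flp_f L245936) L258834
theorem L258842 : sm gg N32863 = N31484 := ded_21_2 L245899 (flp_g L245885) L258834
theorem L258844 : sm gb N32863 = N31483 := ded_13_1 (flp_c L245889) (flp_b L223052) (flp_c L223046) L245881 L258834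
theorem L258846 : sm gd N32863 = N32629 := ded_28_7 L256482 L249098 L226972 (flp_c L247821) L247823 L247307 L246276 L258834
theorem L258848 : sm gb N31485 = N32864 := rfl
theorem L258850 : sm gd N32864 = N31804 := ded_14_2 (flp_b L249102) L249100 L258848
theorem L258852 : sm gc N32864 = N32712 := ded_13_2 (flp_b L258105) (flp_c L258111) L245273 (flp_c L245909) L258848
theorem L258854 : sm gg N32864 = N31486 := ded_17_2 (flp_b L245911) (flp_g L223072) L223062 L245907 L258848
theorem L258856 : sm ga N32864 = N32275 := ded_7_1 (flp_b L252946) L232640 L226453 L198153 L225851 (flp_a L245891) (flp_b L258844) L258836 L258848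
theorem L258858 : sm gf N31817 = N32864 := ded_31_1 (flp_b L258848) (flp_g L245907) (flp_f L240633) (flp_b L240631) (flp_g L213778) L213772 L240623 L240629 (flp_f L225971) (flp_b L197809) (flp_g L197757) L225861 L247920 (flp_g L248754)
theorem L258860 : sm gf N31485 = N32865 := rfl
theorem L258862 : sm ga N32865 = N32658 := ded_11_1 (flp_f L258840) L258836 L258860
theorem L258864 : sm gc N32865 = N31491 := ded_20_1 (flp_f L245938) (flp_c L245909) L258860
theorem L258866 : sm gd N32865 = N31877 := ded_23_1 L249258 L249100 L258860
theorem L258868 : sm gg N32865 = N32659 := ded_29_3 (flp_a L256786) L240633 L245907 L258860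
theorem L258870 : sm gb N32865 = N31869 := ded_16_1 L249188 L248850 L258858 (flp_b L258848) L258860
theorem L258872 : sm gf N31486 = N32866 := rfl
theorem L258874 : sm ga N32866 = N31717 := ded_11_1 (flp_f L248678) L248674 L258872
theorem L258876 : sm gd N32866 = N31837 := ded_23_1 L248914 (flp_d L245913) L258872
theorem L258878 : sm gg N32866 = N32646 := ded_29_3 L256663 L258858 L258854 L258872
theorem L258880 : sm gf N31489 = N32867 := rfl
theorem L258882 : sm ga N32867 = N31897 := ded_11_1 (flp_f L249426) L246280 L258880
theorem L258884 : sm gc N32867 = N31902 := ded_20_1 L249480 L249333 L258880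
theorem L258886 : sm gd N32867 = N31491 := ded_23_1 (flp_f L245938) (flp_d L245930) L258880
theorem L258888 : sm ge N32867 = N32564 := ded_25_1 L255775 L249412 L258880
theorem L258890 : sm gg N32867 = N32566 := ded_29_3 L255793 (flp_f L238372) L245928 L258880
theorem L258892 : sm gb N32867 = N32794 := ded_16_1 (flp_f L258070) (flp_b L244605) L227542 (flp_b L245932) L258880
theorem L258894 : sm gb N31491 = N32868 := rfl
theorem L258896 : sm gd N32868 = N32794 := ded_14_2 (flp_b L258892) L258886 L258894
theorem L258898 : sm gf N32868 = N32793 := ded_16_2 L258068 L245271 L245273 L245938 L258894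
theorem L258900 : sm gg N32868 = N32868 := ded_17_2 (flp_b L258894) L245942 L245927 (flp_g L245942) L258894
theorem L258901 : sm gg N31493 = N32869 := rfl
theorem L258903 : sm ga N32869 = N32029 := ded_12_1 (flp_g L250510) (flp_a L245956) L258901
theorem L258905 : sm gc N32869 = N32033 := ded_21_1 L250552 L250412 L258901
theorem L258907 : sm gd N32869 = N31542 := ded_24_1 (flp_g L246347) (flp_d L245958) L258901
theorem L258909 : sm ge N32869 = N32579 := ded_26_1 L255934 L250496 L258901
theorem L258911 : sm gf N32581 = N32869 := ded_29_0 (flp_g L258901) (flp_f L245954) L238528 (flp_a L255950)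
theorem L258913 : sm gb N32869 = N32807 := ded_17_1 (flp_g L258211) (flp_b L244790) (flp_g L228457) (flp_b L245960) L258901
theorem L258915 : sm gf N31495 = N32870 := rfl
theorem L258917 : sm gc N32870 = N31496 := ded_20_1 (flp_f L245980) L245972 L258915
theorem L258919 : sm gd N32870 = N32562 := ded_23_1 (flp_f L255746) L245978 L258915
theorem L258921 : sm ge N32870 = N32658 := ded_25_1 (flp_f L258840) L258838 L258915
theorem L258923 : sm gg N32870 = N32495 := ded_29_3 (flp_a L255190) L255192 (flp_g L245974) L258915
theorem L258925 : sm gb N32657 = N32870 := ded_13_5 L258917 L245988 L249553 L249565 (flp_c L256774)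
theorem L258927 : sm gb N31499 = N32871 := rfl
theorem L258929 : sm gd N32871 = N32224 := ded_14_2 (flp_b L255656) L255650 L258927
theorem L258931 : sm ge N32871 = N31776 := ded_15_2 (flp_b L256096) L256090 L258927
theorem L258933 : sm gc N32871 = N32830 := ded_13_2 L258484 L245259 (flp_b L223153) (flp_c L246016) L258927
theorem L258935 : sm gf N32871 = N32657 := ded_16_2 L258925 (flp_f L258915) L245976 L246014 L258927
theorem L258937 : sm gg N32871 = N31774 := ded_17_2 L248401 L253136 (flp_b L253148) (flp_g L252367) L258927
theorem L258939 : sm ga N32871 = N32162 := ded_30_3 L251818 L258472 L258464 L254658 L254684 L254686 L254692 L254700 L256382 L256376 (flp_b L245001) L221482 L221620 L221624 (flp_b L223143) (flp_a L223135) L223149 (flp_c L246016) L258927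
theorem L258941 : sm gg N31501 = N32872 := rfl
theorem L258943 : sm ga N32872 = N32573 := ded_12_1 L255871 (flp_a L246038) L258941
theorem L258945 : sm gc N32872 = N32843 := ded_21_1 L258630 L256318 L258941
theorem L258947 : sm gd N32872 = N32537 := ded_24_1 L255490 (flp_d L246034) L258941
theorem L258949 : sm gf N32597 = N32872 := ded_29_0 (flp_g L258941) L246036 L246050 L256132
theorem L258951 : sm gb N32872 = N32536 := ded_17_1 (flp_g L255478) (flp_b L237951) L223189 L246032 L258941
theorem L258953 : sm gc N31502 = N32873 := rfl
theorem L258955 : sm ge N32873 = N32574 := ded_19_2 L255879 L246122 L258953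
theorem L258957 : sm gf N32873 = N32496 := ded_20_2 L255144 (flp_f L246044) L258953
theorem L258959 : sm gg N32873 = N31513 := ded_21_2 (flp_c L255879) (flp_g L255883) L258953
theorem L258961 : sm gb N32873 = N31511 := ded_13_1 (flp_c L246112) (flp_b L223273) (flp_c L223207) L246040 L258953
theorem L258963 : sm gd N31519 = N32873 := ded_28_3 (flp_c L258953) L246042 L245673 (flp_d L258636) (flp_a L258634) L258646 (flp_d L258656) (flp_c L246168)
theorem L258965 : sm gg N31503 = N32874 := rfl
theorem L258967 : sm gc N32874 = N32824 := ded_21_1 (flp_g L258662) (flp_c L258666) L258965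
theorem L258969 : sm ge N32874 = N31504 := ded_26_1 (flp_g L246050) (flp_e L246048) L258965
theorem L258971 : sm gc N31509 = N32875 := rfl
theorem L258973 : sm ge N32875 = N31511 := ded_19_2 (flp_c L246112) (flp_e L246102) L258971
theorem L258975 : sm gf N32875 = N31793 := ded_20_2 L248555 L246637 L258971
theorem L258977 : sm gb N32875 = N32574 := ded_13_1 L255879 (flp_b L246118) L223281 L246098 L258971
theorem L258979 : sm gd N31526 = N32875 := ded_28_3 (flp_c L258971) L246100 L246198 (flp_d L251311) (flp_a L253421) L253419 (flp_d L258412) L258416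
theorem L258981 : sm gg N31509 = N32875 := ded_26_0 L258973 L246653 (flp_e L246102)
theorem L258983 : sm ga N31514 = N32876 := rfl
theorem L258985 : sm gc N32876 = N31948 := ded_8_2 L249837 (flp_c L246130) L258983
theorem L258987 : sm gd N32876 = N31515 := ded_9_2 (flp_a L246132) (flp_d L246126) L258983
theorem L258989 : sm ge N32876 = N31524 := ded_10_2 (flp_a L246196) (flp_e L246128) L258983
theorem L258991 : sm gb N32323 = N32876 := ded_30_2 (flp_a L258983) (flp_f L246679) (flp_c L249621) L249617 L227530 L227472 (flp_c L245251) (flp_b L245249) (flp_a L245247) (flp_f L255244) (flp_c L255238) (flp_b L237385) L209701 (flp_f L193545) L193539 L212809 (flp_a L212817) L233443 L253431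
theorem L258993 : sm gg N32176 = N32876 := ded_24_0 L258987 (flp_g L246138) L251944
theorem L258995 : sm gg N31514 = N32877 := rfl
theorem L258997 : sm ga N32877 = N32176 := ded_12_1 L258993 (flp_a L258983) L258995
theorem L258999 : sm gc N32877 = N31925 := ded_21_1 L249675 (flp_c L246130) L258995
theorem L259001 : sm gd N32877 = N31516 := ded_24_1 (flp_g L246140) (flp_d L246126) L258995
theorem L259003 : sm ge N32877 = N31526 := ded_26_1 (flp_g L246212) (flp_e L246128) L258995
theorem L259005 : sm gb N32877 = N32874 := ded_17_1 (flp_g L258965) (flp_b L246046) (flp_g L223297) L246124 L258995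
theorem L259007 : sm gf N32877 = N31923 := ded_30_4 (flp_c L249665) L227578 (flp_a L227564) L227568 (flp_c L242650) (flp_b L256613) L256603 (flp_f L253695) (flp_c L253689) (flp_b L234069) L224919 L234065 (flp_c L240383) (flp_b L256226) L256216 L254812 L246971 (flp_b L251946) (flp_a L258997)
theorem L259009 : sm gb N31516 = N32878 := rfl
theorem L259011 : sm gd N32878 = N32874 := ded_14_2 (flp_b L259005) L259001 L259009
theorem L259013 : sm ge N32878 = N31519 := ded_15_2 (flp_b L246166) (flp_e L246146) L259009
theorem L259015 : sm gc N32878 = N32853 := ded_13_2 (flp_b L258734) L245739 L232290 (flp_c L246144) L259009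
theorem L259017 : sm gg N32878 = N31517 := ded_17_2 (flp_b L246148) (flp_g L223303) L223299 L246140 L259009
theorem L259019 : sm gf N32856 = N32878 := ded_25_0 L259013 (flp_f L246172) (flp_e L258766)
theorem L259021 : sm gf N31516 = N32879 := rfl
theorem L259023 : sm ga N32879 = N31581 := ded_11_1 (flp_f L246695) (flp_a L246142) L259021
theorem L259025 : sm gc N32879 = N32172 := ded_20_1 L251906 (flp_c L246144) L259021
theorem L259027 : sm gd N32879 = N31923 := ded_23_1 (flp_f L259007) L259001 L259021
theorem L259029 : sm ge N32879 = N31520 := ded_25_1 (flp_f L246174) (flp_e L246146) L259021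
theorem L259031 : sm gg N32879 = N31580 := ded_29_3 (flp_a L246681) L224001 L246140 L259021
theorem L259033 : sm gb N32879 = N32332 := ded_16_1 L253521 (flp_b L258768) L259019 (flp_b L259009) L259021
theorem L259035 : sm ga N31517 = N32880 := rfl
theorem L259037 : sm gd N32880 = N32847 := ded_9_2 L258670 (flp_d L246150) L259035
theorem L259039 : sm ge N32880 = N31521 := ded_10_2 (flp_a L246184) (flp_e L246152) L259035
theorem L259041 : sm gb N32880 = N32124 := ded_7_2 L251381 (flp_b L251393) (flp_a L253433) L258991 (flp_a L258983) (flp_b L246124) (flp_a L223305) L246148 L259035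
theorem L259043 : sm gc N31517 = N32881 := rfl
theorem L259045 : sm ge N32881 = N31522 := ded_19_2 (flp_c L246186) (flp_e L246152) L259043
theorem L259047 : sm gg N32881 = N32853 := ded_21_2 (flp_c L259015) L259017 L259043
theorem L259049 : sm gb N32881 = N31528 := ded_13_1 (flp_c L246228) (flp_b L223323) (flp_c L223307) L246148 L259043
theorem L259051 : sm ga N31519 = N32882 := rfl
theorem L259053 : sm gc N32882 = N32859 := ded_8_2 (flp_a L258796) (flp_c L246168) L259051
theorem L259055 : sm gf N32882 = N32337 := ded_11_2 L253579 L246172 L259051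
theorem L259057 : sm gg N32882 = N31521 := ded_12_2 (flp_a L246184) (flp_g L246170) L259051
theorem L259059 : sm gb N32882 = N32143 := ded_7_2 L251594 (flp_b L245301) L221888 L221912 (flp_a L230304) L246164 L246156 L246166 L259051
theorem L259061 : sm gg N31524 = N32883 := rfl
theorem L259063 : sm ga N32883 = N31526 := ded_12_1 (flp_g L246212) L246196 L259061
theorem L259065 : sm gc N32883 = N32318 := ded_21_1 L253385 (flp_c L246206) L259061
theorem L259067 : sm ge N32883 = N32176 := ded_26_1 L258993 L258989 L259061
theorem L259069 : sm gf N32883 = N32783 := ded_29_2 (flp_g L257986) (flp_a L248493) L248491 L259061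
theorem L259071 : sm gb N32883 = N32180 := ded_17_1 L251988 (flp_b L247207) (flp_g L233457) L246208 L259061
theorem L259073 : sm gf N31526 = N32884 := rfl
theorem L259075 : sm ga N32884 = N32783 := ded_11_1 (flp_f L259069) L259063 L259073
theorem L259077 : sm gc N32884 = N31924 := ded_20_1 (flp_f L258418) L258416 L259073
theorem L259079 : sm gd N32884 = N31793 := ded_23_1 (flp_f L258975) (flp_d L258979) L259073
theorem L259081 : sm ge N32884 = N31923 := ded_25_1 (flp_f L259007) L259003 L259073
theorem L259083 : sm gg N32884 = N31785 := ded_29_3 L248493 L244453 L246212 L259073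
theorem L259085 : sm gb N32884 = N32339 := ded_16_1 (flp_f L253603) (flp_b L255869) (flp_f L255873) (flp_b L246214) L259073
theorem L259087 : sm gb N31532 = N32885 := rfl
theorem L259089 : sm ge N32885 = N31540 := ded_15_2 (flp_b L246338) (flp_e L246272) L259087
theorem L259091 : sm gc N32885 = N32326 := ded_13_2 (flp_b L256122) (flp_c L256110) L238685 (flp_c L246270) L259087
theorem L259093 : sm gc N31536 = N32886 := rfl
theorem L259095 : sm ga N32886 = N31539 := ded_8_1 L246336 (flp_a L246314) L259093
theorem L259097 : sm ge N32886 = N31545 := ded_19_2 (flp_c L246371) (flp_e L246310) L259093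
theorem L259099 : sm gf N32886 = N31538 := ded_20_2 L246326 (flp_f L246312) L259093
theorem L259101 : sm gg N32886 = N32639 := ded_21_2 L256575 L246355 L259093
theorem L259103 : sm gb N32886 = N31537 := ded_13_1 (flp_c L246316) (flp_b L223489) (flp_c L223481) L246306 L259093
theorem L259105 : sm gd N32886 = N32648 := ded_28_7 L256677 L248758 L226557 (flp_c L247737) L247739 L247299 (flp_d L246308) L259093
theorem L259107 : sm gb N31539 = N32887 := rfl
theorem L259109 : sm gd N32887 = N31846 := ded_14_2 L248998 L248760 L259107
theorem L259111 : sm gc N32887 = N32719 := ded_13_2 (flp_b L258246) (flp_c L258252) L245569 (flp_c L246336) L259107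
theorem L259113 : sm gf N32887 = N31540 := ded_16_2 (flp_b L246338) (flp_f L223503) L223499 L246334 L259107
theorem L259115 : sm ga N32887 = N32198 := ded_7_1 (flp_b L252154) L230694 L226864 L198518 L226123 (flp_a L246318) (flp_b L259103) L259095 L259107
theorem L259117 : sm gg N32887 = N31859 := ded_31_3 L249094 (flp_b L248298) (flp_g L226133) L197937 L197989 L226259 (flp_f L240605) (flp_b L240135) (flp_g L213266) L213262 L240129 L240131 L246334 L259107
theorem L259119 : sm gg N31539 = N32888 := rfl
theorem L259121 : sm ga N32888 = N32639 := ded_12_1 (flp_g L259101) L259095 L259119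
theorem L259123 : sm gc N32888 = N31542 := ded_21_1 (flp_g L246347) (flp_c L246336) L259119
theorem L259125 : sm gd N32888 = N31835 := ded_24_1 (flp_g L248900) L248760 L259119
theorem L259127 : sm gf N32640 = N32888 := ded_29_0 (flp_g L259119) (flp_f L246334) (flp_g L240131) L256579
theorem L259129 : sm gb N32888 = N31827 := ded_17_1 (flp_g L249200) L249202 (flp_g L259117) (flp_b L259107) L259119
theorem L259131 : sm gg N31540 = N32889 := rfl
theorem L259133 : sm ga N32889 = N31762 := ded_12_1 (flp_g L249016) L249012 L259131
theorem L259135 : sm gd N32889 = N31878 := ded_24_1 L249266 (flp_d L246340) L259131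
theorem L259137 : sm gf N32626 = N32889 := ded_29_0 (flp_g L259131) (flp_f L259113) L259117 L256458
theorem L259139 : sm gb N32889 = N32866 := ded_17_1 L258878 (flp_b L256653) L240445 L246338 L259131
theorem L259141 : sm gb N31542 = N32890 := rfl
theorem L259143 : sm gd N32890 = N32807 := ded_14_2 (flp_b L258913) L258907 L259141
theorem L259145 : sm gf N32890 = N32890 := ded_16_2 (flp_b L259141) (flp_f L246349) L246346 L246349 L259141
theorem L259146 : sm gg N32890 = N32806 := ded_17_2 L258209 (flp_g L245567) L245569 L246347 L259141
theorem L259148 : sm gg N31545 = N32891 := rfl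
theorem L259150 : sm gc N32891 = N31546 := ded_21_1 (flp_g L246379) L246371 L259148
theorem L259152 : sm gd N32891 = N32557 := ded_24_1 (flp_g L255682) L246377 L259148
theorem L259154 : sm ge N32891 = N32639 := ded_26_1 (flp_g L259101) L259097 L259148
theorem L259156 : sm gf N32497 = N32891 := ded_29_0 (flp_g L259148) L246373 (flp_g L255218) L255216
theorem L259158 : sm gb N32637 = N32891 := ded_31_14 (flp_g L259148) L246373 (flp_b L241010) (flp_g L256919) (flp_f L256909) L240821 (flp_g L245974) L258915 (flp_b L258925) (flp_g L256770) L256758 L256768 (flp_g L256563) L256553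
theorem L259160 : sm gb N31549 = N32892 := rfl
theorem L259162 : sm gd N32892 = N32120 := ded_14_2 (flp_b L255720) L255714 L259160
theorem L259164 : sm ge N32892 = N31733 := ded_15_2 (flp_b L256300) L256294 L259160
theorem L259166 : sm gc N32892 = N32842 := ded_13_2 L258622 L245555 (flp_b L223563) (flp_c L246415) L259160
theorem L259168 : sm gf N32892 = N31731 := ded_16_2 L248039 L252359 L253148 L253146 L259160
theorem L259170 : sm gg N32892 = N32637 := ded_17_2 L259158 (flp_g L259148) L246375 L246413 L259160
theorem L259172 : sm ga N32253 = N32892 := ded_9_3 L259162 (flp_a L256402) L256406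
theorem L259174 : sm ga N31559 = N32893 := rfl
theorem L259176 : sm gc N32893 = N32053 := ded_8_2 L250733 L250677 L259174
theorem L259178 : sm gd N32893 = N31560 := ded_9_2 (flp_a L246515) (flp_d L246509) L259174
theorem L259180 : sm ge N32893 = N31741 := ded_10_2 L248123 (flp_e L246511) L259174
theorem L259182 : sm gg N32893 = N32851 := ded_12_2 (flp_a L258708) (flp_g L246513) L259174
theorem L259184 : sm gf N32893 = N32051 := ded_29_0 L258732 (flp_f L258720) (flp_g L246513) L259174
theorem L259186 : sm gb N32893 = N31737 := ded_7_2 (flp_a L248079) (flp_b L225993) (flp_a L225947) L248001 (flp_a L248007) (flp_b L244241) (flp_a L223707) L246507 L259174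
theorem L259188 : sm gf N31559 = N32894 := rfl
theorem L259190 : sm ga N32894 = N32051 := ded_11_1 (flp_f L259184) (flp_a L259174) L259188
theorem L259192 : sm gc N32894 = N32049 := ded_20_1 L250711 L250677 L259188
theorem L259194 : sm gd N32894 = N31561 := ded_23_1 (flp_f L246523) (flp_d L246509) L259188
theorem L259196 : sm ge N32894 = N32764 := ded_25_1 (flp_f L257812) (flp_e L246511) L259188
theorem L259198 : sm gg N32894 = N32261 := ded_29_3 (flp_a L258722) (flp_f L258720) (flp_g L246513) L259188
theorem L259200 : sm gb N31561 = N32895 := rfl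
theorem L259202 : sm ge N32895 = N31564 := ded_15_2 (flp_b L246545) (flp_e L246527) L259200
theorem L259204 : sm gc N32895 = N31583 := ded_13_2 (flp_b L246703) L224029 (flp_b L230946) (flp_c L246525) L259200
theorem L259206 : sm gf N32895 = N31562 := ded_16_2 (flp_b L246531) (flp_f L223729) L223721 L246523 L259200
theorem L259208 : sm gg N32895 = N31585 := ded_17_2 L246715 L224065 (flp_b L232294) (flp_g L246529) L259200
theorem L259210 : sm ga N31562 = N32896 := rfl
theorem L259212 : sm gc N32896 = N32577 := ded_8_2 L255913 (flp_c L246535) L259210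
theorem L259214 : sm gd N32896 = N32432 := ded_9_2 (flp_a L257005) L256999 L259210
theorem L259216 : sm ge N32896 = N31565 := ded_10_2 (flp_a L246551) (flp_e L246533) L259210
theorem L259218 : sm gb N32896 = N32433 := ded_7_2 (flp_a L258594) (flp_b L258588) L245543 L245545 (flp_a L245549) L228461 (flp_a L223731) L246531 L259210
theorem L259220 : sm gc N31564 = N32897 := rfl
theorem L259222 : sm ge N32897 = N31583 := ded_19_2 (flp_c L259204) L259202 L259220
theorem L259224 : sm gf N32897 = N31566 := ded_20_2 (flp_c L246553) (flp_f L246547) L259220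
theorem L259226 : sm gg N32897 = N31582 := ded_21_2 L246701 (flp_g L246549) L259220
theorem L259228 : sm gb N32897 = N31581 := ded_13_1 L246691 (flp_b L230238) (flp_c L223749) L246545 L259220
theorem L259230 : sm gb N31565 = N32898 := rfl
theorem L259232 : sm gd N32898 = N31750 := ded_14_2 L248197 L247415 L259230
theorem L259234 : sm ge N32898 = N32433 := ded_15_2 (flp_b L259218) L259216 L259230
theorem L259236 : sm gf N32898 = N31743 := ded_16_2 (flp_b L248139) (flp_f L226019) L247375 (flp_f L247381) L259230
theorem L259238 : sm ga N32898 = N32745 := ded_7_1 L257622 L255112 L246543 (flp_a L246537) (flp_b L223739) (flp_a L193677) L223751 L246551 L259230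
theorem L259240 : sm gc N31565 = N32899 := rfl
theorem L259242 : sm ga N32899 = N31566 := ded_8_1 (flp_c L246553) L246551 L259240
theorem L259244 : sm ge N32899 = N32577 := ded_19_2 (flp_c L259212) L259216 L259240
theorem L259246 : sm gg N32899 = N32698 := ded_21_2 (flp_c L258364) L258368 L259240
theorem L259248 : sm gb N32899 = N32576 := ded_30_2 L255897 L245457 L233919 L203987 (flp_a L171468) L171472 L157012 (flp_b L188343) (flp_a L217724) (flp_f L217722) (flp_c L217710) L230964 (flp_a L200904) L200914 (flp_c L223749) L246545 (flp_a L247379) (flp_f L247381) L259240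
theorem L259250 : sm gd N32701 = N32899 := ded_32_1 (flp_c L259240) (flp_d L247415) (flp_c L258288) (flp_b L258282) (flp_d L254848) (flp_c L254838) L236504 L208209 (flp_b L177663) (flp_d L177645) L177643 L158904 (flp_c L177643) L208825 L208827 (flp_c L208209) (flp_d L236504) L254838 L257173 (flp_d L258284) L258288 L247415 L259240 L259248 L255901 L238467 L211284 L180979 (flp_c L181547) L212177 (flp_d L234609) L234607 L204344 (flp_c L233175) L233179 L219602 L190793 L158983 L110196 L158841 (flp_d L190653) L219420 (flp_d L233419) (flp_c L233429) (flp_b L233451) (flp_d L240109) (flp_c L253176) (flp_d L253178) (flp_c L241042) L214912 (flp_e L223439) L223437 L211671 (flp_d L238657) L256074 L256082 L245431 L245461 L245471 (flp_c L229102) (flp_b L229098) (flp_d L210929) L210927 L180693 L153463 L114039 (flp_d L114115) (flp_c L114678) L114680 (flp_c L114736) (flp_b L165716) L196580 (flp_c L220480) (flp_d L244351) (flp_c L244359) L242234 (flp_e L257157)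
theorem L259252 : sm gd N31566 = N32900 := rfl
theorem L259254 : sm ga N32900 = N32701 := ded_9_1 L259250 L259242 L259252
theorem L259256 : sm gb N32900 = N31568 := ded_14_1 (flp_d L246565) (flp_b L246557) L259252
theorem L259258 : sm ge N32900 = N32703 := ded_22_2 (flp_d L258284) L258286 (flp_d L245343) (flp_e L246555) L259252
theorem L259260 : sm gg N32699 = N32900 := ded_12_0 L259254 (flp_g L257155) L257141
theorem L259262 : sm gg N31566 = N32901 := rfl
theorem L259264 : sm ga N32901 = N32698 := ded_12_1 (flp_g L259246) L259242 L259262
theorem L259266 : sm gc N32901 = N31567 := ded_21_1 (flp_g L246559) L246553 L259262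
theorem L259268 : sm gd N32901 = N32699 := ded_24_1 L259260 (flp_d L259252) L259262
theorem L259270 : sm ge N32901 = N32832 := ded_26_1 (flp_g L258498) (flp_e L246555) L259262
theorem L259272 : sm gg N31568 = N32902 := rfl
theorem L259274 : sm ga N32902 = N32831 := ded_12_1 (flp_g L258486) (flp_a L246567) L259272
theorem L259276 : sm gc N32902 = N32435 := ded_21_1 (flp_g L254814) (flp_c L254816) L259272
theorem L259278 : sm gd N32902 = N31569 := ded_24_1 (flp_g L246571) L246565 L259272
theorem L259280 : sm ge N32902 = N32439 := ded_26_1 (flp_g L254846) L254842 L259272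
theorem L259282 : sm gb N31569 = N32903 := rfl
theorem L259284 : sm ge N32903 = N32833 := ded_15_2 (flp_b L258508) (flp_e L246577) L259282
theorem L259286 : sm gc N32903 = N32762 := ded_13_2 (flp_b L257798) L244209 (flp_b L223855) (flp_c L246575) L259282
theorem L259288 : sm ga N32781 = N32903 := ded_10_3 L259284 L258514 (flp_e L257974)
theorem L259290 : sm ga N31579 = N32904 := rfl
theorem L259292 : sm gc N32904 = N31926 := ded_8_2 L249679 L249621 L259290
theorem L259294 : sm gd N32904 = N31580 := ded_9_2 (flp_a L246681) (flp_d L246675) L259290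
theorem L259296 : sm ge N32904 = N31785 := ded_10_2 L248493 (flp_e L246677) L259290
theorem L259298 : sm gf N32904 = N32876 := ded_11_2 (flp_a L258983) (flp_f L246679) L259290
theorem L259300 : sm gg N31923 = N32904 := ded_29_3 (flp_a L259290) L246679 L258995 L259007
theorem L259302 : sm gb N32904 = N31781 := ded_7_2 (flp_a L248449) (flp_b L226279) (flp_a L226219) L248367 (flp_a L248373) (flp_b L244455) (flp_a L223989) L246673 L259290
theorem L259304 : sm gg N31579 = N32905 := rfl
theorem L259306 : sm ga N32905 = N31923 := ded_12_1 L259300 (flp_a L259290) L259304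
theorem L259308 : sm gc N32905 = N31921 := ded_21_1 L249655 L249621 L259304
theorem L259310 : sm gd N32905 = N31581 := ded_24_1 (flp_g L246689) (flp_d L246675) L259304
theorem L259312 : sm ge N32905 = N32783 := ded_26_1 (flp_g L257986) (flp_e L246677) L259304
theorem L259314 : sm gf N32176 = N32905 := ded_29_0 (flp_g L259304) L246679 L258995 L258997
theorem L259316 : sm ga N31582 = N32906 := rfl
theorem L259318 : sm gc N32906 = N32592 := ded_8_2 L256072 (flp_c L246701) L259316
theorem L259320 : sm gd N32906 = N32445 := ded_9_2 (flp_a L257125) L257119 L259316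
theorem L259322 : sm ge N32906 = N31584 := ded_10_2 (flp_a L246709) (flp_e L246699) L259316
theorem L259324 : sm gf N32906 = N32901 := ded_11_2 L259264 L257139 L259316
theorem L259326 : sm gb N32906 = N32446 := ded_7_2 L258458 (flp_b L258450) L245247 L245249 (flp_a L245253) L227546 L224013 L246697 L259316
theorem L259328 : sm gb N31584 = N32907 := rfl
theorem L259330 : sm gd N32907 = N31794 := ded_14_2 L248567 L247523 L259328
theorem L259332 : sm ge N32907 = N32446 := ded_15_2 (flp_b L259326) L259322 L259328
theorem L259334 : sm gg N32907 = N31787 := ded_17_2 (flp_b L248509) L226305 L247479 (flp_g L247485) L259328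
theorem L259336 : sm ga N32907 = N32748 := ded_7_1 L257648 L255122 L246729 (flp_a L246723) (flp_b L224033) L193893 L224031 L246709 L259328
theorem L259338 : sm gc N31584 = N32908 := rfl
theorem L259340 : sm ga N32908 = N31585 := ded_8_1 (flp_c L246711) L246709 L259338
theorem L259342 : sm ge N32908 = N32592 := ded_19_2 (flp_c L259318) L259322 L259338
theorem L259344 : sm gf N32908 = N32684 := ded_20_2 (flp_c L258502) (flp_f L258506) L259338
theorem L259346 : sm gb N32908 = N32591 := ded_30_2 L256056 (flp_f L256050) L256048 (flp_b L253661) (flp_a L253665) (flp_f L253663) (flp_c L253607) L253613 L243521 (flp_f L219674) (flp_c L219436) (flp_b L236913) (flp_a L243959) L257726 L257730 (flp_b L246721) (flp_a L258500) (flp_f L258506) L259338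
theorem L259348 : sm gd N32687 = N32908 := ded_32_1 (flp_c L259338) (flp_d L247523) (flp_c L258147) (flp_b L258141) (flp_d L254933) (flp_c L254923) L236591 L208357 (flp_b L177667) (flp_d L177657) L177655 L158920 (flp_c L177655) L208831 L208833 (flp_c L208357) (flp_d L236591) L254923 (flp_b L257049) (flp_d L258143) L258147 L247523 L259338 L259346 L256060 L238623 L211483 L181079 (flp_c L182027) (flp_b L212143) (flp_d L234755) L234753 L204437 (flp_c L233923) L233927 L219670 L190829 L159027 L150914 L158855 (flp_d L190683) L219452 (flp_d L234175) (flp_c L234185) (flp_b L234211) (flp_d L240597) (flp_c L253545) (flp_d L253547) (flp_c L241074) L215151 (flp_e L223012) L223010 (flp_c L212335) (flp_d L239333) L256278 L256286 L245125 L245145 (flp_d L245155) (flp_c L228125) (flp_b L228123) (flp_d L210845) L210843 L180625 L153026 L114600 (flp_d L114680) L114678 L114115 (flp_c L114169) (flp_b L165086) L196161 (flp_c L220910) (flp_d L244565) (flp_c L244573) L241872 (flp_e L257037)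
theorem L259350 : sm gd N31585 = N32909 := rfl
theorem L259352 : sm ga N32909 = N32687 := ded_9_1 L259348 L259340 L259350
theorem L259354 : sm gb N32909 = N31588 := ded_14_1 (flp_d L246731) (flp_b L246715) L259350
theorem L259356 : sm ge N32909 = N32689 := ded_22_2 (flp_d L258143) L258145 (flp_d L245019) (flp_e L246713) L259350
theorem L259358 : sm gf N32685 = N32909 := ded_11_0 L259352 (flp_f L257035) L257021
theorem L259360 : sm gf N31585 = N32910 := rfl
theorem L259362 : sm ga N32910 = N32684 := ded_11_1 (flp_f L259344) L259340 L259360
theorem L259364 : sm gc N32910 = N31586 := ded_20_1 (flp_f L246717) L246711 L259360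
theorem L259366 : sm gd N32910 = N32685 := ded_23_1 L259358 (flp_d L259350) L259360
theorem L259368 : sm ge N32910 = N32820 := ded_25_1 (flp_f L258360) (flp_e L246713) L259360
theorem L259370 : sm gg N32910 = N32896 := ded_29_3 (flp_a L259210) (flp_f L259206) L259208 L259360
theorem L259372 : sm gf N31588 = N32911 := rfl
theorem L259374 : sm ga N32911 = N32819 := ded_11_1 (flp_f L258348) (flp_a L246733) L259372
theorem L259376 : sm gc N32911 = N32448 := ded_20_1 (flp_f L254780) (flp_c L254784) L259372
theorem L259378 : sm gd N32911 = N31589 := ded_23_1 (flp_f L246737) L246731 L259372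
theorem L259380 : sm ge N32911 = N32452 := ded_25_1 (flp_f L254929) L254927 L259372
theorem L259382 : sm gb N31589 = N32912 := rfl
theorem L259384 : sm ge N32912 = N32821 := ded_15_2 (flp_b L258370) (flp_e L246743) L259382
theorem L259386 : sm gc N32912 = N32781 := ded_13_2 (flp_b L257972) L244423 (flp_b L224071) (flp_c L246741) L259382
theorem L259388 : sm ga N32762 = N32912 := ded_10_3 L259384 L258376 (flp_e L257800)
theorem L259390 : sm gb N31597 = N32913 := rfl
theorem L259392 : sm gd N32913 = N32517 := ded_14_2 (flp_b L255333) (flp_d L246821) L259390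
theorem L259394 : sm gc N32913 = N32467 := ded_13_2 (flp_b L254850) (flp_c L236508) (flp_b L224435) L246817 L259390
theorem L259396 : sm gf N32913 = N32913 := ded_16_2 (flp_b L259390) L253721 L253723 (flp_f L253721) L259390
theorem L259397 : sm gc N31599 = N32914 := rfl
theorem L259399 : sm ga N32914 = N31602 := ded_8_1 (flp_c L246865) (flp_a L246833) L259397
theorem L259401 : sm ge N32914 = N32619 := ded_19_2 L256366 (flp_e L246839) L259397
theorem L259403 : sm gf N32914 = N32263 := ded_20_2 (flp_c L252826) (flp_f L246837) L259397
theorem L259405 : sm gg N32914 = N32911 := ded_21_2 L259376 L254698 L259397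
theorem L259407 : sm gb N32914 = N32264 := ded_13_1 L252832 (flp_b L236541) (flp_c L236547) (flp_b L246835) L259397
theorem L259409 : sm gd N32914 = N32264 := ded_28_7 L252830 L232360 L202603 (flp_c L202647) L202649 (flp_c L224447) L246831 L259397
theorem L259411 : sm gb N31608 = N32915 := rfl
theorem L259413 : sm gd N32915 = N32508 := ded_14_2 (flp_b L255252) (flp_d L246929) L259411
theorem L259415 : sm gc N32915 = N32478 := ded_13_2 (flp_b L254935) (flp_c L236595) (flp_b L224557) L246925 L259411
theorem L259417 : sm gg N32915 = N32915 := ded_17_2 (flp_b L259411) (flp_g L253340) L253342 L253340 L259411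
theorem L259418 : sm gc N31610 = N32916 := rfl
theorem L259420 : sm ga N32916 = N31612 := ded_8_1 (flp_c L246961) (flp_a L246941) L259418
theorem L259422 : sm ge N32916 = N32605 := ded_19_2 L256208 (flp_e L246947) L259418
theorem L259424 : sm gf N32916 = N32902 := ded_20_2 L259276 L254588 L259418
theorem L259426 : sm gg N32916 = N32178 := ded_21_2 (flp_c L251970) (flp_g L246945) L259418
theorem L259428 : sm gb N32916 = N32179 := ded_13_1 L251976 (flp_b L236405) (flp_c L236411) (flp_b L246943) L259418
theorem L259430 : sm gd N32916 = N32179 := ded_28_7 L251974 L230346 L200956 (flp_c L201000) L201002 (flp_c L224569) L246939 L259418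
theorem L259432 : sm gc N31621 = N32917 := rfl
theorem L259434 : sm ga N32917 = N31622 := ded_8_1 (flp_c L247057) L247053 L259432
theorem L259436 : sm ge N32917 = N32887 := ded_19_2 L259111 L257355 L259432
theorem L259438 : sm gf N32917 = N32885 := ded_20_2 L259091 L253469 L259432
theorem L259440 : sm gb N32917 = N32541 := ded_13_1 (flp_c L255520) (flp_b L255514) L258346 L258338 L259432
theorem L259442 : sm gf N31622 = N32918 := rfl
theorem L259444 : sm ga N32918 = N32885 := ded_11_1 (flp_f L259438) L259434 L259442
theorem L259446 : sm gc N32918 = N31623 := ded_20_1 (flp_f L247059) L247057 L259442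
theorem L259448 : sm ge N32918 = N31848 := ded_25_1 (flp_f L252162) L252158 L259442
theorem L259450 : sm gb N32918 = N32295 := ded_16_1 (flp_f L253160) L233051 L252130 (flp_b L252140) L259442
theorem L259452 : sm gg N31623 = N32919 := rfl
theorem L259454 : sm ga N32919 = N32529 := ded_12_1 L255430 L253467 L259452
theorem L259456 : sm gd N32919 = N31625 := ded_24_1 (flp_g L247075) (flp_d L247061) L259452
theorem L259458 : sm ge N32919 = N32304 := ded_26_1 (flp_g L253264) (flp_e L247063) L259452
theorem L259460 : sm gf N32527 = N32919 := ded_29_0 (flp_g L259452) (flp_f L247059) (flp_g L237913) L255414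
theorem L259462 : sm gb N32919 = N32751 := ded_17_1 L257678 L246242 (flp_g L247331) L247333 L259452
theorem L259464 : sm gc N31630 = N32920 := rfl
theorem L259466 : sm ga N32920 = N31631 := ded_8_1 (flp_c L247124) L247120 L259464
theorem L259468 : sm ge N32920 = N32864 := ded_19_2 L258852 L257271 L259464
theorem L259470 : sm gg N32920 = N32862 := ded_21_2 L258832 L253836 L259464
theorem L259472 : sm gb N32920 = N32548 := ded_13_1 (flp_c L255583) (flp_b L255577) L258205 L258197 L259464
theorem L259474 : sm gg N31631 = N32921 := rfl
theorem L259476 : sm ga N32921 = N32862 := ded_12_1 (flp_g L259470) L259466 L259474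
theorem L259478 : sm gc N32921 = N31632 := ded_21_1 (flp_g L247126) L247124 L259474
theorem L259480 : sm ge N32921 = N31806 := ded_26_1 (flp_g L252954) L252950 L259474
theorem L259482 : sm gb N32921 = N32221 := ded_17_1 (flp_g L252377) (flp_b L232622) L252918 (flp_b L252928) L259474
theorem L259484 : sm gf N31632 = N32922 := rfl
theorem L259486 : sm ga N32922 = N32536 := ded_11_1 (flp_f L255482) L253834 L259484
theorem L259488 : sm gd N32922 = N31634 := ded_23_1 (flp_f L247142) (flp_d L247128) L259484
theorem L259490 : sm ge N32922 = N32342 := ded_25_1 (flp_f L253629) (flp_e L247130) L259484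
theorem L259492 : sm gg N32922 = N32534 := ded_29_3 (flp_a L255466) L237955 L247126 L259484
theorem L259494 : sm gb N32922 = N32757 := ded_16_1 L257744 L245831 L247435 L247437 L259484
theorem L259496 : sm gd N31648 = N32923 := rfl
theorem L259498 : sm ga N32923 = N31649 := ded_9_1 (flp_d L247255) (flp_a L247249) L259496
theorem L259500 : sm gb N32923 = N31691 := ded_14_1 (flp_d L247667) (flp_b L247253) L259496
theorem L259502 : sm gf N32923 = N32923 := ded_23_2 (flp_d L259496) L247252 L259496
theorem L259503 : sm gc N31984 = N32923 := ded_28_0 (flp_d L259496) (flp_c L247247) L225223 L225247 (flp_d L228373) L230938 L230742 L250109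
theorem L259505 : sm ge N31649 = N32924 := rfl
theorem L259507 : sm gb N32924 = N32924 := ded_15_1 (flp_e L259505) L247257 L259505
theorem L259508 : sm gc N32924 = N31985 := ded_19_1 (flp_e L250116) L247259 L259505
theorem L259510 : sm gf N32924 = N32924 := ded_25_2 (flp_e L259505) L247258 L259505
theorem L259511 : sm gd N32924 = N32924 := ded_22_1 (flp_e L259505) (flp_d L247255) L225231 L247255 L259505
theorem L259512 : sm gd N31650 = N32925 := rfl
theorem L259514 : sm ga N32925 = N31651 := ded_9_1 (flp_d L247269) (flp_a L247263) L259512
theorem L259516 : sm gb N32925 = N31689 := ded_14_1 (flp_d L247652) (flp_b L247267) L259512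
theorem L259518 : sm gg N32925 = N32925 := ded_24_2 (flp_d L259512) L247266 L259512
theorem L259519 : sm gc N32098 = N32925 := ded_28_0 (flp_d L259512) (flp_c L247261) L225236 L225255 (flp_d L227468) L232695 L232690 L251131
theorem L259521 : sm ge N31651 = N32926 := rfl
theorem L259523 : sm gb N32926 = N32926 := ded_15_1 (flp_e L259521) L247271 L259521
theorem L259524 : sm gc N32926 = N32099 := ded_19_1 (flp_e L251142) L247273 L259521
theorem L259526 : sm gg N32926 = N32926 := ded_26_2 (flp_e L259521) L247272 L259521
theorem L259527 : sm gd N32926 = N32926 := ded_22_1 (flp_e L259521) (flp_d L247269) L225244 L247269 L259521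
theorem L259528 : sm gb N31660 = N32927 := rfl
theorem L259530 : sm ge N32927 = N31662 := ded_15_2 (flp_b L247375) (flp_e L247363) L259528
theorem L259532 : sm gc N32927 = N31673 := ded_13_2 (flp_b L247479) (flp_c L240465) (flp_b L240471) (flp_c L247361) L259528
theorem L259534 : sm gf N32927 = N32896 := ded_16_2 L259218 (flp_f L256260) L256258 (flp_f L248111) L259528
theorem L259536 : sm gg N32927 = N32908 := ded_17_2 L259346 L256062 (flp_b L252498) (flp_g L247365) L259528
theorem L259538 : sm ga N32927 = N32895 := ded_7_1 (flp_b L259200) (flp_a L258744) (flp_b L258754) L253888 (flp_b L247313) L225323 L225349 L247359 L259528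
theorem L259540 : sm gc N31662 = N32928 := rfl
theorem L259542 : sm ga N32928 = N32897 := ded_8_1 (flp_c L259220) (flp_a L247379) L259540
theorem L259544 : sm ge N32928 = N31673 := ded_19_2 (flp_c L259532) L259530 L259540
theorem L259546 : sm gf N32928 = N32899 := ded_20_2 (flp_c L259240) L247381 L259540
theorem L259548 : sm gg N32928 = N32906 := ded_21_2 L259318 L256070 L259540
theorem L259550 : sm gb N32928 = N31671 := ded_13_1 L247465 L239995 L239989 L247375 L259540
theorem L259552 : sm gb N31688 = N32929 := rfl
theorem L259554 : sm ge N32929 = N32929 := ded_15_2 (flp_b L259552) L247647 L259552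
theorem L259555 : sm ga N32929 = N32929 := ded_7_1 (flp_b L259552) L247645 (flp_b L247267) L247263 L225246 (flp_a L247263) L247267 (flp_a L247645) L259552
theorem L259556 : sm gd N32929 = N32072 := ded_32_6 (flp_c L250891) (flp_d L228731) L199768 (flp_b L199166) L199169 L227813 (flp_d L227817) L203181 L171398 L171334 L151544 L182083 L212791 (flp_b L230450) (flp_d L230452) L220232 (flp_d L219646) (flp_c L203367) L170821 L170835 L170843 (flp_c L124233) (flp_d L152906) L152902 (flp_b L152844) (flp_d L182335) (flp_c L213053) (flp_d L218760) L218758 (flp_b L210131) (flp_d L210105) (flp_c L237677) L237679 (flp_c L231418) (flp_b L231412) L231302 (flp_c L231292) L201696 (flp_c L201304) L201308 L201948 L231612 (flp_d L231618) L248089 (flp_b L248962) L248960 L226764 L198442 L167673 (flp_c L167686) L198466 (flp_d L226820) L248990 (flp_d L259109) L259111 (flp_b L258246) (flp_d L258242) (flp_c L244802) (flp_d L221263) (flp_c L192153) (flp_b L159994) (flp_d L159990) (flp_c L160436) L160438 L111017 L111025 L111027 (flp_c L92976) (flp_d L111157) (flp_c L160712) L193181 (flp_e L223038) L225645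 (flp_c L225599) (flp_d L225557) L247643 L259552
theorem L259558 : sm gd N31688 = N32930 := rfl
theorem L259560 : sm ga N32930 = N31689 := ded_9_1 (flp_d L247652) (flp_a L247645) L259558
theorem L259562 : sm gb N32930 = N32072 := ded_14_1 (flp_d L259556) (flp_b L259552) L259558
theorem L259564 : sm gf N32930 = N31689 := ded_23_2 (flp_d L247652) (flp_f L247648) L259558
theorem L259566 : sm gg N32930 = N32923 := ded_24_2 (flp_d L259496) (flp_g L247650) L259558
theorem L259568 : sm gc N32074 = N32930 := ded_28_0 (flp_d L259558) (flp_c L247643) L225557 L225599 (flp_d L225645) L223040 (flp_d L231198) (flp_a L250917)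
theorem L259570 : sm ge N31689 = N32931 := rfl
theorem L259572 : sm gc N32931 = N32216 := ded_19_1 L252333 (flp_c L247656) L259570
theorem L259574 : sm gg N32931 = N32924 := ded_26_2 (flp_e L259505) (flp_g L247654) L259570
theorem L259576 : sm gd N32931 = N32931 := ded_22_1 (flp_e L259570) (flp_d L247652) L225566 L247652 L259570
theorem L259577 : sm gb N31690 = N32932 := rfl
theorem L259579 : sm ge N32932 = N32932 := ded_15_2 (flp_b L259577) L247662 L259577
theorem L259580 : sm gc N32932 = N32929 := ded_13_2 (flp_b L259552) (flp_c L247643) (flp_b L225578) L247658 L259577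
theorem L259582 : sm gf N32932 = N32929 := ded_16_2 (flp_b L259552) L247648 (flp_b L247267) (flp_f L247663) L259577
theorem L259584 : sm gg N32932 = N32929 := ded_17_2 (flp_b L259552) L247650 L247253 (flp_g L247665) L259577
theorem L259586 : sm ga N32932 = N32932 := ded_7_1 (flp_b L259577) L247660 (flp_b L247253) L247249 L225233 (flp_a L247249) L247253 (flp_a L247660) L259577
theorem L259587 : sm gd N32932 = N31953 := ded_32_6 (flp_c L249881) (flp_d L227808) (flp_c L199768) (flp_b L199764) L199771 L228740 (flp_d L228744) L201538 L171047 L170983 (flp_c L144949) L181601 L212211 (flp_b L232466) L232468 L220016 L220022 (flp_c L203867) L171160 L171178 L171186 (flp_c L124634) (flp_d L153335) L153331 (flp_b L153259) (flp_d L182697) (flp_c L213555) (flp_d L218970) L218968 (flp_b L210181) (flp_d L210155) (flp_c L237719) L237721 (flp_c L229262) (flp_b L229256) L229118 (flp_c L229112) L199997 L200023 L200029 L200273 L229474 (flp_d L229480) L248459 (flp_b L248630) L248628 L226369 L198085 L167433 (flp_c L167442) L198101 (flp_d L226409) L248654 (flp_d L258850) L258852 (flp_b L258105) (flp_d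 L258101) (flp_c L244617) (flp_d L221094) (flp_c L192007) (flp_b L159865) (flp_d L159861) (flp_c L160206) L160208 L110849 L110857 L110859 (flp_c L93031) (flp_d L111273) (flp_c L160908) L193485 (flp_e L223473) L225705 (flp_c L225695) (flp_d L225571) L247658 L259577
theorem L259589 : sm gd N31690 = N32933 := rfl
theorem L259591 : sm ga N32933 = N31691 := ded_9_1 (flp_d L247667) (flp_a L247660) L259589
theorem L259593 : sm gb N32933 = N31953 := ded_14_1 (flp_d L259587) (flp_b L259577) L259589
theorem L259595 : sm gf N32933 = N32925 := ded_23_2 (flp_d L259512) (flp_f L247663) L259589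
theorem L259597 : sm gg N32933 = N31691 := ded_24_2 (flp_d L247667) (flp_g L247665) L259589
theorem L259599 : sm gc N31955 = N32933 := ded_28_0 (flp_d L259589) (flp_c L247658) L225571 L225695 (flp_d L225705) L223475 (flp_d L232983) (flp_a L249895)
theorem L259601 : sm ge N31691 = N32934 := rfl
theorem L259603 : sm gc N32934 = N32290 := ded_19_1 L253108 (flp_c L247671) L259601
theorem L259605 : sm gf N32934 = N32926 := ded_25_2 (flp_e L259521) (flp_f L247669) L259601
theorem L259607 : sm gd N32934 = N32934 := ded_22_1 (flp_e L259601) (flp_d L247667) L225582 L247667 L259601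
theorem L259608 : sm gb N31708 = N32935 := rfl
theorem L259610 : sm gd N32935 = N32688 := ded_14_2 (flp_b L257039) (flp_d L247843) L259608
theorem L259612 : sm gg N32935 = N31945 := ded_17_2 (flp_b L249815) L247727 (flp_b L254596) L254598 L259608
theorem L259614 : sm ga N32935 = N32112 := ded_7_1 L251273 L248213 L226051 L225839 (flp_b L225797) L197695 L225781 L247841 L259608
theorem L259616 : sm gc N31946 = N32935 := ded_30_1 (flp_b L259608) (flp_a L247841) L247845 L247847 (flp_b L246665) (flp_a L223965) (flp_f L223963) (flp_c L202138) (flp_b L210671) L210665 L236865 L236869 L211312 L211304 L211314 L211318 L228846 (flp_a L250085) (flp_f L250087)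
theorem L259618 : sm gb N31716 = N32936 := rfl
theorem L259620 : sm ge N32936 = N31717 := ded_15_2 (flp_b L247920) (flp_e L247916) L259618
theorem L259622 : sm gc N32936 = N32922 := ded_13_2 L259494 L257748 L245135 (flp_c L247914) L259618
theorem L259624 : sm gf N32936 = N32921 := ded_16_2 L259482 (flp_f L252385) L245998 L247912 L259618
theorem L259626 : sm gc N31727 = N32937 := rfl
theorem L259628 : sm ga N32937 = N32765 := ded_8_1 (flp_c L257818) L248007 L259626
theorem L259630 : sm ge N32937 = N31728 := ded_19_2 (flp_c L248011) (flp_e L248005) L259626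
theorem L259632 : sm gg N32937 = N32771 := ded_21_2 (flp_c L257870) L248009 L259626
theorem L259634 : sm gd N32937 = N31728 := ded_28_7 L248013 (flp_c L244259) L229788 (flp_c L231882) L231878 L246601 (flp_d L248003) L259626
theorem L259636 : sm gb N31735 = N32938 := rfl
theorem L259638 : sm ge N32938 = N31736 := ded_15_2 (flp_b L248073) (flp_e L248069) L259636
theorem L259640 : sm gf N32938 = N32273 := ded_16_2 (flp_b L252930) (flp_f L248720) L248716 L248071 L259636
theorem L259642 : sm gc N31736 = N32939 := rfl
theorem L259644 : sm gf N32939 = N32276 := ded_20_2 (flp_c L252956) (flp_f L248077) L259642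
theorem L259646 : sm gb N32939 = N31745 := ded_13_1 (flp_c L248155) (flp_b L226021) (flp_c L225987) L248073 L259642
theorem L259648 : sm gc N31740 = N32940 := rfl
theorem L259650 : sm ga N32940 = N32310 := ded_8_1 (flp_c L257792) (flp_a L257796) L259648
theorem L259652 : sm ge N32940 = N31745 := ded_19_2 (flp_c L248155) (flp_e L248115) L259648
theorem L259654 : sm gg N32940 = N32647 := ded_21_2 L256669 (flp_g L256264) L259648
theorem L259656 : sm gd N32940 = N31857 := ded_28_7 L253940 L253936 L249072 (flp_c L235109) (flp_d L239315) (flp_c L256270) L256272 L259648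
theorem L259658 : sm gf N32940 = N32514 := ded_31_1 (flp_b L255303) (flp_g L237501) (flp_f L209839) (flp_b L182661) (flp_g L213461) L240287 (flp_b L240291) (flp_g L217746) L217742 (flp_b L240503) (flp_g L240497) L240491 L256665 (flp_g L259654)
theorem L259660 : sm gf N31740 = N32941 := rfl
theorem L259662 : sm gc N32941 = N32514 := ded_20_1 (flp_f L259658) (flp_c L259648) L259660
theorem L259664 : sm ge N32941 = N31746 := ded_25_1 (flp_f L248157) (flp_e L248115) L259660
theorem L259666 : sm gg N32941 = N32840 := ded_29_3 L258594 (flp_f L256260) (flp_g L256264) L259660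
theorem L259668 : sm gb N32941 = N32515 := ded_16_1 L255313 (flp_b L243025) L226003 L248113 L259660
theorem L259670 : sm gc N31743 = N32942 := rfl
theorem L259672 : sm ga N32942 = N32743 := ded_8_1 (flp_c L257598) (flp_a L248145) L259670
theorem L259674 : sm ge N32942 = N32647 := ded_19_2 L256669 L256262 L259670
theorem L259676 : sm gg N32942 = N31745 := ded_21_2 (flp_c L248155) (flp_g L248143) L259670
theorem L259678 : sm gb N32942 = N32556 := ded_13_1 (flp_c L255670) (flp_b L248137) L248129 L248139 L259670
theorem L259680 : sm gd N32942 = N32917 := ded_28_7 L259434 (flp_c L247057) L224979 L224983 L247065 L247073 (flp_d L248141) L259670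
theorem L259682 : sm gc N31744 = N32943 := rfl
theorem L259684 : sm ga N32943 = N31745 := ded_8_1 (flp_c L248155) L248147 L259682
theorem L259686 : sm ge N32943 = N32310 := ded_19_2 (flp_c L257792) L257790 L259682
theorem L259688 : sm gg N32943 = N32743 := ded_21_2 (flp_c L257598) (flp_g L248151) L259682
theorem L259690 : sm gb N32943 = N32308 := ded_13_1 L253292 L241860 (flp_c L243043) L248153 L259682
theorem L259692 : sm gd N32528 = N32943 := ded_28_1 (flp_c L259682) L248149 L248199 (flp_d L248209) L238123 (flp_d L255416) (flp_a L255414) L255422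
theorem L259694 : sm gf N31744 = N32944 := rfl
theorem L259696 : sm ga N32944 = N31746 := ded_11_1 (flp_f L248157) L248147 L259694
theorem L259698 : sm gd N32944 = N31752 := ded_23_1 (flp_f L248211) (flp_d L248149) L259694
theorem L259700 : sm gg N32944 = N32898 := ded_29_3 L259238 (flp_f L257616) (flp_g L248151) L259694
theorem L259702 : sm gd N31745 = N32945 := rfl
theorem L259704 : sm ga N32945 = N32528 := ded_9_1 L259692 L259684 L259702
theorem L259706 : sm gg N32945 = N32917 := ded_24_2 (flp_d L259680) L259676 L259702
theorem L259708 : sm ge N32945 = N31859 := ded_22_2 (flp_d L249092) (flp_e L249082) (flp_d L259656) L259652 L259702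
theorem L259710 : sm gc N32527 = N32945 := ded_28_0 (flp_d L259702) (flp_c L248155) L226023 L226043 (flp_d L226047) L210921 (flp_d L237911) L255414
theorem L259712 : sm gf N31745 = N32946 := rfl
theorem L259714 : sm gc N32946 = N31746 := ded_20_1 (flp_f L248157) L248155 L259712
theorem L259716 : sm ge N32946 = N32514 := ded_25_1 (flp_f L259658) L259652 L259712
theorem L259718 : sm gb N32946 = N32277 := ded_16_1 (flp_f L252964) (flp_b L252960) (flp_f L259644) L259646 L259712
theorem L259720 : sm gg N31747 = N32947 := rfl
theorem L259722 : sm ga N32947 = N32850 := ded_12_1 L258700 L248173 L259720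
theorem L259724 : sm gc N32947 = N31749 := ded_21_1 (flp_g L248181) L248163 L259720
theorem L259726 : sm gd N32947 = N32857 := ded_24_1 (flp_g L258778) L257814 L259720
theorem L259728 : sm ge N32947 = N32799 := ded_26_1 L258131 (flp_e L248165) L259720
theorem L259730 : sm gf N31749 = N32947 := ded_29_0 (flp_g L259720) (flp_f L248169) L246471 (flp_a L248183)
theorem L259732 : sm gb N32947 = N32584 := ded_17_1 (flp_g L255984) L258141 (flp_g L258153) (flp_b L248167) L259720
theorem L259734 : sm gb N31754 = N32948 := rfl
theorem L259736 : sm gd N32948 = N32702 := ded_14_2 (flp_b L257159) (flp_d L248231) L259734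
theorem L259738 : sm gf N32948 = N32066 := ded_16_2 L250837 (flp_f L247811) (flp_b L254706) L254708 L259734
theorem L259740 : sm ga N32948 = N32005 := ded_7_1 (flp_b L250290) L248583 L226337 L226115 (flp_b L226065) (flp_a L197875) L226069 L248229 L259734
theorem L259742 : sm gc N32004 = N32948 := ded_20_3 L259738 (flp_c L250831) (flp_f L250282)
theorem L259744 : sm gb N31761 = N32949 := rfl
theorem L259746 : sm gd N32949 = N32946 := ded_14_2 L259718 L252968 L259744
theorem L259748 : sm ge N32949 = N31762 := ded_15_2 (flp_b L248298) (flp_e L248294) L259744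
theorem L259750 : sm gc N32949 = N32919 := ded_13_2 L259462 L257680 L245451 (flp_c L248292) L259744
theorem L259752 : sm gg N32949 = N32918 := ded_17_2 L259450 L253168 L246397 L248290 L259744
theorem L259754 : sm gf N32945 = N32949 := ded_31_1 (flp_b L259744) (flp_g L248290) L226131 (flp_b L226253) L248403 (flp_f L251818) (flp_b L251812) L230086 L240119 (flp_b L255156) L255154 (flp_f L255526) (flp_b L259440) (flp_g L259706)
theorem L259756 : sm gc N31771 = N32950 := rfl
theorem L259758 : sm ga N32950 = N32784 := ded_8_1 (flp_c L257992) L248373 L259756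
theorem L259760 : sm ge N32950 = N31772 := ded_19_2 (flp_c L248377) (flp_e L248371) L259756
theorem L259762 : sm gf N32950 = N32776 := ded_20_2 L257930 L248375 L259756
theorem L259764 : sm gd N32950 = N31772 := ded_28_7 L248379 (flp_c L244473) L226243 (flp_c L229776) L229774 L246437 (flp_d L248369) L259756
theorem L259766 : sm gb N31779 = N32951 := rfl
theorem L259768 : sm ge N32951 = N31780 := ded_15_2 (flp_b L248441) (flp_e L248437) L259766
theorem L259770 : sm gg N32951 = N32194 := ded_17_2 (flp_b L252124) (flp_g L249060) L249054 (flp_g L248439) L259766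
theorem L259772 : sm ga N32951 = N32938 := ded_30_3 L259640 L252934 (flp_b L249204) L227068 L237445 L237447 L237453 (flp_a L237463) L216329 L220868 (flp_b L244509) (flp_a L257932) (flp_f L259762) (flp_c L259756) (flp_b L248367) L226219 L226283 (flp_c L248435) L259766
theorem L259774 : sm gc N31780 = N32952 := rfl
theorem L259776 : sm ga N32952 = N32939 := ded_8_1 (flp_c L259642) L248447 L259774
theorem L259778 : sm gg N32952 = N32196 := ded_21_2 (flp_c L252142) (flp_g L248445) L259774
theorem L259780 : sm gb N32952 = N31789 := ded_13_1 (flp_c L248525) (flp_b L226307) (flp_c L226273) L248441 L259774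
theorem L259782 : sm gc N31784 = N32953 := rfl
theorem L259784 : sm ga N32953 = N32348 := ded_8_1 (flp_c L257966) L257970 L259782
theorem L259786 : sm ge N32953 = N31789 := ded_19_2 (flp_c L248525) (flp_e L248485) L259782
theorem L259788 : sm gf N32953 = N32627 := ded_20_2 L256464 L256232 L259782
theorem L259790 : sm gd N32953 = N31815 := ded_28_7 (flp_a L254090) L254086 L248732 (flp_c L234989) (flp_d L239071) L256158 (flp_d L256168) L259782
theorem L259792 : sm gg N32523 = N32953 := ded_31_0 L259788 (flp_b L256460) (flp_g L240013) L240005 L240011 (flp_g L217847) L217843 L239811 (flp_g L239807) L212959 L182299 L210041 L237647 L255386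
theorem L259794 : sm gg N31784 = N32954 := rfl
theorem L259796 : sm gc N32954 = N32523 := ded_21_1 L259792 (flp_c L259782) L259794
theorem L259798 : sm ge N32954 = N31790 := ded_26_1 (flp_g L248527) (flp_e L248485) L259794
theorem L259800 : sm gf N32828 = N32954 := ded_29_0 (flp_g L259794) (flp_f L256232) L256234 L258458
theorem L259802 : sm gb N32954 = N32524 := ded_17_1 L255398 (flp_b L242991) (flp_g L226289) L248483 L259794
theorem L259804 : sm gc N31787 = N32955 := rfl
theorem L259806 : sm ga N32955 = N32746 := ded_8_1 (flp_c L257624) (flp_a L248515) L259804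
theorem L259808 : sm ge N32955 = N32627 := ded_19_2 L256464 L256236 L259804
theorem L259810 : sm gf N32955 = N31789 := ded_20_2 (flp_c L248525) (flp_f L248513) L259804
theorem L259812 : sm gb N32955 = N32561 := ded_13_1 (flp_c L255734) (flp_b L248507) L248499 L248509 L259804
theorem L259814 : sm gd N32955 = N32920 := ded_28_7 L259466 (flp_c L247124) L225087 L225091 L247132 L247140 (flp_d L248511) L259804
theorem L259816 : sm gc N31788 = N32956 := rfl
theorem L259818 : sm ga N32956 = N31789 := ded_8_1 (flp_c L248525) L248517 L259816
theorem L259820 : sm ge N32956 = N32348 := ded_19_2 (flp_c L257966) L257964 L259816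
theorem L259822 : sm gf N32956 = N32746 := ded_20_2 (flp_c L257624) (flp_f L248521) L259816
theorem L259824 : sm gb N32956 = N32347 := ded_13_1 L253667 L242222 (flp_c L243169) L248523 L259816
theorem L259826 : sm gd N32535 = N32956 := ded_28_1 (flp_c L259816) L248519 L248569 (flp_d L248579) L238043 (flp_d L255468) (flp_a L255466) L255474
theorem L259828 : sm gg N31788 = N32957 := rfl
theorem L259830 : sm ga N32957 = N31790 := ded_12_1 (flp_g L248527) L248517 L259828
theorem L259832 : sm gd N32957 = N31796 := ded_24_1 (flp_g L248581) (flp_d L248519) L259828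
theorem L259834 : sm gf N32907 = N32957 := ded_29_0 (flp_g L259828) L248521 L257642 (flp_a L259336)
theorem L259836 : sm gd N31789 = N32958 := rfl
theorem L259838 : sm ga N32958 = N32535 := ded_9_1 L259826 L259818 L259836
theorem L259840 : sm gf N32958 = N32920 := ded_23_2 (flp_d L259814) L259810 L259836
theorem L259842 : sm ge N32958 = N31817 := ded_22_2 (flp_d L248752) (flp_e L248742) (flp_d L259790) L259786 L259836
theorem L259844 : sm gc N32534 = N32958 := ded_28_0 (flp_d L259836) (flp_c L248525) L226309 L226329 (flp_d L226333) L210837 (flp_d L237953) L255466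
theorem L259846 : sm gg N32936 = N32958 := ded_29_3 L259838 L255476 L259474 (flp_f L259624)
theorem L259848 : sm gg N31789 = N32959 := rfl
theorem L259850 : sm gc N32959 = N31790 := ded_21_1 (flp_g L248527) L248525 L259848
theorem L259852 : sm gd N32959 = N32936 := ded_24_1 L259846 (flp_d L259836) L259848
theorem L259854 : sm ge N32959 = N32523 := ded_26_1 L259792 L259786 L259848
theorem L259856 : sm gb N32959 = N32199 := ded_17_1 (flp_g L252164) (flp_b L252146) (flp_g L259778) L259780 L259848
theorem L259858 : sm gf N31791 = N32960 := rfl
theorem L259860 : sm ga N32960 = N32875 := ded_11_1 L258975 L248553 L259858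
theorem L259862 : sm gc N32960 = N31792 := ded_20_1 (flp_f L248541) L248533 L259858
theorem L259864 : sm gd N32960 = N32883 := ded_23_1 L259069 L257988 L259858
theorem L259866 : sm ge N32960 = N32812 := ded_25_1 L258270 (flp_e L248535) L259858
theorem L259868 : sm gg N32960 = N31792 := ded_29_3 L248543 (flp_f L246637) L248539 L259858
theorem L259870 : sm gb N32960 = N32569 := ded_16_1 (flp_f L255825) L258282 (flp_f L258294) (flp_b L248537) L259858
theorem L259872 : sm gb N31798 = N32961 := rfl
theorem L259874 : sm ge N32961 = N32635 := ded_15_2 (flp_b L256533) (flp_e L248601) L259872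
theorem L259876 : sm gc N32961 = N31799 := ded_13_2 (flp_b L248605) (flp_c L226355) (flp_b L226349) L248599 L259872
theorem L259878 : sm gf N32961 = N32952 := ded_16_2 L259780 (flp_f L259810) L259812 L255740 L259872
theorem L259880 : sm ga N32961 = N32276 := ded_7_1 L252960 (flp_a L237437) (flp_b L255267) (flp_a L256589) L256597 (flp_a L253691) (flp_b L255756) L255748 L259872
theorem L259882 : sm gd N31798 = N32962 := rfl
theorem L259884 : sm ga N32962 = N32870 := ded_9_1 L258919 L255748 L259882
theorem L259886 : sm gf N32962 = N32548 := ded_23_2 (flp_d L255744) L255740 L259882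
theorem L259888 : sm gg N32962 = N32501 := ded_24_2 (flp_d L255188) (flp_g L248603) L259882
theorem L259890 : sm ge N32962 = N32865 := ded_22_2 L258866 (flp_e L256501) L256499 (flp_e L248601) L259882
theorem L259892 : sm gc N32549 = N32962 := ded_28_0 (flp_d L259882) (flp_c L248599) (flp_d L226347) (flp_c L198057) (flp_d L198051) L226339 (flp_d L245982) (flp_a L255593)
theorem L259894 : sm ge N31799 = N32963 := rfl
theorem L259896 : sm ga N32963 = N32273 := ded_10_1 L252932 (flp_a L248611) L259894
theorem L259898 : sm gb N32963 = N31800 := ded_15_1 (flp_e L248613) L248605 L259894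
theorem L259900 : sm gc N32963 = N32635 := ded_19_1 (flp_e L259874) L259876 L259894
theorem L259902 : sm gf N32963 = N32951 := ded_25_2 L259768 (flp_f L248609) L259894
theorem L259904 : sm ga N31805 = N32964 := rfl
theorem L259906 : sm gc N32964 = N31809 := ded_8_2 (flp_a L248696) (flp_c L248664) L259904
theorem L259908 : sm gd N32964 = N32594 := ded_9_2 L256088 L248670 L259904
theorem L259910 : sm ge N32964 = N32822 := ded_10_2 L258380 L254138 L259904
theorem L259912 : sm gf N32964 = N31809 := ded_11_2 (flp_a L248696) (flp_f L248666) L259904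
theorem L259914 : sm gg N32964 = N32674 := ded_12_2 (flp_a L256931) (flp_g L248668) L259904
theorem L259916 : sm gb N32964 = N31862 := ded_7_2 L249114 (flp_b L240752) L213939 (flp_b L213859) (flp_a L226944) (flp_b L236282) L236280 L248662 L259904
theorem L259918 : sm gd N31807 = N32965 := rfl
theorem L259920 : sm ga N32965 = N32307 := ded_9_1 (flp_d L253922) (flp_a L253928) L259918
theorem L259922 : sm gb N32965 = N32522 := ded_14_1 L255380 L254142 L259918
theorem L259924 : sm gf N32965 = N32523 := ded_23_2 L255388 (flp_f L248894) L259918
theorem L259926 : sm gg N32965 = N32399 := ded_24_2 L254186 (flp_g L248686) L259918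
theorem L259928 : sm gc N32828 = N32965 := ded_28_0 (flp_d L259918) L248684 L226421 L204772 L207927 L236346 L254680 L258458
theorem L259930 : sm gc N31817 = N32966 := rfl
theorem L259932 : sm ga N32966 = N32150 := ded_8_1 (flp_c L256659) L256663 L259930
theorem L259934 : sm ge N32966 = N32534 := ded_19_2 L259844 L259842 L259930
theorem L259936 : sm gf N32966 = N32712 := ded_20_2 (flp_c L258852) (flp_f L258858) L259930
theorem L259938 : sm gg N32966 = N32342 := ded_21_2 L253631 (flp_g L248754) L259930
theorem L259940 : sm gd N32966 = N32149 := ded_28_7 L251662 (flp_c L229760) L200425 L169005 (flp_d L198177) L226497 L248752 L259930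
theorem L259942 : sm gb N32966 = N32789 := ded_32_25 L258034 (flp_d L248389) L248387 L247877 (flp_c L258022) (flp_b L258496) L258490 L245333 L230352 (flp_c L230362) (flp_b L241582) (flp_d L246915) L246909 (flp_d L249162) L249160 (flp_b L227137) L198730 (flp_c L178828) L178830 (flp_c L179067) L209777 (flp_d L237455) L255279 L255289 (flp_c L241696) (flp_b L232765) L232761 L209775 L179067 (flp_d L178830) L178828 L205135 (flp_d L227139) (flp_c L249160) L249162 (flp_c L246909) L246907 (flp_d L230364) L230362 (flp_d L230352) (flp_c L245333) L245339 (flp_d L258024) L258022 (flp_d L247877) (flp_c L248387) L248393 (flp_d L255468) L259844 (flp_d L259836) (flp_c L248525) (flp_b L226307) (flp_e L226287) (flp_d L244169) (flp_c L246455) L246457 L223645 (flp_b L218924) L243183 (flp_c L243195) L241936 (flp_c L228266) L250576 L250578 L242366 L247940 (flp_c L247934) (flp_b L225873) L197765 L167152 L115864 (flp_c L116137) L167484 (flp_d L198177) L226497 L248752 L259930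
theorem L259944 : sm gb N31820 = N32967 := rfl
theorem L259946 : sm gd N32967 = N32613 := ded_14_2 L256300 (flp_d L248774) L259944
theorem L259948 : sm ge N32967 = N32834 := ded_15_2 L258520 L256430 L259944
theorem L259950 : sm gc N32967 = N31851 := ded_13_2 (flp_b L256683) L256679 L256832 (flp_c L256842) L259944
theorem L259952 : sm gf N32967 = N32662 := ded_16_2 (flp_b L256941) L256939 L248712 L248770 L259944
theorem L259954 : sm gg N32967 = N31851 := ded_17_2 (flp_b L256683) L256844 (flp_b L256832) (flp_g L248776) L259944
theorem L259956 : sm ga N32967 = N31847 := ded_7_1 (flp_b L249000) (flp_a L236141) L236143 L226519 L214156 (flp_a L214246) L240978 (flp_a L248772) L259944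
theorem L259958 : sm gg N31822 = N32968 := rfl
theorem L259960 : sm ga N32968 = N31824 := ded_12_1 (flp_g L248812) L248788 L259958
theorem L259962 : sm gc N32968 = N31839 := ded_21_1 L248931 (flp_c L248794) L259958
theorem L259964 : sm gd N32968 = N32402 := ded_24_1 (flp_g L254216) (flp_d L248790) L259958
theorem L259966 : sm ge N32968 = N31825 := ded_26_1 (flp_g L248824) (flp_e L248792) L259958
theorem L259968 : sm gf N31839 = N32968 := ded_29_0 (flp_g L259958) (flp_f L248804) (flp_g L248810) L248925
theorem L259970 : sm gb N32968 = N32603 := ded_17_1 (flp_g L256184) L254520 (flp_g L254510) (flp_b L248796) L259958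
theorem L259972 : sm ga N31826 = N32969 := rfl
theorem L259974 : sm ge N32969 = N31827 := ded_10_2 (flp_a L248838) (flp_e L248836) L259972
theorem L259976 : sm gc N31826 = N32970 := rfl
theorem L259978 : sm ge N32970 = N31828 := ded_19_2 (flp_c L248842) (flp_e L248836) L259976
theorem L259980 : sm gb N32970 = N32937 := ded_13_1 (flp_c L259626) (flp_b L248001) (flp_c L226633) L248834 L259976
theorem L259982 : sm gd N31828 = N32970 := ded_28_1 (flp_c L259976) L252148 (flp_c L252142) (flp_d L240684) (flp_c L240692) (flp_d L248840) (flp_a L248838) L248842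
theorem L259984 : sm gg N31826 = N32971 := rfl
theorem L259986 : sm gd N32971 = N32952 := ded_24_1 L259778 (flp_d L252148) L259984
theorem L259988 : sm ge N32971 = N31829 := ded_26_1 (flp_g L248846) (flp_e L248836) L259984
theorem L259990 : sm gb N32971 = N32958 := ded_17_1 (flp_g L259846) (flp_b L259618) L247918 L248834 L259984
theorem L259992 : sm gc N31827 = N32972 := rfl
theorem L259994 : sm ga N32972 = N31828 := ded_8_1 (flp_c L248842) L248838 L259992
theorem L259996 : sm gg N31828 = N32973 := rfl
theorem L259998 : sm gc N32973 = N31829 := ded_21_1 (flp_g L248846) L248842 L259996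
theorem L260000 : sm gg N31830 = N32974 := rfl
theorem L260002 : sm gc N32974 = N32951 := ded_21_1 L259770 L252128 L260000
theorem L260004 : sm gd N32974 = N31833 := ded_24_1 (flp_g L248878) (flp_d L248854) L260000
theorem L260006 : sm ge N32974 = N32952 := ded_26_1 L259778 L252144 L260000
theorem L260008 : sm gf N32635 = N32974 := ded_29_0 (flp_g L260000) L248856 (flp_g L249208) (flp_a L256537)
theorem L260010 : sm gb N32974 = N32953 := ded_17_1 (flp_g L259792) (flp_b L255386) L237655 L248852 L260000
theorem L260012 : sm gd N31832 = N32975 := rfl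
theorem L260014 : sm ga N32975 = N32377 := ded_9_1 L253962 (flp_a L248868) L260012
theorem L260016 : sm gb N32975 = N31838 := ded_14_1 (flp_d L248918) (flp_b L248874) L260012
theorem L260018 : sm gf N32975 = N32736 := ded_23_2 (flp_d L257534) (flp_f L248872) L260012
theorem L260020 : sm gg N32975 = N32520 := ded_24_2 L255356 L248876 L260012
theorem L260022 : sm ga N31834 = N32976 := rfl
theorem L260024 : sm gc N32976 = N32440 := ded_8_2 L254622 (flp_c L248890) L260022
theorem L260026 : sm ge N32976 = N31837 := ded_10_2 (flp_a L248910) (flp_e L248888) L260022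
theorem L260028 : sm gf N32976 = N32373 := ded_11_2 (flp_a L253928) L248894 L260022
theorem L260030 : sm gg N32976 = N32389 := ded_12_2 L254090 (flp_g L248892) L260022
theorem L260032 : sm gc N31836 = N32977 := rfl
theorem L260034 : sm ga N32977 = N32196 := ded_8_1 (flp_c L252142) (flp_a L248904) L260032
theorem L260036 : sm gg N32977 = N32939 := ded_21_2 (flp_c L259642) (flp_g L248908) L260032
theorem L260038 : sm gb N32977 = N31842 := ded_13_1 (flp_c L248948) L226747 L226709 (flp_b L248906) L260032
theorem L260040 : sm gd N32977 = N32969 := ded_28_7 (flp_a L259972) L259976 (flp_d L259982) (flp_c L248842) L226639 L226667 L248902 L260032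
theorem L260042 : sm ge N32654 = N32977 := ded_10_0 L260034 L252144 (flp_a L256742)
theorem L260044 : sm ge N31836 = N32978 := rfl
theorem L260046 : sm ga N32978 = N32194 := ded_10_1 L252126 (flp_a L248904) L260044
theorem L260048 : sm gb N32978 = N31840 := ded_15_1 (flp_e L248933) (flp_b L248906) L260044
theorem L260050 : sm gc N32978 = N32654 := ded_19_1 L260042 (flp_c L260032) L260044
theorem L260052 : sm gg N32978 = N32938 := ded_26_2 L259638 (flp_g L248908) L260044
theorem L260054 : sm gd N31842 = N32979 := rfl
theorem L260056 : sm ga N32979 = N32891 := ded_9_1 L259152 L255684 L260054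
theorem L260058 : sm gb N32979 = N32969 := ded_14_1 (flp_d L260040) L260038 L260054
theorem L260060 : sm gf N32979 = N32504 := ded_23_2 (flp_d L255214) (flp_f L248952) L260054
theorem L260062 : sm gg N32979 = N32541 := ded_24_2 (flp_d L255680) L255678 L260054
theorem L260064 : sm ge N32979 = N32888 := ded_22_2 L259125 (flp_e L256732) L256730 (flp_e L248950) L260054
theorem L260066 : sm gc N32542 = N32979 := ded_28_0 (flp_d L260054) (flp_c L248948) (flp_d L226745) (flp_c L198414) (flp_d L198408) L226737 (flp_d L246381) (flp_a L255530)
theorem L260068 : sm gd N31849 = N32980 := rfl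
theorem L260070 : sm ga N32980 = N32345 := ded_9_1 (flp_d L254070) L254078 L260068
theorem L260072 : sm gb N32980 = N32513 := ded_14_1 L255297 L254000 L260068
theorem L260074 : sm gf N32980 = N32385 := ded_23_2 L254044 (flp_f L249024) L260068
theorem L260076 : sm gg N32980 = N32514 := ded_24_2 L255305 L249252 L260068
theorem L260078 : sm gc N32840 = N32980 := ded_28_0 (flp_d L260068) L249022 L226832 L205014 L207642 L236207 L254570 (flp_a L258594)
theorem L260080 : sm gc N31859 = N32981 := rfl
theorem L260082 : sm ga N32981 = N32244 := ded_8_1 (flp_c L256454) (flp_a L256458) L260080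
theorem L260084 : sm ge N32981 = N32527 := ded_19_2 L259710 L259708 L260080
theorem L260086 : sm gf N32981 = N32304 := ded_20_2 L253266 (flp_f L249094) L260080
theorem L260088 : sm gg N32981 = N32719 := ded_21_2 (flp_c L259111) L259117 L260080
theorem L260090 : sm gd N32981 = N32243 := ded_28_7 L252616 (flp_c L231862) L202102 L170010 (flp_d L198542) L226908 L249092 L260080
theorem L260092 : sm gb N32981 = N32772 := ded_32_25 L257884 (flp_d L248021) (flp_c L248253) L248255 (flp_c L257848) (flp_b L258358) L258352 L245009 L232366 (flp_c L232376) (flp_b L241798) (flp_d L246807) L246801 (flp_d L248816) L248814 (flp_b L226698) L198357 (flp_c L178919) L178921 (flp_c L179263) L209979 (flp_d L237601) L255362 L255372 (flp_c L241462) (flp_b L230986) L230982 L209977 L179263 (flp_d L178921) L178919 L204883 (flp_d L226700) (flp_c L248814) L248816 (flp_c L246801) L246799 (flp_d L232378) L232376 (flp_d L232366) (flp_c L245009) L245015 (flp_d L257850) L257848 (flp_d L248255) L248253 L248025 (flp_d L255416) L259710 (flp_d L259702) (flp_c L248155) (flp_b L226021) (flp_e L226001) (flp_d L243925) (flp_c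 L246621) L246623 L223927 (flp_b L218702) L243057 (flp_c L243069) L242300 (flp_c L227324) L249504 L249506 L242020 L248318 (flp_c L248312) (flp_b L226145) L197945 L167290 L115946 (flp_c L116369) L167730 (flp_d L198542) L226908 L249092 L260080
theorem L260094 : sm gf N31864 = N32982 := rfl
theorem L260096 : sm ga N32982 = N31866 := ded_11_1 (flp_f L249158) L249134 L260094
theorem L260098 : sm gc N32982 = N31880 := ded_20_1 L249283 (flp_c L249140) L260094
theorem L260100 : sm gd N32982 = N32404 := ded_23_1 (flp_f L254240) (flp_d L249136) L260094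
theorem L260102 : sm ge N32982 = N31867 := ded_25_1 (flp_f L249170) (flp_e L249138) L260094
theorem L260104 : sm gg N32982 = N31880 := ded_29_3 (flp_a L249277) L249156 L249150 L260094
theorem L260106 : sm gb N32982 = N32608 := ded_16_1 L256242 L254630 (flp_f L254620) (flp_b L249142) L260094
theorem L260108 : sm ga N31868 = N32983 := rfl
theorem L260110 : sm gd N32983 = N32961 := ded_9_2 L259880 (flp_d L252962) L260108
theorem L260112 : sm ge N32983 = N31869 := ded_10_2 (flp_a L249184) (flp_e L249182) L260108
theorem L260114 : sm gf N32983 = N32971 := ded_29_0 (flp_g L259984) (flp_f L256870) L256872 L260108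
theorem L260116 : sm gb N32983 = N32962 := ded_7_2 L259884 (flp_b L258925) L256772 L251810 L251804 (flp_b L248427) (flp_a L227056) L249180 L260108
theorem L260118 : sm gc N31868 = N32984 := rfl
theorem L260120 : sm ge N32984 = N31870 := ded_19_2 (flp_c L249190) (flp_e L249182) L260118
theorem L260122 : sm gb N32984 = N32950 := ded_13_1 (flp_c L259756) (flp_b L248367) (flp_c L227058) L249180 L260118
theorem L260124 : sm gd N31870 = N32984 := ded_28_1 (flp_c L260118) L252962 (flp_c L252956) (flp_d L240920) (flp_c L240928) (flp_d L249186) (flp_a L249184) L249190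
theorem L260126 : sm gf N31868 = N32985 := rfl
theorem L260128 : sm ga N32985 = N32971 := ded_11_1 (flp_f L260114) (flp_a L260108) L260126
theorem L260130 : sm gd N32985 = N32939 := ded_23_1 L259644 (flp_d L252962) L260126
theorem L260132 : sm ge N32985 = N31871 := ded_25_1 (flp_f L249194) (flp_e L249182) L260126
theorem L260134 : sm gg N32985 = N32969 := ded_29_3 (flp_a L259972) (flp_f L256870) L256872 L260126
theorem L260136 : sm gb N32985 = N32945 := ded_16_1 L259754 (flp_b L259744) (flp_f L248296) L249180 L260126
theorem L260138 : sm gc N31869 = N32986 := rfl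
theorem L260140 : sm ga N32986 = N31870 := ded_8_1 (flp_c L249190) L249184 L260138
theorem L260142 : sm gf N32986 = N32973 := ded_20_2 L259998 (flp_f L249188) L260138
theorem L260144 : sm gf N31870 = N32987 := rfl
theorem L260146 : sm ga N32987 = N32973 := ded_11_1 (flp_f L260142) L260140 L260144
theorem L260148 : sm gc N32987 = N31871 := ded_20_1 (flp_f L249194) L249190 L260144
theorem L260150 : sm gg N32987 = N32972 := ded_29_3 L259994 (flp_f L256884) L256886 L260144
theorem L260152 : sm gf N31872 = N32988 := rfl
theorem L260154 : sm ga N32988 = N32974 := ded_11_1 (flp_f L260008) L256537 L260152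
theorem L260156 : sm gc N32988 = N32938 := ded_20_1 L259640 L252934 L260152
theorem L260158 : sm gd N32988 = N31875 := ded_23_1 (flp_f L249232) (flp_d L249206) L260152
theorem L260160 : sm ge N32988 = N32939 := ded_25_1 L259644 L252958 L260152
theorem L260162 : sm gg N32988 = N32654 := ded_29_3 L256742 L248856 (flp_g L249208) L260152
theorem L260164 : sm gb N32988 = N32940 := ded_16_1 L259658 (flp_b L255303) (flp_f L237509) L249204 L260152
theorem L260166 : sm gd N31874 = N32989 := rfl
theorem L260168 : sm ga N32989 = N32392 := ded_9_1 L254112 (flp_a L249222) L260166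
theorem L260170 : sm gb N32989 = N31879 := ded_14_1 (flp_d L249270) (flp_b L249228) L260166
theorem L260172 : sm gf N32989 = N32511 := ded_23_2 L255275 L249230 L260166
theorem L260174 : sm gg N32989 = N32736 := ded_24_2 (flp_d L257534) (flp_g L249226) L260166
theorem L260176 : sm ga N31876 = N32990 := rfl
theorem L260178 : sm gc N32990 = N32427 := ded_8_2 L254512 (flp_c L249248) L260176
theorem L260180 : sm ge N32990 = N31878 := ded_10_2 (flp_a L249260) (flp_e L249246) L260176
theorem L260182 : sm gf N32990 = N32374 := ded_11_2 (flp_a L253940) (flp_f L249250) L260176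
theorem L260184 : sm gg N32990 = N32388 := ded_12_2 L254078 (flp_g L249252) L260176
theorem L260186 : sm gb N32990 = N32976 := ded_7_2 (flp_a L260022) (flp_b L248886) L226657 L248724 L249068 (flp_b L249062) (flp_a L227082) L249244 L260176
theorem L260188 : sm gg N31884 = N32991 := rfl
theorem L260190 : sm ga N32991 = N32873 := ded_12_1 L258959 (flp_a L249317) L260188
theorem L260192 : sm gc N32991 = N32849 := ded_21_1 L258692 L255804 L260188
theorem L260194 : sm gd N32991 = N32882 := ded_24_1 L259057 (flp_d L249313) L260188
theorem L260196 : sm ge N32991 = N32567 := ded_26_1 (flp_g L258692) (flp_e L258694) L260188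
theorem L260198 : sm gf N32365 = N32991 := ded_29_0 (flp_g L260188) L249315 (flp_g L255146) L255148
theorem L260200 : sm gb N32991 = N31904 := ded_17_1 (flp_g L249494) (flp_b L227306) (flp_g L227194) L249311 L260188
theorem L260202 : sm gd N31890 = N32992 := rfl
theorem L260204 : sm ga N32992 = N31891 := ded_9_1 (flp_d L249367) L249361 L260202
theorem L260206 : sm gb N32992 = N32093 := ded_14_1 (flp_d L251091) (flp_b L249363) L260202
theorem L260208 : sm gg N32992 = N31891 := ded_24_2 (flp_d L249367) L249365 L260202
theorem L260210 : sm gf N31890 = N32993 := rfl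
theorem L260212 : sm ga N32993 = N31892 := ded_11_1 (flp_f L249371) L249361 L260210
theorem L260214 : sm gg N32993 = N32993 := ded_29_3 L260212 (flp_f L249371) L249365 L260210
theorem L260215 : sm gc N31891 = N32994 := rfl
theorem L260217 : sm gf N32994 = N32508 := ded_20_2 (flp_c L255762) L255764 L260215
theorem L260219 : sm ge N31891 = N32995 := rfl
theorem L260221 : sm gb N32995 = N31894 := ded_15_1 (flp_e L249384) (flp_b L249369) L260219
theorem L260223 : sm gf N32995 = N32550 := ded_25_2 (flp_e L255760) L255764 L260219
theorem L260225 : sm gc N32992 = N32995 := ded_13_0 L260221 L249388 (flp_b L251259) (flp_c L251265) (flp_b L260206)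
theorem L260227 : sm gg N32995 = N32994 := ded_31_3 L260217 (flp_b L255252) (flp_g L237859) (flp_f L237853) L210493 (flp_g L197605) (flp_f L225603) L225641 L223455 (flp_f L245221) (flp_b L249454) (flp_g L249452) (flp_f L249392) (flp_b L260221)
theorem L260229 : sm ga N32995 = N32994 := ded_30_3 L260217 (flp_c L255762) (flp_b L255758) L238335 L238349 L238353 (flp_b L211388) L211380 (flp_f L208979) (flp_c L211401) L238538 (flp_a L238548) (flp_f L245535) (flp_c L255612) (flp_b L255606) (flp_a L238097) L238109 (flp_c L249388) (flp_b L260221)
theorem L260231 : sm ge N32994 = N32992 := ded_19_0 L260225 (flp_e L260219) L260215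
theorem L260233 : sm gb N31893 = N32996 := rfl
theorem L260235 : sm gd N32996 = N32782 := ded_14_2 L257984 L249378 L260233
theorem L260237 : sm ge N32996 = N32111 := ded_15_2 L251259 L249380 L260233
theorem L260239 : sm gf N32996 = N32116 := ded_16_2 L251307 L229094 L237061 (flp_f L249382) L260233
theorem L260241 : sm gg N31911 = N32997 := rfl
theorem L260243 : sm gc N32997 = N31936 := ded_21_1 (flp_g L249747) (flp_c L249571) L260241
theorem L260245 : sm ge N32997 = N31912 := ded_26_1 (flp_g L249575) L249567 L260241
theorem L260247 : sm gf N32289 = N32997 := ded_29_0 (flp_g L260241) L249573 L251179 (flp_a L253094)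
theorem L260249 : sm gb N32997 = N32997 := ded_17_1 (flp_g L260241) L249569 L227499 (flp_b L249569) L260241
theorem L260250 : sm gc N31913 = N32998 := rfl
theorem L260252 : sm ga N32998 = N32926 := ded_8_1 L259524 L251144 L260250
theorem L260254 : sm ge N32998 = N32925 := ded_19_2 (flp_c L259519) (flp_e L251140) L260250
theorem L260256 : sm gg N32998 = N32998 := ded_21_2 (flp_c L260250) L249586 L260250
theorem L260257 : sm gb N32998 = N32931 := ded_13_1 L259572 (flp_b L252329) (flp_c L252321) (flp_b L252327) L260250
theorem L260259 : sm gd N32998 = N32998 := ded_28_7 L260252 L259524 L251149 (flp_c L229029) L199903 (flp_c L227497) L249584 L260250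
theorem L260260 : sm gf N31913 = N32999 := rfl
theorem L260262 : sm ga N32999 = N32290 := ded_11_1 L253110 L251144 L260260
theorem L260264 : sm gd N32999 = N31914 := ded_23_1 (flp_f L249587) L249584 L260260
theorem L260266 : sm ge N32999 = N31955 := ded_25_1 (flp_f L251135) (flp_e L251140) L260260
theorem L260268 : sm gg N32999 = N32290 := ded_29_3 (flp_a L260262) (flp_f L260260) L249586 L260260
theorem L260270 : sm gb N32999 = N31956 := ded_16_1 L252313 (flp_b L252305) L252317 (flp_b L252327) L260260
theorem L260272 : sm gc N31915 = N33000 := rfl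
theorem L260274 : sm ga N33000 = N32257 := ded_8_1 (flp_c L252768) L249741 L260272
theorem L260276 : sm ge N33000 = N31916 := ded_19_2 (flp_c L249605) (flp_e L249601) L260272
theorem L260278 : sm gf N33000 = N31941 := ded_20_2 (flp_c L249789) (flp_f L249603) L260272
theorem L260280 : sm gb N33000 = N32285 := ded_13_1 L253054 L249597 L249591 L249599 L260272
theorem L260282 : sm gd N33000 = N32254 := ded_28_7 L252738 (flp_c L252754) L252758 L249731 (flp_d L228854) L251055 (flp_d L251065) L260272
theorem L260284 : sm gd N31920 = N33001 := rfl
theorem L260286 : sm ga N33001 = N32793 := ded_9_1 (flp_d L258066) (flp_a L249649) L260284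
theorem L260288 : sm gb N33001 = N31921 := ded_14_1 (flp_d L249651) L249641 L260284
theorem L260290 : sm gg N33001 = N32793 := ded_24_2 (flp_d L258066) (flp_g L249647) L260284
theorem L260292 : sm gf N31920 = N33002 := rfl
theorem L260294 : sm ga N33002 = N32794 := ded_11_1 (flp_f L258070) (flp_a L249649) L260292
theorem L260296 : sm gc N33002 = N32993 := ded_20_1 (flp_f L260210) (flp_c L249645) L260292
theorem L260298 : sm ge N33002 = N32993 := ded_25_1 (flp_f L260210) (flp_e L249643) L260292
theorem L260300 : sm gg N33002 = N33002 := ded_29_3 L260294 (flp_f L258070) (flp_g L249647) L260292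
theorem L260301 : sm gb N33002 = N32813 := ded_16_1 (flp_f L258318) L258320 (flp_f L249657) L249641 L260292
theorem L260303 : sm ge N31921 = N33003 := rfl
theorem L260305 : sm ga N33003 = N31924 := ded_10_1 (flp_e L249667) (flp_a L249653) L260303
theorem L260307 : sm gc N33003 = N32783 := ded_19_1 (flp_e L259312) L259308 L260303
theorem L260309 : sm gg N33003 = N32782 := ded_26_2 L257980 (flp_g L249655) L260303
theorem L260311 : sm gf N32318 = N33003 := ded_11_0 L260305 (flp_f L258418) L258422
theorem L260313 : sm gf N31921 = N33004 := rfl
theorem L260315 : sm ga N33004 = N31925 := ded_11_1 (flp_f L249671) (flp_a L249653) L260313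
theorem L260317 : sm gc N33004 = N32176 := ded_20_1 L259314 L259308 L260313
theorem L260319 : sm gd N33004 = N31922 := ded_23_1 (flp_f L249657) L249651 L260313
theorem L260321 : sm ge N33004 = N32318 := ded_25_1 L260311 (flp_e L260303) L260313
theorem L260323 : sm gg N33004 = N31948 := ded_29_3 L249837 (flp_f L249619) (flp_g L249655) L260313
theorem L260325 : sm gb N33004 = N32317 := ded_31_2 (flp_g L253377) L253369 L253375 (flp_g L242114) L227612 (flp_b L221682) (flp_g L221678) L242022 L242032 (flp_g L227556) (flp_f L227532) (flp_b L249617) (flp_g L249655) L260313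
theorem L260327 : sm gb N31923 = N33005 := rfl
theorem L260329 : sm gd N33005 = N32332 := ded_14_2 (flp_b L259033) L259027 L260327
theorem L260331 : sm ge N33005 = N32339 := ded_15_2 (flp_b L259085) L259081 L260327
theorem L260333 : sm gc N33005 = N31928 := ded_13_2 (flp_b L249695) (flp_c L227594) (flp_b L227578) L249665 L260327
theorem L260335 : sm gg N33005 = N32134 := ded_17_2 (flp_b L251500) (flp_g L248453) (flp_b L259302) (flp_g L259300) L260327
theorem L260337 : sm gf N32575 = N33005 := ded_31_1 (flp_b L260327) L259300 L259298 (flp_b L258991) L253439 (flp_f L247197) (flp_b L247181) L247185 (flp_f L258016) L258018 L245501 L242282 L245453 (flp_g L255891)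
theorem L260339 : sm ga N33005 = N32340 := ded_30_3 (flp_f L253615) (flp_c L253667) (flp_b L259824) L259818 (flp_f L259810) (flp_c L259804) (flp_b L248509) L226301 (flp_f L226295) (flp_c L240477) (flp_b L254306) L254296 (flp_f L254271) L254265 (flp_b L260325) L260315 (flp_f L249671) L249665 L260327
theorem L260341 : sm ge N31929 = N33006 := rfl
theorem L260343 : sm ga N33006 = N31933 := ded_10_1 (flp_e L249729) (flp_a L249707) L260341
theorem L260345 : sm gb N33006 = N32080 := ded_15_1 L250973 (flp_b L249711) L260341
theorem L260347 : sm gc N33006 = N31930 := ded_19_1 (flp_e L249713) L249705 L260341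
theorem L260349 : sm gg N33006 = N33000 := ded_26_2 L260276 (flp_g L249709) L260341
theorem L260351 : sm gf N31930 = N33007 := rfl
theorem L260353 : sm ga N33007 = N31934 := ded_11_1 (flp_f L249733) (flp_a L249715) L260351
theorem L260355 : sm ge N33007 = N31931 := ded_25_1 (flp_f L249719) L249713 L260351
theorem L260357 : sm gg N33007 = N31940 := ded_29_3 (flp_a L249783) (flp_f L249603) (flp_g L249717) L260351
theorem L260359 : sm gb N31931 = N33008 := rfl
theorem L260361 : sm gd N33008 = N31932 := ded_14_2 (flp_b L249727) (flp_d L249723) L260359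
theorem L260363 : sm ga N33008 = N32085 := ded_30_3 L251019 L249985 (flp_b L249793) (flp_a L227698) (flp_f L227520) L249605 L249611 (flp_a L242588) (flp_f L253026) L253024 (flp_b L251828) L251822 (flp_f L230208) L230204 L230206 (flp_a L249707) (flp_f L250250) L250246 L260359
theorem L260365 : sm gf N31937 = N33009 := rfl
theorem L260367 : sm gc N33009 = N31938 := ded_20_1 (flp_f L249765) L249757 L260365
theorem L260369 : sm gd N33009 = N32997 := ded_23_1 (flp_f L260247) L253098 L260365
theorem L260371 : sm ge N33009 = N32040 := ded_25_1 (flp_f L250623) (flp_e L249759) L260365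
theorem L260373 : sm gg N33009 = N32215 := ded_29_3 L252319 (flp_f L250198) (flp_g L249761) L260365
theorem L260375 : sm gb N33009 = N33009 := ded_16_1 (flp_f L260365) L249763 L228406 (flp_b L249763) L260365
theorem L260376 : sm gb N31940 = N33010 := rfl
theorem L260378 : sm ge N33010 = N31942 := ded_15_2 (flp_b L249793) (flp_e L249785) L260376
theorem L260380 : sm gc N31940 = N33011 := rfl
theorem L260382 : sm ga N33011 = N31941 := ded_8_1 (flp_c L249789) L249783 L260380
theorem L260384 : sm ge N33011 = N31943 := ded_19_2 (flp_c L249797) (flp_e L249785) L260380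
theorem L260386 : sm gf N33011 = N32257 := ded_20_2 (flp_c L252768) (flp_f L249787) L260380
theorem L260388 : sm gb N32286 = N33011 := ded_30_10 L260382 (flp_f L260278) (flp_c L260272) (flp_b L249599) (flp_a L229038) (flp_f L229036) L229029 (flp_b L251155) L251153 (flp_f L249781) (flp_c L250228) (flp_b L250232) (flp_a L260382) L260386 (flp_c L252768) L249745 (flp_a L249915) L249971 (flp_c L253060)
theorem L260390 : sm gd N32258 = N33011 := ded_22_5 L260384 L249803 L232244 (flp_d L232226) (flp_e L252772)
theorem L260392 : sm gd N31941 = N33012 := rfl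
theorem L260394 : sm ga N33012 = N32258 := ded_9_1 L260390 L260382 L260392
theorem L260396 : sm gb N33012 = N32740 := ded_14_1 L257568 (flp_b L250232) L260392
theorem L260398 : sm gf N33012 = N32254 := ded_23_2 (flp_d L260282) L260278 L260392
theorem L260400 : sm ge N33012 = N32255 := ded_22_2 L252744 L232206 L230290 (flp_e L249791) L260392
theorem L260402 : sm ga N31942 = N33013 := rfl
theorem L260404 : sm gd N33013 = N31944 := ded_9_2 (flp_a L249807) (flp_d L249795) L260402
theorem L260406 : sm gg N32110 = N33013 := ded_29_3 (flp_a L260402) (flp_f L249991) (flp_g L251029) (flp_f L251253)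
theorem L260408 : sm gg N31942 = N33014 := rfl
theorem L260410 : sm ga N33014 = N32110 := ded_12_1 L260406 (flp_a L260402) L260408
theorem L260412 : sm gc N33014 = N32002 := ded_21_1 L250264 L249985 L260408
theorem L260414 : sm gd N33014 = N31946 := ded_24_1 (flp_g L249817) (flp_d L249795) L260408
theorem L260416 : sm gc N31944 = N33015 := rfl
theorem L260418 : sm ga N33015 = N31945 := ded_8_1 (flp_c L249811) L249807 L260416
theorem L260420 : sm ge N33015 = N32935 := ded_19_2 (flp_c L259616) L249821 L260416
theorem L260422 : sm gf N33015 = N32526 := ded_20_2 L255410 L250019 L260416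
theorem L260424 : sm gg N33015 = N32112 := ded_21_2 (flp_c L251267) L249809 L260416
theorem L260426 : sm gb N33015 = N32753 := ded_13_1 L257696 L259734 (flp_c L259742) L250284 L260416
theorem L260428 : sm ga N31952 = N33016 := rfl
theorem L260430 : sm gc N33016 = N32116 := ded_8_2 (flp_a L253421) L253419 L260428
theorem L260432 : sm gd N33016 = N32318 := ded_9_2 (flp_a L258422) L258412 L260428
theorem L260434 : sm ge N33016 = N32115 := ded_10_2 L251295 L251117 L260428
theorem L260436 : sm gg N33016 = N32321 := ded_12_2 L253421 L251309 L260428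
theorem L260438 : sm gb N33016 = N32315 := ded_7_2 L253359 (flp_b L247695) L247689 (flp_b L227778) L199132 L199148 L227798 L249879 L260428
theorem L260440 : sm ge N31953 = N33017 := rfl
theorem L260442 : sm ga N33017 = N33017 := ded_10_1 (flp_e L260440) L249883 L260440
theorem L260443 : sm gc N33017 = N31954 := ded_19_1 (flp_e L249884) L249881 L260440
theorem L260445 : sm gd N33017 = N33017 := ded_22_1 (flp_e L260440) (flp_d L259587) L259579 L259587 L260440
theorem L260446 : sm gb N31960 = N33018 := rfl
theorem L260448 : sm ge N33018 = N31962 := ded_15_2 (flp_b L249945) (flp_e L249933) L260446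
theorem L260450 : sm gc N33018 = N32057 := ded_13_2 L250769 (flp_c L250027) (flp_b L249961) (flp_c L249931) L260446
theorem L260452 : sm ga N32059 = N33018 := ded_10_3 L260448 (flp_a L249949) L250783
theorem L260454 : sm gf N31961 = N33019 := rfl
theorem L260456 : sm ga N33019 = N32286 := ded_11_1 (flp_f L253058) (flp_a L249937) L260454
theorem L260458 : sm gc N33019 = N31966 := ded_20_1 (flp_f L249973) (flp_c L249939) L260454
theorem L260460 : sm gd N33019 = N32281 := ded_23_1 (flp_f L253008) (flp_d L249941) L260454
theorem L260462 : sm ge N33019 = N31963 := ded_25_1 (flp_f L249951) (flp_e L249943) L260454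
theorem L260464 : sm gg N33019 = N32214 := ded_29_3 (flp_a L252315) (flp_f L249929) L249935 L260454
theorem L260466 : sm gb N31965 = N33020 := rfl
theorem L260468 : sm ge N33020 = N31967 := ded_15_2 (flp_b L249981) (flp_e L249969) L260466
theorem L260470 : sm gc N33020 = N33010 := ded_13_2 (flp_b L260376) L260380 (flp_b L260388) L253060 L260466
theorem L260472 : sm gb N31966 = N33021 := rfl
theorem L260474 : sm ge N33021 = N31968 := ded_15_2 (flp_b L249987) (flp_e L249977) L260472
theorem L260476 : sm gf N33021 = N33010 := ded_16_2 (flp_b L260376) L249787 L249745 L249973 L260472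
theorem L260478 : sm ga N31967 = N33022 := rfl
theorem L260480 : sm gc N33022 = N33013 := ded_8_2 (flp_a L260402) (flp_c L249985) L260478
theorem L260482 : sm gd N33022 = N31970 := ded_9_2 (flp_a L249999) (flp_d L249983) L260478
theorem L260484 : sm gf N33022 = N33008 := ded_11_2 L260363 L251019 L260478
theorem L260486 : sm gb N32092 = N33022 := ded_30_2 (flp_a L260478) (flp_f L251019) L251017 (flp_b L249987) L227889 (flp_f L227885) L227835 L203171 (flp_a L203067) L223821 (flp_c L227478) (flp_b L227476) (flp_a L199922) (flp_f L222232) (flp_c L222218) (flp_b L228866) (flp_a L228874) (flp_f L229056) (flp_c L251085)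
theorem L260488 : sm ga N31968 = N33023 := rfl
theorem L260490 : sm gc N33023 = N33008 := ded_8_2 L260363 L251017 L260488
theorem L260492 : sm gd N33023 = N31972 := ded_9_2 (flp_a L250017) (flp_d L249989) L260488
theorem L260494 : sm gf N33023 = N33013 := ded_11_2 (flp_a L260402) (flp_f L249991) L260488
theorem L260496 : sm gb N33023 = N32058 := ded_7_2 L250777 (flp_b L228886) (flp_a L251083) L260486 (flp_a L260478) (flp_b L249981) (flp_a L227889) L249987 L260488
theorem L260498 : sm ge N31969 = N33024 := rfl
theorem L260500 : sm gb N33024 = N32804 := ded_15_1 L258189 L256008 L260498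
theorem L260502 : sm gc N33024 = N31981 := ded_19_1 (flp_e L250089) (flp_c L249997) L260498
theorem L260504 : sm gf N33024 = N31981 := ded_25_2 (flp_e L250089) (flp_f L249995) L260498
theorem L260506 : sm gg N33024 = N32359 := ded_26_2 L253784 L250314 L260498
theorem L260508 : sm gd N33024 = N32360 := ded_22_1 L253794 L250735 L228503 L249993 L260498
theorem L260510 : sm gc N31970 = N33025 := rfl
theorem L260512 : sm ga N33025 = N31971 := ded_8_1 (flp_c L250001) L249999 L260510
theorem L260514 : sm ge N33025 = N32533 := ded_19_2 L255462 (flp_e L250011) L260510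
theorem L260516 : sm gf N33025 = N32533 := ded_20_2 L255462 (flp_f L250013) L260510
theorem L260518 : sm gg N33025 = N32948 := ded_21_2 (flp_c L259742) L250280 L260510
theorem L260520 : sm gb N33025 = N32815 := ded_13_1 L258300 L255571 L251099 L250015 L260510
theorem L260522 : sm gd N31971 = N33026 := rfl
theorem L260524 : sm gb N33026 = N32489 := ded_14_1 L255064 (flp_b L250007) L260522
theorem L260526 : sm gf N33026 = N32532 := ded_23_2 L255456 (flp_f L250005) L260522
theorem L260528 : sm gg N31973 = N33027 := rfl
theorem L260530 : sm ga N33027 = N31975 := ded_12_1 (flp_g L250041) L250023 L260528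
theorem L260532 : sm gc N33027 = N32001 := ded_21_1 L250258 L250027 L260528
theorem L260534 : sm ge N33027 = N31976 := ded_26_1 (flp_g L250051) (flp_e L250025) L260528
theorem L260536 : sm gf N32001 = N33027 := ded_29_0 (flp_g L260528) (flp_f L250035) (flp_g L250039) L250254
theorem L260538 : sm gb N31976 = N33028 := rfl
theorem L260540 : sm gd N33028 = N31980 := ded_14_2 (flp_b L250079) (flp_d L250057) L260538
theorem L260542 : sm gg N33028 = N33023 := ded_17_2 L260496 (flp_g L250775) L228553 L250051 L260538
theorem L260544 : sm ga N33028 = N32086 := ded_7_1 (flp_b L251023) L228826 L251013 (flp_a L260363) (flp_b L260359) L249721 (flp_b L227935) (flp_a L250053) L260538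
theorem L260546 : sm gf N33014 = N33028 := ded_31_1 (flp_b L260538) (flp_g L250051) (flp_f L227923) L227915 (flp_g L199283) L168243 (flp_b L168239) L168244 (flp_f L168250) (flp_b L199062) L227650 (flp_f L227702) L249793 L260408
theorem L260548 : sm gd N31977 = N33029 := rfl
theorem L260550 : sm ga N33029 = N32023 := ded_9_1 (flp_d L250440) (flp_a L250065) L260548
theorem L260552 : sm gb N33029 = N31978 := ded_14_1 (flp_d L250067) L250061 L260548
theorem L260554 : sm gf N33029 = N32023 := ded_23_2 (flp_d L250440) (flp_f L250063) L260548
theorem L260556 : sm gg N31977 = N33030 := rfl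
theorem L260558 : sm ga N33030 = N32024 := ded_12_1 (flp_g L250444) (flp_a L250065) L260556
theorem L260560 : sm gf N33030 = N33030 := ded_29_0 (flp_g L260556) L250063 L250444 (flp_a L260558)
theorem L260561 : sm ge N31978 = N33031 := rfl
theorem L260563 : sm ga N33031 = N31981 := ded_10_1 (flp_e L250089) (flp_a L250069) L260561
theorem L260565 : sm gc N31980 = N33032 := rfl
theorem L260567 : sm ga N33032 = N32088 := ded_8_1 (flp_c L251037) (flp_a L250085) L260565
theorem L260569 : sm ge N33032 = N32526 := ded_19_2 L255410 (flp_e L250081) L260565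
theorem L260571 : sm gf N33032 = N32935 := ded_20_2 (flp_c L259616) L250087 L260565
theorem L260573 : sm gg N33032 = N32526 := ded_21_2 L255410 (flp_g L250083) L260565
theorem L260575 : sm gb N33032 = N32802 := ded_13_1 L258159 L255508 L250075 L250079 L260565
theorem L260577 : sm gf N31986 = N33033 := rfl
theorem L260579 : sm ga N33033 = N31989 := ded_11_1 (flp_f L250153) (flp_a L250125) L260577
theorem L260581 : sm gc N33033 = N31991 := ded_20_1 L250173 L250133 L260577
theorem L260583 : sm gd N33033 = N31987 := ded_23_1 (flp_f L250135) L250123 L260577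
theorem L260585 : sm ge N33033 = N31993 := ded_25_1 L250187 (flp_e L250131) L260577
theorem L260587 : sm gg N33033 = N32100 := ded_29_3 L251153 (flp_f L249781) (flp_g L250129) L260577
theorem L260589 : sm gb N33033 = N33033 := ded_16_1 (flp_f L260577) L250127 L228074 (flp_b L250127) L260577
theorem L260590 : sm gf N31988 = N33034 := rfl
theorem L260592 : sm ga N33034 = N31991 := ded_11_1 L250173 (flp_a L250147) L260590
theorem L260594 : sm gc N33034 = N31989 := ded_20_1 (flp_f L250153) L250145 L260590
theorem L260596 : sm gd N33034 = N32737 := ded_23_1 (flp_f L257539) L250151 L260590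
theorem L260598 : sm ge N33034 = N31992 := ded_25_1 L250181 (flp_e L250149) L260590
theorem L260600 : sm gg N33034 = N32101 := ded_29_3 L251165 L251207 L251215 L260590
theorem L260602 : sm gb N31989 = N33035 := rfl
theorem L260604 : sm gd N33035 = N31991 := ded_14_2 (flp_b L250169) (flp_d L250155) L260602
theorem L260606 : sm ge N33035 = N32731 := ded_15_2 L257487 L252193 L260602
theorem L260608 : sm gf N33035 = N31996 := ded_16_2 (flp_b L250206) (flp_f L228026) (flp_b L227994) L250153 L260602
theorem L260610 : sm gg N33035 = N32104 := ded_17_2 (flp_b L251187) (flp_g L228985) (flp_b L228953) (flp_g L250157) L260602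
theorem L260612 : sm ga N33035 = N32737 := ded_30_3 (flp_f L257539) (flp_c L250212) (flp_b L250206) (flp_a L231170) (flp_f L231168) L231160 L252305 (flp_a L252315) (flp_f L249929) L227853 L199185 L168210 L168235 (flp_c L199251) L228030 (flp_a L250147) L260590 L260594 L260602
theorem L260614 : sm gc N32737 = N33035 := ded_30_1 (flp_b L260602) (flp_a L260579) (flp_f L260577) (flp_c L250133) (flp_b L228030) (flp_a L201574) (flp_f L201572) L169635 (flp_b L199185) (flp_a L227823) L249907 (flp_c L252311) (flp_b L252305) L231162 L250198 L250200 L250206 (flp_a L250214) L257539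
theorem L260616 : sm gb N31992 = N33036 := rfl
theorem L260618 : sm gd N33036 = N32726 := ded_14_2 L257428 (flp_d L250179) L260616
theorem L260620 : sm gc N33036 = N32739 := ded_13_2 (flp_b L257553) (flp_c L257481) L257487 L252189 L260616
theorem L260622 : sm gf N33036 = N32730 := ded_16_2 (flp_b L257470) L242719 L242598 (flp_f L250181) L260616
theorem L260624 : sm gg N33036 = N32725 := ded_17_2 (flp_b L257415) (flp_g L242727) L242723 (flp_g L250183) L260616
theorem L260626 : sm ga N33036 = N33036 := ded_7_1 (flp_b L260616) (flp_a L250177) (flp_b L228006) (flp_a L227982) L227985 L227982 L228006 L250177 L260616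
theorem L260627 : sm gg N31995 = N33037 := rfl
theorem L260629 : sm ga N33037 = N33009 := ded_12_1 L260373 L252319 L260627
theorem L260631 : sm gc N33037 = N31997 := ded_21_1 (flp_g L250216) (flp_c L250200) L260627
theorem L260633 : sm ge N33037 = N32174 := ded_26_1 L251932 (flp_e L250202) L260627
theorem L260635 : sm gf N32173 = N33037 := ded_29_0 (flp_g L260627) (flp_f L250198) (flp_g L249761) (flp_a L251914)
theorem L260637 : sm gb N33037 = N32284 := ded_17_1 (flp_g L253050) L252261 (flp_g L249927) L250204 L260627
theorem L260639 : sm gb N31997 = N33038 := rfl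
theorem L260641 : sm gd N33038 = N31999 := ded_14_2 (flp_b L250234) (flp_d L250220) L260639
theorem L260643 : sm ge N33038 = N32175 := ded_15_2 (flp_b L251936) (flp_e L250222) L260639
theorem L260645 : sm gc N33038 = N32258 := ded_13_2 L252774 (flp_c L253044) (flp_b L260637) L260631 L260639
theorem L260647 : sm gf N33038 = N32256 := ded_16_2 L252752 (flp_f L251878) L251876 L250224 L260639
theorem L260649 : sm gg N33038 = N33012 := ded_17_2 L260396 L257572 (flp_b L250206) L250216 L260639
theorem L260651 : sm ga N31999 = N33039 := rfl
theorem L260653 : sm gc N33039 = N33007 := ded_8_2 L260353 (flp_c L250238) L260651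
theorem L260655 : sm ge N33039 = N32000 := ded_10_2 (flp_a L250244) (flp_e L250236) L260651
theorem L260657 : sm gf N33039 = N33006 := ded_11_2 L260343 L250242 L260651
theorem L260659 : sm gg N33039 = N33011 := ded_12_2 L260382 (flp_g L250240) L260651
theorem L260661 : sm gb N32001 = N33040 := rfl
theorem L260663 : sm ge N33040 = N32002 := ded_15_2 (flp_b L250260) (flp_e L250256) L260661
theorem L260665 : sm gg N33040 = N33020 := ded_17_2 (flp_b L260466) (flp_g L249967) L249961 (flp_g L250258) L260661
theorem L260667 : sm ga N32002 = N33041 := rfl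
theorem L260669 : sm gc N33041 = N32110 := ded_8_2 (flp_a L260410) L260412 L260667
theorem L260671 : sm gd N33041 = N32004 := ded_9_2 (flp_a L250278) (flp_d L250262) L260667
theorem L260673 : sm gg N33041 = N33022 := ded_12_2 (flp_a L260478) (flp_g L250264) L260667
theorem L260675 : sm gf N33041 = N32064 := ded_29_0 (flp_g L251021) L251019 (flp_g L250264) L260667
theorem L260677 : sm gb N33041 = N33013 := ded_7_2 (flp_a L260402) (flp_b L249793) (flp_a L227698) (flp_b L199096) (flp_a L168246) L199287 L228083 L250260 L260667
theorem L260679 : sm gf N32002 = N33042 := rfl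
theorem L260681 : sm ga N33042 = N32064 := ded_11_1 (flp_f L260675) (flp_a L260667) L260679
theorem L260683 : sm gc N33042 = N33028 := ded_20_1 (flp_f L260546) L260412 L260679
theorem L260685 : sm gd N33042 = N32006 := ded_23_1 (flp_f L250292) (flp_d L250262) L260679
theorem L260687 : sm gg N33042 = N33008 := ded_29_3 L260363 L251019 (flp_g L250264) L260679
theorem L260689 : sm gb N33042 = N33014 := ded_16_1 L260546 (flp_b L260538) (flp_f L250059) L250260 L260679
theorem L260691 : sm ge N32003 = N33043 := rfl
theorem L260693 : sm ga N33043 = N33024 := ded_10_1 (flp_e L260498) (flp_a L250268) L260691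
theorem L260695 : sm gb N33043 = N32025 := ded_15_1 L250455 (flp_b L250270) L260691
theorem L260697 : sm gc N33043 = N33031 := ded_19_1 (flp_e L260561) L250276 L260691
theorem L260699 : sm gf N33043 = N33031 := ded_25_2 (flp_e L260561) (flp_f L250272) L260691
theorem L260701 : sm gg N33043 = N32010 := ded_26_2 (flp_e L250330) (flp_g L250274) L260691
theorem L260703 : sm gd N33043 = N32763 := ded_22_1 L257806 (flp_d L250671) L228437 L250266 L260691
theorem L260705 : sm gd N32005 = N33044 := rfl
theorem L260707 : sm ga N33044 = N32702 := ded_9_1 (flp_d L259736) L259740 L260705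
theorem L260709 : sm gb N33044 = N32957 := ded_14_1 L259832 L250290 L260705
theorem L260711 : sm gg N33044 = N33026 := ded_24_2 (flp_d L260522) (flp_g L250288) L260705
theorem L260713 : sm gf N32005 = N33045 := rfl
theorem L260715 : sm ga N33045 = N32066 := ded_11_1 (flp_f L259738) L259740 L260713
theorem L260717 : sm gc N33045 = N32006 := ded_20_1 (flp_f L250292) L250286 L260713
theorem L260719 : sm ge N33045 = N32948 := ded_25_1 L259738 L250833 L260713
theorem L260721 : sm gg N33045 = N32533 := ded_29_3 (flp_a L255460) (flp_f L250005) (flp_g L250288) L260713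
theorem L260723 : sm gb N33045 = N32759 := ded_16_1 L257768 (flp_b L248567) L248587 L250290 L260713
theorem L260725 : sm ge N32009 = N33046 := rfl
theorem L260727 : sm ga N33046 = N32071 := ded_10_1 L250885 (flp_a L250320) L260725
theorem L260729 : sm gb N33046 = N32353 := ded_15_1 L253732 (flp_b L250326) L260725
theorem L260731 : sm gc N33046 = N32010 := ded_19_1 (flp_e L250330) L250318 L260725
theorem L260733 : sm gf N33046 = N32359 := ded_25_2 L253784 (flp_f L250322) L260725
theorem L260735 : sm gg N33046 = N33031 := ded_26_2 (flp_e L260561) (flp_g L250324) L260725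
theorem L260737 : sm gd N33046 = N32356 := ded_32_1 (flp_c L258774) (flp_d L259726) L259724 L248189 L243865 (flp_c L234199) L204097 L171294 L166484 (flp_d L168278) L199343 L228132 L231466 L231462 L230594 (flp_c L230586) (flp_d L201312) (flp_c L169493) (flp_b L117393) (flp_d L116593) L156836 L144667 L145152 L181971 L181973 (flp_d L152068) (flp_c L105123) (flp_d L105105) L152040 (flp_b L183525) (flp_d L183527) L183697 (flp_d L183701) (flp_c L175703) (flp_b L123636) (flp_d L123630) (flp_c L175641) (flp_d L205048) (flp_c L205038) (flp_b L172293) L121541 L97488 (flp_d L93361) (flp_c L111827) L161673 (flp_d L194287) L194291 L186641 (flp_c L186765) L216039 (flp_e L241263) (flp_d L254948) L254946 (flp_d L259964) L259962 (flp_b L256254) L256250 L239269 (flp_d L239517) L239515 (flp_b L241460) L241454 L218188 (flp_d L220494) L220492 (flp_b L201016) (flp_d L230352) (flp_c L245333) (flp_d L258490) L258488 L246919 (flp_d L238187) (flp_c L210991) (flp_d L210805) L237995 (flp_b L250326) L260725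
theorem L260739 : sm gf N32015 = N33047 := rfl
theorem L260741 : sm ga N33047 = N32845 := ded_11_1 L258650 (flp_a L250388) L260739
theorem L260743 : sm gc N33047 = N32844 := ded_20_1 L258640 L255961 L260739
theorem L260745 : sm gd N33047 = N32859 := ded_23_1 L258798 (flp_d L250384) L260739
theorem L260747 : sm ge N33047 = N32582 := ded_25_1 (flp_f L258640) L258638 L260739
theorem L260749 : sm gg N33047 = N32327 := ded_29_3 (flp_a L255168) L255166 (flp_g L250386) L260739
theorem L260751 : sm gb N33047 = N32035 := ded_16_1 (flp_f L250566) (flp_b L228248) (flp_f L228142) L250382 L260739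
theorem L260753 : sm gc N32023 = N33048 := rfl
theorem L260755 : sm gg N33048 = N32517 := ded_21_2 (flp_c L255919) L255922 L260753
theorem L260757 : sm gb N33048 = N33031 := ded_13_1 (flp_c L260697) L260695 (flp_c L250447) (flp_b L250442) L260753
theorem L260759 : sm ge N33029 = N33048 := ded_15_0 L260757 (flp_e L260561) (flp_b L260552)
theorem L260761 : sm ge N32023 = N33049 := rfl
theorem L260763 : sm ga N33049 = N33048 := ded_10_1 (flp_e L260759) L260550 L260761
theorem L260765 : sm gb N33049 = N32026 := ded_15_1 (flp_e L250468) (flp_b L250442) L260761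
theorem L260767 : sm gc N33049 = N33029 := ded_19_1 L260759 (flp_c L260753) L260761
theorem L260769 : sm gf N33049 = N33048 := ded_25_2 (flp_e L260759) L260554 L260761
theorem L260771 : sm gg N33049 = N32543 := ded_26_2 (flp_e L255917) L255922 L260761
theorem L260773 : sm gc N32041 = N33050 := rfl
theorem L260775 : sm ga N33050 = N32924 := ded_8_1 L259508 (flp_a L250634) L260773
theorem L260777 : sm ge N33050 = N32923 := ded_19_2 (flp_c L259503) (flp_e L250637) L260773
theorem L260779 : sm gf N33050 = N33050 := ded_20_2 (flp_c L260773) L250636 L260773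
theorem L260780 : sm gb N33050 = N32934 := ded_13_1 L259603 (flp_b L253104) (flp_c L253096) (flp_b L253102) L260773
theorem L260782 : sm gd N33050 = N33050 := ded_28_7 L260775 L259508 L250121 (flp_c L228070) (flp_d L199542) (flp_c L228404) L250632 L260773
theorem L260783 : sm gg N32041 = N33051 := rfl
theorem L260785 : sm ga N33051 = N32216 := ded_12_1 L252335 (flp_a L250634) L260783
theorem L260787 : sm gd N33051 = N32042 := ded_24_1 (flp_g L250639) L250632 L260783
theorem L260789 : sm ge N33051 = N32074 := ded_26_1 L250915 (flp_e L250637) L260783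
theorem L260791 : sm gf N32216 = N33051 := ded_29_0 (flp_g L260783) L250636 L260783 L260785
theorem L260793 : sm gb N33051 = N32075 := ded_17_1 L253090 (flp_b L253080) L253092 (flp_b L253102) L260783
theorem L260795 : sm gc N32043 = N33052 := rfl
theorem L260797 : sm ga N33052 = N32169 := ded_8_1 (flp_c L251882) L250789 L260795
theorem L260799 : sm ge N33052 = N32044 := ded_19_2 (flp_c L250659) (flp_e L250655) L260795
theorem L260801 : sm gf N33052 = N33018 := ded_20_2 L260450 L250771 L260795
theorem L260803 : sm gg N33052 = N32063 := ded_21_2 (flp_c L250813) (flp_g L250657) L260795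
theorem L260805 : sm gb N33052 = N32209 := ded_13_1 L252265 (flp_b L250649) L250643 L250651 L260795
theorem L260807 : sm gd N33052 = N32164 := ded_28_7 L251832 (flp_c L251858) L251862 L250785 L228571 L250029 (flp_d L250653) L260795
theorem L260809 : sm gd N32048 = N33053 := rfl
theorem L260811 : sm ga N33053 = N32806 := ded_9_1 (flp_d L258207) (flp_a L250705) L260809
theorem L260813 : sm gb N33053 = N32049 := ded_14_1 (flp_d L250707) L250697 L260809
theorem L260815 : sm gf N33053 = N32806 := ded_23_2 (flp_d L258207) (flp_f L250703) L260809
theorem L260817 : sm gg N32048 = N33054 := rfl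
theorem L260819 : sm ga N33054 = N32807 := ded_12_1 (flp_g L258211) (flp_a L250705) L260817
theorem L260821 : sm gc N33054 = N33030 := ded_21_1 (flp_g L260556) (flp_c L250701) L260817
theorem L260823 : sm ge N33054 = N33030 := ded_26_1 (flp_g L260556) (flp_e L250699) L260817
theorem L260825 : sm gf N33054 = N33054 := ded_29_0 (flp_g L260817) L250703 L258211 (flp_a L260819)
theorem L260826 : sm gb N33054 = N32800 := ded_17_1 L258177 L258179 (flp_g L250713) L250697 L260817
theorem L260828 : sm ge N32049 = N33055 := rfl
theorem L260830 : sm ga N33055 = N32052 := ded_10_1 (flp_e L250725) (flp_a L250709) L260828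
theorem L260832 : sm gc N33055 = N32764 := ded_19_1 (flp_e L259196) L259192 L260828
theorem L260834 : sm gf N33055 = N32763 := ded_25_2 L257806 (flp_f L250711) L260828
theorem L260836 : sm gd N33055 = N33031 := ded_22_1 (flp_e L260561) (flp_d L250067) (flp_e L228489) L250707 L260828
theorem L260838 : sm gg N32356 = N33055 := ded_12_0 L260830 (flp_g L258558) L258560
theorem L260840 : sm gg N32049 = N33056 := rfl
theorem L260842 : sm ga N33056 = N32054 := ded_12_1 (flp_g L250739) (flp_a L250709) L260840
theorem L260844 : sm gc N33056 = N32261 := ded_21_1 (flp_g L259198) L259192 L260840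
theorem L260846 : sm gd N33056 = N32050 := ded_24_1 (flp_g L250713) L250707 L260840
theorem L260848 : sm ge N33056 = N32356 := ded_26_1 L260838 (flp_e L260828) L260840
theorem L260850 : sm gf N32068 = N33056 := ded_29_0 (flp_g L260840) L250711 L250675 (flp_a L250855)
theorem L260852 : sm gb N32354 = N33056 := ded_31_14 (flp_g L260840) L250711 L250673 L228447 L228471 (flp_b L242378) (flp_g L242368) (flp_f L222094) L222096 L228521 (flp_f L242438) (flp_b L253748) (flp_g L253742) L253736
theorem L260854 : sm gb N32051 = N33057 := rfl
theorem L260856 : sm gd N33057 = N32370 := ded_14_2 L258754 L258748 L260854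
theorem L260858 : sm ge N33057 = N32301 := ded_15_2 (flp_b L258794) L258790 L260854
theorem L260860 : sm gc N33057 = N32056 := ded_13_2 (flp_b L250755) (flp_c L228515) (flp_b L228495) L250723 L260854
theorem L260862 : sm gf N33057 = N32232 := ded_16_2 (flp_b L252498) (flp_f L248083) (flp_b L259186) L259184 L260854
theorem L260864 : sm gg N33057 = N32590 := ded_31_3 L256050 (flp_b L245137) (flp_g L241918) L245185 (flp_b L257844) L257842 (flp_f L247219) L247215 L247231 (flp_f L253804) L258716 (flp_g L259182) L259184 L260854
theorem L260866 : sm ga N33057 = N32302 := ded_30_3 (flp_f L253240) L233171 L203487 (flp_a L171435) L171439 L170907 (flp_b L170871) (flp_a L203409) L217414 L242380 (flp_b L244804) (flp_a L258220) L258222 L250434 (flp_b L250673) (flp_a L250733) (flp_f L250731) L250723 L260854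
theorem L260868 : sm gg N32057 = N33058 := rfl
theorem L260870 : sm ga N33058 = N32061 := ded_12_1 (flp_g L250797) (flp_a L250767) L260868
theorem L260872 : sm gd N33058 = N33027 := ded_24_1 (flp_g L260528) (flp_d L250773) L260868
theorem L260874 : sm ge N33058 = N32058 := ded_26_1 (flp_g L250775) L250765 L260868
theorem L260876 : sm gf N32062 = N33058 := ded_29_0 (flp_g L260868) L250771 L250657 L250805
theorem L260878 : sm gb N32062 = N33059 := rfl
theorem L260880 : sm gd N33059 = N33040 := ded_14_2 (flp_b L260661) (flp_d L250807) L260878
theorem L260882 : sm ge N33059 = N32064 := ded_15_2 (flp_b L250817) (flp_e L250809) L260878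
theorem L260884 : sm gc N32062 = N33060 := rfl
theorem L260886 : sm ga N33060 = N32063 := ded_8_1 (flp_c L250813) L250805 L260884
theorem L260888 : sm ge N33060 = N32065 := ded_19_2 (flp_c L250821) (flp_e L250809) L260884
theorem L260890 : sm gg N33060 = N32169 := ded_21_2 (flp_c L251882) (flp_g L250811) L260884
theorem L260892 : sm gb N32211 = N33060 := ded_15_3 L260888 (flp_b L250829) (flp_e L252281)
theorem L260894 : sm gd N32170 = N33060 := ded_22_5 L260888 L250827 L230234 (flp_d L230218) (flp_e L251886)
theorem L260896 : sm gd N32063 = N33061 := rfl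
theorem L260898 : sm ga N33061 = N32170 := ded_9_1 L260894 L260886 L260896
theorem L260900 : sm gb N33061 = N32738 := ded_14_1 L257547 (flp_b L251217) L260896
theorem L260902 : sm gg N33061 = N32164 := ded_24_2 (flp_d L260807) L260803 L260896
theorem L260904 : sm ge N33061 = N32165 := ded_22_2 L251838 (flp_e L232302) L232300 (flp_e L250815) L260896
theorem L260906 : sm ge N32072 = N33062 := rfl
theorem L260908 : sm ga N33062 = N33062 := ded_10_1 (flp_e L260906) L250893 L260906
theorem L260909 : sm gc N33062 = N32073 := ded_19_1 (flp_e L250898) L250891 L260906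
theorem L260911 : sm gf N33062 = N33017 := ded_25_2 (flp_e L260440) (flp_f L250894) L260906
theorem L260913 : sm gg N33062 = N33017 := ded_26_2 (flp_e L260440) (flp_g L250896) L260906
theorem L260915 : sm gd N33062 = N33062 := ded_22_1 (flp_e L260906) (flp_d L259556) L259554 L259556 L260906
theorem L260916 : sm gg N32079 = N33063 := rfl
theorem L260918 : sm ga N33063 = N32211 := ded_12_1 (flp_g L252275) (flp_a L250961) L260916
theorem L260920 : sm gc N33063 = N32082 := ded_21_1 (flp_g L250987) (flp_c L250963) L260916
theorem L260922 : sm gd N33063 = N32206 := ded_24_1 (flp_g L252239) (flp_d L250965) L260916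
theorem L260924 : sm ge N33063 = N32081 := ded_26_1 (flp_g L250975) (flp_e L250967) L260916
theorem L260926 : sm gf N32288 = N33063 := ded_29_0 (flp_g L260916) (flp_f L250959) L250969 L253088
theorem L260928 : sm gb N33063 = N33019 := ded_17_1 L260464 (flp_b L252305) (flp_g L251918) L251920 L260916
theorem L260930 : sm gb N32082 = N33064 := rfl
theorem L260932 : sm gd N33064 = N33020 := ded_14_2 (flp_b L260466) (flp_d L250989) L260930
theorem L260934 : sm ge N33064 = N32085 := ded_15_2 (flp_b L251013) (flp_e L250991) L260930
theorem L260936 : sm gc N33064 = N33021 := ded_13_2 (flp_b L260472) (flp_c L260458) (flp_b L260928) L260920 L260930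
theorem L260938 : sm gf N33064 = N33020 := ded_16_2 (flp_b L260466) (flp_f L249971) (flp_b L250949) L250993 L260930
theorem L260940 : sm gg N33064 = N33059 := ded_17_2 (flp_b L260878) L250811 L250795 L250987 L260930
theorem L260942 : sm gb N32084 = N33065 := rfl
theorem L260944 : sm gd N33065 = N33021 := ded_14_2 (flp_b L260472) (flp_d L251007) L260942
theorem L260946 : sm ge N33065 = N32086 := ded_15_2 (flp_b L251023) (flp_e L251009) L260942
theorem L260948 : sm gc N33065 = N33059 := ded_13_2 (flp_b L260878) L260884 (flp_b L260892) L252277 L260942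
theorem L260950 : sm gg N33065 = N33021 := ded_17_2 (flp_b L260472) L249979 (flp_b L250939) (flp_g L251011) L260942
theorem L260952 : sm ge N32087 = N33066 := rfl
theorem L260954 : sm ga N33066 = N32996 := ded_10_1 L260237 L251257 L260952
theorem L260956 : sm gb N33066 = N32817 := ded_15_1 L258330 L255865 L260952
theorem L260958 : sm gc N33066 = N32095 := ded_19_1 (flp_e L251105) (flp_c L251035) L260952
theorem L260960 : sm gf N33066 = N32321 := ded_25_2 L253417 L251289 L260952
theorem L260962 : sm gg N33066 = N32095 := ded_26_2 (flp_e L251105) (flp_g L251033) L260952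
theorem L260964 : sm gd N33066 = N32322 := ded_22_1 L253427 L249681 (flp_e L228842) L251031 L260952
theorem L260966 : sm gd N32088 = N33067 := rfl
theorem L260968 : sm gb N33067 = N32487 := ded_14_1 L255040 (flp_b L251043) L260966
theorem L260970 : sm gg N33067 = N32525 := ded_24_2 L255404 (flp_g L251041) L260966
theorem L260972 : sm gf N32089 = N33068 := rfl
theorem L260974 : sm ga N33068 = N32091 := ded_11_1 (flp_f L251069) L251045 L260972
theorem L260976 : sm gc N33068 = N32109 := ded_20_1 L251247 L251053 L260972
theorem L260978 : sm gd N33068 = N33007 := ded_23_1 (flp_f L260351) (flp_d L251047) L260972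
theorem L260980 : sm ge N33068 = N32092 := ded_25_1 (flp_f L251081) (flp_e L251049) L260972
theorem L260982 : sm gg N33068 = N32109 := ded_29_3 (flp_a L251241) L251067 L251061 L260972
theorem L260984 : sm ge N32093 = N33069 := rfl
theorem L260986 : sm ga N33069 = N32095 := ded_10_1 (flp_e L251105) (flp_a L251093) L260984
theorem L260988 : sm gb N33069 = N32994 := ded_15_1 L260231 L260206 L260984
theorem L260990 : sm gc N33069 = N32996 := ded_19_1 L260237 (flp_c L251265) L260984
theorem L260992 : sm gf N33069 = N33016 := ded_25_2 L260434 L251297 L260984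
theorem L260994 : sm gg N33069 = N32996 := ded_26_2 L260237 L251263 L260984
theorem L260996 : sm gd N33069 = N33003 := ded_22_1 (flp_e L260303) (flp_d L249651) (flp_e L228892) L251091 L260984
theorem L260998 : sm gf N32103 = N33070 := rfl
theorem L261000 : sm ga N33070 = N32997 := ded_11_1 (flp_f L260247) L253094 L260998
theorem L261002 : sm gc N33070 = N32105 := ded_20_1 (flp_f L251197) (flp_c L251181) L260998
theorem L261004 : sm gd N33070 = N33037 := ded_23_1 (flp_f L260635) (flp_d L251922) L260998
theorem L261006 : sm ge N33070 = N32205 := ded_25_1 (flp_f L252227) (flp_e L251183) L260998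
theorem L261008 : sm gg N33070 = N32260 := ded_29_3 L252790 L249573 L251179 L260998
theorem L261010 : sm gb N33070 = N32210 := ded_16_1 L253040 L253034 (flp_f L250957) L251185 L260998
theorem L261012 : sm gb N32105 = N33071 := rfl
theorem L261014 : sm gd N33071 = N32107 := ded_14_2 (flp_b L251219) (flp_d L251201) L261012
theorem L261016 : sm ge N33071 = N32168 := ded_15_2 L251872 (flp_e L251203) L261012
theorem L261018 : sm gc N33071 = N32170 := ded_13_2 L251888 (flp_c L252271) (flp_b L261010) L261002 L261012
theorem L261020 : sm gf N33071 = N33061 := ded_16_2 L260900 (flp_f L257551) (flp_b L251187) L251197 L261012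
theorem L261022 : sm gg N33071 = N32167 := ded_17_2 L251856 (flp_g L252764) L252762 (flp_g L251205) L261012
theorem L261024 : sm ga N32107 = N33072 := rfl
theorem L261026 : sm gc N33072 = N33058 := ded_8_2 L260870 (flp_c L251223) L261024
theorem L261028 : sm ge N33072 = N32108 := ded_10_2 (flp_a L251229) (flp_e L251221) L261024
theorem L261030 : sm gf N33072 = N33060 := ded_11_2 L260886 (flp_f L251225) L261024
theorem L261032 : sm gg N33072 = N33018 := ded_12_2 (flp_a L260452) L251227 L261024
theorem L261034 : sm gb N33072 = N33039 := ded_7_2 (flp_a L260651) (flp_b L250234) L228036 L249775 (flp_a L250161) L250167 (flp_a L228995) L251219 L261024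
theorem L261036 : sm gb N32109 = N33073 := rfl
theorem L261038 : sm gd N33073 = N33010 := ded_14_2 (flp_b L260376) (flp_d L251243) L261036
theorem L261040 : sm ge N33073 = N32110 := ded_15_2 (flp_b L251249) (flp_e L251245) L261036
theorem L261042 : sm gf N33073 = N33065 := ded_16_2 (flp_b L260942) (flp_f L251003) L250995 (flp_f L251247) L261036
theorem L261044 : sm gd N32112 = N33074 := rfl
theorem L261046 : sm ga N33074 = N32688 := ded_9_1 (flp_d L259610) L259614 L261044
theorem L261048 : sm gb N33074 = N32944 := ded_14_1 L259698 (flp_b L251273) L261044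
theorem L261050 : sm gf N33074 = N33067 := ded_23_2 (flp_d L260966) (flp_f L251271) L261044
theorem L261052 : sm gc N33044 = N33074 := ded_28_0 (flp_d L261044) (flp_c L251267) (flp_d L251251) (flp_c L260669) L260671 L259742 L259736 (flp_a L260707)
theorem L261054 : sm gb N32121 = N33075 := rfl
theorem L261056 : sm ge N33075 = N32615 := ded_15_2 (flp_b L256314) (flp_e L251359) L261054
theorem L261058 : sm gc N33075 = N32123 := ded_13_2 (flp_b L251373) (flp_c L229274) (flp_b L229236) L251355 L261054
theorem L261060 : sm gf N33075 = N32846 := ded_16_2 L258664 L246058 (flp_b L255329) L255325 L261054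
theorem L261062 : sm ga N33075 = N32848 := ded_7_1 (flp_b L258730) L258722 L252802 (flp_a L252818) L252820 L244987 (flp_b L241396) (flp_a L251357) L261054
theorem L261064 : sm gd N32121 = N33076 := rfl
theorem L261066 : sm ga N33076 = N32616 := ded_9_1 (flp_d L256324) (flp_a L251357) L261064
theorem L261068 : sm gf N33076 = N32239 := ded_23_2 L255331 L255325 L261064
theorem L261070 : sm gg N33076 = N32296 := ded_24_2 (flp_d L253178) (flp_g L251361) L261064
theorem L261072 : sm ge N33076 = N32240 := ded_22_2 L252584 L250572 L239429 (flp_e L251359) L261064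
theorem L261074 : sm gc N32638 = N33076 := ded_28_0 (flp_d L261064) (flp_c L251355) (flp_d L229232) (flp_c L200079) (flp_d L200049) L229170 (flp_d L248035) (flp_a L256565)
theorem L261076 : sm gg N32123 = N33077 := rfl
theorem L261078 : sm ge N33077 = N32872 := ded_26_1 (flp_g L258941) (flp_e L251375) L261076
theorem L261080 : sm ge N32129 = N33078 := rfl
theorem L261082 : sm ga N33078 = N32434 := ded_10_1 L254578 L251451 L261080
theorem L261084 : sm gb N33078 = N32130 := ded_15_1 (flp_e L251453) L251441 L261080
theorem L261086 : sm gc N33078 = N32431 := ded_19_1 L254560 (flp_c L251445) L261080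
theorem L261088 : sm gf N33078 = N32611 := ded_25_2 L256274 (flp_f L251447) L261080
theorem L261090 : sm gg N33078 = N32430 := ded_26_2 L254550 (flp_g L251449) L261080
theorem L261092 : sm gd N33078 = N32941 := ded_22_1 L259664 L248159 (flp_e L243943) (flp_d L251443) L261080
theorem L261094 : sm gb N32139 = N33079 := rfl
theorem L261096 : sm gd N33079 = N32928 := ded_14_2 L259550 (flp_d L251560) L261094
theorem L261098 : sm ge N33079 = N32450 := ded_15_2 L254722 (flp_e L251562) L261094
theorem L261100 : sm gf N33079 = N32701 := ded_16_2 (flp_b L257323) (flp_f L257321) (flp_b L251534) L251554 L261094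
theorem L261102 : sm gg N33079 = N32445 := ded_17_2 (flp_b L254676) (flp_g L239239) (flp_b L247545) (flp_g L251564) L261094
theorem L261104 : sm gc N32140 = N33080 := rfl
theorem L261106 : sm ga N33080 = N32681 := ded_8_1 L256989 (flp_a L251576) L261104
theorem L261108 : sm ge N33080 = N32707 := ded_19_2 L257207 (flp_e L251570) L261104
theorem L261110 : sm gf N33080 = N32693 := ded_20_2 (flp_c L257083) (flp_f L251572) L261104
theorem L261112 : sm gg N33080 = N32269 := ded_21_2 (flp_c L252884) (flp_g L251574) L261104
theorem L261114 : sm gd N33080 = N32707 := ded_28_7 L257205 (flp_c L256957) (flp_d L241314) (flp_c L215913) (flp_d L215891) (flp_c L229562) (flp_d L251568) L261104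
theorem L261116 : sm gg N32142 = N33081 := rfl
theorem L261118 : sm ga N33081 = N32599 := ded_12_1 L258482 L258476 L261116
theorem L261120 : sm gc N33081 = N32656 := ded_21_1 L256766 L251816 L261116
theorem L261122 : sm gd N33081 = N32225 := ded_24_1 (flp_g L255246) (flp_d L255250) L261116
theorem L261124 : sm ge N33081 = N32143 := ded_26_1 (flp_g L251592) L251588 L261116
theorem L261126 : sm gf N32334 = N33081 := ded_29_0 (flp_g L261116) (flp_f L258466) L258468 (flp_a L253541)
theorem L261128 : sm gb N32144 = N33082 := rfl
theorem L261130 : sm gd N33082 = N32954 := ded_14_2 L259802 L255400 L261128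
theorem L261132 : sm ge N33082 = N32145 := ded_15_2 (flp_b L251612) (flp_e L251608) L261128
theorem L261134 : sm gc N33082 = N32444 := ded_13_2 L254674 L251772 L230036 (flp_c L251606) L261128
theorem L261136 : sm gf N33082 = N32443 := ded_16_2 (flp_b L258464) L258466 L251590 L251602 L261128
theorem L261138 : sm gg N33082 = N32600 := ded_17_2 L256166 L244173 (flp_b L251427) (flp_g L251610) L261128
theorem L261140 : sm ga N33082 = N32447 := ded_30_3 (flp_f L254684) (flp_c L236346) (flp_b L208329) (flp_a L208363) L208365 (flp_c L236500) L254836 (flp_a L257177) L257181 L254919 L254722 (flp_a L243541) L229606 L229600 L200359 (flp_a L200383) L229646 (flp_c L251606) L261128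
theorem L261142 : sm gb N32149 = N33083 := rfl
theorem L261144 : sm gd N33083 = N32789 := ded_14_2 (flp_b L259942) L259940 L261142
theorem L261146 : sm ge N33083 = N32343 := ded_15_2 (flp_b L253637) (flp_e L251664) L261142
theorem L261148 : sm gc N33083 = N32305 := ded_13_2 (flp_b L253272) L233217 L229758 L251660 L261142
theorem L261150 : sm gf N33083 = N32826 := ded_16_2 L258432 L249629 L244619 (flp_f L251666) L261142
theorem L261152 : sm gg N33083 = N32787 := ded_17_2 L258018 L245501 (flp_b L242284) (flp_g L251668) L261142
theorem L261154 : sm ga N33083 = N32788 := ded_30_3 L258028 L247183 (flp_b L246417) L223587 (flp_f L221584) L221578 L238655 (flp_a L255014) L255018 (flp_c L251538) (flp_b L251534) L229538 L229608 L229610 (flp_b L203961) L216841 (flp_f L229754) L251660 L261142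
theorem L261156 : sm gg N32150 = N33084 := rfl
theorem L261158 : sm ga N33084 = N32342 := ded_12_1 (flp_g L259938) L259932 L261156
theorem L261160 : sm gc N33084 = N32866 := ded_21_1 L258878 L256659 L261156
theorem L261162 : sm gd N33084 = N32151 := ded_24_1 (flp_g L251678) L251670 L261156
theorem L261164 : sm ge N33084 = N32536 := ded_26_1 (flp_g L255478) (flp_e L251676) L261156
theorem L261166 : sm gf N32336 = N33084 := ded_29_0 (flp_g L261156) L251674 (flp_g L247118) (flp_a L253567)
theorem L261168 : sm gb N33084 = N33077 := ded_17_1 (flp_g L261076) (flp_b L251373) (flp_g L237949) (flp_b L251672) L261156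
theorem L261170 : sm gb N32151 = N33085 := rfl
theorem L261172 : sm gd N33085 = N33077 := ded_14_2 (flp_b L261168) L261162 L261170
theorem L261174 : sm ge N33085 = N32337 := ded_15_2 (flp_b L253573) (flp_e L251684) L261170
theorem L261176 : sm gc N33085 = N32855 := ded_13_2 L258762 L252429 L231450 (flp_c L251682) L261170
theorem L261178 : sm gg N33085 = N32755 := ded_17_2 (flp_b L257718) (flp_g L251654) L251656 L251678 L261170
theorem L261180 : sm ga N33085 = N32856 := ded_7_1 L258768 L245819 (flp_b L242224) L217118 L217226 L242278 (flp_b L242284) (flp_a L251680) L261170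
theorem L261182 : sm ge N32163 = N33086 := rfl
theorem L261184 : sm ga N33086 = N32167 := ded_10_1 (flp_e L251854) (flp_a L251822) L261182
theorem L261186 : sm gb N33086 = N32287 := ded_15_1 L253076 (flp_b L251828) L261182
theorem L261188 : sm gc N33086 = N32164 := ded_19_1 (flp_e L251830) L251820 L261182
theorem L261190 : sm gf N33086 = N32164 := ded_25_2 (flp_e L251830) L251826 L261182
theorem L261192 : sm gd N33086 = N33018 := ded_22_1 L260448 (flp_d L251846) L251848 (flp_d L251824) L261182
theorem L261194 : sm gf N32170 = N33087 := rfl
theorem L261196 : sm ga N33087 = N33071 := ded_11_1 L261020 L260898 L261194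
theorem L261198 : sm gc N33087 = N33061 := ded_20_1 (flp_f L261020) L261018 L261194
theorem L261200 : sm gd N33087 = N33072 := ded_23_1 L261030 (flp_d L260894) L261194
theorem L261202 : sm ge N33087 = N32171 := ded_25_1 (flp_f L251890) (flp_e L251886) L261194
theorem L261204 : sm gg N33087 = N33086 := ded_29_3 L261184 L251860 L251884 L261194
theorem L261206 : sm gf N32184 = N33088 := rfl
theorem L261208 : sm ga N33088 = N32678 := ded_11_1 (flp_f L256965) (flp_a L252028) L261206
theorem L261210 : sm gc N33088 = N32185 := ded_20_1 (flp_f L252032) L252026 L261206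
theorem L261212 : sm gd N33088 = N32695 := ded_23_1 (flp_f L257113) L252892 L261206
theorem L261214 : sm ge N33088 = N32695 := ded_25_1 (flp_f L257113) L252888 L261206
theorem L261216 : sm gg N33088 = N32694 := ded_29_3 L257097 L257203 L257209 L261206
theorem L261218 : sm gb N32189 = N33089 := rfl
theorem L261220 : sm gc N33089 = N33089 := ded_13_2 (flp_b L261218) L252086 L230755 (flp_c L252086) L261218
theorem L261221 : sm ga N33089 = N33089 := ded_7_1 (flp_b L261218) L252084 L252098 (flp_a L256893) L256895 L256893 (flp_b L252098) (flp_a L252084) L261218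
theorem L261222 : sm gb N32192 = N33090 := rfl
theorem L261224 : sm gd N33090 = N32194 := ded_14_2 (flp_b L252124) (flp_d L252110) L261222
theorem L261226 : sm ge N33090 = N32377 := ded_15_2 (flp_b L253960) (flp_e L252112) L261222
theorem L261228 : sm gb N32203 = N33091 := rfl
theorem L261230 : sm gd N33091 = N32938 := ded_14_2 (flp_b L259636) (flp_d L252213) L261228
theorem L261232 : sm ge N33091 = N32520 := ded_15_2 (flp_b L255354) (flp_e L252215) L261228
theorem L261234 : sm gc N33091 = N32692 := ded_13_2 (flp_b L257081) (flp_c L241462) (flp_b L230986) (flp_c L252211) L261228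
theorem L261236 : sm gb N32212 = N33092 := rfl
theorem L261238 : sm gd N33092 = N33006 := ded_14_2 L260345 (flp_d L252289) L261236
theorem L261240 : sm ge N33092 = N32213 := ded_15_2 (flp_b L252295) (flp_e L252291) L261236
theorem L261242 : sm gc N33092 = N32254 := ded_13_2 L257456 L257448 (flp_b L253034) (flp_c L253038) L261236
theorem L261244 : sm gg N33092 = N32254 := ded_17_2 L257456 L257454 L253034 (flp_g L252293) L261236
theorem L261246 : sm ga N33092 = N32256 := ded_7_1 L252752 L260452 (flp_b L260446) L252315 (flp_b L252305) L231162 L250192 (flp_a L252287) L261236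
theorem L261248 : sm gb N32225 = N33093 := rfl
theorem L261250 : sm ge N33093 = N32597 := ded_15_2 (flp_b L256124) (flp_e L252421) L261248
theorem L261252 : sm gc N33093 = N32229 := ded_13_2 (flp_b L252465) (flp_c L231520) (flp_b L231430) L252417 L261248
theorem L261254 : sm gf N33093 = N33077 := ded_16_2 (flp_b L261168) (flp_f L261166) L253569 (flp_f L252423) L261248
theorem L261256 : sm gg N33093 = N32847 := ded_17_2 L258674 L245645 (flp_b L255248) L255246 L261248
theorem L261258 : sm ga N33093 = N32874 := ded_7_1 (flp_b L259005) L258997 L251946 (flp_a L251962) L251964 L245311 (flp_b L241630) (flp_a L252419) L261248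
theorem L261260 : sm gf N32229 = N33094 := rfl
theorem L261262 : sm gc N33094 = N33077 := ded_20_1 (flp_f L261254) L261252 L261260
theorem L261264 : sm ge N33094 = N32843 := ded_25_1 (flp_f L258624) (flp_e L252467) L261260
theorem L261266 : sm gg N33094 = N33075 := ded_29_3 L261062 (flp_f L258678) (flp_g L252469) L261260
theorem L261268 : sm gb N32237 = N33095 := rfl
theorem L261270 : sm gd N33095 = N32927 := ded_14_2 (flp_b L259528) (flp_d L252558) L261268
theorem L261272 : sm ge N33095 = N32437 := ded_15_2 L254612 (flp_e L252560) L261268
theorem L261274 : sm gf N33095 = N32432 := ded_16_2 (flp_b L254566) (flp_f L239303) (flp_b L247604) L252562 L261268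
theorem L261276 : sm gg N33095 = N32687 := ded_17_2 (flp_b L257225) L257223 (flp_b L252532) L252552 L261268
theorem L261278 : sm gb N32243 = N33096 := rfl
theorem L261280 : sm gd N33096 = N32772 := ded_14_2 (flp_b L260092) L260090 L261278
theorem L261282 : sm ge N33096 = N32305 := ded_15_2 (flp_b L253272) (flp_e L252618) L261278
theorem L261284 : sm gc N33096 = N32343 := ded_13_2 (flp_b L253637) L233955 (flp_b L231860) L252614 L261278
theorem L261286 : sm gf N33096 = N32768 := ded_16_2 L257844 (flp_f L245185) (flp_b L241920) (flp_f L252620) L261278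
theorem L261288 : sm gg N33096 = N32838 := ded_17_2 L258570 (flp_g L250685) L244804 (flp_g L252622) L261278
theorem L261290 : sm ga N33096 = N32769 := ded_30_3 (flp_f L257846) L244285 (flp_b L225159) (flp_a L225139) L225141 (flp_c L203117) (flp_b L203099) (flp_a L210321) L237817 (flp_c L244025) (flp_b L251427) L251419 (flp_f L251385) L251383 (flp_b L231874) L231866 (flp_f L231858) L252614 L261278
theorem L261292 : sm gf N32244 = N33097 := rfl
theorem L261294 : sm ga N33097 = N32304 := ded_11_1 (flp_f L260086) L260082 L261292
theorem L261296 : sm gc N33097 = N32889 := ded_20_1 (flp_f L259137) L256454 L261292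
theorem L261298 : sm gd N33097 = N32245 := ded_23_1 (flp_f L252632) L252624 L261292
theorem L261300 : sm ge N33097 = N32529 := ded_25_1 (flp_f L255426) (flp_e L252630) L261292
theorem L261302 : sm gg N33097 = N32298 := ded_29_3 L253202 L247051 (flp_g L252628) L261292
theorem L261304 : sm gb N33097 = N33094 := ded_16_1 (flp_f L261260) (flp_b L252465) L237907 (flp_b L252626) L261292
theorem L261306 : sm gb N32245 = N33098 := rfl
theorem L261308 : sm gd N33098 = N33094 := ded_14_2 (flp_b L261304) L261298 L261306
theorem L261310 : sm ge N33098 = N32300 := ded_15_2 (flp_b L253222) (flp_e L252638) L261306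
theorem L261312 : sm gc N33098 = N32880 := ded_13_2 L259041 L251383 (flp_b L231874) (flp_c L252636) L261306
theorem L261314 : sm gf N33098 = N32750 := ded_16_2 (flp_b L257662) (flp_f L252606) L252610 L252632 L261306
theorem L261316 : sm ga N33098 = N32881 := ded_7_1 L259049 L246230 (flp_b L241862) L216545 L216653 L241914 (flp_b L241920) (flp_a L252634) L261306
theorem L261318 : sm gg N32258 = N33099 := rfl
theorem L261320 : sm ga N33099 = N33038 := ded_12_1 L260649 L260394 L261318
theorem L261322 : sm gc N33099 = N33012 := ded_21_1 (flp_g L260649) L260645 L261318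
theorem L261324 : sm gd N33099 = N33039 := ded_24_1 L260659 (flp_d L260390) L261318
theorem L261326 : sm ge N33099 = N32259 := ded_26_1 (flp_g L252776) (flp_e L252772) L261318
theorem L261328 : sm gf N33092 = N33099 := ded_29_0 (flp_g L261318) (flp_f L252770) (flp_g L252756) (flp_a L261246)
theorem L261330 : sm gb N33099 = N33087 := ded_17_1 L261204 L261186 (flp_g L253068) (flp_b L252774) L261318
theorem L261332 : sm gb N32271 = N33100 := rfl
theorem L261334 : sm gd N33100 = N32273 := ded_14_2 (flp_b L252930) (flp_d L252912) L261332
theorem L261336 : sm ge N33100 = N32392 := ded_15_2 (flp_b L254110) (flp_e L252914) L261332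
theorem L261338 : sm gf N33100 = N33091 := ded_16_2 (flp_b L261228) (flp_f L252207) L252197 (flp_f L252916) L261332
theorem L261340 : sm gb N32279 = N33101 := rfl
theorem L261342 : sm gd N33101 = N32951 := ded_14_2 (flp_b L259766) (flp_d L252992) L261340
theorem L261344 : sm ge N33101 = N32511 := ded_15_2 (flp_b L255273) (flp_e L252994) L261340
theorem L261346 : sm gc N33101 = N32706 := ded_13_2 (flp_b L257199) (flp_c L241696) (flp_b L232765) (flp_c L252990) L261340
theorem L261348 : sm gg N33101 = N33090 := ded_17_2 (flp_b L261222) L252984 (flp_b L252974) L252986 L261340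
theorem L261350 : sm ga N33091 = N33101 := ded_9_3 L261342 L259772 (flp_d L261230)
theorem L261352 : sm gb N32306 = N33102 := rfl
theorem L261354 : sm gd N33102 = N32862 := ded_14_2 (flp_b L258828) (flp_d L253284) L261352
theorem L261356 : sm ge N33102 = N32307 := ded_15_2 (flp_b L253288) (flp_e L253286) L261352
theorem L261358 : sm gc N33102 = N32907 := ded_13_2 (flp_b L259328) L259338 L259346 L256058 L261352
theorem L261360 : sm gg N33102 = N32955 := ded_17_2 L259812 L255742 L240001 L253280 L261352
theorem L261362 : sm gf N32307 = N33103 := rfl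
theorem L261364 : sm ga N33103 = N32523 := ded_11_1 (flp_f L259924) L259920 L261362
theorem L261366 : sm gd N33103 = N32976 := ded_23_1 L260028 L253922 L261362
theorem L261368 : sm gg N33103 = N32348 := ded_29_3 (flp_a L259784) L259788 L256466 L261362
theorem L261370 : sm gf N32310 = N33104 := rfl
theorem L261372 : sm ga N33104 = N32514 := ded_11_1 (flp_f L259658) L259650 L261370
theorem L261374 : sm gd N33104 = N32990 := ded_23_1 L260182 L253932 L261370
theorem L261376 : sm gg N33104 = N32345 := ded_29_3 (flp_a L260070) L260074 L254046 L261370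
theorem L261378 : sm gb N33104 = N33103 := ded_16_1 (flp_f L261362) (flp_b L253288) L233249 L253306 L261370
theorem L261380 : sm gb N32344 = N33105 := rfl
theorem L261382 : sm gd N33105 = N32885 := ded_14_2 (flp_b L259087) (flp_d L253649) L261380
theorem L261384 : sm ge N33105 = N32345 := ded_15_2 (flp_b L253653) (flp_e L253651) L261380
theorem L261386 : sm gc N33105 = N32898 := ded_13_2 (flp_b L259230) L259240 L259248 L255899 L261380
theorem L261388 : sm gf N33105 = N32942 := ded_16_2 L259678 L255676 L240487 L253645 L261380
theorem L261390 : sm gc N32377 = N33106 := rfl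
theorem L261392 : sm gb N33106 = N32778 := ded_13_1 L257946 (flp_b L244331) (flp_c L234675) L253960 L261390
theorem L261394 : sm gc N32392 = N33107 := rfl
theorem L261396 : sm gb N33107 = N32792 := ded_13_1 L258062 (flp_b L244545) (flp_c L234829) L254110 L261394
theorem L261398 : sm gg N32433 = N33108 := rfl
theorem L261400 : sm ga N33108 = N32941 := ded_12_1 L259666 L258594 L261398
theorem L261402 : sm gc N33108 = N33104 := ded_21_1 L261376 (flp_c L254572) L261398
theorem L261404 : sm gd N33108 = N32434 := ded_24_1 (flp_g L254574) L254570 L261398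
theorem L261406 : sm ge N33108 = N32944 := ded_26_1 L259700 L259234 L261398
theorem L261408 : sm gf N32761 = N33108 := ded_29_0 (flp_g L261398) (flp_f L256260) (flp_g L256264) L257796
theorem L261410 : sm gb N32434 = N33109 := rfl
theorem L261412 : sm ge N33109 = N32438 := ded_15_2 (flp_b L254614) (flp_e L254578) L261410
theorem L261414 : sm gf N33109 = N32762 := ded_16_2 (flp_b L257798) (flp_f L244205) L244203 (flp_f L254580) L261410
theorem L261416 : sm ga N32438 = N33110 := rfl
theorem L261418 : sm gd N33110 = N33015 := ded_9_2 L260418 (flp_d L254616) L261416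
theorem L261420 : sm gf N33110 = N32821 := ded_11_2 L258376 L255406 L261416
theorem L261422 : sm gg N33110 = N33074 := ded_12_2 L261046 L257041 L261416
theorem L261424 : sm gc N33110 = N33026 := ded_28_0 (flp_d L260522) (flp_c L250001) (flp_d L249983) L249985 L249795 L249811 (flp_d L254616) L261416
theorem L261426 : sm gb N33110 = N32820 := ded_7_2 L258362 L246563 L243727 (flp_b L231842) (flp_a L229368) L251441 (flp_a L251451) L254614 L261416
theorem L261428 : sm gc N32438 = N33111 := rfl
theorem L261430 : sm ga N33111 = N33026 := ded_8_1 (flp_c L261424) (flp_a L261416) L261428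
theorem L261432 : sm gf N33111 = N32833 := ded_20_2 L258512 L255406 L261428
theorem L261434 : sm gg N33111 = N32702 := ded_21_2 L257161 L257041 L261428
theorem L261436 : sm gb N33111 = N32439 := ded_13_1 (flp_c L254618) (flp_b L236241) (flp_c L236239) L254614 L261428
theorem L261438 : sm gd N33111 = N33025 := ded_28_7 L260512 (flp_c L250001) (flp_d L249983) L249985 L249795 L249811 (flp_d L254616) L261428
theorem L261440 : sm gf N32446 = N33112 := rfl
theorem L261442 : sm ga N33112 = N32954 := ded_11_1 (flp_f L259800) (flp_a L258458) L261440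
theorem L261444 : sm gc N33112 = N33103 := ded_20_1 (flp_f L261362) (flp_c L254682) L261440
theorem L261446 : sm gd N33112 = N32447 := ded_23_1 (flp_f L254684) L254680 L261440
theorem L261448 : sm ge N33112 = N32957 := ded_25_1 (flp_f L259834) L259332 L261440
theorem L261450 : sm gg N33112 = N32780 := ded_29_3 L257970 (flp_f L256232) L256234 L261440
theorem L261452 : sm gb N32447 = N33113 := rfl
theorem L261454 : sm ge N33113 = N32451 := ded_15_2 (flp_b L254724) (flp_e L254688) L261452
theorem L261456 : sm gg N33113 = N32781 := ded_17_2 (flp_b L257972) (flp_g L244419) L244417 L254690 L261452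
theorem L261458 : sm ga N32451 = N33114 := rfl
theorem L261460 : sm gd N33114 = N33045 := ded_9_2 L260715 (flp_d L254726) L261458
theorem L261462 : sm gf N33114 = N33044 := ded_11_2 L260707 L257163 L261458
theorem L261464 : sm gg N33114 = N32833 := ded_12_2 L258514 L255458 L261458
theorem L261466 : sm gc N33114 = N33067 := ded_28_0 (flp_d L260966) (flp_c L251037) (flp_d L251025) L251027 L250819 L250831 (flp_d L254726) L261458
theorem L261468 : sm gb N33114 = N32832 := ded_7_2 L258500 L246721 L243977 (flp_b L229740) (flp_a L229638) L251612 (flp_a L251620) L254724 L261458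
theorem L261470 : sm gc N32451 = N33115 := rfl
theorem L261472 : sm ga N33115 = N33067 := ded_8_1 (flp_c L261466) (flp_a L261458) L261470
theorem L261474 : sm gf N33115 = N32688 := ded_20_2 (flp_c L257161) L257163 L261470
theorem L261476 : sm gg N33115 = N32821 := ded_21_2 L258374 L255458 L261470
theorem L261478 : sm gb N33115 = N32452 := ded_13_1 (flp_c L254728) (flp_b L236380) (flp_c L236378) L254724 L261470
theorem L261480 : sm gd N33115 = N33032 := ded_28_7 L260567 (flp_c L251037) (flp_d L251025) L251027 L250819 L250831 (flp_d L254726) L261470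
theorem L261482 : sm gb N32453 = N33116 := rfl
theorem L261484 : sm gd N33116 = N33054 := ded_14_2 L260826 L258139 L261482
theorem L261486 : sm ge N33116 = N32913 := ded_15_2 (flp_b L259390) (flp_e L254734) L261482
theorem L261488 : sm gc N33116 = N32454 := ded_13_2 (flp_b L254740) (flp_c L236421) (flp_b L236415) L254730 L261482
theorem L261490 : sm gf N33116 = N33116 := ded_16_2 (flp_b L261482) L254736 L254475 (flp_f L254736) L261482
theorem L261491 : sm gg N33116 = N33053 := ded_17_2 L260813 L260840 (flp_b L260852) (flp_g L254738) L261482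
theorem L261493 : sm ga N33116 = N32890 := ded_7_1 (flp_b L259141) (flp_a L246353) (flp_b L250516) L250514 (flp_b L257810) L257804 (flp_b L253850) (flp_a L254732) L261482
theorem L261495 : sm ga N32454 = N33117 := rfl
theorem L261497 : sm gc N33117 = N32890 := ded_8_2 (flp_a L261493) L261488 L261495
theorem L261499 : sm gf N33117 = N33117 := ded_11_2 (flp_a L261495) L254751 L261495
theorem L261500 : sm gb N33117 = N32972 := ded_7_2 L259994 L248844 L248013 L254824 (flp_a L254818) (flp_b L236490) (flp_a L236423) L254740 L261495
theorem L261502 : sm gg N32454 = N33118 := rfl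
theorem L261504 : sm gc N33118 = N33053 := ded_21_1 (flp_g L261491) L261488 L261502
theorem L261506 : sm gb N32456 = N33119 := rfl
theorem L261508 : sm gd N33119 = N32476 := ded_14_2 (flp_b L254921) (flp_d L254758) L261506
theorem L261510 : sm ge N33119 = N32476 := ded_15_2 (flp_b L254921) (flp_e L254760) L261506
theorem L261512 : sm gc N33119 = N32909 := ded_13_2 L259354 L254784 (flp_b L254774) (flp_c L254756) L261506
theorem L261514 : sm ga N32459 = N33120 := rfl
theorem L261516 : sm gc N33120 = N32682 := ded_8_2 L257005 (flp_c L254792) L261514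
theorem L261518 : sm gd N33120 = N32462 := ded_9_2 (flp_a L254818) (flp_d L254788) L261514
theorem L261520 : sm ge N33120 = N32462 := ded_10_2 (flp_a L254818) (flp_e L254790) L261514
theorem L261522 : sm gg N32686 = N33120 := ded_21_0 L261516 L257003 L257027
theorem L261524 : sm gb N32765 = N33120 := ded_13_5 L261516 (flp_b L256997) L241412 L244241 L257818
theorem L261526 : sm gf N32459 = N33121 := rfl
theorem L261528 : sm gc N33121 = N33095 := ded_20_1 L261274 (flp_c L254792) L261526
theorem L261530 : sm gd N33121 = N32463 := ded_23_1 (flp_f L254826) (flp_d L254788) L261526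
theorem L261532 : sm ge N33121 = N32463 := ded_25_1 (flp_f L254826) (flp_e L254790) L261526
theorem L261534 : sm gb N33121 = N33088 := ded_16_1 (flp_f L261206) L252030 (flp_f L236587) L254786 L261526
theorem L261536 : sm gg N32459 = N33122 := rfl
theorem L261538 : sm ga N33122 = N32686 := ded_12_1 L261522 (flp_a L261514) L261536
theorem L261540 : sm gc N33122 = N32685 := ded_21_1 L257025 (flp_c L254792) L261536
theorem L261542 : sm gd N33122 = N32464 := ded_24_1 (flp_g L254830) (flp_d L254788) L261536
theorem L261544 : sm ge N33122 = N32464 := ded_26_1 (flp_g L254830) (flp_e L254790) L261536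
theorem L261546 : sm gf N33122 = N33119 := ded_31_1 (flp_b L261506) (flp_g L254752) L254742 L254750 L254748 L236601 L254836 (flp_g L257057) (flp_f L254911) (flp_b L236569) L236579 (flp_f L236587) L254786 L261536
theorem L261548 : sm gb N32460 = N33123 := rfl
theorem L261550 : sm gd N33123 = N32465 := ded_14_2 (flp_b L254836) (flp_d L254800) L261548
theorem L261552 : sm ge N33123 = N32465 := ded_15_2 (flp_b L254836) (flp_e L254802) L261548
theorem L261554 : sm gc N33123 = N32900 := ded_13_2 L259256 L254816 (flp_b L254806) (flp_c L254798) L261548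
theorem L261556 : sm gf N32462 = N33124 := rfl
theorem L261558 : sm ga N33124 = N32463 := ded_11_1 (flp_f L254826) L254818 L261556
theorem L261560 : sm gc N33124 = N32683 := ded_20_1 (flp_f L257007) (flp_c L254820) L261556
theorem L261562 : sm gg N33124 = N32476 := ded_29_3 (flp_a L257061) (flp_f L257059) L254822 L261556
theorem L261564 : sm gf N32465 = N33125 := rfl
theorem L261566 : sm ga N33125 = N32475 := ded_11_1 (flp_f L257181) L257177 L261564
theorem L261568 : sm gc N33125 = N32697 := ded_20_1 L257171 L257169 L261564
theorem L261570 : sm gg N33125 = N32473 := ded_29_3 (flp_a L254903) L254911 L257057 L261564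
theorem L261572 : sm ga N32467 = N33126 := rfl
theorem L261574 : sm gd N33126 = N33117 := ded_9_2 (flp_a L261495) (flp_d L254852) L261572
theorem L261576 : sm ge N33126 = N33117 := ded_10_2 (flp_a L261495) (flp_e L254854) L261572
theorem L261578 : sm gf N33126 = N33126 := ded_11_2 (flp_a L261572) L254856 L261572
theorem L261579 : sm gg N32467 = N33127 := rfl
theorem L261581 : sm gd N33127 = N33118 := ded_24_1 (flp_g L261502) (flp_d L254852) L261579
theorem L261583 : sm ge N33127 = N33118 := ded_26_1 (flp_g L261502) (flp_e L254854) L261579
theorem L261585 : sm gb N33127 = N33124 := ded_17_1 L261562 (flp_b L254921) (flp_g L236577) L254850 L261579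
theorem L261587 : sm gb N32470 = N33128 := rfl
theorem L261589 : sm gd N33128 = N33002 := ded_14_2 L260301 L258280 L261587
theorem L261591 : sm ge N33128 = N32915 := ded_15_2 (flp_b L259411) (flp_e L254886) L261587
theorem L261593 : sm gc N33128 = N32471 := ded_13_2 (flp_b L254892) (flp_c L236557) (flp_b L236551) L254882 L261587
theorem L261595 : sm gf N33128 = N33001 := ded_16_2 L260288 L260313 L260325 (flp_f L254888) L261587
theorem L261597 : sm gg N33128 = N33128 := ded_17_2 (flp_b L261587) L254890 L254285 (flp_g L254890) L261587
theorem L261598 : sm ga N33128 = N32868 := ded_7_1 (flp_b L258894) L245940 (flp_b L249432) L249430 (flp_b L257984) L257978 (flp_b L253483) (flp_a L254884) L261587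
theorem L261600 : sm ga N32471 = N33129 := rfl
theorem L261602 : sm gc N33129 = N32868 := ded_8_2 (flp_a L261598) L261593 L261600
theorem L261604 : sm gg N33129 = N33129 := ded_12_2 (flp_a L261600) L254894 L261600
theorem L261605 : sm gb N33129 = N32986 := ded_7_2 L260140 L249192 L248379 L254909 (flp_a L254903) (flp_b L236569) (flp_a L236559) L254892 L261600
theorem L261607 : sm gf N32471 = N33130 := rfl
theorem L261609 : sm gc N33130 = N33001 := ded_20_1 (flp_f L261595) L261593 L261607
theorem L261611 : sm ga N32472 = N33131 := rfl
theorem L261613 : sm gc N33131 = N32696 := ded_8_2 L257125 (flp_c L254901) L261611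
theorem L261615 : sm gd N33131 = N32473 := ded_9_2 (flp_a L254903) (flp_d L254897) L261611
theorem L261617 : sm ge N33131 = N32473 := ded_10_2 (flp_a L254903) (flp_e L254899) L261611
theorem L261619 : sm gf N33131 = N32700 := ded_30_4 (flp_c L257147) (flp_b L241664) (flp_a L217234) (flp_f L217240) L216289 L187231 (flp_a L212271) L212363 (flp_c L221920) L239393 (flp_a L251984) (flp_f L254844) (flp_c L254838) (flp_b L236502) (flp_a L236435) (flp_f L236441) L236561 L254895 L261611
theorem L261621 : sm gb N32784 = N33131 := ded_13_5 L261613 (flp_b L257117) L241646 L244455 L257992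
theorem L261623 : sm gf N32472 = N33132 := rfl
theorem L261625 : sm ga N33132 = N32700 := ded_11_1 (flp_f L261619) (flp_a L261611) L261623
theorem L261627 : sm gc N33132 = N32699 := ded_20_1 L257145 (flp_c L254901) L261623
theorem L261629 : sm gd N33132 = N32474 := ded_23_1 (flp_f L254911) (flp_d L254897) L261623
theorem L261631 : sm ge N33132 = N32474 := ded_25_1 (flp_f L254911) (flp_e L254899) L261623
theorem L261633 : sm gb N33132 = N33122 := ded_16_1 L261546 (flp_b L261506) (flp_f L254762) L254895 L261623
theorem L261635 : sm gg N33123 = N33132 := ded_31_0 (flp_f L261623) (flp_b L254895) L236565 (flp_f L236494) L236490 L254830 L257055 (flp_b L254921) (flp_g L236577) L254857 L254869 L254867 L254804 L261548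
theorem L261637 : sm gg N32472 = N33133 := rfl
theorem L261639 : sm gc N33133 = N33079 := ded_21_1 L261102 (flp_c L254901) L261637
theorem L261641 : sm gd N33133 = N32475 := ded_24_1 (flp_g L254917) (flp_d L254897) L261637
theorem L261643 : sm ge N33133 = N32475 := ded_26_1 (flp_g L254917) (flp_e L254899) L261637
theorem L261645 : sm gb N33133 = N33080 := ded_17_1 L261112 L252890 (flp_g L236565) L254895 L261637
theorem L261647 : sm ga N32478 = N33134 := rfl
theorem L261649 : sm gd N33134 = N33129 := ded_9_2 (flp_a L261600) (flp_d L254937) L261647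
theorem L261651 : sm ge N33134 = N33129 := ded_10_2 (flp_a L261600) (flp_e L254939) L261647
theorem L261653 : sm gg N33134 = N33134 := ded_12_2 (flp_a L261647) L254941 L261647
theorem L261654 : sm gf N32478 = N33135 := rfl
theorem L261656 : sm gd N33135 = N33130 := ded_23_1 (flp_f L261607) (flp_d L254937) L261654
theorem L261658 : sm ge N33135 = N33130 := ded_25_1 (flp_f L261607) (flp_e L254939) L261654
theorem L261660 : sm gb N33135 = N33125 := ded_16_1 (flp_f L261564) (flp_b L254836) (flp_f L236601) L254935 L261654
theorem L261662 : sm gb N32482 = N33136 := rfl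
theorem L261664 : sm gd N33136 = N32690 := ded_14_2 L257067 (flp_d L254986) L261662
theorem L261666 : sm ge N33136 = N32690 := ded_15_2 L257067 (flp_e L254982) L261662
theorem L261668 : sm gc N33136 = N32687 := ded_13_2 (flp_b L257225) L257217 L254970 L254978 L261662
theorem L261670 : sm gf N33136 = N32686 := ded_16_2 L257031 L257069 L257197 (flp_f L257195) L261662
theorem L261672 : sm gg N33136 = N33121 := ded_17_2 L261534 L261216 L257099 (flp_g L254984) L261662
theorem L261674 : sm ga N33136 = N33119 := ded_7_1 (flp_b L261506) L254754 L254836 (flp_a L257177) L257183 L244343 (flp_b L236683) (flp_a L254980) L261662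
theorem L261676 : sm gb N32486 = N33137 := rfl
theorem L261678 : sm gd N33137 = N32704 := ded_14_2 L257183 (flp_d L255032) L261676
theorem L261680 : sm ge N33137 = N32704 := ded_15_2 L257183 (flp_e L255028) L261676
theorem L261682 : sm gc N33137 = N32701 := ded_13_2 (flp_b L257323) L257315 L255016 L255024 L261676
theorem L261684 : sm gf N33137 = N33133 := ded_16_2 L261645 L261110 L257091 (flp_f L255030) L261676
theorem L261686 : sm gg N33137 = N32700 := ded_17_2 L257151 L257185 (flp_b L257197) L257079 L261676
theorem L261688 : sm ga N33137 = N33123 := ded_7_1 (flp_b L261548) L254796 L254921 (flp_a L257061) L257067 L244557 (flp_b L236765) (flp_a L255026) L261676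
theorem L261690 : sm gd N32500 = N33138 := rfl
theorem L261692 : sm ga N33138 = N33138 := ded_9_1 (flp_d L261690) L255187 L261690
theorem L261693 : sm gb N33138 = N32501 := ded_14_1 (flp_d L255188) L255182 L261690
theorem L261695 : sm gc N33138 = N33138 := ded_32_24 L261693 (flp_e L256792) L256790 L256474 L240966 (flp_c L251596) (flp_b L259059) (flp_d L260194) L260192 (flp_d L258684) (flp_c L245629) (flp_b L222417) (flp_d L222395) L222393 L193011 L160606 (flp_b L118350) L118348 (flp_c L156922) (flp_d L188355) (flp_c L217827) L242731 (flp_d L257472) L257474 L257417 L242620 (flp_b L242618) (flp_e L217829) (flp_d L242717) L242715 L231050 L201514 L203785 L203787 (flp_c L214569) (flp_d L238919) L238927 (flp_b L212509) L181871 L152466 (flp_d L180827) L180825 (flp_b L182667) L182665 L145646 (flp_d L182451) (flp_c L213229) L240051 (flp_d L256492) (flp_c L256721) L256719 L240553 (flp_b L240551) (flp_e L237275) L255214 (flp_c L255220) (flp_d L249532) (flp_c L227350) (flp_b L198899) (flp_d L168903) (flp_c L178789) L178791 (flp_c L162963) L195360 L195362 L164302 (flp_d L178882) L178880 L178283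 (flp_d L199453) L228292 L250588 L255194 (flp_b L261693) (flp_d L261690) L255186 L261690
theorem L261696 : sm gg N32500 = N33139 := rfl
theorem L261698 : sm ga N33139 = N33139 := ded_12_1 (flp_g L261696) L255187 L261696
theorem L261699 : sm gc N33139 = N33139 := ded_21_1 (flp_g L261696) L255186 L261696
theorem L261700 : sm ge N33139 = N32634 := ded_26_1 (flp_g L256527) (flp_e L255184) L261696
theorem L261702 : sm gf N33139 = N32503 := ded_29_0 (flp_g L256928) L256926 L261696 L261698
theorem L261704 : sm gd N32503 = N33140 := rfl
theorem L261706 : sm ga N33140 = N33140 := ded_9_1 (flp_d L261704) L255213 L261704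
theorem L261707 : sm gb N33140 = N32504 := ded_14_1 (flp_d L255214) L255208 L261704
theorem L261709 : sm gc N33140 = N33140 := ded_32_24 L261707 (flp_e L256583) (flp_d L256691) L256689 L240742 (flp_c L252582) (flp_b L258802) (flp_d L260745) L260743 L258636 (flp_c L245673) (flp_b L223231) (flp_d L223209) L223207 L193321 L160798 (flp_b L118533) L118531 (flp_c L156877) (flp_d L188283) (flp_c L217706) L242618 (flp_d L257417) (flp_c L257474) L257472 L242735 (flp_b L242731) L217829 (flp_d L242584) L242582 L232823 L203145 L204281 L204283 (flp_c L214741) (flp_d L238943) (flp_c L238931) (flp_b L211865) L181363 L152028 (flp_d L180719) L180717 (flp_b L182305) L182303 (flp_c L145694) (flp_d L182841) (flp_c L213743) L240551 (flp_d L256719) L256721 L256492 L240053 (flp_b L240051) (flp_e L237249) L255188 (flp_c L255194) (flp_d L250588) (flp_c L228292) (flp_b L199451) (flp_d L169896) (flp_c L178880) L178882 (flp_c L164302) (flp_b L195346) L195340 L162963 (flp_d L178791) L178789 (flp_b L178267) (flp_d L198901) L227350 L249532 L255220 (flp_b L261707) (flp_d L261704) L255212 L261704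
theorem L261710 : sm gb N32505 = N33141 := rfl
theorem L261712 : sm gd N33141 = N32921 := ded_14_2 L259482 (flp_d L255226) L261710
theorem L261714 : sm ge N33141 = N32965 := ded_15_2 L259922 L255382 L261710
theorem L261716 : sm gc N33141 = N32748 := ded_13_2 L257648 (flp_c L255120) (flp_b L237293) (flp_c L255224) L261710
theorem L261718 : sm gf N33141 = N32959 := ded_16_2 L259856 (flp_f L252172) L237639 L255222 L261710
theorem L261720 : sm gg N33141 = N32746 := ded_17_2 L257626 L254182 L252904 (flp_g L255228) L261710
theorem L261722 : sm ga N33141 = N33102 := ded_7_1 (flp_b L261352) L253282 L233243 (flp_a L242648) (flp_b L256613) L256603 (flp_b L255656) L255646 L261710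
theorem L261724 : sm gb N32506 = N33142 := rfl
theorem L261726 : sm gd N33142 = N32918 := ded_14_2 L259450 (flp_d L255234) L261724
theorem L261728 : sm ge N33142 = N32980 := ded_15_2 L260072 L255299 L261724
theorem L261730 : sm gc N33142 = N32745 := ded_13_2 L257622 (flp_c L255110) (flp_b L237334) (flp_c L255232) L261724
theorem L261732 : sm gf N33142 = N32743 := ded_16_2 L257600 (flp_f L254040) (flp_b L253158) L255236 L261724
theorem L261734 : sm gg N33142 = N32946 := ded_17_2 L259718 L252972 L237493 L255230 L261724
theorem L261736 : sm ga N33142 = N33105 := ded_7_1 (flp_b L261380) L253647 L233987 (flp_a L242751) (flp_b L256412) L256402 (flp_b L255720) L255710 L261724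
theorem L261738 : sm ge N32508 = N33143 := rfl
theorem L261740 : sm ga N33143 = N32563 := ded_10_1 L255760 L255604 L261738
theorem L261742 : sm gb N33143 = N32509 := ded_15_1 (flp_e L255255) L255252 L261738
theorem L261744 : sm gc N33143 = N32550 := ded_19_1 (flp_e L255760) L255762 L261738
theorem L261746 : sm gf N33143 = N32992 := ded_25_2 (flp_e L260231) L260217 L261738
theorem L261748 : sm gg N33143 = N33143 := ded_26_2 (flp_e L261738) L255254 L261738
theorem L261749 : sm gd N33143 = N32993 := ded_22_1 (flp_e L260298) (flp_d L261589) L261591 L259413 L261738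
theorem L261751 : sm gd N32509 = N33144 := rfl
theorem L261753 : sm ga N33144 = N32572 := ded_9_1 L255861 (flp_a L255257) L261751
theorem L261755 : sm gb N33144 = N32993 := ded_14_1 (flp_d L261749) L261742 L261751
theorem L261757 : sm gf N33144 = N32546 := ded_23_2 (flp_d L255569) (flp_f L255261) L261751
theorem L261759 : sm gg N33144 = N32568 := ded_24_2 (flp_d L255808) (flp_g L255263) L261751
theorem L261761 : sm ge N33144 = N32813 := ded_22_2 L258280 L254886 L246929 L255255 L261751
theorem L261763 : sm gc N32811 = N33144 := ded_28_0 (flp_d L261751) L255259 L237413 (flp_c L224579) L246949 (flp_c L247211) (flp_d L251125) (flp_a L258256)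
theorem L261765 : sm gc N32511 = N33145 := rfl
theorem L261767 : sm ge N33145 = N32706 := ded_19_2 (flp_c L261346) L261344 L261765
theorem L261769 : sm gg N33145 = N33106 := ded_21_2 (flp_c L261390) (flp_g L255277) L261765
theorem L261771 : sm gb N33145 = N32512 := ded_13_1 (flp_c L255279) (flp_b L237453) (flp_c L237447) L255273 L261765
theorem L261773 : sm gd N33145 = N32706 := ded_28_7 L257201 (flp_c L261234) L261230 (flp_c L260156) L260158 L249236 (flp_d L255275) L261765
theorem L261775 : sm ge N32517 = N33146 := rfl
theorem L261777 : sm ga N33146 = N32578 := ded_10_1 L255917 L255541 L261775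
theorem L261779 : sm gb N33146 = N32518 := ded_15_1 (flp_e L255336) L255333 L261775
theorem L261781 : sm gc N33146 = N32543 := ded_19_1 (flp_e L255917) L255919 L261775
theorem L261783 : sm gf N33146 = N33146 := ded_25_2 (flp_e L261775) L255335 L261775
theorem L261784 : sm gg N33146 = N33029 := ded_26_2 L260759 L260755 L261775
theorem L261786 : sm gd N33146 = N33030 := ded_22_1 (flp_e L260823) (flp_d L261484) L261486 L259392 L261775
theorem L261788 : sm gd N32518 = N33147 := rfl
theorem L261790 : sm ga N33147 = N32586 := ded_9_1 L256004 (flp_a L255338) L261788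
theorem L261792 : sm gb N33147 = N33030 := ded_14_1 (flp_d L261786) L261779 L261788
theorem L261794 : sm gf N33147 = N32583 := ded_23_2 (flp_d L255965) (flp_f L255342) L261788
theorem L261796 : sm gg N33147 = N32539 := ded_24_2 (flp_d L255506) (flp_g L255344) L261788
theorem L261798 : sm ge N33147 = N32800 := ded_22_2 L258139 L254734 L246821 L255336 L261788
theorem L261800 : sm gc N32798 = N33147 := ded_28_0 (flp_d L261788) L255340 L237559 (flp_c L224467) L246853 (flp_c L247245) (flp_d L250103) (flp_a L258115)
theorem L261802 : sm gc N32520 = N33148 := rfl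
theorem L261804 : sm ga N33148 = N33145 := ded_8_1 (flp_c L261765) L255360 L261802
theorem L261806 : sm ge N33148 = N32692 := ded_19_2 (flp_c L261234) L261232 L261802
theorem L261808 : sm gf N33148 = N33107 := ded_20_2 (flp_c L261394) (flp_f L255358) L261802
theorem L261810 : sm gb N33148 = N32521 := ded_13_1 (flp_c L255362) (flp_b L237599) (flp_c L237593) L255354 L261802
theorem L261812 : sm gd N33148 = N32692 := ded_28_7 (flp_a L257201) (flp_c L261346) L261342 (flp_c L260002) L260004 L248880 (flp_d L255356) L261802
theorem L261814 : sm gf N32528 = N33149 := rfl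
theorem L261816 : sm ga N33149 = N32949 := ded_11_1 (flp_f L259754) L259704 L261814
theorem L261818 : sm gc N33149 = N32529 := ded_20_1 (flp_f L255426) L255422 L261814
theorem L261820 : sm ge N33149 = N32889 := ded_25_1 (flp_f L259137) L256452 L261814
theorem L261822 : sm gg N33149 = N32885 := ded_29_3 (flp_a L259444) (flp_f L259442) (flp_g L255424) L261814
theorem L261824 : sm gg N32535 = N33150 := rfl
theorem L261826 : sm ga N33150 = N32936 := ded_12_1 L259846 L259838 L261824
theorem L261828 : sm gc N33150 = N32536 := ded_21_1 (flp_g L255478) L255474 L261824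
theorem L261830 : sm ge N33150 = N32866 := ded_26_1 L258878 L256657 L261824
theorem L261832 : sm gf N32862 = N33150 := ded_29_0 (flp_g L261824) L255476 L259474 L259476
theorem L261834 : sm gb N33150 = N33149 := ded_17_1 L261822 (flp_b L259087) (flp_g L256649) L256651 L261824
theorem L261836 : sm gb N32542 = N33151 := rfl
theorem L261838 : sm gd N33151 = N32543 := ded_14_2 (flp_b L255538) (flp_d L255532) L261836
theorem L261840 : sm ge N33151 = N32890 := ded_15_2 (flp_b L259141) (flp_e L255534) L261836
theorem L261842 : sm gf N33151 = N33151 := ded_16_2 (flp_b L261836) (flp_f L255536) L249536 L255536 L261836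
theorem L261843 : sm ga N33151 = N32913 := ded_7_1 (flp_b L259390) (flp_a L246825) (flp_b L250737) L250733 L250673 L228445 (flp_b L246387) (flp_a L255530) L261836
theorem L261845 : sm gc N33126 = N33151 := ded_30_1 (flp_b L261836) L255530 L246385 L255150 L255156 L240121 (flp_f L213272) (flp_c L202870) L202868 (flp_a L197491) L201179 L201175 (flp_b L208351) (flp_a L236518) (flp_f L236516) L236508 L254850 L261572 L261578
theorem L261847 : sm gb N32549 = N33152 := rfl
theorem L261849 : sm gd N33152 = N32550 := ded_14_2 (flp_b L255601) (flp_d L255595) L261847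
theorem L261851 : sm ge N33152 = N32868 := ded_15_2 (flp_b L258894) (flp_e L255597) L261847
theorem L261853 : sm gg N33152 = N33152 := ded_17_2 (flp_b L261847) L255599 L250592 (flp_g L255599) L261847
theorem L261854 : sm ga N33152 = N32915 := ded_7_1 (flp_b L259411) (flp_a L246933) (flp_b L249683) L249679 L249617 L227530 (flp_b L245988) (flp_a L255593) L261847
theorem L261856 : sm gc N33134 = N33152 := ded_32_24 (flp_b L261847) L255597 (flp_d L258886) L258884 (flp_d L251582) L251580 (flp_b L256096) (flp_d L259908) L259906 L248698 (flp_c L245889) (flp_b L223052) L193133 L162456 (flp_d L160872) L193431 L223441 (flp_d L227383) (flp_c L227371) L198932 L178066 L153359 (flp_d L145704) (flp_c L145922) (flp_d L157015) L157012 (flp_b L188343) (flp_e L188341) (flp_d L156910) L108284 (flp_d L96681) (flp_c L117457) (flp_b L117455) L117459 (flp_c L117463) (flp_d L116601) (flp_c L95886) L95882 L95884 L96247 L117379 L156844 L104306 (flp_d L89409) (flp_c L38896) L18479 L18581 L64285 L39124 L89489 L104701 (flp_c L104706) (flp_b L145684) L182829 L182833 (flp_c L178066) (flp_d L198932) L227371 (flp_b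 L227381) (flp_d L223445) (flp_c L193431) L160872 (flp_c L162456) L195001 (flp_d L223054) L245889 (flp_d L248698) (flp_c L259906) L259916 L249116 (flp_c L251580) L251582 (flp_c L258884) L258892 (flp_d L258896) (flp_c L261602) (flp_d L261649)
theorem L261858 : sm ge N32573 = N33153 := rfl
theorem L261860 : sm ga N33153 = N33077 := ded_10_1 L261078 L258943 L261858
theorem L261862 : sm gb N33153 = N32575 := ded_15_1 (flp_e L255885) (flp_b L255869) L261858
theorem L261864 : sm gf N33153 = N32874 := ded_25_2 L258969 L255873 L261858
theorem L261866 : sm gg N33153 = N32836 := ded_26_2 L258544 (flp_g L255871) L261858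
theorem L261868 : sm gd N33153 = N32856 := ded_22_1 L258766 (flp_d L255140) L255142 L255867 L261858
theorem L261870 : sm ge N32588 = N33154 := rfl
theorem L261872 : sm ga N33154 = N33094 := ded_10_1 L261264 L258626 L261870
theorem L261874 : sm gb N33154 = N32590 := ded_15_1 (flp_e L256044) (flp_b L256026) L261870
theorem L261876 : sm gc N33154 = N33153 := ded_19_1 (flp_e L261858) (flp_c L256030) L261870
theorem L261878 : sm gf N33154 = N32824 := ded_25_2 L258406 (flp_f L256028) L261870
theorem L261880 : sm gg N33154 = N32848 := ded_26_2 L258682 (flp_g L256032) L261870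
theorem L261882 : sm gd N33154 = N32881 := ded_22_1 L259045 (flp_d L255160) L255162 L256024 L261870
theorem L261884 : sm gb N32628 = N33155 := rfl
theorem L261886 : sm ge N33155 = N32630 := ded_15_2 (flp_b L256490) (flp_e L256476) L261884
theorem L261888 : sm gg N33155 = N32669 := ded_17_2 (flp_b L256888) L240798 L249254 (flp_g L256478) L261884
theorem L261890 : sm ga N33155 = N33155 := ded_7_1 (flp_b L261884) L256472 (flp_b L240986) L214254 L183121 (flp_a L214254) L240986 (flp_a L256472) L261884
theorem L261891 : sm gb N32640 = N33156 := rfl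
theorem L261893 : sm ge N33156 = N33140 := ded_15_2 L261707 (flp_e L256583) L261891
theorem L261895 : sm gc N33156 = N33156 := ded_13_2 (flp_b L261891) L256581 L246346 (flp_c L256581) L261891
theorem L261896 : sm gg N33156 = N33089 := ded_17_2 (flp_b L261218) L252088 (flp_b L246332) (flp_g L256585) L261891
theorem L261898 : sm ga N33156 = N33156 := ded_7_1 (flp_b L261891) (flp_a L256579) (flp_b L240129) L213264 L182480 (flp_a L213264) L240129 L256579 L261891
theorem L261899 : sm gb N32649 = N33157 := rfl
theorem L261901 : sm gd N33157 = N33156 := ded_14_2 (flp_b L261891) (flp_d L256691) L261899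
theorem L261903 : sm ge N33157 = N32652 := ded_15_2 (flp_b L256717) (flp_e L256693) L261899
theorem L261905 : sm gc N33157 = N33155 := ded_13_2 (flp_b L261884) L256474 (flp_b L240970) (flp_c L256689) L261899
theorem L261907 : sm gf N33157 = N32669 := ded_16_2 (flp_b L256888) L240796 L248896 (flp_f L256695) L261899
theorem L261909 : sm ga N33157 = N33157 := ded_7_1 (flp_b L261899) L256687 (flp_b L240744) L213933 L182962 (flp_a L213933) L240744 (flp_a L256687) L261899
theorem L261910 : sm gb N32659 = N33158 := rfl
theorem L261912 : sm gd N33158 = N33155 := ded_14_2 (flp_b L261884) (flp_d L256790) L261910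
theorem L261914 : sm ge N33158 = N33138 := ded_15_2 L261693 (flp_e L256792) L261910
theorem L261916 : sm gc N33158 = N33158 := ded_13_2 (flp_b L261910) L256788 L245927 (flp_c L256788) L261910
theorem L261917 : sm gf N33158 = N33089 := ded_16_2 (flp_b L261218) (flp_f L252082) (flp_b L245905) (flp_f L256794) L261910
theorem L261919 : sm ga N33158 = N33158 := ded_7_1 (flp_b L261910) (flp_a L256786) (flp_b L240631) L213780 L182872 (flp_a L213780) L240631 L256786 L261910
theorem L261920 : sm gb N32660 = N33159 := rfl
theorem L261922 : sm gd N33159 = N33089 := ded_14_2 (flp_b L261218) (flp_d L256802) L261920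
theorem L261924 : sm ge N33159 = N32671 := ded_15_2 (flp_b L256900) (flp_e L256804) L261920
theorem L261926 : sm gc N33159 = N32669 := ded_13_2 (flp_b L256888) L256820 (flp_b L256808) (flp_c L256800) L261920
theorem L261928 : sm gf N33159 = N33155 := ded_16_2 (flp_b L261884) (flp_f L256470) (flp_b L240666) L256796 L261920
theorem L261930 : sm gg N33159 = N33157 := ded_17_2 (flp_b L261899) (flp_g L256685) (flp_b L240898) (flp_g L256806) L261920
theorem L261932 : sm ga N33159 = N33159 := ded_7_1 (flp_b L261920) L256798 L256808 L256818 L240806 (flp_a L256818) (flp_b L256808) (flp_a L256798) L261920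
theorem L261933 : sm gb N32664 = N33160 := rfl
theorem L261935 : sm gd N33160 = N32734 := ded_14_2 L257519 (flp_d L256852) L261933
theorem L261937 : sm ge N33160 = N32665 := ded_15_2 (flp_b L256858) (flp_e L256854) L261933
theorem L261939 : sm gf N33160 = N33090 := ded_16_2 (flp_b L261222) (flp_f L252104) (flp_b L240762) L256846 L261933
theorem L261941 : sm gg N33160 = N33100 := ded_17_2 (flp_b L261332) (flp_g L252906) (flp_b L240998) (flp_g L256856) L261933
theorem L261943 : sm gc N32665 = N33161 := rfl
theorem L261945 : sm gf N33161 = N33106 := ded_20_2 (flp_c L261390) (flp_f L256862) L261943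
theorem L261947 : sm gg N33161 = N33107 := ded_21_2 (flp_c L261394) (flp_g L256864) L261943
theorem L261949 : sm gb N33161 = N32668 := ded_13_1 (flp_c L256882) (flp_b L240786) (flp_c L240772) L256858 L261943
theorem L261951 : sm ga N32666 = N33162 := rfl
theorem L261953 : sm ge N33162 = N32667 := ded_10_2 (flp_a L256874) (flp_e L256868) L261951
theorem L261955 : sm gf N33162 = N32969 := ded_11_2 (flp_a L259972) (flp_f L256870) L261951
theorem L261957 : sm gg N33162 = N32983 := ded_12_2 (flp_a L260108) (flp_g L256872) L261951
theorem L261959 : sm gc N32666 = N33163 := rfl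
theorem L261961 : sm ge N33163 = N32668 := ded_19_2 (flp_c L256882) (flp_e L256868) L261959
theorem L261963 : sm gf N33163 = N32970 := ded_20_2 (flp_c L259976) (flp_f L256870) L261959
theorem L261965 : sm gg N33163 = N32984 := ded_21_2 (flp_c L260118) (flp_g L256872) L261959
theorem L261967 : sm gd N32668 = N33163 := ded_28_1 (flp_c L261959) (flp_d L257491) L257495 (flp_d L256810) (flp_c L256820) (flp_d L256876) (flp_a L256874) L256882
theorem L261969 : sm gb N32667 = N33164 := rfl
theorem L261971 : sm gd N33164 = N32669 := ded_14_2 (flp_b L256888) (flp_d L256876) L261969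
theorem L261973 : sm gf N33164 = N33156 := ded_16_2 (flp_b L261891) L259127 L259129 (flp_f L256878) L261969
theorem L261975 : sm gg N33164 = N33158 := ded_17_2 (flp_b L261910) (flp_g L258868) L258870 (flp_g L256880) L261969
theorem L261977 : sm ga N33164 = N33164 := ded_7_1 (flp_b L261969) (flp_a L256874) (flp_b L240786) L213980 L182995 (flp_a L213980) L240786 L256874 L261969
theorem L261978 : sm gc N33164 = N33164 := ded_30_1 (flp_b L261969) (flp_a L256874) L240790 L248842 L248844 L248013 L257830 L257832 (flp_b L248247) (flp_a L253218) L253216 L250522 L250516 L246353 (flp_f L246349) (flp_c L256581) L261891 L261898 (flp_f L261973)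
theorem L261979 : sm gc N32667 = N33165 := rfl
theorem L261981 : sm ga N33165 = N32668 := ded_8_1 (flp_c L256882) L256874 L261979
theorem L261983 : sm gf N33165 = N32972 := ded_20_2 (flp_c L259992) (flp_f L256878) L261979
theorem L261985 : sm gg N33165 = N32986 := ded_21_2 (flp_c L260138) (flp_g L256880) L261979
theorem L261987 : sm gb N33165 = N33165 := ded_13_1 (flp_c L261979) L261969 L261978 (flp_b L261969) L261979
theorem L261988 : sm gc N32670 = N33166 := rfl
theorem L261990 : sm ga N33166 = N32732 := ded_8_1 L257495 (flp_a L256893) L261988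
theorem L261992 : sm gf N33166 = N32977 := ded_20_2 (flp_c L260032) (flp_f L256896) L261988
theorem L261994 : sm gg N33166 = N32961 := ded_21_2 L259876 (flp_g L256898) L261988
theorem L261996 : sm gd N33166 = N33162 := ded_28_7 (flp_a L261951) L261959 (flp_d L261967) (flp_c L256882) L240788 L240800 L256891 L261988
theorem L261998 : sm gb N33166 = N33139 := ded_30_2 L261698 L261702 L255212 (flp_b L255208) (flp_a L255198) L255690 L255686 (flp_b L238235) L233279 L213071 L201324 L201322 L169511 L169533 (flp_c L201368) L230688 (flp_a L248904) (flp_f L256896) L261988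
theorem L262000 : sm ge N32733 = N33166 := ded_10_0 L261990 L257493 L257501
theorem L262002 : sm ge N32670 = N33167 := rfl
theorem L262004 : sm ga N33167 = N32734 := ded_10_1 L257513 (flp_a L256893) L262002
theorem L262006 : sm gb N33167 = N33167 := ded_15_1 (flp_e L262002) L256895 L262002
theorem L262007 : sm gc N33167 = N32733 := ded_19_1 L262000 (flp_c L261988) L262002
theorem L262009 : sm gf N33167 = N32978 := ded_25_2 (flp_e L260044) (flp_f L256896) L262002
theorem L262011 : sm gg N33167 = N32963 := ded_26_2 (flp_e L259894) (flp_g L256898) L262002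
theorem L262013 : sm gb N32672 = N33168 := rfl
theorem L262015 : sm gd N33168 = N32673 := ded_14_2 (flp_b L256921) (flp_d L256915) L262013
theorem L262017 : sm ge N33168 = N33089 := ded_15_2 (flp_b L261218) (flp_e L256917) L262013
theorem L262019 : sm gc N33168 = N33168 := ded_13_2 (flp_b L262013) L256913 L252184 (flp_c L256913) L262013
theorem L262020 : sm gf N33168 = N33138 := ded_16_2 L261693 L255192 (flp_b L240821) L256909 L262013
theorem L262022 : sm gg N33168 = N33140 := ded_17_2 L261707 L255218 (flp_b L241010) (flp_g L256919) L262013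
theorem L262024 : sm ga N33168 = N33168 := ded_7_1 (flp_b L262013) L256911 (flp_b L257519) (flp_a L262004) L262006 L262004 L257519 (flp_a L256911) L262013
theorem L262025 : sm gb N32676 = N33169 := rfl
theorem L262027 : sm gc N33169 = N32989 := ded_13_2 L260170 L251472 L251465 L256957 L262025
theorem L262029 : sm gf N33169 = N33145 := ded_16_2 L261771 L255285 (flp_b L257099) L257101 L262025
theorem L262031 : sm ga N33169 = N33107 := ded_30_3 (flp_f L261808) (flp_c L261802) (flp_b L255354) (flp_a L237649) (flp_f L237647) L210043 L179341 (flp_a L182167) L182205 L182199 L209719 (flp_a L233739) (flp_f L233745) L241714 L241710 (flp_a L241510) L241514 L256957 L262025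
theorem L262033 : sm gf N32677 = N33170 := rfl
theorem L262035 : sm ga N33170 = N33170 := ded_11_1 (flp_f L262033) L256964 L262033
theorem L262036 : sm gc N33170 = N33170 := ded_20_1 (flp_f L262033) L256963 L262033
theorem L262037 : sm gg N32680 = N33170 := ded_31_0 (flp_f L262033) (flp_b L256961) (flp_g L256959) (flp_f L257101) L257099 (flp_g L254984) L257195 (flp_b L257197) L257079 L255030 (flp_b L257091) L257089 L256975 L256979
theorem L262039 : sm gg N32677 = N33171 := rfl
theorem L262041 : sm ga N33171 = N33171 := ded_12_1 (flp_g L262039) L256964 L262039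
theorem L262042 : sm gc N33171 = N33171 := ded_21_1 (flp_g L262039) L256963 L262039
theorem L262043 : sm gd N33171 = N33170 := ded_24_1 (flp_g L262037) L256981 L262039
theorem L262045 : sm ge N33171 = N33170 := ded_26_1 (flp_g L262037) L256983 L262039
theorem L262047 : sm gf N33171 = N32680 := ded_29_0 L262037 (flp_f L262033) L262039 L262041
theorem L262049 : sm gb N32678 = N33172 := rfl
theorem L262051 : sm gg N33172 = N32692 := ded_17_2 (flp_b L257081) L241466 (flp_b L241732) L256969 L262049
theorem L262053 : sm gb N32679 = N33173 := rfl
theorem L262055 : sm gd N33173 = N33172 := ded_14_2 (flp_b L262049) L256977 L262053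
theorem L262057 : sm ge N33173 = N33172 := ded_15_2 (flp_b L262049) (flp_e L256973) L262053
theorem L262059 : sm gc N33173 = N32975 := ded_13_2 L260016 L252482 L252475 L256971 L262053
theorem L262061 : sm gg N33173 = N33148 := ded_17_2 L261810 L255370 (flp_b L257091) L257089 L262053
theorem L262063 : sm ga N33173 = N33106 := ded_30_3 (flp_f L261945) (flp_c L261943) (flp_b L256858) L240770 (flp_f L214080) (flp_c L182983) L145785 L104610 L104422 (flp_c L104420) (flp_b L104185) (flp_a L144955) L181621 (flp_c L202816) L232492 (flp_a L232498) (flp_f L241328) L256971 L262053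
theorem L262065 : sm gb N32681 = N33174 := rfl
theorem L262067 : sm gd N33174 = N33169 := ded_14_2 (flp_b L262025) (flp_d L256991) L262065
theorem L262069 : sm ge N33174 = N33169 := ded_15_2 (flp_b L262025) (flp_e L256993) L262065
theorem L262071 : sm gf N33174 = N32706 := ded_16_2 (flp_b L257199) L241700 (flp_b L241506) L256995 L262065
theorem L262073 : sm gf N32682 = N33175 := rfl
theorem L262075 : sm ga N33175 = N33095 := ded_11_1 L261274 (flp_a L257005) L262073
theorem L262077 : sm gd N33175 = N32895 := ded_23_1 L259206 (flp_d L256999) L262073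
theorem L262079 : sm ge N33175 = N32683 := ded_25_1 (flp_f L257007) (flp_e L257001) L262073
theorem L262081 : sm gg N33175 = N32909 := ded_29_3 L259352 (flp_f L257035) (flp_g L257003) L262073
theorem L262083 : sm gb N33175 = N32894 := ded_16_1 (flp_f L259188) (flp_b L246507) L241418 L256997 L262073
theorem L262085 : sm gb N32685 = N33176 := rfl
theorem L262087 : sm ge N33176 = N32688 := ded_15_2 (flp_b L257039) (flp_e L257023) L262085
theorem L262089 : sm gg N33176 = N33109 := ded_17_2 (flp_b L261410) (flp_g L254574) L254566 (flp_g L257025) L262085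
theorem L262091 : sm gf N32692 = N33177 := rfl
theorem L262093 : sm ga N33177 = N33174 := ded_11_1 L262071 L257201 L262091
theorem L262095 : sm gc N33177 = N33100 := ded_20_1 L261338 L261234 L262091
theorem L262097 : sm gd N33177 = N33107 := ded_23_1 (flp_f L261808) L261812 L262091
theorem L262099 : sm ge N33177 = N33107 := ded_25_1 (flp_f L261808) L261806 L262091
theorem L262101 : sm gg N32696 = N33178 := rfl
theorem L262103 : sm ga N33178 = N33079 := ded_12_1 L261102 (flp_a L257125) L262101
theorem L262105 : sm gd N33178 = N32897 := ded_24_1 L259226 (flp_d L257119) L262101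
theorem L262107 : sm ge N33178 = N32697 := ded_26_1 (flp_g L257127) (flp_e L257121) L262101
theorem L262109 : sm gf N32900 = N33178 := ded_29_0 (flp_g L262101) L257123 L257155 (flp_a L259254)
theorem L262111 : sm gb N33178 = N32905 := ded_17_1 (flp_g L259304) (flp_b L246673) (flp_g L241652) L257117 L262101
theorem L262113 : sm gb N32699 = N33179 := rfl
theorem L262115 : sm ge N33179 = N32702 := ded_15_2 (flp_b L257159) (flp_e L257143) L262113
theorem L262117 : sm gc N33179 = N33176 := ded_13_2 (flp_b L262085) (flp_c L261540) (flp_b L261633) L261627 L262113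
theorem L262119 : sm gf N33179 = N33113 := ded_16_2 (flp_b L261452) (flp_f L254684) L254676 (flp_f L257145) L262113
theorem L262121 : sm gg N32706 = N33180 := rfl
theorem L262123 : sm ga N33180 = N33172 := ded_12_1 L262051 (flp_a L257201) L262121
theorem L262125 : sm gc N33180 = N33090 := ded_21_1 (flp_g L261348) L261346 L262121
theorem L262127 : sm gd N33180 = N33106 := ded_24_1 (flp_g L261769) L261773 L262121
theorem L262129 : sm ge N33180 = N33106 := ded_26_1 (flp_g L261769) L261767 L262121
theorem L262131 : sm gb N32715 = N33181 := rfl
theorem L262133 : sm gd N33181 = N32963 := ded_14_2 L259898 (flp_d L257309) L262131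
theorem L262135 : sm ge N33181 = N32989 := ded_15_2 L260170 (flp_e L257304) L262131
theorem L262137 : sm gc N33181 = N33174 := ded_13_2 (flp_b L262065) L256989 L242195 L257300 L262131
theorem L262139 : sm gf N33181 = N33101 := ded_16_2 (flp_b L261340) (flp_f L252996) (flp_b L255267) (flp_f L257306) L262131
theorem L262141 : sm ga N33181 = N33100 := ded_7_1 (flp_b L261332) L252908 L234875 L249701 (flp_b L249695) (flp_a L230070) (flp_b L242200) (flp_a L257302) L262131
theorem L262143 : sm gb N32721 = N33182 := rfl
theorem L262145 : sm gd N33182 = N32978 := ded_14_2 L260048 (flp_d L257379) L262143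
theorem L262147 : sm ge N33182 = N32975 := ded_15_2 L260016 (flp_e L257374) L262143
theorem L262149 : sm gc N33182 = N33172 := ded_13_2 (flp_b L262049) L256967 L242519 L257370 L262143
theorem L262151 : sm gg N33182 = N33091 := ded_17_2 (flp_b L261228) L252217 (flp_b L255348) (flp_g L257377) L262143
theorem L262153 : sm ga N33182 = N33090 := ded_7_1 (flp_b L261222) L252106 L234723 (flp_a L250761) (flp_b L250755) (flp_a L232142) (flp_b L242524) (flp_a L257372) L262143
theorem L262155 : sm gb N32723 = N33183 := rfl
theorem L262157 : sm ge N33183 = N32725 := ded_15_2 (flp_b L257415) (flp_e L257399) L262155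
theorem L262159 : sm ga N33183 = N33183 := ded_7_1 (flp_b L262155) L257395 (flp_b L260637) L260629 L260375 (flp_a L260629) L260637 (flp_a L257395) L262155
theorem L262160 : sm gb N32729 = N33184 := rfl
theorem L262162 : sm gd N33184 = N33183 := ded_14_2 (flp_b L262155) (flp_d L257464) L262160
theorem L262164 : sm ge N33184 = N32730 := ded_15_2 (flp_b L257470) (flp_e L257466) L262160
theorem L262166 : sm gc N33184 = N33183 := ded_13_2 (flp_b L262155) L257397 L253016 (flp_c L257462) L262160
theorem L262168 : sm ga N33184 = N33184 := ded_7_1 (flp_b L262160) L257460 (flp_b L261010) L261000 L260249 (flp_a L261000) L261010 (flp_a L257460) L262160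
theorem L262169 : sm gc N32736 = N33185 := rfl
theorem L262171 : sm ga N33185 = N33161 := ded_8_1 (flp_c L261943) (flp_a L257536) L262169
theorem L262173 : sm gf N33185 = N33173 := ded_20_2 L262059 L260018 L262169
theorem L262175 : sm gg N33185 = N33169 := ded_21_2 L262027 L260174 L262169
theorem L262177 : sm gb N33185 = N33171 := ded_30_2 L262041 L262047 L256985 (flp_b L256979) (flp_a L252886) L257113 L257111 (flp_b L241526) L232472 (flp_f L203377) L203367 (flp_b L204374) L204372 L225919 (flp_c L234675) L253960 (flp_a L260014) L260018 L262169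
theorem L262179 : sm ge N32736 = N33186 := rfl
theorem L262181 : sm ga N33186 = N33160 := ded_10_1 L261937 (flp_a L257536) L262179
theorem L262183 : sm gb N33186 = N33186 := ded_15_1 (flp_e L262179) L257538 L262179
theorem L262184 : sm gf N33186 = N33182 := ded_25_2 L262147 L260018 L262179
theorem L262186 : sm gg N33186 = N33181 := ded_26_2 L262135 L260174 L262179
theorem L262188 : sm gd N33186 = N33167 := ded_22_1 (flp_e L262002) (flp_d L256891) (flp_e L242866) L257534 L262179
theorem L262190 : sm gb N32737 = N33187 := rfl
theorem L262192 : sm ge N33187 = N32739 := ded_15_2 (flp_b L257553) (flp_e L257541) L262190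
theorem L262194 : sm gf N33187 = N33183 := ded_16_2 (flp_b L262155) (flp_f L257393) (flp_b L242871) L257539 L262190
theorem L262196 : sm gg N33187 = N33184 := ded_17_2 (flp_b L262160) (flp_g L257458) (flp_b L242959) L257543 L262190
theorem L262198 : sm ga N33187 = N33187 := ded_7_1 (flp_b L262190) (flp_a L260612) (flp_b L260602) (flp_a L260579) L260589 L260579 L260602 L260612 L262190
theorem L262199 : sm gb N32749 = N33188 := rfl
theorem L262201 : sm gd N33188 = N32762 := ded_14_2 (flp_b L257798) (flp_d L257656) L262199
theorem L262203 : sm ge N33188 = N33067 := ded_15_2 L260968 (flp_e L257658) L262199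
theorem L262205 : sm gg N33188 = N32762 := ded_17_2 (flp_b L257798) L244213 (flp_b L243715) L257650 L262199
theorem L262207 : sm ga N32750 = N33189 := rfl
theorem L262209 : sm gd N33189 = N32824 := ded_9_2 L258408 (flp_d L257664) L262207
theorem L262211 : sm ge N33189 = N32860 := ded_10_2 L258806 (flp_e L257666) L262207
theorem L262213 : sm gf N33189 = N32881 := ded_11_2 (flp_a L261316) L261314 L262207
theorem L262215 : sm gg N33189 = N32855 := ded_12_2 (flp_a L258756) (flp_g L257668) L262207
theorem L262217 : sm gb N33189 = N32758 := ded_7_2 L257752 L245135 (flp_a L225999) L248113 L257796 (flp_b L257786) L244195 L257662 L262207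
theorem L262219 : sm gc N32755 = N33189 := ded_28_2 L262209 (flp_c L258967) (flp_d L259011) L259015 L258736 (flp_a L261062) L261058 (flp_d L257720)
theorem L262221 : sm gc N32750 = N33190 := rfl
theorem L262223 : sm ga N33190 = N32755 := ded_8_1 L262219 (flp_a L262207) L262221
theorem L262225 : sm ge N33190 = N32861 := ded_19_2 L258820 (flp_e L257666) L262221
theorem L262227 : sm gf N33190 = N32880 := ded_20_2 (flp_c L261312) L261314 L262221
theorem L262229 : sm gg N33190 = N32856 := ded_21_2 (flp_c L258764) (flp_g L257668) L262221
theorem L262231 : sm gb N33190 = N32752 := ded_13_1 (flp_c L257682) (flp_b L243735) (flp_c L243719) L257662 L262221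
theorem L262233 : sm gd N33190 = N32836 := ded_28_3 (flp_c L258680) (flp_d L258736) (flp_c L259015) L259011 (flp_a L261258) L261252 (flp_d L257664) L262221
theorem L262235 : sm gb N32756 = N33191 := rfl
theorem L262237 : sm gd N33191 = N32781 := ded_14_2 (flp_b L257972) (flp_d L257732) L262235
theorem L262239 : sm ge N33191 = N33026 := ded_15_2 L260524 (flp_e L257734) L262235
theorem L262241 : sm gf N33191 = N32781 := ded_16_2 (flp_b L257972) (flp_f L244427) (flp_b L243967) L257726 L262235
theorem L262243 : sm gf N32765 = N33192 := rfl
theorem L262245 : sm gc N33192 = N32766 := ded_20_1 (flp_f L257826) L257818 L262243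
theorem L262247 : sm gd N33192 = N32767 := ded_23_1 (flp_f L257830) (flp_d L257824) L262243
theorem L262249 : sm ge N33192 = N32767 := ded_25_1 (flp_f L257830) (flp_e L257820) L262243
theorem L262251 : sm gb N32767 = N33193 := rfl
theorem L262253 : sm gf N33193 = N33127 := ded_16_2 L261585 (flp_f L261556) (flp_b L254824) L257830 L262251
theorem L262255 : sm ga N33193 = N33127 := ded_7_1 L261585 L261558 (flp_b L257115) L257109 L262053 L262063 L261392 L257944 L262251
theorem L262257 : sm gg N33126 = N33193 := ded_29_1 L262253 (flp_g L261579) L261572 L261578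
theorem L262259 : sm gf N32771 = N33194 := rfl
theorem L262261 : sm ga N33194 = N32773 := ded_11_1 (flp_f L257888) (flp_a L257872) L262259
theorem L262263 : sm gc N33194 = N32772 := ded_20_1 (flp_f L257880) L257870 L262259
theorem L262265 : sm gd N33194 = N32777 := ded_23_1 (flp_f L257934) (flp_d L257878) L262259
theorem L262267 : sm ge N33194 = N32777 := ded_25_1 (flp_f L257934) (flp_e L257874) L262259
theorem L262269 : sm gg N33192 = N33194 := ded_29_1 (flp_f L262259) (flp_g L259632) L259628 L262243
theorem L262271 : sm gb N33194 = N32987 := ded_16_1 (flp_f L260144) L249192 L248381 (flp_b L257876) L262259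
theorem L262273 : sm gg N32773 = N33195 := rfl
theorem L262275 : sm ga N33195 = N33192 := ded_12_1 L262269 L262261 L262273
theorem L262277 : sm gc N33195 = N32774 := ded_21_1 (flp_g L257898) (flp_c L257890) L262273
theorem L262279 : sm gd N33195 = N32778 := ded_24_1 (flp_g L257942) (flp_d L257892) L262273
theorem L262281 : sm ge N33195 = N32778 := ded_26_1 (flp_g L257942) (flp_e L257894) L262273
theorem L262283 : sm gf N32937 = N33195 := ded_29_0 (flp_g L262273) (flp_f L257888) (flp_g L257822) (flp_a L259628)
theorem L262285 : sm gb N33195 = N33180 := ded_17_1 (flp_g L262121) (flp_b L257199) (flp_g L244581) (flp_b L257896) L262273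
theorem L262287 : sm gg N32776 = N33196 := rfl
theorem L262289 : sm ga N33196 = N32779 := ded_12_1 L257958 (flp_a L257932) L262287
theorem L262291 : sm gc N33196 = N32789 := ded_21_1 (flp_g L258030) (flp_c L257930) L262287
theorem L262293 : sm gd N33196 = N32791 := ded_24_1 (flp_g L258050) (flp_d L257926) L262287
theorem L262295 : sm ge N33196 = N32791 := ded_26_1 (flp_g L258050) (flp_e L257928) L262287
theorem L262297 : sm gb N33196 = N32973 := ded_17_1 (flp_g L259996) L248844 L248015 L257924 L262287
theorem L262299 : sm gb N32777 = N33197 := rfl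
theorem L262301 : sm gd N33197 = N32987 := ded_14_2 (flp_b L262271) L262265 L262299
theorem L262303 : sm ge N33197 = N32987 := ded_15_2 (flp_b L262271) L262267 L262299
theorem L262305 : sm gc N33197 = N32985 := ded_13_2 L260136 (flp_c L259710) (flp_b L255420) (flp_c L257938) L262299
theorem L262307 : sm gf N33197 = N32984 := ded_16_2 L260122 L259762 (flp_b L257924) L257934 L262299
theorem L262309 : sm gf N32779 = N33198 := rfl
theorem L262311 : sm gc N33198 = N32790 := ded_20_1 (flp_f L258038) (flp_c L257956) L262309
theorem L262313 : sm gd N33198 = N32792 := ded_23_1 (flp_f L258058) (flp_d L257952) L262309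
theorem L262315 : sm ge N33198 = N32792 := ded_25_1 (flp_f L258058) (flp_e L257954) L262309
theorem L262317 : sm gg N33198 = N32950 := ded_29_3 L259758 L257996 (flp_g L257958) L262309
theorem L262319 : sm gb N33198 = N33177 := ded_16_1 (flp_f L262091) (flp_b L257081) L244367 L257950 L262309
theorem L262321 : sm gg N32784 = N33199 := rfl
theorem L262323 : sm ga N33199 = N33198 := ded_12_1 L262317 L259758 L262321
theorem L262325 : sm gc N33199 = N32785 := ded_21_1 (flp_g L258000) L257992 L262321
theorem L262327 : sm gd N33199 = N32786 := ded_24_1 (flp_g L258004) (flp_d L257998) L262321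
theorem L262329 : sm ge N33199 = N32786 := ded_26_1 (flp_g L258004) (flp_e L257994) L262321
theorem L262331 : sm gf N33196 = N33199 := ded_29_0 (flp_g L262321) L257996 (flp_g L257958) (flp_a L262289)
theorem L262333 : sm gb N32786 = N33200 := rfl
theorem L262335 : sm gg N33200 = N33135 := ded_17_2 L261660 L261570 (flp_b L254909) L258004 L262333
theorem L262337 : sm ga N33200 = N33135 := ded_7_1 L261660 L261566 (flp_b L257211) L257205 L262025 L262031 L261396 L258060 L262333
theorem L262339 : sm gf N33200 = N33134 := ded_29_2 L261653 (flp_a L261647) L261654 (flp_g L262335)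
theorem L262341 : sm gb N32791 = N33201 := rfl
theorem L262343 : sm gd N33201 = N32973 := ded_14_2 (flp_b L262297) L262293 L262341
theorem L262345 : sm ge N33201 = N32973 := ded_15_2 (flp_b L262297) L262295 L262341
theorem L262347 : sm gc N33201 = N32971 := ded_13_2 L259990 (flp_c L259844) (flp_b L255472) (flp_c L258054) L262341
theorem L262349 : sm gg N33201 = N32970 := ded_17_2 L259980 L259632 L257876 L258050 L262341
theorem L262351 : sm ga N33201 = N33197 := ded_7_1 (flp_b L262299) L257936 (flp_b L254962) (flp_a L257187) (flp_b L257197) L257071 L255008 (flp_a L258052) L262341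
theorem L262353 : sm gc N32793 = N33202 := rfl
theorem L262355 : sm ga N33202 = N33130 := ded_8_1 L261609 L260286 L262353
theorem L262357 : sm gf N33202 = N33129 := ded_20_2 L261602 L258898 L262353
theorem L262359 : sm gg N33202 = N33130 := ded_21_2 L261609 L260290 L262353
theorem L262361 : sm gb N33202 = N33199 := ded_13_1 L262325 (flp_b L258085) (flp_c L258077) (flp_b L258068) L262353
theorem L262363 : sm gd N33200 = N33202 := ded_32_21 (flp_c L262353) (flp_d L258066) L244609 (flp_b L227256) (flp_e L221090) L244611 L258077 (flp_d L258083) L249625 (flp_b L242032) L242028 (flp_c L221598) L192413 L192441 L192443 L192477 L221746 L221752 L193475 (flp_b L182593) L182589 (flp_c L153199) (flp_d L182601) (flp_c L213373) L240213 L240215 (flp_c L242206) (flp_d L256545) L256543 L240101 L229444 L215012 L214825 (flp_d L206224) L206214 L201972 L198433 (flp_c L204525) L204527 L224785 L224795 L224837 (flp_c L224843) L204851 L172067 (flp_b L123554) L99003 (flp_c L98995) (flp_d L85999) (flp_c L27516) (flp_b L13384) (flp_d L27259) L85946 L98891 L99279 (flp_b L163814) (flp_e L169195) (flp_d L184868)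 (flp_c L215185) (flp_d L229912) (flp_c L229908) L224907 L224903 (flp_c L200539) (flp_d L197705) (flp_c L211163) (flp_b L211157) L180921 (flp_c L181143) (flp_d L211589) (flp_c L223589) L246417 L246419 (flp_c L247861) (flp_d L247867) (flp_c L258006) L262333
theorem L262365 : sm ge N33202 = N33200 := ded_32_0 L262363 (flp_c L262353) (flp_d L258066) L244609 (flp_b L227256) L227258 L249374 (flp_d L249378) (flp_c L249345) L227252 L220834 (flp_c L200535) L169109 (flp_c L169079) (flp_b L169075) (flp_d L169053) (flp_c L200483) L200485 L193579 L193599 L193601 (flp_c L179727) (flp_d L209771) (flp_c L237439) (flp_b L255267) (flp_e L255265) (flp_d L249122) (flp_c L249130) L227131 (flp_c L209591) L209599 L200593 L200675 L229954 L251724 (flp_b L251754) L251762 L232129 (flp_d L232186) L232184 (flp_b L225459) L197405 L166848 L115622 L95449 (flp_b L84559) (flp_d L95618) (flp_c L115968) (flp_d L167324) (flp_c L197997) L226267 (flp_e L248429) (flp_d L255271) L255269 L251518 (flp_c L247029) L247027 (flp_d L247043) L247039 (flp_d L249136) L249140 (flp_b L249104) L226954 L205079 (flp_d L211471) (flp_c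 L238605) L238613 L221596 L221650 (flp_d L244633) L244631 (flp_b L243897) (flp_d L245201) L258424 (flp_d L258434) (flp_c L262325) (flp_b L262361)
theorem L262367 : sm ge N32793 = N33203 := rfl
theorem L262369 : sm gb N33203 = N32796 := ded_15_1 (flp_e L258089) (flp_b L258068) L262367
theorem L262371 : sm gc N33203 = N33200 := ded_19_1 (flp_e L262365) (flp_c L262353) L262367
theorem L262373 : sm gf N33203 = N33152 := ded_25_2 L261851 L258898 L262367
theorem L262375 : sm gd N33203 = N32995 := ded_22_1 (flp_e L260219) (flp_d L249367) (flp_e L244607) L258066 L262367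
theorem L262377 : sm gc N32806 = N33204 := rfl
theorem L262379 : sm ga N33204 = N33118 := ded_8_1 L261504 L260811 L262377
theorem L262381 : sm gf N33204 = N33118 := ded_20_2 L261504 L260815 L262377
theorem L262383 : sm gg N33204 = N33117 := ded_21_2 L261497 L259146 L262377
theorem L262385 : sm gb N33204 = N33192 := ded_13_1 L262245 (flp_b L258226) (flp_c L258218) (flp_b L258209) L262377
theorem L262387 : sm gd N33193 = N33204 := ded_32_21 (flp_c L262377) (flp_d L258207) L244794 (flp_b L228208) (flp_e L221259) L244796 L258218 (flp_d L258224) L250681 (flp_b L242378) L242374 (flp_c L222034) L192723 L192751 L192753 L192791 L222180 L222186 L193165 (flp_b L182231) L182227 (flp_c L152784) (flp_d L182239) (flp_c L212871) L239735 L239737 (flp_c L242530) (flp_d L256750) L256748 L240589 L231590 L215255 L214677 (flp_d L207271) L207269 L200293 L198076 (flp_c L204504) L204506 L224847 L224857 L224871 (flp_c L224877) L205099 L172372 (flp_b L124017) L99243 (flp_c L99235) (flp_d L86130) (flp_c L27850) L13384 (flp_d L27069) L85854 L98708 L99045 (flp_b L163828) (flp_e L170200) (flp_d L184476) (flp_c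 L214946) (flp_d L232004) (flp_c L231998) L224887 L224883 (flp_c L202180) (flp_d L197885) (flp_c L211354) (flp_b L211348) L181017 (flp_c L181655) (flp_d L212245) (flp_c L223871) L246579 L246581 (flp_c L247991) L247993 (flp_c L257832) L262251
theorem L262389 : sm ge N33204 = N33193 := ded_32_0 L262387 (flp_c L262377) (flp_d L258207) L244794 (flp_b L228208) L228210 L250447 (flp_d L250451) (flp_c L250424) L228204 L220404 (flp_c L202176) L170114 (flp_c L170076) (flp_b L170072) (flp_d L170050) (flp_c L202150) L202152 L193785 L193801 L193803 (flp_c L179945) (flp_d L209973) (flp_c L237585) (flp_b L255348) (flp_e L255346) (flp_d L248780) (flp_c L248784) L226694 (flp_c L209649) L209657 L202234 L202316 L232032 L252666 L252676 L251786 L230046 (flp_d L230180) L230178 (flp_b L225522) L197505 L166931 L115696 L95484 (flp_b L84515) (flp_d L95582) (flp_c L115886) (flp_d L167186) (flp_c L197817) L225981 (flp_e L248061) (flp_d L255352) L255350 L252516 (flp_c L247007) L247005 (flp_d L247021) L247017 (flp_d L248790) L248794 (flp_b L248762) L226543 L204831 (flp_d L211272) (flp_c L238449) (flp_b L238457)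 L222032 L222090 (flp_d L244818) L244816 (flp_b L244141) (flp_d L245517) L258562 (flp_d L258572) (flp_c L262245) (flp_b L262385)
theorem L262391 : sm ge N32806 = N33205 := rfl
theorem L262393 : sm gb N33205 = N32809 := ded_15_1 (flp_e L258230) (flp_b L258209) L262391
theorem L262395 : sm gc N33205 = N33193 := ded_19_1 (flp_e L262389) (flp_c L262377) L262391
theorem L262397 : sm gg N33205 = N33151 := ded_26_2 L261840 L259146 L262391
theorem L262399 : sm gd N33205 = N33049 := ded_22_1 (flp_e L260761) (flp_d L250440) (flp_e L244792) L258207 L262391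
theorem L262401 : sm ga N32853 = N33206 := rfl
theorem L262403 : sm gd N33206 = N33075 := ded_9_2 L261062 (flp_d L258736) L262401
theorem L262405 : sm ge N33206 = N32859 := ded_10_2 (flp_a L258796) (flp_e L258738) L262401
theorem L262407 : sm gf N33206 = N32855 := ded_11_2 (flp_a L258756) (flp_f L258740) L262401
theorem L262409 : sm gg N33206 = N33098 := ded_12_2 L261316 L259047 L262401
theorem L262411 : sm gb N33206 = N33076 := ded_7_2 L261066 L256326 L241210 L232346 L232340 (flp_b L232294) (flp_a L245737) L258734 L262401
theorem L262413 : sm ga N32878 = N33207 := rfl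
theorem L262415 : sm gc N33207 = N33206 := ded_8_2 (flp_a L262401) (flp_c L259015) L262413
theorem L262417 : sm gd N33207 = N33093 := ded_9_2 L261258 (flp_d L259011) L262413
theorem L262419 : sm ge N33207 = N32882 := ded_10_2 (flp_a L259051) (flp_e L259013) L262413
theorem L262421 : sm gf N33207 = N33085 := ded_11_2 L261180 L259019 L262413
theorem L262423 : sm gg N33207 = N32880 := ded_12_2 (flp_a L259035) (flp_g L259017) L262413
theorem L262425 : sm gb N33207 = N33081 := ded_7_2 L261118 L256150 L241218 L230332 L230326 (flp_b L230286) (flp_a L246142) L259009 L262413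
theorem L262427 : sm gb N32901 = N33208 := rfl
theorem L262429 : sm gd N33208 = N33179 := ded_14_2 (flp_b L262113) (flp_d L259268) L262427
theorem L262431 : sm ge N33208 = N33114 := ded_15_2 L261468 (flp_e L259270) L262427
theorem L262433 : sm gc N33208 = N33188 := ded_13_2 (flp_b L262199) L257654 (flp_b L246563) (flp_c L259266) L262427
theorem L262435 : sm gg N33208 = N32903 := ded_17_2 (flp_b L259282) (flp_g L246571) (flp_b L246557) L259262 L262427
theorem L262437 : sm ga N33208 = N33113 := ded_7_1 (flp_b L261452) (flp_a L261140) (flp_b L261128) L251604 L242276 L242266 L257133 (flp_a L259264) L262427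
theorem L262439 : sm gb N32902 = N33209 := rfl
theorem L262441 : sm gd N33209 = N32903 := ded_14_2 (flp_b L259282) (flp_d L259278) L262439
theorem L262443 : sm ge N33209 = N33111 := ded_15_2 L261436 (flp_e L259280) L262439
theorem L262445 : sm gc N33209 = N33109 := ded_13_2 (flp_b L261410) L254576 L254582 (flp_c L259276) L262439
theorem L262447 : sm gf N33209 = N32903 := ded_16_2 (flp_b L259282) L251980 (flp_b L259428) L259424 L262439
theorem L262449 : sm gg N33209 = N33179 := ded_17_2 (flp_b L262113) L259260 L259256 L259272 L262439
theorem L262451 : sm ga N33209 = N33191 := ded_7_1 (flp_b L262235) L257728 L251656 (flp_a L251662) L261142 L261154 (flp_b L258496) (flp_a L259274) L262439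
theorem L262453 : sm gb N32910 = N33210 := rfl
theorem L262455 : sm gd N33210 = N33176 := ded_14_2 (flp_b L262085) (flp_d L259366) L262453
theorem L262457 : sm ge N33210 = N33110 := ded_15_2 L261426 (flp_e L259368) L262453
theorem L262459 : sm gc N33210 = N33191 := ded_13_2 (flp_b L262235) L257730 (flp_b L246721) (flp_c L259364) L262453
theorem L262461 : sm gf N33210 = N32912 := ded_16_2 (flp_b L259382) (flp_f L246737) (flp_b L246715) L259360 L262453
theorem L262463 : sm ga N33210 = N33109 := ded_7_1 (flp_b L261410) (flp_a L261082) L261084 L251455 L241912 L241902 L257013 (flp_a L259362) L262453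
theorem L262465 : sm gb N32911 = N33211 := rfl
theorem L262467 : sm gd N33211 = N32912 := ded_14_2 (flp_b L259382) (flp_d L259378) L262465
theorem L262469 : sm ge N33211 = N33115 := ded_15_2 L261478 (flp_e L259380) L262465
theorem L262471 : sm gc N33211 = N33113 := ded_13_2 (flp_b L261452) L254686 L254692 (flp_c L259376) L262465
theorem L262473 : sm gf N33211 = N33176 := ded_16_2 (flp_b L262085) L259358 L259354 L259372 L262465
theorem L262475 : sm gg N33211 = N32912 := ded_17_2 (flp_b L259382) (flp_g L252836) (flp_b L259407) L259405 L262465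
theorem L262477 : sm ga N33211 = N33188 := ded_7_1 (flp_b L262199) L257652 L252610 (flp_a L252616) L261278 L261290 (flp_b L258358) (flp_a L259374) L262465
theorem L262479 : sm gg N32913 = N33212 := rfl
theorem L262481 : sm ga N33212 = N33205 := ded_12_1 L262397 L261843 L262479
theorem L262483 : sm gc N33212 = N33127 := ded_21_1 (flp_g L261579) (flp_c L259394) L262479
theorem L262485 : sm gd N33212 = N33048 := ded_24_1 L260755 (flp_d L259392) L262479
theorem L262487 : sm ge N33212 = N33053 := ded_26_1 (flp_g L261491) L261486 L262479
theorem L262489 : sm gf N33205 = N33212 := ded_29_0 (flp_g L262479) L259396 L262479 L262481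
theorem L262491 : sm gb N33212 = N33055 := ded_17_1 (flp_g L260838) (flp_b L253750) (flp_g L246819) L259390 L262479
theorem L262493 : sm gf N32915 = N33213 := rfl
theorem L262495 : sm ga N33213 = N33203 := ded_11_1 L262373 L261854 L262493
theorem L262497 : sm gc N33213 = N33135 := ded_20_1 (flp_f L261654) (flp_c L259415) L262493
theorem L262499 : sm gd N33213 = N32994 := ded_23_1 L260217 (flp_d L259413) L262493
theorem L262501 : sm ge N33213 = N33001 := ded_25_1 (flp_f L261595) L261591 L262493
theorem L262503 : sm gg N33213 = N33203 := ded_29_3 (flp_a L262495) (flp_f L262493) L259417 L262493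
theorem L262505 : sm gb N33213 = N33003 := ded_16_1 (flp_f L260311) (flp_b L253383) (flp_f L246927) L259411 L262493
theorem L262507 : sm ge N32930 = N33214 := rfl
theorem L262509 : sm ga N33214 = N32931 := ded_10_1 (flp_e L259570) (flp_a L259560) L262507
theorem L262511 : sm gb N33214 = N33062 := ded_15_1 (flp_e L260906) (flp_b L259562) L262507
theorem L262513 : sm gc N33214 = N33051 := ded_19_1 L260789 L259568 L262507
theorem L262515 : sm gf N33214 = N32931 := ded_25_2 (flp_e L259570) (flp_f L259564) L262507
theorem L262517 : sm gg N33214 = N33050 := ded_26_2 L260777 (flp_g L259566) L262507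
theorem L262519 : sm gd N33214 = N33214 := ded_22_1 (flp_e L262507) (flp_d L259558) L247647 L259558 L262507
theorem L262520 : sm ge N32933 = N33215 := rfl
theorem L262522 : sm ga N33215 = N32934 := ded_10_1 (flp_e L259601) (flp_a L259591) L262520
theorem L262524 : sm gb N33215 = N33017 := ded_15_1 (flp_e L260440) (flp_b L259593) L262520
theorem L262526 : sm gc N33215 = N32999 := ded_19_1 L260266 L259599 L262520
theorem L262528 : sm gf N33215 = N32998 := ded_25_2 L260254 (flp_f L259595) L262520
theorem L262530 : sm gg N33215 = N32934 := ded_26_2 (flp_e L259601) (flp_g L259597) L262520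
theorem L262532 : sm gd N33215 = N33215 := ded_22_1 (flp_e L262520) (flp_d L259589) L247662 L259589 L262520
theorem L262533 : sm gf N32943 = N33216 := rfl
theorem L262535 : sm ga N33216 = N32946 := ded_11_1 (flp_f L259712) (flp_a L259684) L262533
theorem L262537 : sm gc N33216 = N32944 := ded_20_1 (flp_f L259694) L259682 L262533
theorem L262539 : sm gd N33216 = N33149 := ded_23_1 (flp_f L261814) L259692 L262533
theorem L262541 : sm ge N33216 = N33104 := ded_25_1 (flp_f L261370) (flp_e L259686) L262533
theorem L262543 : sm gg N33216 = N33105 := ded_29_3 (flp_a L261736) L261732 (flp_g L259688) L262533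
theorem L262545 : sm gg N32956 = N33217 := rfl
theorem L262547 : sm ga N33217 = N32959 := ded_12_1 (flp_g L259848) (flp_a L259818) L262545
theorem L262549 : sm gc N33217 = N32957 := ded_21_1 (flp_g L259828) L259816 L262545
theorem L262551 : sm gd N33217 = N33150 := ded_24_1 (flp_g L261824) L259826 L262545
theorem L262553 : sm ge N33217 = N33103 := ded_26_1 L261368 (flp_e L259820) L262545
theorem L262555 : sm gf N33102 = N33217 := ded_29_0 (flp_g L262545) L259822 (flp_g L261720) L261722
theorem L262557 : sm gb N33217 = N33216 := ded_17_1 L262543 (flp_b L261380) (flp_g L253671) (flp_b L259824) L262545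
theorem L262559 : sm gc N32969 = N33218 := rfl
theorem L262561 : sm ga N33218 = N32970 := ded_8_1 (flp_c L259976) L259972 L262559
theorem L262563 : sm ge N33218 = N32972 := ded_19_2 (flp_c L259992) (flp_e L259974) L262559
theorem L262565 : sm gg N33218 = N33197 := ded_21_2 L262305 L260134 L262559
theorem L262567 : sm gb N33218 = N33126 := ded_13_1 L261845 (flp_b L261836) L260066 L260058 L262559
theorem L262569 : sm gd N33218 = N32972 := ded_28_7 L259994 (flp_c L248842) L226639 L226667 L248902 L260032 L260040 L262559
theorem L262571 : sm gc N32983 = N33219 := rfl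
theorem L262573 : sm ga N33219 = N32984 := ded_8_1 (flp_c L260118) L260108 L262571
theorem L262575 : sm ge N33219 = N32986 := ded_19_2 (flp_c L260138) (flp_e L260112) L262571
theorem L262577 : sm gf N33219 = N33201 := ded_20_2 L262347 (flp_f L260114) L262571
theorem L262579 : sm gb N33219 = N33134 := ded_13_1 L261856 (flp_b L261847) L259892 (flp_b L260116) L262571
theorem L262581 : sm gd N33219 = N32986 := ded_28_7 L260140 (flp_c L249190) L227064 L227094 (flp_d L248607) (flp_c L259876) (flp_d L260110) L262571
theorem L262583 : sm gb N33007 = N33220 := rfl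
theorem L262585 : sm ge N33220 = N33008 := ded_15_2 (flp_b L260359) (flp_e L260355) L262583
theorem L262587 : sm ga N33220 = N33064 := ded_30_3 L260938 L260470 (flp_b L260376) (flp_a L249783) (flp_f L249603) L260272 L260280 (flp_a L257403) L257411 (flp_c L253072) (flp_b L261186) L261184 L251860 (flp_c L251858) L251856 (flp_a L260343) (flp_f L260657) L260653 L262583
theorem L262589 : sm ga N33010 = N33221 := rfl
theorem L262591 : sm ge N33221 = N33013 := ded_10_2 (flp_a L260402) (flp_e L260378) L262589
theorem L262593 : sm gg N33073 = N33221 := ded_29_3 (flp_a L262589) (flp_f L260476) (flp_g L260950) (flp_f L261042)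
theorem L262595 : sm gg N33010 = N33222 := rfl
theorem L262597 : sm ga N33222 = N33073 := ded_12_1 L262593 (flp_a L262589) L262595
theorem L262599 : sm gc N33222 = N33040 := ded_21_1 L260665 L260470 L262595
theorem L262601 : sm gd N33222 = N33221 := ded_24_1 (flp_g L262593) L261038 L262595
theorem L262603 : sm ge N33222 = N33014 := ded_26_1 (flp_g L260408) (flp_e L260378) L262595
theorem L262605 : sm ga N33020 = N33223 := rfl
theorem L262607 : sm gc N33223 = N33221 := ded_8_2 (flp_a L262589) (flp_c L260470) L262605
theorem L262609 : sm gd N33223 = N33220 := ded_9_2 L262587 L260932 L262605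
theorem L262611 : sm ge N33223 = N33022 := ded_10_2 (flp_a L260478) (flp_e L260468) L262605
theorem L262613 : sm gf N33223 = N33220 := ded_11_2 L262587 L260938 L262605
theorem L262615 : sm gb N33068 = N33223 := ded_30_2 (flp_a L262605) (flp_f L260938) L260936 (flp_b L260472) L249975 (flp_f L249971) L249917 L232869 L203205 (flp_f L227662) (flp_c L249571) L249569 (flp_a L229031) L232961 (flp_c L232959) (flp_b L251063) L251057 (flp_f L251247) (flp_c L260976)
theorem L262617 : sm ga N33021 = N33224 := rfl
theorem L262619 : sm gc N33224 = N33220 := ded_8_2 L262587 L260936 L262617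
theorem L262621 : sm ge N33224 = N33023 := ded_10_2 (flp_a L260488) (flp_e L260474) L262617
theorem L262623 : sm gf N33224 = N33221 := ded_11_2 (flp_a L262589) (flp_f L260476) L262617
theorem L262625 : sm gb N33224 = N33058 := ded_7_2 L260870 (flp_b L251079) (flp_a L260974) L262615 (flp_a L262605) (flp_b L260466) (flp_a L249975) L260472 L262617
theorem L262627 : sm gb N33027 = N33225 := rfl
theorem L262629 : sm gd N33225 = N33224 := ded_14_2 L262625 L260872 L262627
theorem L262631 : sm ge N33225 = N33028 := ded_15_2 (flp_b L260538) (flp_e L260534) L262627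
theorem L262633 : sm gg N33225 = N33224 := ded_17_2 L262625 (flp_g L260868) L250769 L260528 L262627
theorem L262635 : sm ga N33225 = N33065 := ded_7_1 (flp_b L260942) L251005 L260930 (flp_a L262587) (flp_b L262583) L260353 (flp_b L250049) (flp_a L260530) L262627
theorem L262637 : sm gf N33222 = N33225 := ded_31_1 (flp_b L262627) (flp_g L260528) (flp_f L250035) L250037 (flp_g L228075) L199271 (flp_b L199267) L199272 (flp_f L199278) (flp_b L227642) L249739 (flp_f L249787) L260376 L262595
theorem L262639 : sm gb N33034 = N33226 := rfl
theorem L262641 : sm gd N33226 = N33187 := ded_14_2 (flp_b L262190) (flp_d L260596) L262639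
theorem L262643 : sm ge N33226 = N33036 := ded_15_2 (flp_b L260616) (flp_e L260598) L262639
theorem L262645 : sm gc N33226 = N33187 := ded_13_2 (flp_b L262190) L260614 (flp_b L260602) (flp_c L260594) L262639
theorem L262647 : sm gf N33226 = N33184 := ded_16_2 (flp_b L262160) (flp_f L257468) L257385 L260590 L262639
theorem L262649 : sm gg N33226 = N33183 := ded_17_2 (flp_b L262155) L257442 L257434 (flp_g L260600) L262639
theorem L262651 : sm ga N33226 = N33226 := ded_7_1 (flp_b L262639) L260592 (flp_b L250169) (flp_a L250137) L250144 L250137 L250169 (flp_a L260592) L262639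
theorem L262652 : sm ga N33040 = N33227 := rfl
theorem L262654 : sm gc N33227 = N33073 := ded_8_2 (flp_a L262597) L262599 L262652
theorem L262656 : sm ge N33227 = N33041 := ded_10_2 (flp_a L260667) (flp_e L260663) L262652
theorem L262658 : sm gg N33227 = N33223 := ded_12_2 (flp_a L262605) (flp_g L260665) L262652
theorem L262660 : sm gf N33227 = N33059 := ded_29_0 (flp_g L260940) L260938 (flp_g L260665) L262652
theorem L262662 : sm gb N33227 = N33221 := ded_7_2 (flp_a L262589) (flp_b L260376) (flp_a L249783) (flp_b L227694) (flp_a L199274) L228079 L250254 L260661 L262652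
theorem L262664 : sm gf N33040 = N33228 := rfl
theorem L262666 : sm ga N33228 = N33059 := ded_11_1 (flp_f L262660) (flp_a L262652) L262664
theorem L262668 : sm gc N33228 = N33225 := ded_20_1 (flp_f L262637) L262599 L262664
theorem L262670 : sm gd N33228 = N33227 := ded_23_1 L262660 L260880 L262664
theorem L262672 : sm ge N33228 = N33042 := ded_25_1 (flp_f L260679) (flp_e L260663) L262664
theorem L262674 : sm gg N33228 = N33220 := ded_29_3 L262587 L260938 (flp_g L260665) L262664
theorem L262676 : sm gb N33228 = N33222 := ded_16_1 L262637 (flp_b L262627) (flp_f L260536) L260661 L262664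
theorem L262678 : sm ge N33044 = N33229 := rfl
theorem L262680 : sm ga N33229 = N33179 := ded_10_1 L262115 (flp_a L260707) L262678
theorem L262682 : sm gb N33229 = N33112 := ded_15_1 L261448 (flp_b L260709) L262678
theorem L262684 : sm gf N33229 = N33208 := ded_25_2 L262431 L261462 L262678
theorem L262686 : sm gg N33229 = N33191 := ded_26_2 L262239 (flp_g L260711) L262678
theorem L262688 : sm gd N33229 = N33113 := ded_22_1 L261454 L254726 L250833 L260705 L262678
theorem L262690 : sm ge N33074 = N33230 := rfl
theorem L262692 : sm ga N33230 = N33176 := ded_10_1 L262087 (flp_a L261046) L262690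
theorem L262694 : sm gb N33230 = N33108 := ded_15_1 L261406 (flp_b L261048) L262690
theorem L262696 : sm gc N33230 = N33229 := ded_19_1 (flp_e L262678) L261052 L262690
theorem L262698 : sm gf N33230 = N33188 := ded_25_2 L262203 (flp_f L261050) L262690
theorem L262700 : sm gg N33230 = N33210 := ded_26_2 L262457 L261422 L262690
theorem L262702 : sm gd N33230 = N33109 := ded_22_1 L261412 L254616 (flp_e L251269) L261044 L262690
theorem L262704 : sm gb N33118 = N33231 := rfl
theorem L262706 : sm gd N33231 = N33124 := ded_14_2 (flp_b L261585) L261581 L262704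
theorem L262708 : sm ge N33231 = N33124 := ded_15_2 (flp_b L261585) L261583 L262704
theorem L262710 : sm gc N33231 = N33175 := ded_13_2 L262083 L259192 (flp_b L260813) (flp_c L261504) L262704
theorem L262712 : sm gf N33231 = N33120 := ded_16_2 (flp_b L261524) L262243 (flp_b L262385) L262381 L262704
theorem L262714 : sm gg N33231 = N33119 := ded_17_2 (flp_b L261506) (flp_g L254752) L254740 L261502 L262704
theorem L262716 : sm ga N33231 = N33121 := ded_7_1 L261534 L261208 L262049 (flp_a L262123) (flp_b L262285) L262275 (flp_b L262385) L262379 L262704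
theorem L262718 : sm gf N33123 = N33232 := rfl
theorem L262720 : sm ga N33232 = N33133 := ded_11_1 (flp_f L261684) L261688 L262718
theorem L262722 : sm gc N33232 = N33178 := ded_20_1 (flp_f L262109) (flp_c L261554) L262718
theorem L262724 : sm gd N33232 = N33125 := ded_23_1 (flp_f L261564) (flp_d L261550) L262718
theorem L262726 : sm ge N33232 = N33125 := ded_25_1 (flp_f L261564) (flp_e L261552) L262718
theorem L262728 : sm gg N33232 = N33131 := ded_29_3 (flp_a L261611) L261623 (flp_g L261635) L262718
theorem L262730 : sm gb N33232 = N33130 := ded_16_1 (flp_f L261607) (flp_b L254892) L254804 L261548 L262718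
theorem L262732 : sm gg N33138 = N33233 := rfl
theorem L262734 : sm ga N33233 = N33233 := ded_12_1 (flp_g L262732) L261692 L262732
theorem L262735 : sm gc N33233 = N33233 := ded_21_1 (flp_g L262732) L261695 L262732
theorem L262736 : sm gd N33233 = N33139 := ded_24_1 (flp_g L261696) L261690 L262732
theorem L262738 : sm ge N33233 = N33164 := ded_26_1 L261975 L261914 L262732
theorem L262740 : sm gf N33233 = N33140 := ded_29_0 (flp_g L262022) L262020 L262732 L262734
theorem L262742 : sm gb N33233 = N33162 := ded_17_1 L261957 L260116 L259888 (flp_b L261693) L262732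
theorem L262744 : sm gc N33160 = N33234 := rfl
theorem L262746 : sm ge N33234 = N33161 := ded_19_2 (flp_c L261943) (flp_e L261937) L262744
theorem L262748 : sm gf N33234 = N33180 := ded_20_2 L262125 (flp_f L261939) L262744
theorem L262750 : sm gg N33234 = N33177 := ded_21_2 L262095 (flp_g L261941) L262744
theorem L262752 : sm gb N33234 = N33163 := ded_13_1 (flp_c L261959) (flp_b L256866) (flp_c L256850) L261933 L262744
theorem L262754 : sm gd N33234 = N33161 := ded_28_7 (flp_a L262171) (flp_c L262169) (flp_d L257534) (flp_c L242864) (flp_d L242858) L257511 (flp_d L261935) L262744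
theorem L262756 : sm gc N33162 = N33235 := rfl
theorem L262758 : sm ga N33235 = N33163 := ded_8_1 (flp_c L261959) L261951 L262756
theorem L262760 : sm ge N33235 = N33165 := ded_19_2 (flp_c L261979) (flp_e L261953) L262756
theorem L262762 : sm gf N33235 = N33218 := ded_20_2 (flp_c L262559) (flp_f L261955) L262756
theorem L262764 : sm gg N33235 = N33219 := ded_21_2 (flp_c L262571) (flp_g L261957) L262756
theorem L262766 : sm gb N33235 = N33235 := ded_13_1 (flp_c L262756) (flp_b L262742) L262735 L262742 L262756
theorem L262767 : sm gd N33235 = N33165 := ded_28_7 L261981 (flp_c L256882) L240788 L240800 L256891 L261988 L261996 L262756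
theorem L262769 : sm gb N33170 = N33236 := rfl
theorem L262771 : sm gd N33236 = N33185 := ded_14_2 L262177 L262043 L262769
theorem L262773 : sm ge N33236 = N33185 := ded_15_2 L262177 L262045 L262769
theorem L262775 : sm gf N33236 = N33172 := ded_16_2 (flp_b L262049) (flp_f L256965) L256961 L262033 L262769
theorem L262777 : sm gg N33236 = N33174 := ded_17_2 (flp_b L262065) (flp_g L256987) L256979 L262037 L262769
theorem L262779 : sm ga N33236 = N33234 := ded_30_3 L262748 L262125 (flp_b L261222) L252106 (flp_f L234719) (flp_c L234697) L234695 (flp_a L247598) L252562 L252556 (flp_b L252042) L252034 (flp_f L241320) L241318 L256961 L256964 L262033 L262036 L262769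
theorem L262781 : sm gc N33186 = N33236 := ded_30_1 (flp_b L262769) L262035 (flp_f L262033) L256963 (flp_b L256961) (flp_a L252028) L261206 L261210 L252042 L231700 L203375 (flp_c L233105) (flp_b L234695) L234693 (flp_f L247227) (flp_c L252108) L261222 (flp_a L262153) (flp_f L262184)

end Cfsg.Agent.Helper28.SzbA
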