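import Cfsg.Agent.Helper28.SzbB2

/-! # The Suzuki group presentation, cosets of the subgroup generated by a, b, c, d, f, g: the coset enumeration, part 3 (helper28; generated) -/

set_option autoImplicit false

noncomputable section

namespace Cfsg.Agent.Helper28.SzbA

open Cfsg.Agent.Helper28.CosetTable

def N21938 : Q := sm gg N16611
def N21939 : Q := sm gg N16617
def N21940 : Q := sm gg N16619
def N21941 : Q := sm gb N16620
def N21942 : Q := sm gc N16621
def N21943 : Q := sm gb N16623
def N21944 : Q := sm gf N16623
def N21945 : Q := sm gc N16624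
def N21946 : Q := sm gf N16624
def N21947 : Q := sm gb N16625
def N21948 : Q := sm gf N16635
def N21949 : Q := sm gf N16639
def N21950 : Q := sm gb N16640
def N21951 : Q := sm gc N16641
def N21952 : Q := sm gb N16647
def N21953 : Q := sm gg N16647
def N21954 : Q := sm gc N16648
def N21955 : Q := sm gg N16648
def N21956 : Q := sm gb N16649
def N21957 : Q := sm gg N16657
def N21958 : Q := sm ge N16660
def N21959 : Q := sm gf N16661
def N21960 : Q := sm gg N16661
def N21961 : Q := sm gg N16662
def N21962 : Q := sm gb N16664
def N21963 : Q := sm gb N16665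
def N21964 : Q := sm gc N16667
def N21965 : Q := sm gf N16669
def N21966 : Q := sm gd N16670
def N21967 : Q := sm gf N16670
def N21968 : Q := sm gc N16672
def N21969 : Q := sm ge N16672
def N21970 : Q := sm gf N16672
def N21971 : Q := sm gb N16673
def N21972 : Q := sm gd N16676
def N21973 : Q := sm gf N16676
def N21974 : Q := sm gg N16676
def N21975 : Q := sm gc N16677
def N21976 : Q := sm ge N16677
def N21977 : Q := sm gf N16678
def N21978 : Q := sm gf N16679
def N21979 : Q := sm gb N16680
def N21980 : Q := sm ga N16681
def N21981 : Q := sm gb N16685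
def N21982 : Q := sm gd N16685
def N21983 : Q := sm gg N16685
def N21984 : Q := sm ge N16686
def N21985 : Q := sm gf N16686
def N21986 : Q := sm gb N16687
def N21987 : Q := sm gf N16689
def N21988 : Q := sm gf N16690
def N21989 : Q := sm gb N16691
def N21990 : Q := sm ga N16692
def N21991 : Q := sm gg N16692
def N21992 : Q := sm gg N16696
def N21993 : Q := sm gb N16697
def N21994 : Q := sm gg N16697
def N21995 : Q := sm gc N16698
def N21996 : Q := sm gg N16698
def N21997 : Q := sm gb N16699
def N21998 : Q := sm gb N16701
def N21999 : Q := sm ga N16702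
def N22000 : Q := sm gc N16702
def N22001 : Q := sm gf N16721
def N22002 : Q := sm ge N16724
def N22003 : Q := sm gf N16725
def N22004 : Q := sm gg N16725
def N22005 : Q := sm gf N16727
def N22006 : Q := sm gb N16728
def N22007 : Q := sm gb N16729
def N22008 : Q := sm gc N16733
def N22009 : Q := sm gg N16740
def N22010 : Q := sm gd N16742
def N22011 : Q := sm gg N16742
def N22012 : Q := sm gc N16747
def N22013 : Q := sm ge N16747
def N22014 : Q := sm gg N16747
def N22015 : Q := sm gb N16748
def N22016 : Q := sm gd N16751
def N22017 : Q := sm gf N16751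
def N22018 : Q := sm gg N16751
def N22019 : Q := sm gc N16752
def N22020 : Q := sm ge N16752
def N22021 : Q := sm gg N16753
def N22022 : Q := sm gg N16754
def N22023 : Q := sm gb N16755
def N22024 : Q := sm ga N16756
def N22025 : Q := sm gb N16761
def N22026 : Q := sm gd N16761
def N22027 : Q := sm gf N16761
def N22028 : Q := sm ge N16762
def N22029 : Q := sm gg N16762
def N22030 : Q := sm gb N16764
def N22031 : Q := sm gg N16765
def N22032 : Q := sm gg N16766
def N22033 : Q := sm gb N16767
def N22034 : Q := sm ga N16768
def N22035 : Q := sm gf N16768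
def N22036 : Q := sm gf N16772
def N22037 : Q := sm gb N16773
def N22038 : Q := sm gf N16773
def N22039 : Q := sm gc N16774
def N22040 : Q := sm gf N16774
def N22041 : Q := sm gb N16775
def N22042 : Q := sm gb N16776
def N22043 : Q := sm ga N16777
def N22044 : Q := sm gc N16777
def N22045 : Q := sm gd N16779
def N22046 : Q := sm ga N16781
def N22047 : Q := sm gc N16781
def N22048 : Q := sm gf N16781
def N22049 : Q := sm gb N16783
def N22050 : Q := sm ga N16784
def N22051 : Q := sm gc N16784
def N22052 : Q := sm gf N16784
def N22053 : Q := sm gb N16785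
def N22054 : Q := sm ga N16786
def N22055 : Q := sm gc N16786
def N22056 : Q := sm gf N16786
def N22057 : Q := sm gb N16787
def N22058 : Q := sm gc N16787
def N22059 : Q := sm gf N16787
def N22060 : Q := sm gd N16788
def N22061 : Q := sm gf N16788
def N22062 : Q := sm gg N16789
def N22063 : Q := sm gc N16790
def N22064 : Q := sm gg N16790
def N22065 : Q := sm gd N16792
def N22066 : Q := sm gc N16793
def N22067 : Q := sm ge N16793
def N22068 : Q := sm gf N16793
def N22069 : Q := sm gb N16794
def N22070 : Q := sm gd N16795
def N22071 : Q := sm gf N16796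
def N22072 : Q := sm gg N16796
def N22073 : Q := sm gf N16797
def N22074 : Q := sm gg N16797
def N22075 : Q := sm gb N16799
def N22076 : Q := sm ga N16800
def N22077 : Q := sm gc N16800
def N22078 : Q := sm gf N16800
def N22079 : Q := sm gg N16802
def N22080 : Q := sm gf N16803
def N22081 : Q := sm gg N16803
def N22082 : Q := sm gg N16804
def N22083 : Q := sm gf N16805
def N22084 : Q := sm gg N16806
def N22085 : Q := sm gb N16807
def N22086 : Q := sm gf N16807
def N22087 : Q := sm gb N16808
def N22088 : Q := sm ga N16809
def N22089 : Q := sm gc N16811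
def N22090 : Q := sm gb N16812
def N22091 : Q := sm gc N16812
def N22092 : Q := sm gd N16813
def N22093 : Q := sm ga N16816
def N22094 : Q := sm gf N16816
def N22095 : Q := sm gb N16817
def N22096 : Q := sm gf N16817
def N22097 : Q := sm gg N16819
def N22098 : Q := sm gc N16820
def N22099 : Q := sm gb N16821
def N22100 : Q := sm gd N16821
def N22101 : Q := sm gf N16821
def N22102 : Q := sm gc N16823
def N22103 : Q := sm ge N16823
def N22104 : Q := sm gd N16826
def N22105 : Q := sm gc N16828
def N22106 : Q := sm ge N16828
def N22107 : Q := sm gf N16828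
def N22108 : Q := sm gb N16829
def N22109 : Q := sm gb N16830
def N22110 : Q := sm gd N16830
def N22111 : Q := sm ge N16830
def N22112 : Q := sm gf N16831
def N22113 : Q := sm ga N16833
def N22114 : Q := sm gg N16833
def N22115 : Q := sm gg N16834
def N22116 : Q := sm gb N16835
def N22117 : Q := sm gc N16836
def N22118 : Q := sm gf N16836
def N22119 : Q := sm gc N16838
def N22120 : Q := sm gf N16838
def N22121 : Q := sm gb N16839
def N22122 : Q := sm gc N16840
def N22123 : Q := sm gf N16841
def N22124 : Q := sm gc N16843
def N22125 : Q := sm gb N16844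
def N22126 : Q := sm gb N16846
def N22127 : Q := sm ga N16847
def N22128 : Q := sm gc N16847
def N22129 : Q := sm gg N16847
def N22130 : Q := sm ga N16848
def N22131 : Q := sm gc N16848
def N22132 : Q := sm gf N16848
def N22133 : Q := sm gg N16848
def N22134 : Q := sm ga N16849
def N22135 : Q := sm gc N16849
def N22136 : Q := sm gg N16850
def N22137 : Q := sm gc N16853
def N22138 : Q := sm gg N16855
def N22139 : Q := sm ga N16857
def N22140 : Q := sm gd N16857
def N22141 : Q := sm gf N16857
def N22142 : Q := sm ge N16858
def N22143 : Q := sm gb N16859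
def N22144 : Q := sm ge N16859
def N22145 : Q := sm ga N16861
def N22146 : Q := sm gc N16861
def N22147 : Q := sm gg N16861
def N22148 : Q := sm gc N16862
def N22149 : Q := sm gd N16863
def N22150 : Q := sm gg N16864
def N22151 : Q := sm gc N16866
def N22152 : Q := sm ge N16866
def N22153 : Q := sm gg N16866
def N22154 : Q := sm gb N16867
def N22155 : Q := sm gf N16867
def N22156 : Q := sm gb N16868
def N22157 : Q := sm gd N16869
def N22158 : Q := sm ga N16870
def N22159 : Q := sm gd N16870
def N22160 : Q := sm gf N16870
def N22161 : Q := sm gg N16870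
def N22162 : Q := sm ge N16871
def N22163 : Q := sm gb N16873
def N22164 : Q := sm gd N16874
def N22165 : Q := sm gg N16874
def N22166 : Q := sm gc N16875
def N22167 : Q := sm ge N16875
def N22168 : Q := sm gf N16875
def N22169 : Q := sm gg N16875
def N22170 : Q := sm gg N16876
def N22171 : Q := sm ge N16878
def N22172 : Q := sm ga N16880
def N22173 : Q := sm ge N16880
def N22174 : Q := sm gf N16880
def N22175 : Q := sm gg N16880
def N22176 : Q := sm ge N16881
def N22177 : Q := sm gd N16882
def N22178 : Q := sm gf N16882
def N22179 : Q := sm gb N16883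
def N22180 : Q := sm gb N16884
def N22181 : Q := sm ga N16885
def N22182 : Q := sm gg N16885
def N22183 : Q := sm gb N16886
def N22184 : Q := sm gc N16886
def N22185 : Q := sm gg N16886
def N22186 : Q := sm gd N16887
def N22187 : Q := sm gg N16887
def N22188 : Q := sm gf N16888
def N22189 : Q := sm gd N16889
def N22190 : Q := sm gb N16891
def N22191 : Q := sm ge N16893
def N22192 : Q := sm gb N16894
def N22193 : Q := sm gg N16896
def N22194 : Q := sm gb N16897
def N22195 : Q := sm gf N16898
def N22196 : Q := sm gb N16899
def N22197 : Q := sm gg N16900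
def N22198 : Q := sm gb N16902
def N22199 : Q := sm gb N16903
def N22200 : Q := sm gg N16904
def N22201 : Q := sm ge N16905
def N22202 : Q := sm gb N16906
def N22203 : Q := sm gg N16906
def N22204 : Q := sm gb N16907
def N22205 : Q := sm gb N16910
def N22206 : Q := sm ga N16912
def N22207 : Q := sm gc N16912
def N22208 : Q := sm gg N16912
def N22209 : Q := sm gd N16915
def N22210 : Q := sm gd N16916
def N22211 : Q := sm gg N16916
def N22212 : Q := sm ge N16917
def N22213 : Q := sm gg N16917
def N22214 : Q := sm gb N16919
def N22215 : Q := sm gb N16920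
def N22216 : Q := sm ge N16920
def N22217 : Q := sm gg N16920
def N22218 : Q := sm gf N16921
def N22219 : Q := sm gg N16921
def N22220 : Q := sm gg N16922
def N22221 : Q := sm gf N16923
def N22222 : Q := sm gc N16924
def N22223 : Q := sm gg N16924
def N22224 : Q := sm gb N16925
def N22225 : Q := sm ga N16927
def N22226 : Q := sm ge N16927
def N22227 : Q := sm gf N16927
def N22228 : Q := sm gg N16927
def N22229 : Q := sm gd N16928
def N22230 : Q := sm gf N16928
def N22231 : Q := sm gd N16931
def N22232 : Q := sm gf N16932
def N22233 : Q := sm ge N16933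
def N22234 : Q := sm gb N16934
def N22235 : Q := sm gd N16934
def N22236 : Q := sm ge N16934
def N22237 : Q := sm gf N16934
def N22238 : Q := sm gg N16934
def N22239 : Q := sm gc N16935
def N22240 : Q := sm ge N16935
def N22241 : Q := sm gf N16935
def N22242 : Q := sm gg N16935
def N22243 : Q := sm gd N16936
def N22244 : Q := sm gf N16936
def N22245 : Q := sm gg N16936
def N22246 : Q := sm gg N16937
def N22247 : Q := sm gf N16938
def N22248 : Q := sm gd N16939
def N22249 : Q := sm gf N16939
def N22250 : Q := sm gc N16941
def N22251 : Q := sm gf N16941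
def N22252 : Q := sm gg N16942
def N22253 : Q := sm gb N16944
def N22254 : Q := sm gb N16945
def N22255 : Q := sm ga N16946
def N22256 : Q := sm gc N16946
def N22257 : Q := sm gf N16946
def N22258 : Q := sm gc N16947
def N22259 : Q := sm gf N16947
def N22260 : Q := sm gd N16948
def N22261 : Q := sm gf N16948
def N22262 : Q := sm gg N16949
def N22263 : Q := sm gb N16950
def N22264 : Q := sm gd N16954
def N22265 : Q := sm ga N16959
def N22266 : Q := sm gb N16963
def N22267 : Q := sm ga N16965
def N22268 : Q := sm gc N16965
def N22269 : Q := sm gg N16965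
def N22270 : Q := sm gb N16966
def N22271 : Q := sm gb N16969
def N22272 : Q := sm gc N16969
def N22273 : Q := sm gg N16969
def N22274 : Q := sm gd N16970
def N22275 : Q := sm gg N16970
def N22276 : Q := sm gf N16971
def N22277 : Q := sm gf N16972
def N22278 : Q := sm ga N16975
def N22279 : Q := sm gc N16975
def N22280 : Q := sm gg N16975
def N22281 : Q := sm gd N16976
def N22282 : Q := sm gc N16977
def N22283 : Q := sm ge N16977
def N22284 : Q := sm gg N16977
def N22285 : Q := sm gb N16978
def N22286 : Q := sm gf N16980
def N22287 : Q := sm gg N16980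
def N22288 : Q := sm gf N16981
def N22289 : Q := sm gg N16981
def N22290 : Q := sm gb N16982
def N22291 : Q := sm ga N16984
def N22292 : Q := sm gc N16984
def N22293 : Q := sm gg N16984
def N22294 : Q := sm gf N16987
def N22295 : Q := sm gf N16988
def N22296 : Q := sm gg N16988
def N22297 : Q := sm gg N16989
def N22298 : Q := sm gf N16990
def N22299 : Q := sm gb N16991
def N22300 : Q := sm gg N16991
def N22301 : Q := sm gf N16992
def N22302 : Q := sm ga N16993
def N22303 : Q := sm gb N16995
def N22304 : Q := sm gb N16996
def N22305 : Q := sm gc N16996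
def N22306 : Q := sm gd N16997
def N22307 : Q := sm gc N17000
def N22308 : Q := sm ga N17008
def N22309 : Q := sm gg N17008
def N22310 : Q := sm gb N17009
def N22311 : Q := sm gg N17009
def N22312 : Q := sm gf N17011
def N22313 : Q := sm gc N17012
def N22314 : Q := sm gb N17013
def N22315 : Q := sm gg N17013
def N22316 : Q := sm ge N17015
def N22317 : Q := sm gd N17018
def N22318 : Q := sm gc N17020
def N22319 : Q := sm ge N17020
def N22320 : Q := sm gb N17021
def N22321 : Q := sm gd N17021
def N22322 : Q := sm ge N17021
def N22323 : Q := sm gg N17022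
def N22324 : Q := sm ga N17024
def N22325 : Q := sm gf N17024
def N22326 : Q := sm gf N17025
def N22327 : Q := sm gb N17026
def N22328 : Q := sm gc N17027
def N22329 : Q := sm gg N17027
def N22330 : Q := sm gc N17030
def N22331 : Q := sm gg N17030
def N22332 : Q := sm gb N17031
def N22333 : Q := sm gc N17032
def N22334 : Q := sm gg N17033
def N22335 : Q := sm gc N17035
def N22336 : Q := sm gb N17036
def N22337 : Q := sm gb N17038
def N22338 : Q := sm ga N17039
def N22339 : Q := sm gc N17039
def N22340 : Q := sm gf N17039
def N22341 : Q := sm ga N17040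
def N22342 : Q := sm gc N17040
def N22343 : Q := sm gf N17040
def N22344 : Q := sm gg N17040
def N22345 : Q := sm gf N17045
def N22346 : Q := sm gc N17048
def N22347 : Q := sm gf N17051
def N22348 : Q := sm gd N17052
def N22349 : Q := sm gg N17052
def N22350 : Q := sm ge N17053
def N22351 : Q := sm gb N17054
def N22352 : Q := sm ge N17054
def N22353 : Q := sm ga N17057
def N22354 : Q := sm gc N17057
def N22355 : Q := sm gf N17057
def N22356 : Q := sm gc N17058
def N22357 : Q := sm gd N17059
def N22358 : Q := sm gf N17062
def N22359 : Q := sm gc N17064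
def N22360 : Q := sm ge N17064
def N22361 : Q := sm gf N17064
def N22362 : Q := sm gb N17065
def N22363 : Q := sm gg N17065
def N22364 : Q := sm gb N17066
def N22365 : Q := sm ga N17068
def N22366 : Q := sm gd N17068
def N22367 : Q := sm gf N17068
def N22368 : Q := sm gg N17068
def N22369 : Q := sm ge N17069
def N22370 : Q := sm gb N17070
def N22371 : Q := sm gd N17072
def N22372 : Q := sm gf N17072
def N22373 : Q := sm gc N17073
def N22374 : Q := sm ge N17073
def N22375 : Q := sm gf N17073
def N22376 : Q := sm gg N17073
def N22377 : Q := sm gf N17075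
def N22378 : Q := sm ga N17077
def N22379 : Q := sm ge N17077
def N22380 : Q := sm gf N17077
def N22381 : Q := sm gg N17077
def N22382 : Q := sm gd N17078
def N22383 : Q := sm gg N17078
def N22384 : Q := sm gb N17079
def N22385 : Q := sm gb N17080
def N22386 : Q := sm ga N17081
def N22387 : Q := sm gf N17081
def N22388 : Q := sm gb N17082
def N22389 : Q := sm gc N17082
def N22390 : Q := sm gf N17082
def N22391 : Q := sm gd N17083
def N22392 : Q := sm gf N17083
def N22393 : Q := sm gg N17084
def N22394 : Q := sm gd N17085
def N22395 : Q := sm gb N17087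
def N22396 : Q := sm ge N17088
def N22397 : Q := sm gb N17089
def N22398 : Q := sm gf N17091
def N22399 : Q := sm gb N17092
def N22400 : Q := sm gg N17093
def N22401 : Q := sm gb N17094
def N22402 : Q := sm gf N17095
def N22403 : Q := sm gb N17097
def N22404 : Q := sm gf N17099
def N22405 : Q := sm ge N17100
def N22406 : Q := sm gb N17101
def N22407 : Q := sm gb N17102
def N22408 : Q := sm ga N17109
def N22409 : Q := sm gd N17110
def N22410 : Q := sm gd N17111
def N22411 : Q := sm gf N17111
def N22412 : Q := sm ge N17112
def N22413 : Q := sm gf N17112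
def N22414 : Q := sm gb N17113
def N22415 : Q := sm ge N17115
def N22416 : Q := sm gf N17115
def N22417 : Q := sm gf N17116
def N22418 : Q := sm gg N17116
def N22419 : Q := sm gg N17117
def N22420 : Q := sm gf N17118
def N22421 : Q := sm gf N17120
def N22422 : Q := sm gd N17125
def N22423 : Q := sm gg N17126
def N22424 : Q := sm ge N17127
def N22425 : Q := sm gb N17128
def N22426 : Q := sm ge N17128
def N22427 : Q := sm gf N17128
def N22428 : Q := sm gg N17128
def N22429 : Q := sm gd N17129
def N22430 : Q := sm gf N17129
def N22431 : Q := sm gg N17129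
def N22432 : Q := sm gg N17130
def N22433 : Q := sm gf N17131
def N22434 : Q := sm gc N17132
def N22435 : Q := sm gg N17132
def N22436 : Q := sm gf N17133
def N22437 : Q := sm gb N17135
def N22438 : Q := sm gb N17136
def N22439 : Q := sm ga N17137
def N22440 : Q := sm gc N17137
def N22441 : Q := sm gg N17137
def N22442 : Q := sm gc N17138
def N22443 : Q := sm gg N17138
def N22444 : Q := sm gd N17139
def N22445 : Q := sm gg N17139
def N22446 : Q := sm gf N17140
def N22447 : Q := sm gb N17141
def N22448 : Q := sm gg N17144
def N22449 : Q := sm gg N17146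
def N22450 : Q := sm gf N17147
def N22451 : Q := sm gd N17154
def N22452 : Q := sm gg N17155
def N22453 : Q := sm gb N17156
def N22454 : Q := sm ga N17157
def N22455 : Q := sm gc N17157
def N22456 : Q := sm gf N17157
def N22457 : Q := sm gc N17158
def N22458 : Q := sm gd N17159
def N22459 : Q := sm gf N17159
def N22460 : Q := sm ge N17162
def N22461 : Q := sm ge N17167
def N22462 : Q := sm gd N17170
def N22463 : Q := sm ge N17170
def N22464 : Q := sm gg N17170
def N22465 : Q := sm gf N17171
def N22466 : Q := sm gg N17171
def N22467 : Q := sm ge N17176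
def N22468 : Q := sm gf N17176
def N22469 : Q := sm gg N17176
def N22470 : Q := sm gc N17179
def N22471 : Q := sm ge N17179
def N22472 : Q := sm gf N17179
def N22473 : Q := sm gg N17179
def N22474 : Q := sm gb N17180
def N22475 : Q := sm gg N17180
def N22476 : Q := sm gf N17181
def N22477 : Q := sm gb N17182
def N22478 : Q := sm gd N17182
def N22479 : Q := sm ge N17182
def N22480 : Q := sm gg N17182
def N22481 : Q := sm gf N17183
def N22482 : Q := sm gg N17183
def N22483 : Q := sm gc N17186
def N22484 : Q := sm ge N17188
def N22485 : Q := sm gg N17188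
def N22486 : Q := sm gd N17189
def N22487 : Q := sm gg N17189
def N22488 : Q := sm gb N17191
def N22489 : Q := sm gf N17191
def N22490 : Q := sm gg N17192
def N22491 : Q := sm gf N17193
def N22492 : Q := sm gb N17194
def N22493 : Q := sm gb N17195
def N22494 : Q := sm gc N17196
def N22495 : Q := sm gf N17196
def N22496 : Q := sm ga N17197
def N22497 : Q := sm gc N17197
def N22498 : Q := sm gg N17197
def N22499 : Q := sm gd N17199
def N22500 : Q := sm gf N17199
def N22501 : Q := sm gg N17199
def N22502 : Q := sm gc N17202
def N22503 : Q := sm gf N17202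
def N22504 : Q := sm gg N17202
def N22505 : Q := sm gg N17203
def N22506 : Q := sm gf N17204
def N22507 : Q := sm gf N17207
def N22508 : Q := sm gf N17213
def N22509 : Q := sm gg N17215
def N22510 : Q := sm gd N17246
def N22511 : Q := sm gf N17248
def N22512 : Q := sm gb N17249
def N22513 : Q := sm ga N17250
def N22514 : Q := sm gc N17250
def N22515 : Q := sm gg N17250
def N22516 : Q := sm gc N17251
def N22517 : Q := sm gd N17252
def N22518 : Q := sm gg N17252
def N22519 : Q := sm ge N17255
def N22520 : Q := sm ge N17260
def N22521 : Q := sm gd N17263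
def N22522 : Q := sm ge N17263
def N22523 : Q := sm gf N17263
def N22524 : Q := sm gf N17264
def N22525 : Q := sm gg N17264
def N22526 : Q := sm ge N17269
def N22527 : Q := sm gf N17269
def N22528 : Q := sm gg N17269
def N22529 : Q := sm gc N17271
def N22530 : Q := sm ge N17271
def N22531 : Q := sm gf N17271
def N22532 : Q := sm gg N17271
def N22533 : Q := sm gg N17272
def N22534 : Q := sm gb N17273
def N22535 : Q := sm gf N17273
def N22536 : Q := sm gb N17274
def N22537 : Q := sm gd N17274
def N22538 : Q := sm ge N17274
def N22539 : Q := sm gf N17274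
def N22540 : Q := sm gf N17275
def N22541 : Q := sm gg N17275
def N22542 : Q := sm gc N17279
def N22543 : Q := sm ge N17280
def N22544 : Q := sm gf N17280
def N22545 : Q := sm gd N17281
def N22546 : Q := sm gf N17281
def N22547 : Q := sm gb N17282
def N22548 : Q := sm gg N17282
def N22549 : Q := sm gg N17284
def N22550 : Q := sm gf N17285
def N22551 : Q := sm gb N17286
def N22552 : Q := sm gb N17287
def N22553 : Q := sm ga N17288
def N22554 : Q := sm gc N17288
def N22555 : Q := sm gf N17288
def N22556 : Q := sm gc N17289
def N22557 : Q := sm gg N17289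
def N22558 : Q := sm gd N17291
def N22559 : Q := sm gf N17291
def N22560 : Q := sm gg N17291
def N22561 : Q := sm gc N17294
def N22562 : Q := sm gf N17294
def N22563 : Q := sm gg N17294
def N22564 : Q := sm gg N17295
def N22565 : Q := sm gf N17296
def N22566 : Q := sm ga N17301
def N22567 : Q := sm gf N17301
def N22568 : Q := sm gg N17301
def N22569 : Q := sm ge N17304
def N22570 : Q := sm gf N17310
def N22571 : Q := sm ga N17315
def N22572 : Q := sm gd N17315
def N22573 : Q := sm gf N17315
def N22574 : Q := sm ge N17316
def N22575 : Q := sm gf N17320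
def N22576 : Q := sm gg N17320
def N22577 : Q := sm gc N17321
def N22578 : Q := sm ge N17321
def N22579 : Q := sm gg N17321
def N22580 : Q := sm gg N17323
def N22581 : Q := sm gf N17324
def N22582 : Q := sm gb N17328
def N22583 : Q := sm gg N17335
def N22584 : Q := sm gb N17337
def N22585 : Q := sm gc N17338
def N22586 : Q := sm gf N17338
def N22587 : Q := sm gg N17339
def N22588 : Q := sm gd N17344
def N22589 : Q := sm gg N17344
def N22590 : Q := sm gg N17346
def N22591 : Q := sm gb N17348
def N22592 : Q := sm gb N17349
def N22593 : Q := sm ge N17349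
def N22594 : Q := sm gf N17349
def N22595 : Q := sm gg N17349
def N22596 : Q := sm gd N17350
def N22597 : Q := sm gf N17350
def N22598 : Q := sm gg N17350
def N22599 : Q := sm gb N17352
def N22600 : Q := sm gf N17357
def N22601 : Q := sm ge N17358
def N22602 : Q := sm gg N17358
def N22603 : Q := sm gd N17359
def N22604 : Q := sm gf N17359
def N22605 : Q := sm gg N17359
def N22606 : Q := sm gb N17361
def N22607 : Q := sm gc N17362
def N22608 : Q := sm gf N17362
def N22609 : Q := sm gg N17363
def N22610 : Q := sm gf N17367
def N22611 : Q := sm gf N17372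
def N22612 : Q := sm ga N17382
def N22613 : Q := sm gf N17382
def N22614 : Q := sm gg N17382
def N22615 : Q := sm ge N17385
def N22616 : Q := sm gg N17389
def N22617 : Q := sm ga N17394
def N22618 : Q := sm gd N17394
def N22619 : Q := sm gg N17394
def N22620 : Q := sm ge N17395
def N22621 : Q := sm gf N17397
def N22622 : Q := sm gg N17397
def N22623 : Q := sm gc N17398
def N22624 : Q := sm ge N17398
def N22625 : Q := sm gf N17398
def N22626 : Q := sm gg N17400
def N22627 : Q := sm gf N17401
def N22628 : Q := sm gb N17404
def N22629 : Q := sm gf N17412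
def N22630 : Q := sm gb N17413
def N22631 : Q := sm gc N17415
def N22632 : Q := sm gg N17415
def N22633 : Q := sm gf N17417
def N22634 : Q := sm gd N17421
def N22635 : Q := sm gf N17421
def N22636 : Q := sm gb N17424
def N22637 : Q := sm gb N17426
def N22638 : Q := sm ge N17426
def N22639 : Q := sm gf N17427
def N22640 : Q := sm gb N17428
def N22641 : Q := sm gg N17433
def N22642 : Q := sm ge N17435
def N22643 : Q := sm gd N17436
def N22644 : Q := sm gf N17436
def N22645 : Q := sm gg N17436
def N22646 : Q := sm gb N17437
def N22647 : Q := sm gc N17439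
def N22648 : Q := sm gf N17531
def N22649 : Q := sm gb N17546
def N22650 : Q := sm gc N17546
def N22651 : Q := sm gd N17547
def N22652 : Q := sm ga N17555
def N22653 : Q := sm gc N17555
def N22654 : Q := sm gf N17555
def N22655 : Q := sm gb N17556
def N22656 : Q := sm ge N17558
def N22657 : Q := sm gf N17559
def N22658 : Q := sm gb N17560
def N22659 : Q := sm ge N17567
def N22660 : Q := sm gf N17567
def N22661 : Q := sm gb N17569
def N22662 : Q := sm gc N17574
def N22663 : Q := sm gb N17583
def N22664 : Q := sm gc N17583
def N22665 : Q := sm gd N17584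
def N22666 : Q := sm gb N17586
def N22667 : Q := sm gc N17586
def N22668 : Q := sm gf N17586
def N22669 : Q := sm gf N17587
def N22670 : Q := sm gg N17588
def N22671 : Q := sm ga N17601
def N22672 : Q := sm gc N17601
def N22673 : Q := sm gf N17601
def N22674 : Q := sm gg N17601
def N22675 : Q := sm gb N17602
def N22676 : Q := sm gd N17602
def N22677 : Q := sm gc N17603
def N22678 : Q := sm ge N17603
def N22679 : Q := sm gc N17625
def N22680 : Q := sm gb N17626
def N22681 : Q := sm gf N17626
def N22682 : Q := sm ga N17629
def N22683 : Q := sm gd N17629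
def N22684 : Q := sm gf N17629
def N22685 : Q := sm gg N17629
def N22686 : Q := sm gc N17630
def N22687 : Q := sm ge N17630
def N22688 : Q := sm ge N17633
def N22689 : Q := sm gg N17634
def N22690 : Q := sm gb N17635
def N22691 : Q := sm gf N17635
def N22692 : Q := sm gf N17636
def N22693 : Q := sm ga N17638
def N22694 : Q := sm gg N17638
def N22695 : Q := sm ga N17646
def N22696 : Q := sm gf N17646
def N22697 : Q := sm gb N17648
def N22698 : Q := sm gf N17648
def N22699 : Q := sm gb N17651
def N22700 : Q := sm gb N17732
def N22701 : Q := sm ge N17734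
def N22702 : Q := sm gg N17735
def N22703 : Q := sm gb N17736
def N22704 : Q := sm ge N17743
def N22705 : Q := sm gg N17743
def N22706 : Q := sm gb N17746
def N22707 : Q := sm gb N17759
def N22708 : Q := sm gc N17759
def N22709 : Q := sm gc N17780
def N22710 : Q := sm gf N17780
def N22711 : Q := sm gb N17781
def N22712 : Q := sm gd N17781
def N22713 : Q := sm gc N17782
def N22714 : Q := sm ge N17782
def N22715 : Q := sm gc N17801
def N22716 : Q := sm gb N17802
def N22717 : Q := sm gg N17802
def N22718 : Q := sm ga N17805
def N22719 : Q := sm gd N17805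
def N22720 : Q := sm gf N17805
def N22721 : Q := sm gg N17805
def N22722 : Q := sm gc N17806
def N22723 : Q := sm ge N17806
def N22724 : Q := sm ge N17809
def N22725 : Q := sm gf N17810
def N22726 : Q := sm gb N17811
def N22727 : Q := sm gg N17811
def N22728 : Q := sm gg N17812
def N22729 : Q := sm ga N17820
def N22730 : Q := sm gg N17820
def N22731 : Q := sm gb N17822
def N22732 : Q := sm gg N17822
def N22733 : Q := sm gb N17825
def N22734 : Q := sm gc N18155
def N22735 : Q := sm gf N18155
def N22736 : Q := sm gc N18156
def N22737 : Q := sm gg N18156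
def N22738 : Q := sm gf N18174
def N22739 : Q := sm gg N18174
def N22740 : Q := sm gg N18178
def N22741 : Q := sm gf N18179
def N22742 : Q := sm gb N18180
def N22743 : Q := sm gb N18182
def N22744 : Q := sm ga N18183
def N22745 : Q := sm gc N18183
def N22746 : Q := sm gg N18183
def N22747 : Q := sm ga N18184
def N22748 : Q := sm gc N18184
def N22749 : Q := sm gf N18184
def N22750 : Q := sm gb N18185
def N22751 : Q := sm gg N18185
def N22752 : Q := sm gf N18186
def N22753 : Q := sm gb N18187
def N22754 : Q := sm gf N18187
def N22755 : Q := sm gg N18189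
def N22756 : Q := sm gg N18190
def N22757 : Q := sm gf N18191
def N22758 : Q := sm gb N18194
def N22759 : Q := sm ga N18195
def N22760 : Q := sm gc N18195
def N22761 : Q := sm gf N18195
def N22762 : Q := sm gb N18198
def N22763 : Q := sm ga N18199
def N22764 : Q := sm gc N18199
def N22765 : Q := sm gg N18199
def N22766 : Q := sm ga N18200
def N22767 : Q := sm gc N18200
def N22768 : Q := sm gf N18200
def N22769 : Q := sm gb N18201
def N22770 : Q := sm gc N18201
def N22771 : Q := sm gf N18201
def N22772 : Q := sm gd N18202
def N22773 : Q := sm gf N18202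
def N22774 : Q := sm gg N18203
def N22775 : Q := sm ga N18205
def N22776 : Q := sm gc N18205
def N22777 : Q := sm gg N18205
def N22778 : Q := sm gb N18206
def N22779 : Q := sm gc N18206
def N22780 : Q := sm gg N18206
def N22781 : Q := sm gd N18207
def N22782 : Q := sm gg N18207
def N22783 : Q := sm gf N18208
def N22784 : Q := sm gb N18209
def N22785 : Q := sm gb N18210
def N22786 : Q := sm gb N18211
def N22787 : Q := sm gb N18213
def N22788 : Q := sm gb N18214
def N22789 : Q := sm gb N18215
def N22790 : Q := sm ga N18216
def N22791 : Q := sm gc N18216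
def N22792 : Q := sm gf N18216
def N22793 : Q := sm ga N18217
def N22794 : Q := sm gc N18217
def N22795 : Q := sm gg N18217
def N22796 : Q := sm ga N18222
def N22797 : Q := sm gc N18222
def N22798 : Q := sm gg N18222
def N22799 : Q := sm ga N18223
def N22800 : Q := sm gc N18223
def N22801 : Q := sm gf N18223
def N22802 : Q := sm gg N18231
def N22803 : Q := sm gf N18234
def N22804 : Q := sm gf N18241
def N22805 : Q := sm gb N18242
def N22806 : Q := sm gc N18242
def N22807 : Q := sm gc N18245
def N22808 : Q := sm gb N18246
def N22809 : Q := sm ge N18248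
def N22810 : Q := sm gg N18253
def N22811 : Q := sm gb N18255
def N22812 : Q := sm gc N18255
def N22813 : Q := sm gc N18258
def N22814 : Q := sm gb N18259
def N22815 : Q := sm ge N18261
def N22816 : Q := sm gb N18264
def N22817 : Q := sm gc N18265
def N22818 : Q := sm gb N18266
def N22819 : Q := sm gb N18267
def N22820 : Q := sm gc N18267
def N22821 : Q := sm gf N18267
def N22822 : Q := sm gf N18272
def N22823 : Q := sm gb N18274
def N22824 : Q := sm gc N18279
def N22825 : Q := sm gb N18282
def N22826 : Q := sm gc N18282
def N22827 : Q := sm gg N18287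
def N22828 : Q := sm gg N18289
def N22829 : Q := sm gf N18292
def N22830 : Q := sm gg N18294
def N22831 : Q := sm gg N18295
def N22832 : Q := sm gf N18300
def N22833 : Q := sm gf N18301
def N22834 : Q := sm gg N18309
def N22835 : Q := sm gg N18310
def N22836 : Q := sm gf N18312
def N22837 : Q := sm gf N18313
def N22838 : Q := sm gg N18316
def N22839 : Q := sm gf N18324
def N22840 : Q := sm gf N18331
def N22841 : Q := sm gg N18331
def N22842 : Q := sm gg N18332
def N22843 : Q := sm gb N18333
def N22844 : Q := sm gb N18337
def N22845 : Q := sm gc N18338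
def N22846 : Q := sm gf N18343
def N22847 : Q := sm gg N18343
def N22848 : Q := sm gf N18344
def N22849 : Q := sm gb N18345
def N22850 : Q := sm gb N18350
def N22851 : Q := sm gc N18351
def N22852 : Q := sm gb N18361
def N22853 : Q := sm ga N18362
def N22854 : Q := sm gb N18365
def N22855 : Q := sm ga N18366
def N22856 : Q := sm gg N18367
def N22857 : Q := sm gd N18368
def N22858 : Q := sm gg N18369
def N22859 : Q := sm gb N18370
def N22860 : Q := sm ga N18371
def N22861 : Q := sm gc N18371
def N22862 : Q := sm gf N18371
def N22863 : Q := sm gc N18372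
def N22864 : Q := sm gf N18372
def N22865 : Q := sm gf N18373
def N22866 : Q := sm gg N18374
def N22867 : Q := sm gf N18375
def N22868 : Q := sm gd N18376
def N22869 : Q := sm gf N18377
def N22870 : Q := sm gb N18378
def N22871 : Q := sm ga N18379
def N22872 : Q := sm gc N18379
def N22873 : Q := sm gg N18379
def N22874 : Q := sm gc N18380
def N22875 : Q := sm gg N18380
def N22876 : Q := sm gg N18381
def N22877 : Q := sm gf N18382
def N22878 : Q := sm gg N18383
def N22879 : Q := sm gb N18384
def N22880 : Q := sm gb N18385
def N22881 : Q := sm ga N18386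
def N22882 : Q := sm gf N18386
def N22883 : Q := sm gb N18387
def N22884 : Q := sm gb N18388
def N22885 : Q := sm gf N18388
def N22886 : Q := sm gg N18390
def N22887 : Q := sm gf N18391
def N22888 : Q := sm gb N18392
def N22889 : Q := sm gb N18393
def N22890 : Q := sm ga N18394
def N22891 : Q := sm gg N18394
def N22892 : Q := sm gb N18395
def N22893 : Q := sm gb N18396
def N22894 : Q := sm gg N18396
def N22895 : Q := sm gf N18398
def N22896 : Q := sm gb N18399
def N22897 : Q := sm gd N18400
def N22898 : Q := sm gg N18400
def N22899 : Q := sm ge N18401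
def N22900 : Q := sm gg N18401
def N22901 : Q := sm gb N18402
def N22902 : Q := sm gc N18403
def N22903 : Q := sm gf N18403
def N22904 : Q := sm gg N18404
def N22905 : Q := sm gb N18405
def N22906 : Q := sm gf N18405
def N22907 : Q := sm ga N18406
def N22908 : Q := sm gf N18406
def N22909 : Q := sm gc N18408
def N22910 : Q := sm gd N18409
def N22911 : Q := sm gf N18409
def N22912 : Q := sm gb N18410
def N22913 : Q := sm gg N18411
def N22914 : Q := sm ga N18412
def N22915 : Q := sm gc N18412
def N22916 : Q := sm gf N18412
def N22917 : Q := sm gg N18412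
def N22918 : Q := sm gd N18413
def N22919 : Q := sm gf N18413
def N22920 : Q := sm gc N18415
def N22921 : Q := sm ge N18415
def N22922 : Q := sm gf N18415
def N22923 : Q := sm gg N18416
def N22924 : Q := sm gb N18417
def N22925 : Q := sm gb N18419
def N22926 : Q := sm gd N18421
def N22927 : Q := sm gf N18421
def N22928 : Q := sm ge N18422
def N22929 : Q := sm gf N18422
def N22930 : Q := sm gb N18423
def N22931 : Q := sm gc N18424
def N22932 : Q := sm gg N18424
def N22933 : Q := sm gf N18425
def N22934 : Q := sm gb N18426
def N22935 : Q := sm gg N18426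
def N22936 : Q := sm ga N18427
def N22937 : Q := sm gg N18427
def N22938 : Q := sm gc N18429
def N22939 : Q := sm gd N18430
def N22940 : Q := sm gg N18430
def N22941 : Q := sm gb N18431
def N22942 : Q := sm gf N18432
def N22943 : Q := sm ga N18433
def N22944 : Q := sm gc N18433
def N22945 : Q := sm gf N18433
def N22946 : Q := sm gg N18433
def N22947 : Q := sm gd N18434
def N22948 : Q := sm gg N18434
def N22949 : Q := sm gc N18436
def N22950 : Q := sm ge N18436
def N22951 : Q := sm gg N18436
def N22952 : Q := sm gf N18437
def N22953 : Q := sm gb N18438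
def N22954 : Q := sm gb N18439
def N22955 : Q := sm ga N18440
def N22956 : Q := sm gc N18440
def N22957 : Q := sm gf N18440
def N22958 : Q := sm gb N18441
def N22959 : Q := sm gf N18441
def N22960 : Q := sm gg N18442
def N22961 : Q := sm gb N18444
def N22962 : Q := sm ga N18445
def N22963 : Q := sm gc N18445
def N22964 : Q := sm gg N18445
def N22965 : Q := sm gb N18446
def N22966 : Q := sm gg N18446
def N22967 : Q := sm gf N18447
def N22968 : Q := sm ga N18494
def N22969 : Q := sm gc N18494
def N22970 : Q := sm gf N18494
def N22971 : Q := sm gc N18495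
def N22972 : Q := sm gd N18496
def N22973 : Q := sm gf N18496
def N22974 : Q := sm gf N18499
def N22975 : Q := sm gf N18501
def N22976 : Q := sm gg N18502
def N22977 : Q := sm ga N18513
def N22978 : Q := sm gc N18513
def N22979 : Q := sm gg N18513
def N22980 : Q := sm gc N18514
def N22981 : Q := sm gd N18515
def N22982 : Q := sm gg N18515
def N22983 : Q := sm gg N18518
def N22984 : Q := sm gg N18520
def N22985 : Q := sm gf N18521
def N22986 : Q := sm gd N18538
def N22987 : Q := sm gc N18540
def N22988 : Q := sm gf N18542
def N22989 : Q := sm gg N18543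
def N22990 : Q := sm gd N18552
def N22991 : Q := sm gc N18555
def N22992 : Q := sm gg N18558
def N22993 : Q := sm gf N18559
def N22994 : Q := sm gf N18562
def N22995 : Q := sm gg N18563
def N22996 : Q := sm gb N18564
def N22997 : Q := sm gd N18567
def N22998 : Q := sm gb N18569
def N22999 : Q := sm ga N18570
def N23000 : Q := sm gb N18571
def N23001 : Q := sm gb N18572
def N23002 : Q := sm ge N18576
def N23003 : Q := sm gb N18577
def N23004 : Q := sm ga N18578
def N23005 : Q := sm gc N18578
def N23006 : Q := sm gc N18579
def N23007 : Q := sm gg N18579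
def N23008 : Q := sm gg N18580
def N23009 : Q := sm gc N18582
def N23010 : Q := sm gf N18582
def N23011 : Q := sm gf N18583
def N23012 : Q := sm gg N18583
def N23013 : Q := sm ge N18589
def N23014 : Q := sm gf N18589
def N23015 : Q := sm gf N18590
def N23016 : Q := sm gb N18592
def N23017 : Q := sm gc N18593
def N23018 : Q := sm gf N18593
def N23019 : Q := sm gg N18600
def N23020 : Q := sm gf N18603
def N23021 : Q := sm gb N18604
def N23022 : Q := sm gd N18606
def N23023 : Q := sm gb N18610
def N23024 : Q := sm ga N18611
def N23025 : Q := sm gb N18613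
def N23026 : Q := sm gb N18614
def N23027 : Q := sm ge N18617
def N23028 : Q := sm gb N18618
def N23029 : Q := sm ga N18619
def N23030 : Q := sm gc N18619
def N23031 : Q := sm gc N18620
def N23032 : Q := sm gf N18620
def N23033 : Q := sm gf N18621
def N23034 : Q := sm gc N18623
def N23035 : Q := sm gg N18623
def N23036 : Q := sm gf N18624
def N23037 : Q := sm gg N18624
def N23038 : Q := sm ge N18629
def N23039 : Q := sm gg N18629
def N23040 : Q := sm gg N18630
def N23041 : Q := sm gb N18632
def N23042 : Q := sm gc N18633
def N23043 : Q := sm gg N18633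
def N23044 : Q := sm gg N18634
def N23045 : Q := sm gg N18635
def N23046 : Q := sm ga N18638
def N23047 : Q := sm gb N18641
def N23048 : Q := sm gf N18643
def N23049 : Q := sm gf N18653
def N23050 : Q := sm ga N18657
def N23051 : Q := sm gb N18662
def N23052 : Q := sm gb N18665
def N23053 : Q := sm gb N18667
def N23054 : Q := sm gb N18690
def N23055 : Q := sm gb N18692
def N23056 : Q := sm gg N18701
def N23057 : Q := sm gf N18702
def N23058 : Q := sm ga N18703
def N23059 : Q := sm gc N18703
def N23060 : Q := sm gg N18703
def N23061 : Q := sm gb N18704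
def N23062 : Q := sm ga N18705
def N23063 : Q := sm gc N18705
def N23064 : Q := sm gf N18705
def N23065 : Q := sm gb N18706
def N23066 : Q := sm gg N18708
def N23067 : Q := sm gb N18709
def N23068 : Q := sm ga N18710
def N23069 : Q := sm gc N18710
def N23070 : Q := sm gf N18710
def N23071 : Q := sm gf N18712
def N23072 : Q := sm gb N18713
def N23073 : Q := sm ga N18714
def N23074 : Q := sm gc N18714
def N23075 : Q := sm gg N18714
def N23076 : Q := sm gb N18715
def N23077 : Q := sm gc N18715
def N23078 : Q := sm gg N18715
def N23079 : Q := sm gd N18716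
def N23080 : Q := sm gg N18716
def N23081 : Q := sm gf N18717
def N23082 : Q := sm gb N18718
def N23083 : Q := sm gc N18718
def N23084 : Q := sm gf N18718
def N23085 : Q := sm gd N18719
def N23086 : Q := sm gf N18719
def N23087 : Q := sm gg N18720
def N23088 : Q := sm ga N18721
def N23089 : Q := sm gc N18721
def N23090 : Q := sm gf N18721
def N23091 : Q := sm gg N18721
def N23092 : Q := sm gg N18722
def N23093 : Q := sm gb N18723
def N23094 : Q := sm ga N18726
def N23095 : Q := sm gc N18726
def N23096 : Q := sm gf N18726
def N23097 : Q := sm gg N18726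
def N23098 : Q := sm gf N18727
def N23099 : Q := sm gb N18728
def N23100 : Q := sm gg N18732
def N23101 : Q := sm gf N18735
def N23102 : Q := sm ga N18738
def N23103 : Q := sm gc N18738
def N23104 : Q := sm gg N18738
def N23105 : Q := sm ga N18739
def N23106 : Q := sm gc N18739
def N23107 : Q := sm gf N18739
def N23108 : Q := sm gb N18740
def N23109 : Q := sm gc N18740
def N23110 : Q := sm gf N18740
def N23111 : Q := sm gd N18741
def N23112 : Q := sm gf N18741
def N23113 : Q := sm gg N18742
def N23114 : Q := sm ga N18743
def N23115 : Q := sm gc N18743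
def N23116 : Q := sm gf N18743
def N23117 : Q := sm ga N18744
def N23118 : Q := sm gc N18744
def N23119 : Q := sm gg N18744
def N23120 : Q := sm gb N18745
def N23121 : Q := sm gc N18745
def N23122 : Q := sm gg N18745
def N23123 : Q := sm gd N18746
def N23124 : Q := sm gg N18746
def N23125 : Q := sm gf N18747
def N23126 : Q := sm gd N18749
def N23127 : Q := sm gg N18749
def N23128 : Q := sm gg N18753
def N23129 : Q := sm gb N18754
def N23130 : Q := sm ga N18755
def N23131 : Q := sm gc N18755
def N23132 : Q := sm gf N18755
def N23133 : Q := sm gb N18756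
def N23134 : Q := sm ga N18759
def N23135 : Q := sm gc N18759
def N23136 : Q := sm gg N18759
def N23137 : Q := sm gb N18760
def N23138 : Q := sm gf N18760
def N23139 : Q := sm gb N18763
def N23140 : Q := sm gb N18764
def N23141 : Q := sm gd N18766
def N23142 : Q := sm gf N18766
def N23143 : Q := sm gf N18771
def N23144 : Q := sm gb N18772
def N23145 : Q := sm ga N18773
def N23146 : Q := sm gc N18773
def N23147 : Q := sm gg N18773
def N23148 : Q := sm gb N18774
def N23149 : Q := sm ga N18777
def N23150 : Q := sm gc N18777
def N23151 : Q := sm gf N18777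
def N23152 : Q := sm gb N18778
def N23153 : Q := sm gg N18778
def N23154 : Q := sm gb N18781
def N23155 : Q := sm gb N18782
def N23156 : Q := sm gg N18783
def N23157 : Q := sm gb N18784
def N23158 : Q := sm ga N18785
def N23159 : Q := sm gc N18785
def N23160 : Q := sm gf N18785
def N23161 : Q := sm ga N18786
def N23162 : Q := sm gb N18787
def N23163 : Q := sm gb N18789
def N23164 : Q := sm ga N18790
def N23165 : Q := sm gc N18790
def N23166 : Q := sm gg N18790
def N23167 : Q := sm ga N18791
def N23168 : Q := sm gf N18791
def N23169 : Q := sm gg N18791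
def N23170 : Q := sm gb N18793
def N23171 : Q := sm gb N18796
def N23172 : Q := sm gf N18797
def N23173 : Q := sm gb N18798
def N23174 : Q := sm ga N18800
def N23175 : Q := sm gc N18800
def N23176 : Q := sm gg N18800
def N23177 : Q := sm ga N18801
def N23178 : Q := sm gb N18802
def N23179 : Q := sm gb N18804
def N23180 : Q := sm ga N18805
def N23181 : Q := sm gc N18805
def N23182 : Q := sm gf N18805
def N23183 : Q := sm ga N18806
def N23184 : Q := sm gf N18806
def N23185 : Q := sm gg N18806
def N23186 : Q := sm gb N18808
def N23187 : Q := sm gb N18811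
def N23188 : Q := sm gd N18812
def N23189 : Q := sm gf N18812
def N23190 : Q := sm gg N18812
def N23191 : Q := sm gb N18814
def N23192 : Q := sm gd N18815
def N23193 : Q := sm gf N18815
def N23194 : Q := sm gg N18815
def N23195 : Q := sm gc N18816
def N23196 : Q := sm ge N18816
def N23197 : Q := sm gf N18816
def N23198 : Q := sm gg N18816
def N23199 : Q := sm gg N18817
def N23200 : Q := sm gb N18818
def N23201 : Q := sm gf N18818
def N23202 : Q := sm ga N18820
def N23203 : Q := sm gc N18820
def N23204 : Q := sm gf N18820
def N23205 : Q := sm gb N18821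
def N23206 : Q := sm ge N18822
def N23207 : Q := sm gf N18822
def N23208 : Q := sm gg N18822
def N23209 : Q := sm gg N18823
def N23210 : Q := sm gb N18824
def N23211 : Q := sm gf N18824
def N23212 : Q := sm gg N18825
def N23213 : Q := sm gb N18826
def N23214 : Q := sm ga N18827
def N23215 : Q := sm gc N18827
def N23216 : Q := sm gf N18827
def N23217 : Q := sm gb N18828
def N23218 : Q := sm gc N18828
def N23219 : Q := sm gf N18828
def N23220 : Q := sm gd N18829
def N23221 : Q := sm gf N18829
def N23222 : Q := sm gb N18831
def N23223 : Q := sm gf N18831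
def N23224 : Q := sm ga N18832
def N23225 : Q := sm gc N18832
def N23226 : Q := sm gf N18832
def N23227 : Q := sm gb N18833
def N23228 : Q := sm gb N18834
def N23229 : Q := sm gc N18834
def N23230 : Q := sm gd N18835
def N23231 : Q := sm gf N18835
def N23232 : Q := sm gb N18836
def N23233 : Q := sm ga N18837
def N23234 : Q := sm gc N18837
def N23235 : Q := sm gg N18837
def N23236 : Q := sm ga N18838
def N23237 : Q := sm gc N18838
def N23238 : Q := sm gf N18838
def N23239 : Q := sm gg N18838
def N23240 : Q := sm gb N18839
def N23241 : Q := sm gd N18839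
def N23242 : Q := sm ge N18840
def N23243 : Q := sm gf N18840
def N23244 : Q := sm gb N18841
def N23245 : Q := sm ga N18842
def N23246 : Q := sm gc N18842
def N23247 : Q := sm gg N18842
def N23248 : Q := sm gc N18843
def N23249 : Q := sm gg N18843
def N23250 : Q := sm gd N18844
def N23251 : Q := sm gg N18844
def N23252 : Q := sm gf N18845
def N23253 : Q := sm gf N18846
def N23254 : Q := sm gg N18846
def N23255 : Q := sm gg N18847
def N23256 : Q := sm gf N18849
def N23257 : Q := sm ga N18850
def N23258 : Q := sm gd N18850
def N23259 : Q := sm gg N18850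
def N23260 : Q := sm ge N18851
def N23261 : Q := sm gf N18851
def N23262 : Q := sm ga N18858
def N23263 : Q := sm gf N18858
def N23264 : Q := sm gd N18859
def N23265 : Q := sm gf N18859
def N23266 : Q := sm gg N18859
def N23267 : Q := sm gb N18860
def N23268 : Q := sm gd N18862
def N23269 : Q := sm gf N18862
def N23270 : Q := sm gg N18862
def N23271 : Q := sm gc N18863
def N23272 : Q := sm ge N18863
def N23273 : Q := sm gf N18863
def N23274 : Q := sm gg N18863
def N23275 : Q := sm gb N18864
def N23276 : Q := sm gg N18864
def N23277 : Q := sm gf N18865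
def N23278 : Q := sm ga N18866
def N23279 : Q := sm gc N18866
def N23280 : Q := sm gg N18866
def N23281 : Q := sm ge N18869
def N23282 : Q := sm gf N18869
def N23283 : Q := sm gg N18869
def N23284 : Q := sm gb N18870
def N23285 : Q := sm gg N18870
def N23286 : Q := sm gf N18871
def N23287 : Q := sm gf N18872
def N23288 : Q := sm gb N18873
def N23289 : Q := sm ga N18874
def N23290 : Q := sm gc N18874
def N23291 : Q := sm gg N18874
def N23292 : Q := sm gb N18875
def N23293 : Q := sm gc N18875
def N23294 : Q := sm gd N18876
def N23295 : Q := sm gg N18876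
def N23296 : Q := sm gb N18878
def N23297 : Q := sm gg N18878
def N23298 : Q := sm ga N18879
def N23299 : Q := sm gc N18879
def N23300 : Q := sm gg N18879
def N23301 : Q := sm gb N18880
def N23302 : Q := sm gb N18881
def N23303 : Q := sm gc N18881
def N23304 : Q := sm gd N18882
def N23305 : Q := sm gg N18882
def N23306 : Q := sm gb N18883
def N23307 : Q := sm ga N18884
def N23308 : Q := sm gc N18884
def N23309 : Q := sm gf N18884
def N23310 : Q := sm ga N18885
def N23311 : Q := sm gc N18885
def N23312 : Q := sm gf N18885
def N23313 : Q := sm gg N18885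
def N23314 : Q := sm gb N18886
def N23315 : Q := sm gb N18888
def N23316 : Q := sm ga N18889
def N23317 : Q := sm gc N18889
def N23318 : Q := sm gf N18889
def N23319 : Q := sm gc N18890
def N23320 : Q := sm gf N18890
def N23321 : Q := sm gd N18891
def N23322 : Q := sm gf N18891
def N23323 : Q := sm gg N18892
def N23324 : Q := sm gf N18893
def N23325 : Q := sm gg N18893
def N23326 : Q := sm gf N18894
def N23327 : Q := sm gg N18895
def N23328 : Q := sm ga N18897
def N23329 : Q := sm gd N18897
def N23330 : Q := sm gf N18897
def N23331 : Q := sm gg N18898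
def N23332 : Q := sm ga N18905
def N23333 : Q := sm gg N18905
def N23334 : Q := sm gg N18906
def N23335 : Q := sm gf N18907
def N23336 : Q := sm ge N18908
def N23337 : Q := sm gf N18908
def N23338 : Q := sm gg N18908
def N23339 : Q := sm gb N18910
def N23340 : Q := sm gg N18911
def N23341 : Q := sm gg N18912
def N23342 : Q := sm gg N18913
def N23343 : Q := sm gf N18914
def N23344 : Q := sm gb N18915
def N23345 : Q := sm gb N18916
def N23346 : Q := sm ga N18917
def N23347 : Q := sm gc N18917
def N23348 : Q := sm gf N18917
def N23349 : Q := sm gb N18918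
def N23350 : Q := sm gb N18919
def N23351 : Q := sm gc N18919
def N23352 : Q := sm gf N18919
def N23353 : Q := sm gd N18920
def N23354 : Q := sm gf N18920
def N23355 : Q := sm gb N18921
def N23356 : Q := sm gg N18921
def N23357 : Q := sm ga N18922
def N23358 : Q := sm gc N18922
def N23359 : Q := sm gg N18922
def N23360 : Q := sm gd N18924
def N23361 : Q := sm gf N18924
def N23362 : Q := sm gb N18925
def N23363 : Q := sm gc N18926
def N23364 : Q := sm ge N18926
def N23365 : Q := sm gf N18926
def N23366 : Q := sm gb N18927
def N23367 : Q := sm gg N18927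
def N23368 : Q := sm ga N18928
def N23369 : Q := sm gg N18928
def N23370 : Q := sm gb N18929
def N23371 : Q := sm gg N18930
def N23372 : Q := sm gf N18931
def N23373 : Q := sm ga N18932
def N23374 : Q := sm gd N18932
def N23375 : Q := sm gg N18932
def N23376 : Q := sm ge N18933
def N23377 : Q := sm gb N18934
def N23378 : Q := sm ge N18934
def N23379 : Q := sm gb N18936
def N23380 : Q := sm gd N18936
def N23381 : Q := sm gf N18936
def N23382 : Q := sm gg N18936
def N23383 : Q := sm gc N18937
def N23384 : Q := sm ge N18937
def N23385 : Q := sm gf N18937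
def N23386 : Q := sm gg N18937
def N23387 : Q := sm gg N18938
def N23388 : Q := sm gf N18939
def N23389 : Q := sm ga N18941
def N23390 : Q := sm ge N18941
def N23391 : Q := sm gf N18941
def N23392 : Q := sm gg N18941
def N23393 : Q := sm gg N18945
def N23394 : Q := sm gf N18946
def N23395 : Q := sm ge N18948
def N23396 : Q := sm gf N18948
def N23397 : Q := sm gg N18948
def N23398 : Q := sm gb N18949
def N23399 : Q := sm gf N18951
def N23400 : Q := sm gf N18952
def N23401 : Q := sm gg N18953
def N23402 : Q := sm gf N18954
def N23403 : Q := sm gb N18955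
def N23404 : Q := sm gb N18956
def N23405 : Q := sm ga N18957
def N23406 : Q := sm gc N18957
def N23407 : Q := sm gg N18957
def N23408 : Q := sm gb N18958
def N23409 : Q := sm gb N18959
def N23410 : Q := sm gc N18959
def N23411 : Q := sm gg N18959
def N23412 : Q := sm gd N18960
def N23413 : Q := sm gg N18960
def N23414 : Q := sm gb N18961
def N23415 : Q := sm gf N18961
def N23416 : Q := sm ga N18962
def N23417 : Q := sm gc N18962
def N23418 : Q := sm gf N18962
def N23419 : Q := sm gd N18964
def N23420 : Q := sm gg N18964
def N23421 : Q := sm gb N18965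
def N23422 : Q := sm gc N18966
def N23423 : Q := sm ge N18966
def N23424 : Q := sm gg N18966
def N23425 : Q := sm gb N18967
def N23426 : Q := sm gf N18967
def N23427 : Q := sm ga N18968
def N23428 : Q := sm gf N18968
def N23429 : Q := sm gb N18969
def N23430 : Q := sm gf N18970
def N23431 : Q := sm gg N18971
def N23432 : Q := sm ga N18972
def N23433 : Q := sm gd N18972
def N23434 : Q := sm gf N18972
def N23435 : Q := sm ge N18973
def N23436 : Q := sm gb N18974
def N23437 : Q := sm ge N18974
def N23438 : Q := sm gb N18976
def N23439 : Q := sm gd N18976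
def N23440 : Q := sm gf N18976
def N23441 : Q := sm gg N18976
def N23442 : Q := sm gc N18977
def N23443 : Q := sm ge N18977
def N23444 : Q := sm gf N18977
def N23445 : Q := sm gg N18977
def N23446 : Q := sm gg N18978
def N23447 : Q := sm gf N18979
def N23448 : Q := sm ga N18981
def N23449 : Q := sm ge N18981
def N23450 : Q := sm gf N18981
def N23451 : Q := sm gg N18981
def N23452 : Q := sm gg N18984
def N23453 : Q := sm gb N18985
def N23454 : Q := sm gf N18986
def N23455 : Q := sm gb N18987
def N23456 : Q := sm gc N18988
def N23457 : Q := sm gb N18989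
def N23458 : Q := sm ga N18990
def N23459 : Q := sm gd N18990
def N23460 : Q := sm gf N18990
def N23461 : Q := sm gg N18990
def N23462 : Q := sm ge N18991
def N23463 : Q := sm ga N18992
def N23464 : Q := sm gf N18992
def N23465 : Q := sm gg N18992
def N23466 : Q := sm gb N18993
def N23467 : Q := sm gd N18993
def N23468 : Q := sm gf N18993
def N23469 : Q := sm gg N18993
def N23470 : Q := sm gc N18994
def N23471 : Q := sm ge N18994
def N23472 : Q := sm gf N18994
def N23473 : Q := sm gg N18994
def N23474 : Q := sm gg N18995
def N23475 : Q := sm gf N18996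
def N23476 : Q := sm gf N18999
def N23477 : Q := sm gb N19000
def N23478 : Q := sm gg N19004
def N23479 : Q := sm gb N19006
def N23480 : Q := sm gc N19008
def N23481 : Q := sm gb N19009
def N23482 : Q := sm ga N19010
def N23483 : Q := sm gd N19010
def N23484 : Q := sm gf N19010
def N23485 : Q := sm gg N19010
def N23486 : Q := sm ge N19011
def N23487 : Q := sm ga N19012
def N23488 : Q := sm gf N19012
def N23489 : Q := sm gg N19012
def N23490 : Q := sm gb N19013
def N23491 : Q := sm gd N19013
def N23492 : Q := sm gf N19013
def N23493 : Q := sm gg N19013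
def N23494 : Q := sm gc N19014
def N23495 : Q := sm ge N19014
def N23496 : Q := sm gf N19014
def N23497 : Q := sm gg N19014
def N23498 : Q := sm gg N19015
def N23499 : Q := sm gf N19016
def N23500 : Q := sm gg N19038
def N23501 : Q := sm gf N19046
def N23502 : Q := sm gb N19058
def N23503 : Q := sm ga N19059
def N23504 : Q := sm gc N19059
def N23505 : Q := sm gb N19060
def N23506 : Q := sm gc N19060
def N23507 : Q := sm gf N19060
def N23508 : Q := sm gf N19061
def N23509 : Q := sm gg N19062
def N23510 : Q := sm gc N19063
def N23511 : Q := sm gc N19067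
def N23512 : Q := sm gb N19068
def N23513 : Q := sm gg N19068
def N23514 : Q := sm gf N19070
def N23515 : Q := sm gg N19070
def N23516 : Q := sm gb N19072
def N23517 : Q := sm gb N19082
def N23518 : Q := sm gc N19083
def N23519 : Q := sm gc N19084
def N23520 : Q := sm gg N19084
def N23521 : Q := sm gg N19085
def N23522 : Q := sm gf N19086
def N23523 : Q := sm gc N19087
def N23524 : Q := sm gc N19091
def N23525 : Q := sm gb N19092
def N23526 : Q := sm gf N19092
def N23527 : Q := sm gf N19094
def N23528 : Q := sm gg N19094
def N23529 : Q := sm gb N19096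
def N23530 : Q := sm ge N19103
def N23531 : Q := sm gg N19110
def N23532 : Q := sm gb N19112
def N23533 : Q := sm gc N19113
def N23534 : Q := sm gf N19113
def N23535 : Q := sm gb N19114
def N23536 : Q := sm gc N19119
def N23537 : Q := sm gg N19120
def N23538 : Q := sm gb N19121
def N23539 : Q := sm gf N19121
def N23540 : Q := sm gb N19122
def N23541 : Q := sm ga N19123
def N23542 : Q := sm gc N19123
def N23543 : Q := sm gf N19123
def N23544 : Q := sm gb N19124
def N23545 : Q := sm gb N19125
def N23546 : Q := sm ga N19126
def N23547 : Q := sm gc N19126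
def N23548 : Q := sm gf N19126
def N23549 : Q := sm gb N19127
def N23550 : Q := sm gf N19127
def N23551 : Q := sm gf N19128
def N23552 : Q := sm gg N19129
def N23553 : Q := sm gf N19131
def N23554 : Q := sm ge N19133
def N23555 : Q := sm gb N19134
def N23556 : Q := sm ga N19135
def N23557 : Q := sm gc N19135
def N23558 : Q := sm gb N19136
def N23559 : Q := sm ga N19139
def N23560 : Q := sm ga N19140
def N23561 : Q := sm gf N19140
def N23562 : Q := sm gd N19141
def N23563 : Q := sm gc N19142
def N23564 : Q := sm gf N19142
def N23565 : Q := sm gb N19143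
def N23566 : Q := sm ga N19144
def N23567 : Q := sm gc N19144
def N23568 : Q := sm gg N19144
def N23569 : Q := sm gb N19145
def N23570 : Q := sm gc N19145
def N23571 : Q := sm gg N19145
def N23572 : Q := sm gg N19146
def N23573 : Q := sm gf N19147
def N23574 : Q := sm gc N19148
def N23575 : Q := sm gb N19149
def N23576 : Q := sm gd N19149
def N23577 : Q := sm gf N19149
def N23578 : Q := sm gg N19149
def N23579 : Q := sm ga N19152
def N23580 : Q := sm gg N19152
def N23581 : Q := sm ga N19153
def N23582 : Q := sm gc N19153
def N23583 : Q := sm gc N19154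
def N23584 : Q := sm gb N19158
def N23585 : Q := sm gb N19161
def N23586 : Q := sm gb N19165
def N23587 : Q := sm gb N19167
def N23588 : Q := sm gd N19167
def N23589 : Q := sm gc N19168
def N23590 : Q := sm gg N19168
def N23591 : Q := sm ge N19172
def N23592 : Q := sm gf N19179
def N23593 : Q := sm gc N19181
def N23594 : Q := sm gg N19181
def N23595 : Q := sm gb N19182
def N23596 : Q := sm gb N19183
def N23597 : Q := sm gf N19188
def N23598 : Q := sm gb N19189
def N23599 : Q := sm gg N19189
def N23600 : Q := sm ga N19190
def N23601 : Q := sm gc N19190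
def N23602 : Q := sm gg N19190
def N23603 : Q := sm gb N19191
def N23604 : Q := sm gb N19192
def N23605 : Q := sm gb N19193
def N23606 : Q := sm ga N19194
def N23607 : Q := sm gc N19194
def N23608 : Q := sm gg N19194
def N23609 : Q := sm gb N19195
def N23610 : Q := sm gg N19195
def N23611 : Q := sm gg N19196
def N23612 : Q := sm gf N19197
def N23613 : Q := sm ge N19200
def N23614 : Q := sm gb N19201
def N23615 : Q := sm ga N19202
def N23616 : Q := sm gc N19202
def N23617 : Q := sm gb N19203
def N23618 : Q := sm ga N19206
def N23619 : Q := sm ga N19207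
def N23620 : Q := sm gg N19207
def N23621 : Q := sm ga N19210
def N23622 : Q := sm gc N19210
def N23623 : Q := sm gf N19210
def N23624 : Q := sm gb N19211
def N23625 : Q := sm gc N19211
def N23626 : Q := sm gf N19211
def N23627 : Q := sm gg N19213
def N23628 : Q := sm gc N19214
def N23629 : Q := sm gd N19215
def N23630 : Q := sm gf N19215
def N23631 : Q := sm gg N19215
def N23632 : Q := sm gb N19228
def N23633 : Q := sm gb N19230
def N23634 : Q := sm gb N19235
def N23635 : Q := sm gg N19236
def N23636 : Q := sm gg N19237
def N23637 : Q := sm gf N19238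
def N23638 : Q := sm gb N19239
def N23639 : Q := sm gb N19240
def N23640 : Q := sm ga N19244
def N23641 : Q := sm gc N19244
def N23642 : Q := sm gf N19244
def N23643 : Q := sm gc N19245
def N23644 : Q := sm gg N19246
def N23645 : Q := sm gb N19247
def N23646 : Q := sm gf N19247
def N23647 : Q := sm gb N19251
def N23648 : Q := sm gd N19254
def N23649 : Q := sm gb N19255
def N23650 : Q := sm gg N19255
def N23651 : Q := sm gc N19256
def N23652 : Q := sm gg N19257
def N23653 : Q := sm gc N19260
def N23654 : Q := sm ge N19260
def N23655 : Q := sm gb N19261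
def N23656 : Q := sm ga N19262
def N23657 : Q := sm gc N19262
def N23658 : Q := sm gg N19262
def N23659 : Q := sm gb N19263
def N23660 : Q := sm ge N19263
def N23661 : Q := sm ga N19265
def N23662 : Q := sm gg N19265
def N23663 : Q := sm gb N19268
def N23664 : Q := sm gf N19269
def N23665 : Q := sm gb N19270
def N23666 : Q := sm gb N19271
def N23667 : Q := sm gd N19272
def N23668 : Q := sm gg N19272
def N23669 : Q := sm ge N19273
def N23670 : Q := sm gf N19274
def N23671 : Q := sm ga N19276
def N23672 : Q := sm ge N19276
def N23673 : Q := sm gg N19276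
def N23674 : Q := sm gd N19278
def N23675 : Q := sm gf N19278
def N23676 : Q := sm gg N19278
def N23677 : Q := sm ge N19279
def N23678 : Q := sm gb N19280
def N23679 : Q := sm gb N19281
def N23680 : Q := sm gb N19286
def N23681 : Q := sm gb N19287
def N23682 : Q := sm gb N19288
def N23683 : Q := sm ge N19288
def N23684 : Q := sm gg N19288
def N23685 : Q := sm gg N19289
def N23686 : Q := sm gb N19291
def N23687 : Q := sm gf N19293
def N23688 : Q := sm gg N19294
def N23689 : Q := sm gf N19295
def N23690 : Q := sm gb N19296
def N23691 : Q := sm gb N19297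
def N23692 : Q := sm gc N19301
def N23693 : Q := sm ga N19302
def N23694 : Q := sm gc N19302
def N23695 : Q := sm gg N19302
def N23696 : Q := sm gf N19303
def N23697 : Q := sm gb N19304
def N23698 : Q := sm gg N19304
def N23699 : Q := sm gb N19308
def N23700 : Q := sm gd N19311
def N23701 : Q := sm gb N19312
def N23702 : Q := sm gf N19312
def N23703 : Q := sm gc N19313
def N23704 : Q := sm gf N19314
def N23705 : Q := sm gc N19317
def N23706 : Q := sm ge N19317
def N23707 : Q := sm gb N19318
def N23708 : Q := sm ga N19319
def N23709 : Q := sm gc N19319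
def N23710 : Q := sm gf N19319
def N23711 : Q := sm gb N19320
def N23712 : Q := sm ge N19320
def N23713 : Q := sm ga N19322
def N23714 : Q := sm gf N19322
def N23715 : Q := sm gb N19325
def N23716 : Q := sm gg N19326
def N23717 : Q := sm gb N19327
def N23718 : Q := sm gb N19328
def N23719 : Q := sm gd N19329
def N23720 : Q := sm gf N19329
def N23721 : Q := sm ge N19330
def N23722 : Q := sm gg N19331
def N23723 : Q := sm ga N19333
def N23724 : Q := sm ge N19333
def N23725 : Q := sm gf N19333
def N23726 : Q := sm gd N19335
def N23727 : Q := sm gf N19335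
def N23728 : Q := sm gg N19335
def N23729 : Q := sm ge N19336
def N23730 : Q := sm gb N19337
def N23731 : Q := sm gb N19338
def N23732 : Q := sm gb N19343
def N23733 : Q := sm gb N19344
def N23734 : Q := sm gb N19345
def N23735 : Q := sm ge N19345
def N23736 : Q := sm gf N19345
def N23737 : Q := sm gf N19346
def N23738 : Q := sm gb N19351
def N23739 : Q := sm gg N19353
def N23740 : Q := sm gb N19355
def N23741 : Q := sm ga N19357
def N23742 : Q := sm gf N19357
def N23743 : Q := sm gf N19358
def N23744 : Q := sm gf N19360
def N23745 : Q := sm gb N19361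
def N23746 : Q := sm gb N19362
def N23747 : Q := sm ga N19365
def N23748 : Q := sm gg N19366
def N23749 : Q := sm ge N19369
def N23750 : Q := sm gd N19371
def N23751 : Q := sm gf N19371
def N23752 : Q := sm gc N19372
def N23753 : Q := sm ge N19372
def N23754 : Q := sm gg N19372
def N23755 : Q := sm gb N19376
def N23756 : Q := sm ga N19378
def N23757 : Q := sm gc N19378
def N23758 : Q := sm gd N19378
def N23759 : Q := sm ge N19378
def N23760 : Q := sm gf N19378
def N23761 : Q := sm ge N19379
def N23762 : Q := sm gf N19380
def N23763 : Q := sm gg N19380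
def N23764 : Q := sm gb N19381
def N23765 : Q := sm gg N19383
def N23766 : Q := sm gf N19386
def N23767 : Q := sm gb N19387
def N23768 : Q := sm gb N19391
def N23769 : Q := sm gf N19393
def N23770 : Q := sm ga N19395
def N23771 : Q := sm ga N19401
def N23772 : Q := sm gf N19402
def N23773 : Q := sm ge N19405
def N23774 : Q := sm gd N19407
def N23775 : Q := sm gg N19407
def N23776 : Q := sm gc N19408
def N23777 : Q := sm ge N19408
def N23778 : Q := sm gf N19408
def N23779 : Q := sm gb N19412
def N23780 : Q := sm ga N19414
def N23781 : Q := sm gc N19414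
def N23782 : Q := sm gd N19414
def N23783 : Q := sm ge N19414
def N23784 : Q := sm gg N19414
def N23785 : Q := sm ge N19415
def N23786 : Q := sm gf N19416
def N23787 : Q := sm gg N19416
def N23788 : Q := sm gb N19418
def N23789 : Q := sm gf N19419
def N23790 : Q := sm gg N19421
def N23791 : Q := sm gb N19423
def N23792 : Q := sm gb N19425
def N23793 : Q := sm gb N19426
def N23794 : Q := sm ga N19427
def N23795 : Q := sm gc N19427
def N23796 : Q := sm gb N19428
def N23797 : Q := sm gc N19429
def N23798 : Q := sm gf N19429
def N23799 : Q := sm gd N19431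
def N23800 : Q := sm gg N19432
def N23801 : Q := sm ga N19434
def N23802 : Q := sm gf N19437
def N23803 : Q := sm gf N19443
def N23804 : Q := sm ga N19447
def N23805 : Q := sm ge N19448
def N23806 : Q := sm gf N19449
def N23807 : Q := sm gb N19450
def N23808 : Q := sm gf N19454
def N23809 : Q := sm gg N19454
def N23810 : Q := sm gf N19457
def N23811 : Q := sm gc N19462
def N23812 : Q := sm gg N19462
def N23813 : Q := sm gd N19467
def N23814 : Q := sm gb N19469
def N23815 : Q := sm gf N19469
def N23816 : Q := sm gc N19470
def N23817 : Q := sm gb N19471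
def N23818 : Q := sm gb N19472
def N23819 : Q := sm ga N19473
def N23820 : Q := sm ga N19474
def N23821 : Q := sm gd N19475
def N23822 : Q := sm gg N19475
def N23823 : Q := sm gb N19481
def N23824 : Q := sm gb N19482
def N23825 : Q := sm ga N19483
def N23826 : Q := sm gc N19483
def N23827 : Q := sm gb N19484
def N23828 : Q := sm gd N19487
def N23829 : Q := sm gg N19492
def N23830 : Q := sm gg N19494
def N23831 : Q := sm ge N19498
def N23832 : Q := sm gg N19499
def N23833 : Q := sm gb N19500
def N23834 : Q := sm gf N19504
def N23835 : Q := sm gg N19505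
def N23836 : Q := sm gd N19509
def N23837 : Q := sm gb N19510
def N23838 : Q := sm gc N19512
def N23839 : Q := sm gb N19513
def N23840 : Q := sm ga N19515
def N23841 : Q := sm ga N19516
def N23842 : Q := sm gd N19517
def N23843 : Q := sm gf N19517
def N23844 : Q := sm ga N19523
def N23845 : Q := sm gc N19523
def N23846 : Q := sm gf N19523
def N23847 : Q := sm ga N19524
def N23848 : Q := sm gc N19524
def N23849 : Q := sm gg N19524
def N23850 : Q := sm gg N19525
def N23851 : Q := sm gf N19526
def N23852 : Q := sm gc N19529
def N23853 : Q := sm gc N19530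
def N23854 : Q := sm gc N19531
def N23855 : Q := sm gf N19531
def N23856 : Q := sm gd N19532
def N23857 : Q := sm gf N19532
def N23858 : Q := sm gc N19534
def N23859 : Q := sm gg N19534
def N23860 : Q := sm gd N19535
def N23861 : Q := sm gg N19535
def N23862 : Q := sm gc N19537
def N23863 : Q := sm gc N19538
def N23864 : Q := sm gd N19539
def N23865 : Q := sm gg N19539
def N23866 : Q := sm gd N19541
def N23867 : Q := sm gf N19541
def N23868 : Q := sm gb N19544
def N23869 : Q := sm ga N19545
def N23870 : Q := sm gc N19545
def N23871 : Q := sm gf N19545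
def N23872 : Q := sm gb N19547
def N23873 : Q := sm ga N19548
def N23874 : Q := sm gc N19548
def N23875 : Q := sm gg N19548
def N23876 : Q := sm ga N19549
def N23877 : Q := sm gc N19549
def N23878 : Q := sm gf N19549
def N23879 : Q := sm gb N19550
def N23880 : Q := sm gc N19550
def N23881 : Q := sm gf N19550
def N23882 : Q := sm gd N19551
def N23883 : Q := sm gf N19551
def N23884 : Q := sm gg N19552
def N23885 : Q := sm ga N19553
def N23886 : Q := sm gc N19553
def N23887 : Q := sm gg N19553
def N23888 : Q := sm gb N19554
def N23889 : Q := sm gc N19554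
def N23890 : Q := sm gg N19554
def N23891 : Q := sm gd N19555
def N23892 : Q := sm gg N19555
def N23893 : Q := sm gf N19556
def N23894 : Q := sm gg N19559
def N23895 : Q := sm gb N19560
def N23896 : Q := sm gf N19564
def N23897 : Q := sm gb N19565
def N23898 : Q := sm gg N19569
def N23899 : Q := sm gb N19570
def N23900 : Q := sm gc N19571
def N23901 : Q := sm gf N19571
def N23902 : Q := sm gc N19572
def N23903 : Q := sm gg N19572
def N23904 : Q := sm gb N19573
def N23905 : Q := sm gf N19574
def N23906 : Q := sm gc N19575
def N23907 : Q := sm gg N19575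
def N23908 : Q := sm gc N19576
def N23909 : Q := sm gf N19576
def N23910 : Q := sm gg N19586
def N23911 : Q := sm gf N19587
def N23912 : Q := sm gb N19588
def N23913 : Q := sm gb N19589
def N23914 : Q := sm gb N19590
def N23915 : Q := sm gb N19591
def N23916 : Q := sm ga N19592
def N23917 : Q := sm gc N19592
def N23918 : Q := sm ga N19593
def N23919 : Q := sm gc N19593
def N23920 : Q := sm gb N19594
def N23921 : Q := sm ga N19595
def N23922 : Q := sm gc N19595
def N23923 : Q := sm gb N19596
def N23924 : Q := sm ga N19597
def N23925 : Q := sm gc N19597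
def N23926 : Q := sm ga N19598
def N23927 : Q := sm gc N19598
def N23928 : Q := sm gf N19598
def N23929 : Q := sm gb N19599
def N23930 : Q := sm gc N19599
def N23931 : Q := sm gf N19599
def N23932 : Q := sm gd N19600
def N23933 : Q := sm gf N19600
def N23934 : Q := sm gg N19601
def N23935 : Q := sm ga N19602
def N23936 : Q := sm gc N19602
def N23937 : Q := sm gg N19602
def N23938 : Q := sm gb N19603
def N23939 : Q := sm gc N19603
def N23940 : Q := sm gg N19603
def N23941 : Q := sm gd N19604
def N23942 : Q := sm gg N19604
def N23943 : Q := sm gf N19605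
def N23944 : Q := sm gf N19610
def N23945 : Q := sm gf N19612
def N23946 : Q := sm gg N19613
def N23947 : Q := sm gg N19619
def N23948 : Q := sm gg N19621
def N23949 : Q := sm gf N19622
def N23950 : Q := sm gg N19625
def N23951 : Q := sm gf N19627
def N23952 : Q := sm gf N19630
def N23953 : Q := sm gg N19632
def N23954 : Q := sm gb N19634
def N23955 : Q := sm gb N19637
def N23956 : Q := sm gb N19639
def N23957 : Q := sm gb N19642
def N23958 : Q := sm gc N19645
def N23959 : Q := sm gb N19646
def N23960 : Q := sm gf N19647
def N23961 : Q := sm gf N19648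
def N23962 : Q := sm gg N19651
def N23963 : Q := sm gf N19652
def N23964 : Q := sm gc N19653
def N23965 : Q := sm gg N19657
def N23966 : Q := sm gf N19660
def N23967 : Q := sm gg N19661
def N23968 : Q := sm gc N19662
def N23969 : Q := sm gc N19663
def N23970 : Q := sm gd N19665
def N23971 : Q := sm gg N19665
def N23972 : Q := sm gc N19666
def N23973 : Q := sm ge N19666
def N23974 : Q := sm gb N19667
def N23975 : Q := sm ge N19667
def N23976 : Q := sm gg N19667
def N23977 : Q := sm gg N19668
def N23978 : Q := sm gb N19669
def N23979 : Q := sm ga N19670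
def N23980 : Q := sm gc N19670
def N23981 : Q := sm gf N19670
def N23982 : Q := sm gb N19671
def N23983 : Q := sm gc N19671
def N23984 : Q := sm gd N19672
def N23985 : Q := sm gf N19672
def N23986 : Q := sm ga N19674
def N23987 : Q := sm gc N19674
def N23988 : Q := sm gg N19674
def N23989 : Q := sm gb N19675
def N23990 : Q := sm gd N19675
def N23991 : Q := sm gf N19675
def N23992 : Q := sm gf N19677
def N23993 : Q := sm gg N19678
def N23994 : Q := sm gb N19679
def N23995 : Q := sm gd N19681
def N23996 : Q := sm gf N19681
def N23997 : Q := sm gc N19682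
def N23998 : Q := sm ge N19682
def N23999 : Q := sm gb N19683
def N24000 : Q := sm ge N19683
def N24001 : Q := sm gf N19683
def N24002 : Q := sm gf N19684
def N24003 : Q := sm gb N19685
def N24004 : Q := sm ga N19686
def N24005 : Q := sm gc N19686
def N24006 : Q := sm gg N19686
def N24007 : Q := sm gb N19687
def N24008 : Q := sm gc N19687
def N24009 : Q := sm gd N19688
def N24010 : Q := sm gg N19688
def N24011 : Q := sm ga N19690
def N24012 : Q := sm gc N19690
def N24013 : Q := sm gf N19690
def N24014 : Q := sm gb N19691
def N24015 : Q := sm gd N19691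
def N24016 : Q := sm gg N19691
def N24017 : Q := sm gg N19693
def N24018 : Q := sm gf N19694
def N24019 : Q := sm gb N19695
def N24020 : Q := sm gb N19699
def N24021 : Q := sm ge N19701
def N24022 : Q := sm gg N19701
def N24023 : Q := sm gd N19705
def N24024 : Q := sm gc N19707
def N24025 : Q := sm ga N19708
def N24026 : Q := sm gg N19708
def N24027 : Q := sm gc N19710
def N24028 : Q := sm gb N19712
def N24029 : Q := sm ge N19714
def N24030 : Q := sm gf N19714
def N24031 : Q := sm gd N19718
def N24032 : Q := sm gc N19720
def N24033 : Q := sm ga N19721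
def N24034 : Q := sm gf N19721
def N24035 : Q := sm gc N19723
def N24036 : Q := sm gb N19725
def N24037 : Q := sm gf N19727
def N24038 : Q := sm gb N19728
def N24039 : Q := sm ge N19730
def N24040 : Q := sm gg N19730
def N24041 : Q := sm gg N19731
def N24042 : Q := sm gb N19732
def N24043 : Q := sm ga N19733
def N24044 : Q := sm gc N19733
def N24045 : Q := sm gf N19733
def N24046 : Q := sm gf N19734
def N24047 : Q := sm gd N19735
def N24048 : Q := sm gf N19735
def N24049 : Q := sm gd N19737
def N24050 : Q := sm gg N19737
def N24051 : Q := sm gb N19738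
def N24052 : Q := sm gf N19738
def N24053 : Q := sm gf N19739
def N24054 : Q := sm gb N19740
def N24055 : Q := sm ga N19741
def N24056 : Q := sm gc N19741
def N24057 : Q := sm gg N19741
def N24058 : Q := sm gc N19742
def N24059 : Q := sm gg N19742
def N24060 : Q := sm gb N19743
def N24061 : Q := sm gd N19743
def N24062 : Q := sm gc N19744
def N24063 : Q := sm ge N19744
def N24064 : Q := sm gf N19744
def N24065 : Q := sm gb N19745
def N24066 : Q := sm gc N19747
def N24067 : Q := sm gd N19748
def N24068 : Q := sm gg N19748
def N24069 : Q := sm gb N19751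
def N24070 : Q := sm gd N19751
def N24071 : Q := sm gf N19751
def N24072 : Q := sm gg N19751
def N24073 : Q := sm ga N19754
def N24074 : Q := sm gd N19754
def N24075 : Q := sm gf N19754
def N24076 : Q := sm gg N19754
def N24077 : Q := sm gc N19755
def N24078 : Q := sm ge N19755
def N24079 : Q := sm gf N19755
def N24080 : Q := sm gb N19756
def N24081 : Q := sm gb N19757
def N24082 : Q := sm ge N19757
def N24083 : Q := sm gf N19757
def N24084 : Q := sm gf N19758
def N24085 : Q := sm gg N19759
def N24086 : Q := sm gb N19760
def N24087 : Q := sm gc N19761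
def N24088 : Q := sm gf N19761
def N24089 : Q := sm gb N19763
def N24090 : Q := sm gg N19764
def N24091 : Q := sm ge N19768
def N24092 : Q := sm gf N19768
def N24093 : Q := sm gf N19769
def N24094 : Q := sm gb N19770
def N24095 : Q := sm ga N19771
def N24096 : Q := sm gc N19771
def N24097 : Q := sm gg N19771
def N24098 : Q := sm gd N19773
def N24099 : Q := sm gg N19773
def N24100 : Q := sm gd N19775
def N24101 : Q := sm gf N19775
def N24102 : Q := sm gb N19776
def N24103 : Q := sm gg N19776
def N24104 : Q := sm gg N19777
def N24105 : Q := sm gb N19778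
def N24106 : Q := sm ga N19779
def N24107 : Q := sm gc N19779
def N24108 : Q := sm gf N19779
def N24109 : Q := sm gc N19780
def N24110 : Q := sm gf N19780
def N24111 : Q := sm gb N19781
def N24112 : Q := sm gd N19781
def N24113 : Q := sm gc N19782
def N24114 : Q := sm ge N19782
def N24115 : Q := sm gg N19782
def N24116 : Q := sm gb N19783
def N24117 : Q := sm gc N19785
def N24118 : Q := sm gd N19786
def N24119 : Q := sm gf N19786
def N24120 : Q := sm gb N19789
def N24121 : Q := sm gd N19789
def N24122 : Q := sm gf N19789
def N24123 : Q := sm gg N19789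
def N24124 : Q := sm ga N19792
def N24125 : Q := sm gd N19792
def N24126 : Q := sm gf N19792
def N24127 : Q := sm gg N19792
def N24128 : Q := sm gc N19793
def N24129 : Q := sm ge N19793
def N24130 : Q := sm gg N19793
def N24131 : Q := sm gb N19794
def N24132 : Q := sm gb N19795
def N24133 : Q := sm ge N19795
def N24134 : Q := sm gg N19795
def N24135 : Q := sm gg N19796
def N24136 : Q := sm gf N19797
def N24137 : Q := sm gb N19798
def N24138 : Q := sm gc N19799
def N24139 : Q := sm gg N19799
def N24140 : Q := sm gb N19800
def N24141 : Q := sm gd N19800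
def N24142 : Q := sm gf N19800
def N24143 : Q := sm gg N19800
def N24144 : Q := sm gc N19801
def N24145 : Q := sm ge N19801
def N24146 : Q := sm gf N19801
def N24147 : Q := sm gg N19801
def N24148 : Q := sm gf N19803
def N24149 : Q := sm ga N19805
def N24150 : Q := sm ge N19805
def N24151 : Q := sm gf N19805
def N24152 : Q := sm gg N19805
def N24153 : Q := sm gb N19807
def N24154 : Q := sm gd N19807
def N24155 : Q := sm gf N19807
def N24156 : Q := sm gg N19807
def N24157 : Q := sm gc N19808
def N24158 : Q := sm ge N19808
def N24159 : Q := sm gf N19808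
def N24160 : Q := sm gg N19808
def N24161 : Q := sm gg N19809
def N24162 : Q := sm ga N19812
def N24163 : Q := sm ge N19812
def N24164 : Q := sm gf N19812
def N24165 : Q := sm gg N19812
def N24166 : Q := sm ga N19814
def N24167 : Q := sm gf N19814
def N24168 : Q := sm gg N19814
def N24169 : Q := sm gb N19815
def N24170 : Q := sm gd N19815
def N24171 : Q := sm gf N19815
def N24172 : Q := sm gg N19815
def N24173 : Q := sm gc N19816
def N24174 : Q := sm ge N19816
def N24175 : Q := sm gf N19816
def N24176 : Q := sm gg N19816
def N24178 : Q := sm gf N19818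
def N24179 : Q := sm ga N19820
def N24180 : Q := sm gf N19820
def N24181 : Q := sm gg N19820
def N24182 : Q := sm gb N19821
def N24183 : Q := sm gd N19821
def N24184 : Q := sm gf N19821
def N24185 : Q := sm gg N19821
def N24186 : Q := sm gc N19822
def N24187 : Q := sm ge N19822
def N24188 : Q := sm gf N19822
def N24189 : Q := sm gg N19822
def N24190 : Q := sm gg N19823
def N24191 : Q := sm gf N19824
def N24192 : Q := sm gb N19828
def N24193 : Q := sm gc N19834
def N24194 : Q := sm ge N19834
def N24195 : Q := sm gb N19837
def N24196 : Q := sm gc N19841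
def N24197 : Q := sm ge N19841
def N24198 : Q := sm gb N19846
def N24199 : Q := sm gf N19847
def N24200 : Q := sm gc N19848
def N24201 : Q := sm gg N19851
def N24202 : Q := sm gd N19852
def N24203 : Q := sm gf N19853
def N24204 : Q := sm gb N19854
def N24205 : Q := sm gc N19855
def N24206 : Q := sm gb N19856
def N24207 : Q := sm gd N19856
def N24208 : Q := sm gg N19856
def N24209 : Q := sm ga N19858
def N24210 : Q := sm gd N19858
def N24211 : Q := sm gf N19858
def N24212 : Q := sm gc N19859
def N24213 : Q := sm ge N19859
def N24214 : Q := sm gf N19859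
def N24215 : Q := sm gb N19860
def N24216 : Q := sm gd N19861
def N24217 : Q := sm ge N19861
def N24218 : Q := sm gf N19861
def N24219 : Q := sm gf N19862
def N24220 : Q := sm gg N19863
def N24221 : Q := sm gb N19864
def N24222 : Q := sm gb N19868
def N24223 : Q := sm gg N19869
def N24224 : Q := sm gc N19870
def N24225 : Q := sm gf N19873
def N24226 : Q := sm gd N19874
def N24227 : Q := sm gb N19876
def N24228 : Q := sm gb N19878
def N24229 : Q := sm gf N19878
def N24230 : Q := sm ga N19880
def N24231 : Q := sm gd N19880
def N24232 : Q := sm gg N19880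
def N24233 : Q := sm gc N19881
def N24234 : Q := sm ge N19881
def N24235 : Q := sm gg N19881
def N24236 : Q := sm gb N19882
def N24237 : Q := sm gd N19883
def N24238 : Q := sm gg N19883
def N24239 : Q := sm gg N19884
def N24240 : Q := sm gf N19885
def N24241 : Q := sm gb N19886
def N24242 : Q := sm gc N19889
def N24243 : Q := sm gb N19893
def N24244 : Q := sm gf N19893
def N24245 : Q := sm gb N19896
def N24246 : Q := sm gc N19898
def N24247 : Q := sm gb N19902
def N24248 : Q := sm gg N19902
def N24249 : Q := sm gb N19905
def N24250 : Q := sm gb N19908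
def N24251 : Q := sm gc N19912
def N24252 : Q := sm gb N19913
def N24253 : Q := sm gd N19913
def N24254 : Q := sm ge N19914
def N24255 : Q := sm gb N19915
def N24256 : Q := sm gb N19918
def N24257 : Q := sm gd N19918
def N24258 : Q := sm ga N19919
def N24259 : Q := sm gd N19919
def N24260 : Q := sm gf N19919
def N24261 : Q := sm gg N19919
def N24262 : Q := sm ge N19920
def N24263 : Q := sm gf N19920
def N24264 : Q := sm gb N19921
def N24265 : Q := sm ge N19922
def N24266 : Q := sm gf N19922
def N24267 : Q := sm gf N19923
def N24268 : Q := sm gb N19924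
def N24269 : Q := sm gb N19928
def N24270 : Q := sm gc N19932
def N24271 : Q := sm gb N19933
def N24272 : Q := sm gd N19933
def N24273 : Q := sm ge N19934
def N24274 : Q := sm gb N19935
def N24275 : Q := sm gb N19938
def N24276 : Q := sm gd N19938
def N24277 : Q := sm ga N19939
def N24278 : Q := sm gd N19939
def N24279 : Q := sm gf N19939
def N24280 : Q := sm gg N19939
def N24281 : Q := sm ge N19940
def N24282 : Q := sm gg N19940
def N24283 : Q := sm gb N19941
def N24284 : Q := sm ge N19942
def N24285 : Q := sm gg N19942
def N24286 : Q := sm gg N19943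
def N24287 : Q := sm gb N19944
def N24288 : Q := sm ga N19946
def N24289 : Q := sm gf N19946
def N24290 : Q := sm gd N19949
def N24291 : Q := sm gc N19951
def N24292 : Q := sm gf N19951
def N24293 : Q := sm gg N19953
def N24294 : Q := sm gc N19955
def N24295 : Q := sm ge N19955
def N24296 : Q := sm gf N19955
def N24297 : Q := sm gc N19957
def N24298 : Q := sm gg N19957
def N24299 : Q := sm gb N19958
def N24300 : Q := sm gb N19960
def N24301 : Q := sm gc N19962
def N24302 : Q := sm gg N19962
def N24303 : Q := sm gg N19963
def N24304 : Q := sm gf N19964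
def N24305 : Q := sm gb N19966
def N24306 : Q := sm gf N19966
def N24307 : Q := sm gg N19966
def N24308 : Q := sm ga N19969
def N24309 : Q := sm gd N19969
def N24310 : Q := sm gf N19969
def N24311 : Q := sm gg N19969
def N24312 : Q := sm gc N19970
def N24313 : Q := sm ge N19970
def N24314 : Q := sm gd N19971
def N24315 : Q := sm ge N19971
def N24316 : Q := sm gf N19971
def N24317 : Q := sm gf N19972
def N24318 : Q := sm gb N19976
def N24319 : Q := sm gd N19980
def N24320 : Q := sm gf N19980
def N24321 : Q := sm ge N19981
def N24322 : Q := sm gg N19981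
def N24323 : Q := sm gb N19984
def N24324 : Q := sm gd N19984
def N24325 : Q := sm gf N19984
def N24326 : Q := sm gg N19984
def N24327 : Q := sm gc N19985
def N24328 : Q := sm ge N19985
def N24329 : Q := sm gg N19985
def N24330 : Q := sm gg N19986
def N24331 : Q := sm gf N19987
def N24332 : Q := sm ge N19988
def N24333 : Q := sm gf N19989
def N24334 : Q := sm ga N19992
def N24335 : Q := sm gd N19992
def N24336 : Q := sm ge N19992
def N24337 : Q := sm gg N19992
def N24338 : Q := sm ge N19993
def N24339 : Q := sm gd N19994
def N24340 : Q := sm gg N19996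
def N24341 : Q := sm ga N19998
def N24342 : Q := sm gc N19998
def N24343 : Q := sm gf N19998
def N24344 : Q := sm gf N20000
def N24345 : Q := sm ga N20002
def N24346 : Q := sm gg N20002
def N24347 : Q := sm gd N20004
def N24348 : Q := sm gc N20006
def N24349 : Q := sm gg N20006
def N24350 : Q := sm gf N20008
def N24351 : Q := sm gc N20009
def N24352 : Q := sm ge N20009
def N24353 : Q := sm gg N20009
def N24354 : Q := sm gc N20011
def N24355 : Q := sm gf N20011
def N24356 : Q := sm gb N20012
def N24357 : Q := sm gb N20014
def N24358 : Q := sm gb N20016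
def N24359 : Q := sm gc N20016
def N24360 : Q := sm gf N20016
def N24361 : Q := sm gg N20018
def N24362 : Q := sm gb N20020
def N24363 : Q := sm gf N20020
def N24364 : Q := sm gg N20020
def N24365 : Q := sm ga N20023
def N24366 : Q := sm gg N20023
def N24367 : Q := sm gc N20024
def N24368 : Q := sm ge N20024
def N24369 : Q := sm gd N20025
def N24370 : Q := sm ge N20025
def N24371 : Q := sm gg N20025
def N24372 : Q := sm gg N20026
def N24373 : Q := sm gd N20034
def N24374 : Q := sm gg N20034
def N24375 : Q := sm ge N20035
def N24376 : Q := sm gf N20035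
def N24377 : Q := sm gb N20038
def N24378 : Q := sm gd N20038
def N24379 : Q := sm gf N20038
def N24380 : Q := sm gg N20038
def N24381 : Q := sm gc N20039
def N24382 : Q := sm ge N20039
def N24383 : Q := sm gf N20041
def N24384 : Q := sm ge N20042
def N24385 : Q := sm gg N20043
def N24386 : Q := sm ga N20046
def N24387 : Q := sm gd N20046
def N24388 : Q := sm ge N20046
def N24389 : Q := sm gf N20046
def N24390 : Q := sm ge N20047
def N24391 : Q := sm gd N20048
def N24392 : Q := sm gf N20050
def N24393 : Q := sm ga N20052
def N24394 : Q := sm gc N20052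
def N24395 : Q := sm gg N20052
def N24396 : Q := sm gg N20054
def N24397 : Q := sm gd N20056
def N24398 : Q := sm gf N20056
def N24399 : Q := sm gb N20058
def N24400 : Q := sm gb N20062
def N24401 : Q := sm gb N20063
def N24402 : Q := sm ge N20063
def N24403 : Q := sm gf N20063
def N24404 : Q := sm gg N20063
def N24405 : Q := sm gf N20064
def N24406 : Q := sm gg N20064
def N24407 : Q := sm gf N20066
def N24408 : Q := sm gg N20067
def N24409 : Q := sm gb N20068
def N24410 : Q := sm gb N20070
def N24411 : Q := sm ge N20070
def N24412 : Q := sm gf N20070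
def N24413 : Q := sm gg N20070
def N24414 : Q := sm gf N20071
def N24415 : Q := sm gg N20071
def N24416 : Q := sm gg N20072
def N24417 : Q := sm ge N20074
def N24418 : Q := sm gg N20075
def N24419 : Q := sm gd N20078
def N24420 : Q := sm gg N20078
def N24421 : Q := sm gb N20079
def N24422 : Q := sm gg N20080
def N24423 : Q := sm ga N20083
def N24424 : Q := sm gc N20083
def N24425 : Q := sm gd N20083
def N24426 : Q := sm gf N20083
def N24427 : Q := sm gg N20083
def N24428 : Q := sm gc N20084
def N24429 : Q := sm ge N20084
def N24430 : Q := sm gf N20084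
def N24431 : Q := sm gd N20086
def N24432 : Q := sm ge N20086
def N24433 : Q := sm gg N20086
def N24434 : Q := sm gf N20087
def N24435 : Q := sm gg N20087
def N24436 : Q := sm gg N20088
def N24437 : Q := sm gb N20090
def N24438 : Q := sm ge N20091
def N24439 : Q := sm gf N20092
def N24440 : Q := sm gd N20095
def N24441 : Q := sm gf N20095
def N24442 : Q := sm gb N20096
def N24443 : Q := sm gf N20098
def N24444 : Q := sm ga N20100
def N24445 : Q := sm gc N20100
def N24446 : Q := sm gd N20100
def N24447 : Q := sm gf N20100
def N24448 : Q := sm gg N20100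
def N24449 : Q := sm gc N20101
def N24450 : Q := sm ge N20101
def N24451 : Q := sm gg N20101
def N24452 : Q := sm gd N20103
def N24453 : Q := sm ge N20103
def N24454 : Q := sm gf N20103
def N24455 : Q := sm gf N20104
def N24456 : Q := sm gg N20104
def N24457 : Q := sm gf N20106
def N24458 : Q := sm gb N20107
def N24459 : Q := sm gd N20108
def N24460 : Q := sm gg N20108
def N24461 : Q := sm gd N20110
def N24462 : Q := sm gf N20110
def N24463 : Q := sm gd N20112
def N24464 : Q := sm gg N20112
def N24465 : Q := sm gb N20113
def N24466 : Q := sm gc N20114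
def N24467 : Q := sm gd N20115
def N24468 : Q := sm gf N20115
def N24469 : Q := sm gb N20116
def N24470 : Q := sm gc N20117
def N24471 : Q := sm gd N20119
def N24472 : Q := sm gd N20121
def N24473 : Q := sm gc N20125
def N24474 : Q := sm gb N20126
def N24475 : Q := sm gc N20127
def N24476 : Q := sm gb N20128
def N24477 : Q := sm gc N20129
def N24478 : Q := sm gg N20129
def N24479 : Q := sm gd N20130
def N24480 : Q := sm gg N20130
def N24481 : Q := sm gc N20132
def N24482 : Q := sm gf N20132
def N24483 : Q := sm gd N20133
def N24484 : Q := sm gf N20133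
def N24485 : Q := sm gd N20136
def N24486 : Q := sm gg N20136
def N24487 : Q := sm ge N20138
def N24488 : Q := sm gg N20138
def N24489 : Q := sm gb N20139
def N24490 : Q := sm gf N20139
def N24491 : Q := sm gd N20142
def N24492 : Q := sm gf N20142
def N24493 : Q := sm ge N20144
def N24494 : Q := sm gf N20144
def N24495 : Q := sm gb N20145
def N24496 : Q := sm gg N20145
def N24497 : Q := sm gb N20148
def N24498 : Q := sm gd N20148
def N24499 : Q := sm gb N20150
def N24500 : Q := sm gd N20150
def N24501 : Q := sm gc N20153
def N24502 : Q := sm gb N20154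
def N24503 : Q := sm gc N20154
def N24504 : Q := sm gd N20155
def N24505 : Q := sm gc N20158
def N24506 : Q := sm gb N20159
def N24507 : Q := sm gc N20159
def N24508 : Q := sm gd N20160
def N24509 : Q := sm gd N20161
def N24510 : Q := sm gf N20161
def N24511 : Q := sm gg N20161
def N24512 : Q := sm gg N20162
def N24513 : Q := sm gf N20163
def N24514 : Q := sm ge N20166
def N24515 : Q := sm gg N20166
def N24516 : Q := sm gb N20169
def N24517 : Q := sm gc N20169
def N24518 : Q := sm gd N20170
def N24519 : Q := sm gf N20170
def N24520 : Q := sm gc N20172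
def N24521 : Q := sm gb N20173
def N24522 : Q := sm gd N20173
def N24523 : Q := sm gf N20173
def N24524 : Q := sm gc N20175
def N24525 : Q := sm ge N20175
def N24526 : Q := sm gf N20175
def N24527 : Q := sm gb N20176
def N24528 : Q := sm gg N20176
def N24529 : Q := sm gd N20178
def N24530 : Q := sm gf N20178
def N24531 : Q := sm gg N20178
def N24532 : Q := sm gg N20179
def N24533 : Q := sm gf N20180
def N24534 : Q := sm ge N20183
def N24535 : Q := sm gf N20183
def N24536 : Q := sm gb N20187
def N24537 : Q := sm gc N20187
def N24538 : Q := sm gd N20188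
def N24539 : Q := sm gg N20188
def N24540 : Q := sm gc N20190
def N24541 : Q := sm gb N20191
def N24542 : Q := sm gd N20191
def N24543 : Q := sm gg N20191
def N24544 : Q := sm gc N20193
def N24545 : Q := sm ge N20193
def N24546 : Q := sm gg N20193
def N24547 : Q := sm gb N20194
def N24548 : Q := sm gf N20194
def N24549 : Q := sm gd N20196
def N24550 : Q := sm gd N20197
def N24551 : Q := sm gg N20197
def N24552 : Q := sm gc N20198
def N24553 : Q := sm ge N20198
def N24554 : Q := sm gf N20198
def N24555 : Q := sm gg N20198
def N24556 : Q := sm gg N20199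
def N24557 : Q := sm gb N20200
def N24558 : Q := sm gf N20200
def N24559 : Q := sm gd N20203
def N24560 : Q := sm gg N20203
def N24561 : Q := sm gc N20204
def N24562 : Q := sm ge N20204
def N24563 : Q := sm gf N20204
def N24564 : Q := sm gg N20204
def N24565 : Q := sm gg N20205
def N24566 : Q := sm gb N20207
def N24567 : Q := sm ge N20207
def N24568 : Q := sm ga N20209
def N24569 : Q := sm gd N20209
def N24570 : Q := sm ge N20209
def N24571 : Q := sm gg N20209
def N24572 : Q := sm gg N20210
def N24573 : Q := sm gd N20211
def N24574 : Q := sm gg N20211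
def N24575 : Q := sm gb N20212
def N24576 : Q := sm gb N20213
def N24577 : Q := sm ga N20214
def N24578 : Q := sm gc N20214
def N24579 : Q := sm gf N20214
def N24580 : Q := sm gb N20215
def N24581 : Q := sm gc N20215
def N24582 : Q := sm gf N20215
def N24583 : Q := sm gf N20216
def N24584 : Q := sm gg N20217
def N24585 : Q := sm gc N20218
def N24586 : Q := sm gb N20219
def N24587 : Q := sm gd N20219
def N24588 : Q := sm gc N20220
def N24589 : Q := sm gf N20220
def N24590 : Q := sm gb N20221
def N24591 : Q := sm gb N20222
def N24592 : Q := sm gd N20222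
def N24593 : Q := sm ga N20223
def N24594 : Q := sm gf N20223
def N24595 : Q := sm gg N20223
def N24596 : Q := sm gc N20224
def N24597 : Q := sm gf N20224
def N24598 : Q := sm gb N20225
def N24599 : Q := sm gd N20226
def N24600 : Q := sm gf N20226
def N24601 : Q := sm gf N20227
def N24602 : Q := sm gg N20228
def N24603 : Q := sm gb N20229
def N24604 : Q := sm gd N20230
def N24605 : Q := sm gd N20231
def N24606 : Q := sm gf N20231
def N24607 : Q := sm gc N20232
def N24608 : Q := sm ge N20232
def N24609 : Q := sm gf N20232
def N24610 : Q := sm gg N20232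
def N24611 : Q := sm gb N20233
def N24612 : Q := sm gg N20233
def N24613 : Q := sm gf N20234
def N24614 : Q := sm gd N20237
def N24615 : Q := sm gf N20237
def N24616 : Q := sm gc N20238
def N24617 : Q := sm ge N20238
def N24618 : Q := sm gf N20238
def N24619 : Q := sm gg N20238
def N24620 : Q := sm gf N20240
def N24621 : Q := sm gb N20241
def N24622 : Q := sm ge N20241
def N24623 : Q := sm ga N20243
def N24624 : Q := sm gd N20243
def N24625 : Q := sm ge N20243
def N24626 : Q := sm gf N20243
def N24627 : Q := sm gf N20244
def N24628 : Q := sm gd N20245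
def N24629 : Q := sm gf N20245
def N24630 : Q := sm gb N20246
def N24631 : Q := sm gb N20247
def N24632 : Q := sm ga N20248
def N24633 : Q := sm gc N20248
def N24634 : Q := sm gg N20248
def N24635 : Q := sm gb N20249
def N24636 : Q := sm gc N20249
def N24637 : Q := sm gg N20249
def N24638 : Q := sm gg N20250
def N24639 : Q := sm gf N20251
def N24640 : Q := sm gc N20252
def N24641 : Q := sm gb N20253
def N24642 : Q := sm gd N20253
def N24643 : Q := sm gc N20254
def N24644 : Q := sm gg N20254
def N24645 : Q := sm gb N20255
def N24646 : Q := sm gb N20256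
def N24647 : Q := sm gd N20256
def N24648 : Q := sm ga N20257
def N24649 : Q := sm gf N20257
def N24650 : Q := sm gg N20257
def N24651 : Q := sm gc N20258
def N24652 : Q := sm gg N20258
def N24653 : Q := sm gb N20259
def N24654 : Q := sm gd N20260
def N24655 : Q := sm gg N20260
def N24656 : Q := sm gg N20261
def N24657 : Q := sm gf N20262
def N24658 : Q := sm gb N20263
def N24659 : Q := sm gc N20265
def N24660 : Q := sm ga N20268
def N24661 : Q := sm gc N20268
def N24662 : Q := sm gc N20269
def N24663 : Q := sm gd N20270
def N24664 : Q := sm gf N20270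
def N24665 : Q := sm ga N20272
def N24666 : Q := sm ge N20272
def N24667 : Q := sm gf N20272
def N24668 : Q := sm gg N20272
def N24669 : Q := sm gd N20273
def N24670 : Q := sm gg N20273
def N24671 : Q := sm gb N20274
def N24672 : Q := sm gb N20275
def N24673 : Q := sm gc N20276
def N24674 : Q := sm gf N20276
def N24675 : Q := sm gb N20277
def N24676 : Q := sm gb N20279
def N24677 : Q := sm ga N20280
def N24678 : Q := sm gc N20280
def N24679 : Q := sm gg N20282
def N24680 : Q := sm gf N20283
def N24681 : Q := sm gc N20284
def N24682 : Q := sm ga N20288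
def N24683 : Q := sm gc N20288
def N24684 : Q := sm gc N20289
def N24685 : Q := sm gd N20290
def N24686 : Q := sm gg N20290
def N24687 : Q := sm ga N20292
def N24688 : Q := sm ge N20292
def N24689 : Q := sm gf N20292
def N24690 : Q := sm gg N20292
def N24691 : Q := sm gd N20293
def N24692 : Q := sm gf N20293
def N24693 : Q := sm gb N20294
def N24694 : Q := sm gb N20295
def N24695 : Q := sm gc N20296
def N24696 : Q := sm gg N20296
def N24697 : Q := sm gb N20297
def N24698 : Q := sm gb N20298
def N24699 : Q := sm ga N20299
def N24700 : Q := sm gc N20299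
def N24701 : Q := sm gf N20301
def N24702 : Q := sm gg N20302
def N24703 : Q := sm gb N20305
def N24704 : Q := sm gf N20306
def N24705 : Q := sm ga N20307
def N24706 : Q := sm ge N20307
def N24707 : Q := sm gf N20307
def N24708 : Q := sm gg N20307
def N24709 : Q := sm gd N20308
def N24710 : Q := sm gg N20308
def N24711 : Q := sm gb N20309
def N24712 : Q := sm gb N20310
def N24713 : Q := sm ga N20311
def N24714 : Q := sm gc N20311
def N24715 : Q := sm gf N20311
def N24716 : Q := sm gb N20312
def N24717 : Q := sm gf N20312
def N24718 : Q := sm gc N20315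
def N24719 : Q := sm gd N20316
def N24720 : Q := sm gg N20316
def N24721 : Q := sm gb N20317
def N24722 : Q := sm gc N20318
def N24723 : Q := sm gg N20318
def N24724 : Q := sm gb N20319
def N24725 : Q := sm gf N20319
def N24726 : Q := sm ga N20320
def N24727 : Q := sm gc N20320
def N24728 : Q := sm gf N20320
def N24729 : Q := sm ga N20322
def N24730 : Q := sm gc N20322
def N24731 : Q := sm gb N20323
def N24732 : Q := sm gb N20324
def N24733 : Q := sm gc N20324
def N24734 : Q := sm gd N20325
def N24735 : Q := sm gf N20325
def N24736 : Q := sm gb N20326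
def N24737 : Q := sm ga N20327
def N24738 : Q := sm gc N20327
def N24739 : Q := sm gg N20327
def N24740 : Q := sm ga N20328
def N24741 : Q := sm gf N20328
def N24742 : Q := sm ga N20329
def N24743 : Q := sm gc N20329
def N24744 : Q := sm gg N20329
def N24745 : Q := sm gb N20330
def N24746 : Q := sm gc N20330
def N24747 : Q := sm gg N20330
def N24748 : Q := sm gg N20331
def N24749 : Q := sm gf N20332
def N24750 : Q := sm gb N20333
def N24751 : Q := sm gb N20335
def N24752 : Q := sm gb N20338
def N24753 : Q := sm gg N20340
def N24754 : Q := sm ga N20341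
def N24755 : Q := sm ge N20341
def N24756 : Q := sm gf N20341
def N24757 : Q := sm gg N20341
def N24758 : Q := sm gd N20342
def N24759 : Q := sm gf N20342
def N24760 : Q := sm gb N20343
def N24761 : Q := sm gb N20344
def N24762 : Q := sm ga N20345
def N24763 : Q := sm gc N20345
def N24764 : Q := sm gg N20345
def N24765 : Q := sm gb N20346
def N24766 : Q := sm gg N20346
def N24767 : Q := sm gc N20349
def N24768 : Q := sm gd N20350
def N24769 : Q := sm gf N20350
def N24770 : Q := sm gb N20351
def N24771 : Q := sm gc N20352
def N24772 : Q := sm gf N20352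
def N24773 : Q := sm gb N20353
def N24774 : Q := sm gg N20353
def N24775 : Q := sm ga N20354
def N24776 : Q := sm gc N20354
def N24777 : Q := sm gg N20354
def N24778 : Q := sm ga N20356
def N24779 : Q := sm gc N20356
def N24780 : Q := sm gb N20357
def N24781 : Q := sm gb N20358
def N24782 : Q := sm gc N20358
def N24783 : Q := sm gd N20359
def N24784 : Q := sm gg N20359
def N24785 : Q := sm gb N20360
def N24786 : Q := sm ga N20361
def N24787 : Q := sm gc N20361
def N24788 : Q := sm gf N20361
def N24789 : Q := sm ga N20362
def N24790 : Q := sm gg N20362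
def N24791 : Q := sm ga N20363
def N24792 : Q := sm gc N20363
def N24793 : Q := sm gf N20363
def N24794 : Q := sm gb N20364
def N24795 : Q := sm gc N20364
def N24796 : Q := sm gf N20364
def N24797 : Q := sm gf N20365
def N24798 : Q := sm gg N20366
def N24799 : Q := sm gb N20367
def N24800 : Q := sm gb N20369
def N24801 : Q := sm gg N20371
def N24802 : Q := sm gb N20372
def N24803 : Q := sm gb N20373
def N24804 : Q := sm gd N20373
def N24805 : Q := sm ge N20373
def N24806 : Q := sm gf N20373
def N24807 : Q := sm gg N20373
def N24808 : Q := sm gf N20374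
def N24809 : Q := sm gg N20374
def N24810 : Q := sm gb N20376
def N24811 : Q := sm gg N20377
def N24812 : Q := sm ga N20378
def N24813 : Q := sm ge N20379
def N24814 : Q := sm gf N20379
def N24815 : Q := sm gg N20379
def N24816 : Q := sm gd N20380
def N24817 : Q := sm gg N20380
def N24818 : Q := sm gg N20381
def N24819 : Q := sm gb N20382
def N24820 : Q := sm gf N20382
def N24821 : Q := sm gg N20383
def N24822 : Q := sm gf N20384
def N24823 : Q := sm gb N20385
def N24824 : Q := sm gb N20386
def N24825 : Q := sm ga N20387
def N24826 : Q := sm gb N20388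
def N24827 : Q := sm ga N20390
def N24828 : Q := sm gg N20390
def N24829 : Q := sm gf N20391
def N24830 : Q := sm gg N20391
def N24831 : Q := sm gb N20393
def N24832 : Q := sm gb N20394
def N24833 : Q := sm gc N20394
def N24834 : Q := sm gd N20395
def N24835 : Q := sm gf N20395
def N24836 : Q := sm gg N20396
def N24837 : Q := sm gc N20397
def N24838 : Q := sm gf N20397
def N24839 : Q := sm gg N20397
def N24840 : Q := sm gb N20398
def N24841 : Q := sm gd N20398
def N24842 : Q := sm gf N20398
def N24843 : Q := sm gc N20400
def N24844 : Q := sm ge N20400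
def N24845 : Q := sm gf N20400
def N24846 : Q := sm gb N20401
def N24847 : Q := sm gg N20401
def N24848 : Q := sm gb N20402
def N24849 : Q := sm gg N20403
def N24850 : Q := sm ga N20405
def N24851 : Q := sm gc N20405
def N24852 : Q := sm gf N20405
def N24853 : Q := sm gf N20406
def N24854 : Q := sm gb N20407
def N24855 : Q := sm gb N20408
def N24856 : Q := sm gd N20408
def N24857 : Q := sm ge N20408
def N24858 : Q := sm gf N20408
def N24859 : Q := sm gg N20408
def N24860 : Q := sm gf N20409
def N24861 : Q := sm gg N20409
def N24862 : Q := sm gb N20410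
def N24863 : Q := sm ga N20412
def N24864 : Q := sm gf N20413
def N24865 : Q := sm ge N20414
def N24866 : Q := sm gf N20414
def N24867 : Q := sm gg N20414
def N24868 : Q := sm gd N20415
def N24869 : Q := sm gf N20415
def N24870 : Q := sm gb N20416
def N24871 : Q := sm gg N20416
def N24872 : Q := sm gb N20417
def N24873 : Q := sm gf N20417
def N24874 : Q := sm gg N20418
def N24875 : Q := sm gf N20419
def N24876 : Q := sm gb N20420
def N24877 : Q := sm gb N20421
def N24878 : Q := sm gb N20422
def N24879 : Q := sm ga N20424
def N24880 : Q := sm gf N20424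
def N24881 : Q := sm ga N20425
def N24882 : Q := sm gf N20426
def N24883 : Q := sm gg N20426
def N24884 : Q := sm gb N20428
def N24885 : Q := sm gb N20429
def N24886 : Q := sm gc N20429
def N24887 : Q := sm gd N20430
def N24888 : Q := sm gg N20430
def N24889 : Q := sm gf N20431
def N24890 : Q := sm gc N20432
def N24891 : Q := sm gf N20432
def N24892 : Q := sm gg N20432
def N24893 : Q := sm gb N20433
def N24894 : Q := sm gg N20433
def N24895 : Q := sm ge N20435
def N24896 : Q := sm gg N20435
def N24897 : Q := sm gb N20436
def N24898 : Q := sm gf N20436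
def N24899 : Q := sm gb N20437
def N24900 : Q := sm gf N20439
def N24901 : Q := sm ga N20440
def N24902 : Q := sm gc N20440
def N24903 : Q := sm gg N20440
def N24904 : Q := sm gg N20441
def N24905 : Q := sm gb N20443
def N24906 : Q := sm ge N20443
def N24907 : Q := sm gf N20443
def N24908 : Q := sm gg N20443
def N24909 : Q := sm gg N20444
def N24910 : Q := sm gb N20445
def N24911 : Q := sm gb N20446
def N24912 : Q := sm ga N20448
def N24913 : Q := sm gf N20448
def N24914 : Q := sm ge N20449
def N24915 : Q := sm gf N20449
def N24916 : Q := sm gg N20449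
def N24917 : Q := sm gd N20450
def N24918 : Q := sm gf N20450
def N24919 : Q := sm gg N20450
def N24920 : Q := sm gb N20451
def N24921 : Q := sm gg N20451
def N24922 : Q := sm gb N20452
def N24923 : Q := sm gf N20452
def N24924 : Q := sm gg N20453
def N24925 : Q := sm gf N20454
def N24926 : Q := sm gb N20455
def N24927 : Q := sm gb N20456
def N24928 : Q := sm ga N20457
def N24929 : Q := sm gf N20457
def N24930 : Q := sm ga N20458
def N24931 : Q := sm gc N20458
def N24932 : Q := sm gg N20458
def N24933 : Q := sm gf N20459
def N24934 : Q := sm gb N20461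
def N24935 : Q := sm ge N20461
def N24936 : Q := sm gf N20461
def N24937 : Q := sm gg N20461
def N24938 : Q := sm gf N20462
def N24939 : Q := sm gb N20463
def N24940 : Q := sm gb N20464
def N24941 : Q := sm ga N20465
def N24942 : Q := sm gg N20465
def N24943 : Q := sm ge N20467
def N24944 : Q := sm gf N20467
def N24945 : Q := sm gg N20467
def N24946 : Q := sm gd N20468
def N24947 : Q := sm gf N20468
def N24948 : Q := sm gg N20468
def N24949 : Q := sm gb N20469
def N24950 : Q := sm gg N20469
def N24951 : Q := sm gb N20470
def N24952 : Q := sm gf N20470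
def N24953 : Q := sm gg N20471
def N24954 : Q := sm gf N20472
def N24955 : Q := sm gb N20473
def N24956 : Q := sm gb N20474
def N24957 : Q := sm ga N20475
def N24958 : Q := sm gc N20475
def N24959 : Q := sm gf N20475
def N24960 : Q := sm ga N20476
def N24961 : Q := sm gg N20476
def N24962 : Q := sm ge N20477
def N24963 : Q := sm gg N20477
def N24964 : Q := sm ge N20479
def N24965 : Q := sm gf N20479
def N24966 : Q := sm gf N20481
def N24967 : Q := sm gg N20483
def N24968 : Q := sm gg N20489
def N24969 : Q := sm gb N20490
def N24970 : Q := sm gg N20491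
def N24971 : Q := sm gb N20492
def N24972 : Q := sm ge N20496
def N24973 : Q := sm gg N20496
def N24974 : Q := sm gg N20498
def N24975 : Q := sm gg N20499
def N24976 : Q := sm ga N20503
def N24977 : Q := sm gb N20509
def N24978 : Q := sm gg N20511
def N24979 : Q := sm gf N20514
def N24980 : Q := sm gb N20518
def N24981 : Q := sm gb N20522
def N24982 : Q := sm gg N20522
def N24983 : Q := sm gb N20524
def N24984 : Q := sm gg N20528
def N24985 : Q := sm gb N20533
def N24986 : Q := sm gf N20534
def N24987 : Q := sm gf N20535
def N24988 : Q := sm gb N20536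
def N24989 : Q := sm gf N20537
def N24990 : Q := sm gb N20538
def N24991 : Q := sm ge N20542
def N24992 : Q := sm gf N20542
def N24993 : Q := sm gf N20544
def N24994 : Q := sm gf N20545
def N24995 : Q := sm ga N20549
def N24996 : Q := sm gb N20555
def N24997 : Q := sm gf N20557
def N24998 : Q := sm gg N20560
def N24999 : Q := sm gb N20564
def N25000 : Q := sm gb N20568
def N25001 : Q := sm gf N20568
def N25002 : Q := sm gb N20571
def N25003 : Q := sm gf N20574
def N25004 : Q := sm gb N20579
def N25005 : Q := sm gg N20580
def N25006 : Q := sm gc N20581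
def N25007 : Q := sm ga N20583
def N25008 : Q := sm gc N20583
def N25009 : Q := sm gf N20583
def N25010 : Q := sm gc N20584
def N25011 : Q := sm gf N20584
def N25012 : Q := sm gc N20592
def N25013 : Q := sm gd N20593
def N25014 : Q := sm gg N20593
def N25015 : Q := sm gb N20596
def N25016 : Q := sm ga N20597
def N25017 : Q := sm gg N20597
def N25018 : Q := sm gb N20599
def N25019 : Q := sm gd N20604
def N25020 : Q := sm gg N20604
def N25021 : Q := sm gd N20607
def N25022 : Q := sm gg N20607
def N25023 : Q := sm gg N20609
def N25024 : Q := sm gb N20610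
def N25025 : Q := sm gf N20610
def N25026 : Q := sm gb N20611
def N25027 : Q := sm gc N20619
def N25028 : Q := sm ga N20621
def N25029 : Q := sm gc N20621
def N25030 : Q := sm gg N20621
def N25031 : Q := sm gc N20622
def N25032 : Q := sm gg N20622
def N25033 : Q := sm gc N20630
def N25034 : Q := sm gd N20631
def N25035 : Q := sm gf N20631
def N25036 : Q := sm gb N20634
def N25037 : Q := sm ga N20635
def N25038 : Q := sm gf N20635
def N25039 : Q := sm gb N20637
def N25040 : Q := sm gd N20642
def N25041 : Q := sm gf N20642
def N25042 : Q := sm gd N20645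
def N25043 : Q := sm gf N20645
def N25044 : Q := sm gf N20647
def N25045 : Q := sm gb N20648
def N25046 : Q := sm gg N20648
def N25047 : Q := sm gb N20649
def N25048 : Q := sm gg N20658
def N25049 : Q := sm gb N20661
def N25050 : Q := sm gb N20664
def N25051 : Q := sm gg N20667
def N25052 : Q := sm gb N20670
def N25053 : Q := sm ga N20671
def N25054 : Q := sm gf N20671
def N25055 : Q := sm gb N20672
def N25056 : Q := sm gc N20673
def N25057 : Q := sm ga N20676
def N25058 : Q := sm gc N20676
def N25059 : Q := sm gf N20682
def N25060 : Q := sm gb N20683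
def N25061 : Q := sm gc N20684
def N25062 : Q := sm gg N20684
def N25063 : Q := sm gg N20685
def N25064 : Q := sm gf N20686
def N25065 : Q := sm gc N20687
def N25066 : Q := sm gf N20687
def N25067 : Q := sm gg N20688
def N25068 : Q := sm gc N20692
def N25069 : Q := sm gf N20692
def N25070 : Q := sm gd N20693
def N25071 : Q := sm gg N20694
def N25072 : Q := sm gc N20698
def N25073 : Q := sm gg N20698
def N25074 : Q := sm gb N20699
def N25075 : Q := sm gc N20700
def N25076 : Q := sm gb N20701
def N25077 : Q := sm gd N20702
def N25078 : Q := sm gf N20703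
def N25079 : Q := sm gc N20708
def N25080 : Q := sm gd N20709
def N25081 : Q := sm gf N20709
def N25082 : Q := sm gf N20712
def N25083 : Q := sm gb N20714
def N25084 : Q := sm gb N20717
def N25085 : Q := sm gf N20721
def N25086 : Q := sm ga N20724
def N25087 : Q := sm gg N20724
def N25088 : Q := sm gb N20725
def N25089 : Q := sm gb N20726
def N25090 : Q := sm ga N20729
def N25091 : Q := sm gc N20730
def N25092 : Q := sm gb N20737
def N25093 : Q := sm gc N20738
def N25094 : Q := sm gf N20738
def N25095 : Q := sm gg N20739
def N25096 : Q := sm gf N20740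
def N25097 : Q := sm gc N20741
def N25098 : Q := sm gg N20741
def N25099 : Q := sm gf N20742
def N25100 : Q := sm gc N20746
def N25101 : Q := sm gg N20746
def N25102 : Q := sm gd N20747
def N25103 : Q := sm gf N20748
def N25104 : Q := sm gc N20752
def N25105 : Q := sm gf N20752
def N25106 : Q := sm gc N20753
def N25107 : Q := sm gc N20758
def N25108 : Q := sm gd N20759
def N25109 : Q := sm gg N20759
def N25110 : Q := sm gg N20769
def N25111 : Q := sm gd N20772
def N25112 : Q := sm gg N20772
def N25113 : Q := sm gg N20773
def N25114 : Q := sm gb N20774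
def N25115 : Q := sm gb N20775
def N25116 : Q := sm gc N20780
def N25117 : Q := sm gc N20782
def N25118 : Q := sm gf N20783
def N25119 : Q := sm gb N20787
def N25120 : Q := sm gd N20787
def N25121 : Q := sm gc N20788
def N25122 : Q := sm ge N20788
def N25123 : Q := sm gf N20788
def N25124 : Q := sm gb N20789
def N25125 : Q := sm gd N20790
def N25126 : Q := sm gc N20791
def N25127 : Q := sm gd N20792
def N25128 : Q := sm gc N20795
def N25129 : Q := sm ge N20799
def N25130 : Q := sm gc N20802
def N25131 : Q := sm ge N20802
def N25132 : Q := sm gf N20802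
def N25133 : Q := sm gb N20804
def N25134 : Q := sm gd N20804
def N25135 : Q := sm ge N20804
def N25136 : Q := sm gf N20804
def N25137 : Q := sm gf N20805
def N25138 : Q := sm gg N20806
def N25139 : Q := sm gc N20810
def N25140 : Q := sm ge N20810
def N25141 : Q := sm gg N20810
def N25142 : Q := sm ge N20814
def N25143 : Q := sm gf N20814
def N25144 : Q := sm gf N20824
def N25145 : Q := sm gd N20827
def N25146 : Q := sm gf N20827
def N25147 : Q := sm gb N20828
def N25148 : Q := sm gc N20833
def N25149 : Q := sm gc N20835
def N25150 : Q := sm gg N20836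
def N25151 : Q := sm gb N20839
def N25152 : Q := sm gd N20839
def N25153 : Q := sm gc N20840
def N25154 : Q := sm ge N20840
def N25155 : Q := sm gg N20840
def N25156 : Q := sm gb N20841
def N25157 : Q := sm gc N20842
def N25158 : Q := sm gd N20843
def N25159 : Q := sm gc N20846
def N25160 : Q := sm ge N20849
def N25161 : Q := sm gc N20852
def N25162 : Q := sm ge N20852
def N25163 : Q := sm gd N20853
def N25164 : Q := sm ge N20853
def N25165 : Q := sm gg N20853
def N25166 : Q := sm gg N20854
def N25167 : Q := sm gf N20855
def N25168 : Q := sm gg N20861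
def N25169 : Q := sm gb N20862
def N25170 : Q := sm gb N20864
def N25171 : Q := sm gb N20867
def N25172 : Q := sm gg N20870
def N25173 : Q := sm gg N20877
def N25174 : Q := sm gb N20879
def N25175 : Q := sm gc N20880
def N25176 : Q := sm ga N20881
def N25177 : Q := sm gb N20884
def N25178 : Q := sm gd N20884
def N25179 : Q := sm ga N20886
def N25180 : Q := sm gf N20886
def N25181 : Q := sm ga N20890
def N25182 : Q := sm gc N20890
def N25183 : Q := sm gf N20890
def N25184 : Q := sm gf N20894
def N25185 : Q := sm gb N20897
def N25186 : Q := sm gb N20898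
def N25187 : Q := sm gb N20899
def N25188 : Q := sm gb N20900
def N25189 : Q := sm gc N20901
def N25190 : Q := sm gg N20908
def N25191 : Q := sm ge N20910
def N25192 : Q := sm ga N20917
def N25193 : Q := sm gb N20920
def N25194 : Q := sm gf N20920
def N25195 : Q := sm ge N20921
def N25196 : Q := sm gb N20925
def N25197 : Q := sm gc N20930
def N25198 : Q := sm gd N20930
def N25199 : Q := sm gf N20930
def N25200 : Q := sm gg N20930
def N25201 : Q := sm ge N20931
def N25202 : Q := sm gg N20931
def N25203 : Q := sm gb N20932
def N25204 : Q := sm gb N20933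
def N25205 : Q := sm gg N20934
def N25206 : Q := sm gb N20938
def N25207 : Q := sm ge N20938
def N25208 : Q := sm gd N20939
def N25209 : Q := sm gf N20939
def N25210 : Q := sm ga N20942
def N25211 : Q := sm gc N20942
def N25212 : Q := sm gg N20942
def N25213 : Q := sm gg N20943
def N25214 : Q := sm gb N20946
def N25215 : Q := sm gb N20947
def N25216 : Q := sm gf N20948
def N25217 : Q := sm gb N20949
def N25218 : Q := sm gb N20951
def N25219 : Q := sm gb N20952
def N25220 : Q := sm gf N20955
def N25221 : Q := sm gf N20962
def N25222 : Q := sm gb N20963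
def N25223 : Q := sm gc N20964
def N25224 : Q := sm gb N20966
def N25225 : Q := sm gd N20966
def N25226 : Q := sm ga N20968
def N25227 : Q := sm gg N20968
def N25228 : Q := sm ga N20972
def N25229 : Q := sm gc N20972
def N25230 : Q := sm gg N20972
def N25231 : Q := sm ga N20975
def N25232 : Q := sm gg N20978
def N25233 : Q := sm gb N20981
def N25234 : Q := sm gb N20982
def N25235 : Q := sm gb N20983
def N25236 : Q := sm gb N20984
def N25237 : Q := sm gc N20985
def N25238 : Q := sm gf N20992
def N25239 : Q := sm ge N20994
def N25240 : Q := sm ga N21001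
def N25241 : Q := sm gb N21004
def N25242 : Q := sm gg N21004
def N25243 : Q := sm ge N21005
def N25244 : Q := sm gb N21009
def N25245 : Q := sm gc N21012
def N25246 : Q := sm gd N21012
def N25247 : Q := sm gf N21012
def N25248 : Q := sm gg N21012
def N25249 : Q := sm ge N21013
def N25250 : Q := sm gf N21013
def N25251 : Q := sm gb N21014
def N25252 : Q := sm gb N21015
def N25253 : Q := sm gf N21016
def N25254 : Q := sm gb N21019
def N25255 : Q := sm ge N21019
def N25256 : Q := sm gd N21020
def N25257 : Q := sm gg N21020
def N25258 : Q := sm ga N21023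
def N25259 : Q := sm gc N21023
def N25260 : Q := sm gf N21023
def N25261 : Q := sm gf N21024
def N25262 : Q := sm gb N21027
def N25263 : Q := sm gb N21028
def N25264 : Q := sm gb N21029
def N25265 : Q := sm gf N21030
def N25266 : Q := sm gb N21032
def N25267 : Q := sm ga N21033
def N25268 : Q := sm gc N21033
def N25269 : Q := sm gf N21035
def N25270 : Q := sm gb N21036
def N25271 : Q := sm gc N21038
def N25272 : Q := sm gf N21038
def N25273 : Q := sm gc N21041
def N25274 : Q := sm gc N21043
def N25275 : Q := sm gc N21044
def N25276 : Q := sm gd N21045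
def N25277 : Q := sm gf N21045
def N25278 : Q := sm gb N21050
def N25279 : Q := sm gg N21051
def N25280 : Q := sm gb N21053
def N25281 : Q := sm gc N21054
def N25282 : Q := sm gg N21056
def N25283 : Q := sm gb N21058
def N25284 : Q := sm gc N21059
def N25285 : Q := sm gc N21062
def N25286 : Q := sm gc N21064
def N25287 : Q := sm gc N21065
def N25288 : Q := sm gd N21066
def N25289 : Q := sm gg N21066
def N25290 : Q := sm gd N21071
def N25291 : Q := sm ge N21072
def N25292 : Q := sm gg N21072
def N25293 : Q := sm gb N21073
def N25294 : Q := sm gd N21074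
def N25295 : Q := sm ge N21075
def N25296 : Q := sm gf N21075
def N25297 : Q := sm gb N21076
def N25298 : Q := sm gd N21085
def N25299 : Q := sm gd N21090
def N25300 : Q := sm gc N21091
def N25301 : Q := sm gb N21092
def N25302 : Q := sm gd N21092
def N25303 : Q := sm gc N21093
def N25304 : Q := sm ge N21093
def N25305 : Q := sm gg N21093
def N25306 : Q := sm gb N21094
def N25307 : Q := sm gc N21095
def N25308 : Q := sm gc N21096
def N25309 : Q := sm gd N21097
def N25310 : Q := sm gf N21097
def N25311 : Q := sm gg N21098
def N25312 : Q := sm gc N21099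
def N25313 : Q := sm gb N21100
def N25314 : Q := sm gd N21100
def N25315 : Q := sm gc N21101
def N25316 : Q := sm ge N21101
def N25317 : Q := sm gf N21101
def N25318 : Q := sm gb N21102
def N25319 : Q := sm gc N21103
def N25320 : Q := sm gc N21104
def N25321 : Q := sm gd N21105
def N25322 : Q := sm gg N21105
def N25323 : Q := sm gf N21106
def N25324 : Q := sm gd N21109
def N25325 : Q := sm gd N21110
def N25326 : Q := sm gc N21111
def N25327 : Q := sm ge N21111
def N25328 : Q := sm gf N21111
def N25329 : Q := sm gd N21116
def N25330 : Q := sm gd N21117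
def N25331 : Q := sm gc N21118
def N25332 : Q := sm ge N21118
def N25333 : Q := sm gg N21118
def N25334 : Q := sm gc N21121
def N25335 : Q := sm gb N21125
def N25336 : Q := sm gb N21127
def N25337 : Q := sm gd N21128
def N25338 : Q := sm ga N21129
def N25339 : Q := sm gc N21129
def N25340 : Q := sm gd N21130
def N25341 : Q := sm ga N21131
def N25342 : Q := sm gc N21131
def N25343 : Q := sm gg N21132
def N25344 : Q := sm gf N21135
def N25345 : Q := sm gd N21138
def N25346 : Q := sm gg N21138
def N25347 : Q := sm gb N21139
def N25348 : Q := sm ge N21140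
def N25349 : Q := sm gg N21140
def N25350 : Q := sm gb N21141
def N25351 : Q := sm gd N21142
def N25352 : Q := sm gf N21142
def N25353 : Q := sm gb N21143
def N25354 : Q := sm ge N21144
def N25355 : Q := sm gf N21144
def N25356 : Q := sm gb N21145
def N25357 : Q := sm ge N21148
def N25358 : Q := sm gg N21148
def N25359 : Q := sm gb N21149
def N25360 : Q := sm gg N21151
def N25361 : Q := sm gg N21152
def N25362 : Q := sm gb N21153
def N25363 : Q := sm gf N21153
def N25364 : Q := sm ga N21154
def N25365 : Q := sm gf N21154
def N25366 : Q := sm gb N21155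
def N25367 : Q := sm ge N21158
def N25368 : Q := sm gf N21158
def N25369 : Q := sm gb N21159
def N25370 : Q := sm gf N21161
def N25371 : Q := sm gf N21162
def N25372 : Q := sm gb N21163
def N25373 : Q := sm gg N21163
def N25374 : Q := sm ga N21164
def N25375 : Q := sm gg N21164
def N25376 : Q := sm gb N21165
def N25377 : Q := sm gg N21167
def N25378 : Q := sm gb N21168
def N25379 : Q := sm gc N21169
def N25380 : Q := sm gd N21170
def N25381 : Q := sm gg N21171
def N25382 : Q := sm gb N21172
def N25383 : Q := sm gf N21172
def N25384 : Q := sm gb N21173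
def N25385 : Q := sm gf N21173
def N25386 : Q := sm gc N21174
def N25387 : Q := sm gf N21174
def N25388 : Q := sm gb N21175
def N25389 : Q := sm gf N21179
def N25390 : Q := sm gb N21180
def N25391 : Q := sm gc N21181
def N25392 : Q := sm gd N21182
def N25393 : Q := sm gf N21183
def N25394 : Q := sm gb N21184
def N25395 : Q := sm gg N21184
def N25396 : Q := sm gb N21185
def N25397 : Q := sm gg N21185
def N25398 : Q := sm gc N21186
def N25399 : Q := sm gg N21186
def N25400 : Q := sm gb N21187
def N25401 : Q := sm gb N21190
def N25402 : Q := sm gb N21191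
def N25403 : Q := sm gd N21193
def N25404 : Q := sm ga N21194
def N25405 : Q := sm gc N21194
def N25406 : Q := sm gb N21195
def N25407 : Q := sm gd N21195
def N25408 : Q := sm gc N21196
def N25409 : Q := sm ge N21196
def N25410 : Q := sm gd N21198
def N25411 : Q := sm ga N21199
def N25412 : Q := sm gc N21199
def N25413 : Q := sm gb N21200
def N25414 : Q := sm gd N21200
def N25415 : Q := sm gc N21201
def N25416 : Q := sm ge N21201
def N25417 : Q := sm gg N21202
def N25418 : Q := sm gb N21203
def N25419 : Q := sm gf N21203
def N25420 : Q := sm gb N21206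
def N25421 : Q := sm gb N21208
def N25422 : Q := sm gc N21208
def N25423 : Q := sm gd N21209
def N25424 : Q := sm gc N21211
def N25425 : Q := sm gg N21211
def N25426 : Q := sm gb N21212
def N25427 : Q := sm gd N21212
def N25428 : Q := sm gc N21213
def N25429 : Q := sm ge N21213
def N25430 : Q := sm gf N21213
def N25431 : Q := sm gb N21214
def N25432 : Q := sm gb N21215
def N25433 : Q := sm gg N21215
def N25434 : Q := sm ga N21217
def N25435 : Q := sm gd N21217
def N25436 : Q := sm gf N21217
def N25437 : Q := sm gg N21217
def N25438 : Q := sm ge N21218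
def N25439 : Q := sm gf N21218
def N25440 : Q := sm gb N21219
def N25441 : Q := sm gb N21220
def N25442 : Q := sm ge N21220
def N25443 : Q := sm gf N21220
def N25444 : Q := sm gf N21221
def N25445 : Q := sm gb N21222
def N25446 : Q := sm gg N21222
def N25447 : Q := sm ga N21223
def N25448 : Q := sm gg N21223
def N25449 : Q := sm gb N21224
def N25450 : Q := sm gc N21225
def N25451 : Q := sm gb N21226
def N25452 : Q := sm gg N21226
def N25453 : Q := sm gf N21227
def N25454 : Q := sm gb N21230
def N25455 : Q := sm gb N21232
def N25456 : Q := sm gc N21232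
def N25457 : Q := sm gd N21233
def N25458 : Q := sm gc N21235
def N25459 : Q := sm gf N21235
def N25460 : Q := sm gb N21236
def N25461 : Q := sm gd N21236
def N25462 : Q := sm gc N21237
def N25463 : Q := sm ge N21237
def N25464 : Q := sm gg N21237
def N25465 : Q := sm gb N21238
def N25466 : Q := sm gb N21239
def N25467 : Q := sm gf N21239
def N25468 : Q := sm ga N21241
def N25469 : Q := sm gd N21241
def N25470 : Q := sm gf N21241
def N25471 : Q := sm gg N21241
def N25472 : Q := sm ge N21242
def N25473 : Q := sm gg N21242
def N25474 : Q := sm gb N21243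
def N25475 : Q := sm gb N21244
def N25476 : Q := sm ge N21244
def N25477 : Q := sm gg N21244
def N25478 : Q := sm gg N21245
def N25479 : Q := sm gb N21246
def N25480 : Q := sm gf N21246
def N25481 : Q := sm ga N21247
def N25482 : Q := sm gf N21247
def N25483 : Q := sm gb N21248
def N25484 : Q := sm gc N21249
def N25485 : Q := sm gb N21254
def N25486 : Q := sm gb N21256
def N25487 : Q := sm gc N21257
def N25488 : Q := sm gc N21258
def N25489 : Q := sm gf N21258
def N25490 : Q := sm gd N21259
def N25491 : Q := sm gf N21259
def N25492 : Q := sm gc N21261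
def N25493 : Q := sm ge N21261
def N25494 : Q := sm gf N21261
def N25495 : Q := sm gb N21262
def N25496 : Q := sm gd N21263
def N25497 : Q := sm gd N21265
def N25498 : Q := sm gf N21265
def N25499 : Q := sm gg N21265
def N25500 : Q := sm gc N21266
def N25501 : Q := sm ge N21266
def N25502 : Q := sm gb N21267
def N25503 : Q := sm gd N21267
def N25504 : Q := sm ge N21267
def N25505 : Q := sm gf N21267
def N25506 : Q := sm gf N21268
def N25507 : Q := sm gb N21269
def N25508 : Q := sm ga N21270
def N25509 : Q := sm gb N21271
def N25510 : Q := sm gd N21271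
def N25511 : Q := sm gg N21271
def N25512 : Q := sm gc N21272
def N25513 : Q := sm ge N21272
def N25514 : Q := sm gf N21272
def N25515 : Q := sm gg N21272
def N25516 : Q := sm gb N21273
def N25517 : Q := sm gb N21275
def N25518 : Q := sm ge N21275
def N25519 : Q := sm gf N21275
def N25520 : Q := sm gf N21276
def N25521 : Q := sm gb N21277
def N25522 : Q := sm ga N21278
def N25523 : Q := sm gg N21278
def N25525 : Q := sm gd N21279
def N25526 : Q := sm ge N21279
def N25529 : Q := sm ge N21280
def N25530 : Q := sm gf N21280
def N25531 : Q := sm gd N21281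
def N25532 : Q := sm gf N21281
def N25533 : Q := sm gb N21282
def N25534 : Q := sm gg N21282
def N25535 : Q := sm gb N21283
def N25536 : Q := sm gg N21283
def N25537 : Q := sm gc N21284
def N25538 : Q := sm gg N21284
def N25539 : Q := sm gb N21285
def N25540 : Q := sm gb N21286
def N25541 : Q := sm ga N21287
def N25542 : Q := sm gc N21287
def N25543 : Q := sm gb N21294
def N25544 : Q := sm gb N21295
def N25545 : Q := sm gc N21296
def N25546 : Q := sm gc N21297
def N25547 : Q := sm gg N21297
def N25548 : Q := sm gd N21298
def N25549 : Q := sm gg N21298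
def N25550 : Q := sm gc N21300
def N25551 : Q := sm ge N21300
def N25552 : Q := sm gg N21300
def N25553 : Q := sm gb N21301
def N25554 : Q := sm gd N21302
def N25555 : Q := sm gd N21304
def N25556 : Q := sm gf N21304
def N25557 : Q := sm gg N21304
def N25558 : Q := sm gc N21305
def N25559 : Q := sm ge N21305
def N25560 : Q := sm gb N21306
def N25561 : Q := sm gd N21306
def N25562 : Q := sm ge N21306
def N25563 : Q := sm gg N21306
def N25564 : Q := sm gg N21307
def N25565 : Q := sm gb N21308
def N25566 : Q := sm ga N21309
def N25567 : Q := sm gb N21310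
def N25568 : Q := sm gd N21310
def N25569 : Q := sm gf N21310
def N25570 : Q := sm gc N21311
def N25571 : Q := sm ge N21311
def N25572 : Q := sm gf N21311
def N25573 : Q := sm gg N21311
def N25574 : Q := sm gb N21313
def N25575 : Q := sm gb N21314
def N25576 : Q := sm ge N21314
def N25577 : Q := sm gg N21314
def N25578 : Q := sm gg N21315
def N25579 : Q := sm gb N21316
def N25580 : Q := sm ga N21317
def N25581 : Q := sm gf N21317
def N25583 : Q := sm gd N21318
def N25584 : Q := sm ge N21318
def N25587 : Q := sm ge N21319
def N25588 : Q := sm gg N21319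
def N25589 : Q := sm gd N21320
def N25590 : Q := sm gg N21320
def N25591 : Q := sm gb N21321
def N25592 : Q := sm gf N21321
def N25593 : Q := sm gb N21322
def N25594 : Q := sm gf N21322
def N25595 : Q := sm gc N21323
def N25596 : Q := sm gf N21323
def N25597 : Q := sm gb N21324
def N25598 : Q := sm gb N21325
def N25599 : Q := sm ga N21326
def N25600 : Q := sm gc N21326
def N25601 : Q := sm gc N21328
def N25602 : Q := sm gc N21329
def N25603 : Q := sm gd N21330
def N25604 : Q := sm gf N21330
def N25605 : Q := sm gc N21332
def N25606 : Q := sm gb N21334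
def N25607 : Q := sm gc N21335
def N25608 : Q := sm ga N21336
def N25609 : Q := sm gc N21336
def N25610 : Q := sm gc N21337
def N25611 : Q := sm gf N21337
def N25612 : Q := sm gd N21338
def N25613 : Q := sm gf N21338
def N25614 : Q := sm gd N21341
def N25615 : Q := sm gf N21341
def N25616 : Q := sm gc N21343
def N25617 : Q := sm ge N21343
def N25618 : Q := sm gf N21343
def N25619 : Q := sm gb N21344
def N25620 : Q := sm gg N21345
def N25621 : Q := sm gg N21346
def N25622 : Q := sm gb N21347
def N25623 : Q := sm gf N21347
def N25624 : Q := sm gb N21348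
def N25625 : Q := sm ga N21349
def N25626 : Q := sm gc N21349
def N25627 : Q := sm gf N21349
def N25628 : Q := sm gc N21350
def N25629 : Q := sm gf N21350
def N25630 : Q := sm gd N21352
def N25631 : Q := sm gf N21352
def N25632 : Q := sm gc N21354
def N25633 : Q := sm gc N21358
def N25634 : Q := sm ge N21358
def N25635 : Q := sm gf N21358
def N25636 : Q := sm gb N21359
def N25637 : Q := sm gc N21360
def N25638 : Q := sm gc N21361
def N25639 : Q := sm gg N21361
def N25640 : Q := sm gd N21362
def N25641 : Q := sm gg N21362
def N25642 : Q := sm gc N21364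
def N25643 : Q := sm gb N21365
def N25644 : Q := sm gd N21365
def N25645 : Q := sm gf N21365
def N25646 : Q := sm gg N21365
def N25647 : Q := sm ga N21368
def N25648 : Q := sm gd N21368
def N25649 : Q := sm gf N21368
def N25650 : Q := sm gg N21368
def N25651 : Q := sm ge N21369
def N25652 : Q := sm gb N21370
def N25653 : Q := sm ge N21370
def N25654 : Q := sm gf N21370
def N25655 : Q := sm gf N21371
def N25656 : Q := sm gb N21372
def N25657 : Q := sm ga N21373
def N25658 : Q := sm gc N21373
def N25659 : Q := sm gg N21373
def N25660 : Q := sm gc N21374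
def N25661 : Q := sm gd N21375
def N25662 : Q := sm gg N21375
def N25663 : Q := sm gb N21377
def N25664 : Q := sm gd N21377
def N25665 : Q := sm gg N21377
def N25666 : Q := sm gc N21379
def N25667 : Q := sm ge N21379
def N25668 : Q := sm gg N21379
def N25669 : Q := sm gb N21380
def N25670 : Q := sm gf N21380
def N25671 : Q := sm gc N21382
def N25672 : Q := sm gb N21384
def N25673 : Q := sm gd N21384
def N25674 : Q := sm gf N21384
def N25675 : Q := sm gg N21384
def N25676 : Q := sm gc N21385
def N25677 : Q := sm ge N21385
def N25678 : Q := sm gf N21385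
def N25679 : Q := sm gg N21385
def N25680 : Q := sm gb N21386
def N25681 : Q := sm gg N21386
def N25682 : Q := sm gf N21387
def N25683 : Q := sm gf N21388
def N25684 : Q := sm gb N21389
def N25685 : Q := sm ga N21390
def N25686 : Q := sm gc N21390
def N25687 : Q := sm gg N21390
def N25688 : Q := sm gd N21391
def N25689 : Q := sm ga N21392
def N25690 : Q := sm ge N21392
def N25691 : Q := sm gf N21392
def N25692 : Q := sm gg N21392
def N25693 : Q := sm gd N21393
def N25694 : Q := sm gf N21393
def N25695 : Q := sm gb N21394
def N25696 : Q := sm gg N21394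
def N25697 : Q := sm gb N21395
def N25698 : Q := sm gg N21395
def N25699 : Q := sm gc N21396
def N25700 : Q := sm gg N21396
def N25701 : Q := sm gb N21397
def N25702 : Q := sm gb N21398
def N25703 : Q := sm ga N21399
def N25704 : Q := sm gc N21399
def N25705 : Q := sm gc N21400
def N25706 : Q := sm gd N21401
def N25707 : Q := sm gf N21401
def N25708 : Q := sm gc N21403
def N25709 : Q := sm gd N21404
def N25710 : Q := sm gg N21404
def N25711 : Q := sm gc N21406
def N25712 : Q := sm gc N21408
def N25713 : Q := sm gb N21409
def N25714 : Q := sm ga N21410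
def N25715 : Q := sm gc N21410
def N25716 : Q := sm gc N21411
def N25717 : Q := sm gg N21411
def N25718 : Q := sm gd N21412
def N25719 : Q := sm gg N21412
def N25720 : Q := sm gd N21415
def N25721 : Q := sm gc N21416
def N25722 : Q := sm ge N21416
def N25723 : Q := sm gg N21416
def N25724 : Q := sm gb N21417
def N25725 : Q := sm gf N21418
def N25726 : Q := sm gf N21419
def N25727 : Q := sm gb N21420
def N25728 : Q := sm gg N21420
def N25729 : Q := sm gb N21421
def N25730 : Q := sm ga N21422
def N25731 : Q := sm gc N21422
def N25732 : Q := sm gg N21422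
def N25733 : Q := sm gc N21423
def N25734 : Q := sm gg N21423
def N25735 : Q := sm gd N21424
def N25736 : Q := sm gg N21424
def N25737 : Q := sm gc N21426
def N25738 : Q := sm gc N21427
def N25739 : Q := sm ge N21427
def N25740 : Q := sm gg N21427
def N25741 : Q := sm gb N21428
def N25742 : Q := sm gc N21429
def N25743 : Q := sm gc N21430
def N25744 : Q := sm gf N21430
def N25745 : Q := sm gd N21431
def N25746 : Q := sm gf N21431
def N25747 : Q := sm gc N21433
def N25748 : Q := sm gb N21434
def N25749 : Q := sm gd N21434
def N25750 : Q := sm gf N21434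
def N25751 : Q := sm gg N21434
def N25752 : Q := sm ga N21437
def N25753 : Q := sm gd N21437
def N25754 : Q := sm gf N21437
def N25755 : Q := sm gg N21437
def N25756 : Q := sm ge N21438
def N25757 : Q := sm gb N21439
def N25758 : Q := sm ge N21439
def N25759 : Q := sm gg N21439
def N25760 : Q := sm gg N21440
def N25761 : Q := sm gb N21441
def N25762 : Q := sm ga N21442
def N25763 : Q := sm gc N21442
def N25764 : Q := sm gc N21443
def N25765 : Q := sm gd N21444
def N25766 : Q := sm gf N21444
def N25767 : Q := sm gb N21446
def N25768 : Q := sm gd N21446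
def N25769 : Q := sm gf N21446
def N25770 : Q := sm gc N21448
def N25771 : Q := sm ge N21448
def N25772 : Q := sm gf N21448
def N25773 : Q := sm gb N21449
def N25774 : Q := sm gg N21449
def N25775 : Q := sm gc N21452
def N25776 : Q := sm gb N21453
def N25777 : Q := sm gd N21453
def N25778 : Q := sm gf N21453
def N25779 : Q := sm gg N21453
def N25780 : Q := sm gc N21454
def N25781 : Q := sm ge N21454
def N25782 : Q := sm gf N21454
def N25783 : Q := sm gg N21454
def N25784 : Q := sm gg N21455
def N25785 : Q := sm gb N21456
def N25786 : Q := sm gf N21456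
def N25787 : Q := sm gg N21457
def N25788 : Q := sm gb N21458
def N25789 : Q := sm ga N21459
def N25790 : Q := sm gc N21459
def N25791 : Q := sm gf N21459
def N25792 : Q := sm gd N21460
def N25793 : Q := sm ga N21461
def N25794 : Q := sm ge N21461
def N25795 : Q := sm gf N21461
def N25796 : Q := sm gg N21461
def N25797 : Q := sm gd N21462
def N25798 : Q := sm gg N21462
def N25799 : Q := sm gb N21463
def N25800 : Q := sm gf N21463
def N25801 : Q := sm gb N21464
def N25802 : Q := sm gf N21464
def N25803 : Q := sm gc N21465
def N25804 : Q := sm gf N21465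
def N25805 : Q := sm gb N21466
def N25806 : Q := sm gb N21467
def N25807 : Q := sm ga N21468
def N25808 : Q := sm gc N21468
def N25809 : Q := sm gc N21469
def N25810 : Q := sm gd N21470
def N25811 : Q := sm gg N21470
def N25812 : Q := sm gd N21472
def N25813 : Q := sm gb N21473
def N25814 : Q := sm gf N21473
def N25815 : Q := sm ga N21474
def N25816 : Q := sm gc N21474
def N25817 : Q := sm gf N21474
def N25818 : Q := sm gb N21476
def N25819 : Q := sm gb N21477
def N25820 : Q := sm ga N21478
def N25821 : Q := sm gc N21478
def N25822 : Q := sm gf N21478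
def N25823 : Q := sm gb N21479
def N25824 : Q := sm ga N21480
def N25825 : Q := sm gc N21480
def N25826 : Q := sm gf N21480
def N25827 : Q := sm gb N21481
def N25828 : Q := sm gc N21481
def N25829 : Q := sm gf N21481
def N25830 : Q := sm gd N21482
def N25831 : Q := sm gf N21482
def N25832 : Q := sm gg N21483
def N25833 : Q := sm gc N21484
def N25834 : Q := sm gg N21484
def N25835 : Q := sm gd N21485
def N25836 : Q := sm gd N21486
def N25837 : Q := sm gc N21487
def N25838 : Q := sm ge N21487
def N25839 : Q := sm gf N21487
def N25840 : Q := sm gb N21488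
def N25841 : Q := sm gd N21489
def N25842 : Q := sm ga N21490
def N25843 : Q := sm gc N21490
def N25844 : Q := sm gf N21490
def N25845 : Q := sm gb N21491
def N25846 : Q := sm gb N21492
def N25847 : Q := sm ga N21493
def N25848 : Q := sm gc N21493
def N25849 : Q := sm gc N21495
def N25850 : Q := sm gb N21496
def N25851 : Q := sm gc N21496
def N25852 : Q := sm gd N21497
def N25853 : Q := sm ga N21501
def N25854 : Q := sm gf N21501
def N25855 : Q := sm gb N21502
def N25856 : Q := sm gc N21502
def N25857 : Q := sm gf N21502
def N25858 : Q := sm gd N21503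
def N25859 : Q := sm gf N21503
def N25860 : Q := sm gg N21504
def N25861 : Q := sm gc N21505
def N25862 : Q := sm gb N21506
def N25863 : Q := sm gd N21506
def N25864 : Q := sm gf N21506
def N25865 : Q := sm gc N21508
def N25866 : Q := sm ge N21508
def N25867 : Q := sm gf N21508
def N25868 : Q := sm gd N21511
def N25869 : Q := sm gd N21512
def N25870 : Q := sm gc N21513
def N25871 : Q := sm ge N21513
def N25872 : Q := sm gf N21513
def N25873 : Q := sm gb N21514
def N25874 : Q := sm gb N21515
def N25875 : Q := sm gd N21515
def N25876 : Q := sm ge N21515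
def N25877 : Q := sm gf N21515
def N25878 : Q := sm gf N21516
def N25879 : Q := sm gb N21517
def N25880 : Q := sm ga N21518
def N25881 : Q := sm gg N21518
def N25882 : Q := sm gf N21519
def N25883 : Q := sm gg N21519
def N25884 : Q := sm gf N21522
def N25885 : Q := sm gg N21522
def N25886 : Q := sm gg N21523
def N25887 : Q := sm gg N21524
def N25888 : Q := sm gb N21525
def N25889 : Q := sm gf N21525
def N25890 : Q := sm gb N21530
def N25891 : Q := sm gc N21531
def N25892 : Q := sm gc N21532
def N25893 : Q := sm gb N21533
def N25894 : Q := sm gb N21534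
def N25895 : Q := sm ga N21535
def N25896 : Q := sm gc N21535
def N25897 : Q := sm ga N21536
def N25898 : Q := sm gc N21536
def N25899 : Q := sm gf N21536
def N25900 : Q := sm gg N21536
def N25901 : Q := sm ga N21537
def N25902 : Q := sm gc N21537
def N25903 : Q := sm gc N21538
def N25904 : Q := sm gg N21538
def N25905 : Q := sm gd N21539
def N25906 : Q := sm gg N21539
def N25907 : Q := sm gf N21540
def N25908 : Q := sm gc N21541
def N25909 : Q := sm gd N21542
def N25910 : Q := sm gg N21543
def N25911 : Q := sm gc N21545
def N25912 : Q := sm gd N21546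
def N25913 : Q := sm gg N21547
def N25914 : Q := sm gc N21549
def N25915 : Q := sm gg N21549
def N25916 : Q := sm gb N21550
def N25917 : Q := sm gf N21550
def N25918 : Q := sm gb N21551
def N25919 : Q := sm gd N21552
def N25920 : Q := sm ga N21553
def N25921 : Q := sm gd N21553
def N25922 : Q := sm gf N21553
def N25923 : Q := sm gg N21553
def N25924 : Q := sm gc N21554
def N25925 : Q := sm ge N21554
def N25926 : Q := sm gf N21554
def N25927 : Q := sm gg N21554
def N25928 : Q := sm gb N21556
def N25929 : Q := sm gd N21557
def N25930 : Q := sm gg N21557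
def N25931 : Q := sm gc N21558
def N25932 : Q := sm ge N21558
def N25933 : Q := sm gf N21558
def N25934 : Q := sm gg N21558
def N25935 : Q := sm gg N21559
def N25936 : Q := sm gb N21561
def N25937 : Q := sm ge N21561
def N25938 : Q := sm ga N21563
def N25939 : Q := sm gd N21563
def N25940 : Q := sm ge N21563
def N25941 : Q := sm gf N21563
def N25942 : Q := sm gg N21563
def N25943 : Q := sm ge N21564
def N25944 : Q := sm gd N21565
def N25945 : Q := sm gf N21565
def N25946 : Q := sm gb N21566
def N25947 : Q := sm gb N21567
def N25948 : Q := sm ga N21568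
def N25949 : Q := sm gc N21568
def N25950 : Q := sm gg N21568
def N25951 : Q := sm gb N21569
def N25952 : Q := sm gc N21569
def N25953 : Q := sm gg N21569
def N25954 : Q := sm gd N21570
def N25955 : Q := sm gg N21570
def N25956 : Q := sm gf N21571
def N25957 : Q := sm gd N21572
def N25958 : Q := sm gg N21573
def N25959 : Q := sm gb N21574
def N25960 : Q := sm gc N21575
def N25961 : Q := sm ge N21575
def N25962 : Q := sm gg N21575
def N25963 : Q := sm gb N21576
def N25964 : Q := sm gd N21577
def N25965 : Q := sm gg N21577
def N25966 : Q := sm gg N21578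
def N25967 : Q := sm gb N21579
def N25968 : Q := sm gf N21579
def N25969 : Q := sm gf N21580
def N25970 : Q := sm gb N21581
def N25971 : Q := sm gd N21582
def N25972 : Q := sm gf N21582
def N25973 : Q := sm gg N21582
def N25974 : Q := sm gf N21583
def N25975 : Q := sm gg N21583
def N25976 : Q := sm gb N21584
def N25977 : Q := sm gb N21585
def N25978 : Q := sm gd N21586
def N25979 : Q := sm gg N21586
def N25980 : Q := sm ge N21587
def N25981 : Q := sm gf N21587
def N25982 : Q := sm gg N21587
def N25983 : Q := sm gb N21588
def N25984 : Q := sm gg N21588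
def N25985 : Q := sm gb N21589
def N25986 : Q := sm gf N21590
def N25987 : Q := sm gb N21591
def N25988 : Q := sm gb N21592
def N25989 : Q := sm ga N21593
def N25990 : Q := sm gc N21593
def N25991 : Q := sm gg N21593
def N25992 : Q := sm gd N21595
def N25993 : Q := sm gd N21596
def N25994 : Q := sm gg N21596
def N25995 : Q := sm ge N21597
def N25996 : Q := sm gf N21597
def N25997 : Q := sm gg N21597
def N25998 : Q := sm gb N21599
def N25999 : Q := sm gb N21600
def N26000 : Q := sm ge N21600
def N26001 : Q := sm gf N21600
def N26002 : Q := sm gg N21600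
def N26003 : Q := sm gf N21601
def N26004 : Q := sm gg N21601
def N26005 : Q := sm gb N21602
def N26006 : Q := sm gg N21602
def N26007 : Q := sm gf N21603
def N26008 : Q := sm gg N21604
def N26009 : Q := sm ga N21607
def N26010 : Q := sm ge N21607
def N26011 : Q := sm gf N21607
def N26012 : Q := sm gg N21607
def N26013 : Q := sm gd N21608
def N26014 : Q := sm gf N21608
def N26015 : Q := sm gb N21609
def N26016 : Q := sm gc N21611
def N26017 : Q := sm gg N21611
def N26018 : Q := sm gd N21612
def N26019 : Q := sm gf N21613
def N26020 : Q := sm gc N21614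
def N26021 : Q := sm ge N21614
def N26022 : Q := sm gb N21615
def N26023 : Q := sm gd N21615
def N26024 : Q := sm ge N21615
def N26025 : Q := sm gf N21615
def N26026 : Q := sm gg N21615
def N26027 : Q := sm gc N21616
def N26028 : Q := sm ge N21616
def N26029 : Q := sm gf N21616
def N26030 : Q := sm gg N21616
def N26031 : Q := sm gd N21617
def N26032 : Q := sm gf N21617
def N26033 : Q := sm gg N21617
def N26034 : Q := sm gb N21618
def N26035 : Q := sm gg N21618
def N26036 : Q := sm gf N21619
def N26037 : Q := sm gd N21620
def N26038 : Q := sm gf N21620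
def N26039 : Q := sm gb N21621
def N26040 : Q := sm gc N21622
def N26041 : Q := sm gf N21622
def N26042 : Q := sm gb N21623
def N26043 : Q := sm gg N21623
def N26044 : Q := sm ga N21624
def N26045 : Q := sm gg N21624
def N26046 : Q := sm gb N21625
def N26047 : Q := sm gb N21626
def N26048 : Q := sm ga N21627
def N26049 : Q := sm gc N21627
def N26050 : Q := sm gf N21627
def N26051 : Q := sm gc N21628
def N26052 : Q := sm gf N21628
def N26053 : Q := sm gf N21629
def N26054 : Q := sm gg N21630
def N26055 : Q := sm gb N21631
def N26056 : Q := sm gb N21632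
def N26057 : Q := sm gd N21633
def N26058 : Q := sm gb N21634
def N26059 : Q := sm gg N21634
def N26060 : Q := sm ga N21635
def N26061 : Q := sm gb N21637
def N26062 : Q := sm ga N21638
def N26063 : Q := sm gc N21638
def N26064 : Q := sm gg N21638
def N26065 : Q := sm gb N21639
def N26066 : Q := sm gb N21640
def N26067 : Q := sm gb N21641
def N26068 : Q := sm gc N21641
def N26069 : Q := sm gg N21641
def N26070 : Q := sm gd N21642
def N26071 : Q := sm gg N21642
def N26072 : Q := sm gf N21643
def N26073 : Q := sm gf N21644
def N26074 : Q := sm ga N21645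
def N26075 : Q := sm gc N21645
def N26076 : Q := sm gg N21645
def N26077 : Q := sm gd N21646
def N26078 : Q := sm gc N21647
def N26079 : Q := sm ge N21647
def N26080 : Q := sm gg N21647
def N26081 : Q := sm gb N21648
def N26082 : Q := sm gd N21649
def N26083 : Q := sm ga N21650
def N26084 : Q := sm gc N21650
def N26085 : Q := sm gg N21650
def N26086 : Q := sm gb N21651
def N26087 : Q := sm ga N21652
def N26088 : Q := sm gc N21652
def N26089 : Q := sm gb N21654
def N26090 : Q := sm gb N21655
def N26091 : Q := sm gc N21655
def N26092 : Q := sm gd N21656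
def N26093 : Q := sm gc N21657
def N26094 : Q := sm ga N21661
def N26095 : Q := sm gg N21661
def N26096 : Q := sm gb N21662
def N26097 : Q := sm gc N21662
def N26098 : Q := sm gg N21662
def N26099 : Q := sm gd N21663
def N26100 : Q := sm gg N21663
def N26101 : Q := sm gf N21664
def N26102 : Q := sm gc N21665
def N26103 : Q := sm gb N21666
def N26104 : Q := sm gd N21666
def N26105 : Q := sm gg N21666
def N26106 : Q := sm gc N21668
def N26107 : Q := sm ge N21668
def N26108 : Q := sm gg N21668
def N26109 : Q := sm gd N21671
def N26110 : Q := sm gd N21672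
def N26111 : Q := sm gc N21673
def N26112 : Q := sm ge N21673
def N26113 : Q := sm gb N21674
def N26114 : Q := sm gd N21674
def N26115 : Q := sm ge N21674
def N26116 : Q := sm gg N21674
def N26117 : Q := sm gg N21675
def N26118 : Q := sm gb N21676
def N26119 : Q := sm ga N21677
def N26120 : Q := sm gf N21677
def N26121 : Q := sm gf N21678
def N26122 : Q := sm gg N21678
def N26123 : Q := sm gf N21681
def N26124 : Q := sm gg N21681
def N26125 : Q := sm gf N21684
def N26126 : Q := sm gc N21690
def N26127 : Q := sm gc N21691
def N26128 : Q := sm gb N21692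
def N26129 : Q := sm gb N21693
def N26130 : Q := sm ga N21694
def N26131 : Q := sm gc N21694
def N26132 : Q := sm ga N21695
def N26133 : Q := sm gc N21695
def N26134 : Q := sm gf N21695
def N26135 : Q := sm gg N21695
def N26136 : Q := sm ga N21696
def N26137 : Q := sm gc N21696
def N26138 : Q := sm gc N21697
def N26139 : Q := sm gf N21697
def N26140 : Q := sm gd N21698
def N26141 : Q := sm gf N21698
def N26142 : Q := sm gg N21699
def N26143 : Q := sm gc N21700
def N26144 : Q := sm gd N21701
def N26145 : Q := sm gf N21703
def N26146 : Q := sm gc N21704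
def N26147 : Q := sm gd N21705
def N26148 : Q := sm gf N21706
def N26149 : Q := sm gc N21708
def N26150 : Q := sm gf N21708
def N26151 : Q := sm gb N21709
def N26152 : Q := sm gg N21709
def N26153 : Q := sm gb N21710
def N26154 : Q := sm gd N21711
def N26155 : Q := sm ga N21712
def N26156 : Q := sm gd N21712
def N26157 : Q := sm gf N21712
def N26158 : Q := sm gg N21712
def N26159 : Q := sm gc N21713
def N26160 : Q := sm ge N21713
def N26161 : Q := sm gf N21713
def N26162 : Q := sm gg N21713
def N26163 : Q := sm gb N21714
def N26164 : Q := sm gd N21716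
def N26165 : Q := sm gf N21716
def N26166 : Q := sm gc N21717
def N26167 : Q := sm ge N21717
def N26168 : Q := sm gf N21717
def N26169 : Q := sm gg N21717
def N26170 : Q := sm gf N21719
def N26171 : Q := sm gb N21720
def N26172 : Q := sm ge N21720
def N26173 : Q := sm ga N21722
def N26174 : Q := sm gd N21722
def N26175 : Q := sm ge N21722
def N26176 : Q := sm gf N21722
def N26177 : Q := sm gg N21722
def N26178 : Q := sm ge N21723
def N26179 : Q := sm gd N21724
def N26180 : Q := sm gg N21724
def N26181 : Q := sm gb N21725
def N26182 : Q := sm gb N21726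
def N26183 : Q := sm ga N21727
def N26184 : Q := sm gc N21727
def N26185 : Q := sm gf N21727
def N26186 : Q := sm gb N21728
def N26187 : Q := sm gc N21728
def N26188 : Q := sm gf N21728
def N26189 : Q := sm gd N21729
def N26190 : Q := sm gf N21729
def N26191 : Q := sm gg N21730
def N26192 : Q := sm gd N21731
def N26193 : Q := sm gf N21732
def N26194 : Q := sm gb N21733
def N26195 : Q := sm gc N21734
def N26196 : Q := sm ge N21734
def N26197 : Q := sm gf N21734
def N26198 : Q := sm gb N21735
def N26199 : Q := sm gd N21736
def N26200 : Q := sm gf N21736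
def N26201 : Q := sm gf N21737
def N26202 : Q := sm gb N21738
def N26203 : Q := sm gg N21738
def N26204 : Q := sm gg N21739
def N26205 : Q := sm gb N21740
def N26206 : Q := sm gd N21741
def N26207 : Q := sm gf N21741
def N26208 : Q := sm gg N21741
def N26209 : Q := sm gf N21742
def N26210 : Q := sm gb N21743
def N26211 : Q := sm gb N21744
def N26212 : Q := sm gd N21745
def N26213 : Q := sm gf N21745
def N26214 : Q := sm ge N21746
def N26215 : Q := sm gf N21746
def N26216 : Q := sm gg N21746
def N26217 : Q := sm gb N21747
def N26218 : Q := sm gb N21748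
def N26219 : Q := sm gf N21748
def N26220 : Q := sm gb N21750
def N26221 : Q := sm gb N21751
def N26222 : Q := sm ga N21753
def N26223 : Q := sm gd N21754
def N26224 : Q := sm gd N21755
def N26225 : Q := sm gf N21755
def N26226 : Q := sm ge N21756
def N26227 : Q := sm gf N21756
def N26228 : Q := sm gg N21756
def N26229 : Q := sm gb N21757
def N26230 : Q := sm gb N21759
def N26231 : Q := sm ge N21759
def N26232 : Q := sm gf N21759
def N26233 : Q := sm gg N21759
def N26234 : Q := sm gf N21760
def N26235 : Q := sm gg N21760
def N26236 : Q := sm gg N21761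
def N26237 : Q := sm gb N21762
def N26238 : Q := sm gf N21762
def N26239 : Q := sm gf N21764
def N26240 : Q := sm ga N21766
def N26241 : Q := sm ge N21766
def N26242 : Q := sm gf N21766
def N26243 : Q := sm gg N21766
def N26244 : Q := sm gd N21767
def N26245 : Q := sm gg N21767
def N26246 : Q := sm gb N21768
def N26247 : Q := sm gc N21770
def N26248 : Q := sm gf N21770
def N26249 : Q := sm gd N21771
def N26250 : Q := sm gg N21772
def N26251 : Q := sm gc N21773
def N26252 : Q := sm ge N21773
def N26253 : Q := sm gb N21774
def N26254 : Q := sm gd N21774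
def N26255 : Q := sm ge N21774
def N26256 : Q := sm gf N21774
def N26257 : Q := sm gg N21774
def N26258 : Q := sm gc N21775
def N26259 : Q := sm ge N21775
def N26260 : Q := sm gf N21775
def N26261 : Q := sm gg N21775
def N26262 : Q := sm gd N21776
def N26263 : Q := sm gf N21776
def N26264 : Q := sm gg N21776
def N26265 : Q := sm gg N21777
def N26266 : Q := sm gb N21778
def N26267 : Q := sm gf N21778
def N26268 : Q := sm gd N21779
def N26269 : Q := sm gg N21779
def N26270 : Q := sm gb N21780
def N26271 : Q := sm gc N21781
def N26272 : Q := sm gg N21781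
def N26273 : Q := sm gb N21782
def N26274 : Q := sm gf N21782
def N26275 : Q := sm ga N21783
def N26276 : Q := sm gf N21783
def N26277 : Q := sm gb N21784
def N26278 : Q := sm gb N21785
def N26279 : Q := sm ga N21786
def N26280 : Q := sm gc N21786
def N26281 : Q := sm gg N21786
def N26282 : Q := sm gc N21787
def N26283 : Q := sm gg N21787
def N26284 : Q := sm gg N21788
def N26285 : Q := sm gf N21789
def N26286 : Q := sm gb N21790
def N26287 : Q := sm gb N21791
def N26288 : Q := sm gb N21794
def N26289 : Q := sm ga N21795
def N26290 : Q := sm gc N21795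
def N26291 : Q := sm gf N21795
def N26292 : Q := sm gc N21799
def N26293 : Q := sm gf N21800
def N26294 : Q := sm gc N21802
def N26295 : Q := sm ge N21802
def N26296 : Q := sm gf N21802
def N26297 : Q := sm gg N21802
def N26298 : Q := sm gf N21804
def N26299 : Q := sm gc N21806
def N26300 : Q := sm ge N21806
def N26301 : Q := sm gf N21806
def N26302 : Q := sm gg N21806
def N26303 : Q := sm gb N21809
def N26304 : Q := sm gd N21809
def N26305 : Q := sm ge N21809
def N26306 : Q := sm gf N21809
def N26307 : Q := sm gg N21809
def N26308 : Q := sm gf N21810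
def N26309 : Q := sm gg N21810
def N26310 : Q := sm gg N21811
def N26311 : Q := sm gf N21812
def N26312 : Q := sm ga N21815
def N26313 : Q := sm ge N21815
def N26314 : Q := sm gf N21815
def N26315 : Q := sm gg N21815
def N26316 : Q := sm gc N21817
def N26317 : Q := sm ge N21817
def N26318 : Q := sm gf N21817
def N26319 : Q := sm gg N21817
def N26320 : Q := sm gb N21818
def N26321 : Q := sm gg N21818
def N26322 : Q := sm gf N21819
def N26323 : Q := sm gb N21820
def N26324 : Q := sm gd N21820
def N26325 : Q := sm ge N21820
def N26326 : Q := sm gf N21820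
def N26327 : Q := sm gg N21820
def N26328 : Q := sm gf N21821
def N26329 : Q := sm gg N21821
def N26330 : Q := sm gb N21822
def N26331 : Q := sm gb N21823
def N26332 : Q := sm gc N21824
def N26333 : Q := sm gc N21826
def N26334 : Q := sm ge N21826
def N26335 : Q := sm gf N21826
def N26336 : Q := sm gg N21826
def N26337 : Q := sm gd N21827
def N26338 : Q := sm gf N21827
def N26339 : Q := sm gg N21827
def N26340 : Q := sm gb N21828
def N26341 : Q := sm gg N21828
def N26342 : Q := sm gb N21829
def N26343 : Q := sm gf N21829
def N26344 : Q := sm gg N21830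
def N26345 : Q := sm gf N21831
def N26346 : Q := sm gb N21832
def N26347 : Q := sm gb N21833
def N26348 : Q := sm gc N21834
def N26349 : Q := sm gf N21834
def N26350 : Q := sm ga N21835
def N26351 : Q := sm gc N21835
def N26352 : Q := sm gg N21835
def N26353 : Q := sm ge N21836
def N26354 : Q := sm gf N21836
def N26355 : Q := sm gg N21836
def N26356 : Q := sm gf N21837
def N26357 : Q := sm gg N21837
def N26358 : Q := sm gb N21838
def N26359 : Q := sm gb N21839
def N26360 : Q := sm gg N21840
def N26361 : Q := sm gf N21841
def N26362 : Q := sm gb N21842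
def N26363 : Q := sm gb N21843
def N26364 : Q := sm gb N21846
def N26365 : Q := sm ga N21847
def N26366 : Q := sm gc N21847
def N26367 : Q := sm gg N21847
def N26368 : Q := sm gc N21851
def N26369 : Q := sm gg N21852
def N26370 : Q := sm gc N21854
def N26371 : Q := sm ge N21854
def N26372 : Q := sm gf N21854
def N26373 : Q := sm gg N21854
def N26374 : Q := sm gg N21855
def N26375 : Q := sm gc N21858
def N26376 : Q := sm ge N21858
def N26377 : Q := sm gf N21858
def N26378 : Q := sm gg N21858
def N26379 : Q := sm gb N21861
def N26380 : Q := sm gd N21861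
def N26381 : Q := sm ge N21861
def N26382 : Q := sm gf N21861
def N26383 : Q := sm gg N21861
def N26384 : Q := sm gf N21862
def N26385 : Q := sm gg N21862
def N26386 : Q := sm gg N21863
def N26387 : Q := sm gf N21864
def N26388 : Q := sm ga N21867
def N26389 : Q := sm ge N21867
def N26390 : Q := sm gf N21867
def N26391 : Q := sm gg N21867
def N26392 : Q := sm gc N21869
def N26393 : Q := sm ge N21869
def N26394 : Q := sm gf N21869
def N26395 : Q := sm gg N21869
def N26396 : Q := sm gg N21870
def N26397 : Q := sm gb N21871
def N26398 : Q := sm gf N21871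
def N26399 : Q := sm gb N21872
def N26400 : Q := sm gd N21872
def N26401 : Q := sm ge N21872
def N26402 : Q := sm gf N21872
def N26403 : Q := sm gg N21872
def N26404 : Q := sm gf N21873
def N26405 : Q := sm gg N21873
def N26406 : Q := sm gb N21874
def N26407 : Q := sm gb N21875
def N26408 : Q := sm gc N21877
def N26409 : Q := sm gc N21878
def N26410 : Q := sm ge N21878
def N26411 : Q := sm gf N21878
def N26412 : Q := sm gg N21878
def N26413 : Q := sm gd N21879
def N26414 : Q := sm gf N21879
def N26415 : Q := sm gg N21879
def N26416 : Q := sm gb N21880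
def N26417 : Q := sm gg N21880
def N26418 : Q := sm gb N21881
def N26419 : Q := sm gf N21881
def N26420 : Q := sm gg N21882
def N26421 : Q := sm gf N21883
def N26422 : Q := sm gb N21884
def N26423 : Q := sm gb N21885
def N26424 : Q := sm ga N21886
def N26425 : Q := sm gc N21886
def N26426 : Q := sm gf N21886
def N26427 : Q := sm gc N21887
def N26428 : Q := sm gg N21887
def N26429 : Q := sm ge N21888
def N26430 : Q := sm gf N21888
def N26431 : Q := sm gg N21888
def N26432 : Q := sm gf N21889
def N26433 : Q := sm gg N21889
def N26434 : Q := sm gb N21890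
def N26435 : Q := sm gb N21891
def N26436 : Q := sm gg N21892
def N26437 : Q := sm gf N21893
def N26438 : Q := sm gb N21894
def N26439 : Q := sm gb N21895
def N26440 : Q := sm gb N21896
def N26441 : Q := sm gd N21896
def N26442 : Q := sm ga N21897
def N26443 : Q := sm gf N21897
def N26444 : Q := sm gg N21897
def N26445 : Q := sm gb N21898
def N26446 : Q := sm gd N21898
def N26447 : Q := sm gf N21898
def N26448 : Q := sm gg N21898
def N26449 : Q := sm gc N21899
def N26450 : Q := sm ge N21899
def N26451 : Q := sm gf N21899
def N26452 : Q := sm gg N21899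
def N26453 : Q := sm gg N21900
def N26454 : Q := sm gf N21901
def N26455 : Q := sm gb N21903
def N26456 : Q := sm gd N21903
def N26457 : Q := sm ga N21904
def N26458 : Q := sm gf N21904
def N26459 : Q := sm gg N21904
def N26460 : Q := sm gb N21905
def N26461 : Q := sm gd N21905
def N26462 : Q := sm gf N21905
def N26463 : Q := sm gg N21905
def N26464 : Q := sm gc N21906
def N26465 : Q := sm ge N21906
def N26466 : Q := sm gf N21906
def N26467 : Q := sm gg N21906
def N26468 : Q := sm gg N21907
def N26469 : Q := sm gf N21908
def N26470 : Q := sm ga N21921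
def N26471 : Q := sm gf N21921
def N26472 : Q := sm ga N21922
def N26473 : Q := sm gg N21922
def N26474 : Q := sm gg N21923
def N26475 : Q := sm gf N21925
def N26476 : Q := sm ge N21929
def N26477 : Q := sm ge N21930
def N26478 : Q := sm gf N21931
def N26479 : Q := sm ge N21935
def N26480 : Q := sm ge N21936
def N26481 : Q := sm gg N21937
def N26482 : Q := sm gb N21940
def N26483 : Q := sm gf N21943
def N26484 : Q := sm gb N21944
def N26485 : Q := sm gd N21945
def N26486 : Q := sm gf N21945
def N26487 : Q := sm gb N21949
def N26488 : Q := sm gg N21952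
def N26489 : Q := sm gb N21953
def N26490 : Q := sm gd N21954
def N26491 : Q := sm gg N21954
def N26492 : Q := sm gb N21961
def N26493 : Q := sm gc N21966
def N26494 : Q := sm gf N21966
def N26495 : Q := sm gd N21968
def N26496 : Q := sm ge N21968
def N26497 : Q := sm gf N21968
def N26498 : Q := sm gf N21969
def N26499 : Q := sm gb N21970
def N26500 : Q := sm ge N21972
def N26501 : Q := sm gf N21972
def N26502 : Q := sm gb N21978
def N26503 : Q := sm ga N21979
def N26504 : Q := sm gc N21979
def N26505 : Q := sm gd N21981
def N26506 : Q := sm ge N21982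
def N26507 : Q := sm gf N21984
def N26508 : Q := sm gb N21985
def N26509 : Q := sm gb N21988
def N26510 : Q := sm ga N21989
def N26511 : Q := sm gc N21989
def N26512 : Q := sm gg N21989
def N26513 : Q := sm gg N21990
def N26514 : Q := sm gg N21993
def N26515 : Q := sm gb N21994
def N26516 : Q := sm gd N21995
def N26517 : Q := sm gg N21995
def N26518 : Q := sm gb N21996
def N26519 : Q := sm ga N21997
def N26520 : Q := sm gc N21997
def N26521 : Q := sm gb N21999
def N26522 : Q := sm gc N21999
def N26523 : Q := sm gb N22005
def N26524 : Q := sm gg N22010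
def N26525 : Q := sm gd N22012
def N26526 : Q := sm ge N22012
def N26527 : Q := sm gg N22012
def N26528 : Q := sm gg N22013
def N26529 : Q := sm gb N22014
def N26530 : Q := sm ge N22016
def N26531 : Q := sm gg N22016
def N26532 : Q := sm gb N22022
def N26533 : Q := sm ga N22023
def N26534 : Q := sm gc N22023
def N26535 : Q := sm gd N22025
def N26536 : Q := sm ge N22026
def N26537 : Q := sm gg N22028
def N26538 : Q := sm gb N22029
def N26539 : Q := sm gb N22032
def N26540 : Q := sm ga N22033
def N26541 : Q := sm gc N22033
def N26542 : Q := sm gf N22033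
def N26543 : Q := sm gf N22034
def N26544 : Q := sm gf N22037
def N26545 : Q := sm gb N22038
def N26546 : Q := sm gf N22039
def N26547 : Q := sm gb N22040
def N26548 : Q := sm ga N22041
def N26549 : Q := sm gc N22041
def N26550 : Q := sm gb N22043
def N26551 : Q := sm gc N22043
def N26552 : Q := sm ge N22045
def N26553 : Q := sm gc N22046
def N26554 : Q := sm gd N22047
def N26555 : Q := sm ga N22049
def N26556 : Q := sm gc N22049
def N26557 : Q := sm gf N22049
def N26558 : Q := sm gb N22050
def N26559 : Q := sm gc N22050
def N26560 : Q := sm gf N22050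
def N26561 : Q := sm gd N22051
def N26562 : Q := sm gf N22051
def N26563 : Q := sm gg N22052
def N26564 : Q := sm gc N22053
def N26565 : Q := sm gg N22053
def N26566 : Q := sm ge N22060
def N26567 : Q := sm gb N22061
def N26568 : Q := sm ge N22065
def N26569 : Q := sm ge N22066
def N26570 : Q := sm gf N22067
def N26571 : Q := sm gb N22068
def N26572 : Q := sm ga N22069
def N26573 : Q := sm ge N22070
def N26574 : Q := sm ga N22075
def N26575 : Q := sm gf N22075
def N26576 : Q := sm gc N22076
def N26577 : Q := sm gf N22077
def N26578 : Q := sm gb N22084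
def N26579 : Q := sm ga N22085
def N26580 : Q := sm gb N22088
def N26581 : Q := sm gb N22093
def N26582 : Q := sm gf N22093
def N26583 : Q := sm gg N22094
def N26584 : Q := sm gc N22095
def N26585 : Q := sm gb N22098
def N26586 : Q := sm gd N22098
def N26587 : Q := sm gd N22099
def N26588 : Q := sm gb N22101
def N26589 : Q := sm gb N22102
def N26590 : Q := sm ge N22104
def N26591 : Q := sm gf N22106
def N26592 : Q := sm ga N22109
def N26593 : Q := sm ge N22109
def N26594 : Q := sm gf N22109
def N26595 : Q := sm gd N22111
def N26596 : Q := sm gc N22116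
def N26597 : Q := sm gf N22116
def N26598 : Q := sm gf N22119
def N26599 : Q := sm gc N22121
def N26600 : Q := sm ga N22125
def N26601 : Q := sm gc N22125
def N26602 : Q := sm gf N22125
def N26603 : Q := sm gg N22125
def N26604 : Q := sm ga N22126
def N26605 : Q := sm gc N22126
def N26606 : Q := sm gg N22127
def N26607 : Q := sm gd N22128
def N26608 : Q := sm gg N22131
def N26609 : Q := sm gd N22139
def N26610 : Q := sm gf N22139
def N26611 : Q := sm gf N22140
def N26612 : Q := sm ga N22143
def N26613 : Q := sm ge N22143
def N26614 : Q := sm gd N22158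
def N26615 : Q := sm ge N22159
def N26616 : Q := sm gg N22160
def N26617 : Q := sm gb N22161
def N26618 : Q := sm gc N22164
def N26619 : Q := sm ge N22164
def N26620 : Q := sm ge N22166
def N26621 : Q := sm gg N22166
def N26622 : Q := sm gf N22167
def N26623 : Q := sm gg N22167
def N26624 : Q := sm gg N22168
def N26625 : Q := sm gd N22171
def N26626 : Q := sm ge N22172
def N26627 : Q := sm gg N22172
def N26628 : Q := sm gd N22173
def N26629 : Q := sm gf N22173
def N26630 : Q := sm gg N22173
def N26631 : Q := sm gb N22174
def N26632 : Q := sm gf N22175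
def N26633 : Q := sm gd N22176
def N26634 : Q := sm gc N22177
def N26635 : Q := sm gf N22177
def N26636 : Q := sm gb N22178
def N26637 : Q := sm gg N22179
def N26638 : Q := sm ga N22180
def N26639 : Q := sm gg N22180
def N26640 : Q := sm gg N22181
def N26641 : Q := sm gf N22182
def N26642 : Q := sm gf N22187
def N26643 : Q := sm gf N22192
def N26644 : Q := sm gb N22195
def N26645 : Q := sm ga N22196
def N26646 : Q := sm gf N22199
def N26647 : Q := sm gg N22205
def N26648 : Q := sm gg N22206
def N26649 : Q := sm ge N22209
def N26650 : Q := sm gg N22210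
def N26651 : Q := sm gg N22212
def N26652 : Q := sm ga N22215
def N26653 : Q := sm ge N22215
def N26654 : Q := sm gf N22215
def N26655 : Q := sm gd N22216
def N26656 : Q := sm gg N22216
def N26657 : Q := sm gg N22218
def N26658 : Q := sm gf N22219
def N26659 : Q := sm gd N22222
def N26660 : Q := sm gg N22222
def N26661 : Q := sm gb N22225
def N26662 : Q := sm ge N22225
def N26663 : Q := sm gf N22225
def N26664 : Q := sm gg N22225
def N26665 : Q := sm gd N22226
def N26666 : Q := sm gf N22226
def N26667 : Q := sm gg N22226
def N26668 : Q := sm gg N22227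
def N26669 : Q := sm gf N22228
def N26670 : Q := sm gc N22229
def N26671 : Q := sm gf N22229
def N26672 : Q := sm ga N22234
def N26673 : Q := sm gd N22234
def N26674 : Q := sm ge N22234
def N26675 : Q := sm gf N22234
def N26676 : Q := sm gg N22234
def N26677 : Q := sm gc N22235
def N26678 : Q := sm ge N22235
def N26679 : Q := sm gf N22235
def N26680 : Q := sm gg N22235
def N26681 : Q := sm gd N22236
def N26682 : Q := sm gf N22236
def N26683 : Q := sm gg N22236
def N26684 : Q := sm ge N22239
def N26685 : Q := sm gg N22239
def N26686 : Q := sm gd N22240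
def N26687 : Q := sm gf N22240
def N26688 : Q := sm gg N22240
def N26689 : Q := sm gg N22241
def N26690 : Q := sm gf N22242
def N26691 : Q := sm gc N22243
def N26692 : Q := sm gf N22243
def N26693 : Q := sm gg N22243
def N26694 : Q := sm gg N22244
def N26695 : Q := sm gf N22245
def N26696 : Q := sm gb N22247
def N26697 : Q := sm gc N22248
def N26698 : Q := sm gf N22248
def N26699 : Q := sm gd N22250
def N26700 : Q := sm gg N22251
def N26701 : Q := sm gb N22252
def N26702 : Q := sm ga N22254
def N26703 : Q := sm gc N22254
def N26704 : Q := sm gc N22255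
def N26705 : Q := sm gd N22258
def N26706 : Q := sm gf N22258
def N26707 : Q := sm gc N22260
def N26708 : Q := sm gf N22260
def N26709 : Q := sm gg N22261
def N26710 : Q := sm ge N22264
def N26711 : Q := sm ga N22266
def N26712 : Q := sm gc N22266
def N26713 : Q := sm gg N22266
def N26714 : Q := sm gb N22267
def N26715 : Q := sm gc N22267
def N26716 : Q := sm gg N22267
def N26717 : Q := sm gd N22268
def N26718 : Q := sm gg N22268
def N26719 : Q := sm gf N22269
def N26720 : Q := sm gc N22270
def N26721 : Q := sm gf N22270
def N26722 : Q := sm ge N22274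
def N26723 : Q := sm gb N22275
def N26724 : Q := sm ge N22281
def N26725 : Q := sm ge N22282
def N26726 : Q := sm gg N22283
def N26727 : Q := sm gb N22284
def N26728 : Q := sm ga N22285
def N26729 : Q := sm ga N22290
def N26730 : Q := sm gg N22290
def N26731 : Q := sm gc N22291
def N26732 : Q := sm gg N22292
def N26733 : Q := sm ga N22299
def N26734 : Q := sm gb N22301
def N26735 : Q := sm gb N22308
def N26736 : Q := sm gg N22308
def N26737 : Q := sm gf N22309
def N26738 : Q := sm gc N22310
def N26739 : Q := sm gb N22313
def N26740 : Q := sm gd N22313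
def N26741 : Q := sm ge N22317
def N26742 : Q := sm ga N22320
def N26743 : Q := sm ge N22320
def N26744 : Q := sm gg N22320
def N26745 : Q := sm gd N22322
def N26746 : Q := sm gc N22327
def N26747 : Q := sm gg N22327
def N26748 : Q := sm gg N22330
def N26749 : Q := sm gc N22332
def N26750 : Q := sm ga N22336
def N26751 : Q := sm gc N22336
def N26752 : Q := sm gf N22336
def N26753 : Q := sm gg N22336
def N26754 : Q := sm gf N22338
def N26755 : Q := sm gd N22339
def N26756 : Q := sm gg N22348
def N26757 : Q := sm ga N22351
def N26758 : Q := sm ge N22351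
def N26759 : Q := sm ge N22366
def N26760 : Q := sm gb N22367
def N26761 : Q := sm gc N22371
def N26762 : Q := sm ge N22371
def N26763 : Q := sm ge N22373
def N26764 : Q := sm gf N22373
def N26765 : Q := sm gf N22374
def N26766 : Q := sm gg N22374
def N26767 : Q := sm gf N22376
def N26768 : Q := sm ge N22378
def N26769 : Q := sm gf N22378
def N26770 : Q := sm gd N22379
def N26771 : Q := sm gf N22379
def N26772 : Q := sm gg N22379
def N26773 : Q := sm gg N22380
def N26774 : Q := sm gb N22381
def N26775 : Q := sm gc N22382
def N26776 : Q := sm gg N22382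
def N26777 : Q := sm gb N22383
def N26778 : Q := sm gf N22384
def N26779 : Q := sm ga N22385
def N26780 : Q := sm gf N22385
def N26781 : Q := sm gf N22386
def N26782 : Q := sm gg N22387
def N26783 : Q := sm gg N22392
def N26784 : Q := sm gg N22397
def N26785 : Q := sm gb N22400
def N26786 : Q := sm ga N22401
def N26787 : Q := sm ge N22409
def N26788 : Q := sm gf N22410
def N26789 : Q := sm gf N22412
def N26790 : Q := sm gd N22415
def N26791 : Q := sm gf N22415
def N26792 : Q := sm gg N22417
def N26793 : Q := sm gf N22418
def N26794 : Q := sm ga N22425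
def N26795 : Q := sm ge N22425
def N26796 : Q := sm gf N22425
def N26797 : Q := sm gg N22425
def N26798 : Q := sm gd N22426
def N26799 : Q := sm gf N22426
def N26800 : Q := sm gg N22426
def N26801 : Q := sm gf N22429
def N26802 : Q := sm gg N22429
def N26803 : Q := sm gg N22430
def N26804 : Q := sm gf N22431
def N26805 : Q := sm gb N22432
def N26806 : Q := sm gd N22434
def N26807 : Q := sm gf N22435
def N26808 : Q := sm gb N22436
def N26809 : Q := sm ga N22438
def N26810 : Q := sm gc N22438
def N26811 : Q := sm gc N22439
def N26812 : Q := sm gd N22442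
def N26813 : Q := sm gg N22442
def N26814 : Q := sm gc N22444
def N26815 : Q := sm gg N22444
def N26816 : Q := sm gf N22445
def N26817 : Q := sm gc N22451
def N26818 : Q := sm gf N22453
def N26819 : Q := sm ge N22462
def N26820 : Q := sm gg N22462
def N26821 : Q := sm gd N22463
def N26822 : Q := sm gg N22463
def N26823 : Q := sm gf N22467
def N26824 : Q := sm gg N22467
def N26825 : Q := sm gb N22470
def N26826 : Q := sm gg N22470
def N26827 : Q := sm gg N22471
def N26828 : Q := sm gg N22472
def N26829 : Q := sm ga N22477
def N26830 : Q := sm gd N22477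
def N26831 : Q := sm ge N22477
def N26832 : Q := sm gg N22477
def N26833 : Q := sm ge N22478
def N26834 : Q := sm gg N22478
def N26835 : Q := sm gd N22479
def N26836 : Q := sm gg N22479
def N26837 : Q := sm gd N22484
def N26838 : Q := sm gg N22484
def N26839 : Q := sm gb N22485
def N26840 : Q := sm gc N22486
def N26841 : Q := sm gg N22486
def N26842 : Q := sm gb N22487
def N26843 : Q := sm gf N22487
def N26844 : Q := sm gb N22490
def N26845 : Q := sm gb N22491
def N26846 : Q := sm gc N22496
def N26847 : Q := sm gg N22497
def N26848 : Q := sm gc N22499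
def N26849 : Q := sm gd N22502
def N26850 : Q := sm gf N22502
def N26851 : Q := sm gg N22503
def N26852 : Q := sm gc N22510
def N26853 : Q := sm gg N22512
def N26854 : Q := sm ge N22521
def N26855 : Q := sm gf N22521
def N26856 : Q := sm gd N22522
def N26857 : Q := sm gf N22522
def N26858 : Q := sm gf N22526
def N26859 : Q := sm gg N22526
def N26860 : Q := sm gb N22529
def N26861 : Q := sm gf N22529
def N26862 : Q := sm gf N22530
def N26863 : Q := sm gf N22532
def N26864 : Q := sm ga N22536
def N26865 : Q := sm gd N22536
def N26866 : Q := sm ge N22536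
def N26867 : Q := sm gf N22536
def N26868 : Q := sm ge N22537
def N26869 : Q := sm gf N22537
def N26870 : Q := sm gd N22538
def N26871 : Q := sm gf N22538
def N26872 : Q := sm gd N22543
def N26873 : Q := sm gf N22543
def N26874 : Q := sm gb N22544
def N26875 : Q := sm gc N22545
def N26876 : Q := sm gf N22545
def N26877 : Q := sm gb N22546
def N26878 : Q := sm gg N22546
def N26879 : Q := sm gb N22549
def N26880 : Q := sm gb N22550
def N26881 : Q := sm gc N22553
def N26882 : Q := sm gf N22554
def N26883 : Q := sm gc N22558
def N26884 : Q := sm gd N22561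
def N26885 : Q := sm gg N22561
def N26886 : Q := sm gf N22563
def N26887 : Q := sm gf N22566
def N26888 : Q := sm ge N22572
def N26889 : Q := sm gb N22576
def N26890 : Q := sm ge N22577
def N26891 : Q := sm gg N22578
def N26892 : Q := sm gg N22588
def N26893 : Q := sm ge N22592
def N26894 : Q := sm gd N22593
def N26895 : Q := sm gf N22593
def N26896 : Q := sm gg N22593
def N26897 : Q := sm gb N22594
def N26898 : Q := sm gb N22595
def N26899 : Q := sm gb N22598
def N26900 : Q := sm gd N22601
def N26901 : Q := sm gg N22601
def N26902 : Q := sm gb N22602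
def N26903 : Q := sm gc N22603
def N26904 : Q := sm gf N22603
def N26905 : Q := sm gg N22603
def N26906 : Q := sm gb N22605
def N26907 : Q := sm gd N22607
def N26908 : Q := sm gf N22607
def N26909 : Q := sm gb N22610
def N26910 : Q := sm gg N22612
def N26911 : Q := sm ge N22618
def N26912 : Q := sm gb N22621
def N26913 : Q := sm ge N22623
def N26914 : Q := sm gf N22624
def N26915 : Q := sm gf N22634
def N26916 : Q := sm ge N22637
def N26917 : Q := sm gd N22638
def N26918 : Q := sm gb N22639
def N26919 : Q := sm gd N22642
def N26920 : Q := sm gc N22643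
def N26921 : Q := sm gf N22643
def N26922 : Q := sm gg N22643
def N26923 : Q := sm gb N22644
def N26924 : Q := sm gd N22647
def N26925 : Q := sm gf N22649
def N26926 : Q := sm gb N22650
def N26927 : Q := sm ge N22651
def N26928 : Q := sm gc N22652
def N26929 : Q := sm ga N22658
def N26930 : Q := sm gf N22659
def N26931 : Q := sm gb N22664
def N26932 : Q := sm ge N22665
def N26933 : Q := sm gf N22667
def N26934 : Q := sm gb N22672
def N26935 : Q := sm ga N22675
def N26936 : Q := sm gd N22675
def N26937 : Q := sm gf N22675
def N26938 : Q := sm ge N22676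
def N26939 : Q := sm ge N22677
def N26940 : Q := sm gb N22682
def N26941 : Q := sm ge N22683
def N26942 : Q := sm gf N22683
def N26943 : Q := sm gf N22685
def N26944 : Q := sm gb N22686
def N26945 : Q := sm ge N22686
def N26946 : Q := sm gd N22688
def N26947 : Q := sm gb N22689
def N26948 : Q := sm gf N22689
def N26949 : Q := sm gf N22697
def N26950 : Q := sm gb N22698
def N26951 : Q := sm gg N22704
def N26952 : Q := sm gb N22709
def N26953 : Q := sm ga N22711
def N26954 : Q := sm gd N22711
def N26955 : Q := sm gg N22711
def N26956 : Q := sm ge N22712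
def N26957 : Q := sm ge N22713
def N26958 : Q := sm gb N22718
def N26959 : Q := sm ge N22719
def N26960 : Q := sm gg N22719
def N26961 : Q := sm gg N22720
def N26962 : Q := sm gb N22722
def N26963 : Q := sm ge N22722
def N26964 : Q := sm gd N22724
def N26965 : Q := sm gb N22725
def N26966 : Q := sm gg N22725
def N26967 : Q := sm gg N22731
def N26968 : Q := sm gb N22732
def N26969 : Q := sm gb N22740
def N26970 : Q := sm gb N22741
def N26971 : Q := sm gb N22744
def N26972 : Q := sm gc N22744
def N26973 : Q := sm gg N22744
def N26974 : Q := sm gd N22745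
def N26975 : Q := sm gg N22745
def N26976 : Q := sm gf N22746
def N26977 : Q := sm gb N22747
def N26978 : Q := sm gc N22747
def N26979 : Q := sm gf N22747
def N26980 : Q := sm gd N22748
def N26981 : Q := sm gf N22748
def N26982 : Q := sm gg N22749
def N26983 : Q := sm gg N22750
def N26984 : Q := sm gf N22753
def N26985 : Q := sm ga N22758
def N26986 : Q := sm gc N22758
def N26987 : Q := sm gf N22758
def N26988 : Q := sm gb N22759
def N26989 : Q := sm gc N22759
def N26990 : Q := sm gf N22759
def N26991 : Q := sm gd N22760
def N26992 : Q := sm gf N22760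
def N26993 : Q := sm gg N22761
def N26994 : Q := sm ga N22762
def N26995 : Q := sm gc N22762
def N26996 : Q := sm gg N22762
def N26997 : Q := sm gb N22763
def N26998 : Q := sm gc N22763
def N26999 : Q := sm gg N22763
def N27000 : Q := sm gd N22764
def N27001 : Q := sm gg N22764
def N27002 : Q := sm gf N22765
def N27003 : Q := sm gb N22766
def N27004 : Q := sm gc N22766
def N27005 : Q := sm gc N22769
def N27006 : Q := sm gb N22770
def N27007 : Q := sm gd N22770
def N27008 : Q := sm gf N22772
def N27009 : Q := sm gb N22775
def N27010 : Q := sm gc N22775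
def N27011 : Q := sm gc N22778
def N27012 : Q := sm gb N22779
def N27013 : Q := sm gd N22779
def N27014 : Q := sm gg N22781
def N27015 : Q := sm gc N22784
def N27016 : Q := sm ga N22786
def N27017 : Q := sm gc N22786
def N27018 : Q := sm gg N22786
def N27019 : Q := sm gc N22787
def N27020 : Q := sm ga N22789
def N27021 : Q := sm gc N22789
def N27022 : Q := sm gf N22789
def N27023 : Q := sm gc N22790
def N27024 : Q := sm gd N22791
def N27025 : Q := sm gf N22795
def N27026 : Q := sm gc N22796
def N27027 : Q := sm gd N22797
def N27028 : Q := sm gg N22801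
def N27029 : Q := sm ga N22808
def N27030 : Q := sm gf N22808
def N27031 : Q := sm ga N22814
def N27032 : Q := sm gg N22814
def N27033 : Q := sm gb N22820
def N27034 : Q := sm gb N22826
def N27035 : Q := sm gb N22841
def N27036 : Q := sm ga N22844
def N27037 : Q := sm gc N22844
def N27038 : Q := sm gb N22846
def N27039 : Q := sm ga N22850
def N27040 : Q := sm gc N22850
def N27041 : Q := sm gb N22858
def N27042 : Q := sm ga N22859
def N27043 : Q := sm gc N22859
def N27044 : Q := sm gf N22859
def N27045 : Q := sm gc N22860
def N27046 : Q := sm gf N22861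
def N27047 : Q := sm gf N22863
def N27048 : Q := sm gg N22865
def N27049 : Q := sm gb N22869
def N27050 : Q := sm ga N22870
def N27051 : Q := sm gc N22870
def N27052 : Q := sm gg N22870
def N27053 : Q := sm gc N22871
def N27054 : Q := sm gg N22872
def N27055 : Q := sm gg N22874
def N27056 : Q := sm gf N22876
def N27057 : Q := sm gb N22878
def N27058 : Q := sm gc N22879
def N27059 : Q := sm gf N22880
def N27060 : Q := sm gb N22882
def N27061 : Q := sm gg N22883
def N27062 : Q := sm gb N22887
def N27063 : Q := sm gc N22888
def N27064 : Q := sm gg N22889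
def N27065 : Q := sm gb N22891
def N27066 : Q := sm gf N22892
def N27067 : Q := sm gg N22897
def N27068 : Q := sm gf N22898
def N27069 : Q := sm gg N22899
def N27070 : Q := sm gb N22900
def N27071 : Q := sm gd N22902
def N27072 : Q := sm gb N22904
def N27073 : Q := sm ga N22905
def N27074 : Q := sm gc N22905
def N27075 : Q := sm gf N22905
def N27076 : Q := sm gb N22907
def N27077 : Q := sm gd N22909
def N27078 : Q := sm gc N22910
def N27079 : Q := sm ge N22910
def N27080 : Q := sm gf N22910
def N27081 : Q := sm gb N22911
def N27082 : Q := sm gc N22914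
def N27083 : Q := sm gd N22915
def N27084 : Q := sm gf N22915
def N27085 : Q := sm gg N22915
def N27086 : Q := sm gf N22918
def N27087 : Q := sm ge N22920
def N27088 : Q := sm gf N22920
def N27089 : Q := sm gf N22921
def N27090 : Q := sm gg N22922
def N27091 : Q := sm gb N22923
def N27092 : Q := sm gc N22924
def N27093 : Q := sm gf N22926
def N27094 : Q := sm gg N22927
def N27095 : Q := sm gf N22928
def N27096 : Q := sm gb N22929
def N27097 : Q := sm gd N22931
def N27098 : Q := sm gb N22933
def N27099 : Q := sm ga N22934
def N27100 : Q := sm gc N22934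
def N27101 : Q := sm gg N22934
def N27102 : Q := sm gb N22936
def N27103 : Q := sm gd N22938
def N27104 : Q := sm gc N22939
def N27105 : Q := sm ge N22939
def N27106 : Q := sm gg N22939
def N27107 : Q := sm gb N22940
def N27108 : Q := sm gc N22943
def N27109 : Q := sm gd N22944
def N27110 : Q := sm gf N22944
def N27111 : Q := sm gg N22944
def N27112 : Q := sm gg N22947
def N27113 : Q := sm ge N22949
def N27114 : Q := sm gg N22949
def N27115 : Q := sm gg N22950
def N27116 : Q := sm gf N22951
def N27117 : Q := sm gb N22952
def N27118 : Q := sm gc N22953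
def N27119 : Q := sm gc N22954
def N27120 : Q := sm gc N22955
def N27121 : Q := sm gf N22955
def N27122 : Q := sm gd N22956
def N27123 : Q := sm gf N22956
def N27124 : Q := sm gg N22957
def N27125 : Q := sm gb N22959
def N27126 : Q := sm gc N22961
def N27127 : Q := sm gc N22962
def N27128 : Q := sm gg N22962
def N27129 : Q := sm gd N22963
def N27130 : Q := sm gg N22963
def N27131 : Q := sm gf N22964
def N27132 : Q := sm gb N22966
def N27133 : Q := sm gc N22968
def N27134 : Q := sm gb N22976
def N27135 : Q := sm gc N22977
def N27136 : Q := sm gb N22985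
def N27137 : Q := sm gg N22988
def N27138 : Q := sm gb N22989
def N27139 : Q := sm gf N22992
def N27140 : Q := sm gb N22993
def N27141 : Q := sm gb N22995
def N27142 : Q := sm ge N22997
def N27143 : Q := sm ga N22998
def N27144 : Q := sm gg N23001
def N27145 : Q := sm gc N23004
def N27146 : Q := sm gb N23006
def N27147 : Q := sm gg N23006
def N27148 : Q := sm gd N23013
def N27149 : Q := sm gf N23013
def N27150 : Q := sm gb N23020
def N27151 : Q := sm ge N23022
def N27152 : Q := sm ga N23023
def N27153 : Q := sm gf N23026
def N27154 : Q := sm gc N23029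
def N27155 : Q := sm gb N23031
def N27156 : Q := sm gf N23031
def N27157 : Q := sm gd N23038
def N27158 : Q := sm gg N23038
def N27159 : Q := sm gg N23047
def N27160 : Q := sm gf N23051
def N27161 : Q := sm gc N23058
def N27162 : Q := sm gd N23059
def N27163 : Q := sm gg N23059
def N27164 : Q := sm gb N23060
def N27165 : Q := sm ga N23061
def N27166 : Q := sm gc N23061
def N27167 : Q := sm gf N23061
def N27168 : Q := sm gc N23062
def N27169 : Q := sm gd N23063
def N27170 : Q := sm gf N23063
def N27171 : Q := sm gb N23064
def N27172 : Q := sm ga N23065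
def N27173 : Q := sm gc N23065
def N27174 : Q := sm gg N23065
def N27175 : Q := sm ga N23076
def N27176 : Q := sm gf N23076
def N27177 : Q := sm gg N23076
def N27178 : Q := sm gd N23077
def N27179 : Q := sm gg N23077
def N27180 : Q := sm gb N23078
def N27181 : Q := sm gc N23079
def N27182 : Q := sm ge N23079
def N27183 : Q := sm gg N23079
def N27184 : Q := sm gb N23080
def N27185 : Q := sm gf N23080
def N27186 : Q := sm ga N23082
def N27187 : Q := sm gc N23082
def N27188 : Q := sm gf N23082
def N27189 : Q := sm gg N23082
def N27190 : Q := sm gd N23083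
def N27191 : Q := sm gf N23083
def N27192 : Q := sm gb N23084
def N27193 : Q := sm gc N23085
def N27194 : Q := sm ge N23085
def N27195 : Q := sm gf N23085
def N27196 : Q := sm gb N23086
def N27197 : Q := sm gg N23086
def N27198 : Q := sm gd N23089
def N27199 : Q := sm gg N23089
def N27200 : Q := sm gd N23095
def N27201 : Q := sm gf N23095
def N27202 : Q := sm gc N23102
def N27203 : Q := sm gg N23103
def N27204 : Q := sm gf N23104
def N27205 : Q := sm gb N23105
def N27206 : Q := sm gf N23106
def N27207 : Q := sm gc N23108
def N27208 : Q := sm gg N23108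
def N27209 : Q := sm gb N23109
def N27210 : Q := sm gf N23109
def N27211 : Q := sm gb N23112
def N27212 : Q := sm gg N23112
def N27213 : Q := sm gb N23113
def N27214 : Q := sm gc N23114
def N27215 : Q := sm gf N23115
def N27216 : Q := sm gg N23116
def N27217 : Q := sm gb N23117
def N27218 : Q := sm gg N23118
def N27219 : Q := sm gc N23120
def N27220 : Q := sm gf N23120
def N27221 : Q := sm gb N23121
def N27222 : Q := sm gg N23121
def N27223 : Q := sm gb N23124
def N27224 : Q := sm gf N23124
def N27225 : Q := sm gb N23125
def N27226 : Q := sm gb N23128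
def N27227 : Q := sm ga N23129
def N27228 : Q := sm gc N23129
def N27229 : Q := sm gf N23129
def N27230 : Q := sm gc N23130
def N27231 : Q := sm gf N23130
def N27232 : Q := sm gf N23131
def N27233 : Q := sm gg N23132
def N27234 : Q := sm gc N23133
def N27235 : Q := sm gc N23134
def N27236 : Q := sm gb N23135
def N27237 : Q := sm gd N23135
def N27238 : Q := sm gg N23135
def N27239 : Q := sm gf N23137
def N27240 : Q := sm gb N23138
def N27241 : Q := sm gb N23143
def N27242 : Q := sm ga N23144
def N27243 : Q := sm gc N23144
def N27244 : Q := sm gg N23144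
def N27245 : Q := sm gc N23145
def N27246 : Q := sm gg N23145
def N27247 : Q := sm gg N23146
def N27248 : Q := sm gf N23147
def N27249 : Q := sm gc N23148
def N27250 : Q := sm gc N23149
def N27251 : Q := sm gb N23150
def N27252 : Q := sm gd N23150
def N27253 : Q := sm gf N23150
def N27254 : Q := sm gg N23152
def N27255 : Q := sm gb N23153
def N27256 : Q := sm gb N23156
def N27257 : Q := sm ga N23157
def N27258 : Q := sm gc N23157
def N27259 : Q := sm gf N23157
def N27260 : Q := sm gc N23158
def N27261 : Q := sm gd N23159
def N27262 : Q := sm gf N23159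
def N27263 : Q := sm ga N23162
def N27264 : Q := sm gc N23162
def N27265 : Q := sm gf N23162
def N27266 : Q := sm gg N23162
def N27267 : Q := sm ga N23163
def N27268 : Q := sm gc N23163
def N27269 : Q := sm gg N23163
def N27270 : Q := sm gc N23164
def N27271 : Q := sm gg N23164
def N27272 : Q := sm gd N23165
def N27273 : Q := sm gg N23165
def N27274 : Q := sm gf N23166
def N27275 : Q := sm gf N23167
def N27276 : Q := sm gg N23167
def N27277 : Q := sm gf N23169
def N27278 : Q := sm gc N23170
def N27279 : Q := sm ga N23171
def N27280 : Q := sm gf N23171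
def N27281 : Q := sm gb N23172
def N27282 : Q := sm ga N23173
def N27283 : Q := sm gc N23173
def N27284 : Q := sm gg N23173
def N27285 : Q := sm gc N23174
def N27286 : Q := sm gd N23175
def N27287 : Q := sm gg N23175
def N27288 : Q := sm ga N23178
def N27289 : Q := sm gc N23178
def N27290 : Q := sm gf N23178
def N27291 : Q := sm gg N23178
def N27292 : Q := sm ga N23179
def N27293 : Q := sm gc N23179
def N27294 : Q := sm gf N23179
def N27295 : Q := sm gc N23180
def N27296 : Q := sm gf N23180
def N27297 : Q := sm gd N23181
def N27298 : Q := sm gf N23181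
def N27299 : Q := sm gg N23182
def N27300 : Q := sm gf N23183
def N27301 : Q := sm gg N23183
def N27302 : Q := sm gg N23184
def N27303 : Q := sm gc N23186
def N27304 : Q := sm ga N23187
def N27305 : Q := sm gg N23187
def N27306 : Q := sm ge N23188
def N27307 : Q := sm gf N23188
def N27308 : Q := sm gg N23188
def N27309 : Q := sm gf N23192
def N27310 : Q := sm gg N23192
def N27311 : Q := sm ge N23195
def N27312 : Q := sm gg N23196
def N27313 : Q := sm gg N23197
def N27314 : Q := sm gb N23198
def N27315 : Q := sm gf N23198
def N27316 : Q := sm gc N23200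
def N27317 : Q := sm gf N23200
def N27318 : Q := sm gb N23201
def N27319 : Q := sm gd N23203
def N27320 : Q := sm gc N23205
def N27321 : Q := sm gg N23206
def N27322 : Q := sm gg N23207
def N27323 : Q := sm gb N23208
def N27324 : Q := sm gf N23208
def N27325 : Q := sm gb N23209
def N27326 : Q := sm ga N23210
def N27327 : Q := sm gc N23210
def N27328 : Q := sm gf N23210
def N27329 : Q := sm gb N23211
def N27330 : Q := sm gb N23212
def N27331 : Q := sm ga N23213
def N27332 : Q := sm gc N23213
def N27333 : Q := sm gf N23213
def N27334 : Q := sm gb N23214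
def N27335 : Q := sm gf N23214
def N27336 : Q := sm gd N23215
def N27337 : Q := sm gf N23215
def N27338 : Q := sm gg N23216
def N27339 : Q := sm gd N23218
def N27340 : Q := sm gf N23218
def N27341 : Q := sm gc N23220
def N27342 : Q := sm ge N23220
def N27343 : Q := sm gf N23220
def N27344 : Q := sm gb N23221
def N27345 : Q := sm ga N23222
def N27346 : Q := sm gc N23222
def N27347 : Q := sm gf N23222
def N27348 : Q := sm gb N23223
def N27349 : Q := sm gb N23224
def N27350 : Q := sm gc N23224
def N27351 : Q := sm gd N23225
def N27352 : Q := sm gf N23225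
def N27353 : Q := sm gb N23226
def N27354 : Q := sm ga N23227
def N27355 : Q := sm gc N23227
def N27356 : Q := sm gg N23227
def N27357 : Q := sm ga N23228
def N27358 : Q := sm gf N23228
def N27359 : Q := sm gd N23229
def N27360 : Q := sm gc N23230
def N27361 : Q := sm ge N23230
def N27362 : Q := sm gf N23230
def N27363 : Q := sm gb N23231
def N27364 : Q := sm ga N23232
def N27365 : Q := sm gc N23232
def N27366 : Q := sm gg N23232
def N27367 : Q := sm gb N23233
def N27368 : Q := sm gc N23233
def N27369 : Q := sm gg N23233
def N27370 : Q := sm gd N23234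
def N27371 : Q := sm gg N23234
def N27372 : Q := sm gf N23235
def N27373 : Q := sm gc N23236
def N27374 : Q := sm gb N23237
def N27375 : Q := sm gd N23237
def N27376 : Q := sm gf N23237
def N27377 : Q := sm gg N23237
def N27378 : Q := sm ga N23240
def N27379 : Q := sm gd N23240
def N27380 : Q := sm gg N23240
def N27381 : Q := sm gb N23243
def N27382 : Q := sm ga N23244
def N27383 : Q := sm gc N23244
def N27384 : Q := sm gc N23245
def N27385 : Q := sm gd N23246
def N27386 : Q := sm gb N23248
def N27387 : Q := sm gd N23248
def N27388 : Q := sm gc N23250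
def N27389 : Q := sm gg N23250
def N27390 : Q := sm gb N23251
def N27391 : Q := sm gb N23255
def N27392 : Q := sm gb N23257
def N27393 : Q := sm gd N23257
def N27394 : Q := sm gc N23258
def N27395 : Q := sm ge N23258
def N27396 : Q := sm gg N23258
def N27397 : Q := sm ge N23264
def N27398 : Q := sm gf N23264
def N27399 : Q := sm gg N23264
def N27400 : Q := sm gf N23268
def N27401 : Q := sm gg N23268
def N27402 : Q := sm ge N23271
def N27403 : Q := sm gf N23272
def N27404 : Q := sm gb N23273
def N27405 : Q := sm gg N23273
def N27406 : Q := sm gf N23274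
def N27407 : Q := sm gc N23275
def N27408 : Q := sm gg N23275
def N27409 : Q := sm gb N23276
def N27410 : Q := sm gd N23279
def N27411 : Q := sm gf N23281
def N27412 : Q := sm gb N23282
def N27413 : Q := sm gg N23282
def N27414 : Q := sm gf N23283
def N27415 : Q := sm ga N23284
def N27416 : Q := sm gc N23284
def N27417 : Q := sm gg N23284
def N27418 : Q := sm gb N23285
def N27419 : Q := sm gb N23286
def N27420 : Q := sm gb N23287
def N27421 : Q := sm ga N23288
def N27422 : Q := sm gc N23288
def N27423 : Q := sm gg N23288
def N27424 : Q := sm gb N23289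
def N27425 : Q := sm gg N23289
def N27426 : Q := sm gd N23290
def N27427 : Q := sm gg N23290
def N27428 : Q := sm gf N23291
def N27429 : Q := sm gd N23293
def N27430 : Q := sm gc N23294
def N27431 : Q := sm ge N23294
def N27432 : Q := sm gg N23294
def N27433 : Q := sm gb N23295
def N27434 : Q := sm ga N23296
def N27435 : Q := sm gc N23296
def N27436 : Q := sm gg N23296
def N27437 : Q := sm gb N23297
def N27438 : Q := sm gb N23298
def N27439 : Q := sm gc N23298
def N27440 : Q := sm gd N23299
def N27441 : Q := sm gg N23299
def N27442 : Q := sm gb N23300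
def N27443 : Q := sm ga N23301
def N27444 : Q := sm gc N23301
def N27445 : Q := sm gf N23301
def N27446 : Q := sm ga N23302
def N27447 : Q := sm gg N23302
def N27448 : Q := sm gd N23303
def N27449 : Q := sm gc N23304
def N27450 : Q := sm gg N23304
def N27451 : Q := sm gb N23305
def N27452 : Q := sm ga N23306
def N27453 : Q := sm gc N23306
def N27454 : Q := sm gf N23306
def N27455 : Q := sm gb N23307
def N27456 : Q := sm gc N23307
def N27457 : Q := sm gf N23307
def N27458 : Q := sm gd N23308
def N27459 : Q := sm gg N23309
def N27460 : Q := sm gc N23310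
def N27461 : Q := sm gb N23311
def N27462 : Q := sm gd N23311
def N27463 : Q := sm gf N23311
def N27464 : Q := sm gg N23311
def N27465 : Q := sm ga N23314
def N27466 : Q := sm gf N23314
def N27467 : Q := sm ga N23315
def N27468 : Q := sm gc N23315
def N27469 : Q := sm gd N23317
def N27470 : Q := sm gd N23319
def N27471 : Q := sm gc N23321
def N27472 : Q := sm gf N23321
def N27473 : Q := sm gb N23326
def N27474 : Q := sm gb N23328
def N27475 : Q := sm gd N23328
def N27476 : Q := sm gc N23329
def N27477 : Q := sm gf N23329
def N27478 : Q := sm gb N23335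
def N27479 : Q := sm gb N23338
def N27480 : Q := sm gb N23340
def N27481 : Q := sm gb N23342
def N27482 : Q := sm gb N23343
def N27483 : Q := sm ga N23344
def N27484 : Q := sm gf N23344
def N27485 : Q := sm gc N23346
def N27486 : Q := sm gd N23347
def N27487 : Q := sm gf N23347
def N27488 : Q := sm gb N23348
def N27489 : Q := sm gg N23348
def N27490 : Q := sm gc N23349
def N27491 : Q := sm gc N23350
def N27492 : Q := sm gf N23351
def N27493 : Q := sm gb N23352
def N27494 : Q := sm gf N23353
def N27495 : Q := sm gb N23354
def N27496 : Q := sm gg N23354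
def N27497 : Q := sm ga N23355
def N27498 : Q := sm gc N23355
def N27499 : Q := sm gg N23355
def N27500 : Q := sm gb N23356
def N27501 : Q := sm gc N23357
def N27502 : Q := sm gg N23357
def N27503 : Q := sm gd N23358
def N27504 : Q := sm gg N23358
def N27505 : Q := sm gf N23359
def N27506 : Q := sm ge N23360
def N27507 : Q := sm gf N23360
def N27508 : Q := sm gb N23361
def N27509 : Q := sm ga N23362
def N27510 : Q := sm gc N23362
def N27511 : Q := sm gg N23362
def N27512 : Q := sm ge N23363
def N27513 : Q := sm gf N23363
def N27514 : Q := sm gf N23364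
def N27515 : Q := sm gb N23365
def N27516 : Q := sm gg N23365
def N27517 : Q := sm ga N23366
def N27518 : Q := sm gg N23366
def N27519 : Q := sm gb N23367
def N27520 : Q := sm gf N23370
def N27521 : Q := sm gb N23371
def N27522 : Q := sm gb N23372
def N27523 : Q := sm gg N23373
def N27524 : Q := sm ge N23374
def N27525 : Q := sm gg N23374
def N27526 : Q := sm gf N23375
def N27527 : Q := sm ge N23377
def N27528 : Q := sm gf N23377
def N27529 : Q := sm gg N23377
def N27530 : Q := sm gd N23379
def N27531 : Q := sm gf N23379
def N27532 : Q := sm gg N23379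
def N27533 : Q := sm gc N23380
def N27534 : Q := sm ge N23380
def N27535 : Q := sm gf N23380
def N27536 : Q := sm gg N23380
def N27537 : Q := sm gb N23381
def N27538 : Q := sm gb N23382
def N27539 : Q := sm gd N23383
def N27540 : Q := sm ge N23383
def N27541 : Q := sm gf N23383
def N27542 : Q := sm gg N23383
def N27543 : Q := sm gg N23385
def N27544 : Q := sm gf N23386
def N27545 : Q := sm gb N23387
def N27546 : Q := sm gb N23389
def N27547 : Q := sm ge N23389
def N27548 : Q := sm gf N23389
def N27549 : Q := sm gg N23389
def N27550 : Q := sm gf N23390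
def N27551 : Q := sm gg N23390
def N27552 : Q := sm gg N23391
def N27553 : Q := sm gf N23392
def N27554 : Q := sm gb N23393
def N27555 : Q := sm gb N23396
def N27556 : Q := sm gb N23399
def N27557 : Q := sm gb N23401
def N27558 : Q := sm gb N23402
def N27559 : Q := sm ga N23404
def N27560 : Q := sm gg N23404
def N27561 : Q := sm gc N23405
def N27562 : Q := sm gd N23406
def N27563 : Q := sm gg N23406
def N27564 : Q := sm gb N23407
def N27565 : Q := sm gf N23407
def N27566 : Q := sm gc N23408
def N27567 : Q := sm gc N23409
def N27568 : Q := sm gg N23410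
def N27569 : Q := sm gb N23411
def N27570 : Q := sm gg N23412
def N27571 : Q := sm gb N23413
def N27572 : Q := sm gf N23413
def N27573 : Q := sm ga N23414
def N27574 : Q := sm gc N23414
def N27575 : Q := sm gf N23414
def N27576 : Q := sm gb N23415
def N27577 : Q := sm gc N23416
def N27578 : Q := sm gf N23416
def N27579 : Q := sm gd N23417
def N27580 : Q := sm gf N23417
def N27581 : Q := sm gg N23418
def N27582 : Q := sm ge N23419
def N27583 : Q := sm gg N23419
def N27584 : Q := sm gb N23420
def N27585 : Q := sm ga N23421
def N27586 : Q := sm gc N23421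
def N27587 : Q := sm gf N23421
def N27588 : Q := sm ge N23422
def N27589 : Q := sm gg N23422
def N27590 : Q := sm gg N23423
def N27591 : Q := sm gb N23424
def N27592 : Q := sm gf N23424
def N27593 : Q := sm ga N23425
def N27594 : Q := sm gf N23425
def N27595 : Q := sm gb N23426
def N27596 : Q := sm gg N23429
def N27597 : Q := sm gb N23430
def N27598 : Q := sm gb N23431
def N27599 : Q := sm gf N23432
def N27600 : Q := sm ge N23433
def N27601 : Q := sm gf N23433
def N27602 : Q := sm gg N23434
def N27603 : Q := sm ge N23436
def N27604 : Q := sm gf N23436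
def N27605 : Q := sm gg N23436
def N27606 : Q := sm gd N23438
def N27607 : Q := sm gf N23438
def N27608 : Q := sm gg N23438
def N27609 : Q := sm gc N23439
def N27610 : Q := sm ge N23439
def N27611 : Q := sm gf N23439
def N27612 : Q := sm gg N23439
def N27613 : Q := sm gb N23440
def N27614 : Q := sm gb N23441
def N27615 : Q := sm gd N23442
def N27616 : Q := sm ge N23442
def N27617 : Q := sm gf N23442
def N27618 : Q := sm gg N23442
def N27619 : Q := sm gg N23444
def N27620 : Q := sm gf N23445
def N27621 : Q := sm gb N23447
def N27622 : Q := sm gb N23448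
def N27623 : Q := sm ge N23448
def N27624 : Q := sm gf N23448
def N27625 : Q := sm gg N23448
def N27626 : Q := sm gf N23449
def N27627 : Q := sm gg N23449
def N27628 : Q := sm gg N23450
def N27629 : Q := sm gf N23451
def N27630 : Q := sm gb N23452
def N27631 : Q := sm gc N23453
def N27632 : Q := sm gb N23454
def N27633 : Q := sm gc N23455
def N27634 : Q := sm gf N23457
def N27635 : Q := sm gg N23457
def N27636 : Q := sm gb N23458
def N27637 : Q := sm gf N23458
def N27638 : Q := sm gg N23458
def N27639 : Q := sm ge N23459
def N27640 : Q := sm gf N23459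
def N27641 : Q := sm gg N23459
def N27642 : Q := sm gg N23460
def N27643 : Q := sm gf N23461
def N27644 : Q := sm gb N23463
def N27645 : Q := sm gf N23463
def N27646 : Q := sm gg N23463
def N27647 : Q := sm gg N23464
def N27648 : Q := sm gf N23465
def N27651 : Q := sm gd N23466
def N27654 : Q := sm gc N23467
def N27655 : Q := sm ge N23467
def N27656 : Q := sm gf N23467
def N27657 : Q := sm gg N23467
def N27658 : Q := sm gb N23468
def N27659 : Q := sm gb N23469
def N27660 : Q := sm gd N23470
def N27661 : Q := sm ge N23470
def N27662 : Q := sm gf N23470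
def N27663 : Q := sm gg N23470
def N27664 : Q := sm gf N23471
def N27665 : Q := sm gg N23471
def N27666 : Q := sm gg N23472
def N27667 : Q := sm gf N23473
def N27670 : Q := sm gb N23476
def N27671 : Q := sm gc N23477
def N27672 : Q := sm gb N23478
def N27673 : Q := sm gc N23479
def N27674 : Q := sm gf N23481
def N27675 : Q := sm gg N23481
def N27676 : Q := sm gb N23482
def N27677 : Q := sm gf N23482
def N27678 : Q := sm gg N23482
def N27679 : Q := sm ge N23483
def N27680 : Q := sm gf N23483
def N27681 : Q := sm gg N23483
def N27682 : Q := sm gg N23484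
def N27683 : Q := sm gf N23485
def N27684 : Q := sm gb N23487
def N27685 : Q := sm gf N23487
def N27686 : Q := sm gg N23487
def N27687 : Q := sm gg N23488
def N27688 : Q := sm gf N23489
def N27691 : Q := sm gd N23490
def N27694 : Q := sm gc N23491
def N27695 : Q := sm ge N23491
def N27697 : Q := sm gg N23491
def N27698 : Q := sm gb N23492
def N27699 : Q := sm gb N23493
def N27700 : Q := sm gd N23494
def N27701 : Q := sm ge N23494
def N27702 : Q := sm gf N23494
def N27703 : Q := sm gg N23494
def N27704 : Q := sm gf N23495
def N27705 : Q := sm gg N23495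
def N27706 : Q := sm gg N23496
def N27709 : Q := sm gb N23499
def N27710 : Q := sm gc N23502
def N27711 : Q := sm gb N23506
def N27712 : Q := sm gb N23511
def N27713 : Q := sm gg N23512
def N27714 : Q := sm gc N23517
def N27715 : Q := sm gb N23519
def N27716 : Q := sm gb N23524
def N27717 : Q := sm gf N23525
def N27718 : Q := sm gb N23537
def N27719 : Q := sm gf N23537
def N27720 : Q := sm ga N23540
def N27721 : Q := sm ga N23545
def N27722 : Q := sm gc N23545
def N27723 : Q := sm gf N23545
def N27724 : Q := sm ga N23558
def N27725 : Q := sm gc N23566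
def N27726 : Q := sm gg N23567
def N27727 : Q := sm gc N23569
def N27728 : Q := sm gg N23570
def N27729 : Q := sm gf N23572
def N27730 : Q := sm gf N23576
def N27731 : Q := sm gb N23577
def N27732 : Q := sm ga N23584
def N27733 : Q := sm gg N23584
def N27734 : Q := sm ga N23586
def N27735 : Q := sm gf N23587
def N27736 : Q := sm gb N23597
def N27737 : Q := sm gg N23597
def N27738 : Q := sm ga N23604
def N27739 : Q := sm ga N23605
def N27740 : Q := sm gc N23605
def N27741 : Q := sm gg N23605
def N27742 : Q := sm ga N23617
def N27743 : Q := sm gc N23621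
def N27744 : Q := sm gf N23622
def N27745 : Q := sm gc N23624
def N27746 : Q := sm gg N23629
def N27747 : Q := sm gb N23631
def N27748 : Q := sm ga N23632
def N27749 : Q := sm gg N23633
def N27750 : Q := sm gb N23637
def N27751 : Q := sm gc N23638
def N27752 : Q := sm gf N23638
def N27753 : Q := sm ga N23639
def N27754 : Q := sm gc N23639
def N27755 : Q := sm gg N23639
def N27756 : Q := sm gc N23648
def N27757 : Q := sm gg N23649
def N27758 : Q := sm gd N23651
def N27759 : Q := sm ge N23653
def N27760 : Q := sm ga N23655
def N27761 : Q := sm ge N23659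
def N27762 : Q := sm gf N23663
def N27763 : Q := sm ge N23667
def N27764 : Q := sm gg N23672
def N27765 : Q := sm gf N23674
def N27766 : Q := sm gc N23679
def N27767 : Q := sm gf N23679
def N27768 : Q := sm ga N23680
def N27769 : Q := sm gc N23680
def N27770 : Q := sm gf N23680
def N27771 : Q := sm ga N23682
def N27772 : Q := sm gg N23682
def N27773 : Q := sm gg N23683
def N27774 : Q := sm gb N23684
def N27775 : Q := sm gb N23688
def N27776 : Q := sm ga N23690
def N27777 : Q := sm gc N23690
def N27778 : Q := sm gf N23690
def N27779 : Q := sm gc N23691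
def N27780 : Q := sm gg N23691
def N27781 : Q := sm gc N23700
def N27782 : Q := sm gf N23701
def N27783 : Q := sm gd N23703
def N27784 : Q := sm ge N23705
def N27785 : Q := sm ga N23707
def N27786 : Q := sm ge N23711
def N27787 : Q := sm gg N23715
def N27788 : Q := sm ge N23719
def N27789 : Q := sm gf N23724
def N27790 : Q := sm gg N23726
def N27791 : Q := sm gc N23730
def N27792 : Q := sm gg N23730
def N27793 : Q := sm ga N23733
def N27794 : Q := sm gc N23733
def N27795 : Q := sm gg N23733
def N27796 : Q := sm ga N23734
def N27797 : Q := sm gf N23734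
def N27798 : Q := sm gf N23735
def N27799 : Q := sm gb N23736
def N27800 : Q := sm gc N23750
def N27801 : Q := sm ge N23750
def N27802 : Q := sm ge N23752
def N27803 : Q := sm gg N23753
def N27804 : Q := sm gd N23756
def N27805 : Q := sm ge N23758
def N27806 : Q := sm gb N23762
def N27807 : Q := sm gb N23766
def N27808 : Q := sm ga N23767
def N27809 : Q := sm gc N23774
def N27810 : Q := sm ge N23774
def N27811 : Q := sm ge N23776
def N27812 : Q := sm gf N23777
def N27813 : Q := sm gd N23780
def N27814 : Q := sm ge N23782
def N27815 : Q := sm gb N23787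
def N27816 : Q := sm gb N23790
def N27817 : Q := sm ga N23791
def N27818 : Q := sm gb N23803
def N27819 : Q := sm gb N23816
def N27820 : Q := sm gd N23816
def N27821 : Q := sm gg N23821
def N27822 : Q := sm gb N23822
def N27823 : Q := sm gb N23830
def N27824 : Q := sm gb N23838
def N27825 : Q := sm gd N23838
def N27826 : Q := sm gf N23842
def N27827 : Q := sm gb N23843
def N27828 : Q := sm gc N23844
def N27829 : Q := sm gf N23844
def N27830 : Q := sm gd N23845
def N27831 : Q := sm gf N23845
def N27832 : Q := sm gc N23847
def N27833 : Q := sm gg N23847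
def N27834 : Q := sm gd N23848
def N27835 : Q := sm gg N23848
def N27836 : Q := sm gf N23854
def N27837 : Q := sm gf N23856
def N27838 : Q := sm gg N23858
def N27839 : Q := sm gg N23860
def N27840 : Q := sm gd N23862
def N27841 : Q := sm gd N23863
def N27842 : Q := sm gc N23864
def N27843 : Q := sm gg N23864
def N27844 : Q := sm gc N23866
def N27845 : Q := sm gf N23866
def N27846 : Q := sm gf N23868
def N27847 : Q := sm gc N23869
def N27848 : Q := sm gd N23870
def N27849 : Q := sm gf N23870
def N27850 : Q := sm gg N23872
def N27851 : Q := sm gc N23873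
def N27852 : Q := sm gd N23874
def N27853 : Q := sm gg N23874
def N27854 : Q := sm gf N23877
def N27855 : Q := sm gf N23880
def N27856 : Q := sm gf N23882
def N27857 : Q := sm gg N23883
def N27858 : Q := sm gg N23886
def N27859 : Q := sm gg N23889
def N27860 : Q := sm gg N23891
def N27861 : Q := sm gf N23892
def N27862 : Q := sm gb N23894
def N27863 : Q := sm gb N23896
def N27864 : Q := sm gc N23899
def N27865 : Q := sm gd N23900
def N27866 : Q := sm gf N23900
def N27867 : Q := sm gg N23902
def N27868 : Q := sm gf N23903
def N27869 : Q := sm gc N23904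
def N27870 : Q := sm gd N23906
def N27871 : Q := sm gg N23906
def N27872 : Q := sm gf N23908
def N27873 : Q := sm gg N23909
def N27874 : Q := sm gc N23914
def N27875 : Q := sm gc N23915
def N27876 : Q := sm gd N23917
def N27877 : Q := sm gd N23919
def N27878 : Q := sm gb N23944
def N27879 : Q := sm gb N23947
def N27880 : Q := sm gb N23968
def N27881 : Q := sm gb N23969
def N27882 : Q := sm gc N23970
def N27883 : Q := sm gg N23970
def N27884 : Q := sm gb N23972
def N27885 : Q := sm ge N23972
def N27886 : Q := sm ge N23974
def N27887 : Q := sm gg N23974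
def N27888 : Q := sm gd N23975
def N27889 : Q := sm gg N23975
def N27890 : Q := sm gb N23976
def N27891 : Q := sm gb N23977
def N27892 : Q := sm ga N23978
def N27893 : Q := sm gc N23978
def N27894 : Q := sm gf N23978
def N27895 : Q := sm gc N23979
def N27896 : Q := sm gd N23983
def N27897 : Q := sm gf N23984
def N27898 : Q := sm gb N23985
def N27899 : Q := sm gc N23986
def N27900 : Q := sm gb N23987
def N27901 : Q := sm gd N23987
def N27902 : Q := sm gg N23987
def N27903 : Q := sm ga N23989
def N27904 : Q := sm gd N23989
def N27905 : Q := sm gf N23989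
def N27906 : Q := sm gf N23990
def N27907 : Q := sm gb N23991
def N27908 : Q := sm gg N23992
def N27909 : Q := sm gb N23993
def N27910 : Q := sm gc N23995
def N27911 : Q := sm gf N23995
def N27912 : Q := sm gb N23997
def N27913 : Q := sm ge N23997
def N27914 : Q := sm ge N23999
def N27915 : Q := sm gf N23999
def N27916 : Q := sm gd N24000
def N27917 : Q := sm gf N24000
def N27918 : Q := sm gb N24001
def N27919 : Q := sm gb N24002
def N27920 : Q := sm ga N24003
def N27921 : Q := sm gc N24003
def N27922 : Q := sm gg N24003
def N27923 : Q := sm gc N24004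
def N27924 : Q := sm gd N24008
def N27925 : Q := sm gg N24009
def N27926 : Q := sm gb N24010
def N27927 : Q := sm gc N24011
def N27928 : Q := sm gb N24012
def N27929 : Q := sm gd N24012
def N27930 : Q := sm gf N24012
def N27931 : Q := sm ga N24014
def N27932 : Q := sm gd N24014
def N27933 : Q := sm gg N24014
def N27934 : Q := sm gg N24015
def N27935 : Q := sm gb N24016
def N27936 : Q := sm gf N24017
def N27937 : Q := sm gb N24018
def N27938 : Q := sm gd N24021
def N27939 : Q := sm gc N24023
def N27940 : Q := sm gd N24024
def N27941 : Q := sm gb N24027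
def N27942 : Q := sm gd N24029
def N27943 : Q := sm gc N24031
def N27944 : Q := sm gd N24032
def N27945 : Q := sm gb N24035
def N27946 : Q := sm ga N24036
def N27947 : Q := sm gf N24036
def N27948 : Q := sm gd N24039
def N27949 : Q := sm gg N24039
def N27950 : Q := sm gb N24040
def N27951 : Q := sm ga N24042
def N27952 : Q := sm gc N24042
def N27953 : Q := sm gf N24042
def N27954 : Q := sm gc N24043
def N27955 : Q := sm gf N24043
def N27956 : Q := sm gd N24044
def N27957 : Q := sm gg N24045

end Cfsg.Agent.Helper28.SzbA
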