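import Cfsg.Agent.Helper28.SzbB3

/-! # The Suzuki group presentation, cosets of the subgroup generated by a, b, c, d, f, g: the coset enumeration, part 4 (helper28; generated) -/

set_option autoImplicit false

noncomputable section

namespace Cfsg.Agent.Helper28.SzbA

open Cfsg.Agent.Helper28.CosetTable

def N27958 : Q := sm ge N24047
def N27959 : Q := sm gf N24047
def N27960 : Q := sm gc N24049
def N27961 : Q := sm gg N24049
def N27962 : Q := sm gb N24050
def N27963 : Q := sm gf N24050
def N27964 : Q := sm ga N24051
def N27965 : Q := sm gf N24051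
def N27966 : Q := sm gb N24052
def N27967 : Q := sm gb N24053
def N27968 : Q := sm ga N24054
def N27969 : Q := sm gc N24054
def N27970 : Q := sm gg N24054
def N27971 : Q := sm gc N24055
def N27972 : Q := sm gg N24055
def N27973 : Q := sm gd N24056
def N27974 : Q := sm gg N24056
def N27975 : Q := sm gf N24057
def N27976 : Q := sm gb N24058
def N27977 : Q := sm gd N24058
def N27978 : Q := sm gg N24058
def N27979 : Q := sm ga N24060
def N27980 : Q := sm gd N24060
def N27981 : Q := sm gf N24060
def N27982 : Q := sm gg N24060
def N27983 : Q := sm gc N24061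
def N27984 : Q := sm ge N24061
def N27985 : Q := sm gb N24062
def N27986 : Q := sm ge N24062
def N27987 : Q := sm gf N24063
def N27988 : Q := sm gb N24064
def N27989 : Q := sm gb N24066
def N27990 : Q := sm gd N24066
def N27991 : Q := sm gc N24067
def N27992 : Q := sm gg N24067
def N27993 : Q := sm gf N24069
def N27994 : Q := sm ge N24070
def N27995 : Q := sm gf N24070
def N27996 : Q := sm gg N24070
def N27997 : Q := sm gg N24075
def N27998 : Q := sm gf N24076
def N27999 : Q := sm ge N24077
def N28000 : Q := sm gf N24077
def N28001 : Q := sm gf N24078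
def N28002 : Q := sm gb N24079
def N28003 : Q := sm ga N24081
def N28004 : Q := sm ge N24081
def N28005 : Q := sm gf N24081
def N28006 : Q := sm gg N24081
def N28007 : Q := sm gd N24082
def N28008 : Q := sm gf N24082
def N28009 : Q := sm gb N24083
def N28010 : Q := sm gg N24083
def N28011 : Q := sm gg N24084
def N28012 : Q := sm gb N24085
def N28013 : Q := sm ga N24086
def N28014 : Q := sm gc N24086
def N28015 : Q := sm gf N24086
def N28016 : Q := sm gd N24087
def N28017 : Q := sm gf N24087
def N28018 : Q := sm ga N24089
def N28019 : Q := sm gg N24089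
def N28020 : Q := sm gd N24091
def N28021 : Q := sm gf N24091
def N28022 : Q := sm gb N24092
def N28023 : Q := sm ga N24094
def N28024 : Q := sm gc N24094
def N28025 : Q := sm gg N24094
def N28026 : Q := sm gc N24095
def N28027 : Q := sm gg N24095
def N28028 : Q := sm gd N24096
def N28029 : Q := sm gf N24097
def N28030 : Q := sm ge N24098
def N28031 : Q := sm gg N24098
def N28032 : Q := sm gc N24100
def N28033 : Q := sm gf N24100
def N28034 : Q := sm gb N24101
def N28035 : Q := sm gg N24101
def N28036 : Q := sm ga N24102
def N28037 : Q := sm gg N24102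
def N28038 : Q := sm gb N24103
def N28039 : Q := sm gb N24104
def N28040 : Q := sm ga N24105
def N28041 : Q := sm gc N24105
def N28042 : Q := sm gf N24105
def N28043 : Q := sm gc N24106
def N28044 : Q := sm gf N24106
def N28045 : Q := sm gd N24107
def N28046 : Q := sm gg N24108
def N28047 : Q := sm gb N24109
def N28048 : Q := sm gd N24109
def N28049 : Q := sm gf N24109
def N28050 : Q := sm ga N24111
def N28051 : Q := sm gd N24111
def N28052 : Q := sm gf N24111
def N28053 : Q := sm gg N24111
def N28054 : Q := sm gc N24112
def N28055 : Q := sm ge N24112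
def N28056 : Q := sm gb N24113
def N28057 : Q := sm ge N24113
def N28058 : Q := sm gg N24114
def N28059 : Q := sm gb N24115
def N28060 : Q := sm gd N24117
def N28061 : Q := sm gc N24118
def N28062 : Q := sm gf N24118
def N28063 : Q := sm gg N24120
def N28064 : Q := sm ge N24121
def N28065 : Q := sm gf N24121
def N28066 : Q := sm gg N24121
def N28067 : Q := sm gg N24126
def N28068 : Q := sm gf N24127
def N28069 : Q := sm ge N24128
def N28070 : Q := sm gg N24128
def N28071 : Q := sm gg N24129
def N28072 : Q := sm gb N24130
def N28073 : Q := sm ga N24132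
def N28074 : Q := sm ge N24132
def N28075 : Q := sm gf N24132
def N28076 : Q := sm gg N24132
def N28077 : Q := sm gd N24133
def N28078 : Q := sm gg N24133
def N28079 : Q := sm gb N24134
def N28080 : Q := sm gf N24134
def N28081 : Q := sm gf N24135
def N28082 : Q := sm gb N24136
def N28083 : Q := sm ga N24137
def N28084 : Q := sm gc N24137
def N28085 : Q := sm gg N24137
def N28086 : Q := sm gd N24138
def N28087 : Q := sm gg N24138
def N28088 : Q := sm gf N24140
def N28089 : Q := sm gc N24141
def N28090 : Q := sm ge N24141
def N28091 : Q := sm gf N24141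
def N28092 : Q := sm gg N24141
def N28093 : Q := sm gb N24142
def N28094 : Q := sm gd N24144
def N28095 : Q := sm ge N24144
def N28096 : Q := sm gf N24144
def N28097 : Q := sm gg N24144
def N28098 : Q := sm gg N24145
def N28099 : Q := sm gf N24147
def N28100 : Q := sm gb N24148
def N28101 : Q := sm ge N24149
def N28102 : Q := sm gf N24149
def N28103 : Q := sm gg N24149
def N28104 : Q := sm gf N24150
def N28105 : Q := sm gg N24150
def N28106 : Q := sm gg N24151
def N28107 : Q := sm gf N24152
def N28108 : Q := sm gg N24153
def N28109 : Q := sm gc N24154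
def N28110 : Q := sm gg N24154
def N28111 : Q := sm gb N24156
def N28112 : Q := sm gd N24157
def N28113 : Q := sm ge N24157
def N28114 : Q := sm gf N24157
def N28115 : Q := sm gg N24157
def N28116 : Q := sm gb N24161
def N28117 : Q := sm ge N24162
def N28118 : Q := sm gf N24162
def N28119 : Q := sm gg N24162
def N28120 : Q := sm gf N24163
def N28121 : Q := sm gg N24163
def N28122 : Q := sm gg N24164
def N28123 : Q := sm gf N24165
def N28124 : Q := sm gb N24166
def N28125 : Q := sm gf N24166
def N28126 : Q := sm gg N24166
def N28127 : Q := sm gg N24167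
def N28128 : Q := sm gf N24168
def N28129 : Q := sm gc N24170
def N28130 : Q := sm ge N24170
def N28131 : Q := sm gf N24170
def N28132 : Q := sm gg N24170
def N28133 : Q := sm gb N24171
def N28135 : Q := sm gd N24173
def N28136 : Q := sm ge N24173
def N28137 : Q := sm gf N24173
def N28138 : Q := sm gg N24173
def N28139 : Q := sm gf N24174
def N28140 : Q := sm gg N24174
def N28141 : Q := sm gg N24175
def N28142 : Q := sm gf N24176
def N28145 : Q := sm gb N24179
def N28146 : Q := sm gf N24179
def N28147 : Q := sm gg N24179
def N28148 : Q := sm gg N24180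
def N28149 : Q := sm gf N24181
def N28150 : Q := sm gc N24183
def N28151 : Q := sm ge N24183
def N28152 : Q := sm gf N24183
def N28156 : Q := sm gd N24186
def N28157 : Q := sm ge N24186
def N28158 : Q := sm gf N24186
def N28159 : Q := sm gg N24186
def N28160 : Q := sm gf N24187
def N28161 : Q := sm gg N24187
def N28162 : Q := sm gg N24188
def N28165 : Q := sm gb N24191
def N28166 : Q := sm gb N24193
def N28167 : Q := sm gb N24196
def N28168 : Q := sm gf N24198
def N28169 : Q := sm gf N24206
def N28170 : Q := sm gb N24209
def N28171 : Q := sm ge N24210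
def N28172 : Q := sm gb N24211
def N28173 : Q := sm gg N24211
def N28174 : Q := sm ga N24215
def N28175 : Q := sm gg N24215
def N28176 : Q := sm gb N24220
def N28177 : Q := sm ga N24221
def N28178 : Q := sm gg N24222
def N28179 : Q := sm gg N24228
def N28180 : Q := sm gb N24230
def N28181 : Q := sm ge N24231
def N28182 : Q := sm gb N24232
def N28183 : Q := sm gf N24232
def N28184 : Q := sm ga N24236
def N28185 : Q := sm gf N24236
def N28186 : Q := sm gb N24240
def N28187 : Q := sm ga N24241
def N28188 : Q := sm ga N24243
def N28189 : Q := sm gg N24243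
def N28190 : Q := sm ga N24247
def N28191 : Q := sm gf N24247
def N28192 : Q := sm ge N24253
def N28193 : Q := sm gg N24256
def N28194 : Q := sm ge N24257
def N28195 : Q := sm gd N24258
def N28196 : Q := sm gc N24259
def N28197 : Q := sm ge N24259
def N28198 : Q := sm gg N24259
def N28199 : Q := sm gf N24261
def N28200 : Q := sm gf N24262
def N28201 : Q := sm gd N24265
def N28202 : Q := sm gf N24265
def N28203 : Q := sm gb N24267
def N28204 : Q := sm ge N24272
def N28205 : Q := sm gf N24275
def N28206 : Q := sm ge N24276
def N28207 : Q := sm gd N24277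
def N28208 : Q := sm gc N24278
def N28209 : Q := sm ge N24278
def N28210 : Q := sm gf N24278
def N28211 : Q := sm gg N24279
def N28212 : Q := sm gg N24281
def N28213 : Q := sm gd N24284
def N28214 : Q := sm gg N24284
def N28215 : Q := sm gb N24286
def N28216 : Q := sm gc N24290
def N28217 : Q := sm gf N24295
def N28218 : Q := sm gd N24297
def N28219 : Q := sm gg N24297
def N28220 : Q := sm gb N24298
def N28221 : Q := sm gg N24301
def N28222 : Q := sm gb N24306
def N28223 : Q := sm ge N24312
def N28224 : Q := sm ge N24314
def N28225 : Q := sm gd N24315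
def N28226 : Q := sm gf N24315
def N28227 : Q := sm ga N24318
def N28228 : Q := sm ge N24319
def N28229 : Q := sm gg N24321
def N28230 : Q := sm gd N24323
def N28231 : Q := sm ge N24327
def N28232 : Q := sm gd N24332
def N28233 : Q := sm ge N24334
def N28234 : Q := sm ge N24335
def N28235 : Q := sm gd N24336
def N28236 : Q := sm gg N24336
def N28237 : Q := sm gd N24338
def N28238 : Q := sm gc N24339
def N28239 : Q := sm gf N24342
def N28240 : Q := sm gc N24347
def N28241 : Q := sm gg N24352
def N28242 : Q := sm gd N24354
def N28243 : Q := sm gf N24354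
def N28244 : Q := sm gb N24355
def N28245 : Q := sm gb N24364
def N28246 : Q := sm ge N24367
def N28247 : Q := sm ge N24369
def N28248 : Q := sm gd N24370
def N28249 : Q := sm gg N24370
def N28250 : Q := sm ge N24373
def N28251 : Q := sm gf N24375
def N28252 : Q := sm gd N24377
def N28253 : Q := sm ge N24381
def N28254 : Q := sm gd N24384
def N28255 : Q := sm ge N24386
def N28256 : Q := sm ge N24387
def N28257 : Q := sm gd N24388
def N28258 : Q := sm gf N24388
def N28259 : Q := sm gd N24390
def N28260 : Q := sm gc N24391
def N28261 : Q := sm gg N24394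
def N28262 : Q := sm gf N24397
def N28263 : Q := sm gg N24400
def N28264 : Q := sm gc N24401
def N28265 : Q := sm ge N24401
def N28266 : Q := sm gf N24402
def N28267 : Q := sm gc N24410
def N28268 : Q := sm ge N24410
def N28269 : Q := sm gg N24411
def N28270 : Q := sm gg N24419
def N28271 : Q := sm gb N24420
def N28272 : Q := sm gf N24423
def N28273 : Q := sm ge N24425
def N28274 : Q := sm ge N24428
def N28275 : Q := sm gf N24429
def N28276 : Q := sm ge N24431
def N28277 : Q := sm gg N24432
def N28278 : Q := sm gg N24434
def N28279 : Q := sm gf N24437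
def N28280 : Q := sm gf N24440
def N28281 : Q := sm gb N24441
def N28282 : Q := sm gg N24444
def N28283 : Q := sm ge N24446
def N28284 : Q := sm ge N24449
def N28285 : Q := sm gg N24450
def N28286 : Q := sm ge N24452
def N28287 : Q := sm gf N24453
def N28288 : Q := sm gf N24456
def N28289 : Q := sm gg N24458
def N28290 : Q := sm ge N24459
def N28291 : Q := sm gg N24459
def N28292 : Q := sm ge N24461
def N28293 : Q := sm gf N24461
def N28294 : Q := sm ge N24463
def N28295 : Q := sm gg N24463
def N28296 : Q := sm gb N24464
def N28297 : Q := sm gc N24465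
def N28298 : Q := sm gd N24466
def N28299 : Q := sm ge N24467
def N28300 : Q := sm gf N24467
def N28301 : Q := sm gb N24468
def N28302 : Q := sm gc N24469
def N28303 : Q := sm gd N24470
def N28304 : Q := sm gd N24473
def N28305 : Q := sm ga N24474
def N28306 : Q := sm gc N24474
def N28307 : Q := sm gd N24475
def N28308 : Q := sm ga N24476
def N28309 : Q := sm gc N24476
def N28310 : Q := sm gd N24477
def N28311 : Q := sm gg N24477
def N28312 : Q := sm gc N24479
def N28313 : Q := sm ge N24479
def N28314 : Q := sm gg N24479
def N28315 : Q := sm gb N24480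
def N28316 : Q := sm gd N24481
def N28317 : Q := sm gf N24481
def N28318 : Q := sm gc N24483
def N28319 : Q := sm ge N24483
def N28320 : Q := sm gf N24483
def N28321 : Q := sm gb N24484
def N28322 : Q := sm ge N24485
def N28323 : Q := sm gg N24485
def N28324 : Q := sm gg N24487
def N28325 : Q := sm gb N24488
def N28326 : Q := sm gf N24488
def N28327 : Q := sm ga N24489
def N28328 : Q := sm gf N24489
def N28329 : Q := sm gb N24490
def N28330 : Q := sm ge N24491
def N28331 : Q := sm gf N24491
def N28332 : Q := sm gf N24493
def N28333 : Q := sm gb N24494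
def N28334 : Q := sm gg N24494
def N28335 : Q := sm ga N24495
def N28336 : Q := sm gg N24495
def N28337 : Q := sm gb N24496
def N28338 : Q := sm gd N24497
def N28339 : Q := sm gf N24497
def N28340 : Q := sm gg N24497
def N28341 : Q := sm ge N24498
def N28342 : Q := sm gd N24499
def N28343 : Q := sm gf N24499
def N28344 : Q := sm gg N24499
def N28345 : Q := sm ge N24500
def N28346 : Q := sm ga N24502
def N28347 : Q := sm gc N24502
def N28348 : Q := sm gb N24503
def N28349 : Q := sm gd N24503
def N28350 : Q := sm gc N24504
def N28351 : Q := sm ge N24504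
def N28352 : Q := sm ga N24506
def N28353 : Q := sm gc N24506
def N28354 : Q := sm gb N24507
def N28355 : Q := sm gd N24507
def N28356 : Q := sm gc N24508
def N28357 : Q := sm ge N24508
def N28358 : Q := sm gc N24509
def N28359 : Q := sm gf N24509
def N28360 : Q := sm gg N24509
def N28361 : Q := sm gg N24510
def N28362 : Q := sm gb N24511
def N28363 : Q := sm gf N24511
def N28364 : Q := sm gc N24516
def N28365 : Q := sm gb N24517
def N28366 : Q := sm gd N24517
def N28367 : Q := sm gc N24518
def N28368 : Q := sm ge N24518
def N28369 : Q := sm gf N24518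
def N28370 : Q := sm gb N24519
def N28371 : Q := sm gb N24520
def N28372 : Q := sm gd N24520
def N28373 : Q := sm ga N24521
def N28374 : Q := sm gd N24521
def N28375 : Q := sm gf N24521
def N28376 : Q := sm gg N24521
def N28377 : Q := sm ge N24522
def N28378 : Q := sm gf N24522
def N28379 : Q := sm gb N24523
def N28380 : Q := sm gf N24524
def N28381 : Q := sm gf N24525
def N28382 : Q := sm gb N24526
def N28383 : Q := sm gg N24526
def N28384 : Q := sm ga N24527
def N28385 : Q := sm gg N24527
def N28386 : Q := sm gb N24528
def N28387 : Q := sm gc N24529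
def N28388 : Q := sm gf N24529
def N28389 : Q := sm gg N24529
def N28390 : Q := sm gb N24530
def N28391 : Q := sm gg N24530
def N28392 : Q := sm gf N24531
def N28393 : Q := sm gc N24536
def N28394 : Q := sm gb N24537
def N28395 : Q := sm gd N24537
def N28396 : Q := sm gc N24538
def N28397 : Q := sm ge N24538
def N28398 : Q := sm gg N24538
def N28399 : Q := sm gb N24539
def N28400 : Q := sm gb N24540
def N28401 : Q := sm gd N24540
def N28402 : Q := sm ga N24541
def N28403 : Q := sm gd N24541
def N28404 : Q := sm gf N24541
def N28405 : Q := sm gg N24541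
def N28406 : Q := sm ge N24542
def N28407 : Q := sm gg N24542
def N28408 : Q := sm gb N24543
def N28409 : Q := sm gg N24544
def N28410 : Q := sm gg N24545
def N28411 : Q := sm gb N24546
def N28412 : Q := sm gf N24546
def N28413 : Q := sm ga N24547
def N28414 : Q := sm gf N24547
def N28415 : Q := sm gb N24548
def N28416 : Q := sm gc N24549
def N28417 : Q := sm gg N24550
def N28418 : Q := sm gb N24551
def N28419 : Q := sm gb N24552
def N28420 : Q := sm gd N24552
def N28421 : Q := sm gg N24552
def N28422 : Q := sm gg N24553
def N28423 : Q := sm gg N24554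
def N28424 : Q := sm gb N24555
def N28425 : Q := sm gf N24555
def N28426 : Q := sm gg N24559
def N28427 : Q := sm gb N24561
def N28428 : Q := sm gg N24561
def N28429 : Q := sm gg N24562
def N28430 : Q := sm gg N24563
def N28431 : Q := sm ge N24566
def N28432 : Q := sm gg N24568
def N28433 : Q := sm gg N24569
def N28434 : Q := sm gg N24570
def N28435 : Q := sm gb N24571
def N28436 : Q := sm gf N24571
def N28437 : Q := sm gb N24572
def N28438 : Q := sm gg N24573
def N28439 : Q := sm gb N24574
def N28440 : Q := sm ga N24575
def N28441 : Q := sm gc N24575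
def N28442 : Q := sm gf N24575
def N28443 : Q := sm ga N24576
def N28444 : Q := sm gc N24576
def N28445 : Q := sm gb N24577
def N28446 : Q := sm gc N24577
def N28447 : Q := sm gf N24577
def N28448 : Q := sm gf N24578
def N28449 : Q := sm gg N24579
def N28450 : Q := sm gb N24582
def N28451 : Q := sm gg N24583
def N28452 : Q := sm gd N24585
def N28453 : Q := sm gf N24586
def N28454 : Q := sm gc N24587
def N28455 : Q := sm gd N24588
def N28456 : Q := sm gf N24588
def N28457 : Q := sm gb N24589
def N28458 : Q := sm gd N24591
def N28459 : Q := sm gc N24592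
def N28460 : Q := sm ge N24592
def N28461 : Q := sm gb N24593
def N28462 : Q := sm gg N24593
def N28463 : Q := sm gb N24594
def N28464 : Q := sm gf N24596
def N28465 : Q := sm gg N24598
def N28466 : Q := sm gf N24599
def N28467 : Q := sm gg N24600
def N28468 : Q := sm gb N24602
def N28469 : Q := sm gf N24603
def N28470 : Q := sm gc N24604
def N28471 : Q := sm gf N24605
def N28472 : Q := sm gb N24606
def N28473 : Q := sm gb N24607
def N28474 : Q := sm gd N24607
def N28475 : Q := sm gf N24607
def N28476 : Q := sm gf N24608
def N28477 : Q := sm gb N24609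
def N28478 : Q := sm gg N24609
def N28479 : Q := sm gf N24610
def N28480 : Q := sm gf N24614
def N28481 : Q := sm gb N24616
def N28482 : Q := sm gf N24616
def N28483 : Q := sm gf N24617
def N28484 : Q := sm gf N24619
def N28485 : Q := sm ge N24621
def N28486 : Q := sm gf N24623
def N28487 : Q := sm gf N24624
def N28488 : Q := sm gf N24625
def N28489 : Q := sm gb N24626
def N28490 : Q := sm gg N24626
def N28491 : Q := sm gb N24627
def N28492 : Q := sm gf N24628
def N28493 : Q := sm gb N24629
def N28494 : Q := sm ga N24630
def N28495 : Q := sm gc N24630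
def N28496 : Q := sm gg N24630
def N28497 : Q := sm ga N24631
def N28498 : Q := sm gc N24631
def N28499 : Q := sm gb N24632
def N28500 : Q := sm gc N24632
def N28501 : Q := sm gg N24632
def N28502 : Q := sm gg N24633
def N28503 : Q := sm gf N24634
def N28504 : Q := sm gb N24637
def N28505 : Q := sm gf N24638
def N28506 : Q := sm gd N24640
def N28507 : Q := sm gg N24641
def N28508 : Q := sm gc N24642
def N28509 : Q := sm gd N24643
def N28510 : Q := sm gg N24643
def N28511 : Q := sm gb N24644
def N28512 : Q := sm gc N24647
def N28513 : Q := sm gb N24648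
def N28514 : Q := sm gf N24648
def N28515 : Q := sm gb N24650
def N28516 : Q := sm gg N24651
def N28517 : Q := sm gf N24653
def N28518 : Q := sm gg N24654
def N28519 : Q := sm gf N24655
def N28520 : Q := sm gb N24657
def N28521 : Q := sm gg N24658
def N28522 : Q := sm gc N24660
def N28523 : Q := sm gd N24661
def N28524 : Q := sm ge N24663
def N28525 : Q := sm gb N24664
def N28526 : Q := sm gg N24665
def N28527 : Q := sm gd N24666
def N28528 : Q := sm gg N24666
def N28529 : Q := sm gg N24667
def N28530 : Q := sm gb N24668
def N28531 : Q := sm gg N24669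
def N28532 : Q := sm gb N24670
def N28533 : Q := sm ga N24671
def N28534 : Q := sm gc N24671
def N28535 : Q := sm gf N24671
def N28536 : Q := sm gc N24672
def N28537 : Q := sm gf N24672
def N28538 : Q := sm gd N24673
def N28539 : Q := sm gf N24673
def N28540 : Q := sm gb N24674
def N28541 : Q := sm ga N24675
def N28542 : Q := sm gc N24675
def N28543 : Q := sm gc N24676
def N28544 : Q := sm gc N24677
def N28545 : Q := sm gb N24679
def N28546 : Q := sm gf N24679
def N28547 : Q := sm gc N24682
def N28548 : Q := sm gd N24683
def N28549 : Q := sm ge N24685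
def N28550 : Q := sm gb N24686
def N28551 : Q := sm gf N24687
def N28552 : Q := sm gd N24688
def N28553 : Q := sm gf N24688
def N28554 : Q := sm gb N24689
def N28555 : Q := sm gf N24690
def N28556 : Q := sm gf N24691
def N28557 : Q := sm gb N24692
def N28558 : Q := sm ga N24693
def N28559 : Q := sm gc N24693
def N28560 : Q := sm gg N24693
def N28561 : Q := sm gc N24694
def N28562 : Q := sm gg N24694
def N28563 : Q := sm gd N24695
def N28564 : Q := sm gg N24695
def N28565 : Q := sm gb N24696
def N28566 : Q := sm ga N24697
def N28567 : Q := sm gc N24697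
def N28568 : Q := sm gc N24698
def N28569 : Q := sm gc N24699
def N28570 : Q := sm gb N24701
def N28571 : Q := sm gg N24701
def N28572 : Q := sm gf N24703
def N28573 : Q := sm gg N24705
def N28574 : Q := sm gd N24706
def N28575 : Q := sm gg N24706
def N28576 : Q := sm gg N24707
def N28577 : Q := sm gb N24708
def N28578 : Q := sm gf N24708
def N28579 : Q := sm gg N24709
def N28580 : Q := sm gb N24710
def N28581 : Q := sm ga N24711
def N28582 : Q := sm gc N24711
def N28583 : Q := sm gf N24711
def N28584 : Q := sm ga N24712
def N28585 : Q := sm gf N24712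
def N28586 : Q := sm gb N24713
def N28587 : Q := sm gc N24713
def N28588 : Q := sm gf N24713
def N28589 : Q := sm gf N24714
def N28590 : Q := sm gd N24718
def N28591 : Q := sm gg N24719
def N28592 : Q := sm gb N24720
def N28593 : Q := sm ga N24721
def N28594 : Q := sm gc N24721
def N28595 : Q := sm gg N24722
def N28596 : Q := sm gb N24723
def N28597 : Q := sm gf N24723
def N28598 : Q := sm ga N24724
def N28599 : Q := sm gc N24724
def N28600 : Q := sm gf N24724
def N28601 : Q := sm gb N24726
def N28602 : Q := sm gc N24726
def N28603 : Q := sm gf N24726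
def N28604 : Q := sm gd N24727
def N28605 : Q := sm gf N24727
def N28606 : Q := sm gg N24728
def N28607 : Q := sm gb N24729
def N28608 : Q := sm gc N24729
def N28609 : Q := sm gd N24730
def N28610 : Q := sm gg N24731
def N28611 : Q := sm ga N24732
def N28612 : Q := sm gc N24732
def N28613 : Q := sm gf N24732
def N28614 : Q := sm gb N24733
def N28615 : Q := sm gd N24733
def N28616 : Q := sm gc N24734
def N28617 : Q := sm ge N24734
def N28618 : Q := sm gf N24734
def N28619 : Q := sm gb N24735
def N28620 : Q := sm ga N24736
def N28621 : Q := sm gc N24736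
def N28622 : Q := sm gg N24736
def N28623 : Q := sm gb N24737
def N28624 : Q := sm gg N24737
def N28625 : Q := sm gg N24738
def N28626 : Q := sm gf N24739
def N28627 : Q := sm gg N24743
def N28628 : Q := sm gg N24746
def N28629 : Q := sm gf N24748
def N28630 : Q := sm gb N24749
def N28631 : Q := sm gg N24752
def N28632 : Q := sm gf N24754
def N28633 : Q := sm gd N24755
def N28634 : Q := sm gf N24755
def N28635 : Q := sm gb N24756
def N28636 : Q := sm gg N24756
def N28637 : Q := sm gf N24757
def N28638 : Q := sm gf N24758
def N28639 : Q := sm gb N24759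
def N28640 : Q := sm ga N24760
def N28641 : Q := sm gc N24760
def N28642 : Q := sm gg N24760
def N28643 : Q := sm ga N24761
def N28644 : Q := sm gb N24762
def N28645 : Q := sm gc N24762
def N28646 : Q := sm gg N24762
def N28647 : Q := sm gd N24767
def N28648 : Q := sm gf N24768
def N28649 : Q := sm gb N24769
def N28650 : Q := sm ga N24770
def N28651 : Q := sm gc N24770
def N28652 : Q := sm gf N24771
def N28653 : Q := sm gb N24772
def N28654 : Q := sm gg N24772
def N28655 : Q := sm ga N24773
def N28656 : Q := sm gc N24773
def N28657 : Q := sm gg N24773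
def N28658 : Q := sm gb N24775
def N28659 : Q := sm gc N24775
def N28660 : Q := sm gg N24775
def N28661 : Q := sm gd N24776
def N28662 : Q := sm gg N24776
def N28663 : Q := sm gf N24777
def N28664 : Q := sm gb N24778
def N28665 : Q := sm gc N24778
def N28666 : Q := sm gd N24779
def N28667 : Q := sm gf N24780
def N28668 : Q := sm ga N24781
def N28669 : Q := sm gc N24781
def N28670 : Q := sm gg N24781
def N28671 : Q := sm gb N24782
def N28672 : Q := sm gd N24782
def N28673 : Q := sm gc N24783
def N28674 : Q := sm ge N24783
def N28675 : Q := sm gg N24783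
def N28676 : Q := sm gb N24784
def N28677 : Q := sm ga N24785
def N28678 : Q := sm gc N24785
def N28679 : Q := sm gf N24785
def N28680 : Q := sm gb N24786
def N28681 : Q := sm gf N24786
def N28682 : Q := sm gf N24787
def N28683 : Q := sm gg N24788
def N28684 : Q := sm gf N24792
def N28685 : Q := sm gf N24795
def N28686 : Q := sm gg N24797
def N28687 : Q := sm gb N24798
def N28688 : Q := sm gb N24801
def N28689 : Q := sm gg N24803
def N28690 : Q := sm ge N24804
def N28691 : Q := sm gg N24804
def N28692 : Q := sm gd N24805
def N28693 : Q := sm gg N24805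
def N28694 : Q := sm gb N24807
def N28695 : Q := sm gb N24809
def N28696 : Q := sm ga N24810
def N28697 : Q := sm gc N24810
def N28698 : Q := sm gb N24812
def N28699 : Q := sm gg N24813
def N28700 : Q := sm gb N24815
def N28701 : Q := sm gf N24815
def N28702 : Q := sm gg N24816
def N28703 : Q := sm gb N24817
def N28704 : Q := sm gf N24817
def N28705 : Q := sm gb N24818
def N28706 : Q := sm ga N24819
def N28707 : Q := sm gf N24819
def N28708 : Q := sm gb N24820
def N28709 : Q := sm gb N24821
def N28710 : Q := sm gb N24822
def N28711 : Q := sm ga N24823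
def N28712 : Q := sm gc N24823
def N28713 : Q := sm ga N24824
def N28714 : Q := sm gc N24824
def N28715 : Q := sm gg N24824
def N28716 : Q := sm gf N24828
def N28717 : Q := sm gg N24829
def N28718 : Q := sm gf N24830
def N28719 : Q := sm gc N24831
def N28720 : Q := sm gf N24831
def N28721 : Q := sm gc N24832
def N28722 : Q := sm gg N24832
def N28723 : Q := sm gb N24833
def N28724 : Q := sm gd N24833
def N28725 : Q := sm gc N24834
def N28726 : Q := sm ge N24834
def N28727 : Q := sm gf N24834
def N28728 : Q := sm gb N24835
def N28729 : Q := sm gg N24835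
def N28730 : Q := sm gb N24836
def N28731 : Q := sm gb N24837
def N28732 : Q := sm gf N24837
def N28733 : Q := sm gg N24837
def N28734 : Q := sm gg N24838
def N28735 : Q := sm ga N24840
def N28736 : Q := sm gd N24840
def N28737 : Q := sm gf N24840
def N28738 : Q := sm gg N24840
def N28739 : Q := sm ge N24841
def N28740 : Q := sm gb N24843
def N28741 : Q := sm ge N24843
def N28742 : Q := sm gf N24844
def N28743 : Q := sm gb N24845
def N28744 : Q := sm gg N24845
def N28745 : Q := sm gg N24846
def N28746 : Q := sm gb N24847
def N28747 : Q := sm ga N24848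
def N28748 : Q := sm gc N24848
def N28749 : Q := sm gf N24848
def N28750 : Q := sm gc N24850
def N28751 : Q := sm gf N24851
def N28752 : Q := sm gb N24853
def N28753 : Q := sm gf N24855
def N28754 : Q := sm ge N24856
def N28755 : Q := sm gf N24856
def N28756 : Q := sm gd N24857
def N28757 : Q := sm gf N24857
def N28758 : Q := sm gb N24858
def N28759 : Q := sm gb N24860
def N28760 : Q := sm ga N24862
def N28761 : Q := sm gc N24862
def N28762 : Q := sm gb N24863
def N28763 : Q := sm gf N24865
def N28764 : Q := sm gb N24866
def N28765 : Q := sm gg N24866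
def N28766 : Q := sm gf N24868
def N28767 : Q := sm gb N24869
def N28768 : Q := sm gg N24869
def N28769 : Q := sm ga N24870
def N28770 : Q := sm gg N24870
def N28771 : Q := sm gb N24871
def N28772 : Q := sm gb N24873
def N28773 : Q := sm gb N24874
def N28774 : Q := sm gb N24875
def N28775 : Q := sm ga N24876
def N28776 : Q := sm gc N24876
def N28777 : Q := sm gf N24876
def N28778 : Q := sm ga N24877
def N28779 : Q := sm gc N24877
def N28780 : Q := sm gg N24880
def N28781 : Q := sm gg N24882
def N28782 : Q := sm gf N24883
def N28783 : Q := sm gc N24884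
def N28784 : Q := sm gg N24884
def N28785 : Q := sm gc N24885
def N28786 : Q := sm gf N24885
def N28787 : Q := sm gb N24886
def N28788 : Q := sm gd N24886
def N28789 : Q := sm gc N24887
def N28790 : Q := sm ge N24887
def N28791 : Q := sm gg N24887
def N28792 : Q := sm gb N24888
def N28793 : Q := sm gf N24888
def N28794 : Q := sm gb N24889
def N28795 : Q := sm gb N24890
def N28796 : Q := sm gf N24890
def N28797 : Q := sm gg N24890
def N28798 : Q := sm gf N24892
def N28799 : Q := sm ga N24893
def N28800 : Q := sm gf N24893
def N28801 : Q := sm gg N24893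
def N28802 : Q := sm gg N24895
def N28803 : Q := sm gf N24896
def N28804 : Q := sm gb N24898
def N28805 : Q := sm ga N24899
def N28806 : Q := sm gc N24899
def N28807 : Q := sm gg N24899
def N28808 : Q := sm gc N24901
def N28809 : Q := sm gg N24902
def N28810 : Q := sm gg N24905
def N28811 : Q := sm gg N24906
def N28812 : Q := sm gb N24908
def N28813 : Q := sm gc N24910
def N28814 : Q := sm ga N24911
def N28815 : Q := sm gc N24911
def N28816 : Q := sm gf N24911
def N28817 : Q := sm gf N24912
def N28818 : Q := sm gg N24914
def N28819 : Q := sm gg N24915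
def N28820 : Q := sm gb N24916
def N28821 : Q := sm gf N24916
def N28822 : Q := sm gc N24917
def N28823 : Q := sm gg N24917
def N28824 : Q := sm gg N24918
def N28825 : Q := sm gb N24919
def N28826 : Q := sm gf N24919
def N28827 : Q := sm gb N24921
def N28828 : Q := sm ga N24922
def N28829 : Q := sm gf N24922
def N28830 : Q := sm gb N24923
def N28831 : Q := sm gb N24925
def N28832 : Q := sm ga N24926
def N28833 : Q := sm gf N24926
def N28834 : Q := sm ga N24927
def N28835 : Q := sm gc N24927
def N28836 : Q := sm gg N24927
def N28837 : Q := sm gd N24931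
def N28838 : Q := sm gf N24934
def N28839 : Q := sm gf N24935
def N28840 : Q := sm gb N24936
def N28841 : Q := sm ga N24939
def N28842 : Q := sm gc N24939
def N28843 : Q := sm gg N24939
def N28844 : Q := sm gc N24940
def N28845 : Q := sm gg N24941
def N28846 : Q := sm gf N24943
def N28847 : Q := sm gb N24944
def N28848 : Q := sm gg N24944
def N28849 : Q := sm gf N24945
def N28850 : Q := sm gc N24946
def N28851 : Q := sm gf N24946
def N28852 : Q := sm gb N24947
def N28853 : Q := sm gg N24947
def N28854 : Q := sm gf N24948
def N28855 : Q := sm ga N24949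
def N28856 : Q := sm gg N24949
def N28857 : Q := sm gb N24950
def N28858 : Q := sm gb N24952
def N28859 : Q := sm gb N24953
def N28860 : Q := sm ga N24955
def N28861 : Q := sm gc N24955
def N28862 : Q := sm gf N24955
def N28863 : Q := sm ga N24956
def N28864 : Q := sm gg N24956
def N28865 : Q := sm gd N24958
def N28866 : Q := sm gg N24962
def N28867 : Q := sm gf N24964
def N28868 : Q := sm gb N24970
def N28869 : Q := sm gg N24981
def N28870 : Q := sm gb N24989
def N28871 : Q := sm gf N25000
def N28872 : Q := sm gc N25007
def N28873 : Q := sm gf N25007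
def N28874 : Q := sm gb N25010
def N28875 : Q := sm gg N25013
def N28876 : Q := sm gc N25028
def N28877 : Q := sm gg N25028
def N28878 : Q := sm gb N25031
def N28879 : Q := sm gf N25034
def N28880 : Q := sm ga N25055
def N28881 : Q := sm gc N25055
def N28882 : Q := sm gc N25060
def N28883 : Q := sm gg N25060
def N28884 : Q := sm gd N25072
def N28885 : Q := sm gf N25073
def N28886 : Q := sm gb N25075
def N28887 : Q := sm gd N25075
def N28888 : Q := sm gd N25079
def N28889 : Q := sm ga N25088
def N28890 : Q := sm gc N25092
def N28891 : Q := sm gf N25092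
def N28892 : Q := sm gd N25104
def N28893 : Q := sm gb N25106
def N28894 : Q := sm gd N25106
def N28895 : Q := sm gd N25107
def N28896 : Q := sm gc N25114
def N28897 : Q := sm gb N25117
def N28898 : Q := sm gd N25119
def N28899 : Q := sm ge N25120
def N28900 : Q := sm ge N25121
def N28901 : Q := sm gd N25126
def N28902 : Q := sm gc N25127
def N28903 : Q := sm ge N25130
def N28904 : Q := sm ge N25133
def N28905 : Q := sm ge N25134
def N28906 : Q := sm gd N25135
def N28907 : Q := sm gf N25135
def N28908 : Q := sm gg N25137
def N28909 : Q := sm ge N25139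
def N28910 : Q := sm gc N25147
def N28911 : Q := sm gb N25149
def N28912 : Q := sm gd N25151
def N28913 : Q := sm ge N25152
def N28914 : Q := sm ge N25153
def N28915 : Q := sm gd N25157
def N28916 : Q := sm gc N25158
def N28917 : Q := sm ge N25161
def N28918 : Q := sm ge N25163
def N28919 : Q := sm gd N25164
def N28920 : Q := sm gg N25164
def N28921 : Q := sm gf N25166
def N28922 : Q := sm gf N25169
def N28923 : Q := sm ge N25178
def N28924 : Q := sm gf N25179
def N28925 : Q := sm gb N25184
def N28926 : Q := sm gf N25185
def N28927 : Q := sm gb N25194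
def N28928 : Q := sm ge N25198
def N28929 : Q := sm gg N25198
def N28930 : Q := sm gb N25200
def N28931 : Q := sm gg N25206
def N28932 : Q := sm gb N25213
def N28933 : Q := sm gg N25217
def N28934 : Q := sm ge N25225
def N28935 : Q := sm gg N25226
def N28936 : Q := sm gb N25232
def N28937 : Q := sm ge N25246
def N28938 : Q := sm gf N25246
def N28939 : Q := sm gb N25247
def N28940 : Q := sm gf N25254
def N28941 : Q := sm gb N25261
def N28942 : Q := sm gc N25264
def N28943 : Q := sm gc N25267
def N28944 : Q := sm gd N25268
def N28945 : Q := sm gf N25271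
def N28946 : Q := sm gd N25273
def N28947 : Q := sm ge N25276
def N28948 : Q := sm gc N25278
def N28949 : Q := sm gd N25281
def N28950 : Q := sm gd N25285
def N28951 : Q := sm ge N25288
def N28952 : Q := sm gg N25291
def N28953 : Q := sm gb N25292
def N28954 : Q := sm gf N25295
def N28955 : Q := sm gb N25296
def N28956 : Q := sm gd N25300
def N28957 : Q := sm gd N25301
def N28958 : Q := sm gg N25301
def N28959 : Q := sm gb N25303
def N28960 : Q := sm gg N25303
def N28961 : Q := sm gg N25304
def N28962 : Q := sm gb N25305
def N28963 : Q := sm ga N25306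
def N28964 : Q := sm gc N25306
def N28965 : Q := sm gf N25306
def N28966 : Q := sm gd N25307
def N28967 : Q := sm gb N25308
def N28968 : Q := sm gd N25308
def N28969 : Q := sm gf N25309
def N28970 : Q := sm gg N25310
def N28971 : Q := sm gd N25312
def N28972 : Q := sm gd N25313
def N28973 : Q := sm gf N25313
def N28974 : Q := sm gb N25315
def N28975 : Q := sm gf N25315
def N28976 : Q := sm gf N25316
def N28977 : Q := sm gb N25317
def N28978 : Q := sm ga N25318
def N28979 : Q := sm gc N25318
def N28980 : Q := sm gg N25318
def N28981 : Q := sm gd N25319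
def N28982 : Q := sm gb N25320
def N28983 : Q := sm gd N25320
def N28984 : Q := sm gg N25321
def N28985 : Q := sm gf N25322
def N28986 : Q := sm gc N25325
def N28987 : Q := sm ge N25325
def N28988 : Q := sm gb N25326
def N28989 : Q := sm ge N25326
def N28990 : Q := sm gf N25326
def N28991 : Q := sm gf N25327
def N28992 : Q := sm gc N25330
def N28993 : Q := sm ge N25330
def N28994 : Q := sm gb N25331
def N28995 : Q := sm ge N25331
def N28996 : Q := sm gg N25331
def N28997 : Q := sm gg N25332
def N28998 : Q := sm ga N25335
def N28999 : Q := sm gc N25335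
def N29000 : Q := sm ga N25336
def N29001 : Q := sm gc N25336
def N29002 : Q := sm gc N25338
def N29003 : Q := sm gd N25339
def N29004 : Q := sm gc N25341
def N29005 : Q := sm gd N25342
def N29006 : Q := sm ge N25345
def N29007 : Q := sm gb N25346
def N29008 : Q := sm gg N25348
def N29009 : Q := sm gb N25349
def N29010 : Q := sm ga N25350
def N29011 : Q := sm ge N25351
def N29012 : Q := sm gb N25352
def N29013 : Q := sm gf N25354
def N29014 : Q := sm gb N25355
def N29015 : Q := sm ga N25356
def N29016 : Q := sm gg N25357
def N29017 : Q := sm gb N25358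
def N29018 : Q := sm ga N25359
def N29019 : Q := sm gf N25359
def N29020 : Q := sm gb N25360
def N29021 : Q := sm gb N25361
def N29022 : Q := sm ga N25362
def N29023 : Q := sm gc N25362
def N29024 : Q := sm gf N25362
def N29025 : Q := sm gb N25364
def N29026 : Q := sm gg N25366
def N29027 : Q := sm gf N25367
def N29028 : Q := sm gb N25368
def N29029 : Q := sm ga N25369
def N29030 : Q := sm gg N25369
def N29031 : Q := sm gb N25370
def N29032 : Q := sm gb N25371
def N29033 : Q := sm ga N25372
def N29034 : Q := sm gc N25372
def N29035 : Q := sm gg N25372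
def N29036 : Q := sm gb N25374
def N29037 : Q := sm gf N25376
def N29038 : Q := sm gb N25377
def N29039 : Q := sm gc N25378
def N29040 : Q := sm gd N25379
def N29041 : Q := sm gb N25381
def N29042 : Q := sm ga N25382
def N29043 : Q := sm gc N25382
def N29044 : Q := sm gd N25386
def N29045 : Q := sm gb N25389
def N29046 : Q := sm gc N25390
def N29047 : Q := sm gd N25391
def N29048 : Q := sm gb N25393
def N29049 : Q := sm ga N25394
def N29050 : Q := sm gc N25394
def N29051 : Q := sm gd N25398
def N29052 : Q := sm ga N25401
def N29053 : Q := sm gc N25401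
def N29054 : Q := sm ga N25402
def N29055 : Q := sm gc N25402
def N29056 : Q := sm ge N25403
def N29057 : Q := sm gc N25404
def N29058 : Q := sm gb N25405
def N29059 : Q := sm gd N25405
def N29060 : Q := sm ga N25406
def N29061 : Q := sm gd N25406
def N29062 : Q := sm gf N25406
def N29063 : Q := sm gg N25406
def N29064 : Q := sm ge N25407
def N29065 : Q := sm gb N25408
def N29066 : Q := sm ge N25408
def N29067 : Q := sm ge N25410
def N29068 : Q := sm gc N25411
def N29069 : Q := sm gb N25412
def N29070 : Q := sm gd N25412
def N29071 : Q := sm ga N25413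
def N29072 : Q := sm gd N25413
def N29073 : Q := sm gf N25413
def N29074 : Q := sm gg N25413
def N29075 : Q := sm ge N25414
def N29076 : Q := sm gb N25415
def N29077 : Q := sm ge N25415
def N29078 : Q := sm gb N25417
def N29079 : Q := sm ga N25418
def N29080 : Q := sm gf N25418
def N29081 : Q := sm gb N25419
def N29082 : Q := sm gc N25421
def N29083 : Q := sm gb N25422
def N29084 : Q := sm gg N25424
def N29085 : Q := sm ga N25426
def N29086 : Q := sm gd N25426
def N29087 : Q := sm gf N25426
def N29088 : Q := sm gg N25426
def N29089 : Q := sm ge N25427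
def N29090 : Q := sm gb N25428
def N29091 : Q := sm ge N25428
def N29092 : Q := sm gf N25428
def N29093 : Q := sm gf N25429
def N29094 : Q := sm gb N25430
def N29095 : Q := sm ga N25431
def N29096 : Q := sm gg N25431
def N29097 : Q := sm ga N25432
def N29098 : Q := sm gf N25432
def N29099 : Q := sm gg N25432
def N29100 : Q := sm gb N25433
def N29101 : Q := sm gg N25434
def N29102 : Q := sm ge N25435
def N29103 : Q := sm gf N25435
def N29104 : Q := sm gg N25435
def N29105 : Q := sm gb N25436
def N29106 : Q := sm gg N25436
def N29107 : Q := sm gf N25437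
def N29108 : Q := sm gf N25438
def N29109 : Q := sm gb N25439
def N29110 : Q := sm ga N25440
def N29111 : Q := sm gg N25440
def N29112 : Q := sm ge N25441
def N29113 : Q := sm gf N25441
def N29114 : Q := sm gg N25441
def N29115 : Q := sm gf N25442
def N29116 : Q := sm gb N25443
def N29117 : Q := sm gg N25443
def N29118 : Q := sm gb N25444
def N29119 : Q := sm gg N25444
def N29120 : Q := sm ga N25445
def N29121 : Q := sm gc N25445
def N29122 : Q := sm gg N25445
def N29123 : Q := sm gb N25446
def N29124 : Q := sm gb N25447
def N29125 : Q := sm gb N25448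
def N29126 : Q := sm ga N25449
def N29127 : Q := sm gc N25449
def N29128 : Q := sm gf N25449
def N29129 : Q := sm ga N25451
def N29130 : Q := sm gg N25451
def N29131 : Q := sm gb N25452
def N29132 : Q := sm gb N25453
def N29133 : Q := sm gc N25455
def N29134 : Q := sm gb N25456
def N29135 : Q := sm gf N25458
def N29136 : Q := sm ga N25460
def N29137 : Q := sm gd N25460
def N29138 : Q := sm gf N25460
def N29139 : Q := sm gg N25460
def N29140 : Q := sm ge N25461
def N29141 : Q := sm gb N25462
def N29142 : Q := sm ge N25462
def N29143 : Q := sm gg N25462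
def N29144 : Q := sm gg N25463
def N29145 : Q := sm gb N25464
def N29146 : Q := sm ga N25465
def N29147 : Q := sm gf N25465
def N29148 : Q := sm ga N25466
def N29149 : Q := sm gf N25466
def N29150 : Q := sm gg N25466
def N29151 : Q := sm gb N25467
def N29152 : Q := sm gf N25468
def N29153 : Q := sm ge N25469
def N29154 : Q := sm gf N25469
def N29155 : Q := sm gg N25469
def N29156 : Q := sm gg N25470
def N29157 : Q := sm gb N25471
def N29158 : Q := sm gf N25471
def N29159 : Q := sm gg N25472
def N29160 : Q := sm gb N25473
def N29161 : Q := sm ga N25474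
def N29162 : Q := sm gf N25474
def N29163 : Q := sm ge N25475
def N29164 : Q := sm gf N25475
def N29165 : Q := sm gg N25475
def N29166 : Q := sm gg N25476
def N29167 : Q := sm gb N25477
def N29168 : Q := sm gf N25477
def N29169 : Q := sm gb N25478
def N29170 : Q := sm gf N25478
def N29171 : Q := sm ga N25479
def N29172 : Q := sm gc N25479
def N29173 : Q := sm gf N25479
def N29174 : Q := sm gb N25480
def N29175 : Q := sm gb N25481
def N29176 : Q := sm gb N25482
def N29177 : Q := sm ga N25483
def N29178 : Q := sm gc N25483
def N29179 : Q := sm gg N25483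
def N29180 : Q := sm gc N25486
def N29181 : Q := sm gd N25487
def N29182 : Q := sm gc N25490
def N29183 : Q := sm ge N25490
def N29184 : Q := sm gf N25490
def N29185 : Q := sm gb N25491
def N29186 : Q := sm gd N25492
def N29187 : Q := sm ge N25492
def N29188 : Q := sm gf N25492
def N29189 : Q := sm gf N25493
def N29190 : Q := sm gb N25494
def N29191 : Q := sm gc N25497
def N29192 : Q := sm ge N25497
def N29193 : Q := sm gf N25497
def N29194 : Q := sm gg N25497
def N29195 : Q := sm gb N25500
def N29196 : Q := sm ge N25500
def N29197 : Q := sm gd N25502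
def N29198 : Q := sm ge N25503
def N29199 : Q := sm gd N25504
def N29200 : Q := sm gf N25504
def N29201 : Q := sm gb N25505
def N29202 : Q := sm gb N25506
def N29203 : Q := sm ga N25507
def N29204 : Q := sm gc N25507
def N29205 : Q := sm gg N25510
def N29206 : Q := sm gb N25512
def N29207 : Q := sm gf N25512
def N29208 : Q := sm gg N25512
def N29209 : Q := sm gf N25513
def N29210 : Q := sm gb N25514
def N29211 : Q := sm gf N25517
def N29212 : Q := sm gg N25517
def N29213 : Q := sm gf N25518
def N29214 : Q := sm gb N25519
def N29215 : Q := sm gb N25520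
def N29216 : Q := sm ga N25521
def N29217 : Q := sm gc N25521
def N29218 : Q := sm gg N25521
def N29219 : Q := sm gg N25522
def N29220 : Q := sm gf N25529
def N29221 : Q := sm gb N25530
def N29222 : Q := sm gf N25531
def N29223 : Q := sm gb N25532
def N29224 : Q := sm gg N25532
def N29225 : Q := sm ga N25533
def N29226 : Q := sm gc N25533
def N29227 : Q := sm gg N25533
def N29228 : Q := sm gb N25534
def N29229 : Q := sm gc N25535
def N29230 : Q := sm gg N25535
def N29231 : Q := sm gb N25536
def N29232 : Q := sm gd N25537
def N29233 : Q := sm ga N25539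
def N29234 : Q := sm gb N25541
def N29235 : Q := sm gc N25541
def N29236 : Q := sm gc N25544
def N29237 : Q := sm gd N25545
def N29238 : Q := sm ge N25548
def N29239 : Q := sm gg N25548
def N29240 : Q := sm gb N25549
def N29241 : Q := sm gd N25550
def N29242 : Q := sm ge N25550
def N29243 : Q := sm gg N25550
def N29244 : Q := sm gg N25551
def N29245 : Q := sm gb N25552
def N29246 : Q := sm gc N25555
def N29247 : Q := sm ge N25555
def N29248 : Q := sm gf N25555
def N29249 : Q := sm gg N25555
def N29250 : Q := sm gb N25558
def N29251 : Q := sm ge N25558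
def N29252 : Q := sm gd N25560
def N29253 : Q := sm ge N25561
def N29254 : Q := sm gd N25562
def N29255 : Q := sm gg N25562
def N29256 : Q := sm gb N25563
def N29257 : Q := sm gb N25564
def N29258 : Q := sm ga N25565
def N29259 : Q := sm gc N25565
def N29260 : Q := sm gf N25568
def N29261 : Q := sm gb N25570
def N29262 : Q := sm gf N25570
def N29263 : Q := sm gg N25570
def N29264 : Q := sm gg N25571
def N29265 : Q := sm gb N25573
def N29266 : Q := sm gf N25575
def N29267 : Q := sm gg N25575
def N29268 : Q := sm gg N25576
def N29269 : Q := sm gb N25577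
def N29270 : Q := sm gb N25578
def N29271 : Q := sm ga N25579
def N29272 : Q := sm gc N25579
def N29273 : Q := sm gf N25579
def N29274 : Q := sm gf N25580
def N29275 : Q := sm gg N25587
def N29276 : Q := sm gb N25588
def N29277 : Q := sm gg N25589
def N29278 : Q := sm gb N25590
def N29279 : Q := sm gf N25590
def N29280 : Q := sm ga N25591
def N29281 : Q := sm gc N25591
def N29282 : Q := sm gf N25591
def N29283 : Q := sm gb N25592
def N29284 : Q := sm gc N25593
def N29285 : Q := sm gf N25593
def N29286 : Q := sm gb N25594
def N29287 : Q := sm ga N25597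
def N29288 : Q := sm gb N25599
def N29289 : Q := sm gc N25599
def N29290 : Q := sm gd N25601
def N29291 : Q := sm gb N25602
def N29292 : Q := sm gd N25602
def N29293 : Q := sm gc N25603
def N29294 : Q := sm ge N25603
def N29295 : Q := sm gf N25603
def N29296 : Q := sm gb N25604
def N29297 : Q := sm gd N25605
def N29298 : Q := sm ga N25606
def N29299 : Q := sm gc N25606
def N29300 : Q := sm gd N25607
def N29301 : Q := sm gc N25608
def N29302 : Q := sm gd N25609
def N29303 : Q := sm gb N25610
def N29304 : Q := sm gd N25610
def N29305 : Q := sm gf N25610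
def N29306 : Q := sm gc N25612
def N29307 : Q := sm ge N25612
def N29308 : Q := sm gf N25612
def N29309 : Q := sm gb N25613
def N29310 : Q := sm ge N25614
def N29311 : Q := sm gf N25614
def N29312 : Q := sm gb N25616
def N29313 : Q := sm ge N25616
def N29314 : Q := sm gf N25616
def N29315 : Q := sm gf N25617
def N29316 : Q := sm gb N25618
def N29317 : Q := sm ga N25619
def N29318 : Q := sm gg N25619
def N29319 : Q := sm gc N25622
def N29320 : Q := sm gc N25624
def N29321 : Q := sm gc N25625
def N29322 : Q := sm gd N25626
def N29323 : Q := sm gf N25626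
def N29324 : Q := sm gd N25628
def N29325 : Q := sm gf N25628
def N29326 : Q := sm ge N25630
def N29327 : Q := sm gd N25632
def N29328 : Q := sm gb N25633
def N29329 : Q := sm gd N25633
def N29330 : Q := sm ge N25633
def N29331 : Q := sm gf N25633
def N29332 : Q := sm gf N25634
def N29333 : Q := sm gb N25635
def N29334 : Q := sm gc N25636
def N29335 : Q := sm gd N25637
def N29336 : Q := sm gg N25638
def N29337 : Q := sm gc N25640
def N29338 : Q := sm ge N25640
def N29339 : Q := sm gg N25640
def N29340 : Q := sm gd N25642
def N29341 : Q := sm ga N25643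
def N29342 : Q := sm gd N25643
def N29343 : Q := sm gf N25643
def N29344 : Q := sm gg N25643
def N29345 : Q := sm gc N25644
def N29346 : Q := sm ge N25644
def N29347 : Q := sm gf N25644
def N29348 : Q := sm gg N25644
def N29349 : Q := sm gb N25645
def N29350 : Q := sm gd N25647
def N29351 : Q := sm gf N25647
def N29352 : Q := sm gc N25648
def N29353 : Q := sm ge N25648
def N29354 : Q := sm gf N25648
def N29355 : Q := sm gg N25648
def N29356 : Q := sm ge N25652
def N29357 : Q := sm gg N25652
def N29358 : Q := sm gd N25653
def N29359 : Q := sm gf N25653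
def N29360 : Q := sm gb N25654
def N29361 : Q := sm gb N25655
def N29362 : Q := sm ga N25656
def N29363 : Q := sm gc N25656
def N29364 : Q := sm gb N25657
def N29365 : Q := sm gc N25657
def N29366 : Q := sm gd N25658
def N29367 : Q := sm gb N25660
def N29368 : Q := sm gd N25660
def N29369 : Q := sm gg N25661
def N29370 : Q := sm gb N25662
def N29371 : Q := sm gd N25663
def N29372 : Q := sm gf N25663
def N29373 : Q := sm gg N25664
def N29374 : Q := sm gb N25665
def N29375 : Q := sm gg N25666
def N29376 : Q := sm gg N25667
def N29377 : Q := sm ga N25669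
def N29378 : Q := sm gd N25671
def N29379 : Q := sm gd N25672
def N29380 : Q := sm gc N25673
def N29381 : Q := sm ge N25673
def N29382 : Q := sm gf N25673
def N29383 : Q := sm gg N25673
def N29384 : Q := sm gd N25676
def N29385 : Q := sm ge N25676
def N29386 : Q := sm gf N25676
def N29387 : Q := sm gg N25676
def N29388 : Q := sm gf N25677
def N29389 : Q := sm gg N25677
def N29390 : Q := sm gb N25678
def N29391 : Q := sm gg N25678
def N29392 : Q := sm gf N25679
def N29393 : Q := sm gc N25680
def N29394 : Q := sm gb N25681
def N29395 : Q := sm gb N25682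
def N29396 : Q := sm gb N25683
def N29397 : Q := sm ga N25684
def N29398 : Q := sm gc N25684
def N29399 : Q := sm gg N25684
def N29400 : Q := sm gc N25685
def N29401 : Q := sm gg N25685
def N29402 : Q := sm gd N25686
def N29403 : Q := sm gg N25686
def N29404 : Q := sm gc N25688
def N29405 : Q := sm ge N25688
def N29406 : Q := sm gb N25689
def N29407 : Q := sm ge N25689
def N29408 : Q := sm gf N25689
def N29409 : Q := sm gg N25689
def N29410 : Q := sm gd N25690
def N29411 : Q := sm gf N25690
def N29412 : Q := sm gg N25690
def N29413 : Q := sm gb N25691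
def N29414 : Q := sm gg N25691
def N29415 : Q := sm gf N25692
def N29416 : Q := sm gc N25693
def N29417 : Q := sm gf N25693
def N29418 : Q := sm gb N25694
def N29419 : Q := sm gg N25694
def N29420 : Q := sm ga N25695
def N29421 : Q := sm gc N25695
def N29422 : Q := sm gg N25695
def N29423 : Q := sm gb N25696
def N29424 : Q := sm gc N25697
def N29425 : Q := sm gg N25697
def N29426 : Q := sm gb N25698
def N29427 : Q := sm ga N25701
def N29428 : Q := sm gc N25702
def N29429 : Q := sm gb N25703
def N29430 : Q := sm gc N25703
def N29431 : Q := sm gd N25704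
def N29432 : Q := sm ge N25706
def N29433 : Q := sm gb N25707
def N29434 : Q := sm gb N25708
def N29435 : Q := sm gd N25708
def N29436 : Q := sm gc N25709
def N29437 : Q := sm ge N25709
def N29438 : Q := sm gg N25709
def N29439 : Q := sm gb N25710
def N29440 : Q := sm gd N25711
def N29441 : Q := sm gd N25712
def N29442 : Q := sm ga N25713
def N29443 : Q := sm gc N25713
def N29444 : Q := sm gc N25714
def N29445 : Q := sm gd N25715
def N29446 : Q := sm gb N25716
def N29447 : Q := sm gd N25716
def N29448 : Q := sm gg N25716
def N29449 : Q := sm gc N25718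
def N29450 : Q := sm ge N25718
def N29451 : Q := sm gg N25718
def N29452 : Q := sm gb N25719
def N29453 : Q := sm ge N25720
def N29454 : Q := sm gb N25721
def N29455 : Q := sm ge N25721
def N29456 : Q := sm gg N25721
def N29457 : Q := sm gg N25722
def N29458 : Q := sm gb N25723
def N29459 : Q := sm ga N25724
def N29460 : Q := sm gf N25724
def N29461 : Q := sm gc N25727
def N29462 : Q := sm gc N25729
def N29463 : Q := sm gc N25730
def N29464 : Q := sm gd N25731
def N29465 : Q := sm gg N25731
def N29466 : Q := sm gd N25733
def N29467 : Q := sm gg N25733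
def N29468 : Q := sm ge N25735
def N29469 : Q := sm gd N25737
def N29470 : Q := sm gb N25738
def N29471 : Q := sm gd N25738
def N29472 : Q := sm ge N25738
def N29473 : Q := sm gg N25738
def N29474 : Q := sm gg N25739
def N29475 : Q := sm gb N25740
def N29476 : Q := sm gc N25741
def N29477 : Q := sm gd N25742
def N29478 : Q := sm gf N25743
def N29479 : Q := sm gc N25745
def N29480 : Q := sm ge N25745
def N29481 : Q := sm gf N25745
def N29482 : Q := sm gd N25747
def N29483 : Q := sm ga N25748
def N29484 : Q := sm gd N25748
def N29485 : Q := sm gf N25748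
def N29486 : Q := sm gg N25748
def N29487 : Q := sm gc N25749
def N29488 : Q := sm ge N25749
def N29489 : Q := sm gf N25749
def N29490 : Q := sm gg N25749
def N29491 : Q := sm gb N25751
def N29492 : Q := sm gd N25752
def N29493 : Q := sm gg N25752
def N29494 : Q := sm gc N25753
def N29495 : Q := sm ge N25753
def N29496 : Q := sm gf N25753
def N29497 : Q := sm gg N25753
def N29498 : Q := sm gf N25757
def N29499 : Q := sm gg N25758
def N29500 : Q := sm gb N25759
def N29501 : Q := sm gb N25760
def N29502 : Q := sm ga N25761
def N29503 : Q := sm gc N25761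
def N29504 : Q := sm gb N25762
def N29505 : Q := sm gc N25762
def N29506 : Q := sm gd N25763
def N29507 : Q := sm gb N25764
def N29508 : Q := sm gd N25764
def N29509 : Q := sm gf N25765
def N29510 : Q := sm gb N25766
def N29511 : Q := sm gd N25767
def N29512 : Q := sm gg N25767
def N29513 : Q := sm gf N25768
def N29514 : Q := sm gb N25769
def N29515 : Q := sm gf N25770
def N29516 : Q := sm gf N25771
def N29517 : Q := sm ga N25773
def N29518 : Q := sm gd N25775
def N29519 : Q := sm gd N25776
def N29520 : Q := sm gc N25777
def N29521 : Q := sm ge N25777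
def N29522 : Q := sm gf N25777
def N29523 : Q := sm gg N25777
def N29524 : Q := sm gd N25780
def N29525 : Q := sm ge N25780
def N29526 : Q := sm gf N25780
def N29527 : Q := sm gg N25780
def N29528 : Q := sm gf N25781
def N29529 : Q := sm gg N25781
def N29530 : Q := sm gg N25782
def N29531 : Q := sm gb N25783
def N29532 : Q := sm gf N25783
def N29533 : Q := sm gb N25784
def N29534 : Q := sm gc N25785
def N29535 : Q := sm gb N25786
def N29536 : Q := sm gb N25787
def N29537 : Q := sm ga N25788
def N29538 : Q := sm gc N25788
def N29539 : Q := sm gf N25788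
def N29540 : Q := sm gc N25789
def N29541 : Q := sm gf N25789
def N29542 : Q := sm gd N25790
def N29543 : Q := sm gf N25790
def N29544 : Q := sm gc N25792
def N29545 : Q := sm ge N25792
def N29546 : Q := sm gb N25793
def N29547 : Q := sm ge N25793
def N29548 : Q := sm gf N25793
def N29549 : Q := sm gg N25793
def N29550 : Q := sm gd N25794
def N29551 : Q := sm gf N25794
def N29552 : Q := sm gg N25794
def N29553 : Q := sm gg N25795
def N29554 : Q := sm gb N25796
def N29556 : Q := sm gc N25797
def N29557 : Q := sm gg N25797
def N29558 : Q := sm gb N25798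
def N29559 : Q := sm gf N25798
def N29560 : Q := sm ga N25799
def N29561 : Q := sm gc N25799
def N29562 : Q := sm gf N25799
def N29563 : Q := sm gb N25800
def N29564 : Q := sm gc N25801
def N29565 : Q := sm gf N25801
def N29566 : Q := sm gb N25802
def N29567 : Q := sm ga N25805
def N29568 : Q := sm gc N25806
def N29569 : Q := sm gb N25807
def N29570 : Q := sm gc N25807
def N29571 : Q := sm gd N25808
def N29572 : Q := sm ge N25810
def N29573 : Q := sm gb N25811
def N29574 : Q := sm ga N25813
def N29575 : Q := sm gc N25813
def N29576 : Q := sm gf N25813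
def N29577 : Q := sm gc N25815
def N29578 : Q := sm gd N25816
def N29579 : Q := sm ga N25818
def N29580 : Q := sm gf N25818
def N29581 : Q := sm ga N25819
def N29582 : Q := sm gc N25819
def N29583 : Q := sm gf N25819
def N29584 : Q := sm gf N25820
def N29585 : Q := sm gf N25821
def N29586 : Q := sm gg N25822
def N29587 : Q := sm gc N25823
def N29588 : Q := sm gg N25823
def N29589 : Q := sm gd N25825
def N29590 : Q := sm gd N25828
def N29591 : Q := sm ge N25830
def N29592 : Q := sm gb N25831
def N29593 : Q := sm gd N25833
def N29594 : Q := sm gc N25835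
def N29595 : Q := sm gc N25836
def N29596 : Q := sm ge N25836
def N29597 : Q := sm gb N25837
def N29598 : Q := sm gd N25837
def N29599 : Q := sm ge N25837
def N29600 : Q := sm gf N25837
def N29601 : Q := sm gf N25838
def N29602 : Q := sm gb N25839
def N29603 : Q := sm ga N25840
def N29604 : Q := sm gc N25841
def N29605 : Q := sm ge N25841
def N29606 : Q := sm gc N25842
def N29607 : Q := sm gd N25843
def N29608 : Q := sm gf N25843
def N29609 : Q := sm ga N25845
def N29610 : Q := sm gb N25847
def N29611 : Q := sm gc N25847
def N29612 : Q := sm gd N25848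
def N29613 : Q := sm gd N25849
def N29614 : Q := sm gd N25851
def N29615 : Q := sm gc N25852
def N29616 : Q := sm ge N25852
def N29617 : Q := sm gd N25856
def N29618 : Q := sm gc N25858
def N29619 : Q := sm gf N25858
def N29620 : Q := sm gb N25861
def N29621 : Q := sm gd N25861
def N29622 : Q := sm gd N25862
def N29623 : Q := sm gc N25863
def N29624 : Q := sm ge N25863
def N29625 : Q := sm gf N25863
def N29626 : Q := sm gb N25864
def N29627 : Q := sm gb N25865
def N29628 : Q := sm gd N25865
def N29629 : Q := sm ge N25865
def N29630 : Q := sm gf N25865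
def N29631 : Q := sm ge N25868
def N29632 : Q := sm gb N25870
def N29633 : Q := sm ge N25870
def N29634 : Q := sm gf N25870
def N29635 : Q := sm gf N25871
def N29636 : Q := sm gb N25872
def N29637 : Q := sm ga N25874
def N29638 : Q := sm gd N25874
def N29639 : Q := sm ge N25874
def N29640 : Q := sm gf N25874
def N29641 : Q := sm gg N25874
def N29642 : Q := sm ge N25875
def N29643 : Q := sm gf N25875
def N29644 : Q := sm gd N25876
def N29645 : Q := sm gf N25876
def N29646 : Q := sm gb N25877
def N29647 : Q := sm ga N25879
def N29648 : Q := sm gc N25879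
def N29649 : Q := sm gg N25879
def N29650 : Q := sm gb N25885
def N29651 : Q := sm ga N25893
def N29652 : Q := sm gf N25893
def N29653 : Q := sm ga N25894
def N29654 : Q := sm gc N25897
def N29655 : Q := sm gf N25898
def N29656 : Q := sm gg N25898
def N29657 : Q := sm gg N25899
def N29658 : Q := sm gc N25901
def N29659 : Q := sm gd N25902
def N29660 : Q := sm gd N25903
def N29661 : Q := sm gc N25905
def N29662 : Q := sm gg N25905
def N29663 : Q := sm gf N25906
def N29664 : Q := sm gb N25907
def N29665 : Q := sm gd N25908
def N29666 : Q := sm gc N25909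
def N29667 : Q := sm gc N25912
def N29668 : Q := sm gd N25914
def N29669 : Q := sm gc N25919
def N29670 : Q := sm ge N25919
def N29671 : Q := sm gd N25920
def N29672 : Q := sm gc N25921
def N29673 : Q := sm ge N25921
def N29674 : Q := sm gf N25921
def N29675 : Q := sm gg N25921
def N29676 : Q := sm gg N25922
def N29677 : Q := sm gb N25923
def N29678 : Q := sm gb N25924
def N29679 : Q := sm gd N25924
def N29680 : Q := sm gf N25924
def N29681 : Q := sm gb N25927
def N29682 : Q := sm gc N25929
def N29683 : Q := sm ge N25929
def N29684 : Q := sm gg N25929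
def N29685 : Q := sm gf N25931
def N29686 : Q := sm gg N25931
def N29687 : Q := sm gf N25932
def N29688 : Q := sm gg N25932
def N29689 : Q := sm gg N25933
def N29690 : Q := sm gb N25938
def N29691 : Q := sm gd N25938
def N29692 : Q := sm ge N25938
def N29693 : Q := sm gf N25938
def N29694 : Q := sm gg N25938
def N29695 : Q := sm gc N25939
def N29696 : Q := sm ge N25939
def N29697 : Q := sm gg N25939
def N29698 : Q := sm gd N25940
def N29699 : Q := sm gf N25940
def N29700 : Q := sm gg N25940
def N29701 : Q := sm gb N25941
def N29702 : Q := sm gg N25941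
def N29703 : Q := sm gf N25942
def N29704 : Q := sm gd N25943
def N29705 : Q := sm gc N25944
def N29706 : Q := sm gf N25944
def N29707 : Q := sm gb N25945
def N29708 : Q := sm ga N25946
def N29709 : Q := sm gc N25946
def N29710 : Q := sm gg N25946
def N29711 : Q := sm ga N25947
def N29712 : Q := sm gc N25947
def N29713 : Q := sm gg N25947
def N29714 : Q := sm gb N25948
def N29715 : Q := sm gc N25948
def N29716 : Q := sm gg N25948
def N29717 : Q := sm gd N25949
def N29718 : Q := sm gg N25949
def N29719 : Q := sm gf N25950
def N29720 : Q := sm gf N25955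
def N29721 : Q := sm gg N25960
def N29722 : Q := sm gb N25962
def N29723 : Q := sm gf N25963
def N29724 : Q := sm gg N25964
def N29725 : Q := sm gb N25965
def N29726 : Q := sm gb N25968
def N29727 : Q := sm gb N25969
def N29728 : Q := sm ga N25970
def N29729 : Q := sm gc N25971
def N29730 : Q := sm gg N25971
def N29731 : Q := sm gb N25972
def N29732 : Q := sm gb N25974
def N29733 : Q := sm gb N25975
def N29734 : Q := sm gf N25977
def N29735 : Q := sm gg N25978
def N29736 : Q := sm gb N25981
def N29737 : Q := sm gg N25981
def N29738 : Q := sm gb N25982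
def N29739 : Q := sm gb N25986
def N29740 : Q := sm gg N25987
def N29741 : Q := sm gg N25989
def N29742 : Q := sm gd N25990
def N29743 : Q := sm gc N25992
def N29744 : Q := sm ge N25992
def N29745 : Q := sm ge N25993
def N29746 : Q := sm gg N25993
def N29747 : Q := sm gf N25995
def N29748 : Q := sm gg N25995
def N29749 : Q := sm gb N25997
def N29750 : Q := sm ga N25999
def N29751 : Q := sm ge N25999
def N29752 : Q := sm gf N25999
def N29753 : Q := sm gg N25999
def N29754 : Q := sm gd N26000
def N29755 : Q := sm gf N26000
def N29756 : Q := sm gg N26000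
def N29757 : Q := sm gb N26001
def N29758 : Q := sm gb N26002
def N29759 : Q := sm gf N26002
def N29760 : Q := sm gg N26003
def N29761 : Q := sm gf N26004
def N29762 : Q := sm gc N26005
def N29763 : Q := sm gg N26005
def N29764 : Q := sm gb N26009
def N29765 : Q := sm ge N26009
def N29766 : Q := sm gf N26009
def N29767 : Q := sm gg N26009
def N29768 : Q := sm gd N26010
def N29769 : Q := sm gf N26010
def N29770 : Q := sm gb N26011
def N29771 : Q := sm gg N26011
def N29772 : Q := sm gf N26012
def N29773 : Q := sm gf N26013
def N29774 : Q := sm gg N26015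
def N29775 : Q := sm gg N26016
def N29776 : Q := sm gf N26017
def N29777 : Q := sm gb N26020
def N29778 : Q := sm ge N26020
def N29779 : Q := sm ga N26022
def N29780 : Q := sm gd N26022
def N29781 : Q := sm ge N26022
def N29782 : Q := sm gf N26022
def N29783 : Q := sm ge N26023
def N29784 : Q := sm gf N26023
def N29785 : Q := sm gg N26023
def N29786 : Q := sm gg N26024
def N29787 : Q := sm gb N26025
def N29788 : Q := sm ge N26027
def N29789 : Q := sm gf N26027
def N29790 : Q := sm gg N26027
def N29791 : Q := sm gd N26028
def N29792 : Q := sm gf N26028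
def N29793 : Q := sm gg N26028
def N29794 : Q := sm gg N26029
def N29795 : Q := sm gf N26030
def N29796 : Q := sm gg N26031
def N29797 : Q := sm gb N26032
def N29798 : Q := sm gg N26032
def N29799 : Q := sm gf N26033
def N29800 : Q := sm gb N26036
def N29801 : Q := sm gc N26037
def N29802 : Q := sm gf N26037
def N29803 : Q := sm gb N26038
def N29804 : Q := sm gb N26040
def N29805 : Q := sm gf N26040
def N29806 : Q := sm gb N26041
def N29807 : Q := sm gc N26046
def N29808 : Q := sm ga N26047
def N29809 : Q := sm gc N26047
def N29810 : Q := sm gf N26047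
def N29811 : Q := sm gc N26048
def N29812 : Q := sm gf N26048
def N29813 : Q := sm gd N26049
def N29814 : Q := sm gf N26049
def N29815 : Q := sm gg N26050
def N29816 : Q := sm gf N26051
def N29817 : Q := sm gg N26053
def N29818 : Q := sm ga N26058
def N29819 : Q := sm gc N26058
def N29820 : Q := sm ga N26061
def N29821 : Q := sm gg N26061
def N29822 : Q := sm gg N26062
def N29823 : Q := sm gg N26063
def N29824 : Q := sm gf N26064
def N29825 : Q := sm gc N26065
def N29826 : Q := sm gf N26065
def N29827 : Q := sm ga N26066
def N29828 : Q := sm gc N26066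
def N29829 : Q := sm gg N26066
def N29830 : Q := sm gd N26068
def N29831 : Q := sm ge N26070
def N29832 : Q := sm gb N26071
def N29833 : Q := sm gd N26075
def N29834 : Q := sm gc N26077
def N29835 : Q := sm ge N26077
def N29836 : Q := sm gd N26078
def N29837 : Q := sm ge N26078
def N29838 : Q := sm gg N26078
def N29839 : Q := sm gg N26079
def N29840 : Q := sm gb N26080
def N29841 : Q := sm ga N26081
def N29842 : Q := sm gc N26082
def N29843 : Q := sm gc N26083
def N29844 : Q := sm gd N26084
def N29845 : Q := sm gg N26084
def N29846 : Q := sm ga N26086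
def N29847 : Q := sm gb N26087
def N29848 : Q := sm gc N26087
def N29849 : Q := sm gd N26088
def N29850 : Q := sm gd N26091
def N29851 : Q := sm gc N26092
def N29852 : Q := sm ge N26092
def N29853 : Q := sm gd N26093
def N29854 : Q := sm gd N26097
def N29855 : Q := sm gc N26099
def N29856 : Q := sm gg N26099
def N29857 : Q := sm gb N26102
def N29858 : Q := sm gd N26102
def N29859 : Q := sm gd N26103
def N29860 : Q := sm gc N26104
def N29861 : Q := sm ge N26104
def N29862 : Q := sm gg N26104
def N29863 : Q := sm gb N26106
def N29864 : Q := sm gd N26106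
def N29865 : Q := sm ge N26106
def N29866 : Q := sm gg N26106
def N29867 : Q := sm ge N26109
def N29868 : Q := sm gb N26111
def N29869 : Q := sm ge N26111
def N29870 : Q := sm ga N26113
def N29871 : Q := sm gd N26113
def N29872 : Q := sm ge N26113
def N29873 : Q := sm gg N26113
def N29874 : Q := sm ge N26114
def N29875 : Q := sm gg N26114
def N29876 : Q := sm gd N26115
def N29877 : Q := sm gg N26115
def N29878 : Q := sm gb N26116
def N29879 : Q := sm ga N26118
def N29880 : Q := sm gc N26118
def N29881 : Q := sm gf N26118
def N29882 : Q := sm gb N26123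
def N29883 : Q := sm ga N26128
def N29884 : Q := sm gg N26128
def N29885 : Q := sm ga N26129
def N29886 : Q := sm gc N26132
def N29887 : Q := sm gf N26133
def N29888 : Q := sm gg N26133
def N29889 : Q := sm gf N26135
def N29890 : Q := sm gc N26136
def N29891 : Q := sm gd N26137
def N29892 : Q := sm gd N26138
def N29893 : Q := sm gc N26140
def N29894 : Q := sm gg N26141
def N29895 : Q := sm gb N26142
def N29896 : Q := sm gd N26143
def N29897 : Q := sm gc N26144
def N29898 : Q := sm gc N26147
def N29899 : Q := sm gd N26149
def N29900 : Q := sm gc N26154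
def N29901 : Q := sm gd N26155
def N29902 : Q := sm gc N26156
def N29903 : Q := sm ge N26156
def N29904 : Q := sm gf N26156
def N29905 : Q := sm gg N26156
def N29906 : Q := sm gb N26157
def N29907 : Q := sm gf N26158
def N29908 : Q := sm gb N26159
def N29909 : Q := sm gd N26159
def N29910 : Q := sm gg N26159
def N29911 : Q := sm gb N26161
def N29912 : Q := sm gf N26164
def N29913 : Q := sm gf N26169
def N29914 : Q := sm gd N26173
def N29915 : Q := sm ge N26173
def N29916 : Q := sm gf N26173
def N29917 : Q := sm gc N26174
def N29918 : Q := sm ge N26174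
def N29919 : Q := sm gf N26174
def N29920 : Q := sm gd N26175
def N29921 : Q := sm gf N26175
def N29922 : Q := sm gg N26176
def N29923 : Q := sm gd N26178
def N29924 : Q := sm gc N26179
def N29925 : Q := sm gg N26179
def N29926 : Q := sm ga N26181
def N29927 : Q := sm gc N26181
def N29928 : Q := sm gf N26181
def N29929 : Q := sm ga N26182
def N29930 : Q := sm gc N26182
def N29931 : Q := sm gf N26182
def N29932 : Q := sm gb N26183
def N29933 : Q := sm gc N26183
def N29934 : Q := sm gf N26183
def N29935 : Q := sm gd N26184
def N29936 : Q := sm gf N26184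
def N29937 : Q := sm gg N26185
def N29938 : Q := sm gg N26190
def N29939 : Q := sm gf N26195
def N29940 : Q := sm gb N26197
def N29941 : Q := sm gg N26198
def N29942 : Q := sm gf N26199
def N29943 : Q := sm gb N26200
def N29944 : Q := sm gb N26203
def N29945 : Q := sm gb N26204
def N29946 : Q := sm ga N26205
def N29947 : Q := sm gc N26206
def N29948 : Q := sm gf N26206
def N29949 : Q := sm gb N26208
def N29950 : Q := sm gb N26209
def N29951 : Q := sm gf N26212
def N29952 : Q := sm gb N26215
def N29953 : Q := sm gb N26216
def N29954 : Q := sm ge N26223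
def N29955 : Q := sm gf N26224
def N29956 : Q := sm gf N26226
def N29957 : Q := sm gg N26226
def N29958 : Q := sm gb N26227
def N29959 : Q := sm ga N26230
def N29960 : Q := sm ge N26230
def N29961 : Q := sm gf N26230
def N29962 : Q := sm gd N26231
def N29963 : Q := sm gf N26231
def N29964 : Q := sm gg N26231
def N29965 : Q := sm gb N26232
def N29966 : Q := sm gg N26232
def N29967 : Q := sm gb N26233
def N29968 : Q := sm gg N26234
def N29969 : Q := sm gf N26235
def N29970 : Q := sm gc N26237
def N29971 : Q := sm gf N26237
def N29972 : Q := sm gb N26240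
def N29973 : Q := sm ge N26240
def N29974 : Q := sm gd N26241
def N29975 : Q := sm gg N26244
def N29976 : Q := sm gf N26246
def N29977 : Q := sm gf N26247
def N29978 : Q := sm gg N26248
def N29979 : Q := sm ge N26251
def N29980 : Q := sm ga N26253
def N29981 : Q := sm gd N26253
def N29982 : Q := sm ge N26253
def N29983 : Q := sm gg N26253
def N29984 : Q := sm ge N26254
def N29985 : Q := sm gf N26254
def N29986 : Q := sm gg N26254
def N29987 : Q := sm gf N26255
def N29988 : Q := sm gb N26257
def N29989 : Q := sm ge N26258
def N29990 : Q := sm gf N26258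
def N29991 : Q := sm gg N26258
def N29992 : Q := sm gd N26259
def N29993 : Q := sm gf N26259
def N29994 : Q := sm gg N26259
def N29995 : Q := sm gg N26260
def N29996 : Q := sm gf N26261
def N29997 : Q := sm gf N26262
def N29998 : Q := sm gg N26263
def N29999 : Q := sm gb N26264
def N30000 : Q := sm gf N26264
def N30001 : Q := sm gc N26268
def N30002 : Q := sm gg N26268
def N30003 : Q := sm gb N26269
def N30004 : Q := sm gb N26271
def N30005 : Q := sm gg N26271
def N30006 : Q := sm gb N26272
def N30007 : Q := sm gc N26277
def N30008 : Q := sm ga N26278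
def N30009 : Q := sm gc N26278
def N30010 : Q := sm gg N26278
def N30011 : Q := sm gc N26279
def N30012 : Q := sm gg N26279
def N30013 : Q := sm gd N26280
def N30014 : Q := sm gg N26280
def N30015 : Q := sm gf N26281
def N30016 : Q := sm gg N26282
def N30017 : Q := sm gf N26284
def N30018 : Q := sm gf N26288
def N30019 : Q := sm gf N26290
def N30020 : Q := sm ge N26294
def N30021 : Q := sm gg N26294
def N30022 : Q := sm gb N26298
def N30023 : Q := sm gb N26299
def N30024 : Q := sm ge N26299
def N30025 : Q := sm gf N26299
def N30026 : Q := sm gg N26299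
def N30027 : Q := sm ga N26303
def N30028 : Q := sm gd N26303
def N30029 : Q := sm ge N26303
def N30030 : Q := sm gf N26303
def N30031 : Q := sm gg N26304
def N30032 : Q := sm gd N26305
def N30033 : Q := sm gf N26305
def N30034 : Q := sm gg N26305
def N30035 : Q := sm gg N26306
def N30036 : Q := sm gf N26307
def N30037 : Q := sm ge N26312
def N30038 : Q := sm gf N26312
def N30039 : Q := sm gg N26312
def N30040 : Q := sm gf N26313
def N30041 : Q := sm gg N26313
def N30042 : Q := sm gg N26314
def N30043 : Q := sm gf N26315
def N30044 : Q := sm gb N26316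
def N30045 : Q := sm ge N26316
def N30046 : Q := sm gf N26316
def N30047 : Q := sm gg N26316
def N30048 : Q := sm gg N26317
def N30049 : Q := sm gb N26318
def N30050 : Q := sm gg N26318
def N30051 : Q := sm gf N26319
def N30052 : Q := sm ga N26323
def N30053 : Q := sm gd N26323
def N30054 : Q := sm ge N26323
def N30055 : Q := sm gf N26323
def N30056 : Q := sm gg N26323
def N30057 : Q := sm ge N26324
def N30058 : Q := sm gf N26324
def N30059 : Q := sm gg N26324
def N30060 : Q := sm gd N26325
def N30061 : Q := sm gf N26325
def N30062 : Q := sm gg N26325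
def N30063 : Q := sm gb N26326
def N30064 : Q := sm gb N26327
def N30065 : Q := sm gb N26329
def N30066 : Q := sm gc N26330
def N30067 : Q := sm gc N26331
def N30068 : Q := sm gd N26332
def N30069 : Q := sm gb N26333
def N30070 : Q := sm ge N26333
def N30071 : Q := sm gf N26333
def N30072 : Q := sm gg N26333
def N30073 : Q := sm gd N26334
def N30074 : Q := sm gf N26334
def N30075 : Q := sm gg N26334
def N30076 : Q := sm gg N26335
def N30077 : Q := sm gb N26336
def N30078 : Q := sm gf N26336
def N30079 : Q := sm gg N26337
def N30080 : Q := sm gg N26338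
def N30081 : Q := sm gb N26339
def N30082 : Q := sm gf N26339
def N30083 : Q := sm gb N26341
def N30084 : Q := sm gf N26342
def N30085 : Q := sm gb N26343
def N30086 : Q := sm gb N26344
def N30087 : Q := sm gb N26345
def N30088 : Q := sm gf N26346
def N30089 : Q := sm ga N26347
def N30090 : Q := sm gc N26347
def N30091 : Q := sm gg N26347
def N30092 : Q := sm gc N26350
def N30093 : Q := sm gd N26351
def N30094 : Q := sm gg N26351
def N30095 : Q := sm gf N26353
def N30096 : Q := sm gg N26353
def N30097 : Q := sm gg N26354
def N30098 : Q := sm gb N26355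
def N30099 : Q := sm gf N26355
def N30100 : Q := sm gb N26357
def N30101 : Q := sm gc N26358
def N30102 : Q := sm gg N26358
def N30103 : Q := sm ga N26359
def N30104 : Q := sm gf N26359
def N30105 : Q := sm gb N26360
def N30106 : Q := sm gb N26361
def N30107 : Q := sm ga N26362
def N30108 : Q := sm gf N26362
def N30109 : Q := sm ga N26363
def N30110 : Q := sm gc N26363
def N30111 : Q := sm gg N26363
def N30112 : Q := sm gg N26364
def N30113 : Q := sm gg N26366
def N30114 : Q := sm ge N26370
def N30115 : Q := sm gf N26370
def N30116 : Q := sm gb N26374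
def N30117 : Q := sm gb N26375
def N30118 : Q := sm ge N26375
def N30119 : Q := sm gf N26375
def N30120 : Q := sm gg N26375
def N30121 : Q := sm ga N26379
def N30122 : Q := sm gd N26379
def N30123 : Q := sm ge N26379
def N30124 : Q := sm gg N26379
def N30125 : Q := sm gf N26380
def N30126 : Q := sm gd N26381
def N30127 : Q := sm gf N26381
def N30128 : Q := sm gg N26381
def N30129 : Q := sm gg N26382
def N30130 : Q := sm gf N26383
def N30131 : Q := sm ge N26388
def N30132 : Q := sm gf N26388
def N30133 : Q := sm gg N26388
def N30134 : Q := sm gf N26389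
def N30135 : Q := sm gg N26389
def N30136 : Q := sm gg N26390
def N30137 : Q := sm gf N26391
def N30138 : Q := sm gb N26392
def N30139 : Q := sm ge N26392
def N30140 : Q := sm gf N26392
def N30141 : Q := sm gg N26392
def N30142 : Q := sm gf N26393
def N30143 : Q := sm gg N26394
def N30144 : Q := sm gb N26395
def N30145 : Q := sm gf N26395
def N30146 : Q := sm ga N26399
def N30147 : Q := sm gd N26399
def N30148 : Q := sm ge N26399
def N30149 : Q := sm gf N26399
def N30150 : Q := sm gg N26399
def N30151 : Q := sm ge N26400
def N30152 : Q := sm gf N26400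
def N30153 : Q := sm gg N26400
def N30154 : Q := sm gd N26401
def N30155 : Q := sm gf N26401
def N30156 : Q := sm gg N26401
def N30157 : Q := sm gb N26402
def N30158 : Q := sm gb N26403
def N30159 : Q := sm gb N26404
def N30160 : Q := sm gc N26406
def N30161 : Q := sm gc N26407
def N30162 : Q := sm gd N26408
def N30163 : Q := sm gb N26409
def N30164 : Q := sm ge N26409
def N30165 : Q := sm gf N26409
def N30166 : Q := sm gg N26409
def N30167 : Q := sm gd N26410
def N30168 : Q := sm gf N26410
def N30169 : Q := sm gg N26410
def N30170 : Q := sm gb N26411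
def N30171 : Q := sm gg N26411
def N30172 : Q := sm gf N26412
def N30173 : Q := sm gf N26413
def N30174 : Q := sm gb N26414
def N30175 : Q := sm gg N26414
def N30176 : Q := sm gf N26415
def N30177 : Q := sm gg N26416
def N30178 : Q := sm gb N26417
def N30179 : Q := sm gb N26419
def N30180 : Q := sm gb N26420
def N30181 : Q := sm gb N26421
def N30182 : Q := sm ga N26422
def N30183 : Q := sm gc N26422
def N30184 : Q := sm gf N26422
def N30185 : Q := sm gg N26423
def N30186 : Q := sm gc N26424
def N30187 : Q := sm gd N26425
def N30188 : Q := sm gf N26425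
def N30189 : Q := sm gf N26429
def N30190 : Q := sm gg N26429
def N30191 : Q := sm gb N26430
def N30192 : Q := sm gg N26430
def N30193 : Q := sm gf N26431
def N30194 : Q := sm gb N26432
def N30195 : Q := sm ga N26434
def N30196 : Q := sm gg N26434
def N30197 : Q := sm gc N26435
def N30198 : Q := sm gf N26435
def N30199 : Q := sm gb N26436
def N30200 : Q := sm gb N26437
def N30201 : Q := sm ga N26438
def N30202 : Q := sm gc N26438
def N30203 : Q := sm gf N26438
def N30204 : Q := sm ga N26439
def N30205 : Q := sm gg N26439
def N30206 : Q := sm gf N26440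
def N30207 : Q := sm gb N26442
def N30208 : Q := sm gf N26442
def N30209 : Q := sm gg N26442
def N30210 : Q := sm gg N26443
def N30211 : Q := sm gf N26445
def N30212 : Q := sm gg N26445
def N30213 : Q := sm gf N26446
def N30214 : Q := sm gg N26446
def N30215 : Q := sm gb N26447
def N30216 : Q := sm gb N26448
def N30217 : Q := sm ge N26449
def N30218 : Q := sm gf N26449
def N30219 : Q := sm gg N26449
def N30220 : Q := sm gf N26450
def N30221 : Q := sm gg N26450
def N30222 : Q := sm gg N26451
def N30223 : Q := sm gf N26452
def N30224 : Q := sm gb N26453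
def N30225 : Q := sm gg N26455
def N30226 : Q := sm gb N26457
def N30227 : Q := sm gf N26457
def N30228 : Q := sm gg N26457
def N30229 : Q := sm gf N26459
def N30230 : Q := sm gf N26460
def N30231 : Q := sm gf N26461
def N30232 : Q := sm gg N26461
def N30233 : Q := sm gb N26462
def N30234 : Q := sm gb N26463
def N30235 : Q := sm ge N26464
def N30236 : Q := sm gf N26464
def N30237 : Q := sm gg N26464
def N30238 : Q := sm gf N26465
def N30239 : Q := sm gg N26465
def N30240 : Q := sm gg N26466
def N30241 : Q := sm gf N26467
def N30242 : Q := sm gb N26469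
def N30243 : Q := sm gf N26470
def N30244 : Q := sm gg N26472
def N30245 : Q := sm gf N26485
def N30246 : Q := sm gg N26490
def N30247 : Q := sm gf N26493
def N30248 : Q := sm gb N26498
def N30249 : Q := sm gf N26500
def N30250 : Q := sm ga N26502
def N30251 : Q := sm gc N26502
def N30252 : Q := sm gb N26507
def N30253 : Q := sm ga N26509
def N30254 : Q := sm gc N26509
def N30255 : Q := sm gg N26509
def N30256 : Q := sm gg N26510
def N30257 : Q := sm gb N26514
def N30258 : Q := sm ga N26515
def N30259 : Q := sm gc N26515
def N30260 : Q := sm gg N26516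
def N30261 : Q := sm gb N26528
def N30262 : Q := sm gg N26530
def N30263 : Q := sm ga N26532
def N30264 : Q := sm gc N26532
def N30265 : Q := sm gb N26537
def N30266 : Q := sm ga N26539
def N30267 : Q := sm gc N26539
def N30268 : Q := sm gf N26539
def N30269 : Q := sm gf N26540
def N30270 : Q := sm gb N26544
def N30271 : Q := sm ga N26545
def N30272 : Q := sm gc N26545
def N30273 : Q := sm gb N26555
def N30274 : Q := sm gf N26555
def N30275 : Q := sm gf N26556
def N30276 : Q := sm gg N26557
def N30277 : Q := sm gf N26559
def N30278 : Q := sm gb N26562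
def N30279 : Q := sm gb N26570
def N30280 : Q := sm gb N26579
def N30281 : Q := sm ge N26586
def N30282 : Q := sm ge N26592
def N30283 : Q := sm gd N26593
def N30284 : Q := sm gf N26593
def N30285 : Q := sm gg N26601
def N30286 : Q := sm ge N26612
def N30287 : Q := sm ge N26618
def N30288 : Q := sm gd N26620
def N30289 : Q := sm gg N26620
def N30290 : Q := sm gd N26626
def N30291 : Q := sm gg N26626
def N30292 : Q := sm gc N26628
def N30293 : Q := sm gf N26628
def N30294 : Q := sm gg N26628
def N30295 : Q := sm gb N26629
def N30296 : Q := sm gf N26630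
def N30297 : Q := sm gf N26634
def N30298 : Q := sm gb N26635
def N30299 : Q := sm gg N26636
def N30300 : Q := sm gg N26638
def N30301 : Q := sm gf N26639
def N30302 : Q := sm ge N26652
def N30303 : Q := sm gd N26653
def N30304 : Q := sm gf N26653
def N30305 : Q := sm gc N26655
def N30306 : Q := sm ge N26661
def N30307 : Q := sm gd N26662
def N30308 : Q := sm gf N26662
def N30309 : Q := sm gg N26662
def N30310 : Q := sm gf N26665
def N30311 : Q := sm gg N26665
def N30312 : Q := sm gg N26666
def N30313 : Q := sm gf N26667
def N30314 : Q := sm ge N26673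
def N30315 : Q := sm gd N26674
def N30316 : Q := sm ge N26677
def N30317 : Q := sm gd N26678
def N30318 : Q := sm gf N26678
def N30319 : Q := sm gg N26678
def N30320 : Q := sm gf N26681
def N30321 : Q := sm gg N26681
def N30322 : Q := sm gd N26684
def N30323 : Q := sm gg N26684
def N30324 : Q := sm gf N26686
def N30325 : Q := sm gg N26686
def N30326 : Q := sm gg N26687
def N30327 : Q := sm gf N26688
def N30328 : Q := sm gg N26692
def N30329 : Q := sm gf N26693
def N30330 : Q := sm gb N26695
def N30331 : Q := sm gb N26700
def N30332 : Q := sm gc N26702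
def N30333 : Q := sm gg N26708
def N30334 : Q := sm gb N26711
def N30335 : Q := sm gg N26711
def N30336 : Q := sm gg N26712
def N30337 : Q := sm gf N26713
def N30338 : Q := sm gg N26715
def N30339 : Q := sm gb N26718
def N30340 : Q := sm gb N26726
def N30341 : Q := sm ge N26740
def N30342 : Q := sm ge N26742
def N30343 : Q := sm gd N26743
def N30344 : Q := sm gg N26743
def N30345 : Q := sm ge N26757
def N30346 : Q := sm ge N26761
def N30347 : Q := sm gd N26763
def N30348 : Q := sm gf N26763
def N30349 : Q := sm gd N26768
def N30350 : Q := sm gf N26768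
def N30351 : Q := sm gc N26770
def N30352 : Q := sm gf N26770
def N30353 : Q := sm gg N26770
def N30354 : Q := sm gg N26771
def N30355 : Q := sm gb N26772
def N30356 : Q := sm gg N26775
def N30357 : Q := sm gb N26776
def N30358 : Q := sm gf N26777
def N30359 : Q := sm gf N26779
def N30360 : Q := sm gg N26780
def N30361 : Q := sm gc N26790
def N30362 : Q := sm gd N26795
def N30363 : Q := sm gf N26798
def N30364 : Q := sm gg N26798
def N30365 : Q := sm gg N26801
def N30366 : Q := sm gf N26802
def N30367 : Q := sm gb N26803
def N30368 : Q := sm gb N26807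
def N30369 : Q := sm gc N26809
def N30370 : Q := sm gf N26815
def N30371 : Q := sm gd N26819
def N30372 : Q := sm gg N26819
def N30373 : Q := sm gc N26821
def N30374 : Q := sm gg N26821
def N30375 : Q := sm gc N26830
def N30376 : Q := sm ge N26830
def N30377 : Q := sm gd N26831
def N30378 : Q := sm gd N26833
def N30379 : Q := sm gg N26833
def N30380 : Q := sm gc N26835
def N30381 : Q := sm gg N26835
def N30382 : Q := sm gc N26837
def N30383 : Q := sm gg N26837
def N30384 : Q := sm gb N26838
def N30385 : Q := sm gb N26840
def N30386 : Q := sm gd N26840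
def N30387 : Q := sm gg N26840
def N30388 : Q := sm gb N26841
def N30389 : Q := sm gf N26841
def N30390 : Q := sm gb N26850
def N30391 : Q := sm gd N26854
def N30392 : Q := sm gf N26854
def N30393 : Q := sm gc N26856
def N30394 : Q := sm gf N26856
def N30395 : Q := sm gc N26865
def N30396 : Q := sm ge N26865
def N30397 : Q := sm gd N26866
def N30398 : Q := sm gd N26868
def N30399 : Q := sm gf N26868
def N30400 : Q := sm gc N26870
def N30401 : Q := sm gf N26870
def N30402 : Q := sm gc N26872
def N30403 : Q := sm gf N26872
def N30404 : Q := sm gb N26873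
def N30405 : Q := sm gb N26875
def N30406 : Q := sm gd N26875
def N30407 : Q := sm gf N26875
def N30408 : Q := sm gb N26876
def N30409 : Q := sm gg N26876
def N30410 : Q := sm gb N26885
def N30411 : Q := sm gd N26890
def N30412 : Q := sm gd N26893
def N30413 : Q := sm gc N26894
def N30414 : Q := sm gf N26894
def N30415 : Q := sm gg N26894
def N30416 : Q := sm gb N26895
def N30417 : Q := sm gb N26896
def N30418 : Q := sm gc N26900
def N30419 : Q := sm gg N26900
def N30420 : Q := sm gb N26901
def N30421 : Q := sm gb N26903
def N30422 : Q := sm gf N26903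
def N30423 : Q := sm gg N26903
def N30424 : Q := sm gb N26905
def N30425 : Q := sm gc N26907
def N30426 : Q := sm gf N26907
def N30427 : Q := sm gb N26908
def N30428 : Q := sm gd N26913
def N30429 : Q := sm gd N26916
def N30430 : Q := sm gc N26917
def N30431 : Q := sm gc N26919
def N30432 : Q := sm gb N26920
def N30433 : Q := sm gf N26920
def N30434 : Q := sm gg N26920
def N30435 : Q := sm gb N26921
def N30436 : Q := sm gc N26924
def N30437 : Q := sm ge N26936
def N30438 : Q := sm gf N26936
def N30439 : Q := sm gd N26939
def N30440 : Q := sm gf N26940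
def N30441 : Q := sm gf N26941
def N30442 : Q := sm ge N26944
def N30443 : Q := sm gd N26945
def N30444 : Q := sm gc N26946
def N30445 : Q := sm ge N26954
def N30446 : Q := sm gg N26954
def N30447 : Q := sm gd N26957
def N30448 : Q := sm gg N26958
def N30449 : Q := sm gg N26959
def N30450 : Q := sm ge N26962
def N30451 : Q := sm gd N26963
def N30452 : Q := sm gc N26964
def N30453 : Q := sm gc N26969
def N30454 : Q := sm gc N26970
def N30455 : Q := sm gg N26971
def N30456 : Q := sm gd N26972
def N30457 : Q := sm gg N26972
def N30458 : Q := sm gc N26974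
def N30459 : Q := sm ge N26974
def N30460 : Q := sm gg N26974
def N30461 : Q := sm gb N26975
def N30462 : Q := sm gf N26975
def N30463 : Q := sm gf N26977
def N30464 : Q := sm gd N26978
def N30465 : Q := sm gf N26978
def N30466 : Q := sm gc N26980
def N30467 : Q := sm ge N26980
def N30468 : Q := sm gf N26980
def N30469 : Q := sm gb N26981
def N30470 : Q := sm gg N26981
def N30471 : Q := sm gb N26985
def N30472 : Q := sm gd N26986
def N30473 : Q := sm gf N26986
def N30474 : Q := sm gc N26988
def N30475 : Q := sm gb N26989
def N30476 : Q := sm gf N26989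
def N30477 : Q := sm gg N26992
def N30478 : Q := sm gb N26994
def N30479 : Q := sm gd N26995
def N30480 : Q := sm gg N26995
def N30481 : Q := sm gc N26997
def N30482 : Q := sm gb N26998
def N30483 : Q := sm gg N26998
def N30484 : Q := sm gf N27001
def N30485 : Q := sm gd N27005
def N30486 : Q := sm ga N27006
def N30487 : Q := sm gf N27006
def N30488 : Q := sm gd N27011
def N30489 : Q := sm ga N27012
def N30490 : Q := sm gg N27012
def N30491 : Q := sm gd N27015
def N30492 : Q := sm gc N27016
def N30493 : Q := sm gg N27017
def N30494 : Q := sm gf N27018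
def N30495 : Q := sm gd N27019
def N30496 : Q := sm gc N27020
def N30497 : Q := sm gf N27021
def N30498 : Q := sm gg N27022
def N30499 : Q := sm gb N27023
def N30500 : Q := sm gd N27023
def N30501 : Q := sm gc N27024
def N30502 : Q := sm gb N27026
def N30503 : Q := sm gd N27026
def N30504 : Q := sm gc N27027
def N30505 : Q := sm ga N27041
def N30506 : Q := sm gc N27041
def N30507 : Q := sm gf N27041
def N30508 : Q := sm gc N27042
def N30509 : Q := sm gb N27048
def N30510 : Q := sm ga N27049
def N30511 : Q := sm gc N27049
def N30512 : Q := sm gg N27049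
def N30513 : Q := sm gc N27050
def N30514 : Q := sm gb N27056
def N30515 : Q := sm gd N27058
def N30516 : Q := sm gd N27063
def N30517 : Q := sm gf N27067
def N30518 : Q := sm gb N27069
def N30519 : Q := sm gc N27070
def N30520 : Q := sm gc N27071
def N30521 : Q := sm ge N27071
def N30522 : Q := sm gc N27072
def N30523 : Q := sm gb N27073
def N30524 : Q := sm gb N27078
def N30525 : Q := sm ge N27078
def N30526 : Q := sm gf N27078
def N30527 : Q := sm gb N27080
def N30528 : Q := sm gf N27083
def N30529 : Q := sm gg N27083
def N30530 : Q := sm gf N27087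
def N30531 : Q := sm gb N27088
def N30532 : Q := sm gg N27088
def N30533 : Q := sm gb N27090
def N30534 : Q := sm gg N27093
def N30535 : Q := sm gb N27095
def N30536 : Q := sm gc N27096
def N30537 : Q := sm gc N27097
def N30538 : Q := sm ge N27097
def N30539 : Q := sm gc N27098
def N30540 : Q := sm gb N27099
def N30541 : Q := sm gb N27104
def N30542 : Q := sm ge N27104
def N30543 : Q := sm gg N27104
def N30544 : Q := sm gb N27106
def N30545 : Q := sm gf N27109
def N30546 : Q := sm gg N27109
def N30547 : Q := sm gg N27113
def N30548 : Q := sm gb N27114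
def N30549 : Q := sm gf N27114
def N30550 : Q := sm gb N27116
def N30551 : Q := sm gd N27119
def N30552 : Q := sm gf N27120
def N30553 : Q := sm gg N27123
def N30554 : Q := sm gg N27125
def N30555 : Q := sm gd N27126
def N30556 : Q := sm gg N27127
def N30557 : Q := sm gf N27130
def N30558 : Q := sm gf N27132
def N30559 : Q := sm gb N27133
def N30560 : Q := sm gf N27134
def N30561 : Q := sm gb N27135
def N30562 : Q := sm gg N27136
def N30563 : Q := sm gb N27137
def N30564 : Q := sm gb N27139
def N30565 : Q := sm gf N27148
def N30566 : Q := sm gg N27157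
def N30567 : Q := sm gg N27162
def N30568 : Q := sm gc N27164
def N30569 : Q := sm gf N27166
def N30570 : Q := sm gf N27169
def N30571 : Q := sm gc N27171
def N30572 : Q := sm gg N27173
def N30573 : Q := sm gg N27178
def N30574 : Q := sm gb N27179
def N30575 : Q := sm gg N27182
def N30576 : Q := sm gb N27183
def N30577 : Q := sm ga N27184
def N30578 : Q := sm gf N27184
def N30579 : Q := sm gb N27185
def N30580 : Q := sm gf N27190
def N30581 : Q := sm gb N27191
def N30582 : Q := sm gf N27194
def N30583 : Q := sm gb N27195
def N30584 : Q := sm ga N27196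
def N30585 : Q := sm gg N27196
def N30586 : Q := sm gb N27197
def N30587 : Q := sm gg N27198
def N30588 : Q := sm gf N27200
def N30589 : Q := sm gb N27203
def N30590 : Q := sm gc N27205
def N30591 : Q := sm gb N27206
def N30592 : Q := sm gb N27207
def N30593 : Q := sm gd N27207
def N30594 : Q := sm gg N27207
def N30595 : Q := sm ga N27209
def N30596 : Q := sm gg N27209
def N30597 : Q := sm gb N27210
def N30598 : Q := sm ga N27211
def N30599 : Q := sm gb N27212
def N30600 : Q := sm gc N27213
def N30601 : Q := sm gb N27215
def N30602 : Q := sm gc N27217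
def N30603 : Q := sm gb N27218
def N30604 : Q := sm gb N27219
def N30605 : Q := sm gd N27219
def N30606 : Q := sm gf N27219
def N30607 : Q := sm ga N27221
def N30608 : Q := sm gf N27221
def N30609 : Q := sm gb N27222
def N30610 : Q := sm ga N27223
def N30611 : Q := sm gb N27224
def N30612 : Q := sm gc N27225
def N30613 : Q := sm gc N27226
def N30614 : Q := sm gf N27226
def N30615 : Q := sm gf N27227
def N30616 : Q := sm gf N27228
def N30617 : Q := sm gg N27229
def N30618 : Q := sm gd N27234
def N30619 : Q := sm gb N27235
def N30620 : Q := sm gd N27235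
def N30621 : Q := sm gd N27236
def N30622 : Q := sm gc N27237
def N30623 : Q := sm gg N27237
def N30624 : Q := sm gc N27241
def N30625 : Q := sm gg N27241
def N30626 : Q := sm gg N27242
def N30627 : Q := sm gg N27243
def N30628 : Q := sm gf N27244
def N30629 : Q := sm gd N27249
def N30630 : Q := sm gb N27250
def N30631 : Q := sm gd N27250
def N30632 : Q := sm gd N27251
def N30633 : Q := sm gc N27252
def N30634 : Q := sm gf N27252
def N30635 : Q := sm gc N27257
def N30636 : Q := sm gd N27258
def N30637 : Q := sm gf N27258
def N30638 : Q := sm gd N27260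
def N30639 : Q := sm gc N27261
def N30640 : Q := sm ge N27261
def N30641 : Q := sm gf N27261
def N30642 : Q := sm gb N27262
def N30643 : Q := sm gc N27263
def N30644 : Q := sm gd N27264
def N30645 : Q := sm gf N27264
def N30646 : Q := sm gg N27264
def N30647 : Q := sm gc N27267
def N30648 : Q := sm gb N27270
def N30649 : Q := sm gd N27270
def N30650 : Q := sm gg N27270
def N30651 : Q := sm ge N27272
def N30652 : Q := sm gg N27272
def N30653 : Q := sm gb N27273
def N30654 : Q := sm gf N27273
def N30655 : Q := sm gc N27282
def N30656 : Q := sm gd N27283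
def N30657 : Q := sm gg N27283
def N30658 : Q := sm gd N27285
def N30659 : Q := sm gc N27286
def N30660 : Q := sm ge N27286
def N30661 : Q := sm gg N27286
def N30662 : Q := sm gb N27287
def N30663 : Q := sm gc N27288
def N30664 : Q := sm gd N27289
def N30665 : Q := sm gf N27289
def N30666 : Q := sm gg N27289
def N30667 : Q := sm gc N27292
def N30668 : Q := sm gb N27295
def N30669 : Q := sm gd N27295
def N30670 : Q := sm gf N27295
def N30671 : Q := sm ge N27297
def N30672 : Q := sm gf N27297
def N30673 : Q := sm gb N27298
def N30674 : Q := sm gg N27298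
def N30675 : Q := sm gf N27314
def N30676 : Q := sm gb N27315
def N30677 : Q := sm gd N27316
def N30678 : Q := sm gc N27319
def N30679 : Q := sm gd N27320
def N30680 : Q := sm gb N27321
def N30681 : Q := sm gf N27321
def N30682 : Q := sm gb N27322
def N30683 : Q := sm ga N27323
def N30684 : Q := sm gc N27323
def N30685 : Q := sm gf N27323
def N30686 : Q := sm gb N27324
def N30687 : Q := sm gd N27327
def N30688 : Q := sm gb N27331
def N30689 : Q := sm gc N27331
def N30690 : Q := sm gc N27336
def N30691 : Q := sm gf N27336
def N30692 : Q := sm gc N27339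
def N30693 : Q := sm gf N27339
def N30694 : Q := sm gd N27341
def N30695 : Q := sm ge N27341
def N30696 : Q := sm gf N27341
def N30697 : Q := sm gb N27343
def N30698 : Q := sm gc N27345
def N30699 : Q := sm gf N27346
def N30700 : Q := sm gb N27347
def N30701 : Q := sm ga N27348
def N30702 : Q := sm gc N27348
def N30703 : Q := sm ga N27349
def N30704 : Q := sm gb N27350
def N30705 : Q := sm gb N27352
def N30706 : Q := sm ga N27353
def N30707 : Q := sm gc N27353
def N30708 : Q := sm gg N27353
def N30709 : Q := sm gg N27354
def N30710 : Q := sm gg N27355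
def N30711 : Q := sm gf N27356
def N30712 : Q := sm ge N27359
def N30713 : Q := sm ge N27360
def N30714 : Q := sm gf N27361
def N30715 : Q := sm gb N27362
def N30716 : Q := sm gc N27364
def N30717 : Q := sm gd N27365
def N30718 : Q := sm gg N27365
def N30719 : Q := sm gc N27367
def N30720 : Q := sm gd N27368
def N30721 : Q := sm gg N27368
def N30722 : Q := sm gg N27370
def N30723 : Q := sm gf N27371
def N30724 : Q := sm gd N27373
def N30725 : Q := sm gd N27374
def N30726 : Q := sm gc N27375
def N30727 : Q := sm ge N27375
def N30728 : Q := sm gf N27375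
def N30729 : Q := sm gg N27375
def N30730 : Q := sm gb N27376
def N30731 : Q := sm gd N27378
def N30732 : Q := sm gc N27379
def N30733 : Q := sm gg N27379
def N30734 : Q := sm ga N27381
def N30735 : Q := sm gc N27381
def N30736 : Q := sm gd N27383
def N30737 : Q := sm ga N27386
def N30738 : Q := sm gd N27386
def N30739 : Q := sm gg N27386
def N30740 : Q := sm gd N27392
def N30741 : Q := sm ge N27393
def N30742 : Q := sm ge N27394
def N30743 : Q := sm gg N27394
def N30744 : Q := sm gg N27395
def N30745 : Q := sm gg N27404
def N30746 : Q := sm gb N27405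
def N30747 : Q := sm gd N27407
def N30748 : Q := sm gc N27410
def N30749 : Q := sm gb N27411
def N30750 : Q := sm gg N27411
def N30751 : Q := sm gb N27413
def N30752 : Q := sm gd N27416
def N30753 : Q := sm gb N27421
def N30754 : Q := sm gg N27426
def N30755 : Q := sm gc N27429
def N30756 : Q := sm gd N27430
def N30757 : Q := sm ge N27430
def N30758 : Q := sm gg N27430
def N30759 : Q := sm gb N27432
def N30760 : Q := sm gg N27435
def N30761 : Q := sm gb N27436
def N30762 : Q := sm ga N27438
def N30763 : Q := sm gb N27441
def N30764 : Q := sm gf N27442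
def N30765 : Q := sm gg N27445
def N30766 : Q := sm gc N27452
def N30767 : Q := sm gd N27453
def N30768 : Q := sm gf N27453
def N30769 : Q := sm gc N27455
def N30770 : Q := sm gd N27456
def N30771 : Q := sm gd N27460
def N30772 : Q := sm gd N27461
def N30773 : Q := sm gc N27462
def N30774 : Q := sm ge N27462
def N30775 : Q := sm gf N27462
def N30776 : Q := sm gg N27462
def N30777 : Q := sm gb N27464
def N30778 : Q := sm gd N27468
def N30779 : Q := sm gd N27474
def N30780 : Q := sm gf N27476
def N30781 : Q := sm gc N27479
def N30782 : Q := sm ga N27480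
def N30783 : Q := sm gf N27480
def N30784 : Q := sm ga N27481
def N30785 : Q := sm gc N27481
def N30786 : Q := sm gf N27481
def N30787 : Q := sm gc N27482
def N30788 : Q := sm gb N27487
def N30789 : Q := sm gc N27488
def N30790 : Q := sm gg N27488
def N30791 : Q := sm ga N27493
def N30792 : Q := sm gc N27493
def N30793 : Q := sm gg N27493
def N30794 : Q := sm gc N27495
def N30795 : Q := sm gc N27497
def N30796 : Q := sm gd N27498
def N30797 : Q := sm gg N27498
def N30798 : Q := sm gf N27500
def N30799 : Q := sm gg N27501
def N30800 : Q := sm gb N27502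
def N30801 : Q := sm gg N27503
def N30802 : Q := sm gf N27504
def N30803 : Q := sm gf N27506
def N30804 : Q := sm gb N27507
def N30805 : Q := sm gd N27510
def N30806 : Q := sm gf N27512
def N30807 : Q := sm gg N27515
def N30808 : Q := sm gb N27518
def N30809 : Q := sm gf N27525
def N30810 : Q := sm gf N27527
def N30811 : Q := sm gg N27527
def N30812 : Q := sm gg N27528
def N30813 : Q := sm gf N27529
def N30814 : Q := sm gc N27530
def N30815 : Q := sm gf N27530
def N30816 : Q := sm gg N27530
def N30817 : Q := sm ge N27533
def N30818 : Q := sm gf N27533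
def N30819 : Q := sm gg N27533
def N30820 : Q := sm gb N27535
def N30821 : Q := sm gb N27536
def N30822 : Q := sm ge N27539
def N30823 : Q := sm gf N27539
def N30824 : Q := sm gg N27539
def N30825 : Q := sm gd N27540
def N30826 : Q := sm gb N27541
def N30827 : Q := sm gg N27541
def N30828 : Q := sm gb N27542
def N30829 : Q := sm gf N27542
def N30830 : Q := sm ga N27545
def N30831 : Q := sm gc N27545
def N30832 : Q := sm gf N27545
def N30833 : Q := sm ge N27546
def N30834 : Q := sm gf N27546
def N30835 : Q := sm gg N27546
def N30836 : Q := sm gf N27547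
def N30837 : Q := sm gb N27548
def N30838 : Q := sm gb N27549
def N30839 : Q := sm gc N27555
def N30840 : Q := sm ga N27556
def N30841 : Q := sm gg N27556
def N30842 : Q := sm gc N27557
def N30843 : Q := sm ga N27558
def N30844 : Q := sm gc N27558
def N30845 : Q := sm gg N27558
def N30846 : Q := sm gb N27563
def N30847 : Q := sm gc N27564
def N30848 : Q := sm gf N27564
def N30849 : Q := sm ga N27569
def N30850 : Q := sm gc N27569
def N30851 : Q := sm gf N27569
def N30852 : Q := sm gc N27571
def N30853 : Q := sm gc N27573
def N30854 : Q := sm gd N27574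
def N30855 : Q := sm gf N27574
def N30856 : Q := sm gg N27576
def N30857 : Q := sm gf N27577
def N30858 : Q := sm gb N27578
def N30859 : Q := sm gf N27579
def N30860 : Q := sm gg N27580
def N30861 : Q := sm gg N27582
def N30862 : Q := sm gb N27583
def N30863 : Q := sm gd N27586
def N30864 : Q := sm gg N27588
def N30865 : Q := sm gf N27591
def N30866 : Q := sm gb N27594
def N30867 : Q := sm gg N27601
def N30868 : Q := sm gf N27603
def N30869 : Q := sm gg N27603
def N30870 : Q := sm gg N27604
def N30871 : Q := sm gf N27605
def N30872 : Q := sm gc N27606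
def N30873 : Q := sm gf N27606
def N30874 : Q := sm gg N27606
def N30875 : Q := sm ge N27609
def N30876 : Q := sm gf N27609
def N30877 : Q := sm gg N27609
def N30878 : Q := sm gb N27611
def N30879 : Q := sm gb N27612
def N30880 : Q := sm ge N27615
def N30881 : Q := sm gf N27615
def N30882 : Q := sm gg N27615
def N30883 : Q := sm gd N27616
def N30884 : Q := sm gb N27617
def N30885 : Q := sm gg N27617
def N30886 : Q := sm gb N27618
def N30887 : Q := sm gf N27618
def N30888 : Q := sm ga N27621
def N30889 : Q := sm gc N27621
def N30890 : Q := sm gg N27621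
def N30891 : Q := sm ge N27622
def N30892 : Q := sm gf N27622
def N30893 : Q := sm gg N27622
def N30894 : Q := sm gg N27623
def N30895 : Q := sm gb N27624
def N30896 : Q := sm gb N27625
def N30897 : Q := sm gd N27631
def N30898 : Q := sm gg N27634
def N30899 : Q := sm ga N27636
def N30900 : Q := sm gf N27636
def N30901 : Q := sm gg N27636
def N30902 : Q := sm gb N27637
def N30903 : Q := sm gb N27638
def N30904 : Q := sm gf N27639
def N30905 : Q := sm gg N27639
def N30906 : Q := sm gb N27642
def N30907 : Q := sm gf N27644
def N30908 : Q := sm gg N27644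
def N30909 : Q := sm gb N27645
def N30910 : Q := sm gb N27646
def N30911 : Q := sm ge N27654
def N30912 : Q := sm gf N27654
def N30913 : Q := sm gf N27655
def N30914 : Q := sm gb N27656
def N30915 : Q := sm ga N27658
def N30916 : Q := sm gc N27658
def N30917 : Q := sm gf N27660
def N30918 : Q := sm gd N27661
def N30919 : Q := sm gf N27661
def N30920 : Q := sm gg N27661
def N30921 : Q := sm gb N27662
def N30922 : Q := sm gb N27663
def N30923 : Q := sm gd N27671
def N30924 : Q := sm gf N27675
def N30925 : Q := sm ga N27676
def N30926 : Q := sm gf N27676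
def N30927 : Q := sm gb N27677
def N30928 : Q := sm gb N27678
def N30929 : Q := sm gf N27679
def N30930 : Q := sm gg N27679
def N30931 : Q := sm gb N27683
def N30932 : Q := sm gf N27684
def N30933 : Q := sm gg N27684
def N30934 : Q := sm gb N27685
def N30935 : Q := sm gb N27686
def N30936 : Q := sm ge N27694
def N30937 : Q := sm gd N27701
def N30938 : Q := sm gf N27701
def N30939 : Q := sm gb N27702
def N30940 : Q := sm gc N27758
def N30941 : Q := sm gf N27769
def N30942 : Q := sm gb N27773
def N30943 : Q := sm gf N27774
def N30944 : Q := sm gc N27783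
def N30945 : Q := sm gg N27794
def N30946 : Q := sm gb N27798
def N30947 : Q := sm gg N27799
def N30948 : Q := sm ge N27800
def N30949 : Q := sm ge N27804
def N30950 : Q := sm ge N27809
def N30951 : Q := sm ge N27813
def N30952 : Q := sm gf N27828
def N30953 : Q := sm gf N27830
def N30954 : Q := sm gg N27832
def N30955 : Q := sm gg N27834
def N30956 : Q := sm gg N27842
def N30957 : Q := sm gf N27844
def N30958 : Q := sm gb N27847
def N30959 : Q := sm gb N27851
def N30960 : Q := sm gb N27854
def N30961 : Q := sm gb N27855
def N30962 : Q := sm gg N27856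
def N30963 : Q := sm gb N27858
def N30964 : Q := sm gb N27859
def N30965 : Q := sm gf N27860
def N30966 : Q := sm gd N27864
def N30967 : Q := sm gc N27865
def N30968 : Q := sm gf N27865
def N30969 : Q := sm gd N27869
def N30970 : Q := sm gc N27870
def N30971 : Q := sm gg N27870
def N30972 : Q := sm gg N27880
def N30973 : Q := sm gf N27881
def N30974 : Q := sm gb N27882
def N30975 : Q := sm gg N27882
def N30976 : Q := sm ge N27884
def N30977 : Q := sm gg N27886
def N30978 : Q := sm gb N27887
def N30979 : Q := sm gg N27888
def N30980 : Q := sm gb N27889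
def N30981 : Q := sm ga N27890
def N30982 : Q := sm gc N27890
def N30983 : Q := sm gf N27890
def N30984 : Q := sm gc N27891
def N30985 : Q := sm gf N27891
def N30986 : Q := sm gc N27892
def N30987 : Q := sm gf N27893
def N30988 : Q := sm gd N27899
def N30989 : Q := sm gd N27900
def N30990 : Q := sm gf N27900
def N30991 : Q := sm gc N27901
def N30992 : Q := sm ge N27901
def N30993 : Q := sm gg N27901
def N30994 : Q := sm gb N27903
def N30995 : Q := sm gb N27905
def N30996 : Q := sm gg N27905
def N30997 : Q := sm ga N27907
def N30998 : Q := sm gg N27907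
def N30999 : Q := sm gb N27908
def N31000 : Q := sm ga N27909
def N31001 : Q := sm gb N27910
def N31002 : Q := sm gf N27910
def N31003 : Q := sm ge N27912
def N31004 : Q := sm gf N27914
def N31005 : Q := sm gb N27915
def N31006 : Q := sm gf N27916
def N31007 : Q := sm gb N27917
def N31008 : Q := sm ga N27918
def N31009 : Q := sm gc N27918
def N31010 : Q := sm gg N27918
def N31011 : Q := sm gc N27919
def N31012 : Q := sm gg N27919
def N31013 : Q := sm gc N27920
def N31014 : Q := sm gg N27921
def N31015 : Q := sm gd N27928
def N31016 : Q := sm gg N27928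
def N31017 : Q := sm gc N27929
def N31018 : Q := sm gf N27929
def N31019 : Q := sm gb N27931
def N31020 : Q := sm gb N27933
def N31021 : Q := sm gf N27933
def N31022 : Q := sm ga N27935
def N31023 : Q := sm gf N27935
def N31024 : Q := sm gb N27936
def N31025 : Q := sm ga N27937
def N31026 : Q := sm ge N27940
def N31027 : Q := sm ge N27944
def N31028 : Q := sm gg N27948
def N31029 : Q := sm gb N27949
def N31030 : Q := sm gf N27950
def N31031 : Q := sm gf N27951
def N31032 : Q := sm gg N27960
def N31033 : Q := sm gb N27961
def N31034 : Q := sm gf N27961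
def N31035 : Q := sm ga N27962
def N31036 : Q := sm gf N27962
def N31037 : Q := sm gb N27963
def N31038 : Q := sm ga N27966
def N31039 : Q := sm gg N27966
def N31040 : Q := sm gf N27970
def N31041 : Q := sm gd N27971
def N31042 : Q := sm gg N27971
def N31043 : Q := sm gg N27973
def N31044 : Q := sm gg N27977
def N31045 : Q := sm ge N27983
def N31046 : Q := sm ge N27985
def N31047 : Q := sm gf N27985
def N31048 : Q := sm gc N27988
def N31049 : Q := sm ga N27989
def N31050 : Q := sm gd N27989
def N31051 : Q := sm gg N27994
def N31052 : Q := sm gd N27999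
def N31053 : Q := sm gf N27999
def N31054 : Q := sm gf N28003
def N31055 : Q := sm gf N28004
def N31056 : Q := sm gb N28005
def N31057 : Q := sm gg N28005
def N31058 : Q := sm gf N28007
def N31059 : Q := sm gb N28008
def N31060 : Q := sm gg N28008
def N31061 : Q := sm gg N28009
def N31062 : Q := sm ga N28012
def N31063 : Q := sm gc N28012
def N31064 : Q := sm gf N28014
def N31065 : Q := sm gf N28020
def N31066 : Q := sm gb N28021
def N31067 : Q := sm gg N28022
def N31068 : Q := sm gg N28023
def N31069 : Q := sm gf N28032
def N31070 : Q := sm gb N28033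
def N31071 : Q := sm gg N28033
def N31072 : Q := sm ga N28034
def N31073 : Q := sm gg N28034
def N31074 : Q := sm gb N28035
def N31075 : Q := sm ga N28038
def N31076 : Q := sm gf N28038
def N31077 : Q := sm gg N28042
def N31078 : Q := sm gd N28043
def N31079 : Q := sm gf N28048
def N31080 : Q := sm ge N28054
def N31081 : Q := sm ge N28056
def N31082 : Q := sm gg N28056
def N31083 : Q := sm gc N28059
def N31084 : Q := sm gf N28064
def N31085 : Q := sm gd N28069
def N31086 : Q := sm gg N28069
def N31087 : Q := sm gg N28073
def N31088 : Q := sm gg N28074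
def N31089 : Q := sm gb N28076
def N31090 : Q := sm gf N28076
def N31091 : Q := sm gg N28077
def N31092 : Q := sm gb N28078
def N31093 : Q := sm gf N28078
def N31094 : Q := sm gf N28079
def N31095 : Q := sm ga N28082
def N31096 : Q := sm gc N28082
def N31097 : Q := sm gg N28084
def N31098 : Q := sm gf N28089
def N31099 : Q := sm gg N28089
def N31100 : Q := sm gb N28091
def N31101 : Q := sm ge N28094
def N31102 : Q := sm gf N28094
def N31103 : Q := sm gg N28094
def N31104 : Q := sm gd N28095
def N31105 : Q := sm gg N28095
def N31106 : Q := sm gb N28096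
def N31107 : Q := sm gg N28100
def N31108 : Q := sm gf N28101
def N31109 : Q := sm gg N28101
def N31110 : Q := sm gb N28106
def N31111 : Q := sm gg N28109
def N31112 : Q := sm gb N28110
def N31113 : Q := sm ge N28112
def N31114 : Q := sm gf N28112
def N31115 : Q := sm gg N28112
def N31116 : Q := sm gd N28113
def N31117 : Q := sm gb N28115
def N31118 : Q := sm gf N28116
def N31119 : Q := sm gf N28117
def N31120 : Q := sm gg N28117
def N31121 : Q := sm gb N28123
def N31122 : Q := sm gf N28124
def N31123 : Q := sm gg N28124
def N31124 : Q := sm gb N28125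
def N31125 : Q := sm gb N28126
def N31126 : Q := sm gd N28129
def N31127 : Q := sm gf N28129
def N31128 : Q := sm gf N28130
def N31129 : Q := sm gb N28131
def N31130 : Q := sm ga N28133
def N31131 : Q := sm gc N28133
def N31132 : Q := sm ge N28135
def N31133 : Q := sm gf N28135
def N31134 : Q := sm gg N28135
def N31135 : Q := sm gf N28136
def N31136 : Q := sm gb N28137
def N31137 : Q := sm gf N28145
def N31138 : Q := sm gg N28145
def N31139 : Q := sm gb N28146
def N31140 : Q := sm gb N28147
def N31141 : Q := sm gd N28150
def N31142 : Q := sm ge N28156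
def N31143 : Q := sm gf N28156
def N31144 : Q := sm ge N28195
def N31145 : Q := sm gg N28197
def N31146 : Q := sm gc N28201
def N31147 : Q := sm gf N28201
def N31148 : Q := sm ge N28207
def N31149 : Q := sm gf N28209
def N31150 : Q := sm gc N28213
def N31151 : Q := sm gg N28213
def N31152 : Q := sm gg N28218
def N31153 : Q := sm gc N28220
def N31154 : Q := sm gd N28223
def N31155 : Q := sm gd N28224
def N31156 : Q := sm gf N28225
def N31157 : Q := sm gd N28233
def N31158 : Q := sm gd N28234
def N31159 : Q := sm gc N28235
def N31160 : Q := sm gg N28235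
def N31161 : Q := sm gc N28237
def N31162 : Q := sm gf N28242
def N31163 : Q := sm gc N28244
def N31164 : Q := sm gd N28246
def N31165 : Q := sm gd N28247
def N31166 : Q := sm gg N28248
def N31167 : Q := sm gd N28255
def N31168 : Q := sm gd N28256
def N31169 : Q := sm gc N28257
def N31170 : Q := sm gf N28257
def N31171 : Q := sm gc N28259
def N31172 : Q := sm ge N28264
def N31173 : Q := sm ge N28267
def N31174 : Q := sm gb N28270
def N31175 : Q := sm gb N28280
def N31176 : Q := sm gg N28290
def N31177 : Q := sm gf N28292
def N31178 : Q := sm gg N28294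
def N31179 : Q := sm gf N28299
def N31180 : Q := sm gc N28304
def N31181 : Q := sm ge N28304
def N31182 : Q := sm gc N28307
def N31183 : Q := sm ge N28307
def N31184 : Q := sm gg N28310
def N31185 : Q := sm gb N28311
def N31186 : Q := sm ga N28315
def N31187 : Q := sm gf N28316
def N31188 : Q := sm gb N28317
def N31189 : Q := sm ga N28321
def N31190 : Q := sm gg N28322
def N31191 : Q := sm gf N28324
def N31192 : Q := sm ga N28325
def N31193 : Q := sm gb N28327
def N31194 : Q := sm gf N28330
def N31195 : Q := sm gg N28332
def N31196 : Q := sm ga N28333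
def N31197 : Q := sm gb N28335
def N31198 : Q := sm gg N28338
def N31199 : Q := sm gf N28342
def N31200 : Q := sm gc N28346
def N31201 : Q := sm gb N28347
def N31202 : Q := sm gd N28347
def N31203 : Q := sm gd N28348
def N31204 : Q := sm gf N28348
def N31205 : Q := sm gc N28349
def N31206 : Q := sm ge N28349
def N31207 : Q := sm gc N28352
def N31208 : Q := sm gb N28353
def N31209 : Q := sm gd N28353
def N31210 : Q := sm gd N28354
def N31211 : Q := sm gg N28354
def N31212 : Q := sm gc N28355
def N31213 : Q := sm ge N28355
def N31214 : Q := sm gf N28358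
def N31215 : Q := sm gg N28358
def N31216 : Q := sm gg N28359
def N31217 : Q := sm gb N28360
def N31218 : Q := sm gb N28361
def N31219 : Q := sm ga N28362
def N31220 : Q := sm gf N28362
def N31221 : Q := sm ga N28365
def N31222 : Q := sm ge N28366
def N31223 : Q := sm gf N28367
def N31224 : Q := sm gf N28368
def N31225 : Q := sm ga N28370
def N31226 : Q := sm gg N28370
def N31227 : Q := sm gg N28371
def N31228 : Q := sm gd N28373
def N31229 : Q := sm gg N28373
def N31230 : Q := sm gb N28375
def N31231 : Q := sm gb N28378
def N31232 : Q := sm gg N28379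
def N31233 : Q := sm gb N28380
def N31234 : Q := sm gg N28380
def N31235 : Q := sm gg N28381
def N31236 : Q := sm gb N28384
def N31237 : Q := sm gf N28386
def N31238 : Q := sm gf N28387
def N31239 : Q := sm gg N28387
def N31240 : Q := sm gb N28388
def N31241 : Q := sm gf N28389
def N31242 : Q := sm ga N28390
def N31243 : Q := sm gg N28390
def N31244 : Q := sm gb N28392
def N31245 : Q := sm ga N28394
def N31246 : Q := sm ge N28395
def N31247 : Q := sm gg N28396
def N31248 : Q := sm gg N28397
def N31249 : Q := sm ga N28399
def N31250 : Q := sm gf N28399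
def N31251 : Q := sm gf N28400
def N31252 : Q := sm gd N28402
def N31253 : Q := sm gf N28402
def N31254 : Q := sm gb N28405
def N31255 : Q := sm gb N28407
def N31256 : Q := sm gf N28408
def N31257 : Q := sm gb N28409
def N31258 : Q := sm gf N28409
def N31259 : Q := sm gf N28410
def N31260 : Q := sm gb N28413
def N31261 : Q := sm gg N28415
def N31262 : Q := sm gg N28420
def N31263 : Q := sm gb N28421
def N31264 : Q := sm gf N28421
def N31265 : Q := sm gb N28422
def N31266 : Q := sm gb N28428
def N31267 : Q := sm gb N28432
def N31268 : Q := sm gb N28434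
def N31269 : Q := sm gf N28434
def N31270 : Q := sm gc N28435
def N31271 : Q := sm gf N28435
def N31272 : Q := sm gc N28437
def N31273 : Q := sm gf N28437
def N31274 : Q := sm gb N28438
def N31275 : Q := sm ga N28439
def N31276 : Q := sm gc N28439
def N31277 : Q := sm gf N28439
def N31278 : Q := sm gb N28440
def N31279 : Q := sm gc N28440
def N31280 : Q := sm gf N28440
def N31281 : Q := sm gf N28441
def N31282 : Q := sm gg N28442
def N31283 : Q := sm gc N28443
def N31284 : Q := sm gf N28446
def N31285 : Q := sm gb N28447
def N31286 : Q := sm gg N28448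
def N31287 : Q := sm gc N28458
def N31288 : Q := sm gb N28459
def N31289 : Q := sm ge N28459
def N31290 : Q := sm gg N28461
def N31291 : Q := sm gf N28474
def N31292 : Q := sm gb N28475
def N31293 : Q := sm gg N28475
def N31294 : Q := sm gb N28476
def N31295 : Q := sm gb N28482
def N31296 : Q := sm gb N28486
def N31297 : Q := sm gb N28488
def N31298 : Q := sm gg N28488
def N31299 : Q := sm gc N28489
def N31300 : Q := sm gg N28489
def N31301 : Q := sm gc N28491
def N31302 : Q := sm gg N28491
def N31303 : Q := sm gb N28492
def N31304 : Q := sm ga N28493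
def N31305 : Q := sm gc N28493
def N31306 : Q := sm gg N28493
def N31307 : Q := sm gb N28494
def N31308 : Q := sm gc N28494
def N31309 : Q := sm gg N28494
def N31310 : Q := sm gg N28495
def N31311 : Q := sm gf N28496
def N31312 : Q := sm gc N28497
def N31313 : Q := sm gg N28500
def N31314 : Q := sm gb N28501
def N31315 : Q := sm gf N28502
def N31316 : Q := sm gb N28512
def N31317 : Q := sm gf N28513
def N31318 : Q := sm gb N28522
def N31319 : Q := sm gd N28522
def N31320 : Q := sm gc N28523
def N31321 : Q := sm ge N28523
def N31322 : Q := sm gg N28525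
def N31323 : Q := sm gb N28526
def N31324 : Q := sm gb N28528
def N31325 : Q := sm ga N28530
def N31326 : Q := sm gc N28530
def N31327 : Q := sm gf N28530
def N31328 : Q := sm gb N28531
def N31329 : Q := sm ga N28532
def N31330 : Q := sm gc N28532
def N31331 : Q := sm gf N28532
def N31332 : Q := sm gb N28533
def N31333 : Q := sm gc N28533
def N31334 : Q := sm gf N28533
def N31335 : Q := sm gf N28534
def N31336 : Q := sm gg N28535
def N31337 : Q := sm gc N28540
def N31338 : Q := sm gc N28541
def N31339 : Q := sm gd N28542
def N31340 : Q := sm gb N28544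
def N31341 : Q := sm ga N28545
def N31342 : Q := sm gf N28545
def N31343 : Q := sm gb N28546
def N31344 : Q := sm gb N28547
def N31345 : Q := sm gd N28547
def N31346 : Q := sm gc N28548
def N31347 : Q := sm ge N28548
def N31348 : Q := sm gf N28550
def N31349 : Q := sm gb N28551
def N31350 : Q := sm gb N28553
def N31351 : Q := sm ga N28554
def N31352 : Q := sm gc N28554
def N31353 : Q := sm gg N28554
def N31354 : Q := sm gb N28556
def N31355 : Q := sm ga N28557
def N31356 : Q := sm gc N28557
def N31357 : Q := sm gg N28557
def N31358 : Q := sm gb N28558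
def N31359 : Q := sm gc N28558
def N31360 : Q := sm gg N28558
def N31361 : Q := sm gg N28559
def N31362 : Q := sm gf N28560
def N31363 : Q := sm gc N28565
def N31364 : Q := sm gc N28566
def N31365 : Q := sm gd N28567
def N31366 : Q := sm gb N28569
def N31367 : Q := sm ga N28570
def N31368 : Q := sm gg N28570
def N31369 : Q := sm gb N28571
def N31370 : Q := sm gb N28573
def N31371 : Q := sm gg N28574
def N31372 : Q := sm gf N28577
def N31373 : Q := sm gb N28579
def N31374 : Q := sm gf N28580
def N31375 : Q := sm gb N28581
def N31376 : Q := sm gf N28581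
def N31377 : Q := sm gf N28582
def N31378 : Q := sm gg N28583
def N31379 : Q := sm gf N28584
def N31380 : Q := sm gc N28586
def N31381 : Q := sm gf N28587
def N31382 : Q := sm gb N28591
def N31383 : Q := sm ga N28592
def N31384 : Q := sm gc N28593
def N31385 : Q := sm ga N28596
def N31386 : Q := sm gc N28596
def N31387 : Q := sm gf N28596
def N31388 : Q := sm gb N28598
def N31389 : Q := sm gc N28598
def N31390 : Q := sm gf N28598
def N31391 : Q := sm gd N28599
def N31392 : Q := sm gf N28599
def N31393 : Q := sm gg N28600
def N31394 : Q := sm gf N28602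
def N31395 : Q := sm gb N28603
def N31396 : Q := sm gb N28606
def N31397 : Q := sm gc N28607
def N31398 : Q := sm gb N28608
def N31399 : Q := sm gd N28608
def N31400 : Q := sm gc N28609
def N31401 : Q := sm ge N28609
def N31402 : Q := sm gc N28611
def N31403 : Q := sm gb N28612
def N31404 : Q := sm gd N28612
def N31405 : Q := sm gf N28612
def N31406 : Q := sm gg N28614
def N31407 : Q := sm ge N28616
def N31408 : Q := sm gb N28626
def N31409 : Q := sm gb N28632
def N31410 : Q := sm gf N28633
def N31411 : Q := sm gg N28635
def N31412 : Q := sm gb N28638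
def N31413 : Q := sm gg N28639
def N31414 : Q := sm gb N28640
def N31415 : Q := sm gg N28640
def N31416 : Q := sm gg N28641
def N31417 : Q := sm gf N28642
def N31418 : Q := sm gc N28644
def N31419 : Q := sm gb N28648
def N31420 : Q := sm ga N28649
def N31421 : Q := sm gc N28650
def N31422 : Q := sm ga N28653
def N31423 : Q := sm gc N28653
def N31424 : Q := sm gg N28653
def N31425 : Q := sm gb N28655
def N31426 : Q := sm gc N28655
def N31427 : Q := sm gg N28655
def N31428 : Q := sm gd N28656
def N31429 : Q := sm gg N28656
def N31430 : Q := sm gf N28657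
def N31431 : Q := sm gg N28659
def N31432 : Q := sm gb N28660
def N31433 : Q := sm gb N28663
def N31434 : Q := sm gc N28664
def N31435 : Q := sm gb N28665
def N31436 : Q := sm ge N28666
def N31437 : Q := sm gc N28668
def N31438 : Q := sm gb N28669
def N31439 : Q := sm gd N28669
def N31440 : Q := sm gg N28669
def N31441 : Q := sm gf N28671
def N31442 : Q := sm ge N28673
def N31443 : Q := sm gb N28683
def N31444 : Q := sm gc N28688
def N31445 : Q := sm gb N28689
def N31446 : Q := sm gb N28691
def N31447 : Q := sm gb N28693
def N31448 : Q := sm ga N28694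
def N31449 : Q := sm gc N28694
def N31450 : Q := sm gf N28694
def N31451 : Q := sm gc N28695
def N31452 : Q := sm gb N28696
def N31453 : Q := sm gc N28696
def N31454 : Q := sm gd N28697
def N31455 : Q := sm gb N28699
def N31456 : Q := sm ga N28700
def N31457 : Q := sm gc N28700
def N31458 : Q := sm gf N28700
def N31459 : Q := sm gb N28701
def N31460 : Q := sm gb N28702
def N31461 : Q := sm ga N28703
def N31462 : Q := sm gf N28703
def N31463 : Q := sm gb N28704
def N31464 : Q := sm ga N28705
def N31465 : Q := sm gc N28705
def N31466 : Q := sm gf N28705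
def N31467 : Q := sm gf N28706
def N31468 : Q := sm gb N28707
def N31469 : Q := sm gg N28707
def N31470 : Q := sm ga N28708
def N31471 : Q := sm gc N28708
def N31472 : Q := sm gg N28708
def N31473 : Q := sm ga N28710
def N31474 : Q := sm gc N28710
def N31475 : Q := sm gg N28714
def N31476 : Q := sm gf N28715
def N31477 : Q := sm gb N28721
def N31478 : Q := sm gg N28721
def N31479 : Q := sm gb N28725
def N31480 : Q := sm ge N28725
def N31481 : Q := sm gf N28726
def N31482 : Q := sm gb N28729
def N31483 : Q := sm gc N28730
def N31484 : Q := sm ga N28731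
def N31485 : Q := sm gg N28731
def N31486 : Q := sm gb N28733
def N31487 : Q := sm gd N28735
def N31488 : Q := sm gf N28735
def N31489 : Q := sm gg N28736
def N31490 : Q := sm gg N28737
def N31491 : Q := sm gf N28738
def N31492 : Q := sm ga N28740
def N31493 : Q := sm gf N28740
def N31494 : Q := sm gg N28742
def N31495 : Q := sm gc N28746
def N31496 : Q := sm gf N28746
def N31497 : Q := sm gc N28747
def N31498 : Q := sm gd N28748
def N31499 : Q := sm gf N28748
def N31500 : Q := sm gc N28752
def N31501 : Q := sm gb N28753
def N31502 : Q := sm gb N28755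
def N31503 : Q := sm gb N28757
def N31504 : Q := sm gg N28758
def N31505 : Q := sm gc N28759
def N31506 : Q := sm gb N28760
def N31507 : Q := sm gc N28760
def N31508 : Q := sm gd N28761
def N31509 : Q := sm gb N28763
def N31510 : Q := sm ga N28764
def N31511 : Q := sm gc N28764
def N31512 : Q := sm gg N28764
def N31513 : Q := sm gb N28765
def N31514 : Q := sm gb N28766
def N31515 : Q := sm ga N28767
def N31516 : Q := sm gg N28767
def N31517 : Q := sm gb N28768
def N31518 : Q := sm gg N28769
def N31519 : Q := sm gb N28770
def N31520 : Q := sm gf N28770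
def N31521 : Q := sm ga N28771
def N31522 : Q := sm gc N28771
def N31523 : Q := sm gf N28771
def N31524 : Q := sm ga N28772
def N31525 : Q := sm gc N28772
def N31526 : Q := sm gg N28772
def N31527 : Q := sm ga N28773
def N31528 : Q := sm gc N28773
def N31529 : Q := sm gf N28776
def N31530 : Q := sm gg N28777
def N31531 : Q := sm gb N28785
def N31532 : Q := sm gf N28785
def N31533 : Q := sm gb N28789
def N31534 : Q := sm ge N28789
def N31535 : Q := sm gg N28790
def N31536 : Q := sm gb N28793
def N31537 : Q := sm gc N28794
def N31538 : Q := sm ga N28795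
def N31539 : Q := sm gf N28795
def N31540 : Q := sm gb N28796
def N31541 : Q := sm gg N28799
def N31542 : Q := sm gg N28800
def N31543 : Q := sm gf N28801
def N31544 : Q := sm gf N28802
def N31545 : Q := sm gc N28804
def N31546 : Q := sm gg N28804
def N31547 : Q := sm gc N28805
def N31548 : Q := sm gd N28806
def N31549 : Q := sm gg N28806
def N31550 : Q := sm gb N28810
def N31551 : Q := sm gb N28811
def N31552 : Q := sm gc N28812
def N31553 : Q := sm gf N28812
def N31554 : Q := sm gf N28814
def N31555 : Q := sm gb N28818
def N31556 : Q := sm gc N28820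
def N31557 : Q := sm gf N28820
def N31558 : Q := sm gb N28821
def N31559 : Q := sm gb N28823
def N31560 : Q := sm ga N28825
def N31561 : Q := sm gf N28825
def N31562 : Q := sm gb N28826
def N31563 : Q := sm ga N28827
def N31564 : Q := sm gb N28829
def N31565 : Q := sm ga N28830
def N31566 : Q := sm gc N28830
def N31567 : Q := sm gg N28830
def N31568 : Q := sm gd N28835
def N31569 : Q := sm gg N28835
def N31570 : Q := sm gb N28838
def N31571 : Q := sm gb N28839
def N31572 : Q := sm gc N28840
def N31573 : Q := sm gg N28840
def N31574 : Q := sm gg N28841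
def N31575 : Q := sm gb N28846
def N31576 : Q := sm gc N28847
def N31577 : Q := sm gg N28847
def N31578 : Q := sm gb N28848
def N31579 : Q := sm gb N28851
def N31580 : Q := sm ga N28852
def N31581 : Q := sm gg N28852
def N31582 : Q := sm gb N28853
def N31583 : Q := sm gb N28856
def N31584 : Q := sm ga N28857
def N31585 : Q := sm gc N28857
def N31586 : Q := sm gf N28857
def N31587 : Q := sm ga N28858
def N31588 : Q := sm gd N28861
def N31589 : Q := sm gf N28861
def N31590 : Q := sm gb N28872
def N31591 : Q := sm gb N28876
def N31592 : Q := sm gc N28884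
def N31593 : Q := sm gc N28892
def N31594 : Q := sm gd N28896
def N31595 : Q := sm ge N28898
def N31596 : Q := sm gd N28900
def N31597 : Q := sm gc N28901
def N31598 : Q := sm gd N28902
def N31599 : Q := sm gd N28903
def N31600 : Q := sm gd N28904
def N31601 : Q := sm gd N28905
def N31602 : Q := sm gc N28906
def N31603 : Q := sm gf N28906
def N31604 : Q := sm gd N28909
def N31605 : Q := sm gd N28910
def N31606 : Q := sm ge N28912
def N31607 : Q := sm gd N28914
def N31608 : Q := sm gc N28915
def N31609 : Q := sm gd N28916
def N31610 : Q := sm gd N28917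
def N31611 : Q := sm gd N28918
def N31612 : Q := sm gc N28919
def N31613 : Q := sm gg N28919
def N31614 : Q := sm gg N28928
def N31615 : Q := sm gf N28937
def N31616 : Q := sm ge N28944
def N31617 : Q := sm ge N28946
def N31618 : Q := sm ge N28949
def N31619 : Q := sm ge N28950
def N31620 : Q := sm gb N28961
def N31621 : Q := sm ga N28962
def N31622 : Q := sm gc N28962
def N31623 : Q := sm gf N28962
def N31624 : Q := sm gd N28964
def N31625 : Q := sm gg N28965
def N31626 : Q := sm ga N28967
def N31627 : Q := sm gf N28967
def N31628 : Q := sm gb N28970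
def N31629 : Q := sm gb N28976
def N31630 : Q := sm ga N28977
def N31631 : Q := sm gc N28977
def N31632 : Q := sm gg N28977
def N31633 : Q := sm gd N28979
def N31634 : Q := sm gf N28980
def N31635 : Q := sm ga N28982
def N31636 : Q := sm gg N28982
def N31637 : Q := sm gb N28985
def N31638 : Q := sm ge N28988
def N31639 : Q := sm gf N28988
def N31640 : Q := sm gd N28989
def N31641 : Q := sm gf N28989
def N31642 : Q := sm gb N28990
def N31643 : Q := sm ge N28994
def N31644 : Q := sm gg N28994
def N31645 : Q := sm gd N28995
def N31646 : Q := sm gg N28995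
def N31647 : Q := sm gb N28996
def N31648 : Q := sm gc N28998
def N31649 : Q := sm gd N28999
def N31650 : Q := sm gc N29000
def N31651 : Q := sm gd N29001
def N31652 : Q := sm gc N29003
def N31653 : Q := sm gc N29005
def N31654 : Q := sm gf N29007
def N31655 : Q := sm gg N29012
def N31656 : Q := sm gb N29016
def N31657 : Q := sm gf N29017
def N31658 : Q := sm gf N29018
def N31659 : Q := sm gf N29020
def N31660 : Q := sm ga N29021
def N31661 : Q := sm gf N29021
def N31662 : Q := sm gb N29022
def N31663 : Q := sm gf N29023
def N31664 : Q := sm ga N29025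
def N31665 : Q := sm gc N29025
def N31666 : Q := sm gf N29025
def N31667 : Q := sm gb N29027
def N31668 : Q := sm gg N29028
def N31669 : Q := sm gg N29029
def N31670 : Q := sm gg N29031
def N31671 : Q := sm ga N29032
def N31672 : Q := sm gg N29032
def N31673 : Q := sm gb N29033
def N31674 : Q := sm gg N29034
def N31675 : Q := sm ga N29036
def N31676 : Q := sm gc N29036
def N31677 : Q := sm gg N29036
def N31678 : Q := sm gd N29039
def N31679 : Q := sm gc N29040
def N31680 : Q := sm ga N29041
def N31681 : Q := sm gd N29043
def N31682 : Q := sm ge N29044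
def N31683 : Q := sm gd N29046
def N31684 : Q := sm gc N29047
def N31685 : Q := sm ga N29048
def N31686 : Q := sm gd N29050
def N31687 : Q := sm ge N29051
def N31688 : Q := sm gc N29052
def N31689 : Q := sm gd N29053
def N31690 : Q := sm gc N29054
def N31691 : Q := sm gd N29055
def N31692 : Q := sm ga N29058
def N31693 : Q := sm gg N29058
def N31694 : Q := sm ge N29061
def N31695 : Q := sm gg N29061
def N31696 : Q := sm gf N29063
def N31697 : Q := sm ge N29065
def N31698 : Q := sm gf N29065
def N31699 : Q := sm gd N29066
def N31700 : Q := sm ga N29069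
def N31701 : Q := sm gf N29069
def N31702 : Q := sm ge N29072
def N31703 : Q := sm gf N29072
def N31704 : Q := sm gg N29073
def N31705 : Q := sm ge N29076
def N31706 : Q := sm gg N29076
def N31707 : Q := sm gd N29077
def N31708 : Q := sm ga N29078
def N31709 : Q := sm gf N29078
def N31710 : Q := sm gb N29082
def N31711 : Q := sm gd N29082
def N31712 : Q := sm gf N29083
def N31713 : Q := sm gb N29084
def N31714 : Q := sm gf N29090
def N31715 : Q := sm gg N29090
def N31716 : Q := sm gf N29091
def N31717 : Q := sm gb N29092
def N31718 : Q := sm ga N29094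
def N31719 : Q := sm gc N29094
def N31720 : Q := sm gb N29095
def N31721 : Q := sm gg N29097
def N31722 : Q := sm gb N29099
def N31723 : Q := sm gg N29102
def N31724 : Q := sm gg N29103
def N31725 : Q := sm gf N29104
def N31726 : Q := sm ga N29105
def N31727 : Q := sm gb N29108
def N31728 : Q := sm gc N29109
def N31729 : Q := sm gf N29111
def N31730 : Q := sm gf N29112
def N31731 : Q := sm gg N29112
def N31732 : Q := sm gb N29113
def N31733 : Q := sm gf N29114
def N31734 : Q := sm gb N29115
def N31735 : Q := sm gg N29115
def N31736 : Q := sm gb N29117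
def N31737 : Q := sm ga N29118
def N31738 : Q := sm gc N29118
def N31739 : Q := sm gg N29118
def N31740 : Q := sm gb N29119
def N31741 : Q := sm gb N29120
def N31742 : Q := sm gg N29121
def N31743 : Q := sm gb N29122
def N31744 : Q := sm ga N29123
def N31745 : Q := sm gc N29123
def N31746 : Q := sm gf N29123
def N31747 : Q := sm gc N29124
def N31748 : Q := sm gf N29124
def N31749 : Q := sm gg N29124
def N31750 : Q := sm gf N29125
def N31751 : Q := sm gc N29126
def N31752 : Q := sm gf N29126
def N31753 : Q := sm gf N29127
def N31754 : Q := sm ga N29132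
def N31755 : Q := sm gg N29132
def N31756 : Q := sm gd N29133
def N31757 : Q := sm gg N29134
def N31758 : Q := sm gb N29135
def N31759 : Q := sm gf N29141
def N31760 : Q := sm gg N29141
def N31761 : Q := sm gg N29142
def N31762 : Q := sm gb N29143
def N31763 : Q := sm ga N29145
def N31764 : Q := sm gc N29145
def N31765 : Q := sm gb N29146
def N31766 : Q := sm gf N29148
def N31767 : Q := sm gb N29149
def N31768 : Q := sm gf N29153
def N31769 : Q := sm gg N29154
def N31770 : Q := sm gf N29155
def N31771 : Q := sm gb N29159
def N31772 : Q := sm gc N29160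
def N31773 : Q := sm gg N29162
def N31774 : Q := sm gf N29163
def N31775 : Q := sm gg N29163
def N31776 : Q := sm gg N29164
def N31777 : Q := sm gb N29165
def N31778 : Q := sm gb N29166
def N31779 : Q := sm gf N29166
def N31780 : Q := sm gb N29168
def N31781 : Q := sm ga N29169
def N31782 : Q := sm gc N29169
def N31783 : Q := sm gf N29169
def N31784 : Q := sm gb N29170
def N31785 : Q := sm gb N29171
def N31786 : Q := sm gf N29172
def N31787 : Q := sm gb N29173
def N31788 : Q := sm ga N29174
def N31789 : Q := sm gc N29174
def N31790 : Q := sm gg N29174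
def N31791 : Q := sm gc N29175
def N31792 : Q := sm gf N29175
def N31793 : Q := sm gg N29175
def N31794 : Q := sm gg N29176
def N31795 : Q := sm gc N29177
def N31796 : Q := sm gg N29177
def N31797 : Q := sm gg N29178
def N31798 : Q := sm gc N29181
def N31799 : Q := sm gb N29182
def N31800 : Q := sm ge N29182
def N31801 : Q := sm gf N29183
def N31802 : Q := sm gf N29187
def N31803 : Q := sm gb N29189
def N31804 : Q := sm gc N29190
def N31805 : Q := sm gb N29191
def N31806 : Q := sm gd N29191
def N31807 : Q := sm ge N29191
def N31808 : Q := sm gf N29192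
def N31809 : Q := sm ga N29195
def N31810 : Q := sm ge N29195
def N31811 : Q := sm gg N29195
def N31812 : Q := sm ge N29197
def N31813 : Q := sm gb N29200
def N31814 : Q := sm ga N29202
def N31815 : Q := sm gc N29202
def N31816 : Q := sm gc N29203
def N31817 : Q := sm gd N29204
def N31818 : Q := sm gf N29206
def N31819 : Q := sm gb N29209
def N31820 : Q := sm gf N29212
def N31821 : Q := sm gb N29213
def N31822 : Q := sm ga N29215
def N31823 : Q := sm gc N29215
def N31824 : Q := sm gg N29215
def N31825 : Q := sm gg N29216
def N31826 : Q := sm gb N29220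
def N31827 : Q := sm ga N29221
def N31828 : Q := sm gc N29221
def N31829 : Q := sm gg N29221
def N31830 : Q := sm gb N29222
def N31831 : Q := sm ga N29223
def N31832 : Q := sm gc N29223
def N31833 : Q := sm gg N29223
def N31834 : Q := sm gb N29224
def N31835 : Q := sm gb N29225
def N31836 : Q := sm gd N29226
def N31837 : Q := sm ga N29228
def N31838 : Q := sm gd N29229
def N31839 : Q := sm ga N29231
def N31840 : Q := sm ge N29232
def N31841 : Q := sm gb N29233
def N31842 : Q := sm gc N29237
def N31843 : Q := sm gg N29238
def N31844 : Q := sm gg N29242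
def N31845 : Q := sm gb N29244
def N31846 : Q := sm gc N29245
def N31847 : Q := sm gb N29246
def N31848 : Q := sm gd N29246
def N31849 : Q := sm ge N29246
def N31850 : Q := sm gg N29247
def N31851 : Q := sm ga N29250
def N31852 : Q := sm ge N29250
def N31853 : Q := sm gf N29250
def N31854 : Q := sm ge N29252
def N31855 : Q := sm gb N29255
def N31856 : Q := sm ga N29257
def N31857 : Q := sm gc N29257
def N31858 : Q := sm gc N29258
def N31859 : Q := sm gd N29259
def N31860 : Q := sm gg N29261
def N31861 : Q := sm gb N29264
def N31862 : Q := sm gg N29266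
def N31863 : Q := sm gb N29268
def N31864 : Q := sm ga N29270
def N31865 : Q := sm gc N29270
def N31866 : Q := sm gf N29270
def N31867 : Q := sm gf N29271
def N31868 : Q := sm gb N29275
def N31869 : Q := sm ga N29276
def N31870 : Q := sm gc N29276
def N31871 : Q := sm gf N29276
def N31872 : Q := sm gb N29277
def N31873 : Q := sm ga N29278
def N31874 : Q := sm gc N29278
def N31875 : Q := sm gf N29278
def N31876 : Q := sm gb N29279
def N31877 : Q := sm gb N29280
def N31878 : Q := sm ga N29283
def N31879 : Q := sm gd N29284
def N31880 : Q := sm ga N29286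
def N31881 : Q := sm gb N29287
def N31882 : Q := sm gd N29291
def N31883 : Q := sm gf N29291
def N31884 : Q := sm gb N29293
def N31885 : Q := sm gc N29298
def N31886 : Q := sm gb N29301
def N31887 : Q := sm gd N29301
def N31888 : Q := sm gc N29302
def N31889 : Q := sm ge N29302
def N31890 : Q := sm ga N29303
def N31891 : Q := sm gd N29303
def N31892 : Q := sm gf N29303
def N31893 : Q := sm gc N29304
def N31894 : Q := sm ge N29304
def N31895 : Q := sm gf N29304
def N31896 : Q := sm gb N29305
def N31897 : Q := sm gb N29306
def N31898 : Q := sm gd N29306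
def N31899 : Q := sm gf N29306
def N31900 : Q := sm gf N29307
def N31901 : Q := sm gb N29308
def N31902 : Q := sm ga N29312
def N31903 : Q := sm ge N29312
def N31904 : Q := sm gg N29312
def N31905 : Q := sm gb N29315
def N31906 : Q := sm ga N29316
def N31907 : Q := sm gc N29316
def N31908 : Q := sm gd N29319
def N31909 : Q := sm gd N29320
def N31910 : Q := sm gc N29327
def N31911 : Q := sm ge N29328
def N31912 : Q := sm gg N29328
def N31913 : Q := sm gd N29330
def N31914 : Q := sm gf N29330
def N31915 : Q := sm gb N29332
def N31916 : Q := sm gc N29333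
def N31917 : Q := sm gd N29334
def N31918 : Q := sm gg N29337
def N31919 : Q := sm gg N29338
def N31920 : Q := sm gb N29341
def N31921 : Q := sm gd N29341
def N31922 : Q := sm gf N29341
def N31923 : Q := sm gc N29342
def N31924 : Q := sm ge N29342
def N31925 : Q := sm gf N29342
def N31926 : Q := sm gg N29342
def N31927 : Q := sm gb N29343
def N31928 : Q := sm gb N29345
def N31929 : Q := sm gc N29350
def N31930 : Q := sm ge N29350
def N31931 : Q := sm gf N29350
def N31932 : Q := sm gb N29351
def N31933 : Q := sm ge N29352
def N31934 : Q := sm gf N29353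
def N31935 : Q := sm gg N29353
def N31936 : Q := sm gg N29356
def N31937 : Q := sm gc N29358
def N31938 : Q := sm gf N29358
def N31939 : Q := sm gb N29359
def N31940 : Q := sm ga N29361
def N31941 : Q := sm gc N29361
def N31942 : Q := sm gb N29362
def N31943 : Q := sm gc N29362
def N31944 : Q := sm ga N29364
def N31945 : Q := sm gc N29364
def N31946 : Q := sm gg N29364
def N31947 : Q := sm gb N29365
def N31948 : Q := sm gd N29365
def N31949 : Q := sm gb N29369
def N31950 : Q := sm ga N29370
def N31951 : Q := sm gf N29370
def N31952 : Q := sm gb N29377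
def N31953 : Q := sm gc N29379
def N31954 : Q := sm ge N29379
def N31955 : Q := sm gb N29380
def N31956 : Q := sm ge N29380
def N31957 : Q := sm gf N29381
def N31958 : Q := sm gg N29381
def N31959 : Q := sm gd N29385
def N31960 : Q := sm gf N29385
def N31961 : Q := sm gg N29385
def N31962 : Q := sm gb N29386
def N31963 : Q := sm gf N29387
def N31964 : Q := sm gb N29388
def N31965 : Q := sm gg N29388
def N31966 : Q := sm gf N29389
def N31967 : Q := sm gb N29391
def N31968 : Q := sm gb N29392
def N31969 : Q := sm gd N29393
def N31970 : Q := sm ga N29394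
def N31971 : Q := sm gc N29394
def N31972 : Q := sm ga N29395
def N31973 : Q := sm ga N29396
def N31974 : Q := sm gc N29396
def N31975 : Q := sm gg N29396
def N31976 : Q := sm gg N29397
def N31977 : Q := sm gb N29400
def N31978 : Q := sm gd N29400
def N31979 : Q := sm gg N29400
def N31980 : Q := sm gb N29401
def N31981 : Q := sm ge N29402
def N31982 : Q := sm gg N29402
def N31983 : Q := sm gb N29404
def N31984 : Q := sm ga N29406
def N31985 : Q := sm ge N29406
def N31986 : Q := sm gd N29407
def N31987 : Q := sm gf N29407
def N31988 : Q := sm gc N29410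
def N31989 : Q := sm gf N29410
def N31990 : Q := sm gg N29410
def N31991 : Q := sm gb N29411
def N31992 : Q := sm ga N29413
def N31993 : Q := sm gc N29413
def N31994 : Q := sm gb N29416
def N31995 : Q := sm gf N29416
def N31996 : Q := sm gb N29417
def N31997 : Q := sm gg N29417
def N31998 : Q := sm gg N29418
def N31999 : Q := sm gb N29419
def N32000 : Q := sm ga N29423
def N32001 : Q := sm ga N29426
def N32002 : Q := sm gb N29427
def N32003 : Q := sm gd N29428
def N32004 : Q := sm ga N29429
def N32005 : Q := sm gc N29429
def N32006 : Q := sm gf N29429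
def N32007 : Q := sm gb N29430
def N32008 : Q := sm gd N29430
def N32009 : Q := sm gc N29431
def N32010 : Q := sm ge N29431
def N32011 : Q := sm ga N29433
def N32012 : Q := sm gg N29433
def N32013 : Q := sm gd N29434
def N32014 : Q := sm gg N29434
def N32015 : Q := sm gb N29436
def N32016 : Q := sm gc N29441
def N32017 : Q := sm ge N29441
def N32018 : Q := sm gc N29442
def N32019 : Q := sm gb N29444
def N32020 : Q := sm gd N29444
def N32021 : Q := sm gc N29445
def N32022 : Q := sm ge N29445
def N32023 : Q := sm gd N29446
def N32024 : Q := sm gg N29446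
def N32025 : Q := sm gc N29447
def N32026 : Q := sm ge N29447
def N32027 : Q := sm gg N29447
def N32028 : Q := sm gb N29448
def N32029 : Q := sm gb N29449
def N32030 : Q := sm gd N29449
def N32031 : Q := sm gg N29449
def N32032 : Q := sm gg N29450
def N32033 : Q := sm ga N29454
def N32034 : Q := sm ge N29454
def N32035 : Q := sm gf N29454
def N32036 : Q := sm gb N29457
def N32037 : Q := sm gd N29461
def N32038 : Q := sm gd N29462
def N32039 : Q := sm gc N29469
def N32040 : Q := sm gf N29470
def N32041 : Q := sm gd N29472
def N32042 : Q := sm gg N29472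
def N32043 : Q := sm gb N29474
def N32044 : Q := sm gc N29475
def N32045 : Q := sm gd N29476
def N32046 : Q := sm gf N29479
def N32047 : Q := sm gf N29480
def N32048 : Q := sm gb N29483
def N32049 : Q := sm gd N29483
def N32050 : Q := sm gg N29483
def N32051 : Q := sm gc N29484
def N32052 : Q := sm ge N29484
def N32053 : Q := sm gf N29484
def N32054 : Q := sm gg N29484
def N32055 : Q := sm gb N29486
def N32056 : Q := sm gb N29487
def N32057 : Q := sm ge N29492
def N32058 : Q := sm gg N29492
def N32059 : Q := sm ge N29494
def N32060 : Q := sm gf N29495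
def N32061 : Q := sm gg N29495
def N32062 : Q := sm ga N29501
def N32063 : Q := sm gc N29501
def N32064 : Q := sm gb N29502
def N32065 : Q := sm gc N29502
def N32066 : Q := sm gc N29504
def N32067 : Q := sm gb N29505
def N32068 : Q := sm gd N29505
def N32069 : Q := sm gb N29509
def N32070 : Q := sm ga N29510
def N32071 : Q := sm gb N29517
def N32072 : Q := sm gc N29519
def N32073 : Q := sm ge N29519
def N32074 : Q := sm gb N29520
def N32075 : Q := sm ge N29520
def N32076 : Q := sm gf N29521
def N32077 : Q := sm gg N29521
def N32078 : Q := sm gd N29525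
def N32079 : Q := sm gf N29525
def N32080 : Q := sm gg N29525
def N32081 : Q := sm gg N29526
def N32082 : Q := sm gg N29528
def N32083 : Q := sm gb N29529
def N32084 : Q := sm gf N29529
def N32085 : Q := sm gb N29530
def N32086 : Q := sm gb N29532
def N32087 : Q := sm gd N29534
def N32088 : Q := sm gc N29535
def N32089 : Q := sm ga N29536
def N32090 : Q := sm gc N29536
def N32091 : Q := sm gf N29536
def N32092 : Q := sm gf N29537
def N32093 : Q := sm gd N29540
def N32094 : Q := sm gf N29540
def N32095 : Q := sm ge N29542
def N32096 : Q := sm gf N29542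
def N32097 : Q := sm gb N29544
def N32098 : Q := sm ga N29546
def N32099 : Q := sm ge N29546
def N32100 : Q := sm gd N29547
def N32101 : Q := sm gc N29550
def N32102 : Q := sm gb N29556
def N32103 : Q := sm gg N29556
def N32104 : Q := sm gb N29557
def N32105 : Q := sm gf N29557
def N32106 : Q := sm gf N29558
def N32107 : Q := sm gb N29559
def N32108 : Q := sm ga N29563
def N32109 : Q := sm ga N29566
def N32110 : Q := sm gb N29567
def N32111 : Q := sm gd N29568
def N32112 : Q := sm gc N29569
def N32113 : Q := sm gb N29570
def N32114 : Q := sm gd N29570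
def N32115 : Q := sm gc N29571
def N32116 : Q := sm ge N29571
def N32117 : Q := sm ge N29578
def N32118 : Q := sm gg N29580
def N32119 : Q := sm gc N29581
def N32120 : Q := sm gf N29582
def N32121 : Q := sm gc N29589
def N32122 : Q := sm gc N29593
def N32123 : Q := sm gb N29594
def N32124 : Q := sm ge N29595
def N32125 : Q := sm ge N29597
def N32126 : Q := sm gd N29599
def N32127 : Q := sm gf N29599
def N32128 : Q := sm gb N29601
def N32129 : Q := sm gb N29604
def N32130 : Q := sm ge N29604
def N32131 : Q := sm gd N29606
def N32132 : Q := sm gc N29613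
def N32133 : Q := sm gc N29614
def N32134 : Q := sm gb N29618
def N32135 : Q := sm ge N29621
def N32136 : Q := sm ge N29622
def N32137 : Q := sm gb N29623
def N32138 : Q := sm ge N29623
def N32139 : Q := sm gf N29623
def N32140 : Q := sm gb N29625
def N32141 : Q := sm ga N29632
def N32142 : Q := sm ge N29632
def N32143 : Q := sm gg N29632
def N32144 : Q := sm gf N29633
def N32145 : Q := sm gb N29634
def N32146 : Q := sm gc N29636
def N32147 : Q := sm ge N29637
def N32148 : Q := sm gc N29646
def N32149 : Q := sm gc N29647
def N32150 : Q := sm gd N29648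
def N32151 : Q := sm gg N29648
def N32152 : Q := sm gd N29658
def N32153 : Q := sm gc N29659
def N32154 : Q := sm gf N29662
def N32155 : Q := sm gc N29665
def N32156 : Q := sm gd N29667
def N32157 : Q := sm ge N29671
def N32158 : Q := sm gf N29672
def N32159 : Q := sm gg N29674
def N32160 : Q := sm gb N29675
def N32161 : Q := sm gf N29678
def N32162 : Q := sm gb N29680
def N32163 : Q := sm gc N29691
def N32164 : Q := sm ge N29691
def N32165 : Q := sm gg N29691
def N32166 : Q := sm gf N29692
def N32167 : Q := sm ge N29695
def N32168 : Q := sm gg N29695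
def N32169 : Q := sm gd N29696
def N32170 : Q := sm gg N29696
def N32171 : Q := sm gf N29697
def N32172 : Q := sm ga N29701
def N32173 : Q := sm gc N29704
def N32174 : Q := sm gf N29705
def N32175 : Q := sm gb N29706
def N32176 : Q := sm gd N29709
def N32177 : Q := sm gg N29711
def N32178 : Q := sm gd N29715
def N32179 : Q := sm gg N29715
def N32180 : Q := sm ge N29717
def N32181 : Q := sm gb N29718
def N32182 : Q := sm gb N29724
def N32183 : Q := sm ga N29726
def N32184 : Q := sm gc N29733
def N32185 : Q := sm gf N29733
def N32186 : Q := sm gg N29739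
def N32187 : Q := sm ge N29743
def N32188 : Q := sm gg N29745
def N32189 : Q := sm gf N29750
def N32190 : Q := sm gf N29751
def N32191 : Q := sm gb N29752
def N32192 : Q := sm gf N29754
def N32193 : Q := sm gg N29754
def N32194 : Q := sm gb N29755
def N32195 : Q := sm gf N29756
def N32196 : Q := sm gc N29757
def N32197 : Q := sm ga N29758
def N32198 : Q := sm gb N29759
def N32199 : Q := sm gg N29762
def N32200 : Q := sm gf N29765
def N32201 : Q := sm gf N29768
def N32202 : Q := sm gb N29775
def N32203 : Q := sm gf N29775
def N32204 : Q := sm gd N29778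
def N32205 : Q := sm gf N29780
def N32206 : Q := sm gg N29783
def N32207 : Q := sm gb N29784
def N32208 : Q := sm gd N29788
def N32209 : Q := sm gf N29788
def N32210 : Q := sm gg N29788
def N32211 : Q := sm gg N29791
def N32212 : Q := sm gf N29793
def N32213 : Q := sm gb N29795
def N32214 : Q := sm gb N29801
def N32215 : Q := sm gf N29801
def N32216 : Q := sm gb N29802
def N32217 : Q := sm gf N29808
def N32218 : Q := sm gd N29809
def N32219 : Q := sm gf N29811
def N32220 : Q := sm gf N29813
def N32221 : Q := sm gg N29814
def N32222 : Q := sm gf N29821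
def N32223 : Q := sm gc N29827
def N32224 : Q := sm gg N29828
def N32225 : Q := sm gc N29833
def N32226 : Q := sm ge N29834
def N32227 : Q := sm gd N29837
def N32228 : Q := sm gg N29837
def N32229 : Q := sm gb N29842
def N32230 : Q := sm gd N29843
def N32231 : Q := sm gc N29850
def N32232 : Q := sm gb N29855
def N32233 : Q := sm ge N29858
def N32234 : Q := sm ge N29859
def N32235 : Q := sm gb N29860
def N32236 : Q := sm ge N29860
def N32237 : Q := sm gg N29860
def N32238 : Q := sm ga N29868
def N32239 : Q := sm ge N29868
def N32240 : Q := sm gf N29868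
def N32241 : Q := sm ge N29870
def N32242 : Q := sm gc N29878
def N32243 : Q := sm gc N29879
def N32244 : Q := sm gd N29880
def N32245 : Q := sm gf N29880
def N32246 : Q := sm gd N29890
def N32247 : Q := sm gc N29891
def N32248 : Q := sm gc N29896
def N32249 : Q := sm gd N29898
def N32250 : Q := sm gg N29902
def N32251 : Q := sm gb N29904
def N32252 : Q := sm gg N29908
def N32253 : Q := sm gb N29910
def N32254 : Q := sm ge N29914
def N32255 : Q := sm gf N29914
def N32256 : Q := sm ge N29917
def N32257 : Q := sm gd N29918
def N32258 : Q := sm gf N29918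
def N32259 : Q := sm gg N29919
def N32260 : Q := sm gc N29923
def N32261 : Q := sm gd N29927
def N32262 : Q := sm gf N29929
def N32263 : Q := sm gd N29933
def N32264 : Q := sm gf N29933
def N32265 : Q := sm ge N29935
def N32266 : Q := sm gb N29936
def N32267 : Q := sm gb N29942
def N32268 : Q := sm ga N29944
def N32269 : Q := sm gc N29950
def N32270 : Q := sm gf N29962
def N32271 : Q := sm gg N29962
def N32272 : Q := sm gg N29963
def N32273 : Q := sm gb N29964
def N32274 : Q := sm ga N29965
def N32275 : Q := sm gb N29966
def N32276 : Q := sm gc N29967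
def N32277 : Q := sm gf N29970
def N32278 : Q := sm gb N29977
def N32279 : Q := sm gg N29977
def N32280 : Q := sm gd N29979
def N32281 : Q := sm gf N29984
def N32282 : Q := sm gb N29986
def N32283 : Q := sm gd N29989
def N32284 : Q := sm gf N29989
def N32285 : Q := sm gg N29989
def N32286 : Q := sm gf N29992
def N32287 : Q := sm gg N29993
def N32288 : Q := sm gb N30001
def N32289 : Q := sm gg N30001
def N32290 : Q := sm gb N30002
def N32291 : Q := sm gg N30008
def N32292 : Q := sm gd N30009
def N32293 : Q := sm gg N30011
def N32294 : Q := sm gg N30013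
def N32295 : Q := sm gf N30014
def N32296 : Q := sm ge N30023
def N32297 : Q := sm gf N30023
def N32298 : Q := sm gd N30024
def N32299 : Q := sm gb N30025
def N32300 : Q := sm gb N30026
def N32301 : Q := sm gf N30027
def N32302 : Q := sm gf N30029
def N32303 : Q := sm gf N30031
def N32304 : Q := sm gg N30032
def N32305 : Q := sm gb N30036
def N32306 : Q := sm gg N30037
def N32307 : Q := sm gb N30039
def N32308 : Q := sm gg N30040
def N32309 : Q := sm gf N30041
def N32310 : Q := sm gb N30042
def N32311 : Q := sm gf N30044
def N32312 : Q := sm gc N30049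
def N32313 : Q := sm gf N30052
def N32314 : Q := sm gg N30052
def N32315 : Q := sm gg N30053
def N32316 : Q := sm gf N30054
def N32317 : Q := sm gg N30054
def N32318 : Q := sm gb N30056
def N32319 : Q := sm gd N30057
def N32320 : Q := sm gg N30057
def N32321 : Q := sm gb N30059
def N32322 : Q := sm gf N30064
def N32323 : Q := sm gc N30065
def N32324 : Q := sm gc N30068
def N32325 : Q := sm ge N30069
def N32326 : Q := sm gd N30070
def N32327 : Q := sm gb N30072
def N32328 : Q := sm gf N30083
def N32329 : Q := sm gd N30092
def N32330 : Q := sm gg N30093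
def N32331 : Q := sm gg N30095
def N32332 : Q := sm gc N30106
def N32333 : Q := sm gg N30110
def N32334 : Q := sm ge N30117
def N32335 : Q := sm gg N30117
def N32336 : Q := sm gd N30118
def N32337 : Q := sm gb N30119
def N32338 : Q := sm gb N30120
def N32339 : Q := sm gg N30121
def N32340 : Q := sm gg N30123
def N32341 : Q := sm gg N30125
def N32342 : Q := sm gf N30126
def N32343 : Q := sm gb N30129
def N32344 : Q := sm gf N30131
def N32345 : Q := sm gb N30132
def N32346 : Q := sm gg N30134
def N32347 : Q := sm gf N30135
def N32348 : Q := sm gb N30137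
def N32349 : Q := sm gg N30138
def N32350 : Q := sm gc N30144
def N32351 : Q := sm gf N30146
def N32352 : Q := sm gg N30146
def N32353 : Q := sm gf N30147
def N32354 : Q := sm gf N30148
def N32355 : Q := sm gg N30148
def N32356 : Q := sm gb N30149
def N32357 : Q := sm gd N30151
def N32358 : Q := sm gf N30151
def N32359 : Q := sm gb N30152
def N32360 : Q := sm gg N30157
def N32361 : Q := sm gc N30159
def N32362 : Q := sm gc N30162
def N32363 : Q := sm ge N30163
def N32364 : Q := sm gd N30164
def N32365 : Q := sm gb N30165
def N32366 : Q := sm gg N30179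
def N32367 : Q := sm gd N30186
def N32368 : Q := sm gf N30187
def N32369 : Q := sm gf N30190
def N32370 : Q := sm gc N30199
def N32371 : Q := sm gf N30202
def N32372 : Q := sm gg N30207
def N32373 : Q := sm gb N30209
def N32374 : Q := sm gb N30210
def N32375 : Q := sm gb N30211
def N32376 : Q := sm gb N30212
def N32377 : Q := sm gb N30213
def N32378 : Q := sm gb N30214
def N32379 : Q := sm ga N30216
def N32380 : Q := sm gc N30216
def N32381 : Q := sm gf N30216
def N32382 : Q := sm gf N30217
def N32383 : Q := sm gg N30217
def N32384 : Q := sm gg N30220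
def N32385 : Q := sm gb N30222
def N32386 : Q := sm ga N30224
def N32387 : Q := sm gf N30226
def N32388 : Q := sm gb N30227
def N32389 : Q := sm gb N30229
def N32390 : Q := sm gb N30230
def N32391 : Q := sm gb N30231
def N32392 : Q := sm gb N30232
def N32393 : Q := sm ga N30233
def N32394 : Q := sm gc N30233
def N32395 : Q := sm gg N30233
def N32396 : Q := sm gf N30235
def N32397 : Q := sm gg N30235
def N32398 : Q := sm gf N30239
def N32399 : Q := sm gb N30241
def N32400 : Q := sm ga N30242
def N32401 : Q := sm gd N30251
def N32402 : Q := sm gg N30253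
def N32403 : Q := sm gd N30264
def N32404 : Q := sm gf N30266
def N32405 : Q := sm gb N30275
def N32406 : Q := sm gg N30290
def N32407 : Q := sm gf N30292
def N32408 : Q := sm gb N30293
def N32409 : Q := sm gf N30294
def N32410 : Q := sm gg N30298
def N32411 : Q := sm gd N30302
def N32412 : Q := sm gc N30303
def N32413 : Q := sm gf N30307
def N32414 : Q := sm gg N30307
def N32415 : Q := sm gf N30311
def N32416 : Q := sm gd N30316
def N32417 : Q := sm gf N30317
def N32418 : Q := sm gg N30317
def N32419 : Q := sm gc N30322
def N32420 : Q := sm gg N30324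
def N32421 : Q := sm gb N30336
def N32422 : Q := sm gf N30349
def N32423 : Q := sm gg N30351
def N32424 : Q := sm gg N30352
def N32425 : Q := sm gb N30353
def N32426 : Q := sm gf N30357
def N32427 : Q := sm gg N30371
def N32428 : Q := sm ge N30375
def N32429 : Q := sm gd N30376
def N32430 : Q := sm gc N30378
def N32431 : Q := sm gg N30378
def N32432 : Q := sm gb N30382
def N32433 : Q := sm gd N30382
def N32434 : Q := sm gg N30382
def N32435 : Q := sm gb N30383
def N32436 : Q := sm gd N30385
def N32437 : Q := sm gf N30385
def N32438 : Q := sm gb N30387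
def N32439 : Q := sm gc N30388
def N32440 : Q := sm gf N30391
def N32441 : Q := sm ge N30395
def N32442 : Q := sm gd N30396
def N32443 : Q := sm gc N30398
def N32444 : Q := sm gf N30398
def N32445 : Q := sm gb N30402
def N32446 : Q := sm gd N30402
def N32447 : Q := sm gf N30402
def N32448 : Q := sm gb N30403
def N32449 : Q := sm gd N30405
def N32450 : Q := sm gg N30405
def N32451 : Q := sm gb N30407
def N32452 : Q := sm gc N30408
def N32453 : Q := sm gc N30412
def N32454 : Q := sm gb N30413
def N32455 : Q := sm gf N30413
def N32456 : Q := sm gg N30413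
def N32457 : Q := sm gb N30414
def N32458 : Q := sm gb N30415
def N32459 : Q := sm gb N30418
def N32460 : Q := sm gg N30418
def N32461 : Q := sm gb N30419
def N32462 : Q := sm ga N30421
def N32463 : Q := sm gf N30421
def N32464 : Q := sm gg N30421
def N32465 : Q := sm gb N30423
def N32466 : Q := sm gc N30424
def N32467 : Q := sm gb N30425
def N32468 : Q := sm gf N30425
def N32469 : Q := sm gb N30426
def N32470 : Q := sm gc N30429
def N32471 : Q := sm gb N30430
def N32472 : Q := sm gb N30431
def N32473 : Q := sm ga N30432
def N32474 : Q := sm gf N30432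
def N32475 : Q := sm gg N30432
def N32476 : Q := sm gb N30433
def N32477 : Q := sm gc N30435
def N32478 : Q := sm gb N30436
def N32479 : Q := sm gf N30437
def N32480 : Q := sm gc N30439
def N32481 : Q := sm gd N30442
def N32482 : Q := sm gc N30443
def N32483 : Q := sm gg N30445
def N32484 : Q := sm gc N30447
def N32485 : Q := sm gd N30450
def N32486 : Q := sm gc N30451
def N32487 : Q := sm gg N30456
def N32488 : Q := sm gb N30462
def N32489 : Q := sm gf N30464
def N32490 : Q := sm gb N30470
def N32491 : Q := sm gb N30476
def N32492 : Q := sm gb N30483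
def N32493 : Q := sm gc N30485
def N32494 : Q := sm gc N30488
def N32495 : Q := sm gc N30491
def N32496 : Q := sm gb N30492
def N32497 : Q := sm gc N30495
def N32498 : Q := sm gb N30496
def N32499 : Q := sm gc N30500
def N32500 : Q := sm gb N30501
def N32501 : Q := sm gd N30501
def N32502 : Q := sm gc N30503
def N32503 : Q := sm gb N30504
def N32504 : Q := sm gd N30504
def N32505 : Q := sm gf N30506
def N32506 : Q := sm gg N30511
def N32507 : Q := sm gc N30518
def N32508 : Q := sm gb N30520
def N32509 : Q := sm ge N30520
def N32510 : Q := sm ge N30524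
def N32511 : Q := sm gb N30526
def N32512 : Q := sm gc N30527
def N32513 : Q := sm gg N30531
def N32514 : Q := sm gb N30532
def N32515 : Q := sm gc N30533
def N32516 : Q := sm gc N30535
def N32517 : Q := sm gb N30537
def N32518 : Q := sm ge N30537
def N32519 : Q := sm ge N30541
def N32520 : Q := sm gb N30543
def N32521 : Q := sm gc N30544
def N32522 : Q := sm gf N30548
def N32523 : Q := sm gb N30549
def N32524 : Q := sm gc N30550
def N32525 : Q := sm gb N30573
def N32526 : Q := sm ga N30574
def N32527 : Q := sm ga N30576
def N32528 : Q := sm gc N30576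
def N32529 : Q := sm gf N30576
def N32530 : Q := sm gb N30578
def N32531 : Q := sm ga N30579
def N32532 : Q := sm gb N30580
def N32533 : Q := sm ga N30581
def N32534 : Q := sm ga N30583
def N32535 : Q := sm gc N30583
def N32536 : Q := sm gg N30583
def N32537 : Q := sm gb N30585
def N32538 : Q := sm ga N30586
def N32539 : Q := sm gd N30590
def N32540 : Q := sm gd N30592
def N32541 : Q := sm gc N30593
def N32542 : Q := sm gg N30593
def N32543 : Q := sm gb N30594
def N32544 : Q := sm gb N30595
def N32545 : Q := sm gb N30598
def N32546 : Q := sm gd N30602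
def N32547 : Q := sm gd N30604
def N32548 : Q := sm gc N30605
def N32549 : Q := sm gf N30605
def N32550 : Q := sm gb N30606
def N32551 : Q := sm gb N30607
def N32552 : Q := sm gb N30610
def N32553 : Q := sm gf N30613
def N32554 : Q := sm gg N30616
def N32555 : Q := sm gc N30618
def N32556 : Q := sm gc N30620
def N32557 : Q := sm gg N30622
def N32558 : Q := sm gg N30624
def N32559 : Q := sm gf N30627
def N32560 : Q := sm gc N30629
def N32561 : Q := sm gc N30631
def N32562 : Q := sm gf N30633
def N32563 : Q := sm gb N30635
def N32564 : Q := sm gd N30635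
def N32565 : Q := sm gf N30636
def N32566 : Q := sm ge N30638
def N32567 : Q := sm gb N30639
def N32568 : Q := sm gd N30643
def N32569 : Q := sm gc N30644
def N32570 : Q := sm ge N30644
def N32571 : Q := sm gf N30644
def N32572 : Q := sm gg N30644
def N32573 : Q := sm gd N30648
def N32574 : Q := sm gf N30648
def N32575 : Q := sm ge N30649
def N32576 : Q := sm gg N30651
def N32577 : Q := sm gb N30652
def N32578 : Q := sm gb N30655
def N32579 : Q := sm gd N30655
def N32580 : Q := sm gg N30656
def N32581 : Q := sm ge N30658
def N32582 : Q := sm gb N30659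
def N32583 : Q := sm gd N30663
def N32584 : Q := sm gc N30664
def N32585 : Q := sm ge N30664
def N32586 : Q := sm gf N30664
def N32587 : Q := sm gg N30664
def N32588 : Q := sm gd N30668
def N32589 : Q := sm gg N30668
def N32590 : Q := sm ge N30669
def N32591 : Q := sm gf N30671
def N32592 : Q := sm gb N30672
def N32593 : Q := sm gc N30676
def N32594 : Q := sm gc N30677
def N32595 : Q := sm gd N30678
def N32596 : Q := sm gc N30679
def N32597 : Q := sm gb N30692
def N32598 : Q := sm gf N30692
def N32599 : Q := sm gd N30695
def N32600 : Q := sm gc N30715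
def N32601 : Q := sm gd N30716
def N32602 : Q := sm gg N30717
def N32603 : Q := sm gg N30720
def N32604 : Q := sm gf N30722
def N32605 : Q := sm gg N30726
def N32606 : Q := sm gf N30727
def N32607 : Q := sm gd N30735
def N32608 : Q := sm gd N30737
def N32609 : Q := sm gg N30738
def N32610 : Q := sm gd N30742
def N32611 : Q := sm gg N30742
def N32612 : Q := sm gc N30746
def N32613 : Q := sm gc N30747
def N32614 : Q := sm gd N30748
def N32615 : Q := sm gb N30755
def N32616 : Q := sm gd N30757
def N32617 : Q := sm gd N30766
def N32618 : Q := sm gf N30767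
def N32619 : Q := sm gf N30773
def N32620 : Q := sm gg N30774
def N32621 : Q := sm gc N30788
def N32622 : Q := sm gg N30789
def N32623 : Q := sm gg N30792
def N32624 : Q := sm gf N30801
def N32625 : Q := sm gg N30810
def N32626 : Q := sm gb N30812
def N32627 : Q := sm gb N30819
def N32628 : Q := sm gf N30822
def N32629 : Q := sm gg N30822
def N32630 : Q := sm gb N30823
def N32631 : Q := sm gg N30823
def N32632 : Q := sm gb N30824
def N32633 : Q := sm gf N30824
def N32634 : Q := sm gg N30826
def N32635 : Q := sm gb N30827
def N32636 : Q := sm gf N30831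
def N32637 : Q := sm gf N30833
def N32638 : Q := sm gg N30833
def N32639 : Q := sm gb N30834
def N32640 : Q := sm ga N30837
def N32641 : Q := sm gc N30846
def N32642 : Q := sm gf N30847
def N32643 : Q := sm gf N30850
def N32644 : Q := sm gg N30859
def N32645 : Q := sm gf N30869
def N32646 : Q := sm gb N30871
def N32647 : Q := sm gb N30876
def N32648 : Q := sm gf N30880
def N32649 : Q := sm gg N30880
def N32650 : Q := sm gb N30881
def N32651 : Q := sm gg N30881
def N32652 : Q := sm gb N30882
def N32653 : Q := sm gf N30882
def N32654 : Q := sm gb N30887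
def N32655 : Q := sm gg N30889
def N32656 : Q := sm gf N30891
def N32657 : Q := sm gg N30891
def N32658 : Q := sm gb N30893
def N32659 : Q := sm ga N30896
def N32660 : Q := sm gf N30899
def N32661 : Q := sm gb N30900
def N32662 : Q := sm ga N30903
def N32663 : Q := sm gb N30907
def N32664 : Q := sm gf N30911
def N32665 : Q := sm gb N30912
def N32666 : Q := sm gb N30913
def N32667 : Q := sm ga N30914
def N32668 : Q := sm gc N30914
def N32669 : Q := sm gb N30915
def N32670 : Q := sm gd N30916
def N32671 : Q := sm gb N30917
def N32672 : Q := sm gf N30918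
def N32673 : Q := sm gb N30919
def N32674 : Q := sm ga N30927
def N32675 : Q := sm gb N30933
def N32676 : Q := sm gc N30966
def N32677 : Q := sm gb N30967
def N32678 : Q := sm gf N30967
def N32679 : Q := sm gc N30969
def N32680 : Q := sm gb N30970
def N32681 : Q := sm gg N30970
def N32682 : Q := sm gb N30977
def N32683 : Q := sm gf N30978
def N32684 : Q := sm gb N30979
def N32685 : Q := sm ga N30980
def N32686 : Q := sm gc N30980
def N32687 : Q := sm gf N30980
def N32688 : Q := sm gb N30981
def N32689 : Q := sm gf N30981
def N32690 : Q := sm gf N30982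
def N32691 : Q := sm gf N30984
def N32692 : Q := sm gb N30986
def N32693 : Q := sm gc N30988
def N32694 : Q := sm gd N30991
def N32695 : Q := sm gg N30991
def N32696 : Q := sm gb N31004
def N32697 : Q := sm gg N31005
def N32698 : Q := sm gb N31006
def N32699 : Q := sm ga N31007
def N32700 : Q := sm gc N31007
def N32701 : Q := sm gg N31007
def N32702 : Q := sm gb N31008
def N32703 : Q := sm gg N31008
def N32704 : Q := sm gg N31009
def N32705 : Q := sm gg N31011
def N32706 : Q := sm gb N31013
def N32707 : Q := sm gf N31017
def N32708 : Q := sm gf N31029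
def N32709 : Q := sm gf N31033
def N32710 : Q := sm gg N31041
def N32711 : Q := sm gf N31046
def N32712 : Q := sm gd N31048
def N32713 : Q := sm gd N31049
def N32714 : Q := sm gb N31058
def N32715 : Q := sm gc N31062
def N32716 : Q := sm gg N31066
def N32717 : Q := sm gg N31070
def N32718 : Q := sm gg N31081
def N32719 : Q := sm gd N31083
def N32720 : Q := sm gb N31091
def N32721 : Q := sm gc N31095
def N32722 : Q := sm gd N31101
def N32723 : Q := sm gf N31101
def N32724 : Q := sm gg N31101
def N32725 : Q := sm gb N31102
def N32726 : Q := sm gg N31106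
def N32727 : Q := sm gd N31113
def N32728 : Q := sm gf N31113
def N32729 : Q := sm gg N31113
def N32730 : Q := sm gb N31115
def N32731 : Q := sm gf N31126
def N32732 : Q := sm gb N31128
def N32733 : Q := sm ga N31129
def N32734 : Q := sm gc N31129
def N32735 : Q := sm gb N31130
def N32736 : Q := sm gd N31131
def N32737 : Q := sm gf N31132
def N32738 : Q := sm gg N31132
def N32739 : Q := sm gb N31133
def N32740 : Q := sm gf N31142
def N32741 : Q := sm gf N31185
def N32742 : Q := sm gg N31188
def N32743 : Q := sm gc N31203
def N32744 : Q := sm ge N31203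
def N32745 : Q := sm gf N31203
def N32746 : Q := sm gc N31210
def N32747 : Q := sm ge N31210
def N32748 : Q := sm gg N31210
def N32749 : Q := sm gg N31214
def N32750 : Q := sm gb N31215
def N32751 : Q := sm ga N31217
def N32752 : Q := sm gc N31217
def N32753 : Q := sm ga N31218
def N32754 : Q := sm gf N31232
def N32755 : Q := sm gb N31238
def N32756 : Q := sm gf N31239
def N32757 : Q := sm ga N31240
def N32758 : Q := sm gc N31240
def N32759 : Q := sm ga N31244
def N32760 : Q := sm gg N31256
def N32761 : Q := sm gb N31262
def N32762 : Q := sm gb N31264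
def N32763 : Q := sm gc N31267
def N32764 : Q := sm gf N31267
def N32765 : Q := sm gc N31268
def N32766 : Q := sm gf N31268
def N32767 : Q := sm gf N31270
def N32768 : Q := sm ga N31274
def N32769 : Q := sm gf N31274
def N32770 : Q := sm gb N31275
def N32771 : Q := sm gc N31275
def N32772 : Q := sm gf N31275
def N32773 : Q := sm gf N31276
def N32774 : Q := sm gg N31277
def N32775 : Q := sm gc N31278
def N32776 : Q := sm gb N31279
def N32777 : Q := sm gf N31279
def N32778 : Q := sm gg N31281
def N32779 : Q := sm gb N31286
def N32780 : Q := sm gb N31291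
def N32781 : Q := sm gb N31293
def N32782 : Q := sm gc N31296
def N32783 : Q := sm gg N31296
def N32784 : Q := sm gc N31297
def N32785 : Q := sm gg N31297
def N32786 : Q := sm gg N31299
def N32787 : Q := sm ga N31303
def N32788 : Q := sm gg N31303
def N32789 : Q := sm gg N31304
def N32790 : Q := sm gf N31306
def N32791 : Q := sm gg N31308
def N32792 : Q := sm gf N31310
def N32793 : Q := sm gd N31318
def N32794 : Q := sm gf N31318
def N32795 : Q := sm gc N31319
def N32796 : Q := sm ge N31319
def N32797 : Q := sm gd N31320
def N32798 : Q := sm gf N31324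
def N32799 : Q := sm gb N31325
def N32800 : Q := sm gf N31326
def N32801 : Q := sm gb N31329
def N32802 : Q := sm gf N31329
def N32803 : Q := sm gf N31333
def N32804 : Q := sm gg N31335
def N32805 : Q := sm gd N31338
def N32806 : Q := sm gd N31344
def N32807 : Q := sm gg N31344
def N32808 : Q := sm gc N31345
def N32809 : Q := sm ge N31345
def N32810 : Q := sm gd N31346
def N32811 : Q := sm gg N31350
def N32812 : Q := sm gb N31351
def N32813 : Q := sm gg N31352
def N32814 : Q := sm gb N31355
def N32815 : Q := sm gg N31355
def N32816 : Q := sm gg N31359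
def N32817 : Q := sm gf N31361
def N32818 : Q := sm gd N31364
def N32819 : Q := sm gf N31373
def N32820 : Q := sm gf N31375
def N32821 : Q := sm gb N31376
def N32822 : Q := sm gd N31380
def N32823 : Q := sm gf N31389
def N32824 : Q := sm gb N31390
def N32825 : Q := sm gb N31394
def N32826 : Q := sm gc N31396
def N32827 : Q := sm gd N31397
def N32828 : Q := sm gb N31402
def N32829 : Q := sm gd N31402
def N32830 : Q := sm gf N31404
def N32831 : Q := sm gg N31412
def N32832 : Q := sm gg N31414
def N32833 : Q := sm gb N31415
def N32834 : Q := sm gd N31418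
def N32835 : Q := sm gg N31426
def N32836 : Q := sm gb N31427
def N32837 : Q := sm gb N31431
def N32838 : Q := sm gc N31433
def N32839 : Q := sm gd N31434
def N32840 : Q := sm gb N31437
def N32841 : Q := sm gd N31437
def N32842 : Q := sm gg N31439
def N32843 : Q := sm gf N31445
def N32844 : Q := sm ga N31446
def N32845 : Q := sm gc N31446
def N32846 : Q := sm ga N31447
def N32847 : Q := sm gc N31447
def N32848 : Q := sm gf N31447
def N32849 : Q := sm gd N31449
def N32850 : Q := sm gc N31455
def N32851 : Q := sm ga N31460
def N32852 : Q := sm gf N31460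
def N32853 : Q := sm gb N31462
def N32854 : Q := sm gg N31462
def N32855 : Q := sm ga N31463
def N32856 : Q := sm gc N31463
def N32857 : Q := sm gf N31464
def N32858 : Q := sm gg N31466
def N32859 : Q := sm ga N31468
def N32860 : Q := sm gg N31470
def N32861 : Q := sm gg N31471
def N32862 : Q := sm gb N31478
def N32863 : Q := sm gc N31482
def N32864 : Q := sm gb N31485
def N32865 : Q := sm gf N31485
def N32866 : Q := sm gf N31486
def N32867 : Q := sm gf N31489
def N32868 : Q := sm gb N31491
def N32869 : Q := sm gg N31493
def N32870 : Q := sm gf N31495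
def N32871 : Q := sm gb N31499
def N32872 : Q := sm gg N31501
def N32873 : Q := sm gc N31502
def N32874 : Q := sm gg N31503
def N32875 : Q := sm gc N31509
def N32876 : Q := sm ga N31514
def N32877 : Q := sm gg N31514
def N32878 : Q := sm gb N31516
def N32879 : Q := sm gf N31516
def N32880 : Q := sm ga N31517
def N32881 : Q := sm gc N31517
def N32882 : Q := sm ga N31519
def N32883 : Q := sm gg N31524
def N32884 : Q := sm gf N31526
def N32885 : Q := sm gb N31532
def N32886 : Q := sm gc N31536
def N32887 : Q := sm gb N31539
def N32888 : Q := sm gg N31539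
def N32889 : Q := sm gg N31540
def N32890 : Q := sm gb N31542
def N32891 : Q := sm gg N31545
def N32892 : Q := sm gb N31549
def N32893 : Q := sm ga N31559
def N32894 : Q := sm gf N31559
def N32895 : Q := sm gb N31561
def N32896 : Q := sm ga N31562
def N32897 : Q := sm gc N31564
def N32898 : Q := sm gb N31565
def N32899 : Q := sm gc N31565
def N32900 : Q := sm gd N31566
def N32901 : Q := sm gg N31566
def N32902 : Q := sm gg N31568
def N32903 : Q := sm gb N31569
def N32904 : Q := sm ga N31579
def N32905 : Q := sm gg N31579
def N32906 : Q := sm ga N31582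
def N32907 : Q := sm gb N31584
def N32908 : Q := sm gc N31584
def N32909 : Q := sm gd N31585
def N32910 : Q := sm gf N31585
def N32911 : Q := sm gf N31588
def N32912 : Q := sm gb N31589
def N32913 : Q := sm gb N31597
def N32914 : Q := sm gc N31599
def N32915 : Q := sm gb N31608
def N32916 : Q := sm gc N31610
def N32917 : Q := sm gc N31621
def N32918 : Q := sm gf N31622
def N32919 : Q := sm gg N31623
def N32920 : Q := sm gc N31630
def N32921 : Q := sm gg N31631
def N32922 : Q := sm gf N31632
def N32923 : Q := sm gd N31648
def N32924 : Q := sm ge N31649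
def N32925 : Q := sm gd N31650
def N32926 : Q := sm ge N31651
def N32927 : Q := sm gb N31660
def N32928 : Q := sm gc N31662
def N32929 : Q := sm gb N31688
def N32930 : Q := sm gd N31688
def N32931 : Q := sm ge N31689
def N32932 : Q := sm gb N31690
def N32933 : Q := sm gd N31690
def N32934 : Q := sm ge N31691
def N32935 : Q := sm gb N31708
def N32936 : Q := sm gb N31716
def N32937 : Q := sm gc N31727
def N32938 : Q := sm gb N31735
def N32939 : Q := sm gc N31736
def N32940 : Q := sm gc N31740
def N32941 : Q := sm gf N31740
def N32942 : Q := sm gc N31743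
def N32943 : Q := sm gc N31744
def N32944 : Q := sm gf N31744
def N32945 : Q := sm gd N31745
def N32946 : Q := sm gf N31745
def N32947 : Q := sm gg N31747
def N32948 : Q := sm gb N31754
def N32949 : Q := sm gb N31761
def N32950 : Q := sm gc N31771
def N32951 : Q := sm gb N31779
def N32952 : Q := sm gc N31780
def N32953 : Q := sm gc N31784
def N32954 : Q := sm gg N31784
def N32955 : Q := sm gc N31787
def N32956 : Q := sm gc N31788
def N32957 : Q := sm gg N31788
def N32958 : Q := sm gd N31789
def N32959 : Q := sm gg N31789
def N32960 : Q := sm gf N31791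
def N32961 : Q := sm gb N31798
def N32962 : Q := sm gd N31798
def N32963 : Q := sm ge N31799
def N32964 : Q := sm ga N31805
def N32965 : Q := sm gd N31807
def N32966 : Q := sm gc N31817
def N32967 : Q := sm gb N31820
def N32968 : Q := sm gg N31822
def N32969 : Q := sm ga N31826
def N32970 : Q := sm gc N31826
def N32971 : Q := sm gg N31826
def N32972 : Q := sm gc N31827
def N32973 : Q := sm gg N31828
def N32974 : Q := sm gg N31830
def N32975 : Q := sm gd N31832
def N32976 : Q := sm ga N31834
def N32977 : Q := sm gc N31836
def N32978 : Q := sm ge N31836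
def N32979 : Q := sm gd N31842
def N32980 : Q := sm gd N31849
def N32981 : Q := sm gc N31859
def N32982 : Q := sm gf N31864
def N32983 : Q := sm ga N31868
def N32984 : Q := sm gc N31868
def N32985 : Q := sm gf N31868
def N32986 : Q := sm gc N31869
def N32987 : Q := sm gf N31870
def N32988 : Q := sm gf N31872
def N32989 : Q := sm gd N31874
def N32990 : Q := sm ga N31876
def N32991 : Q := sm gg N31884
def N32992 : Q := sm gd N31890
def N32993 : Q := sm gf N31890
def N32994 : Q := sm gc N31891
def N32995 : Q := sm ge N31891
def N32996 : Q := sm gb N31893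
def N32997 : Q := sm gg N31911
def N32998 : Q := sm gc N31913
def N32999 : Q := sm gf N31913
def N33000 : Q := sm gc N31915
def N33001 : Q := sm gd N31920
def N33002 : Q := sm gf N31920
def N33003 : Q := sm ge N31921
def N33004 : Q := sm gf N31921
def N33005 : Q := sm gb N31923
def N33006 : Q := sm ge N31929
def N33007 : Q := sm gf N31930
def N33008 : Q := sm gb N31931
def N33009 : Q := sm gf N31937
def N33010 : Q := sm gb N31940
def N33011 : Q := sm gc N31940
def N33012 : Q := sm gd N31941
def N33013 : Q := sm ga N31942
def N33014 : Q := sm gg N31942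
def N33015 : Q := sm gc N31944
def N33016 : Q := sm ga N31952
def N33017 : Q := sm ge N31953
def N33018 : Q := sm gb N31960
def N33019 : Q := sm gf N31961
def N33020 : Q := sm gb N31965
def N33021 : Q := sm gb N31966
def N33022 : Q := sm ga N31967
def N33023 : Q := sm ga N31968
def N33024 : Q := sm ge N31969
def N33025 : Q := sm gc N31970
def N33026 : Q := sm gd N31971
def N33027 : Q := sm gg N31973
def N33028 : Q := sm gb N31976
def N33029 : Q := sm gd N31977
def N33030 : Q := sm gg N31977
def N33031 : Q := sm ge N31978
def N33032 : Q := sm gc N31980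
def N33033 : Q := sm gf N31986
def N33034 : Q := sm gf N31988
def N33035 : Q := sm gb N31989
def N33036 : Q := sm gb N31992
def N33037 : Q := sm gg N31995
def N33038 : Q := sm gb N31997
def N33039 : Q := sm ga N31999
def N33040 : Q := sm gb N32001
def N33041 : Q := sm ga N32002
def N33042 : Q := sm gf N32002
def N33043 : Q := sm ge N32003
def N33044 : Q := sm gd N32005
def N33045 : Q := sm gf N32005
def N33046 : Q := sm ge N32009
def N33047 : Q := sm gf N32015
def N33048 : Q := sm gc N32023
def N33049 : Q := sm ge N32023
def N33050 : Q := sm gc N32041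
def N33051 : Q := sm gg N32041
def N33052 : Q := sm gc N32043
def N33053 : Q := sm gd N32048
def N33054 : Q := sm gg N32048
def N33055 : Q := sm ge N32049
def N33056 : Q := sm gg N32049
def N33057 : Q := sm gb N32051
def N33058 : Q := sm gg N32057
def N33059 : Q := sm gb N32062
def N33060 : Q := sm gc N32062
def N33061 : Q := sm gd N32063
def N33062 : Q := sm ge N32072
def N33063 : Q := sm gg N32079
def N33064 : Q := sm gb N32082
def N33065 : Q := sm gb N32084
def N33066 : Q := sm ge N32087
def N33067 : Q := sm gd N32088
def N33068 : Q := sm gf N32089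
def N33069 : Q := sm ge N32093
def N33070 : Q := sm gf N32103
def N33071 : Q := sm gb N32105
def N33072 : Q := sm ga N32107
def N33073 : Q := sm gb N32109
def N33074 : Q := sm gd N32112
def N33075 : Q := sm gb N32121
def N33076 : Q := sm gd N32121
def N33077 : Q := sm gg N32123
def N33078 : Q := sm ge N32129
def N33079 : Q := sm gb N32139
def N33080 : Q := sm gc N32140
def N33081 : Q := sm gg N32142
def N33082 : Q := sm gb N32144
def N33083 : Q := sm gb N32149
def N33084 : Q := sm gg N32150
def N33085 : Q := sm gb N32151
def N33086 : Q := sm ge N32163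
def N33087 : Q := sm gf N32170
def N33088 : Q := sm gf N32184
def N33089 : Q := sm gb N32189
def N33090 : Q := sm gb N32192
def N33091 : Q := sm gb N32203
def N33092 : Q := sm gb N32212
def N33093 : Q := sm gb N32225
def N33094 : Q := sm gf N32229
def N33095 : Q := sm gb N32237
def N33096 : Q := sm gb N32243
def N33097 : Q := sm gf N32244
def N33098 : Q := sm gb N32245
def N33099 : Q := sm gg N32258
def N33100 : Q := sm gb N32271
def N33101 : Q := sm gb N32279
def N33102 : Q := sm gb N32306
def N33103 : Q := sm gf N32307
def N33104 : Q := sm gf N32310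
def N33105 : Q := sm gb N32344
def N33106 : Q := sm gc N32377
def N33107 : Q := sm gc N32392
def N33108 : Q := sm gg N32433
def N33109 : Q := sm gb N32434
def N33110 : Q := sm ga N32438
def N33111 : Q := sm gc N32438
def N33112 : Q := sm gf N32446
def N33113 : Q := sm gb N32447
def N33114 : Q := sm ga N32451
def N33115 : Q := sm gc N32451
def N33116 : Q := sm gb N32453
def N33117 : Q := sm ga N32454
def N33118 : Q := sm gg N32454
def N33119 : Q := sm gb N32456
def N33120 : Q := sm ga N32459
def N33121 : Q := sm gf N32459
def N33122 : Q := sm gg N32459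
def N33123 : Q := sm gb N32460
def N33124 : Q := sm gf N32462
def N33125 : Q := sm gf N32465
def N33126 : Q := sm ga N32467
def N33127 : Q := sm gg N32467
def N33128 : Q := sm gb N32470
def N33129 : Q := sm ga N32471
def N33130 : Q := sm gf N32471
def N33131 : Q := sm ga N32472
def N33132 : Q := sm gf N32472
def N33133 : Q := sm gg N32472
def N33134 : Q := sm ga N32478
def N33135 : Q := sm gf N32478
def N33136 : Q := sm gb N32482
def N33137 : Q := sm gb N32486
def N33138 : Q := sm gd N32500
def N33139 : Q := sm gg N32500
def N33140 : Q := sm gd N32503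
def N33141 : Q := sm gb N32505
def N33142 : Q := sm gb N32506
def N33143 : Q := sm ge N32508
def N33144 : Q := sm gd N32509
def N33145 : Q := sm gc N32511
def N33146 : Q := sm ge N32517
def N33147 : Q := sm gd N32518
def N33148 : Q := sm gc N32520
def N33149 : Q := sm gf N32528
def N33150 : Q := sm gg N32535
def N33151 : Q := sm gb N32542
def N33152 : Q := sm gb N32549
def N33153 : Q := sm ge N32573
def N33154 : Q := sm ge N32588
def N33155 : Q := sm gb N32628
def N33156 : Q := sm gb N32640
def N33157 : Q := sm gb N32649
def N33158 : Q := sm gb N32659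
def N33159 : Q := sm gb N32660
def N33160 : Q := sm gb N32664
def N33161 : Q := sm gc N32665
def N33162 : Q := sm ga N32666
def N33163 : Q := sm gc N32666
def N33164 : Q := sm gb N32667
def N33165 : Q := sm gc N32667
def N33166 : Q := sm gc N32670
def N33167 : Q := sm ge N32670
def N33168 : Q := sm gb N32672
def N33169 : Q := sm gb N32676
def N33170 : Q := sm gf N32677
def N33171 : Q := sm gg N32677
def N33172 : Q := sm gb N32678
def N33173 : Q := sm gb N32679
def N33174 : Q := sm gb N32681
def N33175 : Q := sm gf N32682
def N33176 : Q := sm gb N32685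
def N33177 : Q := sm gf N32692
def N33178 : Q := sm gg N32696
def N33179 : Q := sm gb N32699
def N33180 : Q := sm gg N32706
def N33181 : Q := sm gb N32715
def N33182 : Q := sm gb N32721
def N33183 : Q := sm gb N32723
def N33184 : Q := sm gb N32729
def N33185 : Q := sm gc N32736
def N33186 : Q := sm ge N32736
def N33187 : Q := sm gb N32737
def N33188 : Q := sm gb N32749
def N33189 : Q := sm ga N32750
def N33190 : Q := sm gc N32750
def N33191 : Q := sm gb N32756
def N33192 : Q := sm gf N32765
def N33193 : Q := sm gb N32767
def N33194 : Q := sm gf N32771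
def N33195 : Q := sm gg N32773
def N33196 : Q := sm gg N32776
def N33197 : Q := sm gb N32777
def N33198 : Q := sm gf N32779
def N33199 : Q := sm gg N32784
def N33200 : Q := sm gb N32786
def N33201 : Q := sm gb N32791
def N33202 : Q := sm gc N32793
def N33203 : Q := sm ge N32793
def N33204 : Q := sm gc N32806
def N33205 : Q := sm ge N32806
def N33206 : Q := sm ga N32853
def N33207 : Q := sm ga N32878
def N33208 : Q := sm gb N32901
def N33209 : Q := sm gb N32902
def N33210 : Q := sm gb N32910
def N33211 : Q := sm gb N32911
def N33212 : Q := sm gg N32913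
def N33213 : Q := sm gf N32915
def N33214 : Q := sm ge N32930
def N33215 : Q := sm ge N32933
def N33216 : Q := sm gf N32943
def N33217 : Q := sm gg N32956
def N33218 : Q := sm gc N32969
def N33219 : Q := sm gc N32983
def N33220 : Q := sm gb N33007
def N33221 : Q := sm ga N33010
def N33222 : Q := sm gg N33010
def N33223 : Q := sm ga N33020
def N33224 : Q := sm ga N33021
def N33225 : Q := sm gb N33027
def N33226 : Q := sm gb N33034
def N33227 : Q := sm ga N33040
def N33228 : Q := sm gf N33040
def N33229 : Q := sm ge N33044
def N33230 : Q := sm ge N33074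
def N33231 : Q := sm gb N33118
def N33232 : Q := sm gf N33123
def N33233 : Q := sm gg N33138
def N33234 : Q := sm gc N33160
def N33235 : Q := sm gc N33162
def N33236 : Q := sm gb N33170
theorem L0 : sm ga N0 = N0 := sded_0_0
theorem L1 : sm gb N0 = N0 := sded_1_0
theorem L2 : sm gc N0 = N0 := sded_2_0
theorem L3 : sm gd N0 = N0 := sded_3_0
theorem L4 : sm gf N0 = N0 := sded_4_0
theorem L5 : sm gg N0 = N0 := sded_5_0
theorem L6 : sm ge N0 = N1 := rfl
theorem L8 : sm ga N1 = N1 := ded_10_1 (flp_e L6) L0 L6
theorem L9 : sm gb N1 = N1 := ded_15_1 (flp_e L6) L1 L6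
theorem L10 : sm gc N1 = N1 := ded_19_1 (flp_e L6) L2 L6
theorem L11 : sm gf N1 = N1 := ded_25_2 (flp_e L6) L4 L6
theorem L12 : sm gg N1 = N1 := ded_26_2 (flp_e L6) L5 L6
theorem L13 : sm gd N1 = N2 := rfl
theorem L15 : sm ga N2 = N2 := ded_9_1 (flp_d L13) L8 L13
theorem L16 : sm gb N2 = N2 := ded_14_1 (flp_d L13) L9 L13
theorem L17 : sm gf N2 = N2 := ded_23_2 (flp_d L13) L11 L13
theorem L18 : sm gg N2 = N2 := ded_24_2 (flp_d L13) L12 L13
theorem L19 : sm ge N2 = N2 := ded_22_2 (flp_d L13) (flp_e L6) L3 L6 L13
theorem L20 : sm gc N2 = N3 := rfl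
theorem L22 : sm ga N3 = N3 := ded_8_1 (flp_c L20) L15 L20
theorem L23 : sm ge N3 = N3 := ded_19_2 (flp_c L20) L19 L20
theorem L24 : sm gf N3 = N3 := ded_20_2 (flp_c L20) L17 L20
theorem L25 : sm gg N3 = N3 := ded_21_2 (flp_c L20) L18 L20
theorem L26 : sm gb N3 = N4 := rfl
theorem L28 : sm ge N4 = N4 := ded_15_2 (flp_b L26) L23 L26
theorem L29 : sm gc N4 = N4 := ded_13_2 (flp_b L26) (flp_c L20) L16 L20 L26
theorem L30 : sm gd N3 = N5 := rfl
theorem L32 : sm ga N5 = N5 := ded_9_1 (flp_d L30) L22 L30
theorem L33 : sm gf N5 = N5 := ded_23_2 (flp_d L30) L24 L30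
theorem L34 : sm gg N5 = N5 := ded_24_2 (flp_d L30) L25 L30
theorem L35 : sm gc N5 = N5 := ded_28_0 (flp_d L30) (flp_c L20) (flp_d L13) L10 L13 L20 L30 L32
theorem L36 : sm ga N4 = N6 := rfl
theorem L38 : sm gc N6 = N6 := ded_8_2 (flp_a L36) L29 L36
theorem L39 : sm ge N6 = N6 := ded_10_2 (flp_a L36) L28 L36
theorem L40 : sm gd N4 = N7 := rfl
theorem L42 : sm gb N7 = N5 := ded_14_1 (flp_d L30) L26 L40
theorem L44 : sm gf N4 = N8 := rfl
theorem L46 : sm gc N8 = N8 := ded_20_1 (flp_f L44) L29 L44
theorem L47 : sm ge N8 = N8 := ded_25_1 (flp_f L44) L28 L44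
theorem L48 : sm gb N8 = N8 := ded_16_1 (flp_f L44) (flp_b L26) L24 L26 L44
theorem L49 : sm gg N4 = N9 := rfl
theorem L51 : sm gc N9 = N9 := ded_21_1 (flp_g L49) L29 L49
theorem L52 : sm ge N9 = N9 := ded_26_1 (flp_g L49) L28 L49
theorem L53 : sm gb N9 = N9 := ded_17_1 (flp_g L49) (flp_b L26) L25 L26 L49
theorem L54 : sm ge N5 = N10 := rfl
theorem L56 : sm ga N10 = N10 := ded_10_1 (flp_e L54) L32 L54
theorem L57 : sm gc N10 = N10 := ded_19_1 (flp_e L54) L35 L54
theorem L58 : sm gf N10 = N10 := ded_25_2 (flp_e L54) L33 L54
theorem L59 : sm gg N10 = N10 := ded_26_2 (flp_e L54) L34 L54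
theorem L60 : sm gd N10 = N10 := ded_22_1 (flp_e L54) (flp_d L30) L23 L30 L54
theorem L61 : sm gb N6 = N11 := rfl
theorem L63 : sm ge N11 = N11 := ded_15_2 (flp_b L61) L39 L61
theorem L64 : sm gd N6 = N12 := rfl
theorem L66 : sm ga N12 = N7 := ded_9_1 (flp_d L40) L36 L64
theorem L68 : sm gf N6 = N13 := rfl
theorem L70 : sm ga N13 = N8 := ded_11_1 (flp_f L44) L36 L68
theorem L72 : sm gc N13 = N13 := ded_20_1 (flp_f L68) L38 L68
theorem L73 : sm ge N13 = N13 := ded_25_1 (flp_f L68) L39 L68
theorem L74 : sm gg N6 = N14 := rfl
theorem L76 : sm ga N14 = N9 := ded_12_1 (flp_g L49) L36 L74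
theorem L78 : sm gc N14 = N14 := ded_21_1 (flp_g L74) L38 L74
theorem L79 : sm ge N14 = N14 := ded_26_1 (flp_g L74) L39 L74
theorem L80 : sm gc N7 = N15 := rfl
theorem L82 : sm gb N15 = N15 := ded_13_1 (flp_c L80) L42 L35 (flp_b L42) L80
theorem L83 : sm ge N7 = N16 := rfl
theorem L85 : sm gb N16 = N10 := ded_15_1 (flp_e L54) (flp_b L42) L83
theorem L87 : sm gd N16 = N16 := ded_22_1 (flp_e L83) (flp_d L40) L28 L40 L83
theorem L88 : sm gf N7 = N17 := rfl
theorem L90 : sm gd N17 = N8 := ded_23_1 (flp_f L44) L40 L88
theorem L92 : sm gb N17 = N17 := ded_16_1 (flp_f L88) L42 L33 (flp_b L42) L88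
theorem L93 : sm gg N7 = N18 := rfl
theorem L95 : sm gd N18 = N9 := ded_24_1 (flp_g L49) L40 L93
theorem L97 : sm gb N18 = N18 := ded_17_1 (flp_g L93) L42 L34 (flp_b L42) L93
theorem L98 : sm gg N8 = N19 := rfl
theorem L100 : sm gc N19 = N19 := ded_21_1 (flp_g L98) L46 L98
theorem L101 : sm ge N19 = N19 := ded_26_1 (flp_g L98) L47 L98
theorem L102 : sm gf N14 = N19 := ded_29_0 (flp_g L98) (flp_f L44) L49 (flp_a L76)
theorem L104 : sm gf N9 = N20 := rfl
theorem L106 : sm ga N20 = N19 := ded_11_1 (flp_f L102) L76 L104
theorem L108 : sm gc N20 = N20 := ded_20_1 (flp_f L104) L51 L104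
theorem L109 : sm ge N20 = N20 := ded_25_1 (flp_f L104) L52 L104
theorem L110 : sm gg N20 = N13 := ded_29_3 L70 (flp_f L44) L49 L104
theorem L112 : sm ga N11 = N21 := rfl
theorem L114 : sm ge N21 = N21 := ded_10_2 (flp_a L112) L63 L112
theorem L115 : sm gb N21 = N21 := ded_7_2 (flp_a L112) (flp_b L61) (flp_a L36) (flp_b L26) L22 L26 L36 L61 L112
theorem L116 : sm gc N11 = N22 := rfl
theorem L118 : sm ge N22 = N22 := ded_19_2 (flp_c L116) L63 L116
theorem L119 : sm gb N22 = N22 := ded_13_1 (flp_c L116) (flp_b L61) L38 L61 L116
theorem L120 : sm gd N11 = N23 := rfl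
theorem L122 : sm gb N23 = N12 := ded_14_1 (flp_d L64) L61 L120
theorem L124 : sm gf N11 = N24 := rfl
theorem L126 : sm ge N24 = N24 := ded_25_1 (flp_f L124) L63 L124
theorem L127 : sm gg N11 = N25 := rfl
theorem L129 : sm ge N25 = N25 := ded_26_1 (flp_g L127) L63 L127
theorem L130 : sm gc N12 = N26 := rfl
theorem L132 : sm ga N26 = N15 := ded_8_1 (flp_c L80) (flp_a L66) L130
theorem L134 : sm ge N12 = N27 := rfl
theorem L136 : sm ga N27 = N16 := ded_10_1 (flp_e L83) (flp_a L66) L134
theorem L138 : sm gd N27 = N27 := ded_22_1 (flp_e L134) (flp_d L64) L39 L64 L134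
theorem L139 : sm gf N12 = N28 := rfl
theorem L141 : sm ga N28 = N17 := ded_11_1 (flp_f L88) (flp_a L66) L139
theorem L143 : sm gd N28 = N13 := ded_23_1 (flp_f L68) L64 L139
theorem L145 : sm gg N12 = N29 := rfl
theorem L147 : sm ga N29 = N18 := ded_12_1 (flp_g L93) (flp_a L66) L145
theorem L149 : sm gd N29 = N14 := ded_24_1 (flp_g L74) L64 L145
theorem L151 : sm gb N13 = N30 := rfl
theorem L153 : sm ge N30 = N30 := ded_15_2 (flp_b L151) L73 L151
theorem L154 : sm gb N14 = N31 := rfl
theorem L156 : sm ge N31 = N31 := ded_15_2 (flp_b L154) L79 L154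
theorem L157 : sm gd N15 = N32 := rfl
theorem L159 : sm gb N32 = N32 := ded_14_1 (flp_d L157) L82 L157
theorem L160 : sm ge N15 = N33 := rfl
theorem L162 : sm gb N33 = N33 := ded_15_1 (flp_e L160) L82 L160
theorem L163 : sm gc N33 = N16 := ded_19_1 (flp_e L83) L80 L160
theorem L165 : sm gf N15 = N34 := rfl
theorem L167 : sm gc N34 = N17 := ded_20_1 (flp_f L88) L80 L165
theorem L169 : sm gg N15 = N35 := rfl
theorem L171 : sm gc N35 = N18 := ded_21_1 (flp_g L93) L80 L169
theorem L173 : sm gf N16 = N36 := rfl
theorem L175 : sm gd N36 = N36 := ded_23_1 (flp_f L173) L87 L173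
theorem L176 : sm ge N36 = N17 := ded_25_1 (flp_f L88) L83 L173
theorem L178 : sm gb N36 = N36 := ded_16_1 (flp_f L173) L85 L58 (flp_b L85) L173
theorem L179 : sm gg N16 = N37 := rfl
theorem L181 : sm gd N37 = N37 := ded_24_1 (flp_g L179) L87 L179
theorem L182 : sm ge N37 = N18 := ded_26_1 (flp_g L93) L83 L179
theorem L184 : sm gb N37 = N37 := ded_17_1 (flp_g L179) L85 L59 (flp_b L85) L179
theorem L185 : sm gg N17 = N38 := rfl
theorem L187 : sm gd N38 = N19 := ded_24_1 (flp_g L98) (flp_d L90) L185
theorem L189 : sm gf N29 = N38 := ded_29_0 (flp_g L185) (flp_f L88) L93 (flp_a L147)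
theorem L191 : sm gf N18 = N39 := rfl
theorem L193 : sm ga N39 = N38 := ded_11_1 (flp_f L189) L147 L191
theorem L195 : sm gd N39 = N20 := ded_23_1 (flp_f L104) (flp_d L95) L191
theorem L197 : sm gg N39 = N28 := ded_29_3 L141 (flp_f L88) L93 L191
theorem L199 : sm gb N19 = N40 := rfl
theorem L201 : sm ge N40 = N40 := ded_15_2 (flp_b L199) L101 L199
theorem L202 : sm gg N40 = N40 := ded_17_2 (flp_b L199) (flp_g L98) L48 L98 L199
theorem L203 : sm gb N20 = N41 := rfl
theorem L205 : sm ge N41 = N41 := ded_15_2 (flp_b L203) L109 L203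
theorem L206 : sm gf N41 = N41 := ded_16_2 (flp_b L203) (flp_f L104) L53 L104 L203
theorem L207 : sm gc N21 = N42 := rfl
theorem L209 : sm ga N42 = N22 := ded_8_1 (flp_c L116) L112 L207
theorem L211 : sm ge N42 = N42 := ded_19_2 (flp_c L207) L114 L207
theorem L212 : sm gd N21 = N43 := rfl
theorem L214 : sm ga N43 = N23 := ded_9_1 (flp_d L120) L112 L212
theorem L216 : sm gb N43 = N43 := ded_14_1 (flp_d L212) L115 L212
theorem L217 : sm gf N21 = N44 := rfl
theorem L219 : sm ga N44 = N24 := ded_11_1 (flp_f L124) L112 L217
theorem L221 : sm ge N44 = N44 := ded_25_1 (flp_f L217) L114 L217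
theorem L222 : sm gg N21 = N45 := rfl
theorem L224 : sm ga N45 = N25 := ded_12_1 (flp_g L127) L112 L222
theorem L226 : sm ge N45 = N45 := ded_26_1 (flp_g L222) L114 L222
theorem L227 : sm gd N22 = N46 := rfl
theorem L229 : sm gb N46 = N46 := ded_14_1 (flp_d L227) L119 L227
theorem L230 : sm gf N22 = N47 := rfl
theorem L232 : sm gc N47 = N24 := ded_20_1 (flp_f L124) L116 L230
theorem L234 : sm ge N47 = N47 := ded_25_1 (flp_f L230) L118 L230
theorem L235 : sm gg N22 = N48 := rfl
theorem L237 : sm gc N48 = N25 := ded_21_1 (flp_g L127) L116 L235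
theorem L240 : sm gc N23 = N49 := rfl
theorem L242 : sm ge N23 = N50 := rfl
theorem L244 : sm gb N50 = N27 := ded_15_1 (flp_e L134) (flp_b L122) L242
theorem L246 : sm gd N50 = N50 := ded_22_1 (flp_e L242) (flp_d L120) L63 L120 L242
theorem L247 : sm gf N23 = N51 := rfl
theorem L249 : sm gd N51 = N24 := ded_23_1 (flp_f L124) L120 L247
theorem L251 : sm gg N23 = N52 := rfl
theorem L253 : sm gd N52 = N25 := ded_24_1 (flp_g L127) L120 L251
theorem L255 : sm gb N24 = N53 := rfl
theorem L257 : sm ge N53 = N53 := ded_15_2 (flp_b L255) L126 L255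
theorem L258 : sm gf N53 = N30 := ded_16_2 (flp_b L151) (flp_f L68) L61 L124 L255
theorem L260 : sm gg N24 = N54 := rfl
theorem L262 : sm ge N54 = N54 := ded_26_1 (flp_g L260) L126 L260
theorem L263 : sm gf N45 = N54 := ded_29_0 (flp_g L260) (flp_f L124) L127 (flp_a L224)
theorem L265 : sm gb N25 = N55 := rfl
theorem L267 : sm ge N55 = N55 := ded_15_2 (flp_b L265) L129 L265
theorem L268 : sm gg N55 = N31 := ded_17_2 (flp_b L154) (flp_g L74) L61 L127 L265
theorem L270 : sm gf N25 = N56 := rfl
theorem L272 : sm ga N56 = N54 := ded_11_1 (flp_f L263) L224 L270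
theorem L274 : sm ge N56 = N56 := ded_25_1 (flp_f L270) L129 L270
theorem L275 : sm gg N56 = N44 := ded_29_3 L219 (flp_f L124) L127 L270
theorem L277 : sm gb N26 = N57 := rfl
theorem L279 : sm gd N26 = N58 := rfl
theorem L281 : sm ga N58 = N32 := ded_9_1 (flp_d L157) (flp_a L132) L279
theorem L283 : sm gc N32 = N58 := ded_28_0 (flp_d L279) (flp_c L130) (flp_d L64) L38 L64 L130 L279 L281
theorem L285 : sm ge N26 = N59 := rfl
theorem L287 : sm ga N59 = N33 := ded_10_1 (flp_e L160) (flp_a L132) L285
theorem L289 : sm gc N59 = N27 := ded_19_1 (flp_e L134) L130 L285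
theorem L291 : sm gf N26 = N60 := rfl
theorem L293 : sm ga N60 = N34 := ded_11_1 (flp_f L165) (flp_a L132) L291
theorem L295 : sm gc N60 = N28 := ded_20_1 (flp_f L139) L130 L291
theorem L297 : sm gg N26 = N61 := rfl
theorem L299 : sm ga N61 = N35 := ded_12_1 (flp_g L169) (flp_a L132) L297
theorem L301 : sm gc N61 = N29 := ded_21_1 (flp_g L145) L130 L297
theorem L303 : sm gf N27 = N62 := rfl
theorem L305 : sm ga N62 = N36 := ded_11_1 (flp_f L173) (flp_a L136) L303
theorem L307 : sm gd N62 = N62 := ded_23_1 (flp_f L303) L138 L303
theorem L308 : sm ge N62 = N28 := ded_25_1 (flp_f L139) L134 L303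
theorem L310 : sm gg N27 = N63 := rfl
theorem L312 : sm ga N63 = N37 := ded_12_1 (flp_g L179) (flp_a L136) L310
theorem L314 : sm gd N63 = N63 := ded_24_1 (flp_g L310) L138 L310
theorem L315 : sm ge N63 = N29 := ded_26_1 (flp_g L145) L134 L310
theorem L317 : sm gb N28 = N64 := rfl
theorem L319 : sm gd N64 = N30 := ded_14_2 (flp_b L151) (flp_d L143) L317
theorem L321 : sm gb N29 = N65 := rfl
theorem L323 : sm gd N65 = N31 := ded_14_2 (flp_b L154) (flp_d L149) L321
theorem L325 : sm ga N30 = N66 := rfl
theorem L327 : sm ge N66 = N66 := ded_10_2 (flp_a L325) L153 L325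
theorem L328 : sm gc N30 = N67 := rfl
theorem L330 : sm ge N67 = N67 := ded_19_2 (flp_c L328) L153 L328
theorem L331 : sm gb N67 = N67 := ded_13_1 (flp_c L328) (flp_b L151) L72 L151 L328
theorem L332 : sm gf N66 = N67 := ded_30_0 (flp_c L328) (flp_b L151) L70 (flp_f L44) L29 (flp_b L26) L22 L24 (flp_c L20) L16 L15 L17 L20 L26 L36 L68 L72 L151 L325
theorem L334 : sm gc N53 = N66 := ded_20_3 L332 (flp_c L328) (flp_f L258)
theorem L336 : sm ga N67 = N53 := ded_11_1 L258 L325 L332
theorem L338 : sm gg N30 = N68 := rfl
theorem L340 : sm ge N68 = N68 := ded_26_1 (flp_g L338) L153 L338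
theorem L341 : sm ga N31 = N69 := rfl
theorem L343 : sm ge N69 = N69 := ded_10_2 (flp_a L341) L156 L341
theorem L344 : sm gc N31 = N70 := rfl
theorem L346 : sm ge N70 = N70 := ded_19_2 (flp_c L344) L156 L344
theorem L347 : sm gb N70 = N70 := ded_13_1 (flp_c L344) (flp_b L154) L78 L154 L344
theorem L348 : sm gf N31 = N71 := rfl
theorem L350 : sm ge N71 = N71 := ded_25_1 (flp_f L348) L156 L348
theorem L351 : sm ge N32 = N72 := rfl
theorem L353 : sm gb N72 = N72 := ded_15_1 (flp_e L351) L159 L351
theorem L354 : sm gf N32 = N73 := rfl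
theorem L356 : sm gd N73 = N34 := ded_23_1 (flp_f L165) L157 L354
theorem L358 : sm gg N32 = N74 := rfl
theorem L360 : sm gd N74 = N35 := ded_24_1 (flp_g L169) L157 L358
theorem L362 : sm gd N33 = N75 := rfl
theorem L364 : sm gb N75 = N75 := ded_14_1 (flp_d L362) L162 L362
theorem L365 : sm gf N33 = N76 := rfl
theorem L367 : sm gc N76 = N36 := ded_20_1 (flp_f L173) (flp_c L163) L365
theorem L369 : sm ge N76 = N34 := ded_25_1 (flp_f L165) L160 L365
theorem L371 : sm gg N33 = N77 := rfl
theorem L373 : sm gc N77 = N37 := ded_21_1 (flp_g L179) (flp_c L163) L371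
theorem L375 : sm ge N77 = N35 := ded_26_1 (flp_g L169) L160 L371
theorem L377 : sm gb N34 = N78 := rfl
theorem L379 : sm gc N78 = N78 := ded_13_2 (flp_b L377) L167 L92 (flp_c L167) L377
theorem L380 : sm gf N78 = N78 := ded_16_2 (flp_b L377) (flp_f L165) L82 L165 L377
theorem L381 : sm gg N34 = N79 := rfl
theorem L383 : sm gc N79 = N38 := ded_21_1 (flp_g L185) (flp_c L167) L381
theorem L385 : sm gf N61 = N79 := ded_29_0 (flp_g L381) (flp_f L165) L169 (flp_a L299)
theorem L387 : sm gb N35 = N80 := rfl
theorem L389 : sm gc N80 = N80 := ded_13_2 (flp_b L387) L171 L97 (flp_c L171) L387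
theorem L390 : sm gg N80 = N80 := ded_17_2 (flp_b L387) (flp_g L169) L82 L169 L387
theorem L391 : sm gf N35 = N81 := rfl
theorem L393 : sm ga N81 = N79 := ded_11_1 (flp_f L385) L299 L391
theorem L395 : sm gc N81 = N39 := ded_20_1 (flp_f L191) (flp_c L171) L391
theorem L397 : sm gg N81 = N60 := ded_29_3 L293 (flp_f L165) L169 L391
theorem L399 : sm gg N36 = N82 := rfl
theorem L401 : sm gd N82 = N82 := ded_24_1 (flp_g L399) L175 L399
theorem L402 : sm ge N82 = N38 := ded_26_1 (flp_g L185) (flp_e L176) L399
theorem L404 : sm gf N63 = N82 := ded_29_0 (flp_g L399) (flp_f L173) L179 (flp_a L312)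
theorem L406 : sm gf N37 = N83 := rfl
theorem L408 : sm ga N83 = N82 := ded_11_1 (flp_f L404) L312 L406
theorem L410 : sm gd N83 = N83 := ded_23_1 (flp_f L406) L181 L406
theorem L411 : sm ge N83 = N39 := ded_25_1 (flp_f L191) (flp_e L182) L406
theorem L413 : sm gg N83 = N62 := ded_29_3 L305 (flp_f L173) L179 L406
theorem L415 : sm gb N38 = N84 := rfl
theorem L417 : sm gd N84 = N40 := ded_14_2 (flp_b L199) (flp_d L187) L415
theorem L419 : sm gg N84 = N84 := ded_17_2 (flp_b L415) (flp_g L185) L92 L185 L415
theorem L420 : sm gb N39 = N85 := rfl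
theorem L422 : sm gd N85 = N41 := ded_14_2 (flp_b L203) (flp_d L195) L420
theorem L424 : sm gf N85 = N85 := ded_16_2 (flp_b L420) (flp_f L191) L97 L191 L420
theorem L425 : sm ga N40 = N86 := rfl
theorem L427 : sm ge N86 = N86 := ded_10_2 (flp_a L425) L201 L425
theorem L428 : sm gg N86 = N86 := ded_12_2 (flp_a L425) L202 L425
theorem L429 : sm gc N40 = N87 := rfl
theorem L431 : sm ge N87 = N87 := ded_19_2 (flp_c L429) L201 L429
theorem L432 : sm gg N87 = N87 := ded_21_2 (flp_c L429) L202 L429
theorem L433 : sm gb N87 = N87 := ded_13_1 (flp_c L429) (flp_b L199) L100 L199 L429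
theorem L434 : sm gf N40 = N88 := rfl
theorem L436 : sm ge N88 = N88 := ded_25_1 (flp_f L434) L201 L434
theorem L437 : sm gb N88 = N71 := ded_16_1 (flp_f L348) (flp_b L154) L102 L199 L434
theorem L439 : sm ga N41 = N89 := rfl
theorem L441 : sm ge N89 = N89 := ded_10_2 (flp_a L439) L205 L439
theorem L442 : sm gf N89 = N89 := ded_11_2 (flp_a L439) L206 L439
theorem L443 : sm gc N41 = N90 := rfl
theorem L445 : sm ge N90 = N90 := ded_19_2 (flp_c L443) L205 L443
theorem L446 : sm gf N90 = N90 := ded_20_2 (flp_c L443) L206 L443
theorem L447 : sm gb N90 = N90 := ded_13_1 (flp_c L443) (flp_b L203) L108 L203 L443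
theorem L448 : sm gg N41 = N91 := rfl
theorem L450 : sm ge N91 = N91 := ded_26_1 (flp_g L448) L205 L448
theorem L451 : sm gb N91 = N68 := ded_17_1 (flp_g L338) (flp_b L151) (flp_g L110) L203 L448
theorem L453 : sm gb N42 = N92 := rfl
theorem L456 : sm gc N92 = N92 := ded_13_2 (flp_b L453) (flp_c L207) L115 L207 L453
theorem L457 : sm gd N42 = N93 := rfl
theorem L459 : sm ga N93 = N46 := ded_9_1 (flp_d L227) (flp_a L209) L457
theorem L461 : sm gf N42 = N94 := rfl
theorem L463 : sm ga N94 = N47 := ded_11_1 (flp_f L230) (flp_a L209) L461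
theorem L465 : sm gc N94 = N44 := ded_20_1 (flp_f L217) L207 L461
theorem L468 : sm gg N42 = N95 := rfl
theorem L470 : sm ga N95 = N48 := ded_12_1 (flp_g L235) (flp_a L209) L468
theorem L472 : sm gc N95 = N45 := ded_21_1 (flp_g L222) L207 L468
theorem L475 : sm gc N43 = N96 := rfl
theorem L477 : sm ga N96 = N49 := ded_8_1 (flp_c L240) (flp_a L214) L475
theorem L479 : sm ge N43 = N97 := rfl
theorem L481 : sm ga N97 = N50 := ded_10_1 (flp_e L242) (flp_a L214) L479
theorem L483 : sm gb N97 = N97 := ded_15_1 (flp_e L479) L216 L479
theorem L484 : sm gd N97 = N97 := ded_22_1 (flp_e L479) (flp_d L212) L114 L212 L479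
theorem L485 : sm gf N43 = N98 := rfl
theorem L487 : sm ga N98 = N51 := ded_11_1 (flp_f L247) (flp_a L214) L485
theorem L489 : sm gd N98 = N44 := ded_23_1 (flp_f L217) L212 L485
theorem L491 : sm gg N43 = N99 := rfl
theorem L493 : sm ga N99 = N52 := ded_12_1 (flp_g L251) (flp_a L214) L491
theorem L495 : sm gd N99 = N45 := ded_24_1 (flp_g L222) L212 L491
theorem L497 : sm gb N44 = N100 := rfl
theorem L499 : sm ge N100 = N100 := ded_15_2 (flp_b L497) L221 L497
theorem L500 : sm gf N100 = N100 := ded_16_2 (flp_b L497) (flp_f L217) L115 L217 L497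
theorem L501 : sm ga N100 = N100 := ded_7_1 (flp_b L497) L219 L255 (flp_a L336) L331 L336 (flp_b L255) (flp_a L219) L497
theorem L502 : sm gb N45 = N101 := rfl
theorem L504 : sm ge N101 = N101 := ded_15_2 (flp_b L502) L226 L502
theorem L505 : sm gg N101 = N101 := ded_17_2 (flp_b L502) (flp_g L222) L115 L222 L502
theorem L506 : sm gc N46 = N102 := rfl
theorem L508 : sm ge N46 = N103 := rfl
theorem L510 : sm gb N103 = N103 := ded_15_1 (flp_e L508) L229 L508
theorem L512 : sm gf N46 = N104 := rfl
theorem L514 : sm gd N104 = N47 := ded_23_1 (flp_f L230) L227 L512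
theorem L516 : sm gg N46 = N105 := rfl
theorem L518 : sm gd N105 = N48 := ded_24_1 (flp_g L235) L227 L516
theorem L520 : sm gb N47 = N106 := rfl
theorem L522 : sm ge N106 = N106 := ded_15_2 (flp_b L520) L234 L520
theorem L524 : sm gg N47 = N107 := rfl
theorem L526 : sm gc N107 = N54 := ded_21_1 (flp_g L260) (flp_c L232) L524
theorem L529 : sm gf N95 = N107 := ded_29_0 (flp_g L524) (flp_f L230) L235 (flp_a L470)
theorem L531 : sm gb N48 = N108 := rfl
theorem L535 : sm gf N48 = N109 := rfl
theorem L537 : sm ga N109 = N107 := ded_11_1 (flp_f L529) L470 L535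
theorem L539 : sm gc N109 = N56 := ded_20_1 (flp_f L270) (flp_c L237) L535
theorem L542 : sm gg N109 = N94 := ded_29_3 L463 (flp_f L230) L235 L535
theorem L544 : sm gb N49 = N110 := rfl
theorem L546 : sm gc N110 = N57 := ded_13_2 (flp_b L277) (flp_c L130) (flp_b L122) L240 L544
theorem L548 : sm gd N49 = N111 := rfl
theorem L550 : sm ge N49 = N112 := rfl
theorem L552 : sm gc N112 = N50 := ded_19_1 (flp_e L242) L240 L550
theorem L554 : sm gf N49 = N113 := rfl
theorem L556 : sm gc N113 = N51 := ded_20_1 (flp_f L247) L240 L554
theorem L558 : sm gg N49 = N114 := rfl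
theorem L560 : sm gc N114 = N52 := ded_21_1 (flp_g L251) L240 L558
theorem L562 : sm gf N50 = N115 := rfl
theorem L564 : sm gd N115 = N115 := ded_23_1 (flp_f L562) L246 L562
theorem L565 : sm ge N115 = N51 := ded_25_1 (flp_f L247) L242 L562
theorem L567 : sm gg N50 = N116 := rfl
theorem L569 : sm gd N116 = N116 := ded_24_1 (flp_g L567) L246 L567
theorem L570 : sm ge N116 = N52 := ded_26_1 (flp_g L251) L242 L567
theorem L572 : sm gb N51 = N117 := rfl
theorem L574 : sm gd N117 = N53 := ded_14_2 (flp_b L255) (flp_d L249) L572
theorem L576 : sm gf N117 = N64 := ded_16_2 (flp_b L317) (flp_f L139) (flp_b L122) L247 L572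
theorem L578 : sm gg N51 = N118 := rfl
theorem L580 : sm gd N118 = N54 := ded_24_1 (flp_g L260) (flp_d L249) L578
theorem L582 : sm gf N99 = N118 := ded_29_0 (flp_g L578) (flp_f L247) L251 (flp_a L493)
theorem L584 : sm gb N52 = N119 := rfl
theorem L586 : sm gd N119 = N55 := ded_14_2 (flp_b L265) (flp_d L253) L584
theorem L588 : sm gg N119 = N65 := ded_17_2 (flp_b L321) (flp_g L145) (flp_b L122) L251 L584
theorem L590 : sm gf N52 = N120 := rfl
theorem L592 : sm ga N120 = N118 := ded_11_1 (flp_f L582) L493 L590
theorem L594 : sm gd N120 = N56 := ded_23_1 (flp_f L270) (flp_d L253) L590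
theorem L596 : sm gg N120 = N98 := ded_29_3 L487 (flp_f L247) L251 L590
theorem L598 : sm gg N53 = N121 := rfl
theorem L600 : sm ge N121 = N121 := ded_26_1 (flp_g L598) L257 L598
theorem L601 : sm gb N54 = N122 := rfl
theorem L603 : sm ge N122 = N122 := ded_15_2 (flp_b L601) L262 L601
theorem L604 : sm ga N55 = N123 := rfl
theorem L607 : sm gg N123 = N69 := ded_12_2 (flp_a L341) (flp_g L268) L604
theorem L609 : sm gc N55 = N124 := rfl
theorem L612 : sm gg N124 = N70 := ded_21_2 (flp_c L344) (flp_g L268) L609
theorem L614 : sm gf N55 = N125 := rfl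
theorem L616 : sm ge N125 = N125 := ded_25_1 (flp_f L614) L267 L614
theorem L617 : sm gb N125 = N121 := ded_31_2 (flp_g L598) L258 (flp_b L151) (flp_g L110) (flp_f L104) L53 (flp_g L49) L44 L48 L98 (flp_f L102) L154 (flp_g L268) L614
theorem L619 : sm gg N122 = N125 := ded_17_0 L617 (flp_g L598) (flp_b L255) L260 L601
theorem L621 : sm gf N122 = N69 := ded_29_2 (flp_g L607) (flp_a L604) L614 (flp_g L619)
theorem L623 : sm ga N122 = N71 := ded_29_4 (flp_f L348) (flp_g L268) L614 (flp_g L619)
theorem L625 : sm gb N56 = N126 := rfl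
theorem L627 : sm ge N126 = N126 := ded_15_2 (flp_b L625) L274 L625
theorem L628 : sm gf N126 = N121 := ded_16_2 (flp_b L617) (flp_f L614) (flp_b L265) L270 L625
theorem L630 : sm gg N66 = N126 := ded_29_1 L628 (flp_g L598) (flp_a L336) (flp_f L332)
theorem L632 : sm ga N68 = N126 := ded_29_4 L628 (flp_g L598) L258 L338
theorem L634 : sm gc N126 = N121 := ded_21_1 (flp_g L598) L334 L630
theorem L636 : sm ga N57 = N127 := rfl
theorem L638 : sm gd N57 = N128 := rfl
theorem L640 : sm gb N128 = N58 := ded_14_1 (flp_d L279) L277 L638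
theorem L642 : sm gc N128 = N128 := ded_13_0 L640 (flp_c L283) L159 L283 (flp_b L640)
theorem L643 : sm ge N57 = N129 := rfl
theorem L645 : sm gb N129 = N59 := ded_15_1 (flp_e L285) L277 L643
theorem L647 : sm gf N57 = N130 := rfl
theorem L649 : sm gg N57 = N131 := rfl
theorem L651 : sm ge N58 = N132 := rfl
theorem L653 : sm ga N132 = N72 := ded_10_1 (flp_e L351) (flp_a L281) L651
theorem L655 : sm gc N132 = N72 := ded_19_1 (flp_e L351) L283 L651
theorem L657 : sm gf N58 = N133 := rfl
theorem L659 : sm ga N133 = N73 := ded_11_1 (flp_f L354) (flp_a L281) L657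
theorem L661 : sm gc N133 = N73 := ded_20_1 (flp_f L354) L283 L657
theorem L663 : sm gd N133 = N60 := ded_23_1 (flp_f L291) L279 L657
theorem L665 : sm gg N58 = N134 := rfl
theorem L667 : sm ga N134 = N74 := ded_12_1 (flp_g L358) (flp_a L281) L665
theorem L669 : sm gc N134 = N74 := ded_21_1 (flp_g L358) L283 L665
theorem L671 : sm gd N134 = N61 := ded_24_1 (flp_g L297) L279 L665
theorem L673 : sm gd N59 = N135 := rfl
theorem L675 : sm ga N135 = N75 := ded_9_1 (flp_d L362) (flp_a L287) L673
theorem L677 : sm gf N59 = N136 := rfl
theorem L679 : sm ga N136 = N76 := ded_11_1 (flp_f L365) (flp_a L287) L677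
theorem L681 : sm gc N136 = N62 := ded_20_1 (flp_f L303) (flp_c L289) L677
theorem L683 : sm ge N136 = N60 := ded_25_1 (flp_f L291) L285 L677
theorem L685 : sm gg N59 = N137 := rfl
theorem L687 : sm ga N137 = N77 := ded_12_1 (flp_g L371) (flp_a L287) L685
theorem L689 : sm gc N137 = N63 := ded_21_1 (flp_g L310) (flp_c L289) L685
theorem L691 : sm ge N137 = N61 := ded_26_1 (flp_g L297) L285 L685
theorem L693 : sm gb N60 = N138 := rfl
theorem L695 : sm gb N61 = N139 := rfl
theorem L697 : sm gb N62 = N140 := rfl
theorem L699 : sm gd N140 = N140 := ded_14_2 (flp_b L697) L307 L697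
theorem L700 : sm ge N140 = N64 := ded_15_2 (flp_b L317) (flp_e L308) L697
theorem L702 : sm gb N63 = N141 := rfl
theorem L704 : sm gd N141 = N141 := ded_14_2 (flp_b L702) L314 L702
theorem L705 : sm ge N141 = N65 := ded_15_2 (flp_b L321) (flp_e L315) L702
theorem L707 : sm ga N64 = N142 := rfl
theorem L709 : sm gd N142 = N66 := ded_9_2 (flp_a L325) (flp_d L319) L707
theorem L711 : sm gc N64 = N143 := rfl
theorem L713 : sm gg N64 = N144 := rfl
theorem L715 : sm gd N144 = N68 := ded_24_1 (flp_g L338) (flp_d L319) L713
theorem L717 : sm ga N65 = N145 := rfl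
theorem L719 : sm gd N145 = N69 := ded_9_2 (flp_a L341) (flp_d L323) L717
theorem L721 : sm gc N65 = N146 := rfl
theorem L723 : sm gf N65 = N147 := rfl
theorem L725 : sm gd N147 = N71 := ded_23_1 (flp_f L348) (flp_d L323) L723
theorem L727 : sm gb N66 = N148 := rfl
theorem L729 : sm ge N148 = N148 := ded_15_2 (flp_b L727) L327 L727
theorem L730 : sm gc N148 = N106 := ded_13_2 (flp_b L520) L232 L255 L334 L727
theorem L732 : sm gf N148 = N148 := ded_16_2 (flp_b L727) L332 L331 (flp_f L332) L727
theorem L733 : sm gg N148 = N100 := ded_17_2 (flp_b L497) (flp_g L275) L625 (flp_g L630) L727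
theorem L735 : sm ga N148 = N148 := ded_7_1 (flp_b L727) (flp_a L325) (flp_b L151) L70 L48 (flp_a L70) L151 L325 L727
theorem L737 : sm gd N67 = N149 := rfl
theorem L739 : sm ga N149 = N117 := ded_9_1 L574 (flp_a L336) L737
theorem L741 : sm gb N149 = N149 := ded_14_1 (flp_d L737) L331 L737
theorem L742 : sm gf N149 = N142 := ded_23_2 L709 L332 L737
theorem L744 : sm gg N67 = N150 := rfl
theorem L746 : sm ga N150 = N121 := ded_12_1 (flp_g L598) (flp_a L336) L744
theorem L748 : sm gc N150 = N68 := ded_21_1 (flp_g L338) L328 L744
theorem L750 : sm ge N150 = N150 := ded_26_1 (flp_g L744) L330 L744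
theorem L751 : sm gf N68 = N150 := ded_29_0 (flp_g L744) (flp_f L332) L630 (flp_a L632)
theorem L753 : sm gb N69 = N151 := rfl
theorem L755 : sm ge N151 = N151 := ded_15_2 (flp_b L753) L343 L753
theorem L756 : sm gf N151 = N101 := ded_16_2 (flp_b L502) L263 L601 L621 L753
theorem L758 : sm ga N151 = N151 := ded_7_1 (flp_b L753) (flp_a L341) (flp_b L154) L76 L53 (flp_a L76) L154 L341 L753
theorem L759 : sm gg N151 = N151 := ded_31_3 L756 (flp_b L502) (flp_g L222) L217 L497 (flp_g L733) L732 (flp_b L727) L630 L628 (flp_b L617) (flp_g L619) L621 L753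
theorem L761 : sm ga N101 = N101 := ded_11_1 (flp_f L756) L758 L756
theorem L762 : sm gc N69 = N152 := rfl
theorem L764 : sm ga N152 = N70 := ded_8_1 (flp_c L344) L341 L762
theorem L766 : sm ge N152 = N152 := ded_19_2 (flp_c L762) L343 L762
theorem L767 : sm gd N70 = N153 := rfl
theorem L769 : sm gb N153 = N153 := ded_14_1 (flp_d L767) L347 L767
theorem L770 : sm gf N70 = N154 := rfl
theorem L772 : sm gc N154 = N71 := ded_20_1 (flp_f L348) L344 L770
theorem L774 : sm ge N154 = N154 := ded_25_1 (flp_f L770) L346 L770
theorem L775 : sm gg N71 = N155 := rfl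
theorem L777 : sm ga N155 = N125 := ded_12_1 (flp_g L619) L623 L775
theorem L780 : sm gf N123 = N155 := ded_29_0 (flp_g L775) (flp_f L348) (flp_g L268) L604
theorem L782 : sm gd N72 = N156 := rfl
theorem L784 : sm gb N156 = N156 := ded_14_1 (flp_d L782) L353 L782
theorem L785 : sm ge N156 = N75 := ded_22_2 (flp_d L362) (flp_e L160) L157 L351 L782
theorem L787 : sm gf N72 = N157 := rfl
theorem L789 : sm ge N157 = N73 := ded_25_1 (flp_f L354) L351 L787
theorem L791 : sm gg N72 = N158 := rfl
theorem L793 : sm ge N158 = N74 := ded_26_1 (flp_g L358) L351 L791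
theorem L795 : sm gb N73 = N159 := rfl
theorem L797 : sm gd N159 = N78 := ded_14_2 (flp_b L377) (flp_d L356) L795
theorem L799 : sm gf N159 = N159 := ded_16_2 (flp_b L795) (flp_f L354) L159 L354 L795
theorem L800 : sm gg N73 = N160 := rfl
theorem L802 : sm gd N160 = N79 := ded_24_1 (flp_g L381) (flp_d L356) L800
theorem L804 : sm gf N134 = N160 := ded_29_0 (flp_g L800) (flp_f L354) L358 (flp_a L667)
theorem L806 : sm gb N74 = N161 := rfl
theorem L808 : sm gd N161 = N80 := ded_14_2 (flp_b L387) (flp_d L360) L806
theorem L810 : sm gg N161 = N161 := ded_17_2 (flp_b L806) (flp_g L358) L159 L358 L806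
theorem L811 : sm gf N74 = N162 := rfl
theorem L813 : sm ga N162 = N160 := ded_11_1 (flp_f L804) L667 L811
theorem L815 : sm gc N162 = N160 := ded_20_1 (flp_f L804) L669 L811
theorem L817 : sm gd N162 = N81 := ded_23_1 (flp_f L391) (flp_d L360) L811
theorem L819 : sm gg N162 = N133 := ded_29_3 L659 (flp_f L354) L358 L811
theorem L821 : sm gc N75 = N163 := rfl
theorem L823 : sm gf N75 = N164 := rfl
theorem L825 : sm gd N164 = N76 := ded_23_1 (flp_f L365) L362 L823
theorem L827 : sm gg N75 = N165 := rfl
theorem L829 : sm gd N165 = N77 := ded_24_1 (flp_g L371) L362 L827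
theorem L831 : sm gb N76 = N166 := rfl
theorem L833 : sm ge N166 = N78 := ded_15_2 (flp_b L377) (flp_e L369) L831
theorem L835 : sm gc N166 = N166 := ded_13_2 (flp_b L831) L367 L178 (flp_c L367) L831
theorem L836 : sm gf N166 = N166 := ded_16_2 (flp_b L831) (flp_f L365) L162 L365 L831
theorem L837 : sm gg N76 = N167 := rfl
theorem L839 : sm gc N167 = N82 := ded_21_1 (flp_g L399) (flp_c L367) L837
theorem L841 : sm ge N167 = N79 := ded_26_1 (flp_g L381) (flp_e L369) L837
theorem L843 : sm gf N137 = N167 := ded_29_0 (flp_g L837) (flp_f L365) L371 (flp_a L687)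
theorem L845 : sm gb N77 = N168 := rfl
theorem L847 : sm ge N168 = N80 := ded_15_2 (flp_b L387) (flp_e L375) L845
theorem L849 : sm gc N168 = N168 := ded_13_2 (flp_b L845) L373 L184 (flp_c L373) L845
theorem L850 : sm gg N168 = N168 := ded_17_2 (flp_b L845) (flp_g L371) L162 L371 L845
theorem L851 : sm gf N77 = N169 := rfl
theorem L853 : sm ga N169 = N167 := ded_11_1 (flp_f L843) L687 L851
theorem L855 : sm gc N169 = N83 := ded_20_1 (flp_f L406) (flp_c L373) L851
theorem L857 : sm ge N169 = N81 := ded_25_1 (flp_f L391) (flp_e L375) L851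
theorem L859 : sm gg N169 = N136 := ded_29_3 L679 (flp_f L365) L371 L851
theorem L861 : sm ga N78 = N170 := rfl
theorem L863 : sm gc N170 = N170 := ded_8_2 (flp_a L861) L379 L861
theorem L864 : sm gf N170 = N170 := ded_11_2 (flp_a L861) L380 L861
theorem L865 : sm gg N78 = N171 := rfl
theorem L867 : sm gc N171 = N171 := ded_21_1 (flp_g L865) L379 L865
theorem L868 : sm gb N79 = N172 := rfl
theorem L870 : sm ga N80 = N173 := rfl
theorem L872 : sm gc N173 = N173 := ded_8_2 (flp_a L870) L389 L870
theorem L873 : sm gg N173 = N173 := ded_12_2 (flp_a L870) L390 L870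
theorem L874 : sm gf N80 = N174 := rfl
theorem L876 : sm gc N174 = N174 := ded_20_1 (flp_f L874) L389 L874
theorem L877 : sm gb N81 = N175 := rfl
theorem L879 : sm gb N82 = N176 := rfl
theorem L881 : sm gd N176 = N176 := ded_14_2 (flp_b L879) L401 L879
theorem L882 : sm ge N176 = N84 := ded_15_2 (flp_b L415) (flp_e L402) L879
theorem L884 : sm gg N176 = N176 := ded_17_2 (flp_b L879) (flp_g L399) L178 L399 L879
theorem L885 : sm gb N83 = N177 := rfl
theorem L887 : sm gd N177 = N177 := ded_14_2 (flp_b L885) L410 L885
theorem L888 : sm ge N177 = N85 := ded_15_2 (flp_b L420) (flp_e L411) L885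
theorem L890 : sm gf N177 = N177 := ded_16_2 (flp_b L885) (flp_f L406) L184 L406 L885
theorem L891 : sm ga N84 = N178 := rfl
theorem L893 : sm gd N178 = N86 := ded_9_2 (flp_a L425) (flp_d L417) L891
theorem L895 : sm gg N178 = N178 := ded_12_2 (flp_a L891) L419 L891
theorem L896 : sm gc N84 = N179 := rfl
theorem L898 : sm gg N179 = N179 := ded_21_2 (flp_c L896) L419 L896
theorem L899 : sm gf N84 = N180 := rfl
theorem L901 : sm gd N180 = N88 := ded_23_1 (flp_f L434) (flp_d L417) L899
theorem L903 : sm gb N180 = N147 := ded_16_1 (flp_f L723) (flp_b L321) L189 L415 L899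
theorem L905 : sm ga N85 = N181 := rfl
theorem L907 : sm gd N181 = N89 := ded_9_2 (flp_a L439) (flp_d L422) L905
theorem L909 : sm gf N181 = N181 := ded_11_2 (flp_a L905) L424 L905
theorem L910 : sm gc N85 = N182 := rfl
theorem L912 : sm gf N182 = N182 := ded_20_2 (flp_c L910) L424 L910
theorem L913 : sm gg N85 = N183 := rfl
theorem L915 : sm gd N183 = N91 := ded_24_1 (flp_g L448) (flp_d L422) L913
theorem L917 : sm gb N183 = N144 := ded_17_1 (flp_g L713) (flp_b L317) (flp_g L197) L420 L913
theorem L919 : sm gb N86 = N184 := rfl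
theorem L922 : sm gc N86 = N185 := rfl
theorem L924 : sm ga N185 = N87 := ded_8_1 (flp_c L429) L425 L922
theorem L926 : sm ge N185 = N185 := ded_19_2 (flp_c L922) L427 L922
theorem L927 : sm gg N185 = N185 := ded_21_2 (flp_c L922) L428 L922
theorem L928 : sm gf N86 = N186 := rfl
theorem L930 : sm ga N186 = N88 := ded_11_1 (flp_f L434) L425 L928
theorem L932 : sm ge N186 = N186 := ded_25_1 (flp_f L928) L427 L928
theorem L933 : sm gg N186 = N88 := ded_29_3 (flp_a L930) (flp_f L928) L428 L928
theorem L935 : N184 = N150 := coi_31_3 (flp_g L744) (flp_f L332) L727 L733 L500 (flp_b L497) (flp_g L275) (flp_f L270) L265 L268 L348 (flp_b L437) (flp_g L933) (flp_f L928) L919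
theorem L936 : N184 = N150 := eqc rfl L935 rfl
theorem L937 : sm gb N150 = N86 := trfs L936 (flp_b L919) rfl
theorem L940 : sm gb N89 = N155 := ded_7_6 L777 L617 (flp_a L746) L937 (flp_a L425) (flp_b L199) (flp_a L106) L203 L439
theorem L942 : sm gd N87 = N187 := rfl
theorem L945 : sm gg N187 = N187 := ded_24_2 (flp_d L942) L432 L942
theorem L946 : sm gf N87 = N188 := rfl
theorem L948 : sm gc N188 = N88 := ded_20_1 (flp_f L434) L429 L946
theorem L950 : sm ge N188 = N188 := ded_25_1 (flp_f L946) L431 L946
theorem L951 : sm gc N89 = N189 := rfl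
theorem L953 : sm ga N189 = N90 := ded_8_1 (flp_c L443) L439 L951
theorem L955 : sm ge N189 = N189 := ded_19_2 (flp_c L951) L441 L951
theorem L956 : sm gf N189 = N189 := ded_20_2 (flp_c L951) L442 L951
theorem L957 : sm gg N89 = N190 := rfl
theorem L959 : sm ga N190 = N91 := ded_12_1 (flp_g L448) L439 L957
theorem L961 : sm ge N190 = N190 := ded_26_1 (flp_g L957) L441 L957
theorem L962 : sm gf N91 = N190 := ded_29_0 (flp_g L957) L442 L957 L959
theorem L964 : sm gb N190 = N186 := ded_17_1 L933 L437 L775 (flp_b L940) L957
theorem L966 : sm gd N90 = N191 := rfl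
theorem L970 : sm gg N90 = N192 := rfl
theorem L972 : sm gc N192 = N91 := ded_21_1 (flp_g L448) L443 L970
theorem L974 : sm ge N192 = N192 := ded_26_1 (flp_g L970) L445 L970
theorem L975 : sm gb N185 = N192 := ded_13_5 L972 L451 (flp_c L748) L937 L922
theorem L977 : sm gb N152 = N95 := ded_30_10 L470 L535 L539 L625 (flp_a L632) L751 L748 (flp_b L451) (flp_a L959) (flp_f L962) (flp_c L972) (flp_b L975) L924 L946 L948 L437 (flp_a L623) L621 L762
theorem L979 : sm gc N101 = N151 := ded_13_4 (flp_b L753) L762 L977 L472 L502
theorem L982 : sm ga N92 = N193 := rfl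
theorem L984 : sm gc N193 = N193 := ded_8_2 (flp_a L982) L456 L982
theorem L986 : sm gd N92 = N194 := rfl
theorem L988 : sm gb N194 = N93 := ded_14_1 (flp_d L457) L453 L986
theorem L990 : sm gf N92 = N195 := rfl
theorem L992 : sm gc N195 = N195 := ded_20_1 (flp_f L990) L456 L990
theorem L994 : sm gg N92 = N196 := rfl
theorem L998 : sm gc N93 = N197 := rfl
theorem L1000 : sm ga N197 = N102 := ded_8_1 (flp_c L506) (flp_a L459) L998
theorem L1002 : sm ge N93 = N198 := rfl
theorem L1004 : sm ga N198 = N103 := ded_10_1 (flp_e L508) (flp_a L459) L1002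
theorem L1006 : sm gd N198 = N198 := ded_22_1 (flp_e L1002) (flp_d L457) L211 L457 L1002
theorem L1007 : sm gf N93 = N199 := rfl
theorem L1009 : sm ga N199 = N104 := ded_11_1 (flp_f L512) (flp_a L459) L1007
theorem L1011 : sm gd N199 = N94 := ded_23_1 (flp_f L461) L457 L1007
theorem L1013 : sm gg N93 = N200 := rfl
theorem L1017 : sm gd N200 = N95 := ded_24_1 (flp_g L468) L457 L1013
theorem L1019 : sm gb N94 = N201 := rfl
theorem L1022 : sm gb N96 = N202 := rfl
theorem L1024 : sm gc N202 = N202 := ded_13_2 (flp_b L1022) (flp_c L475) L216 L475 L1022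
theorem L1025 : sm gd N96 = N203 := rfl
theorem L1027 : sm ga N203 = N111 := ded_9_1 (flp_d L548) (flp_a L477) L1025
theorem L1029 : sm ge N96 = N204 := rfl
theorem L1031 : sm ga N204 = N112 := ded_10_1 (flp_e L550) (flp_a L477) L1029
theorem L1033 : sm gc N204 = N97 := ded_19_1 (flp_e L479) L475 L1029
theorem L1035 : sm gf N96 = N205 := rfl
theorem L1037 : sm ga N205 = N113 := ded_11_1 (flp_f L554) (flp_a L477) L1035
theorem L1039 : sm gc N205 = N98 := ded_20_1 (flp_f L485) L475 L1035
theorem L1041 : sm gg N96 = N206 := rfl
theorem L1043 : sm ga N206 = N114 := ded_12_1 (flp_g L558) (flp_a L477) L1041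
theorem L1045 : sm gc N206 = N99 := ded_21_1 (flp_g L491) L475 L1041
theorem L1047 : sm gf N97 = N207 := rfl
theorem L1049 : sm ga N207 = N115 := ded_11_1 (flp_f L562) (flp_a L481) L1047
theorem L1051 : sm gd N207 = N207 := ded_23_1 (flp_f L1047) L484 L1047
theorem L1052 : sm ge N207 = N98 := ded_25_1 (flp_f L485) L479 L1047
theorem L1054 : sm gg N97 = N208 := rfl
theorem L1056 : sm ga N208 = N116 := ded_12_1 (flp_g L567) (flp_a L481) L1054
theorem L1058 : sm gd N208 = N208 := ded_24_1 (flp_g L1054) L484 L1054
theorem L1059 : sm ge N208 = N99 := ded_26_1 (flp_g L491) L479 L1054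
theorem L1061 : sm gb N98 = N209 := rfl
theorem L1063 : sm gd N209 = N100 := ded_14_2 (flp_b L497) (flp_d L489) L1061
theorem L1065 : sm gf N209 = N209 := ded_16_2 (flp_b L1061) (flp_f L485) L216 L485 L1061
theorem L1066 : sm ga N209 = N209 := ded_7_1 (flp_b L1061) L487 L572 (flp_a L739) L741 L739 (flp_b L572) (flp_a L487) L1061
theorem L1067 : sm gb N99 = N210 := rfl
theorem L1069 : sm gd N210 = N101 := ded_14_2 (flp_b L502) (flp_d L495) L1067
theorem L1071 : sm gg N210 = N210 := ded_17_2 (flp_b L1067) (flp_g L491) L216 L491 L1067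
theorem L1072 : sm ga N210 = N210 := ded_9_3 L1069 L761 (flp_d L1069)
theorem L1073 : sm gc N100 = N211 := rfl
theorem L1075 : sm ga N211 = N211 := ded_8_1 (flp_c L1073) L501 L1073
theorem L1076 : sm ge N211 = N211 := ded_19_2 (flp_c L1073) L499 L1073
theorem L1077 : sm gf N211 = N211 := ded_20_2 (flp_c L1073) L500 L1073
theorem L1078 : sm gg N211 = N106 := ded_21_2 (flp_c L730) L733 L1073
theorem L1080 : sm gb N102 = N212 := rfl
theorem L1083 : sm gd N102 = N213 := rfl
theorem L1085 : sm gc N203 = N213 := ded_28_0 (flp_d L1083) (flp_c L506) (flp_d L227) (flp_c L116) L120 L240 L548 (flp_a L1027)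
theorem L1087 : sm ge N102 = N214 := rfl
theorem L1089 : sm gc N214 = N103 := ded_19_1 (flp_e L508) L506 L1087
theorem L1091 : sm gf N102 = N215 := rfl
theorem L1093 : sm gc N215 = N104 := ded_20_1 (flp_f L512) L506 L1091
theorem L1095 : sm gg N102 = N216 := rfl
theorem L1097 : sm gc N216 = N105 := ded_21_1 (flp_g L516) L506 L1095
theorem L1099 : sm gf N103 = N217 := rfl
theorem L1102 : sm ge N217 = N104 := ded_25_1 (flp_f L512) L508 L1099
theorem L1104 : sm gg N103 = N218 := rfl
theorem L1107 : sm ge N218 = N105 := ded_26_1 (flp_g L516) L508 L1104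
theorem L1109 : sm gb N104 = N219 := rfl
theorem L1111 : sm gd N219 = N106 := ded_14_2 (flp_b L520) (flp_d L514) L1109
theorem L1115 : sm gg N104 = N220 := rfl
theorem L1117 : sm gd N220 = N107 := ded_24_1 (flp_g L524) (flp_d L514) L1115
theorem L1121 : sm gb N105 = N221 := rfl
theorem L1123 : sm gd N221 = N108 := ded_14_2 (flp_b L531) (flp_d L518) L1121
theorem L1127 : sm gf N105 = N222 := rfl
theorem L1131 : sm gd N222 = N109 := ded_23_1 (flp_f L535) (flp_d L518) L1127
theorem L1133 : sm gg N222 = N199 := ded_29_3 L1009 (flp_f L512) L516 L1127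
theorem L1135 : sm gb N107 = N223 := rfl
theorem L1138 : sm gc N108 = N224 := rfl
theorem L1143 : sm gb N224 = N124 := ded_13_1 (flp_c L609) (flp_b L265) (flp_c L237) L531 L1138
theorem L1145 : sm gf N108 = N225 := rfl
theorem L1150 : sm gb N109 = N226 := rfl
theorem L1153 : sm gc N226 = N125 := ded_13_2 L617 (flp_c L634) (flp_b L625) (flp_c L539) L1150
theorem L1155 : sm gf N124 = N226 := ded_20_0 L1153 (flp_f L614) L609
theorem L1157 : N225 = N224 := coi_16_5 L1143 L1155 (flp_b L1150) (flp_f L535) L531 L1145
theorem L1158 : N225 = N224 := eqc rfl L1157 rfl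
theorem L1161 : sm gf N224 = N108 := trfs L1158 (flp_f L1145) rfl
theorem L1164 : sm ga N110 = N227 := rfl
theorem L1166 : sm gc N227 = N127 := ded_8_2 (flp_a L636) (flp_c L546) L1164
theorem L1168 : sm gd N110 = N228 := rfl
theorem L1170 : sm gb N228 = N111 := ded_14_1 (flp_d L548) L544 L1168
theorem L1172 : sm ge N110 = N229 := rfl
theorem L1174 : sm gb N229 = N112 := ded_15_1 (flp_e L550) L544 L1172
theorem L1176 : sm gc N229 = N129 := ded_19_1 (flp_e L643) (flp_c L546) L1172
theorem L1178 : sm gf N110 = N230 := rfl
theorem L1180 : sm gc N230 = N130 := ded_20_1 (flp_f L647) (flp_c L546) L1178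
theorem L1182 : sm gg N110 = N231 := rfl
theorem L1184 : sm gc N231 = N131 := ded_21_1 (flp_g L649) (flp_c L546) L1182
theorem L1186 : sm gc N111 = N232 := rfl
theorem L1188 : sm ga N232 = N213 := ded_8_1 (flp_c L1085) L1027 L1186
theorem L1190 : sm gd N232 = N197 := ded_28_7 L1000 (flp_c L506) (flp_d L227) (flp_c L116) L120 L240 L548 L1186
theorem L1192 : sm ge N111 = N233 := rfl
theorem L1194 : sm gf N111 = N234 := rfl
theorem L1196 : sm gd N234 = N113 := ded_23_1 (flp_f L554) L548 L1194
theorem L1198 : sm gg N111 = N235 := rfl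
theorem L1200 : sm gd N235 = N114 := ded_24_1 (flp_g L558) L548 L1198
theorem L1202 : sm gd N112 = N236 := rfl
theorem L1204 : sm gf N112 = N237 := rfl
theorem L1206 : sm gc N237 = N115 := ded_20_1 (flp_f L562) (flp_c L552) L1204
theorem L1208 : sm ge N237 = N113 := ded_25_1 (flp_f L554) L550 L1204
theorem L1210 : sm gg N112 = N238 := rfl
theorem L1212 : sm gc N238 = N116 := ded_21_1 (flp_g L567) (flp_c L552) L1210
theorem L1214 : sm ge N238 = N114 := ded_26_1 (flp_g L558) L550 L1210
theorem L1216 : sm gb N113 = N239 := rfl
theorem L1218 : sm gg N113 = N240 := rfl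
theorem L1220 : sm gc N240 = N118 := ded_21_1 (flp_g L578) (flp_c L556) L1218
theorem L1222 : sm gf N206 = N240 := ded_29_0 (flp_g L1218) (flp_f L554) L558 (flp_a L1043)
theorem L1224 : sm gb N114 = N241 := rfl
theorem L1226 : sm gf N114 = N242 := rfl
theorem L1228 : sm ga N242 = N240 := ded_11_1 (flp_f L1222) L1043 L1226
theorem L1230 : sm gc N242 = N120 := ded_20_1 (flp_f L590) (flp_c L560) L1226
theorem L1232 : sm gg N242 = N205 := ded_29_3 L1037 (flp_f L554) L558 L1226
theorem L1234 : sm gb N115 = N243 := rfl
theorem L1236 : sm gd N243 = N243 := ded_14_2 (flp_b L1234) L564 L1234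
theorem L1237 : sm ge N243 = N117 := ded_15_2 (flp_b L572) (flp_e L565) L1234
theorem L1239 : sm gf N243 = N140 := ded_16_2 (flp_b L697) (flp_f L303) (flp_b L244) L562 L1234
theorem L1241 : sm gg N115 = N244 := rfl
theorem L1243 : sm gd N244 = N244 := ded_24_1 (flp_g L1241) L564 L1241
theorem L1244 : sm ge N244 = N118 := ded_26_1 (flp_g L578) (flp_e L565) L1241
theorem L1246 : sm gf N208 = N244 := ded_29_0 (flp_g L1241) (flp_f L562) L567 (flp_a L1056)
theorem L1248 : sm gb N116 = N245 := rfl
theorem L1250 : sm gd N245 = N245 := ded_14_2 (flp_b L1248) L569 L1248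
theorem L1251 : sm ge N245 = N119 := ded_15_2 (flp_b L584) (flp_e L570) L1248
theorem L1253 : sm gg N245 = N141 := ded_17_2 (flp_b L702) (flp_g L310) (flp_b L244) L567 L1248
theorem L1255 : sm gf N116 = N246 := rfl
theorem L1257 : sm ga N246 = N244 := ded_11_1 (flp_f L1246) L1056 L1255
theorem L1259 : sm gd N246 = N246 := ded_23_1 (flp_f L1255) L569 L1255
theorem L1260 : sm ge N246 = N120 := ded_25_1 (flp_f L590) (flp_e L570) L1255
theorem L1262 : sm gg N246 = N207 := ded_29_3 L1049 (flp_f L562) L567 L1255
theorem L1264 : sm gc N117 = N247 := rfl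
theorem L1266 : sm gf N247 = N143 := ded_20_2 (flp_c L711) (flp_f L576) L1264
theorem L1268 : sm gg N117 = N248 := rfl
theorem L1270 : sm gd N248 = N121 := ded_24_1 (flp_g L598) (flp_d L574) L1268
theorem L1272 : sm gb N118 = N249 := rfl
theorem L1274 : sm gd N249 = N122 := ded_14_2 (flp_b L601) (flp_d L580) L1272
theorem L1276 : sm ga N147 = N249 := ded_9_3 L1274 L623 (flp_d L725)
theorem L1278 : sm gf N145 = N249 := ded_23_0 L1274 L621 (flp_d L719)
theorem L1280 : sm ga N119 = N250 := rfl
theorem L1282 : sm gd N250 = N123 := ded_9_2 (flp_a L604) (flp_d L586) L1280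
theorem L1284 : sm gg N250 = N145 := ded_12_2 (flp_a L717) (flp_g L588) L1280
theorem L1286 : sm gb N250 = N250 := ded_7_2 (flp_a L1280) (flp_b L584) (flp_a L493) L1067 L1072 (flp_b L1067) L493 L584 L1280
theorem L1287 : sm gc N119 = N251 := rfl
theorem L1289 : sm gg N251 = N146 := ded_21_2 (flp_c L721) (flp_g L588) L1287
theorem L1291 : sm gf N119 = N252 := rfl
theorem L1293 : sm gd N252 = N125 := ded_23_1 (flp_f L614) (flp_d L586) L1291
theorem L1295 : sm gg N252 = N249 := ded_29_3 (flp_a L1276) (flp_f L723) (flp_g L588) L1291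
theorem L1297 : sm gb N252 = N248 := ded_31_2 (flp_g L1268) L576 (flp_b L317) (flp_g L197) (flp_f L191) L97 (flp_g L93) L88 L92 L185 (flp_f L189) L321 (flp_g L588) L1291
theorem L1299 : sm gb N120 = N253 := rfl
theorem L1301 : sm gd N253 = N126 := ded_14_2 (flp_b L625) (flp_d L594) L1299
theorem L1303 : sm gf N253 = N248 := ded_16_2 (flp_b L1297) (flp_f L1291) (flp_b L584) L590 L1299
theorem L1305 : sm ga N144 = N253 := ded_9_3 L1301 (flp_a L632) (flp_d L715)
theorem L1307 : sm gg N142 = N253 := ded_24_0 L1301 (flp_g L630) (flp_d L709)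
theorem L1309 : sm gc N122 = N254 := rfl
theorem L1311 : sm ga N254 = N154 := ded_8_1 L772 (flp_a L623) L1309

end Cfsg.Agent.Helper28.SzbA
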