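import Cfsg.Agent.Helper28.SzbB4

/-! # The Suzuki group presentation, cosets of the subgroup generated by a, b, c, d, f, g: the coset enumeration, part 5 (helper28; generated) -/

set_option autoImplicit false

noncomputable section

namespace Cfsg.Agent.Helper28.SzbA

open Cfsg.Agent.Helper28.CosetTable

theorem L1314 : sm gf N254 = N152 := ded_20_2 (flp_c L762) (flp_f L621) L1309
theorem L1316 : sm gg N254 = N226 := ded_21_2 L1153 (flp_g L619) L1309
theorem L1318 : sm gc N123 = N255 := rfl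
theorem L1320 : sm ga N255 = N124 := ded_8_1 (flp_c L609) L604 L1318
theorem L1323 : sm gg N255 = N152 := ded_21_2 (flp_c L762) (flp_g L607) L1318
theorem L1325 : sm gb N196 = N255 := ded_17_5 L1323 L977 (flp_g L468) L453 L994
theorem L1327 : sm gd N124 = N256 := rfl
theorem L1329 : sm gg N256 = N153 := ded_24_2 (flp_d L767) (flp_g L612) L1327
theorem L1331 : sm gb N127 = N257 := rfl
theorem L1333 : sm ga N257 = N257 := ded_7_1 (flp_b L1331) (flp_a L636) (flp_b L277) L132 L82 (flp_a L132) L277 L636 L1331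
theorem L1334 : sm gd N127 = N258 := rfl
theorem L1336 : sm ga N258 = N128 := ded_9_1 (flp_d L638) L636 L1334
theorem L1338 : sm gc N258 = N258 := ded_8_0 L1336 L642 (flp_a L1336)
theorem L1339 : sm ge N127 = N259 := rfl
theorem L1341 : sm ga N259 = N129 := ded_10_1 (flp_e L643) L636 L1339
theorem L1343 : sm gf N127 = N260 := rfl
theorem L1345 : sm ga N260 = N130 := ded_11_1 (flp_f L647) L636 L1343
theorem L1347 : sm gg N127 = N261 := rfl
theorem L1349 : sm ga N261 = N131 := ded_12_1 (flp_g L649) L636 L1347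
theorem L1351 : sm ge N128 = N262 := rfl
theorem L1353 : sm gb N262 = N132 := ded_15_1 (flp_e L651) (flp_b L640) L1351
theorem L1355 : sm gc N262 = N262 := ded_19_1 (flp_e L1351) L642 L1351
theorem L1356 : sm gf N128 = N263 := rfl
theorem L1358 : sm gc N263 = N263 := ded_20_1 (flp_f L1356) L642 L1356
theorem L1359 : sm gd N263 = N130 := ded_23_1 (flp_f L647) L638 L1356
theorem L1361 : sm gg N128 = N264 := rfl
theorem L1363 : sm gc N264 = N264 := ded_21_1 (flp_g L1361) L642 L1361
theorem L1364 : sm gd N264 = N131 := ded_24_1 (flp_g L649) L638 L1361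
theorem L1366 : sm gd N129 = N265 := rfl
theorem L1368 : sm gb N265 = N135 := ded_14_1 (flp_d L673) (flp_b L645) L1366
theorem L1370 : sm gf N129 = N266 := rfl
theorem L1372 : sm ge N266 = N130 := ded_25_1 (flp_f L647) L643 L1370
theorem L1374 : sm gg N129 = N267 := rfl
theorem L1376 : sm ge N267 = N131 := ded_26_1 (flp_g L649) L643 L1374
theorem L1378 : sm gb N130 = N268 := rfl
theorem L1380 : sm gf N268 = N138 := ded_16_2 (flp_b L693) (flp_f L291) L277 L647 L1378
theorem L1382 : sm gg N130 = N269 := rfl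
theorem L1384 : sm gf N261 = N269 := ded_29_0 (flp_g L1382) (flp_f L647) L649 (flp_a L1349)
theorem L1386 : sm gb N131 = N270 := rfl
theorem L1388 : sm gg N270 = N139 := ded_17_2 (flp_b L695) (flp_g L297) L277 L649 L1386
theorem L1390 : sm gf N131 = N271 := rfl
theorem L1392 : sm ga N271 = N269 := ded_11_1 (flp_f L1384) L1349 L1390
theorem L1394 : sm gg N271 = N260 := ded_29_3 L1345 (flp_f L647) L649 L1390
theorem L1396 : sm gd N132 = N272 := rfl
theorem L1398 : sm ga N272 = N156 := ded_9_1 (flp_d L782) (flp_a L653) L1396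
theorem L1400 : sm ge N272 = N135 := ded_22_2 (flp_d L673) (flp_e L285) L279 L651 L1396
theorem L1402 : sm gf N132 = N273 := rfl
theorem L1404 : sm ga N273 = N157 := ded_11_1 (flp_f L787) (flp_a L653) L1402
theorem L1406 : sm gc N273 = N157 := ded_20_1 (flp_f L787) (flp_c L655) L1402
theorem L1408 : sm ge N273 = N133 := ded_25_1 (flp_f L657) L651 L1402
theorem L1410 : sm gg N132 = N274 := rfl
theorem L1412 : sm ga N274 = N158 := ded_12_1 (flp_g L791) (flp_a L653) L1410
theorem L1414 : sm gc N274 = N158 := ded_21_1 (flp_g L791) (flp_c L655) L1410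
theorem L1416 : sm ge N274 = N134 := ded_26_1 (flp_g L665) L651 L1410
theorem L1418 : sm gb N133 = N275 := rfl
theorem L1420 : sm gd N275 = N138 := ded_14_2 (flp_b L693) (flp_d L663) L1418
theorem L1422 : sm gb N134 = N276 := rfl
theorem L1424 : sm gd N276 = N139 := ded_14_2 (flp_b L695) (flp_d L671) L1422
theorem L1426 : sm gc N135 = N277 := rfl
theorem L1428 : sm ga N277 = N163 := ded_8_1 (flp_c L821) (flp_a L675) L1426
theorem L1430 : sm gd N277 = N163 := ded_28_7 (flp_a L1428) (flp_c L1426) (flp_d L673) L289 L138 (flp_c L289) L673 L1426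
theorem L1432 : sm gf N135 = N278 := rfl
theorem L1434 : sm ga N278 = N164 := ded_11_1 (flp_f L823) (flp_a L675) L1432
theorem L1436 : sm gd N278 = N136 := ded_23_1 (flp_f L677) L673 L1432
theorem L1438 : sm gg N135 = N279 := rfl
theorem L1440 : sm ga N279 = N165 := ded_12_1 (flp_g L827) (flp_a L675) L1438
theorem L1442 : sm gd N279 = N137 := ded_24_1 (flp_g L685) L673 L1438
theorem L1444 : sm gb N136 = N280 := rfl
theorem L1446 : sm ge N280 = N138 := ded_15_2 (flp_b L693) (flp_e L683) L1444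
theorem L1448 : sm gb N137 = N281 := rfl
theorem L1450 : sm ge N281 = N139 := ded_15_2 (flp_b L695) (flp_e L691) L1448
theorem L1452 : sm ga N138 = N282 := rfl
theorem L1454 : sm gc N138 = N283 := rfl
theorem L1456 : sm gb N283 = N143 := ded_13_1 (flp_c L711) (flp_b L317) (flp_c L295) L693 L1454
theorem L1458 : sm gg N138 = N284 := rfl
theorem L1460 : sm ga N139 = N285 := rfl
theorem L1462 : sm gc N139 = N286 := rfl
theorem L1464 : sm gb N286 = N146 := ded_13_1 (flp_c L721) (flp_b L321) (flp_c L301) L695 L1462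
theorem L1466 : sm gf N139 = N287 := rfl
theorem L1468 : sm ga N140 = N288 := rfl
theorem L1470 : sm gd N288 = N288 := ded_9_2 (flp_a L1468) L699 L1468
theorem L1471 : sm ge N288 = N142 := ded_10_2 (flp_a L707) (flp_e L700) L1468
theorem L1473 : sm gc N140 = N289 := rfl
theorem L1475 : sm ge N289 = N143 := ded_19_2 (flp_c L711) (flp_e L700) L1473
theorem L1477 : sm gg N140 = N290 := rfl
theorem L1479 : sm gd N290 = N290 := ded_24_1 (flp_g L1477) L699 L1477
theorem L1480 : sm ge N290 = N144 := ded_26_1 (flp_g L713) (flp_e L700) L1477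
theorem L1482 : sm ga N141 = N291 := rfl
theorem L1484 : sm gd N291 = N291 := ded_9_2 (flp_a L1482) L704 L1482
theorem L1485 : sm ge N291 = N145 := ded_10_2 (flp_a L717) (flp_e L705) L1482
theorem L1487 : sm gc N141 = N292 := rfl
theorem L1489 : sm ge N292 = N146 := ded_19_2 (flp_c L721) (flp_e L705) L1487
theorem L1491 : sm gf N141 = N293 := rfl
theorem L1493 : sm gd N293 = N293 := ded_23_1 (flp_f L1491) L704 L1491
theorem L1494 : sm ge N293 = N147 := ded_25_1 (flp_f L723) (flp_e L705) L1491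
theorem L1496 : sm gb N142 = N294 := rfl
theorem L1498 : sm gd N294 = N148 := ded_14_2 (flp_b L727) (flp_d L709) L1496
theorem L1500 : sm gf N294 = N294 := ded_16_2 (flp_b L1496) (flp_f L742) L741 L742 L1496
theorem L1501 : sm gg N294 = N209 := ded_17_2 (flp_b L1061) (flp_g L596) L1299 (flp_g L1307) L1496
theorem L1503 : sm ga N294 = N294 := ded_7_1 (flp_b L1496) (flp_a L707) (flp_b L317) L141 L92 (flp_a L141) L317 L707 L1496
theorem L1504 : sm gc N142 = N295 := rfl
theorem L1506 : sm ga N295 = N143 := ded_8_1 (flp_c L711) L707 L1504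
theorem L1508 : sm gd N143 = N296 := rfl
theorem L1510 : sm gg N143 = N297 := rfl
theorem L1512 : sm gc N297 = N144 := ded_21_1 (flp_g L713) L711 L1510
theorem L1514 : sm gf N144 = N298 := rfl
theorem L1516 : sm ga N298 = N248 := ded_11_1 (flp_f L1303) (flp_a L1305) L1514
theorem L1518 : sm gd N298 = N150 := ded_23_1 (flp_f L751) (flp_d L715) L1514
theorem L1520 : sm gg N298 = N149 := ded_29_3 L739 L576 L713 L1514
theorem L1522 : sm gb N178 = N298 := ded_14_3 L1518 L937 (flp_d L893)
theorem L1524 : sm gb N145 = N299 := rfl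
theorem L1526 : sm gd N299 = N151 := ded_14_2 (flp_b L753) (flp_d L719) L1524
theorem L1528 : sm gf N299 = N210 := ded_16_2 (flp_b L1067) L582 L1272 (flp_f L1278) L1524
theorem L1530 : sm gg N299 = N299 := ded_17_2 (flp_b L1524) (flp_g L1284) L1286 L1284 L1524
theorem L1531 : sm ga N299 = N299 := ded_7_1 (flp_b L1524) (flp_a L717) (flp_b L321) L147 L97 (flp_a L147) L321 L717 L1524
theorem L1532 : sm gc N145 = N300 := rfl
theorem L1534 : sm ga N300 = N146 := ded_8_1 (flp_c L721) L717 L1532
theorem L1536 : sm gd N146 = N301 := rfl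
theorem L1538 : sm gf N146 = N302 := rfl
theorem L1540 : sm gc N302 = N147 := ded_20_1 (flp_f L723) L721 L1538
theorem L1542 : sm gg N147 = N303 := rfl
theorem L1544 : sm ga N303 = N252 := ded_12_1 L1295 (flp_a L1276) L1542
theorem L1546 : sm gd N303 = N155 := ded_24_1 (flp_g L775) (flp_d L725) L1542
theorem L1548 : sm gf N250 = N303 := ded_29_0 (flp_g L1542) (flp_f L723) (flp_g L588) L1280
theorem L1550 : sm gb N181 = N303 := ded_7_0 L1544 L1297 (flp_a L1516) (flp_b L1522) (flp_a L891) (flp_b L415) (flp_a L193) L420 L905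
theorem L1552 : sm gc N149 = N304 := rfl
theorem L1554 : sm ga N304 = N247 := ded_8_1 (flp_c L1264) (flp_a L739) L1552
theorem L1556 : sm gf N304 = N295 := ded_20_2 (flp_c L1504) (flp_f L742) L1552
theorem L1558 : sm ge N149 = N305 := rfl
theorem L1560 : sm ga N305 = N243 := ded_10_1 L1237 (flp_a L739) L1558
theorem L1562 : sm gb N305 = N305 := ded_15_1 (flp_e L1558) L741 L1558
theorem L1563 : sm gf N305 = N288 := ded_25_2 L1471 (flp_f L742) L1558
theorem L1565 : sm gd N305 = N305 := ded_22_1 (flp_e L1558) (flp_d L737) L330 L737 L1558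
theorem L1566 : sm gd N152 = N306 := rfl
theorem L1568 : sm ga N306 = N153 := ded_9_1 (flp_d L767) (flp_a L764) L1566
theorem L1570 : sm gb N306 = N200 := ded_14_1 L1017 (flp_b L977) L1566
theorem L1572 : sm gc N153 = N307 := rfl
theorem L1574 : sm ge N153 = N308 := rfl
theorem L1576 : sm gb N308 = N308 := ded_15_1 (flp_e L1574) L769 L1574
theorem L1577 : sm gd N308 = N308 := ded_22_1 (flp_e L1574) (flp_d L767) L346 L767 L1574
theorem L1578 : sm gf N153 = N309 := rfl
theorem L1580 : sm gd N309 = N154 := ded_23_1 (flp_f L770) L767 L1578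
theorem L1582 : sm gb N154 = N310 := rfl
theorem L1585 : sm gf N310 = N310 := ded_16_2 (flp_b L1582) (flp_f L770) L347 L770 L1582
theorem L1586 : sm gg N154 = N311 := rfl
theorem L1588 : sm ga N311 = N226 := ded_12_1 (flp_g L1316) L1311 L1586
theorem L1590 : sm gc N311 = N155 := ded_21_1 (flp_g L775) (flp_c L772) L1586
theorem L1593 : sm gf N255 = N311 := ded_29_0 (flp_g L1586) (flp_f L770) (flp_g L612) (flp_a L1320)
theorem L1595 : sm gc N156 = N312 := rfl
theorem L1597 : sm ge N312 = N163 := ded_19_2 (flp_c L821) (flp_e L785) L1595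
theorem L1599 : sm gf N156 = N313 := rfl
theorem L1601 : sm gd N313 = N157 := ded_23_1 (flp_f L787) L782 L1599
theorem L1603 : sm ge N313 = N164 := ded_25_1 (flp_f L823) (flp_e L785) L1599
theorem L1605 : sm gg N156 = N314 := rfl
theorem L1607 : sm gd N314 = N158 := ded_24_1 (flp_g L791) L782 L1605
theorem L1609 : sm ge N314 = N165 := ded_26_1 (flp_g L827) (flp_e L785) L1605
theorem L1611 : sm gb N157 = N315 := rfl
theorem L1613 : sm ge N315 = N159 := ded_15_2 (flp_b L795) (flp_e L789) L1611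
theorem L1615 : sm gf N315 = N315 := ded_16_2 (flp_b L1611) (flp_f L787) L353 L787 L1611
theorem L1616 : sm gg N157 = N316 := rfl
theorem L1618 : sm ge N316 = N160 := ded_26_1 (flp_g L800) (flp_e L789) L1616
theorem L1620 : sm gf N274 = N316 := ded_29_0 (flp_g L1616) (flp_f L787) L791 (flp_a L1412)
theorem L1622 : sm gb N158 = N317 := rfl
theorem L1624 : sm ge N317 = N161 := ded_15_2 (flp_b L806) (flp_e L793) L1622
theorem L1626 : sm gg N317 = N317 := ded_17_2 (flp_b L1622) (flp_g L791) L353 L791 L1622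
theorem L1627 : sm gf N158 = N318 := rfl
theorem L1629 : sm ga N318 = N316 := ded_11_1 (flp_f L1620) L1412 L1627
theorem L1631 : sm gc N318 = N316 := ded_20_1 (flp_f L1620) L1414 L1627
theorem L1633 : sm ge N318 = N162 := ded_25_1 (flp_f L811) (flp_e L793) L1627
theorem L1635 : sm gg N318 = N273 := ded_29_3 L1404 (flp_f L787) L791 L1627
theorem L1637 : sm ga N159 = N319 := rfl
theorem L1639 : sm gd N319 = N170 := ded_9_2 (flp_a L861) (flp_d L797) L1637
theorem L1641 : sm gf N319 = N319 := ded_11_2 (flp_a L1637) L799 L1637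
theorem L1642 : sm gc N159 = N320 := rfl
theorem L1644 : sm gf N320 = N320 := ded_20_2 (flp_c L1642) L799 L1642
theorem L1645 : sm gg N159 = N321 := rfl
theorem L1647 : sm gd N321 = N171 := ded_24_1 (flp_g L865) (flp_d L797) L1645
theorem L1649 : sm gb N160 = N322 := rfl
theorem L1651 : sm gd N322 = N172 := ded_14_2 (flp_b L868) (flp_d L802) L1649
theorem L1653 : sm ga N161 = N323 := rfl
theorem L1655 : sm gd N323 = N173 := ded_9_2 (flp_a L870) (flp_d L808) L1653
theorem L1657 : sm gg N323 = N323 := ded_12_2 (flp_a L1653) L810 L1653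
theorem L1658 : sm gc N161 = N324 := rfl
theorem L1660 : sm gg N324 = N324 := ded_21_2 (flp_c L1658) L810 L1658
theorem L1661 : sm gf N161 = N325 := rfl
theorem L1663 : sm gd N325 = N174 := ded_23_1 (flp_f L874) (flp_d L808) L1661
theorem L1665 : sm gb N162 = N326 := rfl
theorem L1667 : sm gd N326 = N175 := ded_14_2 (flp_b L877) (flp_d L817) L1665
theorem L1669 : sm gb N163 = N327 := rfl
theorem L1671 : sm gc N327 = N327 := ded_13_2 (flp_b L1669) (flp_c L821) L364 L821 L1669
theorem L1672 : sm gf N163 = N328 := rfl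
theorem L1674 : sm gc N328 = N164 := ded_20_1 (flp_f L823) L821 L1672
theorem L1676 : sm gg N163 = N329 := rfl
theorem L1678 : sm gc N329 = N165 := ded_21_1 (flp_g L827) L821 L1676
theorem L1680 : sm gb N164 = N330 := rfl
theorem L1682 : sm gd N330 = N166 := ded_14_2 (flp_b L831) (flp_d L825) L1680
theorem L1684 : sm gf N330 = N330 := ded_16_2 (flp_b L1680) (flp_f L823) L364 L823 L1680
theorem L1685 : sm gg N164 = N331 := rfl
theorem L1687 : sm gd N331 = N167 := ded_24_1 (flp_g L837) (flp_d L825) L1685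
theorem L1689 : sm gf N279 = N331 := ded_29_0 (flp_g L1685) (flp_f L823) L827 (flp_a L1440)
theorem L1691 : sm gb N165 = N332 := rfl
theorem L1693 : sm gd N332 = N168 := ded_14_2 (flp_b L845) (flp_d L829) L1691
theorem L1695 : sm gg N332 = N332 := ded_17_2 (flp_b L1691) (flp_g L827) L364 L827 L1691
theorem L1696 : sm gf N165 = N333 := rfl
theorem L1698 : sm ga N333 = N331 := ded_11_1 (flp_f L1689) L1440 L1696
theorem L1700 : sm gd N333 = N169 := ded_23_1 (flp_f L851) (flp_d L829) L1696
theorem L1702 : sm gg N333 = N278 := ded_29_3 L1434 (flp_f L823) L827 L1696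
theorem L1704 : sm ga N166 = N334 := rfl
theorem L1706 : sm gc N334 = N334 := ded_8_2 (flp_a L1704) L835 L1704
theorem L1707 : sm ge N334 = N170 := ded_10_2 (flp_a L861) (flp_e L833) L1704
theorem L1709 : sm gf N334 = N334 := ded_11_2 (flp_a L1704) L836 L1704
theorem L1710 : sm gg N166 = N335 := rfl
theorem L1712 : sm gc N335 = N335 := ded_21_1 (flp_g L1710) L835 L1710
theorem L1713 : sm ge N335 = N171 := ded_26_1 (flp_g L865) (flp_e L833) L1710
theorem L1715 : sm gb N167 = N336 := rfl
theorem L1717 : sm ge N336 = N172 := ded_15_2 (flp_b L868) (flp_e L841) L1715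
theorem L1719 : sm ga N168 = N337 := rfl
theorem L1721 : sm gc N337 = N337 := ded_8_2 (flp_a L1719) L849 L1719
theorem L1722 : sm ge N337 = N173 := ded_10_2 (flp_a L870) (flp_e L847) L1719
theorem L1724 : sm gg N337 = N337 := ded_12_2 (flp_a L1719) L850 L1719
theorem L1725 : sm gf N168 = N338 := rfl
theorem L1727 : sm gc N338 = N338 := ded_20_1 (flp_f L1725) L849 L1725
theorem L1728 : sm ge N338 = N174 := ded_25_1 (flp_f L874) (flp_e L847) L1725
theorem L1730 : sm gb N169 = N339 := rfl
theorem L1732 : sm ge N339 = N175 := ded_15_2 (flp_b L877) (flp_e L857) L1730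
theorem L1734 : sm gb N170 = N340 := rfl
theorem L1736 : sm gg N170 = N341 := rfl
theorem L1738 : sm ga N341 = N171 := ded_12_1 (flp_g L865) L861 L1736
theorem L1741 : sm gf N171 = N341 := ded_29_0 (flp_g L1736) L864 L1736 L1738
theorem L1743 : sm gb N171 = N342 := rfl
theorem L1745 : sm gg N342 = N172 := ded_17_2 (flp_b L868) (flp_g L381) L377 L865 L1743
theorem L1747 : sm ga N172 = N343 := rfl
theorem L1749 : sm gc N172 = N344 := rfl
theorem L1751 : sm gb N344 = N179 := ded_13_1 (flp_c L896) (flp_b L415) (flp_c L383) L868 L1749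
theorem L1753 : sm gf N172 = N345 := rfl
theorem L1755 : sm gb N345 = N287 := ded_16_1 (flp_f L1466) (flp_b L695) L385 L868 L1753
theorem L1757 : sm gb N173 = N346 := rfl
theorem L1759 : sm gf N173 = N347 := rfl
theorem L1761 : sm ga N347 = N174 := ded_11_1 (flp_f L874) L870 L1759
theorem L1763 : sm gc N347 = N347 := ded_20_1 (flp_f L1759) L872 L1759
theorem L1764 : sm gg N347 = N174 := ded_29_3 (flp_a L1761) (flp_f L1759) L873 L1759
theorem L1766 : sm gb N174 = N348 := rfl
theorem L1768 : sm gf N348 = N175 := ded_16_2 (flp_b L877) (flp_f L391) L387 L874 L1766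
theorem L1770 : sm ga N175 = N349 := rfl
theorem L1772 : sm gc N175 = N350 := rfl
theorem L1774 : sm gb N350 = N182 := ded_13_1 (flp_c L910) (flp_b L420) (flp_c L395) L877 L1772
theorem L1776 : sm gg N175 = N351 := rfl
theorem L1778 : sm gb N351 = N284 := ded_17_1 (flp_g L1458) (flp_b L693) (flp_g L397) L877 L1776
theorem L1780 : sm ga N176 = N352 := rfl
theorem L1782 : sm gd N352 = N352 := ded_9_2 (flp_a L1780) L881 L1780
theorem L1783 : sm ge N352 = N178 := ded_10_2 (flp_a L891) (flp_e L882) L1780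
theorem L1785 : sm gg N352 = N352 := ded_12_2 (flp_a L1780) L884 L1780
theorem L1786 : sm gc N176 = N353 := rfl
theorem L1788 : sm ge N353 = N179 := ded_19_2 (flp_c L896) (flp_e L882) L1786
theorem L1790 : sm gg N353 = N353 := ded_21_2 (flp_c L1786) L884 L1786
theorem L1791 : sm gf N176 = N354 := rfl
theorem L1793 : sm gd N354 = N354 := ded_23_1 (flp_f L1791) L881 L1791
theorem L1794 : sm ge N354 = N180 := ded_25_1 (flp_f L899) (flp_e L882) L1791
theorem L1796 : sm gb N354 = N293 := ded_16_1 (flp_f L1491) (flp_b L702) L404 L879 L1791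
theorem L1798 : sm ga N177 = N355 := rfl
theorem L1800 : sm gd N355 = N355 := ded_9_2 (flp_a L1798) L887 L1798
theorem L1801 : sm ge N355 = N181 := ded_10_2 (flp_a L905) (flp_e L888) L1798
theorem L1803 : sm gf N355 = N355 := ded_11_2 (flp_a L1798) L890 L1798
theorem L1804 : sm gc N177 = N356 := rfl
theorem L1806 : sm ge N356 = N182 := ded_19_2 (flp_c L910) (flp_e L888) L1804
theorem L1808 : sm gf N356 = N356 := ded_20_2 (flp_c L1804) L890 L1804
theorem L1809 : sm gg N177 = N357 := rfl
theorem L1811 : sm gd N357 = N357 := ded_24_1 (flp_g L1809) L887 L1809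
theorem L1812 : sm ge N357 = N183 := ded_26_1 (flp_g L913) (flp_e L888) L1809
theorem L1814 : sm gb N357 = N290 := ded_17_1 (flp_g L1477) (flp_b L697) (flp_g L413) L885 L1809
theorem L1816 : sm gc N178 = N358 := rfl
theorem L1818 : sm ga N358 = N179 := ded_8_1 (flp_c L896) L891 L1816
theorem L1820 : sm gg N358 = N358 := ded_21_2 (flp_c L1816) L895 L1816
theorem L1821 : sm gf N178 = N359 := rfl
theorem L1823 : sm ga N359 = N180 := ded_11_1 (flp_f L899) L891 L1821
theorem L1825 : sm gd N359 = N186 := ded_23_1 (flp_f L928) (flp_d L893) L1821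
theorem L1827 : sm gg N359 = N180 := ded_29_3 (flp_a L1823) (flp_f L1821) L895 L1821
theorem L1829 : sm gd N179 = N360 := rfl
theorem L1831 : sm gg N360 = N360 := ded_24_2 (flp_d L1829) L898 L1829
theorem L1832 : sm gf N179 = N361 := rfl
theorem L1834 : sm gc N361 = N180 := ded_20_1 (flp_f L899) L896 L1832
theorem L1836 : sm gc N181 = N362 := rfl
theorem L1838 : sm ga N362 = N182 := ded_8_1 (flp_c L910) L905 L1836
theorem L1840 : sm gf N362 = N362 := ded_20_2 (flp_c L1836) L909 L1836
theorem L1841 : sm gg N181 = N363 := rfl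
theorem L1843 : sm ga N363 = N183 := ded_12_1 (flp_g L913) L905 L1841
theorem L1845 : sm gd N363 = N190 := ded_24_1 (flp_g L957) (flp_d L907) L1841
theorem L1847 : sm gf N183 = N363 := ded_29_0 (flp_g L1841) L909 L1841 L1843
theorem L1849 : sm gb N363 = N359 := ded_17_1 L1827 L903 L1542 (flp_b L1550) L1841
theorem L1851 : sm gd N182 = N364 := rfl
theorem L1853 : sm gf N364 = N364 := ded_23_2 (flp_d L1851) L912 L1851
theorem L1854 : sm gg N182 = N365 := rfl
theorem L1856 : sm gc N365 = N183 := ded_21_1 (flp_g L913) L910 L1854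
theorem L1858 : sm gd N185 = N366 := rfl
theorem L1860 : sm ga N366 = N187 := ded_9_1 (flp_d L942) (flp_a L924) L1858
theorem L1863 : sm gf N185 = N367 := rfl
theorem L1865 : sm ga N367 = N188 := ded_11_1 (flp_f L946) (flp_a L924) L1863
theorem L1867 : sm gc N367 = N186 := ded_20_1 (flp_f L928) L922 L1863
theorem L1869 : sm ge N367 = N367 := ded_25_1 (flp_f L1863) L926 L1863
theorem L1870 : sm gg N367 = N188 := ded_29_3 (flp_a L1865) (flp_f L1863) L927 L1863
theorem L1872 : sm gc N187 = N368 := rfl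
theorem L1874 : sm gg N368 = N368 := ded_21_2 (flp_c L1872) L945 L1872
theorem L1875 : sm ge N187 = N369 := rfl
theorem L1879 : sm gd N369 = N369 := ded_22_1 (flp_e L1875) (flp_d L942) L431 L942 L1875
theorem L1880 : sm gf N187 = N370 := rfl
theorem L1882 : sm gd N370 = N188 := ded_23_1 (flp_f L946) L942 L1880
theorem L1884 : sm gb N188 = N371 := rfl
theorem L1887 : sm gc N371 = N310 := ded_13_2 (flp_b L1582) L772 (flp_b L437) (flp_c L948) L1884
theorem L1889 : sm gf N371 = N371 := ded_16_2 (flp_b L1884) (flp_f L946) L433 L946 L1884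
theorem L1890 : sm gb N189 = N372 := rfl
theorem L1893 : sm gd N189 = N373 := rfl
theorem L1895 : sm ga N373 = N191 := ded_9_1 (flp_d L966) (flp_a L953) L1893
theorem L1897 : sm gf N373 = N373 := ded_23_2 (flp_d L1893) L956 L1893
theorem L1898 : sm gg N189 = N374 := rfl
theorem L1900 : sm ga N374 = N192 := ded_12_1 (flp_g L970) (flp_a L953) L1898
theorem L1902 : sm gc N374 = N190 := ded_21_1 (flp_g L957) L951 L1898
theorem L1904 : sm ge N374 = N374 := ded_26_1 (flp_g L1898) L955 L1898
theorem L1905 : sm gf N192 = N374 := ded_29_0 (flp_g L1898) L956 L1898 L1900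
theorem L1907 : sm gc N191 = N375 := rfl
theorem L1910 : sm ge N191 = N376 := rfl
theorem L1915 : sm gg N191 = N377 := rfl
theorem L1917 : sm gd N377 = N192 := ded_24_1 (flp_g L970) L966 L1915
theorem L1919 : sm gb N366 = N377 := ded_14_3 L1917 (flp_b L975) L1858
theorem L1921 : sm gb N193 = N378 := rfl
theorem L1925 : sm gd N193 = N379 := rfl
theorem L1927 : sm ga N379 = N194 := ded_9_1 (flp_d L986) L982 L1925
theorem L1929 : sm gf N193 = N380 := rfl
theorem L1931 : sm ga N380 = N195 := ded_11_1 (flp_f L990) L982 L1929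
theorem L1933 : sm gc N380 = N380 := ded_20_1 (flp_f L1929) L984 L1929
theorem L1935 : sm gb N380 = N380 := ded_30_2 L1931 (flp_f L990) L456 (flp_b L453) L209 L230 L232 L255 (flp_a L336) (flp_f L332) (flp_c L334) (flp_b L255) (flp_a L219) (flp_f L217) L207 L453 L982 L1929 L1933
theorem L1937 : sm gg N193 = N381 := rfl
theorem L1939 : sm ga N381 = N196 := ded_12_1 (flp_g L994) L982 L1937
theorem L1945 : sm gc N194 = N382 := rfl
theorem L1947 : sm ge N194 = N383 := rfl
theorem L1952 : sm gf N194 = N384 := rfl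
theorem L1954 : sm gd N384 = N195 := ded_23_1 (flp_f L990) L986 L1952
theorem L1956 : sm gg N194 = N385 := rfl
theorem L1958 : sm gd N385 = N196 := ded_24_1 (flp_g L994) L986 L1956
theorem L1960 : sm gb N195 = N386 := rfl
theorem L1963 : sm gf N386 = N201 := ded_16_2 (flp_b L1019) (flp_f L461) L453 L990 L1960
theorem L1965 : sm gg N195 = N387 := rfl
theorem L1967 : sm gc N387 = N387 := ded_21_1 (flp_g L1965) L992 L1965
theorem L1969 : sm gf N381 = N387 := ded_29_0 (flp_g L1965) (flp_f L990) L994 (flp_a L1939)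
theorem L1971 : sm gf N196 = N388 := rfl
theorem L1973 : sm ga N388 = N387 := ded_11_1 (flp_f L1969) L1939 L1971
theorem L1977 : sm gg N388 = N380 := ded_29_3 L1931 (flp_f L990) L994 L1971
theorem L1979 : sm gb N197 = N389 := rfl
theorem L1981 : sm ge N197 = N390 := rfl
theorem L1983 : sm ga N390 = N214 := ded_10_1 (flp_e L1087) (flp_a L1000) L1981
theorem L1985 : sm gc N390 = N198 := ded_19_1 (flp_e L1002) L998 L1981
theorem L1987 : sm gf N197 = N391 := rfl
theorem L1989 : sm ga N391 = N215 := ded_11_1 (flp_f L1091) (flp_a L1000) L1987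
theorem L1991 : sm gc N391 = N199 := ded_20_1 (flp_f L1007) L998 L1987
theorem L1993 : sm gg N197 = N392 := rfl
theorem L1995 : sm ga N392 = N216 := ded_12_1 (flp_g L1095) (flp_a L1000) L1993
theorem L1997 : sm gc N392 = N200 := ded_21_1 (flp_g L1013) L998 L1993
theorem L1999 : sm gf N198 = N393 := rfl
theorem L2001 : sm ga N393 = N217 := ded_11_1 (flp_f L1099) (flp_a L1004) L1999
theorem L2004 : sm ge N393 = N199 := ded_25_1 (flp_f L1007) L1002 L1999
theorem L2006 : sm gg N198 = N394 := rfl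
theorem L2008 : sm ga N394 = N218 := ded_12_1 (flp_g L1104) (flp_a L1004) L2006
theorem L2011 : sm ge N394 = N200 := ded_26_1 (flp_g L1013) L1002 L2006
theorem L2013 : sm gb N199 = N395 := rfl
theorem L2015 : sm gd N395 = N201 := ded_14_2 (flp_b L1019) (flp_d L1011) L2013
theorem L2017 : sm ga N201 = N396 := rfl
theorem L2021 : sm gc N201 = N397 := rfl
theorem L2024 : sm gb N397 = N211 := ded_13_1 (flp_c L1073) (flp_b L497) (flp_c L465) L1019 L2021
theorem L2026 : sm ga N397 = N386 := ded_30_19 L1963 L2021 L2024 L1075 L1077 (flp_c L1073) (flp_b L497) L219 (flp_f L124) L116 L119 (flp_a L209) L461 L465 L497 L501 L500 L1073 (flp_b L2024)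
theorem L2028 : sm gf N396 = N397 := ded_30_0 (flp_c L2021) (flp_b L1019) L463 (flp_f L230) (flp_c L116) (flp_b L61) (flp_a L36) L44 L46 L48 (flp_a L70) (flp_f L68) L38 L61 L112 L217 (flp_c L465) L1019 L2017
theorem L2030 : sm gc N396 = N386 := ded_8_2 (flp_a L2026) (flp_c L2021) L2017
theorem L2032 : sm gg N223 = N397 := ded_17_0 L2024 L1078 (flp_b L520) L524 L1135
theorem L2034 : sm gg N201 = N398 := rfl
theorem L2041 : sm gb N398 = N254 := ded_17_1 L1316 (flp_b L1150) L542 L1019 L2034
theorem L2043 : sm ga N202 = N399 := rfl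
theorem L2045 : sm gc N399 = N399 := ded_8_2 (flp_a L2043) L1024 L2043
theorem L2046 : sm gd N202 = N400 := rfl
theorem L2048 : sm gb N400 = N203 := ded_14_1 (flp_d L1025) L1022 L2046
theorem L2050 : sm ge N202 = N401 := rfl
theorem L2052 : sm gb N401 = N204 := ded_15_1 (flp_e L1029) L1022 L2050
theorem L2054 : sm gc N401 = N401 := ded_19_1 (flp_e L2050) L1024 L2050
theorem L2055 : sm gf N202 = N402 := rfl
theorem L2058 : sm gg N202 = N403 := rfl
theorem L2061 : sm ge N203 = N404 := rfl
theorem L2063 : sm ga N404 = N233 := ded_10_1 (flp_e L1192) (flp_a L1027) L2061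
theorem L2065 : sm gf N203 = N405 := rfl
theorem L2067 : sm ga N405 = N234 := ded_11_1 (flp_f L1194) (flp_a L1027) L2065
theorem L2069 : sm gd N405 = N205 := ded_23_1 (flp_f L1035) L1025 L2065
theorem L2071 : sm gg N203 = N406 := rfl
theorem L2073 : sm ga N406 = N235 := ded_12_1 (flp_g L1198) (flp_a L1027) L2071
theorem L2075 : sm gd N406 = N206 := ded_24_1 (flp_g L1041) L1025 L2071
theorem L2077 : sm gd N204 = N407 := rfl
theorem L2079 : sm ga N407 = N236 := ded_9_1 (flp_d L1202) (flp_a L1031) L2077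
theorem L2081 : sm gf N204 = N408 := rfl
theorem L2083 : sm ga N408 = N237 := ded_11_1 (flp_f L1204) (flp_a L1031) L2081
theorem L2085 : sm gc N408 = N207 := ded_20_1 (flp_f L1047) (flp_c L1033) L2081
theorem L2087 : sm ge N408 = N205 := ded_25_1 (flp_f L1035) L1029 L2081
theorem L2089 : sm gg N204 = N409 := rfl
theorem L2091 : sm ga N409 = N238 := ded_12_1 (flp_g L1210) (flp_a L1031) L2089
theorem L2093 : sm gc N409 = N208 := ded_21_1 (flp_g L1054) (flp_c L1033) L2089
theorem L2095 : sm ge N409 = N206 := ded_26_1 (flp_g L1041) L1029 L2089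
theorem L2097 : sm gb N205 = N410 := rfl
theorem L2099 : sm gb N206 = N411 := rfl
theorem L2101 : sm gb N207 = N412 := rfl
theorem L2103 : sm gd N412 = N412 := ded_14_2 (flp_b L2101) L1051 L2101
theorem L2104 : sm ge N412 = N209 := ded_15_2 (flp_b L1061) (flp_e L1052) L2101
theorem L2106 : sm gf N412 = N412 := ded_16_2 (flp_b L2101) (flp_f L1047) L483 L1047 L2101
theorem L2107 : sm ga N412 = N412 := ded_7_1 (flp_b L2101) L1049 L1234 (flp_a L1560) L1562 L1560 (flp_b L1234) (flp_a L1049) L2101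
theorem L2108 : sm gb N208 = N413 := rfl
theorem L2110 : sm gd N413 = N413 := ded_14_2 (flp_b L2108) L1058 L2108
theorem L2111 : sm ge N413 = N210 := ded_15_2 (flp_b L1067) (flp_e L1059) L2108
theorem L2113 : sm gg N413 = N413 := ded_17_2 (flp_b L2108) (flp_g L1054) L483 L1054 L2108
theorem L2114 : sm ga N413 = N413 := ded_10_3 L2111 L1072 (flp_e L2111)
theorem L2115 : sm gc N209 = N414 := rfl
theorem L2117 : sm ga N414 = N414 := ded_8_1 (flp_c L2115) L1066 L2115
theorem L2118 : sm gf N414 = N414 := ded_20_2 (flp_c L2115) L1065 L2115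
theorem L2119 : sm gc N210 = N415 := rfl
theorem L2123 : sm gd N211 = N416 := rfl
theorem L2127 : sm gg N416 = N219 := ded_24_2 L1111 (flp_g L1078) L2123
theorem L2129 : sm ga N212 = N417 := rfl
theorem L2132 : sm gd N212 = N418 := rfl
theorem L2134 : sm gb N418 = N213 := ded_14_1 (flp_d L1083) L1080 L2132
theorem L2136 : sm ge N212 = N419 := rfl
theorem L2138 : sm gb N419 = N214 := ded_15_1 (flp_e L1087) L1080 L2136
theorem L2141 : sm gf N212 = N420 := rfl
theorem L2144 : sm gg N212 = N421 := rfl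
theorem L2147 : sm ge N213 = N422 := rfl
theorem L2149 : sm gc N422 = N404 := ded_19_1 (flp_e L2061) L1085 L2147
theorem L2151 : sm gf N213 = N423 := rfl
theorem L2153 : sm gc N423 = N405 := ded_20_1 (flp_f L2065) L1085 L2151
theorem L2155 : sm gd N423 = N215 := ded_23_1 (flp_f L1091) L1083 L2151
theorem L2157 : sm gg N213 = N424 := rfl
theorem L2159 : sm gc N424 = N406 := ded_21_1 (flp_g L2071) L1085 L2157
theorem L2161 : sm gd N424 = N216 := ded_24_1 (flp_g L1095) L1083 L2157
theorem L2163 : sm gd N214 = N425 := rfl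
theorem L2165 : sm gf N214 = N426 := rfl
theorem L2167 : sm gc N426 = N217 := ded_20_1 (flp_f L1099) (flp_c L1089) L2165
theorem L2169 : sm ge N426 = N215 := ded_25_1 (flp_f L1091) L1087 L2165
theorem L2171 : sm gg N214 = N427 := rfl
theorem L2175 : sm ge N427 = N216 := ded_26_1 (flp_g L1095) L1087 L2171
theorem L2177 : sm gb N215 = N428 := rfl
theorem L2179 : sm gg N215 = N429 := rfl
theorem L2181 : sm gc N429 = N220 := ded_21_1 (flp_g L1115) (flp_c L1093) L2179
theorem L2183 : sm gf N392 = N429 := ded_29_0 (flp_g L2179) (flp_f L1091) L1095 (flp_a L1995)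
theorem L2185 : sm gb N216 = N430 := rfl
theorem L2187 : sm gf N216 = N431 := rfl
theorem L2189 : sm ga N431 = N429 := ded_11_1 (flp_f L2183) L1995 L2187
theorem L2195 : sm gb N217 = N432 := rfl
theorem L2198 : sm ge N432 = N219 := ded_15_2 (flp_b L1109) (flp_e L1102) L2195
theorem L2202 : sm gg N217 = N433 := rfl
theorem L2205 : sm ge N433 = N220 := ded_26_1 (flp_g L1115) (flp_e L1102) L2202
theorem L2207 : sm gf N394 = N433 := ded_29_0 (flp_g L2202) (flp_f L1099) L1104 (flp_a L2008)
theorem L2209 : sm gb N218 = N434 := rfl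
theorem L2212 : sm ge N434 = N221 := ded_15_2 (flp_b L1121) (flp_e L1107) L2209
theorem L2216 : sm gf N218 = N435 := rfl
theorem L2218 : sm ga N435 = N433 := ded_11_1 (flp_f L2207) L2008 L2216
theorem L2221 : sm ge N435 = N222 := ded_25_1 (flp_f L1127) (flp_e L1107) L2216
theorem L2223 : sm gg N435 = N393 := ded_29_3 L2001 (flp_f L1099) L1104 L2216
theorem L2225 : sm gc N219 = N436 := rfl
theorem L2229 : sm gb N220 = N437 := rfl
theorem L2231 : sm gd N437 = N223 := ded_14_2 (flp_b L1135) (flp_d L1117) L2229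
theorem L2233 : sm gc N221 = N438 := rfl
theorem L2237 : sm gf N221 = N439 := rfl
theorem L2240 : sm gd N439 = N224 := ded_23_1 L1161 (flp_d L1123) L2237
theorem L2243 : sm gb N256 = N439 := ded_14_3 L2240 L1143 L1327
theorem L2245 : sm gb N222 = N440 := rfl
theorem L2247 : sm gd N440 = N226 := ded_14_2 (flp_b L1150) (flp_d L1131) L2245
theorem L2249 : sm gf N440 = N256 := ded_16_2 L2243 (flp_f L2237) (flp_b L1121) L1127 L2245
theorem L2251 : sm ga N223 = N441 := rfl
theorem L2254 : sm gg N441 = N386 := ded_12_2 (flp_a L2026) (flp_g L2032) L2251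
theorem L2256 : sm gb N227 = N442 := rfl
theorem L2258 : sm gd N227 = N443 := rfl
theorem L2260 : sm ga N443 = N228 := ded_9_1 (flp_d L1168) L1164 L2258
theorem L2262 : sm gc N228 = N443 := ded_28_0 (flp_d L2258) L1166 L1334 L1338 (flp_d L1334) (flp_c L1166) L2258 L2260
theorem L2264 : sm ge N227 = N444 := rfl
theorem L2266 : sm ga N444 = N229 := ded_10_1 (flp_e L1172) L1164 L2264
theorem L2268 : sm gc N444 = N259 := ded_19_1 (flp_e L1339) (flp_c L1166) L2264
theorem L2270 : sm gf N227 = N445 := rfl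
theorem L2272 : sm ga N445 = N230 := ded_11_1 (flp_f L1178) L1164 L2270
theorem L2274 : sm gc N445 = N260 := ded_20_1 (flp_f L1343) (flp_c L1166) L2270
theorem L2276 : sm gg N227 = N446 := rfl
theorem L2278 : sm ga N446 = N231 := ded_12_1 (flp_g L1182) L1164 L2276
theorem L2280 : sm gc N446 = N261 := ded_21_1 (flp_g L1347) (flp_c L1166) L2276
theorem L2282 : sm ge N228 = N447 := rfl
theorem L2284 : sm gb N447 = N233 := ded_15_1 (flp_e L1192) (flp_b L1170) L2282
theorem L2286 : sm gf N228 = N448 := rfl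
theorem L2288 : sm gd N448 = N230 := ded_23_1 (flp_f L1178) L1168 L2286
theorem L2290 : sm gg N228 = N449 := rfl
theorem L2292 : sm gd N449 = N231 := ded_24_1 (flp_g L1182) L1168 L2290
theorem L2294 : sm gd N229 = N450 := rfl
theorem L2296 : sm gb N450 = N236 := ded_14_1 (flp_d L1202) (flp_b L1174) L2294
theorem L2298 : sm gf N229 = N451 := rfl
theorem L2300 : sm gc N451 = N266 := ded_20_1 (flp_f L1370) (flp_c L1176) L2298
theorem L2302 : sm ge N451 = N230 := ded_25_1 (flp_f L1178) L1172 L2298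
theorem L2304 : sm gg N229 = N452 := rfl
theorem L2306 : sm gc N452 = N267 := ded_21_1 (flp_g L1374) (flp_c L1176) L2304
theorem L2308 : sm ge N452 = N231 := ded_26_1 (flp_g L1182) L1172 L2304
theorem L2310 : sm gb N230 = N453 := rfl
theorem L2312 : sm gf N453 = N239 := ded_16_2 (flp_b L1216) (flp_f L554) L544 L1178 L2310
theorem L2314 : sm gg N230 = N454 := rfl
theorem L2316 : sm gc N454 = N269 := ded_21_1 (flp_g L1382) (flp_c L1180) L2314
theorem L2318 : sm gf N446 = N454 := ded_29_0 (flp_g L2314) (flp_f L1178) L1182 (flp_a L2278)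
theorem L2320 : sm gb N231 = N455 := rfl
theorem L2322 : sm gg N455 = N241 := ded_17_2 (flp_b L1224) (flp_g L558) L544 L1182 L2320
theorem L2324 : sm gf N231 = N456 := rfl
theorem L2326 : sm ga N456 = N454 := ded_11_1 (flp_f L2318) L2278 L2324
theorem L2328 : sm gc N456 = N271 := ded_20_1 (flp_f L1390) (flp_c L1184) L2324
theorem L2330 : sm gg N456 = N445 := ded_29_3 L2272 (flp_f L1178) L1182 L2324
theorem L2332 : sm gb N232 = N457 := rfl
theorem L2334 : sm gd N457 = N389 := ded_14_2 (flp_b L1979) (flp_d L1190) L2332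
theorem L2336 : sm ge N232 = N458 := rfl
theorem L2338 : sm ga N458 = N422 := ded_10_1 (flp_e L2147) (flp_a L1188) L2336
theorem L2340 : sm gc N458 = N233 := ded_19_1 (flp_e L1192) L1186 L2336
theorem L2342 : sm gf N232 = N459 := rfl
theorem L2344 : sm ga N459 = N423 := ded_11_1 (flp_f L2151) (flp_a L1188) L2342
theorem L2346 : sm gc N459 = N234 := ded_20_1 (flp_f L1194) L1186 L2342
theorem L2348 : sm gd N459 = N391 := ded_23_1 (flp_f L1987) (flp_d L1190) L2342
theorem L2350 : sm gg N232 = N460 := rfl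
theorem L2352 : sm ga N460 = N424 := ded_12_1 (flp_g L2157) (flp_a L1188) L2350
theorem L2354 : sm gc N460 = N235 := ded_21_1 (flp_g L1198) L1186 L2350
theorem L2356 : sm gd N460 = N392 := ded_24_1 (flp_g L1993) (flp_d L1190) L2350
theorem L2358 : sm gd N233 = N461 := rfl
theorem L2360 : sm ge N461 = N236 := ded_22_2 (flp_d L1202) (flp_e L550) L548 L1192 L2358
theorem L2362 : sm gf N233 = N462 := rfl
theorem L2364 : sm ge N462 = N234 := ded_25_1 (flp_f L1194) L1192 L2362
theorem L2366 : sm gg N233 = N463 := rfl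
theorem L2368 : sm ge N463 = N235 := ded_26_1 (flp_g L1198) L1192 L2366
theorem L2370 : sm gb N234 = N464 := rfl
theorem L2372 : sm gd N464 = N239 := ded_14_2 (flp_b L1216) (flp_d L1196) L2370
theorem L2374 : sm gg N234 = N465 := rfl
theorem L2376 : sm gd N465 = N240 := ded_24_1 (flp_g L1218) (flp_d L1196) L2374
theorem L2378 : sm gf N406 = N465 := ded_29_0 (flp_g L2374) (flp_f L1194) L1198 (flp_a L2073)
theorem L2380 : sm gb N235 = N466 := rfl
theorem L2382 : sm gd N466 = N241 := ded_14_2 (flp_b L1224) (flp_d L1200) L2380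
theorem L2384 : sm gf N235 = N467 := rfl
theorem L2386 : sm ga N467 = N465 := ded_11_1 (flp_f L2378) L2073 L2384
theorem L2388 : sm gd N467 = N242 := ded_23_1 (flp_f L1226) (flp_d L1200) L2384
theorem L2390 : sm gg N467 = N405 := ded_29_3 L2067 (flp_f L1194) L1198 L2384
theorem L2392 : sm gc N236 = N468 := rfl
theorem L2394 : sm gf N236 = N469 := rfl
theorem L2396 : sm gd N469 = N237 := ded_23_1 (flp_f L1204) L1202 L2394
theorem L2398 : sm gg N236 = N470 := rfl
theorem L2400 : sm gd N470 = N238 := ded_24_1 (flp_g L1210) L1202 L2398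
theorem L2402 : sm gb N237 = N471 := rfl
theorem L2404 : sm ge N471 = N239 := ded_15_2 (flp_b L1216) (flp_e L1208) L2402
theorem L2406 : sm gg N237 = N472 := rfl
theorem L2408 : sm gc N472 = N244 := ded_21_1 (flp_g L1241) (flp_c L1206) L2406
theorem L2410 : sm ge N472 = N240 := ded_26_1 (flp_g L1218) (flp_e L1208) L2406
theorem L2412 : sm gf N409 = N472 := ded_29_0 (flp_g L2406) (flp_f L1204) L1210 (flp_a L2091)
theorem L2414 : sm gb N238 = N473 := rfl
theorem L2416 : sm ge N473 = N241 := ded_15_2 (flp_b L1224) (flp_e L1214) L2414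
theorem L2418 : sm gf N238 = N474 := rfl
theorem L2420 : sm ga N474 = N472 := ded_11_1 (flp_f L2412) L2091 L2418
theorem L2422 : sm gc N474 = N246 := ded_20_1 (flp_f L1255) (flp_c L1212) L2418
theorem L2424 : sm ge N474 = N242 := ded_25_1 (flp_f L1226) (flp_e L1214) L2418
theorem L2426 : sm gg N474 = N408 := ded_29_3 L2083 (flp_f L1204) L1210 L2418
theorem L2428 : sm ga N239 = N475 := rfl
theorem L2430 : sm gc N239 = N476 := rfl
theorem L2432 : sm gb N476 = N247 := ded_13_1 (flp_c L1264) (flp_b L572) (flp_c L556) L1216 L2430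
theorem L2434 : sm gg N239 = N477 := rfl
theorem L2436 : sm gb N240 = N478 := rfl
theorem L2438 : sm ga N241 = N479 := rfl
theorem L2440 : sm gc N241 = N480 := rfl
theorem L2442 : sm gb N480 = N251 := ded_13_1 (flp_c L1287) (flp_b L584) (flp_c L560) L1224 L2440
theorem L2444 : sm gf N241 = N481 := rfl
theorem L2446 : sm gb N242 = N482 := rfl
theorem L2448 : sm gc N243 = N483 := rfl
theorem L2450 : sm ge N483 = N247 := ded_19_2 (flp_c L1264) (flp_e L1237) L2448
theorem L2452 : sm gf N483 = N289 := ded_20_2 (flp_c L1473) (flp_f L1239) L2448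
theorem L2454 : sm gg N243 = N484 := rfl
theorem L2456 : sm gd N484 = N484 := ded_24_1 (flp_g L2454) L1236 L2454
theorem L2457 : sm ge N484 = N248 := ded_26_1 (flp_g L1268) (flp_e L1237) L2454
theorem L2459 : sm gb N244 = N485 := rfl
theorem L2461 : sm gd N485 = N485 := ded_14_2 (flp_b L2459) L1243 L2459
theorem L2462 : sm ge N485 = N249 := ded_15_2 (flp_b L1272) (flp_e L1244) L2459
theorem L2464 : sm ga N293 = N485 := ded_10_3 L2462 (flp_a L1276) (flp_e L1494)
theorem L2466 : sm gf N291 = N485 := ded_25_0 L2462 (flp_f L1278) (flp_e L1485)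
theorem L2468 : sm ga N245 = N486 := rfl
theorem L2470 : sm gd N486 = N486 := ded_9_2 (flp_a L2468) L1250 L2468
theorem L2471 : sm ge N486 = N250 := ded_10_2 (flp_a L1280) (flp_e L1251) L2468
theorem L2473 : sm gg N486 = N291 := ded_12_2 (flp_a L1482) (flp_g L1253) L2468
theorem L2475 : sm gb N486 = N486 := ded_7_2 (flp_a L2468) (flp_b L1248) (flp_a L1056) L2108 L2114 (flp_b L2108) L1056 L1248 L2468
theorem L2476 : sm gc N245 = N487 := rfl
theorem L2478 : sm ge N487 = N251 := ded_19_2 (flp_c L1287) (flp_e L1251) L2476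
theorem L2480 : sm gg N487 = N292 := ded_21_2 (flp_c L1487) (flp_g L1253) L2476
theorem L2482 : sm gf N245 = N488 := rfl
theorem L2484 : sm gd N488 = N488 := ded_23_1 (flp_f L2482) L1250 L2482
theorem L2485 : sm ge N488 = N252 := ded_25_1 (flp_f L1291) (flp_e L1251) L2482
theorem L2487 : sm gg N488 = N485 := ded_29_3 (flp_a L2464) (flp_f L1491) (flp_g L1253) L2482
theorem L2489 : sm gb N488 = N484 := ded_31_2 (flp_g L2454) L1239 (flp_b L697) (flp_g L413) (flp_f L406) L184 (flp_g L179) L173 L178 L399 (flp_f L404) L702 (flp_g L1253) L2482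
theorem L2491 : sm gb N246 = N489 := rfl
theorem L2493 : sm gd N489 = N489 := ded_14_2 (flp_b L2491) L1259 L2491
theorem L2494 : sm ge N489 = N253 := ded_15_2 (flp_b L1299) (flp_e L1260) L2491
theorem L2496 : sm gf N489 = N484 := ded_16_2 (flp_b L2489) (flp_f L2482) (flp_b L1248) L1255 L2491
theorem L2498 : sm ga N290 = N489 := ded_10_3 L2494 (flp_a L1305) (flp_e L1480)
theorem L2500 : sm gg N288 = N489 := ded_26_0 L2494 (flp_g L1307) (flp_e L1471)
theorem L2502 : sm gd N247 = N490 := rfl
theorem L2504 : sm gf N490 = N296 := ded_23_2 (flp_d L1508) (flp_f L1266) L2502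
theorem L2506 : sm gc N490 = N296 := ded_28_6 (flp_d L1508) (flp_a L1506) (flp_c L1504) L709 (flp_c L334) (flp_d L574) L1264 L2502
theorem L2508 : sm gg N247 = N491 := rfl
theorem L2510 : sm gc N491 = N248 := ded_21_1 (flp_g L1268) L1264 L2508
theorem L2512 : sm gc N249 = N492 := rfl
theorem L2514 : sm ga N492 = N302 := ded_8_1 L1540 L1276 L2512
theorem L2516 : sm gf N492 = N300 := ded_20_2 (flp_c L1532) L1278 L2512
theorem L2518 : sm gc N250 = N493 := rfl
theorem L2520 : sm ga N493 = N251 := ded_8_1 (flp_c L1287) L1280 L2518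
theorem L2522 : sm gg N493 = N300 := ded_21_2 (flp_c L1532) (flp_g L1284) L2518
theorem L2524 : sm gd N251 = N494 := rfl
theorem L2526 : sm gg N494 = N301 := ded_24_2 (flp_d L1536) (flp_g L1289) L2524
theorem L2528 : sm gf N251 = N495 := rfl
theorem L2530 : sm gc N495 = N252 := ded_20_1 (flp_f L1291) L1287 L2528
theorem L2532 : sm gg N495 = N492 := ded_29_3 L2514 (flp_f L1538) (flp_g L1289) L2528
theorem L2534 : sm gc N253 = N496 := rfl
theorem L2536 : sm ga N496 = N297 := ded_8_1 L1512 L1305 L2534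
theorem L2538 : sm gf N496 = N491 := ded_20_2 L2510 (flp_f L1303) L2534
theorem L2540 : sm gg N496 = N295 := ded_21_2 (flp_c L1504) L1307 L2534
theorem L2542 : sm gd N254 = N497 := rfl
theorem L2544 : sm ga N497 = N309 := ded_9_1 L1580 (flp_a L1311) L2542
theorem L2546 : sm gf N497 = N306 := ded_23_2 (flp_d L1566) (flp_f L1314) L2542
theorem L2548 : sm gg N497 = N440 := ded_24_2 L2247 (flp_g L1316) L2542
theorem L2550 : sm gd N255 = N498 := rfl
theorem L2552 : sm ga N498 = N256 := ded_9_1 (flp_d L1327) (flp_a L1320) L2550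
theorem L2554 : sm gb N498 = N385 := ded_14_1 L1958 L1325 L2550
theorem L2556 : sm gg N498 = N306 := ded_24_2 (flp_d L1566) (flp_g L1323) L2550
theorem L2558 : sm gc N256 = N499 := rfl
theorem L2560 : sm gg N499 = N307 := ded_21_2 (flp_c L1572) (flp_g L1329) L2558
theorem L2562 : sm ge N256 = N500 := rfl
theorem L2564 : sm gg N500 = N308 := ded_26_2 (flp_e L1574) (flp_g L1329) L2562
theorem L2567 : sm gc N257 = N501 := rfl
theorem L2569 : sm ga N501 = N501 := ded_8_1 (flp_c L2567) L1333 L2567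
theorem L2570 : sm gd N257 = N502 := rfl
theorem L2572 : sm ga N502 = N502 := ded_9_1 (flp_d L2570) L1333 L2570
theorem L2573 : sm gb N502 = N258 := ded_14_1 (flp_d L1334) L1331 L2570
theorem L2575 : sm ge N257 = N503 := rfl
theorem L2577 : sm ga N503 = N503 := ded_10_1 (flp_e L2575) L1333 L2575
theorem L2578 : sm gb N503 = N259 := ded_15_1 (flp_e L1339) L1331 L2575
theorem L2580 : sm gf N257 = N504 := rfl
theorem L2582 : sm ga N504 = N504 := ded_11_1 (flp_f L2580) L1333 L2580
theorem L2583 : sm gg N257 = N505 := rfl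
theorem L2586 : sm ge N258 = N506 := rfl
theorem L2588 : sm ga N506 = N262 := ded_10_1 (flp_e L1351) (flp_a L1336) L2586
theorem L2590 : sm gc N506 = N506 := ded_19_1 (flp_e L2586) L1338 L2586
theorem L2591 : sm gf N258 = N507 := rfl
theorem L2593 : sm ga N507 = N263 := ded_11_1 (flp_f L1356) (flp_a L1336) L2591
theorem L2595 : sm gc N507 = N507 := ded_20_1 (flp_f L2591) L1338 L2591
theorem L2596 : sm gd N507 = N260 := ded_23_1 (flp_f L1343) L1334 L2591
theorem L2598 : sm gg N258 = N508 := rfl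
theorem L2600 : sm ga N508 = N264 := ded_12_1 (flp_g L1361) (flp_a L1336) L2598
theorem L2602 : sm gc N508 = N508 := ded_21_1 (flp_g L2598) L1338 L2598
theorem L2603 : sm gd N508 = N261 := ded_24_1 (flp_g L1347) L1334 L2598
theorem L2605 : sm gd N259 = N509 := rfl
theorem L2607 : sm ga N509 = N265 := ded_9_1 (flp_d L1366) (flp_a L1341) L2605
theorem L2609 : sm gf N259 = N510 := rfl
theorem L2611 : sm ga N510 = N266 := ded_11_1 (flp_f L1370) (flp_a L1341) L2609
theorem L2613 : sm ge N510 = N260 := ded_25_1 (flp_f L1343) L1339 L2609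
theorem L2615 : sm gg N259 = N511 := rfl
theorem L2617 : sm ga N511 = N267 := ded_12_1 (flp_g L1374) (flp_a L1341) L2615
theorem L2619 : sm ge N511 = N261 := ded_26_1 (flp_g L1347) L1339 L2615
theorem L2621 : sm gb N260 = N512 := rfl
theorem L2623 : sm gb N261 = N513 := rfl
theorem L2625 : sm gd N262 = N514 := rfl
theorem L2627 : sm gb N514 = N272 := ded_14_1 (flp_d L1396) (flp_b L1353) L2625
theorem L2629 : sm ge N514 = N265 := ded_22_2 (flp_d L1366) (flp_e L643) L638 L1351 L2625
theorem L2631 : sm gf N262 = N515 := rfl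
theorem L2633 : sm gc N515 = N515 := ded_20_1 (flp_f L2631) L1355 L2631
theorem L2634 : sm ge N515 = N263 := ded_25_1 (flp_f L1356) L1351 L2631
theorem L2636 : sm gg N262 = N516 := rfl
theorem L2638 : sm gc N516 = N516 := ded_21_1 (flp_g L2636) L1355 L2636
theorem L2639 : sm ge N516 = N264 := ded_26_1 (flp_g L1361) L1351 L2636
theorem L2641 : sm gb N263 = N517 := rfl
theorem L2643 : sm gd N517 = N268 := ded_14_2 (flp_b L1378) (flp_d L1359) L2641
theorem L2645 : sm gf N517 = N275 := ded_16_2 (flp_b L1418) (flp_f L657) (flp_b L640) L1356 L2641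
theorem L2647 : sm gg N263 = N518 := rfl
theorem L2649 : sm gc N518 = N518 := ded_21_1 (flp_g L2647) L1358 L2647
theorem L2650 : sm gd N518 = N269 := ded_24_1 (flp_g L1382) (flp_d L1359) L2647
theorem L2652 : sm gf N508 = N518 := ded_29_0 (flp_g L2647) (flp_f L1356) L1361 (flp_a L2600)
theorem L2654 : sm gb N264 = N519 := rfl
theorem L2656 : sm gd N519 = N270 := ded_14_2 (flp_b L1386) (flp_d L1364) L2654
theorem L2658 : sm gg N519 = N276 := ded_17_2 (flp_b L1422) (flp_g L665) (flp_b L640) L1361 L2654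
theorem L2660 : sm gf N264 = N520 := rfl
theorem L2662 : sm ga N520 = N518 := ded_11_1 (flp_f L2652) L2600 L2660
theorem L2664 : sm gc N520 = N520 := ded_20_1 (flp_f L2660) L1363 L2660
theorem L2665 : sm gd N520 = N271 := ded_23_1 (flp_f L1390) (flp_d L1364) L2660
theorem L2667 : sm gg N520 = N507 := ded_29_3 L2593 (flp_f L1356) L1361 L2660
theorem L2669 : sm gc N265 = N521 := rfl
theorem L2671 : sm gf N265 = N522 := rfl
theorem L2673 : sm gd N522 = N266 := ded_23_1 (flp_f L1370) L1366 L2671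
theorem L2675 : sm gg N265 = N523 := rfl
theorem L2677 : sm gd N523 = N267 := ded_24_1 (flp_g L1374) L1366 L2675
theorem L2679 : sm gb N266 = N524 := rfl
theorem L2681 : sm ge N524 = N268 := ded_15_2 (flp_b L1378) (flp_e L1372) L2679
theorem L2683 : sm gf N524 = N280 := ded_16_2 (flp_b L1444) (flp_f L677) (flp_b L645) L1370 L2679
theorem L2685 : sm gg N266 = N525 := rfl
theorem L2687 : sm ge N525 = N269 := ded_26_1 (flp_g L1382) (flp_e L1372) L2685
theorem L2689 : sm gf N511 = N525 := ded_29_0 (flp_g L2685) (flp_f L1370) L1374 (flp_a L2617)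
theorem L2691 : sm gb N267 = N526 := rfl
theorem L2693 : sm ge N526 = N270 := ded_15_2 (flp_b L1386) (flp_e L1376) L2691
theorem L2695 : sm gg N526 = N281 := ded_17_2 (flp_b L1448) (flp_g L685) (flp_b L645) L1374 L2691
theorem L2697 : sm gf N267 = N527 := rfl
theorem L2699 : sm ga N527 = N525 := ded_11_1 (flp_f L2689) L2617 L2697
theorem L2701 : sm ge N527 = N271 := ded_25_1 (flp_f L1390) (flp_e L1376) L2697
theorem L2703 : sm gg N527 = N510 := ded_29_3 L2611 (flp_f L1370) L1374 L2697
theorem L2705 : sm ga N268 = N528 := rfl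
theorem L2707 : sm gf N528 = N282 := ded_11_2 (flp_a L1452) (flp_f L1380) L2705
theorem L2709 : sm gc N268 = N529 := rfl
theorem L2711 : sm gf N529 = N283 := ded_20_2 (flp_c L1454) (flp_f L1380) L2709
theorem L2713 : sm gg N268 = N530 := rfl
theorem L2715 : sm gb N269 = N531 := rfl
theorem L2717 : sm ga N270 = N532 := rfl
theorem L2719 : sm gg N532 = N285 := ded_12_2 (flp_a L1460) (flp_g L1388) L2717
theorem L2721 : sm gc N270 = N533 := rfl
theorem L2723 : sm gg N533 = N286 := ded_21_2 (flp_c L1462) (flp_g L1388) L2721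
theorem L2725 : sm gf N270 = N534 := rfl
theorem L2727 : sm gb N271 = N535 := rfl
theorem L2729 : sm gc N272 = N536 := rfl
theorem L2731 : sm ga N536 = N312 := ded_8_1 (flp_c L1595) (flp_a L1398) L2729
theorem L2733 : sm ge N536 = N277 := ded_19_2 (flp_c L1426) (flp_e L1400) L2729
theorem L2735 : sm gf N272 = N537 := rfl
theorem L2737 : sm ga N537 = N313 := ded_11_1 (flp_f L1599) (flp_a L1398) L2735
theorem L2739 : sm gd N537 = N273 := ded_23_1 (flp_f L1402) L1396 L2735
theorem L2741 : sm ge N537 = N278 := ded_25_1 (flp_f L1432) (flp_e L1400) L2735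
theorem L2743 : sm gg N272 = N538 := rfl
theorem L2745 : sm ga N538 = N314 := ded_12_1 (flp_g L1605) (flp_a L1398) L2743
theorem L2747 : sm gd N538 = N274 := ded_24_1 (flp_g L1410) L1396 L2743
theorem L2749 : sm ge N538 = N279 := ded_26_1 (flp_g L1438) (flp_e L1400) L2743
theorem L2751 : sm gb N273 = N539 := rfl
theorem L2753 : sm ge N539 = N275 := ded_15_2 (flp_b L1418) (flp_e L1408) L2751
theorem L2755 : sm gb N274 = N540 := rfl
theorem L2757 : sm ge N540 = N276 := ded_15_2 (flp_b L1422) (flp_e L1416) L2755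
theorem L2759 : sm ga N275 = N541 := rfl
theorem L2761 : sm gd N541 = N282 := ded_9_2 (flp_a L1452) (flp_d L1420) L2759
theorem L2763 : sm gc N275 = N542 := rfl
theorem L2765 : sm gb N542 = N320 := ded_13_1 (flp_c L1642) (flp_b L795) (flp_c L661) L1418 L2763
theorem L2767 : sm gg N275 = N543 := rfl
theorem L2769 : sm gd N543 = N284 := ded_24_1 (flp_g L1458) (flp_d L1420) L2767
theorem L2771 : sm ga N276 = N544 := rfl
theorem L2773 : sm gd N544 = N285 := ded_9_2 (flp_a L1460) (flp_d L1424) L2771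
theorem L2775 : sm gc N276 = N545 := rfl
theorem L2777 : sm gb N545 = N324 := ded_13_1 (flp_c L1658) (flp_b L806) (flp_c L669) L1422 L2775
theorem L2779 : sm gf N276 = N546 := rfl
theorem L2781 : sm gd N546 = N287 := ded_23_1 (flp_f L1466) (flp_d L1424) L2779
theorem L2783 : sm gb N277 = N547 := rfl
theorem L2785 : sm gd N547 = N327 := ded_14_2 (flp_b L1669) (flp_d L1430) L2783
theorem L2787 : sm gf N277 = N548 := rfl
theorem L2789 : sm ga N548 = N328 := ded_11_1 (flp_f L1672) (flp_a L1428) L2787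
theorem L2791 : sm gc N548 = N278 := ded_20_1 (flp_f L1432) L1426 L2787
theorem L2793 : sm gd N548 = N328 := ded_23_1 (flp_f L1672) (flp_d L1430) L2787
theorem L2795 : sm gg N277 = N549 := rfl
theorem L2797 : sm ga N549 = N329 := ded_12_1 (flp_g L1676) (flp_a L1428) L2795
theorem L2799 : sm gc N549 = N279 := ded_21_1 (flp_g L1438) L1426 L2795
theorem L2801 : sm gd N549 = N329 := ded_24_1 (flp_g L1676) (flp_d L1430) L2795
theorem L2803 : sm gb N278 = N550 := rfl
theorem L2805 : sm gd N550 = N280 := ded_14_2 (flp_b L1444) (flp_d L1436) L2803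
theorem L2807 : sm gb N279 = N551 := rfl
theorem L2809 : sm gd N551 = N281 := ded_14_2 (flp_b L1448) (flp_d L1442) L2807
theorem L2811 : sm ga N280 = N552 := rfl
theorem L2813 : sm ge N552 = N282 := ded_10_2 (flp_a L1452) (flp_e L1446) L2811
theorem L2815 : sm gc N280 = N553 := rfl
theorem L2817 : sm ge N553 = N283 := ded_19_2 (flp_c L1454) (flp_e L1446) L2815
theorem L2819 : sm gb N553 = N289 := ded_13_1 (flp_c L1473) (flp_b L697) (flp_c L681) L1444 L2815
theorem L2821 : sm gg N280 = N554 := rfl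
theorem L2823 : sm ge N554 = N284 := ded_26_1 (flp_g L1458) (flp_e L1446) L2821
theorem L2825 : sm ga N281 = N555 := rfl
theorem L2827 : sm ge N555 = N285 := ded_10_2 (flp_a L1460) (flp_e L1450) L2825
theorem L2829 : sm gc N281 = N556 := rfl
theorem L2831 : sm ge N556 = N286 := ded_19_2 (flp_c L1462) (flp_e L1450) L2829
theorem L2833 : sm gb N556 = N292 := ded_13_1 (flp_c L1487) (flp_b L702) (flp_c L689) L1448 L2829
theorem L2835 : sm gf N281 = N557 := rfl
theorem L2837 : sm ge N557 = N287 := ded_25_1 (flp_f L1466) (flp_e L1450) L2835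
theorem L2839 : sm gb N282 = N558 := rfl
theorem L2841 : sm gc N282 = N559 := rfl
theorem L2843 : sm ga N559 = N283 := ded_8_1 (flp_c L1454) L1452 L2841
theorem L2845 : sm gg N282 = N560 := rfl
theorem L2847 : sm ga N560 = N284 := ded_12_1 (flp_g L1458) L1452 L2845
theorem L2849 : sm gf N560 = N530 := ded_29_2 (flp_g L2713) L2705 L2707 L2845
theorem L2851 : sm gd N283 = N561 := rfl
theorem L2853 : sm gb N561 = N296 := ded_14_1 (flp_d L1508) (flp_b L1456) L2851
theorem L2855 : sm gg N283 = N562 := rfl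
theorem L2857 : sm gc N562 = N284 := ded_21_1 (flp_g L1458) L1454 L2855
theorem L2859 : sm gf N284 = N563 := rfl
theorem L2861 : sm ga N563 = N530 := ded_11_1 (flp_f L2849) L2847 L2859
theorem L2863 : sm gg N563 = N528 := ded_29_3 (flp_a L2705) L1380 L1458 L2859
theorem L2865 : sm gb N285 = N564 := rfl
theorem L2867 : sm gc N285 = N565 := rfl
theorem L2869 : sm ga N565 = N286 := ded_8_1 (flp_c L1462) L1460 L2867
theorem L2871 : sm gf N285 = N566 := rfl
theorem L2873 : sm ga N566 = N287 := ded_11_1 (flp_f L1466) L1460 L2871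
theorem L2875 : sm gg N534 = N566 := ded_29_1 (flp_f L2871) (flp_g L2719) (flp_a L2717) L2725
theorem L2877 : sm gd N286 = N567 := rfl
theorem L2879 : sm gb N567 = N301 := ded_14_1 (flp_d L1536) (flp_b L1464) L2877
theorem L2881 : sm gf N286 = N568 := rfl
theorem L2883 : sm gc N568 = N287 := ded_20_1 (flp_f L1466) L1462 L2881
theorem L2885 : sm gg N287 = N569 := rfl
theorem L2887 : sm ga N569 = N534 := ded_12_1 L2875 L2873 L2885
theorem L2889 : sm gf N532 = N569 := ded_29_0 (flp_g L2885) (flp_f L1466) (flp_g L1388) L2717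
theorem L2891 : sm gb N288 = N570 := rfl
theorem L2893 : sm gd N570 = N570 := ded_14_2 (flp_b L2891) L1470 L2891
theorem L2894 : sm ge N570 = N294 := ded_15_2 (flp_b L1496) (flp_e L1471) L2891
theorem L2896 : sm gf N570 = N570 := ded_16_2 (flp_b L2891) (flp_f L1563) L1562 L1563 L2891
theorem L2897 : sm gg N570 = N412 := ded_17_2 (flp_b L2101) (flp_g L1262) L2491 (flp_g L2500) L2891
theorem L2899 : sm ga N570 = N570 := ded_7_1 (flp_b L2891) (flp_a L1468) (flp_b L697) L305 L178 (flp_a L305) L697 L1468 L2891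
theorem L2900 : sm gc N288 = N571 := rfl
theorem L2902 : sm ga N571 = N289 := ded_8_1 (flp_c L1473) L1468 L2900
theorem L2904 : sm ge N571 = N295 := ded_19_2 (flp_c L1504) (flp_e L1471) L2900
theorem L2906 : sm gd N289 = N572 := rfl
theorem L2908 : sm gg N289 = N573 := rfl
theorem L2910 : sm gc N573 = N290 := ded_21_1 (flp_g L1477) L1473 L2908
theorem L2912 : sm ge N573 = N297 := ded_26_1 (flp_g L1510) (flp_e L1475) L2908
theorem L2914 : sm gf N290 = N574 := rfl
theorem L2916 : sm ga N574 = N484 := ded_11_1 (flp_f L2496) (flp_a L2498) L2914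
theorem L2918 : sm gd N574 = N574 := ded_23_1 (flp_f L2914) L1479 L2914
theorem L2919 : sm ge N574 = N298 := ded_25_1 (flp_f L1514) (flp_e L1480) L2914
theorem L2921 : sm gg N574 = N305 := ded_29_3 L1560 L1239 L1477 L2914
theorem L2923 : sm gb N352 = N574 := ded_15_3 L2919 (flp_b L1522) (flp_e L1783)
theorem L2925 : sm gb N291 = N575 := rfl
theorem L2927 : sm gd N575 = N575 := ded_14_2 (flp_b L2925) L1484 L2925
theorem L2928 : sm ge N575 = N299 := ded_15_2 (flp_b L1524) (flp_e L1485) L2925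
theorem L2930 : sm gf N575 = N413 := ded_16_2 (flp_b L2108) L1246 L2459 (flp_f L2466) L2925
theorem L2932 : sm gg N575 = N575 := ded_17_2 (flp_b L2925) (flp_g L2473) L2475 L2473 L2925
theorem L2933 : sm ga N575 = N575 := ded_7_1 (flp_b L2925) (flp_a L1482) (flp_b L702) L312 L184 (flp_a L312) L702 L1482 L2925
theorem L2934 : sm gc N291 = N576 := rfl
theorem L2936 : sm ga N576 = N292 := ded_8_1 (flp_c L1487) L1482 L2934
theorem L2938 : sm ge N576 = N300 := ded_19_2 (flp_c L1532) (flp_e L1485) L2934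
theorem L2940 : sm gd N292 = N577 := rfl
theorem L2942 : sm gf N292 = N578 := rfl
theorem L2944 : sm gc N578 = N293 := ded_20_1 (flp_f L1491) L1487 L2942
theorem L2946 : sm ge N578 = N302 := ded_25_1 (flp_f L1538) (flp_e L1489) L2942
theorem L2948 : sm gg N293 = N579 := rfl
theorem L2950 : sm ga N579 = N488 := ded_12_1 L2487 (flp_a L2464) L2948
theorem L2952 : sm gd N579 = N579 := ded_24_1 (flp_g L2948) L1493 L2948
theorem L2953 : sm ge N579 = N303 := ded_26_1 (flp_g L1542) (flp_e L1494) L2948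
theorem L2957 : sm gb N355 = N579 := ded_7_0 L2950 L2489 (flp_a L2916) (flp_b L2923) (flp_a L1780) (flp_b L879) (flp_a L408) L885 L1798
theorem L2959 : sm gc N294 = N580 := rfl
theorem L2961 : sm ga N580 = N580 := ded_8_1 (flp_c L2959) L1503 L2959
theorem L2963 : sm gg N580 = N414 := ded_21_2 (flp_c L2115) (flp_g L1501) L2959
theorem L2965 : sm gb N295 = N581 := rfl
theorem L2967 : sm gd N295 = N582 := rfl
theorem L2969 : sm ga N582 = N296 := ded_9_1 (flp_d L1508) (flp_a L1506) L2967
theorem L2971 : sm ge N296 = N583 := rfl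
theorem L2973 : sm gg N296 = N584 := rfl
theorem L2975 : sm gd N584 = N297 := ded_24_1 (flp_g L1510) L1508 L2973
theorem L2977 : sm gb N297 = N585 := rfl
theorem L2979 : sm gf N297 = N586 := rfl
theorem L2981 : sm ga N586 = N491 := ded_11_1 (flp_f L2538) L2536 L2979
theorem L2983 : sm gc N586 = N298 := ded_20_1 (flp_f L1514) (flp_c L1512) L2979
theorem L2985 : sm gg N586 = N304 := ded_29_3 L1554 L1266 L1510 L2979
theorem L2987 : sm gc N299 = N587 := rfl
theorem L2990 : sm gf N587 = N415 := ded_20_2 (flp_c L2119) (flp_f L1528) L2987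
theorem L2993 : sm gb N300 = N588 := rfl
theorem L2995 : sm gd N300 = N589 := rfl
theorem L2997 : sm ga N589 = N301 := ded_9_1 (flp_d L1536) (flp_a L1534) L2995
theorem L2999 : sm gc N301 = N590 := rfl
theorem L3001 : sm ge N301 = N591 := rfl
theorem L3003 : sm gf N301 = N592 := rfl
theorem L3005 : sm gd N592 = N302 := ded_23_1 (flp_f L1538) L1536 L3003
theorem L3007 : sm gb N302 = N593 := rfl
theorem L3009 : sm gg N302 = N594 := rfl
theorem L3011 : sm ga N594 = N495 := ded_12_1 L2532 L2514 L3009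
theorem L3013 : sm gc N594 = N303 := ded_21_1 (flp_g L1542) (flp_c L1540) L3009
theorem L3015 : sm gf N493 = N594 := ded_29_0 (flp_g L3009) (flp_f L1538) (flp_g L1289) (flp_a L2520)
theorem L3017 : sm gb N304 = N595 := rfl
theorem L3019 : sm gc N595 = N595 := ded_13_2 (flp_b L3017) (flp_c L1552) L741 L1552 L3017
theorem L3020 : sm gd N304 = N596 := rfl
theorem L3022 : sm ga N596 = N490 := ded_9_1 (flp_d L2502) (flp_a L1554) L3020
theorem L3024 : sm gf N596 = N582 := ded_23_2 (flp_d L2967) (flp_f L1556) L3020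
theorem L3026 : sm gc N582 = N596 := ded_28_0 (flp_d L3020) (flp_c L1552) (flp_d L737) (flp_c L328) (flp_d L319) L711 L1508 (flp_a L2969)
theorem L3028 : sm ge N304 = N597 := rfl
theorem L3030 : sm ga N597 = N483 := ded_10_1 L2450 (flp_a L1554) L3028
theorem L3032 : sm gc N597 = N305 := ded_19_1 (flp_e L1558) L1552 L3028
theorem L3034 : sm gf N597 = N571 := ded_25_2 L2904 (flp_f L1556) L3028
theorem L3036 : sm gc N306 = N598 := rfl
theorem L3038 : sm ga N598 = N307 := ded_8_1 (flp_c L1572) (flp_a L1568) L3036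
theorem L3040 : sm gd N590 = N598 := ded_28_1 (flp_c L3036) (flp_d L1566) (flp_c L762) (flp_d L719) L1532 L2995 L2997 L2999
theorem L3042 : sm ge N306 = N599 := rfl
theorem L3046 : sm gb N599 = N394 := ded_15_1 L2011 (flp_b L1570) L3042
theorem L3048 : sm gd N599 = N599 := ded_22_1 (flp_e L3042) (flp_d L1566) L766 L1566 L3042
theorem L3049 : sm gb N307 = N600 := rfl
theorem L3051 : sm gc N600 = N600 := ded_13_2 (flp_b L3049) (flp_c L1572) L769 L1572 L3049
theorem L3052 : sm gd N307 = N601 := rfl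
theorem L3054 : sm ga N601 = N590 := ded_9_1 L3040 L3038 L3052
theorem L3056 : sm gc N589 = N601 := ded_28_0 (flp_d L3052) (flp_c L1572) (flp_d L767) (flp_c L344) (flp_d L323) L721 L1536 (flp_a L2997)
theorem L3058 : sm ge N307 = N602 := rfl
theorem L3060 : sm gc N602 = N308 := ded_19_1 (flp_e L1574) L1572 L3058
theorem L3062 : sm gf N307 = N603 := rfl
theorem L3064 : sm gc N603 = N309 := ded_20_1 (flp_f L1578) L1572 L3062
theorem L3066 : sm gf N308 = N604 := rfl
theorem L3069 : sm ge N604 = N309 := ded_25_1 (flp_f L1578) L1574 L3066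
theorem L3071 : sm gb N309 = N605 := rfl
theorem L3073 : sm gd N605 = N310 := ded_14_2 (flp_b L1582) (flp_d L1580) L3071
theorem L3084 : sm ga N310 = N607 := rfl
theorem L3087 : sm gf N607 = N607 := ded_11_2 (flp_a L3084) L1585 L3084
theorem L3088 : sm gb N387 = N607 := ded_30_2 (flp_a L3084) L1585 (flp_c L1887) (flp_b L1884) (flp_a L1865) (flp_f L1863) (flp_c L922) (flp_b L937) L746 (flp_f L628) L634 (flp_b L617) (flp_a L777) (flp_f L780) L1318 (flp_b L1325) (flp_a L1939) L1969 L1967
theorem L3090 : sm gg N310 = N608 := rfl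
theorem L3093 : sm gb N311 = N609 := rfl
theorem L3096 : sm gc N609 = N372 := ded_13_2 (flp_b L1890) (flp_c L951) L940 (flp_c L1590) L3093
theorem L3098 : sm gb N312 = N610 := rfl
theorem L3100 : sm ge N610 = N327 := ded_15_2 (flp_b L1669) (flp_e L1597) L3098
theorem L3102 : sm gc N610 = N610 := ded_13_2 (flp_b L3098) (flp_c L1595) L784 L1595 L3098
theorem L3103 : sm gd N312 = N611 := rfl
theorem L3105 : sm gc N611 = N611 := ded_28_6 (flp_d L3103) (flp_a L2731) (flp_c L2729) (flp_d L1396) L655 L782 L1595 L3103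
theorem L3106 : sm gf N312 = N612 := rfl
theorem L3108 : sm gc N612 = N313 := ded_20_1 (flp_f L1599) L1595 L3106
theorem L3110 : sm ge N612 = N328 := ded_25_1 (flp_f L1672) (flp_e L1597) L3106
theorem L3112 : sm gg N312 = N613 := rfl
theorem L3114 : sm gc N613 = N314 := ded_21_1 (flp_g L1605) L1595 L3112
theorem L3116 : sm ge N613 = N329 := ded_26_1 (flp_g L1676) (flp_e L1597) L3112
theorem L3118 : sm gb N313 = N614 := rfl
theorem L3120 : sm gd N614 = N315 := ded_14_2 (flp_b L1611) (flp_d L1601) L3118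
theorem L3122 : sm ge N614 = N330 := ded_15_2 (flp_b L1680) (flp_e L1603) L3118
theorem L3124 : sm gf N614 = N614 := ded_16_2 (flp_b L3118) (flp_f L1599) L784 L1599 L3118
theorem L3125 : sm gg N313 = N615 := rfl
theorem L3127 : sm gd N615 = N316 := ded_24_1 (flp_g L1616) (flp_d L1601) L3125
theorem L3129 : sm ge N615 = N331 := ded_26_1 (flp_g L1685) (flp_e L1603) L3125
theorem L3131 : sm gf N538 = N615 := ded_29_0 (flp_g L3125) (flp_f L1599) L1605 (flp_a L2745)
theorem L3133 : sm gb N314 = N616 := rfl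
theorem L3135 : sm gd N616 = N317 := ded_14_2 (flp_b L1622) (flp_d L1607) L3133
theorem L3137 : sm ge N616 = N332 := ded_15_2 (flp_b L1691) (flp_e L1609) L3133
theorem L3139 : sm gg N616 = N616 := ded_17_2 (flp_b L3133) (flp_g L1605) L784 L1605 L3133
theorem L3140 : sm gf N314 = N617 := rfl
theorem L3142 : sm ga N617 = N615 := ded_11_1 (flp_f L3131) L2745 L3140
theorem L3144 : sm gd N617 = N318 := ded_23_1 (flp_f L1627) (flp_d L1607) L3140
theorem L3146 : sm ge N617 = N333 := ded_25_1 (flp_f L1696) (flp_e L1609) L3140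
theorem L3148 : sm gg N617 = N537 := ded_29_3 L2737 (flp_f L1599) L1605 L3140
theorem L3150 : sm ga N315 = N618 := rfl
theorem L3152 : sm ge N618 = N319 := ded_10_2 (flp_a L1637) (flp_e L1613) L3150
theorem L3154 : sm gf N618 = N618 := ded_11_2 (flp_a L3150) L1615 L3150
theorem L3155 : sm gc N315 = N619 := rfl
theorem L3157 : sm ge N619 = N320 := ded_19_2 (flp_c L1642) (flp_e L1613) L3155
theorem L3159 : sm gf N619 = N619 := ded_20_2 (flp_c L3155) L1615 L3155
theorem L3160 : sm gg N315 = N620 := rfl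
theorem L3162 : sm ge N620 = N321 := ded_26_1 (flp_g L1645) (flp_e L1613) L3160
theorem L3164 : sm gb N316 = N621 := rfl
theorem L3166 : sm ge N621 = N322 := ded_15_2 (flp_b L1649) (flp_e L1618) L3164
theorem L3168 : sm ga N317 = N622 := rfl
theorem L3170 : sm ge N622 = N323 := ded_10_2 (flp_a L1653) (flp_e L1624) L3168
theorem L3172 : sm gg N622 = N622 := ded_12_2 (flp_a L3168) L1626 L3168
theorem L3173 : sm gc N317 = N623 := rfl
theorem L3175 : sm ge N623 = N324 := ded_19_2 (flp_c L1658) (flp_e L1624) L3173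
theorem L3177 : sm gg N623 = N623 := ded_21_2 (flp_c L3173) L1626 L3173
theorem L3178 : sm gf N317 = N624 := rfl
theorem L3180 : sm ge N624 = N325 := ded_25_1 (flp_f L1661) (flp_e L1624) L3178
theorem L3182 : sm gb N318 = N625 := rfl
theorem L3184 : sm ge N625 = N326 := ded_15_2 (flp_b L1665) (flp_e L1633) L3182
theorem L3186 : sm gb N319 = N626 := rfl
theorem L3188 : sm gd N626 = N340 := ded_14_2 (flp_b L1734) (flp_d L1639) L3186
theorem L3190 : sm gc N319 = N627 := rfl
theorem L3192 : sm ga N627 = N320 := ded_8_1 (flp_c L1642) L1637 L3190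
theorem L3195 : sm gg N319 = N628 := rfl
theorem L3199 : sm gd N628 = N341 := ded_24_1 (flp_g L1736) (flp_d L1639) L3195
theorem L3203 : sm gd N320 = N629 := rfl
theorem L3206 : sm gg N320 = N630 := rfl
theorem L3208 : sm gc N630 = N321 := ded_21_1 (flp_g L1645) L1642 L3206
theorem L3210 : sm gb N321 = N631 := rfl
theorem L3212 : sm gd N631 = N342 := ded_14_2 (flp_b L1743) (flp_d L1647) L3210
theorem L3214 : sm gg N631 = N322 := ded_17_2 (flp_b L1649) (flp_g L800) L795 L1645 L3210
theorem L3216 : sm ga N322 = N632 := rfl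
theorem L3218 : sm gd N632 = N343 := ded_9_2 (flp_a L1747) (flp_d L1651) L3216
theorem L3220 : sm gc N322 = N633 := rfl
theorem L3222 : sm gf N322 = N634 := rfl
theorem L3224 : sm gd N634 = N345 := ded_23_1 (flp_f L1753) (flp_d L1651) L3222
theorem L3226 : sm gb N634 = N546 := ded_16_1 (flp_f L2779) (flp_b L1422) L804 L1649 L3222
theorem L3228 : sm gb N323 = N635 := rfl
theorem L3230 : sm gd N635 = N346 := ded_14_2 (flp_b L1757) (flp_d L1655) L3228
theorem L3232 : sm gc N323 = N636 := rfl
theorem L3234 : sm ga N636 = N324 := ded_8_1 (flp_c L1658) L1653 L3232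
theorem L3236 : sm gg N636 = N636 := ded_21_2 (flp_c L3232) L1657 L3232
theorem L3237 : sm gf N323 = N637 := rfl
theorem L3239 : sm ga N637 = N325 := ded_11_1 (flp_f L1661) L1653 L3237
theorem L3241 : sm gd N637 = N347 := ded_23_1 (flp_f L1759) (flp_d L1655) L3237
theorem L3243 : sm gg N637 = N325 := ded_29_3 (flp_a L3239) (flp_f L3237) L1657 L3237
theorem L3245 : sm gd N324 = N638 := rfl
theorem L3248 : sm gf N324 = N639 := rfl
theorem L3252 : sm gb N325 = N640 := rfl
theorem L3254 : sm gd N640 = N348 := ded_14_2 (flp_b L1766) (flp_d L1663) L3252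
theorem L3256 : sm gf N640 = N326 := ded_16_2 (flp_b L1665) (flp_f L811) L806 L1661 L3252
theorem L3258 : sm ga N326 = N641 := rfl
theorem L3260 : sm gd N641 = N349 := ded_9_2 (flp_a L1770) (flp_d L1667) L3258
theorem L3262 : sm gc N326 = N642 := rfl
theorem L3264 : sm gb N642 = N633 := ded_13_1 (flp_c L3220) (flp_b L1649) (flp_c L815) L1665 L3262
theorem L3266 : sm gg N326 = N643 := rfl
theorem L3268 : sm gd N643 = N351 := ded_24_1 (flp_g L1776) (flp_d L1667) L3266
theorem L3270 : sm gb N643 = N543 := ded_17_1 (flp_g L2767) (flp_b L1418) (flp_g L819) L1665 L3266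
theorem L3272 : sm ga N327 = N644 := rfl
theorem L3274 : sm gc N644 = N644 := ded_8_2 (flp_a L3272) L1671 L3272
theorem L3275 : sm gf N327 = N645 := rfl
theorem L3277 : sm gc N645 = N645 := ded_20_1 (flp_f L3275) L1671 L3275
theorem L3278 : sm gg N327 = N646 := rfl
theorem L3280 : sm gc N646 = N646 := ded_21_1 (flp_g L3278) L1671 L3278
theorem L3281 : sm gb N328 = N647 := rfl
theorem L3283 : sm gg N328 = N648 := rfl
theorem L3285 : sm gc N648 = N331 := ded_21_1 (flp_g L1685) (flp_c L1674) L3283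
theorem L3287 : sm gf N549 = N648 := ded_29_0 (flp_g L3283) (flp_f L1672) L1676 (flp_a L2797)
theorem L3289 : sm gb N329 = N649 := rfl
theorem L3291 : sm gf N329 = N650 := rfl
theorem L3293 : sm ga N650 = N648 := ded_11_1 (flp_f L3287) L2797 L3291
theorem L3295 : sm gc N650 = N333 := ded_20_1 (flp_f L1696) (flp_c L1678) L3291
theorem L3297 : sm gd N650 = N648 := ded_23_1 (flp_f L3287) L2801 L3291
theorem L3299 : sm gg N650 = N548 := ded_29_3 L2789 (flp_f L1672) L1676 L3291
theorem L3301 : sm ga N330 = N651 := rfl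
theorem L3303 : sm gd N651 = N334 := ded_9_2 (flp_a L1704) (flp_d L1682) L3301
theorem L3305 : sm gf N651 = N651 := ded_11_2 (flp_a L3301) L1684 L3301
theorem L3306 : sm gc N330 = N652 := rfl
theorem L3308 : sm gf N652 = N652 := ded_20_2 (flp_c L3306) L1684 L3306
theorem L3309 : sm gg N330 = N653 := rfl
theorem L3311 : sm gd N653 = N335 := ded_24_1 (flp_g L1710) (flp_d L1682) L3309
theorem L3313 : sm gb N331 = N654 := rfl
theorem L3315 : sm gd N654 = N336 := ded_14_2 (flp_b L1715) (flp_d L1687) L3313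
theorem L3317 : sm ga N332 = N655 := rfl
theorem L3319 : sm gd N655 = N337 := ded_9_2 (flp_a L1719) (flp_d L1693) L3317
theorem L3321 : sm gg N655 = N655 := ded_12_2 (flp_a L3317) L1695 L3317
theorem L3322 : sm gc N332 = N656 := rfl
theorem L3324 : sm gg N656 = N656 := ded_21_2 (flp_c L3322) L1695 L3322
theorem L3325 : sm gf N332 = N657 := rfl
theorem L3327 : sm gd N657 = N338 := ded_23_1 (flp_f L1725) (flp_d L1693) L3325
theorem L3329 : sm gb N333 = N658 := rfl
theorem L3331 : sm gd N658 = N339 := ded_14_2 (flp_b L1730) (flp_d L1700) L3329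
theorem L3333 : sm gb N334 = N659 := rfl
theorem L3335 : sm ge N659 = N340 := ded_15_2 (flp_b L1734) (flp_e L1707) L3333
theorem L3337 : sm gg N334 = N660 := rfl
theorem L3339 : sm ga N660 = N335 := ded_12_1 (flp_g L1710) L1704 L3337
theorem L3342 : sm ge N660 = N341 := ded_26_1 (flp_g L1736) (flp_e L1707) L3337
theorem L3344 : sm gf N335 = N660 := ded_29_0 (flp_g L3337) L1709 L3337 L3339
theorem L3346 : sm gb N335 = N661 := rfl
theorem L3348 : sm ge N661 = N342 := ded_15_2 (flp_b L1743) (flp_e L1713) L3346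
theorem L3350 : sm gg N661 = N336 := ded_17_2 (flp_b L1715) (flp_g L837) L831 L1710 L3346
theorem L3352 : sm ga N336 = N662 := rfl
theorem L3354 : sm ge N662 = N343 := ded_10_2 (flp_a L1747) (flp_e L1717) L3352
theorem L3356 : sm gc N336 = N663 := rfl
theorem L3358 : sm ge N663 = N344 := ded_19_2 (flp_c L1749) (flp_e L1717) L3356
theorem L3360 : sm gb N663 = N353 := ded_13_1 (flp_c L1786) (flp_b L879) (flp_c L839) L1715 L3356
theorem L3362 : sm gf N336 = N664 := rfl
theorem L3366 : sm gb N664 = N557 := ded_16_1 (flp_f L2835) (flp_b L1448) L843 L1715 L3362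
theorem L3368 : sm gb N337 = N665 := rfl
theorem L3370 : sm ge N665 = N346 := ded_15_2 (flp_b L1757) (flp_e L1722) L3368
theorem L3372 : sm gf N337 = N666 := rfl
theorem L3374 : sm ga N666 = N338 := ded_11_1 (flp_f L1725) L1719 L3372
theorem L3377 : sm ge N666 = N347 := ded_25_1 (flp_f L1759) (flp_e L1722) L3372
theorem L3379 : sm gg N666 = N338 := ded_29_3 (flp_a L3374) (flp_f L3372) L1724 L3372
theorem L3381 : sm gb N338 = N667 := rfl
theorem L3383 : sm ge N667 = N348 := ded_15_2 (flp_b L1766) (flp_e L1728) L3381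
theorem L3385 : sm gf N667 = N339 := ded_16_2 (flp_b L1730) (flp_f L851) L845 L1725 L3381
theorem L3387 : sm ga N339 = N668 := rfl
theorem L3389 : sm ge N668 = N349 := ded_10_2 (flp_a L1770) (flp_e L1732) L3387
theorem L3391 : sm gc N339 = N669 := rfl
theorem L3393 : sm ge N669 = N350 := ded_19_2 (flp_c L1772) (flp_e L1732) L3391
theorem L3395 : sm gb N669 = N356 := ded_13_1 (flp_c L1804) (flp_b L885) (flp_c L855) L1730 L3391
theorem L3397 : sm gg N339 = N670 := rfl
theorem L3399 : sm ge N670 = N351 := ded_26_1 (flp_g L1776) (flp_e L1732) L3397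
theorem L3401 : sm gb N670 = N554 := ded_17_1 (flp_g L2821) (flp_b L1444) (flp_g L859) L1730 L3397
theorem L3403 : sm ga N340 = N671 := rfl
theorem L3405 : sm gc N340 = N672 := rfl
theorem L3408 : sm gf N340 = N673 := rfl
theorem L3411 : sm gg N340 = N674 := rfl
theorem L3413 : sm gb N341 = N675 := rfl
theorem L3415 : sm ga N342 = N676 := rfl
theorem L3417 : sm gg N676 = N343 := ded_12_2 (flp_a L1747) (flp_g L1745) L3415
theorem L3419 : sm gc N342 = N677 := rfl
theorem L3421 : sm gg N677 = N344 := ded_21_2 (flp_c L1749) (flp_g L1745) L3419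
theorem L3423 : sm gb N677 = N677 := ded_13_1 (flp_c L3419) (flp_b L1743) L867 L1743 L3419
theorem L3424 : sm gf N342 = N678 := rfl
theorem L3426 : sm gb N343 = N679 := rfl
theorem L3428 : sm gc N343 = N680 := rfl
theorem L3430 : sm ga N680 = N344 := ded_8_1 (flp_c L1749) L1747 L3428
theorem L3432 : sm gf N343 = N681 := rfl
theorem L3434 : sm ga N681 = N345 := ded_11_1 (flp_f L1753) L1747 L3432
theorem L3436 : sm gg N678 = N681 := ded_29_1 (flp_f L3432) (flp_g L3417) (flp_a L3415) L3424
theorem L3438 : sm gd N344 = N682 := rfl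
theorem L3440 : sm gb N682 = N360 := ded_14_1 (flp_d L1829) (flp_b L1751) L3438
theorem L3442 : sm gf N344 = N683 := rfl
theorem L3444 : sm gc N683 = N345 := ded_20_1 (flp_f L1753) L1749 L3442
theorem L3446 : sm gg N345 = N684 := rfl
theorem L3448 : sm ga N684 = N678 := ded_12_1 L3436 L3434 L3446
theorem L3450 : sm gf N676 = N684 := ded_29_0 (flp_g L3446) (flp_f L1753) (flp_g L1745) L3415
theorem L3452 : sm ga N346 = N685 := rfl
theorem L3454 : sm gc N346 = N686 := rfl
theorem L3456 : sm gb N686 = N686 := ded_13_1 (flp_c L3454) (flp_b L1757) L872 L1757 L3454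
theorem L3457 : sm gf N346 = N687 := rfl
theorem L3459 : sm gg N346 = N688 := rfl
theorem L3462 : sm gb N347 = N689 := rfl
theorem L3464 : sm ga N348 = N690 := rfl
theorem L3466 : sm gf N690 = N349 := ded_11_2 (flp_a L1770) (flp_f L1768) L3464
theorem L3468 : sm gc N348 = N691 := rfl
theorem L3470 : sm gf N691 = N350 := ded_20_2 (flp_c L1772) (flp_f L1768) L3468
theorem L3472 : sm gb N691 = N691 := ded_13_1 (flp_c L3468) (flp_b L1766) L876 L1766 L3468
theorem L3473 : sm gg N348 = N692 := rfl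
theorem L3475 : sm gb N349 = N693 := rfl
theorem L3477 : sm gc N349 = N694 := rfl
theorem L3479 : sm ga N694 = N350 := ded_8_1 (flp_c L1772) L1770 L3477
theorem L3481 : sm gg N349 = N695 := rfl
theorem L3483 : sm ga N695 = N351 := ded_12_1 (flp_g L1776) L1770 L3481
theorem L3485 : sm gf N695 = N692 := ded_29_2 (flp_g L3473) L3464 L3466 L3481
theorem L3487 : sm gd N350 = N696 := rfl
theorem L3489 : sm gb N696 = N364 := ded_14_1 (flp_d L1851) (flp_b L1774) L3487
theorem L3491 : sm gg N350 = N697 := rfl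
theorem L3493 : sm gc N697 = N351 := ded_21_1 (flp_g L1776) L1772 L3491
theorem L3495 : sm gf N351 = N698 := rfl
theorem L3497 : sm ga N698 = N692 := ded_11_1 (flp_f L3485) L3483 L3495
theorem L3501 : sm gc N352 = N699 := rfl
theorem L3503 : sm ga N699 = N353 := ded_8_1 (flp_c L1786) L1780 L3501
theorem L3505 : sm ge N699 = N358 := ded_19_2 (flp_c L1816) (flp_e L1783) L3501
theorem L3507 : sm gg N699 = N699 := ded_21_2 (flp_c L3501) L1785 L3501
theorem L3508 : sm gf N352 = N700 := rfl
theorem L3510 : sm ga N700 = N354 := ded_11_1 (flp_f L1791) L1780 L3508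
theorem L3512 : sm gd N700 = N700 := ded_23_1 (flp_f L3508) L1782 L3508
theorem L3513 : sm ge N700 = N359 := ded_25_1 (flp_f L1821) (flp_e L1783) L3508
theorem L3515 : sm gg N700 = N354 := ded_29_3 (flp_a L3510) (flp_f L3508) L1785 L3508
theorem L3517 : sm gd N353 = N701 := rfl
theorem L3519 : sm gg N701 = N701 := ded_24_2 (flp_d L3517) L1790 L3517
theorem L3520 : sm gf N353 = N702 := rfl
theorem L3522 : sm gc N702 = N354 := ded_20_1 (flp_f L1791) L1786 L3520
theorem L3524 : sm ge N702 = N361 := ded_25_1 (flp_f L1832) (flp_e L1788) L3520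
theorem L3526 : sm gc N355 = N703 := rfl
theorem L3528 : sm ga N703 = N356 := ded_8_1 (flp_c L1804) L1798 L3526
theorem L3530 : sm ge N703 = N362 := ded_19_2 (flp_c L1836) (flp_e L1801) L3526
theorem L3532 : sm gf N703 = N703 := ded_20_2 (flp_c L3526) L1803 L3526
theorem L3533 : sm gg N355 = N704 := rfl
theorem L3535 : sm ga N704 = N357 := ded_12_1 (flp_g L1809) L1798 L3533
theorem L3537 : sm gd N704 = N704 := ded_24_1 (flp_g L3533) L1800 L3533
theorem L3538 : sm ge N704 = N363 := ded_26_1 (flp_g L1841) (flp_e L1801) L3533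
theorem L3540 : sm gf N357 = N704 := ded_29_0 (flp_g L3533) L1803 L3533 L3535
theorem L3542 : sm gb N704 = N700 := ded_17_1 L3515 L1796 L2948 (flp_b L2957) L3533
theorem L3544 : sm gd N356 = N705 := rfl
theorem L3546 : sm gf N705 = N705 := ded_23_2 (flp_d L3544) L1808 L3544
theorem L3547 : sm gg N356 = N706 := rfl
theorem L3549 : sm gc N706 = N357 := ded_21_1 (flp_g L1809) L1804 L3547
theorem L3551 : sm ge N706 = N365 := ded_26_1 (flp_g L1854) (flp_e L1806) L3547
theorem L3553 : sm gb N358 = N707 := rfl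
theorem L3555 : sm gd N358 = N708 := rfl
theorem L3557 : sm ga N708 = N360 := ded_9_1 (flp_d L1829) (flp_a L1818) L3555
theorem L3559 : sm gg N708 = N708 := ded_24_2 (flp_d L3555) L1820 L3555
theorem L3560 : sm gf N358 = N709 := rfl
theorem L3562 : sm ga N709 = N361 := ded_11_1 (flp_f L1832) (flp_a L1818) L3560
theorem L3564 : sm gc N709 = N359 := ded_20_1 (flp_f L1821) L1816 L3560
theorem L3566 : sm gg N709 = N361 := ded_29_3 (flp_a L3562) (flp_f L3560) L1820 L3560
theorem L3568 : sm gc N360 = N710 := rfl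
theorem L3570 : sm gg N710 = N710 := ded_21_2 (flp_c L3568) L1831 L3568
theorem L3571 : sm ge N360 = N711 := rfl
theorem L3573 : sm gg N711 = N711 := ded_26_2 (flp_e L3571) L1831 L3571
theorem L3574 : sm gf N360 = N712 := rfl
theorem L3576 : sm gd N712 = N361 := ded_23_1 (flp_f L1832) L1829 L3574
theorem L3578 : sm gb N361 = N713 := rfl
theorem L3580 : sm gc N713 = N593 := ded_13_2 (flp_b L3007) L1540 (flp_b L903) (flp_c L1834) L3578
theorem L3582 : sm gb N362 = N714 := rfl
theorem L3584 : sm gd N362 = N715 := rfl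
theorem L3586 : sm ga N715 = N364 := ded_9_1 (flp_d L1851) (flp_a L1838) L3584
theorem L3588 : sm gf N715 = N715 := ded_23_2 (flp_d L3584) L1840 L3584
theorem L3589 : sm gg N362 = N716 := rfl
theorem L3591 : sm ga N716 = N365 := ded_12_1 (flp_g L1854) (flp_a L1838) L3589
theorem L3593 : sm gc N716 = N363 := ded_21_1 (flp_g L1841) L1836 L3589
theorem L3595 : sm gf N365 = N716 := ded_29_0 (flp_g L3589) L1840 L3589 L3591
theorem L3597 : sm gc N364 = N717 := rfl
theorem L3599 : sm gf N717 = N717 := ded_20_2 (flp_c L3597) L1853 L3597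
theorem L3600 : sm ge N364 = N718 := rfl
theorem L3602 : sm gf N718 = N718 := ded_25_2 (flp_e L3600) L1853 L3600
theorem L3603 : sm gg N364 = N719 := rfl
theorem L3605 : sm gd N719 = N365 := ded_24_1 (flp_g L1854) L1851 L3603
theorem L3607 : sm gb N365 = N720 := rfl
theorem L3609 : sm gc N720 = N585 := ded_13_2 (flp_b L2977) L1512 (flp_b L917) (flp_c L1856) L3607
theorem L3611 : sm gc N366 = N721 := rfl
theorem L3613 : sm ga N721 = N368 := ded_8_1 (flp_c L1872) (flp_a L1860) L3611
theorem L3616 : sm gd N710 = N721 := ded_28_1 (flp_c L3611) (flp_d L1858) (flp_c L922) (flp_d L893) L1816 L3555 L3557 L3568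
theorem L3618 : sm ge N366 = N722 := rfl
theorem L3620 : sm ga N722 = N369 := ded_10_1 (flp_e L1875) (flp_a L1860) L3618
theorem L3623 : sm gd N722 = N722 := ded_22_1 (flp_e L3618) (flp_d L1858) L926 L1858 L3618
theorem L3624 : sm gf N366 = N723 := rfl
theorem L3628 : sm gd N723 = N367 := ded_23_1 (flp_f L1863) L1858 L3624
theorem L3632 : sm gb N367 = N724 := rfl
theorem L3634 : sm ge N724 = N724 := ded_15_2 (flp_b L3632) L1869 L3632
theorem L3635 : sm gb N368 = N725 := rfl
theorem L3638 : sm gd N368 = N726 := rfl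
theorem L3640 : sm ga N726 = N710 := ded_9_1 L3616 L3613 L3638
theorem L3642 : sm gg N726 = N726 := ded_24_2 (flp_d L3638) L1874 L3638
theorem L3643 : sm gc N708 = N726 := ded_28_0 (flp_d L3638) (flp_c L1872) (flp_d L942) (flp_c L429) (flp_d L417) L896 L1829 (flp_a L3557)
theorem L3645 : sm ge N368 = N727 := rfl
theorem L3647 : sm gc N727 = N369 := ded_19_1 (flp_e L1875) L1872 L3645
theorem L3650 : sm gf N368 = N728 := rfl
theorem L3654 : sm gf N369 = N729 := rfl
theorem L3656 : sm gd N729 = N729 := ded_23_1 (flp_f L3654) L1879 L3654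
theorem L3657 : sm ge N729 = N370 := ded_25_1 (flp_f L1880) L1875 L3654
theorem L3659 : sm gb N370 = N730 := rfl
theorem L3661 : sm gd N730 = N371 := ded_14_2 (flp_b L1884) (flp_d L1882) L3659
theorem L3664 : sm ga N371 = N731 := rfl
theorem L3666 : sm gc N731 = N607 := ded_8_2 (flp_a L3084) (flp_c L1887) L3664
theorem L3670 : sm gb N731 = N731 := ded_30_2 (flp_a L3664) L1889 L1887 (flp_b L1582) (flp_a L1311) L1314 (flp_c L762) L753 L758 L756 L979 (flp_b L753) (flp_a L341) L348 (flp_c L772) L1582 L3084 L3087 (flp_c L3666)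
theorem L3671 : sm ga N724 = N724 := ded_7_5 (flp_b L3632) L1865 L1884 L3664 L3670 (flp_a L3664) (flp_b L1884) (flp_a L1865) L3632
theorem L3672 : sm gg N371 = N732 := rfl
theorem L3674 : sm gc N732 = N608 := ded_21_1 (flp_g L3090) (flp_c L1887) L3672
theorem L3677 : sm ga N372 = N733 := rfl
theorem L3680 : sm gd N372 = N734 := rfl
theorem L3682 : sm gb N734 = N373 := ded_14_1 (flp_d L1893) L1890 L3680
theorem L3684 : sm gf N372 = N735 := rfl
theorem L3687 : sm gb N735 = N735 := ded_16_1 (flp_f L3684) (flp_b L1890) L956 L1890 L3684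
theorem L3688 : sm gg N372 = N736 := rfl
theorem L3691 : sm gc N373 = N737 := rfl
theorem L3693 : sm ga N737 = N375 := ded_8_1 (flp_c L1907) (flp_a L1895) L3691
theorem L3695 : sm gf N737 = N737 := ded_20_2 (flp_c L3691) L1897 L3691
theorem L3696 : sm gd N717 = N737 := ded_28_1 (flp_c L3691) (flp_d L1893) (flp_c L951) (flp_d L907) L1836 L3584 L3586 L3597
theorem L3698 : sm ge N373 = N738 := rfl
theorem L3703 : sm gd N738 = N738 := ded_22_1 (flp_e L3698) (flp_d L1893) L955 L1893 L3698
theorem L3704 : sm gg N373 = N739 := rfl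
theorem L3706 : sm ga N739 = N377 := ded_12_1 (flp_g L1915) (flp_a L1895) L3704
theorem L3708 : sm gd N739 = N374 := ded_24_1 (flp_g L1898) L1893 L3704
theorem L3710 : sm gf N377 = N739 := ded_29_0 (flp_g L3704) L1897 L3704 L3706
theorem L3712 : sm gb N374 = N740 := rfl
theorem L3714 : sm ge N740 = N740 := ded_15_2 (flp_b L3712) L1904 L3712
theorem L3715 : sm gc N740 = N724 := ded_13_2 (flp_b L3632) L1867 (flp_b L964) (flp_c L1902) L3712
theorem L3717 : sm gf N740 = N724 := ded_16_2 (flp_b L3632) (flp_f L1863) L975 L1905 L3712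
theorem L3719 : sm ga N740 = N740 := ded_7_1 (flp_b L3712) L1900 (flp_b L975) L924 L433 (flp_a L924) L975 (flp_a L1900) L3712
theorem L3720 : sm gb N375 = N741 := rfl
theorem L3723 : sm gd N375 = N742 := rfl
theorem L3725 : sm ga N742 = N717 := ded_9_1 L3696 L3693 L3723
theorem L3728 : sm gc N715 = N742 := ded_28_0 (flp_d L3723) (flp_c L1907) (flp_d L966) (flp_c L443) (flp_d L422) L910 L1851 (flp_a L3586)
theorem L3730 : sm ge N375 = N743 := rfl
theorem L3732 : sm gc N743 = N376 := ded_19_1 (flp_e L1910) L1907 L3730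
theorem L3735 : sm gg N375 = N744 := rfl
theorem L3737 : sm gc N744 = N377 := ded_21_1 (flp_g L1915) L1907 L3735
theorem L3739 : sm gg N376 = N745 := rfl
theorem L3742 : sm ge N745 = N377 := ded_26_1 (flp_g L1915) L1910 L3739
theorem L3744 : sm gb N722 = N745 := ded_15_3 L3742 (flp_b L1919) L3618
theorem L3753 : sm gd N378 = N747 := rfl
theorem L3756 : sm gb N747 = N379 := ded_14_1 (flp_d L1925) L1921 L3753
theorem L3760 : sm gc N379 = N748 := rfl
theorem L3762 : sm ga N748 = N382 := ded_8_1 (flp_c L1945) (flp_a L1927) L3760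
theorem L3764 : sm ge N379 = N749 := rfl
theorem L3766 : sm ga N749 = N383 := ded_10_1 (flp_e L1947) (flp_a L1927) L3764
theorem L3769 : sm gf N379 = N750 := rfl
theorem L3773 : sm gd N750 = N380 := ded_23_1 (flp_f L1929) L1925 L3769
theorem L3776 : sm gg N379 = N751 := rfl
theorem L3778 : sm ga N751 = N385 := ded_12_1 (flp_g L1956) (flp_a L1927) L3776
theorem L3783 : sm gb N382 = N752 := rfl
theorem L3785 : sm gc N752 = N389 := ded_13_2 (flp_b L1979) (flp_c L998) (flp_b L988) L1945 L3783
theorem L3787 : sm gd N382 = N753 := rfl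
theorem L3789 : sm ge N382 = N754 := rfl
theorem L3793 : sm gf N382 = N755 := rfl
theorem L3795 : sm gc N755 = N384 := ded_20_1 (flp_f L1952) L1945 L3793
theorem L3797 : sm gg N382 = N756 := rfl
theorem L3799 : sm gc N756 = N385 := ded_21_1 (flp_g L1956) L1945 L3797
theorem L3801 : sm gf N383 = N757 := rfl
theorem L3804 : sm ge N757 = N384 := ded_25_1 (flp_f L1952) L1947 L3801
theorem L3806 : sm gg N383 = N758 := rfl
theorem L3809 : sm ge N758 = N385 := ded_26_1 (flp_g L1956) L1947 L3806
theorem L3811 : sm gb N384 = N759 := rfl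
theorem L3813 : sm gd N759 = N386 := ded_14_2 (flp_b L1960) (flp_d L1954) L3811
theorem L3815 : sm gf N759 = N395 := ded_16_2 (flp_b L2013) (flp_f L1007) (flp_b L988) L1952 L3811
theorem L3817 : sm gg N384 = N760 := rfl
theorem L3819 : sm gd N760 = N387 := ded_24_1 (flp_g L1965) (flp_d L1954) L3817
theorem L3821 : sm gf N751 = N760 := ded_29_0 (flp_g L3817) (flp_f L1952) L1956 (flp_a L3778)
theorem L3831 : sm gb N388 = N762 := rfl
theorem L3834 : sm gf N762 = N609 := ded_16_2 (flp_b L3093) (flp_f L1593) (flp_b L1325) L1971 L3831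
theorem L3836 : sm gg N762 = N762 := ded_17_2 (flp_b L3831) L1977 L1935 (flp_g L1977) L3831
theorem L3837 : sm gc N735 = N762 := ded_20_3 L3834 L3096 L3684
theorem L3839 : sm gg N735 = N735 := ded_21_2 L3837 L3836 (flp_c L3837)
theorem L3840 : N736 = N733 := coi_29_4 (flp_a L3677) L3684 L3839 (flp_f L3684) L3688
theorem L3841 : N736 = N733 := eqc rfl L3840 rfl
theorem L3843 : sm gg N733 = N372 := trfs L3841 (flp_g L3688) rfl
theorem L3845 : sm ga N389 = N763 := rfl
theorem L3847 : sm ge N389 = N764 := rfl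
theorem L3849 : sm gb N764 = N390 := ded_15_1 (flp_e L1981) L1979 L3847
theorem L3851 : sm gf N389 = N765 := rfl
theorem L3853 : sm gg N389 = N766 := rfl
theorem L3855 : sm gd N390 = N767 := rfl
theorem L3857 : sm ga N767 = N425 := ded_9_1 (flp_d L2163) (flp_a L1983) L3855
theorem L3859 : sm gf N390 = N768 := rfl
theorem L3861 : sm ga N768 = N426 := ded_11_1 (flp_f L2165) (flp_a L1983) L3859
theorem L3865 : sm ge N768 = N391 := ded_25_1 (flp_f L1987) L1981 L3859
theorem L3867 : sm gg N390 = N769 := rfl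
theorem L3873 : sm ge N769 = N392 := ded_26_1 (flp_g L1993) L1981 L3867
theorem L3875 : sm gb N391 = N770 := rfl
theorem L3877 : sm gb N392 = N771 := rfl
theorem L3879 : sm gb N393 = N772 := rfl
theorem L3882 : sm ge N772 = N395 := ded_15_2 (flp_b L2013) (flp_e L2004) L3879
theorem L3884 : sm ga N395 = N773 := rfl
theorem L3886 : sm gd N773 = N396 := ded_9_2 (flp_a L2017) (flp_d L2015) L3884
theorem L3889 : sm gc N395 = N774 := rfl
theorem L3891 : sm gg N395 = N775 := rfl
theorem L3897 : sm gf N775 = N437 := ded_31_1 (flp_b L2229) (flp_g L1115) (flp_f L512) L229 L516 L1127 L2245 (flp_g L2548) L2546 L1570 (flp_g L1013) L1007 L2013 L3891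
theorem L3899 : sm gg N396 = N776 := rfl
theorem L3901 : sm ga N776 = N398 := ded_12_1 (flp_g L2034) L2017 L3899
theorem L3903 : sm gc N776 = N441 := ded_21_1 L2254 (flp_c L2030) L3899
theorem L3908 : sm gd N397 = N777 := rfl
theorem L3910 : sm ga N777 = N759 := ded_9_1 L3813 (flp_a L2026) L3908
theorem L3912 : sm gb N777 = N416 := ded_14_1 (flp_d L2123) (flp_b L2024) L3908
theorem L3914 : sm gf N777 = N773 := ded_23_2 L3886 L2028 L3908
theorem L3916 : sm gg N777 = N437 := ded_24_2 L2231 L2032 L3908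
theorem L3918 : sm gb N399 = N778 := rfl
theorem L3920 : sm gd N399 = N779 := rfl
theorem L3922 : sm ga N779 = N400 := ded_9_1 (flp_d L2046) L2043 L3920
theorem L3924 : sm ge N399 = N780 := rfl
theorem L3926 : sm ga N780 = N401 := ded_10_1 (flp_e L2050) L2043 L3924
theorem L3928 : sm gc N780 = N780 := ded_19_1 (flp_e L3924) L2045 L3924
theorem L3929 : sm gf N399 = N781 := rfl
theorem L3931 : sm ga N781 = N402 := ded_11_1 (flp_f L2055) L2043 L3929
theorem L3934 : sm gg N399 = N782 := rfl
theorem L3936 : sm ga N782 = N403 := ded_12_1 (flp_g L2058) L2043 L3934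
theorem L3939 : sm gc N400 = N783 := rfl
theorem L3941 : sm ge N400 = N784 := rfl
theorem L3943 : sm gb N784 = N404 := ded_15_1 (flp_e L2061) (flp_b L2048) L3941
theorem L3945 : sm gf N400 = N785 := rfl
theorem L3947 : sm gd N785 = N402 := ded_23_1 (flp_f L2055) L2046 L3945
theorem L3949 : sm gg N400 = N786 := rfl
theorem L3951 : sm gd N786 = N403 := ded_24_1 (flp_g L2058) L2046 L3949
theorem L3953 : sm gd N401 = N787 := rfl
theorem L3955 : sm gb N787 = N407 := ded_14_1 (flp_d L2077) (flp_b L2052) L3953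
theorem L3957 : sm gf N401 = N788 := rfl
theorem L3960 : sm ge N788 = N402 := ded_25_1 (flp_f L2055) L2050 L3957
theorem L3962 : sm gg N401 = N789 := rfl
theorem L3965 : sm ge N789 = N403 := ded_26_1 (flp_g L2058) L2050 L3962
theorem L3967 : sm gb N402 = N790 := rfl
theorem L3969 : sm gf N790 = N410 := ded_16_2 (flp_b L2097) (flp_f L1035) L1022 L2055 L3967
theorem L3971 : sm gg N402 = N791 := rfl
theorem L3974 : sm gf N782 = N791 := ded_29_0 (flp_g L3971) (flp_f L2055) L2058 (flp_a L3936)
theorem L3976 : sm gb N403 = N792 := rfl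
theorem L3978 : sm gg N792 = N411 := ded_17_2 (flp_b L2099) (flp_g L1041) L1022 L2058 L3976
theorem L3980 : sm gf N403 = N793 := rfl
theorem L3985 : sm gg N793 = N781 := ded_29_3 L3931 (flp_f L2055) L2058 L3980
theorem L3987 : sm gd N404 = N794 := rfl
theorem L3989 : sm ga N794 = N461 := ded_9_1 (flp_d L2358) (flp_a L2063) L3987
theorem L3991 : sm ge N794 = N407 := ded_22_2 (flp_d L2077) (flp_e L1029) L1025 L2061 L3987
theorem L3993 : sm gf N404 = N795 := rfl
theorem L3995 : sm ga N795 = N462 := ded_11_1 (flp_f L2362) (flp_a L2063) L3993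
theorem L3997 : sm ge N795 = N405 := ded_25_1 (flp_f L2065) L2061 L3993
theorem L3999 : sm gg N404 = N796 := rfl
theorem L4001 : sm ga N796 = N463 := ded_12_1 (flp_g L2366) (flp_a L2063) L3999
theorem L4003 : sm ge N796 = N406 := ded_26_1 (flp_g L2071) L2061 L3999
theorem L4005 : sm gb N405 = N797 := rfl
theorem L4007 : sm gd N797 = N410 := ded_14_2 (flp_b L2097) (flp_d L2069) L4005
theorem L4009 : sm gb N406 = N798 := rfl
theorem L4011 : sm gd N798 = N411 := ded_14_2 (flp_b L2099) (flp_d L2075) L4009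
theorem L4013 : sm gc N407 = N799 := rfl
theorem L4015 : sm ga N799 = N468 := ded_8_1 (flp_c L2392) (flp_a L2079) L4013
theorem L4017 : sm gd N799 = N468 := ded_28_7 (flp_a L4015) (flp_c L4013) (flp_d L2077) L1033 L484 (flp_c L1033) L2077 L4013
theorem L4019 : sm gf N407 = N800 := rfl
theorem L4021 : sm ga N800 = N469 := ded_11_1 (flp_f L2394) (flp_a L2079) L4019
theorem L4023 : sm gd N800 = N408 := ded_23_1 (flp_f L2081) L2077 L4019
theorem L4025 : sm gg N407 = N801 := rfl
theorem L4027 : sm ga N801 = N470 := ded_12_1 (flp_g L2398) (flp_a L2079) L4025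
theorem L4029 : sm gd N801 = N409 := ded_24_1 (flp_g L2089) L2077 L4025
theorem L4031 : sm gb N408 = N802 := rfl
theorem L4033 : sm ge N802 = N410 := ded_15_2 (flp_b L2097) (flp_e L2087) L4031
theorem L4035 : sm gb N409 = N803 := rfl
theorem L4037 : sm ge N803 = N411 := ded_15_2 (flp_b L2099) (flp_e L2095) L4035
theorem L4039 : sm ga N410 = N804 := rfl
theorem L4041 : sm gc N410 = N805 := rfl
theorem L4043 : sm gb N805 = N414 := ded_13_1 (flp_c L2115) (flp_b L1061) (flp_c L1039) L2097 L4041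
theorem L4045 : sm gg N410 = N806 := rfl
theorem L4047 : sm ga N411 = N807 := rfl
theorem L4049 : sm gc N411 = N808 := rfl
theorem L4051 : sm gb N808 = N415 := ded_13_1 (flp_c L2119) (flp_b L1067) (flp_c L1045) L2099 L4049
theorem L4053 : sm gf N411 = N809 := rfl
theorem L4055 : sm gc N412 = N810 := rfl
theorem L4057 : sm ga N810 = N810 := ded_8_1 (flp_c L4055) L2107 L4055
theorem L4060 : sm gf N810 = N810 := ded_20_2 (flp_c L4055) L2106 L4055
theorem L4061 : sm gc N413 = N811 := rfl
theorem L4067 : sm gd N414 = N812 := rfl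
theorem L4069 : sm ga N812 = N812 := ded_9_1 (flp_d L4067) L2117 L4067
theorem L4075 : sm gc N416 = N814 := rfl
theorem L4079 : sm gg N814 = N436 := ded_21_2 (flp_c L2225) (flp_g L2127) L4075
theorem L4081 : sm ge N416 = N815 := rfl
theorem L4085 : sm gg N815 = N432 := ded_26_2 L2198 (flp_g L2127) L4081
theorem L4087 : sm gd N815 = N815 := ded_22_1 (flp_e L4081) (flp_d L2123) L1076 L2123 L4081
theorem L4088 : sm gb N417 = N816 := rfl
theorem L4090 : sm gd N417 = N817 := rfl
theorem L4092 : sm ga N817 = N418 := ded_9_1 (flp_d L2132) L2129 L4090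
theorem L4094 : sm ge N417 = N818 := rfl
theorem L4096 : sm ga N818 = N419 := ded_10_1 (flp_e L2136) L2129 L4094
theorem L4109 : sm gc N418 = N821 := rfl
theorem L4111 : sm gb N821 = N783 := ded_13_1 (flp_c L3939) L2048 L1085 (flp_b L2134) L4109
theorem L4113 : sm ge N418 = N822 := rfl
theorem L4115 : sm gb N822 = N422 := ded_15_1 (flp_e L2147) (flp_b L2134) L4113
theorem L4117 : sm gf N418 = N823 := rfl
theorem L4121 : sm gg N418 = N824 := rfl
theorem L4125 : sm gd N419 = N825 := rfl
theorem L4127 : sm gb N825 = N425 := ded_14_1 (flp_d L2163) (flp_b L2138) L4125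
theorem L4129 : sm gf N419 = N826 := rfl
theorem L4132 : sm ge N826 = N420 := ded_25_1 (flp_f L2141) L2136 L4129
theorem L4134 : sm gg N419 = N827 := rfl
theorem L4139 : sm gb N420 = N828 := rfl
theorem L4141 : sm gf N828 = N428 := ded_16_2 (flp_b L2177) (flp_f L1091) L1080 L2141 L4139
theorem L4148 : sm gb N421 = N830 := rfl
theorem L4150 : sm gg N830 = N430 := ded_17_2 (flp_b L2185) (flp_g L1095) L1080 L2144 L4148
theorem L4159 : sm gd N422 = N832 := rfl
theorem L4161 : sm ge N832 = N425 := ded_22_2 (flp_d L2163) (flp_e L1087) L1083 L2147 L4159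
theorem L4163 : sm gf N422 = N833 := rfl
theorem L4165 : sm gc N833 = N795 := ded_20_1 (flp_f L3993) (flp_c L2149) L4163
theorem L4167 : sm ge N833 = N423 := ded_25_1 (flp_f L2151) L2147 L4163
theorem L4169 : sm gg N422 = N834 := rfl
theorem L4171 : sm gc N834 = N796 := ded_21_1 (flp_g L3999) (flp_c L2149) L4169
theorem L4173 : sm ge N834 = N424 := ded_26_1 (flp_g L2157) L2147 L4169
theorem L4175 : sm gb N423 = N835 := rfl
theorem L4177 : sm gd N835 = N428 := ded_14_2 (flp_b L2177) (flp_d L2155) L4175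
theorem L4179 : sm gg N423 = N836 := rfl
theorem L4181 : sm gc N836 = N467 := ded_21_1 L2390 (flp_c L2153) L4179
theorem L4183 : sm gd N836 = N429 := ded_24_1 (flp_g L2179) (flp_d L2155) L4179
theorem L4185 : sm gf N460 = N836 := ded_29_0 (flp_g L4179) (flp_f L2151) L2157 (flp_a L2352)
theorem L4187 : sm gb N424 = N837 := rfl
theorem L4189 : sm gd N837 = N430 := ded_14_2 (flp_b L2185) (flp_d L2161) L4187
theorem L4191 : sm gf N424 = N838 := rfl
theorem L4195 : sm gc N838 = N465 := ded_20_1 (flp_f L2378) (flp_c L2159) L4191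
theorem L4197 : sm gd N838 = N431 := ded_23_1 (flp_f L2187) (flp_d L2161) L4191
theorem L4199 : sm gg N838 = N459 := ded_29_3 L2344 (flp_f L2151) L2157 L4191
theorem L4201 : sm gc N425 = N839 := rfl
theorem L4203 : sm gf N425 = N840 := rfl
theorem L4205 : sm gd N840 = N426 := ded_23_1 (flp_f L2165) L2163 L4203
theorem L4207 : sm gg N425 = N841 := rfl
theorem L4209 : sm gd N841 = N427 := ded_24_1 (flp_g L2171) L2163 L4207
theorem L4211 : sm gb N426 = N842 := rfl
theorem L4213 : sm ge N842 = N428 := ded_15_2 (flp_b L2177) (flp_e L2169) L4211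
theorem L4215 : sm gg N426 = N843 := rfl
theorem L4217 : sm gc N843 = N433 := ded_21_1 (flp_g L2202) (flp_c L2167) L4215
theorem L4219 : sm ge N843 = N429 := ded_26_1 (flp_g L2179) (flp_e L2169) L4215
theorem L4223 : sm gb N427 = N844 := rfl
theorem L4225 : sm ge N844 = N430 := ded_15_2 (flp_b L2185) (flp_e L2175) L4223
theorem L4227 : sm gf N427 = N845 := rfl
theorem L4235 : sm gg N845 = N768 := ded_29_3 L3861 (flp_f L2165) L2171 L4227
theorem L4237 : sm ga N428 = N846 := rfl
theorem L4239 : sm gc N428 = N847 := rfl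
theorem L4241 : sm gb N847 = N436 := ded_13_1 (flp_c L2225) (flp_b L1109) (flp_c L1093) L2177 L4239
theorem L4243 : sm gg N428 = N848 := rfl
theorem L4245 : sm gb N429 = N849 := rfl
theorem L4247 : sm ga N430 = N850 := rfl
theorem L4249 : sm gc N430 = N851 := rfl
theorem L4251 : sm gb N851 = N438 := ded_13_1 (flp_c L2233) (flp_b L1121) (flp_c L1097) L2185 L4249
theorem L4253 : sm gf N430 = N852 := rfl
theorem L4255 : sm gb N431 = N853 := rfl
theorem L4257 : sm gc N432 = N854 := rfl
theorem L4260 : sm ge N854 = N436 := ded_19_2 (flp_c L2225) (flp_e L2198) L4257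
theorem L4263 : sm gb N433 = N855 := rfl
theorem L4266 : sm ge N855 = N437 := ded_15_2 (flp_b L2229) (flp_e L2205) L4263
theorem L4268 : sm gc N434 = N856 := rfl
theorem L4271 : sm ge N856 = N438 := ded_19_2 (flp_c L2233) (flp_e L2212) L4268
theorem L4274 : sm gf N434 = N857 := rfl
theorem L4278 : sm ge N857 = N439 := ded_25_1 (flp_f L2237) (flp_e L2212) L4274
theorem L4281 : sm gb N500 = N857 := ded_15_3 L4278 (flp_b L2243) L2562
theorem L4283 : sm gb N435 = N858 := rfl
theorem L4286 : sm ge N858 = N440 := ded_15_2 (flp_b L2245) (flp_e L2221) L4283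
theorem L4288 : sm gf N858 = N500 := ded_16_2 L4281 (flp_f L4274) (flp_b L2209) L2216 L4283
theorem L4290 : sm gd N436 = N859 := rfl
theorem L4294 : sm ga N437 = N860 := rfl
theorem L4296 : sm gd N860 = N441 := ded_9_2 (flp_a L2251) (flp_d L2231) L4294
theorem L4298 : sm gg N860 = N759 := ded_12_2 (flp_a L3910) L3916 L4294
theorem L4300 : sm gc N437 = N861 := rfl
theorem L4306 : sm gf N438 = N863 := rfl
theorem L4312 : sm gc N440 = N864 := rfl
theorem L4314 : sm gf N864 = N499 := ded_20_2 (flp_c L2558) (flp_f L2249) L4312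
theorem L4316 : sm gb N441 = N865 := rfl
theorem L4319 : sm gg N865 = N607 := ded_17_2 (flp_b L3088) (flp_g L1965) L1960 (flp_g L2254) L4316
theorem L4323 : sm ga N608 = N865 := ded_12_3 L4319 (flp_a L3084) L3090
theorem L4325 : sm ga N442 = N866 := rfl
theorem L4327 : sm gc N442 = N867 := rfl
theorem L4329 : sm gb N867 = N501 := ded_13_1 (flp_c L2567) (flp_b L1331) (flp_c L1166) L2256 L4327
theorem L4331 : sm gd N442 = N868 := rfl
theorem L4333 : sm gb N868 = N443 := ded_14_1 (flp_d L2258) L2256 L4331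
theorem L4335 : sm gc N457 = N868 := ded_13_0 L4333 (flp_c L2262) L1170 L1186 L2332
theorem L4337 : sm ge N442 = N869 := rfl
theorem L4339 : sm gb N869 = N444 := ded_15_1 (flp_e L2264) L2256 L4337
theorem L4341 : sm gf N442 = N870 := rfl
theorem L4343 : sm gg N442 = N871 := rfl
theorem L4345 : sm ge N443 = N872 := rfl
theorem L4347 : sm ga N872 = N447 := ded_10_1 (flp_e L2282) (flp_a L2260) L4345
theorem L4349 : sm gc N872 = N447 := ded_19_1 (flp_e L2282) L2262 L4345
theorem L4351 : sm gf N443 = N873 := rfl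
theorem L4353 : sm ga N873 = N448 := ded_11_1 (flp_f L2286) (flp_a L2260) L4351
theorem L4355 : sm gc N873 = N448 := ded_20_1 (flp_f L2286) L2262 L4351
theorem L4357 : sm gd N873 = N445 := ded_23_1 (flp_f L2270) L2258 L4351
theorem L4359 : sm gg N443 = N874 := rfl
theorem L4361 : sm ga N874 = N449 := ded_12_1 (flp_g L2290) (flp_a L2260) L4359
theorem L4363 : sm gc N874 = N449 := ded_21_1 (flp_g L2290) L2262 L4359
theorem L4365 : sm gd N874 = N446 := ded_24_1 (flp_g L2276) L2258 L4359
theorem L4367 : sm gd N444 = N875 := rfl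
theorem L4369 : sm ga N875 = N450 := ded_9_1 (flp_d L2294) (flp_a L2266) L4367
theorem L4371 : sm gf N444 = N876 := rfl
theorem L4373 : sm ga N876 = N451 := ded_11_1 (flp_f L2298) (flp_a L2266) L4371
theorem L4375 : sm gc N876 = N510 := ded_20_1 (flp_f L2609) (flp_c L2268) L4371
theorem L4377 : sm ge N876 = N445 := ded_25_1 (flp_f L2270) L2264 L4371
theorem L4379 : sm gg N444 = N877 := rfl
theorem L4381 : sm ga N877 = N452 := ded_12_1 (flp_g L2304) (flp_a L2266) L4379
theorem L4383 : sm gc N877 = N511 := ded_21_1 (flp_g L2615) (flp_c L2268) L4379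
theorem L4385 : sm ge N877 = N446 := ded_26_1 (flp_g L2276) L2264 L4379
theorem L4387 : sm gb N445 = N878 := rfl
theorem L4389 : sm gb N446 = N879 := rfl
theorem L4391 : sm gd N447 = N880 := rfl
theorem L4393 : sm gb N880 = N461 := ded_14_1 (flp_d L2358) (flp_b L2284) L4391
theorem L4395 : sm ge N880 = N450 := ded_22_2 (flp_d L2294) (flp_e L1172) L1168 L2282 L4391
theorem L4397 : sm gf N447 = N881 := rfl
theorem L4399 : sm ge N881 = N448 := ded_25_1 (flp_f L2286) L2282 L4397
theorem L4401 : sm gg N447 = N882 := rfl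
theorem L4403 : sm ge N882 = N449 := ded_26_1 (flp_g L2290) L2282 L4401
theorem L4405 : sm gb N448 = N883 := rfl
theorem L4407 : sm gd N883 = N453 := ded_14_2 (flp_b L2310) (flp_d L2288) L4405
theorem L4409 : sm gf N883 = N464 := ded_16_2 (flp_b L2370) (flp_f L1194) (flp_b L1170) L2286 L4405
theorem L4411 : sm gg N448 = N884 := rfl
theorem L4413 : sm gd N884 = N454 := ded_24_1 (flp_g L2314) (flp_d L2288) L4411
theorem L4415 : sm gf N874 = N884 := ded_29_0 (flp_g L4411) (flp_f L2286) L2290 (flp_a L4361)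
theorem L4417 : sm gb N449 = N885 := rfl
theorem L4419 : sm gd N885 = N455 := ded_14_2 (flp_b L2320) (flp_d L2292) L4417
theorem L4421 : sm gg N885 = N466 := ded_17_2 (flp_b L2380) (flp_g L1198) (flp_b L1170) L2290 L4417
theorem L4423 : sm gf N449 = N886 := rfl
theorem L4425 : sm ga N886 = N884 := ded_11_1 (flp_f L4415) L4361 L4423
theorem L4427 : sm gc N886 = N884 := ded_20_1 (flp_f L4415) L4363 L4423
theorem L4429 : sm gd N886 = N456 := ded_23_1 (flp_f L2324) (flp_d L2292) L4423
theorem L4431 : sm gg N886 = N873 := ded_29_3 L4353 (flp_f L2286) L2290 L4423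
theorem L4433 : sm gc N450 = N887 := rfl
theorem L4435 : sm gf N450 = N888 := rfl
theorem L4437 : sm gd N888 = N451 := ded_23_1 (flp_f L2298) L2294 L4435
theorem L4439 : sm gg N450 = N889 := rfl
theorem L4441 : sm gd N889 = N452 := ded_24_1 (flp_g L2304) L2294 L4439
theorem L4443 : sm gb N451 = N890 := rfl
theorem L4445 : sm ge N890 = N453 := ded_15_2 (flp_b L2310) (flp_e L2302) L4443
theorem L4447 : sm gf N890 = N471 := ded_16_2 (flp_b L2402) (flp_f L1204) (flp_b L1174) L2298 L4443
theorem L4449 : sm gg N451 = N891 := rfl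
theorem L4451 : sm gc N891 = N525 := ded_21_1 (flp_g L2685) (flp_c L2300) L4449
theorem L4453 : sm ge N891 = N454 := ded_26_1 (flp_g L2314) (flp_e L2302) L4449
theorem L4455 : sm gf N877 = N891 := ded_29_0 (flp_g L4449) (flp_f L2298) L2304 (flp_a L4381)
theorem L4457 : sm gb N452 = N892 := rfl
theorem L4459 : sm ge N892 = N455 := ded_15_2 (flp_b L2320) (flp_e L2308) L4457
theorem L4461 : sm gg N892 = N473 := ded_17_2 (flp_b L2414) (flp_g L1210) (flp_b L1174) L2304 L4457
theorem L4463 : sm gf N452 = N893 := rfl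
theorem L4465 : sm ga N893 = N891 := ded_11_1 (flp_f L4455) L4381 L4463
theorem L4467 : sm gc N893 = N527 := ded_20_1 (flp_f L2697) (flp_c L2306) L4463
theorem L4469 : sm ge N893 = N456 := ded_25_1 (flp_f L2324) (flp_e L2308) L4463
theorem L4471 : sm gg N893 = N876 := ded_29_3 L4373 (flp_f L2298) L2304 L4463
theorem L4473 : sm ga N453 = N894 := rfl
theorem L4475 : sm gf N894 = N475 := ded_11_2 (flp_a L2428) (flp_f L2312) L4473
theorem L4477 : sm gc N453 = N895 := rfl
theorem L4479 : sm gf N895 = N476 := ded_20_2 (flp_c L2430) (flp_f L2312) L4477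
theorem L4481 : sm gb N895 = N529 := ded_13_1 (flp_c L2709) (flp_b L1378) (flp_c L1180) L2310 L4477
theorem L4483 : sm gg N453 = N896 := rfl
theorem L4485 : sm gb N454 = N897 := rfl
theorem L4487 : sm ga N455 = N898 := rfl
theorem L4489 : sm gg N898 = N479 := ded_12_2 (flp_a L2438) (flp_g L2322) L4487
theorem L4491 : sm gc N455 = N899 := rfl
theorem L4493 : sm gg N899 = N480 := ded_21_2 (flp_c L2440) (flp_g L2322) L4491
theorem L4495 : sm gb N899 = N533 := ded_13_1 (flp_c L2721) (flp_b L1386) (flp_c L1184) L2320 L4491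
theorem L4497 : sm gf N455 = N900 := rfl
theorem L4499 : sm gb N456 = N901 := rfl
theorem L4501 : sm ga N457 = N902 := rfl
theorem L4503 : sm gd N902 = N763 := ded_9_2 (flp_a L3845) (flp_d L2334) L4501
theorem L4505 : sm ge N457 = N903 := rfl
theorem L4507 : sm gb N903 = N458 := ded_15_1 (flp_e L2336) L2332 L4505
theorem L4509 : sm gf N457 = N904 := rfl
theorem L4511 : sm gd N904 = N765 := ded_23_1 (flp_f L3851) (flp_d L2334) L4509
theorem L4513 : sm gg N457 = N905 := rfl
theorem L4515 : sm gd N905 = N766 := ded_24_1 (flp_g L3853) (flp_d L2334) L4513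
theorem L4517 : sm gd N458 = N906 := rfl
theorem L4519 : sm ga N906 = N832 := ded_9_1 (flp_d L4159) (flp_a L2338) L4517
theorem L4521 : sm ge N906 = N767 := ded_22_2 (flp_d L3855) (flp_e L1981) (flp_d L1190) L2336 L4517
theorem L4523 : sm gf N458 = N907 := rfl
theorem L4525 : sm ga N907 = N833 := ded_11_1 (flp_f L4163) (flp_a L2338) L4523
theorem L4527 : sm gc N907 = N462 := ded_20_1 (flp_f L2362) (flp_c L2340) L4523
theorem L4529 : sm ge N907 = N459 := ded_25_1 (flp_f L2342) L2336 L4523
theorem L4531 : sm gg N458 = N908 := rfl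
theorem L4533 : sm ga N908 = N834 := ded_12_1 (flp_g L4169) (flp_a L2338) L4531
theorem L4535 : sm gc N908 = N463 := ded_21_1 (flp_g L2366) (flp_c L2340) L4531
theorem L4537 : sm ge N908 = N460 := ded_26_1 (flp_g L2350) L2336 L4531
theorem L4539 : sm gb N459 = N909 := rfl
theorem L4541 : sm gd N909 = N770 := ded_14_2 (flp_b L3875) (flp_d L2348) L4539
theorem L4543 : sm gb N460 = N910 := rfl
theorem L4545 : sm gd N910 = N771 := ded_14_2 (flp_b L3877) (flp_d L2356) L4543
theorem L4547 : sm gc N461 = N911 := rfl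
theorem L4549 : sm ge N911 = N468 := ded_19_2 (flp_c L2392) (flp_e L2360) L4547
theorem L4551 : sm gf N461 = N912 := rfl
theorem L4553 : sm gd N912 = N462 := ded_23_1 (flp_f L2362) L2358 L4551
theorem L4555 : sm ge N912 = N469 := ded_25_1 (flp_f L2394) (flp_e L2360) L4551
theorem L4557 : sm gg N461 = N913 := rfl
theorem L4559 : sm gd N913 = N463 := ded_24_1 (flp_g L2366) L2358 L4557
theorem L4561 : sm ge N913 = N470 := ded_26_1 (flp_g L2398) (flp_e L2360) L4557
theorem L4563 : sm gb N462 = N914 := rfl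
theorem L4565 : sm ge N914 = N464 := ded_15_2 (flp_b L2370) (flp_e L2364) L4563
theorem L4567 : sm gg N462 = N915 := rfl
theorem L4569 : sm ge N915 = N465 := ded_26_1 (flp_g L2374) (flp_e L2364) L4567
theorem L4571 : sm gf N796 = N915 := ded_29_0 (flp_g L4567) (flp_f L2362) L2366 (flp_a L4001)
theorem L4573 : sm gb N463 = N916 := rfl
theorem L4575 : sm ge N916 = N466 := ded_15_2 (flp_b L2380) (flp_e L2368) L4573
theorem L4577 : sm gf N463 = N917 := rfl
theorem L4579 : sm ga N917 = N915 := ded_11_1 (flp_f L4571) L4001 L4577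
theorem L4581 : sm ge N917 = N467 := ded_25_1 (flp_f L2384) (flp_e L2368) L4577
theorem L4583 : sm gg N917 = N795 := ded_29_3 L3995 (flp_f L2362) L2366 L4577
theorem L4585 : sm ga N464 = N918 := rfl
theorem L4587 : sm gd N918 = N475 := ded_9_2 (flp_a L2428) (flp_d L2372) L4585
theorem L4589 : sm gc N464 = N919 := rfl
theorem L4591 : sm gg N464 = N920 := rfl
theorem L4593 : sm gd N920 = N477 := ded_24_1 (flp_g L2434) (flp_d L2372) L4591
theorem L4595 : sm gb N465 = N921 := rfl
theorem L4597 : sm gd N921 = N478 := ded_14_2 (flp_b L2436) (flp_d L2376) L4595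
theorem L4599 : sm ga N466 = N922 := rfl
theorem L4601 : sm gd N922 = N479 := ded_9_2 (flp_a L2438) (flp_d L2382) L4599
theorem L4603 : sm gc N466 = N923 := rfl
theorem L4605 : sm gf N466 = N924 := rfl
theorem L4607 : sm gd N924 = N481 := ded_23_1 (flp_f L2444) (flp_d L2382) L4605
theorem L4609 : sm gb N467 = N925 := rfl
theorem L4611 : sm gd N925 = N482 := ded_14_2 (flp_b L2446) (flp_d L2388) L4609
theorem L4613 : sm gb N468 = N926 := rfl
theorem L4615 : sm gf N468 = N927 := rfl
theorem L4617 : sm gc N927 = N469 := ded_20_1 (flp_f L2394) L2392 L4615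
theorem L4619 : sm gg N468 = N928 := rfl
theorem L4621 : sm gc N928 = N470 := ded_21_1 (flp_g L2398) L2392 L4619
theorem L4623 : sm gb N469 = N929 := rfl
theorem L4625 : sm gd N929 = N471 := ded_14_2 (flp_b L2402) (flp_d L2396) L4623
theorem L4627 : sm gg N469 = N930 := rfl
theorem L4629 : sm gd N930 = N472 := ded_24_1 (flp_g L2406) (flp_d L2396) L4627
theorem L4631 : sm gf N801 = N930 := ded_29_0 (flp_g L4627) (flp_f L2394) L2398 (flp_a L4027)
theorem L4633 : sm gb N470 = N931 := rfl
theorem L4635 : sm gd N931 = N473 := ded_14_2 (flp_b L2414) (flp_d L2400) L4633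
theorem L4637 : sm gf N470 = N932 := rfl
theorem L4639 : sm ga N932 = N930 := ded_11_1 (flp_f L4631) L4027 L4637
theorem L4641 : sm gd N932 = N474 := ded_23_1 (flp_f L2418) (flp_d L2400) L4637
theorem L4643 : sm gg N932 = N800 := ded_29_3 L4021 (flp_f L2394) L2398 L4637
theorem L4645 : sm ga N471 = N933 := rfl
theorem L4647 : sm ge N933 = N475 := ded_10_2 (flp_a L2428) (flp_e L2404) L4645
theorem L4649 : sm gc N471 = N934 := rfl
theorem L4651 : sm ge N934 = N476 := ded_19_2 (flp_c L2430) (flp_e L2404) L4649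
theorem L4653 : sm gb N934 = N483 := ded_13_1 (flp_c L2448) (flp_b L1234) (flp_c L1206) L2402 L4649
theorem L4655 : sm gg N471 = N935 := rfl
theorem L4657 : sm ge N935 = N477 := ded_26_1 (flp_g L2434) (flp_e L2404) L4655
theorem L4659 : sm gb N472 = N936 := rfl
theorem L4661 : sm ge N936 = N478 := ded_15_2 (flp_b L2436) (flp_e L2410) L4659
theorem L4663 : sm ga N473 = N937 := rfl
theorem L4665 : sm ge N937 = N479 := ded_10_2 (flp_a L2438) (flp_e L2416) L4663
theorem L4667 : sm gc N473 = N938 := rfl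
theorem L4669 : sm ge N938 = N480 := ded_19_2 (flp_c L2440) (flp_e L2416) L4667
theorem L4671 : sm gb N938 = N487 := ded_13_1 (flp_c L2476) (flp_b L1248) (flp_c L1212) L2414 L4667
theorem L4673 : sm gf N473 = N939 := rfl
theorem L4675 : sm ge N939 = N481 := ded_25_1 (flp_f L2444) (flp_e L2416) L4673
theorem L4677 : sm gb N474 = N940 := rfl
theorem L4679 : sm ge N940 = N482 := ded_15_2 (flp_b L2446) (flp_e L2424) L4677
theorem L4681 : sm gb N475 = N941 := rfl
theorem L4683 : sm gc N475 = N942 := rfl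
theorem L4685 : sm ga N942 = N476 := ded_8_1 (flp_c L2430) L2428 L4683
theorem L4687 : sm gg N475 = N943 := rfl
theorem L4689 : sm ga N943 = N477 := ded_12_1 (flp_g L2434) L2428 L4687
theorem L4691 : sm gf N943 = N896 := ded_29_2 (flp_g L4483) L4473 L4475 L4687
theorem L4693 : sm gd N476 = N944 := rfl
theorem L4695 : sm gb N944 = N490 := ded_14_1 (flp_d L2502) (flp_b L2432) L4693
theorem L4697 : sm gg N476 = N945 := rfl
theorem L4699 : sm gc N945 = N477 := ded_21_1 (flp_g L2434) L2430 L4697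
theorem L4701 : sm gb N477 = N946 := rfl
theorem L4703 : sm gg N946 = N478 := ded_17_2 (flp_b L2436) (flp_g L1218) L1216 L2434 L4701
theorem L4705 : sm gf N477 = N947 := rfl
theorem L4707 : sm ga N947 = N896 := ded_11_1 (flp_f L4691) L4689 L4705
theorem L4709 : sm gg N947 = N894 := ded_29_3 (flp_a L4473) L2312 L2434 L4705
theorem L4711 : sm ga N478 = N948 := rfl
theorem L4713 : sm gc N478 = N949 := rfl
theorem L4715 : sm gb N949 = N492 := ded_13_1 (flp_c L2512) (flp_b L1272) (flp_c L1220) L2436 L4713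
theorem L4717 : sm gf N478 = N950 := rfl
theorem L4719 : sm gb N950 = N809 := ded_16_1 (flp_f L4053) (flp_b L2099) L1222 L2436 L4717
theorem L4721 : sm gb N479 = N951 := rfl
theorem L4723 : sm gc N479 = N952 := rfl
theorem L4725 : sm ga N952 = N480 := ded_8_1 (flp_c L2440) L2438 L4723
theorem L4727 : sm gf N479 = N953 := rfl
theorem L4729 : sm ga N953 = N481 := ded_11_1 (flp_f L2444) L2438 L4727
theorem L4731 : sm gg N900 = N953 := ded_29_1 (flp_f L4727) (flp_g L4489) (flp_a L4487) L4497
theorem L4733 : sm gd N480 = N954 := rfl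
theorem L4735 : sm gb N954 = N494 := ded_14_1 (flp_d L2524) (flp_b L2442) L4733
theorem L4737 : sm gf N480 = N955 := rfl
theorem L4739 : sm gc N955 = N481 := ded_20_1 (flp_f L2444) L2440 L4737
theorem L4741 : sm gb N481 = N956 := rfl
theorem L4743 : sm gf N956 = N482 := ded_16_2 (flp_b L2446) (flp_f L1226) L1224 L2444 L4741
theorem L4745 : sm gg N481 = N957 := rfl
theorem L4747 : sm ga N957 = N900 := ded_12_1 L4731 L4729 L4745
theorem L4749 : sm gf N898 = N957 := ded_29_0 (flp_g L4745) (flp_f L2444) (flp_g L2322) L4487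
theorem L4751 : sm ga N482 = N958 := rfl
theorem L4753 : sm gc N482 = N959 := rfl
theorem L4755 : sm gb N959 = N496 := ded_13_1 (flp_c L2534) (flp_b L1299) (flp_c L1230) L2446 L4753
theorem L4757 : sm gg N482 = N960 := rfl
theorem L4759 : sm gb N960 = N806 := ded_17_1 (flp_g L4045) (flp_b L2097) (flp_g L1232) L2446 L4757
theorem L4761 : sm gd N483 = N961 := rfl
theorem L4763 : sm gf N961 = N572 := ded_23_2 (flp_d L2906) (flp_f L2452) L4761
theorem L4765 : sm gg N483 = N962 := rfl
theorem L4767 : sm gc N962 = N484 := ded_21_1 (flp_g L2454) L2448 L4765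
theorem L4769 : sm ge N962 = N491 := ded_26_1 (flp_g L2508) (flp_e L2450) L4765
theorem L4771 : sm gc N485 = N963 := rfl
theorem L4773 : sm ga N963 = N578 := ded_8_1 L2944 L2464 L4771
theorem L4775 : sm ge N963 = N492 := ded_19_2 (flp_c L2512) (flp_e L2462) L4771
theorem L4777 : sm gf N963 = N576 := ded_20_2 (flp_c L2934) L2466 L4771
theorem L4779 : sm gc N486 = N964 := rfl
theorem L4781 : sm ga N964 = N487 := ded_8_1 (flp_c L2476) L2468 L4779
theorem L4783 : sm ge N964 = N493 := ded_19_2 (flp_c L2518) (flp_e L2471) L4779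
theorem L4785 : sm gg N964 = N576 := ded_21_2 (flp_c L2934) (flp_g L2473) L4779
theorem L4787 : sm gd N487 = N965 := rfl
theorem L4789 : sm gg N965 = N577 := ded_24_2 (flp_d L2940) (flp_g L2480) L4787
theorem L4791 : sm gf N487 = N966 := rfl
theorem L4793 : sm gc N966 = N488 := ded_20_1 (flp_f L2482) L2476 L4791
theorem L4795 : sm ge N966 = N495 := ded_25_1 (flp_f L2528) (flp_e L2478) L4791
theorem L4797 : sm gg N966 = N963 := ded_29_3 L4773 (flp_f L2942) (flp_g L2480) L4791
theorem L4799 : sm gc N489 = N967 := rfl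
theorem L4801 : sm ga N967 = N573 := ded_8_1 L2910 L2498 L4799
theorem L4803 : sm ge N967 = N496 := ded_19_2 (flp_c L2534) (flp_e L2494) L4799
theorem L4805 : sm gf N967 = N962 := ded_20_2 L4767 (flp_f L2496) L4799
theorem L4807 : sm gg N967 = N571 := ded_21_2 (flp_c L2900) L2500 L4799
theorem L4809 : sm ge N490 = N968 := rfl
theorem L4811 : sm gc N968 = N583 := ded_19_1 (flp_e L2971) (flp_c L2506) L4809
theorem L4813 : sm gf N968 = N583 := ded_25_2 (flp_e L2971) (flp_f L2504) L4809
theorem L4815 : sm gg N490 = N969 := rfl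
theorem L4817 : sm gc N969 = N584 := ded_21_1 (flp_g L2973) (flp_c L2506) L4815
theorem L4819 : sm gd N969 = N491 := ded_24_1 (flp_g L2508) L2502 L4815
theorem L4821 : sm gb N491 = N970 := rfl
theorem L4823 : sm gd N492 = N971 := rfl
theorem L4825 : sm ga N971 = N592 := ded_9_1 L3005 (flp_a L2514) L4823
theorem L4827 : sm gf N971 = N589 := ded_23_2 (flp_d L2995) (flp_f L2516) L4823
theorem L4829 : sm gb N493 = N972 := rfl
theorem L4832 : sm gd N493 = N973 := rfl
theorem L4834 : sm ga N973 = N494 := ded_9_1 (flp_d L2524) (flp_a L2520) L4832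
theorem L4836 : sm gg N973 = N589 := ded_24_2 (flp_d L2995) (flp_g L2522) L4832
theorem L4838 : sm gc N494 = N974 := rfl
theorem L4842 : sm ge N494 = N975 := rfl
theorem L4844 : sm gg N975 = N591 := ded_26_2 (flp_e L3001) (flp_g L2526) L4842
theorem L4846 : sm gf N494 = N976 := rfl
theorem L4848 : sm gd N976 = N495 := ded_23_1 (flp_f L2528) L2524 L4846
theorem L4850 : sm gg N976 = N971 := ded_29_3 L4825 (flp_f L3003) (flp_g L2526) L4846
theorem L4852 : sm gb N495 = N977 := rfl
theorem L4854 : sm gc N977 = N970 := ded_13_2 (flp_b L4821) L2510 (flp_b L1297) (flp_c L2530) L4852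
theorem L4856 : sm gd N496 = N978 := rfl
theorem L4858 : sm ga N978 = N584 := ded_9_1 L2975 (flp_a L2536) L4856
theorem L4860 : sm gf N978 = N969 := ded_23_2 L4819 (flp_f L2538) L4856
theorem L4862 : sm gg N978 = N582 := ded_24_2 (flp_d L2967) (flp_g L2540) L4856
theorem L4864 : sm gc N497 = N979 := rfl
theorem L4868 : sm gf N979 = N598 := ded_20_2 (flp_c L3036) (flp_f L2546) L4864
theorem L4870 : sm gg N979 = N864 := ded_21_2 (flp_c L4312) (flp_g L2548) L4864
theorem L4872 : sm ge N497 = N980 := rfl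
theorem L4874 : sm ga N980 = N604 := ded_10_1 L3069 (flp_a L2544) L4872
theorem L4876 : sm gf N980 = N599 := ded_25_2 (flp_e L3042) (flp_f L2546) L4872
theorem L4878 : sm gg N980 = N858 := ded_26_2 L4286 (flp_g L2548) L4872
theorem L4881 : sm gc N498 = N981 := rfl
theorem L4883 : sm ga N981 = N499 := ded_8_1 (flp_c L2558) (flp_a L2552) L4881
theorem L4885 : sm gg N981 = N598 := ded_21_2 (flp_c L3036) (flp_g L2556) L4881
theorem L4887 : sm gd N974 = N981 := ded_28_1 (flp_c L4881) (flp_d L2550) (flp_c L1318) (flp_d L1282) L2518 L4832 L4834 L4838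
theorem L4889 : sm ge N498 = N982 := rfl
theorem L4891 : sm ga N982 = N500 := ded_10_1 (flp_e L2562) (flp_a L2552) L4889
theorem L4893 : sm gb N982 = N758 := ded_15_1 L3809 (flp_b L2554) L4889
theorem L4895 : sm gg N982 = N599 := ded_26_2 (flp_e L3042) (flp_g L2556) L4889
theorem L4898 : sm gb N499 = N983 := rfl
theorem L4900 : sm gd N499 = N984 := rfl
theorem L4902 : sm ga N984 = N974 := ded_9_1 L4887 L4883 L4900
theorem L4904 : sm gg N984 = N601 := ded_24_2 (flp_d L3052) (flp_g L2560) L4900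
theorem L4906 : sm gc N973 = N984 := ded_28_0 (flp_d L4900) (flp_c L2558) (flp_d L1327) (flp_c L609) (flp_d L586) L1287 L2524 (flp_a L4834)
theorem L4908 : sm ge N499 = N985 := rfl
theorem L4910 : sm gc N985 = N500 := ded_19_1 (flp_e L2562) L2558 L4908
theorem L4912 : sm gg N985 = N602 := ded_26_2 (flp_e L3058) (flp_g L2560) L4908
theorem L4914 : sm gd N501 = N986 := rfl
theorem L4916 : sm ga N986 = N986 := ded_9_1 (flp_d L4914) L2569 L4914
theorem L4917 : sm ge N501 = N987 := rfl
theorem L4919 : sm ga N987 = N987 := ded_10_1 (flp_e L4917) L2569 L4917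
theorem L4920 : sm gc N987 = N503 := ded_19_1 (flp_e L2575) L2567 L4917
theorem L4922 : sm gf N501 = N988 := rfl
theorem L4924 : sm ga N988 = N988 := ded_11_1 (flp_f L4922) L2569 L4922
theorem L4925 : sm gc N988 = N504 := ded_20_1 (flp_f L2580) L2567 L4922
theorem L4927 : sm gg N501 = N989 := rfl
theorem L4930 : sm gc N989 = N505 := ded_21_1 (flp_g L2583) L2567 L4927
theorem L4932 : sm gc N502 = N990 := rfl
theorem L4934 : sm ga N990 = N990 := ded_8_1 (flp_c L4932) L2572 L4932
theorem L4935 : sm gb N990 = N990 := ded_13_1 (flp_c L4932) L2573 L1338 (flp_b L2573) L4932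
theorem L4936 : sm ge N502 = N991 := rfl
theorem L4938 : sm ga N991 = N991 := ded_10_1 (flp_e L4936) L2572 L4936
theorem L4939 : sm gb N991 = N506 := ded_15_1 (flp_e L2586) (flp_b L2573) L4936
theorem L4941 : sm gf N502 = N992 := rfl
theorem L4943 : sm ga N992 = N992 := ded_11_1 (flp_f L4941) L2572 L4941
theorem L4944 : sm gd N992 = N504 := ded_23_1 (flp_f L2580) L2570 L4941
theorem L4946 : sm gg N502 = N993 := rfl
theorem L4949 : sm gd N993 = N505 := ded_24_1 (flp_g L2583) L2570 L4946
theorem L4951 : sm gd N503 = N994 := rfl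
theorem L4953 : sm ga N994 = N994 := ded_9_1 (flp_d L4951) L2577 L4951
theorem L4954 : sm gb N994 = N509 := ded_14_1 (flp_d L2605) (flp_b L2578) L4951
theorem L4956 : sm gf N503 = N995 := rfl
theorem L4959 : sm ge N995 = N504 := ded_25_1 (flp_f L2580) L2575 L4956
theorem L4961 : sm gg N503 = N996 := rfl
theorem L4964 : sm ge N996 = N505 := ded_26_1 (flp_g L2583) L2575 L4961
theorem L4966 : sm gb N504 = N997 := rfl
theorem L4968 : sm gf N997 = N512 := ded_16_2 (flp_b L2621) (flp_f L1343) L1331 L2580 L4966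
theorem L4970 : sm gg N504 = N998 := rfl
theorem L4972 : sm ga N998 = N998 := ded_12_1 (flp_g L4970) L2582 L4970
theorem L4973 : sm gf N998 = N505 := ded_29_0 (flp_g L2583) L2580 L4970 L4972
theorem L4975 : sm gb N505 = N999 := rfl
theorem L4977 : sm gg N999 = N513 := ded_17_2 (flp_b L2623) (flp_g L1347) L1331 L2583 L4975
theorem L4979 : sm gd N506 = N1000 := rfl
theorem L4981 : sm ga N1000 = N514 := ded_9_1 (flp_d L2625) (flp_a L2588) L4979
theorem L4983 : sm ge N1000 = N509 := ded_22_2 (flp_d L2605) (flp_e L1339) L1334 L2586 L4979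
theorem L4985 : sm gf N506 = N1001 := rfl
theorem L4987 : sm ga N1001 = N515 := ded_11_1 (flp_f L2631) (flp_a L2588) L4985
theorem L4989 : sm gc N1001 = N1001 := ded_20_1 (flp_f L4985) L2590 L4985
theorem L4990 : sm ge N1001 = N507 := ded_25_1 (flp_f L2591) L2586 L4985
theorem L4992 : sm gg N506 = N1002 := rfl
theorem L4994 : sm ga N1002 = N516 := ded_12_1 (flp_g L2636) (flp_a L2588) L4992
theorem L4996 : sm gc N1002 = N1002 := ded_21_1 (flp_g L4992) L2590 L4992
theorem L4997 : sm ge N1002 = N508 := ded_26_1 (flp_g L2598) L2586 L4992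
theorem L4999 : sm gb N507 = N1003 := rfl
theorem L5001 : sm gd N1003 = N512 := ded_14_2 (flp_b L2621) (flp_d L2596) L4999
theorem L5003 : sm gb N508 = N1004 := rfl
theorem L5005 : sm gd N1004 = N513 := ded_14_2 (flp_b L2623) (flp_d L2603) L5003
theorem L5007 : sm gc N509 = N1005 := rfl
theorem L5009 : sm ga N1005 = N521 := ded_8_1 (flp_c L2669) (flp_a L2607) L5007
theorem L5011 : sm gf N509 = N1006 := rfl
theorem L5013 : sm ga N1006 = N522 := ded_11_1 (flp_f L2671) (flp_a L2607) L5011
theorem L5015 : sm gd N1006 = N510 := ded_23_1 (flp_f L2609) L2605 L5011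
theorem L5017 : sm gg N509 = N1007 := rfl
theorem L5019 : sm ga N1007 = N523 := ded_12_1 (flp_g L2675) (flp_a L2607) L5017
theorem L5021 : sm gd N1007 = N511 := ded_24_1 (flp_g L2615) L2605 L5017
theorem L5023 : sm gb N510 = N1008 := rfl
theorem L5025 : sm ge N1008 = N512 := ded_15_2 (flp_b L2621) (flp_e L2613) L5023
theorem L5027 : sm gb N511 = N1009 := rfl
theorem L5029 : sm ge N1009 = N513 := ded_15_2 (flp_b L2623) (flp_e L2619) L5027
theorem L5031 : sm ga N512 = N1010 := rfl
theorem L5033 : sm gc N512 = N1011 := rfl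
theorem L5035 : sm gg N512 = N1012 := rfl
theorem L5037 : sm ga N513 = N1013 := rfl
theorem L5039 : sm gc N513 = N1014 := rfl
theorem L5041 : sm gf N513 = N1015 := rfl
theorem L5043 : sm gc N514 = N1016 := rfl
theorem L5045 : sm ge N1016 = N521 := ded_19_2 (flp_c L2669) (flp_e L2629) L5043
theorem L5047 : sm gf N514 = N1017 := rfl
theorem L5049 : sm gd N1017 = N515 := ded_23_1 (flp_f L2631) L2625 L5047
theorem L5051 : sm ge N1017 = N522 := ded_25_1 (flp_f L2671) (flp_e L2629) L5047
theorem L5053 : sm gg N514 = N1018 := rfl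
theorem L5055 : sm gd N1018 = N516 := ded_24_1 (flp_g L2636) L2625 L5053
theorem L5057 : sm ge N1018 = N523 := ded_26_1 (flp_g L2675) (flp_e L2629) L5053
theorem L5059 : sm gb N515 = N1019 := rfl
theorem L5061 : sm ge N1019 = N517 := ded_15_2 (flp_b L2641) (flp_e L2634) L5059
theorem L5063 : sm gf N1019 = N539 := ded_16_2 (flp_b L2751) (flp_f L1402) (flp_b L1353) L2631 L5059
theorem L5065 : sm gg N515 = N1020 := rfl
theorem L5067 : sm gc N1020 = N1020 := ded_21_1 (flp_g L5065) L2633 L5065
theorem L5068 : sm ge N1020 = N518 := ded_26_1 (flp_g L2647) (flp_e L2634) L5065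
theorem L5070 : sm gf N1002 = N1020 := ded_29_0 (flp_g L5065) (flp_f L2631) L2636 (flp_a L4994)
theorem L5072 : sm gb N516 = N1021 := rfl
theorem L5074 : sm ge N1021 = N519 := ded_15_2 (flp_b L2654) (flp_e L2639) L5072
theorem L5076 : sm gg N1021 = N540 := ded_17_2 (flp_b L2755) (flp_g L1410) (flp_b L1353) L2636 L5072
theorem L5078 : sm gf N516 = N1022 := rfl
theorem L5080 : sm ga N1022 = N1020 := ded_11_1 (flp_f L5070) L4994 L5078
theorem L5082 : sm gc N1022 = N1022 := ded_20_1 (flp_f L5078) L2638 L5078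
theorem L5083 : sm ge N1022 = N520 := ded_25_1 (flp_f L2660) (flp_e L2639) L5078
theorem L5085 : sm gg N1022 = N1001 := ded_29_3 L4987 (flp_f L2631) L2636 L5078
theorem L5087 : sm ga N517 = N1023 := rfl
theorem L5089 : sm gd N1023 = N528 := ded_9_2 (flp_a L2705) (flp_d L2643) L5087
theorem L5091 : sm gf N1023 = N541 := ded_11_2 (flp_a L2759) (flp_f L2645) L5087
theorem L5093 : sm gc N517 = N1024 := rfl
theorem L5095 : sm gf N1024 = N542 := ded_20_2 (flp_c L2763) (flp_f L2645) L5093
theorem L5097 : sm gb N1024 = N1024 := ded_13_1 (flp_c L5093) (flp_b L2641) L1358 L2641 L5093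
theorem L5098 : sm gg N517 = N1025 := rfl
theorem L5100 : sm gd N1025 = N530 := ded_24_1 (flp_g L2713) (flp_d L2643) L5098
theorem L5102 : sm gb N518 = N1026 := rfl
theorem L5104 : sm gd N1026 = N531 := ded_14_2 (flp_b L2715) (flp_d L2650) L5102
theorem L5106 : sm ga N519 = N1027 := rfl
theorem L5108 : sm gd N1027 = N532 := ded_9_2 (flp_a L2717) (flp_d L2656) L5106
theorem L5110 : sm gg N1027 = N544 := ded_12_2 (flp_a L2771) (flp_g L2658) L5106
theorem L5112 : sm gc N519 = N1028 := rfl
theorem L5114 : sm gg N1028 = N545 := ded_21_2 (flp_c L2775) (flp_g L2658) L5112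
theorem L5116 : sm gb N1028 = N1028 := ded_13_1 (flp_c L5112) (flp_b L2654) L1363 L2654 L5112
theorem L5117 : sm gf N519 = N1029 := rfl
theorem L5121 : sm gb N520 = N1030 := rfl
theorem L5123 : sm gd N1030 = N535 := ded_14_2 (flp_b L2727) (flp_d L2665) L5121
theorem L5125 : sm gb N521 = N1031 := rfl
theorem L5127 : sm gc N1031 = N547 := ded_13_2 (flp_b L2783) (flp_c L1426) (flp_b L1368) L2669 L5125
theorem L5129 : sm gd N521 = N1032 := rfl
theorem L5131 : sm gf N521 = N1033 := rfl
theorem L5133 : sm gc N1033 = N522 := ded_20_1 (flp_f L2671) L2669 L5131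
theorem L5135 : sm gg N521 = N1034 := rfl
theorem L5137 : sm gc N1034 = N523 := ded_21_1 (flp_g L2675) L2669 L5135
theorem L5139 : sm gb N522 = N1035 := rfl
theorem L5141 : sm gd N1035 = N524 := ded_14_2 (flp_b L2679) (flp_d L2673) L5139
theorem L5143 : sm gf N1035 = N550 := ded_16_2 (flp_b L2803) (flp_f L1432) (flp_b L1368) L2671 L5139
theorem L5145 : sm gg N522 = N1036 := rfl
theorem L5147 : sm gd N1036 = N525 := ded_24_1 (flp_g L2685) (flp_d L2673) L5145
theorem L5149 : sm gf N1007 = N1036 := ded_29_0 (flp_g L5145) (flp_f L2671) L2675 (flp_a L5019)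
theorem L5151 : sm gb N523 = N1037 := rfl
theorem L5153 : sm gd N1037 = N526 := ded_14_2 (flp_b L2691) (flp_d L2677) L5151
theorem L5155 : sm gg N1037 = N551 := ded_17_2 (flp_b L2807) (flp_g L1438) (flp_b L1368) L2675 L5151
theorem L5157 : sm gf N523 = N1038 := rfl
theorem L5159 : sm ga N1038 = N1036 := ded_11_1 (flp_f L5149) L5019 L5157
theorem L5161 : sm gd N1038 = N527 := ded_23_1 (flp_f L2697) (flp_d L2677) L5157
theorem L5163 : sm gg N1038 = N1006 := ded_29_3 L5013 (flp_f L2671) L2675 L5157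
theorem L5165 : sm ga N524 = N1039 := rfl
theorem L5167 : sm ge N1039 = N528 := ded_10_2 (flp_a L2705) (flp_e L2681) L5165
theorem L5169 : sm gf N1039 = N552 := ded_11_2 (flp_a L2811) (flp_f L2683) L5165
theorem L5171 : sm gc N524 = N1040 := rfl
theorem L5173 : sm ge N1040 = N529 := ded_19_2 (flp_c L2709) (flp_e L2681) L5171
theorem L5175 : sm gf N1040 = N553 := ded_20_2 (flp_c L2815) (flp_f L2683) L5171
theorem L5177 : sm gg N524 = N1041 := rfl
theorem L5179 : sm ge N1041 = N530 := ded_26_1 (flp_g L2713) (flp_e L2681) L5177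
theorem L5181 : sm gb N525 = N1042 := rfl
theorem L5183 : sm ge N1042 = N531 := ded_15_2 (flp_b L2715) (flp_e L2687) L5181
theorem L5185 : sm ga N526 = N1043 := rfl
theorem L5187 : sm ge N1043 = N532 := ded_10_2 (flp_a L2717) (flp_e L2693) L5185
theorem L5189 : sm gg N1043 = N555 := ded_12_2 (flp_a L2825) (flp_g L2695) L5185
theorem L5191 : sm gc N526 = N1044 := rfl
theorem L5193 : sm ge N1044 = N533 := ded_19_2 (flp_c L2721) (flp_e L2693) L5191
theorem L5195 : sm gg N1044 = N556 := ded_21_2 (flp_c L2829) (flp_g L2695) L5191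
theorem L5197 : sm gf N526 = N1045 := rfl
theorem L5199 : sm ge N1045 = N534 := ded_25_1 (flp_f L2725) (flp_e L2693) L5197
theorem L5201 : sm gb N527 = N1046 := rfl
theorem L5203 : sm ge N1046 = N535 := ded_15_2 (flp_b L2727) (flp_e L2701) L5201
theorem L5205 : sm gb N528 = N1047 := rfl
theorem L5207 : sm gc N528 = N1048 := rfl
theorem L5209 : sm ga N1048 = N529 := ded_8_1 (flp_c L2709) L2705 L5207
theorem L5211 : sm gf N1048 = N559 := ded_20_2 (flp_c L2841) (flp_f L2707) L5207
theorem L5213 : sm gb N1048 = N1048 := ded_30_2 L5209 L2711 (flp_c L1454) (flp_b L693) L293 (flp_f L165) (flp_c L80) L42 L32 L33 L35 (flp_b L42) (flp_a L66) L139 (flp_c L295) L693 L1452 (flp_f L2707) L5207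
theorem L5214 : sm gc N1047 = N1047 := ded_13_2 (flp_b L5205) L5207 L5213 (flp_c L5207) L5205
theorem L5215 : sm gd N529 = N1049 := rfl
theorem L5217 : sm gf N1049 = N561 := ded_23_2 (flp_d L2851) (flp_f L2711) L5215
theorem L5219 : sm gg N529 = N1050 := rfl
theorem L5221 : sm gc N1050 = N530 := ded_21_1 (flp_g L2713) L2709 L5219
theorem L5223 : sm gb N530 = N1051 := rfl
theorem L5225 : sm gg N1051 = N531 := ded_17_2 (flp_b L2715) (flp_g L1382) L1378 L2713 L5223
theorem L5227 : sm ga N531 = N1052 := rfl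
theorem L5229 : sm gc N531 = N1053 := rfl
theorem L5231 : sm gf N531 = N1054 := rfl
theorem L5233 : sm gb N1054 = N1015 := ded_16_1 (flp_f L5041) (flp_b L2623) L1384 L2715 L5231
theorem L5235 : sm gb N532 = N1055 := rfl
theorem L5237 : sm gc N532 = N1056 := rfl
theorem L5239 : sm ga N1056 = N533 := ded_8_1 (flp_c L2721) L2717 L5237
theorem L5241 : sm gg N1056 = N565 := ded_21_2 (flp_c L2867) (flp_g L2719) L5237
theorem L5243 : sm gd N533 = N1057 := rfl
theorem L5245 : sm gg N1057 = N567 := ded_24_2 (flp_d L2877) (flp_g L2723) L5243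
theorem L5247 : sm gf N533 = N1058 := rfl
theorem L5249 : sm gc N1058 = N534 := ded_20_1 (flp_f L2725) L2721 L5247
theorem L5251 : sm gb N534 = N1059 := rfl
theorem L5253 : sm gf N1059 = N535 := ded_16_2 (flp_b L2727) (flp_f L1390) L1386 L2725 L5251
theorem L5255 : sm ga N535 = N1060 := rfl
theorem L5257 : sm gc N535 = N1061 := rfl
theorem L5259 : sm gg N535 = N1062 := rfl
theorem L5261 : sm gb N1062 = N1012 := ded_17_1 (flp_g L5035) (flp_b L2621) (flp_g L1394) L2727 L5259
theorem L5263 : sm gb N536 = N1063 := rfl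
theorem L5265 : sm ge N1063 = N547 := ded_15_2 (flp_b L2783) (flp_e L2733) L5263
theorem L5267 : sm gd N536 = N1064 := rfl
theorem L5269 : sm ga N1064 = N611 := ded_9_1 (flp_d L3103) (flp_a L2731) L5267
theorem L5271 : sm ge N1064 = N611 := ded_22_2 (flp_d L3103) L1597 (flp_d L1430) (flp_e L2733) L5267
theorem L5273 : sm gc N1064 = N1064 := ded_28_0 (flp_d L5267) (flp_c L2729) (flp_d L1396) L655 L782 L1595 L3103 (flp_a L5269)
theorem L5274 : sm gf N536 = N1065 := rfl
theorem L5276 : sm ga N1065 = N612 := ded_11_1 (flp_f L3106) (flp_a L2731) L5274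
theorem L5278 : sm gc N1065 = N537 := ded_20_1 (flp_f L2735) L2729 L5274
theorem L5280 : sm ge N1065 = N548 := ded_25_1 (flp_f L2787) (flp_e L2733) L5274
theorem L5282 : sm gg N536 = N1066 := rfl
theorem L5284 : sm ga N1066 = N613 := ded_12_1 (flp_g L3112) (flp_a L2731) L5282
theorem L5286 : sm gc N1066 = N538 := ded_21_1 (flp_g L2743) L2729 L5282
theorem L5288 : sm ge N1066 = N549 := ded_26_1 (flp_g L2795) (flp_e L2733) L5282
theorem L5290 : sm gb N537 = N1067 := rfl
theorem L5292 : sm gd N1067 = N539 := ded_14_2 (flp_b L2751) (flp_d L2739) L5290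
theorem L5294 : sm ge N1067 = N550 := ded_15_2 (flp_b L2803) (flp_e L2741) L5290
theorem L5296 : sm gb N538 = N1068 := rfl
theorem L5298 : sm gd N1068 = N540 := ded_14_2 (flp_b L2755) (flp_d L2747) L5296
theorem L5300 : sm ge N1068 = N551 := ded_15_2 (flp_b L2807) (flp_e L2749) L5296
theorem L5302 : sm ga N539 = N1069 := rfl
theorem L5304 : sm ge N1069 = N541 := ded_10_2 (flp_a L2759) (flp_e L2753) L5302
theorem L5306 : sm gc N539 = N1070 := rfl
theorem L5308 : sm ge N1070 = N542 := ded_19_2 (flp_c L2763) (flp_e L2753) L5306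
theorem L5310 : sm gb N1070 = N619 := ded_13_1 (flp_c L3155) (flp_b L1611) (flp_c L1406) L2751 L5306
theorem L5312 : sm gg N539 = N1071 := rfl
theorem L5314 : sm ge N1071 = N543 := ded_26_1 (flp_g L2767) (flp_e L2753) L5312
theorem L5316 : sm ga N540 = N1072 := rfl
theorem L5318 : sm ge N1072 = N544 := ded_10_2 (flp_a L2771) (flp_e L2757) L5316
theorem L5320 : sm gc N540 = N1073 := rfl
theorem L5322 : sm ge N1073 = N545 := ded_19_2 (flp_c L2775) (flp_e L2757) L5320
theorem L5324 : sm gb N1073 = N623 := ded_13_1 (flp_c L3173) (flp_b L1622) (flp_c L1414) L2755 L5320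
theorem L5326 : sm gf N540 = N1074 := rfl
theorem L5328 : sm ge N1074 = N546 := ded_25_1 (flp_f L2779) (flp_e L2757) L5326
theorem L5330 : sm gb N541 = N1075 := rfl
theorem L5332 : sm gd N1075 = N558 := ded_14_2 (flp_b L2839) (flp_d L2761) L5330
theorem L5334 : sm gc N541 = N1076 := rfl
theorem L5336 : sm ga N1076 = N542 := ded_8_1 (flp_c L2763) L2759 L5334
theorem L5338 : sm gg N541 = N1077 := rfl
theorem L5340 : sm ga N1077 = N543 := ded_12_1 (flp_g L2767) L2759 L5338
theorem L5342 : sm gd N1077 = N560 := ded_24_1 (flp_g L2845) (flp_d L2761) L5338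
theorem L5344 : sm gf N1077 = N1025 := ded_29_2 (flp_g L5098) L5087 L5091 L5338
theorem L5346 : sm gd N542 = N1078 := rfl
theorem L5348 : sm gb N1078 = N629 := ded_14_1 (flp_d L3203) (flp_b L2765) L5346
theorem L5350 : sm gg N542 = N1079 := rfl
theorem L5352 : sm gc N1079 = N543 := ded_21_1 (flp_g L2767) L2763 L5350
theorem L5354 : sm gf N543 = N1080 := rfl
theorem L5356 : sm ga N1080 = N1025 := ded_11_1 (flp_f L5344) L5340 L5354
theorem L5358 : sm gd N1080 = N563 := ded_23_1 (flp_f L2859) (flp_d L2769) L5354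
theorem L5360 : sm gg N1080 = N1023 := ded_29_3 (flp_a L5087) L2645 L2767 L5354
theorem L5362 : sm gb N544 = N1081 := rfl
theorem L5364 : sm gd N1081 = N564 := ded_14_2 (flp_b L2865) (flp_d L2773) L5362
theorem L5366 : sm gc N544 = N1082 := rfl
theorem L5368 : sm ga N1082 = N545 := ded_8_1 (flp_c L2775) L2771 L5366
theorem L5370 : sm gf N544 = N1083 := rfl
theorem L5372 : sm ga N1083 = N546 := ded_11_1 (flp_f L2779) L2771 L5370
theorem L5374 : sm gd N1083 = N566 := ded_23_1 (flp_f L2871) (flp_d L2773) L5370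
theorem L5376 : sm gg N1029 = N1083 := ded_29_1 (flp_f L5370) (flp_g L5110) (flp_a L5106) L5117
theorem L5378 : sm gd N545 = N1084 := rfl
theorem L5380 : sm gb N1084 = N638 := ded_14_1 (flp_d L3245) (flp_b L2777) L5378
theorem L5382 : sm gf N545 = N1085 := rfl
theorem L5384 : sm gc N1085 = N546 := ded_20_1 (flp_f L2779) L2775 L5382
theorem L5386 : sm gg N546 = N1086 := rfl
theorem L5388 : sm ga N1086 = N1029 := ded_12_1 L5376 L5372 L5386
theorem L5390 : sm gd N1086 = N569 := ded_24_1 (flp_g L2885) (flp_d L2781) L5386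
theorem L5392 : sm gf N1027 = N1086 := ded_29_0 (flp_g L5386) (flp_f L2779) (flp_g L2658) L5106
theorem L5394 : sm ga N547 = N1087 := rfl
theorem L5396 : sm gd N1087 = N644 := ded_9_2 (flp_a L3272) (flp_d L2785) L5394
theorem L5398 : sm gf N547 = N1088 := rfl
theorem L5400 : sm gd N1088 = N645 := ded_23_1 (flp_f L3275) (flp_d L2785) L5398
theorem L5402 : sm gg N547 = N1089 := rfl
theorem L5404 : sm gd N1089 = N646 := ded_24_1 (flp_g L3278) (flp_d L2785) L5402
theorem L5406 : sm gb N548 = N1090 := rfl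
theorem L5408 : sm gd N1090 = N647 := ded_14_2 (flp_b L3281) (flp_d L2793) L5406
theorem L5410 : sm gb N549 = N1091 := rfl
theorem L5412 : sm gd N1091 = N649 := ded_14_2 (flp_b L3289) (flp_d L2801) L5410
theorem L5414 : sm ga N550 = N1092 := rfl
theorem L5416 : sm gd N1092 = N552 := ded_9_2 (flp_a L2811) (flp_d L2805) L5414
theorem L5418 : sm gc N550 = N1093 := rfl
theorem L5420 : sm gg N550 = N1094 := rfl
theorem L5422 : sm gd N1094 = N554 := ded_24_1 (flp_g L2821) (flp_d L2805) L5420
theorem L5424 : sm ga N551 = N1095 := rfl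
theorem L5426 : sm gd N1095 = N555 := ded_9_2 (flp_a L2825) (flp_d L2809) L5424
theorem L5428 : sm gc N551 = N1096 := rfl
theorem L5430 : sm gf N551 = N1097 := rfl
theorem L5432 : sm gd N1097 = N557 := ded_23_1 (flp_f L2835) (flp_d L2809) L5430
theorem L5434 : sm gb N552 = N1098 := rfl
theorem L5436 : sm ge N1098 = N558 := ded_15_2 (flp_b L2839) (flp_e L2813) L5434
theorem L5438 : sm gc N552 = N1099 := rfl
theorem L5440 : sm ga N1099 = N553 := ded_8_1 (flp_c L2815) L2811 L5438
theorem L5442 : sm ge N1099 = N559 := ded_19_2 (flp_c L2841) (flp_e L2813) L5438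
theorem L5444 : sm gg N552 = N1100 := rfl
theorem L5446 : sm ga N1100 = N554 := ded_12_1 (flp_g L2821) L2811 L5444
theorem L5448 : sm ge N1100 = N560 := ded_26_1 (flp_g L2845) (flp_e L2813) L5444
theorem L5450 : sm gf N1100 = N1041 := ded_29_2 (flp_g L5177) L5165 L5169 L5444
theorem L5452 : sm gd N553 = N1101 := rfl
theorem L5454 : sm gb N1101 = N572 := ded_14_1 (flp_d L2906) (flp_b L2819) L5452
theorem L5456 : sm gg N553 = N1102 := rfl
theorem L5458 : sm gc N1102 = N554 := ded_21_1 (flp_g L2821) L2815 L5456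
theorem L5460 : sm ge N1102 = N562 := ded_26_1 (flp_g L2855) (flp_e L2817) L5456
theorem L5462 : sm gf N554 = N1103 := rfl
theorem L5464 : sm ga N1103 = N1041 := ded_11_1 (flp_f L5450) L5446 L5462
theorem L5466 : sm ge N1103 = N563 := ded_25_1 (flp_f L2859) (flp_e L2823) L5462
theorem L5470 : sm gb N555 = N1104 := rfl
theorem L5472 : sm ge N1104 = N564 := ded_15_2 (flp_b L2865) (flp_e L2827) L5470
theorem L5474 : sm gc N555 = N1105 := rfl
theorem L5476 : sm ga N1105 = N556 := ded_8_1 (flp_c L2829) L2825 L5474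
theorem L5478 : sm ge N1105 = N565 := ded_19_2 (flp_c L2867) (flp_e L2827) L5474
theorem L5480 : sm gf N555 = N1106 := rfl
theorem L5482 : sm ga N1106 = N557 := ded_11_1 (flp_f L2835) L2825 L5480
theorem L5484 : sm ge N1106 = N566 := ded_25_1 (flp_f L2871) (flp_e L2827) L5480
theorem L5486 : sm gg N1045 = N1106 := ded_29_1 (flp_f L5480) (flp_g L5189) (flp_a L5185) L5197
theorem L5488 : sm gd N556 = N1107 := rfl
theorem L5490 : sm gb N1107 = N577 := ded_14_1 (flp_d L2940) (flp_b L2833) L5488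
theorem L5492 : sm gf N556 = N1108 := rfl
theorem L5494 : sm gc N1108 = N557 := ded_20_1 (flp_f L2835) L2829 L5492
theorem L5496 : sm ge N1108 = N568 := ded_25_1 (flp_f L2881) (flp_e L2831) L5492
theorem L5498 : sm gg N557 = N1109 := rfl
theorem L5500 : sm ga N1109 = N1045 := ded_12_1 L5486 L5482 L5498
theorem L5502 : sm ge N1109 = N569 := ded_26_1 (flp_g L2885) (flp_e L2837) L5498
theorem L5504 : sm gf N1043 = N1109 := ded_29_0 (flp_g L5498) (flp_f L2835) (flp_g L2695) L5185
theorem L5506 : sm ga N558 = N1110 := rfl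
theorem L5508 : sm gb N1110 = N671 := ded_7_2 (flp_a L3403) (flp_b L1734) (flp_a L861) (flp_b L377) (flp_a L293) L693 L1452 L2839 L5506
theorem L5510 : sm gc N558 = N1111 := rfl
theorem L5512 : sm gf N558 = N1112 := rfl
theorem L5514 : sm gg N558 = N1113 := rfl
theorem L5516 : sm gb N559 = N1114 := rfl
theorem L5518 : sm gf N1114 = N1114 := ded_16_2 (flp_b L5516) (flp_f L5211) L5213 L5211 L5516
theorem L5519 : sm gd N559 = N1115 := rfl
theorem L5521 : sm ga N1115 = N561 := ded_9_1 (flp_d L2851) (flp_a L2843) L5519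
theorem L5523 : sm gg N559 = N1116 := rfl
theorem L5525 : sm ga N1116 = N562 := ded_12_1 (flp_g L2855) (flp_a L2843) L5523
theorem L5527 : sm gc N1116 = N560 := ded_21_1 (flp_g L2845) L2841 L5523
theorem L5529 : sm gf N1116 = N1050 := ded_29_2 (flp_g L5219) (flp_a L5209) L5211 L5523
theorem L5531 : sm gb N560 = N1117 := rfl
theorem L5533 : sm gc N561 = N1118 := rfl
theorem L5535 : sm ge N561 = N1119 := rfl
theorem L5537 : sm gb N1119 = N583 := ded_15_1 (flp_e L2971) (flp_b L2853) L5535
theorem L5539 : sm gg N561 = N1120 := rfl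
theorem L5541 : sm gd N1120 = N562 := ded_24_1 (flp_g L2855) L2851 L5539
theorem L5543 : sm gb N562 = N1121 := rfl
theorem L5545 : sm gg N1121 = N585 := ded_17_2 (flp_b L2977) (flp_g L1510) (flp_b L1456) L2855 L5543
theorem L5547 : sm gf N562 = N1122 := rfl
theorem L5549 : sm ga N1122 = N1050 := ded_11_1 (flp_f L5529) L5525 L5547
theorem L5553 : sm gg N1122 = N1048 := ded_29_3 L5209 L2711 L2855 L5547
theorem L5555 : sm gb N563 = N1123 := rfl
theorem L5557 : sm ga N564 = N1124 := rfl
theorem L5559 : sm gb N1124 = N685 := ded_7_2 (flp_a L3452) (flp_b L1757) (flp_a L870) (flp_b L387) (flp_a L299) L695 L1460 L2865 L5557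
theorem L5561 : sm gc N564 = N1125 := rfl
theorem L5563 : sm gf N564 = N1126 := rfl
theorem L5565 : sm gg N564 = N1127 := rfl
theorem L5567 : sm gb N565 = N1128 := rfl
theorem L5569 : sm gd N565 = N1129 := rfl
theorem L5571 : sm ga N1129 = N567 := ded_9_1 (flp_d L2877) (flp_a L2869) L5569
theorem L5573 : sm gf N565 = N1130 := rfl
theorem L5575 : sm ga N1130 = N568 := ded_11_1 (flp_f L2881) (flp_a L2869) L5573
theorem L5577 : sm gc N1130 = N566 := ded_20_1 (flp_f L2871) L2867 L5573
theorem L5579 : sm gg N1058 = N1130 := ded_29_1 (flp_f L5573) (flp_g L5241) L5239 L5247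
theorem L5581 : sm gb N566 = N1131 := rfl
theorem L5583 : sm gc N567 = N1132 := rfl
theorem L5585 : sm ge N567 = N1133 := rfl
theorem L5587 : sm gb N1133 = N591 := ded_15_1 (flp_e L3001) (flp_b L2879) L5585
theorem L5589 : sm gf N567 = N1134 := rfl
theorem L5591 : sm gd N1134 = N568 := ded_23_1 (flp_f L2881) L2877 L5589
theorem L5593 : sm gb N568 = N1135 := rfl
theorem L5595 : sm gf N1135 = N593 := ded_16_2 (flp_b L3007) (flp_f L1538) (flp_b L1464) L2881 L5593
theorem L5597 : sm gg N568 = N1136 := rfl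
theorem L5599 : sm ga N1136 = N1058 := ded_12_1 L5579 L5575 L5597
theorem L5601 : sm gc N1136 = N569 := ded_21_1 (flp_g L2885) (flp_c L2883) L5597
theorem L5603 : sm gf N1056 = N1136 := ded_29_0 (flp_g L5597) (flp_f L2881) (flp_g L2723) (flp_a L5239)
theorem L5605 : sm gb N569 = N1137 := rfl
theorem L5607 : sm gc N570 = N1138 := rfl
theorem L5610 : sm ge N1138 = N580 := ded_19_2 (flp_c L2959) (flp_e L2894) L5607
theorem L5613 : sm gg N1138 = N810 := ded_21_2 (flp_c L4055) (flp_g L2897) L5607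
theorem L5615 : sm gb N571 = N1139 := rfl
theorem L5617 : sm ge N1139 = N581 := ded_15_2 (flp_b L2965) (flp_e L2904) L5615
theorem L5619 : sm gd N571 = N1140 := rfl
theorem L5621 : sm ga N1140 = N572 := ded_9_1 (flp_d L2906) (flp_a L2902) L5619
theorem L5623 : sm gc N572 = N1141 := rfl
theorem L5625 : sm ge N572 = N1142 := rfl
theorem L5627 : sm gd N1142 = N583 := ded_22_1 (flp_e L2971) (flp_d L1508) (flp_e L1475) L2906 L5625
theorem L5629 : sm gg N572 = N1143 := rfl
theorem L5631 : sm gd N1143 = N573 := ded_24_1 (flp_g L2908) L2906 L5629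
theorem L5633 : sm gb N573 = N1144 := rfl
theorem L5635 : sm ge N1144 = N585 := ded_15_2 (flp_b L2977) (flp_e L2912) L5633
theorem L5637 : sm gf N573 = N1145 := rfl
theorem L5639 : sm ga N1145 = N962 := ded_11_1 (flp_f L4805) L4801 L5637
theorem L5641 : sm gc N1145 = N574 := ded_20_1 (flp_f L2914) (flp_c L2910) L5637
theorem L5643 : sm ge N1145 = N586 := ded_25_1 (flp_f L2979) (flp_e L2912) L5637
theorem L5645 : sm gg N1145 = N597 := ded_29_3 L3030 L2452 L2908 L5637
theorem L5647 : sm gc N575 = N1146 := rfl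
theorem L5650 : sm ge N1146 = N587 := ded_19_2 (flp_c L2987) (flp_e L2928) L5647
theorem L5652 : sm gf N1146 = N811 := ded_20_2 (flp_c L4061) (flp_f L2930) L5647
theorem L5655 : sm gb N576 = N1147 := rfl
theorem L5657 : sm ge N1147 = N588 := ded_15_2 (flp_b L2993) (flp_e L2938) L5655
theorem L5659 : sm gd N576 = N1148 := rfl
theorem L5661 : sm ga N1148 = N577 := ded_9_1 (flp_d L2940) (flp_a L2936) L5659
theorem L5663 : sm gc N577 = N1149 := rfl
theorem L5665 : sm ge N577 = N1150 := rfl
theorem L5667 : sm gd N1150 = N591 := ded_22_1 (flp_e L3001) (flp_d L1536) (flp_e L1489) L2940 L5665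
theorem L5669 : sm gf N577 = N1151 := rfl
theorem L5671 : sm gd N1151 = N578 := ded_23_1 (flp_f L2942) L2940 L5669
theorem L5673 : sm gb N578 = N1152 := rfl
theorem L5675 : sm ge N1152 = N593 := ded_15_2 (flp_b L3007) (flp_e L2946) L5673
theorem L5677 : sm gg N578 = N1153 := rfl
theorem L5679 : sm ga N1153 = N966 := ded_12_1 L4797 L4773 L5677
theorem L5681 : sm gc N1153 = N579 := ded_21_1 (flp_g L2948) (flp_c L2944) L5677
theorem L5683 : sm ge N1153 = N594 := ded_26_1 (flp_g L3009) (flp_e L2946) L5677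
theorem L5685 : sm gf N964 = N1153 := ded_29_0 (flp_g L5677) (flp_f L2942) (flp_g L2480) (flp_a L4781)
theorem L5687 : sm gb N580 = N1154 := rfl
theorem L5689 : sm gc N1154 = N581 := ded_13_2 (flp_b L2965) (flp_c L1504) L1496 L2959 L5687
theorem L5691 : sm gd N580 = N1155 := rfl
theorem L5693 : sm ga N1155 = N1155 := ded_9_1 (flp_d L5691) L2961 L5691
theorem L5695 : sm gg N1155 = N812 := ded_24_2 (flp_d L4067) (flp_g L2963) L5691
theorem L5697 : sm gc N1155 = N859 := ded_28_0 (flp_d L4290) (flp_c L2225) L1111 (flp_c L730) (flp_d L1498) L2959 L5691 L5693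
theorem L5699 : sm ga N581 = N1156 := rfl
theorem L5701 : sm gd N581 = N1157 := rfl
theorem L5703 : sm gb N1157 = N582 := ded_14_1 (flp_d L2967) L2965 L5701
theorem L5705 : sm gf N581 = N1158 := rfl
theorem L5707 : sm gg N581 = N1159 := rfl
theorem L5709 : sm ge N582 = N1160 := rfl
theorem L5711 : sm ga N1160 = N583 := ded_10_1 (flp_e L2971) (flp_a L2969) L5709
theorem L5713 : sm gg N583 = N1161 := rfl
theorem L5715 : sm ge N1161 = N584 := ded_26_1 (flp_g L2973) L2971 L5713
theorem L5717 : sm gb N584 = N1162 := rfl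
theorem L5719 : sm gd N1162 = N585 := ded_14_2 (flp_b L2977) (flp_d L2975) L5717
theorem L5721 : sm gf N584 = N1163 := rfl
theorem L5723 : sm ga N1163 = N969 := ded_11_1 (flp_f L4860) L4858 L5721
theorem L5725 : sm gc N1163 = N978 := ded_20_1 L4860 L4817 L5721
theorem L5727 : sm gd N1163 = N586 := ded_23_1 (flp_f L2979) (flp_d L2975) L5721
theorem L5729 : sm gg N1163 = N596 := ded_29_3 L3022 L2504 L2973 L5721
theorem L5731 : sm ga N585 = N1164 := rfl
theorem L5733 : sm gf N585 = N1165 := rfl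
theorem L5735 : sm gb N586 = N1166 := rfl
theorem L5737 : sm gc N1166 = N707 := ded_13_2 (flp_b L3553) (flp_c L1816) L1522 (flp_c L2983) L5735
theorem L5739 : sm gb N587 = N1167 := rfl
theorem L5741 : sm gc N1167 = N588 := ded_13_2 (flp_b L2993) (flp_c L1532) L1524 L2987 L5739
theorem L5743 : sm gd N587 = N1168 := rfl
theorem L5751 : sm ga N588 = N1169 := rfl
theorem L5753 : sm gd N588 = N1170 := rfl
theorem L5755 : sm gb N1170 = N589 := ded_14_1 (flp_d L2995) L2993 L5753
theorem L5757 : sm gf N588 = N1171 := rfl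
theorem L5759 : sm gg N588 = N1172 := rfl
theorem L5761 : sm ge N589 = N1173 := rfl
theorem L5763 : sm ga N1173 = N591 := ded_10_1 (flp_e L3001) (flp_a L2997) L5761
theorem L5765 : sm gb N590 = N1174 := rfl
theorem L5767 : sm ge N590 = N1175 := rfl
theorem L5769 : sm gc N1175 = N591 := ded_19_1 (flp_e L3001) L2999 L5767
theorem L5771 : sm gf N590 = N1176 := rfl
theorem L5773 : sm gc N1176 = N592 := ded_20_1 (flp_f L3003) L2999 L5771
theorem L5775 : sm gd N1176 = N979 := ded_23_1 L4868 (flp_d L3040) L5771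
theorem L5777 : sm gf N591 = N1177 := rfl
theorem L5779 : sm ge N1177 = N592 := ded_25_1 (flp_f L3003) L3001 L5777
theorem L5781 : sm gb N592 = N1178 := rfl
theorem L5783 : sm gd N1178 = N593 := ded_14_2 (flp_b L3007) (flp_d L3005) L5781
theorem L5785 : sm gg N592 = N1179 := rfl
theorem L5787 : sm ga N1179 = N976 := ded_12_1 L4850 L4825 L5785
theorem L5789 : sm gd N1179 = N594 := ded_24_1 (flp_g L3009) (flp_d L3005) L5785
theorem L5791 : sm gf N973 = N1179 := ded_29_0 (flp_g L5785) (flp_f L3003) (flp_g L2526) (flp_a L4834)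
theorem L5793 : sm ga N593 = N1180 := rfl
theorem L5795 : sm gg N593 = N1181 := rfl
theorem L5797 : sm gb N594 = N1182 := rfl
theorem L5799 : sm gc N1182 = N714 := ded_13_2 (flp_b L3582) (flp_c L1836) L1550 (flp_c L3013) L5797
theorem L5801 : sm ga N595 = N1183 := rfl
theorem L5804 : sm gf N1183 = N595 := ded_30_4 L3019 (flp_b L3017) L1554 L1266 (flp_c L711) (flp_b L317) L141 (flp_f L88) L80 L82 (flp_a L132) L291 L295 L317 L707 (flp_f L742) L1552 L3017 L5801
theorem L5806 : sm gb N1158 = N1183 := ded_16_5 L5804 (flp_b L3017) L1556 L2965 L5705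
theorem L5808 : sm gd N595 = N1184 := rfl
theorem L5810 : sm gb N1184 = N596 := ded_14_1 (flp_d L3020) L3017 L5808
theorem L5812 : sm ge N595 = N1185 := rfl
theorem L5814 : sm gb N1185 = N597 := ded_15_1 (flp_e L3028) L3017 L5812
theorem L5816 : sm gc N1185 = N1185 := ded_19_1 (flp_e L5812) L3019 L5812
theorem L5817 : sm gg N595 = N1186 := rfl
theorem L5819 : sm gc N1186 = N1186 := ded_21_1 (flp_g L5817) L3019 L5817
theorem L5820 : sm gf N1186 = N1186 := ded_29_2 (flp_g L5817) L5801 L5804 L5817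
theorem L5821 : sm ge N596 = N1187 := rfl
theorem L5823 : sm ga N1187 = N968 := ded_10_1 (flp_e L4809) (flp_a L3022) L5821
theorem L5825 : sm gc N1187 = N1160 := ded_19_1 (flp_e L5709) L3026 L5821
theorem L5827 : sm gf N1187 = N1160 := ded_25_2 (flp_e L5709) (flp_f L3024) L5821
theorem L5829 : sm gd N597 = N1188 := rfl
theorem L5831 : sm ga N1188 = N961 := ded_9_1 (flp_d L4761) (flp_a L3030) L5829
theorem L5833 : sm gf N1188 = N1140 := ded_23_2 (flp_d L5619) (flp_f L3034) L5829
theorem L5835 : sm gb N598 = N1189 := rfl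
theorem L5837 : sm gd N1189 = N1174 := ded_14_2 (flp_b L5765) L3040 L5835
theorem L5839 : sm gc N1189 = N771 := ded_13_2 (flp_b L3877) L1997 (flp_b L1570) L3036 L5835
theorem L5841 : sm ge N598 = N1190 := rfl
theorem L5843 : sm ga N1190 = N602 := ded_10_1 (flp_e L3058) (flp_a L3038) L5841
theorem L5845 : sm gc N1190 = N599 := ded_19_1 (flp_e L3042) L3036 L5841
theorem L5847 : sm ga N600 = N1191 := rfl
theorem L5850 : sm gd N600 = N1192 := rfl
theorem L5852 : sm gb N1192 = N601 := ded_14_1 (flp_d L3052) L3049 L5850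
theorem L5854 : sm ge N600 = N1193 := rfl
theorem L5856 : sm gb N1193 = N602 := ded_15_1 (flp_e L3058) L3049 L5854
theorem L5858 : sm gc N1193 = N1193 := ded_19_1 (flp_e L5854) L3051 L5854
theorem L5859 : sm gf N600 = N1194 := rfl
theorem L5861 : sm gc N1194 = N1194 := ded_20_1 (flp_f L5859) L3051 L5859
theorem L5862 : sm gg N600 = N1195 := rfl
theorem L5865 : sm ge N601 = N1196 := rfl
theorem L5867 : sm ga N1196 = N1175 := ded_10_1 (flp_e L5767) (flp_a L3054) L5865
theorem L5869 : sm gc N1196 = N1173 := ded_19_1 (flp_e L5761) L3056 L5865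
theorem L5871 : sm gf N601 = N1197 := rfl
theorem L5875 : sm gc N1197 = N971 := ded_20_1 L4827 L3056 L5871
theorem L5877 : sm gd N1197 = N603 := ded_23_1 (flp_f L3062) L3052 L5871
theorem L5879 : sm gd N602 = N1198 := rfl
theorem L5881 : sm gf N602 = N1199 := rfl
theorem L5885 : sm ge N1199 = N603 := ded_25_1 (flp_f L3062) L3058 L5881
theorem L5887 : sm gb N603 = N1200 := rfl
theorem L5889 : sm gg N603 = N1201 := rfl
theorem L5895 : sm gf N981 = N1201 := ded_29_0 (flp_g L5889) (flp_f L3062) (flp_g L2560) (flp_a L4883)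
theorem L5897 : sm gb N604 = N1202 := rfl
theorem L5900 : sm ge N1202 = N605 := ded_15_2 (flp_b L3071) (flp_e L3069) L5897
theorem L5903 : sm gg N604 = N1203 := rfl
theorem L5905 : sm ga N1203 = N858 := ded_12_1 (flp_g L4878) L4874 L5903
theorem L5910 : sm gf N982 = N1203 := ded_29_0 (flp_g L5903) (flp_f L3066) (flp_g L2564) (flp_a L4891)
theorem L5912 : sm ga N605 = N1204 := rfl
theorem L5914 : sm gd N1204 = N607 := ded_9_2 (flp_a L3084) (flp_d L3073) L5912
theorem L5917 : sm gb N760 = N1204 := ded_14_3 L5914 (flp_b L3088) (flp_d L3819)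
theorem L5922 : sm gg N605 = N1206 := rfl
theorem L5924 : sm gd N1206 = N608 := ded_24_1 (flp_g L3090) (flp_d L3073) L5922
theorem L5930 : sm gb N608 = N1208 := rfl
theorem L5933 : sm gg N1208 = N609 := ded_17_2 (flp_b L3093) (flp_g L1586) L1582 L3090 L5930
theorem L5935 : sm ga N1208 = N609 := ded_7_1 (flp_b L3093) L1588 (flp_b L1150) L537 L1135 L2251 L4316 (flp_a L4323) L5930
theorem L5937 : sm gc N733 = N1208 := ded_21_3 L5933 L3096 (flp_g L3843)
theorem L5939 : sm ga N610 = N1209 := rfl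
theorem L5941 : sm gc N1209 = N1209 := ded_8_2 (flp_a L5939) L3102 L5939
theorem L5942 : sm ge N1209 = N644 := ded_10_2 (flp_a L3272) (flp_e L3100) L5939
theorem L5944 : sm gd N610 = N1210 := rfl
theorem L5946 : sm gb N1210 = N611 := ded_14_1 (flp_d L3103) L3098 L5944
theorem L5948 : sm gf N610 = N1211 := rfl
theorem L5950 : sm gc N1211 = N1211 := ded_20_1 (flp_f L5948) L3102 L5948
theorem L5951 : sm ge N1211 = N645 := ded_25_1 (flp_f L3275) (flp_e L3100) L5948
theorem L5953 : sm gg N610 = N1212 := rfl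
theorem L5955 : sm gc N1212 = N1212 := ded_21_1 (flp_g L5953) L3102 L5953
theorem L5956 : sm ge N1212 = N646 := ded_26_1 (flp_g L3278) (flp_e L3100) L5953
theorem L5958 : sm gf N611 = N1213 := rfl
theorem L5960 : sm gc N1213 = N1213 := ded_20_1 (flp_f L5958) L3105 L5958
theorem L5961 : sm gd N1213 = N612 := ded_23_1 (flp_f L3106) L3103 L5958
theorem L5963 : sm gg N611 = N1214 := rfl
theorem L5965 : sm gc N1214 = N1214 := ded_21_1 (flp_g L5963) L3105 L5963
theorem L5966 : sm gd N1214 = N613 := ded_24_1 (flp_g L3112) L3103 L5963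
theorem L5968 : sm gb N612 = N1215 := rfl
theorem L5970 : sm ge N1215 = N647 := ded_15_2 (flp_b L3281) (flp_e L3110) L5968
theorem L5972 : sm gg N612 = N1216 := rfl
theorem L5974 : sm gc N1216 = N615 := ded_21_1 (flp_g L3125) (flp_c L3108) L5972
theorem L5976 : sm ge N1216 = N648 := ded_26_1 (flp_g L3283) (flp_e L3110) L5972
theorem L5978 : sm gf N1066 = N1216 := ded_29_0 (flp_g L5972) (flp_f L3106) L3112 (flp_a L5284)
theorem L5980 : sm gb N613 = N1217 := rfl
theorem L5982 : sm ge N1217 = N649 := ded_15_2 (flp_b L3289) (flp_e L3116) L5980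
theorem L5984 : sm gf N613 = N1218 := rfl
theorem L5986 : sm ga N1218 = N1216 := ded_11_1 (flp_f L5978) L5284 L5984
theorem L5988 : sm gc N1218 = N617 := ded_20_1 (flp_f L3140) (flp_c L3114) L5984
theorem L5990 : sm ge N1218 = N650 := ded_25_1 (flp_f L3291) (flp_e L3116) L5984
theorem L5992 : sm gg N1218 = N1065 := ded_29_3 L5276 (flp_f L3106) L3112 L5984
theorem L5994 : sm ga N614 = N1219 := rfl
theorem L5996 : sm gd N1219 = N618 := ded_9_2 (flp_a L3150) (flp_d L3120) L5994
theorem L5998 : sm ge N1219 = N651 := ded_10_2 (flp_a L3301) (flp_e L3122) L5994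
theorem L6000 : sm gf N1219 = N1219 := ded_11_2 (flp_a L5994) L3124 L5994
theorem L6001 : sm gc N614 = N1220 := rfl
theorem L6003 : sm ge N1220 = N652 := ded_19_2 (flp_c L3306) (flp_e L3122) L6001
theorem L6005 : sm gf N1220 = N1220 := ded_20_2 (flp_c L6001) L3124 L6001
theorem L6006 : sm gg N614 = N1221 := rfl
theorem L6010 : sm ge N1221 = N653 := ded_26_1 (flp_g L3309) (flp_e L3122) L6006
theorem L6012 : sm gb N615 = N1222 := rfl
theorem L6014 : sm gd N1222 = N621 := ded_14_2 (flp_b L3164) (flp_d L3127) L6012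
theorem L6016 : sm ge N1222 = N654 := ded_15_2 (flp_b L3313) (flp_e L3129) L6012
theorem L6018 : sm ga N616 = N1223 := rfl
theorem L6020 : sm gd N1223 = N622 := ded_9_2 (flp_a L3168) (flp_d L3135) L6018
theorem L6022 : sm ge N1223 = N655 := ded_10_2 (flp_a L3317) (flp_e L3137) L6018
theorem L6024 : sm gg N1223 = N1223 := ded_12_2 (flp_a L6018) L3139 L6018
theorem L6025 : sm gc N616 = N1224 := rfl
theorem L6027 : sm ge N1224 = N656 := ded_19_2 (flp_c L3322) (flp_e L3137) L6025
theorem L6029 : sm gg N1224 = N1224 := ded_21_2 (flp_c L6025) L3139 L6025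
theorem L6030 : sm gf N616 = N1225 := rfl
theorem L6032 : sm gd N1225 = N624 := ded_23_1 (flp_f L3178) (flp_d L3135) L6030
theorem L6034 : sm ge N1225 = N657 := ded_25_1 (flp_f L3325) (flp_e L3137) L6030
theorem L6036 : sm gb N617 = N1226 := rfl
theorem L6038 : sm gd N1226 = N625 := ded_14_2 (flp_b L3182) (flp_d L3144) L6036
theorem L6040 : sm ge N1226 = N658 := ded_15_2 (flp_b L3329) (flp_e L3146) L6036
theorem L6042 : sm gb N618 = N1227 := rfl
theorem L6044 : sm ge N1227 = N626 := ded_15_2 (flp_b L3186) (flp_e L3152) L6042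
theorem L6046 : sm gc N618 = N1228 := rfl
theorem L6048 : sm ga N1228 = N619 := ded_8_1 (flp_c L3155) L3150 L6046
theorem L6050 : sm ge N1228 = N627 := ded_19_2 (flp_c L3190) (flp_e L3152) L6046
theorem L6053 : sm gg N618 = N1229 := rfl
theorem L6055 : sm ga N1229 = N620 := ded_12_1 (flp_g L3160) L3150 L6053
theorem L6057 : sm ge N1229 = N628 := ded_26_1 (flp_g L3195) (flp_e L3152) L6053
theorem L6059 : sm gf N620 = N1229 := ded_29_0 (flp_g L6053) L3154 L6053 L6055
theorem L6061 : sm gd N619 = N1230 := rfl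
theorem L6064 : sm gg N619 = N1231 := rfl
theorem L6070 : sm gb N620 = N1232 := rfl
theorem L6072 : sm ge N1232 = N631 := ded_15_2 (flp_b L3210) (flp_e L3162) L6070
theorem L6074 : sm gg N1232 = N621 := ded_17_2 (flp_b L3164) (flp_g L1616) L1611 L3160 L6070
theorem L6076 : sm ga N621 = N1233 := rfl
theorem L6078 : sm ge N1233 = N632 := ded_10_2 (flp_a L3216) (flp_e L3166) L6076
theorem L6080 : sm gc N621 = N1234 := rfl
theorem L6082 : sm ge N1234 = N633 := ded_19_2 (flp_c L3220) (flp_e L3166) L6080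
theorem L6084 : sm gf N621 = N1235 := rfl
theorem L6086 : sm ge N1235 = N634 := ded_25_1 (flp_f L3222) (flp_e L3166) L6084
theorem L6088 : sm gb N1235 = N1074 := ded_16_1 (flp_f L5326) (flp_b L2755) L1620 L3164 L6084
theorem L6090 : sm gb N622 = N1236 := rfl
theorem L6094 : sm gc N622 = N1237 := rfl
theorem L6096 : sm ga N1237 = N623 := ded_8_1 (flp_c L3173) L3168 L6094
theorem L6101 : sm gf N622 = N1238 := rfl
theorem L6103 : sm ga N1238 = N624 := ded_11_1 (flp_f L3178) L3168 L6101
theorem L6105 : sm ge N1238 = N637 := ded_25_1 (flp_f L3237) (flp_e L3170) L6101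
theorem L6107 : sm gg N1238 = N624 := ded_29_3 (flp_a L6103) (flp_f L6101) L3172 L6101
theorem L6109 : sm gd N623 = N1239 := rfl
theorem L6112 : sm gf N623 = N1240 := rfl
theorem L6114 : sm gc N1240 = N624 := ded_20_1 (flp_f L3178) L3173 L6112
theorem L6116 : sm ge N1240 = N639 := ded_25_1 (flp_f L3248) (flp_e L3175) L6112
theorem L6118 : sm gb N624 = N1241 := rfl
theorem L6120 : sm ge N1241 = N640 := ded_15_2 (flp_b L3252) (flp_e L3180) L6118
theorem L6122 : sm gf N1241 = N625 := ded_16_2 (flp_b L3182) (flp_f L1627) L1622 L3178 L6118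
theorem L6124 : sm ga N625 = N1242 := rfl
theorem L6126 : sm ge N1242 = N641 := ded_10_2 (flp_a L3258) (flp_e L3184) L6124
theorem L6128 : sm gc N625 = N1243 := rfl
theorem L6130 : sm ge N1243 = N642 := ded_19_2 (flp_c L3262) (flp_e L3184) L6128
theorem L6134 : sm gg N625 = N1244 := rfl
theorem L6136 : sm ge N1244 = N643 := ded_26_1 (flp_g L3266) (flp_e L3184) L6134
theorem L6138 : sm gb N1244 = N1071 := ded_17_1 (flp_g L5312) (flp_b L2751) (flp_g L1635) L3182 L6134
theorem L6140 : sm ga N626 = N1245 := rfl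
theorem L6142 : sm gd N1245 = N671 := ded_9_2 (flp_a L3403) (flp_d L3188) L6140
theorem L6144 : sm gc N626 = N1246 := rfl
theorem L6146 : sm gf N626 = N1247 := rfl
theorem L6151 : sm gg N626 = N1248 := rfl
theorem L6155 : sm gb N627 = N1249 := rfl
theorem L6157 : sm gd N627 = N1250 := rfl
theorem L6159 : sm ga N1250 = N629 := ded_9_1 (flp_d L3203) (flp_a L3192) L6157
theorem L6162 : sm gc N629 = N1250 := ded_28_0 (flp_d L6157) (flp_c L3190) L1639 L863 (flp_d L1639) L3190 L6157 L6159
theorem L6164 : sm gg N627 = N1251 := rfl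
theorem L6172 : sm gb N628 = N1252 := rfl
theorem L6174 : sm gd N1252 = N675 := ded_14_2 (flp_b L3413) (flp_d L3199) L6172
theorem L6176 : sm ge N629 = N1253 := rfl
theorem L6179 : sm gg N629 = N1254 := rfl
theorem L6181 : sm gd N1254 = N630 := ded_24_1 (flp_g L3206) L3203 L6179
theorem L6183 : sm gb N630 = N1255 := rfl
theorem L6185 : sm ga N631 = N1256 := rfl
theorem L6187 : sm gd N1256 = N676 := ded_9_2 (flp_a L3415) (flp_d L3212) L6185
theorem L6189 : sm gg N1256 = N632 := ded_12_2 (flp_a L3216) (flp_g L3214) L6185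
theorem L6191 : sm gc N631 = N1257 := rfl
theorem L6193 : sm gg N1257 = N633 := ded_21_2 (flp_c L3220) (flp_g L3214) L6191
theorem L6195 : sm gf N631 = N1258 := rfl
theorem L6199 : sm gb N632 = N1259 := rfl
theorem L6201 : sm gd N1259 = N679 := ded_14_2 (flp_b L3426) (flp_d L3218) L6199
theorem L6203 : sm gc N632 = N1260 := rfl
theorem L6205 : sm ga N1260 = N633 := ded_8_1 (flp_c L3220) L3216 L6203
theorem L6207 : sm gf N632 = N1261 := rfl
theorem L6209 : sm ga N1261 = N634 := ded_11_1 (flp_f L3222) L3216 L6207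
theorem L6211 : sm gd N1261 = N681 := ded_23_1 (flp_f L3432) (flp_d L3218) L6207
theorem L6213 : sm gg N1258 = N1261 := ded_29_1 (flp_f L6207) (flp_g L6189) (flp_a L6185) L6195
theorem L6215 : sm gd N633 = N1262 := rfl
theorem L6217 : sm gf N633 = N1263 := rfl
theorem L6219 : sm gc N1263 = N634 := ded_20_1 (flp_f L3222) L3220 L6217
theorem L6221 : sm gg N634 = N1264 := rfl
theorem L6223 : sm ga N1264 = N1258 := ded_12_1 L6213 L6209 L6221
theorem L6225 : sm gd N1264 = N684 := ded_24_1 (flp_g L3446) (flp_d L3224) L6221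
theorem L6227 : sm gf N1256 = N1264 := ded_29_0 (flp_g L6221) (flp_f L3222) (flp_g L3214) L6185
theorem L6229 : sm ga N635 = N1265 := rfl
theorem L6231 : sm gd N1265 = N685 := ded_9_2 (flp_a L3452) (flp_d L3230) L6229
theorem L6233 : sm gc N635 = N1266 := rfl
theorem L6235 : sm gf N635 = N1267 := rfl
theorem L6237 : sm gd N1267 = N687 := ded_23_1 (flp_f L3457) (flp_d L3230) L6235
theorem L6239 : sm gg N635 = N1268 := rfl
theorem L6241 : sm gd N1268 = N688 := ded_24_1 (flp_g L3459) (flp_d L3230) L6239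
theorem L6244 : sm gb N636 = N1269 := rfl
theorem L6246 : sm gd N636 = N1270 := rfl
theorem L6248 : sm ga N1270 = N638 := ded_9_1 (flp_d L3245) (flp_a L3234) L6246
theorem L6251 : sm gc N638 = N1270 := ded_28_0 (flp_d L6246) (flp_c L3232) L1655 L872 (flp_d L1655) L3232 L6246 L6248
theorem L6253 : sm gf N636 = N1271 := rfl
theorem L6255 : sm ga N1271 = N639 := ded_11_1 (flp_f L3248) (flp_a L3234) L6253
theorem L6259 : sm gg N1271 = N639 := ded_29_3 (flp_a L6255) (flp_f L6253) L3236 L6253
theorem L6261 : sm gb N637 = N1272 := rfl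
theorem L6263 : sm gd N1272 = N689 := ded_14_2 (flp_b L3462) (flp_d L3241) L6261
theorem L6265 : sm ge N638 = N1273 := rfl
theorem L6268 : sm gf N638 = N1274 := rfl
theorem L6272 : sm gb N639 = N1275 := rfl
theorem L6274 : sm ga N640 = N1276 := rfl
theorem L6276 : sm gd N1276 = N690 := ded_9_2 (flp_a L3464) (flp_d L3254) L6274
theorem L6278 : sm gf N1276 = N641 := ded_11_2 (flp_a L3258) (flp_f L3256) L6274
theorem L6280 : sm gc N640 = N1277 := rfl
theorem L6282 : sm gf N1277 = N642 := ded_20_2 (flp_c L3262) (flp_f L3256) L6280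
theorem L6284 : sm gg N640 = N1278 := rfl
theorem L6288 : sm gb N641 = N1279 := rfl
theorem L6290 : sm gd N1279 = N693 := ded_14_2 (flp_b L3475) (flp_d L3260) L6288
theorem L6292 : sm gc N641 = N1280 := rfl
theorem L6294 : sm ga N1280 = N642 := ded_8_1 (flp_c L3262) L3258 L6292
theorem L6296 : sm gg N641 = N1281 := rfl
theorem L6298 : sm ga N1281 = N643 := ded_12_1 (flp_g L3266) L3258 L6296
theorem L6300 : sm gd N1281 = N695 := ded_24_1 (flp_g L3481) (flp_d L3260) L6296
theorem L6302 : sm gf N1281 = N1278 := ded_29_2 (flp_g L6284) L6274 L6278 L6296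
theorem L6304 : sm gd N642 = N1282 := rfl
theorem L6306 : sm gb N1282 = N1262 := ded_14_1 (flp_d L6215) (flp_b L3264) L6304
theorem L6308 : sm gg N642 = N1283 := rfl
theorem L6310 : sm gc N1283 = N643 := ded_21_1 (flp_g L3266) L3262 L6308
theorem L6312 : sm gf N643 = N1284 := rfl
theorem L6320 : sm gb N644 = N1285 := rfl
theorem L6322 : sm gf N644 = N1286 := rfl
theorem L6324 : sm ga N1286 = N645 := ded_11_1 (flp_f L3275) L3272 L6322
theorem L6326 : sm gc N1286 = N1286 := ded_20_1 (flp_f L6322) L3274 L6322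
theorem L6327 : sm gg N644 = N1287 := rfl
theorem L6329 : sm ga N1287 = N646 := ded_12_1 (flp_g L3278) L3272 L6327
theorem L6331 : sm gc N1287 = N1287 := ded_21_1 (flp_g L6327) L3274 L6327
theorem L6332 : sm gb N645 = N1288 := rfl
theorem L6334 : sm gf N1288 = N647 := ded_16_2 (flp_b L3281) (flp_f L1672) L1669 L3275 L6332
theorem L6336 : sm gg N645 = N1289 := rfl
theorem L6338 : sm gc N1289 = N1289 := ded_21_1 (flp_g L6336) L3277 L6336
theorem L6339 : sm gf N1287 = N1289 := ded_29_0 (flp_g L6336) (flp_f L3275) L3278 (flp_a L6329)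
theorem L6341 : sm gb N646 = N1290 := rfl
theorem L6343 : sm gg N1290 = N649 := ded_17_2 (flp_b L3289) (flp_g L1676) L1669 L3278 L6341
theorem L6345 : sm gf N646 = N1291 := rfl
theorem L6347 : sm ga N1291 = N1289 := ded_11_1 (flp_f L6339) L6329 L6345
theorem L6349 : sm gc N1291 = N1291 := ded_20_1 (flp_f L6345) L3280 L6345
theorem L6350 : sm gg N1291 = N1286 := ded_29_3 L6324 (flp_f L3275) L3278 L6345
theorem L6352 : sm ga N647 = N1292 := rfl
theorem L6354 : sm gc N647 = N1293 := rfl
theorem L6356 : sm gb N1293 = N652 := ded_13_1 (flp_c L3306) (flp_b L1680) (flp_c L1674) L3281 L6354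
theorem L6358 : sm gg N647 = N1294 := rfl
theorem L6360 : sm gb N648 = N1295 := rfl
theorem L6362 : sm ga N649 = N1296 := rfl
theorem L6364 : sm gc N649 = N1297 := rfl
theorem L6366 : sm gb N1297 = N656 := ded_13_1 (flp_c L3322) (flp_b L1691) (flp_c L1678) L3289 L6364
theorem L6368 : sm gf N649 = N1298 := rfl
theorem L6370 : sm gb N650 = N1299 := rfl
theorem L6372 : sm gd N1299 = N1295 := ded_14_2 (flp_b L6360) (flp_d L3297) L6370
theorem L6374 : sm gb N651 = N1300 := rfl
theorem L6376 : sm gd N1300 = N659 := ded_14_2 (flp_b L3333) (flp_d L3303) L6374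
theorem L6378 : sm gc N651 = N1301 := rfl
theorem L6380 : sm ga N1301 = N652 := ded_8_1 (flp_c L3306) L3301 L6378
theorem L6382 : sm gf N1301 = N1301 := ded_20_2 (flp_c L6378) L3305 L6378
theorem L6383 : sm gg N651 = N1302 := rfl
theorem L6385 : sm ga N1302 = N653 := ded_12_1 (flp_g L3309) L3301 L6383
theorem L6389 : sm gf N653 = N1302 := ded_29_0 (flp_g L6383) L3305 L6383 L6385
theorem L6391 : sm gd N652 = N1303 := rfl
theorem L6393 : sm gf N1303 = N1303 := ded_23_2 (flp_d L6391) L3308 L6391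
theorem L6394 : sm gg N652 = N1304 := rfl
theorem L6396 : sm gc N1304 = N653 := ded_21_1 (flp_g L3309) L3306 L6394
theorem L6398 : sm gb N653 = N1305 := rfl
theorem L6400 : sm gd N1305 = N661 := ded_14_2 (flp_b L3346) (flp_d L3311) L6398
theorem L6402 : sm gg N1305 = N654 := ded_17_2 (flp_b L3313) (flp_g L1685) L1680 L3309 L6398
theorem L6404 : sm ga N654 = N1306 := rfl
theorem L6406 : sm gd N1306 = N662 := ded_9_2 (flp_a L3352) (flp_d L3315) L6404
theorem L6408 : sm gc N654 = N1307 := rfl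
theorem L6410 : sm gf N654 = N1308 := rfl
theorem L6414 : sm gb N1308 = N1097 := ded_16_1 (flp_f L5430) (flp_b L2807) L1689 L3313 L6410
theorem L6416 : sm gb N655 = N1309 := rfl
theorem L6418 : sm gd N1309 = N665 := ded_14_2 (flp_b L3368) (flp_d L3319) L6416
theorem L6420 : sm gc N655 = N1310 := rfl
theorem L6422 : sm ga N1310 = N656 := ded_8_1 (flp_c L3322) L3317 L6420
theorem L6424 : sm gg N1310 = N1310 := ded_21_2 (flp_c L6420) L3321 L6420
theorem L6425 : sm gf N655 = N1311 := rfl
theorem L6427 : sm ga N1311 = N657 := ded_11_1 (flp_f L3325) L3317 L6425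
theorem L6429 : sm gd N1311 = N666 := ded_23_1 (flp_f L3372) (flp_d L3319) L6425
theorem L6431 : sm gg N1311 = N657 := ded_29_3 (flp_a L6427) (flp_f L6425) L3321 L6425
theorem L6433 : sm gd N656 = N1312 := rfl
theorem L6435 : sm gg N1312 = N1312 := ded_24_2 (flp_d L6433) L3324 L6433
theorem L6436 : sm gf N656 = N1313 := rfl
theorem L6438 : sm gc N1313 = N657 := ded_20_1 (flp_f L3325) L3322 L6436
theorem L6440 : sm gb N657 = N1314 := rfl
theorem L6442 : sm gd N1314 = N667 := ded_14_2 (flp_b L3381) (flp_d L3327) L6440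
theorem L6444 : sm gf N1314 = N658 := ded_16_2 (flp_b L3329) (flp_f L1696) L1691 L3325 L6440
theorem L6446 : sm ga N658 = N1315 := rfl
theorem L6448 : sm gd N1315 = N668 := ded_9_2 (flp_a L3387) (flp_d L3331) L6446
theorem L6450 : sm gc N658 = N1316 := rfl
theorem L6452 : sm gg N658 = N1317 := rfl
theorem L6456 : sm gb N1317 = N1094 := ded_17_1 (flp_g L5420) (flp_b L2803) (flp_g L1702) L3329 L6452
theorem L6458 : sm ga N659 = N1318 := rfl
theorem L6460 : sm ge N1318 = N671 := ded_10_2 (flp_a L3403) (flp_e L3335) L6458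
theorem L6462 : sm gc N659 = N1319 := rfl
theorem L6464 : sm ge N1319 = N672 := ded_19_2 (flp_c L3405) (flp_e L3335) L6462
theorem L6467 : sm gf N659 = N1320 := rfl
theorem L6472 : sm gg N659 = N1321 := rfl
theorem L6474 : sm ge N1321 = N674 := ded_26_1 (flp_g L3411) (flp_e L3335) L6472
theorem L6476 : sm gb N660 = N1322 := rfl
theorem L6478 : sm ge N1322 = N675 := ded_15_2 (flp_b L3413) (flp_e L3342) L6476
theorem L6480 : sm ga N661 = N1323 := rfl
theorem L6482 : sm ge N1323 = N676 := ded_10_2 (flp_a L3415) (flp_e L3348) L6480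
theorem L6484 : sm gg N1323 = N662 := ded_12_2 (flp_a L3352) (flp_g L3350) L6480
theorem L6486 : sm gc N661 = N1324 := rfl
theorem L6488 : sm ge N1324 = N677 := ded_19_2 (flp_c L3419) (flp_e L3348) L6486
theorem L6490 : sm gg N1324 = N663 := ded_21_2 (flp_c L3356) (flp_g L3350) L6486
theorem L6492 : sm gb N1324 = N1324 := ded_13_1 (flp_c L6486) (flp_b L3346) L1712 L3346 L6486
theorem L6493 : sm gf N661 = N1325 := rfl
theorem L6497 : sm gb N662 = N1326 := rfl
theorem L6499 : sm ge N1326 = N679 := ded_15_2 (flp_b L3426) (flp_e L3354) L6497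
theorem L6501 : sm gc N662 = N1327 := rfl
theorem L6503 : sm ga N1327 = N663 := ded_8_1 (flp_c L3356) L3352 L6501
theorem L6505 : sm ge N1327 = N680 := ded_19_2 (flp_c L3428) (flp_e L3354) L6501
theorem L6507 : sm gf N662 = N1328 := rfl
theorem L6511 : sm ge N1328 = N681 := ded_25_1 (flp_f L3432) (flp_e L3354) L6507
theorem L6513 : sm gg N1325 = N1328 := ded_29_1 (flp_f L6507) (flp_g L6484) (flp_a L6480) L6493
theorem L6515 : sm gd N663 = N1329 := rfl
theorem L6517 : sm gb N1329 = N701 := ded_14_1 (flp_d L3517) (flp_b L3360) L6515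
theorem L6519 : sm gf N663 = N1330 := rfl
theorem L6521 : sm gc N1330 = N664 := ded_20_1 (flp_f L3362) L3356 L6519
theorem L6523 : sm ge N1330 = N683 := ded_25_1 (flp_f L3442) (flp_e L3358) L6519
theorem L6525 : sm gg N664 = N1331 := rfl
theorem L6533 : sm ga N665 = N1332 := rfl
theorem L6535 : sm ge N1332 = N685 := ded_10_2 (flp_a L3452) (flp_e L3370) L6533
theorem L6537 : sm gc N665 = N1333 := rfl
theorem L6539 : sm ge N1333 = N686 := ded_19_2 (flp_c L3454) (flp_e L3370) L6537
theorem L6541 : sm gb N1333 = N1333 := ded_13_1 (flp_c L6537) (flp_b L3368) L1721 L3368 L6537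
theorem L6542 : sm gf N665 = N1334 := rfl
theorem L6544 : sm ge N1334 = N687 := ded_25_1 (flp_f L3457) (flp_e L3370) L6542
theorem L6546 : sm gg N665 = N1335 := rfl
theorem L6548 : sm ge N1335 = N688 := ded_26_1 (flp_g L3459) (flp_e L3370) L6546
theorem L6551 : sm gb N666 = N1336 := rfl
theorem L6553 : sm ge N1336 = N689 := ded_15_2 (flp_b L3462) (flp_e L3377) L6551
theorem L6555 : sm ga N667 = N1337 := rfl
theorem L6557 : sm ge N1337 = N690 := ded_10_2 (flp_a L3464) (flp_e L3383) L6555
theorem L6559 : sm gf N1337 = N668 := ded_11_2 (flp_a L3387) (flp_f L3385) L6555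
theorem L6561 : sm gc N667 = N1338 := rfl
theorem L6563 : sm ge N1338 = N691 := ded_19_2 (flp_c L3468) (flp_e L3383) L6561
theorem L6565 : sm gf N1338 = N669 := ded_20_2 (flp_c L3391) (flp_f L3385) L6561
theorem L6567 : sm gb N1338 = N1338 := ded_13_1 (flp_c L6561) (flp_b L3381) L1727 L3381 L6561
theorem L6568 : sm gg N667 = N1339 := rfl
theorem L6570 : sm ge N1339 = N692 := ded_26_1 (flp_g L3473) (flp_e L3383) L6568
theorem L6572 : sm gb N668 = N1340 := rfl
theorem L6574 : sm ge N1340 = N693 := ded_15_2 (flp_b L3475) (flp_e L3389) L6572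
theorem L6576 : sm gc N668 = N1341 := rfl
theorem L6578 : sm ga N1341 = N669 := ded_8_1 (flp_c L3391) L3387 L6576
theorem L6580 : sm ge N1341 = N694 := ded_19_2 (flp_c L3477) (flp_e L3389) L6576
theorem L6582 : sm gg N668 = N1342 := rfl
theorem L6584 : sm ga N1342 = N670 := ded_12_1 (flp_g L3397) L3387 L6582
theorem L6586 : sm ge N1342 = N695 := ded_26_1 (flp_g L3481) (flp_e L3389) L6582
theorem L6588 : sm gf N1342 = N1339 := ded_29_2 (flp_g L6568) L6555 L6559 L6582
theorem L6590 : sm gd N669 = N1343 := rfl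
theorem L6592 : sm gb N1343 = N705 := ded_14_1 (flp_d L3544) (flp_b L3395) L6590
theorem L6594 : sm gg N669 = N1344 := rfl
theorem L6596 : sm gc N1344 = N670 := ded_21_1 (flp_g L3397) L3391 L6594
theorem L6598 : sm ge N1344 = N697 := ded_26_1 (flp_g L3491) (flp_e L3393) L6594
theorem L6600 : sm gf N670 = N1345 := rfl
theorem L6604 : sm ge N1345 = N698 := ded_25_1 (flp_f L3495) (flp_e L3399) L6600
theorem L6606 : sm gg N1345 = N1337 := ded_29_3 (flp_a L6555) L3385 L3397 L6600
theorem L6608 : sm gc N671 = N1346 := rfl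
theorem L6610 : sm ga N1346 = N672 := ded_8_1 (flp_c L3405) L3403 L6608
theorem L6612 : sm gf N671 = N1347 := rfl
theorem L6614 : sm ga N1347 = N673 := ded_11_1 (flp_f L3408) L3403 L6612
theorem L6616 : sm gg N671 = N1348 := rfl
theorem L6618 : sm ga N1348 = N674 := ded_12_1 (flp_g L3411) L3403 L6616
theorem L6620 : sm gd N672 = N1349 := rfl
theorem L6623 : sm gf N672 = N1350 := rfl
theorem L6627 : sm gg N672 = N1351 := rfl
theorem L6631 : sm gg N673 = N1352 := rfl
theorem L6633 : sm gf N1348 = N1352 := ded_29_0 (flp_g L6631) (flp_f L3408) L3411 (flp_a L6618)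
theorem L6635 : sm gb N674 = N1353 := rfl
theorem L6637 : sm gg N1353 = N675 := ded_17_2 (flp_b L3413) (flp_g L1736) L1734 L3411 L6635
theorem L6639 : sm gf N674 = N1354 := rfl
theorem L6641 : sm ga N1354 = N1352 := ded_11_1 (flp_f L6633) L6618 L6639
theorem L6643 : sm gg N1354 = N1347 := ded_29_3 L6614 (flp_f L3408) L3411 L6639
theorem L6645 : sm ga N675 = N1355 := rfl
theorem L6650 : sm gf N675 = N1357 := rfl
theorem L6652 : sm gb N1357 = N678 := ded_16_1 (flp_f L3424) (flp_b L1743) L1741 L3413 L6650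
theorem L6654 : sm gb N676 = N1358 := rfl
theorem L6656 : sm gc N676 = N1359 := rfl
theorem L6658 : sm ga N1359 = N677 := ded_8_1 (flp_c L3419) L3415 L6656
theorem L6660 : sm gg N1359 = N680 := ded_21_2 (flp_c L3428) (flp_g L3417) L6656
theorem L6662 : sm gd N677 = N1360 := rfl
theorem L6664 : sm gb N1360 = N1360 := ded_14_1 (flp_d L6662) L3423 L6662
theorem L6665 : sm gg N1360 = N682 := ded_24_2 (flp_d L3438) (flp_g L3421) L6662
theorem L6667 : sm gf N677 = N1361 := rfl
theorem L6669 : sm gc N1361 = N678 := ded_20_1 (flp_f L3424) L3419 L6667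
theorem L6671 : sm ga N679 = N1362 := rfl
theorem L6673 : sm gc N679 = N1363 := rfl
theorem L6675 : sm gf N679 = N1364 := rfl
theorem L6677 : sm gg N679 = N1365 := rfl
theorem L6679 : sm gb N680 = N1366 := rfl
theorem L6681 : sm gd N680 = N1367 := rfl
theorem L6683 : sm ga N1367 = N682 := ded_9_1 (flp_d L3438) (flp_a L3430) L6681
theorem L6685 : sm gf N680 = N1368 := rfl
theorem L6687 : sm ga N1368 = N683 := ded_11_1 (flp_f L3442) (flp_a L3430) L6685
theorem L6689 : sm gc N1368 = N681 := ded_20_1 (flp_f L3432) L3428 L6685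
theorem L6691 : sm gg N1361 = N1368 := ded_29_1 (flp_f L6685) (flp_g L6660) L6658 L6667
theorem L6693 : sm gb N681 = N1369 := rfl
theorem L6695 : sm gc N682 = N1370 := rfl
theorem L6697 : sm ge N682 = N1371 := rfl
theorem L6699 : sm gb N1371 = N711 := ded_15_1 (flp_e L3571) (flp_b L3440) L6697
theorem L6701 : sm gf N682 = N1372 := rfl
theorem L6703 : sm gd N1372 = N683 := ded_23_1 (flp_f L3442) L3438 L6701
theorem L6705 : sm gb N683 = N1373 := rfl
theorem L6707 : sm gc N1373 = N1135 := ded_13_2 (flp_b L5593) L2883 (flp_b L1755) (flp_c L3444) L6705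
theorem L6709 : sm gf N1373 = N713 := ded_16_2 (flp_b L3578) (flp_f L1832) (flp_b L1751) L3442 L6705
theorem L6719 : sm gb N684 = N1375 := rfl
theorem L6721 : sm gg N1375 = N1137 := ded_17_2 (flp_b L5605) (flp_g L2885) (flp_b L1755) L3446 L6719
theorem L6723 : sm gc N685 = N1376 := rfl
theorem L6725 : sm ga N1376 = N686 := ded_8_1 (flp_c L3454) L3452 L6723
theorem L6727 : sm gf N685 = N1377 := rfl
theorem L6729 : sm ga N1377 = N687 := ded_11_1 (flp_f L3457) L3452 L6727
theorem L6731 : sm gg N685 = N1378 := rfl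
theorem L6733 : sm ga N1378 = N688 := ded_12_1 (flp_g L3459) L3452 L6731
theorem L6735 : sm gd N686 = N1379 := rfl
theorem L6738 : sm gf N686 = N1380 := rfl
theorem L6740 : sm gc N1380 = N687 := ded_20_1 (flp_f L3457) L3454 L6738
theorem L6742 : sm gg N686 = N1381 := rfl
theorem L6744 : sm gc N1381 = N688 := ded_21_1 (flp_g L3459) L3454 L6742
theorem L6746 : sm gb N687 = N1382 := rfl
theorem L6748 : sm gf N1382 = N689 := ded_16_2 (flp_b L3462) (flp_f L1759) L1757 L3457 L6746
theorem L6750 : sm gg N687 = N1383 := rfl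
theorem L6752 : sm gf N1378 = N1383 := ded_29_0 (flp_g L6750) (flp_f L3457) L3459 (flp_a L6733)
theorem L6754 : sm gf N688 = N1384 := rfl
theorem L6756 : sm ga N1384 = N1383 := ded_11_1 (flp_f L6752) L6733 L6754
theorem L6760 : sm ga N689 = N1385 := rfl
theorem L6762 : sm gc N689 = N1386 := rfl
theorem L6765 : sm gg N689 = N1387 := rfl
theorem L6767 : sm gb N1387 = N692 := ded_17_1 (flp_g L3473) (flp_b L1766) (flp_g L1764) L3462 L6765
theorem L6769 : sm gb N690 = N1388 := rfl
theorem L6771 : sm gc N690 = N1389 := rfl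
theorem L6773 : sm ga N1389 = N691 := ded_8_1 (flp_c L3468) L3464 L6771
theorem L6775 : sm gf N1389 = N694 := ded_20_2 (flp_c L3477) (flp_f L3466) L6771
theorem L6777 : sm gd N691 = N1390 := rfl
theorem L6779 : sm gb N1390 = N1390 := ded_14_1 (flp_d L6777) L3472 L6777
theorem L6780 : sm gf N1390 = N696 := ded_23_2 (flp_d L3487) (flp_f L3470) L6777
theorem L6782 : sm gg N691 = N1391 := rfl
theorem L6784 : sm gc N1391 = N692 := ded_21_1 (flp_g L3473) L3468 L6782
theorem L6786 : sm ga N693 = N1392 := rfl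
theorem L6788 : sm gb N1392 = N1362 := ded_7_2 (flp_a L6671) (flp_b L3426) (flp_a L1747) (flp_b L868) (flp_a L393) L877 L1770 L3475 L6786
theorem L6790 : sm gc N693 = N1393 := rfl
theorem L6792 : sm gf N693 = N1394 := rfl
theorem L6794 : sm gg N693 = N1395 := rfl
theorem L6796 : sm gb N694 = N1396 := rfl
theorem L6798 : sm gd N694 = N1397 := rfl
theorem L6800 : sm ga N1397 = N696 := ded_9_1 (flp_d L3487) (flp_a L3479) L6798
theorem L6802 : sm gg N694 = N1398 := rfl
theorem L6804 : sm ga N1398 = N697 := ded_12_1 (flp_g L3491) (flp_a L3479) L6802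
theorem L6808 : sm gf N1398 = N1391 := ded_29_2 (flp_g L6782) (flp_a L6773) L6775 L6802
theorem L6810 : sm gb N695 = N1399 := rfl
theorem L6812 : sm gc N696 = N1400 := rfl
theorem L6814 : sm ge N696 = N1401 := rfl
theorem L6816 : sm gb N1401 = N718 := ded_15_1 (flp_e L3600) (flp_b L3489) L6814
theorem L6818 : sm gg N696 = N1402 := rfl
theorem L6820 : sm gd N1402 = N697 := ded_24_1 (flp_g L3491) L3487 L6818
theorem L6822 : sm gb N697 = N1403 := rfl
theorem L6824 : sm gc N1403 = N1121 := ded_13_2 (flp_b L5543) L2857 (flp_b L1778) (flp_c L3493) L6822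
theorem L6826 : sm gg N1403 = N720 := ded_17_2 (flp_b L3607) (flp_g L1854) (flp_b L1774) L3491 L6822
theorem L6828 : sm gf N697 = N1404 := rfl
theorem L6830 : sm ga N1404 = N1391 := ded_11_1 (flp_f L6808) L6804 L6828
theorem L6832 : sm gc N1404 = N698 := ded_20_1 (flp_f L3495) (flp_c L3493) L6828
theorem L6834 : sm gg N1404 = N1389 := ded_29_3 L6773 L3470 L3491 L6828
theorem L6836 : sm gb N698 = N1405 := rfl
theorem L6838 : sm gf N1405 = N1123 := ded_16_2 (flp_b L5555) (flp_f L2859) (flp_b L1778) L3495 L6836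
theorem L6840 : sm gb N699 = N1406 := rfl
theorem L6842 : sm ge N1406 = N707 := ded_15_2 (flp_b L3553) (flp_e L3505) L6840
theorem L6844 : sm gd N699 = N1407 := rfl
theorem L6846 : sm ga N1407 = N701 := ded_9_1 (flp_d L3517) (flp_a L3503) L6844
theorem L6848 : sm gg N1407 = N1407 := ded_24_2 (flp_d L6844) L3507 L6844
theorem L6849 : sm gf N699 = N1408 := rfl
theorem L6851 : sm ga N1408 = N702 := ded_11_1 (flp_f L3520) (flp_a L3503) L6849
theorem L6853 : sm gc N1408 = N700 := ded_20_1 (flp_f L3508) L3501 L6849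
theorem L6855 : sm ge N1408 = N709 := ded_25_1 (flp_f L3560) (flp_e L3505) L6849
theorem L6857 : sm gg N1408 = N702 := ded_29_3 (flp_a L6851) (flp_f L6849) L3507 L6849
theorem L6859 : sm gc N701 = N1409 := rfl
theorem L6861 : sm gg N1409 = N1409 := ded_21_2 (flp_c L6859) L3519 L6859
theorem L6862 : sm ge N701 = N1410 := rfl
theorem L6865 : sm gd N1410 = N711 := ded_22_1 (flp_e L3571) (flp_d L1829) (flp_e L1788) L3517 L6862
theorem L6867 : sm gf N701 = N1411 := rfl
theorem L6869 : sm gd N1411 = N702 := ded_23_1 (flp_f L3520) L3517 L6867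
theorem L6871 : sm gb N702 = N1412 := rfl
theorem L6873 : sm ge N1412 = N713 := ded_15_2 (flp_b L3578) (flp_e L3524) L6871
theorem L6875 : sm gc N1412 = N1152 := ded_13_2 (flp_b L5673) L2944 (flp_b L1796) (flp_c L3522) L6871
theorem L6877 : sm gb N703 = N1413 := rfl
theorem L6879 : sm ge N1413 = N714 := ded_15_2 (flp_b L3582) (flp_e L3530) L6877
theorem L6881 : sm gd N703 = N1414 := rfl
theorem L6883 : sm ga N1414 = N705 := ded_9_1 (flp_d L3544) (flp_a L3528) L6881
theorem L6885 : sm gf N1414 = N1414 := ded_23_2 (flp_d L6881) L3532 L6881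
theorem L6886 : sm gg N703 = N1415 := rfl
theorem L6888 : sm ga N1415 = N706 := ded_12_1 (flp_g L3547) (flp_a L3528) L6886
theorem L6890 : sm gc N1415 = N704 := ded_21_1 (flp_g L3533) L3526 L6886
theorem L6892 : sm ge N1415 = N716 := ded_26_1 (flp_g L3589) (flp_e L3530) L6886
theorem L6894 : sm gf N706 = N1415 := ded_29_0 (flp_g L6886) L3532 L6886 L6888
theorem L6896 : sm gc N705 = N1416 := rfl
theorem L6898 : sm gf N1416 = N1416 := ded_20_2 (flp_c L6896) L3546 L6896
theorem L6899 : sm ge N705 = N1417 := rfl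
theorem L6902 : sm gd N1417 = N718 := ded_22_1 (flp_e L3600) (flp_d L1851) (flp_e L1806) L3544 L6899
theorem L6904 : sm gg N705 = N1418 := rfl
theorem L6906 : sm gd N1418 = N706 := ded_24_1 (flp_g L3547) L3544 L6904
theorem L6908 : sm gb N706 = N1419 := rfl
theorem L6910 : sm ge N1419 = N720 := ded_15_2 (flp_b L3607) (flp_e L3551) L6908
theorem L6912 : sm gc N1419 = N1144 := ded_13_2 (flp_b L5633) L2910 (flp_b L1814) (flp_c L3549) L6908
theorem L6914 : sm ga N707 = N1420 := rfl
theorem L6916 : sm gd N707 = N1421 := rfl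
theorem L6918 : sm gb N1421 = N708 := ded_14_1 (flp_d L3555) L3553 L6916
theorem L6920 : sm gf N707 = N1422 := rfl
theorem L6922 : sm gg N707 = N1423 := rfl
theorem L6925 : sm ge N708 = N1424 := rfl
theorem L6930 : sm gf N708 = N1425 := rfl
theorem L6932 : sm ga N1425 = N712 := ded_11_1 (flp_f L3574) (flp_a L3557) L6930
theorem L6934 : sm gd N1425 = N709 := ded_23_1 (flp_f L3560) L3555 L6930
theorem L6936 : sm gg N1425 = N712 := ded_29_3 (flp_a L6932) (flp_f L6930) L3559 L6930
theorem L6938 : sm gb N709 = N1426 := rfl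
theorem L6940 : sm gb N710 = N1427 := rfl
theorem L6942 : sm ge N710 = N1428 := rfl
theorem L6944 : sm gc N1428 = N711 := ded_19_1 (flp_e L3571) L3568 L6942
theorem L6947 : sm gf N710 = N1429 := rfl
theorem L6949 : sm gc N1429 = N712 := ded_20_1 (flp_f L3574) L3568 L6947
theorem L6951 : sm gf N711 = N1430 := rfl
theorem L6953 : sm ge N1430 = N712 := ded_25_1 (flp_f L3574) L3571 L6951
theorem L6955 : sm gb N712 = N1431 := rfl
theorem L6957 : sm gd N1431 = N713 := ded_14_2 (flp_b L3578) (flp_d L3576) L6955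
theorem L6959 : sm ga N713 = N1432 := rfl
theorem L6961 : sm gc N1432 = N1180 := ded_8_2 (flp_a L5793) (flp_c L3580) L6959
theorem L6963 : sm gg N713 = N1433 := rfl
theorem L6965 : sm gc N1433 = N1181 := ded_21_1 (flp_g L5795) (flp_c L3580) L6963
theorem L6967 : sm ga N714 = N1434 := rfl
theorem L6969 : sm gd N714 = N1435 := rfl
theorem L6971 : sm gb N1435 = N715 := ded_14_1 (flp_d L3584) L3582 L6969
theorem L6973 : sm gf N714 = N1436 := rfl
theorem L6975 : sm gb N1436 = N1436 := ded_16_1 (flp_f L6973) (flp_b L3582) L1840 L3582 L6973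
theorem L6976 : sm gg N714 = N1437 := rfl
theorem L6978 : sm ge N715 = N1438 := rfl
theorem L6980 : sm ga N1438 = N718 := ded_10_1 (flp_e L3600) (flp_a L3586) L6978
theorem L6983 : sm gg N715 = N1439 := rfl
theorem L6985 : sm ga N1439 = N719 := ded_12_1 (flp_g L3603) (flp_a L3586) L6983
theorem L6987 : sm gd N1439 = N716 := ded_24_1 (flp_g L3589) L3584 L6983
theorem L6989 : sm gf N719 = N1439 := ded_29_0 (flp_g L6983) L3588 L6983 L6985
theorem L6991 : sm gb N716 = N1440 := rfl
theorem L6993 : sm gc N1440 = N1426 := ded_13_2 (flp_b L6938) L3564 (flp_b L1849) (flp_c L3593) L6991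
theorem L6995 : sm gb N717 = N1441 := rfl
theorem L6997 : sm ge N717 = N1442 := rfl
theorem L6999 : sm gc N1442 = N718 := ded_19_1 (flp_e L3600) L3597 L6997
theorem L7002 : sm gg N717 = N1443 := rfl
theorem L7004 : sm gc N1443 = N719 := ded_21_1 (flp_g L3603) L3597 L7002
theorem L7006 : sm gg N718 = N1444 := rfl
theorem L7008 : sm ge N1444 = N719 := ded_26_1 (flp_g L3603) L3600 L7006
theorem L7010 : sm gb N719 = N1445 := rfl
theorem L7012 : sm gd N1445 = N720 := ded_14_2 (flp_b L3607) (flp_d L3605) L7010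
theorem L7014 : sm ga N720 = N1446 := rfl
theorem L7016 : sm gc N1446 = N1164 := ded_8_2 (flp_a L5731) (flp_c L3609) L7014
theorem L7018 : sm gf N720 = N1447 := rfl
theorem L7020 : sm gc N1447 = N1165 := ded_20_1 (flp_f L5733) (flp_c L3609) L7018
theorem L7022 : sm gb N721 = N1448 := rfl
theorem L7024 : sm gd N1448 = N1427 := ded_14_2 (flp_b L6940) L3616 L7022
theorem L7026 : sm ge N721 = N1449 := rfl
theorem L7028 : sm ga N1449 = N727 := ded_10_1 (flp_e L3645) (flp_a L3613) L7026
theorem L7030 : sm gc N1449 = N722 := ded_19_1 (flp_e L3618) L3611 L7026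
theorem L7033 : sm gf N721 = N1450 := rfl
theorem L7037 : sm gc N1450 = N723 := ded_20_1 (flp_f L3624) L3611 L7033
theorem L7039 : sm gd N1450 = N1429 := ded_23_1 (flp_f L6947) L3616 L7033
theorem L7043 : sm gf N722 = N1451 := rfl
theorem L7045 : sm ga N1451 = N729 := ded_11_1 (flp_f L3654) (flp_a L3620) L7043
theorem L7048 : sm ge N1451 = N723 := ded_25_1 (flp_f L3624) L3618 L7043
theorem L7052 : sm gb N723 = N1452 := rfl
theorem L7054 : sm gd N1452 = N724 := ded_14_2 (flp_b L3632) (flp_d L3628) L7052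
theorem L7057 : sm gg N724 = N1453 := rfl
theorem L7061 : sm gb N1453 = N732 := ded_17_1 (flp_g L3672) (flp_b L1884) (flp_g L1870) L3632 L7057
theorem L7063 : sm ga N725 = N1454 := rfl
theorem L7066 : sm gd N725 = N1455 := rfl
theorem L7068 : sm gb N1455 = N726 := ded_14_1 (flp_d L3638) L3635 L7066
theorem L7070 : sm ge N725 = N1456 := rfl
theorem L7072 : sm gb N1456 = N727 := ded_15_1 (flp_e L3645) L3635 L7070
theorem L7075 : sm gf N725 = N1457 := rfl
theorem L7078 : sm gg N725 = N1458 := rfl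
theorem L7082 : sm ge N726 = N1459 := rfl
theorem L7084 : sm ga N1459 = N1428 := ded_10_1 (flp_e L6942) (flp_a L3640) L7082
theorem L7089 : sm gf N726 = N1460 := rfl
theorem L7091 : sm ga N1460 = N1429 := ded_11_1 (flp_f L6947) (flp_a L3640) L7089
theorem L7095 : sm gd N1460 = N728 := ded_23_1 (flp_f L3650) L3638 L7089
theorem L7097 : sm gg N1460 = N1429 := ded_29_3 (flp_a L7091) (flp_f L7089) L3642 L7089
theorem L7099 : sm gd N727 = N1461 := rfl
theorem L7102 : sm gf N727 = N1462 := rfl
theorem L7104 : sm gc N1462 = N729 := ded_20_1 (flp_f L3654) (flp_c L3647) L7102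
theorem L7106 : sm ge N1462 = N728 := ded_25_1 (flp_f L3650) L3645 L7102
theorem L7108 : sm gb N728 = N1463 := rfl
theorem L7110 : sm gb N729 = N1464 := rfl
theorem L7113 : sm ge N1464 = N730 := ded_15_2 (flp_b L3659) (flp_e L3657) L7110
theorem L7116 : sm ga N730 = N1465 := rfl
theorem L7118 : sm gd N1465 = N731 := ded_9_2 (flp_a L3664) (flp_d L3661) L7116
theorem L7122 : sm gc N730 = N1466 := rfl
theorem L7138 : sm gb N733 = N1469 := rfl
theorem L7141 : sm gc N1469 = N1453 := ded_13_2 L7061 L3674 L5930 (flp_c L5937) L7138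
theorem L7143 : sm gg N1469 = N740 := ded_17_2 (flp_b L3712) (flp_g L1898) L1890 (flp_g L3843) L7138
theorem L7146 : sm gf N1453 = N1469 := ded_31_1 (flp_b L7138) L3843 L3684 L3687 L3839 (flp_f L3684) (flp_b L1890) L1898 (flp_f L1905) (flp_b L975) L927 L1863 L3632 L7057
theorem L7148 : sm gd N733 = N1470 := rfl
theorem L7150 : sm ga N1470 = N734 := ded_9_1 (flp_d L3680) L3677 L7148
theorem L7162 : sm gc N734 = N1472 := rfl
theorem L7175 : sm gb N737 = N1475 := rfl
theorem L7177 : sm gd N1475 = N1441 := ded_14_2 (flp_b L6995) L3696 L7175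
theorem L7179 : sm ge N737 = N1476 := rfl
theorem L7181 : sm ga N1476 = N743 := ded_10_1 (flp_e L3730) (flp_a L3693) L7179
theorem L7183 : sm gc N1476 = N738 := ded_19_1 (flp_e L3698) L3691 L7179
theorem L7186 : sm gg N737 = N1477 := rfl
theorem L7188 : sm ga N1477 = N744 := ded_12_1 (flp_g L3735) (flp_a L3693) L7186
theorem L7190 : sm gc N1477 = N739 := ded_21_1 (flp_g L3704) L3691 L7186
theorem L7192 : sm gd N1477 = N1443 := ded_24_1 (flp_g L7002) L3696 L7186
theorem L7194 : sm gf N744 = N1477 := ded_29_0 (flp_g L7186) L3695 L7186 L7188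
theorem L7196 : sm gg N738 = N1478 := rfl
theorem L7200 : sm gd N1478 = N1478 := ded_24_1 (flp_g L7196) L3703 L7196
theorem L7205 : sm gb N739 = N1479 := rfl
theorem L7207 : sm gd N1479 = N740 := ded_14_2 (flp_b L3712) (flp_d L3708) L7205
theorem L7209 : sm gf N1479 = N1452 := ded_16_2 (flp_b L7052) (flp_f L3624) L1919 L3710 L7205
theorem L7212 : sm ga N741 = N1480 := rfl
theorem L7215 : sm gd N741 = N1481 := rfl
theorem L7217 : sm gb N1481 = N742 := ded_14_1 (flp_d L3723) L3720 L7215
theorem L7219 : sm ge N741 = N1482 := rfl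
theorem L7221 : sm gb N1482 = N743 := ded_15_1 (flp_e L3730) L3720 L7219
theorem L7224 : sm gf N741 = N1483 := rfl
theorem L7228 : sm gg N741 = N1484 := rfl
theorem L7231 : sm ge N742 = N1485 := rfl
theorem L7233 : sm ga N1485 = N1442 := ded_10_1 (flp_e L6997) (flp_a L3725) L7231
theorem L7238 : sm gg N742 = N1486 := rfl
theorem L7240 : sm ga N1486 = N1443 := ded_12_1 (flp_g L7002) (flp_a L3725) L7238
theorem L7242 : sm gc N1486 = N1439 := ded_21_1 (flp_g L6983) L3728 L7238
theorem L7244 : sm gd N1486 = N744 := ded_24_1 (flp_g L3735) L3723 L7238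
theorem L7248 : sm gd N743 = N1487 := rfl
theorem L7251 : sm gg N743 = N1488 := rfl
theorem L7253 : sm gc N1488 = N745 := ded_21_1 (flp_g L3739) (flp_c L3732) L7251
theorem L7255 : sm ge N1488 = N744 := ded_26_1 (flp_g L3735) L3730 L7251
theorem L7257 : sm gb N744 = N1489 := rfl
theorem L7259 : sm gc N1489 = N1448 := ded_13_2 (flp_b L7022) (flp_c L3611) L1919 (flp_c L3737) L7257
theorem L7267 : sm gc N747 = N1491 := rfl
theorem L7280 : sm gb N748 = N1493 := rfl
theorem L7282 : sm gd N748 = N1494 := rfl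
theorem L7284 : sm ga N1494 = N753 := ded_9_1 (flp_d L3787) (flp_a L3762) L7282
theorem L7288 : sm ge N748 = N1495 := rfl
theorem L7290 : sm ga N1495 = N754 := ded_10_1 (flp_e L3789) (flp_a L3762) L7288
theorem L7294 : sm gf N748 = N1496 := rfl
theorem L7296 : sm ga N1496 = N755 := ded_11_1 (flp_f L3793) (flp_a L3762) L7294
theorem L7300 : sm gg N748 = N1497 := rfl
theorem L7314 : sm gg N749 = N1499 := rfl
theorem L7316 : sm ga N1499 = N758 := ded_12_1 (flp_g L3806) (flp_a L3766) L7314
theorem L7322 : sm ga N752 = N1500 := rfl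
theorem L7324 : sm gc N1500 = N763 := ded_8_2 (flp_a L3845) (flp_c L3785) L7322
theorem L7326 : sm gd N752 = N1501 := rfl
theorem L7328 : sm gb N1501 = N753 := ded_14_1 (flp_d L3787) L3783 L7326
theorem L7330 : sm ge N752 = N1502 := rfl
theorem L7332 : sm gb N1502 = N754 := ded_15_1 (flp_e L3789) L3783 L7330
theorem L7344 : sm ge N753 = N1505 := rfl
theorem L7346 : sm gf N753 = N1506 := rfl
theorem L7348 : sm gd N1506 = N755 := ded_23_1 (flp_f L3793) L3787 L7346
theorem L7350 : sm gg N753 = N1507 := rfl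
theorem L7352 : sm gd N1507 = N756 := ded_24_1 (flp_g L3797) L3787 L7350
theorem L7354 : sm gd N754 = N1508 := rfl
theorem L7362 : sm gg N754 = N1510 := rfl
theorem L7366 : sm ge N1510 = N756 := ded_26_1 (flp_g L3797) L3789 L7362
theorem L7368 : sm gb N755 = N1511 := rfl
theorem L7376 : sm gb N756 = N1513 := rfl
theorem L7378 : sm gf N756 = N1514 := rfl
theorem L7384 : sm gg N1514 = N1496 := ded_29_3 L7296 (flp_f L3793) L3797 L7378
theorem L7393 : sm gg N757 = N1516 := rfl
theorem L7396 : sm ge N1516 = N760 := ded_26_1 (flp_g L3817) (flp_e L3804) L7393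
theorem L7398 : sm gf N1499 = N1516 := ded_29_0 (flp_g L7393) (flp_f L3801) L3806 (flp_a L7316)
theorem L7400 : sm gf N758 = N1517 := rfl
theorem L7402 : sm ga N1517 = N1516 := ded_11_1 (flp_f L7398) L7316 L7400
theorem L7409 : sm gc N759 = N1518 := rfl
theorem L7420 : sm ga N762 = N1520 := rfl
theorem L7425 : sm gf N1520 = N1208 := ded_11_2 L5935 (flp_f L3834) L7420
theorem L7428 : sm gb N1520 = N776 := ded_7_2 L3901 L2041 L1311 L1582 L3084 (flp_b L3088) (flp_a L1973) L3831 L7420
theorem L7430 : sm gb N763 = N1521 := rfl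
theorem L7432 : sm ge N763 = N1522 := rfl
theorem L7434 : sm ga N1522 = N764 := ded_10_1 (flp_e L3847) L3845 L7432
theorem L7436 : sm gf N763 = N1523 := rfl
theorem L7438 : sm ga N1523 = N765 := ded_11_1 (flp_f L3851) L3845 L7436
theorem L7444 : sm gd N764 = N1525 := rfl
theorem L7446 : sm gb N1525 = N767 := ded_14_1 (flp_d L3855) (flp_b L3849) L7444
theorem L7448 : sm gf N764 = N1526 := rfl
theorem L7450 : sm ge N1526 = N765 := ded_25_1 (flp_f L3851) L3847 L7448
theorem L7452 : sm gg N764 = N1527 := rfl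
theorem L7454 : sm ge N1527 = N766 := ded_26_1 (flp_g L3853) L3847 L7452
theorem L7456 : sm gb N765 = N1528 := rfl
theorem L7458 : sm gf N1528 = N770 := ded_16_2 (flp_b L3875) (flp_f L1987) L1979 L3851 L7456
theorem L7464 : sm gb N766 = N1530 := rfl
theorem L7466 : sm gg N1530 = N771 := ded_17_2 (flp_b L3877) (flp_g L1993) L1979 L3853 L7464
theorem L7468 : sm gf N766 = N1531 := rfl
theorem L7472 : sm gg N1531 = N1523 := ded_29_3 L7438 (flp_f L3851) L3853 L7468
theorem L7474 : sm gc N767 = N1532 := rfl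
theorem L7476 : sm ga N1532 = N839 := ded_8_1 (flp_c L4201) (flp_a L3857) L7474
theorem L7478 : sm gd N1532 = N839 := ded_28_7 (flp_a L7476) (flp_c L7474) (flp_d L3855) L1985 L1006 (flp_c L1985) L3855 L7474
theorem L7480 : sm gf N767 = N1533 := rfl
theorem L7482 : sm ga N1533 = N840 := ded_11_1 (flp_f L4203) (flp_a L3857) L7480
theorem L7484 : sm gd N1533 = N768 := ded_23_1 (flp_f L3859) L3855 L7480
theorem L7492 : sm gb N768 = N1535 := rfl
theorem L7494 : sm ge N1535 = N770 := ded_15_2 (flp_b L3875) (flp_e L3865) L7492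
theorem L7496 : sm gb N769 = N1536 := rfl
theorem L7498 : sm ge N1536 = N771 := ded_15_2 (flp_b L3877) (flp_e L3873) L7496
theorem L7500 : sm ga N770 = N1537 := rfl
theorem L7506 : sm gg N770 = N1539 := rfl
theorem L7508 : sm ga N771 = N1540 := rfl
theorem L7512 : sm ga N772 = N1542 := rfl
theorem L7515 : sm ge N1542 = N773 := ded_10_2 (flp_a L3884) (flp_e L3882) L7512
theorem L7518 : sm gc N772 = N1543 := rfl
theorem L7520 : sm ge N1543 = N774 := ded_19_2 (flp_c L3889) (flp_e L3882) L7518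
theorem L7522 : sm gg N772 = N1544 := rfl
theorem L7527 : sm gb N1544 = N980 := ded_17_1 L4878 (flp_b L4283) L2223 L3879 L7522
theorem L7529 : sm gf N1544 = N855 := ded_31_1 (flp_b L4263) (flp_g L2202) (flp_f L1099) L510 L1104 L2216 L4283 (flp_g L4878) L4876 L3046 (flp_g L2006) L1999 L3879 L7522
theorem L7531 : sm gc N773 = N1545 := rfl
theorem L7543 : sm gd N774 = N1547 := rfl
theorem L7545 : sm gg N774 = N1548 := rfl
theorem L7547 : sm gc N1548 = N775 := ded_21_1 (flp_g L3891) L3889 L7545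
theorem L7549 : sm gf N861 = N1548 := ded_20_0 L7547 L3897 L4300
theorem L7551 : sm gc N777 = N1549 := rfl
theorem L7555 : sm gf N1549 = N1545 := ded_20_2 (flp_c L7531) (flp_f L3914) L7551
theorem L7557 : sm gg N1549 = N861 := ded_21_2 (flp_c L4300) (flp_g L3916) L7551
theorem L7559 : sm ge N777 = N1550 := rfl
theorem L7563 : sm gb N1550 = N815 := ded_15_1 (flp_e L4081) (flp_b L3912) L7559
theorem L7567 : sm gg N1550 = N855 := ded_26_2 L4266 (flp_g L3916) L7559
theorem L7570 : sm ga N778 = N1551 := rfl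
theorem L7574 : sm gc N778 = N1552 := rfl
theorem L7577 : sm gd N778 = N1553 := rfl
theorem L7579 : sm gb N1553 = N779 := ded_14_1 (flp_d L3920) L3918 L7577
theorem L7581 : sm ge N778 = N1554 := rfl
theorem L7583 : sm gb N1554 = N780 := ded_15_1 (flp_e L3924) L3918 L7581
theorem L7585 : sm gf N778 = N1555 := rfl
theorem L7587 : sm gg N778 = N1556 := rfl
theorem L7589 : sm gc N779 = N1557 := rfl
theorem L7591 : sm ga N1557 = N783 := ded_8_1 (flp_c L3939) (flp_a L3922) L7589
theorem L7593 : sm ge N779 = N1558 := rfl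
theorem L7595 : sm ga N1558 = N784 := ded_10_1 (flp_e L3941) (flp_a L3922) L7593
theorem L7597 : sm gf N779 = N1559 := rfl
theorem L7601 : sm gd N1559 = N781 := ded_23_1 (flp_f L3929) L3920 L7597
theorem L7609 : sm gd N780 = N1561 := rfl
theorem L7611 : sm ga N1561 = N787 := ded_9_1 (flp_d L3953) (flp_a L3926) L7609
theorem L7613 : sm gf N780 = N1562 := rfl
theorem L7615 : sm ga N1562 = N788 := ded_11_1 (flp_f L3957) (flp_a L3926) L7613
theorem L7620 : sm gg N780 = N1563 := rfl
theorem L7622 : sm ga N1563 = N789 := ded_12_1 (flp_g L3962) (flp_a L3926) L7620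
theorem L7627 : sm gb N781 = N1564 := rfl
theorem L7629 : sm gb N782 = N1565 := rfl
theorem L7631 : sm gd N783 = N1566 := rfl
theorem L7633 : sm ge N783 = N1567 := rfl
theorem L7635 : sm gc N1567 = N784 := ded_19_1 (flp_e L3941) L3939 L7633
theorem L7637 : sm gf N783 = N1568 := rfl
theorem L7639 : sm gc N1568 = N785 := ded_20_1 (flp_f L3945) L3939 L7637
theorem L7641 : sm gg N783 = N1569 := rfl
theorem L7643 : sm gc N1569 = N786 := ded_21_1 (flp_g L3949) L3939 L7641
theorem L7645 : sm gd N784 = N1570 := rfl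
theorem L7647 : sm gb N1570 = N794 := ded_14_1 (flp_d L3987) (flp_b L3943) L7645
theorem L7649 : sm ge N1570 = N787 := ded_22_2 (flp_d L3953) (flp_e L2050) L2046 L3941 L7645
theorem L7651 : sm gf N784 = N1571 := rfl
theorem L7653 : sm ge N1571 = N785 := ded_25_1 (flp_f L3945) L3941 L7651
theorem L7655 : sm gg N784 = N1572 := rfl
theorem L7657 : sm ge N1572 = N786 := ded_26_1 (flp_g L3949) L3941 L7655
theorem L7659 : sm gb N785 = N1573 := rfl
theorem L7661 : sm gd N1573 = N790 := ded_14_2 (flp_b L3967) (flp_d L3947) L7659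
theorem L7663 : sm gf N1573 = N797 := ded_16_2 (flp_b L4005) (flp_f L2065) (flp_b L2048) L3945 L7659
theorem L7671 : sm gb N786 = N1575 := rfl
theorem L7673 : sm gd N1575 = N792 := ded_14_2 (flp_b L3976) (flp_d L3951) L7671
theorem L7675 : sm gg N1575 = N798 := ded_17_2 (flp_b L4009) (flp_g L2071) (flp_b L2048) L3949 L7671
theorem L7677 : sm gf N786 = N1576 := rfl
theorem L7685 : sm gc N787 = N1577 := rfl
theorem L7687 : sm gf N787 = N1578 := rfl
theorem L7689 : sm gd N1578 = N788 := ded_23_1 (flp_f L3957) L3953 L7687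
theorem L7691 : sm gg N787 = N1579 := rfl
theorem L7693 : sm gd N1579 = N789 := ded_24_1 (flp_g L3962) L3953 L7691
theorem L7695 : sm gb N788 = N1580 := rfl
theorem L7697 : sm ge N1580 = N790 := ded_15_2 (flp_b L3967) (flp_e L3960) L7695
theorem L7699 : sm gf N1580 = N802 := ded_16_2 (flp_b L4031) (flp_f L2081) (flp_b L2052) L3957 L7695
theorem L7701 : sm gg N788 = N1581 := rfl
theorem L7706 : sm gf N1563 = N1581 := ded_29_0 (flp_g L7701) (flp_f L3957) L3962 (flp_a L7622)
theorem L7708 : sm gb N789 = N1582 := rfl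
theorem L7710 : sm ge N1582 = N792 := ded_15_2 (flp_b L3976) (flp_e L3965) L7708
theorem L7712 : sm gg N1582 = N803 := ded_17_2 (flp_b L4035) (flp_g L2089) (flp_b L2052) L3962 L7708
theorem L7714 : sm gf N789 = N1583 := rfl
theorem L7716 : sm ga N1583 = N1581 := ded_11_1 (flp_f L7706) L7622 L7714
theorem L7719 : sm ge N1583 = N793 := ded_25_1 (flp_f L3980) (flp_e L3965) L7714
theorem L7721 : sm gg N1583 = N1562 := ded_29_3 L7615 (flp_f L3957) L3962 L7714
theorem L7723 : sm ga N790 = N1584 := rfl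
theorem L7725 : sm gf N1584 = N804 := ded_11_2 (flp_a L4039) (flp_f L3969) L7723
theorem L7727 : sm gc N790 = N1585 := rfl
theorem L7729 : sm gf N1585 = N805 := ded_20_2 (flp_c L4041) (flp_f L3969) L7727
theorem L7732 : sm gg N790 = N1586 := rfl
theorem L7734 : sm gb N791 = N1587 := rfl
theorem L7736 : sm ga N792 = N1588 := rfl
theorem L7738 : sm gg N1588 = N807 := ded_12_2 (flp_a L4047) (flp_g L3978) L7736
theorem L7740 : sm gc N792 = N1589 := rfl
theorem L7742 : sm gg N1589 = N808 := ded_21_2 (flp_c L4049) (flp_g L3978) L7740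
theorem L7745 : sm gf N792 = N1590 := rfl
theorem L7747 : sm gb N793 = N1591 := rfl
theorem L7749 : sm gc N794 = N1592 := rfl
theorem L7751 : sm ga N1592 = N911 := ded_8_1 (flp_c L4547) (flp_a L3989) L7749
theorem L7753 : sm ge N1592 = N799 := ded_19_2 (flp_c L4013) (flp_e L3991) L7749
theorem L7755 : sm gf N794 = N1593 := rfl
theorem L7757 : sm ga N1593 = N912 := ded_11_1 (flp_f L4551) (flp_a L3989) L7755
theorem L7759 : sm gd N1593 = N795 := ded_23_1 (flp_f L3993) L3987 L7755
theorem L7761 : sm ge N1593 = N800 := ded_25_1 (flp_f L4019) (flp_e L3991) L7755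
theorem L7763 : sm gg N794 = N1594 := rfl
theorem L7765 : sm ga N1594 = N913 := ded_12_1 (flp_g L4557) (flp_a L3989) L7763
theorem L7767 : sm gd N1594 = N796 := ded_24_1 (flp_g L3999) L3987 L7763
theorem L7769 : sm ge N1594 = N801 := ded_26_1 (flp_g L4025) (flp_e L3991) L7763
theorem L7771 : sm gb N795 = N1595 := rfl
theorem L7773 : sm ge N1595 = N797 := ded_15_2 (flp_b L4005) (flp_e L3997) L7771
theorem L7775 : sm gb N796 = N1596 := rfl
theorem L7777 : sm ge N1596 = N798 := ded_15_2 (flp_b L4009) (flp_e L4003) L7775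
theorem L7779 : sm ga N797 = N1597 := rfl
theorem L7781 : sm gd N1597 = N804 := ded_9_2 (flp_a L4039) (flp_d L4007) L7779
theorem L7783 : sm gc N797 = N1598 := rfl
theorem L7789 : sm ga N798 = N1600 := rfl
theorem L7791 : sm gd N1600 = N807 := ded_9_2 (flp_a L4047) (flp_d L4011) L7789
theorem L7793 : sm gc N798 = N1601 := rfl
theorem L7795 : sm gf N798 = N1602 := rfl
theorem L7799 : sm gb N799 = N1603 := rfl
theorem L7801 : sm gd N1603 = N926 := ded_14_2 (flp_b L4613) (flp_d L4017) L7799
theorem L7803 : sm gf N799 = N1604 := rfl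
theorem L7805 : sm ga N1604 = N927 := ded_11_1 (flp_f L4615) (flp_a L4015) L7803
theorem L7807 : sm gc N1604 = N800 := ded_20_1 (flp_f L4019) L4013 L7803
theorem L7809 : sm gd N1604 = N927 := ded_23_1 (flp_f L4615) (flp_d L4017) L7803
theorem L7811 : sm gg N799 = N1605 := rfl
theorem L7813 : sm ga N1605 = N928 := ded_12_1 (flp_g L4619) (flp_a L4015) L7811
theorem L7815 : sm gc N1605 = N801 := ded_21_1 (flp_g L4025) L4013 L7811
theorem L7817 : sm gd N1605 = N928 := ded_24_1 (flp_g L4619) (flp_d L4017) L7811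
theorem L7819 : sm gb N800 = N1606 := rfl
theorem L7823 : sm gb N801 = N1607 := rfl
theorem L7825 : sm gd N1607 = N803 := ded_14_2 (flp_b L4035) (flp_d L4029) L7823
theorem L7827 : sm ga N802 = N1608 := rfl
theorem L7829 : sm ge N1608 = N804 := ded_10_2 (flp_a L4039) (flp_e L4033) L7827
theorem L7831 : sm gc N802 = N1609 := rfl
theorem L7833 : sm ge N1609 = N805 := ded_19_2 (flp_c L4041) (flp_e L4033) L7831
theorem L7835 : sm gb N1609 = N810 := ded_13_1 (flp_c L4055) (flp_b L2101) (flp_c L2085) L4031 L7831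
theorem L7841 : sm ga N803 = N1611 := rfl
theorem L7843 : sm ge N1611 = N807 := ded_10_2 (flp_a L4047) (flp_e L4037) L7841
theorem L7845 : sm gc N803 = N1612 := rfl
theorem L7847 : sm ge N1612 = N808 := ded_19_2 (flp_c L4049) (flp_e L4037) L7845
theorem L7849 : sm gb N1612 = N811 := ded_13_1 (flp_c L4061) (flp_b L2108) (flp_c L2093) L4035 L7845
theorem L7851 : sm gf N803 = N1613 := rfl
theorem L7855 : sm gb N804 = N1614 := rfl
theorem L7857 : sm gc N804 = N1615 := rfl
theorem L7859 : sm ga N1615 = N805 := ded_8_1 (flp_c L4041) L4039 L7857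
theorem L7861 : sm gg N804 = N1616 := rfl
theorem L7865 : sm gf N1616 = N1586 := ded_29_2 (flp_g L7732) L7723 L7725 L7861
theorem L7867 : sm gd N805 = N1617 := rfl
theorem L7875 : sm gf N806 = N1619 := rfl
theorem L7879 : sm gg N1619 = N1584 := ded_29_3 (flp_a L7723) L3969 L4045 L7875
theorem L7881 : sm gb N807 = N1620 := rfl
theorem L7883 : sm gc N807 = N1621 := rfl
theorem L7885 : sm ga N1621 = N808 := ded_8_1 (flp_c L4049) L4047 L7883
theorem L7887 : sm gf N807 = N1622 := rfl
theorem L7891 : sm gg N1590 = N1622 := ded_29_1 (flp_f L7887) (flp_g L7738) (flp_a L7736) L7745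
theorem L7893 : sm gd N808 = N1623 := rfl
theorem L7897 : sm gf N808 = N1624 := rfl
theorem L7901 : sm gg N809 = N1625 := rfl
theorem L7905 : sm gf N1588 = N1625 := ded_29_0 (flp_g L7901) (flp_f L4053) (flp_g L3978) L7736
theorem L7907 : sm gd N810 = N1626 := rfl
theorem L7911 : sm gd N811 = N1627 := rfl
theorem L7915 : sm gc N812 = N1628 := rfl
theorem L7917 : sm ga N1628 = N1628 := ded_8_1 (flp_c L7915) L4069 L7915
theorem L7919 : sm gg N1628 = N859 := ded_21_2 (flp_c L5697) L5695 L7915
theorem L7921 : sm gd N814 = N1628 := ded_28_7 L7917 (flp_c L7915) (flp_d L4067) (flp_c L2115) L1063 L1073 L2123 L4075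
theorem L7931 : sm gb N814 = N1631 := rfl
theorem L7933 : sm ge N814 = N1632 := rfl
theorem L7939 : sm gg N1632 = N854 := ded_26_2 L4260 (flp_g L4079) L7933
theorem L7941 : sm ga N816 = N1633 := rfl
theorem L7943 : sm gc N816 = N1634 := rfl
theorem L7946 : sm gd N816 = N1635 := rfl
theorem L7948 : sm gb N1635 = N817 := ded_14_1 (flp_d L4090) L4088 L7946
theorem L7950 : sm ge N816 = N1636 := rfl
theorem L7958 : sm gc N817 = N1639 := rfl
theorem L7960 : sm ga N1639 = N821 := ded_8_1 (flp_c L4109) (flp_a L4092) L7958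
theorem L7962 : sm ge N817 = N1640 := rfl
theorem L7964 : sm ga N1640 = N822 := ded_10_1 (flp_e L4113) (flp_a L4092) L7962
theorem L7966 : sm gf N817 = N1641 := rfl
theorem L7968 : sm ga N1641 = N823 := ded_11_1 (flp_f L4117) (flp_a L4092) L7966
theorem L7978 : sm gd N818 = N1643 := rfl
theorem L7980 : sm ga N1643 = N825 := ded_9_1 (flp_d L4125) (flp_a L4096) L7978
theorem L8000 : sm gd N821 = N1648 := rfl
theorem L8002 : sm gb N1648 = N1566 := ded_14_1 (flp_d L7631) (flp_b L4111) L8000
theorem L8004 : sm ge N821 = N1649 := rfl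
theorem L8006 : sm gb N1649 = N1567 := ded_15_1 (flp_e L7633) (flp_b L4111) L8004
theorem L8010 : sm gf N821 = N1650 := rfl
theorem L8014 : sm gg N821 = N1651 := rfl
theorem L8018 : sm gd N822 = N1652 := rfl
theorem L8020 : sm gb N1652 = N832 := ded_14_1 (flp_d L4159) (flp_b L4115) L8018
theorem L8022 : sm ge N1652 = N825 := ded_22_2 (flp_d L4125) (flp_e L2136) L2132 L4113 L8018
theorem L8024 : sm gf N822 = N1653 := rfl
theorem L8026 : sm ge N1653 = N823 := ded_25_1 (flp_f L4117) L4113 L8024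
theorem L8028 : sm gg N822 = N1654 := rfl
theorem L8032 : sm gb N823 = N1655 := rfl
theorem L8036 : sm gf N1655 = N835 := ded_16_2 (flp_b L4175) (flp_f L2151) (flp_b L2134) L4117 L8032
theorem L8050 : sm gf N824 = N1658 := rfl
theorem L8056 : sm gg N1658 = N1641 := ded_29_3 L7968 (flp_f L4117) L4121 L8050
theorem L8058 : sm gc N825 = N1659 := rfl
theorem L8060 : sm gf N825 = N1660 := rfl
theorem L8062 : sm gd N1660 = N826 := ded_23_1 (flp_f L4129) L4125 L8060
theorem L8064 : sm gg N825 = N1661 := rfl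
theorem L8068 : sm gb N826 = N1662 := rfl
theorem L8070 : sm ge N1662 = N828 := ded_15_2 (flp_b L4139) (flp_e L4132) L8068
theorem L8072 : sm gf N1662 = N842 := ded_16_2 (flp_b L4211) (flp_f L2165) (flp_b L2138) L4129 L8068
theorem L8081 : sm gb N827 = N1664 := rfl
theorem L8085 : sm gg N1664 = N844 := ded_17_2 (flp_b L4223) (flp_g L2171) (flp_b L2138) L4134 L8081
theorem L8096 : sm ga N828 = N1666 := rfl
theorem L8098 : sm gf N1666 = N846 := ded_11_2 (flp_a L4237) (flp_f L4141) L8096
theorem L8100 : sm gc N828 = N1667 := rfl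
theorem L8102 : sm gf N1667 = N847 := ded_20_2 (flp_c L4239) (flp_f L4141) L8100
theorem L8109 : sm ga N830 = N1670 := rfl
theorem L8111 : sm gg N1670 = N850 := ded_12_2 (flp_a L4247) (flp_g L4150) L8109
theorem L8113 : sm gc N830 = N1671 := rfl
theorem L8115 : sm gg N1671 = N851 := ded_21_2 (flp_c L4249) (flp_g L4150) L8113
theorem L8118 : sm gf N830 = N1672 := rfl
theorem L8122 : sm gc N832 = N1674 := rfl
theorem L8124 : sm ge N1674 = N839 := ded_19_2 (flp_c L4201) (flp_e L4161) L8122
theorem L8126 : sm gf N832 = N1675 := rfl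
theorem L8128 : sm gd N1675 = N833 := ded_23_1 (flp_f L4163) L4159 L8126
theorem L8130 : sm ge N1675 = N840 := ded_25_1 (flp_f L4203) (flp_e L4161) L8126
theorem L8132 : sm gg N832 = N1676 := rfl
theorem L8134 : sm gd N1676 = N834 := ded_24_1 (flp_g L4169) L4159 L8132
theorem L8136 : sm ge N1676 = N841 := ded_26_1 (flp_g L4207) (flp_e L4161) L8132
theorem L8138 : sm gb N833 = N1677 := rfl
theorem L8140 : sm ge N1677 = N835 := ded_15_2 (flp_b L4175) (flp_e L4167) L8138
theorem L8142 : sm gg N833 = N1678 := rfl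
theorem L8144 : sm gc N1678 = N917 := ded_21_1 L4583 (flp_c L4165) L8142
theorem L8146 : sm ge N1678 = N836 := ded_26_1 (flp_g L4179) (flp_e L4167) L8142
theorem L8148 : sm gf N908 = N1678 := ded_29_0 (flp_g L8142) (flp_f L4163) L4169 (flp_a L4533)
theorem L8150 : sm gb N834 = N1679 := rfl
theorem L8152 : sm ge N1679 = N837 := ded_15_2 (flp_b L4187) (flp_e L4173) L8150
theorem L8154 : sm gf N834 = N1680 := rfl
theorem L8158 : sm gc N1680 = N915 := ded_20_1 (flp_f L4571) (flp_c L4171) L8154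
theorem L8160 : sm ge N1680 = N838 := ded_25_1 (flp_f L4191) (flp_e L4173) L8154
theorem L8162 : sm gg N1680 = N907 := ded_29_3 L4525 (flp_f L4163) L4169 L8154
theorem L8164 : sm ga N835 = N1681 := rfl
theorem L8166 : sm gd N1681 = N846 := ded_9_2 (flp_a L4237) (flp_d L4177) L8164
theorem L8168 : sm gc N835 = N1682 := rfl
theorem L8170 : sm gb N1682 = N1598 := ded_13_1 (flp_c L7783) (flp_b L4005) (flp_c L2153) L4175 L8168
theorem L8172 : sm gg N835 = N1683 := rfl
theorem L8176 : sm gb N836 = N1684 := rfl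
theorem L8178 : sm gd N1684 = N849 := ded_14_2 (flp_b L4245) (flp_d L4183) L8176
theorem L8188 : sm gf N837 = N1687 := rfl
theorem L8192 : sm gb N838 = N1688 := rfl
theorem L8194 : sm gd N1688 = N853 := ded_14_2 (flp_b L4255) (flp_d L4197) L8192
theorem L8196 : sm gb N839 = N1689 := rfl
theorem L8202 : sm gg N839 = N1691 := rfl
theorem L8204 : sm gc N1691 = N841 := ded_21_1 (flp_g L4207) L4201 L8202
theorem L8206 : sm gb N840 = N1692 := rfl
theorem L8208 : sm gd N1692 = N842 := ded_14_2 (flp_b L4211) (flp_d L4205) L8206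
theorem L8210 : sm gg N840 = N1693 := rfl
theorem L8212 : sm gd N1693 = N843 := ded_24_1 (flp_g L4215) (flp_d L4205) L8210
theorem L8216 : sm gb N841 = N1694 := rfl
theorem L8220 : sm gf N841 = N1695 := rfl
theorem L8224 : sm gd N1695 = N845 := ded_23_1 (flp_f L4227) (flp_d L4209) L8220
theorem L8226 : sm gg N1695 = N1533 := ded_29_3 L7482 (flp_f L4203) L4207 L8220
theorem L8228 : sm ga N842 = N1696 := rfl
theorem L8230 : sm ge N1696 = N846 := ded_10_2 (flp_a L4237) (flp_e L4213) L8228
theorem L8232 : sm gc N842 = N1697 := rfl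
theorem L8236 : sm gb N1697 = N854 := ded_13_1 (flp_c L4257) (flp_b L2195) (flp_c L2167) L4211 L8232
theorem L8238 : sm gg N842 = N1698 := rfl
theorem L8240 : sm ge N1698 = N848 := ded_26_1 (flp_g L4243) (flp_e L4213) L8238
theorem L8242 : sm gb N843 = N1699 := rfl
theorem L8244 : sm ge N1699 = N849 := ded_15_2 (flp_b L4245) (flp_e L4219) L8242
theorem L8246 : sm ga N844 = N1700 := rfl
theorem L8248 : sm ge N1700 = N850 := ded_10_2 (flp_a L4247) (flp_e L4225) L8246
theorem L8250 : sm gc N844 = N1701 := rfl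
theorem L8252 : sm ge N1701 = N851 := ded_19_2 (flp_c L4249) (flp_e L4225) L8250
theorem L8256 : sm gf N844 = N1702 := rfl
theorem L8258 : sm ge N1702 = N852 := ded_25_1 (flp_f L4253) (flp_e L4225) L8256
theorem L8260 : sm gb N845 = N1703 := rfl
theorem L8264 : sm gb N846 = N1704 := rfl
theorem L8266 : sm gc N846 = N1705 := rfl
theorem L8276 : sm gd N847 = N1707 := rfl
theorem L8278 : sm gb N1707 = N859 := ded_14_1 (flp_d L4290) (flp_b L4241) L8276
theorem L8284 : sm gb N848 = N1709 := rfl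
theorem L8286 : sm gg N1709 = N849 := ded_17_2 (flp_b L4245) (flp_g L2179) L2177 L4243 L8284
theorem L8294 : sm ga N849 = N1711 := rfl
theorem L8296 : sm gc N849 = N1712 := rfl
theorem L8298 : sm gb N1712 = N861 := ded_13_1 (flp_c L4300) (flp_b L2229) (flp_c L2181) L4245 L8296
theorem L8300 : sm gf N849 = N1713 := rfl
theorem L8306 : sm gc N850 = N1715 := rfl
theorem L8310 : sm gf N850 = N1716 := rfl
theorem L8314 : sm gg N1672 = N1716 := ded_29_1 (flp_f L8310) (flp_g L8111) (flp_a L8109) L8118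
theorem L8316 : sm gd N851 = N1717 := rfl
theorem L8320 : sm gf N851 = N1718 := rfl
theorem L8324 : sm gb N852 = N1719 := rfl
theorem L8326 : sm gf N1719 = N853 := ded_16_2 (flp_b L4255) (flp_f L2187) L2185 L4253 L8324
theorem L8334 : sm ga N853 = N1721 := rfl
theorem L8340 : sm gg N853 = N1723 := rfl
theorem L8344 : sm gd N854 = N1724 := rfl
theorem L8348 : sm ga N855 = N1725 := rfl
theorem L8351 : sm ge N1725 = N860 := ded_10_2 (flp_a L4294) (flp_e L4266) L8348
theorem L8355 : sm gc N855 = N1726 := rfl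
theorem L8363 : sm gf N856 = N1728 := rfl
theorem L8366 : sm gc N1728 = N857 := ded_20_1 (flp_f L4274) L4268 L8363
theorem L8368 : sm ge N1728 = N863 := ded_25_1 (flp_f L4306) (flp_e L4271) L8363
theorem L8371 : sm gc N858 = N1729 := rfl
theorem L8373 : sm ge N1729 = N864 := ded_19_2 (flp_c L4312) (flp_e L4286) L8371
theorem L8375 : sm gf N1729 = N985 := ded_20_2 L4910 (flp_f L4288) L8371
theorem L8377 : sm ge N859 = N1730 := rfl
theorem L8381 : sm gb N860 = N1731 := rfl
theorem L8383 : sm gd N1731 = N865 := ded_14_2 (flp_b L4316) (flp_d L4296) L8381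
theorem L8385 : sm gg N1731 = N1204 := ded_17_2 (flp_b L5917) (flp_g L3817) L3811 (flp_g L4298) L8381
theorem L8389 : sm ga N1206 = N1731 := ded_9_3 L8383 (flp_a L4323) (flp_d L5924)
theorem L8391 : sm gc N860 = N1732 := rfl
theorem L8395 : sm gg N1732 = N1518 := ded_21_2 (flp_c L7409) (flp_g L4298) L8391
theorem L8397 : sm gd N861 = N1733 := rfl
theorem L8411 : sm gb N863 = N1736 := rfl
theorem L8415 : sm gd N864 = N1737 := rfl
theorem L8417 : sm gf N1737 = N984 := ded_23_2 (flp_d L4900) (flp_f L4314) L8415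
theorem L8419 : sm gg N1737 = N1176 := ded_24_2 L5775 L4870 L8415
theorem L8421 : sm gc N1179 = N1737 := ded_28_0 (flp_d L8415) (flp_c L4312) L2247 L1153 (flp_d L1293) (flp_c L2530) (flp_d L4848) (flp_a L5787)
theorem L8423 : sm gc N866 = N1738 := rfl
theorem L8425 : sm ga N1738 = N867 := ded_8_1 (flp_c L4327) L4325 L8423
theorem L8427 : sm gd N866 = N1739 := rfl
theorem L8429 : sm ga N1739 = N868 := ded_9_1 (flp_d L4331) L4325 L8427
theorem L8431 : sm gc N902 = N1739 := ded_8_0 L8429 (flp_c L4335) L4501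
theorem L8433 : sm ge N866 = N1740 := rfl
theorem L8435 : sm ga N1740 = N869 := ded_10_1 (flp_e L4337) L4325 L8433
theorem L8437 : sm gf N866 = N1741 := rfl
theorem L8439 : sm ga N1741 = N870 := ded_11_1 (flp_f L4341) L4325 L8437
theorem L8441 : sm gg N866 = N1742 := rfl
theorem L8443 : sm ga N1742 = N871 := ded_12_1 (flp_g L4343) L4325 L8441
theorem L8445 : sm gd N867 = N1743 := rfl
theorem L8447 : sm gb N1743 = N986 := ded_14_1 (flp_d L4914) (flp_b L4329) L8445
theorem L8449 : sm ge N867 = N1744 := rfl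
theorem L8451 : sm gb N1744 = N987 := ded_15_1 (flp_e L4917) (flp_b L4329) L8449
theorem L8453 : sm gc N1744 = N869 := ded_19_1 (flp_e L4337) L4327 L8449
theorem L8455 : sm gf N867 = N1745 := rfl
theorem L8457 : sm gc N1745 = N870 := ded_20_1 (flp_f L4341) L4327 L8455
theorem L8459 : sm gg N867 = N1746 := rfl
theorem L8461 : sm gc N1746 = N871 := ded_21_1 (flp_g L4343) L4327 L8459
theorem L8463 : sm ge N868 = N1747 := rfl
theorem L8465 : sm gb N1747 = N872 := ded_15_1 (flp_e L4345) (flp_b L4333) L8463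
theorem L8467 : sm gc N1747 = N903 := ded_19_1 (flp_e L4505) L4335 L8463
theorem L8469 : sm gf N868 = N1748 := rfl
theorem L8471 : sm gc N1748 = N904 := ded_20_1 (flp_f L4509) L4335 L8469
theorem L8473 : sm gd N1748 = N870 := ded_23_1 (flp_f L4341) L4331 L8469
theorem L8475 : sm gg N868 = N1749 := rfl
theorem L8479 : sm gd N1749 = N871 := ded_24_1 (flp_g L4343) L4331 L8475
theorem L8481 : sm gd N869 = N1750 := rfl
theorem L8483 : sm gb N1750 = N875 := ded_14_1 (flp_d L4367) (flp_b L4339) L8481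
theorem L8485 : sm gf N869 = N1751 := rfl
theorem L8487 : sm ge N1751 = N870 := ded_25_1 (flp_f L4341) L4337 L8485
theorem L8489 : sm gg N869 = N1752 := rfl
theorem L8491 : sm ge N1752 = N871 := ded_26_1 (flp_g L4343) L4337 L8489
theorem L8493 : sm gb N870 = N1753 := rfl
theorem L8495 : sm gf N1753 = N878 := ded_16_2 (flp_b L4387) (flp_f L2270) L2256 L4341 L8493
theorem L8497 : sm gg N870 = N1754 := rfl
theorem L8499 : sm gf N1742 = N1754 := ded_29_0 (flp_g L8497) (flp_f L4341) L4343 (flp_a L8443)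
theorem L8501 : sm gb N871 = N1755 := rfl
theorem L8503 : sm gg N1755 = N879 := ded_17_2 (flp_b L4389) (flp_g L2276) L2256 L4343 L8501
theorem L8505 : sm gf N871 = N1756 := rfl
theorem L8507 : sm ga N1756 = N1754 := ded_11_1 (flp_f L8499) L8443 L8505
theorem L8509 : sm gg N1756 = N1741 := ded_29_3 L8439 (flp_f L4341) L4343 L8505
theorem L8511 : sm gd N872 = N1757 := rfl
theorem L8513 : sm ga N1757 = N880 := ded_9_1 (flp_d L4391) (flp_a L4347) L8511
theorem L8515 : sm ge N1757 = N875 := ded_22_2 (flp_d L4367) (flp_e L2264) L2258 L4345 L8511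
theorem L8517 : sm gf N872 = N1758 := rfl
theorem L8519 : sm ga N1758 = N881 := ded_11_1 (flp_f L4397) (flp_a L4347) L8517
theorem L8521 : sm gc N1758 = N881 := ded_20_1 (flp_f L4397) (flp_c L4349) L8517
theorem L8523 : sm ge N1758 = N873 := ded_25_1 (flp_f L4351) L4345 L8517
theorem L8525 : sm gg N872 = N1759 := rfl
theorem L8527 : sm ga N1759 = N882 := ded_12_1 (flp_g L4401) (flp_a L4347) L8525
theorem L8529 : sm gc N1759 = N882 := ded_21_1 (flp_g L4401) (flp_c L4349) L8525
theorem L8531 : sm ge N1759 = N874 := ded_26_1 (flp_g L4359) L4345 L8525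
theorem L8533 : sm gb N873 = N1760 := rfl
theorem L8535 : sm gd N1760 = N878 := ded_14_2 (flp_b L4387) (flp_d L4357) L8533
theorem L8537 : sm gb N874 = N1761 := rfl
theorem L8539 : sm gd N1761 = N879 := ded_14_2 (flp_b L4389) (flp_d L4365) L8537
theorem L8541 : sm gc N875 = N1762 := rfl
theorem L8543 : sm ga N1762 = N887 := ded_8_1 (flp_c L4433) (flp_a L4369) L8541
theorem L8545 : sm gf N875 = N1763 := rfl
theorem L8547 : sm ga N1763 = N888 := ded_11_1 (flp_f L4435) (flp_a L4369) L8545
theorem L8549 : sm gd N1763 = N876 := ded_23_1 (flp_f L4371) L4367 L8545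
theorem L8551 : sm gg N875 = N1764 := rfl
theorem L8553 : sm ga N1764 = N889 := ded_12_1 (flp_g L4439) (flp_a L4369) L8551
theorem L8555 : sm gd N1764 = N877 := ded_24_1 (flp_g L4379) L4367 L8551
theorem L8557 : sm gb N876 = N1765 := rfl
theorem L8559 : sm ge N1765 = N878 := ded_15_2 (flp_b L4387) (flp_e L4377) L8557
theorem L8561 : sm gb N877 = N1766 := rfl
theorem L8563 : sm ge N1766 = N879 := ded_15_2 (flp_b L4389) (flp_e L4385) L8561
theorem L8565 : sm ga N878 = N1767 := rfl
theorem L8567 : sm gc N878 = N1768 := rfl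
theorem L8569 : sm gb N1768 = N1011 := ded_13_1 (flp_c L5033) (flp_b L2621) (flp_c L2274) L4387 L8567
theorem L8571 : sm gf N1767 = N1768 := ded_30_0 (flp_c L8567) (flp_b L4387) L2272 (flp_f L1178) L546 (flp_b L277) L132 L165 L167 L92 (flp_a L141) (flp_f L139) L130 L277 L636 L1343 (flp_c L2274) L4387 L8565
theorem L8573 : sm gc N1753 = N1767 := ded_20_3 L8571 (flp_c L8567) (flp_f L8495)
theorem L8575 : sm ga N1768 = N1753 := ded_11_1 L8495 L8565 L8571
theorem L8577 : sm gg N878 = N1769 := rfl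
theorem L8579 : sm ga N879 = N1770 := rfl
theorem L8581 : sm gc N879 = N1771 := rfl
theorem L8583 : sm gb N1771 = N1014 := ded_13_1 (flp_c L5039) (flp_b L2623) (flp_c L2280) L4389 L8581
theorem L8585 : sm gf N879 = N1772 := rfl
theorem L8587 : sm gc N880 = N1773 := rfl
theorem L8589 : sm ge N1773 = N887 := ded_19_2 (flp_c L4433) (flp_e L4395) L8587
theorem L8591 : sm gf N880 = N1774 := rfl
theorem L8593 : sm gd N1774 = N881 := ded_23_1 (flp_f L4397) L4391 L8591
theorem L8595 : sm ge N1774 = N888 := ded_25_1 (flp_f L4435) (flp_e L4395) L8591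
theorem L8597 : sm gg N880 = N1775 := rfl
theorem L8599 : sm gd N1775 = N882 := ded_24_1 (flp_g L4401) L4391 L8597
theorem L8601 : sm ge N1775 = N889 := ded_26_1 (flp_g L4439) (flp_e L4395) L8597
theorem L8603 : sm gb N881 = N1776 := rfl
theorem L8605 : sm ge N1776 = N883 := ded_15_2 (flp_b L4405) (flp_e L4399) L8603
theorem L8607 : sm gf N1776 = N914 := ded_16_2 (flp_b L4563) (flp_f L2362) (flp_b L2284) L4397 L8603
theorem L8609 : sm gg N881 = N1777 := rfl
theorem L8611 : sm ge N1777 = N884 := ded_26_1 (flp_g L4411) (flp_e L4399) L8609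
theorem L8613 : sm gf N1759 = N1777 := ded_29_0 (flp_g L8609) (flp_f L4397) L4401 (flp_a L8527)
theorem L8615 : sm gb N882 = N1778 := rfl
theorem L8617 : sm ge N1778 = N885 := ded_15_2 (flp_b L4417) (flp_e L4403) L8615
theorem L8619 : sm gg N1778 = N916 := ded_17_2 (flp_b L4573) (flp_g L2366) (flp_b L2284) L4401 L8615
theorem L8621 : sm gf N882 = N1779 := rfl
theorem L8623 : sm ga N1779 = N1777 := ded_11_1 (flp_f L8613) L8527 L8621
theorem L8625 : sm gc N1779 = N1777 := ded_20_1 (flp_f L8613) L8529 L8621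
theorem L8627 : sm ge N1779 = N886 := ded_25_1 (flp_f L4423) (flp_e L4403) L8621
theorem L8629 : sm gg N1779 = N1758 := ded_29_3 L8519 (flp_f L4397) L4401 L8621
theorem L8631 : sm ga N883 = N1780 := rfl
theorem L8633 : sm gd N1780 = N894 := ded_9_2 (flp_a L4473) (flp_d L4407) L8631
theorem L8635 : sm gf N1780 = N918 := ded_11_2 (flp_a L4585) (flp_f L4409) L8631
theorem L8637 : sm gc N883 = N1781 := rfl
theorem L8639 : sm gf N1781 = N919 := ded_20_2 (flp_c L4589) (flp_f L4409) L8637
theorem L8641 : sm gg N883 = N1782 := rfl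
theorem L8643 : sm gd N1782 = N896 := ded_24_1 (flp_g L4483) (flp_d L4407) L8641
theorem L8645 : sm gb N884 = N1783 := rfl
theorem L8647 : sm gd N1783 = N897 := ded_14_2 (flp_b L4485) (flp_d L4413) L8645
theorem L8649 : sm ga N885 = N1784 := rfl
theorem L8651 : sm gd N1784 = N898 := ded_9_2 (flp_a L4487) (flp_d L4419) L8649
theorem L8653 : sm gg N1784 = N922 := ded_12_2 (flp_a L4599) (flp_g L4421) L8649
theorem L8655 : sm gc N885 = N1785 := rfl
theorem L8657 : sm gg N1785 = N923 := ded_21_2 (flp_c L4603) (flp_g L4421) L8655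
theorem L8659 : sm gf N885 = N1786 := rfl
theorem L8661 : sm gd N1786 = N900 := ded_23_1 (flp_f L4497) (flp_d L4419) L8659
theorem L8663 : sm gb N886 = N1787 := rfl
theorem L8665 : sm gd N1787 = N901 := ded_14_2 (flp_b L4499) (flp_d L4429) L8663
theorem L8667 : sm gb N887 = N1788 := rfl
theorem L8669 : sm gc N1788 = N926 := ded_13_2 (flp_b L4613) (flp_c L2392) (flp_b L2296) L4433 L8667
theorem L8671 : sm gd N887 = N1789 := rfl
theorem L8673 : sm gf N887 = N1790 := rfl
theorem L8675 : sm gc N1790 = N888 := ded_20_1 (flp_f L4435) L4433 L8673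
theorem L8677 : sm gg N887 = N1791 := rfl
theorem L8679 : sm gc N1791 = N889 := ded_21_1 (flp_g L4439) L4433 L8677
theorem L8681 : sm gb N888 = N1792 := rfl
theorem L8683 : sm gd N1792 = N890 := ded_14_2 (flp_b L4443) (flp_d L4437) L8681
theorem L8685 : sm gf N1792 = N929 := ded_16_2 (flp_b L4623) (flp_f L2394) (flp_b L2296) L4435 L8681
theorem L8687 : sm gg N888 = N1793 := rfl
theorem L8689 : sm gd N1793 = N891 := ded_24_1 (flp_g L4449) (flp_d L4437) L8687
theorem L8691 : sm gf N1764 = N1793 := ded_29_0 (flp_g L8687) (flp_f L4435) L4439 (flp_a L8553)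
theorem L8693 : sm gb N889 = N1794 := rfl
theorem L8695 : sm gd N1794 = N892 := ded_14_2 (flp_b L4457) (flp_d L4441) L8693
theorem L8697 : sm gg N1794 = N931 := ded_17_2 (flp_b L4633) (flp_g L2398) (flp_b L2296) L4439 L8693
theorem L8699 : sm gf N889 = N1795 := rfl
theorem L8701 : sm ga N1795 = N1793 := ded_11_1 (flp_f L8691) L8553 L8699
theorem L8703 : sm gd N1795 = N893 := ded_23_1 (flp_f L4463) (flp_d L4441) L8699
theorem L8705 : sm gg N1795 = N1763 := ded_29_3 L8547 (flp_f L4435) L4439 L8699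
theorem L8707 : sm ga N890 = N1796 := rfl
theorem L8709 : sm ge N1796 = N894 := ded_10_2 (flp_a L4473) (flp_e L4445) L8707
theorem L8711 : sm gf N1796 = N933 := ded_11_2 (flp_a L4645) (flp_f L4447) L8707
theorem L8713 : sm gc N890 = N1797 := rfl
theorem L8715 : sm ge N1797 = N895 := ded_19_2 (flp_c L4477) (flp_e L4445) L8713
theorem L8717 : sm gf N1797 = N934 := ded_20_2 (flp_c L4649) (flp_f L4447) L8713
theorem L8719 : sm gb N1797 = N1040 := ded_13_1 (flp_c L5171) (flp_b L2679) (flp_c L2300) L4443 L8713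
theorem L8721 : sm gg N890 = N1798 := rfl
theorem L8723 : sm ge N1798 = N896 := ded_26_1 (flp_g L4483) (flp_e L4445) L8721
theorem L8725 : sm gb N891 = N1799 := rfl
theorem L8727 : sm ge N1799 = N897 := ded_15_2 (flp_b L4485) (flp_e L4453) L8725
theorem L8729 : sm ga N892 = N1800 := rfl
theorem L8731 : sm ge N1800 = N898 := ded_10_2 (flp_a L4487) (flp_e L4459) L8729
theorem L8733 : sm gg N1800 = N937 := ded_12_2 (flp_a L4663) (flp_g L4461) L8729
theorem L8735 : sm gc N892 = N1801 := rfl
theorem L8737 : sm ge N1801 = N899 := ded_19_2 (flp_c L4491) (flp_e L4459) L8735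
theorem L8739 : sm gg N1801 = N938 := ded_21_2 (flp_c L4667) (flp_g L4461) L8735
theorem L8741 : sm gb N1801 = N1044 := ded_13_1 (flp_c L5191) (flp_b L2691) (flp_c L2306) L4457 L8735
theorem L8743 : sm gf N892 = N1802 := rfl
theorem L8745 : sm ge N1802 = N900 := ded_25_1 (flp_f L4497) (flp_e L4459) L8743
theorem L8747 : sm gb N893 = N1803 := rfl
theorem L8749 : sm ge N1803 = N901 := ded_15_2 (flp_b L4499) (flp_e L4469) L8747
theorem L8751 : sm gb N894 = N1804 := rfl
theorem L8753 : sm gc N894 = N1805 := rfl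
theorem L8755 : sm ga N1805 = N895 := ded_8_1 (flp_c L4477) L4473 L8753
theorem L8757 : sm gf N1805 = N942 := ded_20_2 (flp_c L4683) (flp_f L4475) L8753
theorem L8759 : sm gd N895 = N1806 := rfl
theorem L8761 : sm gb N1806 = N1049 := ded_14_1 (flp_d L5215) (flp_b L4481) L8759
theorem L8763 : sm gf N1806 = N944 := ded_23_2 (flp_d L4693) (flp_f L4479) L8759
theorem L8765 : sm gg N895 = N1807 := rfl
theorem L8767 : sm gc N1807 = N896 := ded_21_1 (flp_g L4483) L4477 L8765
theorem L8769 : sm gb N896 = N1808 := rfl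
theorem L8771 : sm gg N1808 = N897 := ded_17_2 (flp_b L4485) (flp_g L2314) L2310 L4483 L8769
theorem L8773 : sm ga N897 = N1809 := rfl
theorem L8775 : sm gc N897 = N1810 := rfl
theorem L8777 : sm gb N1810 = N1053 := ded_13_1 (flp_c L5229) (flp_b L2715) (flp_c L2316) L4485 L8775
theorem L8779 : sm gf N897 = N1811 := rfl
theorem L8781 : sm gb N1811 = N1772 := ded_16_1 (flp_f L8585) (flp_b L4389) L2318 L4485 L8779
theorem L8783 : sm gb N898 = N1812 := rfl
theorem L8785 : sm gc N898 = N1813 := rfl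
theorem L8787 : sm ga N1813 = N899 := ded_8_1 (flp_c L4491) L4487 L8785
theorem L8789 : sm gg N1813 = N952 := ded_21_2 (flp_c L4723) (flp_g L4489) L8785
theorem L8791 : sm gd N899 = N1814 := rfl
theorem L8793 : sm gb N1814 = N1057 := ded_14_1 (flp_d L5243) (flp_b L4495) L8791
theorem L8795 : sm gg N1814 = N954 := ded_24_2 (flp_d L4733) (flp_g L4493) L8791
theorem L8797 : sm gf N899 = N1815 := rfl
theorem L8799 : sm gc N1815 = N900 := ded_20_1 (flp_f L4497) L4491 L8797
theorem L8801 : sm gb N900 = N1816 := rfl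
theorem L8803 : sm gf N1816 = N901 := ded_16_2 (flp_b L4499) (flp_f L2324) L2320 L4497 L8801
theorem L8805 : sm ga N901 = N1817 := rfl
theorem L8807 : sm gc N901 = N1818 := rfl
theorem L8809 : sm gb N1818 = N1061 := ded_13_1 (flp_c L5257) (flp_b L2727) (flp_c L2328) L4499 L8807
theorem L8811 : sm gg N901 = N1819 := rfl
theorem L8813 : sm gb N1819 = N1769 := ded_17_1 (flp_g L8577) (flp_b L4387) (flp_g L2330) L4499 L8811
theorem L8815 : sm gb N902 = N1820 := rfl
theorem L8817 : sm gd N1820 = N1521 := ded_14_2 (flp_b L7430) (flp_d L4503) L8815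
theorem L8819 : sm ge N902 = N1821 := rfl
theorem L8821 : sm ga N1821 = N903 := ded_10_1 (flp_e L4505) L4501 L8819
theorem L8835 : sm gd N903 = N1824 := rfl
theorem L8839 : sm ge N1824 = N1525 := ded_22_2 (flp_d L7444) (flp_e L3847) (flp_d L2334) L4505 L8835
theorem L8841 : sm gf N903 = N1825 := rfl
theorem L8845 : sm gg N903 = N1826 := rfl
theorem L8847 : sm ge N1826 = N905 := ded_26_1 (flp_g L4513) L4505 L8845
theorem L8849 : sm gb N904 = N1827 := rfl
theorem L8851 : sm gd N1827 = N1528 := ded_14_2 (flp_b L7456) (flp_d L4511) L8849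
theorem L8853 : sm gf N1827 = N909 := ded_16_2 (flp_b L4539) (flp_f L2342) L2332 L4509 L8849
theorem L8861 : sm gb N905 = N1829 := rfl
theorem L8863 : sm gd N1829 = N1530 := ded_14_2 (flp_b L7464) (flp_d L4515) L8861
theorem L8865 : sm gg N1829 = N910 := ded_17_2 (flp_b L4543) (flp_g L2350) L2332 L4513 L8861
theorem L8875 : sm gc N906 = N1831 := rfl
theorem L8877 : sm ga N1831 = N1674 := ded_8_1 (flp_c L8122) (flp_a L4519) L8875
theorem L8879 : sm ge N1831 = N1532 := ded_19_2 (flp_c L7474) (flp_e L4521) L8875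
theorem L8881 : sm gf N906 = N1832 := rfl
theorem L8885 : sm gd N1832 = N907 := ded_23_1 (flp_f L4523) L4517 L8881
theorem L8889 : sm gg N906 = N1833 := rfl
theorem L8891 : sm ga N1833 = N1676 := ded_12_1 (flp_g L8132) (flp_a L4519) L8889
theorem L8893 : sm gd N1833 = N908 := ded_24_1 (flp_g L4531) L4517 L8889
theorem L8897 : sm gb N907 = N1834 := rfl
theorem L8899 : sm ge N1834 = N909 := ded_15_2 (flp_b L4539) (flp_e L4529) L8897
theorem L8901 : sm gb N908 = N1835 := rfl
theorem L8903 : sm ge N1835 = N910 := ded_15_2 (flp_b L4543) (flp_e L4537) L8901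
theorem L8905 : sm ga N909 = N1836 := rfl
theorem L8907 : sm gd N1836 = N1537 := ded_9_2 (flp_a L7500) (flp_d L4541) L8905
theorem L8909 : sm gc N909 = N1837 := rfl
theorem L8911 : sm gb N1837 = N919 := ded_13_1 (flp_c L4589) (flp_b L2370) (flp_c L2346) L4539 L8909
theorem L8913 : sm gg N909 = N1838 := rfl
theorem L8917 : sm ga N910 = N1839 := rfl
theorem L8919 : sm gd N1839 = N1540 := ded_9_2 (flp_a L7508) (flp_d L4545) L8917
theorem L8921 : sm gc N910 = N1840 := rfl
theorem L8923 : sm gb N1840 = N923 := ded_13_1 (flp_c L4603) (flp_b L2380) (flp_c L2354) L4543 L8921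
theorem L8929 : sm gb N911 = N1842 := rfl
theorem L8931 : sm ge N1842 = N926 := ded_15_2 (flp_b L4613) (flp_e L4549) L8929
theorem L8933 : sm gd N911 = N1843 := rfl
theorem L8935 : sm gf N911 = N1844 := rfl
theorem L8937 : sm gc N1844 = N912 := ded_20_1 (flp_f L4551) L4547 L8935
theorem L8939 : sm ge N1844 = N927 := ded_25_1 (flp_f L4615) (flp_e L4549) L8935
theorem L8941 : sm gg N911 = N1845 := rfl
theorem L8943 : sm gc N1845 = N913 := ded_21_1 (flp_g L4557) L4547 L8941
theorem L8945 : sm ge N1845 = N928 := ded_26_1 (flp_g L4619) (flp_e L4549) L8941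
theorem L8947 : sm gb N912 = N1846 := rfl
theorem L8949 : sm gd N1846 = N914 := ded_14_2 (flp_b L4563) (flp_d L4553) L8947
theorem L8951 : sm ge N1846 = N929 := ded_15_2 (flp_b L4623) (flp_e L4555) L8947
theorem L8953 : sm gg N912 = N1847 := rfl
theorem L8955 : sm gd N1847 = N915 := ded_24_1 (flp_g L4567) (flp_d L4553) L8953
theorem L8957 : sm ge N1847 = N930 := ded_26_1 (flp_g L4627) (flp_e L4555) L8953
theorem L8959 : sm gf N1594 = N1847 := ded_29_0 (flp_g L8953) (flp_f L4551) L4557 (flp_a L7765)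
theorem L8961 : sm gb N913 = N1848 := rfl
theorem L8963 : sm gd N1848 = N916 := ded_14_2 (flp_b L4573) (flp_d L4559) L8961
theorem L8965 : sm ge N1848 = N931 := ded_15_2 (flp_b L4633) (flp_e L4561) L8961
theorem L8967 : sm gf N913 = N1849 := rfl
theorem L8969 : sm ga N1849 = N1847 := ded_11_1 (flp_f L8959) L7765 L8967
theorem L8971 : sm gd N1849 = N917 := ded_23_1 (flp_f L4577) (flp_d L4559) L8967
theorem L8973 : sm ge N1849 = N932 := ded_25_1 (flp_f L4637) (flp_e L4561) L8967
theorem L8975 : sm gg N1849 = N1593 := ded_29_3 L7757 (flp_f L4551) L4557 L8967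
theorem L8977 : sm ga N914 = N1850 := rfl
theorem L8979 : sm ge N1850 = N918 := ded_10_2 (flp_a L4585) (flp_e L4565) L8977
theorem L8981 : sm gc N914 = N1851 := rfl
theorem L8983 : sm ge N1851 = N919 := ded_19_2 (flp_c L4589) (flp_e L4565) L8981
theorem L8985 : sm gg N914 = N1852 := rfl
theorem L8987 : sm ge N1852 = N920 := ded_26_1 (flp_g L4591) (flp_e L4565) L8985
theorem L8989 : sm gb N915 = N1853 := rfl
theorem L8991 : sm ge N1853 = N921 := ded_15_2 (flp_b L4595) (flp_e L4569) L8989
theorem L8993 : sm ga N916 = N1854 := rfl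
theorem L8995 : sm ge N1854 = N922 := ded_10_2 (flp_a L4599) (flp_e L4575) L8993
theorem L8997 : sm gc N916 = N1855 := rfl
theorem L8999 : sm ge N1855 = N923 := ded_19_2 (flp_c L4603) (flp_e L4575) L8997
theorem L9001 : sm gf N916 = N1856 := rfl
theorem L9003 : sm ge N1856 = N924 := ded_25_1 (flp_f L4605) (flp_e L4575) L9001
theorem L9005 : sm gb N917 = N1857 := rfl
theorem L9007 : sm ge N1857 = N925 := ded_15_2 (flp_b L4609) (flp_e L4581) L9005
theorem L9009 : sm gb N918 = N1858 := rfl
theorem L9011 : sm gd N1858 = N941 := ded_14_2 (flp_b L4681) (flp_d L4587) L9009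
theorem L9013 : sm gc N918 = N1859 := rfl
theorem L9017 : sm gg N918 = N1860 := rfl
theorem L9019 : sm ga N1860 = N920 := ded_12_1 (flp_g L4591) L4585 L9017
theorem L9021 : sm gd N1860 = N943 := ded_24_1 (flp_g L4687) (flp_d L4587) L9017
theorem L9023 : sm gf N1860 = N1782 := ded_29_2 (flp_g L8641) L8631 L8635 L9017
theorem L9025 : sm gd N919 = N1861 := rfl
theorem L9027 : sm gg N919 = N1862 := rfl
theorem L9029 : sm gc N1862 = N920 := ded_21_1 (flp_g L4591) L4589 L9027
theorem L9031 : sm gb N920 = N1863 := rfl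
theorem L9033 : sm gd N1863 = N946 := ded_14_2 (flp_b L4701) (flp_d L4593) L9031
theorem L9035 : sm gg N1863 = N921 := ded_17_2 (flp_b L4595) (flp_g L2374) L2370 L4591 L9031
theorem L9037 : sm gf N920 = N1864 := rfl
theorem L9039 : sm ga N1864 = N1782 := ded_11_1 (flp_f L9023) L9019 L9037
theorem L9041 : sm gd N1864 = N947 := ded_23_1 (flp_f L4705) (flp_d L4593) L9037
theorem L9043 : sm gg N1864 = N1780 := ded_29_3 (flp_a L8631) L4409 L4591 L9037
theorem L9045 : sm ga N921 = N1865 := rfl
theorem L9047 : sm gd N1865 = N948 := ded_9_2 (flp_a L4711) (flp_d L4597) L9045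
theorem L9049 : sm gc N921 = N1866 := rfl
theorem L9051 : sm gf N921 = N1867 := rfl
theorem L9053 : sm gd N1867 = N950 := ded_23_1 (flp_f L4717) (flp_d L4597) L9051
theorem L9055 : sm gb N1867 = N1602 := ded_16_1 (flp_f L7795) (flp_b L4009) L2378 L4595 L9051
theorem L9057 : sm gb N922 = N1868 := rfl
theorem L9059 : sm gd N1868 = N951 := ded_14_2 (flp_b L4721) (flp_d L4601) L9057
theorem L9061 : sm gc N922 = N1869 := rfl
theorem L9063 : sm ga N1869 = N923 := ded_8_1 (flp_c L4603) L4599 L9061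
theorem L9065 : sm gf N922 = N1870 := rfl
theorem L9067 : sm ga N1870 = N924 := ded_11_1 (flp_f L4605) L4599 L9065
theorem L9069 : sm gd N1870 = N953 := ded_23_1 (flp_f L4727) (flp_d L4601) L9065
theorem L9071 : sm gg N1786 = N1870 := ded_29_1 (flp_f L9065) (flp_g L8653) (flp_a L8649) L8659
theorem L9073 : sm gd N923 = N1871 := rfl
theorem L9075 : sm gf N923 = N1872 := rfl
theorem L9077 : sm gc N1872 = N924 := ded_20_1 (flp_f L4605) L4603 L9075
theorem L9079 : sm gb N924 = N1873 := rfl
theorem L9081 : sm gd N1873 = N956 := ded_14_2 (flp_b L4741) (flp_d L4607) L9079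
theorem L9083 : sm gf N1873 = N925 := ded_16_2 (flp_b L4609) (flp_f L2384) L2380 L4605 L9079
theorem L9085 : sm gg N924 = N1874 := rfl
theorem L9087 : sm ga N1874 = N1786 := ded_12_1 L9071 L9067 L9085
theorem L9089 : sm gd N1874 = N957 := ded_24_1 (flp_g L4745) (flp_d L4607) L9085
theorem L9091 : sm gf N1784 = N1874 := ded_29_0 (flp_g L9085) (flp_f L4605) (flp_g L4421) L8649
theorem L9093 : sm ga N925 = N1875 := rfl
theorem L9095 : sm gd N1875 = N958 := ded_9_2 (flp_a L4751) (flp_d L4611) L9093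
theorem L9097 : sm gc N925 = N1876 := rfl
theorem L9099 : sm gg N925 = N1877 := rfl
theorem L9101 : sm gd N1877 = N960 := ded_24_1 (flp_g L4757) (flp_d L4611) L9099
theorem L9105 : sm ga N926 = N1878 := rfl
theorem L9107 : sm gf N926 = N1879 := rfl
theorem L9109 : sm gg N926 = N1880 := rfl
theorem L9111 : sm gb N927 = N1881 := rfl
theorem L9113 : sm gg N927 = N1882 := rfl
theorem L9115 : sm gc N1882 = N930 := ded_21_1 (flp_g L4627) (flp_c L4617) L9113
theorem L9117 : sm gf N1605 = N1882 := ded_29_0 (flp_g L9113) (flp_f L4615) L4619 (flp_a L7813)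
theorem L9119 : sm gb N928 = N1883 := rfl
theorem L9121 : sm gf N928 = N1884 := rfl
theorem L9123 : sm ga N1884 = N1882 := ded_11_1 (flp_f L9117) L7813 L9121
theorem L9125 : sm gc N1884 = N932 := ded_20_1 (flp_f L4637) (flp_c L4621) L9121
theorem L9127 : sm gd N1884 = N1882 := ded_23_1 (flp_f L9117) L7817 L9121
theorem L9129 : sm gg N1884 = N1604 := ded_29_3 L7805 (flp_f L4615) L4619 L9121
theorem L9131 : sm ga N929 = N1885 := rfl
theorem L9133 : sm gd N1885 = N933 := ded_9_2 (flp_a L4645) (flp_d L4625) L9131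
theorem L9135 : sm gc N929 = N1886 := rfl
theorem L9137 : sm gg N929 = N1887 := rfl
theorem L9139 : sm gd N1887 = N935 := ded_24_1 (flp_g L4655) (flp_d L4625) L9137
theorem L9141 : sm gb N930 = N1888 := rfl
theorem L9143 : sm gd N1888 = N936 := ded_14_2 (flp_b L4659) (flp_d L4629) L9141
theorem L9145 : sm ga N931 = N1889 := rfl
theorem L9147 : sm gd N1889 = N937 := ded_9_2 (flp_a L4663) (flp_d L4635) L9145
theorem L9149 : sm gc N931 = N1890 := rfl
theorem L9151 : sm gf N931 = N1891 := rfl
theorem L9153 : sm gd N1891 = N939 := ded_23_1 (flp_f L4673) (flp_d L4635) L9151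
theorem L9155 : sm gb N932 = N1892 := rfl
theorem L9157 : sm gd N1892 = N940 := ded_14_2 (flp_b L4677) (flp_d L4641) L9155
theorem L9159 : sm gb N933 = N1893 := rfl
theorem L9161 : sm ge N1893 = N941 := ded_15_2 (flp_b L4681) (flp_e L4647) L9159
theorem L9163 : sm gc N933 = N1894 := rfl
theorem L9165 : sm ga N1894 = N934 := ded_8_1 (flp_c L4649) L4645 L9163
theorem L9167 : sm ge N1894 = N942 := ded_19_2 (flp_c L4683) (flp_e L4647) L9163
theorem L9169 : sm gg N933 = N1895 := rfl
theorem L9171 : sm ga N1895 = N935 := ded_12_1 (flp_g L4655) L4645 L9169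
theorem L9173 : sm ge N1895 = N943 := ded_26_1 (flp_g L4687) (flp_e L4647) L9169
theorem L9175 : sm gf N1895 = N1798 := ded_29_2 (flp_g L8721) L8707 L8711 L9169
theorem L9177 : sm gd N934 = N1896 := rfl
theorem L9179 : sm gb N1896 = N961 := ded_14_1 (flp_d L4761) (flp_b L4653) L9177
theorem L9181 : sm gg N934 = N1897 := rfl
theorem L9183 : sm gc N1897 = N935 := ded_21_1 (flp_g L4655) L4649 L9181
theorem L9185 : sm ge N1897 = N945 := ded_26_1 (flp_g L4697) (flp_e L4651) L9181
theorem L9187 : sm gb N935 = N1898 := rfl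
theorem L9189 : sm ge N1898 = N946 := ded_15_2 (flp_b L4701) (flp_e L4657) L9187
theorem L9191 : sm gg N1898 = N936 := ded_17_2 (flp_b L4659) (flp_g L2406) L2402 L4655 L9187
theorem L9193 : sm gf N935 = N1899 := rfl
theorem L9195 : sm ga N1899 = N1798 := ded_11_1 (flp_f L9175) L9171 L9193
theorem L9197 : sm ge N1899 = N947 := ded_25_1 (flp_f L4705) (flp_e L4657) L9193
theorem L9199 : sm gg N1899 = N1796 := ded_29_3 (flp_a L8707) L4447 L4655 L9193
theorem L9201 : sm ga N936 = N1900 := rfl
theorem L9203 : sm ge N1900 = N948 := ded_10_2 (flp_a L4711) (flp_e L4661) L9201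
theorem L9205 : sm gc N936 = N1901 := rfl
theorem L9207 : sm ge N1901 = N949 := ded_19_2 (flp_c L4713) (flp_e L4661) L9205
theorem L9209 : sm gb N1901 = N963 := ded_13_1 (flp_c L4771) (flp_b L2459) (flp_c L2408) L4659 L9205
theorem L9211 : sm gf N936 = N1902 := rfl
theorem L9213 : sm ge N1902 = N950 := ded_25_1 (flp_f L4717) (flp_e L4661) L9211
theorem L9217 : sm gb N937 = N1903 := rfl
theorem L9219 : sm ge N1903 = N951 := ded_15_2 (flp_b L4721) (flp_e L4665) L9217
theorem L9221 : sm gc N937 = N1904 := rfl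
theorem L9223 : sm ga N1904 = N938 := ded_8_1 (flp_c L4667) L4663 L9221
theorem L9225 : sm ge N1904 = N952 := ded_19_2 (flp_c L4723) (flp_e L4665) L9221
theorem L9227 : sm gf N937 = N1905 := rfl
theorem L9229 : sm ga N1905 = N939 := ded_11_1 (flp_f L4673) L4663 L9227
theorem L9231 : sm ge N1905 = N953 := ded_25_1 (flp_f L4727) (flp_e L4665) L9227
theorem L9233 : sm gg N1802 = N1905 := ded_29_1 (flp_f L9227) (flp_g L8733) (flp_a L8729) L8743
theorem L9235 : sm gd N938 = N1906 := rfl
theorem L9237 : sm gb N1906 = N965 := ded_14_1 (flp_d L4787) (flp_b L4671) L9235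
theorem L9239 : sm gf N938 = N1907 := rfl
theorem L9241 : sm gc N1907 = N939 := ded_20_1 (flp_f L4673) L4667 L9239
theorem L9243 : sm ge N1907 = N955 := ded_25_1 (flp_f L4737) (flp_e L4669) L9239
theorem L9245 : sm gb N939 = N1908 := rfl
theorem L9247 : sm ge N1908 = N956 := ded_15_2 (flp_b L4741) (flp_e L4675) L9245
theorem L9249 : sm gf N1908 = N940 := ded_16_2 (flp_b L4677) (flp_f L2418) L2414 L4673 L9245
theorem L9251 : sm gg N939 = N1909 := rfl
theorem L9253 : sm ga N1909 = N1802 := ded_12_1 L9233 L9229 L9251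
theorem L9255 : sm ge N1909 = N957 := ded_26_1 (flp_g L4745) (flp_e L4675) L9251
theorem L9257 : sm gf N1800 = N1909 := ded_29_0 (flp_g L9251) (flp_f L4673) (flp_g L4461) L8729
theorem L9259 : sm ga N940 = N1910 := rfl
theorem L9261 : sm ge N1910 = N958 := ded_10_2 (flp_a L4751) (flp_e L4679) L9259
theorem L9263 : sm gc N940 = N1911 := rfl
theorem L9265 : sm ge N1911 = N959 := ded_19_2 (flp_c L4753) (flp_e L4679) L9263
theorem L9267 : sm gb N1911 = N967 := ded_13_1 (flp_c L4799) (flp_b L2491) (flp_c L2422) L4677 L9263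
theorem L9269 : sm gg N940 = N1912 := rfl
theorem L9275 : sm ga N941 = N1913 := rfl
theorem L9277 : sm gc N941 = N1914 := rfl
theorem L9279 : sm gf N941 = N1915 := rfl
theorem L9281 : sm gg N941 = N1916 := rfl
theorem L9283 : sm gb N942 = N1917 := rfl
theorem L9285 : sm gd N942 = N1918 := rfl
theorem L9287 : sm ga N1918 = N944 := ded_9_1 (flp_d L4693) (flp_a L4685) L9285
theorem L9289 : sm gg N942 = N1919 := rfl
theorem L9291 : sm ga N1919 = N945 := ded_12_1 (flp_g L4697) (flp_a L4685) L9289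
theorem L9293 : sm gc N1919 = N943 := ded_21_1 (flp_g L4687) L4683 L9289
theorem L9295 : sm gf N1919 = N1807 := ded_29_2 (flp_g L8765) (flp_a L8755) L8757 L9289
theorem L9297 : sm gb N943 = N1920 := rfl
theorem L9299 : sm gc N944 = N1921 := rfl
theorem L9301 : sm gb N1921 = N1118 := ded_13_1 (flp_c L5533) L2853 (flp_c L2506) (flp_b L4695) L9299
theorem L9303 : sm ge N944 = N1922 := rfl
theorem L9305 : sm gb N1922 = N968 := ded_15_1 (flp_e L4809) (flp_b L4695) L9303
theorem L9307 : sm gg N944 = N1923 := rfl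
theorem L9309 : sm gd N1923 = N945 := ded_24_1 (flp_g L4697) L4693 L9307
theorem L9311 : sm gb N945 = N1924 := rfl
theorem L9313 : sm gg N1924 = N970 := ded_17_2 (flp_b L4821) (flp_g L2508) (flp_b L2432) L4697 L9311
theorem L9315 : sm gf N945 = N1925 := rfl
theorem L9317 : sm ga N1925 = N1807 := ded_11_1 (flp_f L9295) L9291 L9315
theorem L9319 : sm gc N1925 = N947 := ded_20_1 (flp_f L4705) (flp_c L4699) L9315
theorem L9321 : sm gg N1925 = N1805 := ded_29_3 L8755 L4479 L4697 L9315
theorem L9323 : sm ga N946 = N1926 := rfl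
theorem L9325 : sm gg N1926 = N948 := ded_12_2 (flp_a L4711) (flp_g L4703) L9323
theorem L9327 : sm gc N946 = N1927 := rfl
theorem L9329 : sm gg N1927 = N949 := ded_21_2 (flp_c L4713) (flp_g L4703) L9327
theorem L9331 : sm gf N946 = N1928 := rfl
theorem L9333 : sm gb N947 = N1929 := rfl
theorem L9335 : sm gb N948 = N1930 := rfl
theorem L9337 : sm gc N948 = N1931 := rfl
theorem L9339 : sm ga N1931 = N949 := ded_8_1 (flp_c L4713) L4711 L9337
theorem L9341 : sm gf N948 = N1932 := rfl
theorem L9343 : sm ga N1932 = N950 := ded_11_1 (flp_f L4717) L4711 L9341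
theorem L9345 : sm gg N1928 = N1932 := ded_29_1 (flp_f L9341) (flp_g L9325) (flp_a L9323) L9331
theorem L9347 : sm gd N949 = N1933 := rfl
theorem L9349 : sm gb N1933 = N971 := ded_14_1 (flp_d L4823) (flp_b L4715) L9347
theorem L9351 : sm gf N949 = N1934 := rfl
theorem L9355 : sm gb N1934 = N1171 := ded_16_1 (flp_f L5757) (flp_b L2993) (flp_f L2516) (flp_b L4715) L9351
theorem L9357 : sm gg N950 = N1935 := rfl
theorem L9359 : sm ga N1935 = N1928 := ded_12_1 L9345 L9343 L9357
theorem L9361 : sm gf N1926 = N1935 := ded_29_0 (flp_g L9357) (flp_f L4717) (flp_g L4703) L9323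
theorem L9363 : sm ga N951 = N1936 := rfl
theorem L9365 : sm gc N951 = N1937 := rfl
theorem L9367 : sm gf N951 = N1938 := rfl
theorem L9369 : sm gg N951 = N1939 := rfl
theorem L9371 : sm gb N952 = N1940 := rfl
theorem L9373 : sm gd N952 = N1941 := rfl
theorem L9375 : sm ga N1941 = N954 := ded_9_1 (flp_d L4733) (flp_a L4725) L9373
theorem L9377 : sm gf N952 = N1942 := rfl
theorem L9379 : sm ga N1942 = N955 := ded_11_1 (flp_f L4737) (flp_a L4725) L9377
theorem L9381 : sm gc N1942 = N953 := ded_20_1 (flp_f L4727) L4723 L9377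
theorem L9383 : sm gg N1815 = N1942 := ded_29_1 (flp_f L9377) (flp_g L8789) L8787 L8797
theorem L9385 : sm gb N953 = N1943 := rfl
theorem L9387 : sm gc N954 = N1944 := rfl
theorem L9389 : sm ge N954 = N1945 := rfl
theorem L9391 : sm gb N1945 = N975 := ded_15_1 (flp_e L4842) (flp_b L4735) L9389
theorem L9393 : sm gf N954 = N1946 := rfl
theorem L9395 : sm gd N1946 = N955 := ded_23_1 (flp_f L4737) L4733 L9393
theorem L9397 : sm gb N955 = N1947 := rfl
theorem L9399 : sm gf N1947 = N977 := ded_16_2 (flp_b L4852) (flp_f L2528) (flp_b L2442) L4737 L9397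
theorem L9401 : sm gg N955 = N1948 := rfl
theorem L9403 : sm ga N1948 = N1815 := ded_12_1 L9383 L9379 L9401
theorem L9405 : sm gc N1948 = N957 := ded_21_1 (flp_g L4745) (flp_c L4739) L9401
theorem L9407 : sm gf N1813 = N1948 := ded_29_0 (flp_g L9401) (flp_f L4737) (flp_g L4493) (flp_a L8787)
theorem L9409 : sm ga N956 = N1949 := rfl
theorem L9411 : sm gf N1949 = N958 := ded_11_2 (flp_a L4751) (flp_f L4743) L9409
theorem L9413 : sm gc N956 = N1950 := rfl
theorem L9415 : sm gf N1950 = N959 := ded_20_2 (flp_c L4753) (flp_f L4743) L9413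
theorem L9417 : sm gg N956 = N1951 := rfl
theorem L9419 : sm gb N957 = N1952 := rfl
theorem L9421 : sm gb N958 = N1953 := rfl
theorem L9423 : sm gc N958 = N1954 := rfl
theorem L9425 : sm ga N1954 = N959 := ded_8_1 (flp_c L4753) L4751 L9423
theorem L9427 : sm gg N958 = N1955 := rfl
theorem L9431 : sm gf N1955 = N1951 := ded_29_2 (flp_g L9417) L9409 L9411 L9427
theorem L9433 : sm gd N959 = N1956 := rfl
theorem L9435 : sm gb N1956 = N978 := ded_14_1 (flp_d L4856) (flp_b L4755) L9433
theorem L9437 : sm gg N959 = N1957 := rfl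
theorem L9443 : sm gf N960 = N1958 := rfl
theorem L9447 : sm gg N1958 = N1949 := ded_29_3 (flp_a L9409) L4743 L4757 L9443
theorem L9449 : sm gc N961 = N1959 := rfl
theorem L9451 : sm gf N1959 = N1141 := ded_20_2 (flp_c L5623) (flp_f L4763) L9449
theorem L9453 : sm ge N961 = N1960 := rfl
theorem L9455 : sm gf N1960 = N1142 := ded_25_2 (flp_e L5625) (flp_f L4763) L9453
theorem L9457 : sm gd N1960 = N968 := ded_22_1 (flp_e L4809) (flp_d L2502) (flp_e L2450) L4761 L9453
theorem L9459 : sm gg N961 = N1961 := rfl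
theorem L9461 : sm gd N1961 = N962 := ded_24_1 (flp_g L4765) L4761 L9459
theorem L9463 : sm gb N962 = N1962 := rfl
theorem L9465 : sm ge N1962 = N970 := ded_15_2 (flp_b L4821) (flp_e L4769) L9463
theorem L9467 : sm gd N963 = N1963 := rfl
theorem L9469 : sm ga N1963 = N1151 := ded_9_1 L5671 (flp_a L4773) L9467
theorem L9471 : sm gf N1963 = N1148 := ded_23_2 (flp_d L5659) (flp_f L4777) L9467
theorem L9473 : sm gb N964 = N1964 := rfl
theorem L9475 : sm ge N1964 = N972 := ded_15_2 (flp_b L4829) (flp_e L4783) L9473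
theorem L9478 : sm gd N964 = N1965 := rfl
theorem L9480 : sm ga N1965 = N965 := ded_9_1 (flp_d L4787) (flp_a L4781) L9478
theorem L9482 : sm gg N1965 = N1148 := ded_24_2 (flp_d L5659) (flp_g L4785) L9478
theorem L9484 : sm gc N965 = N1966 := rfl
theorem L9486 : sm gg N1966 = N1149 := ded_21_2 (flp_c L5663) (flp_g L4789) L9484
theorem L9488 : sm ge N965 = N1967 := rfl
theorem L9490 : sm gg N1967 = N1150 := ded_26_2 (flp_e L5665) (flp_g L4789) L9488
theorem L9492 : sm gd N1967 = N975 := ded_22_1 (flp_e L4842) (flp_d L2524) (flp_e L2478) L4787 L9488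
theorem L9494 : sm gf N965 = N1968 := rfl
theorem L9496 : sm gd N1968 = N966 := ded_23_1 (flp_f L4791) L4787 L9494
theorem L9498 : sm gg N1968 = N1963 := ded_29_3 L9469 (flp_f L5669) (flp_g L4789) L9494
theorem L9500 : sm gb N966 = N1969 := rfl
theorem L9502 : sm ge N1969 = N977 := ded_15_2 (flp_b L4852) (flp_e L4795) L9500
theorem L9504 : sm gc N1969 = N1962 := ded_13_2 (flp_b L9463) L4767 (flp_b L2489) (flp_c L4793) L9500
theorem L9506 : sm gd N967 = N1970 := rfl
theorem L9508 : sm ga N1970 = N1143 := ded_9_1 L5631 (flp_a L4801) L9506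
theorem L9510 : sm gf N1970 = N1961 := ded_23_2 L9461 (flp_f L4805) L9506
theorem L9512 : sm gg N1970 = N1140 := ded_24_2 (flp_d L5619) (flp_g L4807) L9506
theorem L9514 : sm gg N968 = N1971 := rfl
theorem L9516 : sm gc N1971 = N1161 := ded_21_1 (flp_g L5713) (flp_c L4811) L9514
theorem L9518 : sm ge N1971 = N969 := ded_26_1 (flp_g L4815) L4809 L9514
theorem L9520 : sm gb N969 = N1972 := rfl
theorem L9522 : sm gd N1972 = N970 := ded_14_2 (flp_b L4821) (flp_d L4819) L9520
theorem L9524 : sm ga N970 = N1973 := rfl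
theorem L9526 : sm gf N970 = N1974 := rfl
theorem L9528 : sm gc N1974 = N1947 := ded_20_1 L9399 L4854 L9526
theorem L9530 : sm gb N1974 = N1950 := ded_16_1 L9415 L4755 L2538 L4821 L9526
theorem L9532 : sm ge N971 = N1975 := rfl
theorem L9534 : sm ga N1975 = N1177 := ded_10_1 L5779 (flp_a L4825) L9532
theorem L9536 : sm gf N1975 = N1173 := ded_25_2 (flp_e L5761) (flp_f L4827) L9532
theorem L9538 : sm ga N972 = N1976 := rfl
theorem L9541 : sm gd N972 = N1977 := rfl
theorem L9543 : sm gb N1977 = N973 := ded_14_1 (flp_d L4832) L4829 L9541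
theorem L9545 : sm gf N972 = N1978 := rfl
theorem L9548 : sm gg N972 = N1979 := rfl
theorem L9551 : sm gb N1979 = N1172 := ded_17_1 (flp_g L5759) (flp_b L2993) (flp_g L2522) L4829 L9548
theorem L9553 : sm ge N973 = N1980 := rfl
theorem L9555 : sm ga N1980 = N975 := ded_10_1 (flp_e L4842) (flp_a L4834) L9553
theorem L9557 : sm gg N1980 = N1173 := ded_26_2 (flp_e L5761) (flp_g L4836) L9553
theorem L9559 : sm gb N974 = N1981 := rfl
theorem L9567 : sm gf N974 = N1983 := rfl
theorem L9569 : sm ga N1983 = N1737 := ded_11_1 L8417 L4902 L9567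
theorem L9571 : sm gc N1983 = N976 := ded_20_1 (flp_f L4846) L4838 L9567
theorem L9577 : sm gf N975 = N1984 := rfl
theorem L9579 : sm ge N1984 = N976 := ded_25_1 (flp_f L4846) L4842 L9577
theorem L9581 : sm gg N1984 = N1975 := ded_29_3 L9534 (flp_f L5777) (flp_g L4844) L9577
theorem L9583 : sm gb N976 = N1985 := rfl
theorem L9585 : sm gd N1985 = N977 := ded_14_2 (flp_b L4852) (flp_d L4848) L9583
theorem L9587 : sm ga N977 = N1986 := rfl
theorem L9589 : sm gc N1986 = N1973 := ded_8_2 (flp_a L9524) (flp_c L4854) L9587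
theorem L9591 : sm gg N977 = N1987 := rfl
theorem L9593 : sm gc N1987 = N1924 := ded_21_1 L9313 (flp_c L4854) L9591
theorem L9595 : sm gb N1987 = N1927 := ded_17_1 L9329 L4715 (flp_g L2532) L4852 L9591
theorem L9597 : sm ge N978 = N1988 := rfl
theorem L9599 : sm ga N1988 = N1161 := ded_10_1 L5715 (flp_a L4858) L9597
theorem L9601 : sm gf N1988 = N1971 := ded_25_2 L9518 (flp_f L4860) L9597
theorem L9603 : sm gg N1988 = N1160 := ded_26_2 (flp_e L5709) (flp_g L4862) L9597
theorem L9607 : sm ge N979 = N1990 := rfl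
theorem L9613 : sm gf N1990 = N1190 := ded_25_2 (flp_e L5841) (flp_f L4868) L9607
theorem L9615 : sm gg N1990 = N1729 := ded_26_2 L8373 (flp_g L4870) L9607
theorem L9617 : sm gb N981 = N1991 := rfl
theorem L9619 : sm gd N1991 = N1981 := ded_14_2 (flp_b L9559) L4887 L9617
theorem L9621 : sm gc N1991 = N1513 := ded_13_2 (flp_b L7376) L3799 (flp_b L2554) L4881 L9617
theorem L9623 : sm ge N981 = N1992 := rfl
theorem L9625 : sm ga N1992 = N985 := ded_10_1 (flp_e L4908) (flp_a L4883) L9623
theorem L9629 : sm gg N1992 = N1190 := ded_26_2 (flp_e L5841) (flp_g L4885) L9623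
theorem L9631 : sm ga N983 = N1993 := rfl
theorem L9637 : sm ge N983 = N1995 := rfl
theorem L9639 : sm gb N1995 = N985 := ded_15_1 (flp_e L4908) L4898 L9637
theorem L9643 : sm gg N983 = N1997 := rfl
theorem L9645 : sm gb N1997 = N1195 := ded_17_1 (flp_g L5862) (flp_b L3049) (flp_g L2560) L4898 L9643
theorem L9647 : sm ge N984 = N1998 := rfl
theorem L9651 : sm gc N1998 = N1980 := ded_19_1 (flp_e L9553) L4906 L9647
theorem L9653 : sm gg N1998 = N1196 := ded_26_2 (flp_e L5865) (flp_g L4904) L9647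
theorem L9655 : sm gd N985 = N1999 := rfl
theorem L9657 : sm gg N1999 = N1198 := ded_24_2 (flp_d L5879) (flp_g L4912) L9655
theorem L9659 : sm gc N986 = N2000 := rfl
theorem L9661 : sm ga N2000 = N2000 := ded_8_1 (flp_c L9659) L4916 L9659
theorem L9662 : sm ge N986 = N2001 := rfl
theorem L9665 : sm gf N986 = N2002 := rfl
theorem L9667 : sm ga N2002 = N2002 := ded_11_1 (flp_f L9665) L4916 L9665
theorem L9668 : sm gd N2002 = N988 := ded_23_1 (flp_f L4922) L4914 L9665
theorem L9670 : sm gg N986 = N2003 := rfl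
theorem L9675 : sm gd N987 = N2004 := rfl
theorem L9677 : sm ga N2004 = N2004 := ded_9_1 (flp_d L9675) L4919 L9675
theorem L9678 : sm gf N987 = N2005 := rfl
theorem L9683 : sm ge N2005 = N988 := ded_25_1 (flp_f L4922) L4917 L9678
theorem L9685 : sm gg N987 = N2006 := rfl
theorem L9690 : sm ge N2006 = N989 := ded_26_1 (flp_g L4927) L4917 L9685
theorem L9692 : sm gb N988 = N2007 := rfl
theorem L9694 : sm gg N988 = N2008 := rfl
theorem L9697 : sm gc N2008 = N998 := ded_21_1 (flp_g L4970) (flp_c L4925) L9694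
theorem L9701 : sm gb N989 = N2009 := rfl
theorem L9703 : sm gd N990 = N2010 := rfl
theorem L9705 : sm ga N2010 = N2010 := ded_9_1 (flp_d L9703) L4934 L9703
theorem L9706 : sm gb N2010 = N2010 := ded_14_1 (flp_d L9703) L4935 L9703
theorem L9707 : sm ge N990 = N2011 := rfl
theorem L9709 : sm ga N2011 = N2011 := ded_10_1 (flp_e L9707) L4934 L9707
theorem L9710 : sm gb N2011 = N2011 := ded_15_1 (flp_e L9707) L4935 L9707
theorem L9711 : sm gc N2011 = N991 := ded_19_1 (flp_e L4936) L4932 L9707
theorem L9713 : sm gf N990 = N2012 := rfl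
theorem L9716 : sm gc N2012 = N992 := ded_20_1 (flp_f L4941) L4932 L9713
theorem L9718 : sm gg N990 = N2013 := rfl
theorem L9721 : sm gc N2013 = N993 := ded_21_1 (flp_g L4946) L4932 L9718
theorem L9723 : sm gd N991 = N2014 := rfl
theorem L9725 : sm ga N2014 = N2014 := ded_9_1 (flp_d L9723) L4938 L9723
theorem L9726 : sm gb N2014 = N1000 := ded_14_1 (flp_d L4979) (flp_b L4939) L9723
theorem L9728 : sm ge N2014 = N994 := ded_22_2 (flp_d L4951) (flp_e L2575) L2570 L4936 L9723
theorem L9730 : sm gf N991 = N2015 := rfl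
theorem L9733 : sm ge N2015 = N992 := ded_25_1 (flp_f L4941) L4936 L9730
theorem L9735 : sm gg N991 = N2016 := rfl
theorem L9740 : sm gb N992 = N2017 := rfl
theorem L9742 : sm gd N2017 = N997 := ded_14_2 (flp_b L4966) (flp_d L4944) L9740
theorem L9744 : sm gf N2017 = N1003 := ded_16_2 (flp_b L4999) (flp_f L2591) (flp_b L2573) L4941 L9740
theorem L9746 : sm gg N992 = N2018 := rfl
theorem L9748 : sm ga N2018 = N2018 := ded_12_1 (flp_g L9746) L4943 L9746
theorem L9751 : sm gf N2018 = N993 := ded_29_0 (flp_g L4946) L4941 L9746 L9748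
theorem L9753 : sm gb N993 = N2019 := rfl
theorem L9755 : sm gd N2019 = N999 := ded_14_2 (flp_b L4975) (flp_d L4949) L9753
theorem L9757 : sm gg N2019 = N1004 := ded_17_2 (flp_b L5003) (flp_g L2598) (flp_b L2573) L4946 L9753
theorem L9759 : sm gc N994 = N2020 := rfl
theorem L9761 : sm ga N2020 = N2020 := ded_8_1 (flp_c L9759) L4953 L9759
theorem L9762 : sm gf N994 = N2021 := rfl
theorem L9764 : sm ga N2021 = N2021 := ded_11_1 (flp_f L9762) L4953 L9762
theorem L9765 : sm gd N2021 = N995 := ded_23_1 (flp_f L4956) L4951 L9762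
theorem L9767 : sm gg N994 = N2022 := rfl
theorem L9770 : sm gd N2022 = N996 := ded_24_1 (flp_g L4961) L4951 L9767
theorem L9772 : sm gb N995 = N2023 := rfl
theorem L9774 : sm ge N2023 = N997 := ded_15_2 (flp_b L4966) (flp_e L4959) L9772
theorem L9776 : sm gf N2023 = N1008 := ded_16_2 (flp_b L5023) (flp_f L2609) (flp_b L2578) L4956 L9772
theorem L9778 : sm gg N995 = N2024 := rfl
theorem L9781 : sm ge N2024 = N998 := ded_26_1 (flp_g L4970) (flp_e L4959) L9778
theorem L9785 : sm gb N996 = N2025 := rfl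
theorem L9787 : sm ge N2025 = N999 := ded_15_2 (flp_b L4975) (flp_e L4964) L9785
theorem L9789 : sm gg N2025 = N1009 := ded_17_2 (flp_b L5027) (flp_g L2615) (flp_b L2578) L4961 L9785
theorem L9791 : sm ga N997 = N2026 := rfl
theorem L9793 : sm gf N2026 = N1010 := ded_11_2 (flp_a L5031) (flp_f L4968) L9791
theorem L9795 : sm gc N997 = N2027 := rfl
theorem L9797 : sm gf N2027 = N1011 := ded_20_2 (flp_c L5033) (flp_f L4968) L9795
theorem L9799 : sm gg N997 = N2028 := rfl
theorem L9801 : sm gb N998 = N2029 := rfl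
theorem L9803 : sm ga N999 = N2030 := rfl
theorem L9805 : sm gg N2030 = N1013 := ded_12_2 (flp_a L5037) (flp_g L4977) L9803
theorem L9807 : sm gc N999 = N2031 := rfl
theorem L9809 : sm gg N2031 = N1014 := ded_21_2 (flp_c L5039) (flp_g L4977) L9807
theorem L9811 : sm gf N999 = N2032 := rfl
theorem L9813 : sm gc N1000 = N2033 := rfl
theorem L9815 : sm ga N2033 = N1016 := ded_8_1 (flp_c L5043) (flp_a L4981) L9813
theorem L9817 : sm ge N2033 = N1005 := ded_19_2 (flp_c L5007) (flp_e L4983) L9813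
theorem L9819 : sm gf N1000 = N2034 := rfl
theorem L9821 : sm ga N2034 = N1017 := ded_11_1 (flp_f L5047) (flp_a L4981) L9819
theorem L9823 : sm gd N2034 = N1001 := ded_23_1 (flp_f L4985) L4979 L9819
theorem L9825 : sm ge N2034 = N1006 := ded_25_1 (flp_f L5011) (flp_e L4983) L9819
theorem L9827 : sm gg N1000 = N2035 := rfl
theorem L9829 : sm ga N2035 = N1018 := ded_12_1 (flp_g L5053) (flp_a L4981) L9827
theorem L9831 : sm gd N2035 = N1002 := ded_24_1 (flp_g L4992) L4979 L9827
theorem L9833 : sm ge N2035 = N1007 := ded_26_1 (flp_g L5017) (flp_e L4983) L9827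
theorem L9835 : sm gb N1001 = N2036 := rfl
theorem L9837 : sm ge N2036 = N1003 := ded_15_2 (flp_b L4999) (flp_e L4990) L9835
theorem L9839 : sm gb N1002 = N2037 := rfl
theorem L9841 : sm ge N2037 = N1004 := ded_15_2 (flp_b L5003) (flp_e L4997) L9839
theorem L9843 : sm ga N1003 = N2038 := rfl
theorem L9845 : sm gd N2038 = N1010 := ded_9_2 (flp_a L5031) (flp_d L5001) L9843
theorem L9847 : sm gc N1003 = N2039 := rfl
theorem L9850 : sm gg N1003 = N2040 := rfl
theorem L9852 : sm gd N2040 = N1012 := ded_24_1 (flp_g L5035) (flp_d L5001) L9850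
theorem L9854 : sm ga N1004 = N2041 := rfl
theorem L9856 : sm gd N2041 = N1013 := ded_9_2 (flp_a L5037) (flp_d L5005) L9854
theorem L9858 : sm gc N1004 = N2042 := rfl
theorem L9861 : sm gf N1004 = N2043 := rfl
theorem L9863 : sm gd N2043 = N1015 := ded_23_1 (flp_f L5041) (flp_d L5005) L9861
theorem L9865 : sm gb N1005 = N2044 := rfl
theorem L9867 : sm gd N1005 = N2045 := rfl
theorem L9869 : sm ga N2045 = N1032 := ded_9_1 (flp_d L5129) (flp_a L5009) L9867
theorem L9871 : sm gc N2045 = N1789 := ded_28_6 (flp_d L8671) (flp_a L8543) (flp_c L8541) (flp_d L4367) L2268 L2605 L5007 L9867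
theorem L9873 : sm gf N1005 = N2046 := rfl
theorem L9875 : sm ga N2046 = N1033 := ded_11_1 (flp_f L5131) (flp_a L5009) L9873
theorem L9877 : sm gc N2046 = N1006 := ded_20_1 (flp_f L5011) L5007 L9873
theorem L9879 : sm gg N1005 = N2047 := rfl
theorem L9881 : sm ga N2047 = N1034 := ded_12_1 (flp_g L5135) (flp_a L5009) L9879
theorem L9883 : sm gc N2047 = N1007 := ded_21_1 (flp_g L5017) L5007 L9879
theorem L9885 : sm gb N1006 = N2048 := rfl
theorem L9887 : sm gd N2048 = N1008 := ded_14_2 (flp_b L5023) (flp_d L5015) L9885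
theorem L9889 : sm gb N1007 = N2049 := rfl
theorem L9891 : sm gd N2049 = N1009 := ded_14_2 (flp_b L5027) (flp_d L5021) L9889
theorem L9893 : sm ga N1008 = N2050 := rfl
theorem L9895 : sm ge N2050 = N1010 := ded_10_2 (flp_a L5031) (flp_e L5025) L9893
theorem L9897 : sm gc N1008 = N2051 := rfl
theorem L9901 : sm gg N1008 = N2052 := rfl
theorem L9903 : sm ge N2052 = N1012 := ded_26_1 (flp_g L5035) (flp_e L5025) L9901
theorem L9905 : sm ga N1009 = N2053 := rfl
theorem L9907 : sm ge N2053 = N1013 := ded_10_2 (flp_a L5037) (flp_e L5029) L9905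
theorem L9909 : sm gc N1009 = N2054 := rfl
theorem L9911 : sm ge N2054 = N1014 := ded_19_2 (flp_c L5039) (flp_e L5029) L9909
theorem L9913 : sm gf N1009 = N2055 := rfl
theorem L9917 : sm gb N1010 = N2056 := rfl
theorem L9919 : sm gc N1010 = N2057 := rfl
theorem L9921 : sm ga N2057 = N1011 := ded_8_1 (flp_c L5033) L5031 L9919
theorem L9923 : sm gg N1010 = N2058 := rfl
theorem L9925 : sm ga N2058 = N1012 := ded_12_1 (flp_g L5035) L5031 L9923
theorem L9927 : sm gf N2058 = N2028 := ded_29_2 (flp_g L9799) L9791 L9793 L9923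
theorem L9929 : sm gd N1011 = N2059 := rfl
theorem L9931 : sm gg N1011 = N2060 := rfl
theorem L9933 : sm gc N2060 = N1012 := ded_21_1 (flp_g L5035) L5033 L9931
theorem L9935 : sm gf N1012 = N2061 := rfl
theorem L9937 : sm ga N2061 = N2028 := ded_11_1 (flp_f L9927) L9925 L9935
theorem L9939 : sm gg N2061 = N2026 := ded_29_3 (flp_a L9791) L4968 L5035 L9935
theorem L9941 : sm gb N1013 = N2062 := rfl
theorem L9943 : sm gc N1013 = N2063 := rfl
theorem L9945 : sm ga N2063 = N1014 := ded_8_1 (flp_c L5039) L5037 L9943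
theorem L9947 : sm gf N1013 = N2064 := rfl
theorem L9949 : sm ga N2064 = N1015 := ded_11_1 (flp_f L5041) L5037 L9947
theorem L9951 : sm gg N2032 = N2064 := ded_29_1 (flp_f L9947) (flp_g L9805) (flp_a L9803) L9811
theorem L9953 : sm gd N1014 = N2065 := rfl
theorem L9955 : sm gf N1014 = N2066 := rfl
theorem L9957 : sm gc N2066 = N1015 := ded_20_1 (flp_f L5041) L5039 L9955
theorem L9959 : sm gg N1015 = N2067 := rfl
theorem L9961 : sm ga N2067 = N2032 := ded_12_1 L9951 L9949 L9959
theorem L9963 : sm gf N2030 = N2067 := ded_29_0 (flp_g L9959) (flp_f L5041) (flp_g L4977) L9803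
theorem L9965 : sm gb N1016 = N2068 := rfl
theorem L9967 : sm ge N2068 = N1031 := ded_15_2 (flp_b L5125) (flp_e L5045) L9965
theorem L9969 : sm gc N2068 = N1063 := ded_13_2 (flp_b L5263) (flp_c L2729) (flp_b L2627) L5043 L9965
theorem L9971 : sm gd N1016 = N2069 := rfl
theorem L9973 : sm gf N1016 = N2070 := rfl
theorem L9975 : sm gc N2070 = N1017 := ded_20_1 (flp_f L5047) L5043 L9973
theorem L9977 : sm ge N2070 = N1033 := ded_25_1 (flp_f L5131) (flp_e L5045) L9973
theorem L9979 : sm gg N1016 = N2071 := rfl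
theorem L9981 : sm gc N2071 = N1018 := ded_21_1 (flp_g L5053) L5043 L9979
theorem L9983 : sm ge N2071 = N1034 := ded_26_1 (flp_g L5135) (flp_e L5045) L9979
theorem L9985 : sm gb N1017 = N2072 := rfl
theorem L9987 : sm gd N2072 = N1019 := ded_14_2 (flp_b L5059) (flp_d L5049) L9985
theorem L9989 : sm ge N2072 = N1035 := ded_15_2 (flp_b L5139) (flp_e L5051) L9985
theorem L9991 : sm gf N2072 = N1067 := ded_16_2 (flp_b L5290) (flp_f L2735) (flp_b L2627) L5047 L9985
theorem L9993 : sm gg N1017 = N2073 := rfl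
theorem L9995 : sm gd N2073 = N1020 := ded_24_1 (flp_g L5065) (flp_d L5049) L9993
theorem L9997 : sm ge N2073 = N1036 := ded_26_1 (flp_g L5145) (flp_e L5051) L9993
theorem L9999 : sm gf N2035 = N2073 := ded_29_0 (flp_g L9993) (flp_f L5047) L5053 (flp_a L9829)
theorem L10001 : sm gb N1018 = N2074 := rfl
theorem L10003 : sm gd N2074 = N1021 := ded_14_2 (flp_b L5072) (flp_d L5055) L10001
theorem L10005 : sm ge N2074 = N1037 := ded_15_2 (flp_b L5151) (flp_e L5057) L10001
theorem L10007 : sm gg N2074 = N1068 := ded_17_2 (flp_b L5296) (flp_g L2743) (flp_b L2627) L5053 L10001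
theorem L10009 : sm gf N1018 = N2075 := rfl
theorem L10011 : sm ga N2075 = N2073 := ded_11_1 (flp_f L9999) L9829 L10009
theorem L10013 : sm gd N2075 = N1022 := ded_23_1 (flp_f L5078) (flp_d L5055) L10009
theorem L10015 : sm ge N2075 = N1038 := ded_25_1 (flp_f L5157) (flp_e L5057) L10009
theorem L10017 : sm gg N2075 = N2034 := ded_29_3 L9821 (flp_f L5047) L5053 L10009
theorem L10019 : sm ga N1019 = N2076 := rfl
theorem L10021 : sm ge N2076 = N1023 := ded_10_2 (flp_a L5087) (flp_e L5061) L10019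
theorem L10023 : sm gf N2076 = N1069 := ded_11_2 (flp_a L5302) (flp_f L5063) L10019
theorem L10025 : sm gc N1019 = N2077 := rfl
theorem L10027 : sm ge N2077 = N1024 := ded_19_2 (flp_c L5093) (flp_e L5061) L10025
theorem L10029 : sm gf N2077 = N1070 := ded_20_2 (flp_c L5306) (flp_f L5063) L10025
theorem L10032 : sm gg N1019 = N2078 := rfl
theorem L10034 : sm ge N2078 = N1025 := ded_26_1 (flp_g L5098) (flp_e L5061) L10032
theorem L10036 : sm gb N1020 = N2079 := rfl
theorem L10038 : sm ge N2079 = N1026 := ded_15_2 (flp_b L5102) (flp_e L5068) L10036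
theorem L10040 : sm ga N1021 = N2080 := rfl
theorem L10042 : sm ge N2080 = N1027 := ded_10_2 (flp_a L5106) (flp_e L5074) L10040
theorem L10044 : sm gg N2080 = N1072 := ded_12_2 (flp_a L5316) (flp_g L5076) L10040
theorem L10046 : sm gc N1021 = N2081 := rfl
theorem L10050 : sm gg N2081 = N1073 := ded_21_2 (flp_c L5320) (flp_g L5076) L10046
theorem L10052 : sm gb N2081 = N2081 := ded_13_1 (flp_c L10046) (flp_b L5072) L2638 L5072 L10046
theorem L10053 : sm gf N1021 = N2082 := rfl
theorem L10055 : sm ge N2082 = N1029 := ded_25_1 (flp_f L5117) (flp_e L5074) L10053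
theorem L10057 : sm gb N1022 = N2083 := rfl
theorem L10059 : sm ge N2083 = N1030 := ded_15_2 (flp_b L5121) (flp_e L5083) L10057
theorem L10061 : sm gb N1023 = N2084 := rfl
theorem L10063 : sm gd N2084 = N1047 := ded_14_2 (flp_b L5205) (flp_d L5089) L10061
theorem L10065 : sm gc N1023 = N2085 := rfl
theorem L10067 : sm ga N2085 = N1024 := ded_8_1 (flp_c L5093) L5087 L10065
theorem L10069 : sm gf N2085 = N1076 := ded_20_2 (flp_c L5334) (flp_f L5091) L10065
theorem L10071 : sm gd N1024 = N2086 := rfl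
theorem L10073 : sm gb N2086 = N2086 := ded_14_1 (flp_d L10071) L5097 L10071
theorem L10074 : sm gf N2086 = N1078 := ded_23_2 (flp_d L5346) (flp_f L5095) L10071
theorem L10076 : sm gg N1024 = N2087 := rfl
theorem L10078 : sm gc N2087 = N1025 := ded_21_1 (flp_g L5098) L5093 L10076
theorem L10080 : sm gb N1025 = N2088 := rfl
theorem L10082 : sm gd N2088 = N1051 := ded_14_2 (flp_b L5223) (flp_d L5100) L10080
theorem L10084 : sm gg N2088 = N1026 := ded_17_2 (flp_b L5102) (flp_g L2647) L2641 L5098 L10080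
theorem L10086 : sm ga N1026 = N2089 := rfl
theorem L10088 : sm gd N2089 = N1052 := ded_9_2 (flp_a L5227) (flp_d L5104) L10086
theorem L10090 : sm gc N1026 = N2090 := rfl
theorem L10092 : sm gb N2090 = N2090 := ded_13_1 (flp_c L10090) (flp_b L5102) L2649 L5102 L10090
theorem L10093 : sm gf N1026 = N2091 := rfl
theorem L10095 : sm gd N2091 = N1054 := ded_23_1 (flp_f L5231) (flp_d L5104) L10093
theorem L10097 : sm gb N2091 = N2043 := ded_16_1 (flp_f L9861) (flp_b L5003) L2652 L5102 L10093
theorem L10099 : sm gb N1027 = N2092 := rfl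
theorem L10101 : sm gd N2092 = N1055 := ded_14_2 (flp_b L5235) (flp_d L5108) L10099
theorem L10103 : sm gc N1027 = N2093 := rfl
theorem L10105 : sm ga N2093 = N1028 := ded_8_1 (flp_c L5112) L5106 L10103
theorem L10107 : sm gg N2093 = N1082 := ded_21_2 (flp_c L5366) (flp_g L5110) L10103
theorem L10109 : sm gd N1028 = N2094 := rfl
theorem L10111 : sm gb N2094 = N2094 := ded_14_1 (flp_d L10109) L5116 L10109
theorem L10112 : sm gg N2094 = N1084 := ded_24_2 (flp_d L5378) (flp_g L5114) L10109
theorem L10114 : sm gf N1028 = N2095 := rfl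
theorem L10116 : sm gc N2095 = N1029 := ded_20_1 (flp_f L5117) L5112 L10114
theorem L10118 : sm gb N1029 = N2096 := rfl
theorem L10122 : sm gf N2096 = N1030 := ded_16_2 (flp_b L5121) (flp_f L2660) L2654 L5117 L10118
theorem L10124 : sm ga N1030 = N2097 := rfl
theorem L10126 : sm gd N2097 = N1060 := ded_9_2 (flp_a L5255) (flp_d L5123) L10124
theorem L10128 : sm gc N1030 = N2098 := rfl
theorem L10130 : sm gb N2098 = N2098 := ded_13_1 (flp_c L10128) (flp_b L5121) L2664 L5121 L10128
theorem L10131 : sm gg N1030 = N2099 := rfl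
theorem L10133 : sm gd N2099 = N1062 := ded_24_1 (flp_g L5259) (flp_d L5123) L10131
theorem L10135 : sm gb N2099 = N2040 := ded_17_1 (flp_g L9850) (flp_b L4999) (flp_g L2667) L5121 L10131
theorem L10137 : sm ga N1031 = N2100 := rfl
theorem L10139 : sm gc N2100 = N1087 := ded_8_2 (flp_a L5394) (flp_c L5127) L10137
theorem L10141 : sm gd N1031 = N2101 := rfl
theorem L10143 : sm gb N2101 = N1032 := ded_14_1 (flp_d L5129) L5125 L10141
theorem L10145 : sm gf N1031 = N2102 := rfl
theorem L10147 : sm gc N2102 = N1088 := ded_20_1 (flp_f L5398) (flp_c L5127) L10145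
theorem L10149 : sm gg N1031 = N2103 := rfl
theorem L10151 : sm gc N2103 = N1089 := ded_21_1 (flp_g L5402) (flp_c L5127) L10149
theorem L10153 : sm gc N1032 = N2104 := rfl
theorem L10155 : sm ga N2104 = N1789 := ded_8_1 (flp_c L9871) L9869 L10153
theorem L10157 : sm gd N2104 = N1762 := ded_28_7 L8543 (flp_c L4433) (flp_d L2294) L1176 L1366 L2669 L5129 L10153
theorem L10159 : sm ge N1032 = N2105 := rfl
theorem L10161 : sm gf N1032 = N2106 := rfl
theorem L10163 : sm gd N2106 = N1033 := ded_23_1 (flp_f L5131) L5129 L10161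
theorem L10165 : sm gg N1032 = N2107 := rfl
theorem L10167 : sm gd N2107 = N1034 := ded_24_1 (flp_g L5135) L5129 L10165
theorem L10169 : sm gb N1033 = N2108 := rfl
theorem L10171 : sm gg N1033 = N2109 := rfl
theorem L10173 : sm gc N2109 = N1036 := ded_21_1 (flp_g L5145) (flp_c L5133) L10171
theorem L10175 : sm gf N2047 = N2109 := ded_29_0 (flp_g L10171) (flp_f L5131) L5135 (flp_a L9881)
theorem L10177 : sm gb N1034 = N2110 := rfl
theorem L10179 : sm gf N1034 = N2111 := rfl
theorem L10181 : sm ga N2111 = N2109 := ded_11_1 (flp_f L10175) L9881 L10179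
theorem L10183 : sm gc N2111 = N1038 := ded_20_1 (flp_f L5157) (flp_c L5137) L10179
theorem L10185 : sm gg N2111 = N2046 := ded_29_3 L9875 (flp_f L5131) L5135 L10179
theorem L10187 : sm ga N1035 = N2112 := rfl
theorem L10189 : sm gd N2112 = N1039 := ded_9_2 (flp_a L5165) (flp_d L5141) L10187
theorem L10191 : sm gf N2112 = N1092 := ded_11_2 (flp_a L5414) (flp_f L5143) L10187
theorem L10193 : sm gc N1035 = N2113 := rfl
theorem L10195 : sm gf N2113 = N1093 := ded_20_2 (flp_c L5418) (flp_f L5143) L10193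
theorem L10197 : sm gg N1035 = N2114 := rfl
theorem L10199 : sm gd N2114 = N1041 := ded_24_1 (flp_g L5177) (flp_d L5141) L10197
theorem L10201 : sm gb N1036 = N2115 := rfl
theorem L10203 : sm gd N2115 = N1042 := ded_14_2 (flp_b L5181) (flp_d L5147) L10201
theorem L10205 : sm ga N1037 = N2116 := rfl
theorem L10207 : sm gd N2116 = N1043 := ded_9_2 (flp_a L5185) (flp_d L5153) L10205
theorem L10209 : sm gg N2116 = N1095 := ded_12_2 (flp_a L5424) (flp_g L5155) L10205
theorem L10211 : sm gc N1037 = N2117 := rfl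
theorem L10213 : sm gg N2117 = N1096 := ded_21_2 (flp_c L5428) (flp_g L5155) L10211
theorem L10215 : sm gf N1037 = N2118 := rfl
theorem L10217 : sm gd N2118 = N1045 := ded_23_1 (flp_f L5197) (flp_d L5153) L10215
theorem L10219 : sm gb N1038 = N2119 := rfl
theorem L10221 : sm gd N2119 = N1046 := ded_14_2 (flp_b L5201) (flp_d L5161) L10219
theorem L10223 : sm gb N1039 = N2120 := rfl
theorem L10225 : sm ge N2120 = N1047 := ded_15_2 (flp_b L5205) (flp_e L5167) L10223
theorem L10227 : sm gc N2120 = N2120 := ded_19_3 L10225 L5214 (flp_e L10225)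
theorem L10228 : sm gc N1039 = N2121 := rfl
theorem L10230 : sm ga N2121 = N1040 := ded_8_1 (flp_c L5171) L5165 L10228
theorem L10232 : sm ge N2121 = N1048 := ded_19_2 (flp_c L5207) (flp_e L5167) L10228
theorem L10234 : sm gf N2121 = N1099 := ded_20_2 (flp_c L5438) (flp_f L5169) L10228
theorem L10236 : sm gb N2121 = N2121 := ded_13_1 (flp_c L10228) L10223 L10227 (flp_b L10223) L10228
theorem L10237 : sm gd N1040 = N2122 := rfl
theorem L10239 : sm gf N2122 = N1101 := ded_23_2 (flp_d L5452) (flp_f L5175) L10237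
theorem L10241 : sm gg N1040 = N2123 := rfl
theorem L10245 : sm ge N2123 = N1050 := ded_26_1 (flp_g L5219) (flp_e L5173) L10241
theorem L10247 : sm gb N1041 = N2124 := rfl
theorem L10249 : sm ge N2124 = N1051 := ded_15_2 (flp_b L5223) (flp_e L5179) L10247
theorem L10251 : sm gg N2124 = N1042 := ded_17_2 (flp_b L5181) (flp_g L2685) L2679 L5177 L10247
theorem L10253 : sm ga N1042 = N2125 := rfl
theorem L10255 : sm ge N2125 = N1052 := ded_10_2 (flp_a L5227) (flp_e L5183) L10253
theorem L10257 : sm gc N1042 = N2126 := rfl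
theorem L10259 : sm ge N2126 = N1053 := ded_19_2 (flp_c L5229) (flp_e L5183) L10257
theorem L10261 : sm gf N1042 = N2127 := rfl
theorem L10263 : sm ge N2127 = N1054 := ded_25_1 (flp_f L5231) (flp_e L5183) L10261
theorem L10265 : sm gb N2127 = N2055 := ded_16_1 (flp_f L9913) (flp_b L5027) L2689 L5181 L10261
theorem L10267 : sm gb N1043 = N2128 := rfl
theorem L10269 : sm ge N2128 = N1055 := ded_15_2 (flp_b L5235) (flp_e L5187) L10267
theorem L10271 : sm gc N1043 = N2129 := rfl
theorem L10273 : sm ga N2129 = N1044 := ded_8_1 (flp_c L5191) L5185 L10271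
theorem L10275 : sm ge N2129 = N1056 := ded_19_2 (flp_c L5237) (flp_e L5187) L10271
theorem L10277 : sm gg N2129 = N1105 := ded_21_2 (flp_c L5474) (flp_g L5189) L10271
theorem L10279 : sm gd N1044 = N2130 := rfl
theorem L10281 : sm gg N2130 = N1107 := ded_24_2 (flp_d L5488) (flp_g L5195) L10279
theorem L10283 : sm gf N1044 = N2131 := rfl
theorem L10285 : sm gc N2131 = N1045 := ded_20_1 (flp_f L5197) L5191 L10283
theorem L10287 : sm ge N2131 = N1058 := ded_25_1 (flp_f L5247) (flp_e L5193) L10283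
theorem L10289 : sm gb N1045 = N2132 := rfl
theorem L10291 : sm ge N2132 = N1059 := ded_15_2 (flp_b L5251) (flp_e L5199) L10289
theorem L10293 : sm gf N2132 = N1046 := ded_16_2 (flp_b L5201) (flp_f L2697) L2691 L5197 L10289
theorem L10295 : sm ga N1046 = N2133 := rfl
theorem L10297 : sm ge N2133 = N1060 := ded_10_2 (flp_a L5255) (flp_e L5203) L10295
theorem L10299 : sm gc N1046 = N2134 := rfl
theorem L10301 : sm ge N2134 = N1061 := ded_19_2 (flp_c L5257) (flp_e L5203) L10299
theorem L10303 : sm gg N1046 = N2135 := rfl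
theorem L10305 : sm ge N2135 = N1062 := ded_26_1 (flp_g L5259) (flp_e L5203) L10303
theorem L10309 : sm ga N1047 = N2136 := rfl
theorem L10312 : sm gf N2136 = N1047 := ded_30_4 L5214 (flp_b L5205) (flp_a L2705) L1380 L1454 L1456 (flp_a L1506) (flp_f L1556) (flp_c L1552) L741 L739 L576 L711 (flp_b L1456) (flp_a L2843) (flp_f L5211) (flp_c L5207) L5205 L10309
theorem L10314 : sm gb N1112 = N2136 := ded_16_5 L10312 (flp_b L5205) L2707 L2839 L5512
theorem L10316 : sm ga N2056 = N1112 := ded_7_9 L10314 (flp_a L10309) (flp_b L5205) (flp_a L2705) (flp_b L1378) (flp_a L1345) L2621 L5031 L9917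
theorem L10318 : sm gf N1110 = N2056 := ded_11_0 L10316 (flp_f L5512) L5506
theorem L10320 : sm gb N2026 = N1347 := ded_16_3 (flp_f L6612) (flp_b L5508) L10318 (flp_b L9917) (flp_f L9793)
theorem L10322 : sm gg N1047 = N2137 := rfl
theorem L10324 : sm gc N2137 = N2137 := ded_21_1 (flp_g L10322) L5214 L10322
theorem L10325 : sm gf N2137 = N2137 := ded_29_2 (flp_g L10322) L10309 L10312 L10322
theorem L10326 : sm gd N1048 = N2138 := rfl
theorem L10328 : sm ga N2138 = N1049 := ded_9_1 (flp_d L5215) (flp_a L5209) L10326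
theorem L10330 : sm gb N2138 = N2138 := ded_14_1 (flp_d L10326) L5213 L10326
theorem L10331 : sm gf N2138 = N1115 := ded_23_2 (flp_d L5519) (flp_f L5211) L10326
theorem L10333 : sm gc N1049 = N2139 := rfl
theorem L10335 : sm gf N2139 = N1118 := ded_20_2 (flp_c L5533) (flp_f L5217) L10333
theorem L10337 : sm ge N1049 = N2140 := rfl
theorem L10339 : sm gf N2140 = N1119 := ded_25_2 (flp_e L5535) (flp_f L5217) L10337
theorem L10341 : sm gg N1049 = N2141 := rfl
theorem L10343 : sm gd N2141 = N1050 := ded_24_1 (flp_g L5219) L5215 L10341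
theorem L10345 : sm gb N1050 = N2142 := rfl
theorem L10347 : sm ga N1051 = N2143 := rfl
theorem L10349 : sm gg N2143 = N1052 := ded_12_2 (flp_a L5227) (flp_g L5225) L10347
theorem L10351 : sm gc N1051 = N2144 := rfl
theorem L10353 : sm gg N2144 = N1053 := ded_21_2 (flp_c L5229) (flp_g L5225) L10351
theorem L10355 : sm gf N1051 = N2145 := rfl
theorem L10357 : sm gg N1399 = N2145 := ded_31_0 (flp_f L10355) (flp_b L5223) (flp_g L2713) L1380 (flp_b L693) (flp_g L397) (flp_f L391) L387 L390 L874 L1766 L3473 (flp_f L3485) L6810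
theorem L10359 : sm gf N1399 = N1052 := ded_29_2 (flp_g L10349) (flp_a L10347) L10355 (flp_g L10357)
theorem L10361 : sm ga N1399 = N1054 := ded_29_4 (flp_f L5231) (flp_g L5225) L10355 (flp_g L10357)
theorem L10363 : sm gb N2145 = N1395 := ded_17_1 (flp_g L6794) (flp_b L3475) L3481 L6810 L10357
theorem L10365 : sm gf N1395 = N1117 := ded_16_2 (flp_b L5531) L2849 L5223 L10355 L10363
theorem L10367 : sm gb N1052 = N2146 := rfl
theorem L10369 : sm gf N2146 = N1387 := ded_16_2 L6767 (flp_f L3485) L6810 L10359 L10367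
theorem L10371 : sm gc N1052 = N2147 := rfl
theorem L10373 : sm ga N2147 = N1053 := ded_8_1 (flp_c L5229) L5227 L10371
theorem L10375 : sm gd N1053 = N2148 := rfl
theorem L10377 : sm gf N1053 = N2149 := rfl
theorem L10379 : sm gc N2149 = N1054 := ded_20_1 (flp_f L5231) L5229 L10377
theorem L10381 : sm gg N1054 = N2150 := rfl
theorem L10385 : sm gf N2143 = N2150 := ded_29_0 (flp_g L10381) (flp_f L5231) (flp_g L5225) L10347
theorem L10387 : sm ga N1055 = N2151 := rfl
theorem L10391 : sm gf N1055 = N2153 := rfl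
theorem L10393 : sm gg N1055 = N2154 := rfl
theorem L10395 : sm gb N2154 = N1127 := ded_17_1 (flp_g L5565) (flp_b L2865) (flp_g L2719) L5235 L10393
theorem L10397 : sm gb N1056 = N2155 := rfl
theorem L10399 : sm gd N1056 = N2156 := rfl
theorem L10401 : sm ga N2156 = N1057 := ded_9_1 (flp_d L5243) (flp_a L5239) L10399
theorem L10403 : sm gg N2156 = N1129 := ded_24_2 (flp_d L5569) (flp_g L5241) L10399
theorem L10405 : sm gc N1057 = N2157 := rfl
theorem L10407 : sm gg N2157 = N1132 := ded_21_2 (flp_c L5583) (flp_g L5245) L10405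
theorem L10409 : sm ge N1057 = N2158 := rfl
theorem L10411 : sm gg N2158 = N1133 := ded_26_2 (flp_e L5585) (flp_g L5245) L10409
theorem L10413 : sm gf N1057 = N2159 := rfl
theorem L10415 : sm gd N2159 = N1058 := ded_23_1 (flp_f L5247) L5243 L10413
theorem L10417 : sm gb N1058 = N2160 := rfl
theorem L10419 : sm ga N1059 = N2161 := rfl
theorem L10421 : sm gf N2161 = N1060 := ded_11_2 (flp_a L5255) (flp_f L5253) L10419
theorem L10423 : sm gc N1059 = N2162 := rfl
theorem L10425 : sm gf N2162 = N1061 := ded_20_2 (flp_c L5257) (flp_f L5253) L10423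
theorem L10427 : sm gg N1059 = N2163 := rfl
theorem L10429 : sm gf N2163 = N1369 := ded_31_1 (flp_b L6693) (flp_g L3436) (flp_f L3424) (flp_b L1743) (flp_g L865) L380 (flp_b L377) L381 (flp_f L385) L695 (flp_g L1388) L2725 L5251 L10427
theorem L10431 : sm gg N1060 = N1369 := ded_29_1 (flp_f L10429) (flp_g L10427) L10419 L10421
theorem L10433 : sm ga N1062 = N1369 := ded_29_4 (flp_f L10429) (flp_g L10427) L5253 L5259
theorem L10435 : sm gb N1364 = N2163 := ded_16_5 L10429 (flp_b L6693) (flp_f L3432) L3426 L6675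
theorem L10437 : sm gg N1131 = N1364 := ded_17_0 L10435 (flp_g L10427) (flp_b L5251) L2875 L5581
theorem L10439 : sm gb N1060 = N2164 := rfl
theorem L10441 : sm gg N2164 = N1357 := ded_17_2 L6652 L3436 L6693 (flp_g L10431) L10439
theorem L10443 : sm gc N1060 = N2165 := rfl
theorem L10445 : sm ga N2165 = N1061 := ded_8_1 (flp_c L5257) L5255 L10443
theorem L10447 : sm gd N1061 = N2166 := rfl
theorem L10449 : sm gg N1061 = N2167 := rfl
theorem L10451 : sm gc N2167 = N1062 := ded_21_1 (flp_g L5259) L5257 L10449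
theorem L10453 : sm gf N1062 = N2168 := rfl
theorem L10457 : sm gg N2168 = N2161 := ded_29_3 (flp_a L10419) L5253 L5259 L10453
theorem L10459 : sm gb N2143 = N2161 := ded_31_14 (flp_g L10457) (flp_f L10453) L5261 (flp_g L5035) (flp_f L4968) (flp_b L4966) L4970 L4973 L4975 L4977 L5041 (flp_b L5233) L10381 (flp_f L10385)
theorem L10461 : sm ga N1137 = N1123 := ded_7_5 (flp_b L5555) L2861 L5223 L10347 L10459 (flp_a L10419) (flp_b L5251) (flp_a L2887) L5605
theorem L10463 : sm ga N1063 = N2169 := rfl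
theorem L10465 : sm ge N2169 = N1087 := ded_10_2 (flp_a L5394) (flp_e L5265) L10463
theorem L10467 : sm gd N1063 = N2170 := rfl
theorem L10469 : sm gb N2170 = N1064 := ded_14_1 (flp_d L5267) L5263 L10467
theorem L10471 : sm ge N2170 = N1210 := ded_22_2 (flp_d L5944) L3100 (flp_d L2785) (flp_e L5265) L10467
theorem L10473 : sm gf N1063 = N2171 := rfl
theorem L10475 : sm ge N2171 = N1088 := ded_25_1 (flp_f L5398) (flp_e L5265) L10473
theorem L10477 : sm gg N1063 = N2172 := rfl
theorem L10479 : sm ge N2172 = N1089 := ded_26_1 (flp_g L5402) (flp_e L5265) L10477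
theorem L10481 : sm gf N1064 = N2173 := rfl
theorem L10483 : sm ga N2173 = N1213 := ded_11_1 (flp_f L5958) (flp_a L5269) L10481
theorem L10485 : sm gc N2173 = N2173 := ded_20_1 (flp_f L10481) L5273 L10481
theorem L10486 : sm gd N2173 = N1065 := ded_23_1 (flp_f L5274) L5267 L10481
theorem L10488 : sm ge N2173 = N1213 := ded_25_1 (flp_f L5958) (flp_e L5271) L10481
theorem L10490 : sm gg N1064 = N2174 := rfl
theorem L10492 : sm ga N2174 = N1214 := ded_12_1 (flp_g L5963) (flp_a L5269) L10490
theorem L10494 : sm gc N2174 = N2174 := ded_21_1 (flp_g L10490) L5273 L10490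
theorem L10495 : sm gd N2174 = N1066 := ded_24_1 (flp_g L5282) L5267 L10490
theorem L10497 : sm ge N2174 = N1214 := ded_26_1 (flp_g L5963) (flp_e L5271) L10490
theorem L10499 : sm gb N1065 = N2175 := rfl
theorem L10501 : sm ge N2175 = N1090 := ded_15_2 (flp_b L5406) (flp_e L5280) L10499
theorem L10503 : sm gb N1066 = N2176 := rfl
theorem L10505 : sm ge N2176 = N1091 := ded_15_2 (flp_b L5410) (flp_e L5288) L10503
theorem L10507 : sm ga N1067 = N2177 := rfl
theorem L10509 : sm gd N2177 = N1069 := ded_9_2 (flp_a L5302) (flp_d L5292) L10507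
theorem L10511 : sm ge N2177 = N1092 := ded_10_2 (flp_a L5414) (flp_e L5294) L10507
theorem L10513 : sm gc N1067 = N2178 := rfl
theorem L10515 : sm ge N2178 = N1093 := ded_19_2 (flp_c L5418) (flp_e L5294) L10513
theorem L10517 : sm gg N1067 = N2179 := rfl
theorem L10519 : sm gd N2179 = N1071 := ded_24_1 (flp_g L5312) (flp_d L5292) L10517
theorem L10521 : sm ge N2179 = N1094 := ded_26_1 (flp_g L5420) (flp_e L5294) L10517
theorem L10523 : sm ga N1068 = N2180 := rfl
theorem L10525 : sm gd N2180 = N1072 := ded_9_2 (flp_a L5316) (flp_d L5298) L10523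
theorem L10527 : sm ge N2180 = N1095 := ded_10_2 (flp_a L5424) (flp_e L5300) L10523
theorem L10529 : sm gc N1068 = N2181 := rfl
theorem L10531 : sm ge N2181 = N1096 := ded_19_2 (flp_c L5428) (flp_e L5300) L10529
theorem L10533 : sm gf N1068 = N2182 := rfl
theorem L10535 : sm gd N2182 = N1074 := ded_23_1 (flp_f L5326) (flp_d L5298) L10533
theorem L10537 : sm ge N2182 = N1097 := ded_25_1 (flp_f L5430) (flp_e L5300) L10533
theorem L10539 : sm gb N1069 = N2183 := rfl
theorem L10541 : sm ge N2183 = N1075 := ded_15_2 (flp_b L5330) (flp_e L5304) L10539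
theorem L10543 : sm gc N1069 = N2184 := rfl
theorem L10545 : sm ga N2184 = N1070 := ded_8_1 (flp_c L5306) L5302 L10543
theorem L10549 : sm gg N1069 = N2185 := rfl
theorem L10551 : sm ga N2185 = N1071 := ded_12_1 (flp_g L5312) L5302 L10549
theorem L10553 : sm ge N2185 = N1077 := ded_26_1 (flp_g L5338) (flp_e L5304) L10549
theorem L10555 : sm gf N2185 = N2078 := ded_29_2 (flp_g L10032) L10019 L10023 L10549
theorem L10557 : sm gd N1070 = N2186 := rfl
theorem L10559 : sm gb N2186 = N1230 := ded_14_1 (flp_d L6061) (flp_b L5310) L10557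
theorem L10561 : sm gg N1070 = N2187 := rfl
theorem L10563 : sm gc N2187 = N1071 := ded_21_1 (flp_g L5312) L5306 L10561
theorem L10565 : sm ge N2187 = N1079 := ded_26_1 (flp_g L5350) (flp_e L5308) L10561
theorem L10567 : sm gf N1071 = N2188 := rfl
theorem L10569 : sm ga N2188 = N2078 := ded_11_1 (flp_f L10555) L10551 L10567
theorem L10571 : sm ge N2188 = N1080 := ded_25_1 (flp_f L5354) (flp_e L5314) L10567
theorem L10575 : sm gb N1072 = N2189 := rfl
theorem L10577 : sm ge N2189 = N1081 := ded_15_2 (flp_b L5362) (flp_e L5318) L10575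
theorem L10579 : sm gc N1072 = N2190 := rfl
theorem L10581 : sm ga N2190 = N1073 := ded_8_1 (flp_c L5320) L5316 L10579
theorem L10583 : sm ge N2190 = N1082 := ded_19_2 (flp_c L5366) (flp_e L5318) L10579
theorem L10585 : sm gf N1072 = N2191 := rfl
theorem L10587 : sm ga N2191 = N1074 := ded_11_1 (flp_f L5326) L5316 L10585
theorem L10589 : sm ge N2191 = N1083 := ded_25_1 (flp_f L5370) (flp_e L5318) L10585
theorem L10591 : sm gg N2082 = N2191 := ded_29_1 (flp_f L10585) (flp_g L10044) (flp_a L10040) L10053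
theorem L10593 : sm gd N1073 = N2192 := rfl
theorem L10595 : sm gb N2192 = N1239 := ded_14_1 (flp_d L6109) (flp_b L5324) L10593
theorem L10597 : sm gf N1073 = N2193 := rfl
theorem L10599 : sm gc N2193 = N1074 := ded_20_1 (flp_f L5326) L5320 L10597
theorem L10601 : sm ge N2193 = N1085 := ded_25_1 (flp_f L5382) (flp_e L5322) L10597
theorem L10603 : sm gg N1074 = N2194 := rfl
theorem L10605 : sm ga N2194 = N2082 := ded_12_1 L10591 L10587 L10603
theorem L10607 : sm ge N2194 = N1086 := ded_26_1 (flp_g L5386) (flp_e L5328) L10603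
theorem L10609 : sm gf N2080 = N2194 := ded_29_0 (flp_g L10603) (flp_f L5326) (flp_g L5076) L10040
theorem L10611 : sm ga N1075 = N2195 := rfl
theorem L10617 : sm gc N1075 = N2196 := rfl
theorem L10619 : sm gf N1075 = N2197 := rfl
theorem L10621 : sm gd N2197 = N1112 := ded_23_1 (flp_f L5512) (flp_d L5332) L10619
theorem L10623 : sm gg N1075 = N2198 := rfl
theorem L10625 : sm gd N2198 = N1113 := ded_24_1 (flp_g L5514) (flp_d L5332) L10623
theorem L10627 : sm gb N1076 = N2199 := rfl
theorem L10629 : sm gd N1076 = N2200 := rfl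
theorem L10631 : sm ga N2200 = N1078 := ded_9_1 (flp_d L5346) (flp_a L5336) L10629
theorem L10633 : sm gg N1076 = N2201 := rfl
theorem L10635 : sm ga N2201 = N1079 := ded_12_1 (flp_g L5350) (flp_a L5336) L10633
theorem L10637 : sm gc N2201 = N1077 := ded_21_1 (flp_g L5338) L5334 L10633
theorem L10641 : sm gb N1077 = N2202 := rfl
theorem L10643 : sm gd N2202 = N1117 := ded_14_2 (flp_b L5531) (flp_d L5342) L10641
theorem L10645 : sm gc N1078 = N2203 := rfl
theorem L10651 : sm gg N1078 = N2205 := rfl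
theorem L10655 : sm gb N1079 = N2206 := rfl
theorem L10657 : sm gg N2206 = N1255 := ded_17_2 (flp_b L6183) (flp_g L3206) (flp_b L2765) L5350 L10655
theorem L10659 : sm gf N1079 = N2207 := rfl
theorem L10663 : sm gc N2207 = N1080 := ded_20_1 (flp_f L5354) (flp_c L5352) L10659
theorem L10665 : sm gg N2207 = N2085 := ded_29_3 L10067 L5095 L5350 L10659
theorem L10667 : sm gb N1080 = N2208 := rfl
theorem L10669 : sm gd N2208 = N1123 := ded_14_2 (flp_b L5555) (flp_d L5358) L10667
theorem L10671 : sm ga N1081 = N2209 := rfl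
theorem L10673 : sm gd N2209 = N1124 := ded_9_2 (flp_a L5557) (flp_d L5364) L10671
theorem L10675 : sm gb N2209 = N1265 := ded_7_2 (flp_a L6229) (flp_b L3228) (flp_a L1653) (flp_b L806) (flp_a L667) L1422 L2771 L5362 L10671
theorem L10677 : sm gc N1081 = N2210 := rfl
theorem L10679 : sm gf N1081 = N2211 := rfl
theorem L10681 : sm gd N2211 = N1126 := ded_23_1 (flp_f L5563) (flp_d L5364) L10679
theorem L10683 : sm gg N1081 = N2212 := rfl
theorem L10685 : sm gd N2212 = N1127 := ded_24_1 (flp_g L5565) (flp_d L5364) L10683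
theorem L10687 : sm gb N1082 = N2213 := rfl
theorem L10689 : sm gd N1082 = N2214 := rfl
theorem L10691 : sm ga N2214 = N1084 := ded_9_1 (flp_d L5378) (flp_a L5368) L10689
theorem L10693 : sm gf N1082 = N2215 := rfl
theorem L10695 : sm ga N2215 = N1085 := ded_11_1 (flp_f L5382) (flp_a L5368) L10693
theorem L10697 : sm gc N2215 = N1083 := ded_20_1 (flp_f L5370) L5366 L10693
theorem L10699 : sm gg N2095 = N2215 := ded_29_1 (flp_f L10693) (flp_g L10107) L10105 L10114
theorem L10701 : sm gb N1083 = N2216 := rfl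
theorem L10703 : sm gd N2216 = N1131 := ded_14_2 (flp_b L5581) (flp_d L5374) L10701
theorem L10705 : sm gc N1084 = N2217 := rfl
theorem L10707 : sm ge N1084 = N2218 := rfl
theorem L10709 : sm gb N2218 = N1273 := ded_15_1 (flp_e L6265) (flp_b L5380) L10707
theorem L10711 : sm gf N1084 = N2219 := rfl
theorem L10713 : sm gd N2219 = N1085 := ded_23_1 (flp_f L5382) L5378 L10711
theorem L10715 : sm gb N1085 = N2220 := rfl
theorem L10717 : sm gf N2220 = N1275 := ded_16_2 (flp_b L6272) (flp_f L3248) (flp_b L2777) L5382 L10715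
theorem L10719 : sm gg N1085 = N2221 := rfl
theorem L10723 : sm gc N2221 = N1086 := ded_21_1 (flp_g L5386) (flp_c L5384) L10719
theorem L10725 : sm gf N2093 = N2221 := ded_29_0 (flp_g L10719) (flp_f L5382) (flp_g L5114) (flp_a L10105)
theorem L10727 : sm gb N1086 = N2222 := rfl
theorem L10729 : sm gd N2222 = N1137 := ded_14_2 (flp_b L5605) (flp_d L5390) L10727
theorem L10731 : sm ga N2208 = N2222 := ded_9_3 L10729 L10461 (flp_d L10669)
theorem L10733 : sm gb N1087 = N2223 := rfl
theorem L10735 : sm gd N2223 = N1285 := ded_14_2 (flp_b L6320) (flp_d L5396) L10733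
theorem L10737 : sm gf N1087 = N2224 := rfl
theorem L10739 : sm ga N2224 = N1088 := ded_11_1 (flp_f L5398) L5394 L10737
theorem L10741 : sm gd N2224 = N1286 := ded_23_1 (flp_f L6322) (flp_d L5396) L10737
theorem L10743 : sm gg N1087 = N2225 := rfl
theorem L10745 : sm ga N2225 = N1089 := ded_12_1 (flp_g L5402) L5394 L10743
theorem L10747 : sm gd N2225 = N1287 := ded_24_1 (flp_g L6327) (flp_d L5396) L10743
theorem L10749 : sm gb N1088 = N2226 := rfl
theorem L10751 : sm gd N2226 = N1288 := ded_14_2 (flp_b L6332) (flp_d L5400) L10749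
theorem L10753 : sm gf N2226 = N1090 := ded_16_2 (flp_b L5406) (flp_f L2787) L2783 L5398 L10749
theorem L10755 : sm gg N1088 = N2227 := rfl
theorem L10757 : sm gd N2227 = N1289 := ded_24_1 (flp_g L6336) (flp_d L5400) L10755
theorem L10759 : sm gf N2225 = N2227 := ded_29_0 (flp_g L10755) (flp_f L5398) L5402 (flp_a L10745)
theorem L10761 : sm gb N1089 = N2228 := rfl
theorem L10763 : sm gd N2228 = N1290 := ded_14_2 (flp_b L6341) (flp_d L5404) L10761
theorem L10765 : sm gg N2228 = N1091 := ded_17_2 (flp_b L5410) (flp_g L2795) L2783 L5402 L10761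
theorem L10767 : sm gf N1089 = N2229 := rfl
theorem L10769 : sm ga N2229 = N2227 := ded_11_1 (flp_f L10759) L10745 L10767
theorem L10771 : sm gd N2229 = N1291 := ded_23_1 (flp_f L6345) (flp_d L5404) L10767
theorem L10773 : sm gg N2229 = N2224 := ded_29_3 L10739 (flp_f L5398) L5402 L10767
theorem L10775 : sm ga N1090 = N2230 := rfl
theorem L10777 : sm gd N2230 = N1292 := ded_9_2 (flp_a L6352) (flp_d L5408) L10775
theorem L10779 : sm gc N1090 = N2231 := rfl
theorem L10781 : sm gb N2231 = N1093 := ded_13_1 (flp_c L5418) (flp_b L2803) (flp_c L2791) L5406 L10779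
theorem L10783 : sm gg N1090 = N2232 := rfl
theorem L10785 : sm gd N2232 = N1294 := ded_24_1 (flp_g L6358) (flp_d L5408) L10783
theorem L10787 : sm ga N1091 = N2233 := rfl
theorem L10789 : sm gd N2233 = N1296 := ded_9_2 (flp_a L6362) (flp_d L5412) L10787
theorem L10791 : sm gc N1091 = N2234 := rfl
theorem L10793 : sm gb N2234 = N1096 := ded_13_1 (flp_c L5428) (flp_b L2807) (flp_c L2799) L5410 L10791
theorem L10795 : sm gf N1091 = N2235 := rfl
theorem L10797 : sm gd N2235 = N1298 := ded_23_1 (flp_f L6368) (flp_d L5412) L10795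
theorem L10799 : sm gb N1092 = N2236 := rfl
theorem L10801 : sm gd N2236 = N1098 := ded_14_2 (flp_b L5434) (flp_d L5416) L10799
theorem L10803 : sm gc N1092 = N2237 := rfl
theorem L10805 : sm ga N2237 = N1093 := ded_8_1 (flp_c L5418) L5414 L10803
theorem L10807 : sm gg N1092 = N2238 := rfl
theorem L10809 : sm ga N2238 = N1094 := ded_12_1 (flp_g L5420) L5414 L10807
theorem L10811 : sm gd N2238 = N1100 := ded_24_1 (flp_g L5444) (flp_d L5416) L10807
theorem L10813 : sm gf N2238 = N2114 := ded_29_2 (flp_g L10197) L10187 L10191 L10807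
theorem L10815 : sm gd N1093 = N2239 := rfl
theorem L10817 : sm gg N1093 = N2240 := rfl
theorem L10819 : sm gc N2240 = N1094 := ded_21_1 (flp_g L5420) L5418 L10817
theorem L10821 : sm gf N1094 = N2241 := rfl
theorem L10823 : sm ga N2241 = N2114 := ded_11_1 (flp_f L10813) L10809 L10821
theorem L10825 : sm gd N2241 = N1103 := ded_23_1 (flp_f L5462) (flp_d L5422) L10821
theorem L10827 : sm gg N2241 = N2112 := ded_29_3 (flp_a L10187) L5143 L5420 L10821
theorem L10829 : sm gb N1095 = N2242 := rfl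
theorem L10831 : sm gd N2242 = N1104 := ded_14_2 (flp_b L5470) (flp_d L5426) L10829
theorem L10833 : sm gc N1095 = N2243 := rfl
theorem L10835 : sm ga N2243 = N1096 := ded_8_1 (flp_c L5428) L5424 L10833
theorem L10837 : sm gf N1095 = N2244 := rfl
theorem L10839 : sm ga N2244 = N1097 := ded_11_1 (flp_f L5430) L5424 L10837
theorem L10841 : sm gd N2244 = N1106 := ded_23_1 (flp_f L5480) (flp_d L5426) L10837
theorem L10843 : sm gg N2118 = N2244 := ded_29_1 (flp_f L10837) (flp_g L10209) (flp_a L10205) L10215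
theorem L10845 : sm gd N1096 = N2245 := rfl
theorem L10847 : sm gf N1096 = N2246 := rfl
theorem L10849 : sm gc N2246 = N1097 := ded_20_1 (flp_f L5430) L5428 L10847
theorem L10851 : sm gg N1097 = N2247 := rfl
theorem L10853 : sm ga N2247 = N2118 := ded_12_1 L10843 L10839 L10851
theorem L10855 : sm gd N2247 = N1109 := ded_24_1 (flp_g L5498) (flp_d L5432) L10851
theorem L10857 : sm gf N2116 = N2247 := ded_29_0 (flp_g L10851) (flp_f L5430) (flp_g L5155) L10205
theorem L10865 : sm gc N1098 = N2249 := rfl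
theorem L10867 : sm ge N2249 = N1111 := ded_19_2 (flp_c L5510) (flp_e L5436) L10865
theorem L10869 : sm gf N1098 = N2250 := rfl
theorem L10871 : sm ge N2250 = N1112 := ded_25_1 (flp_f L5512) (flp_e L5436) L10869
theorem L10873 : sm gg N1098 = N2251 := rfl
theorem L10875 : sm ge N2251 = N1113 := ded_26_1 (flp_g L5514) (flp_e L5436) L10873
theorem L10877 : sm gb N1099 = N2252 := rfl
theorem L10879 : sm ge N2252 = N1114 := ded_15_2 (flp_b L5516) (flp_e L5442) L10877
theorem L10881 : sm gf N2252 = N2252 := ded_16_2 (flp_b L10877) (flp_f L10234) L10236 L10234 L10877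
theorem L10882 : sm gd N1099 = N2253 := rfl
theorem L10884 : sm ga N2253 = N1101 := ded_9_1 (flp_d L5452) (flp_a L5440) L10882
theorem L10886 : sm gg N1099 = N2254 := rfl
theorem L10888 : sm ga N2254 = N1102 := ded_12_1 (flp_g L5456) (flp_a L5440) L10886
theorem L10890 : sm gc N2254 = N1100 := ded_21_1 (flp_g L5444) L5438 L10886
theorem L10892 : sm ge N2254 = N1116 := ded_26_1 (flp_g L5523) (flp_e L5442) L10886
theorem L10894 : sm gf N2254 = N2123 := ded_29_2 (flp_g L10241) (flp_a L10230) L10234 L10886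
theorem L10896 : sm gb N1100 = N2255 := rfl
theorem L10898 : sm ge N2255 = N1117 := ded_15_2 (flp_b L5531) (flp_e L5448) L10896
theorem L10900 : sm gc N1101 = N2256 := rfl
theorem L10902 : sm ge N1101 = N2257 := rfl
theorem L10904 : sm gb N2257 = N1142 := ded_15_1 (flp_e L5625) (flp_b L5454) L10902
theorem L10906 : sm gd N2257 = N1119 := ded_22_1 (flp_e L5535) (flp_d L2851) (flp_e L2817) L5452 L10902
theorem L10908 : sm gg N1101 = N2258 := rfl
theorem L10910 : sm gd N2258 = N1102 := ded_24_1 (flp_g L5456) L5452 L10908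
theorem L10912 : sm gb N1102 = N2259 := rfl
theorem L10914 : sm ge N2259 = N1121 := ded_15_2 (flp_b L5543) (flp_e L5460) L10912
theorem L10916 : sm gg N2259 = N1144 := ded_17_2 (flp_b L5633) (flp_g L2908) (flp_b L2819) L5456 L10912
theorem L10918 : sm gf N1102 = N2260 := rfl
theorem L10922 : sm gc N2260 = N1103 := ded_20_1 (flp_f L5462) (flp_c L5458) L10918
theorem L10924 : sm ge N2260 = N1122 := ded_25_1 (flp_f L5547) (flp_e L5460) L10918
theorem L10926 : sm gg N2260 = N2121 := ded_29_3 L10230 L5175 L5456 L10918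
theorem L10928 : sm gb N1103 = N2261 := rfl
theorem L10930 : sm ge N2261 = N1123 := ded_15_2 (flp_b L5555) (flp_e L5466) L10928
theorem L10932 : sm ga N1104 = N2262 := rfl
theorem L10934 : sm ge N2262 = N1124 := ded_10_2 (flp_a L5557) (flp_e L5472) L10932
theorem L10938 : sm gc N1104 = N2263 := rfl
theorem L10940 : sm ge N2263 = N1125 := ded_19_2 (flp_c L5561) (flp_e L5472) L10938
theorem L10942 : sm gf N1104 = N2264 := rfl
theorem L10944 : sm ge N2264 = N1126 := ded_25_1 (flp_f L5563) (flp_e L5472) L10942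
theorem L10946 : sm gg N1104 = N2265 := rfl
theorem L10948 : sm ge N2265 = N1127 := ded_26_1 (flp_g L5565) (flp_e L5472) L10946
theorem L10950 : sm gb N1105 = N2266 := rfl
theorem L10952 : sm ge N2266 = N1128 := ded_15_2 (flp_b L5567) (flp_e L5478) L10950
theorem L10954 : sm gd N1105 = N2267 := rfl
theorem L10956 : sm ga N2267 = N1107 := ded_9_1 (flp_d L5488) (flp_a L5476) L10954
theorem L10958 : sm gf N1105 = N2268 := rfl
theorem L10960 : sm ga N2268 = N1108 := ded_11_1 (flp_f L5492) (flp_a L5476) L10958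
theorem L10962 : sm gc N2268 = N1106 := ded_20_1 (flp_f L5480) L5474 L10958
theorem L10964 : sm ge N2268 = N1130 := ded_25_1 (flp_f L5573) (flp_e L5478) L10958
theorem L10968 : sm gb N1106 = N2269 := rfl
theorem L10970 : sm ge N2269 = N1131 := ded_15_2 (flp_b L5581) (flp_e L5484) L10968
theorem L10972 : sm gc N1107 = N2270 := rfl
theorem L10974 : sm ge N1107 = N2271 := rfl
theorem L10976 : sm gb N2271 = N1150 := ded_15_1 (flp_e L5665) (flp_b L5490) L10974
theorem L10978 : sm gd N2271 = N1133 := ded_22_1 (flp_e L5585) (flp_d L2877) (flp_e L2831) L5488 L10974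
theorem L10980 : sm gf N1107 = N2272 := rfl
theorem L10982 : sm gd N2272 = N1108 := ded_23_1 (flp_f L5492) L5488 L10980
theorem L10984 : sm gb N1108 = N2273 := rfl
theorem L10986 : sm ge N2273 = N1135 := ded_15_2 (flp_b L5593) (flp_e L5496) L10984
theorem L10988 : sm gf N2273 = N1152 := ded_16_2 (flp_b L5673) (flp_f L2942) (flp_b L2833) L5492 L10984
theorem L10990 : sm gg N1108 = N2274 := rfl
theorem L10994 : sm gc N2274 = N1109 := ded_21_1 (flp_g L5498) (flp_c L5494) L10990
theorem L10996 : sm ge N2274 = N1136 := ded_26_1 (flp_g L5597) (flp_e L5496) L10990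
theorem L10998 : sm gf N2129 = N2274 := ded_29_0 (flp_g L10990) (flp_f L5492) (flp_g L5195) (flp_a L10273)
theorem L11000 : sm gb N1109 = N2275 := rfl
theorem L11002 : sm ge N2275 = N1137 := ded_15_2 (flp_b L5605) (flp_e L5502) L11000
theorem L11004 : sm ga N2261 = N2275 := ded_10_3 L11002 L10461 (flp_e L10930)
theorem L11006 : sm gc N1110 = N2276 := rfl
theorem L11008 : sm ga N2276 = N1111 := ded_8_1 (flp_c L5510) L5506 L11006
theorem L11010 : sm gg N1110 = N2277 := rfl
theorem L11012 : sm ga N2277 = N1113 := ded_12_1 (flp_g L5514) L5506 L11010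
theorem L11014 : sm gb N1111 = N2278 := rfl
theorem L11016 : sm gc N2278 = N1114 := ded_13_2 (flp_b L5516) (flp_c L2841) L2839 L5510 L11014
theorem L11019 : sm gd N1111 = N2279 := rfl
theorem L11021 : sm gf N1111 = N2280 := rfl
theorem L11023 : sm gc N2280 = N1112 := ded_20_1 (flp_f L5512) L5510 L11021
theorem L11026 : sm gg N1111 = N2281 := rfl
theorem L11028 : sm gc N2281 = N1113 := ded_21_1 (flp_g L5514) L5510 L11026
theorem L11030 : sm gg N1112 = N2282 := rfl
theorem L11032 : sm gf N2277 = N2282 := ded_29_0 (flp_g L11030) (flp_f L5512) L5514 (flp_a L11012)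
theorem L11034 : sm gb N1113 = N2283 := rfl
theorem L11036 : sm gg N2283 = N1117 := ded_17_2 (flp_b L5531) (flp_g L2845) L2839 L5514 L11034
theorem L11038 : sm gf N1392 = N2283 := ded_29_0 L11036 (flp_f L10365) (flp_g L6794) L6786
theorem L11040 : sm ga N2283 = N1394 := ded_29_4 (flp_f L6792) L6794 L10365 (flp_g L11036)
theorem L11042 : sm gf N1113 = N2284 := rfl
theorem L11044 : sm ga N2284 = N2282 := ded_11_1 (flp_f L11032) L11012 L11042
theorem L11048 : sm ga N1114 = N2285 := rfl
theorem L11051 : sm gd N1114 = N2286 := rfl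
theorem L11053 : sm gb N2286 = N1115 := ded_14_1 (flp_d L5519) L5516 L11051
theorem L11055 : sm gf N2286 = N2286 := ded_23_2 (flp_d L11051) L5518 L11051
theorem L11056 : sm gg N1114 = N2287 := rfl
theorem L11058 : sm gc N1115 = N2288 := rfl
theorem L11060 : sm ga N2288 = N1118 := ded_8_1 (flp_c L5533) (flp_a L5521) L11058
theorem L11062 : sm gd N2203 = N2288 := ded_28_1 (flp_c L11058) (flp_d L5519) (flp_c L2841) (flp_d L2761) L5334 L10629 L10631 L10645
theorem L11064 : sm ge N1115 = N2289 := rfl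
theorem L11066 : sm ga N2289 = N1119 := ded_10_1 (flp_e L5535) (flp_a L5521) L11064
theorem L11068 : sm gg N1115 = N2290 := rfl
theorem L11072 : sm gd N2290 = N1116 := ded_24_1 (flp_g L5523) L5519 L11068
theorem L11074 : sm gf N2290 = N2141 := ded_29_2 (flp_g L10341) (flp_a L10328) L10331 L11068
theorem L11076 : sm gb N1116 = N2291 := rfl
theorem L11078 : sm ga N1117 = N2292 := rfl
theorem L11080 : sm gg N2292 = N1394 := ded_12_2 (flp_a L11040) L11036 L11078
theorem L11082 : sm gb N2292 = N2064 := ded_7_2 L9949 (flp_b L5233) (flp_a L10361) (flp_b L6810) L3483 L1778 (flp_a L2847) L5531 L11078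
theorem L11084 : sm gb N1378 = N2030 := ded_31_11 L9805 L9947 (flp_b L11082) L11080 (flp_f L6792) (flp_b L3475) L3481 L3485 (flp_b L6767) (flp_g L6765) (flp_f L6748) (flp_b L6746) L6750 (flp_f L6752)
theorem L11086 : sm gg N2062 = N1124 := ded_17_4 L5559 L6731 L11084 L9805 L9941
theorem L11088 : sm gb N1377 = N2282 := ded_31_5 (flp_g L11030) (flp_f L5512) (flp_b L2839) L2845 L2849 L5223 L5225 L5231 L5233 L9959 (flp_f L9963) (flp_b L11084) (flp_g L6731) L6727
theorem L11090 : sm ga N1127 = N2062 := ded_12_3 L11086 (flp_a L5557) L5565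
theorem L11092 : N2151 = N2154 := coi_7_0 L10395 L11090 (flp_b L9941) (flp_a L5037) (flp_b L2623) L1349 L1386 L2717 L5235 L10387
theorem L11093 : N2154 = N2151 := (eqc rfl L11092 rfl).symm
theorem L11094 : sm gb N2151 = N1127 := trfs L11093 L10395 rfl
theorem L11099 : sm gc N1117 = N2293 := rfl
theorem L11101 : sm gd N1118 = N2294 := rfl
theorem L11103 : sm ga N2294 = N2203 := ded_9_1 L11062 L11060 L11101
theorem L11107 : sm ge N1118 = N2295 := rfl
theorem L11109 : sm gc N2295 = N1119 := ded_19_1 (flp_e L5535) L5533 L11107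
theorem L11111 : sm gg N1118 = N2296 := rfl
theorem L11115 : sm gg N1119 = N2297 := rfl
theorem L11117 : sm ge N2297 = N1120 := ded_26_1 (flp_g L5539) L5535 L11115
theorem L11119 : sm gb N1120 = N2298 := rfl
theorem L11121 : sm gd N2298 = N1121 := ded_14_2 (flp_b L5543) (flp_d L5541) L11119
theorem L11123 : sm gg N2298 = N1162 := ded_17_2 (flp_b L5717) (flp_g L2973) (flp_b L2853) L5539 L11119
theorem L11125 : sm gf N1120 = N2299 := rfl
theorem L11129 : sm gd N2299 = N1122 := ded_23_1 (flp_f L5547) (flp_d L5541) L11125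
theorem L11131 : sm gg N2299 = N2138 := ded_29_3 L10328 L5217 L5539 L11125
theorem L11133 : sm ga N1121 = N2300 := rfl
theorem L11135 : sm gg N2300 = N1164 := ded_12_2 (flp_a L5731) (flp_g L5545) L11133
theorem L11137 : sm gf N1121 = N2301 := rfl
theorem L11139 : sm gb N1122 = N2302 := rfl
theorem L11142 : sm gc N1123 = N2303 := rfl
theorem L11144 : sm gg N1123 = N2304 := rfl
theorem L11146 : sm ga N2304 = N1375 := ded_12_1 L6721 L10461 L11144
theorem L11148 : sm gb N2304 = N2137 := ded_17_1 (flp_g L10322) (flp_b L5205) (flp_g L2863) L5555 L11144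
theorem L11150 : sm gc N1124 = N2305 := rfl
theorem L11152 : sm ga N2305 = N1125 := ded_8_1 (flp_c L5561) L5557 L11150
theorem L11154 : sm gf N1124 = N2306 := rfl
theorem L11160 : sm gb N1125 = N2307 := rfl
theorem L11162 : sm gc N2307 = N1128 := ded_13_2 (flp_b L5567) (flp_c L2867) L2865 L5561 L11160
theorem L11164 : sm gd N1125 = N2308 := rfl
theorem L11166 : sm gf N1125 = N2309 := rfl
theorem L11170 : sm gg N1125 = N2310 := rfl
theorem L11172 : sm gc N2310 = N1127 := ded_21_1 (flp_g L5565) L5561 L11170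
theorem L11174 : sm gb N1126 = N2311 := rfl
theorem L11176 : sm gf N2311 = N1131 := ded_16_2 (flp_b L5581) (flp_f L2871) L2865 L5563 L11174
theorem L11178 : sm gg N2311 = N1362 := ded_29_3 (flp_a L6671) L6675 (flp_g L10437) (flp_f L11176)
theorem L11180 : sm ga N1365 = N2311 := ded_29_4 L11176 L10437 (flp_f L6675) L6677
theorem L11182 : sm gg N1126 = N2312 := rfl
theorem L11184 : sm gf N2062 = N2312 := ded_29_0 (flp_g L11182) (flp_f L5563) L5565 L11090
theorem L11186 : sm gf N1127 = N2313 := rfl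
theorem L11192 : sm gb N2313 = N1348 := ded_31_2 (flp_g L6616) L6612 (flp_b L10320) (flp_g L9939) (flp_f L9935) (flp_b L5261) (flp_g L5259) (flp_f L5253) (flp_b L5251) L2875 (flp_f L2871) L2865 L5565 L11186
theorem L11194 : sm ga N1128 = N2314 := rfl
theorem L11196 : sm gd N1128 = N2315 := rfl
theorem L11198 : sm gb N2315 = N1129 := ded_14_1 (flp_d L5569) L5567 L11196
theorem L11200 : sm gf N1128 = N2316 := rfl
theorem L11202 : sm gg N1128 = N2317 := rfl
theorem L11204 : sm gc N1129 = N2318 := rfl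
theorem L11206 : sm ga N2318 = N1132 := ded_8_1 (flp_c L5583) (flp_a L5571) L11204
theorem L11208 : sm gd N2217 = N2318 := ded_28_1 (flp_c L11204) (flp_d L5569) (flp_c L2867) (flp_d L2773) L5366 L10689 L10691 L10705
theorem L11210 : sm ge N1129 = N2319 := rfl
theorem L11212 : sm ga N2319 = N1133 := ded_10_1 (flp_e L5585) (flp_a L5571) L11210
theorem L11214 : sm gf N1129 = N2320 := rfl
theorem L11216 : sm ga N2320 = N1134 := ded_11_1 (flp_f L5589) (flp_a L5571) L11214
theorem L11218 : sm gd N2320 = N1130 := ded_23_1 (flp_f L5573) L5569 L11214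
theorem L11222 : sm gb N1130 = N2321 := rfl
theorem L11224 : sm ga N1131 = N2322 := rfl
theorem L11226 : sm gf N2322 = N1365 := ded_11_2 L11180 L11176 L11224
theorem L11230 : sm gc N1131 = N2323 := rfl
theorem L11232 : sm gb N1132 = N2324 := rfl
theorem L11234 : sm gc N2324 = N1174 := ded_13_2 (flp_b L5765) (flp_c L2999) (flp_b L2879) L5583 L11232
theorem L11236 : sm gd N1132 = N2325 := rfl
theorem L11238 : sm ga N2325 = N2217 := ded_9_1 L11208 L11206 L11236
theorem L11242 : sm ge N1132 = N2326 := rfl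
theorem L11244 : sm gc N2326 = N1133 := ded_19_1 (flp_e L5585) L5583 L11242
theorem L11246 : sm gf N1132 = N2327 := rfl
theorem L11248 : sm gc N2327 = N1134 := ded_20_1 (flp_f L5589) L5583 L11246
theorem L11250 : sm gf N1133 = N2328 := rfl
theorem L11252 : sm ge N2328 = N1134 := ded_25_1 (flp_f L5589) L5585 L11250
theorem L11254 : sm gb N1134 = N2329 := rfl
theorem L11256 : sm gd N2329 = N1135 := ded_14_2 (flp_b L5593) (flp_d L5591) L11254
theorem L11258 : sm gf N2329 = N1178 := ded_16_2 (flp_b L5781) (flp_f L3003) (flp_b L2879) L5589 L11254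
theorem L11260 : sm gg N1134 = N2330 := rfl
theorem L11266 : sm gf N2156 = N2330 := ded_29_0 (flp_g L11260) (flp_f L5589) (flp_g L5245) (flp_a L10401)
theorem L11268 : sm ga N1135 = N2331 := rfl
theorem L11270 : sm gf N2331 = N1180 := ded_11_2 (flp_a L5793) (flp_f L5595) L11268
theorem L11272 : sm gg N1135 = N2332 := rfl
theorem L11274 : sm gb N1136 = N2333 := rfl
theorem L11276 : sm gc N1137 = N2334 := rfl
theorem L11278 : sm ga N2334 = N2303 := ded_8_1 (flp_c L11142) (flp_a L10461) L11276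
theorem L11280 : sm gf N1137 = N2335 := rfl
theorem L11282 : sm ga N2335 = N1405 := ded_11_1 L6838 (flp_a L10461) L11280
theorem L11284 : sm gb N2335 = N2153 := ded_16_1 (flp_f L10391) (flp_b L5235) L2889 L5605 L11280
theorem L11286 : sm gb N1138 = N2336 := rfl
theorem L11288 : sm ge N2336 = N1154 := ded_15_2 (flp_b L5687) (flp_e L5610) L11286
theorem L11290 : sm gc N2336 = N1139 := ded_13_2 (flp_b L5615) (flp_c L2900) L2891 L5607 L11286
theorem L11292 : sm gd N1138 = N2337 := rfl
theorem L11296 : sm gg N2337 = N1626 := ded_24_2 (flp_d L7907) (flp_g L5613) L11292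
theorem L11298 : sm ga N1139 = N2338 := rfl
theorem L11300 : sm ge N2338 = N1156 := ded_10_2 (flp_a L5699) (flp_e L5617) L11298
theorem L11302 : sm gd N1139 = N2339 := rfl
theorem L11304 : sm gb N2339 = N1140 := ded_14_1 (flp_d L5619) L5615 L11302
theorem L11306 : sm gf N1139 = N2340 := rfl
theorem L11308 : sm ge N2340 = N1158 := ded_25_1 (flp_f L5705) (flp_e L5617) L11306
theorem L11314 : sm gc N1140 = N2342 := rfl
theorem L11316 : sm ga N2342 = N1141 := ded_8_1 (flp_c L5623) (flp_a L5621) L11314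
theorem L11318 : sm gd N2342 = N1141 := ded_28_7 (flp_a L11316) (flp_c L11314) (flp_d L5619) (flp_c L2900) L1470 L2900 L5619 L11314
theorem L11320 : sm ge N1140 = N2343 := rfl
theorem L11322 : sm ga N2343 = N1142 := ded_10_1 (flp_e L5625) (flp_a L5621) L11320
theorem L11324 : sm gd N2343 = N1160 := ded_22_1 (flp_e L5709) (flp_d L2967) (flp_e L2904) L5619 L11320
theorem L11326 : sm gb N1141 = N2344 := rfl
theorem L11328 : sm ge N1141 = N2345 := rfl
theorem L11330 : sm gc N2345 = N1142 := ded_19_1 (flp_e L5625) L5623 L11328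
theorem L11332 : sm gg N1141 = N2346 := rfl
theorem L11334 : sm gc N2346 = N1143 := ded_21_1 (flp_g L5629) L5623 L11332
theorem L11336 : sm gg N1142 = N2347 := rfl
theorem L11338 : sm gd N2347 = N1161 := ded_24_1 (flp_g L5713) (flp_d L5627) L11336
theorem L11340 : sm ge N2347 = N1143 := ded_26_1 (flp_g L5629) L5625 L11336
theorem L11342 : sm gb N1143 = N2348 := rfl
theorem L11344 : sm gd N2348 = N1144 := ded_14_2 (flp_b L5633) (flp_d L5631) L11342
theorem L11346 : sm gf N1143 = N2349 := rfl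
theorem L11348 : sm ga N2349 = N1961 := ded_11_1 (flp_f L9510) L9508 L11346
theorem L11350 : sm gd N2349 = N1145 := ded_23_1 (flp_f L5637) (flp_d L5631) L11346
theorem L11352 : sm gg N2349 = N1188 := ded_29_3 L5831 L4763 L5629 L11346
theorem L11354 : sm ga N1144 = N2350 := rfl
theorem L11356 : sm ge N2350 = N1164 := ded_10_2 (flp_a L5731) (flp_e L5635) L11354
theorem L11358 : sm gf N1144 = N2351 := rfl
theorem L11360 : sm ge N2351 = N1165 := ded_25_1 (flp_f L5733) (flp_e L5635) L11358
theorem L11362 : sm gb N1145 = N2352 := rfl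
theorem L11364 : sm ge N2352 = N1166 := ded_15_2 (flp_b L5735) (flp_e L5643) L11362
theorem L11366 : sm gc N2352 = N1406 := ded_13_2 (flp_b L6840) (flp_c L3501) L2923 (flp_c L5641) L11362
theorem L11368 : sm gb N1146 = N2353 := rfl
theorem L11370 : sm ge N2353 = N1167 := ded_15_2 (flp_b L5739) (flp_e L5650) L11368
theorem L11372 : sm gc N2353 = N1147 := ded_13_2 (flp_b L5655) (flp_c L2934) L2925 L5647 L11368
theorem L11374 : sm gd N1146 = N2354 := rfl
theorem L11377 : sm gf N2354 = N1627 := ded_23_2 (flp_d L7911) (flp_f L5652) L11374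
theorem L11380 : sm ga N1147 = N2355 := rfl
theorem L11382 : sm ge N2355 = N1169 := ded_10_2 (flp_a L5751) (flp_e L5657) L11380
theorem L11384 : sm gd N1147 = N2356 := rfl
theorem L11386 : sm gb N2356 = N1148 := ded_14_1 (flp_d L5659) L5655 L11384
theorem L11388 : sm gf N1147 = N2357 := rfl
theorem L11392 : sm gg N1147 = N2358 := rfl
theorem L11394 : sm ge N2358 = N1172 := ded_26_1 (flp_g L5759) (flp_e L5657) L11392
theorem L11396 : sm gc N1148 = N2359 := rfl
theorem L11398 : sm ga N2359 = N1149 := ded_8_1 (flp_c L5663) (flp_a L5661) L11396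
theorem L11400 : sm gd N2359 = N1149 := ded_28_7 (flp_a L11398) (flp_c L11396) (flp_d L5659) (flp_c L2934) L1484 L2934 L5659 L11396
theorem L11402 : sm ge N1148 = N2360 := rfl
theorem L11404 : sm ga N2360 = N1150 := ded_10_1 (flp_e L5665) (flp_a L5661) L11402
theorem L11406 : sm gd N2360 = N1173 := ded_22_1 (flp_e L5761) (flp_d L2995) (flp_e L2938) L5659 L11402
theorem L11408 : sm gb N1149 = N2361 := rfl
theorem L11410 : sm ge N1149 = N2362 := rfl
theorem L11412 : sm gc N2362 = N1150 := ded_19_1 (flp_e L5665) L5663 L11410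
theorem L11414 : sm gf N1149 = N2363 := rfl
theorem L11416 : sm gc N2363 = N1151 := ded_20_1 (flp_f L5669) L5663 L11414
theorem L11418 : sm gf N1150 = N2364 := rfl
theorem L11420 : sm gd N2364 = N1177 := ded_23_1 (flp_f L5777) (flp_d L5667) L11418
theorem L11422 : sm ge N2364 = N1151 := ded_25_1 (flp_f L5669) L5665 L11418
theorem L11424 : sm gb N1151 = N2365 := rfl
theorem L11426 : sm gd N2365 = N1152 := ded_14_2 (flp_b L5673) (flp_d L5671) L11424
theorem L11428 : sm gg N1151 = N2366 := rfl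
theorem L11430 : sm ga N2366 = N1968 := ded_12_1 L9498 L9469 L11428
theorem L11432 : sm gd N2366 = N1153 := ded_24_1 (flp_g L5677) (flp_d L5671) L11428
theorem L11434 : sm gf N1965 = N2366 := ded_29_0 (flp_g L11428) (flp_f L5669) (flp_g L4789) (flp_a L9480)
theorem L11436 : sm ga N1152 = N2367 := rfl
theorem L11438 : sm ge N2367 = N1180 := ded_10_2 (flp_a L5793) (flp_e L5675) L11436
theorem L11440 : sm gg N1152 = N2368 := rfl
theorem L11442 : sm ge N2368 = N1181 := ded_26_1 (flp_g L5795) (flp_e L5675) L11440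
theorem L11444 : sm gb N1153 = N2369 := rfl
theorem L11446 : sm ge N2369 = N1182 := ded_15_2 (flp_b L5797) (flp_e L5683) L11444
theorem L11448 : sm gc N2369 = N1413 := ded_13_2 (flp_b L6877) (flp_c L3526) L2957 (flp_c L5681) L11444
theorem L11450 : sm ga N1154 = N2370 := rfl
theorem L11452 : sm gc N2370 = N1156 := ded_8_2 (flp_a L5699) (flp_c L5689) L11450
theorem L11458 : sm gf N1154 = N2372 := rfl
theorem L11463 : sm gg N1154 = N2373 := rfl
theorem L11465 : sm gc N2373 = N1159 := ded_21_1 (flp_g L5707) (flp_c L5689) L11463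
theorem L11477 : sm gb N1156 = N2375 := rfl
theorem L11479 : sm gd N1156 = N2376 := rfl
theorem L11481 : sm ga N2376 = N1157 := ded_9_1 (flp_d L5701) L5699 L11479
theorem L11483 : sm gf N1156 = N2377 := rfl
theorem L11485 : sm ga N2377 = N1158 := ded_11_1 (flp_f L5705) L5699 L11483
theorem L11491 : sm gc N1157 = N2379 := rfl
theorem L11493 : sm ge N1157 = N2380 := rfl
theorem L11495 : sm gb N2380 = N1160 := ded_15_1 (flp_e L5709) (flp_b L5703) L11493
theorem L11497 : sm gf N1157 = N2381 := rfl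
theorem L11499 : sm gd N2381 = N1158 := ded_23_1 (flp_f L5705) L5701 L11497
theorem L11501 : sm gg N1157 = N2382 := rfl
theorem L11509 : sm gf N1159 = N2384 := rfl
theorem L11513 : sm gg N2384 = N2377 := ded_29_3 L11485 (flp_f L5705) L5707 L11509
theorem L11515 : sm gb N1161 = N2385 := rfl
theorem L11517 : sm ge N2385 = N1162 := ded_15_2 (flp_b L5717) (flp_e L5715) L11515
theorem L11519 : sm gf N1161 = N2386 := rfl
theorem L11521 : sm ga N2386 = N1971 := ded_11_1 (flp_f L9601) L9599 L11519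
theorem L11523 : sm gc N2386 = N1988 := ded_20_1 L9601 L9516 L11519
theorem L11525 : sm ge N2386 = N1163 := ded_25_1 (flp_f L5721) (flp_e L5715) L11519
theorem L11527 : sm gg N2386 = N1187 := ded_29_3 L5823 L4813 L5713 L11519
theorem L11529 : sm ga N1162 = N2387 := rfl
theorem L11531 : sm gd N2387 = N1164 := ded_9_2 (flp_a L5731) (flp_d L5719) L11529
theorem L11533 : sm gc N1162 = N2388 := rfl
theorem L11535 : sm gf N1162 = N2389 := rfl
theorem L11537 : sm gd N2389 = N1165 := ded_23_1 (flp_f L5733) (flp_d L5719) L11535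
theorem L11539 : sm gb N1163 = N2390 := rfl
theorem L11541 : sm gd N2390 = N1166 := ded_14_2 (flp_b L5735) (flp_d L5727) L11539
theorem L11543 : sm gb N1164 = N2391 := rfl
theorem L11545 : sm gf N1164 = N2392 := rfl
theorem L11547 : sm ga N2392 = N1165 := ded_11_1 (flp_f L5733) L5731 L11545
theorem L11551 : sm gb N1165 = N2393 := rfl
theorem L11553 : sm gf N2393 = N1166 := ded_16_2 (flp_b L5735) (flp_f L2979) L2977 L5733 L11551
theorem L11555 : sm gc N1422 = N2393 := ded_20_3 L11553 L5737 L6920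
theorem L11557 : sm gg N1165 = N2394 := rfl
theorem L11561 : sm gf N2300 = N2394 := ded_29_0 (flp_g L11557) (flp_f L5733) (flp_g L5545) L11133
theorem L11563 : sm ga N1166 = N2395 := rfl
theorem L11565 : sm gc N2395 = N1420 := ded_8_2 (flp_a L6914) (flp_c L5737) L11563
theorem L11567 : sm gg N1166 = N2396 := rfl
theorem L11571 : sm gb N2396 = N1186 := ded_17_1 (flp_g L5817) (flp_b L3017) (flp_g L2985) L5735 L11567
theorem L11573 : sm ga N1167 = N2397 := rfl
theorem L11575 : sm gc N2397 = N1169 := ded_8_2 (flp_a L5751) (flp_c L5741) L11573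
theorem L11581 : sm gf N1167 = N2399 := rfl
theorem L11585 : sm gb N2399 = N1624 := ded_16_1 (flp_f L7897) L4051 (flp_f L2990) L5739 L11581
theorem L11587 : sm gg N1167 = N2400 := rfl
theorem L11592 : sm ge N1168 = N2401 := rfl
theorem L11600 : sm gb N1169 = N2402 := rfl
theorem L11602 : sm gd N1169 = N2403 := rfl
theorem L11604 : sm ga N2403 = N1170 := ded_9_1 (flp_d L5753) L5751 L11602
theorem L11606 : sm gf N1169 = N2404 := rfl
theorem L11610 : sm gg N1169 = N2405 := rfl
theorem L11612 : sm ga N2405 = N1172 := ded_12_1 (flp_g L5759) L5751 L11610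
theorem L11614 : sm gc N1170 = N2406 := rfl
theorem L11616 : sm ge N1170 = N2407 := rfl
theorem L11618 : sm gb N2407 = N1173 := ded_15_1 (flp_e L5761) (flp_b L5755) L11616
theorem L11620 : sm gf N1170 = N2408 := rfl
theorem L11622 : sm gd N2408 = N1171 := ded_23_1 (flp_f L5757) L5753 L11620
theorem L11624 : sm gg N1170 = N2409 := rfl
theorem L11628 : sm gg N1171 = N2410 := rfl
theorem L11630 : sm gf N2405 = N2410 := ded_29_0 (flp_g L11628) (flp_f L5757) L5759 (flp_a L11612)
theorem L11632 : sm gf N1172 = N2411 := rfl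
theorem L11638 : sm ga N1174 = N2412 := rfl
theorem L11640 : sm ge N1174 = N2413 := rfl
theorem L11644 : sm gf N1174 = N2414 := rfl
theorem L11646 : sm gg N1174 = N2415 := rfl
theorem L11648 : sm gd N1175 = N2416 := rfl
theorem L11650 : sm gf N1175 = N2417 := rfl
theorem L11652 : sm gc N2417 = N1177 := ded_20_1 (flp_f L5777) (flp_c L5769) L11650
theorem L11656 : sm gb N1176 = N2418 := rfl
theorem L11660 : sm gb N1177 = N2419 := rfl
theorem L11662 : sm ge N2419 = N1178 := ded_15_2 (flp_b L5781) (flp_e L5779) L11660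
theorem L11664 : sm gg N1177 = N2420 := rfl
theorem L11666 : sm ga N2420 = N1984 := ded_12_1 L9581 L9534 L11664
theorem L11668 : sm ge N2420 = N1179 := ded_26_1 (flp_g L5785) (flp_e L5779) L11664
theorem L11670 : sm gf N1980 = N2420 := ded_29_0 (flp_g L11664) (flp_f L5777) (flp_g L4844) (flp_a L9555)
theorem L11672 : sm ga N1178 = N2421 := rfl
theorem L11674 : sm gd N2421 = N1180 := ded_9_2 (flp_a L5793) (flp_d L5783) L11672
theorem L11676 : sm gc N1178 = N2422 := rfl
theorem L11678 : sm gg N1178 = N2423 := rfl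
theorem L11680 : sm gd N2423 = N1181 := ded_24_1 (flp_g L5795) (flp_d L5783) L11678
theorem L11682 : sm gb N1179 = N2424 := rfl
theorem L11684 : sm gd N2424 = N1182 := ded_14_2 (flp_b L5797) (flp_d L5789) L11682
theorem L11686 : sm gb N1180 = N2425 := rfl
theorem L11688 : sm gg N1180 = N2426 := rfl
theorem L11690 : sm ga N2426 = N1181 := ded_12_1 (flp_g L5795) L5793 L11688
theorem L11692 : sm gf N2426 = N2332 := ded_29_2 (flp_g L11272) L11268 L11270 L11688
theorem L11694 : sm gb N1181 = N2427 := rfl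
theorem L11696 : sm gg N2427 = N1182 := ded_17_2 (flp_b L5797) (flp_g L3009) L3007 L5795 L11694
theorem L11698 : sm gc N1437 = N2427 := ded_21_3 L11696 L5799 L6976
theorem L11700 : sm gf N1181 = N2428 := rfl
theorem L11706 : sm ga N1182 = N2429 := rfl
theorem L11710 : sm gf N1182 = N2430 := rfl
theorem L11714 : sm gb N2430 = N1978 := ded_16_1 (flp_f L9545) (flp_b L4829) L3015 L5797 L11710
theorem L11716 : sm gd N1183 = N2431 := rfl
theorem L11718 : sm ga N2431 = N1184 := ded_9_1 (flp_d L5808) L5801 L11716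
theorem L11720 : sm gb N2431 = N2381 := ded_14_1 L11499 L5806 L11716
theorem L11722 : sm gf N2431 = N1184 := ded_23_2 (flp_d L5808) (flp_f L5804) L11716
theorem L11724 : sm ge N1183 = N2432 := rfl
theorem L11726 : sm ga N2432 = N1185 := ded_10_1 (flp_e L5812) L5801 L11724
theorem L11728 : sm gb N2432 = N2340 := ded_15_1 L11308 L5806 L11724
theorem L11731 : sm gf N2432 = N1185 := ded_25_2 (flp_e L5812) (flp_f L5804) L11724
theorem L11733 : sm gg N1183 = N2433 := rfl
theorem L11735 : sm ga N2433 = N1186 := ded_12_1 (flp_g L5817) L5801 L11733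
theorem L11739 : sm gc N1184 = N2434 := rfl
theorem L11741 : sm gb N2434 = N2379 := ded_13_1 (flp_c L11491) L5703 L3026 (flp_b L5810) L11739
theorem L11743 : sm ge N1184 = N2435 := rfl
theorem L11745 : sm gb N2435 = N1187 := ded_15_1 (flp_e L5821) (flp_b L5810) L11743
theorem L11747 : sm gg N1184 = N2436 := rfl
theorem L11749 : sm gd N2436 = N1186 := ded_24_1 (flp_g L5817) L5808 L11747
theorem L11752 : sm gd N1185 = N2437 := rfl
theorem L11754 : sm gb N2437 = N1188 := ded_14_1 (flp_d L5829) (flp_b L5814) L11752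
theorem L11756 : sm gg N1185 = N2438 := rfl
theorem L11758 : sm gc N2438 = N2438 := ded_21_1 (flp_g L11756) L5816 L11756
theorem L11759 : sm ge N2438 = N1186 := ded_26_1 (flp_g L5817) L5812 L11756
theorem L11761 : sm gf N2438 = N2438 := ded_29_2 (flp_g L11756) (flp_a L11726) L11731 L11756
theorem L11762 : sm gd N1187 = N2439 := rfl
theorem L11764 : sm ga N2439 = N1960 := ded_9_1 L9457 (flp_a L5823) L11762
theorem L11766 : sm gf N2439 = N2343 := ded_23_2 L11324 (flp_f L5827) L11762
theorem L11768 : sm ge N2439 = N1188 := ded_22_2 (flp_d L5829) (flp_e L3028) L3020 L5821 L11762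
theorem L11770 : sm gc N1188 = N2440 := rfl
theorem L11772 : sm ga N2440 = N1959 := ded_8_1 (flp_c L9449) (flp_a L5831) L11770
theorem L11774 : sm gf N2440 = N2342 := ded_20_2 (flp_c L11314) (flp_f L5833) L11770
theorem L11776 : sm gd N2440 = N1959 := ded_28_7 (flp_a L11772) (flp_c L11770) (flp_d L5829) L3032 L1565 (flp_c L3032) L5829 L11770
theorem L11778 : sm ga N1189 = N2441 := rfl
theorem L11780 : sm gc N2441 = N1540 := ded_8_2 (flp_a L7508) (flp_c L5839) L11778
theorem L11782 : sm gd N2441 = N2412 := ded_9_2 (flp_a L11638) (flp_d L5837) L11778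
theorem L11802 : sm gd N1190 = N2445 := rfl
theorem L11804 : sm ga N2445 = N1198 := ded_9_1 (flp_d L5879) (flp_a L5843) L11802
theorem L11806 : sm ge N2445 = N2416 := ded_22_2 (flp_d L11648) (flp_e L5767) L3040 L5841 L11802
theorem L11808 : sm gb N1191 = N2446 := rfl
theorem L11810 : sm gd N1191 = N2447 := rfl
theorem L11812 : sm ga N2447 = N1192 := ded_9_1 (flp_d L5850) L5847 L11810
theorem L11814 : sm ge N1191 = N2448 := rfl
theorem L11816 : sm ga N2448 = N1193 := ded_10_1 (flp_e L5854) L5847 L11814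
theorem L11819 : sm gf N1191 = N2449 := rfl
theorem L11821 : sm ga N2449 = N1194 := ded_11_1 (flp_f L5859) L5847 L11819
theorem L11824 : sm gg N1191 = N2450 := rfl
theorem L11826 : sm ga N2450 = N1195 := ded_12_1 (flp_g L5862) L5847 L11824
theorem L11829 : sm gc N1192 = N2451 := rfl
theorem L11831 : sm gb N2451 = N2406 := ded_13_1 (flp_c L11614) L5755 L3056 (flp_b L5852) L11829
theorem L11833 : sm ge N1192 = N2452 := rfl
theorem L11835 : sm gb N2452 = N1196 := ded_15_1 (flp_e L5865) (flp_b L5852) L11833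
theorem L11837 : sm gf N1192 = N2453 := rfl
theorem L11839 : sm gd N2453 = N1194 := ded_23_1 (flp_f L5859) L5850 L11837
theorem L11841 : sm gg N1192 = N2454 := rfl
theorem L11843 : sm gd N2454 = N1195 := ded_24_1 (flp_g L5862) L5850 L11841
theorem L11845 : sm gd N1193 = N2455 := rfl
theorem L11847 : sm gb N2455 = N1198 := ded_14_1 (flp_d L5879) (flp_b L5856) L11845
theorem L11849 : sm gf N1193 = N2456 := rfl
theorem L11851 : sm gc N2456 = N2456 := ded_20_1 (flp_f L11849) L5858 L11849
theorem L11852 : sm ge N2456 = N1194 := ded_25_1 (flp_f L5859) L5854 L11849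
theorem L11854 : sm gg N1193 = N2457 := rfl
theorem L11857 : sm ge N2457 = N1195 := ded_26_1 (flp_g L5862) L5854 L11854
theorem L11859 : sm gb N1194 = N2458 := rfl
theorem L11861 : sm gf N2458 = N1200 := ded_16_2 (flp_b L5887) (flp_f L3062) L3049 L5859 L11859
theorem L11863 : sm gg N1194 = N2459 := rfl
theorem L11866 : sm gf N2450 = N2459 := ded_29_0 (flp_g L11863) (flp_f L5859) L5862 (flp_a L11826)
theorem L11868 : sm gf N1195 = N2460 := rfl
theorem L11870 : sm ga N2460 = N2459 := ded_11_1 (flp_f L11866) L11826 L11868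
theorem L11873 : sm gg N2460 = N2449 := ded_29_3 L11821 (flp_f L5859) L5862 L11868
theorem L11875 : sm gd N1196 = N2461 := rfl
theorem L11877 : sm ga N2461 = N2416 := ded_9_1 (flp_d L11648) (flp_a L5867) L11875
theorem L11879 : sm ge N2461 = N1198 := ded_22_2 (flp_d L5879) (flp_e L3058) L3052 L5865 L11875
theorem L11889 : sm gb N1197 = N2463 := rfl
theorem L11891 : sm gd N2463 = N1200 := ded_14_2 (flp_b L5887) (flp_d L5877) L11889
theorem L11893 : sm gc N1198 = N2464 := rfl
theorem L11895 : sm gf N1198 = N2465 := rfl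
theorem L11897 : sm gd N2465 = N1199 := ded_23_1 (flp_f L5881) L5879 L11895
theorem L11899 : sm gb N1199 = N2466 := rfl
theorem L11901 : sm ge N2466 = N1200 := ded_15_2 (flp_b L5887) (flp_e L5885) L11899
theorem L11913 : sm ga N1200 = N2468 := rfl
theorem L11919 : sm gg N1200 = N2470 := rfl
theorem L11923 : sm ga N1202 = N2472 := rfl
theorem L11926 : sm ge N2472 = N1204 := ded_10_2 (flp_a L5912) (flp_e L5900) L11923
theorem L11929 : sm gb N1516 = N2472 := ded_15_3 L11926 (flp_b L5917) (flp_e L7396)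
theorem L11936 : sm gg N1202 = N2474 := rfl
theorem L11939 : sm ge N2474 = N1206 := ded_26_1 (flp_g L5922) (flp_e L5900) L11936
theorem L11941 : sm gb N1203 = N2475 := rfl
theorem L11946 : sm gc N1204 = N2476 := rfl
theorem L11958 : sm gb N1206 = N2479 := rfl
theorem L11960 : sm gd N2479 = N1208 := ded_14_2 (flp_b L5930) (flp_d L5924) L11958
theorem L11968 : sm gb N1209 = N2481 := rfl
theorem L11970 : sm ge N2481 = N1285 := ded_15_2 (flp_b L6320) (flp_e L5942) L11968
theorem L11972 : sm gd N1209 = N2482 := rfl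
theorem L11974 : sm ga N2482 = N1210 := ded_9_1 (flp_d L5944) L5939 L11972
theorem L11976 : sm gf N1209 = N2483 := rfl
theorem L11978 : sm ga N2483 = N1211 := ded_11_1 (flp_f L5948) L5939 L11976
theorem L11980 : sm gc N2483 = N2483 := ded_20_1 (flp_f L11976) L5941 L11976
theorem L11981 : sm ge N2483 = N1286 := ded_25_1 (flp_f L6322) (flp_e L5942) L11976
theorem L11983 : sm gg N1209 = N2484 := rfl
theorem L11985 : sm ga N2484 = N1212 := ded_12_1 (flp_g L5953) L5939 L11983
theorem L11987 : sm gc N2484 = N2484 := ded_21_1 (flp_g L11983) L5941 L11983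
theorem L11988 : sm ge N2484 = N1287 := ded_26_1 (flp_g L6327) (flp_e L5942) L11983
theorem L11990 : sm gc N1210 = N2485 := rfl
theorem L11992 : sm gb N2485 = N2485 := ded_13_1 (flp_c L11990) L5946 L3105 (flp_b L5946) L11990
theorem L11993 : sm gf N1210 = N2486 := rfl
theorem L11995 : sm gd N2486 = N1211 := ded_23_1 (flp_f L5948) L5944 L11993
theorem L11997 : sm gg N1210 = N2487 := rfl
theorem L11999 : sm gd N2487 = N1212 := ded_24_1 (flp_g L5953) L5944 L11997
theorem L12001 : sm gb N1211 = N2488 := rfl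
theorem L12003 : sm ge N2488 = N1288 := ded_15_2 (flp_b L6332) (flp_e L5951) L12001
theorem L12005 : sm gf N2488 = N1215 := ded_16_2 (flp_b L5968) (flp_f L3106) L3098 L5948 L12001
theorem L12007 : sm gg N1211 = N2489 := rfl
theorem L12009 : sm gc N2489 = N2489 := ded_21_1 (flp_g L12007) L5950 L12007
theorem L12010 : sm ge N2489 = N1289 := ded_26_1 (flp_g L6336) (flp_e L5951) L12007
theorem L12012 : sm gf N2484 = N2489 := ded_29_0 (flp_g L12007) (flp_f L5948) L5953 (flp_a L11985)
theorem L12014 : sm gb N1212 = N2490 := rfl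
theorem L12016 : sm ge N2490 = N1290 := ded_15_2 (flp_b L6341) (flp_e L5956) L12014
theorem L12018 : sm gg N2490 = N1217 := ded_17_2 (flp_b L5980) (flp_g L3112) L3098 L5953 L12014
theorem L12020 : sm gf N1212 = N2491 := rfl
theorem L12022 : sm ga N2491 = N2489 := ded_11_1 (flp_f L12012) L11985 L12020
theorem L12024 : sm gc N2491 = N2491 := ded_20_1 (flp_f L12020) L5955 L12020
theorem L12025 : sm ge N2491 = N1291 := ded_25_1 (flp_f L6345) (flp_e L5956) L12020
theorem L12027 : sm gg N2491 = N2483 := ded_29_3 L11978 (flp_f L5948) L5953 L12020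
theorem L12029 : sm gb N1213 = N2492 := rfl
theorem L12031 : sm gd N2492 = N1215 := ded_14_2 (flp_b L5968) (flp_d L5961) L12029
theorem L12033 : sm gg N1213 = N2493 := rfl
theorem L12035 : sm gc N2493 = N2493 := ded_21_1 (flp_g L12033) L5960 L12033
theorem L12036 : sm gd N2493 = N1216 := ded_24_1 (flp_g L5972) (flp_d L5961) L12033
theorem L12038 : sm gf N2174 = N2493 := ded_29_0 (flp_g L12033) (flp_f L5958) L5963 (flp_a L10492)
theorem L12040 : sm gb N1214 = N2494 := rfl
theorem L12042 : sm gd N2494 = N1217 := ded_14_2 (flp_b L5980) (flp_d L5966) L12040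
theorem L12044 : sm gf N1214 = N2495 := rfl
theorem L12046 : sm ga N2495 = N2493 := ded_11_1 (flp_f L12038) L10492 L12044
theorem L12048 : sm gc N2495 = N2495 := ded_20_1 (flp_f L12044) L5965 L12044
theorem L12049 : sm gd N2495 = N1218 := ded_23_1 (flp_f L5984) (flp_d L5966) L12044
theorem L12051 : sm ge N2495 = N2493 := ded_25_1 (flp_f L12038) L10497 L12044
theorem L12053 : sm gg N2495 = N2173 := ded_29_3 L10483 (flp_f L5958) L5963 L12044
theorem L12055 : sm ga N1215 = N2496 := rfl
theorem L12057 : sm ge N2496 = N1292 := ded_10_2 (flp_a L6352) (flp_e L5970) L12055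
theorem L12059 : sm gc N1215 = N2497 := rfl
theorem L12061 : sm ge N2497 = N1293 := ded_19_2 (flp_c L6354) (flp_e L5970) L12059
theorem L12063 : sm gb N2497 = N1220 := ded_13_1 (flp_c L6001) (flp_b L3118) (flp_c L3108) L5968 L12059
theorem L12065 : sm gg N1215 = N2498 := rfl
theorem L12067 : sm ge N2498 = N1294 := ded_26_1 (flp_g L6358) (flp_e L5970) L12065
theorem L12069 : sm gb N1216 = N2499 := rfl
theorem L12071 : sm ge N2499 = N1295 := ded_15_2 (flp_b L6360) (flp_e L5976) L12069
theorem L12073 : sm ga N1217 = N2500 := rfl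
theorem L12075 : sm ge N2500 = N1296 := ded_10_2 (flp_a L6362) (flp_e L5982) L12073
theorem L12077 : sm gc N1217 = N2501 := rfl
theorem L12079 : sm ge N2501 = N1297 := ded_19_2 (flp_c L6364) (flp_e L5982) L12077
theorem L12081 : sm gb N2501 = N1224 := ded_13_1 (flp_c L6025) (flp_b L3133) (flp_c L3114) L5980 L12077
theorem L12083 : sm gf N1217 = N2502 := rfl
theorem L12085 : sm ge N2502 = N1298 := ded_25_1 (flp_f L6368) (flp_e L5982) L12083
theorem L12087 : sm gb N1218 = N2503 := rfl
theorem L12089 : sm ge N2503 = N1299 := ded_15_2 (flp_b L6370) (flp_e L5990) L12087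
theorem L12097 : sm gc N1219 = N2505 := rfl
theorem L12099 : sm ga N2505 = N1220 := ded_8_1 (flp_c L6001) L5994 L12097
theorem L12101 : sm ge N2505 = N1301 := ded_19_2 (flp_c L6378) (flp_e L5998) L12097
theorem L12103 : sm gf N2505 = N2505 := ded_20_2 (flp_c L12097) L6000 L12097
theorem L12104 : sm gg N1219 = N2506 := rfl
theorem L12106 : sm ga N2506 = N1221 := ded_12_1 (flp_g L6006) L5994 L12104
theorem L12112 : sm gf N1221 = N2506 := ded_29_0 (flp_g L12104) L6000 L12104 L12106
theorem L12114 : sm gd N1220 = N2507 := rfl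
theorem L12116 : sm gf N2507 = N2507 := ded_23_2 (flp_d L12114) L6005 L12114
theorem L12117 : sm gg N1220 = N2508 := rfl
theorem L12119 : sm gc N2508 = N1221 := ded_21_1 (flp_g L6006) L6001 L12117
theorem L12121 : sm ge N2508 = N1304 := ded_26_1 (flp_g L6394) (flp_e L6003) L12117
theorem L12123 : sm gb N1221 = N2509 := rfl
theorem L12127 : sm ge N2509 = N1305 := ded_15_2 (flp_b L6398) (flp_e L6010) L12123
theorem L12129 : sm gg N2509 = N1222 := ded_17_2 (flp_b L6012) (flp_g L3125) L3118 L6006 L12123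
theorem L12131 : sm ga N1222 = N2510 := rfl
theorem L12133 : sm gd N2510 = N1233 := ded_9_2 (flp_a L6076) (flp_d L6014) L12131
theorem L12135 : sm ge N2510 = N1306 := ded_10_2 (flp_a L6404) (flp_e L6016) L12131
theorem L12137 : sm gc N1222 = N2511 := rfl
theorem L12139 : sm ge N2511 = N1307 := ded_19_2 (flp_c L6408) (flp_e L6016) L12137
theorem L12141 : sm gf N1222 = N2512 := rfl
theorem L12143 : sm gd N2512 = N1235 := ded_23_1 (flp_f L6084) (flp_d L6014) L12141
theorem L12145 : sm ge N2512 = N1308 := ded_25_1 (flp_f L6410) (flp_e L6016) L12141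
theorem L12149 : sm gb N1223 = N2513 := rfl
theorem L12151 : sm gd N2513 = N1236 := ded_14_2 (flp_b L6090) (flp_d L6020) L12149
theorem L12153 : sm ge N2513 = N1309 := ded_15_2 (flp_b L6416) (flp_e L6022) L12149
theorem L12155 : sm gc N1223 = N2514 := rfl
theorem L12157 : sm ga N2514 = N1224 := ded_8_1 (flp_c L6025) L6018 L12155
theorem L12159 : sm ge N2514 = N1310 := ded_19_2 (flp_c L6420) (flp_e L6022) L12155
theorem L12161 : sm gg N2514 = N2514 := ded_21_2 (flp_c L12155) L6024 L12155
theorem L12162 : sm gf N1223 = N2515 := rfl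
theorem L12164 : sm ga N2515 = N1225 := ded_11_1 (flp_f L6030) L6018 L12162
theorem L12166 : sm gd N2515 = N1238 := ded_23_1 (flp_f L6101) (flp_d L6020) L12162
theorem L12170 : sm gg N2515 = N1225 := ded_29_3 (flp_a L12164) (flp_f L12162) L6024 L12162
theorem L12172 : sm gd N1224 = N2516 := rfl
theorem L12174 : sm gg N2516 = N2516 := ded_24_2 (flp_d L12172) L6029 L12172
theorem L12175 : sm gf N1224 = N2517 := rfl
theorem L12177 : sm gc N2517 = N1225 := ded_20_1 (flp_f L6030) L6025 L12175
theorem L12179 : sm ge N2517 = N1313 := ded_25_1 (flp_f L6436) (flp_e L6027) L12175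
theorem L12181 : sm gb N1225 = N2518 := rfl
theorem L12183 : sm gd N2518 = N1241 := ded_14_2 (flp_b L6118) (flp_d L6032) L12181
theorem L12185 : sm ge N2518 = N1314 := ded_15_2 (flp_b L6440) (flp_e L6034) L12181
theorem L12187 : sm gf N2518 = N1226 := ded_16_2 (flp_b L6036) (flp_f L3140) L3133 L6030 L12181
theorem L12189 : sm ga N1226 = N2519 := rfl
theorem L12191 : sm gd N2519 = N1242 := ded_9_2 (flp_a L6124) (flp_d L6038) L12189
theorem L12193 : sm ge N2519 = N1315 := ded_10_2 (flp_a L6446) (flp_e L6040) L12189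
theorem L12195 : sm gc N1226 = N2520 := rfl
theorem L12197 : sm ge N2520 = N1316 := ded_19_2 (flp_c L6450) (flp_e L6040) L12195
theorem L12199 : sm gg N1226 = N2521 := rfl
theorem L12201 : sm gd N2521 = N1244 := ded_24_1 (flp_g L6134) (flp_d L6038) L12199
theorem L12203 : sm ge N2521 = N1317 := ded_26_1 (flp_g L6452) (flp_e L6040) L12199
theorem L12205 : sm gb N2521 = N2179 := ded_17_1 (flp_g L10517) (flp_b L5290) (flp_g L3148) L6036 L12199
theorem L12207 : sm ga N1227 = N2522 := rfl
theorem L12209 : sm ge N2522 = N1245 := ded_10_2 (flp_a L6140) (flp_e L6044) L12207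
theorem L12215 : sm gf N1227 = N2524 := rfl
theorem L12220 : sm gg N1227 = N2525 := rfl
theorem L12224 : sm gb N1228 = N2526 := rfl
theorem L12226 : sm ge N2526 = N1249 := ded_15_2 (flp_b L6155) (flp_e L6050) L12224
theorem L12228 : sm gd N1228 = N2527 := rfl
theorem L12230 : sm ga N2527 = N1230 := ded_9_1 (flp_d L6061) (flp_a L6048) L12228
theorem L12243 : sm gb N1229 = N2529 := rfl
theorem L12245 : sm ge N2529 = N1252 := ded_15_2 (flp_b L6172) (flp_e L6057) L12243
theorem L12247 : sm gc N1230 = N2530 := rfl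
theorem L12250 : sm ge N1230 = N2531 := rfl
theorem L12253 : sm gd N2531 = N1253 := ded_22_1 (flp_e L6176) (flp_d L3203) (flp_e L3157) L6061 L12250
theorem L12255 : sm gg N1230 = N2532 := rfl
theorem L12257 : sm gd N2532 = N1231 := ded_24_1 (flp_g L6064) L6061 L12255
theorem L12259 : sm gb N1231 = N2533 := rfl
theorem L12263 : sm ga N1232 = N2534 := rfl
theorem L12267 : sm gg N2534 = N1233 := ded_12_2 (flp_a L6076) (flp_g L6074) L12263
theorem L12269 : sm gc N1232 = N2535 := rfl
theorem L12273 : sm gg N2535 = N1234 := ded_21_2 (flp_c L6080) (flp_g L6074) L12269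
theorem L12275 : sm gf N1232 = N2536 := rfl
theorem L12277 : sm ge N2536 = N1258 := ded_25_1 (flp_f L6195) (flp_e L6072) L12275
theorem L12279 : sm gb N1233 = N2537 := rfl
theorem L12281 : sm ge N2537 = N1259 := ded_15_2 (flp_b L6199) (flp_e L6078) L12279
theorem L12283 : sm gc N1233 = N2538 := rfl
theorem L12285 : sm ga N2538 = N1234 := ded_8_1 (flp_c L6080) L6076 L12283
theorem L12289 : sm gf N1233 = N2539 := rfl
theorem L12293 : sm ge N2539 = N1261 := ded_25_1 (flp_f L6207) (flp_e L6078) L12289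
theorem L12295 : sm gg N2536 = N2539 := ded_29_1 (flp_f L12289) (flp_g L12267) (flp_a L12263) L12275
theorem L12297 : sm gd N1234 = N2540 := rfl
theorem L12299 : sm gf N1234 = N2541 := rfl
theorem L12301 : sm gc N2541 = N1235 := ded_20_1 (flp_f L6084) L6080 L12299
theorem L12303 : sm ge N2541 = N1263 := ded_25_1 (flp_f L6217) (flp_e L6082) L12299
theorem L12305 : sm gg N1235 = N2542 := rfl
theorem L12309 : sm ge N2542 = N1264 := ded_26_1 (flp_g L6221) (flp_e L6086) L12305
theorem L12321 : sm gf N1236 = N2545 := rfl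
theorem L12334 : sm gd N1237 = N2548 := rfl
theorem L12336 : sm ga N2548 = N1239 := ded_9_1 (flp_d L6109) (flp_a L6096) L12334
theorem L12349 : sm gb N1238 = N2550 := rfl
theorem L12351 : sm ge N2550 = N1272 := ded_15_2 (flp_b L6261) (flp_e L6105) L12349
theorem L12353 : sm gc N1239 = N2551 := rfl
theorem L12361 : sm gf N1239 = N2553 := rfl
theorem L12363 : sm gd N2553 = N1240 := ded_23_1 (flp_f L6112) L6109 L12361
theorem L12365 : sm gb N1240 = N2554 := rfl
theorem L12367 : sm ge N2554 = N1275 := ded_15_2 (flp_b L6272) (flp_e L6116) L12365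
theorem L12369 : sm ga N1241 = N2555 := rfl
theorem L12373 : sm gf N2555 = N1242 := ded_11_2 (flp_a L6124) (flp_f L6122) L12369
theorem L12381 : sm gg N1241 = N2557 := rfl
theorem L12385 : sm gb N1242 = N2558 := rfl
theorem L12387 : sm ge N2558 = N1279 := ded_15_2 (flp_b L6288) (flp_e L6126) L12385
theorem L12395 : sm gg N1242 = N2560 := rfl
theorem L12397 : sm ga N2560 = N1244 := ded_12_1 (flp_g L6134) L6124 L12395
theorem L12399 : sm ge N2560 = N1281 := ded_26_1 (flp_g L6296) (flp_e L6126) L12395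
theorem L12401 : sm gf N2560 = N2557 := ded_29_2 (flp_g L12381) L12369 L12373 L12395
theorem L12407 : sm gg N1243 = N2562 := rfl
theorem L12409 : sm gc N2562 = N1244 := ded_21_1 (flp_g L6134) L6128 L12407
theorem L12411 : sm ge N2562 = N1283 := ded_26_1 (flp_g L6308) (flp_e L6130) L12407
theorem L12413 : sm gf N1244 = N2563 := rfl
theorem L12419 : sm gg N2563 = N2555 := ded_29_3 (flp_a L12369) L6122 L6134 L12413
theorem L12421 : sm gc N1245 = N2564 := rfl
theorem L12423 : sm ga N2564 = N1246 := ded_8_1 (flp_c L6144) L6140 L12421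
theorem L12425 : sm gf N1245 = N2565 := rfl
theorem L12429 : sm gd N2565 = N1347 := ded_23_1 (flp_f L6612) (flp_d L6142) L12425
theorem L12431 : sm gg N1245 = N2566 := rfl
theorem L12433 : sm ga N2566 = N1248 := ded_12_1 (flp_g L6151) L6140 L12431
theorem L12435 : sm gd N2566 = N1348 := ded_24_1 (flp_g L6616) (flp_d L6142) L12431
theorem L12437 : sm gb N1246 = N2567 := rfl
theorem L12439 : sm gc N2567 = N1249 := ded_13_2 (flp_b L6155) (flp_c L3190) L3186 L6144 L12437
theorem L12441 : sm gd N1246 = N2568 := rfl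
theorem L12451 : sm gg N1247 = N2571 := rfl
theorem L12455 : sm gf N2566 = N2571 := ded_29_0 (flp_g L12451) (flp_f L6146) L6151 (flp_a L12433)
theorem L12471 : sm ga N1249 = N2574 := rfl
theorem L12473 : sm gf N2574 = N2567 := ded_30_4 L12439 (flp_b L6155) L3192 L1644 (flp_c L1642) (flp_b L795) (flp_a L659) (flp_f L657) (flp_c L283) L159 (flp_a L281) L657 L661 L795 L1637 L1641 L3190 L6155 L12471
theorem L12475 : sm gd N1249 = N2575 := rfl
theorem L12477 : sm gb N2575 = N1250 := ded_14_1 (flp_d L6157) L6155 L12475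
theorem L12479 : sm gf N1249 = N2576 := rfl
theorem L12483 : sm gc N2576 = N2574 := ded_20_1 L12473 L12439 L12479
theorem L12486 : sm gg N1249 = N2577 := rfl
theorem L12488 : sm ge N1250 = N2578 := rfl
theorem L12490 : sm ga N2578 = N1253 := ded_10_1 (flp_e L6176) (flp_a L6159) L12488
theorem L12495 : sm gg N1250 = N2579 := rfl
theorem L12501 : sm gd N2579 = N1251 := ded_24_1 (flp_g L6164) L6157 L12495
theorem L12507 : sm ga N1252 = N2581 := rfl
theorem L12509 : sm gd N2581 = N1355 := ded_9_2 (flp_a L6645) (flp_d L6174) L12507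
theorem L12513 : sm gf N1252 = N2583 := rfl
theorem L12519 : sm gg N1253 = N2584 := rfl
theorem L12521 : sm ge N2584 = N1254 := ded_26_1 (flp_g L6179) L6176 L12519
theorem L12523 : sm gb N1254 = N2585 := rfl
theorem L12525 : sm gd N2585 = N1255 := ded_14_2 (flp_b L6183) (flp_d L6181) L12523
theorem L12527 : sm ga N1255 = N2586 := rfl
theorem L12529 : sm gc N1255 = N2587 := rfl
theorem L12531 : sm gb N2587 = N1257 := ded_13_1 (flp_c L6191) (flp_b L3210) (flp_c L3208) L6183 L12529
theorem L12533 : sm gf N1255 = N2588 := rfl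
theorem L12535 : sm gb N1256 = N2589 := rfl
theorem L12537 : sm gd N2589 = N1358 := ded_14_2 (flp_b L6654) (flp_d L6187) L12535
theorem L12539 : sm gc N1256 = N2590 := rfl
theorem L12541 : sm ga N2590 = N1257 := ded_8_1 (flp_c L6191) L6185 L12539
theorem L12543 : sm gg N2590 = N1260 := ded_21_2 (flp_c L6203) (flp_g L6189) L12539
theorem L12545 : sm gd N1257 = N2591 := rfl
theorem L12547 : sm gg N2591 = N1262 := ded_24_2 (flp_d L6215) (flp_g L6193) L12545
theorem L12553 : sm ga N1259 = N2593 := rfl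
theorem L12555 : sm gd N2593 = N1362 := ded_9_2 (flp_a L6671) (flp_d L6201) L12553
theorem L12557 : sm gc N1259 = N2594 := rfl
theorem L12559 : sm gf N1259 = N2595 := rfl
theorem L12561 : sm gd N2595 = N1364 := ded_23_1 (flp_f L6675) (flp_d L6201) L12559
theorem L12563 : sm gg N2216 = N2595 := ded_24_0 L12561 (flp_g L10437) (flp_d L10703)
theorem L12565 : sm gg N1259 = N2596 := rfl
theorem L12567 : sm gd N2596 = N1365 := ded_24_1 (flp_g L6677) (flp_d L6201) L12565
theorem L12571 : sm gd N1260 = N2598 := rfl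
theorem L12573 : sm ga N2598 = N1262 := ded_9_1 (flp_d L6215) (flp_a L6205) L12571
theorem L12583 : sm gb N1261 = N2600 := rfl
theorem L12585 : sm gd N2600 = N1369 := ded_14_2 (flp_b L6693) (flp_d L6211) L12583
theorem L12587 : sm ga N2099 = N2600 := ded_9_3 L12585 (flp_a L10433) (flp_d L10133)
theorem L12589 : sm gg N2097 = N2600 := ded_24_0 L12585 (flp_g L10431) (flp_d L10126)
theorem L12591 : sm gc N1262 = N2601 := rfl
theorem L12593 : sm ge N1262 = N2602 := rfl
theorem L12595 : sm gf N1262 = N2603 := rfl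
theorem L12599 : sm gb N1263 = N2604 := rfl
theorem L12601 : sm gc N2604 = N2220 := ded_13_2 (flp_b L10715) L5384 (flp_b L3226) (flp_c L6219) L12599
theorem L12611 : sm gb N1264 = N2606 := rfl
theorem L12613 : sm gd N2606 = N1375 := ded_14_2 (flp_b L6719) (flp_d L6225) L12611
theorem L12615 : sm gg N2606 = N2222 := ded_17_2 (flp_b L10727) (flp_g L5386) (flp_b L3226) L6221 L12611
theorem L12617 : sm gc N1265 = N2607 := rfl
theorem L12619 : sm ga N2607 = N1266 := ded_8_1 (flp_c L6233) L6229 L12617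
theorem L12621 : sm gf N1265 = N2608 := rfl
theorem L12623 : sm ga N2608 = N1267 := ded_11_1 (flp_f L6235) L6229 L12621
theorem L12627 : sm gg N1265 = N2609 := rfl
theorem L12629 : sm ga N2609 = N1268 := ded_12_1 (flp_g L6239) L6229 L12627
theorem L12631 : sm gd N2609 = N1378 := ded_24_1 (flp_g L6731) (flp_d L6231) L12627
theorem L12633 : sm gb N1266 = N2610 := rfl
theorem L12635 : sm gc N2610 = N1269 := ded_13_2 (flp_b L6244) (flp_c L3232) L3228 L6233 L12633
theorem L12637 : sm gd N1266 = N2611 := rfl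
theorem L12643 : sm gg N1266 = N2613 := rfl
theorem L12645 : sm gc N2613 = N1268 := ded_21_1 (flp_g L6239) L6233 L12643
theorem L12647 : sm gb N1267 = N2614 := rfl
theorem L12649 : sm gd N2614 = N1382 := ded_14_2 (flp_b L6746) (flp_d L6237) L12647
theorem L12651 : sm gf N2614 = N1272 := ded_16_2 (flp_b L6261) (flp_f L3237) L3228 L6235 L12647
theorem L12653 : sm gg N1267 = N2615 := rfl
theorem L12657 : sm gf N2609 = N2615 := ded_29_0 (flp_g L12653) (flp_f L6235) L6239 (flp_a L12629)
theorem L12659 : sm gf N1268 = N2616 := rfl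
theorem L12661 : sm ga N2616 = N2615 := ded_11_1 (flp_f L12657) L12629 L12659
theorem L12663 : sm gd N2616 = N1384 := ded_23_1 (flp_f L6754) (flp_d L6241) L12659
theorem L12665 : sm gg N2616 = N2608 := ded_29_3 L12623 (flp_f L6235) L6239 L12659
theorem L12667 : sm ga N1269 = N2617 := rfl
theorem L12669 : sm gd N1269 = N2618 := rfl
theorem L12671 : sm gb N2618 = N1270 := ded_14_1 (flp_d L6246) L6244 L12669
theorem L12673 : sm gf N1269 = N2619 := rfl
theorem L12675 : sm gg N1269 = N2620 := rfl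
theorem L12678 : sm ge N1270 = N2621 := rfl
theorem L12680 : sm ga N2621 = N1273 := ded_10_1 (flp_e L6265) (flp_a L6248) L12678
theorem L12682 : sm gc N2621 = N1273 := ded_19_1 (flp_e L6265) L6251 L12678
theorem L12695 : sm gb N1271 = N2623 := rfl
theorem L12697 : sm ga N1272 = N2624 := rfl
theorem L12699 : sm gd N2624 = N1385 := ded_9_2 (flp_a L6760) (flp_d L6263) L12697
theorem L12701 : sm gc N1272 = N2625 := rfl
theorem L12703 : sm gg N1272 = N2626 := rfl
theorem L12707 : sm gb N2626 = N1278 := ded_17_1 (flp_g L6284) (flp_b L3252) (flp_g L3243) L6261 L12703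
theorem L12709 : sm gf N1273 = N2627 := rfl
theorem L12711 : sm ge N2627 = N1274 := ded_25_1 (flp_f L6268) L6265 L12709
theorem L12713 : sm gb N1274 = N2628 := rfl
theorem L12717 : sm ga N1275 = N2629 := rfl
theorem L12725 : sm gg N1275 = N2631 := rfl
theorem L12727 : sm gb N1276 = N2632 := rfl
theorem L12729 : sm gd N2632 = N1388 := ded_14_2 (flp_b L6769) (flp_d L6276) L12727
theorem L12731 : sm gc N1276 = N2633 := rfl
theorem L12733 : sm ga N2633 = N1277 := ded_8_1 (flp_c L6280) L6274 L12731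
theorem L12735 : sm gf N2633 = N1280 := ded_20_2 (flp_c L6292) (flp_f L6278) L12731
theorem L12737 : sm gd N1277 = N2634 := rfl
theorem L12739 : sm gf N2634 = N1282 := ded_23_2 (flp_d L6304) (flp_f L6282) L12737
theorem L12741 : sm gg N1277 = N2635 := rfl
theorem L12745 : sm ga N1279 = N2636 := rfl
theorem L12747 : sm gd N2636 = N1392 := ded_9_2 (flp_a L6786) (flp_d L6290) L12745
theorem L12749 : sm gb N2636 = N2593 := ded_7_2 (flp_a L12553) (flp_b L6199) (flp_a L3216) (flp_b L1649) (flp_a L813) L1665 L3258 L6288 L12745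
theorem L12751 : sm gc N1279 = N2637 := rfl
theorem L12753 : sm gf N1279 = N2638 := rfl
theorem L12755 : sm gd N2638 = N1394 := ded_23_1 (flp_f L6792) (flp_d L6290) L12753
theorem L12757 : sm gg N1279 = N2639 := rfl
theorem L12759 : sm gd N2639 = N1395 := ded_24_1 (flp_g L6794) (flp_d L6290) L12757
theorem L12761 : sm gf N2202 = N2639 := ded_23_0 L12759 L10365 (flp_d L10643)
theorem L12763 : sm gb N1280 = N2640 := rfl
theorem L12765 : sm gd N1280 = N2641 := rfl
theorem L12767 : sm ga N2641 = N1282 := ded_9_1 (flp_d L6304) (flp_a L6294) L12765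
theorem L12769 : sm gg N1280 = N2642 := rfl
theorem L12771 : sm ga N2642 = N1283 := ded_12_1 (flp_g L6308) (flp_a L6294) L12769
theorem L12775 : sm gf N2642 = N2635 := ded_29_2 (flp_g L12741) (flp_a L12733) L12735 L12769
theorem L12777 : sm gb N1281 = N2643 := rfl
theorem L12779 : sm gd N2643 = N1399 := ded_14_2 (flp_b L6810) (flp_d L6300) L12777
theorem L12781 : sm ga N2091 = N2643 := ded_9_3 L12779 L10361 (flp_d L10095)
theorem L12783 : sm gf N2089 = N2643 := ded_23_0 L12779 L10359 (flp_d L10088)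
theorem L12791 : sm gg N1282 = N2646 := rfl
theorem L12795 : sm gb N1283 = N2647 := rfl
theorem L12797 : sm gc N2647 = N2206 := ded_13_2 (flp_b L10655) L5352 (flp_b L3270) (flp_c L6310) L12795
theorem L12799 : sm gg N2647 = N2587 := ded_17_2 L12531 L6193 (flp_b L3264) L6308 L12795
theorem L12801 : sm gf N1283 = N2648 := rfl
theorem L12803 : sm ga N2648 = N2635 := ded_11_1 (flp_f L12775) L12771 L12801
theorem L12807 : sm gg N2648 = N2633 := ded_29_3 L12733 L6282 L6308 L12801
theorem L12809 : sm gb N1284 = N2649 := rfl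
theorem L12813 : sm gf N2649 = N2208 := ded_16_2 (flp_b L10667) (flp_f L5354) (flp_b L3270) L6312 L12809
theorem L12815 : sm ga N1285 = N2650 := rfl
theorem L12817 : sm gc N1285 = N2651 := rfl
theorem L12819 : sm gb N2651 = N2651 := ded_13_1 (flp_c L12817) (flp_b L6320) L3274 L6320 L12817
theorem L12820 : sm gf N1285 = N2652 := rfl
theorem L12822 : sm gg N1285 = N2653 := rfl
theorem L12824 : sm gb N1286 = N2654 := rfl
theorem L12826 : sm gb N1287 = N2655 := rfl
theorem L12828 : sm ga N1288 = N2656 := rfl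
theorem L12830 : sm gf N2656 = N1292 := ded_11_2 (flp_a L6352) (flp_f L6334) L12828
theorem L12832 : sm gc N1288 = N2657 := rfl
theorem L12834 : sm gf N2657 = N1293 := ded_20_2 (flp_c L6354) (flp_f L6334) L12832
theorem L12836 : sm gb N2657 = N2657 := ded_13_1 (flp_c L12832) (flp_b L6332) L3277 L6332 L12832
theorem L12837 : sm gg N1288 = N2658 := rfl
theorem L12839 : sm gb N1289 = N2659 := rfl
theorem L12841 : sm ga N1290 = N2660 := rfl
theorem L12843 : sm gg N2660 = N1296 := ded_12_2 (flp_a L6362) (flp_g L6343) L12841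
theorem L12845 : sm gc N1290 = N2661 := rfl
theorem L12847 : sm gg N2661 = N1297 := ded_21_2 (flp_c L6364) (flp_g L6343) L12845
theorem L12849 : sm gb N2661 = N2661 := ded_13_1 (flp_c L12845) (flp_b L6341) L3280 L6341 L12845
theorem L12850 : sm gf N1290 = N2662 := rfl
theorem L12852 : sm gb N1291 = N2663 := rfl
theorem L12854 : sm gb N1292 = N2664 := rfl
theorem L12856 : sm gc N1292 = N2665 := rfl
theorem L12858 : sm ga N2665 = N1293 := ded_8_1 (flp_c L6354) L6352 L12856
theorem L12860 : sm gg N1292 = N2666 := rfl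
theorem L12862 : sm ga N2666 = N1294 := ded_12_1 (flp_g L6358) L6352 L12860
theorem L12864 : sm gf N2666 = N2658 := ded_29_2 (flp_g L12837) L12828 L12830 L12860
theorem L12866 : sm gd N1293 = N2667 := rfl
theorem L12868 : sm gb N2667 = N1303 := ded_14_1 (flp_d L6391) (flp_b L6356) L12866
theorem L12870 : sm gg N1293 = N2668 := rfl
theorem L12872 : sm gc N2668 = N1294 := ded_21_1 (flp_g L6358) L6354 L12870
theorem L12874 : sm gb N1294 = N2669 := rfl
theorem L12876 : sm gg N2669 = N1295 := ded_17_2 (flp_b L6360) (flp_g L3283) L3281 L6358 L12874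
theorem L12878 : sm gf N1294 = N2670 := rfl
theorem L12880 : sm ga N2670 = N2658 := ded_11_1 (flp_f L12864) L12862 L12878
theorem L12882 : sm gg N2670 = N2656 := ded_29_3 (flp_a L12828) L6334 L6358 L12878
theorem L12884 : sm ga N1295 = N2671 := rfl
theorem L12886 : sm gc N1295 = N2672 := rfl
theorem L12888 : sm gb N2672 = N1307 := ded_13_1 (flp_c L6408) (flp_b L3313) (flp_c L3285) L6360 L12886
theorem L12890 : sm gf N1295 = N2673 := rfl
theorem L12892 : sm gb N2673 = N2235 := ded_16_1 (flp_f L10795) (flp_b L5410) L3287 L6360 L12890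
theorem L12894 : sm gb N1296 = N2674 := rfl
theorem L12896 : sm gc N1296 = N2675 := rfl
theorem L12898 : sm ga N2675 = N1297 := ded_8_1 (flp_c L6364) L6362 L12896
theorem L12900 : sm gf N1296 = N2676 := rfl
theorem L12902 : sm ga N2676 = N1298 := ded_11_1 (flp_f L6368) L6362 L12900
theorem L12904 : sm gg N2662 = N2676 := ded_29_1 (flp_f L12900) (flp_g L12843) (flp_a L12841) L12850
theorem L12906 : sm gd N1297 = N2677 := rfl
theorem L12908 : sm gb N2677 = N1312 := ded_14_1 (flp_d L6433) (flp_b L6366) L12906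
theorem L12910 : sm gf N1297 = N2678 := rfl
theorem L12912 : sm gc N2678 = N1298 := ded_20_1 (flp_f L6368) L6364 L12910
theorem L12914 : sm gb N1298 = N2679 := rfl
theorem L12916 : sm gd N2679 = N2673 := ded_14_2 L12892 L10797 L12914
theorem L12918 : sm gf N2679 = N1299 := ded_16_2 (flp_b L6370) (flp_f L3291) L3289 L6368 L12914
theorem L12920 : sm gg N1298 = N2680 := rfl
theorem L12922 : sm ga N2680 = N2662 := ded_12_1 L12904 L12902 L12920
theorem L12924 : sm gf N2660 = N2680 := ded_29_0 (flp_g L12920) (flp_f L6368) (flp_g L6343) L12841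
theorem L12926 : sm ga N1299 = N2681 := rfl
theorem L12928 : sm gd N2681 = N2671 := ded_9_2 (flp_a L12884) (flp_d L6372) L12926
theorem L12930 : sm gc N1299 = N2682 := rfl
theorem L12932 : sm gb N2682 = N1316 := ded_13_1 (flp_c L6450) (flp_b L3329) (flp_c L3295) L6370 L12930
theorem L12934 : sm gg N1299 = N2683 := rfl
theorem L12936 : sm gd N2683 = N2669 := ded_24_1 L12876 (flp_d L6372) L12934
theorem L12938 : sm gb N2683 = N2232 := ded_17_1 (flp_g L10783) (flp_b L5406) (flp_g L3299) L6370 L12934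
theorem L12944 : sm gc N1300 = N2685 := rfl
theorem L12951 : sm gg N1300 = N2687 := rfl
theorem L12953 : sm gd N2687 = N1321 := ded_24_1 (flp_g L6472) (flp_d L6376) L12951
theorem L12955 : sm gb N1301 = N2688 := rfl
theorem L12957 : sm gd N1301 = N2689 := rfl
theorem L12959 : sm ga N2689 = N1303 := ded_9_1 (flp_d L6391) (flp_a L6380) L12957
theorem L12961 : sm gf N2689 = N2689 := ded_23_2 (flp_d L12957) L6382 L12957
theorem L12962 : sm gc N1303 = N2689 := ded_28_0 (flp_d L12957) (flp_c L6378) L3303 L1706 (flp_d L3303) L6378 L12957 L12959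
theorem L12964 : sm gg N1301 = N2690 := rfl
theorem L12966 : sm ga N2690 = N1304 := ded_12_1 (flp_g L6394) (flp_a L6380) L12964
theorem L12968 : sm gc N2690 = N1302 := ded_21_1 (flp_g L6383) L6378 L12964
theorem L12970 : sm gf N1304 = N2690 := ded_29_0 (flp_g L12964) L6382 L12964 L12966
theorem L12976 : sm ge N1303 = N2692 := rfl
theorem L12978 : sm gf N2692 = N2692 := ded_25_2 (flp_e L12976) L6393 L12976
theorem L12979 : sm gg N1303 = N2693 := rfl
theorem L12981 : sm gd N2693 = N1304 := ded_24_1 (flp_g L6394) L6391 L12979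
theorem L12983 : sm gb N1304 = N2694 := rfl
theorem L12985 : sm ga N1305 = N2695 := rfl
theorem L12987 : sm gd N2695 = N1323 := ded_9_2 (flp_a L6480) (flp_d L6400) L12985
theorem L12989 : sm gg N2695 = N1306 := ded_12_2 (flp_a L6404) (flp_g L6402) L12985
theorem L12991 : sm gc N1305 = N2696 := rfl
theorem L12993 : sm gg N2696 = N1307 := ded_21_2 (flp_c L6408) (flp_g L6402) L12991
theorem L12995 : sm gf N1305 = N2697 := rfl
theorem L12999 : sm gb N1306 = N2698 := rfl
theorem L13001 : sm gd N2698 = N1326 := ded_14_2 (flp_b L6497) (flp_d L6406) L12999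
theorem L13003 : sm gc N1306 = N2699 := rfl
theorem L13005 : sm ga N2699 = N1307 := ded_8_1 (flp_c L6408) L6404 L13003
theorem L13007 : sm gf N1306 = N2700 := rfl
theorem L13009 : sm ga N2700 = N1308 := ded_11_1 (flp_f L6410) L6404 L13007
theorem L13011 : sm gd N2700 = N1328 := ded_23_1 (flp_f L6507) (flp_d L6406) L13007
theorem L13013 : sm gg N2697 = N2700 := ded_29_1 (flp_f L13007) (flp_g L12989) (flp_a L12985) L12995
theorem L13015 : sm gd N1307 = N2701 := rfl
theorem L13017 : sm gf N1307 = N2702 := rfl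
theorem L13019 : sm gc N2702 = N1308 := ded_20_1 (flp_f L6410) L6408 L13017
theorem L13021 : sm gg N1308 = N2703 := rfl
theorem L13029 : sm ga N1309 = N2704 := rfl
theorem L13035 : sm gf N1309 = N2706 := rfl
theorem L13039 : sm gg N1309 = N2707 := rfl
theorem L13046 : sm gd N1310 = N2709 := rfl
theorem L13048 : sm ga N2709 = N1312 := ded_9_1 (flp_d L6433) (flp_a L6422) L13046
theorem L13050 : sm gg N2709 = N2709 := ded_24_2 (flp_d L13046) L6424 L13046
theorem L13051 : sm gc N1312 = N2709 := ded_28_0 (flp_d L13046) (flp_c L6420) L3319 L1721 (flp_d L3319) L6420 L13046 L13048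
theorem L13053 : sm gf N1310 = N2710 := rfl
theorem L13055 : sm ga N2710 = N1313 := ded_11_1 (flp_f L6436) (flp_a L6422) L13053
theorem L13059 : sm gg N2710 = N1313 := ded_29_3 (flp_a L13055) (flp_f L13053) L6424 L13053
theorem L13061 : sm gb N1311 = N2711 := rfl
theorem L13065 : sm ge N1312 = N2712 := rfl
theorem L13067 : sm gg N2712 = N2712 := ded_26_2 (flp_e L13065) L6435 L13065
theorem L13068 : sm gf N1312 = N2713 := rfl
theorem L13070 : sm gd N2713 = N1313 := ded_23_1 (flp_f L6436) L6433 L13068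
theorem L13072 : sm gb N1313 = N2714 := rfl
theorem L13074 : sm ga N1314 = N2715 := rfl
theorem L13076 : sm gd N2715 = N1337 := ded_9_2 (flp_a L6555) (flp_d L6442) L13074
theorem L13078 : sm gf N2715 = N1315 := ded_11_2 (flp_a L6446) (flp_f L6444) L13074
theorem L13080 : sm gc N1314 = N2716 := rfl
theorem L13082 : sm gf N2716 = N1316 := ded_20_2 (flp_c L6450) (flp_f L6444) L13080
theorem L13084 : sm gg N1314 = N2717 := rfl
theorem L13088 : sm gb N1315 = N2718 := rfl
theorem L13090 : sm gd N2718 = N1340 := ded_14_2 (flp_b L6572) (flp_d L6448) L13088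
theorem L13092 : sm gc N1315 = N2719 := rfl
theorem L13094 : sm ga N2719 = N1316 := ded_8_1 (flp_c L6450) L6446 L13092
theorem L13096 : sm gg N1315 = N2720 := rfl
theorem L13098 : sm ga N2720 = N1317 := ded_12_1 (flp_g L6452) L6446 L13096
theorem L13100 : sm gd N2720 = N1342 := ded_24_1 (flp_g L6582) (flp_d L6448) L13096
theorem L13102 : sm gf N2720 = N2717 := ded_29_2 (flp_g L13084) L13074 L13078 L13096
theorem L13104 : sm gd N1316 = N2721 := rfl
theorem L13106 : sm gg N1316 = N2722 := rfl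
theorem L13108 : sm gc N2722 = N1317 := ded_21_1 (flp_g L6452) L6450 L13106
theorem L13110 : sm gf N1317 = N2723 := rfl
theorem L13118 : sm gc N1318 = N2724 := rfl
theorem L13120 : sm ga N2724 = N1319 := ded_8_1 (flp_c L6462) L6458 L13118
theorem L13124 : sm gf N1318 = N2725 := rfl
theorem L13126 : sm ga N2725 = N1320 := ded_11_1 (flp_f L6467) L6458 L13124
theorem L13128 : sm ge N2725 = N1347 := ded_25_1 (flp_f L6612) (flp_e L6460) L13124
theorem L13139 : sm gf N1319 = N2728 := rfl
theorem L13143 : sm ge N2728 = N1350 := ded_25_1 (flp_f L6623) (flp_e L6464) L13139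
theorem L13145 : sm gg N1319 = N2729 := rfl
theorem L13157 : sm gb N1321 = N2731 := rfl
theorem L13161 : sm gg N2731 = N1322 := ded_17_2 (flp_b L6476) (flp_g L3337) L3333 L6472 L13157
theorem L13163 : sm gf N1321 = N2732 := rfl
theorem L13167 : sm ge N2732 = N1354 := ded_25_1 (flp_f L6639) (flp_e L6474) L13163
theorem L13169 : sm gg N2732 = N2725 := ded_29_3 L13126 (flp_f L6467) L6472 L13163
theorem L13180 : sm gf N1322 = N2735 := rfl
theorem L13184 : sm gb N2735 = N1325 := ded_16_1 (flp_f L6493) (flp_b L3346) L3344 L6476 L13180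
theorem L13186 : sm gb N1323 = N2736 := rfl
theorem L13188 : sm ge N2736 = N1358 := ded_15_2 (flp_b L6654) (flp_e L6482) L13186
theorem L13190 : sm gc N1323 = N2737 := rfl
theorem L13192 : sm ga N2737 = N1324 := ded_8_1 (flp_c L6486) L6480 L13190
theorem L13194 : sm ge N2737 = N1359 := ded_19_2 (flp_c L6656) (flp_e L6482) L13190
theorem L13196 : sm gg N2737 = N1327 := ded_21_2 (flp_c L6501) (flp_g L6484) L13190
theorem L13198 : sm gd N1324 = N2738 := rfl
theorem L13200 : sm gb N2738 = N2738 := ded_14_1 (flp_d L13198) L6492 L13198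
theorem L13201 : sm gg N2738 = N1329 := ded_24_2 (flp_d L6515) (flp_g L6490) L13198
theorem L13203 : sm gf N1324 = N2739 := rfl
theorem L13209 : sm ga N1326 = N2740 := rfl
theorem L13211 : sm ge N2740 = N1362 := ded_10_2 (flp_a L6671) (flp_e L6499) L13209
theorem L13213 : sm gc N1326 = N2741 := rfl
theorem L13215 : sm ge N2741 = N1363 := ded_19_2 (flp_c L6673) (flp_e L6499) L13213
theorem L13217 : sm gf N1326 = N2742 := rfl
theorem L13219 : sm ge N2742 = N1364 := ded_25_1 (flp_f L6675) (flp_e L6499) L13217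
theorem L13221 : sm gg N2269 = N2742 := ded_26_0 L13219 (flp_g L10437) (flp_e L10970)
theorem L13223 : sm gg N1326 = N2743 := rfl
theorem L13225 : sm ge N2743 = N1365 := ded_26_1 (flp_g L6677) (flp_e L6499) L13223
theorem L13227 : sm gb N1327 = N2744 := rfl
theorem L13229 : sm ge N2744 = N1366 := ded_15_2 (flp_b L6679) (flp_e L6505) L13227
theorem L13231 : sm gd N1327 = N2745 := rfl
theorem L13233 : sm ga N2745 = N1329 := ded_9_1 (flp_d L6515) (flp_a L6503) L13231
theorem L13235 : sm gf N1327 = N2746 := rfl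
theorem L13237 : sm ga N2746 = N1330 := ded_11_1 (flp_f L6519) (flp_a L6503) L13235
theorem L13241 : sm ge N2746 = N1368 := ded_25_1 (flp_f L6685) (flp_e L6505) L13235
theorem L13243 : sm gg N2739 = N2746 := ded_29_1 (flp_f L13235) (flp_g L13196) L13192 L13203
theorem L13245 : sm gb N1328 = N2747 := rfl
theorem L13247 : sm ge N2747 = N1369 := ded_15_2 (flp_b L6693) (flp_e L6511) L13245
theorem L13249 : sm ga N2135 = N2747 := ded_10_3 L13247 (flp_a L10433) (flp_e L10305)
theorem L13251 : sm gg N2133 = N2747 := ded_26_0 L13247 (flp_g L10431) (flp_e L10297)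
theorem L13253 : sm gc N1329 = N2748 := rfl
theorem L13255 : sm ge N1329 = N2749 := rfl
theorem L13257 : sm gb N2749 = N1410 := ded_15_1 (flp_e L6862) (flp_b L6517) L13255
theorem L13259 : sm gd N2749 = N1371 := ded_22_1 (flp_e L6697) (flp_d L3438) (flp_e L3358) L6515 L13255
theorem L13261 : sm gf N1329 = N2750 := rfl
theorem L13265 : sm gb N1330 = N2751 := rfl
theorem L13267 : sm ge N2751 = N1373 := ded_15_2 (flp_b L6705) (flp_e L6523) L13265
theorem L13269 : sm gc N2751 = N2273 := ded_13_2 (flp_b L10984) L5494 (flp_b L3366) (flp_c L6521) L13265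
theorem L13271 : sm gf N2751 = N1412 := ded_16_2 (flp_b L6871) (flp_f L3520) (flp_b L3360) L6519 L13265
theorem L13273 : sm gg N1330 = N2752 := rfl
theorem L13275 : sm ga N2752 = N2739 := ded_12_1 L13243 L13237 L13273
theorem L13277 : sm gc N2752 = N1331 := ded_21_1 (flp_g L6525) (flp_c L6521) L13273
theorem L13281 : sm gf N2737 = N2752 := ded_29_0 (flp_g L13273) (flp_f L6519) (flp_g L6490) (flp_a L13192)
theorem L13283 : sm gb N1331 = N2753 := rfl
theorem L13287 : sm gg N2753 = N2275 := ded_17_2 (flp_b L11000) (flp_g L5498) (flp_b L3366) L6525 L13283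
theorem L13289 : sm gc N1332 = N2754 := rfl
theorem L13291 : sm ga N2754 = N1333 := ded_8_1 (flp_c L6537) L6533 L13289
theorem L13295 : sm gf N1332 = N2755 := rfl
theorem L13297 : sm ga N2755 = N1334 := ded_11_1 (flp_f L6542) L6533 L13295
theorem L13301 : sm gg N1332 = N2756 := rfl
theorem L13305 : sm ge N2756 = N1378 := ded_26_1 (flp_g L6731) (flp_e L6535) L13301
theorem L13307 : sm gd N1333 = N2757 := rfl
theorem L13310 : sm gf N1333 = N2758 := rfl
theorem L13314 : sm ge N2758 = N1380 := ded_25_1 (flp_f L6738) (flp_e L6539) L13310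
theorem L13316 : sm gg N1333 = N2759 := rfl
theorem L13320 : sm ge N2759 = N1381 := ded_26_1 (flp_g L6742) (flp_e L6539) L13316
theorem L13322 : sm gb N1334 = N2760 := rfl
theorem L13326 : sm gf N2760 = N1336 := ded_16_2 (flp_b L6551) (flp_f L3372) L3368 L6542 L13322
theorem L13334 : sm gf N1335 = N2762 := rfl
theorem L13338 : sm ge N2762 = N1384 := ded_25_1 (flp_f L6754) (flp_e L6548) L13334
theorem L13340 : sm gg N2762 = N2755 := ded_29_3 L13297 (flp_f L6542) L6546 L13334
theorem L13342 : sm ga N1336 = N2763 := rfl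
theorem L13344 : sm ge N2763 = N1385 := ded_10_2 (flp_a L6760) (flp_e L6553) L13342
theorem L13351 : sm gg N1336 = N2765 := rfl
theorem L13355 : sm gb N2765 = N1339 := ded_17_1 (flp_g L6568) (flp_b L3381) (flp_g L3379) L6551 L13351
theorem L13357 : sm gb N1337 = N2766 := rfl
theorem L13359 : sm ge N2766 = N1388 := ded_15_2 (flp_b L6769) (flp_e L6557) L13357
theorem L13361 : sm gc N1337 = N2767 := rfl
theorem L13363 : sm ga N2767 = N1338 := ded_8_1 (flp_c L6561) L6555 L13361
theorem L13367 : sm gf N2767 = N1341 := ded_20_2 (flp_c L6576) (flp_f L6559) L13361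
theorem L13369 : sm gd N1338 = N2768 := rfl
theorem L13371 : sm gb N2768 = N2768 := ded_14_1 (flp_d L13369) L6567 L13369
theorem L13372 : sm gf N2768 = N1343 := ded_23_2 (flp_d L6590) (flp_f L6565) L13369
theorem L13374 : sm gg N1338 = N2769 := rfl
theorem L13376 : sm gc N2769 = N1339 := ded_21_1 (flp_g L6568) L6561 L13374
theorem L13380 : sm ga N1340 = N2770 := rfl
theorem L13382 : sm ge N2770 = N1392 := ded_10_2 (flp_a L6786) (flp_e L6574) L13380
theorem L13384 : sm gb N2770 = N2740 := ded_7_2 (flp_a L13209) (flp_b L6497) (flp_a L3352) (flp_b L1715) (flp_a L853) L1730 L3387 L6572 L13380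
theorem L13386 : sm gc N1340 = N2771 := rfl
theorem L13388 : sm ge N2771 = N1393 := ded_19_2 (flp_c L6790) (flp_e L6574) L13386
theorem L13390 : sm gf N1340 = N2772 := rfl
theorem L13392 : sm ge N2772 = N1394 := ded_25_1 (flp_f L6792) (flp_e L6574) L13390
theorem L13394 : sm gg N1340 = N2773 := rfl
theorem L13396 : sm ge N2773 = N1395 := ded_26_1 (flp_g L6794) (flp_e L6574) L13394
theorem L13398 : sm gf N2255 = N2773 := ded_25_0 L13396 L10365 (flp_e L10898)
theorem L13400 : sm gb N1341 = N2774 := rfl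
theorem L13402 : sm ge N2774 = N1396 := ded_15_2 (flp_b L6796) (flp_e L6580) L13400
theorem L13404 : sm gd N1341 = N2775 := rfl
theorem L13406 : sm ga N2775 = N1343 := ded_9_1 (flp_d L6590) (flp_a L6578) L13404
theorem L13408 : sm gg N1341 = N2776 := rfl
theorem L13410 : sm ga N2776 = N1344 := ded_12_1 (flp_g L6594) (flp_a L6578) L13408
theorem L13412 : sm gc N2776 = N1342 := ded_21_1 (flp_g L6582) L6576 L13408
theorem L13416 : sm gf N2776 = N2769 := ded_29_2 (flp_g L13374) (flp_a L13363) L13367 L13408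
theorem L13418 : sm gb N1342 = N2777 := rfl
theorem L13420 : sm ge N2777 = N1399 := ded_15_2 (flp_b L6810) (flp_e L6586) L13418
theorem L13422 : sm ga N2127 = N2777 := ded_10_3 L13420 L10361 (flp_e L10263)
theorem L13424 : sm gf N2125 = N2777 := ded_25_0 L13420 L10359 (flp_e L10255)
theorem L13426 : sm gc N1343 = N2778 := rfl
theorem L13428 : sm ge N1343 = N2779 := rfl
theorem L13430 : sm gb N2779 = N1417 := ded_15_1 (flp_e L6899) (flp_b L6592) L13428
theorem L13432 : sm gd N2779 = N1401 := ded_22_1 (flp_e L6814) (flp_d L3487) (flp_e L3393) L6590 L13428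
theorem L13434 : sm gg N1343 = N2780 := rfl
theorem L13436 : sm gd N2780 = N1344 := ded_24_1 (flp_g L6594) L6590 L13434
theorem L13438 : sm gb N1344 = N2781 := rfl
theorem L13440 : sm ge N2781 = N1403 := ded_15_2 (flp_b L6822) (flp_e L6598) L13438
theorem L13442 : sm gc N2781 = N2259 := ded_13_2 (flp_b L10912) L5458 (flp_b L3401) (flp_c L6596) L13438
theorem L13444 : sm gg N2781 = N1419 := ded_17_2 (flp_b L6908) (flp_g L3547) (flp_b L3395) L6594 L13438
theorem L13446 : sm gf N1344 = N2782 := rfl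
theorem L13448 : sm ga N2782 = N2769 := ded_11_1 (flp_f L13416) L13410 L13446
theorem L13452 : sm ge N2782 = N1404 := ded_25_1 (flp_f L6828) (flp_e L6598) L13446
theorem L13464 : sm gd N1346 = N2785 := rfl
theorem L13466 : sm ga N2785 = N1349 := ded_9_1 (flp_d L6620) (flp_a L6610) L13464
theorem L13480 : sm gc N1349 = N2788 := rfl
theorem L13482 : sm ge N1349 = N2789 := rfl
theorem L13485 : sm gf N1349 = N2790 := rfl
theorem L13489 : sm gg N1349 = N2791 := rfl
theorem L13491 : sm gd N2791 = N1351 := ded_24_1 (flp_g L6627) L6620 L13489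
theorem L13506 : sm gf N1351 = N2795 := rfl
theorem L13514 : sm gb N1352 = N2796 := rfl
theorem L13516 : sm gf N2796 = N2151 := ded_16_2 L11094 L11186 L11192 L6633 L13514
theorem L13519 : sm ga N2153 = N2796 := ded_11_3 L13516 (flp_a L10387) L10391
theorem L13521 : sm ga N1353 = N2797 := rfl
theorem L13523 : sm gg N2797 = N1355 := ded_12_2 (flp_a L6645) (flp_g L6637) L13521
theorem L13525 : sm gf N2797 = N2164 := ded_29_0 L10441 (flp_f L6650) (flp_g L6637) L13521
theorem L13527 : sm gb N2067 = N1355 := ded_31_14 (flp_g L13523) L13525 (flp_b L10439) L10431 (flp_f L10429) (flp_b L10435) (flp_g L10437) (flp_f L11176) (flp_b L11174) L11182 (flp_f L11184) (flp_b L9941) (flp_g L9805) L9963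
theorem L13539 : sm gb N1354 = N2800 := rfl
theorem L13541 : sm ga N2800 = N1387 := ded_7_1 L6767 (flp_a L3497) L6836 (flp_a L11282) L11284 L13519 (flp_b L13514) (flp_a L6641) L13539
theorem L13543 : sm gg N1385 = N2800 := ded_12_0 L13541 (flp_g L6765) L6760
theorem L13545 : sm gb N2061 = N1385 := ded_17_5 L13543 (flp_b L13539) L6643 (flp_b L10320) (flp_g L9939)
theorem L13551 : sm gf N1355 = N2802 := rfl
theorem L13553 : sm ga N2802 = N1357 := ded_11_1 (flp_f L6650) L6645 L13551
theorem L13557 : sm gb N2802 = N1383 := ded_16_1 (flp_f L6752) L11084 L9963 L13527 L13551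
theorem L13566 : sm ga N1358 = N2805 := rfl
theorem L13568 : sm gb N2805 = N2032 := ded_7_2 (flp_a L9961) L13527 (flp_a L6645) (flp_b L3413) L1738 L1743 L3415 L6654 L13566
theorem L13570 : sm gf N2029 = N2805 := ded_16_0 L13568 (flp_f L9811) (flp_b L4975) (flp_f L4973) L9801
theorem L13572 : sm gc N1358 = N2806 := rfl
theorem L13574 : sm gf N1358 = N2807 := rfl
theorem L13576 : sm ga N2807 = N2029 := ded_11_1 L13570 (flp_a L13566) L13574
theorem L13578 : sm gg N1388 = N2807 := ded_31_0 (flp_f L13574) (flp_b L6654) L3417 L3432 L6693 (flp_g L10431) (flp_f L10421) (flp_b L10459) L10349 (flp_f L10359) (flp_b L6810) (flp_g L3481) (flp_f L3466) L6769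
theorem L13580 : sm gg N1358 = N2808 := rfl
theorem L13582 : sm gb N2808 = N1365 := ded_17_1 (flp_g L6677) (flp_b L3426) (flp_g L3417) L6654 L13580
theorem L13584 : sm gb N1359 = N2809 := rfl
theorem L13586 : sm gd N1359 = N2810 := rfl
theorem L13588 : sm ga N2810 = N1360 := ded_9_1 (flp_d L6662) (flp_a L6658) L13586
theorem L13590 : sm gg N2810 = N1367 := ded_24_2 (flp_d L6681) (flp_g L6660) L13586
theorem L13592 : sm gc N1360 = N2811 := rfl
theorem L13594 : sm gg N2811 = N1370 := ded_21_2 (flp_c L6695) (flp_g L6665) L13592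
theorem L13596 : sm ge N1360 = N2812 := rfl
theorem L13598 : sm gb N2812 = N2812 := ded_15_1 (flp_e L13596) L6664 L13596
theorem L13599 : sm gg N2812 = N1371 := ded_26_2 (flp_e L6697) (flp_g L6665) L13596
theorem L13601 : sm gf N1360 = N2813 := rfl
theorem L13603 : sm gd N2813 = N1361 := ded_23_1 (flp_f L6667) L6662 L13601
theorem L13608 : sm gc N1362 = N2815 := rfl
theorem L13610 : sm ga N2815 = N1363 := ded_8_1 (flp_c L6673) L6671 L13608
theorem L13612 : sm gf N1362 = N2816 := rfl
theorem L13620 : sm gb N1363 = N2817 := rfl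
theorem L13622 : sm gc N2817 = N1366 := ded_13_2 (flp_b L6679) (flp_c L3428) L3426 L6673 L13620
theorem L13624 : sm gd N1363 = N2818 := rfl
theorem L13626 : sm gf N1363 = N2819 := rfl
theorem L13628 : sm gc N2819 = N1364 := ded_20_1 (flp_f L6675) L6673 L13626
theorem L13630 : sm gg N2323 = N2819 := ded_21_0 L13628 (flp_g L10437) L11230
theorem L13632 : sm gg N1363 = N2820 := rfl
theorem L13634 : sm gc N2820 = N1365 := ded_21_1 (flp_g L6677) L6673 L13632
theorem L13636 : sm gb N2820 = N1942 := ded_30_2 L9379 (flp_f L4737) (flp_c L2440) (flp_b L1224) (flp_a L1043) L1222 L1220 L1272 (flp_a L1276) (flp_f L723) L721 (flp_b L1464) (flp_a L2869) L5573 L5577 L5581 L11224 L11226 (flp_c L13634)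
theorem L13638 : sm gc N1943 = N2808 := ded_13_4 L13582 (flp_c L13634) L13636 L9381 L9385
theorem L13640 : sm gg N2806 = N1943 := ded_21_0 L13638 (flp_g L13580) L13572
theorem L13642 : sm ga N1366 = N2821 := rfl
theorem L13644 : sm gd N1366 = N2822 := rfl
theorem L13646 : sm gb N2822 = N1367 := ded_14_1 (flp_d L6681) L6679 L13644
theorem L13648 : sm gf N1366 = N2823 := rfl
theorem L13650 : sm gg N1366 = N2824 := rfl
theorem L13652 : sm gc N1367 = N2825 := rfl
theorem L13654 : sm ga N2825 = N1370 := ded_8_1 (flp_c L6695) (flp_a L6683) L13652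
theorem L13656 : sm gd N2601 = N2825 := ded_28_1 (flp_c L13652) (flp_d L6681) (flp_c L3428) (flp_d L3218) L6203 L12571 L12573 L12591
theorem L13658 : sm ge N1367 = N2826 := rfl
theorem L13660 : sm ga N2826 = N1371 := ded_10_1 (flp_e L6697) (flp_a L6683) L13658
theorem L13670 : sm gb N1368 = N2828 := rfl
theorem L13672 : sm gc N1369 = N2829 := rfl
theorem L13674 : sm ga N2829 = N2167 := ded_8_1 L10451 L10433 L13672
theorem L13678 : sm gb N1370 = N2830 := rfl
theorem L13680 : sm gc N2830 = N1427 := ded_13_2 (flp_b L6940) (flp_c L3568) (flp_b L3440) L6695 L13678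
theorem L13682 : sm gd N1370 = N2831 := rfl
theorem L13684 : sm ga N2831 = N2601 := ded_9_1 L13656 L13654 L13682
theorem L13688 : sm ge N1370 = N2832 := rfl
theorem L13690 : sm gc N2832 = N1371 := ded_19_1 (flp_e L6697) L6695 L13688
theorem L13692 : sm gf N1370 = N2833 := rfl
theorem L13696 : sm gf N1371 = N2834 := rfl
theorem L13698 : sm ge N2834 = N1372 := ded_25_1 (flp_f L6701) L6697 L13696
theorem L13700 : sm gb N1372 = N2835 := rfl
theorem L13702 : sm gd N2835 = N1373 := ded_14_2 (flp_b L6705) (flp_d L6703) L13700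
theorem L13704 : sm gf N2835 = N1431 := ded_16_2 (flp_b L6955) (flp_f L3574) (flp_b L3440) L6701 L13700
theorem L13714 : sm ga N1373 = N2837 := rfl
theorem L13716 : sm gc N2837 = N2331 := ded_8_2 (flp_a L11268) (flp_c L6707) L13714
theorem L13718 : sm gf N2837 = N1432 := ded_11_2 (flp_a L6959) (flp_f L6709) L13714
theorem L13720 : sm gg N1373 = N2838 := rfl
theorem L13722 : sm gc N2838 = N2332 := ded_21_1 (flp_g L11272) (flp_c L6707) L13720
theorem L13726 : sm gc N1375 = N2840 := rfl
theorem L13730 : sm gf N1375 = N2841 := rfl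
theorem L13734 : sm gb N2841 = N2807 := ded_16_1 (flp_f L13574) (flp_b L6654) L3450 L6719 L13730
theorem L13736 : sm gb N1376 = N2842 := rfl
theorem L13738 : sm gd N1376 = N2843 := rfl
theorem L13740 : sm ga N2843 = N1379 := ded_9_1 (flp_d L6735) (flp_a L6725) L13738
theorem L13742 : sm gf N1376 = N2844 := rfl
theorem L13744 : sm ga N2844 = N1380 := ded_11_1 (flp_f L6738) (flp_a L6725) L13742
theorem L13746 : sm gc N2844 = N1377 := ded_20_1 (flp_f L6727) L6723 L13742
theorem L13748 : sm gg N1376 = N2845 := rfl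
theorem L13750 : sm ga N2845 = N1381 := ded_12_1 (flp_g L6742) (flp_a L6725) L13748
theorem L13752 : sm gc N2845 = N1378 := ded_21_1 (flp_g L6731) L6723 L13748
theorem L13756 : sm ge N1379 = N2847 := rfl
theorem L13759 : sm gf N1379 = N2848 := rfl
theorem L13767 : sm gb N1380 = N2850 := rfl
theorem L13780 : sm gf N1381 = N2853 := rfl
theorem L13784 : sm gc N2853 = N1384 := ded_20_1 (flp_f L6754) (flp_c L6744) L13780
theorem L13786 : sm gg N2853 = N2844 := ded_29_3 L13744 (flp_f L6738) L6742 L13780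
theorem L13788 : sm ga N1382 = N2854 := rfl
theorem L13790 : sm gf N2854 = N1385 := ded_11_2 (flp_a L6760) (flp_f L6748) L13788
theorem L13796 : sm gc N1382 = N2855 := rfl
theorem L13798 : sm gf N2855 = N1386 := ded_20_2 (flp_c L6762) (flp_f L6748) L13796
theorem L13800 : sm gg N1382 = N2856 := rfl
theorem L13804 : sm gf N2800 = N2856 := ded_29_0 (flp_g L13800) L6748 L6765 (flp_a L13541)
theorem L13808 : sm gb N1384 = N2857 := rfl
theorem L13813 : sm ga N2857 = N2137 := ded_7_1 (flp_b L11148) L11146 (flp_b L6719) L3448 (flp_b L6652) (flp_a L13553) L13557 (flp_a L6756) L13808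
theorem L13819 : sm gc N1385 = N2858 := rfl
theorem L13826 : sm gg N1386 = N2860 := rfl
theorem L13828 : sm gc N2860 = N1387 := ded_21_1 (flp_g L6765) L6762 L13826
theorem L13830 : sm ga N1388 = N2861 := rfl
theorem L13832 : sm gg N2861 = N2029 := ded_12_2 (flp_a L13576) (flp_g L13578) L13830
theorem L13834 : sm gf N2861 = N2808 := ded_29_0 (flp_g L13580) L13574 (flp_g L13578) L13830
theorem L13836 : sm gb N2861 = N2028 := ded_7_2 (flp_a L9937) L13545 (flp_a L6760) (flp_b L3462) L1761 L1766 L3464 L6769 L13830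
theorem L13838 : sm gc N1388 = N2862 := rfl
theorem L13840 : sm gf N1388 = N2863 := rfl
theorem L13842 : sm ga N2863 = N2808 := ded_11_1 (flp_f L13834) (flp_a L13830) L13840
theorem L13844 : sm gg N2863 = N2805 := ded_29_3 (flp_a L13566) L13574 (flp_g L13578) L13840
theorem L13846 : sm gb N2863 = N1394 := ded_16_1 (flp_f L6792) (flp_b L3475) (flp_f L3466) L6769 L13840
theorem L13848 : sm gb N1389 = N2864 := rfl
theorem L13850 : sm gd N1389 = N2865 := rfl
theorem L13852 : sm ga N2865 = N1390 := ded_9_1 (flp_d L6777) (flp_a L6773) L13850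
theorem L13854 : sm gf N2865 = N1397 := ded_23_2 (flp_d L6798) (flp_f L6775) L13850
theorem L13856 : sm gc N1390 = N2866 := rfl
theorem L13858 : sm gf N2866 = N1400 := ded_20_2 (flp_c L6812) (flp_f L6780) L13856
theorem L13860 : sm ge N1390 = N2867 := rfl
theorem L13862 : sm gb N2867 = N2867 := ded_15_1 (flp_e L13860) L6779 L13860
theorem L13863 : sm gf N2867 = N1401 := ded_25_2 (flp_e L6814) (flp_f L6780) L13860
theorem L13865 : sm gg N1390 = N2868 := rfl
theorem L13867 : sm gd N2868 = N1391 := ded_24_1 (flp_g L6782) L6777 L13865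
theorem L13869 : sm gb N1391 = N2869 := rfl
theorem L13871 : sm gg N2869 = N2869 := ded_17_2 (flp_b L13869) (flp_g L6782) L3472 L6782 L13869
theorem L13872 : sm gc N1392 = N2870 := rfl
theorem L13874 : sm ga N2870 = N1393 := ded_8_1 (flp_c L6790) L6786 L13872
theorem L13876 : sm gg N1392 = N2871 := rfl
theorem L13884 : sm gb N1393 = N2872 := rfl
theorem L13886 : sm gc N2872 = N1396 := ded_13_2 (flp_b L6796) (flp_c L3477) L3475 L6790 L13884
theorem L13888 : sm gd N1393 = N2873 := rfl
theorem L13890 : sm gf N1393 = N2874 := rfl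
theorem L13892 : sm gc N2874 = N1394 := ded_20_1 (flp_f L6792) L6790 L13890
theorem L13894 : sm gg N1393 = N2875 := rfl
theorem L13896 : sm gc N2875 = N1395 := ded_21_1 (flp_g L6794) L6790 L13894
theorem L13898 : sm gf N2293 = N2875 := ded_20_0 L13896 L10365 L11099
theorem L13900 : sm ga N1396 = N2876 := rfl
theorem L13902 : sm gd N1396 = N2877 := rfl
theorem L13904 : sm gb N2877 = N1397 := ded_14_1 (flp_d L6798) L6796 L13902
theorem L13906 : sm gf N1396 = N2878 := rfl
theorem L13908 : sm gg N1396 = N2879 := rfl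
theorem L13910 : sm gc N1397 = N2880 := rfl
theorem L13912 : sm ga N2880 = N1400 := ded_8_1 (flp_c L6812) (flp_a L6800) L13910
theorem L13916 : sm ge N1397 = N2881 := rfl
theorem L13918 : sm ga N2881 = N1401 := ded_10_1 (flp_e L6814) (flp_a L6800) L13916
theorem L13920 : sm gg N1397 = N2882 := rfl
theorem L13922 : sm ga N2882 = N1402 := ded_12_1 (flp_g L6818) (flp_a L6800) L13920
theorem L13924 : sm gd N2882 = N1398 := ded_24_1 (flp_g L6802) L6798 L13920
theorem L13926 : sm gf N2882 = N2868 := ded_29_2 (flp_g L13865) (flp_a L13852) L13854 L13920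
theorem L13930 : sm gc N1399 = N2884 := rfl
theorem L13932 : sm ga N2884 = N2149 := ded_8_1 L10379 (flp_a L10361) L13930
theorem L13936 : sm gb N1400 = N2885 := rfl
theorem L13938 : sm gc N2885 = N1441 := ded_13_2 (flp_b L6995) (flp_c L3597) (flp_b L3489) L6812 L13936
theorem L13940 : sm gd N1400 = N2886 := rfl
theorem L13944 : sm gc N2641 = N2886 := ded_28_0 (flp_d L13940) (flp_c L6812) (flp_d L3487) (flp_c L1772) (flp_d L1667) L3262 L6304 (flp_a L12767)
theorem L13946 : sm ge N1400 = N2887 := rfl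
theorem L13948 : sm gc N2887 = N1401 := ded_19_1 (flp_e L6814) L6812 L13946
theorem L13950 : sm gg N1400 = N2888 := rfl
theorem L13954 : sm gg N1401 = N2889 := rfl
theorem L13956 : sm ge N2889 = N1402 := ded_26_1 (flp_g L6818) L6814 L13954
theorem L13958 : sm gb N1402 = N2890 := rfl
theorem L13960 : sm gd N2890 = N1403 := ded_14_2 (flp_b L6822) (flp_d L6820) L13958
theorem L13962 : sm gg N2890 = N1445 := ded_17_2 (flp_b L7010) (flp_g L3603) (flp_b L3489) L6818 L13958
theorem L13964 : sm gf N1402 = N2891 := rfl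
theorem L13968 : sm gd N2891 = N1404 := ded_23_1 (flp_f L6828) (flp_d L6820) L13964
theorem L13972 : sm ga N1403 = N2892 := rfl
theorem L13974 : sm gc N2892 = N2300 := ded_8_2 (flp_a L11133) (flp_c L6824) L13972
theorem L13976 : sm gg N2892 = N1446 := ded_12_2 (flp_a L7014) (flp_g L6826) L13972
theorem L13978 : sm gf N1403 = N2893 := rfl
theorem L13980 : sm gc N2893 = N2301 := ded_20_1 (flp_f L11137) (flp_c L6824) L13978
theorem L13982 : sm gb N1404 = N2894 := rfl
theorem L13988 : sm ga N1406 = N2896 := rfl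
theorem L13990 : sm ge N2896 = N1420 := ded_10_2 (flp_a L6914) (flp_e L6842) L13988
theorem L13992 : sm gd N1406 = N2897 := rfl
theorem L13994 : sm gb N2897 = N1407 := ded_14_1 (flp_d L6844) L6840 L13992
theorem L13996 : sm gf N1406 = N2898 := rfl
theorem L13998 : sm ge N2898 = N1422 := ded_25_1 (flp_f L6920) (flp_e L6842) L13996
theorem L14000 : sm gg N1406 = N2899 := rfl
theorem L14002 : sm ge N2899 = N1423 := ded_26_1 (flp_g L6922) (flp_e L6842) L14000
theorem L14005 : sm gc N1407 = N2900 := rfl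
theorem L14007 : sm ga N2900 = N1409 := ded_8_1 (flp_c L6859) (flp_a L6846) L14005
theorem L14009 : sm gg N2900 = N2900 := ded_21_2 (flp_c L14005) L6848 L14005
theorem L14010 : sm gd N2900 = N1409 := ded_28_7 (flp_a L14007) (flp_c L14005) (flp_d L6844) (flp_c L3501) L1782 L3501 L6844 L14005
theorem L14012 : sm ge N1407 = N2901 := rfl
theorem L14016 : sm gg N2901 = N2901 := ded_26_2 (flp_e L14012) L6848 L14012
theorem L14019 : sm gf N1407 = N2902 := rfl
theorem L14021 : sm ga N2902 = N1411 := ded_11_1 (flp_f L6867) (flp_a L6846) L14019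
theorem L14023 : sm gd N2902 = N1408 := ded_23_1 (flp_f L6849) L6844 L14019
theorem L14025 : sm gg N2902 = N1411 := ded_29_3 (flp_a L14021) (flp_f L14019) L6848 L14019
theorem L14027 : sm gb N1408 = N2903 := rfl
theorem L14029 : sm ge N2903 = N1426 := ded_15_2 (flp_b L6938) (flp_e L6855) L14027
theorem L14031 : sm gb N1409 = N2904 := rfl
theorem L14033 : sm ge N1409 = N2905 := rfl
theorem L14035 : sm gc N2905 = N1410 := ded_19_1 (flp_e L6862) L6859 L14033
theorem L14038 : sm gf N1409 = N2906 := rfl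
theorem L14040 : sm gc N2906 = N1411 := ded_20_1 (flp_f L6867) L6859 L14038
theorem L14042 : sm gf N1410 = N2907 := rfl
theorem L14044 : sm gd N2907 = N1430 := ded_23_1 (flp_f L6951) (flp_d L6865) L14042
theorem L14046 : sm ge N2907 = N1411 := ded_25_1 (flp_f L6867) L6862 L14042
theorem L14048 : sm gb N1411 = N2908 := rfl
theorem L14050 : sm gd N2908 = N1412 := ded_14_2 (flp_b L6871) (flp_d L6869) L14048
theorem L14052 : sm ga N1412 = N2909 := rfl
theorem L14054 : sm gc N2909 = N2367 := ded_8_2 (flp_a L11436) (flp_c L6875) L14052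
theorem L14056 : sm ge N2909 = N1432 := ded_10_2 (flp_a L6959) (flp_e L6873) L14052
theorem L14058 : sm gg N1412 = N2910 := rfl
theorem L14060 : sm gc N2910 = N2368 := ded_21_1 (flp_g L11440) (flp_c L6875) L14058
theorem L14062 : sm ge N2910 = N1433 := ded_26_1 (flp_g L6963) (flp_e L6873) L14058
theorem L14064 : sm ga N1413 = N2911 := rfl
theorem L14066 : sm ge N2911 = N1434 := ded_10_2 (flp_a L6967) (flp_e L6879) L14064
theorem L14068 : sm gd N1413 = N2912 := rfl
theorem L14070 : sm gb N2912 = N1414 := ded_14_1 (flp_d L6881) L6877 L14068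
theorem L14077 : sm gg N1413 = N2914 := rfl
theorem L14079 : sm ge N2914 = N1437 := ded_26_1 (flp_g L6976) (flp_e L6879) L14077
theorem L14081 : sm gc N1414 = N2915 := rfl
theorem L14083 : sm ga N2915 = N1416 := ded_8_1 (flp_c L6896) (flp_a L6883) L14081
theorem L14085 : sm gf N2915 = N2915 := ded_20_2 (flp_c L14081) L6885 L14081
theorem L14086 : sm gd N2915 = N1416 := ded_28_7 (flp_a L14083) (flp_c L14081) (flp_d L6881) (flp_c L3526) L1800 L3526 L6881 L14081
theorem L14088 : sm ge N1414 = N2916 := rfl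
theorem L14090 : sm ga N2916 = N1417 := ded_10_1 (flp_e L6899) (flp_a L6883) L14088
theorem L14092 : sm gf N2916 = N2916 := ded_25_2 (flp_e L14088) L6885 L14088
theorem L14095 : sm gg N1414 = N2917 := rfl
theorem L14097 : sm ga N2917 = N1418 := ded_12_1 (flp_g L6904) (flp_a L6883) L14095
theorem L14099 : sm gd N2917 = N1415 := ded_24_1 (flp_g L6886) L6881 L14095
theorem L14101 : sm gf N1418 = N2917 := ded_29_0 (flp_g L14095) L6885 L14095 L14097
theorem L14103 : sm gb N1415 = N2918 := rfl
theorem L14105 : sm ge N2918 = N1440 := ded_15_2 (flp_b L6991) (flp_e L6892) L14103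
theorem L14107 : sm gc N2918 = N2903 := ded_13_2 (flp_b L14027) L6853 (flp_b L3542) (flp_c L6890) L14103
theorem L14109 : sm gb N1416 = N2919 := rfl
theorem L14111 : sm ge N1416 = N2920 := rfl
theorem L14113 : sm gc N2920 = N1417 := ded_19_1 (flp_e L6899) L6896 L14111
theorem L14116 : sm gg N1416 = N2921 := rfl
theorem L14118 : sm gc N2921 = N1418 := ded_21_1 (flp_g L6904) L6896 L14116
theorem L14120 : sm gg N1417 = N2922 := rfl
theorem L14122 : sm gd N2922 = N1444 := ded_24_1 (flp_g L7006) (flp_d L6902) L14120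
theorem L14124 : sm ge N2922 = N1418 := ded_26_1 (flp_g L6904) L6899 L14120
theorem L14126 : sm gb N1418 = N2923 := rfl
theorem L14128 : sm gd N2923 = N1419 := ded_14_2 (flp_b L6908) (flp_d L6906) L14126
theorem L14130 : sm ga N1419 = N2924 := rfl
theorem L14132 : sm gc N2924 = N2350 := ded_8_2 (flp_a L11354) (flp_c L6912) L14130
theorem L14134 : sm ge N2924 = N1446 := ded_10_2 (flp_a L7014) (flp_e L6910) L14130
theorem L14136 : sm gf N1419 = N2925 := rfl
theorem L14138 : sm gc N2925 = N2351 := ded_20_1 (flp_f L11358) (flp_c L6912) L14136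
theorem L14140 : sm ge N2925 = N1447 := ded_25_1 (flp_f L7018) (flp_e L6910) L14136
theorem L14142 : sm gb N1420 = N2926 := rfl
theorem L14144 : sm gd N1420 = N2927 := rfl
theorem L14146 : sm ga N2927 = N1421 := ded_9_1 (flp_d L6916) L6914 L14144
theorem L14148 : sm gf N1420 = N2928 := rfl
theorem L14150 : sm ga N2928 = N1422 := ded_11_1 (flp_f L6920) L6914 L14148
theorem L14152 : sm gg N1420 = N2929 := rfl
theorem L14154 : sm ga N2929 = N1423 := ded_12_1 (flp_g L6922) L6914 L14152
theorem L14156 : sm gc N1421 = N2930 := rfl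
theorem L14158 : sm ge N1421 = N2931 := rfl
theorem L14160 : sm gb N2931 = N1424 := ded_15_1 (flp_e L6925) (flp_b L6918) L14158
theorem L14162 : sm gf N1421 = N2932 := rfl
theorem L14164 : sm gd N2932 = N1422 := ded_23_1 (flp_f L6920) L6916 L14162
theorem L14166 : sm gg N1421 = N2933 := rfl
theorem L14171 : sm gb N1422 = N2934 := rfl
theorem L14173 : sm gf N2934 = N1426 := ded_16_2 (flp_b L6938) (flp_f L3560) L3553 L6920 L14171
theorem L14175 : sm gg N1422 = N2935 := rfl
theorem L14185 : sm gf N1424 = N2937 := rfl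
theorem L14189 : sm ge N2937 = N1425 := ded_25_1 (flp_f L6930) L6925 L14185
theorem L14193 : sm gb N1425 = N2938 := rfl
theorem L14195 : sm gd N2938 = N1426 := ded_14_2 (flp_b L6938) (flp_d L6934) L14193
theorem L14197 : sm ga N1426 = N2939 := rfl
theorem L14199 : sm gg N1426 = N2940 := rfl
theorem L14201 : sm gb N2940 = N1433 := ded_17_1 (flp_g L6963) (flp_b L3578) (flp_g L3566) L6938 L14199
theorem L14203 : sm ga N1427 = N2941 := rfl
theorem L14205 : sm ge N1427 = N2942 := rfl
theorem L14207 : sm gb N2942 = N1428 := ded_15_1 (flp_e L6942) L6940 L14205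
theorem L14209 : sm gf N1427 = N2943 := rfl
theorem L14211 : sm gg N1427 = N2944 := rfl
theorem L14214 : sm gd N1428 = N2945 := rfl
theorem L14217 : sm gf N1428 = N2946 := rfl
theorem L14221 : sm ge N2946 = N1429 := ded_25_1 (flp_f L6947) L6942 L14217
theorem L14223 : sm gb N1429 = N2947 := rfl
theorem L14225 : sm gb N1430 = N2948 := rfl
theorem L14227 : sm ge N2948 = N1431 := ded_15_2 (flp_b L6955) (flp_e L6953) L14225
theorem L14229 : sm ga N1431 = N2949 := rfl
theorem L14231 : sm gd N2949 = N1432 := ded_9_2 (flp_a L6959) (flp_d L6957) L14229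
theorem L14233 : sm gc N1431 = N2950 := rfl
theorem L14235 : sm gg N1431 = N2951 := rfl
theorem L14237 : sm gd N2951 = N1433 := ded_24_1 (flp_g L6963) (flp_d L6957) L14235
theorem L14239 : sm gb N1432 = N2952 := rfl
theorem L14241 : sm gg N1432 = N2953 := rfl
theorem L14243 : sm ga N2953 = N1433 := ded_12_1 (flp_g L6963) L6959 L14241
theorem L14245 : sm gc N2953 = N2426 := ded_21_1 (flp_g L11688) (flp_c L6961) L14241
theorem L14247 : sm gf N2953 = N2838 := ded_29_2 (flp_g L13720) L13714 L13718 L14241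
theorem L14257 : sm gb N1434 = N2955 := rfl
theorem L14259 : sm gd N1434 = N2956 := rfl
theorem L14261 : sm ga N2956 = N1435 := ded_9_1 (flp_d L6969) L6967 L14259
theorem L14263 : sm gf N1434 = N2957 := rfl
theorem L14271 : sm gc N1435 = N2959 := rfl
theorem L14273 : sm ge N1435 = N2960 := rfl
theorem L14275 : sm gb N2960 = N1438 := ded_15_1 (flp_e L6978) (flp_b L6971) L14273
theorem L14282 : sm gg N1435 = N2962 := rfl
theorem L14284 : sm gd N2962 = N1437 := ded_24_1 (flp_g L6976) L6969 L14282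
theorem L14290 : sm gb N1437 = N2964 := rfl
theorem L14292 : sm gc N2964 = N2940 := ded_13_2 L14201 L6965 L11694 (flp_c L11698) L14290
theorem L14294 : sm gg N2964 = N1440 := ded_17_2 (flp_b L6991) (flp_g L3589) L3582 L6976 L14290
theorem L14302 : sm gg N1438 = N2966 := rfl
theorem L14304 : sm ga N2966 = N1444 := ded_12_1 (flp_g L7006) (flp_a L6980) L14302
theorem L14306 : sm ge N2966 = N1439 := ded_26_1 (flp_g L6983) L6978 L14302
theorem L14310 : sm gb N1439 = N2967 := rfl
theorem L14312 : sm gd N2967 = N1440 := ded_14_2 (flp_b L6991) (flp_d L6987) L14310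
theorem L14314 : sm ga N1440 = N2968 := rfl
theorem L14316 : sm gc N2968 = N2939 := ded_8_2 (flp_a L14197) (flp_c L6993) L14314
theorem L14318 : sm gf N1440 = N2969 := rfl
theorem L14320 : sm gc N2969 = N2934 := ded_20_1 L14173 (flp_c L6993) L14318
theorem L14324 : sm ga N1441 = N2970 := rfl
theorem L14326 : sm ge N1441 = N2971 := rfl
theorem L14330 : sm gf N1441 = N2972 := rfl
theorem L14333 : sm gg N1441 = N2973 := rfl
theorem L14335 : sm gd N1442 = N2974 := rfl
theorem L14338 : sm gg N1442 = N2975 := rfl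
theorem L14342 : sm ge N2975 = N1443 := ded_26_1 (flp_g L7002) L6997 L14338
theorem L14344 : sm gb N1443 = N2976 := rfl
theorem L14346 : sm gb N1444 = N2977 := rfl
theorem L14348 : sm ge N2977 = N1445 := ded_15_2 (flp_b L7010) (flp_e L7008) L14346
theorem L14350 : sm ga N1445 = N2978 := rfl
theorem L14352 : sm gd N2978 = N1446 := ded_9_2 (flp_a L7014) (flp_d L7012) L14350
theorem L14354 : sm gc N1445 = N2979 := rfl
theorem L14356 : sm gf N1445 = N2980 := rfl
theorem L14358 : sm gd N2980 = N1447 := ded_23_1 (flp_f L7018) (flp_d L7012) L14356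
theorem L14360 : sm gb N1446 = N2981 := rfl
theorem L14370 : sm gg N1447 = N2983 := rfl
theorem L14374 : sm gc N2983 = N2394 := ded_21_1 (flp_g L11557) (flp_c L7020) L14370
theorem L14378 : sm ga N1448 = N2984 := rfl
theorem L14380 : sm gd N2984 = N2941 := ded_9_2 (flp_a L14203) (flp_d L7024) L14378
theorem L14382 : sm ge N1448 = N2985 := rfl
theorem L14384 : sm gb N2985 = N1449 := ded_15_1 (flp_e L7026) L7022 L14382
theorem L14386 : sm gf N1448 = N2986 := rfl
theorem L14388 : sm gd N2986 = N2943 := ded_23_1 (flp_f L14209) (flp_d L7024) L14386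
theorem L14390 : sm gg N1448 = N2987 := rfl
theorem L14395 : sm gd N1449 = N2988 := rfl
theorem L14397 : sm ga N2988 = N1461 := ded_9_1 (flp_d L7099) (flp_a L7028) L14395
theorem L14400 : sm ge N2988 = N2945 := ded_22_2 (flp_d L14214) (flp_e L6942) L3616 L7026 L14395
theorem L14412 : sm gb N1450 = N2990 := rfl
theorem L14414 : sm gd N2990 = N2947 := ded_14_2 (flp_b L14223) (flp_d L7039) L14412
theorem L14416 : sm gb N1451 = N2991 := rfl
theorem L14419 : sm ge N2991 = N1452 := ded_15_2 (flp_b L7052) (flp_e L7048) L14416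
theorem L14422 : sm gc N1452 = N2992 := rfl
theorem L14425 : sm gg N1452 = N2993 := rfl
theorem L14428 : sm gd N2993 = N1453 := ded_24_1 (flp_g L7057) (flp_d L7054) L14425
theorem L14434 : sm gd N1454 = N2995 := rfl
theorem L14436 : sm ga N2995 = N1455 := ded_9_1 (flp_d L7066) L7063 L14434
theorem L14438 : sm ge N1454 = N2996 := rfl
theorem L14440 : sm ga N2996 = N1456 := ded_10_1 (flp_e L7070) L7063 L14438
theorem L14443 : sm gf N1454 = N2997 := rfl
theorem L14445 : sm ga N2997 = N1457 := ded_11_1 (flp_f L7075) L7063 L14443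
theorem L14453 : sm gc N1455 = N2999 := rfl
theorem L14455 : sm gb N2999 = N2930 := ded_13_1 (flp_c L14156) L6918 L3643 (flp_b L7068) L14453
theorem L14457 : sm ge N1455 = N3000 := rfl
theorem L14461 : sm gf N1455 = N3001 := rfl
theorem L14463 : sm gd N3001 = N1457 := ded_23_1 (flp_f L7075) L7066 L14461
theorem L14465 : sm gg N1455 = N3002 := rfl
theorem L14470 : sm gd N1456 = N3003 := rfl
theorem L14472 : sm gb N3003 = N1461 := ded_14_1 (flp_d L7099) (flp_b L7072) L14470
theorem L14474 : sm gf N1456 = N3004 := rfl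
theorem L14479 : sm gg N1456 = N3005 := rfl
theorem L14482 : sm ge N3005 = N1458 := ded_26_1 (flp_g L7078) L7070 L14479
theorem L14485 : sm gb N1457 = N3006 := rfl
theorem L14487 : sm gf N3006 = N1463 := ded_16_2 (flp_b L7108) (flp_f L3650) L3635 L7075 L14485
theorem L14494 : sm gf N1458 = N3008 := rfl
theorem L14499 : sm gg N3008 = N2997 := ded_29_3 L14445 (flp_f L7075) L7078 L14494
theorem L14501 : sm gd N1459 = N3009 := rfl
theorem L14503 : sm ga N3009 = N2945 := ded_9_1 (flp_d L14214) (flp_a L7084) L14501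
theorem L14506 : sm ge N3009 = N1461 := ded_22_2 (flp_d L7099) (flp_e L3645) L3638 L7082 L14501
theorem L14518 : sm gb N1460 = N3011 := rfl
theorem L14520 : sm gd N3011 = N1463 := ded_14_2 (flp_b L7108) (flp_d L7095) L14518
theorem L14522 : sm gc N1461 = N3012 := rfl
theorem L14525 : sm gf N1461 = N3013 := rfl
theorem L14527 : sm gd N3013 = N1462 := ded_23_1 (flp_f L7102) L7099 L14525
theorem L14529 : sm gb N1462 = N3014 := rfl
theorem L14531 : sm ge N3014 = N1463 := ded_15_2 (flp_b L7108) (flp_e L7106) L14529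
theorem L14533 : sm ga N1463 = N3015 := rfl
theorem L14535 : sm gc N1463 = N3016 := rfl
theorem L14539 : sm gg N1463 = N3017 := rfl
theorem L14548 : sm gc N1464 = N3019 := rfl
theorem L14550 : sm ge N3019 = N1466 := ded_19_2 (flp_c L7122) (flp_e L7113) L14548
theorem L14558 : sm gc N1465 = N3021 := rfl
theorem L14560 : sm ga N3021 = N1466 := ded_8_1 (flp_c L7122) L7116 L14558
theorem L14571 : sm gd N1466 = N3023 := rfl
theorem L14574 : sm gg N1466 = N3024 := rfl
theorem L14578 : sm gd N1469 = N3025 := rfl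
theorem L14581 : sm gb N3025 = N1470 := ded_14_1 (flp_d L7148) L7138 L14578
theorem L14583 : sm gf N3025 = N2993 := ded_23_2 L14428 L7146 L14578
theorem L14587 : sm gc N1470 = N3026 := rfl
theorem L14589 : sm ga N3026 = N1472 := ded_8_1 (flp_c L7162) (flp_a L7150) L14587
theorem L14593 : sm ge N1470 = N3027 := rfl
theorem L14600 : sm gf N1470 = N3028 := rfl
theorem L14609 : sm gb N1472 = N3029 := rfl
theorem L14611 : sm gc N3029 = N1475 := ded_13_2 (flp_b L7175) (flp_c L3691) (flp_b L3682) L7162 L14609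
theorem L14613 : sm gd N1472 = N3030 := rfl
theorem L14631 : sm ga N1475 = N3034 := rfl
theorem L14635 : sm ge N1475 = N3035 := rfl
theorem L14637 : sm gb N3035 = N1476 := ded_15_1 (flp_e L7179) L7175 L14635
theorem L14639 : sm gf N1475 = N3036 := rfl
theorem L14641 : sm gd N3036 = N2972 := ded_23_1 (flp_f L14330) (flp_d L7177) L14639
theorem L14644 : sm gg N1475 = N3037 := rfl
theorem L14646 : sm gd N3037 = N2973 := ded_24_1 (flp_g L14333) (flp_d L7177) L14644
theorem L14648 : sm gd N1476 = N3038 := rfl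
theorem L14650 : sm ga N3038 = N1487 := ded_9_1 (flp_d L7248) (flp_a L7181) L14648
theorem L14653 : sm ge N3038 = N2974 := ded_22_2 (flp_d L14335) (flp_e L6997) L3696 L7179 L14648
theorem L14655 : sm gg N1476 = N3039 := rfl
theorem L14659 : sm gc N3039 = N1478 := ded_21_1 (flp_g L7196) (flp_c L7183) L14655
theorem L14661 : sm ge N3039 = N1477 := ded_26_1 (flp_g L7186) L7179 L14655
theorem L14677 : sm gc N1479 = N3042 := rfl
theorem L14684 : sm gd N1480 = N3044 := rfl
theorem L14686 : sm ga N3044 = N1481 := ded_9_1 (flp_d L7215) L7212 L14684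
theorem L14688 : sm ge N1480 = N3045 := rfl
theorem L14690 : sm ga N3045 = N1482 := ded_10_1 (flp_e L7219) L7212 L14688
theorem L14698 : sm gg N1480 = N3047 := rfl
theorem L14700 : sm ga N3047 = N1484 := ded_12_1 (flp_g L7228) L7212 L14698
theorem L14703 : sm gc N1481 = N3048 := rfl
theorem L14705 : sm gb N3048 = N2959 := ded_13_1 (flp_c L14271) L6971 L3728 (flp_b L7217) L14703
theorem L14707 : sm ge N1481 = N3049 := rfl
theorem L14711 : sm gf N1481 = N3050 := rfl
theorem L14716 : sm gg N1481 = N3051 := rfl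
theorem L14718 : sm gd N3051 = N1484 := ded_24_1 (flp_g L7228) L7215 L14716
theorem L14720 : sm gd N1482 = N3052 := rfl
theorem L14722 : sm gb N3052 = N1487 := ded_14_1 (flp_d L7248) (flp_b L7221) L14720
theorem L14735 : sm gg N1483 = N3055 := rfl
theorem L14738 : sm gf N3047 = N3055 := ded_29_0 (flp_g L14735) (flp_f L7224) L7228 (flp_a L14700)
theorem L14740 : sm gb N1484 = N3056 := rfl
theorem L14742 : sm gg N3056 = N1489 := ded_17_2 (flp_b L7257) (flp_g L3735) L3720 L7228 L14740
theorem L14753 : sm gd N1485 = N3058 := rfl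
theorem L14755 : sm ga N3058 = N2974 := ded_9_1 (flp_d L14335) (flp_a L7233) L14753
theorem L14758 : sm ge N3058 = N1487 := ded_22_2 (flp_d L7248) (flp_e L3730) L3723 L7231 L14753
theorem L14770 : sm gb N1486 = N3060 := rfl
theorem L14772 : sm gd N3060 = N1489 := ded_14_2 (flp_b L7257) (flp_d L7244) L14770
theorem L14774 : sm gc N1487 = N3061 := rfl
theorem L14777 : sm gg N1487 = N3062 := rfl
theorem L14779 : sm gd N3062 = N1488 := ded_24_1 (flp_g L7251) L7248 L14777
theorem L14781 : sm gb N1488 = N3063 := rfl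
theorem L14783 : sm ge N3063 = N1489 := ded_15_2 (flp_b L7257) (flp_e L7255) L14781
theorem L14785 : sm gc N3063 = N2985 := ded_13_2 L14384 L7030 L3744 (flp_c L7253) L14781
theorem L14791 : sm gf N1489 = N3065 := rfl
theorem L14793 : sm gc N3065 = N2986 := ded_20_1 (flp_f L14386) (flp_c L7259) L14791
theorem L14807 : sm gb N1491 = N3068 := rfl
theorem L14809 : sm gc N3068 = N1493 := ded_13_2 (flp_b L7280) (flp_c L3760) (flp_b L3756) L7267 L14807
theorem L14823 : sm ga N1493 = N3071 := rfl
theorem L14833 : sm gf N1493 = N3074 := rfl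
theorem L14835 : sm gg N1493 = N3075 := rfl
theorem L14837 : sm ge N1494 = N3076 := rfl
theorem L14839 : sm ga N3076 = N1505 := ded_10_1 (flp_e L7344) (flp_a L7284) L14837
theorem L14843 : sm gf N1494 = N3077 := rfl
theorem L14845 : sm ga N3077 = N1506 := ded_11_1 (flp_f L7346) (flp_a L7284) L14843
theorem L14851 : sm gg N1494 = N3078 := rfl
theorem L14859 : sm gd N1495 = N3079 := rfl
theorem L14861 : sm ga N3079 = N1508 := ded_9_1 (flp_d L7354) (flp_a L7290) L14859
theorem L14863 : sm gf N1495 = N3080 := rfl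
theorem L14871 : sm gg N1495 = N3081 := rfl
theorem L14877 : sm ge N3081 = N1497 := ded_26_1 (flp_g L7300) L7288 L14871
theorem L14879 : sm gb N1496 = N3082 := rfl
theorem L14882 : sm gb N1497 = N3083 := rfl
theorem L14885 : sm gb N1500 = N3084 := rfl
theorem L14887 : sm gd N1500 = N3085 := rfl
theorem L14889 : sm ga N3085 = N1501 := ded_9_1 (flp_d L7326) L7322 L14887
theorem L14891 : sm gc N3085 = N1743 := ded_28_6 (flp_d L8445) (flp_a L8425) (flp_c L8423) L8427 (flp_c L8431) L4503 (flp_c L7324) L14887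
theorem L14911 : sm gc N1501 = N3089 := rfl
theorem L14913 : sm ga N3089 = N1743 := ded_8_1 (flp_c L14891) L14889 L14911
theorem L14915 : sm gd N3089 = N1738 := ded_28_7 L8425 (flp_c L4327) L4331 (flp_c L4335) L2334 (flp_c L3785) L7326 L14911
theorem L14917 : sm ge N1501 = N3090 := rfl
theorem L14925 : sm gg N1501 = N3092 := rfl
theorem L14929 : sm gd N1502 = N3093 := rfl
theorem L14931 : sm gb N3093 = N1508 := ded_14_1 (flp_d L7354) (flp_b L7332) L14929
theorem L14971 : sm gf N1505 = N3101 := rfl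
theorem L14973 : sm ge N3101 = N1506 := ded_25_1 (flp_f L7346) L7344 L14971
theorem L14975 : sm gg N1505 = N3102 := rfl
theorem L14979 : sm gb N1506 = N3103 := rfl
theorem L14981 : sm gd N3103 = N1511 := ded_14_2 (flp_b L7368) (flp_d L7348) L14979
theorem L14989 : sm gb N1507 = N3105 := rfl
theorem L14991 : sm gd N3105 = N1513 := ded_14_2 (flp_b L7376) (flp_d L7352) L14989
theorem L14993 : sm gf N1507 = N3106 := rfl
theorem L14999 : sm gd N3106 = N1514 := ded_23_1 (flp_f L7378) (flp_d L7352) L14993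
theorem L15001 : sm gg N3106 = N3077 := ded_29_3 L14845 (flp_f L7346) L7350 L14993
theorem L15005 : sm gf N1508 = N3108 := rfl
theorem L15009 : sm gg N1508 = N3109 := rfl
theorem L15025 : sm gb N1510 = N3112 := rfl
theorem L15027 : sm ge N3112 = N1513 := ded_15_2 (flp_b L7376) (flp_e L7366) L15025
theorem L15041 : sm gc N1511 = N3115 := rfl
theorem L15043 : sm gb N3115 = N1518 := ded_13_1 (flp_c L7409) (flp_b L3811) (flp_c L3795) L7368 L15041
theorem L15045 : sm gg N1511 = N3116 := rfl
theorem L15051 : sm gf N1513 = N3119 := rfl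
theorem L15053 : sm gb N1514 = N3120 := rfl
theorem L15061 : sm gb N1517 = N3122 := rfl
theorem L15066 : sm gf N3122 = N2475 := ded_16_2 (flp_b L11941) (flp_f L5910) L4893 L7400 L15061
theorem L15089 : sm ga N1521 = N3126 := rfl
theorem L15091 : sm gb N3126 = N1633 := ded_7_2 (flp_a L7941) (flp_b L4088) (flp_a L2129) (flp_b L1080) (flp_a L1000) L1979 L3845 L7430 L15089
theorem L15093 : sm gc N1521 = N3127 := rfl
theorem L15099 : sm gf N1521 = N3129 := rfl
theorem L15101 : sm gg N1521 = N3130 := rfl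
theorem L15113 : sm gg N1522 = N3133 := rfl
theorem L15115 : sm ga N3133 = N1527 := ded_12_1 (flp_g L7452) (flp_a L7434) L15113
theorem L15123 : sm gc N1525 = N3136 := rfl
theorem L15125 : sm gf N1525 = N3137 := rfl
theorem L15127 : sm gd N3137 = N1526 := ded_23_1 (flp_f L7448) L7444 L15125
theorem L15129 : sm gg N1525 = N3138 := rfl
theorem L15133 : sm gb N1526 = N3139 := rfl
theorem L15135 : sm ge N3139 = N1528 := ded_15_2 (flp_b L7456) (flp_e L7450) L15133
theorem L15137 : sm gf N3139 = N1535 := ded_16_2 (flp_b L7492) (flp_f L3859) (flp_b L3849) L7448 L15133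
theorem L15139 : sm gg N1526 = N3140 := rfl
theorem L15143 : sm gf N3133 = N3140 := ded_29_0 (flp_g L15139) (flp_f L7448) L7452 (flp_a L15115)
theorem L15145 : sm gb N1527 = N3141 := rfl
theorem L15147 : sm ge N3141 = N1530 := ded_15_2 (flp_b L7464) (flp_e L7454) L15145
theorem L15149 : sm gg N3141 = N1536 := ded_17_2 (flp_b L7496) (flp_g L3867) (flp_b L3849) L7452 L15145
theorem L15159 : sm ga N1528 = N3143 := rfl
theorem L15161 : sm gf N3143 = N1537 := ded_11_2 (flp_a L7500) (flp_f L7458) L15159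
theorem L15167 : sm gg N1528 = N3145 := rfl
theorem L15171 : sm ga N1530 = N3147 := rfl
theorem L15173 : sm gg N3147 = N1540 := ded_12_2 (flp_a L7508) (flp_g L7466) L15171
theorem L15175 : sm gf N1530 = N3148 := rfl
theorem L15179 : sm gb N1532 = N3150 := rfl
theorem L15181 : sm gd N3150 = N1689 := ded_14_2 (flp_b L8196) (flp_d L7478) L15179
theorem L15199 : sm gb N1533 = N3153 := rfl
theorem L15201 : sm gd N3153 = N1535 := ded_14_2 (flp_b L7492) (flp_d L7484) L15199
theorem L15207 : sm ga N1535 = N3155 := rfl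
theorem L15217 : sm gg N1535 = N3157 := rfl
theorem L15219 : sm ge N3157 = N1539 := ded_26_1 (flp_g L7506) (flp_e L7494) L15217
theorem L15221 : sm ga N1536 = N3158 := rfl
theorem L15223 : sm ge N3158 = N1540 := ded_10_2 (flp_a L7508) (flp_e L7498) L15221
theorem L15235 : sm gg N1537 = N3162 := rfl
theorem L15239 : sm gf N3162 = N3145 := ded_29_2 (flp_g L15167) L15159 L15161 L15235
theorem L15249 : sm gf N1539 = N3165 := rfl
theorem L15253 : sm gg N3165 = N3143 := ded_29_3 (flp_a L15159) L7458 L7506 L15249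
theorem L15255 : sm gb N1540 = N3166 := rfl
theorem L15269 : sm gc N1542 = N3169 := rfl
theorem L15273 : sm ge N3169 = N1545 := ded_19_2 (flp_c L7531) (flp_e L7515) L15269
theorem L15275 : sm gg N1542 = N3170 := rfl
theorem L15277 : sm ga N3170 = N1544 := ded_12_1 (flp_g L7522) L7512 L15275
theorem L15284 : sm gd N1543 = N3171 := rfl
theorem L15286 : sm gg N1543 = N3172 := rfl
theorem L15288 : sm gc N3172 = N1544 := ded_21_1 (flp_g L7522) L7518 L15286
theorem L15292 : sm gf N1726 = N3172 := ded_20_0 L15288 L7529 L8355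
theorem L15309 : sm ge N1547 = N3176 := rfl
theorem L15311 : sm gg N1547 = N3177 := rfl
theorem L15313 : sm gd N3177 = N1548 := ded_24_1 (flp_g L7545) L7543 L15311
theorem L15315 : sm gf N1733 = N3177 := ded_23_0 L15313 (flp_f L7549) L8397
theorem L15321 : sm gb N1549 = N3179 := rfl
theorem L15323 : sm gc N3179 = N1631 := ded_13_2 (flp_b L7931) (flp_c L4075) (flp_b L3912) L7551 L15321
theorem L15325 : sm gd N1549 = N3180 := rfl
theorem L15331 : sm gg N3180 = N1733 := ded_24_2 (flp_d L8397) (flp_g L7557) L15325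
theorem L15345 : sm gc N1551 = N3182 := rfl
theorem L15347 : sm ga N3182 = N1552 := ded_8_1 (flp_c L7574) L7570 L15345
theorem L15349 : sm gd N1551 = N3183 := rfl
theorem L15351 : sm ga N3183 = N1553 := ded_9_1 (flp_d L7577) L7570 L15349
theorem L15355 : sm ge N1551 = N3184 := rfl
theorem L15357 : sm ga N3184 = N1554 := ded_10_1 (flp_e L7581) L7570 L15355
theorem L15361 : sm gf N1551 = N3185 := rfl
theorem L15372 : sm ge N1552 = N3188 := rfl
theorem L15377 : sm gf N1552 = N3189 := rfl
theorem L15379 : sm gc N3189 = N1555 := ded_20_1 (flp_f L7585) L7574 L15377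
theorem L15381 : sm gg N1552 = N3190 := rfl
theorem L15385 : sm gc N1553 = N3191 := rfl
theorem L15387 : sm ge N1553 = N3192 := rfl
theorem L15389 : sm gb N3192 = N1558 := ded_15_1 (flp_e L7593) (flp_b L7579) L15387
theorem L15391 : sm gf N1553 = N3193 := rfl
theorem L15395 : sm gg N1553 = N3194 := rfl
theorem L15397 : sm gd N3194 = N1556 := ded_24_1 (flp_g L7587) L7577 L15395
theorem L15399 : sm gd N1554 = N3195 := rfl
theorem L15401 : sm gb N3195 = N1561 := ded_14_1 (flp_d L7609) (flp_b L7583) L15399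
theorem L15403 : sm gf N1554 = N3196 := rfl
theorem L15405 : sm ge N3196 = N1555 := ded_25_1 (flp_f L7585) L7581 L15403
theorem L15407 : sm gg N1554 = N3197 := rfl
theorem L15409 : sm ge N3197 = N1556 := ded_26_1 (flp_g L7587) L7581 L15407
theorem L15411 : sm gb N1555 = N3198 := rfl
theorem L15413 : sm gf N3198 = N1564 := ded_16_2 (flp_b L7627) (flp_f L3929) L3918 L7585 L15411
theorem L15419 : sm gb N1556 = N3200 := rfl
theorem L15421 : sm gg N3200 = N1565 := ded_17_2 (flp_b L7629) (flp_g L3934) L3918 L7587 L15419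
theorem L15429 : sm gb N1557 = N3202 := rfl
theorem L15431 : sm gd N1557 = N3203 := rfl
theorem L15433 : sm ga N3203 = N1566 := ded_9_1 (flp_d L7631) (flp_a L7591) L15431
theorem L15435 : sm gc N1566 = N3203 := ded_28_0 (flp_d L15431) (flp_c L7589) (flp_d L3920) L2045 L3920 L7589 L15431 L15433
theorem L15437 : sm ge N1557 = N3204 := rfl
theorem L15439 : sm ga N3204 = N1567 := ded_10_1 (flp_e L7633) (flp_a L7591) L15437
theorem L15443 : sm gf N1557 = N3205 := rfl
theorem L15445 : sm ga N3205 = N1568 := ded_11_1 (flp_f L7637) (flp_a L7591) L15443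
theorem L15449 : sm gg N1557 = N3206 := rfl
theorem L15451 : sm ga N3206 = N1569 := ded_12_1 (flp_g L7641) (flp_a L7591) L15449
theorem L15455 : sm gd N1558 = N3207 := rfl
theorem L15457 : sm ga N3207 = N1570 := ded_9_1 (flp_d L7645) (flp_a L7595) L15455
theorem L15459 : sm ge N3207 = N1561 := ded_22_2 (flp_d L7609) (flp_e L3924) L3920 L7593 L15455
theorem L15461 : sm gf N1558 = N3208 := rfl
theorem L15463 : sm ga N3208 = N1571 := ded_11_1 (flp_f L7651) (flp_a L7595) L15461
theorem L15465 : sm ge N3208 = N1559 := ded_25_1 (flp_f L7597) L7593 L15461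
theorem L15473 : sm gb N1559 = N3210 := rfl
theorem L15475 : sm gd N3210 = N1564 := ded_14_2 (flp_b L7627) (flp_d L7601) L15473
theorem L15481 : sm gc N1561 = N3212 := rfl
theorem L15483 : sm ga N3212 = N1577 := ded_8_1 (flp_c L7685) (flp_a L7611) L15481
theorem L15485 : sm gf N1561 = N3213 := rfl
theorem L15487 : sm ga N3213 = N1578 := ded_11_1 (flp_f L7687) (flp_a L7611) L15485
theorem L15491 : sm gg N1561 = N3214 := rfl
theorem L15493 : sm ga N3214 = N1579 := ded_12_1 (flp_g L7691) (flp_a L7611) L15491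
theorem L15495 : sm gd N3214 = N1563 := ded_24_1 (flp_g L7620) L7609 L15491
theorem L15497 : sm gb N1562 = N3215 := rfl
theorem L15505 : sm ga N1564 = N3217 := rfl
theorem L15512 : sm ga N1565 = N3220 := rfl
theorem L15517 : sm gf N1565 = N3222 := rfl
theorem L15521 : sm gf N1566 = N3224 := rfl
theorem L15523 : sm gd N3224 = N1568 := ded_23_1 (flp_f L7637) L7631 L15521
theorem L15525 : sm gg N1566 = N3225 := rfl
theorem L15527 : sm gd N3225 = N1569 := ded_24_1 (flp_g L7641) L7631 L15525
theorem L15529 : sm gd N1567 = N3226 := rfl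
theorem L15537 : sm gg N1567 = N3228 := rfl
theorem L15539 : sm gc N3228 = N1572 := ded_21_1 (flp_g L7655) (flp_c L7635) L15537
theorem L15541 : sm ge N3228 = N1569 := ded_26_1 (flp_g L7641) L7633 L15537
theorem L15543 : sm gb N1568 = N3229 := rfl
theorem L15545 : sm gg N1568 = N3230 := rfl
theorem L15549 : sm gf N3206 = N3230 := ded_29_0 (flp_g L15545) (flp_f L7637) L7641 (flp_a L15451)
theorem L15551 : sm gb N1569 = N3231 := rfl
theorem L15553 : sm gf N1569 = N3232 := rfl
theorem L15555 : sm ga N3232 = N3230 := ded_11_1 (flp_f L15549) L15451 L15553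
theorem L15557 : sm gc N3232 = N1576 := ded_20_1 (flp_f L7677) (flp_c L7643) L15553
theorem L15559 : sm gg N3232 = N3205 := ded_29_3 L15445 (flp_f L7637) L7641 L15553
theorem L15561 : sm gc N1570 = N3233 := rfl

end Cfsg.Agent.Helper28.SzbA
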