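import Cfsg.Agent.Helper28.SzbB5

/-! # The Suzuki group presentation, cosets of the subgroup generated by a, b, c, d, f, g: the coset enumeration, part 6 (helper28; generated) -/

set_option autoImplicit false

noncomputable section

namespace Cfsg.Agent.Helper28.SzbA

open Cfsg.Agent.Helper28.CosetTable

theorem L15563 : sm ge N3233 = N1577 := ded_19_2 (flp_c L7685) (flp_e L7649) L15561
theorem L15565 : sm gf N1570 = N3234 := rfl
theorem L15567 : sm gd N3234 = N1571 := ded_23_1 (flp_f L7651) L7645 L15565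
theorem L15569 : sm ge N3234 = N1578 := ded_25_1 (flp_f L7687) (flp_e L7649) L15565
theorem L15571 : sm gg N1570 = N3235 := rfl
theorem L15573 : sm gd N3235 = N1572 := ded_24_1 (flp_g L7655) L7645 L15571
theorem L15575 : sm ge N3235 = N1579 := ded_26_1 (flp_g L7691) (flp_e L7649) L15571
theorem L15577 : sm gb N1571 = N3236 := rfl
theorem L15579 : sm ge N3236 = N1573 := ded_15_2 (flp_b L7659) (flp_e L7653) L15577
theorem L15581 : sm gf N3236 = N1595 := ded_16_2 (flp_b L7771) (flp_f L3993) (flp_b L3943) L7651 L15577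
theorem L15589 : sm gb N1572 = N3238 := rfl
theorem L15593 : sm gg N3238 = N1596 := ded_17_2 (flp_b L7775) (flp_g L3999) (flp_b L3943) L7655 L15589
theorem L15595 : sm gf N1572 = N3239 := rfl
theorem L15599 : sm ge N3239 = N1576 := ded_25_1 (flp_f L7677) (flp_e L7657) L15595
theorem L15601 : sm gg N3239 = N3208 := ded_29_3 L15463 (flp_f L7651) L7655 L15595
theorem L15603 : sm ga N1573 = N3240 := rfl
theorem L15607 : sm gf N3240 = N1597 := ded_11_2 (flp_a L7779) (flp_f L7663) L15603
theorem L15609 : sm gc N1573 = N3241 := rfl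
theorem L15613 : sm gg N1573 = N3242 := rfl
theorem L15615 : sm gd N3242 = N1586 := ded_24_1 (flp_g L7732) (flp_d L7661) L15613
theorem L15621 : sm ga N1575 = N3244 := rfl
theorem L15623 : sm gd N3244 = N1588 := ded_9_2 (flp_a L7736) (flp_d L7673) L15621
theorem L15627 : sm gc N1575 = N3245 := rfl
theorem L15629 : sm gg N3245 = N1601 := ded_21_2 (flp_c L7793) (flp_g L7675) L15627
theorem L15639 : sm gb N1577 = N3248 := rfl
theorem L15641 : sm gc N3248 = N1603 := ded_13_2 (flp_b L7799) (flp_c L4013) (flp_b L3955) L7685 L15639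
theorem L15643 : sm gd N1577 = N3249 := rfl
theorem L15645 : sm gf N1577 = N3250 := rfl
theorem L15649 : sm gg N1577 = N3251 := rfl
theorem L15653 : sm gb N1578 = N3252 := rfl
theorem L15655 : sm gd N3252 = N1580 := ded_14_2 (flp_b L7695) (flp_d L7689) L15653
theorem L15657 : sm gf N3252 = N1606 := ded_16_2 (flp_b L7819) (flp_f L4019) (flp_b L3955) L7687 L15653
theorem L15659 : sm gg N1578 = N3253 := rfl
theorem L15663 : sm gf N3214 = N3253 := ded_29_0 (flp_g L15659) (flp_f L7687) L7691 (flp_a L15493)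
theorem L15665 : sm gb N1579 = N3254 := rfl
theorem L15669 : sm gg N3254 = N1607 := ded_17_2 (flp_b L7823) (flp_g L4025) (flp_b L3955) L7691 L15665
theorem L15671 : sm gf N1579 = N3255 := rfl
theorem L15673 : sm ga N3255 = N3253 := ded_11_1 (flp_f L15663) L15493 L15671
theorem L15675 : sm gd N3255 = N1583 := ded_23_1 (flp_f L7714) (flp_d L7693) L15671
theorem L15677 : sm gg N3255 = N3213 := ded_29_3 L15487 (flp_f L7687) L7691 L15671
theorem L15679 : sm ga N1580 = N3256 := rfl
theorem L15681 : sm ge N3256 = N1584 := ded_10_2 (flp_a L7723) (flp_e L7697) L15679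
theorem L15683 : sm gf N3256 = N1608 := ded_11_2 (flp_a L7827) (flp_f L7699) L15679
theorem L15685 : sm gc N1580 = N3257 := rfl
theorem L15689 : sm gf N3257 = N1609 := ded_20_2 (flp_c L7831) (flp_f L7699) L15685
theorem L15692 : sm gg N1580 = N3258 := rfl
theorem L15700 : sm ga N1582 = N3260 := rfl
theorem L15702 : sm ge N3260 = N1588 := ded_10_2 (flp_a L7736) (flp_e L7710) L15700
theorem L15704 : sm gg N3260 = N1611 := ded_12_2 (flp_a L7841) (flp_g L7712) L15700
theorem L15706 : sm gc N1582 = N3261 := rfl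
theorem L15710 : sm gg N3261 = N1612 := ded_21_2 (flp_c L7845) (flp_g L7712) L15706
theorem L15717 : sm gb N1583 = N3263 := rfl
theorem L15719 : sm ge N3263 = N1591 := ded_15_2 (flp_b L7747) (flp_e L7719) L15717
theorem L15721 : sm gb N1584 = N3264 := rfl
theorem L15723 : sm gc N2026 = N3264 := ded_30_1 (flp_b L15721) (flp_a L7723) L3969 L4041 L4043 L2117 L2118 (flp_c L2115) (flp_b L1061) L487 (flp_f L247) L240 L544 L1164 L2270 L2274 L2621 L5031 (flp_f L9793)
theorem L15725 : sm ga N3264 = N2027 := ded_8_1 (flp_c L9795) L9791 L15723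
theorem L15727 : sm gf N3264 = N2057 := ded_20_2 (flp_c L9919) (flp_f L9793) L15723
theorem L15729 : sm gc N1584 = N3265 := rfl
theorem L15731 : sm ga N3265 = N1585 := ded_8_1 (flp_c L7727) L7723 L15729
theorem L15733 : sm gf N3265 = N1615 := ded_20_2 (flp_c L7857) (flp_f L7725) L15729
theorem L15738 : sm gd N1585 = N3266 := rfl
theorem L15741 : sm gf N3266 = N1617 := ded_23_2 (flp_d L7867) (flp_f L7729) L15738
theorem L15747 : sm gb N1586 = N3268 := rfl
theorem L15749 : sm gg N3268 = N1587 := ded_17_2 (flp_b L7734) (flp_g L3971) L3967 L7732 L15747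
theorem L15751 : sm ga N1587 = N3269 := rfl
theorem L15753 : sm gc N1587 = N3270 := rfl
theorem L15756 : sm gf N1587 = N3271 := rfl
theorem L15758 : sm gb N3271 = N3222 := ded_16_1 (flp_f L15517) (flp_b L7629) L3974 L7734 L15756
theorem L15760 : sm gb N1588 = N3272 := rfl
theorem L15762 : sm gc N1588 = N3273 := rfl
theorem L15764 : sm ga N3273 = N1589 := ded_8_1 (flp_c L7740) L7736 L15762
theorem L15766 : sm gg N3273 = N1621 := ded_21_2 (flp_c L7883) (flp_g L7738) L15762
theorem L15768 : sm gd N1589 = N3274 := rfl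
theorem L15771 : sm gg N3274 = N1623 := ded_24_2 (flp_d L7893) (flp_g L7742) L15768
theorem L15773 : sm gf N1589 = N3275 := rfl
theorem L15777 : sm gb N1590 = N3276 := rfl
theorem L15779 : sm gf N3276 = N1591 := ded_16_2 (flp_b L7747) (flp_f L3980) L3976 L7745 L15777
theorem L15781 : sm ga N1591 = N3277 := rfl
theorem L15786 : sm gg N1591 = N3279 := rfl
theorem L15790 : sm gb N1592 = N3280 := rfl
theorem L15792 : sm ge N3280 = N1603 := ded_15_2 (flp_b L7799) (flp_e L7753) L15790
theorem L15794 : sm gd N1592 = N3281 := rfl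
theorem L15796 : sm ga N3281 = N1843 := ded_9_1 (flp_d L8933) (flp_a L7751) L15794
theorem L15798 : sm ge N3281 = N1843 := ded_22_2 (flp_d L8933) L4549 (flp_d L4017) (flp_e L7753) L15794
theorem L15800 : sm gf N1592 = N3282 := rfl
theorem L15802 : sm ga N3282 = N1844 := ded_11_1 (flp_f L8935) (flp_a L7751) L15800
theorem L15804 : sm gc N3282 = N1593 := ded_20_1 (flp_f L7755) L7749 L15800
theorem L15806 : sm ge N3282 = N1604 := ded_25_1 (flp_f L7803) (flp_e L7753) L15800
theorem L15808 : sm gg N1592 = N3283 := rfl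
theorem L15810 : sm ga N3283 = N1845 := ded_12_1 (flp_g L8941) (flp_a L7751) L15808
theorem L15812 : sm gc N3283 = N1594 := ded_21_1 (flp_g L7763) L7749 L15808
theorem L15814 : sm ge N3283 = N1605 := ded_26_1 (flp_g L7811) (flp_e L7753) L15808
theorem L15816 : sm gb N1593 = N3284 := rfl
theorem L15818 : sm gd N3284 = N1595 := ded_14_2 (flp_b L7771) (flp_d L7759) L15816
theorem L15820 : sm ge N3284 = N1606 := ded_15_2 (flp_b L7819) (flp_e L7761) L15816
theorem L15822 : sm gb N1594 = N3285 := rfl
theorem L15824 : sm gd N3285 = N1596 := ded_14_2 (flp_b L7775) (flp_d L7767) L15822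
theorem L15826 : sm ge N3285 = N1607 := ded_15_2 (flp_b L7823) (flp_e L7769) L15822
theorem L15836 : sm gg N1595 = N3288 := rfl
theorem L15840 : sm ga N1596 = N3289 := rfl
theorem L15848 : sm gf N1596 = N3291 := rfl
theorem L15850 : sm ge N3291 = N1602 := ded_25_1 (flp_f L7795) (flp_e L7777) L15848
theorem L15856 : sm gc N1597 = N3293 := rfl
theorem L15858 : sm ga N3293 = N1598 := ded_8_1 (flp_c L7783) L7779 L15856
theorem L15860 : sm gg N1597 = N3294 := rfl
theorem L15866 : sm gf N3294 = N3242 := ded_29_2 (flp_g L15613) L15603 L15607 L15860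
theorem L15868 : sm gd N1598 = N3295 := rfl
theorem L15882 : sm gb N1600 = N3298 := rfl
theorem L15884 : sm gd N3298 = N1620 := ded_14_2 (flp_b L7881) (flp_d L7791) L15882
theorem L15886 : sm gc N1600 = N3299 := rfl
theorem L15888 : sm ga N3299 = N1601 := ded_8_1 (flp_c L7793) L7789 L15886
theorem L15890 : sm gf N1600 = N3300 := rfl
theorem L15894 : sm gd N3300 = N1622 := ded_23_1 (flp_f L7887) (flp_d L7791) L15890
theorem L15898 : sm gd N1601 = N3301 := rfl
theorem L15900 : sm gf N1601 = N3302 := rfl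
theorem L15902 : sm gc N3302 = N1602 := ded_20_1 (flp_f L7795) L7793 L15900
theorem L15904 : sm gg N1602 = N3303 := rfl
theorem L15912 : sm ga N1603 = N3304 := rfl
theorem L15914 : sm gd N3304 = N1878 := ded_9_2 (flp_a L9105) (flp_d L7801) L15912
theorem L15916 : sm gf N1603 = N3305 := rfl
theorem L15918 : sm gd N3305 = N1879 := ded_23_1 (flp_f L9107) (flp_d L7801) L15916
theorem L15920 : sm gg N1603 = N3306 := rfl
theorem L15922 : sm gd N3306 = N1880 := ded_24_1 (flp_g L9109) (flp_d L7801) L15920
theorem L15924 : sm gb N1604 = N3307 := rfl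
theorem L15926 : sm gd N3307 = N1881 := ded_14_2 (flp_b L9111) (flp_d L7809) L15924
theorem L15928 : sm gb N1605 = N3308 := rfl
theorem L15930 : sm gd N3308 = N1883 := ded_14_2 (flp_b L9119) (flp_d L7817) L15928
theorem L15936 : sm gc N1606 = N3310 := rfl
theorem L15938 : sm gg N1606 = N3311 := rfl
theorem L15942 : sm ga N1607 = N3312 := rfl
theorem L15946 : sm gc N1607 = N3313 := rfl
theorem L15948 : sm gf N1607 = N3314 := rfl
theorem L15950 : sm gd N3314 = N1613 := ded_23_1 (flp_f L7851) (flp_d L7825) L15948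
theorem L15952 : sm gb N1608 = N3315 := rfl
theorem L15954 : sm ge N3315 = N1614 := ded_15_2 (flp_b L7855) (flp_e L7829) L15952
theorem L15962 : sm gg N1608 = N3317 := rfl
theorem L15968 : sm gf N3317 = N3258 := ded_29_2 (flp_g L15692) L15679 L15683 L15962
theorem L15970 : sm gd N1609 = N3318 := rfl
theorem L15972 : sm gb N3318 = N1626 := ded_14_1 (flp_d L7907) (flp_b L7835) L15970
theorem L15974 : sm gg N1609 = N3319 := rfl
theorem L15992 : sm gc N1611 = N3322 := rfl
theorem L15996 : sm ge N3322 = N1621 := ded_19_2 (flp_c L7883) (flp_e L7843) L15992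
theorem L15998 : sm gf N1611 = N3323 := rfl
theorem L16002 : sm ge N3323 = N1622 := ded_25_1 (flp_f L7887) (flp_e L7843) L15998
theorem L16006 : sm gd N1612 = N3324 := rfl
theorem L16008 : sm gb N3324 = N1627 := ded_14_1 (flp_d L7911) (flp_b L7849) L16006
theorem L16010 : sm gf N1612 = N3325 := rfl
theorem L16012 : sm gc N3325 = N1613 := ded_20_1 (flp_f L7851) L7845 L16010
theorem L16014 : sm ge N3325 = N1624 := ded_25_1 (flp_f L7897) (flp_e L7847) L16010
theorem L16016 : sm gg N1613 = N3326 := rfl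
theorem L16024 : sm ga N1614 = N3327 := rfl
theorem L16026 : sm gb N3327 = N1913 := ded_7_2 (flp_a L9275) (flp_b L4681) (flp_a L2428) (flp_b L1216) (flp_a L1037) L2097 L4039 L7855 L16024
theorem L16030 : sm gf N1614 = N3329 := rfl
theorem L16032 : sm gb N3329 = N2057 := ded_16_1 (flp_f L15727) (flp_b L15721) L7725 L7855 L16030
theorem L16034 : sm gg N1614 = N3330 := rfl
theorem L16040 : sm gd N1615 = N3332 := rfl
theorem L16042 : sm ga N3332 = N1617 := ded_9_1 (flp_d L7867) (flp_a L7859) L16040
theorem L16052 : sm gb N1616 = N3334 := rfl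
theorem L16054 : sm gc N1617 = N3335 := rfl
theorem L16056 : sm ge N1617 = N3336 := rfl
theorem L16060 : sm gg N1617 = N3337 := rfl
theorem L16072 : sm gb N1619 = N3339 := rfl
theorem L16074 : sm ga N1620 = N3340 := rfl
theorem L16076 : sm gb N3340 = N1936 := ded_7_2 (flp_a L9363) (flp_b L4721) (flp_a L2438) (flp_b L1224) (flp_a L1043) L2099 L4047 L7881 L16074
theorem L16078 : sm gc N1620 = N3341 := rfl
theorem L16080 : sm gf N1620 = N3342 := rfl
theorem L16082 : sm gg N1620 = N3343 := rfl
theorem L16084 : sm gb N1621 = N3344 := rfl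
theorem L16086 : sm gd N1621 = N3345 := rfl
theorem L16088 : sm ga N3345 = N1623 := ded_9_1 (flp_d L7893) (flp_a L7885) L16086
theorem L16098 : sm gb N1622 = N3347 := rfl
theorem L16100 : sm gc N1623 = N3348 := rfl
theorem L16102 : sm ge N1623 = N3349 := rfl
theorem L16110 : sm gg N1624 = N3351 := rfl
theorem L16116 : sm gf N3273 = N3351 := ded_29_0 (flp_g L16110) (flp_f L7897) (flp_g L7742) (flp_a L15764)
theorem L16118 : sm gb N1625 = N3352 := rfl
theorem L16125 : sm ge N1626 = N3354 := rfl
theorem L16142 : sm gb N1628 = N3357 := rfl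
theorem L16144 : sm gd N3357 = N1631 := ded_14_2 (flp_b L7931) L7921 L16142
theorem L16146 : sm ge N1628 = N3358 := rfl
theorem L16152 : sm gg N3358 = N1730 := ded_26_2 (flp_e L8377) (flp_g L7919) L16146
theorem L16163 : sm gg N1631 = N3362 := rfl
theorem L16167 : sm gd N1632 = N3363 := rfl
theorem L16173 : sm gc N1633 = N3364 := rfl
theorem L16175 : sm ga N3364 = N1634 := ded_8_1 (flp_c L7943) L7941 L16173
theorem L16177 : sm gd N1633 = N3365 := rfl
theorem L16179 : sm ga N3365 = N1635 := ded_9_1 (flp_d L7946) L7941 L16177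
theorem L16181 : sm ge N1633 = N3366 := rfl
theorem L16183 : sm ga N3366 = N1636 := ded_10_1 (flp_e L7950) L7941 L16181
theorem L16193 : sm gd N1634 = N3369 := rfl
theorem L16196 : sm ge N1634 = N3370 := rfl
theorem L16199 : sm gc N3370 = N1636 := ded_19_1 (flp_e L7950) L7943 L16196
theorem L16201 : sm gf N1634 = N3371 := rfl
theorem L16205 : sm gg N1634 = N3372 := rfl
theorem L16209 : sm gc N1635 = N3373 := rfl
theorem L16215 : sm gf N1635 = N3375 := rfl
theorem L16219 : sm gg N1635 = N3376 := rfl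
theorem L16227 : sm gf N1636 = N3378 := rfl
theorem L16231 : sm gg N1636 = N3379 := rfl
theorem L16253 : sm gb N1639 = N3384 := rfl
theorem L16261 : sm ge N1639 = N3386 := rfl
theorem L16263 : sm ga N3386 = N1649 := ded_10_1 (flp_e L8004) (flp_a L7960) L16261
theorem L16265 : sm gc N3386 = N1640 := ded_19_1 (flp_e L7962) L7958 L16261
theorem L16273 : sm gg N1639 = N3388 := rfl
theorem L16275 : sm ga N3388 = N1651 := ded_12_1 (flp_g L8014) (flp_a L7960) L16273
theorem L16279 : sm gd N1640 = N3389 := rfl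
theorem L16281 : sm ga N3389 = N1652 := ded_9_1 (flp_d L8018) (flp_a L7964) L16279
theorem L16285 : sm gf N1640 = N3390 := rfl
theorem L16289 : sm ge N3390 = N1641 := ded_25_1 (flp_f L7966) L7962 L16285
theorem L16291 : sm gg N1640 = N3391 := rfl
theorem L16293 : sm ga N3391 = N1654 := ded_12_1 (flp_g L8028) (flp_a L7964) L16291
theorem L16309 : sm gf N1643 = N3395 := rfl
theorem L16311 : sm ga N3395 = N1660 := ded_11_1 (flp_f L8060) (flp_a L7980) L16309
theorem L16315 : sm gg N1643 = N3396 := rfl
theorem L16317 : sm ga N3396 = N1661 := ded_12_1 (flp_g L8064) (flp_a L7980) L16315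
theorem L16347 : sm gf N1648 = N3406 := rfl
theorem L16349 : sm gd N3406 = N1650 := ded_23_1 (flp_f L8010) L8000 L16347
theorem L16351 : sm gg N1648 = N3407 := rfl
theorem L16353 : sm gd N3407 = N1651 := ded_24_1 (flp_g L8014) L8000 L16351
theorem L16359 : sm gf N1649 = N3409 := rfl
theorem L16363 : sm ge N3409 = N1650 := ded_25_1 (flp_f L8010) L8004 L16359
theorem L16365 : sm gg N1649 = N3410 := rfl
theorem L16369 : sm ge N3410 = N1651 := ded_26_1 (flp_g L8014) L8004 L16365
theorem L16371 : sm gb N1650 = N3411 := rfl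
theorem L16373 : sm gf N3411 = N3229 := ded_16_2 (flp_b L15543) (flp_f L7637) (flp_b L4111) L8010 L16371
theorem L16375 : sm gg N1650 = N3412 := rfl
theorem L16379 : sm gf N3388 = N3412 := ded_29_0 (flp_g L16375) (flp_f L8010) L8014 (flp_a L16275)
theorem L16381 : sm gb N1651 = N3413 := rfl
theorem L16383 : sm gg N3413 = N3231 := ded_17_2 (flp_b L15551) (flp_g L7641) (flp_b L4111) L8014 L16381
theorem L16393 : sm gc N1652 = N3415 := rfl
theorem L16395 : sm ge N3415 = N1659 := ded_19_2 (flp_c L8058) (flp_e L8022) L16393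
theorem L16397 : sm gf N1652 = N3416 := rfl
theorem L16399 : sm gd N3416 = N1653 := ded_23_1 (flp_f L8024) L8018 L16397
theorem L16401 : sm ge N3416 = N1660 := ded_25_1 (flp_f L8060) (flp_e L8022) L16397
theorem L16403 : sm gg N1652 = N3417 := rfl
theorem L16407 : sm ge N3417 = N1661 := ded_26_1 (flp_g L8064) (flp_e L8022) L16403
theorem L16409 : sm gb N1653 = N3418 := rfl
theorem L16411 : sm ge N3418 = N1655 := ded_15_2 (flp_b L8032) (flp_e L8026) L16409
theorem L16413 : sm gf N3418 = N1677 := ded_16_2 (flp_b L8138) (flp_f L4163) (flp_b L4115) L8024 L16409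
theorem L16415 : sm gg N1653 = N3419 := rfl
theorem L16419 : sm gf N3391 = N3419 := ded_29_0 (flp_g L16415) (flp_f L8024) L8028 (flp_a L16293)
theorem L16421 : sm gb N1654 = N3420 := rfl
theorem L16425 : sm gg N3420 = N1679 := ded_17_2 (flp_b L8150) (flp_g L4169) (flp_b L4115) L8028 L16421
theorem L16435 : sm ga N1655 = N3422 := rfl
theorem L16439 : sm gf N3422 = N1681 := ded_11_2 (flp_a L8164) (flp_f L8036) L16435
theorem L16441 : sm gc N1655 = N3423 := rfl
theorem L16443 : sm gf N3423 = N1682 := ded_20_2 (flp_c L8168) (flp_f L8036) L16441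
theorem L16471 : sm gb N1659 = N3430 := rfl
theorem L16475 : sm gd N1659 = N3431 := rfl
theorem L16477 : sm gf N1659 = N3432 := rfl
theorem L16485 : sm gb N1660 = N3434 := rfl
theorem L16487 : sm gd N3434 = N1662 := ded_14_2 (flp_b L8068) (flp_d L8062) L16485
theorem L16489 : sm gf N3434 = N1692 := ded_16_2 (flp_b L8206) (flp_f L4203) (flp_b L4127) L8060 L16485
theorem L16491 : sm gg N1660 = N3435 := rfl
theorem L16495 : sm gf N3396 = N3435 := ded_29_0 (flp_g L16491) (flp_f L8060) L8064 (flp_a L16317)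
theorem L16497 : sm gb N1661 = N3436 := rfl
theorem L16501 : sm gg N3436 = N1694 := ded_17_2 (flp_b L8216) (flp_g L4207) (flp_b L4127) L8064 L16497
theorem L16503 : sm gf N1661 = N3437 := rfl
theorem L16505 : sm ga N3437 = N3435 := ded_11_1 (flp_f L16495) L16317 L16503
theorem L16509 : sm gg N3437 = N3395 := ded_29_3 L16311 (flp_f L8060) L8064 L16503
theorem L16511 : sm ga N1662 = N3438 := rfl
theorem L16513 : sm ge N3438 = N1666 := ded_10_2 (flp_a L8096) (flp_e L8070) L16511
theorem L16515 : sm gf N3438 = N1696 := ded_11_2 (flp_a L8228) (flp_f L8072) L16511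
theorem L16517 : sm gc N1662 = N3439 := rfl
theorem L16521 : sm gf N3439 = N1697 := ded_20_2 (flp_c L8232) (flp_f L8072) L16517
theorem L16524 : sm gg N1662 = N3440 := rfl
theorem L16532 : sm ga N1664 = N3442 := rfl
theorem L16536 : sm gg N3442 = N1700 := ded_12_2 (flp_a L8246) (flp_g L8085) L16532
theorem L16538 : sm gc N1664 = N3443 := rfl
theorem L16542 : sm gg N3443 = N1701 := ded_21_2 (flp_c L8250) (flp_g L8085) L16538
theorem L16555 : sm gc N1666 = N3447 := rfl
theorem L16557 : sm ga N3447 = N1667 := ded_8_1 (flp_c L8100) L8096 L16555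
theorem L16559 : sm gf N3447 = N1705 := ded_20_2 (flp_c L8266) (flp_f L8098) L16555
theorem L16561 : sm gd N1667 = N3448 := rfl
theorem L16564 : sm gf N3448 = N1707 := ded_23_2 (flp_d L8276) (flp_f L8102) L16561
theorem L16566 : sm gg N1667 = N3449 := rfl
theorem L16585 : sm gc N1670 = N3455 := rfl
theorem L16587 : sm ga N3455 = N1671 := ded_8_1 (flp_c L8113) L8109 L16585
theorem L16589 : sm gg N3455 = N1715 := ded_21_2 (flp_c L8306) (flp_g L8111) L16585
theorem L16591 : sm gd N1671 = N3456 := rfl
theorem L16594 : sm gg N3456 = N1717 := ded_24_2 (flp_d L8316) (flp_g L8115) L16591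
theorem L16613 : sm gb N1674 = N3462 := rfl
theorem L16615 : sm ge N3462 = N1689 := ded_15_2 (flp_b L8196) (flp_e L8124) L16613
theorem L16617 : sm gd N1674 = N3463 := rfl
theorem L16619 : sm gc N1843 = N3463 := ded_28_0 (flp_d L16617) (flp_c L8122) (flp_d L4159) L2149 L3987 L7749 L15794 L15796
theorem L16627 : sm gg N1674 = N3465 := rfl
theorem L16631 : sm ge N3465 = N1691 := ded_26_1 (flp_g L8202) (flp_e L8124) L16627
theorem L16639 : sm gg N1675 = N3467 := rfl
theorem L16641 : sm gd N3467 = N1678 := ded_24_1 (flp_g L8142) (flp_d L8128) L16639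
theorem L16643 : sm ge N3467 = N1693 := ded_26_1 (flp_g L8210) (flp_e L8130) L16639
theorem L16645 : sm gf N1833 = N3467 := ded_29_0 (flp_g L16639) (flp_f L8126) L8132 (flp_a L8891)
theorem L16647 : sm gb N1676 = N3468 := rfl
theorem L16649 : sm gd N3468 = N1679 := ded_14_2 (flp_b L8150) (flp_d L8134) L16647
theorem L16651 : sm ge N3468 = N1694 := ded_15_2 (flp_b L8216) (flp_e L8136) L16647
theorem L16663 : sm ga N1677 = N3470 := rfl
theorem L16665 : sm ge N3470 = N1681 := ded_10_2 (flp_a L8164) (flp_e L8140) L16663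
theorem L16677 : sm gb N1678 = N3473 := rfl
theorem L16679 : sm ge N3473 = N1684 := ded_15_2 (flp_b L8176) (flp_e L8146) L16677
theorem L16681 : sm ga N1679 = N3474 := rfl
theorem L16691 : sm gf N1679 = N3476 := rfl
theorem L16693 : sm ge N3476 = N1687 := ded_25_1 (flp_f L8188) (flp_e L8152) L16691
theorem L16695 : sm gb N1680 = N3477 := rfl
theorem L16697 : sm ge N3477 = N1688 := ded_15_2 (flp_b L8192) (flp_e L8160) L16695
theorem L16699 : sm gb N1681 = N3478 := rfl
theorem L16701 : sm gd N3478 = N1704 := ded_14_2 (flp_b L8264) (flp_d L8166) L16699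
theorem L16703 : sm gc N1681 = N3479 := rfl
theorem L16705 : sm ga N3479 = N1682 := ded_8_1 (flp_c L8168) L8164 L16703
theorem L16715 : sm gd N1682 = N3481 := rfl
theorem L16717 : sm gb N3481 = N3295 := ded_14_1 (flp_d L15868) (flp_b L8170) L16715
theorem L16719 : sm gg N1682 = N3482 := rfl
theorem L16721 : sm gc N3482 = N1683 := ded_21_1 (flp_g L8172) L8168 L16719
theorem L16729 : sm gf N1683 = N3484 := rfl
theorem L16737 : sm ga N1684 = N3485 := rfl
theorem L16739 : sm gd N3485 = N1711 := ded_9_2 (flp_a L8294) (flp_d L8178) L16737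
theorem L16741 : sm gc N1684 = N3486 := rfl
theorem L16743 : sm gb N3486 = N1876 := ded_13_1 (flp_c L9097) (flp_b L4609) (flp_c L4181) L8176 L16741
theorem L16775 : sm gb N1687 = N3493 := rfl
theorem L16779 : sm gf N3493 = N1688 := ded_16_2 (flp_b L8192) (flp_f L4191) L4187 L8188 L16775
theorem L16789 : sm ga N1688 = N3495 := rfl
theorem L16791 : sm gd N3495 = N1721 := ded_9_2 (flp_a L8334) (flp_d L8194) L16789
theorem L16793 : sm gc N1688 = N3496 := rfl
theorem L16795 : sm gb N3496 = N1866 := ded_13_1 (flp_c L9049) (flp_b L4595) (flp_c L4195) L8192 L16793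
theorem L16797 : sm gg N1688 = N3497 := rfl
theorem L16799 : sm gd N3497 = N1723 := ded_24_1 (flp_g L8340) (flp_d L8194) L16797
theorem L16803 : sm ga N1689 = N3498 := rfl
theorem L16805 : sm gf N1689 = N3499 := rfl
theorem L16807 : sm gg N1689 = N3500 := rfl
theorem L16817 : sm gb N1691 = N3503 := rfl
theorem L16835 : sm gg N1692 = N3507 := rfl
theorem L16837 : sm gd N3507 = N1698 := ded_24_1 (flp_g L8238) (flp_d L8208) L16835
theorem L16839 : sm gb N1693 = N3508 := rfl
theorem L16841 : sm gd N3508 = N1699 := ded_14_2 (flp_b L8242) (flp_d L8212) L16839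
theorem L16843 : sm ga N1694 = N3509 := rfl
theorem L16847 : sm gc N1694 = N3510 := rfl
theorem L16849 : sm gf N1694 = N3511 := rfl
theorem L16853 : sm gb N1695 = N3512 := rfl
theorem L16855 : sm gd N3512 = N1703 := ded_14_2 (flp_b L8260) (flp_d L8224) L16853
theorem L16857 : sm gb N1696 = N3513 := rfl
theorem L16859 : sm ge N3513 = N1704 := ded_15_2 (flp_b L8264) (flp_e L8230) L16857
theorem L16867 : sm gg N1696 = N3515 := rfl
theorem L16873 : sm gf N3515 = N3440 := ded_29_2 (flp_g L16524) L16511 L16515 L16867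
theorem L16879 : sm gg N1697 = N3517 := rfl
theorem L16885 : sm gb N1698 = N3518 := rfl
theorem L16887 : sm ge N3518 = N1709 := ded_15_2 (flp_b L8284) (flp_e L8240) L16885
theorem L16889 : sm gg N3518 = N1699 := ded_17_2 (flp_b L8242) (flp_g L4215) L4211 L8238 L16885
theorem L16899 : sm ga N1699 = N3520 := rfl
theorem L16901 : sm ge N3520 = N1711 := ded_10_2 (flp_a L8294) (flp_e L8244) L16899
theorem L16903 : sm gc N1699 = N3521 := rfl
theorem L16905 : sm ge N3521 = N1712 := ded_19_2 (flp_c L8296) (flp_e L8244) L16903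
theorem L16907 : sm gb N3521 = N1726 := ded_13_1 (flp_c L8355) (flp_b L4263) (flp_c L4217) L8242 L16903
theorem L16909 : sm gf N1699 = N3522 := rfl
theorem L16911 : sm ge N3522 = N1713 := ded_25_1 (flp_f L8300) (flp_e L8244) L16909
theorem L16919 : sm gc N1700 = N3524 := rfl
theorem L16925 : sm gf N1700 = N3525 := rfl
theorem L16929 : sm ge N3525 = N1716 := ded_25_1 (flp_f L8310) (flp_e L8248) L16925
theorem L16933 : sm gd N1701 = N3526 := rfl
theorem L16943 : sm gb N1702 = N3528 := rfl
theorem L16945 : sm ge N3528 = N1719 := ded_15_2 (flp_b L8324) (flp_e L8258) L16943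
theorem L16947 : sm gf N3528 = N1703 := ded_16_2 (flp_b L8260) (flp_f L4227) L4223 L8256 L16943
theorem L16957 : sm ga N1703 = N3530 := rfl
theorem L16973 : sm ga N1704 = N3533 := rfl
theorem L16977 : sm gf N1704 = N3535 := rfl
theorem L16979 : sm gg N1704 = N3536 := rfl
theorem L16987 : sm gg N1705 = N3539 := rfl
theorem L16993 : sm gf N3539 = N3449 := ded_29_2 (flp_g L16566) (flp_a L16557) L16559 L16987
theorem L16997 : sm gc N1707 = N3541 := rfl
theorem L17003 : sm gg N1707 = N3543 := rfl
theorem L17019 : sm gc N1709 = N3546 := rfl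
theorem L17021 : sm gg N3546 = N1712 := ded_21_2 (flp_c L8296) (flp_g L8286) L17019
theorem L17023 : sm gf N1709 = N3547 := rfl
theorem L17027 : sm gb N1711 = N3549 := rfl
theorem L17033 : sm gf N1711 = N3551 := rfl
theorem L17043 : sm gf N1712 = N3553 := rfl
theorem L17045 : sm gc N3553 = N1713 := ded_20_1 (flp_f L8300) L8296 L17043
theorem L17063 : sm gd N1715 = N3560 := rfl
theorem L17079 : sm ge N1717 = N3564 := rfl
theorem L17087 : sm gb N1718 = N3566 := rfl
theorem L17089 : sm gf N3566 = N1736 := ded_16_2 (flp_b L8411) (flp_f L4306) (flp_b L4251) L8320 L17087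
theorem L17093 : sm gg N1718 = N3567 := rfl
theorem L17099 : sm gf N3455 = N3567 := ded_29_0 (flp_g L17093) (flp_f L8320) (flp_g L8115) (flp_a L16587)
theorem L17115 : sm gb N1721 = N3572 := rfl
theorem L17135 : sm gf N1723 = N3577 := rfl
theorem L17146 : sm ge N1724 = N3579 := rfl
theorem L17150 : sm gd N3579 = N1730 := ded_22_1 (flp_e L8377) (flp_d L4290) (flp_e L4260) L8344 L17146
theorem L17152 : sm gb N1725 = N3580 := rfl
theorem L17155 : sm ge N3580 = N1731 := ded_15_2 (flp_b L8381) (flp_e L8351) L17152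
theorem L17161 : sm ga N2474 = N3580 := ded_10_3 L17155 (flp_a L8389) (flp_e L11939)
theorem L17171 : sm gd N1726 = N3582 := rfl
theorem L17190 : sm gb N1728 = N3586 := rfl
theorem L17192 : sm ge N3586 = N1736 := ded_15_2 (flp_b L8411) (flp_e L8368) L17190
theorem L17194 : sm gc N3586 = N1995 := ded_13_2 L9639 L4910 L4281 (flp_c L8366) L17190
theorem L17196 : sm gd N1729 = N3587 := rfl
theorem L17198 : sm gf N3587 = N1999 := ded_23_2 (flp_d L9655) (flp_f L8375) L17196
theorem L17200 : sm gc N1731 = N3588 := rfl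
theorem L17206 : sm gg N3588 = N2476 := ded_21_2 (flp_c L11946) (flp_g L8385) L17200
theorem L17208 : sm gb N1732 = N3589 := rfl
theorem L17242 : sm ga N1736 = N3595 := rfl
theorem L17251 : sm ge N1737 = N3597 := rfl
theorem L17253 : sm gc N3597 = N2420 := ded_19_1 L11668 L8421 L17251
theorem L17267 : sm gf N1738 = N3600 := rfl
theorem L17271 : sm gc N3600 = N1741 := ded_20_1 (flp_f L8437) L8423 L17267
theorem L17273 : sm gg N1738 = N3601 := rfl
theorem L17275 : sm ga N3601 = N1746 := ded_12_1 (flp_g L8459) (flp_a L8425) L17273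
theorem L17279 : sm ge N1739 = N3602 := rfl
theorem L17281 : sm ga N3602 = N1747 := ded_10_1 (flp_e L8463) (flp_a L8429) L17279
theorem L17285 : sm gf N1739 = N3603 := rfl
theorem L17287 : sm ga N3603 = N1748 := ded_11_1 (flp_f L8469) (flp_a L8429) L17285
theorem L17301 : sm gd N1740 = N3605 := rfl
theorem L17303 : sm ga N3605 = N1750 := ded_9_1 (flp_d L8481) (flp_a L8435) L17301
theorem L17305 : sm gf N1740 = N3606 := rfl
theorem L17309 : sm ge N3606 = N1741 := ded_25_1 (flp_f L8437) L8433 L17305
theorem L17311 : sm gg N1740 = N3607 := rfl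
theorem L17315 : sm ge N3607 = N1742 := ded_26_1 (flp_g L8441) L8433 L17311
theorem L17317 : sm gb N1741 = N3608 := rfl
theorem L17319 : sm gb N1742 = N3609 := rfl
theorem L17321 : sm ge N1743 = N3610 := rfl
theorem L17323 : sm gb N3610 = N2001 := ded_15_1 (flp_e L9662) (flp_b L8447) L17321
theorem L17325 : sm gf N1743 = N3611 := rfl
theorem L17329 : sm gg N1743 = N3612 := rfl
theorem L17337 : sm gf N1744 = N3614 := rfl
theorem L17341 : sm ge N3614 = N1745 := ded_25_1 (flp_f L8455) L8449 L17337
theorem L17343 : sm gg N1744 = N3615 := rfl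
theorem L17349 : sm gb N1745 = N3616 := rfl
theorem L17351 : sm gf N3616 = N2007 := ded_16_2 (flp_b L9692) (flp_f L4922) (flp_b L4329) L8455 L17349
theorem L17353 : sm gg N1745 = N3617 := rfl
theorem L17357 : sm gf N3601 = N3617 := ded_29_0 (flp_g L17353) (flp_f L8455) L8459 (flp_a L17275)
theorem L17359 : sm gb N1746 = N3618 := rfl
theorem L17361 : sm gg N3618 = N2009 := ded_17_2 (flp_b L9701) (flp_g L4927) (flp_b L4329) L8459 L17359
theorem L17371 : sm gd N1747 = N3620 := rfl
theorem L17373 : sm gb N3620 = N1757 := ded_14_1 (flp_d L8511) (flp_b L8465) L17371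
theorem L17375 : sm ge N3620 = N1750 := ded_22_2 (flp_d L8481) (flp_e L4337) L4331 L8463 L17371
theorem L17377 : sm gf N1747 = N3621 := rfl
theorem L17379 : sm gc N3621 = N1825 := ded_20_1 (flp_f L8841) (flp_c L8467) L17377
theorem L17381 : sm ge N3621 = N1748 := ded_25_1 (flp_f L8469) L8463 L17377
theorem L17383 : sm gg N1747 = N3622 := rfl
theorem L17389 : sm gb N1748 = N3623 := rfl
theorem L17391 : sm gd N3623 = N1753 := ded_14_2 (flp_b L8493) (flp_d L8473) L17389
theorem L17393 : sm gf N3623 = N1760 := ded_16_2 (flp_b L8533) (flp_f L4351) (flp_b L4333) L8469 L17389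
theorem L17403 : sm gb N1749 = N3625 := rfl
theorem L17405 : sm gd N3625 = N1755 := ded_14_2 (flp_b L8501) (flp_d L8479) L17403
theorem L17407 : sm gg N3625 = N1761 := ded_17_2 (flp_b L8537) (flp_g L4359) (flp_b L4333) L8475 L17403
theorem L17409 : sm gf N1749 = N3626 := rfl
theorem L17415 : sm gd N3626 = N1756 := ded_23_1 (flp_f L8505) (flp_d L8479) L17409
theorem L17417 : sm gg N3626 = N3603 := ded_29_3 L17287 (flp_f L8469) L8475 L17409
theorem L17419 : sm gc N1750 = N3627 := rfl
theorem L17421 : sm gf N1750 = N3628 := rfl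
theorem L17423 : sm gd N3628 = N1751 := ded_23_1 (flp_f L8485) L8481 L17421
theorem L17425 : sm gg N1750 = N3629 := rfl
theorem L17427 : sm gd N3629 = N1752 := ded_24_1 (flp_g L8489) L8481 L17425
theorem L17429 : sm gb N1751 = N3630 := rfl
theorem L17431 : sm ge N3630 = N1753 := ded_15_2 (flp_b L8493) (flp_e L8487) L17429
theorem L17433 : sm gf N3630 = N1765 := ded_16_2 (flp_b L8557) (flp_f L4371) (flp_b L4339) L8485 L17429
theorem L17441 : sm gb N1752 = N3632 := rfl
theorem L17443 : sm ge N3632 = N1755 := ded_15_2 (flp_b L8501) (flp_e L8491) L17441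
theorem L17445 : sm gg N3632 = N1766 := ded_17_2 (flp_b L8561) (flp_g L4379) (flp_b L4339) L8489 L17441
theorem L17447 : sm gf N1752 = N3633 := rfl
theorem L17451 : sm ge N3633 = N1756 := ded_25_1 (flp_f L8505) (flp_e L8491) L17447
theorem L17455 : sm gg N1753 = N3634 := rfl
theorem L17457 : sm gb N1754 = N3635 := rfl
theorem L17459 : sm ga N1755 = N3636 := rfl
theorem L17461 : sm gg N3636 = N1770 := ded_12_2 (flp_a L8579) (flp_g L8503) L17459
theorem L17463 : sm gc N1755 = N3637 := rfl
theorem L17467 : sm gf N1755 = N3638 := rfl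
theorem L17469 : sm gb N1756 = N3639 := rfl
theorem L17471 : sm gc N1757 = N3640 := rfl
theorem L17473 : sm ga N3640 = N1773 := ded_8_1 (flp_c L8587) (flp_a L8513) L17471
theorem L17475 : sm ge N3640 = N1762 := ded_19_2 (flp_c L8541) (flp_e L8515) L17471
theorem L17477 : sm gf N1757 = N3641 := rfl
theorem L17479 : sm ga N3641 = N1774 := ded_11_1 (flp_f L8591) (flp_a L8513) L17477
theorem L17481 : sm gd N3641 = N1758 := ded_23_1 (flp_f L8517) L8511 L17477
theorem L17483 : sm ge N3641 = N1763 := ded_25_1 (flp_f L8545) (flp_e L8515) L17477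
theorem L17485 : sm gg N1757 = N3642 := rfl
theorem L17487 : sm ga N3642 = N1775 := ded_12_1 (flp_g L8597) (flp_a L8513) L17485
theorem L17489 : sm gd N3642 = N1759 := ded_24_1 (flp_g L8525) L8511 L17485
theorem L17491 : sm ge N3642 = N1764 := ded_26_1 (flp_g L8551) (flp_e L8515) L17485
theorem L17493 : sm gb N1758 = N3643 := rfl
theorem L17495 : sm ge N3643 = N1760 := ded_15_2 (flp_b L8533) (flp_e L8523) L17493
theorem L17497 : sm gb N1759 = N3644 := rfl
theorem L17499 : sm ge N3644 = N1761 := ded_15_2 (flp_b L8537) (flp_e L8531) L17497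
theorem L17501 : sm ga N1760 = N3645 := rfl
theorem L17503 : sm gd N3645 = N1767 := ded_9_2 (flp_a L8565) (flp_d L8535) L17501
theorem L17505 : sm gc N1760 = N3646 := rfl
theorem L17507 : sm gb N3646 = N1781 := ded_13_1 (flp_c L8637) (flp_b L4405) (flp_c L4355) L8533 L17505
theorem L17509 : sm gg N1760 = N3647 := rfl
theorem L17513 : sm ga N1761 = N3648 := rfl
theorem L17515 : sm gd N3648 = N1770 := ded_9_2 (flp_a L8579) (flp_d L8539) L17513
theorem L17517 : sm gc N1761 = N3649 := rfl
theorem L17519 : sm gb N3649 = N1785 := ded_13_1 (flp_c L8655) (flp_b L4417) (flp_c L4363) L8537 L17517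
theorem L17521 : sm gf N1761 = N3650 := rfl
theorem L17523 : sm gd N3650 = N1772 := ded_23_1 (flp_f L8585) (flp_d L8539) L17521
theorem L17525 : sm gb N1762 = N3651 := rfl
theorem L17527 : sm gf N1762 = N3652 := rfl
theorem L17529 : sm ga N3652 = N1790 := ded_11_1 (flp_f L8673) (flp_a L8543) L17527
theorem L17531 : sm gc N3652 = N1763 := ded_20_1 (flp_f L8545) L8541 L17527
theorem L17533 : sm gg N1762 = N3653 := rfl
theorem L17535 : sm ga N3653 = N1791 := ded_12_1 (flp_g L8677) (flp_a L8543) L17533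
theorem L17537 : sm gc N3653 = N1764 := ded_21_1 (flp_g L8551) L8541 L17533
theorem L17539 : sm gb N1763 = N3654 := rfl
theorem L17541 : sm gd N3654 = N1765 := ded_14_2 (flp_b L8557) (flp_d L8549) L17539
theorem L17543 : sm gb N1764 = N3655 := rfl
theorem L17545 : sm gd N3655 = N1766 := ded_14_2 (flp_b L8561) (flp_d L8555) L17543
theorem L17547 : sm ga N1765 = N3656 := rfl
theorem L17549 : sm ge N3656 = N1767 := ded_10_2 (flp_a L8565) (flp_e L8559) L17547
theorem L17551 : sm gc N3630 = N3656 := ded_19_3 L17549 (flp_c L8573) (flp_e L17431)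
theorem L17553 : sm gc N1765 = N3657 := rfl
theorem L17555 : sm ga N3657 = N3630 := ded_8_1 L17551 (flp_a L17547) L17553
theorem L17561 : sm gb N3657 = N2051 := ded_13_1 (flp_c L9897) (flp_b L5023) (flp_c L4375) L8557 L17553
theorem L17563 : sm gg N1765 = N3658 := rfl
theorem L17567 : sm ga N1766 = N3659 := rfl
theorem L17569 : sm ge N3659 = N1770 := ded_10_2 (flp_a L8579) (flp_e L8563) L17567
theorem L17571 : sm gc N1766 = N3660 := rfl
theorem L17575 : sm gb N3660 = N2054 := ded_13_1 (flp_c L9909) (flp_b L5027) (flp_c L4383) L8561 L17571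
theorem L17577 : sm gf N1766 = N3661 := rfl
theorem L17579 : sm ge N3661 = N1772 := ded_25_1 (flp_f L8585) (flp_e L8563) L17577
theorem L17581 : sm gb N1767 = N3662 := rfl
theorem L17583 : sm gc N3662 = N3616 := ded_13_2 (flp_b L17349) L8457 L8493 L8573 L17581
theorem L17585 : sm gg N1767 = N3663 := rfl
theorem L17587 : sm ga N3663 = N1769 := ded_12_1 (flp_g L8577) L8565 L17585
theorem L17591 : sm gf N3663 = N3634 := ded_29_2 (flp_g L17455) (flp_a L8575) (flp_f L8571) L17585
theorem L17601 : sm gg N1768 = N3665 := rfl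
theorem L17607 : sm gf N1769 = N3665 := ded_29_0 (flp_g L17601) (flp_f L8571) L17585 L17587
theorem L17609 : sm gb N1770 = N3666 := rfl
theorem L17611 : sm gc N1770 = N3667 := rfl
theorem L17613 : sm ga N3667 = N1771 := ded_8_1 (flp_c L8581) L8579 L17611
theorem L17615 : sm gf N1770 = N3668 := rfl
theorem L17617 : sm ga N3668 = N1772 := ded_11_1 (flp_f L8585) L8579 L17615
theorem L17619 : sm gg N3638 = N3668 := ded_29_1 (flp_f L17615) (flp_g L17461) (flp_a L17459) L17467
theorem L17625 : sm gf N1771 = N3670 := rfl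
theorem L17627 : sm gc N3670 = N1772 := ded_20_1 (flp_f L8585) L8581 L17625
theorem L17629 : sm gg N1772 = N3671 := rfl
theorem L17631 : sm ga N3671 = N3638 := ded_12_1 L17619 L17617 L17629
theorem L17633 : sm gf N3636 = N3671 := ded_29_0 (flp_g L17629) (flp_f L8585) (flp_g L8503) L17459
theorem L17635 : sm gb N1773 = N3672 := rfl
theorem L17637 : sm ge N3672 = N1788 := ded_15_2 (flp_b L8667) (flp_e L8589) L17635
theorem L17639 : sm gc N3672 = N1842 := ded_13_2 (flp_b L8929) (flp_c L4547) (flp_b L4393) L8587 L17635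
theorem L17641 : sm gd N1773 = N3673 := rfl
theorem L17643 : sm gc N3673 = N3673 := ded_28_6 (flp_d L17641) (flp_a L17473) (flp_c L17471) (flp_d L8511) L4349 L4391 L8587 L17641
theorem L17644 : sm gf N1773 = N3674 := rfl
theorem L17646 : sm gc N3674 = N1774 := ded_20_1 (flp_f L8591) L8587 L17644
theorem L17648 : sm ge N3674 = N1790 := ded_25_1 (flp_f L8673) (flp_e L8589) L17644
theorem L17650 : sm gg N1773 = N3675 := rfl
theorem L17652 : sm gc N3675 = N1775 := ded_21_1 (flp_g L8597) L8587 L17650
theorem L17654 : sm ge N3675 = N1791 := ded_26_1 (flp_g L8677) (flp_e L8589) L17650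
theorem L17656 : sm gb N1774 = N3676 := rfl
theorem L17658 : sm gd N3676 = N1776 := ded_14_2 (flp_b L8603) (flp_d L8593) L17656
theorem L17660 : sm ge N3676 = N1792 := ded_15_2 (flp_b L8681) (flp_e L8595) L17656
theorem L17662 : sm gf N3676 = N1846 := ded_16_2 (flp_b L8947) (flp_f L4551) (flp_b L4393) L8591 L17656
theorem L17664 : sm gg N1774 = N3677 := rfl
theorem L17666 : sm gd N3677 = N1777 := ded_24_1 (flp_g L8609) (flp_d L8593) L17664
theorem L17668 : sm ge N3677 = N1793 := ded_26_1 (flp_g L8687) (flp_e L8595) L17664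
theorem L17670 : sm gf N3642 = N3677 := ded_29_0 (flp_g L17664) (flp_f L8591) L8597 (flp_a L17487)
theorem L17672 : sm gb N1775 = N3678 := rfl
theorem L17674 : sm gd N3678 = N1778 := ded_14_2 (flp_b L8615) (flp_d L8599) L17672
theorem L17676 : sm ge N3678 = N1794 := ded_15_2 (flp_b L8693) (flp_e L8601) L17672
theorem L17678 : sm gg N3678 = N1848 := ded_17_2 (flp_b L8961) (flp_g L4557) (flp_b L4393) L8597 L17672
theorem L17680 : sm gf N1775 = N3679 := rfl
theorem L17682 : sm ga N3679 = N3677 := ded_11_1 (flp_f L17670) L17487 L17680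
theorem L17684 : sm gd N3679 = N1779 := ded_23_1 (flp_f L8621) (flp_d L8599) L17680
theorem L17686 : sm ge N3679 = N1795 := ded_25_1 (flp_f L8699) (flp_e L8601) L17680
theorem L17688 : sm gg N3679 = N3641 := ded_29_3 L17479 (flp_f L8591) L8597 L17680
theorem L17690 : sm ga N1776 = N3680 := rfl
theorem L17694 : sm gf N3680 = N1850 := ded_11_2 (flp_a L8977) (flp_f L8607) L17690
theorem L17696 : sm gc N1776 = N3681 := rfl
theorem L17700 : sm gf N3681 = N1851 := ded_20_2 (flp_c L8981) (flp_f L8607) L17696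
theorem L17702 : sm gg N1776 = N3682 := rfl
theorem L17704 : sm ge N3682 = N1782 := ded_26_1 (flp_g L8641) (flp_e L8605) L17702
theorem L17706 : sm gb N1777 = N3683 := rfl
theorem L17708 : sm ge N3683 = N1783 := ded_15_2 (flp_b L8645) (flp_e L8611) L17706
theorem L17710 : sm ga N1778 = N3684 := rfl
theorem L17714 : sm gg N3684 = N1854 := ded_12_2 (flp_a L8993) (flp_g L8619) L17710
theorem L17716 : sm gc N1778 = N3685 := rfl
theorem L17718 : sm ge N3685 = N1785 := ded_19_2 (flp_c L8655) (flp_e L8617) L17716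
theorem L17720 : sm gg N3685 = N1855 := ded_21_2 (flp_c L8997) (flp_g L8619) L17716
theorem L17722 : sm gf N1778 = N3686 := rfl
theorem L17724 : sm ge N3686 = N1786 := ded_25_1 (flp_f L8659) (flp_e L8617) L17722
theorem L17726 : sm gb N1779 = N3687 := rfl
theorem L17728 : sm ge N3687 = N1787 := ded_15_2 (flp_b L8663) (flp_e L8627) L17726
theorem L17730 : sm gb N1780 = N3688 := rfl
theorem L17732 : sm gd N3688 = N1804 := ded_14_2 (flp_b L8751) (flp_d L8633) L17730
theorem L17734 : sm gc N1780 = N3689 := rfl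
theorem L17736 : sm ga N3689 = N1781 := ded_8_1 (flp_c L8637) L8631 L17734
theorem L17738 : sm gf N3689 = N1859 := ded_20_2 (flp_c L9013) (flp_f L8635) L17734
theorem L17740 : sm gd N1781 = N3690 := rfl
theorem L17742 : sm gf N3690 = N1861 := ded_23_2 (flp_d L9025) (flp_f L8639) L17740
theorem L17744 : sm gg N1781 = N3691 := rfl
theorem L17746 : sm gc N3691 = N1782 := ded_21_1 (flp_g L8641) L8637 L17744
theorem L17748 : sm gb N1782 = N3692 := rfl
theorem L17750 : sm gd N3692 = N1808 := ded_14_2 (flp_b L8769) (flp_d L8643) L17748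
theorem L17752 : sm gg N3692 = N1783 := ded_17_2 (flp_b L8645) (flp_g L4411) L4405 L8641 L17748
theorem L17754 : sm ga N1783 = N3693 := rfl
theorem L17756 : sm gd N3693 = N1809 := ded_9_2 (flp_a L8773) (flp_d L8647) L17754
theorem L17758 : sm gc N1783 = N3694 := rfl
theorem L17760 : sm gf N1783 = N3695 := rfl
theorem L17764 : sm gb N3695 = N3650 := ded_16_1 (flp_f L17521) (flp_b L8537) L4415 L8645 L17760
theorem L17766 : sm gb N1784 = N3696 := rfl
theorem L17768 : sm gd N3696 = N1812 := ded_14_2 (flp_b L8783) (flp_d L8651) L17766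
theorem L17770 : sm gc N1784 = N3697 := rfl
theorem L17772 : sm ga N3697 = N1785 := ded_8_1 (flp_c L8655) L8649 L17770
theorem L17774 : sm gg N3697 = N1869 := ded_21_2 (flp_c L9061) (flp_g L8653) L17770
theorem L17776 : sm gd N1785 = N3698 := rfl
theorem L17778 : sm gg N3698 = N1871 := ded_24_2 (flp_d L9073) (flp_g L8657) L17776
theorem L17780 : sm gf N1785 = N3699 := rfl
theorem L17782 : sm gc N3699 = N1786 := ded_20_1 (flp_f L8659) L8655 L17780
theorem L17784 : sm gb N1786 = N3700 := rfl
theorem L17786 : sm gd N3700 = N1816 := ded_14_2 (flp_b L8801) (flp_d L8661) L17784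
theorem L17788 : sm gf N3700 = N1787 := ded_16_2 (flp_b L8663) (flp_f L4423) L4417 L8659 L17784
theorem L17790 : sm ga N1787 = N3701 := rfl
theorem L17792 : sm gd N3701 = N1817 := ded_9_2 (flp_a L8805) (flp_d L8665) L17790
theorem L17794 : sm gc N1787 = N3702 := rfl
theorem L17796 : sm gb N3702 = N3694 := ded_13_1 (flp_c L17758) (flp_b L8645) (flp_c L4427) L8663 L17794
theorem L17798 : sm gg N1787 = N3703 := rfl
theorem L17802 : sm gb N3703 = N3647 := ded_17_1 (flp_g L17509) (flp_b L8533) (flp_g L4431) L8663 L17798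
theorem L17804 : sm ga N1788 = N3704 := rfl
theorem L17806 : sm gc N3704 = N1878 := ded_8_2 (flp_a L9105) (flp_c L8669) L17804
theorem L17808 : sm gd N1788 = N3705 := rfl
theorem L17810 : sm gb N3705 = N1789 := ded_14_1 (flp_d L8671) L8667 L17808
theorem L17812 : sm gf N1788 = N3706 := rfl
theorem L17814 : sm gc N3706 = N1879 := ded_20_1 (flp_f L9107) (flp_c L8669) L17812
theorem L17816 : sm gg N1788 = N3707 := rfl
theorem L17818 : sm gc N3707 = N1880 := ded_21_1 (flp_g L9109) (flp_c L8669) L17816
theorem L17820 : sm ge N1789 = N3708 := rfl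
theorem L17822 : sm gf N1789 = N3709 := rfl
theorem L17824 : sm gd N3709 = N1790 := ded_23_1 (flp_f L8673) L8671 L17822
theorem L17826 : sm gg N1789 = N3710 := rfl
theorem L17828 : sm gd N3710 = N1791 := ded_24_1 (flp_g L8677) L8671 L17826
theorem L17830 : sm gb N1790 = N3711 := rfl
theorem L17832 : sm gg N1790 = N3712 := rfl
theorem L17834 : sm gc N3712 = N1793 := ded_21_1 (flp_g L8687) (flp_c L8675) L17832
theorem L17836 : sm gf N3653 = N3712 := ded_29_0 (flp_g L17832) (flp_f L8673) L8677 (flp_a L17535)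
theorem L17838 : sm gb N1791 = N3713 := rfl
theorem L17840 : sm gf N1791 = N3714 := rfl
theorem L17842 : sm ga N3714 = N3712 := ded_11_1 (flp_f L17836) L17535 L17840
theorem L17844 : sm gc N3714 = N1795 := ded_20_1 (flp_f L8699) (flp_c L8679) L17840
theorem L17846 : sm gg N3714 = N3652 := ded_29_3 L17529 (flp_f L8673) L8677 L17840
theorem L17848 : sm ga N1792 = N3715 := rfl
theorem L17850 : sm gd N3715 = N1796 := ded_9_2 (flp_a L8707) (flp_d L8683) L17848
theorem L17852 : sm gf N3715 = N1885 := ded_11_2 (flp_a L9131) (flp_f L8685) L17848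
theorem L17854 : sm gc N1792 = N3716 := rfl
theorem L17856 : sm gf N3716 = N1886 := ded_20_2 (flp_c L9135) (flp_f L8685) L17854
theorem L17858 : sm gg N1792 = N3717 := rfl
theorem L17860 : sm gd N3717 = N1798 := ded_24_1 (flp_g L8721) (flp_d L8683) L17858
theorem L17862 : sm gb N1793 = N3718 := rfl
theorem L17864 : sm gd N3718 = N1799 := ded_14_2 (flp_b L8725) (flp_d L8689) L17862
theorem L17866 : sm ga N1794 = N3719 := rfl
theorem L17868 : sm gd N3719 = N1800 := ded_9_2 (flp_a L8729) (flp_d L8695) L17866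
theorem L17870 : sm gg N3719 = N1889 := ded_12_2 (flp_a L9145) (flp_g L8697) L17866
theorem L17872 : sm gc N1794 = N3720 := rfl
theorem L17874 : sm gg N3720 = N1890 := ded_21_2 (flp_c L9149) (flp_g L8697) L17872
theorem L17876 : sm gf N1794 = N3721 := rfl
theorem L17878 : sm gd N3721 = N1802 := ded_23_1 (flp_f L8743) (flp_d L8695) L17876
theorem L17880 : sm gb N1795 = N3722 := rfl
theorem L17882 : sm gd N3722 = N1803 := ded_14_2 (flp_b L8747) (flp_d L8703) L17880
theorem L17884 : sm gb N1796 = N3723 := rfl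
theorem L17886 : sm ge N3723 = N1804 := ded_15_2 (flp_b L8751) (flp_e L8709) L17884
theorem L17888 : sm gc N1796 = N3724 := rfl
theorem L17890 : sm ga N3724 = N1797 := ded_8_1 (flp_c L8713) L8707 L17888
theorem L17892 : sm ge N3724 = N1805 := ded_19_2 (flp_c L8753) (flp_e L8709) L17888
theorem L17894 : sm gf N3724 = N1894 := ded_20_2 (flp_c L9163) (flp_f L8711) L17888
theorem L17896 : sm gd N1797 = N3725 := rfl
theorem L17898 : sm gb N3725 = N2122 := ded_14_1 (flp_d L10237) (flp_b L8719) L17896
theorem L17900 : sm gf N3725 = N1896 := ded_23_2 (flp_d L9177) (flp_f L8717) L17896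
theorem L17902 : sm gg N1797 = N3726 := rfl
theorem L17904 : sm gc N3726 = N1798 := ded_21_1 (flp_g L8721) L8713 L17902
theorem L17906 : sm ge N3726 = N1807 := ded_26_1 (flp_g L8765) (flp_e L8715) L17902
theorem L17908 : sm gb N1798 = N3727 := rfl
theorem L17910 : sm ge N3727 = N1808 := ded_15_2 (flp_b L8769) (flp_e L8723) L17908
theorem L17912 : sm gg N3727 = N1799 := ded_17_2 (flp_b L8725) (flp_g L4449) L4443 L8721 L17908
theorem L17914 : sm ga N1799 = N3728 := rfl
theorem L17916 : sm ge N3728 = N1809 := ded_10_2 (flp_a L8773) (flp_e L8727) L17914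
theorem L17918 : sm gc N1799 = N3729 := rfl
theorem L17920 : sm ge N3729 = N1810 := ded_19_2 (flp_c L8775) (flp_e L8727) L17918
theorem L17922 : sm gb N3729 = N2126 := ded_13_1 (flp_c L10257) (flp_b L5181) (flp_c L4451) L8725 L17918
theorem L17924 : sm gf N1799 = N3730 := rfl
theorem L17928 : sm gb N3730 = N3661 := ded_16_1 (flp_f L17577) (flp_b L8561) L4455 L8725 L17924
theorem L17930 : sm gb N1800 = N3731 := rfl
theorem L17932 : sm ge N3731 = N1812 := ded_15_2 (flp_b L8783) (flp_e L8731) L17930
theorem L17934 : sm gc N1800 = N3732 := rfl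
theorem L17936 : sm ga N3732 = N1801 := ded_8_1 (flp_c L8735) L8729 L17934
theorem L17938 : sm ge N3732 = N1813 := ded_19_2 (flp_c L8785) (flp_e L8731) L17934
theorem L17940 : sm gg N3732 = N1904 := ded_21_2 (flp_c L9221) (flp_g L8733) L17934
theorem L17942 : sm gd N1801 = N3733 := rfl
theorem L17944 : sm gb N3733 = N2130 := ded_14_1 (flp_d L10279) (flp_b L8741) L17942
theorem L17946 : sm gg N3733 = N1906 := ded_24_2 (flp_d L9235) (flp_g L8739) L17942
theorem L17948 : sm gf N1801 = N3734 := rfl
theorem L17950 : sm gc N3734 = N1802 := ded_20_1 (flp_f L8743) L8735 L17948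
theorem L17952 : sm ge N3734 = N1815 := ded_25_1 (flp_f L8797) (flp_e L8737) L17948
theorem L17954 : sm gb N1802 = N3735 := rfl
theorem L17956 : sm ge N3735 = N1816 := ded_15_2 (flp_b L8801) (flp_e L8745) L17954
theorem L17958 : sm gf N3735 = N1803 := ded_16_2 (flp_b L8747) (flp_f L4463) L4457 L8743 L17954
theorem L17960 : sm ga N1803 = N3736 := rfl
theorem L17962 : sm ge N3736 = N1817 := ded_10_2 (flp_a L8805) (flp_e L8749) L17960
theorem L17964 : sm gc N1803 = N3737 := rfl
theorem L17966 : sm ge N3737 = N1818 := ded_19_2 (flp_c L8807) (flp_e L8749) L17964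
theorem L17968 : sm gb N3737 = N2134 := ded_13_1 (flp_c L10299) (flp_b L5201) (flp_c L4467) L8747 L17964
theorem L17970 : sm gg N1803 = N3738 := rfl
theorem L17972 : sm ge N3738 = N1819 := ded_26_1 (flp_g L8811) (flp_e L8749) L17970
theorem L17974 : sm gb N3738 = N3658 := ded_17_1 (flp_g L17563) (flp_b L8557) (flp_g L4471) L8747 L17970
theorem L17976 : sm ga N1804 = N3739 := rfl
theorem L17978 : sm gc N1804 = N3740 := rfl
theorem L17980 : sm gf N1804 = N3741 := rfl
theorem L17982 : sm gb N3741 = N1915 := ded_16_1 (flp_f L9279) (flp_b L4681) (flp_f L4475) L8751 L17980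
theorem L17984 : sm gg N1804 = N3742 := rfl
theorem L17986 : sm gb N1805 = N3743 := rfl
theorem L17988 : sm ga N3743 = N3743 := ded_7_1 (flp_b L17986) L8755 L4481 (flp_a L5209) L5213 L5209 (flp_b L4481) (flp_a L8755) L17986
theorem L17989 : sm gd N1805 = N3744 := rfl
theorem L17991 : sm ga N3744 = N1806 := ded_9_1 (flp_d L8759) (flp_a L8755) L17989
theorem L17993 : sm gf N3744 = N1918 := ded_23_2 (flp_d L9285) (flp_f L8757) L17989
theorem L17995 : sm gc N1806 = N3745 := rfl
theorem L17997 : sm gf N3745 = N1921 := ded_20_2 (flp_c L9299) (flp_f L8763) L17995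
theorem L17999 : sm ge N1806 = N3746 := rfl
theorem L18001 : sm gb N3746 = N2140 := ded_15_1 (flp_e L10337) (flp_b L8761) L17999
theorem L18003 : sm gf N3746 = N1922 := ded_25_2 (flp_e L9303) (flp_f L8763) L17999
theorem L18005 : sm gg N1806 = N3747 := rfl
theorem L18007 : sm gd N3747 = N1807 := ded_24_1 (flp_g L8765) L8759 L18005
theorem L18009 : sm gb N1807 = N3748 := rfl
theorem L18011 : sm gg N3748 = N2142 := ded_17_2 (flp_b L10345) (flp_g L5219) (flp_b L4481) L8765 L18009
theorem L18013 : sm ga N1808 = N3749 := rfl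
theorem L18015 : sm gg N3749 = N1809 := ded_12_2 (flp_a L8773) (flp_g L8771) L18013
theorem L18017 : sm gc N1808 = N3750 := rfl
theorem L18019 : sm gg N3750 = N1810 := ded_21_2 (flp_c L8775) (flp_g L8771) L18017
theorem L18021 : sm gf N1808 = N3751 := rfl
theorem L18023 : sm gb N1809 = N3752 := rfl
theorem L18025 : sm gc N1809 = N3753 := rfl
theorem L18027 : sm ga N3753 = N1810 := ded_8_1 (flp_c L8775) L8773 L18025
theorem L18029 : sm gf N1809 = N3754 := rfl
theorem L18031 : sm ga N3754 = N1811 := ded_11_1 (flp_f L8779) L8773 L18029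
theorem L18033 : sm gg N3751 = N3754 := ded_29_1 (flp_f L18029) (flp_g L18015) (flp_a L18013) L18021
theorem L18035 : sm gd N1810 = N3755 := rfl
theorem L18037 : sm gb N3755 = N2148 := ded_14_1 (flp_d L10375) (flp_b L8777) L18035
theorem L18039 : sm gf N1810 = N3756 := rfl
theorem L18041 : sm gc N3756 = N1811 := ded_20_1 (flp_f L8779) L8775 L18039
theorem L18043 : sm gg N1811 = N3757 := rfl
theorem L18045 : sm ga N3757 = N3751 := ded_12_1 L18033 L18031 L18043
theorem L18049 : sm ga N1812 = N3758 := rfl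
theorem L18051 : sm gc N1812 = N3759 := rfl
theorem L18053 : sm gf N1812 = N3760 := rfl
theorem L18055 : sm gg N1812 = N3761 := rfl
theorem L18057 : sm gb N3761 = N1939 := ded_17_1 (flp_g L9369) (flp_b L4721) (flp_g L4489) L8783 L18055
theorem L18059 : sm gb N1813 = N3762 := rfl
theorem L18061 : sm gd N1813 = N3763 := rfl
theorem L18063 : sm ga N3763 = N1814 := ded_9_1 (flp_d L8791) (flp_a L8787) L18061
theorem L18065 : sm gg N3763 = N1941 := ded_24_2 (flp_d L9373) (flp_g L8789) L18061
theorem L18067 : sm gc N1814 = N3764 := rfl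
theorem L18069 : sm gg N3764 = N1944 := ded_21_2 (flp_c L9387) (flp_g L8795) L18067
theorem L18071 : sm ge N1814 = N3765 := rfl
theorem L18073 : sm gb N3765 = N2158 := ded_15_1 (flp_e L10409) (flp_b L8793) L18071
theorem L18075 : sm gg N3765 = N1945 := ded_26_2 (flp_e L9389) (flp_g L8795) L18071
theorem L18077 : sm gf N1814 = N3766 := rfl
theorem L18079 : sm gd N3766 = N1815 := ded_23_1 (flp_f L8797) L8791 L18077
theorem L18081 : sm gb N1815 = N3767 := rfl
theorem L18083 : sm gf N3767 = N2160 := ded_16_2 (flp_b L10417) (flp_f L5247) (flp_b L4495) L8797 L18081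
theorem L18085 : sm gg N3767 = N2817 := ded_17_2 (flp_b L13620) L13632 L13636 (flp_g L9383) L18081
theorem L18087 : sm gc N2824 = N3767 := ded_21_3 L18085 L13622 L13650
theorem L18089 : sm ga N1816 = N3768 := rfl
theorem L18091 : sm gf N3768 = N1817 := ded_11_2 (flp_a L8805) (flp_f L8803) L18089
theorem L18093 : sm gc N1816 = N3769 := rfl
theorem L18095 : sm gf N3769 = N1818 := ded_20_2 (flp_c L8807) (flp_f L8803) L18093
theorem L18097 : sm gb N3769 = N2824 := ded_13_1 L18087 (flp_b L18081) L8799 L8801 L18093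
theorem L18099 : sm gg N2809 = N3769 := ded_17_0 L18097 (flp_g L13650) (flp_b L6679) (flp_g L6660) L13584
theorem L18101 : sm gg N1816 = N3770 := rfl
theorem L18103 : sm gc N3770 = N2809 := ded_21_1 L18099 (flp_c L18093) L18101
theorem L18105 : sm gb N3770 = N2806 := ded_17_1 L13640 (flp_b L9385) (flp_g L4731) L8801 L18101
theorem L18107 : sm gb N1817 = N3771 := rfl
theorem L18109 : sm gc N1817 = N3772 := rfl
theorem L18111 : sm ga N3772 = N1818 := ded_8_1 (flp_c L8807) L8805 L18109
theorem L18113 : sm gg N1817 = N3773 := rfl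
theorem L18115 : sm ga N3773 = N1819 := ded_12_1 (flp_g L8811) L8805 L18113
theorem L18117 : sm gf N3773 = N3770 := ded_29_2 (flp_g L18101) L18089 L18091 L18113
theorem L18119 : sm gd N1818 = N3774 := rfl
theorem L18121 : sm gb N3774 = N2166 := ded_14_1 (flp_d L10447) (flp_b L8809) L18119
theorem L18123 : sm gg N1818 = N3775 := rfl
theorem L18127 : sm gf N1819 = N3776 := rfl
theorem L18129 : sm ga N3776 = N3770 := ded_11_1 (flp_f L18117) L18115 L18127
theorem L18131 : sm gg N3776 = N3768 := ded_29_3 (flp_a L18089) L8803 L8811 L18127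
theorem L18133 : sm ga N1820 = N3777 := rfl
theorem L18137 : sm gb N3777 = N3365 := ded_7_2 L16179 L7948 L4092 L2134 (flp_a L1188) L2332 L4501 L8815 L18133
theorem L18141 : sm ge N1820 = N3779 := rfl
theorem L18143 : sm gb N3779 = N1821 := ded_15_1 (flp_e L8819) L8815 L18141
theorem L18145 : sm gf N1820 = N3780 := rfl
theorem L18147 : sm gd N3780 = N3129 := ded_23_1 (flp_f L15099) (flp_d L8817) L18145
theorem L18153 : sm gd N1821 = N3782 := rfl
theorem L18155 : sm ga N3782 = N1824 := ded_9_1 (flp_d L8835) (flp_a L8821) L18153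
theorem L18179 : sm gc N1824 = N3787 := rfl
theorem L18181 : sm ge N3787 = N3136 := ded_19_2 (flp_c L15123) (flp_e L8839) L18179
theorem L18183 : sm gf N1824 = N3788 := rfl
theorem L18189 : sm gg N1824 = N3789 := rfl
theorem L18193 : sm ge N3789 = N3138 := ded_26_1 (flp_g L15129) (flp_e L8839) L18189
theorem L18195 : sm gb N1825 = N3790 := rfl
theorem L18199 : sm gf N3790 = N1834 := ded_16_2 (flp_b L8897) (flp_f L4523) (flp_b L4507) L8841 L18195
theorem L18201 : sm gg N1825 = N3791 := rfl
theorem L18207 : sm gb N1826 = N3792 := rfl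
theorem L18209 : sm ge N3792 = N1829 := ded_15_2 (flp_b L8861) (flp_e L8847) L18207
theorem L18211 : sm gg N3792 = N1835 := ded_17_2 (flp_b L8901) (flp_g L4531) (flp_b L4507) L8845 L18207
theorem L18221 : sm ga N1827 = N3794 := rfl
theorem L18223 : sm gd N3794 = N3143 := ded_9_2 (flp_a L15159) (flp_d L8851) L18221
theorem L18225 : sm gf N3794 = N1836 := ded_11_2 (flp_a L8905) (flp_f L8853) L18221
theorem L18227 : sm gc N1827 = N3795 := rfl
theorem L18229 : sm gf N3795 = N1837 := ded_20_2 (flp_c L8909) (flp_f L8853) L18227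
theorem L18239 : sm ga N1829 = N3798 := rfl
theorem L18243 : sm gg N3798 = N1839 := ded_12_2 (flp_a L8917) (flp_g L8865) L18239
theorem L18245 : sm gc N1829 = N3799 := rfl
theorem L18247 : sm gg N3799 = N1840 := ded_21_2 (flp_c L8921) (flp_g L8865) L18245
theorem L18249 : sm gf N1829 = N3800 := rfl
theorem L18251 : sm gd N3800 = N3148 := ded_23_1 (flp_f L15175) (flp_d L8863) L18249
theorem L18257 : sm gb N1831 = N3802 := rfl
theorem L18259 : sm ge N3802 = N3150 := ded_15_2 (flp_b L15179) (flp_e L8879) L18257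
theorem L18261 : sm gd N1831 = N3803 := rfl
theorem L18263 : sm ga N3803 = N3463 := ded_9_1 (flp_d L16617) (flp_a L8877) L18261
theorem L18267 : sm gc N3281 = N3803 := ded_28_0 (flp_d L18261) (flp_c L8875) (flp_d L4517) L2340 L2358 L4547 L8933 (flp_a L15796)
theorem L18297 : sm ga N1834 = N3808 := rfl
theorem L18299 : sm ge N3808 = N1836 := ded_10_2 (flp_a L8905) (flp_e L8899) L18297
theorem L18301 : sm gc N1834 = N3809 := rfl
theorem L18305 : sm gb N3809 = N1851 := ded_13_1 (flp_c L8981) (flp_b L4563) (flp_c L4527) L8897 L18301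
theorem L18307 : sm gg N1834 = N3810 := rfl
theorem L18309 : sm ge N3810 = N1838 := ded_26_1 (flp_g L8913) (flp_e L8899) L18307
theorem L18311 : sm ga N1835 = N3811 := rfl
theorem L18313 : sm ge N3811 = N1839 := ded_10_2 (flp_a L8917) (flp_e L8903) L18311
theorem L18315 : sm gc N1835 = N3812 := rfl
theorem L18319 : sm gb N3812 = N1855 := ded_13_1 (flp_c L8997) (flp_b L4573) (flp_c L4535) L8901 L18315
theorem L18321 : sm gf N1835 = N3813 := rfl
theorem L18329 : sm gc N1836 = N3815 := rfl
theorem L18349 : sm gf N1838 = N3819 := rfl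
theorem L18355 : sm gg N3819 = N3794 := ded_29_3 (flp_a L18221) L8853 L8913 L18349
theorem L18357 : sm gb N1839 = N3820 := rfl
theorem L18359 : sm gd N3820 = N3166 := ded_14_2 (flp_b L15255) (flp_d L8919) L18357
theorem L18361 : sm gc N1839 = N3821 := rfl
theorem L18363 : sm ga N3821 = N1840 := ded_8_1 (flp_c L8921) L8917 L18361
theorem L18365 : sm gf N1839 = N3822 := rfl
theorem L18371 : sm gg N3800 = N3822 := ded_29_1 (flp_f L18365) (flp_g L18243) (flp_a L18239) L18249
theorem L18373 : sm gd N1840 = N3823 := rfl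
theorem L18389 : sm ga N1842 = N3826 := rfl
theorem L18391 : sm ge N3826 = N1878 := ded_10_2 (flp_a L9105) (flp_e L8931) L18389
theorem L18393 : sm gd N1842 = N3827 := rfl
theorem L18395 : sm gb N3827 = N1843 := ded_14_1 (flp_d L8933) L8929 L18393
theorem L18397 : sm gf N1842 = N3828 := rfl
theorem L18399 : sm ge N3828 = N1879 := ded_25_1 (flp_f L9107) (flp_e L8931) L18397
theorem L18401 : sm gg N1842 = N3829 := rfl
theorem L18403 : sm ge N3829 = N1880 := ded_26_1 (flp_g L9109) (flp_e L8931) L18401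
theorem L18405 : sm gf N1843 = N3830 := rfl
theorem L18407 : sm gd N3830 = N1844 := ded_23_1 (flp_f L8935) L8933 L18405
theorem L18409 : sm gg N1843 = N3831 := rfl
theorem L18411 : sm gd N3831 = N1845 := ded_24_1 (flp_g L8941) L8933 L18409
theorem L18413 : sm gb N1844 = N3832 := rfl
theorem L18415 : sm ge N3832 = N1881 := ded_15_2 (flp_b L9111) (flp_e L8939) L18413
theorem L18417 : sm gg N1844 = N3833 := rfl
theorem L18419 : sm gc N3833 = N1847 := ded_21_1 (flp_g L8953) (flp_c L8937) L18417
theorem L18421 : sm ge N3833 = N1882 := ded_26_1 (flp_g L9113) (flp_e L8939) L18417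
theorem L18423 : sm gf N3283 = N3833 := ded_29_0 (flp_g L18417) (flp_f L8935) L8941 (flp_a L15810)
theorem L18425 : sm gb N1845 = N3834 := rfl
theorem L18427 : sm ge N3834 = N1883 := ded_15_2 (flp_b L9119) (flp_e L8945) L18425
theorem L18429 : sm gf N1845 = N3835 := rfl
theorem L18431 : sm ga N3835 = N3833 := ded_11_1 (flp_f L18423) L15810 L18429
theorem L18433 : sm gc N3835 = N1849 := ded_20_1 (flp_f L8967) (flp_c L8943) L18429
theorem L18435 : sm ge N3835 = N1884 := ded_25_1 (flp_f L9121) (flp_e L8945) L18429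
theorem L18437 : sm gg N3835 = N3282 := ded_29_3 L15802 (flp_f L8935) L8941 L18429
theorem L18439 : sm ga N1846 = N3836 := rfl
theorem L18441 : sm gd N3836 = N1850 := ded_9_2 (flp_a L8977) (flp_d L8949) L18439
theorem L18443 : sm ge N3836 = N1885 := ded_10_2 (flp_a L9131) (flp_e L8951) L18439
theorem L18445 : sm gc N1846 = N3837 := rfl
theorem L18447 : sm ge N3837 = N1886 := ded_19_2 (flp_c L9135) (flp_e L8951) L18445
theorem L18449 : sm gg N1846 = N3838 := rfl
theorem L18451 : sm gd N3838 = N1852 := ded_24_1 (flp_g L8985) (flp_d L8949) L18449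
theorem L18453 : sm ge N3838 = N1887 := ded_26_1 (flp_g L9137) (flp_e L8951) L18449
theorem L18455 : sm gb N1847 = N3839 := rfl
theorem L18457 : sm gd N3839 = N1853 := ded_14_2 (flp_b L8989) (flp_d L8955) L18455
theorem L18459 : sm ge N3839 = N1888 := ded_15_2 (flp_b L9141) (flp_e L8957) L18455
theorem L18461 : sm ga N1848 = N3840 := rfl
theorem L18463 : sm gd N3840 = N1854 := ded_9_2 (flp_a L8993) (flp_d L8963) L18461
theorem L18465 : sm ge N3840 = N1889 := ded_10_2 (flp_a L9145) (flp_e L8965) L18461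
theorem L18467 : sm gc N1848 = N3841 := rfl
theorem L18469 : sm ge N3841 = N1890 := ded_19_2 (flp_c L9149) (flp_e L8965) L18467
theorem L18471 : sm gf N1848 = N3842 := rfl
theorem L18473 : sm gd N3842 = N1856 := ded_23_1 (flp_f L9001) (flp_d L8963) L18471
theorem L18475 : sm ge N3842 = N1891 := ded_25_1 (flp_f L9151) (flp_e L8965) L18471
theorem L18477 : sm gb N1849 = N3843 := rfl
theorem L18479 : sm gd N3843 = N1857 := ded_14_2 (flp_b L9005) (flp_d L8971) L18477
theorem L18481 : sm ge N3843 = N1892 := ded_15_2 (flp_b L9155) (flp_e L8973) L18477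
theorem L18483 : sm gb N1850 = N3844 := rfl
theorem L18485 : sm ge N3844 = N1858 := ded_15_2 (flp_b L9009) (flp_e L8979) L18483
theorem L18487 : sm gc N1850 = N3845 := rfl
theorem L18489 : sm ga N3845 = N1851 := ded_8_1 (flp_c L8981) L8977 L18487
theorem L18491 : sm ge N3845 = N1859 := ded_19_2 (flp_c L9013) (flp_e L8979) L18487
theorem L18493 : sm gg N1850 = N3846 := rfl
theorem L18495 : sm ga N3846 = N1852 := ded_12_1 (flp_g L8985) L8977 L18493
theorem L18497 : sm ge N3846 = N1860 := ded_26_1 (flp_g L9017) (flp_e L8979) L18493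
theorem L18499 : sm gf N3846 = N3682 := ded_29_2 (flp_g L17702) L17690 L17694 L18493
theorem L18501 : sm gd N1851 = N3847 := rfl
theorem L18503 : sm gg N1851 = N3848 := rfl
theorem L18505 : sm gc N3848 = N1852 := ded_21_1 (flp_g L8985) L8981 L18503
theorem L18507 : sm ge N3848 = N1862 := ded_26_1 (flp_g L9027) (flp_e L8983) L18503
theorem L18509 : sm gb N1852 = N3849 := rfl
theorem L18511 : sm ge N3849 = N1863 := ded_15_2 (flp_b L9031) (flp_e L8987) L18509
theorem L18513 : sm gg N3849 = N1853 := ded_17_2 (flp_b L8989) (flp_g L4567) L4563 L8985 L18509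
theorem L18515 : sm gf N1852 = N3850 := rfl
theorem L18517 : sm ga N3850 = N3682 := ded_11_1 (flp_f L18499) L18495 L18515
theorem L18519 : sm ge N3850 = N1864 := ded_25_1 (flp_f L9037) (flp_e L8987) L18515
theorem L18523 : sm ga N1853 = N3851 := rfl
theorem L18525 : sm ge N3851 = N1865 := ded_10_2 (flp_a L9045) (flp_e L8991) L18523
theorem L18527 : sm gc N1853 = N3852 := rfl
theorem L18529 : sm ge N3852 = N1866 := ded_19_2 (flp_c L9049) (flp_e L8991) L18527
theorem L18531 : sm gf N1853 = N3853 := rfl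
theorem L18533 : sm ge N3853 = N1867 := ded_25_1 (flp_f L9051) (flp_e L8991) L18531
theorem L18535 : sm gb N3853 = N3291 := ded_16_1 (flp_f L15848) (flp_b L7775) L4571 L8989 L18531
theorem L18537 : sm gb N1854 = N3854 := rfl
theorem L18539 : sm ge N3854 = N1868 := ded_15_2 (flp_b L9057) (flp_e L8995) L18537
theorem L18541 : sm gc N1854 = N3855 := rfl
theorem L18543 : sm ga N3855 = N1855 := ded_8_1 (flp_c L8997) L8993 L18541
theorem L18547 : sm gf N1854 = N3856 := rfl
theorem L18549 : sm ga N3856 = N1856 := ded_11_1 (flp_f L9001) L8993 L18547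
theorem L18551 : sm ge N3856 = N1870 := ded_25_1 (flp_f L9065) (flp_e L8995) L18547
theorem L18553 : sm gg N3686 = N3856 := ded_29_1 (flp_f L18547) (flp_g L17714) (flp_a L17710) L17722
theorem L18555 : sm gd N1855 = N3857 := rfl
theorem L18557 : sm gf N1855 = N3858 := rfl
theorem L18559 : sm gc N3858 = N1856 := ded_20_1 (flp_f L9001) L8997 L18557
theorem L18561 : sm ge N3858 = N1872 := ded_25_1 (flp_f L9075) (flp_e L8999) L18557
theorem L18563 : sm gb N1856 = N3859 := rfl
theorem L18565 : sm ge N3859 = N1873 := ded_15_2 (flp_b L9079) (flp_e L9003) L18563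
theorem L18567 : sm gf N3859 = N1857 := ded_16_2 (flp_b L9005) (flp_f L4577) L4573 L9001 L18563
theorem L18569 : sm gg N1856 = N3860 := rfl
theorem L18573 : sm ge N3860 = N1874 := ded_26_1 (flp_g L9085) (flp_e L9003) L18569
theorem L18575 : sm gf N3684 = N3860 := ded_29_0 (flp_g L18569) (flp_f L9001) (flp_g L8619) L17710
theorem L18577 : sm ga N1857 = N3861 := rfl
theorem L18579 : sm ge N3861 = N1875 := ded_10_2 (flp_a L9093) (flp_e L9007) L18577
theorem L18581 : sm gc N1857 = N3862 := rfl
theorem L18583 : sm ge N3862 = N1876 := ded_19_2 (flp_c L9097) (flp_e L9007) L18581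
theorem L18585 : sm gg N1857 = N3863 := rfl
theorem L18589 : sm gb N3863 = N3288 := ded_17_1 (flp_g L15836) (flp_b L7771) (flp_g L4583) L9005 L18585
theorem L18591 : sm ga N1858 = N3864 := rfl
theorem L18593 : sm gd N3864 = N1913 := ded_9_2 (flp_a L9275) (flp_d L9011) L18591
theorem L18595 : sm gc N1858 = N3865 := rfl
theorem L18597 : sm gf N1858 = N3866 := rfl
theorem L18599 : sm gd N3866 = N1915 := ded_23_1 (flp_f L9279) (flp_d L9011) L18597
theorem L18601 : sm gg N1858 = N3867 := rfl
theorem L18603 : sm gd N3867 = N1916 := ded_24_1 (flp_g L9281) (flp_d L9011) L18601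
theorem L18611 : sm gg N1859 = N3870 := rfl
theorem L18615 : sm gc N3870 = N1860 := ded_21_1 (flp_g L9017) L9013 L18611
theorem L18617 : sm gf N3870 = N3691 := ded_29_2 (flp_g L17744) (flp_a L17736) L17738 L18611
theorem L18619 : sm gb N1860 = N3871 := rfl
theorem L18621 : sm gd N3871 = N1920 := ded_14_2 (flp_b L9297) (flp_d L9021) L18619
theorem L18625 : sm ge N1861 = N3873 := rfl
theorem L18627 : sm gg N1861 = N3874 := rfl
theorem L18629 : sm gd N3874 = N1862 := ded_24_1 (flp_g L9027) L9025 L18627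
theorem L18631 : sm gb N1862 = N3875 := rfl
theorem L18633 : sm gf N1862 = N3876 := rfl
theorem L18641 : sm ga N1863 = N3877 := rfl
theorem L18643 : sm gd N3877 = N1926 := ded_9_2 (flp_a L9323) (flp_d L9033) L18641
theorem L18645 : sm gg N3877 = N1865 := ded_12_2 (flp_a L9045) (flp_g L9035) L18641
theorem L18647 : sm gc N1863 = N3878 := rfl
theorem L18649 : sm gg N3878 = N1866 := ded_21_2 (flp_c L9049) (flp_g L9035) L18647
theorem L18651 : sm gf N1863 = N3879 := rfl
theorem L18653 : sm gd N3879 = N1928 := ded_23_1 (flp_f L9331) (flp_d L9033) L18651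
theorem L18659 : sm gb N1865 = N3881 := rfl
theorem L18661 : sm gd N3881 = N1930 := ded_14_2 (flp_b L9335) (flp_d L9047) L18659
theorem L18663 : sm gc N1865 = N3882 := rfl
theorem L18665 : sm ga N3882 = N1866 := ded_8_1 (flp_c L9049) L9045 L18663
theorem L18667 : sm gf N1865 = N3883 := rfl
theorem L18669 : sm ga N3883 = N1867 := ded_11_1 (flp_f L9051) L9045 L18667
theorem L18671 : sm gd N3883 = N1932 := ded_23_1 (flp_f L9341) (flp_d L9047) L18667
theorem L18673 : sm gg N3879 = N3883 := ded_29_1 (flp_f L18667) (flp_g L18645) (flp_a L18641) L18651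
theorem L18675 : sm gd N1866 = N3884 := rfl
theorem L18677 : sm gf N1866 = N3885 := rfl
theorem L18679 : sm gc N3885 = N1867 := ded_20_1 (flp_f L9051) L9049 L18677
theorem L18681 : sm gg N1867 = N3886 := rfl
theorem L18683 : sm ga N3886 = N3879 := ded_12_1 L18673 L18669 L18681
theorem L18685 : sm gd N3886 = N1935 := ded_24_1 (flp_g L9357) (flp_d L9053) L18681
theorem L18687 : sm gf N3877 = N3886 := ded_29_0 (flp_g L18681) (flp_f L9051) (flp_g L9035) L18641
theorem L18689 : sm ga N1868 = N3887 := rfl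
theorem L18691 : sm gd N3887 = N1936 := ded_9_2 (flp_a L9363) (flp_d L9059) L18689
theorem L18693 : sm gc N1868 = N3888 := rfl
theorem L18695 : sm gf N1868 = N3889 := rfl
theorem L18699 : sm gg N1868 = N3890 := rfl
theorem L18705 : sm gd N1869 = N3892 := rfl
theorem L18707 : sm ga N3892 = N1871 := ded_9_1 (flp_d L9073) (flp_a L9063) L18705
theorem L18709 : sm gf N1869 = N3893 := rfl
theorem L18711 : sm ga N3893 = N1872 := ded_11_1 (flp_f L9075) (flp_a L9063) L18709
theorem L18717 : sm gb N1870 = N3894 := rfl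
theorem L18719 : sm gd N3894 = N1943 := ded_14_2 (flp_b L9385) (flp_d L9069) L18717
theorem L18721 : sm gc N1871 = N3895 := rfl
theorem L18725 : sm gf N1871 = N3897 := rfl
theorem L18727 : sm gd N3897 = N1872 := ded_23_1 (flp_f L9075) L9073 L18725
theorem L18729 : sm gb N1872 = N3898 := rfl
theorem L18739 : sm ga N1873 = N3900 := rfl
theorem L18741 : sm gd N3900 = N1949 := ded_9_2 (flp_a L9409) (flp_d L9081) L18739
theorem L18743 : sm gf N3900 = N1875 := ded_11_2 (flp_a L9093) (flp_f L9083) L18739
theorem L18745 : sm gc N1873 = N3901 := rfl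
theorem L18747 : sm gf N3901 = N1876 := ded_20_2 (flp_c L9097) (flp_f L9083) L18745
theorem L18749 : sm gg N1873 = N3902 := rfl
theorem L18751 : sm gd N3902 = N1951 := ded_24_1 (flp_g L9417) (flp_d L9081) L18749
theorem L18753 : sm gb N1874 = N3903 := rfl
theorem L18757 : sm gb N1875 = N3904 := rfl
theorem L18759 : sm gd N3904 = N1953 := ded_14_2 (flp_b L9421) (flp_d L9095) L18757
theorem L18761 : sm gc N1875 = N3905 := rfl
theorem L18763 : sm ga N3905 = N1876 := ded_8_1 (flp_c L9097) L9093 L18761
theorem L18765 : sm gg N1875 = N3906 := rfl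
theorem L18767 : sm ga N3906 = N1877 := ded_12_1 (flp_g L9099) L9093 L18765
theorem L18769 : sm gd N3906 = N1955 := ded_24_1 (flp_g L9427) (flp_d L9095) L18765
theorem L18771 : sm gf N3906 = N3902 := ded_29_2 (flp_g L18749) L18739 L18743 L18765
theorem L18773 : sm gd N1876 = N3907 := rfl
theorem L18775 : sm gg N1876 = N3908 := rfl
theorem L18779 : sm gf N1877 = N3909 := rfl
theorem L18781 : sm ga N3909 = N3902 := ded_11_1 (flp_f L18771) L18767 L18779
theorem L18785 : sm gg N3909 = N3900 := ded_29_3 (flp_a L18739) L9083 L9099 L18779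
theorem L18787 : sm gb N1878 = N3910 := rfl
theorem L18789 : sm gf N1878 = N3911 := rfl
theorem L18791 : sm ga N3911 = N1879 := ded_11_1 (flp_f L9107) L9105 L18789
theorem L18793 : sm gg N1878 = N3912 := rfl
theorem L18795 : sm ga N3912 = N1880 := ded_12_1 (flp_g L9109) L9105 L18793
theorem L18797 : sm gb N1879 = N3913 := rfl
theorem L18799 : sm gf N3913 = N1881 := ded_16_2 (flp_b L9111) (flp_f L4615) L4613 L9107 L18797
theorem L18801 : sm gg N1879 = N3914 := rfl
theorem L18803 : sm gf N3912 = N3914 := ded_29_0 (flp_g L18801) (flp_f L9107) L9109 (flp_a L18795)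
theorem L18805 : sm gb N1880 = N3915 := rfl
theorem L18807 : sm gg N3915 = N1883 := ded_17_2 (flp_b L9119) (flp_g L4619) L4613 L9109 L18805
theorem L18809 : sm gf N1880 = N3916 := rfl
theorem L18811 : sm ga N3916 = N3914 := ded_11_1 (flp_f L18803) L18795 L18809
theorem L18813 : sm gg N3916 = N3911 := ded_29_3 L18791 (flp_f L9107) L9109 L18809
theorem L18815 : sm ga N1881 = N3917 := rfl
theorem L18817 : sm gc N1881 = N3918 := rfl
theorem L18819 : sm gb N3918 = N1886 := ded_13_1 (flp_c L9135) (flp_b L4623) (flp_c L4617) L9111 L18817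
theorem L18821 : sm gg N1881 = N3919 := rfl
theorem L18823 : sm gb N1882 = N3920 := rfl
theorem L18825 : sm ga N1883 = N3921 := rfl
theorem L18827 : sm gc N1883 = N3922 := rfl
theorem L18829 : sm gb N3922 = N1890 := ded_13_1 (flp_c L9149) (flp_b L4633) (flp_c L4621) L9119 L18827
theorem L18831 : sm gf N1883 = N3923 := rfl
theorem L18833 : sm gb N1884 = N3924 := rfl
theorem L18835 : sm gd N3924 = N3920 := ded_14_2 (flp_b L18823) (flp_d L9127) L18833
theorem L18837 : sm gb N1885 = N3925 := rfl
theorem L18839 : sm gd N3925 = N1893 := ded_14_2 (flp_b L9159) (flp_d L9133) L18837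
theorem L18841 : sm gc N1885 = N3926 := rfl
theorem L18843 : sm ga N3926 = N1886 := ded_8_1 (flp_c L9135) L9131 L18841
theorem L18845 : sm gg N1885 = N3927 := rfl
theorem L18847 : sm ga N3927 = N1887 := ded_12_1 (flp_g L9137) L9131 L18845
theorem L18849 : sm gd N3927 = N1895 := ded_24_1 (flp_g L9169) (flp_d L9133) L18845
theorem L18851 : sm gf N3927 = N3717 := ded_29_2 (flp_g L17858) L17848 L17852 L18845
theorem L18853 : sm gd N1886 = N3928 := rfl
theorem L18855 : sm gg N1886 = N3929 := rfl
theorem L18857 : sm gc N3929 = N1887 := ded_21_1 (flp_g L9137) L9135 L18855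
theorem L18859 : sm gb N1887 = N3930 := rfl
theorem L18861 : sm gd N3930 = N1898 := ded_14_2 (flp_b L9187) (flp_d L9139) L18859
theorem L18863 : sm gg N3930 = N1888 := ded_17_2 (flp_b L9141) (flp_g L4627) L4623 L9137 L18859
theorem L18865 : sm gf N1887 = N3931 := rfl
theorem L18867 : sm ga N3931 = N3717 := ded_11_1 (flp_f L18851) L18847 L18865
theorem L18869 : sm gd N3931 = N1899 := ded_23_1 (flp_f L9193) (flp_d L9139) L18865
theorem L18871 : sm gg N3931 = N3715 := ded_29_3 (flp_a L17848) L8685 L9137 L18865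
theorem L18873 : sm ga N1888 = N3932 := rfl
theorem L18875 : sm gd N3932 = N1900 := ded_9_2 (flp_a L9201) (flp_d L9143) L18873
theorem L18877 : sm gc N1888 = N3933 := rfl
theorem L18879 : sm gf N1888 = N3934 := rfl
theorem L18883 : sm gb N3934 = N3314 := ded_16_1 (flp_f L15948) (flp_b L7823) L4631 L9141 L18879
theorem L18885 : sm gb N1889 = N3935 := rfl
theorem L18887 : sm gd N3935 = N1903 := ded_14_2 (flp_b L9217) (flp_d L9147) L18885
theorem L18889 : sm gc N1889 = N3936 := rfl
theorem L18891 : sm ga N3936 = N1890 := ded_8_1 (flp_c L9149) L9145 L18889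
theorem L18893 : sm gf N1889 = N3937 := rfl
theorem L18895 : sm ga N3937 = N1891 := ded_11_1 (flp_f L9151) L9145 L18893
theorem L18897 : sm gd N3937 = N1905 := ded_23_1 (flp_f L9227) (flp_d L9147) L18893
theorem L18899 : sm gg N3721 = N3937 := ded_29_1 (flp_f L18893) (flp_g L17870) (flp_a L17866) L17876
theorem L18901 : sm gd N1890 = N3938 := rfl
theorem L18903 : sm gf N1890 = N3939 := rfl
theorem L18905 : sm gc N3939 = N1891 := ded_20_1 (flp_f L9151) L9149 L18903
theorem L18907 : sm gb N1891 = N3940 := rfl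
theorem L18909 : sm gd N3940 = N1908 := ded_14_2 (flp_b L9245) (flp_d L9153) L18907
theorem L18911 : sm gf N3940 = N1892 := ded_16_2 (flp_b L9155) (flp_f L4637) L4633 L9151 L18907
theorem L18913 : sm gg N1891 = N3941 := rfl
theorem L18915 : sm ga N3941 = N3721 := ded_12_1 L18899 L18895 L18913
theorem L18917 : sm gd N3941 = N1909 := ded_24_1 (flp_g L9251) (flp_d L9153) L18913
theorem L18919 : sm gf N3719 = N3941 := ded_29_0 (flp_g L18913) (flp_f L9151) (flp_g L8697) L17866
theorem L18921 : sm ga N1892 = N3942 := rfl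
theorem L18923 : sm gd N3942 = N1910 := ded_9_2 (flp_a L9259) (flp_d L9157) L18921
theorem L18925 : sm gc N1892 = N3943 := rfl
theorem L18927 : sm gg N1892 = N3944 := rfl
theorem L18931 : sm gb N3944 = N3311 := ded_17_1 (flp_g L15938) (flp_b L7819) (flp_g L4643) L9155 L18927
theorem L18933 : sm ga N1893 = N3945 := rfl
theorem L18935 : sm ge N3945 = N1913 := ded_10_2 (flp_a L9275) (flp_e L9161) L18933
theorem L18937 : sm gc N1893 = N3946 := rfl
theorem L18939 : sm ge N3946 = N1914 := ded_19_2 (flp_c L9277) (flp_e L9161) L18937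
theorem L18941 : sm gf N1893 = N3947 := rfl
theorem L18943 : sm ge N3947 = N1915 := ded_25_1 (flp_f L9279) (flp_e L9161) L18941
theorem L18945 : sm gg N1893 = N3948 := rfl
theorem L18947 : sm ge N3948 = N1916 := ded_26_1 (flp_g L9281) (flp_e L9161) L18945
theorem L18949 : sm gb N1894 = N3949 := rfl
theorem L18951 : sm ge N3949 = N1917 := ded_15_2 (flp_b L9283) (flp_e L9167) L18949
theorem L18953 : sm gd N1894 = N3950 := rfl
theorem L18955 : sm ga N3950 = N1896 := ded_9_1 (flp_d L9177) (flp_a L9165) L18953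
theorem L18957 : sm gg N1894 = N3951 := rfl
theorem L18959 : sm ga N3951 = N1897 := ded_12_1 (flp_g L9181) (flp_a L9165) L18957
theorem L18963 : sm ge N3951 = N1919 := ded_26_1 (flp_g L9289) (flp_e L9167) L18957
theorem L18965 : sm gf N3951 = N3726 := ded_29_2 (flp_g L17902) (flp_a L17890) L17894 L18957
theorem L18967 : sm gb N1895 = N3952 := rfl
theorem L18969 : sm ge N3952 = N1920 := ded_15_2 (flp_b L9297) (flp_e L9173) L18967
theorem L18971 : sm gc N1896 = N3953 := rfl
theorem L18973 : sm ge N1896 = N3954 := rfl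
theorem L18975 : sm gb N3954 = N1960 := ded_15_1 (flp_e L9453) (flp_b L9179) L18973
theorem L18977 : sm gd N3954 = N1922 := ded_22_1 (flp_e L9303) (flp_d L4693) (flp_e L4651) L9177 L18973
theorem L18979 : sm gg N1896 = N3955 := rfl
theorem L18981 : sm gd N3955 = N1897 := ded_24_1 (flp_g L9181) L9177 L18979
theorem L18983 : sm gb N1897 = N3956 := rfl
theorem L18985 : sm ge N3956 = N1924 := ded_15_2 (flp_b L9311) (flp_e L9185) L18983
theorem L18987 : sm gg N3956 = N1962 := ded_17_2 (flp_b L9463) (flp_g L4765) (flp_b L4653) L9181 L18983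
theorem L18989 : sm gf N1897 = N3957 := rfl
theorem L18991 : sm ga N3957 = N3726 := ded_11_1 (flp_f L18965) L18959 L18989
theorem L18993 : sm gc N3957 = N1899 := ded_20_1 (flp_f L9193) (flp_c L9183) L18989
theorem L18995 : sm ge N3957 = N1925 := ded_25_1 (flp_f L9315) (flp_e L9185) L18989
theorem L18997 : sm gg N3957 = N3724 := ded_29_3 L17890 L8717 L9181 L18989
theorem L18999 : sm ga N1898 = N3958 := rfl
theorem L19001 : sm ge N3958 = N1926 := ded_10_2 (flp_a L9323) (flp_e L9189) L18999
theorem L19003 : sm gg N3958 = N1900 := ded_12_2 (flp_a L9201) (flp_g L9191) L18999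
theorem L19005 : sm gc N1898 = N3959 := rfl
theorem L19007 : sm ge N3959 = N1927 := ded_19_2 (flp_c L9327) (flp_e L9189) L19005
theorem L19009 : sm gg N3959 = N1901 := ded_21_2 (flp_c L9205) (flp_g L9191) L19005
theorem L19015 : sm gb N1899 = N3961 := rfl
theorem L19019 : sm gb N1900 = N3962 := rfl
theorem L19021 : sm ge N3962 = N1930 := ded_15_2 (flp_b L9335) (flp_e L9203) L19019
theorem L19023 : sm gc N1900 = N3963 := rfl
theorem L19025 : sm ga N3963 = N1901 := ded_8_1 (flp_c L9205) L9201 L19023
theorem L19027 : sm ge N3963 = N1931 := ded_19_2 (flp_c L9337) (flp_e L9203) L19023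
theorem L19029 : sm gf N1900 = N3964 := rfl
theorem L19031 : sm ga N3964 = N1902 := ded_11_1 (flp_f L9211) L9201 L19029
theorem L19033 : sm ge N3964 = N1932 := ded_25_1 (flp_f L9341) (flp_e L9203) L19029
theorem L19037 : sm gd N1901 = N3965 := rfl
theorem L19039 : sm gb N3965 = N1963 := ded_14_1 (flp_d L9467) (flp_b L9209) L19037
theorem L19041 : sm gf N1901 = N3966 := rfl
theorem L19045 : sm ge N3966 = N1934 := ded_25_1 (flp_f L9351) (flp_e L9207) L19041
theorem L19049 : sm gg N1902 = N3967 := rfl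
theorem L19053 : sm ge N3967 = N1935 := ded_26_1 (flp_g L9357) (flp_e L9213) L19049
theorem L19055 : sm gf N3958 = N3967 := ded_29_0 (flp_g L19049) (flp_f L9211) (flp_g L9191) L18999
theorem L19057 : sm ga N1903 = N3968 := rfl
theorem L19059 : sm ge N3968 = N1936 := ded_10_2 (flp_a L9363) (flp_e L9219) L19057
theorem L19061 : sm gc N1903 = N3969 := rfl
theorem L19063 : sm ge N3969 = N1937 := ded_19_2 (flp_c L9365) (flp_e L9219) L19061
theorem L19065 : sm gf N1903 = N3970 := rfl
theorem L19067 : sm ge N3970 = N1938 := ded_25_1 (flp_f L9367) (flp_e L9219) L19065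
theorem L19069 : sm gg N1903 = N3971 := rfl
theorem L19071 : sm ge N3971 = N1939 := ded_26_1 (flp_g L9369) (flp_e L9219) L19069
theorem L19073 : sm gb N1904 = N3972 := rfl
theorem L19075 : sm ge N3972 = N1940 := ded_15_2 (flp_b L9371) (flp_e L9225) L19073
theorem L19077 : sm gd N1904 = N3973 := rfl
theorem L19079 : sm ga N3973 = N1906 := ded_9_1 (flp_d L9235) (flp_a L9223) L19077
theorem L19081 : sm gf N1904 = N3974 := rfl
theorem L19083 : sm ga N3974 = N1907 := ded_11_1 (flp_f L9239) (flp_a L9223) L19081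
theorem L19085 : sm gc N3974 = N1905 := ded_20_1 (flp_f L9227) L9221 L19081
theorem L19087 : sm ge N3974 = N1942 := ded_25_1 (flp_f L9377) (flp_e L9225) L19081
theorem L19089 : sm gg N3734 = N3974 := ded_29_1 (flp_f L19081) (flp_g L17940) L17936 L17948
theorem L19091 : sm gb N1905 = N3975 := rfl
theorem L19093 : sm ge N3975 = N1943 := ded_15_2 (flp_b L9385) (flp_e L9231) L19091
theorem L19095 : sm gc N1906 = N3976 := rfl
theorem L19097 : sm ge N1906 = N3977 := rfl
theorem L19099 : sm gb N3977 = N1967 := ded_15_1 (flp_e L9488) (flp_b L9237) L19097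
theorem L19101 : sm gd N3977 = N1945 := ded_22_1 (flp_e L9389) (flp_d L4733) (flp_e L4669) L9235 L19097
theorem L19103 : sm gf N1906 = N3978 := rfl
theorem L19105 : sm gd N3978 = N1907 := ded_23_1 (flp_f L9239) L9235 L19103
theorem L19107 : sm gb N1907 = N3979 := rfl
theorem L19109 : sm ge N3979 = N1947 := ded_15_2 (flp_b L9397) (flp_e L9243) L19107
theorem L19111 : sm gf N3979 = N1969 := ded_16_2 (flp_b L9500) (flp_f L4791) (flp_b L4671) L9239 L19107
theorem L19113 : sm gg N1907 = N3980 := rfl
theorem L19115 : sm ga N3980 = N3734 := ded_12_1 L19089 L19083 L19113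
theorem L19117 : sm gc N3980 = N1909 := ded_21_1 (flp_g L9251) (flp_c L9241) L19113
theorem L19119 : sm ge N3980 = N1948 := ded_26_1 (flp_g L9401) (flp_e L9243) L19113
theorem L19121 : sm gf N3732 = N3980 := ded_29_0 (flp_g L19113) (flp_f L9239) (flp_g L8739) (flp_a L17936)
theorem L19123 : sm ga N1908 = N3981 := rfl
theorem L19125 : sm ge N3981 = N1949 := ded_10_2 (flp_a L9409) (flp_e L9247) L19123
theorem L19127 : sm gf N3981 = N1910 := ded_11_2 (flp_a L9259) (flp_f L9249) L19123
theorem L19129 : sm gc N1908 = N3982 := rfl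
theorem L19131 : sm ge N3982 = N1950 := ded_19_2 (flp_c L9413) (flp_e L9247) L19129
theorem L19133 : sm gf N3982 = N1911 := ded_20_2 (flp_c L9263) (flp_f L9249) L19129
theorem L19135 : sm gg N1908 = N3983 := rfl
theorem L19137 : sm ge N3983 = N1951 := ded_26_1 (flp_g L9417) (flp_e L9247) L19135
theorem L19139 : sm gb N1909 = N3984 := rfl
theorem L19141 : sm ge N3984 = N1952 := ded_15_2 (flp_b L9419) (flp_e L9255) L19139
theorem L19143 : sm gb N1910 = N3985 := rfl
theorem L19145 : sm ge N3985 = N1953 := ded_15_2 (flp_b L9421) (flp_e L9261) L19143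
theorem L19147 : sm gc N1910 = N3986 := rfl
theorem L19149 : sm ga N3986 = N1911 := ded_8_1 (flp_c L9263) L9259 L19147
theorem L19151 : sm ge N3986 = N1954 := ded_19_2 (flp_c L9423) (flp_e L9261) L19147
theorem L19153 : sm gg N1910 = N3987 := rfl
theorem L19157 : sm ge N3987 = N1955 := ded_26_1 (flp_g L9427) (flp_e L9261) L19153
theorem L19159 : sm gf N3987 = N3983 := ded_29_2 (flp_g L19135) L19123 L19127 L19153
theorem L19161 : sm gd N1911 = N3988 := rfl
theorem L19163 : sm gb N3988 = N1970 := ded_14_1 (flp_d L9506) (flp_b L9267) L19161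
theorem L19165 : sm gg N1911 = N3989 := rfl
theorem L19167 : sm gc N3989 = N1912 := ded_21_1 (flp_g L9269) L9263 L19165
theorem L19169 : sm ge N3989 = N1957 := ded_26_1 (flp_g L9437) (flp_e L9265) L19165
theorem L19173 : sm gf N1912 = N3990 := rfl
theorem L19179 : sm gg N3990 = N3981 := ded_29_3 (flp_a L19123) L9249 L9269 L19173
theorem L19181 : sm gc N1913 = N3991 := rfl
theorem L19183 : sm ga N3991 = N1914 := ded_8_1 (flp_c L9277) L9275 L19181
theorem L19185 : sm gf N1913 = N3992 := rfl
theorem L19187 : sm ga N3992 = N1915 := ded_11_1 (flp_f L9279) L9275 L19185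
theorem L19189 : sm gg N1913 = N3993 := rfl
theorem L19191 : sm ga N3993 = N1916 := ded_12_1 (flp_g L9281) L9275 L19189
theorem L19193 : sm gb N1914 = N3994 := rfl
theorem L19195 : sm gc N3994 = N1917 := ded_13_2 (flp_b L9283) (flp_c L4683) L4681 L9277 L19193
theorem L19197 : sm gd N1914 = N3995 := rfl
theorem L19199 : sm gf N1914 = N3996 := rfl
theorem L19201 : sm gc N3996 = N1915 := ded_20_1 (flp_f L9279) L9277 L19199
theorem L19203 : sm gg N1914 = N3997 := rfl
theorem L19205 : sm gc N3997 = N1916 := ded_21_1 (flp_g L9281) L9277 L19203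
theorem L19207 : sm gg N1915 = N3998 := rfl
theorem L19209 : sm gf N3993 = N3998 := ded_29_0 (flp_g L19207) (flp_f L9279) L9281 (flp_a L19191)
theorem L19211 : sm gb N1916 = N3999 := rfl
theorem L19213 : sm gg N3999 = N1920 := ded_17_2 (flp_b L9297) (flp_g L4687) L4681 L9281 L19211
theorem L19215 : sm gf N1916 = N4000 := rfl
theorem L19217 : sm ga N4000 = N3998 := ded_11_1 (flp_f L19209) L19191 L19215
theorem L19219 : sm gg N4000 = N3992 := ded_29_3 L19187 (flp_f L9279) L9281 L19215
theorem L19221 : sm ga N1917 = N4001 := rfl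
theorem L19223 : sm gb N4001 = N2377 := ded_7_2 L11485 L5806 (flp_a L5801) (flp_b L3017) L1554 (flp_b L2432) (flp_a L4685) L9283 L19221
theorem L19225 : sm gd N1917 = N4002 := rfl
theorem L19227 : sm gb N4002 = N1918 := ded_14_1 (flp_d L9285) L9283 L19225
theorem L19229 : sm gf N1917 = N4003 := rfl
theorem L19231 : sm gg N1917 = N4004 := rfl
theorem L19233 : sm gc N1918 = N4005 := rfl
theorem L19235 : sm ga N4005 = N1921 := ded_8_1 (flp_c L9299) (flp_a L9287) L19233
theorem L19239 : sm ge N1918 = N4006 := rfl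
theorem L19241 : sm ga N4006 = N1922 := ded_10_1 (flp_e L9303) (flp_a L9287) L19239
theorem L19243 : sm gg N1918 = N4007 := rfl
theorem L19245 : sm ga N4007 = N1923 := ded_12_1 (flp_g L9307) (flp_a L9287) L19243
theorem L19247 : sm gd N4007 = N1919 := ded_24_1 (flp_g L9289) L9285 L19243
theorem L19249 : sm gf N4007 = N3747 := ded_29_2 (flp_g L18005) (flp_a L17991) L17993 L19243
theorem L19251 : sm gb N1919 = N4008 := rfl
theorem L19253 : sm ga N1920 = N4009 := rfl
theorem L19257 : sm gf N1920 = N4011 := rfl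
theorem L19259 : sm gb N4011 = N3751 := ded_16_1 (flp_f L18021) (flp_b L8769) (flp_f L4691) L9297 L19257
theorem L19261 : sm gd N1921 = N4012 := rfl
theorem L19269 : sm ge N1921 = N4013 := rfl
theorem L19273 : sm gc N4013 = N1922 := ded_19_1 (flp_e L9303) L9299 L19269
theorem L19275 : sm gg N1921 = N4014 := rfl
theorem L19277 : sm gc N4014 = N1923 := ded_21_1 (flp_g L9307) L9299 L19275
theorem L19279 : sm gg N1922 = N4015 := rfl
theorem L19281 : sm ge N4015 = N1923 := ded_26_1 (flp_g L9307) L9303 L19279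
theorem L19283 : sm gb N1923 = N4016 := rfl
theorem L19285 : sm gd N4016 = N1924 := ded_14_2 (flp_b L9311) (flp_d L9309) L19283
theorem L19287 : sm gg N4016 = N1972 := ded_17_2 (flp_b L9520) (flp_g L4815) (flp_b L4695) L9307 L19283
theorem L19289 : sm gf N1923 = N4017 := rfl
theorem L19291 : sm ga N4017 = N3747 := ded_11_1 (flp_f L19249) L19245 L19289
theorem L19293 : sm gd N4017 = N1925 := ded_23_1 (flp_f L9315) (flp_d L9309) L19289
theorem L19295 : sm gg N4017 = N3744 := ded_29_3 L17991 L8763 L9307 L19289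
theorem L19297 : sm ga N1924 = N4018 := rfl
theorem L19299 : sm gg N4018 = N1973 := ded_12_2 (flp_a L9524) (flp_g L9313) L19297
theorem L19301 : sm gf N1924 = N4019 := rfl
theorem L19303 : sm gb N1925 = N4020 := rfl
theorem L19305 : sm gb N1926 = N4021 := rfl
theorem L19307 : sm gc N1926 = N4022 := rfl
theorem L19309 : sm ga N4022 = N1927 := ded_8_1 (flp_c L9327) L9323 L19307
theorem L19311 : sm gg N4022 = N1931 := ded_21_2 (flp_c L9337) (flp_g L9325) L19307
theorem L19313 : sm gd N1927 = N4023 := rfl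
theorem L19315 : sm gg N4023 = N1933 := ded_24_2 (flp_d L9347) (flp_g L9329) L19313
theorem L19321 : sm gb N1928 = N4025 := rfl
theorem L19323 : sm gf N4025 = N1929 := ded_16_2 (flp_b L9333) (flp_f L4705) L4701 L9331 L19321
theorem L19325 : sm ga N1929 = N4026 := rfl
theorem L19327 : sm gc N1929 = N4027 := rfl
theorem L19329 : sm gg N1929 = N4028 := rfl
theorem L19333 : sm ga N1930 = N4029 := rfl
theorem L19335 : sm gc N1930 = N4030 := rfl
theorem L19337 : sm gf N1930 = N4031 := rfl
theorem L19339 : sm gg N1930 = N4032 := rfl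
theorem L19341 : sm gb N1931 = N4033 := rfl
theorem L19343 : sm gd N1931 = N4034 := rfl
theorem L19345 : sm ga N4034 = N1933 := ded_9_1 (flp_d L9347) (flp_a L9339) L19343
theorem L19347 : sm gf N1931 = N4035 := rfl
theorem L19351 : sm gc N4035 = N1932 := ded_20_1 (flp_f L9341) L9337 L19347
theorem L19355 : sm gb N1932 = N4036 := rfl
theorem L19357 : sm gc N1933 = N4037 := rfl
theorem L19359 : sm ge N1933 = N4038 := rfl
theorem L19361 : sm gb N4038 = N1975 := ded_15_1 (flp_e L9532) (flp_b L9349) L19359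
theorem L19363 : sm gf N1933 = N4039 := rfl
theorem L19365 : sm gd N4039 = N1934 := ded_23_1 (flp_f L9351) L9347 L19363
theorem L19367 : sm gb N4039 = N2408 := ded_16_1 (flp_f L11620) L5755 (flp_f L4827) (flp_b L9349) L19363
theorem L19369 : sm gg N1934 = N4040 := rfl
theorem L19377 : sm gb N1935 = N4041 := rfl
theorem L19379 : sm gg N4041 = N3352 := ded_17_2 (flp_b L16118) (flp_g L7901) (flp_b L4719) L9357 L19377
theorem L19381 : sm gc N1936 = N4042 := rfl
theorem L19383 : sm ga N4042 = N1937 := ded_8_1 (flp_c L9365) L9363 L19381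
theorem L19385 : sm gf N1936 = N4043 := rfl
theorem L19387 : sm ga N4043 = N1938 := ded_11_1 (flp_f L9367) L9363 L19385
theorem L19389 : sm gg N1936 = N4044 := rfl
theorem L19391 : sm ga N4044 = N1939 := ded_12_1 (flp_g L9369) L9363 L19389
theorem L19393 : sm gb N1937 = N4045 := rfl
theorem L19395 : sm gc N4045 = N1940 := ded_13_2 (flp_b L9371) (flp_c L4723) L4721 L9365 L19393
theorem L19399 : sm gf N1937 = N4047 := rfl
theorem L19401 : sm gc N4047 = N1938 := ded_20_1 (flp_f L9367) L9365 L19399
theorem L19403 : sm gg N1937 = N4048 := rfl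
theorem L19405 : sm gc N4048 = N1939 := ded_21_1 (flp_g L9369) L9365 L19403
theorem L19407 : sm gb N1938 = N4049 := rfl
theorem L19409 : sm gf N4049 = N1943 := ded_16_2 (flp_b L9385) (flp_f L4727) L4721 L9367 L19407
theorem L19411 : sm gc N2861 = N4049 := ded_20_3 L19409 L13638 (flp_f L13834)
theorem L19413 : sm ga N4049 = N2862 := ded_8_1 (flp_c L13838) L13830 L19411
theorem L19415 : sm gg N1938 = N4050 := rfl
theorem L19417 : sm gf N4044 = N4050 := ded_29_0 (flp_g L19415) (flp_f L9367) L9369 (flp_a L19391)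
theorem L19419 : sm gf N1939 = N4051 := rfl
theorem L19421 : sm ga N4051 = N4050 := ded_11_1 (flp_f L19417) L19391 L19419
theorem L19423 : sm gg N4051 = N4043 := ded_29_3 L19387 (flp_f L9367) L9369 L19419
theorem L19425 : sm ga N1940 = N4052 := rfl
theorem L19427 : sm gd N1940 = N4053 := rfl
theorem L19429 : sm gb N4053 = N1941 := ded_14_1 (flp_d L9373) L9371 L19427
theorem L19431 : sm gf N1940 = N4054 := rfl
theorem L19433 : sm gg N1940 = N4055 := rfl
theorem L19435 : sm gc N1941 = N4056 := rfl
theorem L19437 : sm ga N4056 = N1944 := ded_8_1 (flp_c L9387) (flp_a L9375) L19435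
theorem L19439 : sm gd N3895 = N4056 := ded_28_1 (flp_c L19435) (flp_d L9373) (flp_c L4723) (flp_d L4601) L9061 L18705 L18707 L18721
theorem L19441 : sm ge N1941 = N4057 := rfl
theorem L19443 : sm ga N4057 = N1945 := ded_10_1 (flp_e L9389) (flp_a L9375) L19441
theorem L19445 : sm gf N1941 = N4058 := rfl
theorem L19447 : sm ga N4058 = N1946 := ded_11_1 (flp_f L9393) (flp_a L9375) L19445
theorem L19449 : sm gd N4058 = N1942 := ded_23_1 (flp_f L9377) L9373 L19445
theorem L19451 : sm gg N3766 = N4058 := ded_29_1 (flp_f L19445) (flp_g L18065) L18063 L18077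
theorem L19453 : sm ga N1943 = N4059 := rfl
theorem L19455 : sm gc N4059 = N2863 := ded_8_2 L13842 (flp_c L13638) L19453
theorem L19457 : sm gf N4059 = N2862 := ded_11_2 (flp_a L19413) L19409 L19453
theorem L19459 : sm gb N1944 = N4060 := rfl
theorem L19461 : sm gc N4060 = N1981 := ded_13_2 (flp_b L9559) (flp_c L4838) (flp_b L4735) L9387 L19459
theorem L19463 : sm gd N1944 = N4061 := rfl
theorem L19467 : sm gc N3892 = N4061 := ded_28_0 (flp_d L19463) (flp_c L9387) (flp_d L4733) (flp_c L2440) (flp_d L2382) L4603 L9073 (flp_a L18707)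
theorem L19469 : sm ge N1944 = N4062 := rfl
theorem L19471 : sm gc N4062 = N1945 := ded_19_1 (flp_e L9389) L9387 L19469
theorem L19473 : sm gf N1944 = N4063 := rfl
theorem L19475 : sm gc N4063 = N1946 := ded_20_1 (flp_f L9393) L9387 L19473
theorem L19477 : sm gf N1945 = N4064 := rfl
theorem L19479 : sm ge N4064 = N1946 := ded_25_1 (flp_f L9393) L9389 L19477
theorem L19481 : sm gb N1946 = N4065 := rfl
theorem L19483 : sm gd N4065 = N1947 := ded_14_2 (flp_b L9397) (flp_d L9395) L19481
theorem L19485 : sm gf N4065 = N1985 := ded_16_2 (flp_b L9583) (flp_f L4846) (flp_b L4735) L9393 L19481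
theorem L19487 : sm gg N1946 = N4066 := rfl
theorem L19489 : sm ga N4066 = N3766 := ded_12_1 L19451 L19447 L19487
theorem L19491 : sm gd N4066 = N1948 := ded_24_1 (flp_g L9401) (flp_d L9395) L19487
theorem L19493 : sm gf N3763 = N4066 := ded_29_0 (flp_g L19487) (flp_f L9393) (flp_g L8795) (flp_a L18063)
theorem L19495 : sm ga N1947 = N4067 := rfl
theorem L19497 : sm gf N4067 = N1986 := ded_11_2 (flp_a L9587) (flp_f L9399) L19495
theorem L19499 : sm gg N1947 = N4068 := rfl
theorem L19501 : sm gb N1948 = N4069 := rfl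
theorem L19503 : sm gb N1949 = N4070 := rfl
theorem L19505 : sm gc N1949 = N4071 := rfl
theorem L19507 : sm ga N4071 = N1950 := ded_8_1 (flp_c L9413) L9409 L19505
theorem L19509 : sm gf N4071 = N1954 := ded_20_2 (flp_c L9423) (flp_f L9411) L19505
theorem L19511 : sm gd N1950 = N4072 := rfl
theorem L19513 : sm gf N4072 = N1956 := ded_23_2 (flp_d L9433) (flp_f L9415) L19511
theorem L19515 : sm gg N1950 = N4073 := rfl
theorem L19517 : sm gc N4073 = N1951 := ded_21_1 (flp_g L9417) L9413 L19515
theorem L19519 : sm gb N2300 = N4073 := ded_31_14 (flp_g L19515) L9415 L4755 L2540 (flp_f L1556) L3017 L5817 L5820 (flp_b L11571) (flp_g L11567) (flp_f L11553) (flp_b L11551) L11557 (flp_f L11561)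
theorem L19521 : sm gg N1974 = N2391 := ded_17_2 (flp_b L11543) (flp_g L11135) L19519 (flp_g L19515) (flp_b L9530)
theorem L19523 : sm gc N2391 = N4068 := ded_21_1 (flp_g L19499) (flp_c L9528) L19521
theorem L19525 : sm ga N2391 = N4019 := ded_29_4 (flp_f L19301) L9313 L9526 L19521
theorem L19527 : sm gf N4018 = N2391 := ded_29_0 (flp_g L19521) (flp_f L9526) (flp_g L9313) L19297
theorem L19529 : sm gb N1951 = N4074 := rfl
theorem L19531 : sm gg N4074 = N1952 := ded_17_2 (flp_b L9419) (flp_g L4745) L4741 L9417 L19529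
theorem L19533 : sm ga N1952 = N4075 := rfl
theorem L19535 : sm gc N1952 = N4076 := rfl
theorem L19537 : sm gf N1952 = N4077 := rfl
theorem L19539 : sm gb N4077 = N3760 := ded_16_1 (flp_f L18053) (flp_b L8783) L4749 L9419 L19537
theorem L19541 : sm ga N1953 = N4078 := rfl
theorem L19543 : sm gb N4078 = N4029 := ded_7_2 (flp_a L19333) (flp_b L9335) (flp_a L4711) (flp_b L2436) (flp_a L1228) L2446 L4751 L9421 L19541
theorem L19545 : sm gc N1953 = N4079 := rfl
theorem L19547 : sm gf N1953 = N4080 := rfl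
theorem L19549 : sm gg N1953 = N4081 := rfl
theorem L19551 : sm gb N1954 = N4082 := rfl
theorem L19553 : sm gd N1954 = N4083 := rfl
theorem L19555 : sm ga N4083 = N1956 := ded_9_1 (flp_d L9433) (flp_a L9425) L19553
theorem L19557 : sm gg N1954 = N4084 := rfl
theorem L19559 : sm ga N4084 = N1957 := ded_12_1 (flp_g L9437) (flp_a L9425) L19557
theorem L19561 : sm gc N4084 = N1955 := ded_21_1 (flp_g L9427) L9423 L19557
theorem L19563 : sm gf N4084 = N4073 := ded_29_2 (flp_g L19515) (flp_a L19507) L19509 L19557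
theorem L19565 : sm gb N1955 = N4085 := rfl
theorem L19567 : sm gc N1956 = N4086 := rfl
theorem L19569 : sm ge N1956 = N4087 := rfl
theorem L19571 : sm gb N4087 = N1988 := ded_15_1 (flp_e L9597) (flp_b L9435) L19569
theorem L19573 : sm gg N1956 = N4088 := rfl
theorem L19575 : sm gd N4088 = N1957 := ded_24_1 (flp_g L9437) L9433 L19573
theorem L19579 : sm gf N1957 = N4089 := rfl
theorem L19581 : sm ga N4089 = N4073 := ded_11_1 (flp_f L19563) L19559 L19579
theorem L19587 : sm gb N1958 = N4090 := rfl
theorem L19589 : sm gf N4090 = N3339 := ded_16_2 (flp_b L16072) (flp_f L7875) (flp_b L4759) L9443 L19587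
theorem L19591 : sm gb N1959 = N4091 := rfl
theorem L19593 : sm ge N1959 = N4092 := rfl
theorem L19595 : sm gc N4092 = N1960 := ded_19_1 (flp_e L9453) L9449 L19593
theorem L19597 : sm gf N4092 = N2345 := ded_25_2 (flp_e L11328) (flp_f L9451) L19593
theorem L19599 : sm gg N1959 = N4093 := rfl
theorem L19601 : sm gc N4093 = N1961 := ded_21_1 (flp_g L9459) L9449 L19599
theorem L19603 : sm gg N1960 = N4094 := rfl
theorem L19605 : sm gd N4094 = N1971 := ded_24_1 (flp_g L9514) (flp_d L9457) L19603
theorem L19607 : sm ge N4094 = N1961 := ded_26_1 (flp_g L9459) L9453 L19603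
theorem L19609 : sm gb N1961 = N4095 := rfl
theorem L19611 : sm gd N4095 = N1962 := ded_14_2 (flp_b L9463) (flp_d L9461) L19609
theorem L19613 : sm ga N1962 = N4096 := rfl
theorem L19615 : sm ge N4096 = N1973 := ded_10_2 (flp_a L9524) (flp_e L9465) L19613
theorem L19617 : sm gf N1962 = N4097 := rfl
theorem L19619 : sm gc N4097 = N3979 := ded_20_1 L19111 L9504 L19617
theorem L19621 : sm ge N4097 = N1974 := ded_25_1 (flp_f L9526) (flp_e L9465) L19617
theorem L19623 : sm gb N4097 = N3982 := ded_16_1 L19133 L9267 L4805 L9463 L19617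
theorem L19625 : sm gc N1963 = N4098 := rfl
theorem L19627 : sm ga N4098 = N2363 := ded_8_1 L11416 (flp_a L9469) L19625
theorem L19629 : sm gf N4098 = N2359 := ded_20_2 (flp_c L11396) (flp_f L9471) L19625
theorem L19631 : sm gd N4098 = N2363 := ded_28_7 (flp_a L19627) (flp_c L19625) (flp_d L9467) (flp_c L4771) L2461 L4771 L9467 L19625
theorem L19633 : sm ge N1963 = N4099 := rfl
theorem L19635 : sm ga N4099 = N2364 := ded_10_1 L11422 (flp_a L9469) L19633
theorem L19637 : sm gf N4099 = N2360 := ded_25_2 (flp_e L11402) (flp_f L9471) L19633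
theorem L19639 : sm gd N4099 = N1975 := ded_22_1 (flp_e L9532) (flp_d L4823) (flp_e L4775) L9467 L19633
theorem L19641 : sm ga N1964 = N4100 := rfl
theorem L19644 : sm ge N4100 = N1976 := ded_10_2 (flp_a L9538) (flp_e L9475) L19641
theorem L19646 : sm gd N1964 = N4101 := rfl
theorem L19648 : sm gb N4101 = N1965 := ded_14_1 (flp_d L9478) L9473 L19646
theorem L19650 : sm gf N1964 = N4102 := rfl
theorem L19653 : sm ge N4102 = N1978 := ded_25_1 (flp_f L9545) (flp_e L9475) L19650
theorem L19655 : sm gg N1964 = N4103 := rfl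
theorem L19662 : sm gc N1965 = N4104 := rfl
theorem L19664 : sm ga N4104 = N1966 := ded_8_1 (flp_c L9484) (flp_a L9480) L19662
theorem L19666 : sm gg N4104 = N2359 := ded_21_2 (flp_c L11396) (flp_g L9482) L19662
theorem L19668 : sm gd N4104 = N1966 := ded_28_7 (flp_a L19664) (flp_c L19662) (flp_d L9478) (flp_c L4779) L2470 L4779 L9478 L19662
theorem L19670 : sm ge N1965 = N4105 := rfl
theorem L19672 : sm ga N4105 = N1967 := ded_10_1 (flp_e L9488) (flp_a L9480) L19670
theorem L19674 : sm gg N4105 = N2360 := ded_26_2 (flp_e L11402) (flp_g L9482) L19670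
theorem L19678 : sm gb N1966 = N4106 := rfl
theorem L19680 : sm ge N1966 = N4107 := rfl
theorem L19682 : sm gc N4107 = N1967 := ded_19_1 (flp_e L9488) L9484 L19680
theorem L19684 : sm gg N4107 = N2362 := ded_26_2 (flp_e L11410) (flp_g L9486) L19680
theorem L19686 : sm gf N1966 = N4108 := rfl
theorem L19688 : sm gc N4108 = N1968 := ded_20_1 (flp_f L9494) L9484 L19686
theorem L19690 : sm gg N4108 = N4098 := ded_29_3 L19627 (flp_f L11414) (flp_g L9486) L19686
theorem L19692 : sm gf N1967 = N4109 := rfl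
theorem L19694 : sm gd N4109 = N1984 := ded_23_1 (flp_f L9577) (flp_d L9492) L19692
theorem L19696 : sm ge N4109 = N1968 := ded_25_1 (flp_f L9494) L9488 L19692
theorem L19698 : sm gg N4109 = N4099 := ded_29_3 L19635 (flp_f L11418) (flp_g L9490) L19692
theorem L19700 : sm gb N1968 = N4110 := rfl
theorem L19702 : sm gd N4110 = N1969 := ded_14_2 (flp_b L9500) (flp_d L9496) L19700
theorem L19704 : sm ga N1969 = N4111 := rfl
theorem L19706 : sm gc N4111 = N4096 := ded_8_2 (flp_a L19613) (flp_c L9504) L19704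
theorem L19708 : sm ge N4111 = N1986 := ded_10_2 (flp_a L9587) (flp_e L9502) L19704
theorem L19710 : sm gg N1969 = N4112 := rfl
theorem L19712 : sm gc N4112 = N3956 := ded_21_1 L18987 (flp_c L9504) L19710
theorem L19714 : sm ge N4112 = N1987 := ded_26_1 (flp_g L9591) (flp_e L9502) L19710
theorem L19716 : sm gb N4112 = N3959 := ded_17_1 L19009 L9209 (flp_g L4797) L9500 L19710
theorem L19718 : sm gc N1970 = N4113 := rfl
theorem L19720 : sm ga N4113 = N2346 := ded_8_1 L11334 (flp_a L9508) L19718
theorem L19722 : sm gf N4113 = N4093 := ded_20_2 L19601 (flp_f L9510) L19718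
theorem L19724 : sm gg N4113 = N2342 := ded_21_2 (flp_c L11314) (flp_g L9512) L19718
theorem L19726 : sm gd N4113 = N2346 := ded_28_7 (flp_a L19720) (flp_c L19718) (flp_d L9506) (flp_c L4799) L2493 L4799 L9506 L19718
theorem L19728 : sm ge N1970 = N4114 := rfl
theorem L19730 : sm ga N4114 = N2347 := ded_10_1 L11340 (flp_a L9508) L19728
theorem L19732 : sm gf N4114 = N4094 := ded_25_2 L19607 (flp_f L9510) L19728
theorem L19734 : sm gg N4114 = N2343 := ded_26_2 (flp_e L11320) (flp_g L9512) L19728
theorem L19736 : sm gd N4114 = N1988 := ded_22_1 (flp_e L9597) (flp_d L4856) (flp_e L4803) L9506 L19728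
theorem L19738 : sm gb N1971 = N4115 := rfl
theorem L19740 : sm ge N4115 = N1972 := ded_15_2 (flp_b L9520) (flp_e L9518) L19738
theorem L19742 : sm ga N1972 = N4116 := rfl
theorem L19744 : sm gd N4116 = N1973 := ded_9_2 (flp_a L9524) (flp_d L9522) L19742
theorem L19746 : sm gc N1972 = N4117 := rfl
theorem L19748 : sm gb N4117 = N2388 := ded_13_1 (flp_c L11533) (flp_b L5717) (flp_c L4817) L9520 L19746
theorem L19750 : sm gf N1972 = N4118 := rfl
theorem L19752 : sm gd N4118 = N1974 := ded_23_1 (flp_f L9526) (flp_d L9522) L19750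
theorem L19754 : sm gb N4118 = N4072 := ded_16_1 L19513 L9435 L4860 L9520 L19750
theorem L19756 : sm gb N1973 = N4119 := rfl
theorem L19766 : sm gb N1976 = N4121 := rfl
theorem L19772 : sm gf N1976 = N4123 := rfl
theorem L19774 : sm ga N4123 = N1978 := ded_11_1 (flp_f L9545) L9538 L19772
theorem L19788 : sm gf N1977 = N4127 := rfl
theorem L19792 : sm gg N1977 = N4128 := rfl
theorem L19794 : sm gd N4128 = N1979 := ded_24_1 (flp_g L9548) L9541 L19792
theorem L19803 : sm gf N1979 = N4130 := rfl
theorem L19808 : sm gg N4130 = N4123 := ded_29_3 L19774 (flp_f L9545) L9548 L19803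
theorem L19810 : sm ga N1981 = N4131 := rfl
theorem L19816 : sm gf N1981 = N4133 := rfl
theorem L19818 : sm gg N1981 = N4134 := rfl
theorem L19836 : sm gb N1983 = N4137 := rfl
theorem L19840 : sm gb N1984 = N4138 := rfl
theorem L19842 : sm ge N4138 = N1985 := ded_15_2 (flp_b L9583) (flp_e L9579) L19840
theorem L19844 : sm ga N1985 = N4139 := rfl
theorem L19846 : sm gd N4139 = N1986 := ded_9_2 (flp_a L9587) (flp_d L9585) L19844
theorem L19848 : sm gc N1985 = N4140 := rfl
theorem L19850 : sm gg N1985 = N4141 := rfl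
theorem L19852 : sm gd N4141 = N1987 := ded_24_1 (flp_g L9591) (flp_d L9585) L19850
theorem L19856 : sm gb N1986 = N4142 := rfl
theorem L19858 : sm gg N1986 = N4143 := rfl
theorem L19860 : sm ga N4143 = N1987 := ded_12_1 (flp_g L9591) L9587 L19858
theorem L19862 : sm gc N4143 = N4018 := ded_21_1 L19299 (flp_c L9589) L19858
theorem L19864 : sm gf N4143 = N4068 := ded_29_2 (flp_g L19499) L19495 L19497 L19858
theorem L19866 : sm gf N1987 = N4144 := rfl
theorem L19868 : sm ga N4144 = N4068 := ded_11_1 (flp_f L19864) L19860 L19866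
theorem L19870 : sm gc N4144 = N4019 := ded_20_1 (flp_f L19301) (flp_c L9593) L19866
theorem L19872 : sm gg N4144 = N4067 := ded_29_3 (flp_a L19495) L9399 L9591 L19866
theorem L19888 : sm gd N1990 = N4149 := rfl
theorem L19892 : sm gf N4149 = N2445 := ded_23_2 (flp_d L11802) (flp_f L9613) L19888
theorem L19894 : sm gg N4149 = N3587 := ded_24_2 (flp_d L17196) (flp_g L9615) L19888
theorem L19896 : sm ga N1991 = N4150 := rfl
theorem L19900 : sm gd N4150 = N4131 := ded_9_2 (flp_a L19810) (flp_d L9619) L19896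
theorem L19902 : sm ge N1991 = N4151 := rfl
theorem L19906 : sm gc N4151 = N3112 := ded_19_1 L15027 (flp_c L9621) L19902
theorem L19908 : sm gf N1991 = N4152 := rfl
theorem L19914 : sm gg N1991 = N4153 := rfl
theorem L19922 : sm gd N1992 = N4154 := rfl
theorem L19924 : sm ga N4154 = N1999 := ded_9_1 (flp_d L9655) (flp_a L9625) L19922
theorem L19926 : sm gg N4154 = N2445 := ded_24_2 (flp_d L11802) (flp_g L9629) L19922
theorem L19936 : sm ge N1993 = N4157 := rfl
theorem L19938 : sm ga N4157 = N1995 := ded_10_1 (flp_e L9637) L9631 L19936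
theorem L19966 : sm gd N1995 = N4164 := rfl
theorem L19968 : sm gb N4164 = N1999 := ded_14_1 (flp_d L9655) (flp_b L9639) L19966
theorem L19970 : sm gf N1995 = N4165 := rfl
theorem L19974 : sm gg N1995 = N4166 := rfl
theorem L19978 : sm gb N4166 = N2457 := ded_17_1 (flp_g L11854) L5856 (flp_g L4912) (flp_b L9639) L19974
theorem L19990 : sm gd N1998 = N4169 := rfl
theorem L19994 : sm gg N4169 = N2461 := ded_24_2 (flp_d L11875) (flp_g L9653) L19990
theorem L19996 : sm ge N4169 = N1999 := ded_22_2 (flp_d L9655) (flp_e L4908) L4900 L9647 L19990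
theorem L19998 : sm gc N1999 = N4170 := rfl
theorem L20000 : sm gg N4170 = N2464 := ded_21_2 (flp_c L11893) (flp_g L9657) L19998
theorem L20002 : sm gb N2000 = N4171 := rfl
theorem L20004 : sm gd N2000 = N4172 := rfl
theorem L20006 : sm ga N4172 = N4172 := ded_9_1 (flp_d L20004) L9661 L20004
theorem L20007 : sm gc N4172 = N2010 := ded_28_0 (flp_d L9703) (flp_c L4932) (flp_d L2570) L2567 L4914 L9659 L20004 L20006
theorem L20009 : sm ge N2000 = N4173 := rfl
theorem L20014 : sm gf N2000 = N4174 := rfl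
theorem L20019 : sm gg N2000 = N4175 := rfl
theorem L20022 : sm gc N4175 = N2003 := ded_21_1 (flp_g L9670) L9659 L20019
theorem L20024 : sm gd N2001 = N4176 := rfl
theorem L20027 : sm ge N4176 = N2004 := ded_22_2 (flp_d L9675) (flp_e L4917) L4914 L9662 L20024
theorem L20043 : sm gg N2002 = N4180 := rfl
theorem L20045 : sm ga N4180 = N4180 := ded_12_1 (flp_g L20043) L9667 L20043
theorem L20046 : sm gd N4180 = N2008 := ded_24_1 (flp_g L9694) (flp_d L9668) L20043
theorem L20048 : sm gf N4180 = N2003 := ded_29_0 (flp_g L9670) L9665 L20043 L20045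
theorem L20054 : sm gc N2004 = N4182 := rfl
theorem L20056 : sm ga N4182 = N4182 := ded_8_1 (flp_c L20054) L9677 L20054
theorem L20057 : sm gf N2004 = N4183 := rfl
theorem L20059 : sm ga N4183 = N4183 := ded_11_1 (flp_f L20057) L9677 L20057
theorem L20060 : sm gd N4183 = N2005 := ded_23_1 (flp_f L9678) L9675 L20057
theorem L20062 : sm gg N2004 = N4184 := rfl
theorem L20080 : sm gb N2006 = N4187 := rfl
theorem L20082 : sm ge N4187 = N2009 := ded_15_2 (flp_b L9701) (flp_e L9690) L20080
theorem L20086 : sm gc N2007 = N4189 := rfl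
theorem L20088 : sm gf N4189 = N3662 := ded_20_2 L17583 L17351 L20086
theorem L20090 : sm gb N4189 = N2027 := ded_13_1 (flp_c L9795) (flp_b L4966) (flp_c L4925) L9692 L20086
theorem L20092 : sm gg N2007 = N4190 := rfl
theorem L20096 : sm ga N2009 = N4192 := rfl
theorem L20098 : sm gc N2009 = N4193 := rfl
theorem L20100 : sm gb N4193 = N2031 := ded_13_1 (flp_c L9807) (flp_b L4975) (flp_c L4930) L9701 L20098
theorem L20102 : sm gf N2009 = N4194 := rfl
theorem L20104 : sm ge N2010 = N4195 := rfl
theorem L20107 : sm gb N4195 = N4195 := ded_15_1 (flp_e L20104) L9706 L20104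
theorem L20108 : sm gf N2010 = N4196 := rfl
theorem L20111 : sm gd N4196 = N2012 := ded_23_1 (flp_f L9713) L9703 L20108
theorem L20113 : sm gg N2010 = N4197 := rfl
theorem L20116 : sm gd N4197 = N2013 := ded_24_1 (flp_g L9718) L9703 L20113
theorem L20118 : sm gd N2011 = N4198 := rfl
theorem L20122 : sm gf N2011 = N4199 := rfl
theorem L20125 : sm gc N4199 = N2015 := ded_20_1 (flp_f L9730) (flp_c L9711) L20122
theorem L20129 : sm gg N2011 = N4200 := rfl
theorem L20132 : sm gc N4200 = N2016 := ded_21_1 (flp_g L9735) (flp_c L9711) L20129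
theorem L20134 : sm ge N4200 = N2013 := ded_26_1 (flp_g L9718) L9707 L20129
theorem L20136 : sm gb N2012 = N4201 := rfl
theorem L20149 : sm gc N2014 = N4204 := rfl
theorem L20151 : sm ga N4204 = N4204 := ded_8_1 (flp_c L20149) L9725 L20149
theorem L20152 : sm ge N4204 = N2020 := ded_19_2 (flp_c L9759) (flp_e L9728) L20149
theorem L20154 : sm gf N2014 = N4205 := rfl
theorem L20157 : sm gd N4205 = N2015 := ded_23_1 (flp_f L9730) L9723 L20154
theorem L20159 : sm ge N4205 = N2021 := ded_25_1 (flp_f L9762) (flp_e L9728) L20154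
theorem L20161 : sm gg N2014 = N4206 := rfl
theorem L20164 : sm gd N4206 = N2016 := ded_24_1 (flp_g L9735) L9723 L20161
theorem L20166 : sm ge N4206 = N2022 := ded_26_1 (flp_g L9767) (flp_e L9728) L20161
theorem L20168 : sm gb N2015 = N4207 := rfl
theorem L20170 : sm ge N4207 = N2017 := ded_15_2 (flp_b L9740) (flp_e L9733) L20168
theorem L20172 : sm gf N4207 = N2036 := ded_16_2 (flp_b L9835) (flp_f L4985) (flp_b L4939) L9730 L20168
theorem L20174 : sm gg N2015 = N4208 := rfl
theorem L20181 : sm gb N2016 = N4209 := rfl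
theorem L20185 : sm gg N4209 = N2037 := ded_17_2 (flp_b L9839) (flp_g L4992) (flp_b L4939) L9735 L20181
theorem L20187 : sm ga N2017 = N4210 := rfl
theorem L20189 : sm gd N4210 = N2026 := ded_9_2 (flp_a L9791) (flp_d L9742) L20187
theorem L20191 : sm gf N4210 = N2038 := ded_11_2 (flp_a L9843) (flp_f L9744) L20187
theorem L20193 : sm gb N2565 = N4210 := ded_14_3 L20189 L10320 (flp_d L12429)
theorem L20195 : sm gc N2017 = N4211 := rfl
theorem L20197 : sm gf N4211 = N2039 := ded_20_2 (flp_c L9847) (flp_f L9744) L20195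
theorem L20199 : sm gg N2017 = N4212 := rfl
theorem L20207 : sm ga N2019 = N4214 := rfl
theorem L20209 : sm gd N4214 = N2030 := ded_9_2 (flp_a L9803) (flp_d L9755) L20207
theorem L20211 : sm gg N4214 = N2041 := ded_12_2 (flp_a L9854) (flp_g L9757) L20207
theorem L20213 : sm gb N2609 = N4214 := ded_14_3 L20209 (flp_b L11084) (flp_d L12631)
theorem L20215 : sm gc N2019 = N4215 := rfl
theorem L20217 : sm gg N4215 = N2042 := ded_21_2 (flp_c L9858) (flp_g L9757) L20215
theorem L20219 : sm gf N2019 = N4216 := rfl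
theorem L20221 : sm gd N4216 = N2032 := ded_23_1 (flp_f L9811) (flp_d L9755) L20219
theorem L20223 : sm gb N2020 = N4217 := rfl
theorem L20225 : sm gc N4217 = N2044 := ded_13_2 (flp_b L9865) (flp_c L5007) (flp_b L4954) L9759 L20223
theorem L20227 : sm gd N2020 = N4218 := rfl
theorem L20229 : sm ga N4218 = N4218 := ded_9_1 (flp_d L20227) L9761 L20227
theorem L20230 : sm gf N2020 = N4219 := rfl
theorem L20233 : sm gc N4219 = N2021 := ded_20_1 (flp_f L9762) L9759 L20230
theorem L20235 : sm gg N2020 = N4220 := rfl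
theorem L20238 : sm gc N4220 = N2022 := ded_21_1 (flp_g L9767) L9759 L20235
theorem L20240 : sm gb N2021 = N4221 := rfl
theorem L20242 : sm gd N4221 = N2023 := ded_14_2 (flp_b L9772) (flp_d L9765) L20240
theorem L20244 : sm gf N4221 = N2048 := ded_16_2 (flp_b L9885) (flp_f L5011) (flp_b L4954) L9762 L20240
theorem L20246 : sm gg N2021 = N4222 := rfl
theorem L20248 : sm ga N4222 = N4222 := ded_12_1 (flp_g L20246) L9764 L20246
theorem L20251 : sm gf N4222 = N2022 := ded_29_0 (flp_g L9767) L9762 L20246 L20248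
theorem L20253 : sm gb N2022 = N4223 := rfl
theorem L20257 : sm gg N4223 = N2049 := ded_17_2 (flp_b L9889) (flp_g L5017) (flp_b L4954) L9767 L20253
theorem L20259 : sm ga N2023 = N4224 := rfl
theorem L20261 : sm ge N4224 = N2026 := ded_10_2 (flp_a L9791) (flp_e L9774) L20259
theorem L20263 : sm gf N4224 = N2050 := ded_11_2 (flp_a L9893) (flp_f L9776) L20259
theorem L20265 : sm gb N2725 = N4224 := ded_15_3 L20261 L10320 (flp_e L13128)
theorem L20267 : sm gc N2023 = N4225 := rfl
theorem L20269 : sm ge N4225 = N2027 := ded_19_2 (flp_c L9795) (flp_e L9774) L20267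
theorem L20273 : sm gg N2023 = N4226 := rfl
theorem L20277 : sm gb N2024 = N4227 := rfl
theorem L20279 : sm ge N4227 = N2029 := ded_15_2 (flp_b L9801) (flp_e L9781) L20277
theorem L20281 : sm ga N2025 = N4228 := rfl
theorem L20283 : sm ge N4228 = N2030 := ded_10_2 (flp_a L9803) (flp_e L9787) L20281
theorem L20285 : sm gg N4228 = N2053 := ded_12_2 (flp_a L9905) (flp_g L9789) L20281
theorem L20287 : sm gb N2756 = N4228 := ded_15_3 L20283 (flp_b L11084) (flp_e L13305)
theorem L20295 : sm gf N2025 = N4230 := rfl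
theorem L20297 : sm ge N4230 = N2032 := ded_25_1 (flp_f L9811) (flp_e L9787) L20295
theorem L20299 : sm gd N2027 = N4231 := rfl
theorem L20301 : sm gf N4231 = N2059 := ded_23_2 (flp_d L9929) (flp_f L9797) L20299
theorem L20303 : sm gg N2027 = N4232 := rfl
theorem L20305 : sm gc N4232 = N2028 := ded_21_1 (flp_g L9799) L9795 L20303
theorem L20307 : sm gb N4051 = N4232 := ded_31_14 (flp_g L20303) L9797 (flp_b L8569) L17601 (flp_f L17607) (flp_b L8813) (flp_g L8811) (flp_f L8803) (flp_b L8801) L4731 (flp_f L4727) L4721 L9369 L19419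
theorem L20309 : N4047 = N4051 := coi_13_5 L20307 L20305 (flp_b L13836) L19411 (flp_b L19407) (flp_c L19401)
theorem L20310 : N4051 = N4047 := (eqc rfl L20309 rfl).symm
theorem L20311 : sm ga N4047 = N4050 := trfs L20310 L19421 rfl
theorem L20313 : sm gb N4047 = N4232 := trfs L20310 L20307 rfl
theorem L20315 : sm gf N4047 = N1939 := trfs L20310 (flp_f L19419) rfl
theorem L20316 : N1939 = N1937 := eqes L20315 (flp_f L19399)
theorem L20317 : N1939 = N1937 := eqc rfl L20316 rfl
theorem L20318 : sm gg N4047 = N4043 := trfs L20310 L19423 rfl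
theorem L20320 : sm ga N1937 = N4044 := trfs L20317 (flp_a L19391) rfl
theorem L20321 : N4044 = N4042 := eqes L20320 (flp_a L19383)
theorem L20322 : N4044 = N4042 := eqc rfl L20321 rfl
theorem L20323 : sm gb N1937 = N3761 := trfs L20317 (flp_b L18057) rfl
theorem L20324 : N3761 = N4045 := eqes L20323 L19393
theorem L20325 : N4045 = N3761 := (eqc rfl L20324 rfl).symm
theorem L20326 : sm gc N1937 = N4048 := trfs L20317 (flp_c L19405) rfl
theorem L20327 : N4048 = N951 := eqes L20326 (flp_c L9365)
theorem L20328 : N4048 = N951 := eqc rfl L20327 rfl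
theorem L20332 : sm ge N1937 = N3971 := trfs L20317 (flp_e L19071) rfl
theorem L20333 : N3971 = N3969 := eqes L20332 (flp_e L19063)
theorem L20334 : N3971 = N3969 := eqc rfl L20333 rfl
theorem L20337 : sm gg N3969 = N1903 := trfs L20334 (flp_g L19069) rfl
theorem L20341 : sm gg N951 = N1937 := trfs L20328 (flp_g L19403) rfl
theorem L20343 : sm gb N3761 = N1937 := trfs L20325 (flp_b L19393) rfl
theorem L20345 : sm gc N3761 = N1940 := trfs L20325 L19395 rfl
theorem L20347 : sm gf N4042 = N4050 := trfs L20322 L19417 rfl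
theorem L20349 : sm gg N4042 = N1936 := trfs L20322 (flp_g L19389) rfl
theorem L20351 : sm gc N4050 = N4043 := ded_8_2 L19387 (flp_c L19401) L20311
theorem L20353 : N4055 = N3759 := coi_21_3 (flp_c L18051) L18055 L20345 L19433
theorem L20354 : N4055 = N3759 := eqc rfl L20353 rfl
theorem L20355 : sm gg N3759 = N1940 := trfs L20354 (flp_g L19433) rfl
theorem L20357 : sm gc N2029 = N4233 := rfl
theorem L20359 : sm gg N4233 = N4049 := ded_21_2 (flp_c L19411) L13832 L20357
theorem L20361 : sm gc N2030 = N4234 := rfl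
theorem L20363 : sm ga N4234 = N2031 := ded_8_1 (flp_c L9807) L9803 L20361
theorem L20365 : sm gg N4234 = N2063 := ded_21_2 (flp_c L9943) (flp_g L9805) L20361
theorem L20371 : sm gf N2031 = N4236 := rfl
theorem L20373 : sm gc N4236 = N2032 := ded_20_1 (flp_f L9811) L9807 L20371
theorem L20375 : sm gb N2033 = N4237 := rfl
theorem L20377 : sm ge N4237 = N2044 := ded_15_2 (flp_b L9865) (flp_e L9817) L20375
theorem L20379 : sm gd N2033 = N4238 := rfl
theorem L20381 : sm ga N4238 = N2069 := ded_9_1 (flp_d L9971) (flp_a L9815) L20379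
theorem L20383 : sm gc N2069 = N4238 := ded_28_0 (flp_d L20379) (flp_c L9813) (flp_d L4979) L2590 L4979 L9813 L20379 L20381
theorem L20385 : sm gf N2033 = N4239 := rfl
theorem L20387 : sm ga N4239 = N2070 := ded_11_1 (flp_f L9973) (flp_a L9815) L20385
theorem L20389 : sm gc N4239 = N2034 := ded_20_1 (flp_f L9819) L9813 L20385
theorem L20391 : sm ge N4239 = N2046 := ded_25_1 (flp_f L9873) (flp_e L9817) L20385
theorem L20393 : sm gg N2033 = N4240 := rfl
theorem L20395 : sm ga N4240 = N2071 := ded_12_1 (flp_g L9979) (flp_a L9815) L20393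
theorem L20397 : sm gc N4240 = N2035 := ded_21_1 (flp_g L9827) L9813 L20393
theorem L20399 : sm ge N4240 = N2047 := ded_26_1 (flp_g L9879) (flp_e L9817) L20393
theorem L20401 : sm gb N2034 = N4241 := rfl
theorem L20403 : sm gd N4241 = N2036 := ded_14_2 (flp_b L9835) (flp_d L9823) L20401
theorem L20405 : sm ge N4241 = N2048 := ded_15_2 (flp_b L9885) (flp_e L9825) L20401
theorem L20407 : sm gb N2035 = N4242 := rfl
theorem L20411 : sm ge N4242 = N2049 := ded_15_2 (flp_b L9889) (flp_e L9833) L20407
theorem L20413 : sm ga N2036 = N4243 := rfl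
theorem L20415 : sm ge N4243 = N2038 := ded_10_2 (flp_a L9843) (flp_e L9837) L20413
theorem L20422 : sm gg N2036 = N4245 := rfl
theorem L20426 : sm ga N2037 = N4246 := rfl
theorem L20428 : sm ge N4246 = N2041 := ded_10_2 (flp_a L9854) (flp_e L9841) L20426
theorem L20430 : sm gc N2037 = N4247 := rfl
theorem L20432 : sm ge N4247 = N2042 := ded_19_2 (flp_c L9858) (flp_e L9841) L20430
theorem L20434 : sm gb N4247 = N4247 := ded_13_1 (flp_c L20430) (flp_b L9839) L4996 L9839 L20430
theorem L20439 : sm gb N2038 = N4249 := rfl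
theorem L20441 : sm gd N4249 = N2056 := ded_14_2 (flp_b L9917) (flp_d L9845) L20439
theorem L20445 : sm ga N2197 = N4249 := ded_9_3 L20441 L10316 (flp_d L10621)
theorem L20451 : sm gg N2038 = N4251 := rfl
theorem L20453 : sm ga N4251 = N2040 := ded_12_1 (flp_g L9850) L9843 L20451
theorem L20457 : sm gf N4251 = N4212 := ded_29_2 (flp_g L20199) L20187 L20191 L20451
theorem L20462 : sm gg N2039 = N4253 := rfl
theorem L20464 : sm gc N4253 = N2040 := ded_21_1 (flp_g L9850) L9847 L20462
theorem L20466 : sm gf N2040 = N4254 := rfl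
theorem L20468 : sm ga N4254 = N4212 := ded_11_1 (flp_f L20457) L20453 L20466
theorem L20470 : sm gd N4254 = N2061 := ded_23_1 (flp_f L9935) (flp_d L9852) L20466
theorem L20474 : sm gb N2624 = N4254 := ded_14_3 L20470 L13545 (flp_d L12699)
theorem L20476 : sm gb N2041 = N4255 := rfl
theorem L20478 : sm gd N4255 = N2062 := ded_14_2 (flp_b L9941) (flp_d L9856) L20476
theorem L20480 : sm gg N4255 = N2209 := ded_17_2 L10675 L12627 L20213 L20211 L20476
theorem L20482 : sm ga N2212 = N4255 := ded_9_3 L20478 (flp_a L11090) (flp_d L10685)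
theorem L20484 : sm gc N2041 = N4256 := rfl
theorem L20486 : sm ga N4256 = N2042 := ded_8_1 (flp_c L9858) L9854 L20484
theorem L20488 : sm gf N2041 = N4257 := rfl
theorem L20490 : sm ga N4257 = N2043 := ded_11_1 (flp_f L9861) L9854 L20488
theorem L20492 : sm gd N4257 = N2064 := ded_23_1 (flp_f L9947) (flp_d L9856) L20488
theorem L20494 : sm gg N4216 = N4257 := ded_29_1 (flp_f L20488) (flp_g L20211) (flp_a L20207) L20219
theorem L20496 : sm gd N2042 = N4258 := rfl
theorem L20499 : sm gf N2042 = N4259 := rfl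
theorem L20501 : sm gc N4259 = N2043 := ded_20_1 (flp_f L9861) L9858 L20499
theorem L20503 : sm gg N2043 = N4260 := rfl
theorem L20507 : sm gd N4260 = N2067 := ded_24_1 (flp_g L9959) (flp_d L9863) L20503
theorem L20511 : sm gb N2581 = N4260 := ded_14_3 L20507 L13527 (flp_d L12509)
theorem L20513 : sm ga N2044 = N4261 := rfl
theorem L20515 : sm gd N2044 = N4262 := rfl
theorem L20517 : sm gb N4262 = N2045 := ded_14_1 (flp_d L9867) L9865 L20515
theorem L20519 : sm gf N2044 = N4263 := rfl
theorem L20521 : sm gg N2044 = N4264 := rfl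
theorem L20523 : sm ge N2045 = N4265 := rfl
theorem L20525 : sm ga N4265 = N2105 := ded_10_1 (flp_e L10159) (flp_a L9869) L20523
theorem L20527 : sm gc N4265 = N3708 := ded_19_1 (flp_e L17820) (flp_c L9871) L20523
theorem L20529 : sm gf N2045 = N4266 := rfl
theorem L20531 : sm ga N4266 = N2106 := ded_11_1 (flp_f L10161) (flp_a L9869) L20529
theorem L20533 : sm gc N4266 = N3709 := ded_20_1 (flp_f L17822) (flp_c L9871) L20529
theorem L20535 : sm gd N4266 = N2046 := ded_23_1 (flp_f L9873) L9867 L20529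
theorem L20537 : sm gg N2045 = N4267 := rfl
theorem L20539 : sm ga N4267 = N2107 := ded_12_1 (flp_g L10165) (flp_a L9869) L20537
theorem L20541 : sm gc N4267 = N3710 := ded_21_1 (flp_g L17826) (flp_c L9871) L20537
theorem L20543 : sm gd N4267 = N2047 := ded_24_1 (flp_g L9879) L9867 L20537
theorem L20545 : sm gb N2046 = N4268 := rfl
theorem L20547 : sm gb N2047 = N4269 := rfl
theorem L20549 : sm ga N2048 = N4270 := rfl
theorem L20551 : sm gd N4270 = N2050 := ded_9_2 (flp_a L9893) (flp_d L9887) L20549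
theorem L20553 : sm gc N2048 = N4271 := rfl
theorem L20555 : sm gg N2048 = N4272 := rfl
theorem L20559 : sm ga N2049 = N4273 := rfl
theorem L20563 : sm gc N2049 = N4274 := rfl
theorem L20565 : sm gf N2049 = N4275 := rfl
theorem L20567 : sm gd N4275 = N2055 := ded_23_1 (flp_f L9913) (flp_d L9891) L20565
theorem L20569 : sm gb N2050 = N4276 := rfl
theorem L20571 : sm ge N4276 = N2056 := ded_15_2 (flp_b L9917) (flp_e L9895) L20569
theorem L20575 : sm ga N2250 = N4276 := ded_10_3 L20571 L10316 (flp_e L10871)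
theorem L20577 : sm gc N2050 = N4277 := rfl
theorem L20579 : sm ga N4277 = N2051 := ded_8_1 (flp_c L9897) L9893 L20577
theorem L20581 : sm ge N4277 = N2057 := ded_19_2 (flp_c L9919) (flp_e L9895) L20577
theorem L20583 : sm gg N2050 = N4278 := rfl
theorem L20585 : sm ga N4278 = N2052 := ded_12_1 (flp_g L9901) L9893 L20583
theorem L20589 : sm gf N4278 = N4226 := ded_29_2 (flp_g L20273) L20259 L20263 L20583
theorem L20591 : sm gd N2051 = N4279 := rfl
theorem L20593 : sm gg N2051 = N4280 := rfl
theorem L20599 : sm gf N2052 = N4281 := rfl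
theorem L20601 : sm ga N4281 = N4226 := ded_11_1 (flp_f L20589) L20585 L20599
theorem L20603 : sm ge N4281 = N2061 := ded_25_1 (flp_f L9935) (flp_e L9903) L20599
theorem L20605 : sm gg N4281 = N4224 := ded_29_3 (flp_a L20259) L9776 L9901 L20599
theorem L20607 : sm gb N2763 = N4281 := ded_15_3 L20603 L13545 (flp_e L13344)
theorem L20617 : sm gc N2053 = N4283 := rfl
theorem L20621 : sm ge N4283 = N2063 := ded_19_2 (flp_c L9943) (flp_e L9907) L20617
theorem L20623 : sm gf N2053 = N4284 := rfl
theorem L20625 : sm ga N4284 = N2055 := ded_11_1 (flp_f L9913) L9905 L20623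
theorem L20629 : sm gg N4230 = N4284 := ded_29_1 (flp_f L20623) (flp_g L20285) (flp_a L20281) L20295
theorem L20633 : sm gf N2054 = N4286 := rfl
theorem L20635 : sm gc N4286 = N2055 := ded_20_1 (flp_f L9913) L9909 L20633
theorem L20637 : sm ge N4286 = N2066 := ded_25_1 (flp_f L9955) (flp_e L9911) L20633
theorem L20639 : sm gg N2055 = N4287 := rfl
theorem L20641 : sm ga N4287 = N4230 := ded_12_1 L20629 L20625 L20639
theorem L20645 : sm gf N4228 = N4287 := ded_29_0 (flp_g L20639) (flp_f L9913) (flp_g L9789) L20281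
theorem L20649 : sm gc N2056 = N4288 := rfl
theorem L20651 : sm ga N4288 = N2280 := ded_8_1 L11023 (flp_a L10316) L20649
theorem L20653 : sm gf N4288 = N2276 := ded_20_2 (flp_c L11006) L10318 L20649
theorem L20659 : sm gg N2057 = N4290 := rfl
theorem L20661 : sm ga N4290 = N2060 := ded_12_1 (flp_g L9931) (flp_a L9921) L20659
theorem L20665 : sm gf N4290 = N4232 := ded_29_2 (flp_g L20303) (flp_a L15725) L15727 L20659
theorem L20671 : sm gg N2059 = N4293 := rfl
theorem L20673 : sm gd N4293 = N2060 := ded_24_1 (flp_g L9931) L9929 L20671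
theorem L20675 : sm gb N2060 = N4294 := rfl
theorem L20677 : sm gf N2060 = N4295 := rfl
theorem L20679 : sm ga N4295 = N4232 := ded_11_1 (flp_f L20665) L20661 L20677
theorem L20681 : sm gc N4295 = N2061 := ded_20_1 (flp_f L9935) (flp_c L9933) L20677
theorem L20683 : sm gg N4295 = N3264 := ded_29_3 L15725 L9797 L9931 L20677
theorem L20685 : sm gc N2062 = N4296 := rfl
theorem L20687 : sm ga N4296 = N2310 := ded_8_1 L11172 L11090 L20685
theorem L20689 : sm gg N4296 = N2305 := ded_21_2 (flp_c L11150) (flp_g L11086) L20685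
theorem L20691 : sm gb N2063 = N4297 := rfl
theorem L20693 : sm gd N2063 = N4298 := rfl
theorem L20705 : sm gc N2065 = N4300 := rfl
theorem L20709 : sm gf N2065 = N4302 := rfl
theorem L20711 : sm gd N4302 = N2066 := ded_23_1 (flp_f L9955) L9953 L20709
theorem L20713 : sm gb N2066 = N4303 := rfl
theorem L20715 : sm gg N2066 = N4304 := rfl
theorem L20721 : sm gf N4234 = N4304 := ded_29_0 (flp_g L20715) (flp_f L9955) (flp_g L9809) (flp_a L20363)
theorem L20723 : sm ga N2068 = N4305 := rfl
theorem L20725 : sm gc N4305 = N2169 := ded_8_2 (flp_a L10463) (flp_c L9969) L20723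
theorem L20727 : sm ge N4305 = N2100 := ded_10_2 (flp_a L10137) (flp_e L9967) L20723
theorem L20729 : sm gd N2068 = N4306 := rfl
theorem L20731 : sm gb N4306 = N2069 := ded_14_1 (flp_d L9971) L9965 L20729
theorem L20733 : sm gf N2068 = N4307 := rfl
theorem L20735 : sm gc N4307 = N2171 := ded_20_1 (flp_f L10473) (flp_c L9969) L20733
theorem L20737 : sm ge N4307 = N2102 := ded_25_1 (flp_f L10145) (flp_e L9967) L20733
theorem L20739 : sm gg N2068 = N4308 := rfl
theorem L20741 : sm gc N4308 = N2172 := ded_21_1 (flp_g L10477) (flp_c L9969) L20739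
theorem L20743 : sm ge N4308 = N2103 := ded_26_1 (flp_g L10149) (flp_e L9967) L20739
theorem L20745 : sm ge N2069 = N4309 := rfl
theorem L20747 : sm gd N4309 = N2105 := ded_22_1 (flp_e L10159) (flp_d L5129) (flp_e L5045) L9971 L20745
theorem L20749 : sm gf N2069 = N4310 := rfl
theorem L20751 : sm gd N4310 = N2070 := ded_23_1 (flp_f L9973) L9971 L20749
theorem L20753 : sm gg N2069 = N4311 := rfl
theorem L20755 : sm gd N4311 = N2071 := ded_24_1 (flp_g L9979) L9971 L20753
theorem L20757 : sm gb N2070 = N4312 := rfl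
theorem L20759 : sm ge N4312 = N2108 := ded_15_2 (flp_b L10169) (flp_e L9977) L20757
theorem L20761 : sm gg N2070 = N4313 := rfl
theorem L20763 : sm gc N4313 = N2073 := ded_21_1 (flp_g L9993) (flp_c L9975) L20761
theorem L20765 : sm ge N4313 = N2109 := ded_26_1 (flp_g L10171) (flp_e L9977) L20761
theorem L20767 : sm gf N4240 = N4313 := ded_29_0 (flp_g L20761) (flp_f L9973) L9979 (flp_a L20395)
theorem L20769 : sm gb N2071 = N4314 := rfl
theorem L20771 : sm ge N4314 = N2110 := ded_15_2 (flp_b L10177) (flp_e L9983) L20769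
theorem L20773 : sm gf N2071 = N4315 := rfl
theorem L20775 : sm ga N4315 = N4313 := ded_11_1 (flp_f L20767) L20395 L20773
theorem L20777 : sm gc N4315 = N2075 := ded_20_1 (flp_f L10009) (flp_c L9981) L20773
theorem L20779 : sm ge N4315 = N2111 := ded_25_1 (flp_f L10179) (flp_e L9983) L20773
theorem L20781 : sm gg N4315 = N4239 := ded_29_3 L20387 (flp_f L9973) L9979 L20773
theorem L20783 : sm ga N2072 = N4316 := rfl
theorem L20787 : sm ge N4316 = N2112 := ded_10_2 (flp_a L10187) (flp_e L9989) L20783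
theorem L20789 : sm gf N4316 = N2177 := ded_11_2 (flp_a L10507) (flp_f L9991) L20783
theorem L20791 : sm gc N2072 = N4317 := rfl
theorem L20793 : sm ge N4317 = N2113 := ded_19_2 (flp_c L10193) (flp_e L9989) L20791
theorem L20795 : sm gf N4317 = N2178 := ded_20_2 (flp_c L10513) (flp_f L9991) L20791
theorem L20797 : sm gg N2072 = N4318 := rfl
theorem L20801 : sm ge N4318 = N2114 := ded_26_1 (flp_g L10197) (flp_e L9989) L20797
theorem L20803 : sm gb N2073 = N4319 := rfl
theorem L20805 : sm gd N4319 = N2079 := ded_14_2 (flp_b L10036) (flp_d L9995) L20803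
theorem L20807 : sm ge N4319 = N2115 := ded_15_2 (flp_b L10201) (flp_e L9997) L20803
theorem L20809 : sm ga N2074 = N4320 := rfl
theorem L20811 : sm gd N4320 = N2080 := ded_9_2 (flp_a L10040) (flp_d L10003) L20809
theorem L20813 : sm ge N4320 = N2116 := ded_10_2 (flp_a L10205) (flp_e L10005) L20809
theorem L20815 : sm gg N4320 = N2180 := ded_12_2 (flp_a L10523) (flp_g L10007) L20809
theorem L20817 : sm gc N2074 = N4321 := rfl
theorem L20819 : sm ge N4321 = N2117 := ded_19_2 (flp_c L10211) (flp_e L10005) L20817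
theorem L20821 : sm gg N4321 = N2181 := ded_21_2 (flp_c L10529) (flp_g L10007) L20817
theorem L20823 : sm gf N2074 = N4322 := rfl
theorem L20825 : sm gd N4322 = N2082 := ded_23_1 (flp_f L10053) (flp_d L10003) L20823
theorem L20827 : sm ge N4322 = N2118 := ded_25_1 (flp_f L10215) (flp_e L10005) L20823
theorem L20829 : sm gb N2075 = N4323 := rfl
theorem L20831 : sm gd N4323 = N2083 := ded_14_2 (flp_b L10057) (flp_d L10013) L20829
theorem L20833 : sm ge N4323 = N2119 := ded_15_2 (flp_b L10219) (flp_e L10015) L20829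
theorem L20839 : sm gc N2076 = N4325 := rfl
theorem L20843 : sm ge N4325 = N2085 := ded_19_2 (flp_c L10065) (flp_e L10021) L20839
theorem L20845 : sm gf N4325 = N2184 := ded_20_2 (flp_c L10543) (flp_f L10023) L20839
theorem L20847 : sm gd N2077 = N4326 := rfl
theorem L20850 : sm gf N4326 = N2186 := ded_23_2 (flp_d L10557) (flp_f L10029) L20847
theorem L20852 : sm gg N2077 = N4327 := rfl
theorem L20854 : sm gc N4327 = N2078 := ded_21_1 (flp_g L10032) L10025 L20852
theorem L20856 : sm ge N4327 = N2087 := ded_26_1 (flp_g L10076) (flp_e L10027) L20852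
theorem L20858 : sm gb N2078 = N4328 := rfl
theorem L20860 : sm ge N4328 = N2088 := ded_15_2 (flp_b L10080) (flp_e L10034) L20858
theorem L20862 : sm gg N4328 = N2079 := ded_17_2 (flp_b L10036) (flp_g L5065) L5059 L10032 L20858
theorem L20864 : sm ga N2079 = N4329 := rfl
theorem L20866 : sm ge N4329 = N2089 := ded_10_2 (flp_a L10086) (flp_e L10038) L20864
theorem L20868 : sm gc N2079 = N4330 := rfl
theorem L20870 : sm ge N4330 = N2090 := ded_19_2 (flp_c L10090) (flp_e L10038) L20868
theorem L20872 : sm gb N4330 = N4330 := ded_13_1 (flp_c L20868) (flp_b L10036) L5067 L10036 L20868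
theorem L20873 : sm gf N2079 = N4331 := rfl
theorem L20875 : sm ge N4331 = N2091 := ded_25_1 (flp_f L10093) (flp_e L10038) L20873
theorem L20879 : sm gb N2080 = N4332 := rfl
theorem L20881 : sm ge N4332 = N2092 := ded_15_2 (flp_b L10099) (flp_e L10042) L20879
theorem L20883 : sm gc N2080 = N4333 := rfl
theorem L20885 : sm ga N4333 = N2081 := ded_8_1 (flp_c L10046) L10040 L20883
theorem L20889 : sm gg N4333 = N2190 := ded_21_2 (flp_c L10579) (flp_g L10044) L20883
theorem L20891 : sm gd N2081 = N4334 := rfl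
theorem L20893 : sm gb N4334 = N4334 := ded_14_1 (flp_d L20891) L10052 L20891
theorem L20894 : sm gg N4334 = N2192 := ded_24_2 (flp_d L10593) (flp_g L10050) L20891
theorem L20902 : sm gb N2082 = N4336 := rfl
theorem L20904 : sm ge N4336 = N2096 := ded_15_2 (flp_b L10118) (flp_e L10055) L20902
theorem L20906 : sm gf N4336 = N2083 := ded_16_2 (flp_b L10057) (flp_f L5078) L5072 L10053 L20902
theorem L20908 : sm ga N2083 = N4337 := rfl
theorem L20910 : sm ge N4337 = N2097 := ded_10_2 (flp_a L10124) (flp_e L10059) L20908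
theorem L20912 : sm gc N2083 = N4338 := rfl
theorem L20914 : sm ge N4338 = N2098 := ded_19_2 (flp_c L10128) (flp_e L10059) L20912
theorem L20916 : sm gb N4338 = N4338 := ded_13_1 (flp_c L20912) (flp_b L10057) L5082 L10057 L20912
theorem L20917 : sm gg N2083 = N4339 := rfl
theorem L20921 : sm gb N4339 = N4245 := ded_17_1 (flp_g L20422) (flp_b L9835) (flp_g L5085) L10057 L20917
theorem L20933 : sm gg N2084 = N4342 := rfl
theorem L20935 : sm gd N4342 = N2137 := ded_24_1 (flp_g L10322) (flp_d L10063) L20933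
theorem L20938 : sm gb N2085 = N4343 := rfl
theorem L20940 : sm gd N2085 = N4344 := rfl
theorem L20942 : sm ga N4344 = N2086 := ded_9_1 (flp_d L10071) (flp_a L10067) L20940
theorem L20944 : sm gf N4344 = N2200 := ded_23_2 (flp_d L10629) (flp_f L10069) L20940
theorem L20946 : sm gc N2086 = N4345 := rfl
theorem L20950 : sm ge N2086 = N4346 := rfl
theorem L20959 : sm gb N2087 = N4348 := rfl
theorem L20962 : sm ga N2088 = N4349 := rfl
theorem L20966 : sm gg N4349 = N2089 := ded_12_2 (flp_a L10086) (flp_g L10084) L20962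
theorem L20968 : sm gc N2088 = N4350 := rfl
theorem L20970 : sm gg N4350 = N2090 := ded_21_2 (flp_c L10090) (flp_g L10084) L20968
theorem L20972 : sm gf N2088 = N4351 := rfl
theorem L20974 : sm gd N4351 = N2145 := ded_23_1 (flp_f L10355) (flp_d L10082) L20972
theorem L20978 : sm gb N4351 = N2639 := ded_16_1 (flp_f L12761) (flp_b L10641) L5344 L10080 L20972
theorem L20980 : sm gb N2089 = N4352 := rfl
theorem L20984 : sm gf N4352 = N2626 := ded_16_2 L12707 (flp_f L6302) L12777 (flp_f L12783) L20980
theorem L20986 : sm gc N2089 = N4353 := rfl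
theorem L20988 : sm ga N4353 = N2090 := ded_8_1 (flp_c L10090) L10086 L20986
theorem L20990 : sm gd N2090 = N4354 := rfl
theorem L20993 : sm gf N2090 = N4355 := rfl
theorem L20995 : sm gc N4355 = N2091 := ded_20_1 (flp_f L10093) L10090 L20993
theorem L20997 : sm gg N2091 = N4356 := rfl
theorem L21022 : sm gd N2093 = N4361 := rfl
theorem L21024 : sm ga N4361 = N2094 := ded_9_1 (flp_d L10109) (flp_a L10105) L21022
theorem L21026 : sm gg N4361 = N2214 := ded_24_2 (flp_d L10689) (flp_g L10107) L21022
theorem L21028 : sm gc N2094 = N4362 := rfl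
theorem L21030 : sm gg N4362 = N2217 := ded_21_2 (flp_c L10705) (flp_g L10112) L21028
theorem L21032 : sm ge N2094 = N4363 := rfl
theorem L21035 : sm gg N4363 = N2218 := ded_26_2 (flp_e L10707) (flp_g L10112) L21032
theorem L21037 : sm gf N2094 = N4364 := rfl
theorem L21039 : sm gd N4364 = N2095 := ded_23_1 (flp_f L10114) L10109 L21037
theorem L21041 : sm gb N2095 = N4365 := rfl
theorem L21044 : sm ga N2096 = N4366 := rfl
theorem L21048 : sm gf N4366 = N2097 := ded_11_2 (flp_a L10124) (flp_f L10122) L21044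
theorem L21050 : sm gb N4366 = N4349 := ded_7_2 (flp_a L20962) (flp_b L10080) (flp_a L5356) L10667 L10731 (flp_b L10727) L5388 L10118 L21044
theorem L21052 : sm gc N2096 = N4367 := rfl
theorem L21054 : sm gf N4367 = N2098 := ded_20_2 (flp_c L10128) (flp_f L10122) L21052
theorem L21056 : sm gg N2096 = N4368 := rfl
theorem L21060 : sm gf N2600 = N4368 := ded_29_0 (flp_g L21056) L10122 L10131 L12587
theorem L21064 : sm gb N2097 = N4369 := rfl
theorem L21066 : sm gd N4369 = N2164 := ded_14_2 (flp_b L10439) (flp_d L10126) L21064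
theorem L21070 : sm gc N2097 = N4370 := rfl
theorem L21072 : sm ga N4370 = N2098 := ded_8_1 (flp_c L10128) L10124 L21070
theorem L21074 : sm gd N2098 = N4371 := rfl
theorem L21077 : sm gg N2098 = N4372 := rfl
theorem L21079 : sm gc N4372 = N2099 := ded_21_1 (flp_g L10131) L10128 L21077
theorem L21089 : sm gb N2100 = N4374 := rfl
theorem L21091 : sm gd N2100 = N4375 := rfl
theorem L21093 : sm ga N4375 = N2101 := ded_9_1 (flp_d L10141) L10137 L21091
theorem L21095 : sm gc N2101 = N4375 := ded_28_0 (flp_d L21091) L10139 L5396 L3274 (flp_d L5396) (flp_c L10139) L21091 L21093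
theorem L21097 : sm gf N2100 = N4376 := rfl
theorem L21099 : sm ga N4376 = N2102 := ded_11_1 (flp_f L10145) L10137 L21097
theorem L21101 : sm gc N4376 = N2224 := ded_20_1 (flp_f L10737) (flp_c L10139) L21097
theorem L21103 : sm gg N2100 = N4377 := rfl
theorem L21105 : sm ga N4377 = N2103 := ded_12_1 (flp_g L10149) L10137 L21103
theorem L21107 : sm gc N4377 = N2225 := ded_21_1 (flp_g L10743) (flp_c L10139) L21103
theorem L21109 : sm ge N2101 = N4378 := rfl
theorem L21111 : sm gb N4378 = N2105 := ded_15_1 (flp_e L10159) (flp_b L10143) L21109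
theorem L21113 : sm gf N2101 = N4379 := rfl
theorem L21115 : sm gd N4379 = N2102 := ded_23_1 (flp_f L10145) L10141 L21113
theorem L21117 : sm gg N2101 = N4380 := rfl
theorem L21119 : sm gd N4380 = N2103 := ded_24_1 (flp_g L10149) L10141 L21117
theorem L21121 : sm gb N2102 = N4381 := rfl
theorem L21123 : sm gf N4381 = N2108 := ded_16_2 (flp_b L10169) (flp_f L5131) L5125 L10145 L21121
theorem L21125 : sm gg N2102 = N4382 := rfl
theorem L21127 : sm gc N4382 = N2227 := ded_21_1 (flp_g L10755) (flp_c L10147) L21125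
theorem L21129 : sm gf N4377 = N4382 := ded_29_0 (flp_g L21125) (flp_f L10145) L10149 (flp_a L21105)
theorem L21131 : sm gb N2103 = N4383 := rfl
theorem L21133 : sm gg N4383 = N2110 := ded_17_2 (flp_b L10177) (flp_g L5135) L5125 L10149 L21131
theorem L21135 : sm gf N2103 = N4384 := rfl
theorem L21137 : sm ga N4384 = N4382 := ded_11_1 (flp_f L21129) L21105 L21135
theorem L21139 : sm gc N4384 = N2229 := ded_20_1 (flp_f L10767) (flp_c L10151) L21135
theorem L21141 : sm gg N4384 = N4376 := ded_29_3 L21099 (flp_f L10145) L10149 L21135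
theorem L21143 : sm gb N2104 = N4385 := rfl
theorem L21145 : sm gd N4385 = N3651 := ded_14_2 (flp_b L17525) (flp_d L10157) L21143
theorem L21147 : sm ge N2104 = N4386 := rfl
theorem L21149 : sm ga N4386 = N3708 := ded_10_1 (flp_e L17820) (flp_a L10155) L21147
theorem L21151 : sm gc N4386 = N2105 := ded_19_1 (flp_e L10159) L10153 L21147
theorem L21153 : sm gf N2104 = N4387 := rfl
theorem L21155 : sm ga N4387 = N3709 := ded_11_1 (flp_f L17822) (flp_a L10155) L21153
theorem L21157 : sm gc N4387 = N2106 := ded_20_1 (flp_f L10161) L10153 L21153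
theorem L21159 : sm gd N4387 = N3652 := ded_23_1 (flp_f L17527) (flp_d L10157) L21153
theorem L21161 : sm gg N2104 = N4388 := rfl
theorem L21163 : sm ga N4388 = N3710 := ded_12_1 (flp_g L17826) (flp_a L10155) L21161
theorem L21165 : sm gc N4388 = N2107 := ded_21_1 (flp_g L10165) L10153 L21161
theorem L21167 : sm gd N4388 = N3653 := ded_24_1 (flp_g L17533) (flp_d L10157) L21161
theorem L21169 : sm gf N2105 = N4389 := rfl
theorem L21171 : sm ge N4389 = N2106 := ded_25_1 (flp_f L10161) L10159 L21169
theorem L21173 : sm gg N2105 = N4390 := rfl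
theorem L21175 : sm ge N4390 = N2107 := ded_26_1 (flp_g L10165) L10159 L21173
theorem L21177 : sm gb N2106 = N4391 := rfl
theorem L21179 : sm gd N4391 = N2108 := ded_14_2 (flp_b L10169) (flp_d L10163) L21177
theorem L21181 : sm gg N2106 = N4392 := rfl
theorem L21183 : sm gd N4392 = N2109 := ded_24_1 (flp_g L10171) (flp_d L10163) L21181
theorem L21185 : sm gf N4267 = N4392 := ded_29_0 (flp_g L21181) (flp_f L10161) L10165 (flp_a L20539)
theorem L21187 : sm gb N2107 = N4393 := rfl
theorem L21189 : sm gd N4393 = N2110 := ded_14_2 (flp_b L10177) (flp_d L10167) L21187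
theorem L21191 : sm gf N2107 = N4394 := rfl
theorem L21193 : sm ga N4394 = N4392 := ded_11_1 (flp_f L21185) L20539 L21191
theorem L21195 : sm gd N4394 = N2111 := ded_23_1 (flp_f L10179) (flp_d L10167) L21191
theorem L21197 : sm gg N4394 = N4266 := ded_29_3 L20531 (flp_f L10161) L10165 L21191
theorem L21199 : sm ga N2108 = N4395 := rfl
theorem L21201 : sm gc N2108 = N4396 := rfl
theorem L21203 : sm gb N4396 = N2113 := ded_13_1 (flp_c L10193) (flp_b L5139) (flp_c L5133) L10169 L21201
theorem L21205 : sm gg N2108 = N4397 := rfl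
theorem L21207 : sm gb N2109 = N4398 := rfl
theorem L21209 : sm ga N2110 = N4399 := rfl
theorem L21211 : sm gc N2110 = N4400 := rfl
theorem L21213 : sm gb N4400 = N2117 := ded_13_1 (flp_c L10211) (flp_b L5151) (flp_c L5137) L10177 L21211
theorem L21215 : sm gf N2110 = N4401 := rfl
theorem L21217 : sm gb N2111 = N4402 := rfl
theorem L21219 : sm gb N2112 = N4403 := rfl
theorem L21221 : sm gd N4403 = N2120 := ded_14_2 (flp_b L10223) (flp_d L10189) L21219
theorem L21223 : sm gc N2112 = N4404 := rfl
theorem L21225 : sm ga N4404 = N2113 := ded_8_1 (flp_c L10193) L10187 L21223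
theorem L21227 : sm gf N4404 = N2237 := ded_20_2 (flp_c L10803) (flp_f L10191) L21223
theorem L21229 : sm gd N2113 = N4405 := rfl
theorem L21231 : sm gf N4405 = N2239 := ded_23_2 (flp_d L10815) (flp_f L10195) L21229
theorem L21233 : sm gg N2113 = N4406 := rfl
theorem L21235 : sm gc N4406 = N2114 := ded_21_1 (flp_g L10197) L10193 L21233
theorem L21237 : sm gb N2114 = N4407 := rfl
theorem L21239 : sm gd N4407 = N2124 := ded_14_2 (flp_b L10247) (flp_d L10199) L21237
theorem L21241 : sm gg N4407 = N2115 := ded_17_2 (flp_b L10201) (flp_g L5145) L5139 L10197 L21237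
theorem L21243 : sm ga N2115 = N4408 := rfl
theorem L21245 : sm gd N4408 = N2125 := ded_9_2 (flp_a L10253) (flp_d L10203) L21243
theorem L21247 : sm gc N2115 = N4409 := rfl
theorem L21249 : sm gf N2115 = N4410 := rfl
theorem L21251 : sm gd N4410 = N2127 := ded_23_1 (flp_f L10261) (flp_d L10203) L21249
theorem L21253 : sm gb N4410 = N4275 := ded_16_1 (flp_f L20565) (flp_b L9889) L5149 L10201 L21249
theorem L21255 : sm gb N2116 = N4411 := rfl
theorem L21257 : sm gd N4411 = N2128 := ded_14_2 (flp_b L10267) (flp_d L10207) L21255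
theorem L21259 : sm gc N2116 = N4412 := rfl
theorem L21261 : sm ga N4412 = N2117 := ded_8_1 (flp_c L10211) L10205 L21259
theorem L21263 : sm gg N4412 = N2243 := ded_21_2 (flp_c L10833) (flp_g L10209) L21259
theorem L21265 : sm gd N2117 = N4413 := rfl
theorem L21267 : sm gg N4413 = N2245 := ded_24_2 (flp_d L10845) (flp_g L10213) L21265
theorem L21273 : sm gb N2118 = N4415 := rfl
theorem L21275 : sm gd N4415 = N2132 := ded_14_2 (flp_b L10289) (flp_d L10217) L21273
theorem L21277 : sm gf N4415 = N2119 := ded_16_2 (flp_b L10219) (flp_f L5157) L5151 L10215 L21273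
theorem L21279 : sm ga N2119 = N4416 := rfl
theorem L21281 : sm gd N4416 = N2133 := ded_9_2 (flp_a L10295) (flp_d L10221) L21279
theorem L21283 : sm gc N2119 = N4417 := rfl
theorem L21285 : sm gg N2119 = N4418 := rfl
theorem L21287 : sm gd N4418 = N2135 := ded_24_1 (flp_g L10303) (flp_d L10221) L21285
theorem L21289 : sm gb N4418 = N4272 := ded_17_1 (flp_g L20555) (flp_b L9885) (flp_g L5163) L10219 L21285
theorem L21291 : sm ga N2120 = N4419 := rfl
theorem L21296 : sm gb N4419 = N2250 := ded_7_2 L20575 (flp_b L20569) (flp_a L9893) (flp_b L5023) L2611 L2679 L5165 L10223 L21291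
theorem L21300 : sm gg N2120 = N4420 := rfl
theorem L21303 : sm ge N4420 = N2137 := ded_26_1 (flp_g L10322) (flp_e L10225) L21300
theorem L21306 : sm gd N2121 = N4421 := rfl
theorem L21308 : sm ga N4421 = N2122 := ded_9_1 (flp_d L10237) (flp_a L10230) L21306
theorem L21311 : sm gf N4421 = N2253 := ded_23_2 (flp_d L10882) (flp_f L10234) L21306
theorem L21313 : sm gc N2122 = N4422 := rfl
theorem L21315 : sm gf N4422 = N2256 := ded_20_2 (flp_c L10900) (flp_f L10239) L21313
theorem L21317 : sm ge N2122 = N4423 := rfl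
theorem L21319 : sm gf N4423 = N2257 := ded_25_2 (flp_e L10902) (flp_f L10239) L21317
theorem L21321 : sm gd N4423 = N2140 := ded_22_1 (flp_e L10337) (flp_d L5215) (flp_e L5173) L10237 L21317
theorem L21323 : sm gg N2122 = N4424 := rfl
theorem L21327 : sm gb N2123 = N4425 := rfl
theorem L21329 : sm ge N4425 = N2142 := ded_15_2 (flp_b L10345) (flp_e L10245) L21327
theorem L21331 : sm ga N2124 = N4426 := rfl
theorem L21333 : sm ge N4426 = N2143 := ded_10_2 (flp_a L10347) (flp_e L10249) L21331
theorem L21335 : sm gg N4426 = N2125 := ded_12_2 (flp_a L10253) (flp_g L10251) L21331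
theorem L21337 : sm gc N2124 = N4427 := rfl
theorem L21339 : sm ge N4427 = N2144 := ded_19_2 (flp_c L10351) (flp_e L10249) L21337
theorem L21341 : sm gg N4427 = N2126 := ded_21_2 (flp_c L10257) (flp_g L10251) L21337
theorem L21343 : sm gf N2124 = N4428 := rfl
theorem L21345 : sm ge N4428 = N2145 := ded_25_1 (flp_f L10355) (flp_e L10249) L21343
theorem L21347 : sm gg N4428 = N2777 := ded_29_3 (flp_a L13422) (flp_f L10261) (flp_g L10251) L21343
theorem L21351 : sm gb N2125 = N4429 := rfl
theorem L21353 : sm ge N4429 = N2146 := ded_15_2 (flp_b L10367) (flp_e L10255) L21351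
theorem L21355 : sm gf N4429 = N2765 := ded_16_2 L13355 (flp_f L6588) L13418 (flp_f L13424) L21351
theorem L21357 : sm gc N2125 = N4430 := rfl
theorem L21359 : sm ga N4430 = N2126 := ded_8_1 (flp_c L10257) L10253 L21357
theorem L21361 : sm ge N4430 = N2147 := ded_19_2 (flp_c L10371) (flp_e L10255) L21357
theorem L21363 : sm gd N2126 = N4431 := rfl
theorem L21365 : sm gf N2126 = N4432 := rfl
theorem L21367 : sm gc N4432 = N2127 := ded_20_1 (flp_f L10261) L10257 L21365
theorem L21369 : sm ge N4432 = N2149 := ded_25_1 (flp_f L10377) (flp_e L10259) L21365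
theorem L21371 : sm gg N2127 = N4433 := rfl
theorem L21377 : sm gf N4426 = N4433 := ded_29_0 (flp_g L21371) (flp_f L10261) (flp_g L10251) L21331
theorem L21396 : sm gb N2129 = N4437 := rfl
theorem L21398 : sm ge N4437 = N2155 := ded_15_2 (flp_b L10397) (flp_e L10275) L21396
theorem L21400 : sm gd N2129 = N4438 := rfl
theorem L21402 : sm ga N4438 = N2130 := ded_9_1 (flp_d L10279) (flp_a L10273) L21400
theorem L21404 : sm gg N4438 = N2267 := ded_24_2 (flp_d L10954) (flp_g L10277) L21400
theorem L21406 : sm gc N2130 = N4439 := rfl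
theorem L21408 : sm gg N4439 = N2270 := ded_21_2 (flp_c L10972) (flp_g L10281) L21406
theorem L21410 : sm ge N2130 = N4440 := rfl
theorem L21412 : sm gg N4440 = N2271 := ded_26_2 (flp_e L10974) (flp_g L10281) L21410
theorem L21414 : sm gd N4440 = N2158 := ded_22_1 (flp_e L10409) (flp_d L5243) (flp_e L5193) L10279 L21410
theorem L21416 : sm gf N2130 = N4441 := rfl
theorem L21420 : sm gb N2131 = N4442 := rfl
theorem L21422 : sm ge N4442 = N2160 := ded_15_2 (flp_b L10417) (flp_e L10287) L21420
theorem L21424 : sm ga N2132 = N4443 := rfl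
theorem L21426 : sm ge N4443 = N2161 := ded_10_2 (flp_a L10419) (flp_e L10291) L21424
theorem L21428 : sm gf N4443 = N2133 := ded_11_2 (flp_a L10295) (flp_f L10293) L21424
theorem L21430 : sm gb N4443 = N4426 := ded_7_2 (flp_a L21331) (flp_b L10247) (flp_a L5464) L10928 L11004 (flp_b L11000) L5500 L10289 L21424
theorem L21432 : sm gc N2132 = N4444 := rfl
theorem L21436 : sm gf N4444 = N2134 := ded_20_2 (flp_c L10299) (flp_f L10293) L21432
theorem L21438 : sm gg N2132 = N4445 := rfl
theorem L21444 : sm gb N4445 = N2742 := ded_17_1 (flp_g L13221) (flp_b L10968) (flp_g L5486) L10289 L21438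
theorem L21446 : sm gb N2133 = N4446 := rfl
theorem L21448 : sm ge N4446 = N2164 := ded_15_2 (flp_b L10439) (flp_e L10297) L21446
theorem L21450 : sm gg N4446 = N2735 := ded_17_2 L13184 L6513 L13245 (flp_g L13251) L21446
theorem L21452 : sm gc N2133 = N4447 := rfl
theorem L21454 : sm ga N4447 = N2134 := ded_8_1 (flp_c L10299) L10295 L21452
theorem L21456 : sm ge N4447 = N2165 := ded_19_2 (flp_c L10443) (flp_e L10297) L21452
theorem L21458 : sm gd N2134 = N4448 := rfl
theorem L21460 : sm gg N2134 = N4449 := rfl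
theorem L21462 : sm gc N4449 = N2135 := ded_21_1 (flp_g L10303) L10299 L21460
theorem L21464 : sm ge N4449 = N2167 := ded_26_1 (flp_g L10449) (flp_e L10301) L21460
theorem L21474 : sm gc N2138 = N4451 := rfl
theorem L21476 : sm ga N4451 = N2139 := ded_8_1 (flp_c L10333) (flp_a L10328) L21474
theorem L21478 : sm gf N4451 = N2288 := ded_20_2 (flp_c L11058) (flp_f L10331) L21474
theorem L21480 : sm gd N4345 = N4451 := ded_28_1 (flp_c L21474) (flp_d L10326) (flp_c L5207) (flp_d L5089) L10065 L20940 L20942 L20946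
theorem L21482 : sm ge N2138 = N4452 := rfl
theorem L21484 : sm ga N4452 = N2140 := ded_10_1 (flp_e L10337) (flp_a L10328) L21482
theorem L21487 : sm gf N4452 = N2289 := ded_25_2 (flp_e L11064) (flp_f L10331) L21482
theorem L21491 : sm gd N2139 = N4454 := rfl
theorem L21495 : sm gf N4454 = N2294 := ded_23_2 (flp_d L11101) (flp_f L10335) L21491
theorem L21497 : sm gc N4344 = N4454 := ded_28_0 (flp_d L21491) (flp_c L10333) (flp_d L5215) (flp_c L2709) (flp_d L2643) L5093 L10071 (flp_a L20942)
theorem L21499 : sm ge N2139 = N4455 := rfl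
theorem L21501 : sm gc N4455 = N2140 := ded_19_1 (flp_e L10337) L10333 L21499
theorem L21505 : sm gg N2139 = N4456 := rfl
theorem L21507 : sm gc N4456 = N2141 := ded_21_1 (flp_g L10341) L10333 L21505
theorem L21509 : sm gg N2140 = N4457 := rfl
theorem L21511 : sm ge N4457 = N2141 := ded_26_1 (flp_g L10341) L10337 L21509
theorem L21513 : sm gb N2141 = N4458 := rfl
theorem L21515 : sm gd N4458 = N2142 := ded_14_2 (flp_b L10345) (flp_d L10343) L21513
theorem L21517 : sm ga N2142 = N4459 := rfl
theorem L21519 : sm gc N2142 = N4460 := rfl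
theorem L21521 : sm gb N4460 = N2144 := ded_13_1 (flp_c L10351) (flp_b L5223) (flp_c L5221) L10345 L21519
theorem L21523 : sm gf N2142 = N4461 := rfl
theorem L21525 : sm gc N2143 = N4462 := rfl
theorem L21527 : sm ga N4462 = N2144 := ded_8_1 (flp_c L10351) L10347 L21525
theorem L21529 : sm gg N4462 = N2147 := ded_21_2 (flp_c L10371) (flp_g L10349) L21525
theorem L21531 : sm gd N2144 = N4463 := rfl
theorem L21533 : sm gg N4463 = N2148 := ded_24_2 (flp_d L10375) (flp_g L10353) L21531
theorem L21541 : sm gc N2146 = N4465 := rfl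
theorem L21543 : sm gf N4465 = N2860 := ded_20_2 L13828 (flp_f L10369) L21541
theorem L21545 : sm gb N2147 = N4466 := rfl
theorem L21547 : sm gd N2147 = N4467 := rfl
theorem L21549 : sm ga N4467 = N2148 := ded_9_1 (flp_d L10375) (flp_a L10373) L21547
theorem L21551 : sm gc N2148 = N4468 := rfl
theorem L21553 : sm ge N2148 = N4469 := rfl
theorem L21555 : sm gf N2148 = N4470 := rfl
theorem L21557 : sm gd N4470 = N2149 := ded_23_1 (flp_f L10377) L10375 L21555
theorem L21559 : sm gb N2149 = N4471 := rfl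
theorem L21588 : sm ga N2155 = N4477 := rfl
theorem L21590 : sm gd N2155 = N4478 := rfl
theorem L21592 : sm gb N4478 = N2156 := ded_14_1 (flp_d L10399) L10397 L21590
theorem L21594 : sm gf N2155 = N4479 := rfl
theorem L21596 : sm gg N2155 = N4480 := rfl
theorem L21600 : sm gc N2156 = N4481 := rfl
theorem L21602 : sm ga N4481 = N2157 := ded_8_1 (flp_c L10405) (flp_a L10401) L21600
theorem L21604 : sm gg N4481 = N2318 := ded_21_2 (flp_c L11204) (flp_g L10403) L21600
theorem L21606 : sm gd N4362 = N4481 := ded_28_1 (flp_c L21600) (flp_d L10399) (flp_c L5237) (flp_d L5108) L10103 L21022 L21024 L21028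
theorem L21608 : sm ge N2156 = N4482 := rfl
theorem L21610 : sm ga N4482 = N2158 := ded_10_1 (flp_e L10409) (flp_a L10401) L21608
theorem L21612 : sm gg N4482 = N2319 := ded_26_2 (flp_e L11210) (flp_g L10403) L21608
theorem L21616 : sm gd N2157 = N4484 := rfl
theorem L21620 : sm gg N4484 = N2325 := ded_24_2 (flp_d L11236) (flp_g L10407) L21616
theorem L21622 : sm gc N4361 = N4484 := ded_28_0 (flp_d L21616) (flp_c L10405) (flp_d L5243) (flp_c L2721) (flp_d L2656) L5112 L10109 (flp_a L21024)
theorem L21624 : sm ge N2157 = N4485 := rfl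
theorem L21626 : sm gc N4485 = N2158 := ded_19_1 (flp_e L10409) L10405 L21624
theorem L21628 : sm gg N4485 = N2326 := ded_26_2 (flp_e L11242) (flp_g L10407) L21624
theorem L21630 : sm gf N2157 = N4486 := rfl
theorem L21632 : sm gc N4486 = N2159 := ded_20_1 (flp_f L10413) L10405 L21630
theorem L21634 : sm gf N2158 = N4487 := rfl
theorem L21638 : sm gb N2159 = N4488 := rfl
theorem L21640 : sm gd N4488 = N2160 := ded_14_2 (flp_b L10417) (flp_d L10415) L21638
theorem L21642 : sm ga N2160 = N4489 := rfl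
theorem L21644 : sm gc N2160 = N4490 := rfl
theorem L21646 : sm gf N4490 = N2824 := ded_20_2 L18087 L18083 L21644
theorem L21648 : sm gb N4490 = N2162 := ded_13_1 (flp_c L10423) (flp_b L5251) (flp_c L5249) L10417 L21644
theorem L21650 : sm gg N2160 = N4491 := rfl
theorem L21652 : sm gc N2161 = N4492 := rfl
theorem L21654 : sm ga N4492 = N2162 := ded_8_1 (flp_c L10423) L10419 L21652
theorem L21656 : sm gf N4492 = N2165 := ded_20_2 (flp_c L10443) (flp_f L10421) L21652
theorem L21658 : sm gd N2162 = N4493 := rfl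
theorem L21660 : sm gf N4493 = N2166 := ded_23_2 (flp_d L10447) (flp_f L10425) L21658
theorem L21668 : sm gc N2164 = N4495 := rfl
theorem L21672 : sm gb N2165 = N4496 := rfl
theorem L21674 : sm gd N2165 = N4497 := rfl
theorem L21676 : sm ga N4497 = N2166 := ded_9_1 (flp_d L10447) (flp_a L10445) L21674
theorem L21678 : sm gc N2166 = N4498 := rfl
theorem L21680 : sm ge N2166 = N4499 := rfl
theorem L21690 : sm gf N2167 = N4502 := rfl
theorem L21694 : sm gc N4502 = N2168 := ded_20_1 (flp_f L10453) (flp_c L10451) L21690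
theorem L21698 : sm gb N2169 = N4503 := rfl
theorem L21700 : sm ge N4503 = N2223 := ded_15_2 (flp_b L10733) (flp_e L10465) L21698
theorem L21702 : sm gd N2169 = N4504 := rfl
theorem L21704 : sm ga N4504 = N2170 := ded_9_1 (flp_d L10467) L10463 L21702
theorem L21706 : sm ge N4504 = N2482 := ded_22_2 (flp_d L11972) L5942 (flp_d L5396) (flp_e L10465) L21702
theorem L21708 : sm gf N2169 = N4505 := rfl
theorem L21710 : sm ga N4505 = N2171 := ded_11_1 (flp_f L10473) L10463 L21708
theorem L21712 : sm ge N4505 = N2224 := ded_25_1 (flp_f L10737) (flp_e L10465) L21708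
theorem L21714 : sm gg N2169 = N4506 := rfl
theorem L21716 : sm ga N4506 = N2172 := ded_12_1 (flp_g L10477) L10463 L21714
theorem L21718 : sm ge N4506 = N2225 := ded_26_1 (flp_g L10743) (flp_e L10465) L21714
theorem L21720 : sm gc N2170 = N4507 := rfl
theorem L21722 : sm ge N4507 = N2485 := ded_19_2 (flp_c L11990) (flp_e L10471) L21720
theorem L21724 : sm gb N4507 = N4507 := ded_13_1 (flp_c L21720) L10469 L5273 (flp_b L10469) L21720
theorem L21725 : sm gf N2170 = N4508 := rfl
theorem L21727 : sm gd N4508 = N2171 := ded_23_1 (flp_f L10473) L10467 L21725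
theorem L21729 : sm ge N4508 = N2486 := ded_25_1 (flp_f L11993) (flp_e L10471) L21725
theorem L21731 : sm gg N2170 = N4509 := rfl
theorem L21733 : sm gd N4509 = N2172 := ded_24_1 (flp_g L10477) L10467 L21731
theorem L21735 : sm ge N4509 = N2487 := ded_26_1 (flp_g L11997) (flp_e L10471) L21731
theorem L21737 : sm gb N2171 = N4510 := rfl
theorem L21739 : sm ge N4510 = N2226 := ded_15_2 (flp_b L10749) (flp_e L10475) L21737
theorem L21741 : sm gf N4510 = N2175 := ded_16_2 (flp_b L10499) (flp_f L5274) L5263 L10473 L21737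
theorem L21743 : sm gg N2171 = N4511 := rfl
theorem L21745 : sm ge N4511 = N2227 := ded_26_1 (flp_g L10755) (flp_e L10475) L21743
theorem L21747 : sm gf N4506 = N4511 := ded_29_0 (flp_g L21743) (flp_f L10473) L10477 (flp_a L21716)
theorem L21749 : sm gb N2172 = N4512 := rfl
theorem L21751 : sm ge N4512 = N2228 := ded_15_2 (flp_b L10761) (flp_e L10479) L21749
theorem L21753 : sm gg N4512 = N2176 := ded_17_2 (flp_b L10503) (flp_g L5282) L5263 L10477 L21749
theorem L21755 : sm gf N2172 = N4513 := rfl
theorem L21757 : sm ga N4513 = N4511 := ded_11_1 (flp_f L21747) L21716 L21755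
theorem L21759 : sm ge N4513 = N2229 := ded_25_1 (flp_f L10767) (flp_e L10479) L21755
theorem L21761 : sm gg N4513 = N4505 := ded_29_3 L21710 (flp_f L10473) L10477 L21755
theorem L21763 : sm gb N2173 = N4514 := rfl
theorem L21765 : sm gd N4514 = N2175 := ded_14_2 (flp_b L10499) (flp_d L10486) L21763
theorem L21767 : sm ge N4514 = N2492 := ded_15_2 (flp_b L12029) (flp_e L10488) L21763
theorem L21769 : sm gb N2174 = N4515 := rfl
theorem L21771 : sm gd N4515 = N2176 := ded_14_2 (flp_b L10503) (flp_d L10495) L21769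
theorem L21773 : sm ge N4515 = N2494 := ded_15_2 (flp_b L12040) (flp_e L10497) L21769
theorem L21775 : sm ga N2175 = N4516 := rfl
theorem L21777 : sm ge N4516 = N2230 := ded_10_2 (flp_a L10775) (flp_e L10501) L21775
theorem L21779 : sm gc N2175 = N4517 := rfl
theorem L21781 : sm ge N4517 = N2231 := ded_19_2 (flp_c L10779) (flp_e L10501) L21779
theorem L21783 : sm gb N4517 = N2178 := ded_13_1 (flp_c L10513) (flp_b L5290) (flp_c L5278) L10499 L21779
theorem L21785 : sm gg N2175 = N4518 := rfl
theorem L21787 : sm ge N4518 = N2232 := ded_26_1 (flp_g L10783) (flp_e L10501) L21785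
theorem L21789 : sm ga N2176 = N4519 := rfl
theorem L21791 : sm ge N4519 = N2233 := ded_10_2 (flp_a L10787) (flp_e L10505) L21789
theorem L21793 : sm gc N2176 = N4520 := rfl
theorem L21795 : sm ge N4520 = N2234 := ded_19_2 (flp_c L10791) (flp_e L10505) L21793
theorem L21797 : sm gb N4520 = N2181 := ded_13_1 (flp_c L10529) (flp_b L5296) (flp_c L5286) L10503 L21793
theorem L21799 : sm gf N2176 = N4521 := rfl
theorem L21801 : sm ge N4521 = N2235 := ded_25_1 (flp_f L10795) (flp_e L10505) L21799
theorem L21803 : sm gb N2177 = N4522 := rfl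
theorem L21805 : sm gd N4522 = N2183 := ded_14_2 (flp_b L10539) (flp_d L10509) L21803
theorem L21807 : sm ge N4522 = N2236 := ded_15_2 (flp_b L10799) (flp_e L10511) L21803
theorem L21809 : sm gc N2177 = N4523 := rfl
theorem L21811 : sm ga N4523 = N2178 := ded_8_1 (flp_c L10513) L10507 L21809
theorem L21813 : sm ge N4523 = N2237 := ded_19_2 (flp_c L10803) (flp_e L10511) L21809
theorem L21815 : sm gg N2177 = N4524 := rfl
theorem L21817 : sm ga N4524 = N2179 := ded_12_1 (flp_g L10517) L10507 L21815
theorem L21819 : sm gd N4524 = N2185 := ded_24_1 (flp_g L10549) (flp_d L10509) L21815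
theorem L21821 : sm ge N4524 = N2238 := ded_26_1 (flp_g L10807) (flp_e L10511) L21815
theorem L21825 : sm gd N2178 = N4525 := rfl
theorem L21827 : sm gg N2178 = N4526 := rfl
theorem L21829 : sm gc N4526 = N2179 := ded_21_1 (flp_g L10517) L10513 L21827
theorem L21831 : sm ge N4526 = N2240 := ded_26_1 (flp_g L10817) (flp_e L10515) L21827
theorem L21833 : sm gf N2179 = N4527 := rfl
theorem L21837 : sm gd N4527 = N2188 := ded_23_1 (flp_f L10567) (flp_d L10519) L21833
theorem L21841 : sm gg N4527 = N4316 := ded_29_3 (flp_a L20783) L9991 L10517 L21833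
theorem L21843 : sm gb N2180 = N4528 := rfl
theorem L21845 : sm gd N4528 = N2189 := ded_14_2 (flp_b L10575) (flp_d L10525) L21843
theorem L21847 : sm ge N4528 = N2242 := ded_15_2 (flp_b L10829) (flp_e L10527) L21843
theorem L21849 : sm gc N2180 = N4529 := rfl
theorem L21851 : sm ga N4529 = N2181 := ded_8_1 (flp_c L10529) L10523 L21849
theorem L21853 : sm ge N4529 = N2243 := ded_19_2 (flp_c L10833) (flp_e L10527) L21849
theorem L21855 : sm gf N2180 = N4530 := rfl
theorem L21857 : sm ga N4530 = N2182 := ded_11_1 (flp_f L10533) L10523 L21855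
theorem L21859 : sm gd N4530 = N2191 := ded_23_1 (flp_f L10585) (flp_d L10525) L21855
theorem L21861 : sm ge N4530 = N2244 := ded_25_1 (flp_f L10837) (flp_e L10527) L21855
theorem L21863 : sm gg N4322 = N4530 := ded_29_1 (flp_f L21855) (flp_g L20815) (flp_a L20809) L20823
theorem L21865 : sm gd N2181 = N4531 := rfl
theorem L21867 : sm gf N2181 = N4532 := rfl
theorem L21869 : sm gc N4532 = N2182 := ded_20_1 (flp_f L10533) L10529 L21867
theorem L21871 : sm ge N4532 = N2246 := ded_25_1 (flp_f L10847) (flp_e L10531) L21867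
theorem L21873 : sm gg N2182 = N4533 := rfl
theorem L21875 : sm ga N4533 = N4322 := ded_12_1 L21863 L21857 L21873
theorem L21877 : sm gd N4533 = N2194 := ded_24_1 (flp_g L10603) (flp_d L10535) L21873
theorem L21879 : sm ge N4533 = N2247 := ded_26_1 (flp_g L10851) (flp_e L10537) L21873
theorem L21883 : sm ga N2183 = N4534 := rfl
theorem L21887 : sm gb N4534 = N2522 := ded_7_2 (flp_a L12207) (flp_b L6042) (flp_a L3150) (flp_b L1611) (flp_a L1404) L2751 L5302 L10539 L21883
theorem L21889 : sm gc N2183 = N4535 := rfl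
theorem L21891 : sm ge N4535 = N2196 := ded_19_2 (flp_c L10617) (flp_e L10541) L21889
theorem L21893 : sm gf N2183 = N4536 := rfl
theorem L21895 : sm ge N4536 = N2197 := ded_25_1 (flp_f L10619) (flp_e L10541) L21893
theorem L21897 : sm gg N2183 = N4537 := rfl
theorem L21899 : sm ge N4537 = N2198 := ded_26_1 (flp_g L10623) (flp_e L10541) L21897
theorem L21905 : sm gd N2184 = N4539 := rfl
theorem L21907 : sm ga N4539 = N2186 := ded_9_1 (flp_d L10557) (flp_a L10545) L21905
theorem L21909 : sm gg N2184 = N4540 := rfl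
theorem L21913 : sm gc N4540 = N2185 := ded_21_1 (flp_g L10549) L10543 L21909
theorem L21919 : sm gb N2185 = N4541 := rfl
theorem L21921 : sm ge N4541 = N2202 := ded_15_2 (flp_b L10641) (flp_e L10553) L21919
theorem L21923 : sm gc N2186 = N4542 := rfl
theorem L21925 : sm ge N2186 = N4543 := rfl
theorem L21931 : sm gg N2186 = N4544 := rfl
theorem L21933 : sm gd N4544 = N2187 := ded_24_1 (flp_g L10561) L10557 L21931
theorem L21935 : sm gb N2187 = N4545 := rfl
theorem L21937 : sm ge N4545 = N2206 := ded_15_2 (flp_b L10655) (flp_e L10565) L21935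
theorem L21939 : sm gg N4545 = N2533 := ded_17_2 (flp_b L12259) (flp_g L6064) (flp_b L5310) L10561 L21935
theorem L21951 : sm gb N2188 = N4547 := rfl
theorem L21953 : sm ge N4547 = N2208 := ded_15_2 (flp_b L10667) (flp_e L10571) L21951
theorem L21955 : sm ga N2189 = N4548 := rfl
theorem L21957 : sm ge N4548 = N2209 := ded_10_2 (flp_a L10671) (flp_e L10577) L21955
theorem L21965 : sm gf N2189 = N4550 := rfl
theorem L21967 : sm ge N4550 = N2211 := ded_25_1 (flp_f L10679) (flp_e L10577) L21965
theorem L21969 : sm gg N2189 = N4551 := rfl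
theorem L21971 : sm ge N4551 = N2212 := ded_26_1 (flp_g L10683) (flp_e L10577) L21969
theorem L21977 : sm gd N2190 = N4553 := rfl
theorem L21979 : sm ga N4553 = N2192 := ded_9_1 (flp_d L10593) (flp_a L10581) L21977
theorem L21981 : sm gf N2190 = N4554 := rfl
theorem L21985 : sm gc N4554 = N2191 := ded_20_1 (flp_f L10585) L10579 L21981
theorem L21991 : sm gb N2191 = N4555 := rfl
theorem L21993 : sm ge N4555 = N2216 := ded_15_2 (flp_b L10701) (flp_e L10589) L21991
theorem L21995 : sm gc N2192 = N4556 := rfl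
theorem L21997 : sm ge N2192 = N4557 := rfl
theorem L22001 : sm gd N4557 = N2218 := ded_22_1 (flp_e L10707) (flp_d L5378) (flp_e L5322) L10593 L21997
theorem L22003 : sm gf N2192 = N4558 := rfl
theorem L22007 : sm gb N2193 = N4559 := rfl
theorem L22009 : sm ge N4559 = N2220 := ded_15_2 (flp_b L10715) (flp_e L10601) L22007
theorem L22011 : sm gf N4559 = N2554 := ded_16_2 (flp_b L12365) (flp_f L6112) (flp_b L5324) L10597 L22007
theorem L22013 : sm gg N2193 = N4560 := rfl
theorem L22017 : sm gc N4560 = N2194 := ded_21_1 (flp_g L10603) (flp_c L10599) L22013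
theorem L22019 : sm ge N4560 = N2221 := ded_26_1 (flp_g L10719) (flp_e L10601) L22013
theorem L22021 : sm gf N4333 = N4560 := ded_29_0 (flp_g L22013) (flp_f L10597) (flp_g L10050) (flp_a L20885)
theorem L22023 : sm gb N2194 = N4561 := rfl
theorem L22025 : sm ge N4561 = N2222 := ded_15_2 (flp_b L10727) (flp_e L10607) L22023
theorem L22027 : sm ga N4547 = N4561 := ded_10_3 L22025 (flp_a L10731) (flp_e L21953)
theorem L22029 : sm gc N2195 = N4562 := rfl
theorem L22031 : sm ga N4562 = N2196 := ded_8_1 (flp_c L10617) L10611 L22029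
theorem L22043 : sm gd N2196 = N4565 := rfl
theorem L22045 : sm gf N2196 = N4566 := rfl
theorem L22049 : sm gg N2196 = N4567 := rfl
theorem L22061 : sm gb N2198 = N4569 := rfl
theorem L22063 : sm gd N4569 = N2283 := ded_14_2 (flp_b L11034) (flp_d L10625) L22061
theorem L22065 : sm gg N4569 = N2202 := ded_17_2 (flp_b L10641) (flp_g L5338) L5330 L10623 L22061
theorem L22067 : sm ga N2638 = N4569 := ded_9_3 L22063 L11040 (flp_d L12755)
theorem L22069 : sm gf N2636 = N4569 := ded_23_0 L22063 (flp_f L11038) (flp_d L12747)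
theorem L22079 : sm ga N2199 = N4571 := rfl
theorem L22085 : sm gf N2199 = N4573 := rfl
theorem L22087 : sm gg N2199 = N4574 := rfl
theorem L22089 : sm ge N2200 = N4575 := rfl
theorem L22101 : sm gb N2201 = N4577 := rfl
theorem L22103 : sm ga N2202 = N4578 := rfl
theorem L22109 : sm gb N4578 = N4257 := ded_7_2 L20490 (flp_b L10097) L12781 (flp_b L12777) L6298 L3270 (flp_a L5340) L10641 L22103
theorem L22111 : sm gc N2202 = N4579 := rfl
theorem L22113 : sm gb N2203 = N4580 := rfl
theorem L22115 : sm gc N4580 = N2575 := ded_13_2 L12477 (flp_c L6162) (flp_b L5348) L10645 L22113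
theorem L22117 : sm ge N2203 = N4581 := rfl
theorem L22121 : sm gg N2203 = N4582 := rfl
theorem L22135 : sm gf N2205 = N4585 := rfl
theorem L22141 : sm gg N4585 = N4344 := ded_29_3 L20942 L10074 L10651 L22135
theorem L22143 : sm ga N2206 = N4586 := rfl
theorem L22145 : sm gg N4586 = N2586 := ded_12_2 (flp_a L12527) (flp_g L10657) L22143
theorem L22149 : sm gb N2207 = N4588 := rfl
theorem L22151 : sm gc N2208 = N4589 := rfl
theorem L22153 : sm gg N2208 = N4590 := rfl
theorem L22155 : sm ga N4590 = N2606 := ded_12_1 L12615 (flp_a L10731) L22153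
theorem L22159 : sm gb N4590 = N4342 := ded_17_1 (flp_g L20933) (flp_b L10061) (flp_g L5360) L10667 L22153
theorem L22161 : sm gc N2209 = N4591 := rfl
theorem L22163 : sm ga N4591 = N2210 := ded_8_1 (flp_c L10677) L10671 L22161
theorem L22165 : sm gf N2209 = N4592 := rfl
theorem L22169 : sm gd N4592 = N2306 := ded_23_1 (flp_f L11154) (flp_d L10673) L22165
theorem L22173 : sm gb N2210 = N4593 := rfl
theorem L22175 : sm gc N4593 = N2213 := ded_13_2 (flp_b L10687) (flp_c L5366) L5362 L10677 L22173
theorem L22177 : sm gd N2210 = N4594 := rfl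
theorem L22179 : sm gf N2210 = N4595 := rfl
theorem L22183 : sm gg N2210 = N4596 := rfl
theorem L22185 : sm gc N4596 = N2212 := ded_21_1 (flp_g L10683) L10677 L22183
theorem L22187 : sm gb N2211 = N4597 := rfl
theorem L22189 : sm gd N4597 = N2311 := ded_14_2 (flp_b L11174) (flp_d L10681) L22187
theorem L22191 : sm gf N4597 = N2216 := ded_16_2 (flp_b L10701) (flp_f L5370) L5362 L10679 L22187
theorem L22193 : sm ga N2596 = N4597 := ded_9_3 L22189 (flp_a L11180) (flp_d L12567)
theorem L22195 : sm gg N2593 = N4597 := ded_24_0 L22189 L11178 (flp_d L12555)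
theorem L22213 : sm ga N2213 = N4600 := rfl
theorem L22215 : sm gd N2213 = N4601 := rfl
theorem L22217 : sm gb N4601 = N2214 := ded_14_1 (flp_d L10689) L10687 L22215
theorem L22219 : sm gf N2213 = N4602 := rfl
theorem L22221 : sm gg N2213 = N4603 := rfl
theorem L22227 : sm gf N2214 = N4605 := rfl
theorem L22233 : sm gg N4364 = N4605 := ded_29_1 (flp_f L22227) (flp_g L21026) L21024 L21037
theorem L22235 : sm gb N2215 = N4606 := rfl
theorem L22237 : sm ga N2216 = N4607 := rfl
theorem L22241 : sm gf N4607 = N2596 := ded_11_2 L22193 L22191 L22237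
theorem L22245 : sm gc N2216 = N4608 := rfl
theorem L22247 : sm gb N2217 = N4609 := rfl
theorem L22249 : sm gc N4609 = N2618 := ded_13_2 L12671 (flp_c L6251) (flp_b L5380) L10705 L22247
theorem L22255 : sm gf N2217 = N4611 := rfl
theorem L22257 : sm gc N4611 = N2219 := ded_20_1 (flp_f L10711) L10705 L22255
theorem L22259 : sm gf N2218 = N4612 := rfl
theorem L22263 : sm gb N2219 = N4613 := rfl
theorem L22265 : sm gd N4613 = N2220 := ded_14_2 (flp_b L10715) (flp_d L10713) L22263
theorem L22267 : sm gf N4613 = N2628 := ded_16_2 (flp_b L12713) (flp_f L6268) (flp_b L5380) L10711 L22263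
theorem L22277 : sm ga N2220 = N4615 := rfl
theorem L22279 : sm gf N4615 = N2629 := ded_11_2 (flp_a L12717) (flp_f L10717) L22277
theorem L22281 : sm gg N2220 = N4616 := rfl
theorem L22289 : sm gf N2222 = N4619 := rfl
theorem L22291 : sm ga N4619 = N2649 := ded_11_1 L12813 L10731 L22289
theorem L22297 : sm ga N2223 = N4620 := rfl
theorem L22299 : sm gd N4620 = N2650 := ded_9_2 (flp_a L12815) (flp_d L10735) L22297
theorem L22301 : sm gb N4620 = N2650 := ded_7_2 (flp_a L12815) (flp_b L6320) (flp_a L3272) (flp_b L1669) (flp_a L1428) L2783 L5394 L10733 L22297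
theorem L22303 : sm gc N2223 = N4621 := rfl
theorem L22305 : sm gf N2223 = N4622 := rfl
theorem L22307 : sm gd N4622 = N2652 := ded_23_1 (flp_f L12820) (flp_d L10735) L22305
theorem L22309 : sm gg N2223 = N4623 := rfl
theorem L22311 : sm gd N4623 = N2653 := ded_24_1 (flp_g L12822) (flp_d L10735) L22309
theorem L22313 : sm gb N2224 = N4624 := rfl
theorem L22315 : sm gd N4624 = N2654 := ded_14_2 (flp_b L12824) (flp_d L10741) L22313
theorem L22317 : sm gb N2225 = N4625 := rfl
theorem L22319 : sm gd N4625 = N2655 := ded_14_2 (flp_b L12826) (flp_d L10747) L22317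
theorem L22321 : sm ga N2226 = N4626 := rfl
theorem L22323 : sm gd N4626 = N2656 := ded_9_2 (flp_a L12828) (flp_d L10751) L22321
theorem L22325 : sm gf N4626 = N2230 := ded_11_2 (flp_a L10775) (flp_f L10753) L22321
theorem L22327 : sm gc N2226 = N4627 := rfl
theorem L22329 : sm gf N4627 = N2231 := ded_20_2 (flp_c L10779) (flp_f L10753) L22327
theorem L22331 : sm gg N2226 = N4628 := rfl
theorem L22333 : sm gd N4628 = N2658 := ded_24_1 (flp_g L12837) (flp_d L10751) L22331
theorem L22335 : sm gb N2227 = N4629 := rfl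
theorem L22337 : sm gd N4629 = N2659 := ded_14_2 (flp_b L12839) (flp_d L10757) L22335
theorem L22339 : sm ga N2228 = N4630 := rfl
theorem L22341 : sm gd N4630 = N2660 := ded_9_2 (flp_a L12841) (flp_d L10763) L22339
theorem L22343 : sm gg N4630 = N2233 := ded_12_2 (flp_a L10787) (flp_g L10765) L22339
theorem L22345 : sm gc N2228 = N4631 := rfl
theorem L22347 : sm gg N4631 = N2234 := ded_21_2 (flp_c L10791) (flp_g L10765) L22345
theorem L22349 : sm gf N2228 = N4632 := rfl
theorem L22351 : sm gd N4632 = N2662 := ded_23_1 (flp_f L12850) (flp_d L10763) L22349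
theorem L22353 : sm gb N2229 = N4633 := rfl
theorem L22355 : sm gd N4633 = N2663 := ded_14_2 (flp_b L12852) (flp_d L10771) L22353
theorem L22357 : sm gb N2230 = N4634 := rfl
theorem L22359 : sm gd N4634 = N2664 := ded_14_2 (flp_b L12854) (flp_d L10777) L22357
theorem L22361 : sm gc N2230 = N4635 := rfl
theorem L22363 : sm ga N4635 = N2231 := ded_8_1 (flp_c L10779) L10775 L22361
theorem L22365 : sm gg N2230 = N4636 := rfl
theorem L22367 : sm ga N4636 = N2232 := ded_12_1 (flp_g L10783) L10775 L22365
theorem L22369 : sm gd N4636 = N2666 := ded_24_1 (flp_g L12860) (flp_d L10777) L22365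
theorem L22371 : sm gf N4636 = N4628 := ded_29_2 (flp_g L22331) L22321 L22325 L22365
theorem L22373 : sm gd N2231 = N4637 := rfl
theorem L22375 : sm gb N4637 = N2239 := ded_14_1 (flp_d L10815) (flp_b L10781) L22373
theorem L22377 : sm gg N2231 = N4638 := rfl
theorem L22379 : sm gc N4638 = N2232 := ded_21_1 (flp_g L10783) L10779 L22377
theorem L22381 : sm gf N2232 = N4639 := rfl
theorem L22383 : sm ga N4639 = N4628 := ded_11_1 (flp_f L22371) L22367 L22381
theorem L22385 : sm gd N4639 = N2670 := ded_23_1 (flp_f L12878) (flp_d L10785) L22381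
theorem L22387 : sm gg N4639 = N4626 := ded_29_3 (flp_a L22321) L10753 L10783 L22381
theorem L22389 : sm gb N2233 = N4640 := rfl
theorem L22391 : sm gd N4640 = N2674 := ded_14_2 (flp_b L12894) (flp_d L10789) L22389
theorem L22393 : sm gc N2233 = N4641 := rfl
theorem L22395 : sm ga N4641 = N2234 := ded_8_1 (flp_c L10791) L10787 L22393
theorem L22397 : sm gf N2233 = N4642 := rfl
theorem L22399 : sm ga N4642 = N2235 := ded_11_1 (flp_f L10795) L10787 L22397
theorem L22401 : sm gd N4642 = N2676 := ded_23_1 (flp_f L12900) (flp_d L10789) L22397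
theorem L22403 : sm gg N4632 = N4642 := ded_29_1 (flp_f L22397) (flp_g L22343) (flp_a L22339) L22349
theorem L22405 : sm gd N2234 = N4643 := rfl
theorem L22407 : sm gb N4643 = N2245 := ded_14_1 (flp_d L10845) (flp_b L10793) L22405
theorem L22409 : sm gf N2234 = N4644 := rfl
theorem L22411 : sm gc N4644 = N2235 := ded_20_1 (flp_f L10795) L10791 L22409
theorem L22413 : sm gg N2235 = N4645 := rfl
theorem L22415 : sm ga N4645 = N4632 := ded_12_1 L22403 L22399 L22413
theorem L22417 : sm gd N4645 = N2680 := ded_24_1 (flp_g L12920) (flp_d L10797) L22413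
theorem L22419 : sm gf N4630 = N4645 := ded_29_0 (flp_g L22413) (flp_f L10795) (flp_g L10765) L22339
theorem L22421 : sm ga N2236 = N4646 := rfl
theorem L22427 : sm gc N2236 = N4647 := rfl
theorem L22429 : sm gf N2236 = N4648 := rfl
theorem L22431 : sm gd N4648 = N2250 := ded_23_1 (flp_f L10869) (flp_d L10801) L22429
theorem L22433 : sm gg N2236 = N4649 := rfl
theorem L22435 : sm gd N4649 = N2251 := ded_24_1 (flp_g L10873) (flp_d L10801) L22433
theorem L22437 : sm gb N2237 = N4650 := rfl
theorem L22439 : sm gd N2237 = N4651 := rfl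
theorem L22441 : sm ga N4651 = N2239 := ded_9_1 (flp_d L10815) (flp_a L10805) L22439
theorem L22443 : sm gg N2237 = N4652 := rfl
theorem L22445 : sm ga N4652 = N2240 := ded_12_1 (flp_g L10817) (flp_a L10805) L22443
theorem L22447 : sm gc N4652 = N2238 := ded_21_1 (flp_g L10807) L10803 L22443
theorem L22451 : sm gb N2238 = N4653 := rfl
theorem L22453 : sm gd N4653 = N2255 := ded_14_2 (flp_b L10896) (flp_d L10811) L22451
theorem L22455 : sm gc N2239 = N4654 := rfl
theorem L22457 : sm ge N2239 = N4655 := rfl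
theorem L22459 : sm gg N2239 = N4656 := rfl
theorem L22461 : sm gd N4656 = N2240 := ded_24_1 (flp_g L10817) L10815 L22459
theorem L22463 : sm gb N2240 = N4657 := rfl
theorem L22465 : sm gf N2240 = N4658 := rfl
theorem L22473 : sm gb N2241 = N4659 := rfl
theorem L22475 : sm gd N4659 = N2261 := ded_14_2 (flp_b L10928) (flp_d L10825) L22473
theorem L22477 : sm ga N2242 = N4660 := rfl
theorem L22483 : sm gc N2242 = N4661 := rfl
theorem L22485 : sm gf N2242 = N4662 := rfl
theorem L22487 : sm gd N4662 = N2264 := ded_23_1 (flp_f L10942) (flp_d L10831) L22485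
theorem L22493 : sm gb N2243 = N4664 := rfl
theorem L22495 : sm gd N2243 = N4665 := rfl
theorem L22497 : sm ga N4665 = N2245 := ded_9_1 (flp_d L10845) (flp_a L10835) L22495
theorem L22499 : sm gf N2243 = N4666 := rfl
theorem L22501 : sm ga N4666 = N2246 := ded_11_1 (flp_f L10847) (flp_a L10835) L22499
theorem L22503 : sm gc N4666 = N2244 := ded_20_1 (flp_f L10837) L10833 L22499
theorem L22507 : sm gb N2244 = N4667 := rfl
theorem L22509 : sm gd N4667 = N2269 := ded_14_2 (flp_b L10968) (flp_d L10841) L22507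
theorem L22511 : sm gc N2245 = N4668 := rfl
theorem L22513 : sm ge N2245 = N4669 := rfl
theorem L22515 : sm gf N2245 = N4670 := rfl
theorem L22517 : sm gd N4670 = N2246 := ded_23_1 (flp_f L10847) L10845 L22515
theorem L22519 : sm gb N2246 = N4671 := rfl
theorem L22521 : sm gg N2246 = N4672 := rfl
theorem L22525 : sm gc N4672 = N2247 := ded_21_1 (flp_g L10851) (flp_c L10849) L22521
theorem L22529 : sm gb N2247 = N4673 := rfl
theorem L22531 : sm gd N4673 = N2275 := ded_14_2 (flp_b L11000) (flp_d L10855) L22529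
theorem L22533 : sm ga N4659 = N4673 := ded_9_3 L22531 (flp_a L11004) (flp_d L22475)
theorem L22547 : sm gb N2249 = N4676 := rfl
theorem L22549 : sm ge N4676 = N2278 := ded_15_2 (flp_b L11014) (flp_e L10867) L22547
theorem L22551 : sm gc N4676 = N2252 := ded_13_2 (flp_b L10877) (flp_c L5438) L5434 L10865 L22547
theorem L22556 : sm gf N2249 = N4678 := rfl
theorem L22560 : sm ge N4678 = N2280 := ded_25_1 (flp_f L11021) (flp_e L10867) L22556
theorem L22563 : sm gg N2249 = N4679 := rfl
theorem L22567 : sm ge N4679 = N2281 := ded_26_1 (flp_g L11026) (flp_e L10867) L22563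
theorem L22569 : sm gg N2250 = N4680 := rfl
theorem L22575 : sm gb N2755 = N4680 := ded_31_14 (flp_g L22569) (flp_f L10869) (flp_b L5434) L5444 L5450 L10247 L10251 L10261 L10265 L20639 (flp_f L20645) (flp_b L20287) (flp_g L13301) L13295
theorem L22577 : sm gb N2251 = N4681 := rfl
theorem L22579 : sm ge N4681 = N2283 := ded_15_2 (flp_b L11034) (flp_e L10875) L22577
theorem L22583 : sm ga N2772 = N4681 := ded_10_3 L22579 L11040 (flp_e L13392)
theorem L22585 : sm gf N2770 = N4681 := ded_25_0 L22579 (flp_f L11038) (flp_e L13382)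
theorem L22595 : sm ga N2252 = N4683 := rfl
theorem L22597 : sm ge N4683 = N2285 := ded_10_2 (flp_a L11048) (flp_e L10879) L22595
theorem L22599 : sm gf N4683 = N4683 := ded_11_2 (flp_a L22595) L10881 L22595
theorem L22600 : sm gd N2252 = N4684 := rfl
theorem L22602 : sm gb N4684 = N2253 := ded_14_1 (flp_d L10882) L10877 L22600
theorem L22604 : sm gf N4684 = N4684 := ded_23_2 (flp_d L22600) L10881 L22600
theorem L22605 : sm gg N2252 = N4685 := rfl
theorem L22607 : sm ge N4685 = N2287 := ded_26_1 (flp_g L11056) (flp_e L10879) L22605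
theorem L22609 : sm gc N2253 = N4686 := rfl
theorem L22611 : sm ga N4686 = N2256 := ded_8_1 (flp_c L10900) (flp_a L10884) L22609
theorem L22613 : sm gd N4654 = N4686 := ded_28_1 (flp_c L22609) (flp_d L10882) (flp_c L5438) (flp_d L5416) L10803 L22439 L22441 L22455
theorem L22615 : sm ge N2253 = N4687 := rfl
theorem L22617 : sm ga N4687 = N2257 := ded_10_1 (flp_e L10902) (flp_a L10884) L22615
theorem L22619 : sm gd N4687 = N2289 := ded_22_1 (flp_e L11064) (flp_d L5519) (flp_e L5442) L10882 L22615
theorem L22621 : sm gg N2253 = N4688 := rfl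
theorem L22623 : sm ga N4688 = N2258 := ded_12_1 (flp_g L10908) (flp_a L10884) L22621
theorem L22625 : sm gd N4688 = N2254 := ded_24_1 (flp_g L10886) L10882 L22621
theorem L22627 : sm gf N4688 = N4424 := ded_29_2 (flp_g L21323) (flp_a L21308) L21311 L22621
theorem L22629 : sm gb N2254 = N4689 := rfl
theorem L22631 : sm ge N4689 = N2291 := ded_15_2 (flp_b L11076) (flp_e L10892) L22629
theorem L22633 : sm ga N2255 = N4690 := rfl
theorem L22635 : sm ge N4690 = N2292 := ded_10_2 (flp_a L11078) (flp_e L10898) L22633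
theorem L22641 : sm gc N2255 = N4691 := rfl
theorem L22645 : sm gb N2256 = N4692 := rfl
theorem L22647 : sm gc N4692 = N2344 := ded_13_2 (flp_b L11326) (flp_c L5623) (flp_b L5454) L10900 L22645
theorem L22649 : sm gd N2256 = N4693 := rfl
theorem L22651 : sm ga N4693 = N4654 := ded_9_1 L22613 L22611 L22649
theorem L22653 : sm gc N4651 = N4693 := ded_28_0 (flp_d L22649) (flp_c L10900) (flp_d L5452) (flp_c L2815) (flp_d L2805) L5418 L10815 (flp_a L22441)
theorem L22655 : sm ge N2256 = N4694 := rfl
theorem L22657 : sm gc N4694 = N2257 := ded_19_1 (flp_e L10902) L10900 L22655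
theorem L22659 : sm gg N2256 = N4695 := rfl
theorem L22661 : sm gc N4695 = N2258 := ded_21_1 (flp_g L10908) L10900 L22659
theorem L22663 : sm gg N2257 = N4696 := rfl
theorem L22665 : sm gd N4696 = N2297 := ded_24_1 (flp_g L11115) (flp_d L10906) L22663
theorem L22667 : sm ge N4696 = N2258 := ded_26_1 (flp_g L10908) L10902 L22663
theorem L22669 : sm gb N2258 = N4697 := rfl
theorem L22671 : sm gd N4697 = N2259 := ded_14_2 (flp_b L10912) (flp_d L10910) L22669
theorem L22673 : sm gg N4697 = N2348 := ded_17_2 (flp_b L11342) (flp_g L5629) (flp_b L5454) L10908 L22669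
theorem L22675 : sm gf N2258 = N4698 := rfl
theorem L22677 : sm ga N4698 = N4424 := ded_11_1 (flp_f L22627) L22623 L22675
theorem L22681 : sm gg N4698 = N4421 := ded_29_3 L21308 L10239 L10908 L22675
theorem L22683 : sm ga N2259 = N4699 := rfl
theorem L22685 : sm ge N4699 = N2300 := ded_10_2 (flp_a L11133) (flp_e L10914) L22683
theorem L22687 : sm gg N4699 = N2350 := ded_12_2 (flp_a L11354) (flp_g L10916) L22683
theorem L22689 : sm gf N2259 = N4700 := rfl
theorem L22691 : sm ge N4700 = N2301 := ded_25_1 (flp_f L11137) (flp_e L10914) L22689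
theorem L22693 : sm gb N2260 = N4701 := rfl
theorem L22695 : sm ge N4701 = N2302 := ded_15_2 (flp_b L11139) (flp_e L10924) L22693
theorem L22698 : sm gc N2261 = N4702 := rfl
theorem L22700 : sm ge N4702 = N2303 := ded_19_2 (flp_c L11142) (flp_e L10930) L22698
theorem L22710 : sm gc N2262 = N4704 := rfl
theorem L22712 : sm ga N4704 = N2263 := ded_8_1 (flp_c L10938) L10932 L22710
theorem L22714 : sm ge N4704 = N2305 := ded_19_2 (flp_c L11150) (flp_e L10934) L22710
theorem L22724 : sm gb N2263 = N4706 := rfl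
theorem L22726 : sm ge N4706 = N2307 := ded_15_2 (flp_b L11160) (flp_e L10940) L22724
theorem L22728 : sm gc N4706 = N2266 := ded_13_2 (flp_b L10950) (flp_c L5474) L5470 L10938 L22724
theorem L22730 : sm gd N2263 = N4707 := rfl
theorem L22744 : sm gb N2264 = N4710 := rfl
theorem L22746 : sm ge N4710 = N2311 := ded_15_2 (flp_b L11174) (flp_e L10944) L22744
theorem L22748 : sm gf N4710 = N2269 := ded_16_2 (flp_b L10968) (flp_f L5480) L5470 L10942 L22744
theorem L22750 : sm ga N2743 = N4710 := ded_10_3 L22746 (flp_a L11180) (flp_e L13225)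
theorem L22752 : sm gg N2740 = N4710 := ded_26_0 L22746 L11178 (flp_e L13211)
theorem L22754 : sm gg N2264 = N4711 := rfl
theorem L22770 : sm ga N2266 = N4713 := rfl
theorem L22772 : sm ge N4713 = N2314 := ded_10_2 (flp_a L11194) (flp_e L10952) L22770
theorem L22774 : sm gd N2266 = N4714 := rfl
theorem L22776 : sm gb N4714 = N2267 := ded_14_1 (flp_d L10954) L10950 L22774
theorem L22778 : sm gf N2266 = N4715 := rfl
theorem L22780 : sm ge N4715 = N2316 := ded_25_1 (flp_f L11200) (flp_e L10952) L22778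
theorem L22782 : sm gg N2266 = N4716 := rfl
theorem L22784 : sm ge N4716 = N2317 := ded_26_1 (flp_g L11202) (flp_e L10952) L22782
theorem L22786 : sm gc N2267 = N4717 := rfl
theorem L22788 : sm ga N4717 = N2270 := ded_8_1 (flp_c L10972) (flp_a L10956) L22786
theorem L22790 : sm gd N4668 = N4717 := ded_28_1 (flp_c L22786) (flp_d L10954) (flp_c L5474) (flp_d L5426) L10833 L22495 L22497 L22511
theorem L22792 : sm ge N2267 = N4718 := rfl
theorem L22794 : sm ga N4718 = N2271 := ded_10_1 (flp_e L10974) (flp_a L10956) L22792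
theorem L22796 : sm gd N4718 = N2319 := ded_22_1 (flp_e L11210) (flp_d L5569) (flp_e L5478) L10954 L22792
theorem L22798 : sm gf N2267 = N4719 := rfl
theorem L22800 : sm ga N4719 = N2272 := ded_11_1 (flp_f L10980) (flp_a L10956) L22798
theorem L22802 : sm gd N4719 = N2268 := ded_23_1 (flp_f L10958) L10954 L22798
theorem L22804 : sm gg N4441 = N4719 := ded_29_1 (flp_f L22798) (flp_g L21404) L21402 L21416
theorem L22806 : sm gb N2268 = N4720 := rfl
theorem L22808 : sm ge N4720 = N2321 := ded_15_2 (flp_b L11222) (flp_e L10964) L22806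
theorem L22810 : sm ga N2269 = N4721 := rfl
theorem L22814 : sm gf N4721 = N2743 := ded_11_2 L22750 L22748 L22810
theorem L22818 : sm gc N2269 = N4722 := rfl
theorem L22822 : sm gb N2270 = N4723 := rfl
theorem L22824 : sm gc N4723 = N2361 := ded_13_2 (flp_b L11408) (flp_c L5663) (flp_b L5490) L10972 L22822
theorem L22826 : sm gd N2270 = N4724 := rfl
theorem L22828 : sm ga N4724 = N4668 := ded_9_1 L22790 L22788 L22826
theorem L22830 : sm gc N4665 = N4724 := ded_28_0 (flp_d L22826) (flp_c L10972) (flp_d L5488) (flp_c L2829) (flp_d L2809) L5428 L10845 (flp_a L22497)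
theorem L22832 : sm ge N2270 = N4725 := rfl
theorem L22834 : sm gc N4725 = N2271 := ded_19_1 (flp_e L10974) L10972 L22832
theorem L22836 : sm gf N2270 = N4726 := rfl
theorem L22838 : sm gc N4726 = N2272 := ded_20_1 (flp_f L10980) L10972 L22836
theorem L22840 : sm gf N2271 = N4727 := rfl
theorem L22842 : sm gd N4727 = N2328 := ded_23_1 (flp_f L11250) (flp_d L10978) L22840
theorem L22844 : sm ge N4727 = N2272 := ded_25_1 (flp_f L10980) L10974 L22840
theorem L22846 : sm gb N2272 = N4728 := rfl
theorem L22848 : sm gd N4728 = N2273 := ded_14_2 (flp_b L10984) (flp_d L10982) L22846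
theorem L22850 : sm gf N4728 = N2365 := ded_16_2 (flp_b L11424) (flp_f L5669) (flp_b L5490) L10980 L22846
theorem L22852 : sm gg N2272 = N4729 := rfl
theorem L22854 : sm ga N4729 = N4441 := ded_12_1 L22804 L22800 L22852
theorem L22856 : sm gd N4729 = N2274 := ded_24_1 (flp_g L10990) (flp_d L10982) L22852
theorem L22858 : sm gf N4438 = N4729 := ded_29_0 (flp_g L22852) (flp_f L10980) (flp_g L10281) (flp_a L21402)
theorem L22860 : sm ga N2273 = N4730 := rfl
theorem L22862 : sm ge N4730 = N2331 := ded_10_2 (flp_a L11268) (flp_e L10986) L22860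
theorem L22864 : sm gf N4730 = N2367 := ded_11_2 (flp_a L11436) (flp_f L10988) L22860
theorem L22866 : sm gg N2273 = N4731 := rfl
theorem L22870 : sm gb N2274 = N4732 := rfl
theorem L22872 : sm ge N4732 = N2333 := ded_15_2 (flp_b L11274) (flp_e L10996) L22870
theorem L22874 : sm gc N2275 = N4733 := rfl
theorem L22876 : sm ga N4733 = N4702 := ded_8_1 (flp_c L22698) L11004 L22874
theorem L22880 : sm gf N2275 = N4734 := rfl
theorem L22884 : sm ge N4734 = N2335 := ded_25_1 (flp_f L11280) (flp_e L11002) L22880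
theorem L22896 : sm gg N2276 = N4737 := rfl
theorem L22898 : sm ga N4737 = N2281 := ded_12_1 (flp_g L11026) (flp_a L11008) L22896
theorem L22912 : sm gg N2278 = N4740 := rfl
theorem L22916 : sm gc N2279 = N4741 := rfl
theorem L22920 : sm gf N2279 = N4743 := rfl
theorem L22922 : sm gd N4743 = N2280 := ded_23_1 (flp_f L11021) L11019 L22920
theorem L22925 : sm gg N2279 = N4744 := rfl
theorem L22929 : sm gg N2280 = N4745 := rfl
theorem L22931 : sm gc N4745 = N2282 := ded_21_1 (flp_g L11030) (flp_c L11023) L22929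
theorem L22933 : sm gf N4737 = N4745 := ded_29_0 (flp_g L22929) (flp_f L11021) L11026 (flp_a L22898)
theorem L22935 : sm gb N2281 = N4746 := rfl
theorem L22945 : sm gc N2283 = N4748 := rfl
theorem L22947 : sm ga N4748 = N2874 := ded_8_1 L13892 (flp_a L11040) L22945
theorem L22949 : sm gf N4748 = N2870 := ded_20_2 (flp_c L13872) L11038 L22945
theorem L22953 : sm gb N2285 = N4749 := rfl
theorem L22955 : sm ga N4749 = N2375 := ded_7_1 (flp_b L11477) (flp_a L5699) (flp_b L2965) L1506 (flp_b L1456) (flp_a L2843) L5516 L11048 L22953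
theorem L22957 : sm gd N2285 = N4750 := rfl
theorem L22959 : sm ga N4750 = N2286 := ded_9_1 (flp_d L11051) L11048 L22957
theorem L22962 : sm gg N2285 = N4751 := rfl
theorem L22968 : sm gc N2286 = N4752 := rfl
theorem L22970 : sm gf N4752 = N4752 := ded_20_2 (flp_c L22968) L11055 L22968
theorem L22971 : sm ge N2286 = N4753 := rfl
theorem L22973 : sm gb N4753 = N2289 := ded_15_1 (flp_e L11064) (flp_b L11053) L22971
theorem L22975 : sm gf N4753 = N4753 := ded_25_2 (flp_e L22971) L11055 L22971
theorem L22976 : sm gg N2286 = N4754 := rfl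
theorem L22978 : sm gd N4754 = N2287 := ded_24_1 (flp_g L11056) L11051 L22976
theorem L22980 : sm gb N2287 = N4755 := rfl
theorem L22982 : sm gg N4755 = N2291 := ded_17_2 (flp_b L11076) (flp_g L5523) L5516 L11056 L22980
theorem L22984 : sm gb N2288 = N4756 := rfl
theorem L22986 : sm gd N4756 = N4580 := ded_14_2 (flp_b L22113) L11062 L22984
theorem L22988 : sm ge N2288 = N4757 := rfl
theorem L22990 : sm ga N4757 = N2295 := ded_10_1 (flp_e L11107) (flp_a L11060) L22988
theorem L22992 : sm gc N4757 = N2289 := ded_19_1 (flp_e L11064) L11058 L22988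
theorem L22994 : sm gg N2288 = N4758 := rfl
theorem L22998 : sm gc N4758 = N2290 := ded_21_1 (flp_g L11068) L11058 L22994
theorem L23000 : sm gd N4758 = N4582 := ded_24_1 (flp_g L22121) L11062 L22994
theorem L23004 : sm gg N2289 = N4759 := rfl
theorem L23006 : sm ga N4759 = N2297 := ded_12_1 (flp_g L11115) (flp_a L11066) L23004
theorem L23010 : sm gf N4759 = N4457 := ded_29_2 (flp_g L21509) (flp_a L21484) L21487 L23004
theorem L23012 : sm gb N2290 = N4760 := rfl
theorem L23014 : sm gd N4760 = N2291 := ded_14_2 (flp_b L11076) (flp_d L11072) L23012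
theorem L23016 : sm ga N2291 = N4761 := rfl
theorem L23018 : sm gc N2291 = N4762 := rfl
theorem L23020 : sm gb N4762 = N2293 := ded_13_1 (flp_c L11099) (flp_b L5531) (flp_c L5527) L11076 L23018
theorem L23022 : sm gf N2291 = N4763 := rfl
theorem L23024 : sm gb N4763 = N4461 := ded_16_1 (flp_f L21523) (flp_b L10345) (flp_f L5529) L11076 L23022
theorem L23026 : sm gc N2292 = N4764 := rfl
theorem L23028 : sm ga N4764 = N2293 := ded_8_1 (flp_c L11099) L11078 L23026
theorem L23030 : sm gg N4764 = N2874 := ded_21_2 L13892 (flp_g L11080) L23026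
theorem L23032 : sm gd N2293 = N4765 := rfl
theorem L23040 : sm gg N2294 = N4767 := rfl
theorem L23042 : sm ga N4767 = N4582 := ded_12_1 (flp_g L22121) (flp_a L11103) L23040
theorem L23050 : sm gg N2295 = N4769 := rfl
theorem L23052 : sm gc N4769 = N2297 := ded_21_1 (flp_g L11115) (flp_c L11109) L23050
theorem L23054 : sm ge N4769 = N2296 := ded_26_1 (flp_g L11111) L11107 L23050
theorem L23056 : sm gb N2296 = N4770 := rfl
theorem L23066 : sm gb N2297 = N4772 := rfl
theorem L23068 : sm ge N4772 = N2298 := ded_15_2 (flp_b L11119) (flp_e L11117) L23066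
theorem L23070 : sm gg N4772 = N2385 := ded_17_2 (flp_b L11515) (flp_g L5713) (flp_b L5537) L11115 L23066
theorem L23072 : sm gf N2297 = N4773 := rfl
theorem L23074 : sm ga N4773 = N4457 := ded_11_1 (flp_f L23010) L23006 L23072
theorem L23076 : sm ge N4773 = N2299 := ded_25_1 (flp_f L11125) (flp_e L11117) L23072
theorem L23078 : sm gg N4773 = N4452 := ded_29_3 L21484 L10339 L11115 L23072
theorem L23080 : sm ga N2298 = N4774 := rfl
theorem L23084 : sm gg N4774 = N2387 := ded_12_2 (flp_a L11529) (flp_g L11123) L23080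
theorem L23086 : sm gc N2298 = N4775 := rfl
theorem L23088 : sm gg N4775 = N2388 := ded_21_2 (flp_c L11533) (flp_g L11123) L23086
theorem L23090 : sm gf N2298 = N4776 := rfl
theorem L23099 : sm gb N2301 = N4778 := rfl
theorem L23101 : sm gf N4778 = N2302 := ded_16_2 (flp_b L11139) (flp_f L5547) L5543 L11137 L23099
theorem L23106 : sm gc N2302 = N4780 := rfl
theorem L23111 : sm gd N2303 = N4781 := rfl
theorem L23113 : sm gg N2303 = N4782 := rfl
theorem L23127 : sm gb N2305 = N4784 := rfl
theorem L23129 : sm gc N4784 = N2842 := ded_13_2 (flp_b L13736) (flp_c L6723) (flp_b L5559) L11150 L23127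
theorem L23141 : sm ga N2307 = N4787 := rfl
theorem L23145 : sm gd N2307 = N4788 := rfl
theorem L23147 : sm gb N4788 = N2308 := ded_14_1 (flp_d L11164) L11160 L23145
theorem L23149 : sm gf N2307 = N4789 := rfl
theorem L23153 : sm gg N2307 = N4790 := rfl
theorem L23155 : sm gc N4790 = N2317 := ded_21_1 (flp_g L11202) (flp_c L11162) L23153
theorem L23159 : sm ge N2308 = N4792 := rfl
theorem L23161 : sm gf N2308 = N4793 := rfl
theorem L23163 : sm gd N4793 = N2309 := ded_23_1 (flp_f L11166) L11164 L23161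
theorem L23165 : sm gg N2308 = N4794 := rfl
theorem L23171 : sm gg N2309 = N4796 := rfl
theorem L23175 : sm gf N4296 = N4796 := ded_29_0 (flp_g L23171) (flp_f L11166) L11170 (flp_a L20687)
theorem L23199 : sm gd N2314 = N4801 := rfl
theorem L23201 : sm ga N4801 = N2315 := ded_9_1 (flp_d L11196) L11194 L23199
theorem L23203 : sm gf N2314 = N4802 := rfl
theorem L23205 : sm ga N4802 = N2316 := ded_11_1 (flp_f L11200) L11194 L23203
theorem L23207 : sm gg N2314 = N4803 := rfl
theorem L23209 : sm ga N4803 = N2317 := ded_12_1 (flp_g L11202) L11194 L23207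
theorem L23211 : sm gc N2315 = N4804 := rfl
theorem L23213 : sm ge N2315 = N4805 := rfl
theorem L23215 : sm gb N4805 = N2319 := ded_15_1 (flp_e L11210) (flp_b L11198) L23213
theorem L23217 : sm gf N2315 = N4806 := rfl
theorem L23219 : sm gd N4806 = N2316 := ded_23_1 (flp_f L11200) L11196 L23217
theorem L23221 : sm gg N2315 = N4807 := rfl
theorem L23225 : sm gb N2316 = N4808 := rfl
theorem L23227 : sm gf N4808 = N2321 := ded_16_2 (flp_b L11222) (flp_f L5573) L5567 L11200 L23225
theorem L23229 : sm gg N2316 = N4809 := rfl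
theorem L23231 : sm gf N4803 = N4809 := ded_29_0 (flp_g L23229) (flp_f L11200) L11202 (flp_a L23209)
theorem L23233 : sm gf N2317 = N4810 := rfl
theorem L23235 : sm ga N4810 = N4809 := ded_11_1 (flp_f L23231) L23209 L23233
theorem L23239 : sm gb N2318 = N4811 := rfl
theorem L23241 : sm gd N4811 = N4609 := ded_14_2 (flp_b L22247) L11208 L23239
theorem L23243 : sm ge N2318 = N4812 := rfl
theorem L23247 : sm gc N4812 = N2319 := ded_19_1 (flp_e L11210) L11204 L23243
theorem L23249 : sm gf N2318 = N4813 := rfl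
theorem L23251 : sm ga N4813 = N2327 := ded_11_1 (flp_f L11246) (flp_a L11206) L23249
theorem L23257 : sm gg N4486 = N4813 := ded_29_1 (flp_f L23249) (flp_g L21604) L21602 L21630
theorem L23259 : sm gf N2319 = N4814 := rfl
theorem L23261 : sm ga N4814 = N2328 := ded_11_1 (flp_f L11250) (flp_a L11212) L23259
theorem L23265 : sm gg N4487 = N4814 := ded_29_1 (flp_f L23259) (flp_g L21612) L21610 L21634
theorem L23267 : sm gb N2320 = N4815 := rfl
theorem L23269 : sm gd N4815 = N2321 := ded_14_2 (flp_b L11222) (flp_d L11218) L23267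
theorem L23271 : sm ga N2321 = N4816 := rfl
theorem L23273 : sm gc N2321 = N4817 := rfl
theorem L23277 : sm gg N2321 = N4818 := rfl
theorem L23279 : sm gb N4818 = N4491 := ded_17_1 (flp_g L21650) (flp_b L10417) L5579 L11222 L23277
theorem L23289 : sm gd N2323 = N4820 := rfl
theorem L23291 : sm ga N2324 = N4821 := rfl
theorem L23293 : sm gc N4821 = N2412 := ded_8_2 (flp_a L11638) (flp_c L11234) L23291
theorem L23295 : sm gd N2324 = N4822 := rfl
theorem L23297 : sm gb N4822 = N2325 := ded_14_1 (flp_d L11236) L11232 L23295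
theorem L23299 : sm ge N2324 = N4823 := rfl
theorem L23301 : sm gb N4823 = N2326 := ded_15_1 (flp_e L11242) L11232 L23299
theorem L23303 : sm gc N4823 = N2413 := ded_19_1 (flp_e L11640) (flp_c L11234) L23299
theorem L23313 : sm ge N2325 = N4826 := rfl
theorem L23319 : sm gf N2325 = N4827 := rfl
theorem L23321 : sm ga N4827 = N4611 := ded_11_1 (flp_f L22255) (flp_a L11238) L23319
theorem L23327 : sm gd N2326 = N4828 := rfl
theorem L23329 : sm gf N2326 = N4829 := rfl
theorem L23331 : sm gc N4829 = N2328 := ded_20_1 (flp_f L11250) (flp_c L11244) L23329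
theorem L23337 : sm gg N2327 = N4831 := rfl
theorem L23339 : sm ga N4831 = N4486 := ded_12_1 L23257 L23251 L23337
theorem L23341 : sm gc N4831 = N2330 := ded_21_1 (flp_g L11260) (flp_c L11248) L23337
theorem L23345 : sm gb N2328 = N4832 := rfl
theorem L23347 : sm ge N4832 = N2329 := ded_15_2 (flp_b L11254) (flp_e L11252) L23345
theorem L23349 : sm gf N4832 = N2419 := ded_16_2 (flp_b L11660) (flp_f L5777) (flp_b L5587) L11250 L23345
theorem L23351 : sm gg N2328 = N4833 := rfl
theorem L23353 : sm ga N4833 = N4487 := ded_12_1 L23265 L23261 L23351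
theorem L23355 : sm ge N4833 = N2330 := ded_26_1 (flp_g L11260) (flp_e L11252) L23351
theorem L23359 : sm ga N2329 = N4834 := rfl
theorem L23361 : sm gd N4834 = N2331 := ded_9_2 (flp_a L11268) (flp_d L11256) L23359
theorem L23363 : sm gf N4834 = N2421 := ded_11_2 (flp_a L11672) (flp_f L11258) L23359
theorem L23365 : sm gc N2329 = N4835 := rfl
theorem L23367 : sm gf N4835 = N2422 := ded_20_2 (flp_c L11676) (flp_f L11258) L23365
theorem L23379 : sm gb N2332 = N4839 := rfl
theorem L23381 : sm gg N4839 = N2333 := ded_17_2 (flp_b L11274) (flp_g L5597) L5593 L11272 L23379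
theorem L23385 : sm gc N2333 = N4841 := rfl
theorem L23389 : sm gf N2333 = N4842 := rfl
theorem L23391 : sm gb N4842 = N4479 := ded_16_1 (flp_f L21594) (flp_b L10397) L5603 L11274 L23389
theorem L23393 : sm gd N2334 = N4843 := rfl
theorem L23395 : sm ga N4843 = N4781 := ded_9_1 (flp_d L23111) (flp_a L11278) L23393
theorem L23413 : sm gf N2336 = N4847 := rfl
theorem L23415 : sm gc N4847 = N2340 := ded_20_1 (flp_f L11306) (flp_c L11290) L23413
theorem L23417 : sm ge N4847 = N2372 := ded_25_1 (flp_f L11458) (flp_e L11288) L23413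
theorem L23435 : sm ge N2337 = N4850 := rfl
theorem L23439 : sm gg N4850 = N3354 := ded_26_2 (flp_e L16125) (flp_g L11296) L23435
theorem L23451 : sm gf N2338 = N4853 := rfl
theorem L23453 : sm ga N4853 = N2340 := ded_11_1 (flp_f L11306) L11298 L23451
theorem L23455 : sm ge N4853 = N2377 := ded_25_1 (flp_f L11483) (flp_e L11300) L23451
theorem L23465 : sm ge N2339 = N4856 := rfl
theorem L23467 : sm gb N4856 = N2343 := ded_15_1 (flp_e L11320) (flp_b L11304) L23465
theorem L23469 : sm gd N4856 = N2380 := ded_22_1 (flp_e L11493) (flp_d L5701) (flp_e L5617) L11302 L23465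
theorem L23471 : sm gf N2339 = N4857 := rfl
theorem L23473 : sm gd N4857 = N2340 := ded_23_1 (flp_f L11306) L11302 L23471
theorem L23493 : sm gb N2342 = N4861 := rfl
theorem L23495 : sm gd N4861 = N2344 := ded_14_2 (flp_b L11326) (flp_d L11318) L23493
theorem L23497 : sm ge N2342 = N4862 := rfl
theorem L23499 : sm ga N4862 = N2345 := ded_10_1 (flp_e L11328) (flp_a L11316) L23497
theorem L23501 : sm gc N4862 = N2343 := ded_19_1 (flp_e L11320) L11314 L23497
theorem L23503 : sm ga N2344 = N4863 := rfl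
theorem L23505 : sm ge N2344 = N4864 := rfl
theorem L23507 : sm gb N4864 = N2345 := ded_15_1 (flp_e L11328) L11326 L23505
theorem L23509 : sm gf N2344 = N4865 := rfl
theorem L23511 : sm gg N2344 = N4866 := rfl
theorem L23513 : sm gd N2345 = N4867 := rfl
theorem L23515 : sm gg N2345 = N4868 := rfl
theorem L23517 : sm gc N4868 = N2347 := ded_21_1 (flp_g L11336) (flp_c L11330) L23515
theorem L23519 : sm ge N4868 = N2346 := ded_26_1 (flp_g L11332) L11328 L23515
theorem L23521 : sm gb N2346 = N4869 := rfl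
theorem L23523 : sm gf N2346 = N4870 := rfl
theorem L23525 : sm ga N4870 = N4093 := ded_11_1 (flp_f L19722) L19720 L23523
theorem L23527 : sm gc N4870 = N2349 := ded_20_1 (flp_f L11346) (flp_c L11334) L23523
theorem L23529 : sm gd N4870 = N4093 := ded_23_1 (flp_f L19722) L19726 L23523
theorem L23531 : sm gg N4870 = N2440 := ded_29_3 L11772 L9451 L11332 L23523
theorem L23533 : sm gb N2347 = N4871 := rfl
theorem L23535 : sm gd N4871 = N2385 := ded_14_2 (flp_b L11515) (flp_d L11338) L23533
theorem L23537 : sm ge N4871 = N2348 := ded_15_2 (flp_b L11342) (flp_e L11340) L23533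
theorem L23539 : sm gf N2347 = N4872 := rfl
theorem L23541 : sm ga N4872 = N4094 := ded_11_1 (flp_f L19732) L19730 L23539
theorem L23543 : sm gd N4872 = N2386 := ded_23_1 (flp_f L11519) (flp_d L11338) L23539
theorem L23545 : sm ge N4872 = N2349 := ded_25_1 (flp_f L11346) (flp_e L11340) L23539
theorem L23547 : sm gg N4872 = N2439 := ded_29_3 L11764 L9455 L11336 L23539
theorem L23549 : sm ga N2348 = N4873 := rfl
theorem L23551 : sm gd N4873 = N2350 := ded_9_2 (flp_a L11354) (flp_d L11344) L23549
theorem L23553 : sm gc N2348 = N4874 := rfl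
theorem L23555 : sm gf N2348 = N4875 := rfl
theorem L23557 : sm gd N4875 = N2351 := ded_23_1 (flp_f L11358) (flp_d L11344) L23555
theorem L23559 : sm gb N2349 = N4876 := rfl
theorem L23561 : sm gd N4876 = N2352 := ded_14_2 (flp_b L11362) (flp_d L11350) L23559
theorem L23563 : sm gb N2350 = N4877 := rfl
theorem L23565 : sm ge N4877 = N2391 := ded_15_2 (flp_b L11543) (flp_e L11356) L23563
theorem L23567 : sm gg N4097 = N4877 := ded_26_0 L23565 (flp_g L19521) (flp_e L19621)
theorem L23569 : sm gf N2350 = N4878 := rfl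
theorem L23571 : sm ga N4878 = N2351 := ded_11_1 (flp_f L11358) L11354 L23569
theorem L23573 : sm ge N4878 = N2392 := ded_25_1 (flp_f L11545) (flp_e L11356) L23569
theorem L23575 : sm gg N4700 = N4878 := ded_29_1 (flp_f L23569) (flp_g L22687) (flp_a L22683) L22689
theorem L23577 : sm gb N2351 = N4879 := rfl
theorem L23581 : sm gf N4879 = N2352 := ded_16_2 (flp_b L11362) (flp_f L5637) L5633 L11358 L23577
theorem L23585 : sm gg N2351 = N4880 := rfl
theorem L23587 : sm ga N4880 = N4700 := ded_12_1 L23575 L23571 L23585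
theorem L23591 : sm gf N4699 = N4880 := ded_29_0 (flp_g L23585) (flp_f L11358) (flp_g L10916) L22683
theorem L23593 : sm ga N2352 = N4881 := rfl
theorem L23595 : sm gc N4881 = N2896 := ded_8_2 (flp_a L13988) (flp_c L11366) L23593
theorem L23599 : sm gg N2352 = N4882 := rfl
theorem L23605 : sm gb N4882 = N2438 := ded_17_1 (flp_g L11756) L5814 (flp_g L5645) L11362 L23599
theorem L23607 : sm ga N2353 = N4883 := rfl
theorem L23609 : sm gc N4883 = N2355 := ded_8_2 (flp_a L11380) (flp_c L11372) L23607
theorem L23611 : sm ge N4883 = N2397 := ded_10_2 (flp_a L11573) (flp_e L11370) L23607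
theorem L23639 : sm ge N2354 = N4888 := rfl
theorem L23645 : sm gd N4888 = N2401 := ded_22_1 (flp_e L11592) (flp_d L5743) (flp_e L5650) L11374 L23639
theorem L23647 : sm gb N2355 = N4889 := rfl
theorem L23649 : sm ge N4889 = N2402 := ded_15_2 (flp_b L11600) (flp_e L11382) L23647
theorem L23655 : sm gf N2355 = N4891 := rfl
theorem L23657 : sm ga N4891 = N2357 := ded_11_1 (flp_f L11388) L11380 L23655
theorem L23661 : sm gg N2355 = N4892 := rfl
theorem L23663 : sm ga N4892 = N2358 := ded_12_1 (flp_g L11392) L11380 L23661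
theorem L23665 : sm ge N4892 = N2405 := ded_26_1 (flp_g L11610) (flp_e L11382) L23661
theorem L23669 : sm ge N2356 = N4894 := rfl
theorem L23671 : sm gb N4894 = N2360 := ded_15_1 (flp_e L11402) (flp_b L11386) L23669
theorem L23675 : sm gf N2356 = N4895 := rfl
theorem L23677 : sm gd N4895 = N2357 := ded_23_1 (flp_f L11388) L11384 L23675
theorem L23679 : sm gg N2356 = N4896 := rfl
theorem L23683 : sm gg N2357 = N4897 := rfl
theorem L23687 : sm gf N4892 = N4897 := ded_29_0 (flp_g L23683) (flp_f L11388) L11392 (flp_a L23663)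
theorem L23689 : sm gf N2358 = N4898 := rfl
theorem L23693 : sm ge N4898 = N2411 := ded_25_1 (flp_f L11632) (flp_e L11394) L23689
theorem L23695 : sm gg N4898 = N4891 := ded_29_3 L23657 (flp_f L11388) L11392 L23689
theorem L23697 : sm gb N2359 = N4899 := rfl
theorem L23699 : sm gd N4899 = N2361 := ded_14_2 (flp_b L11408) (flp_d L11400) L23697
theorem L23701 : sm ge N2359 = N4900 := rfl
theorem L23703 : sm ga N4900 = N2362 := ded_10_1 (flp_e L11410) (flp_a L11398) L23701
theorem L23705 : sm gc N4900 = N2360 := ded_19_1 (flp_e L11402) L11396 L23701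
theorem L23707 : sm ga N2361 = N4901 := rfl
theorem L23709 : sm ge N2361 = N4902 := rfl
theorem L23711 : sm gb N4902 = N2362 := ded_15_1 (flp_e L11410) L11408 L23709
theorem L23713 : sm gf N2361 = N4903 := rfl
theorem L23715 : sm gg N2361 = N4904 := rfl
theorem L23717 : sm gd N2362 = N4905 := rfl
theorem L23719 : sm gf N2362 = N4906 := rfl
theorem L23721 : sm gc N4906 = N2364 := ded_20_1 (flp_f L11418) (flp_c L11412) L23719
theorem L23723 : sm ge N4906 = N2363 := ded_25_1 (flp_f L11414) L11410 L23719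
theorem L23725 : sm gb N2363 = N4907 := rfl
theorem L23727 : sm gg N2363 = N4908 := rfl
theorem L23729 : sm ga N4908 = N4108 := ded_12_1 L19690 L19627 L23727
theorem L23731 : sm gc N4908 = N2366 := ded_21_1 (flp_g L11428) (flp_c L11416) L23727
theorem L23733 : sm gd N4908 = N4108 := ded_24_1 L19690 L19631 L23727
theorem L23737 : sm gb N2364 = N4909 := rfl
theorem L23739 : sm gd N4909 = N2419 := ded_14_2 (flp_b L11660) (flp_d L11420) L23737
theorem L23741 : sm ge N4909 = N2365 := ded_15_2 (flp_b L11424) (flp_e L11422) L23737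
theorem L23743 : sm gg N2364 = N4910 := rfl
theorem L23745 : sm ga N4910 = N4109 := ded_12_1 L19698 L19635 L23743
theorem L23747 : sm gd N4910 = N2420 := ded_24_1 (flp_g L11664) (flp_d L11420) L23743
theorem L23749 : sm ge N4910 = N2366 := ded_26_1 (flp_g L11428) (flp_e L11422) L23743
theorem L23753 : sm ga N2365 = N4911 := rfl
theorem L23755 : sm gd N4911 = N2367 := ded_9_2 (flp_a L11436) (flp_d L11426) L23753
theorem L23757 : sm gc N2365 = N4912 := rfl
theorem L23759 : sm gg N2365 = N4913 := rfl
theorem L23761 : sm gd N4913 = N2368 := ded_24_1 (flp_g L11440) (flp_d L11426) L23759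
theorem L23763 : sm gb N2366 = N4914 := rfl
theorem L23765 : sm gd N4914 = N2369 := ded_14_2 (flp_b L11444) (flp_d L11432) L23763
theorem L23767 : sm gb N2367 = N4915 := rfl
theorem L23769 : sm ge N4915 = N2425 := ded_15_2 (flp_b L11686) (flp_e L11438) L23767
theorem L23771 : sm gg N2367 = N4916 := rfl
theorem L23777 : sm gf N4916 = N4731 := ded_29_2 (flp_g L22866) L22860 L22864 L23771
theorem L23779 : sm gb N2368 = N4917 := rfl
theorem L23781 : sm ge N4917 = N2427 := ded_15_2 (flp_b L11694) (flp_e L11442) L23779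
theorem L23785 : sm gc N2914 = N4917 := ded_19_3 L23781 (flp_c L11698) (flp_e L14079)
theorem L23787 : sm gf N2368 = N4918 := rfl
theorem L23793 : sm gg N4918 = N4730 := ded_29_3 (flp_a L22860) L10988 L11440 L23787
theorem L23795 : sm ga N2369 = N4919 := rfl
theorem L23797 : sm gc N4919 = N2911 := ded_8_2 (flp_a L14064) (flp_c L11448) L23795
theorem L23799 : sm ge N4919 = N2429 := ded_10_2 (flp_a L11706) (flp_e L11446) L23795
theorem L23801 : sm gf N2369 = N4920 := rfl
theorem L23805 : sm ge N4920 = N2430 := ded_25_1 (flp_f L11710) (flp_e L11446) L23801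
theorem L23807 : sm gb N4920 = N4102 := ded_16_1 (flp_f L19650) (flp_b L9473) L5685 L11444 L23801
theorem L23815 : sm gf N2370 = N4923 := rfl
theorem L23819 : sm gc N4923 = N2377 := ded_20_1 (flp_f L11483) (flp_c L11452) L23815
theorem L23821 : N4003 = N3740 := coi_30_5 (flp_c L17978) (flp_b L8751) (flp_a L4473) L2312 L2430 L2432 (flp_a L1554) L1556 (flp_c L1504) L1496 L1503 L1500 L2959 L5687 L11450 L23815 L23819 (flp_b L19223) (flp_a L19221) L19229
theorem L23822 : N4003 = N3740 := eqc rfl L23821 rfl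
theorem L23823 : sm gf N3740 = N1917 := trfs L23822 (flp_f L19229) rfl
theorem L23825 : N3994 = N3741 := coi_20_2 (flp_f L17980) L17978 L23823 (flp_c L19195)
theorem L23826 : N3994 = N3741 := eqc rfl L23825 rfl
theorem L23827 : sm gb N3741 = N1914 := trfs L23826 (flp_b L19193) rfl
theorem L23828 : N1914 = N1915 := eqes L23827 L17982
theorem L23829 : N1915 = N1914 := (eqc rfl L23828 rfl).symm
theorem L23830 : sm gc N3741 = N1917 := trfs L23826 L19195 rfl
theorem L23832 : sm ga N1914 = N3992 := trfs L23829 (flp_a L19187) rfl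
theorem L23833 : N3992 = N3991 := eqes L23832 (flp_a L19183)
theorem L23834 : N3992 = N3991 := eqc rfl L23833 rfl
theorem L23835 : sm gb N1914 = N3741 := trfs L23829 (flp_b L17982) rfl
theorem L23837 : sm gc N1914 = N3996 := trfs L23829 (flp_c L19201) rfl
theorem L23838 : N3996 = N941 := eqes L23837 (flp_c L9277)
theorem L23839 : N3996 = N941 := eqc rfl L23838 rfl
theorem L23840 : sm gd N1914 = N3866 := trfs L23829 (flp_d L18599) rfl
theorem L23841 : N3866 = N3995 := eqes L23840 L19197
theorem L23842 : N3995 = N3866 := (eqc rfl L23841 rfl).symm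
theorem L23843 : sm ge N1914 = N3947 := trfs L23829 (flp_e L18943) rfl
theorem L23844 : N3947 = N3946 := eqes L23843 (flp_e L18939)
theorem L23845 : N3947 = N3946 := eqc rfl L23844 rfl
theorem L23848 : sm gg N1914 = N3998 := trfs L23829 L19207 rfl
theorem L23849 : N3998 = N3997 := eqes L23848 L19203
theorem L23850 : N3998 = N3997 := eqc rfl L23849 rfl
theorem L23851 : sm ga N3997 = N4000 := trfs L23850 (flp_a L19217) rfl
theorem L23853 : sm gf N3997 = N3993 := trfs L23850 (flp_f L19209) rfl
theorem L23855 : sm gf N3946 = N1893 := trfs L23845 (flp_f L18941) rfl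
theorem L23857 : sm gd N3866 = N1914 := trfs L23842 (flp_d L19197) rfl
theorem L23859 : sm gf N941 = N1914 := trfs L23839 (flp_f L19199) rfl
theorem L23861 : sm gf N3991 = N1913 := trfs L23834 (flp_f L19185) rfl
theorem L23863 : sm gg N3991 = N4000 := trfs L23834 (flp_g L19219) rfl
theorem L23865 : sm gc N4000 = N3993 := ded_8_2 L19191 (flp_c L19205) L23851
theorem L23867 : sm gg N2370 = N4924 := rfl
theorem L23869 : sm ga N4924 = N2373 := ded_12_1 (flp_g L11463) L11450 L23867
theorem L23892 : sm gg N2372 = N4929 := rfl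
theorem L23896 : sm gf N4924 = N4929 := ded_29_0 (flp_g L23892) (flp_f L11458) L11463 (flp_a L23869)
theorem L23912 : sm gf N2375 = N4933 := rfl
theorem L23916 : sm gc N2376 = N4935 := rfl
theorem L23918 : sm ga N4935 = N2379 := ded_8_1 (flp_c L11491) (flp_a L11481) L23916
theorem L23930 : sm gg N2376 = N4938 := rfl
theorem L23932 : sm ga N4938 = N2382 := ded_12_1 (flp_g L11501) (flp_a L11481) L23930
theorem L23952 : sm gf N2380 = N4944 := rfl
theorem L23954 : sm ge N4944 = N2381 := ded_25_1 (flp_f L11497) L11493 L23952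
theorem L23956 : sm gg N2380 = N4945 := rfl
theorem L23960 : sm gg N2381 = N4946 := rfl
theorem L23964 : sm gf N4938 = N4946 := ded_29_0 (flp_g L23960) (flp_f L11497) L11501 (flp_a L23932)
theorem L23978 : sm ga N2385 = N4950 := rfl
theorem L23980 : sm ge N4950 = N2387 := ded_10_2 (flp_a L11529) (flp_e L11517) L23978
theorem L23982 : sm gc N2385 = N4951 := rfl
theorem L23984 : sm ge N4951 = N2388 := ded_19_2 (flp_c L11533) (flp_e L11517) L23982
theorem L23986 : sm gf N2385 = N4952 := rfl
theorem L23988 : sm ge N4952 = N2389 := ded_25_1 (flp_f L11535) (flp_e L11517) L23986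
theorem L23990 : sm gb N2386 = N4953 := rfl
theorem L23992 : sm ge N4953 = N2390 := ded_15_2 (flp_b L11539) (flp_e L11525) L23990
theorem L23994 : sm gb N2387 = N4954 := rfl
theorem L23996 : sm gd N4954 = N2391 := ded_14_2 (flp_b L11543) (flp_d L11531) L23994
theorem L23998 : sm gg N4118 = N4954 := ded_24_0 L23996 (flp_g L19521) (flp_d L19752)
theorem L24000 : sm gc N2387 = N4955 := rfl
theorem L24002 : sm ga N4955 = N2388 := ded_8_1 (flp_c L11533) L11529 L24000
theorem L24004 : sm gf N2387 = N4956 := rfl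
theorem L24008 : sm gd N4956 = N2392 := ded_23_1 (flp_f L11545) (flp_d L11531) L24004
theorem L24010 : sm gg N4776 = N4956 := ded_29_1 (flp_f L24004) (flp_g L23084) (flp_a L23080) L23090
theorem L24012 : sm gd N2388 = N4957 := rfl
theorem L24014 : sm gf N2388 = N4958 := rfl
theorem L24016 : sm gc N4958 = N2389 := ded_20_1 (flp_f L11535) L11533 L24014
theorem L24018 : sm gb N2389 = N4959 := rfl
theorem L24022 : sm gf N4959 = N2390 := ded_16_2 (flp_b L11539) (flp_f L5721) L5717 L11535 L24018
theorem L24024 : sm gg N2389 = N4960 := rfl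
theorem L24028 : sm gd N4960 = N2394 := ded_24_1 (flp_g L11557) (flp_d L11537) L24024
theorem L24032 : sm ga N2390 = N4961 := rfl
theorem L24036 : sm gc N2390 = N4962 := rfl
theorem L24038 : sm gb N4962 = N4086 := ded_13_1 (flp_c L19567) L9435 (flp_c L5725) L11539 L24036
theorem L24046 : sm gb N2392 = N4964 := rfl
theorem L24048 : sm ga N2393 = N4965 := rfl
theorem L24050 : sm gc N4965 = N2928 := ded_8_2 L14150 L11555 L24048
theorem L24052 : sm gf N4965 = N2395 := ded_11_2 (flp_a L11563) (flp_f L11553) L24048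
theorem L24054 : sm gg N2393 = N4966 := rfl
theorem L24056 : sm gc N4966 = N2935 := ded_21_1 (flp_g L14175) L11555 L24054
theorem L24058 : sm gb N2394 = N4967 := rfl
theorem L24060 : sm gb N2395 = N4968 := rfl
theorem L24062 : sm gg N2395 = N4969 := rfl
theorem L24064 : sm ga N4969 = N2396 := ded_12_1 (flp_g L11567) L11563 L24062
theorem L24066 : sm gc N4969 = N2929 := ded_21_1 (flp_g L14152) (flp_c L11565) L24062
theorem L24068 : sm gf N4969 = N4966 := ded_29_2 (flp_g L24054) L24048 L24052 L24062
theorem L24070 : sm gf N2396 = N4970 := rfl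
theorem L24072 : sm ga N4970 = N4966 := ded_11_1 (flp_f L24068) L24064 L24070
theorem L24076 : sm gg N4970 = N4965 := ded_29_3 (flp_a L24048) L11553 L11567 L24070
theorem L24078 : sm gb N4970 = N4970 := ded_16_1 (flp_f L24070) L11571 L5820 (flp_b L11571) L24070
theorem L24079 : sm gg N4968 = N4461 := ded_31_6 (flp_f L21523) (flp_b L10345) (flp_g L5219) L2711 L1456 L1510 L2979 L5735 L11567 L24070 L24078 L24076 L24052 L24060
theorem L24087 : sm gf N2397 = N4973 := rfl
theorem L24091 : sm gc N4973 = N2404 := ded_20_1 (flp_f L11606) (flp_c L11575) L24087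
theorem L24093 : sm gg N2397 = N4974 := rfl
theorem L24095 : sm ga N4974 = N2400 := ded_12_1 (flp_g L11587) L11573 L24093
theorem L24097 : sm gc N4974 = N2405 := ded_21_1 (flp_g L11610) (flp_c L11575) L24093
theorem L24118 : sm gg N2399 = N4979 := rfl
theorem L24122 : sm gf N4974 = N4979 := ded_29_0 (flp_g L24118) (flp_f L11581) L11587 (flp_a L24095)
theorem L24134 : sm gd N2402 = N4982 := rfl
theorem L24136 : sm gb N4982 = N2403 := ded_14_1 (flp_d L11602) L11600 L24134
theorem L24146 : sm ge N2403 = N4986 := rfl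
theorem L24148 : sm ga N4986 = N2407 := ded_10_1 (flp_e L11616) (flp_a L11604) L24146
theorem L24156 : sm gg N2403 = N4988 := rfl
theorem L24158 : sm ga N4988 = N2409 := ded_12_1 (flp_g L11624) (flp_a L11604) L24156
theorem L24162 : sm gb N2404 = N4989 := rfl
theorem L24164 : sm gb N2405 = N4990 := rfl
theorem L24168 : sm ge N2406 = N4992 := rfl
theorem L24172 : sm gf N2406 = N4993 := rfl
theorem L24174 : sm gc N4993 = N2408 := ded_20_1 (flp_f L11620) L11614 L24172
theorem L24180 : sm gf N2407 = N4995 := rfl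
theorem L24182 : sm ge N4995 = N2408 := ded_25_1 (flp_f L11620) L11616 L24180
theorem L24188 : sm gg N2408 = N4997 := rfl
theorem L24192 : sm gf N4988 = N4997 := ded_29_0 (flp_g L24188) (flp_f L11620) L11624 (flp_a L24158)
theorem L24212 : sm gf N2412 = N5003 := rfl
theorem L24214 : sm ga N5003 = N2414 := ded_11_1 (flp_f L11644) L11638 L24212
theorem L24228 : sm gg N2413 = N5007 := rfl
theorem L24230 : sm ge N5007 = N2415 := ded_26_1 (flp_g L11646) L11640 L24228
theorem L24242 : sm gf N2415 = N5010 := rfl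
theorem L24246 : sm gg N5010 = N5003 := ded_29_3 L24214 (flp_f L11644) L11646 L24242
theorem L24248 : sm gc N2416 = N5011 := rfl
theorem L24250 : sm gf N2416 = N5012 := rfl
theorem L24252 : sm gd N5012 = N2417 := ded_23_1 (flp_f L11650) L11648 L24250
theorem L24254 : sm ge N5012 = N4149 := ded_25_1 L19892 L11806 L24250
theorem L24264 : sm gc N2418 = N5015 := rfl
theorem L24266 : sm gb N5015 = N2422 := ded_13_1 (flp_c L11676) (flp_b L5781) (flp_c L5773) L11656 L24264
theorem L24272 : sm ga N2419 = N5017 := rfl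
theorem L24274 : sm ge N5017 = N2421 := ded_10_2 (flp_a L11672) (flp_e L11662) L24272
theorem L24276 : sm gc N2419 = N5018 := rfl
theorem L24278 : sm ge N5018 = N2422 := ded_19_2 (flp_c L11676) (flp_e L11662) L24276
theorem L24280 : sm gg N2419 = N5019 := rfl
theorem L24282 : sm ge N5019 = N2423 := ded_26_1 (flp_g L11678) (flp_e L11662) L24280
theorem L24284 : sm gb N2420 = N5020 := rfl
theorem L24286 : sm ge N5020 = N2424 := ded_15_2 (flp_b L11682) (flp_e L11668) L24284
theorem L24288 : sm gb N2421 = N5021 := rfl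
theorem L24290 : sm gd N5021 = N2425 := ded_14_2 (flp_b L11686) (flp_d L11674) L24288
theorem L24296 : sm gg N2421 = N5023 := rfl
theorem L24298 : sm ga N5023 = N2423 := ded_12_1 (flp_g L11678) L11672 L24296
theorem L24306 : sm gg N2422 = N5025 := rfl
theorem L24308 : sm gc N5025 = N2423 := ded_21_1 (flp_g L11678) L11676 L24306
theorem L24310 : sm gb N2423 = N5026 := rfl
theorem L24312 : sm gd N5026 = N2427 := ded_14_2 (flp_b L11694) (flp_d L11680) L24310
theorem L24314 : sm gg N5026 = N2424 := ded_17_2 (flp_b L11682) (flp_g L5785) L5781 L11678 L24310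
theorem L24316 : sm gf N2423 = N5027 := rfl
theorem L24320 : sm gd N5027 = N2428 := ded_23_1 (flp_f L11700) (flp_d L11680) L24316
theorem L24322 : sm gg N5027 = N4834 := ded_29_3 (flp_a L23359) L11258 L11678 L24316
theorem L24324 : sm ga N2424 = N5028 := rfl
theorem L24326 : sm gd N5028 = N2429 := ded_9_2 (flp_a L11706) (flp_d L11684) L24324
theorem L24328 : sm gc N2424 = N5029 := rfl
theorem L24330 : sm gf N2424 = N5030 := rfl
theorem L24334 : sm gb N5030 = N4127 := ded_16_1 (flp_f L19788) L9543 L5791 L11682 L24330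
theorem L24336 : sm ga N2425 = N5031 := rfl
theorem L24338 : sm gc N2425 = N5032 := rfl
theorem L24340 : sm gf N2425 = N5033 := rfl
theorem L24342 : sm gg N2425 = N5034 := rfl
theorem L24344 : sm gb N2426 = N5035 := rfl
theorem L24346 : sm ga N2427 = N5036 := rfl
theorem L24350 : sm gg N5036 = N2429 := ded_12_2 (flp_a L11706) (flp_g L11696) L24346
theorem L24352 : sm gf N2427 = N5037 := rfl
theorem L24356 : sm gb N2428 = N5038 := rfl
theorem L24360 : sm gf N2429 = N5040 := rfl
theorem L24366 : sm gg N5037 = N5040 := ded_29_1 (flp_f L24360) (flp_g L24350) (flp_a L24346) L24352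
theorem L24368 : sm gg N2430 = N5041 := rfl
theorem L24374 : sm gf N5036 = N5041 := ded_29_0 (flp_g L24368) (flp_f L11710) (flp_g L11696) L24346
theorem L24382 : sm ge N2431 = N5043 := rfl
theorem L24384 : sm ga N5043 = N2435 := ded_10_1 (flp_e L11743) (flp_a L11718) L24382
theorem L24386 : sm gb N5043 = N4944 := ded_15_1 L23954 (flp_b L11720) L24382
theorem L24388 : sm gf N5043 = N2435 := ded_25_2 (flp_e L11743) (flp_f L11722) L24382
theorem L24397 : sm gd N2432 = N5045 := rfl
theorem L24399 : sm ga N5045 = N2437 := ded_9_1 (flp_d L11752) (flp_a L11726) L24397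
theorem L24401 : sm gb N5045 = N4857 := ded_14_1 L23473 (flp_b L11728) L24397
theorem L24403 : sm gf N5045 = N2437 := ded_23_2 (flp_d L11752) (flp_f L11731) L24397
theorem L24405 : sm gg N2432 = N5046 := rfl
theorem L24407 : sm ga N5046 = N2438 := ded_12_1 (flp_g L11756) (flp_a L11726) L24405
theorem L24410 : sm ge N5046 = N2433 := ded_26_1 (flp_g L11733) L11724 L24405
theorem L24421 : sm ge N2434 = N5049 := rfl
theorem L24425 : sm gc N5049 = N2435 := ded_19_1 (flp_e L11743) L11739 L24421
theorem L24432 : sm gd N2435 = N5051 := rfl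
theorem L24434 : sm gb N5051 = N2439 := ded_14_1 (flp_d L11762) (flp_b L11745) L24432
theorem L24436 : sm ge N5051 = N2437 := ded_22_2 (flp_d L11752) (flp_e L5812) L5808 L11743 L24432
theorem L24438 : sm gg N2435 = N5052 := rfl
theorem L24443 : sm gc N2437 = N5053 := rfl
theorem L24445 : sm gg N2437 = N5054 := rfl
theorem L24447 : sm gd N5054 = N2438 := ded_24_1 (flp_g L11756) L11752 L24445
theorem L24449 : sm gf N5054 = N5054 := ded_29_2 (flp_g L24445) (flp_a L24399) L24403 L24445
theorem L24450 : sm gc N2439 = N5055 := rfl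
theorem L24452 : sm ga N5055 = N4092 := ded_8_1 L19595 (flp_a L11764) L24450
theorem L24454 : sm ge N5055 = N2440 := ded_19_2 (flp_c L11770) (flp_e L11768) L24450
theorem L24456 : sm gf N5055 = N4862 := ded_20_2 L23501 (flp_f L11766) L24450
theorem L24458 : sm gb N2440 = N5056 := rfl
theorem L24460 : sm gd N5056 = N4091 := ded_14_2 (flp_b L19591) (flp_d L11776) L24458
theorem L24472 : sm gf N2441 = N5059 := rfl
theorem L24478 : sm gd N5059 = N5003 := ded_23_1 (flp_f L24212) (flp_d L11782) L24472
theorem L24480 : sm gg N2441 = N5060 := rfl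
theorem L24484 : sm gc N5060 = N3147 := ded_21_1 L15173 (flp_c L11780) L24480
theorem L24524 : sm gc N2445 = N5066 := rfl
theorem L24526 : sm ga N5066 = N2464 := ded_8_1 (flp_c L11893) (flp_a L11804) L24524
theorem L24530 : sm gd N5066 = N2464 := ded_28_7 (flp_a L24526) (flp_c L24524) (flp_d L11802) L5845 L3048 (flp_c L5845) L11802 L24524
theorem L24532 : sm ga N2446 = N5067 := rfl
theorem L24541 : sm ge N2446 = N5070 := rfl
theorem L24543 : sm gb N5070 = N2448 := ded_15_1 (flp_e L11814) L11808 L24541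
theorem L24553 : sm ge N2447 = N5074 := rfl
theorem L24555 : sm ga N5074 = N2452 := ded_10_1 (flp_e L11833) (flp_a L11812) L24553
theorem L24557 : sm gf N2447 = N5075 := rfl
theorem L24559 : sm ga N5075 = N2453 := ded_11_1 (flp_f L11837) (flp_a L11812) L24557
theorem L24561 : sm gd N5075 = N2449 := ded_23_1 (flp_f L11819) L11810 L24557
theorem L24563 : sm gg N2447 = N5076 := rfl
theorem L24565 : sm ga N5076 = N2454 := ded_12_1 (flp_g L11841) (flp_a L11812) L24563
theorem L24569 : sm gd N2448 = N5077 := rfl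
theorem L24571 : sm ga N5077 = N2455 := ded_9_1 (flp_d L11845) (flp_a L11816) L24569
theorem L24573 : sm gf N2448 = N5078 := rfl
theorem L24575 : sm ga N5078 = N2456 := ded_11_1 (flp_f L11849) (flp_a L11816) L24573
theorem L24578 : sm ge N5078 = N2449 := ded_25_1 (flp_f L11819) L11814 L24573
theorem L24580 : sm gg N2448 = N5079 := rfl
theorem L24582 : sm ga N5079 = N2457 := ded_12_1 (flp_g L11854) (flp_a L11816) L24580
theorem L24595 : sm ge N2451 = N5083 := rfl
theorem L24597 : sm gb N5083 = N4992 := ded_15_1 (flp_e L24168) (flp_b L11831) L24595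
theorem L24599 : sm gc N5083 = N2452 := ded_19_1 (flp_e L11833) L11829 L24595
theorem L24609 : sm gd N2452 = N5086 := rfl
theorem L24611 : sm gb N5086 = N2461 := ded_14_1 (flp_d L11875) (flp_b L11835) L24609
theorem L24613 : sm ge N5086 = N2455 := ded_22_2 (flp_d L11845) (flp_e L5854) L5850 L11833 L24609
theorem L24619 : sm gg N2452 = N5088 := rfl
theorem L24621 : sm ge N5088 = N2454 := ded_26_1 (flp_g L11841) L11833 L24619
theorem L24623 : sm gb N2453 = N5089 := rfl
theorem L24627 : sm gf N5089 = N2463 := ded_16_2 (flp_b L11889) (flp_f L5871) (flp_b L5852) L11837 L24623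
theorem L24629 : sm gg N2453 = N5090 := rfl
theorem L24633 : sm gf N5076 = N5090 := ded_29_0 (flp_g L24629) (flp_f L11837) L11841 (flp_a L24565)
theorem L24635 : sm gf N2454 = N5091 := rfl
theorem L24637 : sm ga N5091 = N5090 := ded_11_1 (flp_f L24633) L24565 L24635
theorem L24639 : sm gd N5091 = N2460 := ded_23_1 (flp_f L11868) (flp_d L11843) L24635
theorem L24643 : sm gc N2455 = N5092 := rfl
theorem L24645 : sm gf N2455 = N5093 := rfl
theorem L24647 : sm gd N5093 = N2456 := ded_23_1 (flp_f L11849) L11845 L24645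
theorem L24649 : sm gg N2455 = N5094 := rfl
theorem L24651 : sm gd N5094 = N2457 := ded_24_1 (flp_g L11854) L11845 L24649
theorem L24653 : sm gb N2456 = N5095 := rfl
theorem L24659 : sm gg N2456 = N5096 := rfl
theorem L24664 : sm gf N5079 = N5096 := ded_29_0 (flp_g L24659) (flp_f L11849) L11854 (flp_a L24582)
theorem L24666 : sm gf N2457 = N5097 := rfl
theorem L24668 : sm ga N5097 = N5096 := ded_11_1 (flp_f L24664) L24582 L24666
theorem L24671 : sm ge N5097 = N2460 := ded_25_1 (flp_f L11868) (flp_e L11857) L24666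
theorem L24675 : sm ga N2458 = N5098 := rfl
theorem L24677 : sm gf N5098 = N2468 := ded_11_2 (flp_a L11913) (flp_f L11861) L24675
theorem L24690 : sm gc N2461 = N5103 := rfl
theorem L24692 : sm ga N5103 = N5011 := ded_8_1 (flp_c L24248) (flp_a L11877) L24690
theorem L24694 : sm ge N5103 = N2464 := ded_19_2 (flp_c L11893) (flp_e L11879) L24690
theorem L24696 : sm gf N2461 = N5104 := rfl
theorem L24702 : sm ge N5104 = N2465 := ded_25_1 (flp_f L11895) (flp_e L11879) L24696
theorem L24712 : sm gc N2463 = N5107 := rfl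
theorem L24714 : sm gb N5107 = N4037 := ded_13_1 (flp_c L19357) L9349 (flp_c L5875) L11889 L24712
theorem L24716 : sm gg N2463 = N5108 := rfl
theorem L24718 : sm gd N5108 = N2470 := ded_24_1 (flp_g L11919) (flp_d L11891) L24716
theorem L24720 : sm gb N2464 = N5109 := rfl
theorem L24722 : sm gf N2464 = N5110 := rfl
theorem L24724 : sm gc N5110 = N2465 := ded_20_1 (flp_f L11895) L11893 L24722
theorem L24726 : sm gb N2465 = N5111 := rfl
theorem L24728 : sm gd N5111 = N2466 := ded_14_2 (flp_b L11899) (flp_d L11897) L24726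
theorem L24730 : sm gg N2465 = N5112 := rfl
theorem L24736 : sm gf N4154 = N5112 := ded_29_0 (flp_g L24730) (flp_f L11895) (flp_g L9657) (flp_a L19924)
theorem L24738 : sm ga N2466 = N5113 := rfl
theorem L24740 : sm ge N5113 = N2468 := ded_10_2 (flp_a L11913) (flp_e L11901) L24738
theorem L24780 : sm gf N2470 = N5123 := rfl
theorem L24784 : sm gg N5123 = N5098 := ded_29_3 (flp_a L24675) L11861 L11919 L24780
theorem L24812 : sm gb N2474 = N5130 := rfl
theorem L24815 : sm ge N5130 = N2479 := ded_15_2 (flp_b L11958) (flp_e L11939) L24812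
theorem L24819 : sm ga N5130 = N2475 := ded_7_1 (flp_b L11941) L5905 (flp_b L4283) L2218 L4263 L8348 L17152 (flp_a L17161) L24812
theorem L24829 : sm gd N2476 = N5133 := rfl
theorem L24834 : sm gc N5133 = N3023 := ded_28_6 (flp_d L14571) (flp_a L14560) (flp_c L14558) L7118 L3666 (flp_d L5914) L11946 L24829
theorem L24860 : sm ga N2481 = N5140 := rfl
theorem L24862 : sm ge N5140 = N2650 := ded_10_2 (flp_a L12815) (flp_e L11970) L24860
theorem L24864 : sm gc N2481 = N5141 := rfl
theorem L24866 : sm ge N5141 = N2651 := ded_19_2 (flp_c L12817) (flp_e L11970) L24864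
theorem L24868 : sm gb N5141 = N5141 := ded_13_1 (flp_c L24864) (flp_b L11968) L5941 L11968 L24864
theorem L24869 : sm gd N2481 = N5142 := rfl
theorem L24871 : sm gb N5142 = N2482 := ded_14_1 (flp_d L11972) L11968 L24869
theorem L24873 : sm gf N2481 = N5143 := rfl
theorem L24875 : sm ge N5143 = N2652 := ded_25_1 (flp_f L12820) (flp_e L11970) L24873
theorem L24877 : sm gg N2481 = N5144 := rfl
theorem L24879 : sm ge N5144 = N2653 := ded_26_1 (flp_g L12822) (flp_e L11970) L24877
theorem L24881 : sm gc N2482 = N5145 := rfl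
theorem L24883 : sm ga N5145 = N2485 := ded_8_1 (flp_c L11990) (flp_a L11974) L24881
theorem L24885 : sm gf N2482 = N5146 := rfl
theorem L24887 : sm ga N5146 = N2486 := ded_11_1 (flp_f L11993) (flp_a L11974) L24885
theorem L24889 : sm gd N5146 = N2483 := ded_23_1 (flp_f L11976) L11972 L24885
theorem L24891 : sm gg N2482 = N5147 := rfl
theorem L24893 : sm ga N5147 = N2487 := ded_12_1 (flp_g L11997) (flp_a L11974) L24891
theorem L24895 : sm gd N5147 = N2484 := ded_24_1 (flp_g L11983) L11972 L24891
theorem L24897 : sm gb N2483 = N5148 := rfl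
theorem L24899 : sm ge N5148 = N2654 := ded_15_2 (flp_b L12824) (flp_e L11981) L24897
theorem L24901 : sm gb N2484 = N5149 := rfl
theorem L24903 : sm ge N5149 = N2655 := ded_15_2 (flp_b L12826) (flp_e L11988) L24901
theorem L24905 : sm gd N2485 = N5150 := rfl
theorem L24907 : sm gb N5150 = N5150 := ded_14_1 (flp_d L24905) L11992 L24905
theorem L24908 : sm gf N2485 = N5151 := rfl
theorem L24910 : sm gc N5151 = N2486 := ded_20_1 (flp_f L11993) L11990 L24908
theorem L24912 : sm gg N2485 = N5152 := rfl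
theorem L24914 : sm gc N5152 = N2487 := ded_21_1 (flp_g L11997) L11990 L24912
theorem L24916 : sm gb N2486 = N5153 := rfl
theorem L24918 : sm gd N5153 = N2488 := ded_14_2 (flp_b L12001) (flp_d L11995) L24916
theorem L24920 : sm gf N5153 = N2492 := ded_16_2 (flp_b L12029) (flp_f L5958) (flp_b L5946) L11993 L24916
theorem L24922 : sm gg N2486 = N5154 := rfl
theorem L24924 : sm gd N5154 = N2489 := ded_24_1 (flp_g L12007) (flp_d L11995) L24922
theorem L24926 : sm gf N5147 = N5154 := ded_29_0 (flp_g L24922) (flp_f L11993) L11997 (flp_a L24893)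
theorem L24928 : sm gb N2487 = N5155 := rfl
theorem L24930 : sm gd N5155 = N2490 := ded_14_2 (flp_b L12014) (flp_d L11999) L24928
theorem L24932 : sm gg N5155 = N2494 := ded_17_2 (flp_b L12040) (flp_g L5963) (flp_b L5946) L11997 L24928
theorem L24934 : sm gf N2487 = N5156 := rfl
theorem L24936 : sm ga N5156 = N5154 := ded_11_1 (flp_f L24926) L24893 L24934
theorem L24938 : sm gd N5156 = N2491 := ded_23_1 (flp_f L12020) (flp_d L11999) L24934
theorem L24940 : sm gg N5156 = N5146 := ded_29_3 L24887 (flp_f L11993) L11997 L24934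
theorem L24942 : sm ga N2488 = N5157 := rfl
theorem L24944 : sm ge N5157 = N2656 := ded_10_2 (flp_a L12828) (flp_e L12003) L24942
theorem L24946 : sm gf N5157 = N2496 := ded_11_2 (flp_a L12055) (flp_f L12005) L24942
theorem L24948 : sm gc N2488 = N5158 := rfl
theorem L24950 : sm ge N5158 = N2657 := ded_19_2 (flp_c L12832) (flp_e L12003) L24948
theorem L24952 : sm gf N5158 = N2497 := ded_20_2 (flp_c L12059) (flp_f L12005) L24948
theorem L24954 : sm gb N5158 = N5158 := ded_13_1 (flp_c L24948) (flp_b L12001) L5950 L12001 L24948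
theorem L24955 : sm gg N2488 = N5159 := rfl
theorem L24957 : sm ge N5159 = N2658 := ded_26_1 (flp_g L12837) (flp_e L12003) L24955
theorem L24959 : sm gb N2489 = N5160 := rfl
theorem L24961 : sm ge N5160 = N2659 := ded_15_2 (flp_b L12839) (flp_e L12010) L24959
theorem L24963 : sm ga N2490 = N5161 := rfl
theorem L24965 : sm ge N5161 = N2660 := ded_10_2 (flp_a L12841) (flp_e L12016) L24963
theorem L24967 : sm gg N5161 = N2500 := ded_12_2 (flp_a L12073) (flp_g L12018) L24963
theorem L24969 : sm gc N2490 = N5162 := rfl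
theorem L24971 : sm ge N5162 = N2661 := ded_19_2 (flp_c L12845) (flp_e L12016) L24969
theorem L24973 : sm gg N5162 = N2501 := ded_21_2 (flp_c L12077) (flp_g L12018) L24969
theorem L24975 : sm gb N5162 = N5162 := ded_13_1 (flp_c L24969) (flp_b L12014) L5955 L12014 L24969
theorem L24976 : sm gf N2490 = N5163 := rfl
theorem L24978 : sm ge N5163 = N2662 := ded_25_1 (flp_f L12850) (flp_e L12016) L24976
theorem L24980 : sm gb N2491 = N5164 := rfl
theorem L24982 : sm ge N5164 = N2663 := ded_15_2 (flp_b L12852) (flp_e L12025) L24980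
theorem L24984 : sm ga N2492 = N5165 := rfl
theorem L24986 : sm gd N5165 = N2496 := ded_9_2 (flp_a L12055) (flp_d L12031) L24984
theorem L24988 : sm gc N2492 = N5166 := rfl
theorem L24990 : sm gb N5166 = N5166 := ded_13_1 (flp_c L24988) (flp_b L12029) L5960 L12029 L24988
theorem L24991 : sm gg N2492 = N5167 := rfl
theorem L24993 : sm gd N5167 = N2498 := ded_24_1 (flp_g L12065) (flp_d L12031) L24991
theorem L24995 : sm gb N2493 = N5168 := rfl
theorem L24997 : sm gd N5168 = N2499 := ded_14_2 (flp_b L12069) (flp_d L12036) L24995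
theorem L24999 : sm ga N2494 = N5169 := rfl
theorem L25001 : sm gd N5169 = N2500 := ded_9_2 (flp_a L12073) (flp_d L12042) L24999
theorem L25003 : sm gc N2494 = N5170 := rfl
theorem L25005 : sm gb N5170 = N5170 := ded_13_1 (flp_c L25003) (flp_b L12040) L5965 L12040 L25003
theorem L25006 : sm gf N2494 = N5171 := rfl
theorem L25008 : sm gd N5171 = N2502 := ded_23_1 (flp_f L12083) (flp_d L12042) L25006
theorem L25010 : sm gb N2495 = N5172 := rfl
theorem L25012 : sm gd N5172 = N2503 := ded_14_2 (flp_b L12087) (flp_d L12049) L25010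
theorem L25014 : sm ge N5172 = N5168 := ded_15_2 (flp_b L24995) (flp_e L12051) L25010
theorem L25016 : sm gb N2496 = N5173 := rfl
theorem L25018 : sm ge N5173 = N2664 := ded_15_2 (flp_b L12854) (flp_e L12057) L25016
theorem L25020 : sm gc N2496 = N5174 := rfl
theorem L25022 : sm ga N5174 = N2497 := ded_8_1 (flp_c L12059) L12055 L25020
theorem L25024 : sm ge N5174 = N2665 := ded_19_2 (flp_c L12856) (flp_e L12057) L25020
theorem L25026 : sm gg N2496 = N5175 := rfl
theorem L25028 : sm ga N5175 = N2498 := ded_12_1 (flp_g L12065) L12055 L25026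
theorem L25030 : sm ge N5175 = N2666 := ded_26_1 (flp_g L12860) (flp_e L12057) L25026
theorem L25032 : sm gf N5175 = N5159 := ded_29_2 (flp_g L24955) L24942 L24946 L25026
theorem L25034 : sm gd N2497 = N5176 := rfl
theorem L25036 : sm gb N5176 = N2507 := ded_14_1 (flp_d L12114) (flp_b L12063) L25034
theorem L25038 : sm gg N2497 = N5177 := rfl
theorem L25040 : sm gc N5177 = N2498 := ded_21_1 (flp_g L12065) L12059 L25038
theorem L25042 : sm ge N5177 = N2668 := ded_26_1 (flp_g L12870) (flp_e L12061) L25038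
theorem L25044 : sm gb N2498 = N5178 := rfl
theorem L25046 : sm ge N5178 = N2669 := ded_15_2 (flp_b L12874) (flp_e L12067) L25044
theorem L25048 : sm gg N5178 = N2499 := ded_17_2 (flp_b L12069) (flp_g L5972) L5968 L12065 L25044
theorem L25050 : sm gf N2498 = N5179 := rfl
theorem L25052 : sm ga N5179 = N5159 := ded_11_1 (flp_f L25032) L25028 L25050
theorem L25054 : sm ge N5179 = N2670 := ded_25_1 (flp_f L12878) (flp_e L12067) L25050
theorem L25056 : sm gg N5179 = N5157 := ded_29_3 (flp_a L24942) L12005 L12065 L25050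
theorem L25058 : sm ga N2499 = N5180 := rfl
theorem L25060 : sm ge N5180 = N2671 := ded_10_2 (flp_a L12884) (flp_e L12071) L25058
theorem L25062 : sm gc N2499 = N5181 := rfl
theorem L25064 : sm ge N5181 = N2672 := ded_19_2 (flp_c L12886) (flp_e L12071) L25062
theorem L25066 : sm gb N5181 = N2511 := ded_13_1 (flp_c L12137) (flp_b L6012) (flp_c L5974) L12069 L25062
theorem L25068 : sm gf N2499 = N5182 := rfl
theorem L25070 : sm ge N5182 = N2673 := ded_25_1 (flp_f L12890) (flp_e L12071) L25068
theorem L25072 : sm gb N5182 = N4521 := ded_16_1 (flp_f L21799) (flp_b L10503) L5978 L12069 L25068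
theorem L25074 : sm gb N2500 = N5183 := rfl
theorem L25076 : sm ge N5183 = N2674 := ded_15_2 (flp_b L12894) (flp_e L12075) L25074
theorem L25078 : sm gc N2500 = N5184 := rfl
theorem L25080 : sm ga N5184 = N2501 := ded_8_1 (flp_c L12077) L12073 L25078
theorem L25082 : sm ge N5184 = N2675 := ded_19_2 (flp_c L12896) (flp_e L12075) L25078
theorem L25084 : sm gf N2500 = N5185 := rfl
theorem L25086 : sm ga N5185 = N2502 := ded_11_1 (flp_f L12083) L12073 L25084
theorem L25088 : sm ge N5185 = N2676 := ded_25_1 (flp_f L12900) (flp_e L12075) L25084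
theorem L25090 : sm gg N5163 = N5185 := ded_29_1 (flp_f L25084) (flp_g L24967) (flp_a L24963) L24976
theorem L25092 : sm gd N2501 = N5186 := rfl
theorem L25094 : sm gb N5186 = N2516 := ded_14_1 (flp_d L12172) (flp_b L12081) L25092
theorem L25096 : sm gf N2501 = N5187 := rfl
theorem L25098 : sm gc N5187 = N2502 := ded_20_1 (flp_f L12083) L12077 L25096
theorem L25100 : sm ge N5187 = N2678 := ded_25_1 (flp_f L12910) (flp_e L12079) L25096
theorem L25102 : sm gb N2502 = N5188 := rfl
theorem L25104 : sm ge N5188 = N2679 := ded_15_2 (flp_b L12914) (flp_e L12085) L25102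
theorem L25106 : sm gf N5188 = N2503 := ded_16_2 (flp_b L12087) (flp_f L5984) L5980 L12083 L25102
theorem L25108 : sm gg N2502 = N5189 := rfl
theorem L25110 : sm ga N5189 = N5163 := ded_12_1 L25090 L25086 L25108
theorem L25112 : sm ge N5189 = N2680 := ded_26_1 (flp_g L12920) (flp_e L12085) L25108
theorem L25114 : sm gf N5161 = N5189 := ded_29_0 (flp_g L25108) (flp_f L12083) (flp_g L12018) L24963
theorem L25116 : sm ga N2503 = N5190 := rfl
theorem L25118 : sm ge N5190 = N2681 := ded_10_2 (flp_a L12926) (flp_e L12089) L25116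
theorem L25120 : sm gc N2503 = N5191 := rfl
theorem L25122 : sm ge N5191 = N2682 := ded_19_2 (flp_c L12930) (flp_e L12089) L25120
theorem L25124 : sm gb N5191 = N2520 := ded_13_1 (flp_c L12195) (flp_b L6036) (flp_c L5988) L12087 L25120
theorem L25126 : sm gg N2503 = N5192 := rfl
theorem L25128 : sm ge N5192 = N2683 := ded_26_1 (flp_g L12934) (flp_e L12089) L25126
theorem L25130 : sm gb N5192 = N4518 := ded_17_1 (flp_g L21785) (flp_b L10499) (flp_g L5992) L12087 L25126
theorem L25159 : sm gd N2505 = N5198 := rfl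
theorem L25161 : sm ga N5198 = N2507 := ded_9_1 (flp_d L12114) (flp_a L12099) L25159
theorem L25164 : sm gg N2505 = N5199 := rfl
theorem L25166 : sm ga N5199 = N2508 := ded_12_1 (flp_g L12117) (flp_a L12099) L25164
theorem L25168 : sm gc N5199 = N2506 := ded_21_1 (flp_g L12104) L12097 L25164
theorem L25170 : sm ge N5199 = N2690 := ded_26_1 (flp_g L12964) (flp_e L12101) L25164
theorem L25172 : sm gf N2508 = N5199 := ded_29_0 (flp_g L25164) L12103 L25164 L25166
theorem L25180 : sm gc N2507 = N5201 := rfl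
theorem L25182 : sm gf N5201 = N5201 := ded_20_2 (flp_c L25180) L12116 L25180
theorem L25183 : sm ge N2507 = N5202 := rfl
theorem L25185 : sm gf N5202 = N5202 := ded_25_2 (flp_e L25183) L12116 L25183
theorem L25186 : sm gd N5202 = N2692 := ded_22_1 (flp_e L12976) (flp_d L6391) (flp_e L6003) L12114 L25183
theorem L25188 : sm gg N2507 = N5203 := rfl
theorem L25190 : sm gd N5203 = N2508 := ded_24_1 (flp_g L12117) L12114 L25188
theorem L25192 : sm gb N2508 = N5204 := rfl
theorem L25194 : sm ge N5204 = N2694 := ded_15_2 (flp_b L12983) (flp_e L12121) L25192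
theorem L25196 : sm ga N2509 = N5205 := rfl
theorem L25202 : sm gg N5205 = N2510 := ded_12_2 (flp_a L12131) (flp_g L12129) L25196
theorem L25204 : sm gc N2509 = N5206 := rfl
theorem L25206 : sm ge N5206 = N2696 := ded_19_2 (flp_c L12991) (flp_e L12127) L25204
theorem L25216 : sm gb N2510 = N5208 := rfl
theorem L25218 : sm gd N5208 = N2537 := ded_14_2 (flp_b L12279) (flp_d L12133) L25216
theorem L25220 : sm ge N5208 = N2698 := ded_15_2 (flp_b L12999) (flp_e L12135) L25216
theorem L25222 : sm gc N2510 = N5209 := rfl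
theorem L25224 : sm ga N5209 = N2511 := ded_8_1 (flp_c L12137) L12131 L25222
theorem L25226 : sm ge N5209 = N2699 := ded_19_2 (flp_c L13003) (flp_e L12135) L25222
theorem L25228 : sm gf N2510 = N5210 := rfl
theorem L25230 : sm ga N5210 = N2512 := ded_11_1 (flp_f L12141) L12131 L25228
theorem L25232 : sm gd N5210 = N2539 := ded_23_1 (flp_f L12289) (flp_d L12133) L25228
theorem L25238 : sm gd N2511 = N5211 := rfl
theorem L25240 : sm gf N2511 = N5212 := rfl
theorem L25242 : sm gc N5212 = N2512 := ded_20_1 (flp_f L12141) L12137 L25240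
theorem L25246 : sm gg N2512 = N5213 := rfl
theorem L25250 : sm gd N5213 = N2542 := ded_24_1 (flp_g L12305) (flp_d L12143) L25246
theorem L25254 : sm gf N5205 = N5213 := ded_29_0 (flp_g L25246) (flp_f L12141) (flp_g L12129) L25196
theorem L25266 : sm gf N2513 = N5216 := rfl
theorem L25268 : sm gd N5216 = N2545 := ded_23_1 (flp_f L12321) (flp_d L12151) L25266
theorem L25270 : sm ge N5216 = N2706 := ded_25_1 (flp_f L13035) (flp_e L12153) L25266
theorem L25283 : sm gd N2514 = N5219 := rfl
theorem L25285 : sm ga N5219 = N2516 := ded_9_1 (flp_d L12172) (flp_a L12157) L25283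
theorem L25288 : sm gf N2514 = N5220 := rfl
theorem L25290 : sm ga N5220 = N2517 := ded_11_1 (flp_f L12175) (flp_a L12157) L25288
theorem L25292 : sm gc N5220 = N2515 := ded_20_1 (flp_f L12162) L12155 L25288
theorem L25294 : sm ge N5220 = N2710 := ded_25_1 (flp_f L13053) (flp_e L12159) L25288
theorem L25296 : sm gg N5220 = N2517 := ded_29_3 (flp_a L25290) (flp_f L25288) L12161 L25288
theorem L25304 : sm gc N2516 = N5222 := rfl
theorem L25306 : sm gg N5222 = N5222 := ded_21_2 (flp_c L25304) L12174 L25304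
theorem L25307 : sm ge N2516 = N5223 := rfl
theorem L25309 : sm gg N5223 = N5223 := ded_26_2 (flp_e L25307) L12174 L25307
theorem L25310 : sm gd N5223 = N2712 := ded_22_1 (flp_e L13065) (flp_d L6433) (flp_e L6027) L12172 L25307
theorem L25312 : sm gf N2516 = N5224 := rfl
theorem L25314 : sm gd N5224 = N2517 := ded_23_1 (flp_f L12175) L12172 L25312
theorem L25316 : sm gb N2517 = N5225 := rfl
theorem L25318 : sm ge N5225 = N2714 := ded_15_2 (flp_b L13072) (flp_e L12179) L25316
theorem L25320 : sm ga N2518 = N5226 := rfl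
theorem L25322 : sm gd N5226 = N2555 := ded_9_2 (flp_a L12369) (flp_d L12183) L25320
theorem L25326 : sm gf N5226 = N2519 := ded_11_2 (flp_a L12189) (flp_f L12187) L25320
theorem L25328 : sm gc N2518 = N5227 := rfl
theorem L25332 : sm gf N5227 = N2520 := ded_20_2 (flp_c L12195) (flp_f L12187) L25328
theorem L25340 : sm gb N2519 = N5229 := rfl
theorem L25342 : sm gd N5229 = N2558 := ded_14_2 (flp_b L12385) (flp_d L12191) L25340
theorem L25344 : sm ge N5229 = N2718 := ded_15_2 (flp_b L13088) (flp_e L12193) L25340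
theorem L25346 : sm gc N2519 = N5230 := rfl
theorem L25348 : sm ga N5230 = N2520 := ded_8_1 (flp_c L12195) L12189 L25346
theorem L25350 : sm ge N5230 = N2719 := ded_19_2 (flp_c L13092) (flp_e L12193) L25346
theorem L25352 : sm gg N2519 = N5231 := rfl
theorem L25358 : sm ge N5231 = N2720 := ded_26_1 (flp_g L13096) (flp_e L12193) L25352
theorem L25362 : sm gd N2520 = N5232 := rfl
theorem L25364 : sm gg N2520 = N5233 := rfl
theorem L25368 : sm ge N5233 = N2722 := ded_26_1 (flp_g L13106) (flp_e L12197) L25364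
theorem L25370 : sm gf N2521 = N5234 := rfl
theorem L25374 : sm gd N5234 = N2563 := ded_23_1 (flp_f L12413) (flp_d L12201) L25370
theorem L25376 : sm ge N5234 = N2723 := ded_25_1 (flp_f L13110) (flp_e L12203) L25370
theorem L25386 : sm gf N2522 = N5236 := rfl
theorem L25388 : sm ga N5236 = N2524 := ded_11_1 (flp_f L12215) L12207 L25386
theorem L25390 : sm ge N5236 = N2565 := ded_25_1 (flp_f L12425) (flp_e L12209) L25386
theorem L25430 : sm gf N2525 = N5244 := rfl
theorem L25436 : sm gg N5244 = N5236 := ded_29_3 L25388 (flp_f L12215) L12220 L25430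
theorem L25438 : sm ga N2526 = N5245 := rfl
theorem L25440 : sm ge N5245 = N2574 := ded_10_2 (flp_a L12471) (flp_e L12226) L25438
theorem L25461 : sm gc N2527 = N5249 := rfl
theorem L25463 : sm ga N5249 = N2530 := ded_8_1 (flp_c L12247) (flp_a L12230) L25461
theorem L25466 : sm gd N5201 = N5249 := ded_28_1 (flp_c L25461) (flp_d L12228) (flp_c L6046) (flp_d L5996) L12097 L25159 L25161 L25180
theorem L25495 : sm gf N2529 = N5255 := rfl
theorem L25497 : sm ge N5255 = N2583 := ded_25_1 (flp_f L12513) (flp_e L12245) L25495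
theorem L25499 : sm gb N5255 = N2536 := ded_16_1 (flp_f L12275) (flp_b L6070) L6059 L12243 L25495
theorem L25501 : sm gb N2530 = N5256 := rfl
theorem L25503 : sm gd N2530 = N5257 := rfl
theorem L25505 : sm ga N5257 = N5201 := ded_9_1 L25466 L25463 L25503
theorem L25508 : sm gc N5198 = N5257 := ded_28_0 (flp_d L25503) (flp_c L12247) (flp_d L6061) (flp_c L3155) (flp_d L3120) L6001 L12114 (flp_a L25161)
theorem L25515 : sm gg N2530 = N5259 := rfl
theorem L25517 : sm gc N5259 = N2532 := ded_21_1 (flp_g L12255) L12247 L25515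
theorem L25519 : sm gg N2531 = N5260 := rfl
theorem L25521 : sm gd N5260 = N2584 := ded_24_1 (flp_g L12519) (flp_d L12253) L25519
theorem L25523 : sm ge N5260 = N2532 := ded_26_1 (flp_g L12255) L12250 L25519
theorem L25525 : sm gb N2532 = N5261 := rfl
theorem L25527 : sm gd N5261 = N2533 := ded_14_2 (flp_b L12259) (flp_d L12257) L25525
theorem L25547 : sm gc N2534 = N5266 := rfl
theorem L25549 : sm ga N5266 = N2535 := ded_8_1 (flp_c L12269) L12263 L25547
theorem L25553 : sm gg N5266 = N2538 := ded_21_2 (flp_c L12283) (flp_g L12267) L25547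
theorem L25555 : sm gd N2535 = N5267 := rfl
theorem L25557 : sm gg N5267 = N2540 := ded_24_2 (flp_d L12297) (flp_g L12273) L25555
theorem L25559 : sm gf N2535 = N5268 := rfl
theorem L25565 : sm ga N2537 = N5269 := rfl
theorem L25567 : sm ge N5269 = N2593 := ded_10_2 (flp_a L12553) (flp_e L12281) L25565
theorem L25569 : sm gc N2537 = N5270 := rfl
theorem L25571 : sm ge N5270 = N2594 := ded_19_2 (flp_c L12557) (flp_e L12281) L25569
theorem L25573 : sm gf N2537 = N5271 := rfl
theorem L25575 : sm ge N5271 = N2595 := ded_25_1 (flp_f L12559) (flp_e L12281) L25573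
theorem L25577 : sm gg N4555 = N5271 := ded_26_0 L25575 (flp_g L12563) (flp_e L21993)
theorem L25579 : sm gg N2537 = N5272 := rfl
theorem L25581 : sm ge N5272 = N2596 := ded_26_1 (flp_g L12565) (flp_e L12281) L25579
theorem L25591 : sm gf N2538 = N5275 := rfl
theorem L25593 : sm ga N5275 = N2541 := ded_11_1 (flp_f L12299) (flp_a L12285) L25591
theorem L25599 : sm gg N5268 = N5275 := ded_29_1 (flp_f L25591) (flp_g L25553) L25549 L25559
theorem L25601 : sm gb N2539 = N5276 := rfl
theorem L25603 : sm ge N5276 = N2600 := ded_15_2 (flp_b L12583) (flp_e L12293) L25601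
theorem L25607 : sm gg N4337 = N5276 := ded_26_0 L25603 (flp_g L12589) (flp_e L20910)
theorem L25611 : sm ge N2540 = N5278 := rfl
theorem L25613 : sm gd N5278 = N2602 := ded_22_1 (flp_e L12593) (flp_d L6215) (flp_e L6082) L12297 L25611
theorem L25619 : sm gb N2541 = N5280 := rfl
theorem L25621 : sm ge N5280 = N2604 := ded_15_2 (flp_b L12599) (flp_e L12303) L25619
theorem L25623 : sm gc N5280 = N4559 := ded_13_2 (flp_b L22007) L10599 (flp_b L6088) (flp_c L12301) L25619
theorem L25716 : sm gc N2548 = N5297 := rfl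
theorem L25718 : sm ga N5297 = N2551 := ded_8_1 (flp_c L12353) (flp_a L12336) L25716
theorem L25721 : sm gd N5222 = N5297 := ded_28_1 (flp_c L25716) (flp_d L12334) (flp_c L6094) (flp_d L6020) L12155 L25283 L25285 L25304
theorem L25750 : sm gg N2550 = N5303 := rfl
theorem L25752 : sm ge N5303 = N2626 := ded_26_1 (flp_g L12703) (flp_e L12351) L25750
theorem L25754 : sm gb N5303 = N2557 := ded_17_1 (flp_g L12381) (flp_b L6118) (flp_g L6107) L12349 L25750
theorem L25756 : sm gb N2551 = N5304 := rfl
theorem L25758 : sm gd N2551 = N5305 := rfl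
theorem L25760 : sm ga N5305 = N5222 := ded_9_1 L25721 L25718 L25758
theorem L25763 : sm gc N5219 = N5305 := ded_28_0 (flp_d L25758) (flp_c L12353) (flp_d L6109) (flp_c L3173) (flp_d L3135) L6025 L12172 (flp_a L25285)
theorem L25784 : sm ga N2554 = N5310 := rfl
theorem L25786 : sm ge N5310 = N2629 := ded_10_2 (flp_a L12717) (flp_e L12367) L25784
theorem L25788 : sm gc N2554 = N5311 := rfl
theorem L25792 : sm gf N5311 = N5280 := ded_20_2 L25623 L22011 L25788
theorem L25822 : sm ga N2558 = N5317 := rfl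
theorem L25824 : sm ge N5317 = N2636 := ded_10_2 (flp_a L12745) (flp_e L12387) L25822
theorem L25826 : sm gb N5317 = N5269 := ded_7_2 (flp_a L25565) (flp_b L12279) (flp_a L6076) (flp_b L3164) (flp_a L1629) L3182 L6124 L12385 L25822
theorem L25828 : sm gc N2558 = N5318 := rfl
theorem L25830 : sm ge N5318 = N2637 := ded_19_2 (flp_c L12751) (flp_e L12387) L25828
theorem L25836 : sm gg N2558 = N5320 := rfl
theorem L25838 : sm ge N5320 = N2639 := ded_26_1 (flp_g L12757) (flp_e L12387) L25836
theorem L25860 : sm gb N2560 = N5324 := rfl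
theorem L25862 : sm ge N5324 = N2643 := ded_15_2 (flp_b L12777) (flp_e L12399) L25860
theorem L25864 : sm ga N4331 = N5324 := ded_10_3 L25862 (flp_a L12781) (flp_e L20875)
theorem L25866 : sm gf N4329 = N5324 := ded_25_0 L25862 (flp_f L12783) (flp_e L20866)
theorem L25888 : sm gf N2562 = N5329 := rfl
theorem L25892 : sm gc N5329 = N2563 := ded_20_1 (flp_f L12413) (flp_c L12409) L25888
theorem L25894 : sm ge N5329 = N2648 := ded_25_1 (flp_f L12801) (flp_e L12411) L25888
theorem L25907 : sm gd N2564 = N5332 := rfl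
theorem L25909 : sm ga N5332 = N2568 := ded_9_1 (flp_d L12441) (flp_a L12423) L25907
theorem L25923 : sm gd N2567 = N5335 := rfl
theorem L25925 : sm gb N5335 = N2568 := ded_14_1 (flp_d L12441) L12437 L25923
theorem L26006 : sm gd N2574 = N5351 := rfl
theorem L26008 : sm ga N5351 = N2575 := ded_9_1 (flp_d L12475) L12471 L26006
theorem L26010 : sm gf N5351 = N5335 := ded_23_2 (flp_d L25923) (flp_f L12473) L26006
theorem L26012 : sm gg N2574 = N5352 := rfl
theorem L26014 : sm ga N5352 = N2577 := ded_12_1 (flp_g L12486) L12471 L26012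
theorem L26016 : sm ge N2575 = N5353 := rfl
theorem L26018 : sm gb N5353 = N2578 := ded_15_1 (flp_e L12488) (flp_b L12477) L26016
theorem L26020 : sm gf N2575 = N5354 := rfl
theorem L26024 : sm gd N5354 = N2576 := ded_23_1 (flp_f L12479) L12475 L26020
theorem L26031 : sm gg N2576 = N5356 := rfl
theorem L26035 : sm gc N5356 = N5352 := ded_21_1 (flp_g L26012) (flp_c L12483) L26031
theorem L26037 : sm gf N5352 = N5356 := ded_29_0 (flp_g L26031) (flp_f L12479) L12486 (flp_a L26014)
theorem L26043 : sm gg N2578 = N5358 := rfl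
theorem L26049 : sm ge N5358 = N2579 := ded_26_1 (flp_g L12495) L12488 L26043
theorem L26071 : sm gf N2581 = N5364 := rfl
theorem L26073 : sm ga N5364 = N2583 := ded_11_1 (flp_f L12513) L12507 L26071
theorem L26091 : sm ga N2585 = N5368 := rfl
theorem L26093 : sm gd N5368 = N2586 := ded_9_2 (flp_a L12527) (flp_d L12525) L26091
theorem L26113 : sm gd N2587 = N5374 := rfl
theorem L26115 : sm gb N5374 = N2591 := ded_14_1 (flp_d L12545) (flp_b L12531) L26113
theorem L26117 : sm gf N2587 = N5375 := rfl
theorem L26119 : sm gc N5375 = N2588 := ded_20_1 (flp_f L12533) L12529 L26117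
theorem L26121 : sm gg N2588 = N5376 := rfl
theorem L26125 : sm gf N4586 = N5376 := ded_29_0 (flp_g L26121) (flp_f L12533) (flp_g L10657) L22143
theorem L26127 : sm ga N2589 = N5377 := rfl
theorem L26129 : sm gd N5377 = N2805 := ded_9_2 (flp_a L13566) (flp_d L12537) L26127
theorem L26135 : sm gc N2589 = N5378 := rfl
theorem L26137 : sm gf N2589 = N5379 := rfl
theorem L26143 : sm gg N2632 = N5379 := ded_31_0 (flp_f L26137) (flp_b L12535) L6189 L6207 L12583 (flp_g L12589) (flp_f L21048) L21050 L20966 L12783 (flp_b L12777) (flp_g L6296) (flp_f L6278) L12727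
theorem L26153 : sm gd N2590 = N5382 := rfl
theorem L26155 : sm ga N5382 = N2591 := ded_9_1 (flp_d L12545) (flp_a L12541) L26153
theorem L26157 : sm gg N5382 = N2598 := ded_24_2 (flp_d L12571) (flp_g L12543) L26153
theorem L26159 : sm gc N2591 = N5383 := rfl
theorem L26161 : sm gg N5383 = N2601 := ded_21_2 (flp_c L12591) (flp_g L12547) L26159
theorem L26173 : sm gc N2593 = N5387 := rfl
theorem L26175 : sm ga N5387 = N2594 := ded_8_1 (flp_c L12557) L12553 L26173
theorem L26177 : sm gf N2593 = N5388 := rfl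
theorem L26181 : sm gd N5388 = N2816 := ded_23_1 (flp_f L13612) (flp_d L12555) L26177
theorem L26183 : sm gg N5388 = N4607 := ded_29_3 (flp_a L22237) (flp_f L22191) (flp_g L22195) L26177
theorem L26187 : sm gb N2594 = N5389 := rfl
theorem L26191 : sm gd N2594 = N5390 := rfl
theorem L26193 : sm gf N2594 = N5391 := rfl
theorem L26195 : sm gc N5391 = N2595 := ded_20_1 (flp_f L12559) L12557 L26193
theorem L26197 : sm gg N4608 = N5391 := ded_21_0 L26195 (flp_g L12563) L22245
theorem L26199 : sm gg N2594 = N5392 := rfl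
theorem L26201 : sm gc N5392 = N2596 := ded_21_1 (flp_g L12565) L12557 L26199
theorem L26213 : sm ge N2598 = N5397 := rfl
theorem L26215 : sm ga N5397 = N2602 := ded_10_1 (flp_e L12593) (flp_a L12573) L26213
theorem L26227 : sm gc N2600 = N5400 := rfl
theorem L26229 : sm ga N5400 = N4372 := ded_8_1 L21079 L12587 L26227
theorem L26231 : sm gg N5400 = N4370 := ded_21_2 (flp_c L21070) L12589 L26227
theorem L26239 : sm gf N2601 = N5403 := rfl
theorem L26241 : sm gc N5403 = N2603 := ded_20_1 (flp_f L12595) L12591 L26239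
theorem L26251 : sm gg N2603 = N5406 := rfl
theorem L26257 : sm gf N5382 = N5406 := ded_29_0 (flp_g L26251) (flp_f L12595) (flp_g L12547) (flp_a L26155)
theorem L26259 : sm ga N2604 = N5407 := rfl
theorem L26261 : sm gc N5407 = N4615 := ded_8_2 (flp_a L22277) (flp_c L12601) L26259
theorem L26263 : sm gg N2604 = N5408 := rfl
theorem L26273 : sm gf N2606 = N5411 := rfl
theorem L26275 : sm gd N5411 = N2841 := ded_23_1 (flp_f L13730) (flp_d L12613) L26273
theorem L26277 : sm gg N5411 = N2649 := ded_29_3 (flp_a L22291) (flp_f L22289) (flp_g L12615) L26273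
theorem L26281 : sm gb N2607 = N5412 := rfl
theorem L26283 : sm gd N2607 = N5413 := rfl
theorem L26285 : sm ga N5413 = N2611 := ded_9_1 (flp_d L12637) (flp_a L12619) L26283
theorem L26287 : sm gf N2607 = N5414 := rfl
theorem L26291 : sm gc N5414 = N2608 := ded_20_1 (flp_f L12621) L12617 L26287
theorem L26299 : sm ga N2610 = N5416 := rfl
theorem L26301 : sm gc N5416 = N2617 := ded_8_2 (flp_a L12667) (flp_c L12635) L26299
theorem L26315 : sm gc N2611 = N5420 := rfl
theorem L26323 : sm gg N2611 = N5423 := rfl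
theorem L26325 : sm gd N5423 = N2613 := ded_24_1 (flp_g L12643) L12637 L26323
theorem L26338 : sm gf N2613 = N5427 := rfl
theorem L26342 : sm gc N5427 = N2616 := ded_20_1 (flp_f L12659) (flp_c L12645) L26338
theorem L26346 : sm ga N2614 = N5428 := rfl
theorem L26352 : sm gg N4352 = N5428 := ded_29_3 (flp_a L26346) L12651 L12703 (flp_f L20984)
theorem L26356 : sm gc N2614 = N5429 := rfl
theorem L26358 : sm gf N5429 = N2625 := ded_20_2 (flp_c L12701) (flp_f L12651) L26356
theorem L26360 : sm gg N2614 = N5430 := rfl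
theorem L26362 : sm ga N5430 = N4352 := ded_12_1 L26352 (flp_a L26346) L26360
theorem L26364 : sm gd N5430 = N2856 := ded_24_1 (flp_g L13800) (flp_d L12649) L26360
theorem L26370 : sm gb N2616 = N5431 := rfl
theorem L26372 : sm gd N5431 = N2857 := ded_14_2 (flp_b L13808) (flp_d L12663) L26370
theorem L26381 : sm gd N2617 = N5433 := rfl
theorem L26383 : sm ga N5433 = N2618 := ded_9_1 (flp_d L12669) L12667 L26381
theorem L26389 : sm gg N2617 = N5435 := rfl
theorem L26391 : sm ga N5435 = N2620 := ded_12_1 (flp_g L12675) L12667 L26389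
theorem L26401 : sm gg N2618 = N5438 := rfl
theorem L26403 : sm gd N5438 = N2620 := ded_24_1 (flp_g L12675) L12669 L26401
theorem L26406 : sm gb N2619 = N5439 := rfl
theorem L26408 : sm gf N5439 = N2623 := ded_16_2 (flp_b L12695) (flp_f L6253) L6244 L12673 L26406
theorem L26410 : sm gg N2619 = N5440 := rfl
theorem L26412 : sm gf N5435 = N5440 := ded_29_0 (flp_g L26410) (flp_f L12673) L12675 (flp_a L26391)
theorem L26420 : sm gf N2621 = N5442 := rfl
theorem L26422 : sm ga N5442 = N2627 := ded_11_1 (flp_f L12709) (flp_a L12680) L26420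
theorem L26424 : sm gc N5442 = N2627 := ded_20_1 (flp_f L12709) (flp_c L12682) L26420
theorem L26440 : sm gg N2623 = N5446 := rfl
theorem L26442 : sm gb N5446 = N2631 := ded_17_1 (flp_g L12725) (flp_b L6272) (flp_g L6259) L12695 L26440
theorem L26450 : sm gg N2625 = N5449 := rfl
theorem L26452 : sm gc N5449 = N2626 := ded_21_1 (flp_g L12703) L12701 L26450
theorem L26454 : sm gb N2627 = N5450 := rfl
theorem L26456 : sm ge N5450 = N2628 := ded_15_2 (flp_b L12713) (flp_e L12711) L26454
theorem L26470 : sm gc N2629 = N5455 := rfl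
theorem L26474 : sm gf N5455 = N5407 := ded_20_2 L26261 L22279 L26470
theorem L26476 : sm gg N2629 = N5456 := rfl
theorem L26480 : sm gf N5456 = N4616 := ded_29_2 (flp_g L22281) L22277 L22279 L26476
theorem L26492 : sm gf N2631 = N5459 := rfl
theorem L26496 : sm gg N5459 = N4615 := ded_29_3 (flp_a L22277) L10717 L12725 L26492
theorem L26498 : sm ga N2632 = N5460 := rfl
theorem L26500 : sm gd N5460 = N2861 := ded_9_2 (flp_a L13830) (flp_d L12729) L26498
theorem L26506 : sm gb N5460 = N4212 := ded_7_2 (flp_a L20468) (flp_b L20474) (flp_a L12697) (flp_b L6261) L3239 L3252 L6274 L12727 L26498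
theorem L26510 : sm gf N2632 = N5462 := rfl
theorem L26516 : sm gg N5462 = N5377 := ded_29_3 (flp_a L26127) L26137 (flp_g L26143) L26510
theorem L26518 : sm gb N5462 = N2638 := ded_16_1 (flp_f L12753) (flp_b L6288) (flp_f L6278) L12727 L26510
theorem L26522 : sm gd N2633 = N5464 := rfl
theorem L26524 : sm ga N5464 = N2634 := ded_9_1 (flp_d L12737) (flp_a L12733) L26522
theorem L26526 : sm gf N5464 = N2641 := ded_23_2 (flp_d L12765) (flp_f L12735) L26522
theorem L26536 : sm gg N2634 = N5467 := rfl
theorem L26542 : sm gc N2636 = N5469 := rfl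
theorem L26544 : sm ga N5469 = N2637 := ded_8_1 (flp_c L12751) L12745 L26542
theorem L26546 : sm gg N2636 = N5470 := rfl
theorem L26550 : sm gd N5470 = N2871 := ded_24_1 (flp_g L13876) (flp_d L12747) L26546
theorem L26552 : sm gf N4578 = N5470 := ded_29_0 (flp_g L26546) L22069 L22065 L22103
theorem L26556 : sm gb N2637 = N5471 := rfl
theorem L26558 : sm gc N5471 = N2640 := ded_13_2 (flp_b L12763) (flp_c L6292) L6288 L12751 L26556
theorem L26560 : sm gd N2637 = N5472 := rfl
theorem L26562 : sm gf N2637 = N5473 := rfl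
theorem L26564 : sm gc N5473 = N2638 := ded_20_1 (flp_f L12753) L12751 L26562
theorem L26566 : sm gg N2637 = N5474 := rfl
theorem L26568 : sm gc N5474 = N2639 := ded_21_1 (flp_g L12757) L12751 L26566
theorem L26570 : sm gf N4579 = N5474 := ded_20_0 L26568 (flp_f L12761) L22111
theorem L26586 : sm gg N2641 = N5480 := rfl
theorem L26590 : sm gd N5480 = N2642 := ded_24_1 (flp_g L12769) L12765 L26586
theorem L26592 : sm gf N5480 = N5467 := ded_29_2 (flp_g L26536) (flp_a L26524) L26526 L26586
theorem L26596 : sm gc N2643 = N5482 := rfl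
theorem L26598 : sm ga N5482 = N4355 := ded_8_1 L20995 L12781 L26596
theorem L26600 : sm gf N5482 = N4353 := ded_20_2 (flp_c L20986) L12783 L26596
theorem L26618 : sm gb N2646 = N5487 := rfl
theorem L26622 : sm gg N5487 = N5374 := ded_17_2 L26115 L12547 (flp_b L6306) L12791 L26618
theorem L26642 : sm gb N2648 = N5491 := rfl
theorem L26648 : sm gc N2650 = N5493 := rfl
theorem L26650 : sm ga N5493 = N2651 := ded_8_1 (flp_c L12817) L12815 L26648
theorem L26652 : sm gf N2650 = N5494 := rfl
theorem L26654 : sm ga N5494 = N2652 := ded_11_1 (flp_f L12820) L12815 L26652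
theorem L26656 : sm gg N2650 = N5495 := rfl
theorem L26658 : sm ga N5495 = N2653 := ded_12_1 (flp_g L12822) L12815 L26656
theorem L26660 : sm gd N2651 = N5496 := rfl
theorem L26662 : sm gb N5496 = N5496 := ded_14_1 (flp_d L26660) L12819 L26660
theorem L26663 : sm gf N2651 = N5497 := rfl
theorem L26665 : sm gc N5497 = N2652 := ded_20_1 (flp_f L12820) L12817 L26663
theorem L26667 : sm gg N2651 = N5498 := rfl
theorem L26669 : sm gc N5498 = N2653 := ded_21_1 (flp_g L12822) L12817 L26667
theorem L26671 : sm gb N2652 = N5499 := rfl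
theorem L26673 : sm gf N5499 = N2654 := ded_16_2 (flp_b L12824) (flp_f L6322) L6320 L12820 L26671
theorem L26675 : sm gg N2652 = N5500 := rfl
theorem L26677 : sm gf N5495 = N5500 := ded_29_0 (flp_g L26675) (flp_f L12820) L12822 (flp_a L26658)
theorem L26679 : sm gb N2653 = N5501 := rfl
theorem L26681 : sm gg N5501 = N2655 := ded_17_2 (flp_b L12826) (flp_g L6327) L6320 L12822 L26679
theorem L26683 : sm gf N2653 = N5502 := rfl
theorem L26685 : sm ga N5502 = N5500 := ded_11_1 (flp_f L26677) L26658 L26683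
theorem L26687 : sm gg N5502 = N5494 := ded_29_3 L26654 (flp_f L12820) L12822 L26683
theorem L26689 : sm ga N2654 = N5503 := rfl
theorem L26691 : sm gc N2654 = N5504 := rfl
theorem L26693 : sm gb N5504 = N5504 := ded_13_1 (flp_c L26691) (flp_b L12824) L6326 L12824 L26691
theorem L26694 : sm gg N2654 = N5505 := rfl
theorem L26696 : sm ga N2655 = N5506 := rfl
theorem L26698 : sm gc N2655 = N5507 := rfl
theorem L26700 : sm gb N5507 = N5507 := ded_13_1 (flp_c L26698) (flp_b L12826) L6331 L12826 L26698
theorem L26701 : sm gf N2655 = N5508 := rfl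
theorem L26703 : sm gb N2656 = N5509 := rfl
theorem L26705 : sm gc N2656 = N5510 := rfl
theorem L26707 : sm ga N5510 = N2657 := ded_8_1 (flp_c L12832) L12828 L26705
theorem L26709 : sm gf N5510 = N2665 := ded_20_2 (flp_c L12856) (flp_f L12830) L26705
theorem L26711 : sm gd N2657 = N5511 := rfl
theorem L26713 : sm gb N5511 = N5511 := ded_14_1 (flp_d L26711) L12836 L26711
theorem L26714 : sm gf N5511 = N2667 := ded_23_2 (flp_d L12866) (flp_f L12834) L26711
theorem L26716 : sm gg N2657 = N5512 := rfl
theorem L26718 : sm gc N5512 = N2658 := ded_21_1 (flp_g L12837) L12832 L26716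
theorem L26720 : sm gb N2658 = N5513 := rfl
theorem L26722 : sm gg N5513 = N2659 := ded_17_2 (flp_b L12839) (flp_g L6336) L6332 L12837 L26720
theorem L26724 : sm ga N2659 = N5514 := rfl
theorem L26726 : sm gc N2659 = N5515 := rfl
theorem L26728 : sm gb N5515 = N5515 := ded_13_1 (flp_c L26726) (flp_b L12839) L6338 L12839 L26726
theorem L26729 : sm gf N2659 = N5516 := rfl
theorem L26731 : sm gb N5516 = N5508 := ded_16_1 (flp_f L26701) (flp_b L12826) L6339 L12839 L26729
theorem L26733 : sm gb N2660 = N5517 := rfl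
theorem L26735 : sm gc N2660 = N5518 := rfl
theorem L26737 : sm ga N5518 = N2661 := ded_8_1 (flp_c L12845) L12841 L26735
theorem L26739 : sm gg N5518 = N2675 := ded_21_2 (flp_c L12896) (flp_g L12843) L26735
theorem L26741 : sm gd N2661 = N5519 := rfl
theorem L26743 : sm gb N5519 = N5519 := ded_14_1 (flp_d L26741) L12849 L26741
theorem L26744 : sm gg N5519 = N2677 := ded_24_2 (flp_d L12906) (flp_g L12847) L26741
theorem L26746 : sm gf N2661 = N5520 := rfl
theorem L26748 : sm gc N5520 = N2662 := ded_20_1 (flp_f L12850) L12845 L26746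
theorem L26750 : sm gb N2662 = N5521 := rfl
theorem L26752 : sm gf N5521 = N2663 := ded_16_2 (flp_b L12852) (flp_f L6345) L6341 L12850 L26750
theorem L26754 : sm ga N2663 = N5522 := rfl
theorem L26756 : sm gc N2663 = N5523 := rfl
theorem L26758 : sm gb N5523 = N5523 := ded_13_1 (flp_c L26756) (flp_b L12852) L6349 L12852 L26756
theorem L26759 : sm gg N2663 = N5524 := rfl
theorem L26761 : sm gb N5524 = N5505 := ded_17_1 (flp_g L26694) (flp_b L12824) (flp_g L6350) L12852 L26759
theorem L26763 : sm ga N2664 = N5525 := rfl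
theorem L26765 : sm gc N2664 = N5526 := rfl
theorem L26767 : sm gf N2664 = N5527 := rfl
theorem L26769 : sm gg N2664 = N5528 := rfl
theorem L26771 : sm gb N2665 = N5529 := rfl
theorem L26773 : sm gd N2665 = N5530 := rfl
theorem L26775 : sm ga N5530 = N2667 := ded_9_1 (flp_d L12866) (flp_a L12858) L26773
theorem L26777 : sm gg N2665 = N5531 := rfl
theorem L26779 : sm ga N5531 = N2668 := ded_12_1 (flp_g L12870) (flp_a L12858) L26777
theorem L26781 : sm gc N5531 = N2666 := ded_21_1 (flp_g L12860) L12856 L26777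
theorem L26783 : sm gf N5531 = N5512 := ded_29_2 (flp_g L26716) (flp_a L26707) L26709 L26777
theorem L26785 : sm gb N2666 = N5532 := rfl
theorem L26787 : sm gc N2667 = N5533 := rfl
theorem L26789 : sm ge N2667 = N5534 := rfl
theorem L26791 : sm gb N5534 = N2692 := ded_15_1 (flp_e L12976) (flp_b L12868) L26789
theorem L26793 : sm gg N2667 = N5535 := rfl
theorem L26795 : sm gd N5535 = N2668 := ded_24_1 (flp_g L12870) L12866 L26793
theorem L26797 : sm gb N2668 = N5536 := rfl
theorem L26799 : sm gg N5536 = N2694 := ded_17_2 (flp_b L12983) (flp_g L6394) (flp_b L6356) L12870 L26797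
theorem L26801 : sm gf N2668 = N5537 := rfl
theorem L26803 : sm ga N5537 = N5512 := ded_11_1 (flp_f L26783) L26779 L26801
theorem L26805 : sm gc N5537 = N2670 := ded_20_1 (flp_f L12878) (flp_c L12872) L26801
theorem L26807 : sm gg N5537 = N5510 := ded_29_3 L26707 L12834 L12870 L26801
theorem L26809 : sm ga N2669 = N5538 := rfl
theorem L26811 : sm gg N5538 = N2671 := ded_12_2 (flp_a L12884) (flp_g L12876) L26809
theorem L26813 : sm gc N2669 = N5539 := rfl
theorem L26815 : sm gg N5539 = N2672 := ded_21_2 (flp_c L12886) (flp_g L12876) L26813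
theorem L26817 : sm gf N2669 = N5540 := rfl
theorem L26819 : sm gb N2670 = N5541 := rfl
theorem L26821 : sm gb N2671 = N5542 := rfl
theorem L26823 : sm gc N2671 = N5543 := rfl
theorem L26825 : sm ga N5543 = N2672 := ded_8_1 (flp_c L12886) L12884 L26823
theorem L26827 : sm gf N2671 = N5544 := rfl
theorem L26829 : sm ga N5544 = N2673 := ded_11_1 (flp_f L12890) L12884 L26827
theorem L26831 : sm gg N5540 = N5544 := ded_29_1 (flp_f L26827) (flp_g L26811) (flp_a L26809) L26817
theorem L26833 : sm gd N2672 = N5545 := rfl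
theorem L26835 : sm gb N5545 = N2701 := ded_14_1 (flp_d L13015) (flp_b L12888) L26833
theorem L26837 : sm gf N2672 = N5546 := rfl
theorem L26839 : sm gc N5546 = N2673 := ded_20_1 (flp_f L12890) L12886 L26837
theorem L26841 : sm gg N2673 = N5547 := rfl
theorem L26843 : sm ga N5547 = N5540 := ded_12_1 L26831 L26829 L26841
theorem L26845 : sm gf N5538 = N5547 := ded_29_0 (flp_g L26841) (flp_f L12890) (flp_g L12876) L26809
theorem L26847 : sm ga N2674 = N5548 := rfl
theorem L26849 : sm gc N2674 = N5549 := rfl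
theorem L26851 : sm gf N2674 = N5550 := rfl
theorem L26853 : sm gg N2674 = N5551 := rfl
theorem L26855 : sm gb N2675 = N5552 := rfl
theorem L26857 : sm gd N2675 = N5553 := rfl
theorem L26859 : sm ga N5553 = N2677 := ded_9_1 (flp_d L12906) (flp_a L12898) L26857
theorem L26861 : sm gf N2675 = N5554 := rfl
theorem L26863 : sm ga N5554 = N2678 := ded_11_1 (flp_f L12910) (flp_a L12898) L26861
theorem L26865 : sm gc N5554 = N2676 := ded_20_1 (flp_f L12900) L12896 L26861
theorem L26867 : sm gg N5520 = N5554 := ded_29_1 (flp_f L26861) (flp_g L26739) L26737 L26746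
theorem L26869 : sm gb N2676 = N5555 := rfl
theorem L26871 : sm gc N2677 = N5556 := rfl
theorem L26873 : sm ge N2677 = N5557 := rfl
theorem L26875 : sm gb N5557 = N2712 := ded_15_1 (flp_e L13065) (flp_b L12908) L26873
theorem L26877 : sm gf N2677 = N5558 := rfl
theorem L26879 : sm gd N5558 = N2678 := ded_23_1 (flp_f L12910) L12906 L26877
theorem L26881 : sm gb N2678 = N5559 := rfl
theorem L26883 : sm gf N5559 = N2714 := ded_16_2 (flp_b L13072) (flp_f L6436) (flp_b L6366) L12910 L26881
theorem L26885 : sm gg N2678 = N5560 := rfl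
theorem L26887 : sm ga N5560 = N5520 := ded_12_1 L26867 L26863 L26885
theorem L26889 : sm gc N5560 = N2680 := ded_21_1 (flp_g L12920) (flp_c L12912) L26885
theorem L26891 : sm gf N5518 = N5560 := ded_29_0 (flp_g L26885) (flp_f L12910) (flp_g L12847) (flp_a L26737)
theorem L26893 : sm ga N2679 = N5561 := rfl
theorem L26895 : sm gd N5561 = N5544 := ded_9_2 L26829 (flp_d L12916) L26893
theorem L26897 : sm gf N5561 = N2681 := ded_11_2 (flp_a L12926) (flp_f L12918) L26893
theorem L26899 : sm gc N2679 = N5562 := rfl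
theorem L26901 : sm gf N5562 = N2682 := ded_20_2 (flp_c L12930) (flp_f L12918) L26899
theorem L26903 : sm gg N2679 = N5563 := rfl
theorem L26905 : sm gd N5563 = N5547 := ded_24_1 (flp_g L26841) (flp_d L12916) L26903
theorem L26907 : sm gb N2680 = N5564 := rfl
theorem L26909 : sm gb N2681 = N5565 := rfl
theorem L26911 : sm gd N5565 = N5542 := ded_14_2 (flp_b L26821) (flp_d L12928) L26909
theorem L26913 : sm gc N2681 = N5566 := rfl
theorem L26915 : sm ga N5566 = N2682 := ded_8_1 (flp_c L12930) L12926 L26913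
theorem L26917 : sm gg N2681 = N5567 := rfl
theorem L26919 : sm ga N5567 = N2683 := ded_12_1 (flp_g L12934) L12926 L26917
theorem L26921 : sm gd N5567 = N5538 := ded_24_1 L26811 (flp_d L12928) L26917
theorem L26923 : sm gf N5567 = N5563 := ded_29_2 (flp_g L26903) L26893 L26897 L26917
theorem L26925 : sm gd N2682 = N5568 := rfl
theorem L26927 : sm gb N5568 = N2721 := ded_14_1 (flp_d L13104) (flp_b L12932) L26925
theorem L26929 : sm gg N2682 = N5569 := rfl
theorem L26931 : sm gc N5569 = N2683 := ded_21_1 (flp_g L12934) L12930 L26929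
theorem L26933 : sm gf N2683 = N5570 := rfl
theorem L26935 : sm ga N5570 = N5563 := ded_11_1 (flp_f L26923) L26919 L26933
theorem L26937 : sm gd N5570 = N5540 := ded_23_1 (flp_f L26817) (flp_d L12936) L26933
theorem L26939 : sm gg N5570 = N5561 := ded_29_3 (flp_a L26893) L12918 L12934 L26933
theorem L26957 : sm gb N2685 = N5574 := rfl
theorem L26959 : sm gc N5574 = N2688 := ded_13_2 (flp_b L12955) (flp_c L6378) L6374 L12944 L26957
theorem L26967 : sm gg N2685 = N5577 := rfl
theorem L26969 : sm gc N5577 = N2687 := ded_21_1 (flp_g L12951) L12944 L26967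
theorem L26993 : sm gd N2688 = N5582 := rfl
theorem L26995 : sm gb N5582 = N2689 := ded_14_1 (flp_d L12957) L12955 L26993
theorem L27002 : sm ge N2689 = N5585 := rfl
theorem L27004 : sm ga N5585 = N2692 := ded_10_1 (flp_e L12976) (flp_a L12959) L27002
theorem L27006 : sm gc N5585 = N2692 := ded_19_1 (flp_e L12976) L12962 L27002
theorem L27009 : sm gg N2689 = N5586 := rfl
theorem L27011 : sm ga N5586 = N2693 := ded_12_1 (flp_g L12979) (flp_a L12959) L27009
theorem L27013 : sm gc N5586 = N2693 := ded_21_1 (flp_g L12979) L12962 L27009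
theorem L27015 : sm gd N5586 = N2690 := ded_24_1 (flp_g L12964) L12957 L27009
theorem L27017 : sm gf N2693 = N5586 := ded_29_0 (flp_g L27009) L12961 L27009 L27011
theorem L27033 : sm gg N2692 = N5591 := rfl
theorem L27035 : sm ge N5591 = N2693 := ded_26_1 (flp_g L12979) L12976 L27033
theorem L27037 : sm gb N2693 = N5592 := rfl
theorem L27039 : sm gd N5592 = N2694 := ded_14_2 (flp_b L12983) (flp_d L12981) L27037
theorem L27041 : sm ga N2694 = N5593 := rfl
theorem L27043 : sm gc N2694 = N5594 := rfl
theorem L27045 : sm gb N5594 = N2696 := ded_13_1 (flp_c L12991) (flp_b L6398) (flp_c L6396) L12983 L27043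
theorem L27047 : sm gf N2694 = N5595 := rfl
theorem L27049 : sm gb N2695 = N5596 := rfl
theorem L27051 : sm gd N5596 = N2736 := ded_14_2 (flp_b L13186) (flp_d L12987) L27049
theorem L27059 : sm gd N2696 = N5598 := rfl
theorem L27061 : sm gg N5598 = N2701 := ded_24_2 (flp_d L13015) (flp_g L12993) L27059
theorem L27067 : sm ga N2698 = N5600 := rfl
theorem L27069 : sm gd N5600 = N2740 := ded_9_2 (flp_a L13209) (flp_d L13001) L27067
theorem L27071 : sm gc N2698 = N5601 := rfl
theorem L27073 : sm gf N2698 = N5602 := rfl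
theorem L27075 : sm gd N5602 = N2742 := ded_23_1 (flp_f L13217) (flp_d L13001) L27073
theorem L27083 : sm gb N2699 = N5604 := rfl
theorem L27085 : sm gd N2699 = N5605 := rfl
theorem L27087 : sm ga N5605 = N2701 := ded_9_1 (flp_d L13015) (flp_a L13005) L27085
theorem L27089 : sm gf N2699 = N5606 := rfl
theorem L27093 : sm gc N5606 = N2700 := ded_20_1 (flp_f L13007) L13003 L27089
theorem L27097 : sm gb N2700 = N5607 := rfl
theorem L27099 : sm gd N5607 = N2747 := ded_14_2 (flp_b L13245) (flp_d L13011) L27097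
theorem L27101 : sm ga N4418 = N5607 := ded_9_3 L27099 (flp_a L13249) (flp_d L21287)
theorem L27103 : sm gg N4416 = N5607 := ded_24_0 L27099 (flp_g L13251) (flp_d L21281)
theorem L27105 : sm gc N2701 = N5608 := rfl
theorem L27107 : sm ge N2701 = N5609 := rfl
theorem L27109 : sm gf N2701 = N5610 := rfl
theorem L27111 : sm gd N5610 = N2702 := ded_23_1 (flp_f L13017) L13015 L27109
theorem L27113 : sm gb N2702 = N5611 := rfl
theorem L27115 : sm gc N5611 = N4671 := ded_13_2 (flp_b L22519) L10849 (flp_b L6414) (flp_c L13019) L27113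
theorem L27125 : sm gb N2703 = N5613 := rfl
theorem L27129 : sm gg N5613 = N4673 := ded_17_2 (flp_b L22529) (flp_g L10851) (flp_b L6414) L13021 L27125
theorem L27141 : sm gg N2704 = N5616 := rfl
theorem L27143 : sm ga N5616 = N2707 := ded_12_1 (flp_g L13039) L13029 L27141
theorem L27161 : sm gb N2706 = N5621 := rfl
theorem L27167 : sm gg N2706 = N5622 := rfl
theorem L27171 : sm gf N5616 = N5622 := ded_29_0 (flp_g L27167) (flp_f L13035) L13039 (flp_a L27143)
theorem L27173 : sm gf N2707 = N5623 := rfl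
theorem L27175 : sm ga N5623 = N5622 := ded_11_1 (flp_f L27171) L27143 L27173
theorem L27192 : sm ge N2709 = N5628 := rfl
theorem L27194 : sm ga N5628 = N2712 := ded_10_1 (flp_e L13065) (flp_a L13048) L27192
theorem L27196 : sm gc N5628 = N2712 := ded_19_1 (flp_e L13065) L13051 L27192
theorem L27199 : sm gf N2709 = N5629 := rfl
theorem L27201 : sm ga N5629 = N2713 := ded_11_1 (flp_f L13068) (flp_a L13048) L27199
theorem L27203 : sm gc N5629 = N2713 := ded_20_1 (flp_f L13068) L13051 L27199
theorem L27207 : sm gg N5629 = N2713 := ded_29_3 (flp_a L27201) (flp_f L27199) L13050 L27199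
theorem L27217 : sm gg N2711 = N5633 := rfl
theorem L27221 : sm gb N5633 = N2717 := ded_17_1 (flp_g L13084) (flp_b L6440) (flp_g L6431) L13061 L27217
theorem L27223 : sm gf N2712 = N5634 := rfl
theorem L27225 : sm ge N5634 = N2713 := ded_25_1 (flp_f L13068) L13065 L27223
theorem L27227 : sm gb N2713 = N5635 := rfl
theorem L27229 : sm gd N5635 = N2714 := ded_14_2 (flp_b L13072) (flp_d L13070) L27227
theorem L27231 : sm ga N2714 = N5636 := rfl
theorem L27233 : sm gc N2714 = N5637 := rfl
theorem L27235 : sm gb N5637 = N2716 := ded_13_1 (flp_c L13080) (flp_b L6440) (flp_c L6438) L13072 L27233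
theorem L27237 : sm gg N2714 = N5638 := rfl
theorem L27243 : sm gc N2715 = N5640 := rfl
theorem L27245 : sm ga N5640 = N2716 := ded_8_1 (flp_c L13080) L13074 L27243
theorem L27247 : sm gf N5640 = N2719 := ded_20_2 (flp_c L13092) (flp_f L13078) L27243
theorem L27249 : sm gd N2716 = N5641 := rfl
theorem L27251 : sm gf N5641 = N2721 := ded_23_2 (flp_d L13104) (flp_f L13082) L27249
theorem L27253 : sm gg N2716 = N5642 := rfl
theorem L27257 : sm ga N2718 = N5643 := rfl
theorem L27259 : sm gd N5643 = N2770 := ded_9_2 (flp_a L13380) (flp_d L13090) L27257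
theorem L27261 : sm gb N5643 = N5600 := ded_7_2 (flp_a L27067) (flp_b L12999) (flp_a L6404) (flp_b L3313) (flp_a L1698) L3329 L6446 L13088 L27257
theorem L27263 : sm gc N2718 = N5644 := rfl
theorem L27265 : sm gf N2718 = N5645 := rfl
theorem L27267 : sm gd N5645 = N2772 := ded_23_1 (flp_f L13390) (flp_d L13090) L27265
theorem L27269 : sm gg N2718 = N5646 := rfl
theorem L27271 : sm gd N5646 = N2773 := ded_24_1 (flp_g L13394) (flp_d L13090) L27269
theorem L27273 : sm gf N4653 = N5646 := ded_23_0 L27271 (flp_f L13398) (flp_d L22453)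
theorem L27275 : sm gb N2719 = N5647 := rfl
theorem L27277 : sm gd N2719 = N5648 := rfl
theorem L27279 : sm ga N5648 = N2721 := ded_9_1 (flp_d L13104) (flp_a L13094) L27277
theorem L27281 : sm gg N2719 = N5649 := rfl
theorem L27283 : sm ga N5649 = N2722 := ded_12_1 (flp_g L13106) (flp_a L13094) L27281
theorem L27285 : sm gc N5649 = N2720 := ded_21_1 (flp_g L13096) L13092 L27281
theorem L27287 : sm gf N5649 = N5642 := ded_29_2 (flp_g L27253) (flp_a L27245) L27247 L27281
theorem L27289 : sm gb N2720 = N5650 := rfl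
theorem L27291 : sm gd N5650 = N2777 := ded_14_2 (flp_b L13418) (flp_d L13100) L27289
theorem L27293 : sm ga N4410 = N5650 := ded_9_3 L27291 (flp_a L13422) (flp_d L21251)
theorem L27295 : sm gf N4408 = N5650 := ded_23_0 L27291 (flp_f L13424) (flp_d L21245)
theorem L27297 : sm gc N2721 = N5651 := rfl
theorem L27299 : sm ge N2721 = N5652 := rfl
theorem L27301 : sm gg N2721 = N5653 := rfl
theorem L27303 : sm gd N5653 = N2722 := ded_24_1 (flp_g L13106) L13104 L27301
theorem L27305 : sm gb N2722 = N5654 := rfl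
theorem L27307 : sm gc N5654 = N4657 := ded_13_2 (flp_b L22463) L10819 (flp_b L6456) (flp_c L13108) L27305
theorem L27309 : sm gf N2722 = N5655 := rfl
theorem L27311 : sm ga N5655 = N5642 := ded_11_1 (flp_f L27287) L27283 L27309
theorem L27313 : sm gc N5655 = N2723 := ded_20_1 (flp_f L13110) (flp_c L13108) L27309
theorem L27331 : sm gf N2724 = N5659 := rfl
theorem L27335 : sm gc N5659 = N2725 := ded_20_1 (flp_f L13124) L13118 L27331
theorem L27339 : sm gg N2724 = N5660 := rfl
theorem L27341 : sm ga N5660 = N2729 := ded_12_1 (flp_g L13145) (flp_a L13120) L27339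
theorem L27369 : sm gg N2728 = N5666 := rfl
theorem L27375 : sm gf N5660 = N5666 := ded_29_0 (flp_g L27369) (flp_f L13139) L13145 (flp_a L27341)
theorem L27423 : sm gb N2732 = N5673 := rfl
theorem L27425 : sm ge N5673 = N2800 := ded_15_2 (flp_b L13539) (flp_e L13167) L27423
theorem L27427 : sm gg N5673 = N2763 := ded_17_2 L20607 L20605 (flp_b L20265) (flp_g L13169) L27423
theorem L27456 : sm ga N2736 = N5678 := rfl
theorem L27458 : sm ge N5678 = N2805 := ded_10_2 (flp_a L13566) (flp_e L13188) L27456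
theorem L27462 : sm gf N4227 = N5678 := ded_25_0 L27458 (flp_f L13570) (flp_e L20279)
theorem L27464 : sm gc N2736 = N5679 := rfl
theorem L27466 : sm ge N5679 = N2806 := ded_19_2 (flp_c L13572) (flp_e L13188) L27464
theorem L27468 : sm gg N3975 = N5679 := ded_26_0 L27466 L13640 (flp_e L19093)
theorem L27470 : sm gf N2736 = N5680 := rfl
theorem L27472 : sm ga N5680 = N4227 := ded_11_1 L27462 (flp_a L27456) L27470
theorem L27476 : sm gg N2766 = N5680 := ded_31_0 (flp_f L27470) (flp_b L13186) L6484 L6507 L13245 (flp_g L13251) (flp_f L21428) L21430 L21335 L13424 (flp_b L13418) (flp_g L6582) (flp_f L6559) L13357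
theorem L27478 : sm gg N2736 = N5681 := rfl
theorem L27480 : sm gc N5681 = N3975 := ded_21_1 L27468 (flp_c L27464) L27478
theorem L27484 : sm gb N5681 = N2743 := ded_17_1 (flp_g L13223) (flp_b L6497) (flp_g L6484) L13186 L27478
theorem L27490 : sm gd N2737 = N5683 := rfl
theorem L27492 : sm ga N5683 = N2738 := ded_9_1 (flp_d L13198) (flp_a L13192) L27490
theorem L27494 : sm gg N5683 = N2745 := ded_24_2 (flp_d L13231) (flp_g L13196) L27490
theorem L27496 : sm gc N2738 = N5684 := rfl
theorem L27498 : sm gg N5684 = N2748 := ded_21_2 (flp_c L13253) (flp_g L13201) L27496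
theorem L27500 : sm ge N2738 = N5685 := rfl
theorem L27502 : sm gb N5685 = N5685 := ded_15_1 (flp_e L27500) L13200 L27500
theorem L27503 : sm gg N5685 = N2749 := ded_26_2 (flp_e L13255) (flp_g L13201) L27500
theorem L27505 : sm gd N5685 = N2812 := ded_22_1 (flp_e L13596) (flp_d L6662) (flp_e L6488) L13198 L27500
theorem L27507 : sm gf N2738 = N5686 := rfl
theorem L27516 : sm gc N2740 = N5688 := rfl
theorem L27518 : sm ga N5688 = N2741 := ded_8_1 (flp_c L13213) L13209 L27516
theorem L27520 : sm ge N5688 = N2815 := ded_19_2 (flp_c L13608) (flp_e L13211) L27516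
theorem L27532 : sm gb N2741 = N5690 := rfl
theorem L27534 : sm ge N5690 = N2817 := ded_15_2 (flp_b L13620) (flp_e L13215) L27532
theorem L27536 : sm gc N5690 = N2744 := ded_13_2 (flp_b L13227) (flp_c L6501) L6497 L13213 L27532
theorem L27538 : sm gd N2741 = N5691 := rfl
theorem L27548 : sm gg N2741 = N5693 := rfl
theorem L27550 : sm gc N5693 = N2743 := ded_21_1 (flp_g L13223) L13213 L27548
theorem L27554 : sm gb N3974 = N5693 := ded_13_5 L27550 (flp_b L27484) L27480 (flp_b L19091) (flp_c L19085)
theorem L27556 : sm ga N2744 = N5694 := rfl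
theorem L27558 : sm ge N5694 = N2821 := ded_10_2 (flp_a L13642) (flp_e L13229) L27556
theorem L27560 : sm gd N2744 = N5695 := rfl
theorem L27562 : sm gb N5695 = N2745 := ded_14_1 (flp_d L13231) L13227 L27560
theorem L27564 : sm gf N2744 = N5696 := rfl
theorem L27566 : sm ge N5696 = N2823 := ded_25_1 (flp_f L13648) (flp_e L13229) L27564
theorem L27568 : sm gg N2744 = N5697 := rfl
theorem L27570 : sm ge N5697 = N2824 := ded_26_1 (flp_g L13650) (flp_e L13229) L27568
theorem L27572 : sm gc N2745 = N5698 := rfl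
theorem L27574 : sm ga N5698 = N2748 := ded_8_1 (flp_c L13253) (flp_a L13233) L27572
theorem L27576 : sm gd N5608 = N5698 := ded_28_1 (flp_c L27572) (flp_d L13231) (flp_c L6501) (flp_d L6406) L13003 L27085 L27087 L27105
theorem L27578 : sm ge N2745 = N5699 := rfl
theorem L27580 : sm ga N5699 = N2749 := ded_10_1 (flp_e L13255) (flp_a L13233) L27578
theorem L27582 : sm gd N5699 = N2826 := ded_22_1 (flp_e L13658) (flp_d L6681) (flp_e L6505) L13231 L27578
theorem L27584 : sm gf N2745 = N5700 := rfl
theorem L27586 : sm ga N5700 = N2750 := ded_11_1 (flp_f L13261) (flp_a L13233) L27584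
theorem L27592 : sm gb N2746 = N5701 := rfl
theorem L27594 : sm ge N5701 = N2828 := ded_15_2 (flp_b L13670) (flp_e L13241) L27592
theorem L27604 : sm gb N2748 = N5703 := rfl
theorem L27606 : sm gc N5703 = N2904 := ded_13_2 (flp_b L14031) (flp_c L6859) (flp_b L6517) L13253 L27604
theorem L27608 : sm gd N2748 = N5704 := rfl
theorem L27610 : sm ga N5704 = N5608 := ded_9_1 L27576 L27574 L27608
theorem L27612 : sm gc N5605 = N5704 := ded_28_0 (flp_d L27608) (flp_c L13253) (flp_d L6515) (flp_c L3356) (flp_d L3315) L6408 L13015 (flp_a L27087)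
theorem L27614 : sm ge N2748 = N5705 := rfl
theorem L27616 : sm gc N5705 = N2749 := ded_19_1 (flp_e L13255) L13253 L27614
theorem L27618 : sm gf N2748 = N5706 := rfl
theorem L27620 : sm gc N5706 = N2750 := ded_20_1 (flp_f L13261) L13253 L27618
theorem L27622 : sm gf N2749 = N5707 := rfl
theorem L27624 : sm gd N5707 = N2834 := ded_23_1 (flp_f L13696) (flp_d L13259) L27622
theorem L27626 : sm ge N5707 = N2750 := ded_25_1 (flp_f L13261) L13255 L27622
theorem L27642 : sm ga N2751 = N5710 := rfl
theorem L27644 : sm gc N5710 = N4730 := ded_8_2 (flp_a L22860) (flp_c L13269) L27642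
theorem L27646 : sm ge N5710 = N2837 := ded_10_2 (flp_a L13714) (flp_e L13267) L27642
theorem L27660 : sm gc N2753 = N5713 := rfl
theorem L27664 : sm gg N5713 = N4733 := ded_21_2 (flp_c L22874) (flp_g L13287) L27660
theorem L27678 : sm gd N2754 = N5716 := rfl
theorem L27680 : sm ga N5716 = N2757 := ded_9_1 (flp_d L13307) (flp_a L13291) L27678
theorem L27682 : sm gf N2754 = N5717 := rfl
theorem L27684 : sm ga N5717 = N2758 := ded_11_1 (flp_f L13310) (flp_a L13291) L27682
theorem L27690 : sm gg N2754 = N5718 := rfl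
theorem L27692 : sm ga N5718 = N2759 := ded_12_1 (flp_g L13316) (flp_a L13291) L27690
theorem L27700 : sm ge N2757 = N5720 := rfl
theorem L27703 : sm gd N5720 = N2847 := ded_22_1 (flp_e L13756) (flp_d L6735) (flp_e L6539) L13307 L27700
theorem L27713 : sm gb N2758 = N5723 := rfl
theorem L27715 : sm ge N5723 = N2850 := ded_15_2 (flp_b L13767) (flp_e L13314) L27713
theorem L27718 : sm gg N2758 = N5724 := rfl
theorem L27724 : sm gf N5718 = N5724 := ded_29_0 (flp_g L27718) (flp_f L13310) L13316 (flp_a L27692)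
theorem L27734 : sm gf N2759 = N5726 := rfl
theorem L27736 : sm ga N5726 = N5724 := ded_11_1 (flp_f L27724) L27692 L27734
theorem L27740 : sm ge N5726 = N2853 := ded_25_1 (flp_f L13780) (flp_e L13320) L27734
theorem L27745 : sm ga N2760 = N5727 := rfl
theorem L27749 : sm gf N5727 = N2763 := ded_11_2 (flp_a L13342) (flp_f L13326) L27745
theorem L27751 : sm gg N4429 = N5727 := ded_29_3 (flp_a L27745) L13326 L13351 (flp_f L21355)
theorem L27771 : sm gb N2762 = N5730 := rfl
theorem L27773 : sm ge N5730 = N2857 := ded_15_2 (flp_b L13808) (flp_e L13338) L27771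
theorem L27777 : sm gg N5730 = N4419 := ded_17_2 L21296 L22569 (flp_b L22575) (flp_g L13340) L27771
theorem L27796 : sm ga N2766 = N5734 := rfl
theorem L27800 : sm gg N5734 = N4227 := ded_12_2 (flp_a L27472) (flp_g L27476) L27796
theorem L27802 : sm gf N5734 = N5681 := ded_29_0 (flp_g L27478) L27470 (flp_g L27476) L27796
theorem L27804 : sm gb N5734 = N4226 := ded_7_2 (flp_a L20601) (flp_b L20607) (flp_a L13342) (flp_b L6551) L3374 L3381 L6555 L13357 L27796
theorem L27806 : sm gc N2766 = N5735 := rfl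
theorem L27808 : sm ge N5735 = N2862 := ded_19_2 (flp_c L13838) (flp_e L13359) L27806
theorem L27810 : sm gf N2766 = N5736 := rfl
theorem L27812 : sm ga N5736 = N5681 := ded_11_1 (flp_f L27802) (flp_a L27796) L27810
theorem L27816 : sm gg N5736 = N5678 := ded_29_3 (flp_a L27456) L27470 (flp_g L27476) L27810
theorem L27824 : sm gd N2767 = N5738 := rfl
theorem L27826 : sm ga N5738 = N2768 := ded_9_1 (flp_d L13369) (flp_a L13363) L27824
theorem L27828 : sm gf N5738 = N2775 := ded_23_2 (flp_d L13404) (flp_f L13367) L27824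
theorem L27830 : sm gc N2768 = N5739 := rfl
theorem L27832 : sm gf N5739 = N2778 := ded_20_2 (flp_c L13426) (flp_f L13372) L27830
theorem L27834 : sm ge N2768 = N5740 := rfl
theorem L27836 : sm gb N5740 = N5740 := ded_15_1 (flp_e L27834) L13371 L27834
theorem L27837 : sm gf N5740 = N2779 := ded_25_2 (flp_e L13428) (flp_f L13372) L27834
theorem L27839 : sm gd N5740 = N2867 := ded_22_1 (flp_e L13860) (flp_d L6777) (flp_e L6563) L13369 L27834
theorem L27841 : sm gg N2768 = N5741 := rfl
theorem L27850 : sm gc N2770 = N5743 := rfl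
theorem L27852 : sm ga N5743 = N2771 := ded_8_1 (flp_c L13386) L13380 L27850
theorem L27854 : sm ge N5743 = N2870 := ded_19_2 (flp_c L13872) (flp_e L13382) L27850
theorem L27856 : sm gg N2770 = N5744 := rfl
theorem L27858 : sm ga N5744 = N2773 := ded_12_1 (flp_g L13394) L13380 L27856
theorem L27860 : sm ge N5744 = N2871 := ded_26_1 (flp_g L13876) (flp_e L13382) L27856
theorem L27864 : sm gb N5744 = N4711 := ded_17_1 (flp_g L22754) L22744 (flp_g L22752) (flp_b L13384) L27856
theorem L27866 : sm gb N2771 = N5745 := rfl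
theorem L27868 : sm ge N5745 = N2872 := ded_15_2 (flp_b L13884) (flp_e L13388) L27866
theorem L27870 : sm gc N5745 = N2774 := ded_13_2 (flp_b L13400) (flp_c L6576) L6572 L13386 L27866
theorem L27872 : sm gd N2771 = N5746 := rfl
theorem L27874 : sm gf N2771 = N5747 := rfl
theorem L27876 : sm gc N5747 = N2772 := ded_20_1 (flp_f L13390) L13386 L27874
theorem L27878 : sm ge N5747 = N2874 := ded_25_1 (flp_f L13890) (flp_e L13388) L27874
theorem L27880 : sm gg N2771 = N5748 := rfl
theorem L27882 : sm gc N5748 = N2773 := ded_21_1 (flp_g L13394) L13386 L27880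
theorem L27884 : sm ge N5748 = N2875 := ded_26_1 (flp_g L13894) (flp_e L13388) L27880
theorem L27886 : sm gf N4691 = N5748 := ded_20_0 L27882 (flp_f L13398) L22641
theorem L27888 : sm ga N2774 = N5749 := rfl
theorem L27890 : sm ge N5749 = N2876 := ded_10_2 (flp_a L13900) (flp_e L13402) L27888
theorem L27892 : sm gd N2774 = N5750 := rfl
theorem L27894 : sm gb N5750 = N2775 := ded_14_1 (flp_d L13404) L13400 L27892
theorem L27896 : sm gf N2774 = N5751 := rfl
theorem L27898 : sm ge N5751 = N2878 := ded_25_1 (flp_f L13906) (flp_e L13402) L27896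
theorem L27900 : sm gg N2774 = N5752 := rfl
theorem L27902 : sm ge N5752 = N2879 := ded_26_1 (flp_g L13908) (flp_e L13402) L27900
theorem L27904 : sm gc N2775 = N5753 := rfl
theorem L27906 : sm ga N5753 = N2778 := ded_8_1 (flp_c L13426) (flp_a L13406) L27904
theorem L27908 : sm gd N5651 = N5753 := ded_28_1 (flp_c L27904) (flp_d L13404) (flp_c L6576) (flp_d L6448) L13092 L27277 L27279 L27297
theorem L27910 : sm ge N2775 = N5754 := rfl
theorem L27912 : sm ga N5754 = N2779 := ded_10_1 (flp_e L13428) (flp_a L13406) L27910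
theorem L27914 : sm gd N5754 = N2881 := ded_22_1 (flp_e L13916) (flp_d L6798) (flp_e L6580) L13404 L27910
theorem L27916 : sm gg N2775 = N5755 := rfl
theorem L27918 : sm ga N5755 = N2780 := ded_12_1 (flp_g L13434) (flp_a L13406) L27916
theorem L27922 : sm gf N5755 = N5741 := ded_29_2 (flp_g L27841) (flp_a L27826) L27828 L27916
theorem L27928 : sm gc N2777 = N5757 := rfl
theorem L27930 : sm ga N5757 = N4432 := ded_8_1 L21367 L13422 L27928
theorem L27934 : sm gf N5757 = N4430 := ded_20_2 (flp_c L21357) L13424 L27928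
theorem L27936 : sm gb N2778 = N5758 := rfl
theorem L27938 : sm gc N5758 = N2919 := ded_13_2 (flp_b L14109) (flp_c L6896) (flp_b L6592) L13426 L27936
theorem L27940 : sm gd N2778 = N5759 := rfl
theorem L27942 : sm ga N5759 = N5651 := ded_9_1 L27908 L27906 L27940
theorem L27944 : sm gc N5648 = N5759 := ded_28_0 (flp_d L27940) (flp_c L13426) (flp_d L6590) (flp_c L3391) (flp_d L3331) L6450 L13104 (flp_a L27279)
theorem L27946 : sm ge N2778 = N5760 := rfl
theorem L27948 : sm gc N5760 = N2779 := ded_19_1 (flp_e L13428) L13426 L27946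
theorem L27960 : sm gb N2780 = N5763 := rfl
theorem L27962 : sm gd N5763 = N2781 := ded_14_2 (flp_b L13438) (flp_d L13436) L27960
theorem L27964 : sm gg N5763 = N2923 := ded_17_2 (flp_b L14126) (flp_g L6904) (flp_b L6592) L13434 L27960
theorem L27966 : sm gf N2780 = N5764 := rfl
theorem L27968 : sm ga N5764 = N5741 := ded_11_1 (flp_f L27922) L27918 L27966
theorem L27970 : sm gd N5764 = N2782 := ded_23_1 (flp_f L13446) (flp_d L13436) L27966
theorem L27974 : sm ga N2781 = N5765 := rfl
theorem L27976 : sm gc N5765 = N4699 := ded_8_2 (flp_a L22683) (flp_c L13442) L27974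
theorem L28012 : sm ge N2785 = N5773 := rfl
theorem L28014 : sm ga N5773 = N2789 := ded_10_1 (flp_e L13482) (flp_a L13466) L28012
theorem L28016 : sm gf N2785 = N5774 := rfl
theorem L28018 : sm ga N5774 = N2790 := ded_11_1 (flp_f L13485) (flp_a L13466) L28016
theorem L28033 : sm gd N2788 = N5778 := rfl
theorem L28037 : sm gc N5332 = N5778 := ded_28_0 (flp_d L28033) (flp_c L13480) (flp_d L6620) (flp_c L3405) (flp_d L3188) L6144 L12441 (flp_a L25909)
theorem L28039 : sm ge N2788 = N5779 := rfl
theorem L28041 : sm gc N5779 = N2789 := ded_19_1 (flp_e L13482) L13480 L28039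
theorem L28076 : sm gf N2791 = N5787 := rfl
theorem L28080 : sm gd N5787 = N2795 := ded_23_1 (flp_f L13506) (flp_d L13491) L28076
theorem L28082 : sm gg N5787 = N5774 := ded_29_3 L28018 (flp_f L13485) L13489 L28076
theorem L28162 : sm gc N2805 = N5806 := rfl
theorem L28164 : sm ga N5806 = N2806 := ded_8_1 (flp_c L13572) L13566 L28162
theorem L28166 : sm gf N5806 = N4233 := ded_20_2 (flp_c L20357) L13570 L28162
theorem L28168 : sm gg N5806 = N4059 := ded_21_2 L19455 L13844 L28162
theorem L28174 : sm gf N2806 = N5808 := rfl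
theorem L28178 : sm gc N5808 = N2807 := ded_20_1 (flp_f L13574) L13572 L28174
theorem L28180 : sm gg N5808 = N2862 := ded_29_3 (flp_a L19413) L19409 (flp_g L13640) L28174
theorem L28182 : sm ga N2809 = N5809 := rfl
theorem L28184 : sm gc N5809 = N3776 := ded_8_2 L18129 L18103 L28182
theorem L28186 : sm gf N5809 = N3775 := ded_29_0 (flp_g L18123) (flp_f L18095) (flp_g L18099) L28182
theorem L28200 : sm gc N2810 = N5812 := rfl
theorem L28202 : sm ga N5812 = N2811 := ded_8_1 (flp_c L13592) (flp_a L13588) L28200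
theorem L28206 : sm gd N5383 = N5812 := ded_28_1 (flp_c L28200) (flp_d L13586) (flp_c L6656) (flp_d L6187) L12539 L26153 L26155 L26159
theorem L28235 : sm gf N2812 = N5818 := rfl
theorem L28237 : sm ge N5818 = N2813 := ded_25_1 (flp_f L13601) L13596 L28235
theorem L28249 : sm gb N2815 = N5822 := rfl
theorem L28251 : sm gd N2815 = N5823 := rfl
theorem L28253 : sm ga N5823 = N2818 := ded_9_1 (flp_d L13624) (flp_a L13610) L28251
theorem L28263 : sm ga N2817 = N5825 := rfl
theorem L28265 : sm gc N5825 = N2821 := ded_8_2 (flp_a L13642) (flp_c L13622) L28263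
theorem L28267 : sm gf N5825 = N4491 := ded_29_0 (flp_g L21650) (flp_f L18083) L18085 L28263
theorem L28269 : sm gd N2817 = N5826 := rfl
theorem L28271 : sm gb N5826 = N2818 := ded_14_1 (flp_d L13624) L13620 L28269
theorem L28273 : sm gf N2817 = N5827 := rfl
theorem L28277 : sm gc N5827 = N2823 := ded_20_1 (flp_f L13648) (flp_c L13622) L28273
theorem L28281 : sm gc N2818 = N5828 := rfl
theorem L28283 : sm ge N2818 = N5829 := rfl
theorem L28285 : sm gf N2818 = N5830 := rfl
theorem L28287 : sm gd N5830 = N2819 := ded_23_1 (flp_f L13626) L13624 L28285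
theorem L28289 : sm gg N4820 = N5830 := ded_24_0 L28287 (flp_g L13630) L23289
theorem L28291 : sm gg N2818 = N5831 := rfl
theorem L28293 : sm gd N5831 = N2820 := ded_24_1 (flp_g L13632) L13624 L28291
theorem L28295 : sm gb N4058 = N5831 := ded_14_3 L28293 L13636 (flp_d L19449)
theorem L28299 : sm gb N2821 = N5833 := rfl
theorem L28301 : sm ga N5833 = N2926 := ded_7_1 (flp_b L14142) (flp_a L6914) (flp_b L3553) L1818 (flp_b L1751) (flp_a L3430) L6679 L13642 L28299
theorem L28303 : sm gd N2821 = N5834 := rfl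
theorem L28305 : sm ga N5834 = N2822 := ded_9_1 (flp_d L13644) L13642 L28303
theorem L28307 : sm gf N2821 = N5835 := rfl
theorem L28311 : sm gc N5835 = N4491 := ded_20_1 (flp_f L28267) L28265 L28307
theorem L28315 : sm gg N2821 = N5836 := rfl
theorem L28317 : sm ga N5836 = N2824 := ded_12_1 (flp_g L13650) L13642 L28315
theorem L28319 : sm gc N2822 = N5837 := rfl
theorem L28321 : sm ge N2822 = N5838 := rfl
theorem L28323 : sm gb N5838 = N2826 := ded_15_1 (flp_e L13658) (flp_b L13646) L28321
theorem L28325 : sm gf N2822 = N5839 := rfl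
theorem L28327 : sm gd N5839 = N2823 := ded_23_1 (flp_f L13648) L13644 L28325
theorem L28329 : sm gg N2822 = N5840 := rfl
theorem L28331 : sm gd N5840 = N2824 := ded_24_1 (flp_g L13650) L13644 L28329
theorem L28333 : sm gb N2823 = N5841 := rfl
theorem L28335 : sm gf N5841 = N2828 := ded_16_2 (flp_b L13670) (flp_f L6685) L6679 L13648 L28333
theorem L28337 : sm gg N2823 = N5842 := rfl
theorem L28343 : sm gf N5836 = N5842 := ded_29_0 (flp_g L28337) (flp_f L13648) L13650 (flp_a L28317)
theorem L28365 : sm gf N2826 = N5846 := rfl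
theorem L28367 : sm ga N5846 = N2834 := ded_11_1 (flp_f L13696) (flp_a L13660) L28365
theorem L28377 : sm ga N2828 = N5848 := rfl
theorem L28379 : sm gc N2828 = N5849 := rfl
theorem L28381 : sm gb N5849 = N2829 := ded_13_1 (flp_c L13672) (flp_b L6693) (flp_c L6689) L13670 L28379
theorem L28383 : sm gf N5848 = N5849 := ded_30_0 (flp_c L28379) (flp_b L13670) L6687 (flp_f L3442) (flp_c L1749) (flp_b L868) (flp_a L393) (flp_f L391) L171 L97 (flp_a L147) L189 (flp_c L383) L868 L1747 L3432 (flp_c L6689) L13670 L28377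
theorem L28387 : sm ga N5849 = N5841 := ded_11_1 L28335 L28377 L28383
theorem L28389 : sm gg N2828 = N5850 := rfl
theorem L28399 : sm ga N2830 = N5852 := rfl
theorem L28401 : sm gc N5852 = N2941 := ded_8_2 (flp_a L14203) (flp_c L13680) L28399
theorem L28403 : sm gd N2830 = N5853 := rfl
theorem L28405 : sm gb N5853 = N2831 := ded_14_1 (flp_d L13682) L13678 L28403
theorem L28407 : sm ge N2830 = N5854 := rfl
theorem L28413 : sm gf N2830 = N5855 := rfl
theorem L28415 : sm gc N5855 = N2943 := ded_20_1 (flp_f L14209) (flp_c L13680) L28413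
theorem L28417 : sm gg N2830 = N5856 := rfl
theorem L28419 : sm gc N5856 = N2944 := ded_21_1 (flp_g L14211) (flp_c L13680) L28417
theorem L28435 : sm gd N2832 = N5859 := rfl
theorem L28437 : sm gf N2832 = N5860 := rfl
theorem L28439 : sm gc N5860 = N2834 := ded_20_1 (flp_f L13696) (flp_c L13690) L28437
theorem L28441 : sm ge N5860 = N2833 := ded_25_1 (flp_f L13692) L13688 L28437
theorem L28445 : sm gg N2833 = N5862 := rfl
theorem L28451 : sm gf N5812 = N5862 := ded_29_0 (flp_g L28445) (flp_f L13692) (flp_g L13594) (flp_a L28202)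
theorem L28453 : sm gb N2834 = N5863 := rfl
theorem L28455 : sm ge N5863 = N2835 := ded_15_2 (flp_b L13700) (flp_e L13698) L28453
theorem L28457 : sm gf N5863 = N2948 := ded_16_2 (flp_b L14225) (flp_f L6951) (flp_b L6699) L13696 L28453
theorem L28467 : sm ga N2835 = N5865 := rfl
theorem L28471 : sm gf N5865 = N2949 := ded_11_2 (flp_a L14229) (flp_f L13704) L28467
theorem L28477 : sm gg N2835 = N5867 := rfl
theorem L28479 : sm gd N5867 = N2838 := ded_24_1 (flp_g L13720) (flp_d L13702) L28477
theorem L28505 : sm gf N2840 = N5875 := rfl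
theorem L28507 : sm gc N5875 = N2841 := ded_20_1 (flp_f L13730) L13726 L28505
theorem L28519 : sm gg N2842 = N5879 := rfl
theorem L28521 : sm gc N2843 = N5880 := rfl
theorem L28525 : sm gd N5420 = N5880 := ded_28_1 (flp_c L28521) (flp_d L13738) (flp_c L6723) (flp_d L6231) L12617 L26283 L26285 L26315
theorem L28531 : sm gf N2843 = N5882 := rfl
theorem L28533 : sm ga N5882 = N2848 := ded_11_1 (flp_f L13759) (flp_a L13740) L28531
theorem L28535 : sm gd N5882 = N2844 := ded_23_1 (flp_f L13742) L13738 L28531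
theorem L28537 : sm gg N2843 = N5883 := rfl
theorem L28541 : sm gd N5883 = N2845 := ded_24_1 (flp_g L13748) L13738 L28537
theorem L28546 : sm gb N2845 = N5885 := rfl
theorem L28569 : sm gf N2847 = N5891 := rfl
theorem L28571 : sm ge N5891 = N2848 := ded_25_1 (flp_f L13759) L13756 L28569
theorem L28607 : sm gc N2850 = N5898 := rfl
theorem L28610 : sm gb N5898 = N2855 := ded_13_1 (flp_c L13796) (flp_b L6746) (flp_c L6740) L13767 L28607
theorem L28616 : sm gc N2854 = N5901 := rfl
theorem L28618 : sm ga N5901 = N2855 := ded_8_1 (flp_c L13796) L13788 L28616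
theorem L28620 : sm gf N5901 = N2858 := ded_20_2 (flp_c L13819) (flp_f L13790) L28616
theorem L28636 : sm gb N2858 = N5904 := rfl
theorem L28651 : sm gb N2860 = N5909 := rfl
theorem L28653 : sm gc N5909 = N2869 := ded_13_2 (flp_b L13869) L6784 (flp_b L6767) (flp_c L13828) L28651
theorem L28656 : sm gb N2862 = N5910 := rfl
theorem L28658 : sm gc N5910 = N2864 := ded_13_2 (flp_b L13848) (flp_c L6771) L6769 L13838 L28656
theorem L28662 : sm ga N2864 = N5912 := rfl
theorem L28668 : sm gf N2864 = N5914 := rfl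
theorem L28670 : sm gb N5914 = N2878 := ded_16_1 (flp_f L13906) (flp_b L6796) (flp_f L6775) L13848 L28668
theorem L28672 : sm gg N2864 = N5915 := rfl
theorem L28699 : sm ge N2866 = N5920 := rfl
theorem L28701 : sm gc N5920 = N2867 := ded_19_1 (flp_e L13860) L13856 L28699
theorem L28703 : sm gf N5920 = N2887 := ded_25_2 (flp_e L13946) (flp_f L13858) L28699
theorem L28709 : sm gg N2867 = N5922 := rfl
theorem L28711 : sm ge N5922 = N2868 := ded_26_1 (flp_g L13865) L13860 L28709
theorem L28713 : sm gb N2868 = N5923 := rfl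
theorem L28715 : sm gd N5923 = N2869 := ded_14_2 (flp_b L13869) (flp_d L13867) L28713
theorem L28723 : sm gb N2870 = N5926 := rfl
theorem L28727 : sm gd N2870 = N5927 := rfl
theorem L28729 : sm ga N5927 = N2873 := ded_9_1 (flp_d L13888) (flp_a L13874) L28727
theorem L28731 : sm gg N2870 = N5928 := rfl
theorem L28735 : sm gc N5928 = N2871 := ded_21_1 (flp_g L13876) L13872 L28731
theorem L28739 : sm ga N2872 = N5929 := rfl
theorem L28741 : sm gc N5929 = N2876 := ded_8_2 (flp_a L13900) (flp_c L13886) L28739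
theorem L28743 : sm gd N2872 = N5930 := rfl
theorem L28745 : sm gb N5930 = N2873 := ded_14_1 (flp_d L13888) L13884 L28743
theorem L28747 : sm gf N2872 = N5931 := rfl
theorem L28749 : sm gc N5931 = N2878 := ded_20_1 (flp_f L13906) (flp_c L13886) L28747
theorem L28751 : sm gg N2872 = N5932 := rfl
theorem L28755 : sm gc N2873 = N5933 := rfl
theorem L28757 : sm ge N2873 = N5934 := rfl
theorem L28763 : sm gg N2873 = N5936 := rfl
theorem L28765 : sm gd N5936 = N2875 := ded_24_1 (flp_g L13894) L13888 L28763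
theorem L28767 : sm gf N4765 = N5936 := ded_23_0 L28765 (flp_f L13898) L23032
theorem L28769 : sm gb N2874 = N5937 := rfl
theorem L28773 : sm gb N2876 = N5939 := rfl
theorem L28775 : sm ga N5939 = N2955 := ded_7_1 (flp_b L14257) (flp_a L6967) (flp_b L3582) L1838 (flp_b L1774) (flp_a L3479) L6796 L13900 L28773
theorem L28777 : sm gd N2876 = N5940 := rfl
theorem L28779 : sm ga N5940 = N2877 := ded_9_1 (flp_d L13902) L13900 L28777
theorem L28781 : sm gf N2876 = N5941 := rfl
theorem L28783 : sm ga N5941 = N2878 := ded_11_1 (flp_f L13906) L13900 L28781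
theorem L28785 : sm gg N2876 = N5942 := rfl
theorem L28787 : sm ga N5942 = N2879 := ded_12_1 (flp_g L13908) L13900 L28785
theorem L28789 : sm gc N2877 = N5943 := rfl
theorem L28791 : sm ge N2877 = N5944 := rfl
theorem L28793 : sm gb N5944 = N2881 := ded_15_1 (flp_e L13916) (flp_b L13904) L28791
theorem L28795 : sm gf N2877 = N5945 := rfl
theorem L28797 : sm gd N5945 = N2878 := ded_23_1 (flp_f L13906) L13902 L28795
theorem L28799 : sm gg N2877 = N5946 := rfl
theorem L28801 : sm gd N5946 = N2879 := ded_24_1 (flp_g L13908) L13902 L28799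
theorem L28803 : sm gg N2878 = N5947 := rfl
theorem L28805 : sm gf N5942 = N5947 := ded_29_0 (flp_g L28803) (flp_f L13906) L13908 (flp_a L28787)
theorem L28811 : sm gf N2879 = N5949 := rfl
theorem L28813 : sm ga N5949 = N5947 := ded_11_1 (flp_f L28805) L28787 L28811
theorem L28815 : sm gg N5949 = N5941 := ded_29_3 L28783 (flp_f L13906) L13908 L28811
theorem L28821 : sm ge N2880 = N5951 := rfl
theorem L28823 : sm ga N5951 = N2887 := ded_10_1 (flp_e L13946) (flp_a L13912) L28821
theorem L28825 : sm gc N5951 = N2881 := ded_19_1 (flp_e L13916) L13910 L28821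
theorem L28859 : sm gd N2884 = N5958 := rfl
theorem L28861 : sm ga N5958 = N4470 := ded_9_1 L21557 (flp_a L13932) L28859
theorem L28865 : sm ga N2885 = N5959 := rfl
theorem L28867 : sm gc N5959 = N2970 := ded_8_2 (flp_a L14324) (flp_c L13938) L28865
theorem L28869 : sm gd N2885 = N5960 := rfl
theorem L28871 : sm gb N5960 = N2886 := ded_14_1 (flp_d L13940) L13936 L28869
theorem L28873 : sm ge N2885 = N5961 := rfl
theorem L28879 : sm gf N2885 = N5962 := rfl
theorem L28881 : sm gc N5962 = N2972 := ded_20_1 (flp_f L14330) (flp_c L13938) L28879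
theorem L28883 : sm gg N2885 = N5963 := rfl
theorem L28893 : sm gg N2886 = N5965 := rfl
theorem L28897 : sm gc N5965 = N5480 := ded_21_1 (flp_g L26586) L13944 L28893
theorem L28899 : sm gd N5965 = N2888 := ded_24_1 (flp_g L13950) L13940 L28893
theorem L28901 : sm gd N2887 = N5966 := rfl
theorem L28903 : sm gg N2887 = N5967 := rfl
theorem L28905 : sm gc N5967 = N2889 := ded_21_1 (flp_g L13954) (flp_c L13948) L28903
theorem L28907 : sm ge N5967 = N2888 := ded_26_1 (flp_g L13950) L13946 L28903
theorem L28919 : sm gb N2889 = N5970 := rfl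
theorem L28923 : sm gg N5970 = N2977 := ded_17_2 (flp_b L14346) (flp_g L7006) (flp_b L6816) L13954 L28919
theorem L28925 : sm gf N2889 = N5971 := rfl
theorem L28929 : sm ge N5971 = N2891 := ded_25_1 (flp_f L13964) (flp_e L13956) L28925
theorem L28933 : sm ga N2890 = N5972 := rfl
theorem L28935 : sm gd N5972 = N2892 := ded_9_2 (flp_a L13972) (flp_d L13960) L28933
theorem L28937 : sm gg N5972 = N2978 := ded_12_2 (flp_a L14350) (flp_g L13962) L28933
theorem L28939 : sm gc N2890 = N5973 := rfl
theorem L28941 : sm gg N5973 = N2979 := ded_21_2 (flp_c L14354) (flp_g L13962) L28939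
theorem L28943 : sm gf N2890 = N5974 := rfl
theorem L28945 : sm gd N5974 = N2893 := ded_23_1 (flp_f L13978) (flp_d L13960) L28943
theorem L28947 : sm gb N2891 = N5975 := rfl
theorem L28951 : sm gb N2892 = N5976 := rfl
theorem L28953 : sm gc N5976 = N4074 := ded_13_2 (flp_b L19529) (flp_c L19517) (flp_b L19519) (flp_c L13974) L28951
theorem L28955 : sm gg N4076 = N5976 := ded_21_0 L28953 L19531 L19535
theorem L28957 : sm gb N2893 = N5977 := rfl
theorem L28959 : sm gf N5977 = N2894 := ded_16_2 (flp_b L13982) (flp_f L6828) L6822 L13978 L28957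
theorem L28967 : sm gg N2894 = N5980 := rfl
theorem L28969 : sm gb N5980 = N5915 := ded_17_1 (flp_g L28672) (flp_b L13848) (flp_g L6834) L13982 L28967
theorem L28975 : sm gb N2896 = N5982 := rfl
theorem L28977 : sm ge N5982 = N2926 := ded_15_2 (flp_b L14142) (flp_e L13990) L28975
theorem L28979 : sm gd N2896 = N5983 := rfl
theorem L28981 : sm ga N5983 = N2897 := ded_9_1 (flp_d L13992) L13988 L28979
theorem L28983 : sm gf N2896 = N5984 := rfl
theorem L28985 : sm ga N5984 = N2898 := ded_11_1 (flp_f L13996) L13988 L28983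
theorem L28987 : sm ge N5984 = N2928 := ded_25_1 (flp_f L14148) (flp_e L13990) L28983
theorem L28989 : sm gg N2896 = N5985 := rfl
theorem L28993 : sm ge N5985 = N2929 := ded_26_1 (flp_g L14152) (flp_e L13990) L28989
theorem L28995 : sm gc N2897 = N5986 := rfl
theorem L28997 : sm ge N2897 = N5987 := rfl
theorem L28999 : sm gb N5987 = N2901 := ded_15_1 (flp_e L14012) (flp_b L13994) L28997
theorem L29003 : sm gf N2897 = N5988 := rfl
theorem L29005 : sm gd N5988 = N2898 := ded_23_1 (flp_f L13996) L13992 L29003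
theorem L29007 : sm gg N2897 = N5989 := rfl
theorem L29009 : sm gd N5989 = N2899 := ded_24_1 (flp_g L14000) L13992 L29007
theorem L29012 : sm gb N2898 = N5990 := rfl
theorem L29014 : sm ge N5990 = N2934 := ded_15_2 (flp_b L14171) (flp_e L13998) L29012
theorem L29016 : sm gf N5990 = N2903 := ded_16_2 (flp_b L14027) (flp_f L6849) L6840 L13996 L29012
theorem L29018 : sm gg N2898 = N5991 := rfl
theorem L29020 : sm ge N5991 = N2935 := ded_26_1 (flp_g L14175) (flp_e L13998) L29018
theorem L29032 : sm gb N2900 = N5993 := rfl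
theorem L29034 : sm gd N5993 = N2904 := ded_14_2 (flp_b L14031) (flp_d L14010) L29032
theorem L29036 : sm ge N2900 = N5994 := rfl
theorem L29038 : sm ga N5994 = N2905 := ded_10_1 (flp_e L14033) (flp_a L14007) L29036
theorem L29042 : sm gg N5994 = N5994 := ded_26_2 (flp_e L29036) L14009 L29036
theorem L29043 : sm gf N2900 = N5995 := rfl
theorem L29045 : sm ga N5995 = N2906 := ded_11_1 (flp_f L14038) (flp_a L14007) L29043
theorem L29047 : sm gc N5995 = N2902 := ded_20_1 (flp_f L14019) L14005 L29043
theorem L29049 : sm gd N5995 = N2906 := ded_23_1 (flp_f L14038) (flp_d L14010) L29043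
theorem L29051 : sm gg N5995 = N2906 := ded_29_3 (flp_a L29045) (flp_f L29043) L14009 L29043
theorem L29053 : sm gf N2901 = N5996 := rfl
theorem L29059 : sm ge N5996 = N2902 := ded_25_1 (flp_f L14019) L14012 L29053
theorem L29063 : sm gb N2902 = N5997 := rfl
theorem L29065 : sm gd N5997 = N2903 := ded_14_2 (flp_b L14027) (flp_d L14023) L29063
theorem L29067 : sm ga N2903 = N5998 := rfl
theorem L29069 : sm ge N5998 = N2939 := ded_10_2 (flp_a L14197) (flp_e L14029) L29067
theorem L29071 : sm gg N2903 = N5999 := rfl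
theorem L29073 : sm ge N5999 = N2940 := ded_26_1 (flp_g L14199) (flp_e L14029) L29071
theorem L29075 : sm gb N5999 = N2910 := ded_17_1 (flp_g L14058) (flp_b L6871) (flp_g L6857) L14027 L29071
theorem L29077 : sm ga N2904 = N6000 := rfl
theorem L29079 : sm ge N2904 = N6001 := rfl
theorem L29081 : sm gb N6001 = N2905 := ded_15_1 (flp_e L14033) L14031 L29079
theorem L29083 : sm gf N2904 = N6002 := rfl
theorem L29085 : sm gg N2904 = N6003 := rfl
theorem L29087 : sm gb N6003 = N6003 := ded_17_1 (flp_g L29085) (flp_b L14031) L6861 L14031 L29085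
theorem L29088 : sm gd N2905 = N6004 := rfl
theorem L29091 : sm gf N2905 = N6005 := rfl
theorem L29095 : sm ge N6005 = N2906 := ded_25_1 (flp_f L14038) L14033 L29091
theorem L29097 : sm gb N2906 = N6006 := rfl
theorem L29099 : sm gb N2907 = N6007 := rfl
theorem L29101 : sm gd N6007 = N2948 := ded_14_2 (flp_b L14225) (flp_d L14044) L29099
theorem L29103 : sm ge N6007 = N2908 := ded_15_2 (flp_b L14048) (flp_e L14046) L29099
theorem L29105 : sm ga N2908 = N6008 := rfl
theorem L29107 : sm gd N6008 = N2909 := ded_9_2 (flp_a L14052) (flp_d L14050) L29105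
theorem L29109 : sm gc N2908 = N6009 := rfl
theorem L29111 : sm gg N2908 = N6010 := rfl
theorem L29113 : sm gd N6010 = N2910 := ded_24_1 (flp_g L14058) (flp_d L14050) L29111
theorem L29115 : sm gb N2909 = N6011 := rfl
theorem L29117 : sm ge N6011 = N2952 := ded_15_2 (flp_b L14239) (flp_e L14056) L29115
theorem L29119 : sm gg N2909 = N6012 := rfl
theorem L29121 : sm ga N6012 = N2910 := ded_12_1 (flp_g L14058) L14052 L29119
theorem L29125 : sm ge N6012 = N2953 := ded_26_1 (flp_g L14241) (flp_e L14056) L29119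
theorem L29129 : sm gf N2910 = N6013 := rfl
theorem L29133 : sm gc N6013 = N4918 := ded_20_1 (flp_f L23787) (flp_c L14060) L29129
theorem L29137 : sm gg N6013 = N5710 := ded_29_3 (flp_a L27642) L13271 L14058 L29129
theorem L29139 : sm gb N2911 = N6014 := rfl
theorem L29141 : sm ge N6014 = N2955 := ded_15_2 (flp_b L14257) (flp_e L14066) L29139
theorem L29143 : sm gd N2911 = N6015 := rfl
theorem L29145 : sm ga N6015 = N2912 := ded_9_1 (flp_d L14068) L14064 L29143
theorem L29147 : sm gf N2911 = N6016 := rfl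
theorem L29151 : sm ge N6016 = N2957 := ded_25_1 (flp_f L14263) (flp_e L14066) L29147
theorem L29153 : sm gg N2911 = N6017 := rfl
theorem L29155 : sm ga N6017 = N2914 := ded_12_1 (flp_g L14077) L14064 L29153
theorem L29159 : sm gc N2912 = N6018 := rfl
theorem L29161 : sm ge N2912 = N6019 := rfl
theorem L29163 : sm gb N6019 = N2916 := ded_15_1 (flp_e L14088) (flp_b L14070) L29161
theorem L29165 : sm gd N6019 = N2960 := ded_22_1 (flp_e L14273) (flp_d L6969) (flp_e L6879) L14068 L29161
theorem L29167 : sm gf N2912 = N6020 := rfl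
theorem L29171 : sm gb N6020 = N6020 := ded_16_1 (flp_f L29167) L14070 L6885 (flp_b L14070) L29167
theorem L29172 : sm gg N2912 = N6021 := rfl
theorem L29174 : sm gd N6021 = N2914 := ded_24_1 (flp_g L14077) L14068 L29172
theorem L29182 : sm gb N2914 = N6023 := rfl
theorem L29184 : sm ge N6023 = N2964 := ded_15_2 (flp_b L14290) (flp_e L14079) L29182
theorem L29186 : sm gc N6023 = N5999 := ded_13_2 L29075 L14060 L23779 (flp_c L23785) L29182
theorem L29188 : sm gg N6023 = N2918 := ded_17_2 (flp_b L14103) (flp_g L6886) L6877 L14077 L29182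
theorem L29198 : sm gb N2915 = N6025 := rfl
theorem L29200 : sm gd N6025 = N2919 := ded_14_2 (flp_b L14109) (flp_d L14086) L29198
theorem L29202 : sm ge N2915 = N6026 := rfl
theorem L29204 : sm ga N6026 = N2920 := ded_10_1 (flp_e L14111) (flp_a L14083) L29202
theorem L29209 : sm gg N2915 = N6027 := rfl
theorem L29211 : sm ga N6027 = N2921 := ded_12_1 (flp_g L14116) (flp_a L14083) L29209
theorem L29213 : sm gc N6027 = N2917 := ded_21_1 (flp_g L14095) L14081 L29209
theorem L29215 : sm gd N6027 = N2921 := ded_24_1 (flp_g L14116) (flp_d L14086) L29209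
theorem L29217 : sm gf N2921 = N6027 := ded_29_0 (flp_g L29209) L14085 L29209 L29211
theorem L29219 : sm gg N2916 = N6028 := rfl
theorem L29225 : sm ge N6028 = N2917 := ded_26_1 (flp_g L14095) L14088 L29219
theorem L29229 : sm gb N2917 = N6029 := rfl
theorem L29231 : sm gd N6029 = N2918 := ded_14_2 (flp_b L14103) (flp_d L14099) L29229
theorem L29233 : sm ga N2918 = N6030 := rfl
theorem L29235 : sm gc N6030 = N5998 := ded_8_2 (flp_a L29067) (flp_c L14107) L29233
theorem L29239 : sm gf N2918 = N6031 := rfl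
theorem L29241 : sm gc N6031 = N5990 := ded_20_1 L29016 (flp_c L14107) L29239
theorem L29243 : sm ge N6031 = N2969 := ded_25_1 (flp_f L14318) (flp_e L14105) L29239
theorem L29245 : sm gb N6031 = N2925 := ded_16_1 (flp_f L14136) (flp_b L6908) L6894 L14103 L29239
theorem L29247 : sm ga N2919 = N6032 := rfl
theorem L29249 : sm ge N2919 = N6033 := rfl
theorem L29251 : sm gb N6033 = N2920 := ded_15_1 (flp_e L14111) L14109 L29249
theorem L29253 : sm gf N2919 = N6034 := rfl
theorem L29255 : sm gb N6034 = N6034 := ded_16_1 (flp_f L29253) (flp_b L14109) L6898 L14109 L29253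
theorem L29256 : sm gg N2919 = N6035 := rfl
theorem L29258 : sm gd N2920 = N6036 := rfl
theorem L29261 : sm gg N2920 = N6037 := rfl
theorem L29263 : sm gc N6037 = N2922 := ded_21_1 (flp_g L14120) (flp_c L14113) L29261
theorem L29265 : sm ge N6037 = N2921 := ded_26_1 (flp_g L14116) L14111 L29261
theorem L29267 : sm gb N2921 = N6038 := rfl
theorem L29269 : sm gb N2922 = N6039 := rfl
theorem L29271 : sm gd N6039 = N2977 := ded_14_2 (flp_b L14346) (flp_d L14122) L29269
theorem L29273 : sm ge N6039 = N2923 := ded_15_2 (flp_b L14126) (flp_e L14124) L29269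
theorem L29275 : sm ga N2923 = N6040 := rfl
theorem L29277 : sm gd N6040 = N2924 := ded_9_2 (flp_a L14130) (flp_d L14128) L29275
theorem L29279 : sm gc N2923 = N6041 := rfl
theorem L29281 : sm gf N2923 = N6042 := rfl
theorem L29283 : sm gd N6042 = N2925 := ded_23_1 (flp_f L14136) (flp_d L14128) L29281
theorem L29285 : sm gb N2924 = N6043 := rfl
theorem L29287 : sm ge N6043 = N2981 := ded_15_2 (flp_b L14360) (flp_e L14134) L29285
theorem L29289 : sm gf N2924 = N6044 := rfl
theorem L29291 : sm ga N6044 = N2925 := ded_11_1 (flp_f L14136) L14130 L29289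
theorem L29293 : sm gc N6044 = N4878 := ded_20_1 (flp_f L23569) (flp_c L14132) L29289
theorem L29299 : sm gg N2925 = N6045 := rfl
theorem L29309 : sm gc N2926 = N6046 := rfl
theorem L29311 : sm gd N2926 = N6047 := rfl
theorem L29313 : sm gb N6047 = N2927 := ded_14_1 (flp_d L14144) L14142 L29311
theorem L29315 : sm gf N2926 = N6048 := rfl
theorem L29317 : sm gg N2926 = N6049 := rfl
theorem L29319 : sm gc N2927 = N6050 := rfl
theorem L29321 : sm ga N6050 = N2930 := ded_8_1 (flp_c L14156) (flp_a L14146) L29319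
theorem L29323 : sm ge N2927 = N6051 := rfl
theorem L29327 : sm gf N2927 = N6052 := rfl
theorem L29329 : sm ga N6052 = N2932 := ded_11_1 (flp_f L14162) (flp_a L14146) L29327
theorem L29331 : sm gd N6052 = N2928 := ded_23_1 (flp_f L14148) L14144 L29327
theorem L29333 : sm gg N2927 = N6053 := rfl
theorem L29335 : sm ga N6053 = N2933 := ded_12_1 (flp_g L14166) (flp_a L14146) L29333
theorem L29341 : sm gb N2929 = N6055 := rfl
theorem L29343 : sm gd N2930 = N6056 := rfl
theorem L29345 : sm ge N2930 = N6057 := rfl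
theorem L29353 : sm gg N2930 = N6059 := rfl
theorem L29357 : sm gf N2931 = N6060 := rfl
theorem L29359 : sm ge N6060 = N2932 := ded_25_1 (flp_f L14162) L14158 L29357
theorem L29366 : sm gb N2932 = N6062 := rfl
theorem L29368 : sm gd N6062 = N2934 := ded_14_2 (flp_b L14171) (flp_d L14164) L29366
theorem L29372 : sm gg N2932 = N6063 := rfl
theorem L29376 : sm gf N6053 = N6063 := ded_29_0 (flp_g L29372) (flp_f L14162) L14166 (flp_a L29335)
theorem L29386 : sm ga N2934 = N6065 := rfl
theorem L29388 : sm gf N6065 = N2939 := ded_11_2 (flp_a L14197) (flp_f L14173) L29386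
theorem L29390 : sm gb N4502 = N6065 := ded_30_2 (flp_a L29386) L14173 (flp_c L6993) (flp_b L6991) L3591 L3595 L3593 L1849 L1823 (flp_f L899) L896 (flp_b L1751) (flp_a L3430) L6685 L6689 L6693 (flp_a L10433) L10453 (flp_c L21694)
theorem L29392 : sm gg N2934 = N6066 := rfl
theorem L29394 : sm gb N2935 = N6067 := rfl
theorem L29400 : sm gb N2937 = N6069 := rfl
theorem L29402 : sm ge N6069 = N2938 := ded_15_2 (flp_b L14193) (flp_e L14189) L29400
theorem L29404 : sm ga N2938 = N6070 := rfl
theorem L29406 : sm gd N6070 = N2939 := ded_9_2 (flp_a L14197) (flp_d L14195) L29404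
theorem L29410 : sm gg N2938 = N6072 := rfl
theorem L29412 : sm gd N6072 = N2940 := ded_24_1 (flp_g L14199) (flp_d L14195) L29410
theorem L29414 : sm gb N6072 = N2951 := ded_17_1 (flp_g L14235) (flp_b L6955) (flp_g L6936) L14193 L29410
theorem L29432 : sm gb N2941 = N6076 := rfl
theorem L29434 : sm ge N2941 = N6077 := rfl
theorem L29436 : sm ga N6077 = N2942 := ded_10_1 (flp_e L14205) L14203 L29434
theorem L29438 : sm gf N2941 = N6078 := rfl
theorem L29440 : sm ga N6078 = N2943 := ded_11_1 (flp_f L14209) L14203 L29438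
theorem L29442 : sm gg N2941 = N6079 := rfl
theorem L29444 : sm ga N6079 = N2944 := ded_12_1 (flp_g L14211) L14203 L29442
theorem L29446 : sm gd N2942 = N6080 := rfl
theorem L29454 : sm gg N2942 = N6082 := rfl
theorem L29459 : sm gb N2943 = N6083 := rfl
theorem L29463 : sm gg N2943 = N6084 := rfl
theorem L29465 : sm gf N6079 = N6084 := ded_29_0 (flp_g L29463) (flp_f L14209) L14211 (flp_a L29444)
theorem L29467 : sm gf N2944 = N6085 := rfl
theorem L29471 : sm gg N6085 = N6078 := ded_29_3 L29440 (flp_f L14209) L14211 L29467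
theorem L29473 : sm gc N2945 = N6086 := rfl
theorem L29476 : sm gf N2945 = N6087 := rfl
theorem L29478 : sm gd N6087 = N2946 := ded_23_1 (flp_f L14217) L14214 L29476
theorem L29480 : sm gb N2946 = N6088 := rfl
theorem L29490 : sm gg N2947 = N6091 := rfl
theorem L29492 : sm ga N2948 = N6092 := rfl
theorem L29494 : sm ge N6092 = N2949 := ded_10_2 (flp_a L14229) (flp_e L14227) L29492
theorem L29496 : sm gc N2948 = N6093 := rfl
theorem L29500 : sm gg N2948 = N6094 := rfl
theorem L29504 : sm gb N2949 = N6095 := rfl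
theorem L29506 : sm gd N6095 = N2952 := ded_14_2 (flp_b L14239) (flp_d L14231) L29504
theorem L29512 : sm gg N2949 = N6097 := rfl
theorem L29514 : sm ga N6097 = N2951 := ded_12_1 (flp_g L14235) L14229 L29512
theorem L29518 : sm gf N6097 = N5867 := ded_29_2 (flp_g L28477) L28467 L28471 L29512
theorem L29522 : sm gg N2950 = N6099 := rfl
theorem L29524 : sm gc N6099 = N2951 := ded_21_1 (flp_g L14235) L14233 L29522
theorem L29526 : sm gf N2951 = N6100 := rfl
theorem L29528 : sm ga N6100 = N5867 := ded_11_1 (flp_f L29518) L29514 L29526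
theorem L29534 : sm ga N2952 = N6101 := rfl
theorem L29536 : sm gc N2952 = N6102 := rfl
theorem L29538 : sm gb N6102 = N5032 := ded_13_1 (flp_c L24338) (flp_b L11686) (flp_c L6961) L14239 L29536
theorem L29540 : sm gf N2952 = N6103 := rfl
theorem L29542 : sm gg N2952 = N6104 := rfl
theorem L29550 : sm gd N2955 = N6108 := rfl
theorem L29552 : sm gb N6108 = N2956 := ded_14_1 (flp_d L14259) L14257 L29550
theorem L29558 : sm gc N2956 = N6111 := rfl
theorem L29560 : sm ga N6111 = N2959 := ded_8_1 (flp_c L14271) (flp_a L14261) L29558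
theorem L29562 : sm ge N2956 = N6112 := rfl
theorem L29566 : sm gf N2956 = N6113 := rfl
theorem L29572 : sm gg N2956 = N6114 := rfl
theorem L29578 : sm gb N2957 = N6115 := rfl
theorem L29582 : sm gd N2959 = N6117 := rfl
theorem L29584 : sm ge N2959 = N6118 := rfl
theorem L29588 : sm gf N2959 = N6119 := rfl
theorem L29592 : sm gg N2959 = N6120 := rfl
theorem L29594 : sm gc N6120 = N2962 := ded_21_1 (flp_g L14282) L14271 L29592
theorem L29601 : sm gg N2960 = N6122 := rfl
theorem L29611 : sm gb N2962 = N6124 := rfl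
theorem L29613 : sm gd N6124 = N2964 := ded_14_2 (flp_b L14290) (flp_d L14284) L29611
theorem L29628 : sm ga N2964 = N6127 := rfl
theorem L29632 : sm gg N6127 = N2968 := ded_12_2 (flp_a L14314) (flp_g L14294) L29628
theorem L29634 : sm gf N2964 = N6128 := rfl
theorem L29640 : sm gb N2966 = N6130 := rfl
theorem L29642 : sm ge N6130 = N2967 := ded_15_2 (flp_b L14310) (flp_e L14306) L29640
theorem L29644 : sm ga N2967 = N6131 := rfl
theorem L29646 : sm gd N6131 = N2968 := ded_9_2 (flp_a L14314) (flp_d L14312) L29644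
theorem L29648 : sm gc N2967 = N6132 := rfl
theorem L29650 : sm gf N2967 = N6133 := rfl
theorem L29652 : sm gd N6133 = N2969 := ded_23_1 (flp_f L14318) (flp_d L14312) L29650
theorem L29654 : sm gb N6133 = N2980 := ded_16_1 (flp_f L14356) (flp_b L7010) L6989 L14310 L29650
theorem L29656 : sm gb N2968 = N6134 := rfl
theorem L29658 : sm gf N2968 = N6135 := rfl
theorem L29660 : sm ga N6135 = N2969 := ded_11_1 (flp_f L14318) L14314 L29658
theorem L29662 : sm gc N6135 = N6065 := ded_20_1 L29388 (flp_c L14316) L29658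
theorem L29664 : sm gg N6128 = N6135 := ded_29_1 (flp_f L29658) (flp_g L29632) (flp_a L29628) L29634
theorem L29666 : sm gb N5901 = N6135 := ded_30_2 L29660 (flp_f L14318) L6993 (flp_b L6938) L3562 (flp_f L1832) (flp_c L896) (flp_b L415) (flp_a L193) (flp_f L191) (flp_c L171) L387 L870 L1759 L1763 L3462 L6760 (flp_f L13790) L28616
theorem L29668 : sm gf N6134 = N5904 := ded_16_4 (flp_b L28636) (flp_f L28620) L29666 (flp_f L29658) L29656
theorem L29678 : sm gb N2970 = N6137 := rfl
theorem L29680 : sm ge N2970 = N6138 := rfl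
theorem L29682 : sm ga N6138 = N2971 := ded_10_1 (flp_e L14326) L14324 L29680
theorem L29684 : sm gf N2970 = N6139 := rfl
theorem L29686 : sm ga N6139 = N2972 := ded_11_1 (flp_f L14330) L14324 L29684
theorem L29688 : sm gg N2970 = N6140 := rfl
theorem L29690 : sm ga N6140 = N2973 := ded_12_1 (flp_g L14333) L14324 L29688
theorem L29692 : sm gd N2971 = N6141 := rfl
theorem L29696 : sm gf N2971 = N6142 := rfl
theorem L29698 : sm ge N6142 = N2972 := ded_25_1 (flp_f L14330) L14326 L29696
theorem L29701 : sm gg N2971 = N6143 := rfl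
theorem L29709 : sm gb N2973 = N6145 := rfl
theorem L29711 : sm gg N6145 = N2976 := ded_17_2 (flp_b L14344) (flp_g L7002) L6995 L14333 L29709
theorem L29713 : sm gf N2973 = N6146 := rfl
theorem L29717 : sm gg N6146 = N6139 := ded_29_3 L29686 (flp_f L14330) L14333 L29713
theorem L29719 : sm gc N2974 = N6147 := rfl
theorem L29722 : sm gg N2974 = N6148 := rfl
theorem L29724 : sm gd N6148 = N2975 := ded_24_1 (flp_g L14338) L14335 L29722
theorem L29726 : sm gb N2975 = N6149 := rfl
theorem L29728 : sm ge N6149 = N2976 := ded_15_2 (flp_b L14344) (flp_e L14342) L29726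
theorem L29732 : sm gc N2976 = N6151 := rfl
theorem L29734 : sm gb N6151 = N2979 := ded_13_1 (flp_c L14354) (flp_b L7010) (flp_c L7004) L14344 L29732
theorem L29738 : sm ga N2977 = N6153 := rfl
theorem L29740 : sm ge N6153 = N2978 := ded_10_2 (flp_a L14350) (flp_e L14348) L29738
theorem L29742 : sm gc N2977 = N6154 := rfl
theorem L29744 : sm ge N6154 = N2979 := ded_19_2 (flp_c L14354) (flp_e L14348) L29742
theorem L29746 : sm gf N2977 = N6155 := rfl
theorem L29748 : sm ge N6155 = N2980 := ded_25_1 (flp_f L14356) (flp_e L14348) L29746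
theorem L29750 : sm gb N2978 = N6156 := rfl
theorem L29752 : sm gd N6156 = N2981 := ded_14_2 (flp_b L14360) (flp_d L14352) L29750
theorem L29754 : sm gc N2978 = N6157 := rfl
theorem L29756 : sm ga N6157 = N2979 := ded_8_1 (flp_c L14354) L14350 L29754
theorem L29758 : sm gf N2978 = N6158 := rfl
theorem L29760 : sm ga N6158 = N2980 := ded_11_1 (flp_f L14356) L14350 L29758
theorem L29764 : sm gg N5974 = N6158 := ded_29_1 (flp_f L29758) (flp_g L28937) (flp_a L28933) L28943
theorem L29768 : sm gf N2979 = N6160 := rfl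
theorem L29770 : sm gc N6160 = N2980 := ded_20_1 (flp_f L14356) L14354 L29768
theorem L29772 : sm gg N2980 = N6161 := rfl
theorem L29778 : sm gf N5972 = N6161 := ded_29_0 (flp_g L29772) (flp_f L14356) (flp_g L13962) L28933
theorem L29780 : sm ga N2981 = N6162 := rfl
theorem L29782 : sm gc N2981 = N6163 := rfl
theorem L29784 : sm gb N6163 = N4068 := ded_13_1 (flp_c L19523) (flp_b L11543) (flp_c L7016) L14360 L29782
theorem L29786 : sm gg N4069 = N6163 := ded_17_0 L29784 (flp_g L19499) (flp_b L9397) L9401 L19501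
theorem L29788 : sm gf N2981 = N6164 := rfl
theorem L29790 : sm gg N2981 = N6165 := rfl
theorem L29794 : sm gb N6165 = N4076 := ded_17_1 L28955 (flp_b L28951) L13976 L14360 L29790
theorem L29804 : sm ge N2984 = N6169 := rfl
theorem L29806 : sm ga N6169 = N2985 := ded_10_1 (flp_e L14382) L14378 L29804
theorem L29814 : sm gg N2984 = N6171 := rfl
theorem L29816 : sm ga N6171 = N2987 := ded_12_1 (flp_g L14390) L14378 L29814
theorem L29818 : sm gd N6171 = N6079 := ded_24_1 (flp_g L29442) (flp_d L14380) L29814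
theorem L29820 : sm gd N2985 = N6172 := rfl
theorem L29822 : sm gb N6172 = N2988 := ded_14_1 (flp_d L14395) (flp_b L14384) L29820
theorem L29824 : sm ge N6172 = N6080 := ded_22_2 (flp_d L29446) (flp_e L14205) (flp_d L7024) L14382 L29820
theorem L29826 : sm gf N2985 = N6173 := rfl
theorem L29828 : sm ge N6173 = N2986 := ded_25_1 (flp_f L14386) L14382 L29826
theorem L29835 : sm gb N2986 = N6175 := rfl
theorem L29839 : sm gf N6175 = N2990 := ded_16_2 (flp_b L14412) (flp_f L7033) L7022 L14386 L29835
theorem L29841 : sm gg N2986 = N6176 := rfl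
theorem L29843 : sm gd N6176 = N6084 := ded_24_1 (flp_g L29463) (flp_d L14388) L29841
theorem L29845 : sm gf N6171 = N6176 := ded_29_0 (flp_g L29841) (flp_f L14386) L14390 (flp_a L29816)
theorem L29855 : sm gc N2988 = N6178 := rfl
theorem L29857 : sm ga N6178 = N3012 := ded_8_1 (flp_c L14522) (flp_a L14397) L29855
theorem L29859 : sm ge N6178 = N6086 := ded_19_2 (flp_c L29473) (flp_e L14400) L29855
theorem L29862 : sm gd N6178 = N3012 := ded_28_7 (flp_a L29857) (flp_c L29855) (flp_d L14395) L7030 L3623 (flp_c L7030) L14395 L29855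
theorem L29864 : sm gf N2988 = N6179 := rfl
theorem L29882 : sm gc N2990 = N6182 := rfl
theorem L29884 : sm gb N6182 = N2992 := ded_13_1 (flp_c L14422) (flp_b L7052) (flp_c L7037) L14412 L29882
theorem L29886 : sm gg N2990 = N6183 := rfl
theorem L29888 : sm gd N6183 = N6091 := ded_24_1 (flp_g L29490) (flp_d L14414) L29886
theorem L29930 : sm gc N2995 = N6194 := rfl
theorem L29932 : sm ga N6194 = N2999 := ded_8_1 (flp_c L14453) (flp_a L14436) L29930
theorem L29934 : sm ge N2995 = N6195 := rfl
theorem L29936 : sm ga N6195 = N3000 := ded_10_1 (flp_e L14457) (flp_a L14436) L29934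
theorem L29944 : sm gg N2995 = N6197 := rfl
theorem L29946 : sm ga N6197 = N3002 := ded_12_1 (flp_g L14465) (flp_a L14436) L29944
theorem L29950 : sm gd N2996 = N6198 := rfl
theorem L29952 : sm ga N6198 = N3003 := ded_9_1 (flp_d L14470) (flp_a L14440) L29950
theorem L29972 : sm gd N2999 = N6203 := rfl
theorem L29974 : sm gb N6203 = N6056 := ded_14_1 (flp_d L29343) (flp_b L14455) L29972
theorem L29976 : sm ge N2999 = N6204 := rfl
theorem L29980 : sm gc N6204 = N3000 := ded_19_1 (flp_e L14457) L14453 L29976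
theorem L29982 : sm gf N2999 = N6205 := rfl
theorem L29986 : sm gg N2999 = N6206 := rfl
theorem L29990 : sm gd N3000 = N6207 := rfl
theorem L29994 : sm ge N6207 = N3003 := ded_22_2 (flp_d L14470) (flp_e L7070) L7066 L14457 L29990
theorem L30005 : sm gb N3001 = N6210 := rfl
theorem L30007 : sm gd N6210 = N3006 := ded_14_2 (flp_b L14485) (flp_d L14463) L30005
theorem L30009 : sm gf N6210 = N3011 := ded_16_2 (flp_b L14518) (flp_f L7089) (flp_b L7068) L14461 L30005
theorem L30011 : sm gg N3001 = N6211 := rfl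
theorem L30015 : sm gf N6197 = N6211 := ded_29_0 (flp_g L30011) (flp_f L14461) L14465 (flp_a L29946)
theorem L30025 : sm gc N3003 = N6213 := rfl
theorem L30027 : sm gf N3003 = N6214 := rfl
theorem L30036 : sm gb N3004 = N6216 := rfl
theorem L30040 : sm gf N6216 = N3014 := ded_16_2 (flp_b L14529) (flp_f L7102) (flp_b L7072) L14474 L30036
theorem L30058 : sm ga N3006 = N6219 := rfl
theorem L30060 : sm gf N6219 = N3015 := ded_11_2 (flp_a L14533) (flp_f L14487) L30058
theorem L30074 : sm gc N3009 = N6224 := rfl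
theorem L30076 : sm ga N6224 = N6086 := ded_8_1 (flp_c L29473) (flp_a L14503) L30074
theorem L30078 : sm ge N6224 = N3012 := ded_19_2 (flp_c L14522) (flp_e L14506) L30074
theorem L30103 : sm gg N3011 = N6229 := rfl
theorem L30107 : sm gb N6229 = N6091 := ded_17_1 (flp_g L29490) (flp_b L14223) (flp_g L7097) L14518 L30103
theorem L30109 : sm gb N3012 = N6230 := rfl
theorem L30111 : sm gf N3012 = N6231 := rfl
theorem L30115 : sm gb N3013 = N6232 := rfl
theorem L30117 : sm gd N6232 = N3014 := ded_14_2 (flp_b L14529) (flp_d L14527) L30115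
theorem L30123 : sm gc N3014 = N6234 := rfl
theorem L30127 : sm gb N6234 = N3019 := ded_13_1 (flp_c L14548) (flp_b L7110) (flp_c L7104) L14529 L30123
theorem L30129 : sm gg N3014 = N6235 := rfl
theorem L30131 : sm ge N6235 = N3017 := ded_26_1 (flp_g L14539) (flp_e L14531) L30129
theorem L30149 : sm gg N3016 = N6240 := rfl
theorem L30151 : sm gc N6240 = N3017 := ded_21_1 (flp_g L14539) L14535 L30149
theorem L30178 : sm gg N3019 = N6245 := rfl
theorem L30182 : sm ge N6245 = N3024 := ded_26_1 (flp_g L14574) (flp_e L14550) L30178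
theorem L30198 : sm gg N3023 = N6249 := rfl
theorem L30200 : sm gd N6249 = N3024 := ded_24_1 (flp_g L14574) L14571 L30198
theorem L30211 : sm ge N3025 = N6252 := rfl
theorem L30214 : sm gb N6252 = N3027 := ded_15_1 (flp_e L14593) (flp_b L14581) L30211
theorem L30223 : sm gd N3026 = N6254 := rfl
theorem L30225 : sm ga N6254 = N3030 := ded_9_1 (flp_d L14613) (flp_a L14589) L30223
theorem L30239 : sm gf N3026 = N6256 := rfl
theorem L30243 : sm gc N6256 = N3028 := ded_20_1 (flp_f L14600) L14587 L30239
theorem L30246 : sm gf N3027 = N6257 := rfl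
theorem L30251 : sm ge N6257 = N3028 := ded_25_1 (flp_f L14600) L14593 L30246
theorem L30256 : sm ga N3029 = N6258 := rfl
theorem L30258 : sm gc N6258 = N3034 := ded_8_2 (flp_a L14631) (flp_c L14611) L30256
theorem L30260 : sm gd N3029 = N6259 := rfl
theorem L30262 : sm gb N6259 = N3030 := ded_14_1 (flp_d L14613) L14609 L30260
theorem L30274 : sm gg N3029 = N6262 := rfl
theorem L30276 : sm gc N6262 = N3037 := ded_21_1 (flp_g L14644) (flp_c L14611) L30274
theorem L30309 : sm ge N3034 = N6270 := rfl
theorem L30311 : sm ga N6270 = N3035 := ded_10_1 (flp_e L14635) L14631 L30309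
theorem L30319 : sm gg N3034 = N6272 := rfl
theorem L30321 : sm ga N6272 = N3037 := ded_12_1 (flp_g L14644) L14631 L30319
theorem L30325 : sm gd N3035 = N6273 := rfl
theorem L30329 : sm ge N6273 = N6141 := ded_22_2 (flp_d L29692) (flp_e L14326) (flp_d L7177) L14635 L30325
theorem L30336 : sm gg N3035 = N6275 := rfl
theorem L30338 : sm ge N6275 = N3037 := ded_26_1 (flp_g L14644) L14635 L30336
theorem L30340 : sm gg N3036 = N6276 := rfl
theorem L30344 : sm gf N6272 = N6276 := ded_29_0 (flp_g L30340) (flp_f L14639) L14644 (flp_a L30321)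
theorem L30352 : sm gf N3037 = N6278 := rfl
theorem L30354 : sm ga N6278 = N6276 := ded_11_1 (flp_f L30344) L30321 L30352
theorem L30356 : sm gd N6278 = N6146 := ded_23_1 (flp_f L29713) (flp_d L14646) L30352
theorem L30360 : sm gc N3038 = N6279 := rfl
theorem L30362 : sm ga N6279 = N3061 := ded_8_1 (flp_c L14774) (flp_a L14650) L30360
theorem L30364 : sm ge N6279 = N6147 := ded_19_2 (flp_c L29719) (flp_e L14653) L30360
theorem L30367 : sm gd N6279 = N3061 := ded_28_7 (flp_a L30362) (flp_c L30360) (flp_d L14648) L7183 L3703 (flp_c L7183) L14648 L30360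
theorem L30428 : sm gc N3044 = N6293 := rfl
theorem L30430 : sm ga N6293 = N3048 := ded_8_1 (flp_c L14703) (flp_a L14686) L30428
theorem L30432 : sm ge N3044 = N6294 := rfl
theorem L30434 : sm ga N6294 = N3049 := ded_10_1 (flp_e L14707) (flp_a L14686) L30432
theorem L30436 : sm gf N3044 = N6295 := rfl
theorem L30438 : sm ga N6295 = N3050 := ded_11_1 (flp_f L14711) (flp_a L14686) L30436
theorem L30448 : sm gd N3045 = N6297 := rfl
theorem L30450 : sm ga N6297 = N3052 := ded_9_1 (flp_d L14720) (flp_a L14690) L30448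
theorem L30459 : sm gg N3045 = N6299 := rfl
theorem L30464 : sm ge N6299 = N3047 := ded_26_1 (flp_g L14698) L14688 L30459
theorem L30470 : sm gd N3048 = N6302 := rfl
theorem L30472 : sm gb N6302 = N6117 := ded_14_1 (flp_d L29582) (flp_b L14705) L30470
theorem L30474 : sm ge N3048 = N6303 := rfl
theorem L30478 : sm gc N6303 = N3049 := ded_19_1 (flp_e L14707) L14703 L30474
theorem L30480 : sm gf N3048 = N6304 := rfl
theorem L30488 : sm gd N3049 = N6306 := rfl
theorem L30492 : sm ge N6306 = N3052 := ded_22_2 (flp_d L14720) (flp_e L7219) L7215 L14707 L30488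
theorem L30509 : sm gb N3051 = N6310 := rfl
theorem L30511 : sm gd N6310 = N3056 := ded_14_2 (flp_b L14740) (flp_d L14718) L30509
theorem L30513 : sm gg N6310 = N3060 := ded_17_2 (flp_b L14770) (flp_g L7238) (flp_b L7217) L14716 L30509
theorem L30515 : sm gf N3051 = N6311 := rfl
theorem L30521 : sm gg N6311 = N6295 := ded_29_3 L30438 (flp_f L14711) L14716 L30515
theorem L30523 : sm gc N3052 = N6312 := rfl
theorem L30530 : sm gg N3052 = N6314 := rfl
theorem L30567 : sm gf N3056 = N6320 := rfl
theorem L30573 : sm gc N3058 = N6322 := rfl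
theorem L30575 : sm ga N6322 = N6147 := ded_8_1 (flp_c L29719) (flp_a L14755) L30573
theorem L30577 : sm ge N6322 = N3061 := ded_19_2 (flp_c L14774) (flp_e L14758) L30573
theorem L30598 : sm gc N3060 = N6326 := rfl
theorem L30600 : sm gb N6326 = N6132 := ded_13_1 (flp_c L29648) (flp_b L14310) (flp_c L7242) L14770 L30598
theorem L30602 : sm gf N3060 = N6327 := rfl
theorem L30604 : sm gd N6327 = N3065 := ded_23_1 (flp_f L14791) (flp_d L14772) L30602
theorem L30608 : sm gb N3061 = N6328 := rfl
theorem L30610 : sm gg N3061 = N6329 := rfl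
theorem L30614 : sm gb N3062 = N6330 := rfl
theorem L30616 : sm gd N6330 = N3063 := ded_14_2 (flp_b L14781) (flp_d L14779) L30614
theorem L30624 : sm gf N3063 = N6332 := rfl
theorem L30626 : sm gc N6332 = N6173 := ded_20_1 (flp_f L29826) (flp_c L14785) L30624
theorem L30665 : sm ga N3068 = N6339 := rfl
theorem L30667 : sm gc N6339 = N3071 := ded_8_2 (flp_a L14823) (flp_c L14809) L30665
theorem L30699 : sm gb N3071 = N6346 := rfl
theorem L30747 : sm gb N3074 = N6358 := rfl
theorem L30750 : sm gf N6358 = N3082 := ded_16_2 (flp_b L14879) (flp_f L7294) L7280 L14833 L30747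
theorem L30756 : sm gb N3075 = N6360 := rfl
theorem L30759 : sm gg N6360 = N3083 := ded_17_2 (flp_b L14882) (flp_g L7300) L7280 L14835 L30756
theorem L30781 : sm gg N3076 = N6364 := rfl
theorem L30783 : sm ga N6364 = N3102 := ded_12_1 (flp_g L14975) (flp_a L14839) L30781
theorem L30787 : sm ge N6364 = N3078 := ded_26_1 (flp_g L14851) L14837 L30781
theorem L30803 : sm gf N3079 = N6368 := rfl
theorem L30805 : sm ga N6368 = N3108 := ded_11_1 (flp_f L15005) (flp_a L14861) L30803
theorem L30807 : sm gd N6368 = N3080 := ded_23_1 (flp_f L14863) L14859 L30803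
theorem L30820 : sm gb N3081 = N6371 := rfl
theorem L30822 : sm ge N6371 = N3083 := ded_15_2 (flp_b L14882) (flp_e L14877) L30820
theorem L30828 : sm gg N3082 = N6373 := rfl
theorem L30837 : sm ga N3084 = N6376 := rfl
theorem L30839 : sm gc N3084 = N6377 := rfl
theorem L30841 : sm gb N6377 = N3127 := ded_13_1 (flp_c L15093) (flp_b L7430) (flp_c L7324) L14885 L30839
theorem L30843 : sm gd N3084 = N6378 := rfl
theorem L30845 : sm gb N6378 = N3085 := ded_14_1 (flp_d L14887) L14885 L30843
theorem L30847 : sm gc N4171 = N6378 := ded_13_0 L30845 L14891 L8447 L9659 L20002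
theorem L30909 : sm gf N3089 = N6391 := rfl
theorem L30911 : sm ga N6391 = N3611 := ded_11_1 (flp_f L17325) (flp_a L14913) L30909
theorem L30915 : sm gd N6391 = N3600 := ded_23_1 (flp_f L17267) (flp_d L14915) L30909
theorem L30925 : sm gd N3090 = N6393 := rfl
theorem L30929 : sm ge N6393 = N3093 := ded_22_2 (flp_d L14929) (flp_e L7330) L7326 L14917 L30925
theorem L30951 : sm gb N3092 = N6398 := rfl
theorem L30955 : sm gg N6398 = N3105 := ded_17_2 (flp_b L14989) (flp_g L7350) (flp_b L7328) L14925 L30951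
theorem L31043 : sm gb N3101 = N6417 := rfl
theorem L31045 : sm ge N6417 = N3103 := ded_15_2 (flp_b L14979) (flp_e L14973) L31043
theorem L31047 : sm gg N3101 = N6418 := rfl
theorem L31051 : sm gf N6364 = N6418 := ded_29_0 (flp_g L31047) (flp_f L14971) L14975 (flp_a L30783)
theorem L31073 : sm gg N3103 = N6423 := rfl
theorem L31075 : sm gd N6423 = N3116 := ded_24_1 (flp_g L15045) (flp_d L14981) L31073
theorem L31091 : sm gb N3106 = N6428 := rfl
theorem L31093 : sm gd N6428 = N3120 := ded_14_2 (flp_b L15053) (flp_d L14999) L31091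
theorem L31119 : sm gf N3109 = N6435 := rfl
theorem L31125 : sm gg N6435 = N6368 := ded_29_3 L30805 (flp_f L15005) L15009 L31119
theorem L31149 : sm gf N3112 = N6441 := rfl
theorem L31151 : sm ge N6441 = N3119 := ded_25_1 (flp_f L15051) (flp_e L15027) L31149
theorem L31173 : sm gg N3115 = N6447 := rfl
theorem L31175 : sm gc N6447 = N3116 := ded_21_1 (flp_g L15045) L15041 L31173
theorem L31217 : sm gg N3120 = N6458 := rfl
theorem L31219 : sm gb N6458 = N6373 := ded_17_1 (flp_g L30828) (flp_b L14879) (flp_g L7384) L15053 L31217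
theorem L31225 : sm ga N3122 = N6460 := rfl
theorem L31230 : sm gf N6460 = N5130 := ded_11_2 L24819 (flp_f L15066) L31225
theorem L31233 : sm gb N6460 = N3170 := ded_7_2 L15277 L7527 L4874 L5897 L11923 (flp_b L11929) (flp_a L7402) L15061 L31225
theorem L31260 : sm gc N3126 = N6465 := rfl
theorem L31262 : sm ga N6465 = N3127 := ded_8_1 (flp_c L15093) L15089 L31260
theorem L31264 : sm ge N3126 = N6466 := rfl
theorem L31268 : sm gb N6466 = N3366 := ded_15_1 (flp_e L16181) (flp_b L15091) L31264
theorem L31274 : sm gg N3126 = N6468 := rfl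
theorem L31276 : sm ga N6468 = N3130 := ded_12_1 (flp_g L15101) L15089 L31274
theorem L31308 : sm gg N3129 = N6477 := rfl
theorem L31310 : sm gf N6468 = N6477 := ded_29_0 (flp_g L31308) (flp_f L15099) L15101 (flp_a L31276)
theorem L31364 : sm gb N3136 = N6491 := rfl
theorem L31366 : sm gc N6491 = N3150 := ded_13_2 (flp_b L15179) (flp_c L7474) (flp_b L7446) L15123 L31364
theorem L31396 : sm gf N3138 = N6498 := rfl
theorem L31404 : sm ga N3139 = N6499 := rfl
theorem L31408 : sm gf N6499 = N3155 := ded_11_2 (flp_a L15207) (flp_f L15137) L31404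
theorem L31416 : sm gg N3139 = N6501 := rfl
theorem L31418 : sm ge N6501 = N3145 := ded_26_1 (flp_g L15167) (flp_e L15135) L31416
theorem L31424 : sm ga N3141 = N6503 := rfl
theorem L31426 : sm ge N6503 = N3147 := ded_10_2 (flp_a L15171) (flp_e L15147) L31424
theorem L31428 : sm gg N6503 = N3158 := ded_12_2 (flp_a L15221) (flp_g L15149) L31424
theorem L31430 : sm gf N3141 = N6504 := rfl
theorem L31432 : sm ge N6504 = N3148 := ded_25_1 (flp_f L15175) (flp_e L15147) L31430
theorem L31438 : sm gb N3143 = N6506 := rfl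
theorem L31488 : sm gg N3150 = N6521 := rfl
theorem L31490 : sm gd N6521 = N3500 := ded_24_1 (flp_g L16807) (flp_d L15181) L31488
theorem L31506 : sm gg N3153 = N6526 := rfl
theorem L31508 : sm gd N6526 = N3157 := ded_24_1 (flp_g L15217) (flp_d L15201) L31506
theorem L31530 : sm gg N3155 = N6532 := rfl
theorem L31532 : sm ga N6532 = N3157 := ded_12_1 (flp_g L15217) L15207 L31530
theorem L31536 : sm gf N6532 = N6501 := ded_29_2 (flp_g L31416) L31404 L31408 L31530
theorem L31548 : sm gf N3157 = N6535 := rfl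
theorem L31550 : sm ga N6535 = N6501 := ded_11_1 (flp_f L31536) L31532 L31548
theorem L31556 : sm gb N3158 = N6536 := rfl
theorem L31558 : sm ge N6536 = N3166 := ded_15_2 (flp_b L15255) (flp_e L15223) L31556
theorem L31560 : sm gf N3158 = N6537 := rfl
theorem L31566 : sm gg N6504 = N6537 := ded_29_1 (flp_f L31560) (flp_g L31428) (flp_a L31424) L31430
theorem L31634 : sm gf N3166 = N6555 := rfl
theorem L31651 : sm gg N3169 = N6561 := rfl
theorem L31655 : sm gc N6561 = N3170 := ded_21_1 (flp_g L15275) L15269 L31651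
theorem L31663 : sm ge N3171 = N6563 := rfl
theorem L31665 : sm gd N6563 = N3176 := ded_22_1 (flp_e L15309) (flp_d L7543) (flp_e L7520) L15284 L31663
theorem L31667 : sm gg N3171 = N6564 := rfl
theorem L31669 : sm gd N6564 = N3172 := ded_24_1 (flp_g L15286) L15284 L31667
theorem L31671 : sm gf N3582 = N6564 := ded_23_0 L31669 (flp_f L15292) L17171
theorem L31722 : sm gd N3179 = N6577 := rfl
theorem L31724 : sm gb N6577 = N3180 := ded_14_1 (flp_d L15325) L15321 L31722
theorem L31738 : sm gg N3179 = N6580 := rfl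
theorem L31740 : sm gc N6580 = N3362 := ded_21_1 (flp_g L16163) (flp_c L15323) L31738
theorem L31742 : sm gb N6580 = N3546 := ded_17_1 L17021 L8298 (flp_g L7557) L15321 L31738
theorem L31770 : sm ge N3182 = N6585 := rfl
theorem L31772 : sm ga N6585 = N3188 := ded_10_1 (flp_e L15372) (flp_a L15347) L31770
theorem L31774 : sm gc N6585 = N3184 := ded_19_1 (flp_e L15355) L15345 L31770
theorem L31782 : sm gg N3182 = N6587 := rfl
theorem L31784 : sm ga N6587 = N3190 := ded_12_1 (flp_g L15381) (flp_a L15347) L31782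
theorem L31794 : sm ge N3183 = N6589 := rfl
theorem L31796 : sm ga N6589 = N3192 := ded_10_1 (flp_e L15387) (flp_a L15351) L31794
theorem L31800 : sm gf N3183 = N6590 := rfl
theorem L31802 : sm ga N6590 = N3193 := ded_11_1 (flp_f L15391) (flp_a L15351) L31800
theorem L31804 : sm gd N6590 = N3185 := ded_23_1 (flp_f L15361) L15349 L31800
theorem L31818 : sm gf N3184 = N6593 := rfl
theorem L31820 : sm ga N6593 = N3196 := ded_11_1 (flp_f L15403) (flp_a L15357) L31818
theorem L31854 : sm gf N3188 = N6602 := rfl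
theorem L31858 : sm ge N6602 = N3189 := ded_25_1 (flp_f L15377) L15372 L31854
theorem L31869 : sm gg N3189 = N6605 := rfl
theorem L31873 : sm gf N6587 = N6605 := ded_29_0 (flp_g L31869) (flp_f L15377) L15381 (flp_a L31784)
theorem L31886 : sm gb N3191 = N6608 := rfl
theorem L31888 : sm gc N6608 = N3202 := ded_13_2 (flp_b L15429) (flp_c L7589) (flp_b L7579) L15385 L31886
theorem L31900 : sm gg N3191 = N6612 := rfl
theorem L31902 : sm gc N6612 = N3194 := ded_21_1 (flp_g L15395) L15385 L31900
theorem L31904 : sm gd N3192 = N6613 := rfl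
theorem L31906 : sm gb N6613 = N3207 := ded_14_1 (flp_d L15455) (flp_b L15389) L31904
theorem L31908 : sm ge N6613 = N3195 := ded_22_2 (flp_d L15399) (flp_e L7581) L7577 L15387 L31904
theorem L31910 : sm gf N3192 = N6614 := rfl
theorem L31936 : sm gf N3194 = N6619 := rfl
theorem L31942 : sm gg N6619 = N6590 := ded_29_3 L31802 (flp_f L15391) L15395 L31936
theorem L31946 : sm gf N3195 = N6621 := rfl
theorem L31950 : sm gg N3195 = N6622 := rfl
theorem L31952 : sm gd N6622 = N3197 := ded_24_1 (flp_g L15407) L15399 L31950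
theorem L31954 : sm gb N3196 = N6623 := rfl
theorem L31956 : sm ge N6623 = N3198 := ded_15_2 (flp_b L15411) (flp_e L15405) L31954
theorem L31958 : sm gf N6623 = N3215 := ded_16_2 (flp_b L15497) (flp_f L7613) (flp_b L7583) L15403 L31954
theorem L31972 : sm gf N3197 = N6626 := rfl
theorem L31978 : sm gg N6626 = N6593 := ded_29_3 L31820 (flp_f L15403) L15407 L31972
theorem L31980 : sm ga N3198 = N6627 := rfl
theorem L31982 : sm gf N6627 = N3217 := ded_11_2 (flp_a L15505) (flp_f L15413) L31980
theorem L31988 : sm gg N3198 = N6629 := rfl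
theorem L31992 : sm ga N3200 = N6631 := rfl
theorem L31994 : sm gg N6631 = N3220 := ded_12_2 (flp_a L15512) (flp_g L15421) L31992
theorem L32006 : sm gd N3202 = N6636 := rfl
theorem L32008 : sm gb N6636 = N3203 := ded_14_1 (flp_d L15431) L15429 L32006
theorem L32014 : sm gf N3202 = N6638 := rfl
theorem L32024 : sm gf N3203 = N6641 := rfl
theorem L32026 : sm ga N6641 = N3224 := ded_11_1 (flp_f L15521) (flp_a L15433) L32024
theorem L32030 : sm gd N6641 = N3205 := ded_23_1 (flp_f L15443) L15431 L32024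
theorem L32032 : sm gg N3203 = N6642 := rfl
theorem L32038 : sm gd N6642 = N3206 := ded_24_1 (flp_g L15449) L15431 L32032
theorem L32052 : sm gg N3204 = N6645 := rfl
theorem L32054 : sm ga N6645 = N3228 := ded_12_1 (flp_g L15537) (flp_a L15439) L32052
theorem L32064 : sm gc N3207 = N6648 := rfl
theorem L32066 : sm ga N6648 = N3233 := ded_8_1 (flp_c L15561) (flp_a L15457) L32064
theorem L32068 : sm ge N6648 = N3212 := ded_19_2 (flp_c L15481) (flp_e L15459) L32064
theorem L32086 : sm gb N3208 = N6651 := rfl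
theorem L32088 : sm ge N6651 = N3210 := ded_15_2 (flp_b L15473) (flp_e L15465) L32086
theorem L32094 : sm ga N3210 = N6653 := rfl
theorem L32096 : sm gd N6653 = N3217 := ded_9_2 (flp_a L15505) (flp_d L15475) L32094
theorem L32116 : sm gd N3212 = N6660 := rfl
theorem L32118 : sm ga N6660 = N3249 := ded_9_1 (flp_d L15643) (flp_a L15483) L32116
theorem L32120 : sm gc N3249 = N6660 := ded_28_0 (flp_d L32116) (flp_c L15481) (flp_d L7609) L3928 L7609 L15481 L32116 L32118
theorem L32122 : sm gf N3212 = N6661 := rfl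
theorem L32124 : sm ga N6661 = N3250 := ded_11_1 (flp_f L15645) (flp_a L15483) L32122
theorem L32126 : sm gc N6661 = N3213 := ded_20_1 (flp_f L15485) L15481 L32122
theorem L32151 : sm gg N3215 = N6667 := rfl
theorem L32178 : sm gg N3217 = N6673 := rfl
theorem L32182 : sm gf N6673 = N6629 := ded_29_2 (flp_g L31988) L31980 L31982 L32178
theorem L32197 : sm gb N3220 = N6677 := rfl
theorem L32199 : sm gc N3220 = N6678 := rfl
theorem L32203 : sm gf N3220 = N6679 := rfl
theorem L32205 : sm ga N6679 = N3222 := ded_11_1 (flp_f L15517) L15512 L32203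
theorem L32216 : sm gg N3222 = N6682 := rfl
theorem L32220 : sm gf N6631 = N6682 := ded_29_0 (flp_g L32216) (flp_f L15517) (flp_g L15421) L31992
theorem L32234 : sm gb N3224 = N6686 := rfl
theorem L32236 : sm gd N6686 = N3229 := ded_14_2 (flp_b L15543) (flp_d L15523) L32234
theorem L32244 : sm gb N3225 = N6688 := rfl
theorem L32246 : sm gd N6688 = N3231 := ded_14_2 (flp_b L15551) (flp_d L15527) L32244
theorem L32264 : sm gg N3226 = N6692 := rfl
theorem L32266 : sm gd N6692 = N3228 := ded_24_1 (flp_g L15537) L15529 L32264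
theorem L32280 : sm gb N3228 = N6695 := rfl
theorem L32282 : sm ge N6695 = N3231 := ded_15_2 (flp_b L15551) (flp_e L15541) L32280
theorem L32296 : sm gc N3229 = N6698 := rfl
theorem L32298 : sm gb N6698 = N3241 := ded_13_1 (flp_c L15609) (flp_b L7659) (flp_c L7639) L15543 L32296
theorem L32306 : sm gc N3231 = N6702 := rfl
theorem L32308 : sm gb N6702 = N3245 := ded_13_1 (flp_c L15627) (flp_b L7671) (flp_c L7643) L15551 L32306
theorem L32314 : sm gb N3233 = N6705 := rfl
theorem L32316 : sm ge N6705 = N3248 := ded_15_2 (flp_b L15639) (flp_e L15563) L32314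
theorem L32318 : sm gc N6705 = N3280 := ded_13_2 (flp_b L15790) (flp_c L7749) (flp_b L7647) L15561 L32314
theorem L32320 : sm gd N3233 = N6706 := rfl
theorem L32322 : sm gf N3233 = N6707 := rfl
theorem L32326 : sm ge N6707 = N3250 := ded_25_1 (flp_f L15645) (flp_e L15563) L32322
theorem L32328 : sm gg N3233 = N6708 := rfl
theorem L32330 : sm gc N6708 = N3235 := ded_21_1 (flp_g L15571) L15561 L32328
theorem L32332 : sm ge N6708 = N3251 := ded_26_1 (flp_g L15649) (flp_e L15563) L32328
theorem L32334 : sm gb N3234 = N6709 := rfl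
theorem L32336 : sm gd N6709 = N3236 := ded_14_2 (flp_b L15577) (flp_d L15567) L32334
theorem L32338 : sm ge N6709 = N3252 := ded_15_2 (flp_b L15653) (flp_e L15569) L32334
theorem L32350 : sm gb N3235 = N6711 := rfl
theorem L32352 : sm gd N6711 = N3238 := ded_14_2 (flp_b L15589) (flp_d L15573) L32350
theorem L32354 : sm ge N6711 = N3254 := ded_15_2 (flp_b L15665) (flp_e L15575) L32350
theorem L32368 : sm ga N3236 = N6713 := rfl
theorem L32370 : sm ge N6713 = N3240 := ded_10_2 (flp_a L15603) (flp_e L15579) L32368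
theorem L32388 : sm ga N3238 = N6717 := rfl
theorem L32392 : sm gg N6717 = N3289 := ded_12_2 (flp_a L15840) (flp_g L15593) L32388
theorem L32416 : sm gc N3240 = N6722 := rfl
theorem L32418 : sm ga N6722 = N3241 := ded_8_1 (flp_c L15609) L15603 L32416
theorem L32420 : sm gf N6722 = N3293 := ded_20_2 (flp_c L15856) (flp_f L15607) L32416
theorem L32426 : sm gg N3241 = N6724 := rfl
theorem L32428 : sm gc N6724 = N3242 := ded_21_1 (flp_g L15613) L15609 L32426
theorem L32448 : sm gb N3244 = N6729 := rfl
theorem L32450 : sm gd N6729 = N3272 := ded_14_2 (flp_b L15760) (flp_d L15623) L32448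
theorem L32484 : sm ga N3248 = N6737 := rfl
theorem L32486 : sm gc N6737 = N3304 := ded_8_2 (flp_a L15912) (flp_c L15641) L32484
theorem L32488 : sm gd N3248 = N6738 := rfl
theorem L32490 : sm gb N6738 = N3249 := ded_14_1 (flp_d L15643) L15639 L32488
theorem L32492 : sm gf N3248 = N6739 := rfl
theorem L32494 : sm gc N6739 = N3305 := ded_20_1 (flp_f L15916) (flp_c L15641) L32492
theorem L32496 : sm gg N3248 = N6740 := rfl
theorem L32498 : sm gc N6740 = N3306 := ded_21_1 (flp_g L15920) (flp_c L15641) L32496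
theorem L32500 : sm ge N3249 = N6741 := rfl
theorem L32502 : sm gf N3249 = N6742 := rfl
theorem L32504 : sm gd N6742 = N3250 := ded_23_1 (flp_f L15645) L15643 L32502
theorem L32506 : sm gg N3249 = N6743 := rfl
theorem L32508 : sm gd N6743 = N3251 := ded_24_1 (flp_g L15649) L15643 L32506
theorem L32538 : sm gg N3252 = N6750 := rfl
theorem L32540 : sm gd N6750 = N3258 := ded_24_1 (flp_g L15692) (flp_d L15655) L32538
theorem L32546 : sm ga N3254 = N6752 := rfl
theorem L32550 : sm gg N6752 = N3312 := ded_12_2 (flp_a L15942) (flp_g L15669) L32546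
theorem L32564 : sm gb N3256 = N6756 := rfl
theorem L32566 : sm ge N6756 = N3264 := ded_15_2 (flp_b L15721) (flp_e L15681) L32564
theorem L32568 : sm gc N4224 = N6756 := ded_30_1 (flp_b L32564) (flp_a L15679) L7699 L7831 L7835 L4057 L4060 (flp_c L4055) (flp_b L2101) L1049 (flp_f L562) (flp_c L552) (flp_b L1174) (flp_a L2266) L4371 L4375 L5023 L9893 (flp_f L20263)
theorem L32570 : sm ga N4225 = N6756 := ded_10_3 L32566 L15725 (flp_e L20269)
theorem L32572 : sm gf N4277 = N6756 := ded_25_0 L32566 L15727 (flp_e L20581)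
theorem L32574 : sm gc N3256 = N6757 := rfl
theorem L32576 : sm ga N6757 = N3257 := ded_8_1 (flp_c L15685) L15679 L32574
theorem L32582 : sm gb N6757 = N5659 := ded_13_1 L27335 L20265 L32568 (flp_b L32564) L32574
theorem L32616 : sm gb N3260 = N6764 := rfl
theorem L32618 : sm ge N6764 = N3272 := ded_15_2 (flp_b L15760) (flp_e L15702) L32616
theorem L32620 : sm gc N3260 = N6765 := rfl
theorem L32622 : sm ga N6765 = N3261 := ded_8_1 (flp_c L15706) L15700 L32620
theorem L32626 : sm gg N6765 = N3322 := ded_21_2 (flp_c L15992) (flp_g L15704) L32620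
theorem L32633 : sm gf N3261 = N6767 := rfl
theorem L32654 : sm gg N3263 = N6771 := rfl
theorem L32656 : sm ge N6771 = N3279 := ded_26_1 (flp_g L15786) (flp_e L15719) L32654
theorem L32658 : sm gb N6771 = N6667 := ded_17_1 (flp_g L32151) (flp_b L15497) (flp_g L7721) L15717 L32654
theorem L32660 : sm gd N3265 = N6772 := rfl
theorem L32662 : sm ga N6772 = N3266 := ded_9_1 (flp_d L15738) (flp_a L15731) L32660
theorem L32666 : sm gf N6772 = N3332 := ded_23_2 (flp_d L16040) (flp_f L15733) L32660
theorem L32672 : sm ge N3266 = N6774 := rfl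
theorem L32675 : sm gf N6774 = N3336 := ded_25_2 (flp_e L16056) (flp_f L15741) L32672
theorem L32677 : sm gg N3266 = N6775 := rfl
theorem L32684 : sm ga N3268 = N6777 := rfl
theorem L32686 : sm gg N6777 = N3269 := ded_12_2 (flp_a L15751) (flp_g L15749) L32684
theorem L32692 : sm gf N3268 = N6779 := rfl
theorem L32694 : sm gb N3269 = N6780 := rfl
theorem L32696 : sm gc N3269 = N6781 := rfl
theorem L32698 : sm ga N6781 = N3270 := ded_8_1 (flp_c L15753) L15751 L32696
theorem L32700 : sm gf N3269 = N6782 := rfl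
theorem L32704 : sm gg N6779 = N6782 := ded_29_1 (flp_f L32700) (flp_g L32686) (flp_a L32684) L32692
theorem L32706 : sm gb N3773 = N6782 := ded_31_14 (flp_g L32704) (flp_f L32692) (flp_b L15747) (flp_g L7732) L3969 (flp_b L2097) (flp_g L1232) (flp_f L1226) L1224 (flp_g L2322) L4497 L8801 L18101 (flp_f L18117)
theorem L32708 : N6780 = N5808 := coi_16_4 (flp_f L28174) (flp_b L18105) (flp_f L18117) L32706 (flp_f L32700) L32694
theorem L32709 : N6780 = N5808 := eqc rfl L32708 rfl
theorem L32710 : sm gb N5808 = N3269 := trfs L32709 (flp_b L32694) rfl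
theorem L32712 : sm gb N6781 = N5875 := ded_13_3 L28507 L13734 (flp_c L28178) L32710 L32696
theorem L32717 : sm gf N3270 = N6784 := rfl
theorem L32719 : sm gc N6784 = N3271 := ded_20_1 (flp_f L15756) L15753 L32717
theorem L32721 : N6678 = N5885 := coi_30_6 (flp_b L28546) L13750 L13780 L13784 L13808 L13813 L10325 L10324 (flp_b L11148) L11146 L13730 (flp_c L28507) (flp_b L32712) L32698 L32717 L32719 L15758 (flp_a L32205) (flp_f L32203) L32199
theorem L32722 : N6678 = N5885 := eqc rfl L32721 rfl
theorem L32725 : sm gc N5885 = N3220 := trfs L32722 (flp_c L32199) rfl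
theorem L32727 : N6677 = N4234 := coi_13_2 (flp_c L20361) (flp_b L11084) (flp_c L13752) L28546 L32725 L32197
theorem L32728 : N6677 = N4234 := eqc rfl L32727 rfl
theorem L32729 : sm gb N4234 = N3220 := trfs L32728 (flp_b L32197) rfl
theorem L32731 : sm ga N3272 = N4193 := ded_7_7 L20100 (flp_a L20363) L32729 (flp_a L15512) (flp_b L7629) L3936 L3976 L7736 L15760
theorem L32733 : sm gc N4192 = N3272 := ded_8_0 L32731 (flp_c L20098) L20096
theorem L32741 : sm gf N3272 = N6786 := rfl
theorem L32743 : sm gg N3272 = N6787 := rfl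
theorem L32745 : sm gb N6787 = N3343 := ded_17_1 (flp_g L16082) (flp_b L7881) (flp_g L7738) L15760 L32743
theorem L32747 : sm gb N3273 = N6788 := rfl
theorem L32749 : sm gd N3273 = N6789 := rfl
theorem L32751 : sm ga N6789 = N3274 := ded_9_1 (flp_d L15768) (flp_a L15764) L32749
theorem L32753 : sm gg N6789 = N3345 := ded_24_2 (flp_d L16086) (flp_g L15766) L32749
theorem L32759 : sm ge N3274 = N6791 := rfl
theorem L32762 : sm gg N6791 = N3349 := ded_26_2 (flp_e L16102) (flp_g L15771) L32759
theorem L32764 : sm gf N3274 = N6792 := rfl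
theorem L32766 : sm gd N6792 = N3275 := ded_23_1 (flp_f L15773) L15768 L32764
theorem L32771 : sm ga N3276 = N6794 := rfl
theorem L32773 : sm gf N6794 = N3277 := ded_11_2 (flp_a L15781) (flp_f L15779) L32771
theorem L32779 : sm gg N3276 = N6796 := rfl
theorem L32781 : sm gb N3277 = N6797 := rfl
theorem L32787 : sm gg N3277 = N6799 := rfl
theorem L32791 : sm gf N6799 = N6796 := ded_29_2 (flp_g L32779) L32771 L32773 L32787
theorem L32793 : sm gb N6799 = N3754 := ded_31_2 (flp_g L18033) (flp_f L18021) (flp_b L8769) (flp_g L4483) L2312 (flp_b L1216) L1218 (flp_f L1222) L2099 (flp_g L3978) L7745 L15777 L32779 (flp_f L32791)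
theorem L32795 : sm gg N4011 = N6797 := ded_17_4 (flp_b L32781) L32787 L32793 (flp_g L18033) (flp_b L19259)
theorem L32804 : sm gf N3279 = N6802 := rfl
theorem L32808 : sm gg N6802 = N6794 := ded_29_3 (flp_a L32771) L15779 L15786 L32804
theorem L32810 : sm ga N3280 = N6803 := rfl
theorem L32812 : sm ge N6803 = N3304 := ded_10_2 (flp_a L15912) (flp_e L15792) L32810
theorem L32814 : sm gd N3280 = N6804 := rfl
theorem L32816 : sm gb N6804 = N3281 := ded_14_1 (flp_d L15794) L15790 L32814
theorem L32818 : sm ge N6804 = N3827 := ded_22_2 (flp_d L18393) L8931 (flp_d L7801) (flp_e L15792) L32814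
theorem L32820 : sm gf N3280 = N6805 := rfl
theorem L32822 : sm ge N6805 = N3305 := ded_25_1 (flp_f L15916) (flp_e L15792) L32820
theorem L32824 : sm gg N3280 = N6806 := rfl
theorem L32826 : sm ge N6806 = N3306 := ded_26_1 (flp_g L15920) (flp_e L15792) L32824
theorem L32828 : sm gf N3281 = N6807 := rfl
theorem L32830 : sm ga N6807 = N3830 := ded_11_1 (flp_f L18405) (flp_a L15796) L32828
theorem L32832 : sm gd N6807 = N3282 := ded_23_1 (flp_f L15800) L15794 L32828
theorem L32834 : sm ge N6807 = N3830 := ded_25_1 (flp_f L18405) (flp_e L15798) L32828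
theorem L32836 : sm gg N3281 = N6808 := rfl
theorem L32838 : sm ga N6808 = N3831 := ded_12_1 (flp_g L18409) (flp_a L15796) L32836
theorem L32840 : sm gd N6808 = N3283 := ded_24_1 (flp_g L15808) L15794 L32836
theorem L32842 : sm ge N6808 = N3831 := ded_26_1 (flp_g L18409) (flp_e L15798) L32836
theorem L32844 : sm gb N3282 = N6809 := rfl
theorem L32846 : sm ge N6809 = N3307 := ded_15_2 (flp_b L15924) (flp_e L15806) L32844
theorem L32848 : sm gb N3283 = N6810 := rfl
theorem L32850 : sm ge N6810 = N3308 := ded_15_2 (flp_b L15928) (flp_e L15814) L32848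
theorem L32862 : sm gg N3284 = N6813 := rfl
theorem L32864 : sm gd N6813 = N3288 := ded_24_1 (flp_g L15836) (flp_d L15818) L32862
theorem L32866 : sm ge N6813 = N3311 := ded_26_1 (flp_g L15938) (flp_e L15820) L32862
theorem L32868 : sm ga N3285 = N6814 := rfl
theorem L32870 : sm gd N6814 = N3289 := ded_9_2 (flp_a L15840) (flp_d L15824) L32868
theorem L32872 : sm ge N6814 = N3312 := ded_10_2 (flp_a L15942) (flp_e L15826) L32868
theorem L32944 : sm gg N3291 = N6828 := rfl
theorem L32948 : sm ge N6828 = N3303 := ded_26_1 (flp_g L15904) (flp_e L15850) L32944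
theorem L32950 : sm gf N6717 = N6828 := ded_29_0 (flp_g L32944) (flp_f L15848) (flp_g L15593) L32388
theorem L32972 : sm gd N3293 = N6834 := rfl
theorem L32974 : sm ga N6834 = N3295 := ded_9_1 (flp_d L15868) (flp_a L15858) L32972
theorem L32976 : sm gg N3293 = N6835 := rfl
theorem L32982 : sm gf N6835 = N6724 := ded_29_2 (flp_g L32426) (flp_a L32418) L32420 L32976
theorem L33028 : sm gd N3299 = N6848 := rfl
theorem L33030 : sm ga N6848 = N3301 := ded_9_1 (flp_d L15898) (flp_a L15888) L33028
theorem L33032 : sm gf N3299 = N6849 := rfl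
theorem L33034 : sm ga N6849 = N3302 := ded_11_1 (flp_f L15900) (flp_a L15888) L33032
theorem L33044 : sm gc N3301 = N6851 := rfl
theorem L33052 : sm gb N3302 = N6854 := rfl
theorem L33054 : sm gg N3302 = N6855 := rfl
theorem L33058 : sm gc N6855 = N3303 := ded_21_1 (flp_g L15904) (flp_c L15902) L33054
theorem L33066 : sm gb N3304 = N6857 := rfl
theorem L33068 : sm gd N6857 = N3910 := ded_14_2 (flp_b L18787) (flp_d L15914) L33066
theorem L33070 : sm gf N3304 = N6858 := rfl
theorem L33072 : sm ga N6858 = N3305 := ded_11_1 (flp_f L15916) L15912 L33070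
theorem L33074 : sm gd N6858 = N3911 := ded_23_1 (flp_f L18789) (flp_d L15914) L33070
theorem L33076 : sm gg N3304 = N6859 := rfl
theorem L33078 : sm ga N6859 = N3306 := ded_12_1 (flp_g L15920) L15912 L33076
theorem L33080 : sm gd N6859 = N3912 := ded_24_1 (flp_g L18793) (flp_d L15914) L33076
theorem L33082 : sm gb N3305 = N6860 := rfl
theorem L33084 : sm gd N6860 = N3913 := ded_14_2 (flp_b L18797) (flp_d L15918) L33082
theorem L33086 : sm gf N6860 = N3307 := ded_16_2 (flp_b L15924) (flp_f L7803) L7799 L15916 L33082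
theorem L33088 : sm gg N3305 = N6861 := rfl
theorem L33090 : sm gd N6861 = N3914 := ded_24_1 (flp_g L18801) (flp_d L15918) L33088
theorem L33092 : sm gf N6859 = N6861 := ded_29_0 (flp_g L33088) (flp_f L15916) L15920 (flp_a L33078)
theorem L33094 : sm gb N3306 = N6862 := rfl
theorem L33096 : sm gd N6862 = N3915 := ded_14_2 (flp_b L18805) (flp_d L15922) L33094
theorem L33098 : sm gg N6862 = N3308 := ded_17_2 (flp_b L15928) (flp_g L7811) L7799 L15920 L33094
theorem L33100 : sm gf N3306 = N6863 := rfl
theorem L33102 : sm ga N6863 = N6861 := ded_11_1 (flp_f L33092) L33078 L33100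
theorem L33104 : sm gd N6863 = N3916 := ded_23_1 (flp_f L18809) (flp_d L15922) L33100
theorem L33106 : sm gg N6863 = N6858 := ded_29_3 L33072 (flp_f L15916) L15920 L33100
theorem L33108 : sm ga N3307 = N6864 := rfl
theorem L33110 : sm gd N6864 = N3917 := ded_9_2 (flp_a L18815) (flp_d L15926) L33108
theorem L33112 : sm gc N3307 = N6865 := rfl
theorem L33114 : sm gb N6865 = N3310 := ded_13_1 (flp_c L15936) (flp_b L7819) (flp_c L7807) L15924 L33112
theorem L33116 : sm gg N3307 = N6866 := rfl
theorem L33118 : sm gd N6866 = N3919 := ded_24_1 (flp_g L18821) (flp_d L15926) L33116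
theorem L33120 : sm ga N3308 = N6867 := rfl
theorem L33122 : sm gd N6867 = N3921 := ded_9_2 (flp_a L18825) (flp_d L15930) L33120
theorem L33124 : sm gc N3308 = N6868 := rfl
theorem L33126 : sm gb N6868 = N3313 := ded_13_1 (flp_c L15946) (flp_b L7823) (flp_c L7815) L15928 L33124
theorem L33128 : sm gf N3308 = N6869 := rfl
theorem L33130 : sm gd N6869 = N3923 := ded_23_1 (flp_f L18831) (flp_d L15930) L33128
theorem L33180 : sm gf N3313 = N6880 := rfl
theorem L33182 : sm gc N6880 = N3314 := ded_20_1 (flp_f L15948) L15946 L33180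
theorem L33184 : sm gg N3314 = N6881 := rfl
theorem L33188 : sm gd N6881 = N3326 := ded_24_1 (flp_g L16016) (flp_d L15950) L33184
theorem L33190 : sm gf N6752 = N6881 := ded_29_0 (flp_g L33184) (flp_f L15948) (flp_g L15669) L32546
theorem L33192 : sm ga N3315 = N6882 := rfl
theorem L33194 : sm ge N6882 = N3327 := ded_10_2 (flp_a L16024) (flp_e L15954) L33192
theorem L33196 : sm gb N6882 = N3945 := ded_7_2 (flp_a L18933) (flp_b L9159) (flp_a L4645) (flp_b L2402) (flp_a L2083) L4031 L7827 L15952 L33192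
theorem L33238 : sm ge N3318 = N6891 := rfl
theorem L33240 : sm gb N6891 = N3354 := ded_15_1 (flp_e L16125) (flp_b L15972) L33238
theorem L33242 : sm gd N6891 = N3336 := ded_22_1 (flp_e L16056) (flp_d L7867) (flp_e L7833) L15970 L33238
theorem L33248 : sm gf N3319 = N6893 := rfl
theorem L33256 : sm gg N6893 = N6757 := ded_29_3 L32576 L15689 L15974 L33248
theorem L33280 : sm gb N3322 = N6899 := rfl
theorem L33282 : sm ge N6899 = N3344 := ded_15_2 (flp_b L16084) (flp_e L15996) L33280
theorem L33288 : sm gf N3322 = N6901 := rfl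
theorem L33292 : sm gc N6901 = N3323 := ded_20_1 (flp_f L15998) L15992 L33288
theorem L33296 : sm gg N6767 = N6901 := ded_29_1 (flp_f L33288) (flp_g L32626) L32622 L32633
theorem L33298 : sm gb N3323 = N6902 := rfl
theorem L33300 : sm ge N6902 = N3347 := ded_15_2 (flp_b L16098) (flp_e L16002) L33298
theorem L33304 : sm ge N3324 = N6904 := rfl
theorem L33308 : sm gd N6904 = N3349 := ded_22_1 (flp_e L16102) (flp_d L7893) (flp_e L7847) L16006 L33304
theorem L33314 : sm gg N3325 = N6906 := rfl
theorem L33318 : sm gc N6906 = N3326 := ded_21_1 (flp_g L16016) (flp_c L16012) L33314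
theorem L33332 : sm gf N3327 = N6909 := rfl
theorem L33334 : sm ga N6909 = N3329 := ded_11_1 (flp_f L16030) L16024 L33332
theorem L33336 : sm gg N3327 = N6910 := rfl
theorem L33338 : sm ga N6910 = N3330 := ded_12_1 (flp_g L16034) L16024 L33336
theorem L33358 : sm gg N3329 = N6915 := rfl
theorem L33360 : sm gf N6910 = N6915 := ded_29_0 (flp_g L33358) (flp_f L16030) L16034 (flp_a L33338)
theorem L33362 : sm gb N3330 = N6916 := rfl
theorem L33364 : sm gg N6916 = N3334 := ded_17_2 (flp_b L16052) (flp_g L7861) L7855 L16034 L33362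
theorem L33366 : sm gf N3330 = N6917 := rfl
theorem L33370 : sm gg N6917 = N6909 := ded_29_3 L33334 (flp_f L16030) L16034 L33366
theorem L33395 : sm gg N3332 = N6923 := rfl
theorem L33397 : sm ga N6923 = N3337 := ded_12_1 (flp_g L16060) (flp_a L16042) L33395
theorem L33401 : sm gf N6923 = N6775 := ded_29_2 (flp_g L32677) (flp_a L32662) L32666 L33395
theorem L33409 : sm gf N3334 = N6927 := rfl
theorem L33411 : sm gb N6927 = N6779 := ded_16_1 (flp_f L32692) (flp_b L15747) (flp_f L7865) L16052 L33409
theorem L33413 : sm gg N3771 = N6927 := ded_17_0 L33411 L32704 (flp_b L32706) (flp_g L18113) L18107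
theorem L33419 : sm gd N3335 = N6929 := rfl
theorem L33423 : sm gc N6834 = N6929 := ded_28_0 (flp_d L33419) (flp_c L16054) (flp_d L7867) (flp_c L4041) (flp_d L4007) L7783 L15868 (flp_a L32974)
theorem L33429 : sm gg N3335 = N6931 := rfl
theorem L33431 : sm gc N6931 = N3337 := ded_21_1 (flp_g L16060) L16054 L33429
theorem L33437 : sm gf N3337 = N6933 := rfl
theorem L33439 : sm ga N6933 = N6775 := ded_11_1 (flp_f L33401) L33397 L33437
theorem L33449 : sm ga N3339 = N6935 := rfl
theorem L33451 : sm gc N3339 = N6936 := rfl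
theorem L33453 : sm gg N3339 = N6937 := rfl
theorem L33455 : sm gb N6937 = N4295 := ded_17_1 L20683 (flp_b L15721) (flp_g L7879) L16072 L33453
theorem L33457 : sm gc N5904 = N6937 := ded_13_0 L33455 L20681 L13545 L13819 L28636
theorem L33459 : sm gg N6936 = N5904 := ded_21_0 L33457 (flp_g L33453) L33451
theorem L33469 : sm gg N3340 = N6940 := rfl
theorem L33471 : sm ga N6940 = N3343 := ded_12_1 (flp_g L16082) L16074 L33469
theorem L33473 : sm gb N3341 = N6941 := rfl
theorem L33475 : sm gc N6941 = N3344 := ded_13_2 (flp_b L16084) (flp_c L7883) L7881 L16078 L33473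
theorem L33483 : sm gg N3341 = N6944 := rfl
theorem L33485 : sm gc N6944 = N3343 := ded_21_1 (flp_g L16082) L16078 L33483
theorem L33487 : sm gb N3342 = N6945 := rfl
theorem L33489 : sm gf N6945 = N3347 := ded_16_2 (flp_b L16098) (flp_f L7887) L7881 L16080 L33487
theorem L33495 : sm gf N3343 = N6947 := rfl
theorem L33510 : sm gg N3344 = N6951 := rfl
theorem L33512 : sm gc N3345 = N6952 := rfl
theorem L33514 : sm ga N6952 = N3348 := ded_8_1 (flp_c L16100) (flp_a L16088) L33512
theorem L33516 : sm gd N6851 = N6952 := ded_28_1 (flp_c L33512) (flp_d L16086) (flp_c L7883) (flp_d L7791) L15886 L33028 L33030 L33044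
theorem L33522 : sm gf N3345 = N6954 := rfl
theorem L33528 : sm gg N6792 = N6954 := ded_29_1 (flp_f L33522) (flp_g L32753) L32751 L32764
theorem L33536 : sm gg N3347 = N6958 := rfl
theorem L33538 : sm gb N6958 = N6796 := ded_17_1 (flp_g L32779) (flp_b L15777) L7891 L16098 L33536
theorem L33540 : sm gf N3752 = N6958 := ded_16_0 L33538 (flp_f L32791) L32793 (flp_f L18029) L18023
theorem L33542 : sm gd N3348 = N6959 := rfl
theorem L33544 : sm ga N6959 = N6851 := ded_9_1 L33516 L33514 L33542
theorem L33548 : sm ge N3348 = N6960 := rfl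
theorem L33550 : sm gc N6960 = N3349 := ded_19_1 (flp_e L16102) L16100 L33548
theorem L33570 : sm ga N3352 = N6965 := rfl
theorem L33574 : sm gf N3352 = N6967 := rfl
theorem L33576 : sm gb N6967 = N6786 := ded_16_1 (flp_f L32741) (flp_b L15760) L7905 L16118 L33574
theorem L33609 : sm gg N3357 = N6975 := rfl
theorem L33611 : sm gd N6975 = N3362 := ded_24_1 (flp_g L16163) (flp_d L16144) L33609
theorem L33613 : sm gb N6975 = N3543 := ded_17_1 (flp_g L17003) L8278 (flp_g L7919) L16142 L33609
theorem L33615 : sm gd N3358 = N6976 := rfl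
theorem L33619 : sm gg N6976 = N3579 := ded_24_2 L17150 (flp_g L16152) L33615
theorem L33621 : sm ge N6976 = N3363 := ded_22_2 (flp_d L16167) (flp_e L7933) L7921 L16146 L33615
theorem L33669 : sm gb N3364 = N6987 := rfl
theorem L33687 : sm gg N3364 = N6991 := rfl
theorem L33689 : sm ga N6991 = N3372 := ded_12_1 (flp_g L16205) (flp_a L16175) L33687
theorem L33697 : sm ge N3365 = N6993 := rfl
theorem L33707 : sm gg N3365 = N6995 := rfl
theorem L33709 : sm ga N6995 = N3376 := ded_12_1 (flp_g L16219) (flp_a L16179) L33707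
theorem L33717 : sm gf N3366 = N6997 := rfl
theorem L33719 : sm ga N6997 = N3378 := ded_11_1 (flp_f L16227) (flp_a L16183) L33717
theorem L33733 : sm gc N3369 = N7001 := rfl
theorem L33738 : sm gf N3369 = N7003 := rfl
theorem L33740 : sm gd N7003 = N3371 := ded_23_1 (flp_f L16201) L16193 L33738
theorem L33749 : sm gf N3370 = N7006 := rfl
theorem L33753 : sm ge N7006 = N3371 := ded_25_1 (flp_f L16201) L16196 L33749
theorem L33755 : sm gg N3370 = N7007 := rfl
theorem L33757 : sm gc N7007 = N3379 := ded_21_1 (flp_g L16231) (flp_c L16199) L33755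
theorem L33764 : sm gg N3371 = N7009 := rfl
theorem L33768 : sm gf N6991 = N7009 := ded_29_0 (flp_g L33764) (flp_f L16201) L16205 (flp_a L33689)
theorem L33781 : sm gb N3373 = N7012 := rfl
theorem L33783 : sm gc N7012 = N3384 := ded_13_2 (flp_b L16253) (flp_c L7958) (flp_b L7948) L16209 L33781
theorem L33791 : sm gf N3373 = N7015 := rfl
theorem L33793 : sm gc N7015 = N3375 := ded_20_1 (flp_f L16215) L16209 L33791
theorem L33819 : sm gg N3375 = N7021 := rfl
theorem L33823 : sm gf N6995 = N7021 := ded_29_0 (flp_g L33819) (flp_f L16215) L16219 (flp_a L33709)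
theorem L33867 : sm gf N3379 = N7030 := rfl
theorem L33873 : sm gg N7030 = N6997 := ded_29_3 L33719 (flp_f L16227) L16231 L33867
theorem L33907 : sm ge N3384 = N7041 := rfl
theorem L33909 : sm gb N7041 = N3386 := ded_15_1 (flp_e L16261) L16253 L33907
theorem L33949 : sm gg N3386 = N7049 := rfl
theorem L33951 : sm ga N7049 = N3410 := ded_12_1 (flp_g L16365) (flp_a L16263) L33949
theorem L33953 : sm gc N7049 = N3391 := ded_21_1 (flp_g L16291) (flp_c L16265) L33949
theorem L33967 : sm gf N3389 = N7053 := rfl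
theorem L33969 : sm ga N7053 = N3416 := ded_11_1 (flp_f L16397) (flp_a L16281) L33967
theorem L33971 : sm gd N7053 = N3390 := ded_23_1 (flp_f L16285) L16279 L33967
theorem L34135 : sm gg N3406 = N7091 := rfl
theorem L34137 : sm gd N7091 = N3412 := ded_24_1 (flp_g L16375) (flp_d L16349) L34135
theorem L34141 : sm gb N3407 = N7092 := rfl
theorem L34143 : sm gd N7092 = N3413 := ded_14_2 (flp_b L16381) (flp_d L16353) L34141
theorem L34167 : sm gb N3409 = N7097 := rfl
theorem L34169 : sm ge N7097 = N3411 := ded_15_2 (flp_b L16371) (flp_e L16363) L34167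
theorem L34181 : sm gb N3410 = N7099 := rfl
theorem L34183 : sm ge N7099 = N3413 := ded_15_2 (flp_b L16381) (flp_e L16369) L34181
theorem L34215 : sm gc N3413 = N7106 := rfl
theorem L34217 : sm gg N7106 = N6702 := ded_21_2 (flp_c L32306) (flp_g L16383) L34215
theorem L34225 : sm gb N3415 = N7109 := rfl
theorem L34227 : sm ge N7109 = N3430 := ded_15_2 (flp_b L16471) (flp_e L16395) L34225
theorem L34229 : sm gc N7109 = N3462 := ded_13_2 (flp_b L16613) (flp_c L8122) (flp_b L8020) L16393 L34225
theorem L34233 : sm gf N3415 = N7111 := rfl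
theorem L34235 : sm gc N7111 = N3416 := ded_20_1 (flp_f L16397) L16393 L34233
theorem L34237 : sm ge N7111 = N3432 := ded_25_1 (flp_f L16477) (flp_e L16395) L34233
theorem L34253 : sm gg N3416 = N7114 := rfl
theorem L34255 : sm gd N7114 = N3419 := ded_24_1 (flp_g L16415) (flp_d L16399) L34253
theorem L34257 : sm ge N7114 = N3435 := ded_26_1 (flp_g L16491) (flp_e L16401) L34253
theorem L34279 : sm ga N3418 = N7117 := rfl
theorem L34283 : sm gf N7117 = N3470 := ded_11_2 (flp_a L16663) (flp_f L16413) L34279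
theorem L34291 : sm gg N3418 = N7119 := rfl
theorem L34299 : sm ga N3420 = N7121 := rfl
theorem L34303 : sm gg N7121 = N3474 := ded_12_2 (flp_a L16681) (flp_g L16425) L34299
theorem L34323 : sm gc N3422 = N7126 := rfl
theorem L34325 : sm ga N7126 = N3423 := ded_8_1 (flp_c L16441) L16435 L34323
theorem L34327 : sm gf N7126 = N3479 := ded_20_2 (flp_c L16703) (flp_f L16439) L34323
theorem L34395 : sm gd N3430 = N7142 := rfl
theorem L34397 : sm gb N7142 = N3431 := ded_14_1 (flp_d L16475) L16471 L34395
theorem L34409 : sm gf N3431 = N7146 := rfl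
theorem L34411 : sm gd N7146 = N3432 := ded_23_1 (flp_f L16477) L16475 L34409
theorem L34445 : sm gg N3434 = N7154 := rfl
theorem L34447 : sm gd N7154 = N3440 := ded_24_1 (flp_g L16524) (flp_d L16487) L34445
theorem L34453 : sm ga N3436 = N7156 := rfl
theorem L34457 : sm gg N7156 = N3509 := ded_12_2 (flp_a L16843) (flp_g L16501) L34453
theorem L34475 : sm gc N3438 = N7161 := rfl
theorem L34477 : sm ga N7161 = N3439 := ded_8_1 (flp_c L16517) L16511 L34475
theorem L34479 : sm ge N7161 = N3447 := ded_19_2 (flp_c L16555) (flp_e L16513) L34475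
theorem L34519 : sm gc N3442 = N7169 := rfl
theorem L34521 : sm ga N7169 = N3443 := ded_8_1 (flp_c L16538) L16532 L34519
theorem L34525 : sm gg N7169 = N3524 := ded_21_2 (flp_c L16919) (flp_g L16536) L34519
theorem L34532 : sm gf N3443 = N7171 := rfl
theorem L34577 : sm gc N3448 = N7182 := rfl
theorem L34579 : sm gf N7182 = N3541 := ded_20_2 (flp_c L16997) (flp_f L16564) L34577
theorem L34586 : sm gg N3448 = N7184 := rfl
theorem L34588 : sm gd N7184 = N3449 := ded_24_1 (flp_g L16566) L16561 L34586
theorem L34640 : sm gd N3455 = N7200 := rfl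
theorem L34642 : sm ga N7200 = N3456 := ded_9_1 (flp_d L16591) (flp_a L16587) L34640
theorem L34644 : sm gg N7200 = N3560 := ded_24_2 (flp_d L17063) (flp_g L16589) L34640
theorem L34650 : sm ge N3456 = N7202 := rfl
theorem L34653 : sm gg N7202 = N3564 := ded_26_2 (flp_e L17079) (flp_g L16594) L34650
theorem L34655 : sm gf N3456 = N7203 := rfl
theorem L34697 : sm ga N3462 = N7214 := rfl
theorem L34699 : sm ge N7214 = N3498 := ded_10_2 (flp_a L16803) (flp_e L16615) L34697
theorem L34701 : sm gd N3462 = N7215 := rfl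
theorem L34703 : sm gb N7215 = N3463 := ded_14_1 (flp_d L16617) L16613 L34701
theorem L34719 : sm gg N3463 = N7219 := rfl
theorem L34721 : sm gc N7219 = N3831 := ded_21_1 (flp_g L18409) L16619 L34719
theorem L34723 : sm gd N7219 = N3465 := ded_24_1 (flp_g L16627) L16617 L34719
theorem L34737 : sm gb N3465 = N7222 := rfl
theorem L34739 : sm ge N7222 = N3503 := ded_15_2 (flp_b L16817) (flp_e L16631) L34737
theorem L34773 : sm ga N3468 = N7228 := rfl
theorem L34775 : sm gd N7228 = N3474 := ded_9_2 (flp_a L16681) (flp_d L16649) L34773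
theorem L34777 : sm ge N7228 = N3509 := ded_10_2 (flp_a L16843) (flp_e L16651) L34773
theorem L34795 : sm gb N3470 = N7232 := rfl
theorem L34797 : sm ge N7232 = N3478 := ded_15_2 (flp_b L16699) (flp_e L16665) L34795
theorem L34805 : sm gg N3470 = N7234 := rfl
theorem L34811 : sm gf N7234 = N7119 := ded_29_2 (flp_g L34291) L34279 L34283 L34805
theorem L34837 : sm ga N3473 = N7239 := rfl
theorem L34839 : sm ge N7239 = N3485 := ded_10_2 (flp_a L16737) (flp_e L16679) L34837
theorem L34841 : sm gc N3473 = N7240 := rfl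
theorem L34843 : sm ge N7240 = N3486 := ded_19_2 (flp_c L16741) (flp_e L16679) L34841
theorem L34845 : sm gb N7240 = N3862 := ded_13_1 (flp_c L18581) (flp_b L9005) (flp_c L8144) L16677 L34841
theorem L34847 : sm gf N3473 = N7241 := rfl
theorem L34851 : sm gb N7241 = N3813 := ded_16_1 (flp_f L18321) (flp_b L8901) L8148 L16677 L34847
theorem L34887 : sm gg N3476 = N7248 := rfl
theorem L34893 : sm gf N7121 = N7248 := ded_29_0 (flp_g L34887) (flp_f L16691) (flp_g L16425) L34299
theorem L34899 : sm gc N3477 = N7250 := rfl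
theorem L34901 : sm ge N7250 = N3496 := ded_19_2 (flp_c L16793) (flp_e L16697) L34899
theorem L34903 : sm gb N7250 = N3852 := ded_13_1 (flp_c L18527) (flp_b L8989) (flp_c L8158) L16695 L34899
theorem L34911 : sm ga N3478 = N7252 := rfl
theorem L34913 : sm gd N7252 = N3533 := ded_9_2 (flp_a L16973) (flp_d L16701) L34911
theorem L34927 : sm gd N3479 = N7257 := rfl
theorem L34929 : sm ga N7257 = N3481 := ded_9_1 (flp_d L16715) (flp_a L16705) L34927
theorem L34957 : sm gf N3482 = N7264 := rfl
theorem L34961 : sm gc N7264 = N3484 := ded_20_1 (flp_f L16729) (flp_c L16721) L34957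
theorem L34963 : sm gg N7264 = N7126 := ded_29_3 L34325 L16443 L16719 L34957
theorem L34991 : sm gf N3485 = N7271 := rfl
theorem L34995 : sm gd N7271 = N3551 := ded_23_1 (flp_f L17033) (flp_d L16739) L34991
theorem L35069 : sm ga N3493 = N7288 := rfl
theorem L35073 : sm gf N7288 = N3495 := ded_11_2 (flp_a L16789) (flp_f L16779) L35069
theorem L35087 : sm gb N3495 = N7292 := rfl
theorem L35089 : sm gd N7292 = N3572 := ded_14_2 (flp_b L17115) (flp_d L16791) L35087
theorem L35091 : sm gc N3495 = N7293 := rfl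
theorem L35093 : sm ga N7293 = N3496 := ded_8_1 (flp_c L16793) L16789 L35091
theorem L35111 : sm gf N3497 = N7297 := rfl
theorem L35115 : sm gd N7297 = N3577 := ded_23_1 (flp_f L17135) (flp_d L16799) L35111
theorem L35117 : sm gg N7297 = N7288 := ded_29_3 (flp_a L35069) L16779 L16797 L35111
theorem L35121 : sm gf N3498 = N7299 := rfl
theorem L35123 : sm ga N7299 = N3499 := ded_11_1 (flp_f L16805) L16803 L35121
theorem L35141 : sm gf N3500 = N7304 := rfl
theorem L35145 : sm gg N7304 = N7299 := ded_29_3 L35123 (flp_f L16805) L16807 L35141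
theorem L35159 : sm gc N3503 = N7310 := rfl
theorem L35161 : sm gb N7310 = N3510 := ded_13_1 (flp_c L16847) (flp_b L8216) (flp_c L8204) L16817 L35159
theorem L35191 : sm gb N3507 = N7318 := rfl
theorem L35193 : sm gd N7318 = N3518 := ded_14_2 (flp_b L16885) (flp_d L16837) L35191
theorem L35235 : sm gf N3510 = N7327 := rfl
theorem L35237 : sm gc N7327 = N3511 := ded_20_1 (flp_f L16849) L16847 L35235
theorem L35245 : sm gg N3511 = N7329 := rfl
theorem L35251 : sm gf N7156 = N7329 := ded_29_0 (flp_g L35245) (flp_f L16849) (flp_g L16501) L34453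
theorem L35253 : sm ga N3512 = N7330 := rfl
theorem L35255 : sm gd N7330 = N3530 := ded_9_2 (flp_a L16957) (flp_d L16855) L35253
theorem L35259 : sm gg N3512 = N7332 := rfl
theorem L35263 : sm gb N7332 = N6526 := ded_17_1 (flp_g L31506) (flp_b L15199) (flp_g L8226) L16853 L35259
theorem L35277 : sm gg N3513 = N7336 := rfl
theorem L35279 : sm ge N7336 = N3536 := ded_26_1 (flp_g L16979) (flp_e L16859) L35277
theorem L35315 : sm gf N3517 = N7344 := rfl
theorem L35323 : sm gg N7344 = N7161 := ded_29_3 L34477 L16521 L16879 L35315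
theorem L35325 : sm ga N3518 = N7345 := rfl
theorem L35329 : sm gg N7345 = N3520 := ded_12_2 (flp_a L16899) (flp_g L16889) L35325
theorem L35331 : sm gc N3518 = N7346 := rfl
theorem L35333 : sm ge N7346 = N3546 := ded_19_2 (flp_c L17019) (flp_e L16887) L35331
theorem L35335 : sm gg N7346 = N3521 := ded_21_2 (flp_c L16903) (flp_g L16889) L35331
theorem L35337 : sm gf N3518 = N7347 := rfl
theorem L35339 : sm ge N7347 = N3547 := ded_25_1 (flp_f L17023) (flp_e L16887) L35337
theorem L35345 : sm gb N3520 = N7349 := rfl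
theorem L35347 : sm ge N7349 = N3549 := ded_15_2 (flp_b L17027) (flp_e L16901) L35345
theorem L35355 : sm gf N3520 = N7351 := rfl
theorem L35359 : sm ge N7351 = N3551 := ded_25_1 (flp_f L17033) (flp_e L16901) L35355
theorem L35363 : sm gd N3521 = N7352 := rfl
theorem L35365 : sm gb N7352 = N3582 := ded_14_1 (flp_d L17171) (flp_b L16907) L35363
theorem L35405 : sm gf N3524 = N7361 := rfl
theorem L35409 : sm gc N7361 = N3525 := ded_20_1 (flp_f L16925) L16919 L35405
theorem L35413 : sm gg N7171 = N7361 := ded_29_1 (flp_f L35405) (flp_g L34525) L34521 L34532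
theorem L35421 : sm ge N3526 = N7364 := rfl
theorem L35425 : sm gd N7364 = N3564 := ded_22_1 (flp_e L17079) (flp_d L8316) (flp_e L8252) L16933 L35421
theorem L35449 : sm ga N3528 = N7368 := rfl
theorem L35453 : sm gf N7368 = N3530 := ded_11_2 (flp_a L16957) (flp_f L16947) L35449
theorem L35463 : sm gg N3528 = N7370 := rfl
theorem L35481 : sm gg N3530 = N7374 := rfl
theorem L35487 : sm gf N7374 = N7370 := ded_29_2 (flp_g L35463) L35449 L35453 L35481
theorem L35511 : sm gf N3533 = N7379 := rfl
theorem L35513 : sm ga N7379 = N3535 := ded_11_1 (flp_f L16977) L16973 L35511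
theorem L35541 : sm gf N3536 = N7387 := rfl
theorem L35545 : sm gg N7387 = N7379 := ded_29_3 L35513 (flp_f L16977) L16979 L35541
theorem L35596 : sm gg N3541 = N7401 := rfl
theorem L35598 : sm gc N7401 = N3543 := ded_21_1 (flp_g L17003) L16997 L35596
theorem L35626 : sm gf N3546 = N7408 := rfl
theorem L35628 : sm gc N7408 = N3547 := ded_20_1 (flp_f L17023) L17019 L35626
theorem L35642 : sm ga N3549 = N7413 := rfl
theorem L35749 : sm gf N3560 = N7442 := rfl
theorem L35755 : sm gg N7203 = N7442 := ded_29_1 (flp_f L35749) (flp_g L34644) L34642 L34655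
theorem L35803 : sm ga N3566 = N7454 := rfl
theorem L35807 : sm gf N7454 = N3595 := ded_11_2 (flp_a L17242) (flp_f L17089) L35803
theorem L35809 : sm gg N3566 = N7455 := rfl
theorem L35845 : sm ga N3572 = N7465 := rfl
theorem L35847 : sm gb N7465 = N7413 := ded_7_2 (flp_a L35642) (flp_b L17027) (flp_a L8294) (flp_b L4245) (flp_a L2189) L4255 L8334 L17115 L35845
theorem L35960 : sm ga N3586 = N7490 := rfl
theorem L35962 : sm gc N7490 = N4157 := ded_8_2 L19938 (flp_c L17194) L35960
theorem L35964 : sm ge N7490 = N3595 := ded_10_2 (flp_a L17242) (flp_e L17192) L35960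
theorem L35977 : sm ge N3587 = N7493 := rfl
theorem L35979 : sm gf N7493 = N4169 := ded_25_2 L19996 (flp_f L17198) L35977
theorem L35981 : sm gg N7493 = N5012 := ded_26_2 L24254 L19894 L35977
theorem L35983 : sm gd N7493 = N3597 := ded_22_1 (flp_e L17251) (flp_d L8415) (flp_e L8373) L17196 L35977
theorem L35985 : sm gb N3588 = N7494 := rfl
theorem L35987 : sm gc N7494 = N3589 := ded_13_2 (flp_b L17208) (flp_c L8391) L8381 L17200 L35985
theorem L36007 : sm gg N3589 = N7499 := rfl
theorem L36009 : sm gb N7499 = N6447 := ded_17_1 (flp_g L31173) L15043 (flp_g L8395) L17208 L36007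
theorem L36048 : sm gg N3595 = N7507 := rfl
theorem L36054 : sm gf N7507 = N7455 := ded_29_2 (flp_g L35809) L35803 L35807 L36048
theorem L36105 : sm gf N3602 = N7519 := rfl
theorem L36111 : sm ge N7519 = N3603 := ded_25_1 (flp_f L17285) L17279 L36105
theorem L36113 : sm gg N3602 = N7520 := rfl
theorem L36115 : sm ga N7520 = N3622 := ded_12_1 (flp_g L17383) (flp_a L17281) L36113
theorem L36133 : sm gf N3605 = N7524 := rfl
theorem L36135 : sm ga N7524 = N3628 := ded_11_1 (flp_f L17421) (flp_a L17303) L36133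
theorem L36139 : sm gg N3605 = N7525 := rfl
theorem L36143 : sm gd N7525 = N3607 := ded_24_1 (flp_g L17311) L17301 L36139
theorem L36145 : sm gb N3606 = N7526 := rfl
theorem L36147 : sm ge N7526 = N3608 := ded_15_2 (flp_b L17317) (flp_e L17309) L36145
theorem L36149 : sm gb N3607 = N7527 := rfl
theorem L36151 : sm ge N7527 = N3609 := ded_15_2 (flp_b L17319) (flp_e L17315) L36149
theorem L36153 : sm ga N3608 = N7528 := rfl
theorem L36155 : sm gb N7528 = N6909 := ded_7_2 L33334 L16032 L9921 (flp_b L8569) L8575 (flp_b L8493) (flp_a L8439) L17317 L36153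
theorem L36157 : sm gc N3608 = N7529 := rfl
theorem L36159 : sm gg N3608 = N7530 := rfl
theorem L36161 : sm ga N3609 = N7531 := rfl
theorem L36165 : sm gf N3609 = N7533 := rfl
theorem L36167 : sm gd N3610 = N7534 := rfl
theorem L36169 : sm gb N7534 = N4176 := ded_14_1 (flp_d L20024) (flp_b L17323) L36167
theorem L36201 : sm gf N3612 = N7540 := rfl
theorem L36209 : sm gg N7540 = N6391 := ded_29_3 L30911 (flp_f L17325) L17329 L36201
theorem L36227 : sm gg N3614 = N7545 := rfl
theorem L36231 : sm ge N7545 = N3617 := ded_26_1 (flp_g L17353) (flp_e L17341) L36227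
theorem L36235 : sm gb N3615 = N7546 := rfl
theorem L36239 : sm gg N7546 = N4187 := ded_17_2 (flp_b L20080) (flp_g L9685) (flp_b L8451) L17343 L36235
theorem L36251 : sm ga N3616 = N7548 := rfl
theorem L36259 : sm ga N3618 = N7551 := rfl
theorem L36261 : sm gg N7551 = N4192 := ded_12_2 (flp_a L20096) (flp_g L17361) L36259
theorem L36263 : sm gc N6787 = N7551 := ded_21_3 L36261 L32733 L32743
theorem L36265 : sm gc N3618 = N7552 := rfl
theorem L36267 : sm ga N7552 = N6787 := ded_8_1 L36263 (flp_a L36259) L36265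
theorem L36271 : sm gb N7552 = N3637 := ded_13_1 (flp_c L17463) (flp_b L8501) (flp_c L8461) L17359 L36265
theorem L36277 : sm gc N3620 = N7555 := rfl
theorem L36279 : sm ge N7555 = N3627 := ded_19_2 (flp_c L17419) (flp_e L17375) L36277
theorem L36293 : sm gb N3621 = N7558 := rfl
theorem L36295 : sm ge N7558 = N3623 := ded_15_2 (flp_b L17389) (flp_e L17381) L36293
theorem L36297 : sm gf N7558 = N3643 := ded_16_2 (flp_b L17493) (flp_f L8517) (flp_b L8465) L17377 L36293
theorem L36299 : sm gg N3621 = N7559 := rfl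
theorem L36301 : sm gc N7559 = N3791 := ded_21_1 (flp_g L18201) (flp_c L17379) L36299
theorem L36305 : sm gf N7520 = N7559 := ded_29_0 (flp_g L36299) (flp_f L17377) L17383 (flp_a L36115)
theorem L36307 : sm gb N3622 = N7560 := rfl
theorem L36311 : sm gg N7560 = N3644 := ded_17_2 (flp_b L17497) (flp_g L8525) (flp_b L8465) L17383 L36307
theorem L36323 : sm gc N3623 = N7562 := rfl
theorem L36327 : sm gb N7562 = N3795 := ded_13_1 (flp_c L18227) (flp_b L8849) (flp_c L8471) L17389 L36323
theorem L36337 : sm ga N3625 = N7565 := rfl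
theorem L36341 : sm gg N7565 = N3648 := ded_12_2 (flp_a L17513) (flp_g L17407) L36337
theorem L36349 : sm gf N3625 = N7567 := rfl
theorem L36357 : sm gb N3627 = N7569 := rfl
theorem L36359 : sm gc N7569 = N3651 := ded_13_2 (flp_b L17525) (flp_c L8541) (flp_b L8483) L17419 L36357
theorem L36371 : sm gb N3628 = N7573 := rfl
theorem L36373 : sm gd N7573 = N3630 := ded_14_2 (flp_b L17429) (flp_d L17423) L36371
theorem L36375 : sm gf N7573 = N3654 := ded_16_2 (flp_b L17539) (flp_f L8545) (flp_b L8483) L17421 L36371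
theorem L36383 : sm gb N3629 = N7575 := rfl
theorem L36385 : sm gd N7575 = N3632 := ded_14_2 (flp_b L17441) (flp_d L17427) L36383
theorem L36387 : sm gg N7575 = N3655 := ded_17_2 (flp_b L17543) (flp_g L8551) (flp_b L8483) L17425 L36383
theorem L36389 : sm gf N3629 = N7576 := rfl
theorem L36393 : sm gd N7576 = N3633 := ded_23_1 (flp_f L17447) (flp_d L17427) L36389
theorem L36395 : sm gg N7576 = N7524 := ded_29_3 L36135 (flp_f L17421) L17425 L36389
theorem L36405 : sm ga N3632 = N7579 := rfl
theorem L36407 : sm ge N7579 = N3636 := ded_10_2 (flp_a L17459) (flp_e L17443) L36405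
theorem L36409 : sm gg N7579 = N3659 := ded_12_2 (flp_a L17567) (flp_g L17445) L36405
theorem L36411 : sm gc N3632 = N7580 := rfl
theorem L36413 : sm ge N7580 = N3637 := ded_19_2 (flp_c L17463) (flp_e L17443) L36411
theorem L36415 : sm gg N7580 = N3660 := ded_21_2 (flp_c L17571) (flp_g L17445) L36411
theorem L36417 : sm gf N3632 = N7581 := rfl
theorem L36425 : sm gb N3634 = N7583 := rfl
theorem L36429 : sm ga N3635 = N7584 := rfl
theorem L36437 : sm gb N3636 = N7587 := rfl
theorem L36439 : sm gc N3636 = N7588 := rfl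
theorem L36441 : sm ga N7588 = N3637 := ded_8_1 (flp_c L17463) L17459 L36439
theorem L36443 : sm gg N7588 = N3667 := ded_21_2 (flp_c L17611) (flp_g L17461) L36439
theorem L36449 : sm gf N3637 = N7590 := rfl
theorem L36457 : sm ga N3639 = N7592 := rfl
theorem L36461 : sm gg N3639 = N7594 := rfl
theorem L36463 : sm gb N7594 = N7530 := ded_17_1 (flp_g L36159) (flp_b L17317) (flp_g L8509) L17469 L36461
theorem L36465 : sm gf N7594 = N5910 := ded_31_1 (flp_b L28656) (flp_g L28180) (flp_f L28174) (flp_b L18105) (flp_g L18101) L8803 (flp_b L4499) L2330 (flp_f L2270) L2256 L4343 L8505 L17469 L36461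
theorem L36467 : sm gc N5914 = N7594 := ded_20_3 L36465 L28658 L28668
theorem L36469 : sm ga N4036 = N7594 := ded_30_19 L36465 L28658 (flp_b L13848) L6773 L3470 (flp_c L1772) (flp_b L877) L393 (flp_f L385) L301 L321 L717 L1278 L2512 (flp_b L4715) (flp_a L9339) L19347 L19351 L19355
theorem L36473 : sm gg N7592 = N4036 := ded_12_0 L36469 (flp_g L36461) L36457
theorem L36475 : sm gb N3640 = N7595 := rfl
theorem L36477 : sm ge N7595 = N3651 := ded_15_2 (flp_b L17525) (flp_e L17475) L36475
theorem L36479 : sm gd N3640 = N7596 := rfl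
theorem L36481 : sm ga N7596 = N3673 := ded_9_1 (flp_d L17641) (flp_a L17473) L36479
theorem L36484 : sm gf N3640 = N7597 := rfl
theorem L36486 : sm ga N7597 = N3674 := ded_11_1 (flp_f L17644) (flp_a L17473) L36484
theorem L36488 : sm gc N7597 = N3641 := ded_20_1 (flp_f L17477) L17471 L36484
theorem L36490 : sm ge N7597 = N3652 := ded_25_1 (flp_f L17527) (flp_e L17475) L36484
theorem L36492 : sm gg N3640 = N7598 := rfl
theorem L36494 : sm ga N7598 = N3675 := ded_12_1 (flp_g L17650) (flp_a L17473) L36492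
theorem L36496 : sm gc N7598 = N3642 := ded_21_1 (flp_g L17485) L17471 L36492
theorem L36498 : sm ge N7598 = N3653 := ded_26_1 (flp_g L17533) (flp_e L17475) L36492
theorem L36500 : sm gb N3641 = N7599 := rfl
theorem L36502 : sm gd N7599 = N3643 := ded_14_2 (flp_b L17493) (flp_d L17481) L36500
theorem L36504 : sm ge N7599 = N3654 := ded_15_2 (flp_b L17539) (flp_e L17483) L36500
theorem L36506 : sm gb N3642 = N7600 := rfl
theorem L36508 : sm gd N7600 = N3644 := ded_14_2 (flp_b L17497) (flp_d L17489) L36506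
theorem L36510 : sm ge N7600 = N3655 := ded_15_2 (flp_b L17543) (flp_e L17491) L36506
theorem L36512 : sm ga N3643 = N7601 := rfl
theorem L36514 : sm ge N7601 = N3645 := ded_10_2 (flp_a L17501) (flp_e L17495) L36512
theorem L36516 : sm gc N3643 = N7602 := rfl
theorem L36518 : sm ge N7602 = N3646 := ded_19_2 (flp_c L17505) (flp_e L17495) L36516
theorem L36522 : sm gg N3643 = N7603 := rfl
theorem L36524 : sm ge N7603 = N3647 := ded_26_1 (flp_g L17509) (flp_e L17495) L36522
theorem L36526 : sm ga N3644 = N7604 := rfl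
theorem L36528 : sm ge N7604 = N3648 := ded_10_2 (flp_a L17513) (flp_e L17499) L36526
theorem L36530 : sm gc N3644 = N7605 := rfl
theorem L36534 : sm gb N7605 = N3685 := ded_13_1 (flp_c L17716) (flp_b L8615) (flp_c L8529) L17497 L36530
theorem L36536 : sm gf N3644 = N7606 := rfl
theorem L36538 : sm ge N7606 = N3650 := ded_25_1 (flp_f L17521) (flp_e L17499) L36536
theorem L36540 : sm gb N3645 = N7607 := rfl
theorem L36542 : sm gd N7607 = N3662 := ded_14_2 (flp_b L17581) (flp_d L17503) L36540
theorem L36560 : sm gg N3646 = N7611 := rfl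
theorem L36562 : sm gc N7611 = N3647 := ded_21_1 (flp_g L17509) L17505 L36560
theorem L36576 : sm gc N3648 = N7614 := rfl
theorem L36578 : sm ga N7614 = N3649 := ded_8_1 (flp_c L17517) L17513 L36576
theorem L36580 : sm gf N3648 = N7615 := rfl
theorem L36586 : sm gg N7567 = N7615 := ded_29_1 (flp_f L36580) (flp_g L36341) (flp_a L36337) L36349
theorem L36588 : sm gd N3649 = N7616 := rfl
theorem L36590 : sm gb N7616 = N3698 := ded_14_1 (flp_d L17776) (flp_b L17519) L36588
theorem L36592 : sm gf N3649 = N7617 := rfl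
theorem L36594 : sm gc N7617 = N3650 := ded_20_1 (flp_f L17521) L17517 L36592
theorem L36596 : sm gg N3650 = N7618 := rfl
theorem L36600 : sm gd N7618 = N3671 := ded_24_1 (flp_g L17629) (flp_d L17523) L36596
theorem L36604 : sm ga N3651 = N7619 := rfl
theorem L36606 : sm gf N3651 = N7620 := rfl
theorem L36608 : sm gg N3651 = N7621 := rfl
theorem L36610 : sm gb N3652 = N7622 := rfl
theorem L36612 : sm gb N3653 = N7623 := rfl
theorem L36614 : sm ga N3654 = N7624 := rfl
theorem L36618 : sm gc N3654 = N7625 := rfl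
theorem L36620 : sm gg N3654 = N7626 := rfl
theorem L36624 : sm ga N3655 = N7627 := rfl
theorem L36626 : sm gd N7627 = N3659 := ded_9_2 (flp_a L17567) (flp_d L17545) L36624
theorem L36628 : sm gc N3655 = N7628 := rfl
theorem L36630 : sm gf N3655 = N7629 := rfl
theorem L36632 : sm gd N7629 = N3661 := ded_23_1 (flp_f L17577) (flp_d L17545) L36630
theorem L36650 : sm gd N3657 = N7632 := rfl
theorem L36652 : sm ga N7632 = N7573 := ded_9_1 L36373 (flp_a L17555) L36650
theorem L36654 : sm gb N7632 = N4279 := ded_14_1 (flp_d L20591) (flp_b L17561) L36650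
theorem L36668 : sm gb N3659 = N7634 := rfl
theorem L36670 : sm ge N7634 = N3666 := ded_15_2 (flp_b L17609) (flp_e L17569) L36668
theorem L36672 : sm gc N3659 = N7635 := rfl
theorem L36674 : sm ga N7635 = N3660 := ded_8_1 (flp_c L17571) L17567 L36672
theorem L36678 : sm gf N3659 = N7636 := rfl
theorem L36680 : sm ga N7636 = N3661 := ded_11_1 (flp_f L17577) L17567 L36678
theorem L36684 : sm gg N7581 = N7636 := ded_29_1 (flp_f L36678) (flp_g L36409) (flp_a L36405) L36417
theorem L36690 : sm gf N3660 = N7638 := rfl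
theorem L36692 : sm gc N7638 = N3661 := ded_20_1 (flp_f L17577) L17571 L36690
theorem L36696 : sm gg N3661 = N7639 := rfl
theorem L36698 : sm ga N7639 = N7581 := ded_12_1 L36684 L36680 L36696
theorem L36700 : sm ge N7639 = N3671 := ded_26_1 (flp_g L17629) (flp_e L17579) L36696
theorem L36704 : sm ga N3662 = N7640 := rfl
theorem L36706 : sm gc N7640 = N7548 := ded_8_2 (flp_a L36251) (flp_c L17583) L36704
theorem L36710 : sm gb N7640 = N3739 := ded_7_2 (flp_a L17976) (flp_b L8751) (flp_a L4473) (flp_b L2310) (flp_a L2272) L4387 L8565 L17581 L36704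
theorem L36716 : sm gb N3663 = N7642 := rfl
theorem L36718 : sm gf N4081 = N7642 := ded_31_1 (flp_b L36716) (flp_g L17585) L8571 L8569 L9931 L20677 (flp_b L33455) (flp_g L33453) (flp_f L19589) (flp_b L19587) L9447 L9411 L9421 L19549
theorem L36734 : sm gb N3665 = N7645 := rfl
theorem L36736 : sm gg N7645 = N4294 := ded_17_2 (flp_b L20675) (flp_g L9931) (flp_b L8569) L17601 L36734
theorem L36738 : sm ga N3666 = N7646 := rfl
theorem L36740 : sm gb N7646 = N3758 := ded_7_2 (flp_a L18049) (flp_b L8783) (flp_a L4487) (flp_b L2320) (flp_a L2278) L4389 L8579 L17609 L36738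
theorem L36754 : sm gf N3667 = N7652 := rfl
theorem L36756 : sm ga N7652 = N3670 := ded_11_1 (flp_f L17625) (flp_a L17613) L36754
theorem L36760 : sm gg N7590 = N7652 := ded_29_1 (flp_f L36754) (flp_g L36443) L36441 L36449
theorem L36762 : sm gb N3668 = N7653 := rfl
theorem L36774 : sm gb N3670 = N7657 := rfl
theorem L36776 : sm gf N7657 = N4303 := ded_16_2 (flp_b L20713) (flp_f L9955) (flp_b L8583) L17625 L36774
theorem L36778 : sm gg N3670 = N7658 := rfl
theorem L36780 : sm ga N7658 = N7590 := ded_12_1 L36760 L36756 L36778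
theorem L36782 : sm gc N7658 = N3671 := ded_21_1 (flp_g L17629) (flp_c L17627) L36778
theorem L36786 : sm gb N3671 = N7659 := rfl
theorem L36788 : sm ga N3672 = N7660 := rfl
theorem L36790 : sm gc N7660 = N3826 := ded_8_2 (flp_a L18389) (flp_c L17639) L36788
theorem L36792 : sm ge N7660 = N3704 := ded_10_2 (flp_a L17804) (flp_e L17637) L36788
theorem L36794 : sm gd N3672 = N7661 := rfl
theorem L36796 : sm gb N7661 = N3673 := ded_14_1 (flp_d L17641) L17635 L36794
theorem L36798 : sm gf N3672 = N7662 := rfl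
theorem L36800 : sm gc N7662 = N3828 := ded_20_1 (flp_f L18397) (flp_c L17639) L36798
theorem L36802 : sm ge N7662 = N3706 := ded_25_1 (flp_f L17812) (flp_e L17637) L36798
theorem L36804 : sm gg N3672 = N7663 := rfl
theorem L36806 : sm gc N7663 = N3829 := ded_21_1 (flp_g L18401) (flp_c L17639) L36804
theorem L36808 : sm ge N7663 = N3707 := ded_26_1 (flp_g L17816) (flp_e L17637) L36804
theorem L36810 : sm ge N3673 = N7664 := rfl
theorem L36813 : sm gd N7664 = N3708 := ded_22_1 (flp_e L17820) (flp_d L8671) (flp_e L8589) L17641 L36810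
theorem L36815 : sm gf N3673 = N7665 := rfl
theorem L36817 : sm gc N7665 = N7665 := ded_20_1 (flp_f L36815) L17643 L36815
theorem L36818 : sm gd N7665 = N3674 := ded_23_1 (flp_f L17644) L17641 L36815
theorem L36820 : sm gg N3673 = N7666 := rfl
theorem L36822 : sm gc N7666 = N7666 := ded_21_1 (flp_g L36820) L17643 L36820
theorem L36823 : sm gd N7666 = N3675 := ded_24_1 (flp_g L17650) L17641 L36820
theorem L36825 : sm gb N3674 = N7667 := rfl
theorem L36827 : sm ge N7667 = N3711 := ded_15_2 (flp_b L17830) (flp_e L17648) L36825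
theorem L36829 : sm gg N3674 = N7668 := rfl
theorem L36831 : sm gc N7668 = N3677 := ded_21_1 (flp_g L17664) (flp_c L17646) L36829
theorem L36833 : sm ge N7668 = N3712 := ded_26_1 (flp_g L17832) (flp_e L17648) L36829
theorem L36835 : sm gf N7598 = N7668 := ded_29_0 (flp_g L36829) (flp_f L17644) L17650 (flp_a L36494)
theorem L36837 : sm gb N3675 = N7669 := rfl
theorem L36839 : sm ge N7669 = N3713 := ded_15_2 (flp_b L17838) (flp_e L17654) L36837
theorem L36841 : sm gf N3675 = N7670 := rfl
theorem L36843 : sm ga N7670 = N7668 := ded_11_1 (flp_f L36835) L36494 L36841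
theorem L36845 : sm gc N7670 = N3679 := ded_20_1 (flp_f L17680) (flp_c L17652) L36841
theorem L36847 : sm ge N7670 = N3714 := ded_25_1 (flp_f L17840) (flp_e L17654) L36841
theorem L36849 : sm gg N7670 = N7597 := ded_29_3 L36486 (flp_f L17644) L17650 L36841
theorem L36851 : sm ga N3676 = N7671 := rfl
theorem L36853 : sm gd N7671 = N3680 := ded_9_2 (flp_a L17690) (flp_d L17658) L36851
theorem L36855 : sm ge N7671 = N3715 := ded_10_2 (flp_a L17848) (flp_e L17660) L36851
theorem L36857 : sm gf N7671 = N3836 := ded_11_2 (flp_a L18439) (flp_f L17662) L36851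
theorem L36859 : sm gc N3676 = N7672 := rfl
theorem L36861 : sm ge N7672 = N3716 := ded_19_2 (flp_c L17854) (flp_e L17660) L36859
theorem L36863 : sm gf N7672 = N3837 := ded_20_2 (flp_c L18445) (flp_f L17662) L36859
theorem L36865 : sm gg N3676 = N7673 := rfl
theorem L36867 : sm gd N7673 = N3682 := ded_24_1 (flp_g L17702) (flp_d L17658) L36865
theorem L36869 : sm ge N7673 = N3717 := ded_26_1 (flp_g L17858) (flp_e L17660) L36865
theorem L36871 : sm gb N3677 = N7674 := rfl
theorem L36873 : sm gd N7674 = N3683 := ded_14_2 (flp_b L17706) (flp_d L17666) L36871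
theorem L36875 : sm ge N7674 = N3718 := ded_15_2 (flp_b L17862) (flp_e L17668) L36871
theorem L36877 : sm ga N3678 = N7675 := rfl
theorem L36881 : sm ge N7675 = N3719 := ded_10_2 (flp_a L17866) (flp_e L17676) L36877
theorem L36883 : sm gg N7675 = N3840 := ded_12_2 (flp_a L18461) (flp_g L17678) L36877
theorem L36885 : sm gc N3678 = N7676 := rfl
theorem L36887 : sm ge N7676 = N3720 := ded_19_2 (flp_c L17872) (flp_e L17676) L36885
theorem L36889 : sm gg N7676 = N3841 := ded_21_2 (flp_c L18467) (flp_g L17678) L36885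
theorem L36891 : sm gf N3678 = N7677 := rfl
theorem L36893 : sm gd N7677 = N3686 := ded_23_1 (flp_f L17722) (flp_d L17674) L36891
theorem L36895 : sm ge N7677 = N3721 := ded_25_1 (flp_f L17876) (flp_e L17676) L36891
theorem L36897 : sm gb N3679 = N7678 := rfl
theorem L36899 : sm gd N7678 = N3687 := ded_14_2 (flp_b L17726) (flp_d L17684) L36897
theorem L36901 : sm ge N7678 = N3722 := ded_15_2 (flp_b L17880) (flp_e L17686) L36897
theorem L36907 : sm gc N3680 = N7680 := rfl
theorem L36909 : sm ga N7680 = N3681 := ded_8_1 (flp_c L17696) L17690 L36907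
theorem L36913 : sm gf N7680 = N3845 := ded_20_2 (flp_c L18487) (flp_f L17694) L36907
theorem L36915 : sm gd N3681 = N7681 := rfl
theorem L36917 : sm gf N7681 = N3847 := ded_23_2 (flp_d L18501) (flp_f L17700) L36915
theorem L36925 : sm gb N3682 = N7683 := rfl
theorem L36929 : sm gg N7683 = N3683 := ded_17_2 (flp_b L17706) (flp_g L8609) L8603 L17702 L36925
theorem L36931 : sm ga N3683 = N7684 := rfl
theorem L36933 : sm ge N7684 = N3693 := ded_10_2 (flp_a L17754) (flp_e L17708) L36931
theorem L36935 : sm gc N3683 = N7685 := rfl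
theorem L36949 : sm gc N3684 = N7688 := rfl
theorem L36951 : sm ga N7688 = N3685 := ded_8_1 (flp_c L17716) L17710 L36949
theorem L36955 : sm gg N7688 = N3855 := ded_21_2 (flp_c L18541) (flp_g L17714) L36949
theorem L36957 : sm gd N3685 = N7689 := rfl
theorem L36959 : sm gg N7689 = N3857 := ded_24_2 (flp_d L18555) (flp_g L17720) L36957
theorem L36961 : sm gf N3685 = N7690 := rfl
theorem L36963 : sm gc N7690 = N3686 := ded_20_1 (flp_f L17722) L17716 L36961
theorem L36965 : sm ge N7690 = N3699 := ded_25_1 (flp_f L17780) (flp_e L17718) L36961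
theorem L36967 : sm gb N3686 = N7691 := rfl
theorem L36969 : sm ge N7691 = N3700 := ded_15_2 (flp_b L17784) (flp_e L17724) L36967
theorem L36971 : sm gf N7691 = N3687 := ded_16_2 (flp_b L17726) (flp_f L8621) L8615 L17722 L36967
theorem L36973 : sm ga N3687 = N7692 := rfl
theorem L36975 : sm ge N7692 = N3701 := ded_10_2 (flp_a L17790) (flp_e L17728) L36973
theorem L36983 : sm gg N3687 = N7694 := rfl
theorem L36985 : sm ge N7694 = N3703 := ded_26_1 (flp_g L17798) (flp_e L17728) L36983
theorem L36987 : sm gb N7694 = N7603 := ded_17_1 (flp_g L36522) (flp_b L17493) (flp_g L8629) L17726 L36983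
theorem L36995 : sm gf N3688 = N7697 := rfl
theorem L36997 : sm gd N7697 = N3741 := ded_23_1 (flp_f L17980) (flp_d L17732) L36995
theorem L36999 : sm gb N7697 = N3866 := ded_16_1 (flp_f L18597) (flp_b L9009) (flp_f L8635) L17730 L36995
theorem L37007 : sm gd N3689 = N7700 := rfl
theorem L37009 : sm ga N7700 = N3690 := ded_9_1 (flp_d L17740) (flp_a L17736) L37007
theorem L37027 : sm ga N3692 = N7705 := rfl
theorem L37029 : sm gd N7705 = N3749 := ded_9_2 (flp_a L18013) (flp_d L17750) L37027
theorem L37031 : sm gg N7705 = N3693 := ded_12_2 (flp_a L17754) (flp_g L17752) L37027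
theorem L37041 : sm gb N3693 = N7708 := rfl
theorem L37043 : sm gd N7708 = N3752 := ded_14_2 (flp_b L18023) (flp_d L17756) L37041
theorem L37049 : sm gf N3693 = N7710 := rfl
theorem L37051 : sm ga N7710 = N3695 := ded_11_1 (flp_f L17760) L17754 L37049
theorem L37053 : sm gd N7710 = N3754 := ded_23_1 (flp_f L18029) (flp_d L17756) L37049
theorem L37063 : sm gg N3695 = N7713 := rfl
theorem L37077 : sm gf N3696 = N7716 := rfl
theorem L37079 : sm gd N7716 = N3760 := ded_23_1 (flp_f L18053) (flp_d L17768) L37077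
theorem L37081 : sm gg N3696 = N7717 := rfl
theorem L37085 : sm gb N7717 = N3890 := ded_17_1 (flp_g L18699) (flp_b L9057) (flp_g L8653) L17766 L37081
theorem L37089 : sm gd N3697 = N7719 := rfl
theorem L37091 : sm ga N7719 = N3698 := ded_9_1 (flp_d L17776) (flp_a L17772) L37089
theorem L37093 : sm gg N7719 = N3892 := ded_24_2 (flp_d L18705) (flp_g L17774) L37089
theorem L37095 : sm gc N3698 = N7720 := rfl
theorem L37097 : sm gg N7720 = N3895 := ded_21_2 (flp_c L18721) (flp_g L17778) L37095
theorem L37109 : sm ga N3700 = N7724 := rfl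
theorem L37111 : sm gd N7724 = N3768 := ded_9_2 (flp_a L18089) (flp_d L17786) L37109
theorem L37113 : sm gf N7724 = N3701 := ded_11_2 (flp_a L17790) (flp_f L17788) L37109
theorem L37119 : sm gg N3700 = N7726 := rfl
theorem L37121 : sm gd N7726 = N3770 := ded_24_1 (flp_g L18101) (flp_d L17786) L37119
theorem L37129 : sm gc N3701 = N7728 := rfl
theorem L37131 : sm ga N7728 = N3702 := ded_8_1 (flp_c L17794) L17790 L37129
theorem L37157 : sm gb N3704 = N7733 := rfl
theorem L37159 : sm gd N3704 = N7734 := rfl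
theorem L37161 : sm ga N7734 = N3705 := ded_9_1 (flp_d L17808) L17804 L37159
theorem L37163 : sm gf N3704 = N7735 := rfl
theorem L37165 : sm ga N7735 = N3706 := ded_11_1 (flp_f L17812) L17804 L37163
theorem L37167 : sm gc N7735 = N3911 := ded_20_1 (flp_f L18789) (flp_c L17806) L37163
theorem L37169 : sm gg N3704 = N7736 := rfl
theorem L37171 : sm ga N7736 = N3707 := ded_12_1 (flp_g L17816) L17804 L37169
theorem L37173 : sm gc N7736 = N3912 := ded_21_1 (flp_g L18793) (flp_c L17806) L37169
theorem L37175 : sm gc N3705 = N7737 := rfl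
theorem L37177 : sm ge N3705 = N7738 := rfl
theorem L37179 : sm gb N7738 = N3708 := ded_15_1 (flp_e L17820) (flp_b L17810) L37177
theorem L37181 : sm gf N3705 = N7739 := rfl
theorem L37183 : sm gd N7739 = N3706 := ded_23_1 (flp_f L17812) L17808 L37181
theorem L37185 : sm gg N3705 = N7740 := rfl
theorem L37187 : sm gd N7740 = N3707 := ded_24_1 (flp_g L17816) L17808 L37185
theorem L37189 : sm gb N3706 = N7741 := rfl
theorem L37191 : sm gf N7741 = N3711 := ded_16_2 (flp_b L17830) (flp_f L8673) L8667 L17812 L37189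
theorem L37193 : sm gg N3706 = N7742 := rfl
theorem L37195 : sm gc N7742 = N3914 := ded_21_1 (flp_g L18801) (flp_c L17814) L37193
theorem L37197 : sm gf N7736 = N7742 := ded_29_0 (flp_g L37193) (flp_f L17812) L17816 (flp_a L37171)
theorem L37199 : sm gb N3707 = N7743 := rfl
theorem L37201 : sm gg N7743 = N3713 := ded_17_2 (flp_b L17838) (flp_g L8677) L8667 L17816 L37199
theorem L37203 : sm gf N3707 = N7744 := rfl
theorem L37205 : sm ga N7744 = N7742 := ded_11_1 (flp_f L37197) L37171 L37203
theorem L37207 : sm gc N7744 = N3916 := ded_20_1 (flp_f L18809) (flp_c L17818) L37203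
theorem L37209 : sm gg N7744 = N7735 := ded_29_3 L37165 (flp_f L17812) L17816 L37203
theorem L37211 : sm gf N3708 = N7745 := rfl
theorem L37213 : sm ge N7745 = N3709 := ded_25_1 (flp_f L17822) L17820 L37211
theorem L37215 : sm gg N3708 = N7746 := rfl
theorem L37217 : sm ge N7746 = N3710 := ded_26_1 (flp_g L17826) L17820 L37215
theorem L37219 : sm gb N3709 = N7747 := rfl
theorem L37221 : sm gd N7747 = N3711 := ded_14_2 (flp_b L17830) (flp_d L17824) L37219
theorem L37223 : sm gg N3709 = N7748 := rfl
theorem L37225 : sm gc N7748 = N4394 := ded_21_1 L21197 L20533 L37223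
theorem L37227 : sm gd N7748 = N3712 := ded_24_1 (flp_g L17832) (flp_d L17824) L37223
theorem L37229 : sm gf N4388 = N7748 := ded_29_0 (flp_g L37223) (flp_f L17822) L17826 (flp_a L21163)
theorem L37231 : sm gb N3710 = N7749 := rfl
theorem L37233 : sm gd N7749 = N3713 := ded_14_2 (flp_b L17838) (flp_d L17828) L37231
theorem L37235 : sm gf N3710 = N7750 := rfl
theorem L37237 : sm ga N7750 = N7748 := ded_11_1 (flp_f L37229) L21163 L37235
theorem L37239 : sm gc N7750 = N4392 := ded_20_1 (flp_f L21185) L20541 L37235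
theorem L37241 : sm gd N7750 = N3714 := ded_23_1 (flp_f L17840) (flp_d L17828) L37235
theorem L37243 : sm gg N7750 = N4387 := ded_29_3 L21155 (flp_f L17822) L17826 L37235
theorem L37245 : sm ga N3711 = N7751 := rfl
theorem L37247 : sm gc N3711 = N7752 := rfl
theorem L37249 : sm gb N7752 = N3716 := ded_13_1 (flp_c L17854) (flp_b L8681) (flp_c L8675) L17830 L37247
theorem L37251 : sm gg N3711 = N7753 := rfl
theorem L37253 : sm gb N3712 = N7754 := rfl
theorem L37255 : sm ga N3713 = N7755 := rfl
theorem L37257 : sm gc N3713 = N7756 := rfl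
theorem L37259 : sm gb N7756 = N3720 := ded_13_1 (flp_c L17872) (flp_b L8693) (flp_c L8679) L17838 L37257
theorem L37261 : sm gf N3713 = N7757 := rfl
theorem L37263 : sm gb N3714 = N7758 := rfl
theorem L37265 : sm gb N3715 = N7759 := rfl
theorem L37267 : sm gd N7759 = N3723 := ded_14_2 (flp_b L17884) (flp_d L17850) L37265
theorem L37269 : sm gc N3715 = N7760 := rfl
theorem L37271 : sm ga N7760 = N3716 := ded_8_1 (flp_c L17854) L17848 L37269
theorem L37273 : sm gf N7760 = N3926 := ded_20_2 (flp_c L18841) (flp_f L17852) L37269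
theorem L37275 : sm gd N3716 = N7761 := rfl
theorem L37277 : sm gf N7761 = N3928 := ded_23_2 (flp_d L18853) (flp_f L17856) L37275
theorem L37279 : sm gg N3716 = N7762 := rfl
theorem L37281 : sm gc N7762 = N3717 := ded_21_1 (flp_g L17858) L17854 L37279
theorem L37283 : sm gb N3717 = N7763 := rfl
theorem L37287 : sm gg N7763 = N3718 := ded_17_2 (flp_b L17862) (flp_g L8687) L8681 L17858 L37283
theorem L37289 : sm ga N3718 = N7764 := rfl
theorem L37293 : sm gc N3718 = N7765 := rfl
theorem L37295 : sm gf N3718 = N7766 := rfl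
theorem L37301 : sm gb N3719 = N7767 := rfl
theorem L37305 : sm gc N3719 = N7768 := rfl
theorem L37307 : sm ga N7768 = N3720 := ded_8_1 (flp_c L17872) L17866 L37305
theorem L37309 : sm gg N7768 = N3936 := ded_21_2 (flp_c L18889) (flp_g L17870) L37305
theorem L37311 : sm gd N3720 = N7769 := rfl
theorem L37313 : sm gg N7769 = N3938 := ded_24_2 (flp_d L18901) (flp_g L17874) L37311
theorem L37315 : sm gf N3720 = N7770 := rfl
theorem L37317 : sm gc N7770 = N3721 := ded_20_1 (flp_f L17876) L17872 L37315
theorem L37319 : sm gb N3721 = N7771 := rfl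
theorem L37321 : sm gd N7771 = N3735 := ded_14_2 (flp_b L17954) (flp_d L17878) L37319
theorem L37323 : sm gf N7771 = N3722 := ded_16_2 (flp_b L17880) (flp_f L8699) L8693 L17876 L37319
theorem L37325 : sm ga N3722 = N7772 := rfl
theorem L37329 : sm gc N3722 = N7773 := rfl
theorem L37331 : sm gg N3722 = N7774 := rfl
theorem L37333 : sm gd N7774 = N3738 := ded_24_1 (flp_g L17970) (flp_d L17882) L37331
theorem L37335 : sm gb N7774 = N7626 := ded_17_1 (flp_g L36620) (flp_b L17539) (flp_g L8705) L17880 L37331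
theorem L37337 : sm ga N3723 = N7775 := rfl
theorem L37339 : sm ge N7775 = N3739 := ded_10_2 (flp_a L17976) (flp_e L17886) L37337
theorem L37355 : sm gg N3723 = N7778 := rfl
theorem L37357 : sm ge N7778 = N3742 := ded_26_1 (flp_g L17984) (flp_e L17886) L37355
theorem L37359 : sm gb N3724 = N7779 := rfl
theorem L37361 : sm ge N7779 = N3743 := ded_15_2 (flp_b L17986) (flp_e L17892) L37359
theorem L37363 : sm ga N7779 = N7779 := ded_7_1 (flp_b L37359) L17890 L8719 (flp_a L10230) L10236 L10230 (flp_b L8719) (flp_a L17890) L37359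
theorem L37364 : sm gd N3724 = N7780 := rfl
theorem L37366 : sm ga N7780 = N3725 := ded_9_1 (flp_d L17896) (flp_a L17890) L37364
theorem L37368 : sm gf N7780 = N3950 := ded_23_2 (flp_d L18953) (flp_f L17894) L37364
theorem L37370 : sm gc N3725 = N7781 := rfl
theorem L37372 : sm gf N7781 = N3953 := ded_20_2 (flp_c L18971) (flp_f L17900) L37370
theorem L37374 : sm ge N3725 = N7782 := rfl
theorem L37376 : sm gb N7782 = N4423 := ded_15_1 (flp_e L21317) (flp_b L17898) L37374
theorem L37378 : sm gf N7782 = N3954 := ded_25_2 (flp_e L18973) (flp_f L17900) L37374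
theorem L37380 : sm gd N7782 = N3746 := ded_22_1 (flp_e L17999) (flp_d L8759) (flp_e L8715) L17896 L37374
theorem L37382 : sm gg N3725 = N7783 := rfl
theorem L37384 : sm gd N7783 = N3726 := ded_24_1 (flp_g L17902) L17896 L37382
theorem L37386 : sm gb N3726 = N7784 := rfl
theorem L37388 : sm ge N7784 = N3748 := ded_15_2 (flp_b L18009) (flp_e L17906) L37386
theorem L37390 : sm gg N7784 = N4425 := ded_17_2 (flp_b L21327) (flp_g L10241) (flp_b L8719) L17902 L37386
theorem L37392 : sm ga N3727 = N7785 := rfl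
theorem L37394 : sm ge N7785 = N3749 := ded_10_2 (flp_a L18013) (flp_e L17910) L37392
theorem L37408 : sm gb N3728 = N7788 := rfl
theorem L37410 : sm ge N7788 = N3752 := ded_15_2 (flp_b L18023) (flp_e L17916) L37408
theorem L37426 : sm gd N3729 = N7791 := rfl
theorem L37428 : sm gb N7791 = N4431 := ded_14_1 (flp_d L21363) (flp_b L17922) L37426
theorem L37430 : sm gf N3729 = N7792 := rfl
theorem L37432 : sm gc N7792 = N3730 := ded_20_1 (flp_f L17924) L17918 L37430
theorem L37436 : sm gg N3730 = N7793 := rfl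
theorem L37442 : sm gf N7785 = N7793 := ded_29_0 (flp_g L37436) (flp_f L17924) (flp_g L17912) L37392
theorem L37448 : sm gc N3731 = N7795 := rfl
theorem L37450 : sm ge N7795 = N3759 := ded_19_2 (flp_c L18051) (flp_e L17932) L37448
theorem L37452 : sm gg N3972 = N7795 := ded_26_0 L37450 L20355 (flp_e L19075)
theorem L37454 : sm gf N3731 = N7796 := rfl
theorem L37456 : sm ge N7796 = N3760 := ded_25_1 (flp_f L18053) (flp_e L17932) L37454
theorem L37458 : sm gg N3731 = N7797 := rfl
theorem L37460 : sm gc N7797 = N3972 := ded_21_1 L37452 (flp_c L37448) L37458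
theorem L37464 : sm gb N7797 = N3969 := ded_17_1 L20337 (flp_b L9217) (flp_g L8733) L17930 L37458
theorem L37466 : sm gb N3732 = N7798 := rfl
theorem L37468 : sm ge N7798 = N3762 := ded_15_2 (flp_b L18059) (flp_e L17938) L37466
theorem L37470 : sm gd N3732 = N7799 := rfl
theorem L37472 : sm ga N7799 = N3733 := ded_9_1 (flp_d L17942) (flp_a L17936) L37470
theorem L37474 : sm gg N7799 = N3973 := ded_24_2 (flp_d L19077) (flp_g L17940) L37470
theorem L37476 : sm gc N3733 = N7800 := rfl
theorem L37478 : sm gg N7800 = N3976 := ded_21_2 (flp_c L19095) (flp_g L17946) L37476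
theorem L37480 : sm ge N3733 = N7801 := rfl
theorem L37482 : sm gb N7801 = N4440 := ded_15_1 (flp_e L21410) (flp_b L17944) L37480
theorem L37484 : sm gg N7801 = N3977 := ded_26_2 (flp_e L19097) (flp_g L17946) L37480
theorem L37486 : sm gd N7801 = N3765 := ded_22_1 (flp_e L18071) (flp_d L8791) (flp_e L8737) L17942 L37480
theorem L37488 : sm gf N3733 = N7802 := rfl
theorem L37490 : sm gd N7802 = N3734 := ded_23_1 (flp_f L17948) L17942 L37488
theorem L37492 : sm gb N3734 = N7803 := rfl
theorem L37494 : sm ge N7803 = N3767 := ded_15_2 (flp_b L18081) (flp_e L17952) L37492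
theorem L37496 : sm gf N7803 = N4442 := ded_16_2 (flp_b L21420) (flp_f L10283) (flp_b L8741) L17948 L37492
theorem L37498 : sm gg N7803 = N5690 := ded_17_2 (flp_b L27532) L27548 (flp_b L27554) (flp_g L19089) L37492
theorem L37500 : sm gc N5697 = N7803 := ded_19_3 L37494 (flp_c L18087) (flp_e L27570)
theorem L37502 : sm ga N3735 = N7804 := rfl
theorem L37504 : sm ge N7804 = N3768 := ded_10_2 (flp_a L18089) (flp_e L17956) L37502
theorem L37506 : sm gf N7804 = N3736 := ded_11_2 (flp_a L17960) (flp_f L17958) L37502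
theorem L37508 : sm gc N3735 = N7805 := rfl
theorem L37512 : sm gf N7805 = N3737 := ded_20_2 (flp_c L17964) (flp_f L17958) L37508
theorem L37514 : sm gb N7805 = N5697 := ded_13_1 L37500 (flp_b L37492) L17950 L17954 L37508
theorem L37526 : sm gb N3736 = N7807 := rfl
theorem L37528 : sm ge N7807 = N3771 := ded_15_2 (flp_b L18107) (flp_e L17962) L37526
theorem L37530 : sm gc N3736 = N7808 := rfl
theorem L37532 : sm ga N7808 = N3737 := ded_8_1 (flp_c L17964) L17960 L37530
theorem L37544 : sm gd N3737 = N7810 := rfl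
theorem L37546 : sm gb N7810 = N4448 := ded_14_1 (flp_d L21458) (flp_b L17968) L37544
theorem L37548 : sm gg N3737 = N7811 := rfl
theorem L37550 : sm gc N7811 = N3738 := ded_21_1 (flp_g L17970) L17964 L37548
theorem L37554 : sm gf N3738 = N7812 := rfl
theorem L37560 : sm gg N7812 = N7804 := ded_29_3 (flp_a L37502) L17958 L17970 L37554
theorem L37562 : sm gc N3739 = N7813 := rfl
theorem L37564 : sm ga N7813 = N3740 := ded_8_1 (flp_c L17978) L17976 L37562
theorem L37566 : sm gf N4001 = N7813 := ded_30_0 (flp_c L37562) (flp_b L36710) (flp_a L36704) (flp_f L20088) (flp_c L20086) (flp_b L9692) L4924 (flp_f L4922) (flp_c L2567) (flp_b L1331) (flp_a L636) L647 (flp_c L1180) L2310 L4473 L4475 L4683 L9283 L19221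
theorem L37568 : sm gb N7813 = N4933 := ded_16_1 (flp_f L23912) (flp_b L11477) L11483 (flp_b L19223) L37566
theorem L37578 : sm gg N3739 = N7815 := rfl
theorem L37580 : sm ga N7815 = N3742 := ded_12_1 (flp_g L17984) L17976 L37578
theorem L37584 : sm gb N3740 = N7816 := rfl
theorem L37586 : sm gc N7816 = N3743 := ded_13_2 (flp_b L17986) (flp_c L8753) L8751 L17978 L37584
theorem L37588 : sm gf N7816 = N3743 := ded_16_2 (flp_b L17986) L8757 L9283 (flp_f L23823) L37584
theorem L37591 : sm gd N3740 = N7817 := rfl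
theorem L37593 : sm gf N7817 = N4002 := ded_23_2 (flp_d L19225) (flp_f L23823) L37591
theorem L37599 : sm gg N3741 = N7819 := rfl
theorem L37601 : sm gc N7819 = N4004 := ded_21_1 (flp_g L19231) (flp_c L23830) L37599
theorem L37603 : sm gf N7815 = N7819 := ded_29_0 (flp_g L37599) (flp_f L17980) L17984 (flp_a L37580)
theorem L37605 : sm gf N3742 = N7820 := rfl
theorem L37611 : sm gd N3743 = N7821 := rfl
theorem L37613 : sm ga N7821 = N7821 := ded_9_1 (flp_d L37611) L17988 L37611
theorem L37614 : sm gb N7821 = N3744 := ded_14_1 (flp_d L17989) L17986 L37611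
theorem L37616 : sm gg N3743 = N7822 := rfl
theorem L37627 : sm ge N3744 = N7824 := rfl
theorem L37629 : sm ga N7824 = N3746 := ded_10_1 (flp_e L17999) (flp_a L17991) L37627
theorem L37631 : sm gf N7824 = N4006 := ded_25_2 (flp_e L19239) (flp_f L17993) L37627
theorem L37639 : sm gd N3745 = N7826 := rfl
theorem L37643 : sm gf N7826 = N4012 := ded_23_2 (flp_d L19261) (flp_f L17997) L37639
theorem L37645 : sm gc N7700 = N7826 := ded_28_0 (flp_d L37639) (flp_c L17995) (flp_d L8759) (flp_c L4477) (flp_d L4407) L8637 L17740 (flp_a L37009)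
theorem L37647 : sm ge N3745 = N7827 := rfl
theorem L37649 : sm gc N7827 = N3746 := ded_19_1 (flp_e L17999) L17995 L37647
theorem L37653 : sm gg N3745 = N7828 := rfl
theorem L37655 : sm gc N7828 = N3747 := ded_21_1 (flp_g L18005) L17995 L37653
theorem L37657 : sm gg N3746 = N7829 := rfl
theorem L37659 : sm ge N7829 = N3747 := ded_26_1 (flp_g L18005) L17999 L37657
theorem L37661 : sm gb N3747 = N7830 := rfl
theorem L37663 : sm gd N7830 = N3748 := ded_14_2 (flp_b L18009) (flp_d L18007) L37661
theorem L37665 : sm gg N7830 = N4458 := ded_17_2 (flp_b L21513) (flp_g L10341) (flp_b L8761) L18005 L37661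
theorem L37667 : sm ga N3748 = N7831 := rfl
theorem L37669 : sm gg N7831 = N4459 := ded_12_2 (flp_a L21517) (flp_g L18011) L37667
theorem L37671 : sm gf N7831 = N4968 := ded_29_0 L24079 (flp_f L21523) (flp_g L18011) L37667
theorem L37673 : sm gc N3748 = N7832 := rfl
theorem L37675 : sm gg N7832 = N4460 := ded_21_2 (flp_c L21519) (flp_g L18011) L37673
theorem L37677 : sm gb N7832 = N3750 := ded_13_1 (flp_c L18017) (flp_b L8769) (flp_c L8767) L18009 L37673
theorem L37679 : sm gf N3748 = N7833 := rfl
theorem L37681 : sm ga N7833 = N4968 := ded_11_1 (flp_f L37671) (flp_a L37667) L37679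
theorem L37685 : sm gc N3749 = N7835 := rfl
theorem L37687 : sm ga N7835 = N3750 := ded_8_1 (flp_c L18017) L18013 L37685
theorem L37689 : sm gg N7835 = N3753 := ded_21_2 (flp_c L18025) (flp_g L18015) L37685
theorem L37695 : sm gf N3750 = N7837 := rfl
theorem L37697 : sm gc N7837 = N3751 := ded_20_1 (flp_f L18021) L18017 L37695
theorem L37699 : sm ga N3752 = N7838 := rfl
theorem L37701 : sm gg N6945 = N7838 := ded_29_3 (flp_a L37699) L33540 (flp_g L33536) (flp_f L33489)
theorem L37705 : sm gg N3752 = N7840 := rfl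
theorem L37707 : sm ga N7840 = N6945 := ded_12_1 L37701 (flp_a L37699) L37705
theorem L37717 : sm gd N3753 = N7842 := rfl
theorem L37719 : sm ga N7842 = N3755 := ded_9_1 (flp_d L18035) (flp_a L18027) L37717
theorem L37721 : sm gf N3753 = N7843 := rfl
theorem L37723 : sm ga N7843 = N3756 := ded_11_1 (flp_f L18039) (flp_a L18027) L37721
theorem L37725 : sm gc N7843 = N3754 := ded_20_1 (flp_f L18029) L18025 L37721
theorem L37727 : sm gg N7837 = N7843 := ded_29_1 (flp_f L37721) (flp_g L37689) L37687 L37695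
theorem L37729 : sm gc N3755 = N7844 := rfl
theorem L37731 : sm ge N3755 = N7845 := rfl
theorem L37733 : sm gb N7845 = N4469 := ded_15_1 (flp_e L21553) (flp_b L18037) L37731
theorem L37735 : sm gf N3755 = N7846 := rfl
theorem L37737 : sm gd N7846 = N3756 := ded_23_1 (flp_f L18039) L18035 L37735
theorem L37739 : sm gb N3756 = N7847 := rfl
theorem L37741 : sm gc N7847 = N7657 := ded_13_2 (flp_b L36774) L17627 (flp_b L8781) (flp_c L18041) L37739
theorem L37743 : sm gf N7847 = N4471 := ded_16_2 (flp_b L21559) (flp_f L10377) (flp_b L8777) L18039 L37739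
theorem L37745 : sm gg N3756 = N7848 := rfl
theorem L37747 : sm ga N7848 = N7837 := ded_12_1 L37727 L37723 L37745
theorem L37751 : sm gf N7835 = N7848 := ded_29_0 (flp_g L37745) (flp_f L18039) (flp_g L18019) (flp_a L37687)
theorem L37753 : sm gb N3757 = N7849 := rfl
theorem L37755 : sm gg N7849 = N7659 := ded_17_2 (flp_b L36786) (flp_g L17629) (flp_b L8781) L18043 L37753
theorem L37757 : sm gc N3758 = N7850 := rfl
theorem L37759 : sm ga N7850 = N3759 := ded_8_1 (flp_c L18051) L18049 L37757
theorem L37761 : sm gg N4052 = N7850 := ded_12_0 L37759 L20355 L19425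
theorem L37763 : sm gf N3758 = N7851 := rfl
theorem L37765 : sm ga N7851 = N3760 := ded_11_1 (flp_f L18053) L18049 L37763
theorem L37767 : sm gg N3758 = N7852 := rfl
theorem L37769 : sm ga N7852 = N3761 := ded_12_1 (flp_g L18055) L18049 L37767
theorem L37771 : sm gc N7852 = N4052 := ded_21_1 L37761 (flp_c L37757) L37767
theorem L37773 : sm gb N3759 = N7853 := rfl
theorem L37775 : sm gc N7853 = N3762 := ded_13_2 (flp_b L18059) (flp_c L8785) L8783 L18051 L37773
theorem L37777 : sm gg N7853 = N3762 := ded_17_2 (flp_b L18059) L8789 L9371 (flp_g L20355) L37773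
theorem L37783 : sm gf N3759 = N7855 := rfl
theorem L37785 : sm gc N7855 = N3760 := ded_20_1 (flp_f L18053) L18051 L37783
theorem L37787 : sm gg N3760 = N7856 := rfl
theorem L37789 : sm gf N7852 = N7856 := ded_29_0 (flp_g L37787) (flp_f L18053) L18055 (flp_a L37769)
theorem L37791 : sm gf N3761 = N7857 := rfl
theorem L37793 : sm ga N7857 = N7856 := ded_11_1 (flp_f L37789) L37769 L37791
theorem L37797 : sm gg N7857 = N7851 := ded_29_3 L37765 (flp_f L18053) L18055 L37791
theorem L37799 : sm gb N7857 = N4290 := ded_16_1 L20665 (flp_b L20313) (flp_f L19399) (flp_b L20343) L37791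
theorem L37801 : sm gb N7851 = N6915 := ded_17_1 (flp_g L33358) L16032 L20659 (flp_b L37799) L37797
theorem L37803 : sm gb N5806 = N4000 := ded_31_8 (flp_g L23863) L23861 (flp_b L16026) L33336 L33360 (flp_b L37801) (flp_g L37797) (flp_f L37791) L20343 (flp_g L20341) L9367 L19407 (flp_g L20359) (flp_f L28166)
theorem L37805 : sm gb N6631 = N7852 := ded_31_14 (flp_g L37767) L37763 L37801 (flp_g L33358) (flp_f L16030) (flp_b L7855) L7861 L7865 L15747 L15749 L15756 L15758 L32216 (flp_f L32220)
theorem L37807 : sm gb N3993 = N4236 := ded_13_3 L20373 (flp_b L13568) L28162 L37803 L23865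
theorem L37809 : N7646 = N2063 := coi_17_4 (flp_g L20365) L32729 (flp_g L31994) L37805 (flp_g L37767) (flp_b L36740)
theorem L37810 : N7646 = N2063 := eqc rfl L37809 rfl
theorem L37811 : sm ga N2063 = N3666 := trfs L37810 (flp_a L36738) rfl
theorem L37812 : N3666 = N1014 := eqes L37811 L9945
theorem L37813 : N3666 = N1014 := eqc rfl L37812 rfl
theorem L37814 : sm gb N2063 = N3758 := trfs L37810 L36740 rfl
theorem L37815 : N3758 = N4297 := eqes L37814 L20691
theorem L37816 : N4297 = N3758 := (eqc rfl L37815 rfl).symm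
theorem L37817 : sm gb N3758 = N2063 := trfs L37816 (flp_b L20691) rfl
theorem L37819 : sm gb N1014 = N1770 := trfs L37813 (flp_b L17609) rfl
theorem L37820 : N1770 = N1771 := eqes L37819 (flp_b L8583)
theorem L37821 : N1771 = N1770 := (eqc rfl L37820 rfl).symm
theorem L37828 : sm ge N1014 = N7634 := trfs L37813 (flp_e L36670) rfl
theorem L37829 : N7634 = N2054 := eqes L37828 (flp_e L9911)
theorem L37830 : N7634 = N2054 := eqc rfl L37829 rfl
theorem L37837 : sm gb N2054 = N3659 := trfs L37830 (flp_b L36668) rfl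
theorem L37838 : N3659 = N3660 := eqes L37837 (flp_b L17575)
theorem L37839 : N3660 = N3659 := (eqc rfl L37838 rfl).symm
theorem L37840 : sm ga N3659 = N7635 := trfs L37839 (flp_a L36674) rfl
theorem L37841 : N7635 = N1766 := eqes L37840 (flp_a L17567)
theorem L37842 : N7635 = N1766 := eqc rfl L37841 rfl
theorem L37851 : sm gf N3659 = N7638 := trfs L37839 L36690 rfl
theorem L37852 : N7638 = N7636 := eqes L37851 L36678
theorem L37853 : N7638 = N7636 := eqc rfl L37852 rfl
theorem L37854 : sm gg N3659 = N7580 := trfs L37839 (flp_g L36415) rfl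
theorem L37855 : N7580 = N7579 := eqes L37854 (flp_g L36409)
theorem L37856 : N7580 = N7579 := eqc rfl L37855 rfl
theorem L37859 : sm ge N7579 = N3637 := trfs L37856 L36413 rfl
theorem L37860 : N3637 = N3636 := eqes L37859 L36407
theorem L37861 : N3637 = N3636 := eqc rfl L37860 rfl
theorem L37865 : sm gb N3636 = N7552 := trfs L37861 (flp_b L36271) rfl
theorem L37866 : N7552 = N7587 := eqes L37865 L36437
theorem L37867 : N7587 = N7552 := (eqc rfl L37866 rfl).symm
theorem L37873 : sm gf N3636 = N7590 := trfs L37861 L36449 rfl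
theorem L37874 : N7590 = N3671 := eqes L37873 L17633
theorem L37875 : N7590 = N3671 := eqc rfl L37874 rfl
theorem L37877 : sm ga N3671 = N7658 := trfs L37875 (flp_a L36780) rfl
theorem L37878 : N7658 = N3638 := eqes L37877 L17631
theorem L37879 : N7658 = N3638 := eqc rfl L37878 rfl
theorem L37882 : sm gg N3671 = N7652 := trfs L37875 L36760 rfl
theorem L37883 : N7652 = N1772 := eqes L37882 (flp_g L17629)
theorem L37884 : N7652 = N1772 := eqc rfl L37883 rfl
theorem L37885 : sm ga N1772 = N3670 := trfs L37884 L36756 rfl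
theorem L37886 : N3670 = N3668 := eqes L37885 (flp_a L17617)
theorem L37887 : N3670 = N3668 := eqc rfl L37886 rfl
theorem L37923 : sm gb N3668 = N7657 := trfs L37887 L36774 rfl
theorem L37924 : N7657 = N7653 := eqes L37923 L36762
theorem L37925 : N7657 = N7653 := eqc rfl L37924 rfl
theorem L37931 : sm gc N7653 = N7847 := trfs L37925 (flp_c L37741) rfl
theorem L37933 : sm gf N7653 = N4303 := trfs L37925 L36776 rfl
theorem L37935 : sm gc N3638 = N3671 := trfs L37879 L36782 rfl
theorem L37938 : sm gb N7552 = N3636 := trfs L37867 (flp_b L36437) rfl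
theorem L37942 : sm gc N7636 = N3661 := trfs L37853 L36692 rfl
theorem L37946 : sm gc N1766 = N3659 := trfs L37842 (flp_c L36672) rfl
theorem L37952 : sm gc N1770 = N879 := trfs L37821 (flp_c L8581) rfl
theorem L37960 : sm gb N4296 = N7850 := ded_13_5 (flp_c L37757) L37817 (flp_c L9943) L9941 L20685
theorem L37964 : sm gb N7531 = N6940 := ded_7_6 L33471 (flp_b L32745) (flp_a L36267) L37938 (flp_a L17459) (flp_b L8501) (flp_a L8443) L17319 L36161
theorem L37966 : sm gc N7616 = N7616 := ded_28_6 (flp_d L36588) (flp_a L36578) (flp_c L36576) L17515 L37952 (flp_d L8539) L17517 L36588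
theorem L37967 : sm gb N7720 = N7720 := ded_13_3 (flp_c L37095) (flp_b L36590) L37966 L36590 L37095
theorem L37968 : sm ga N3762 = N7858 := rfl
theorem L37970 : sm gd N3762 = N7859 := rfl
theorem L37972 : sm gb N7859 = N3763 := ded_14_1 (flp_d L18061) L18059 L37970
theorem L37974 : sm gf N3762 = N7860 := rfl
theorem L37976 : sm gc N3763 = N7861 := rfl
theorem L37978 : sm ga N7861 = N3764 := ded_8_1 (flp_c L18067) (flp_a L18063) L37976
theorem L37980 : sm gg N7861 = N4056 := ded_21_2 (flp_c L19435) (flp_g L18065) L37976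
theorem L37982 : sm gd N7720 = N7861 := ded_28_1 (flp_c L37976) (flp_d L18061) (flp_c L8785) (flp_d L8651) L17770 L37089 L37091 L37095
theorem L37984 : sm gb N7861 = N7861 := ded_14_1 (flp_d L37982) L37967 L37982
theorem L37985 : sm gc N7859 = N7859 := ded_13_4 L37972 L37976 L37984 (flp_c L37976) (flp_b L37972)
theorem L37986 : sm ge N3763 = N7862 := rfl
theorem L37988 : sm ga N7862 = N3765 := ded_10_1 (flp_e L18071) (flp_a L18063) L37986
theorem L37990 : sm gg N7862 = N4057 := ded_26_2 (flp_e L19441) (flp_g L18065) L37986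
theorem L38004 : sm ge N3764 = N7865 := rfl
theorem L38006 : sm gc N7865 = N3765 := ded_19_1 (flp_e L18071) L18067 L38004
theorem L38010 : sm gf N3764 = N7866 := rfl
theorem L38012 : sm gc N7866 = N3766 := ded_20_1 (flp_f L18077) L18067 L38010
theorem L38014 : sm gf N3765 = N7867 := rfl
theorem L38016 : sm ge N7867 = N3766 := ded_25_1 (flp_f L18077) L18071 L38014
theorem L38018 : sm gb N3766 = N7868 := rfl
theorem L38020 : sm gd N7868 = N3767 := ded_14_2 (flp_b L18081) (flp_d L18079) L38018
theorem L38022 : sm gf N7868 = N4488 := ded_16_2 (flp_b L21638) (flp_f L10413) (flp_b L8793) L18077 L38018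
theorem L38024 : sm gg N7868 = N5826 := ded_17_2 L28271 L28291 (flp_b L28295) (flp_g L19451) L38018
theorem L38026 : sm ga N3767 = N7869 := rfl
theorem L38028 : sm gc N7869 = N5836 := ded_8_2 L28317 L18087 L38026
theorem L38032 : sm gg N7869 = N5825 := ded_12_2 (flp_a L28263) (flp_g L18085) L38026
theorem L38036 : sm gc N3768 = N7871 := rfl
theorem L38038 : sm ga N7871 = N3769 := ded_8_1 (flp_c L18093) L18089 L38036
theorem L38040 : sm gf N7871 = N3772 := ded_20_2 (flp_c L18109) (flp_f L18091) L38036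
theorem L38042 : sm gg N7871 = N5809 := ded_21_2 L28184 L18131 L38036
theorem L38044 : sm gd N3769 = N7872 := rfl
theorem L38046 : sm gb N7872 = N5840 := ded_14_1 L28331 (flp_b L18097) L38044
theorem L38048 : sm gf N7872 = N3774 := ded_23_2 (flp_d L18119) (flp_f L18095) L38044
theorem L38052 : sm ga N3771 = N7873 := rfl
theorem L38054 : sm gf N7873 = N6916 := ded_29_0 L33364 L33409 (flp_g L33413) L38052
theorem L38056 : sm gb N7873 = N7838 := ded_7_2 (flp_a L37699) (flp_b L18023) (flp_a L8773) (flp_b L4485) (flp_a L2326) L4499 L8805 L18107 L38052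
theorem L38068 : sm gd N3772 = N7877 := rfl
theorem L38070 : sm ga N7877 = N3774 := ded_9_1 (flp_d L18119) (flp_a L18111) L38068
theorem L38072 : sm gc N3774 = N7878 := rfl
theorem L38074 : sm ge N3774 = N7879 := rfl
theorem L38076 : sm gb N7879 = N4499 := ded_15_1 (flp_e L21680) (flp_b L18121) L38074
theorem L38078 : sm gg N3774 = N7880 := rfl
theorem L38080 : sm gd N7880 = N3775 := ded_24_1 (flp_g L18123) L18119 L38078
theorem L38088 : sm gb N3776 = N7882 := rfl
theorem L38090 : sm gf N7882 = N7645 := ded_16_2 (flp_b L36734) (flp_f L17607) (flp_b L8813) L18127 L38088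
theorem L38096 : sm ge N3777 = N7884 := rfl
theorem L38098 : sm ga N7884 = N3779 := ded_10_1 (flp_e L18141) L18133 L38096
theorem L38100 : sm gb N7884 = N6993 := ded_15_1 (flp_e L33697) (flp_b L18137) L38096
theorem L38128 : sm gd N3779 = N7891 := rfl
theorem L38130 : sm gb N7891 = N3782 := ded_14_1 (flp_d L18153) (flp_b L18143) L38128
theorem L38168 : sm gc N3782 = N7898 := rfl
theorem L38170 : sm ga N7898 = N3787 := ded_8_1 (flp_c L18179) (flp_a L18155) L38168
theorem L38174 : sm gf N3782 = N7899 := rfl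
theorem L38176 : sm ga N7899 = N3788 := ded_11_1 (flp_f L18183) (flp_a L18155) L38174
theorem L38218 : sm gb N3787 = N7909 := rfl
theorem L38220 : sm ge N7909 = N6491 := ded_15_2 (flp_b L31364) (flp_e L18181) L38218
theorem L38262 : sm gf N3789 = N7916 := rfl
theorem L38268 : sm ge N7916 = N6498 := ded_25_1 (flp_f L31396) (flp_e L18193) L38262
theorem L38270 : sm gg N7916 = N7899 := ded_29_3 L38176 (flp_f L18183) L18189 L38262
theorem L38272 : sm ga N3790 = N7917 := rfl
theorem L38276 : sm gf N7917 = N3808 := ded_11_2 (flp_a L18297) (flp_f L18199) L38272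
theorem L38284 : sm gg N3790 = N7919 := rfl
theorem L38292 : sm ga N3792 = N7921 := rfl
theorem L38296 : sm gg N7921 = N3811 := ded_12_2 (flp_a L18311) (flp_g L18211) L38292
theorem L38298 : sm gc N3792 = N7922 := rfl
theorem L38300 : sm ge N7922 = N3799 := ded_19_2 (flp_c L18245) (flp_e L18209) L38298
theorem L38302 : sm gg N7922 = N3812 := ded_21_2 (flp_c L18315) (flp_g L18211) L38298
theorem L38312 : sm gb N3794 = N7925 := rfl
theorem L38314 : sm gd N7925 = N6506 := ded_14_2 (flp_b L31438) (flp_d L18223) L38312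
theorem L38316 : sm gc N3794 = N7926 := rfl
theorem L38318 : sm ga N7926 = N3795 := ded_8_1 (flp_c L18227) L18221 L38316
theorem L38320 : sm gf N7926 = N3815 := ded_20_2 (flp_c L18329) (flp_f L18225) L38316
theorem L38326 : sm gg N3795 = N7928 := rfl
theorem L38358 : sm gd N3799 = N7935 := rfl
theorem L38360 : sm gg N7935 = N3823 := ded_24_2 (flp_d L18373) (flp_g L18247) L38358
theorem L38388 : sm gd N3802 = N7942 := rfl
theorem L38390 : sm gb N7942 = N3803 := ded_14_1 (flp_d L18261) L18257 L38388
theorem L38392 : sm ge N7942 = N7215 := ded_22_2 (flp_d L34701) L16615 (flp_d L15181) (flp_e L18259) L38388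
theorem L38402 : sm gf N3803 = N7945 := rfl
theorem L38406 : sm gc N7945 = N6807 := ded_20_1 (flp_f L32828) L18267 L38402
theorem L38412 : sm gg N3803 = N7946 := rfl
theorem L38414 : sm ga N7946 = N7219 := ded_12_1 (flp_g L34719) (flp_a L18263) L38412
theorem L38466 : sm gc N3808 = N7956 := rfl
theorem L38468 : sm ga N7956 = N3809 := ded_8_1 (flp_c L18301) L18297 L38466
theorem L38470 : sm ge N7956 = N3815 := ded_19_2 (flp_c L18329) (flp_e L18299) L38466
theorem L38472 : sm gg N3808 = N7957 := rfl
theorem L38474 : sm ga N7957 = N3810 := ded_12_1 (flp_g L18307) L18297 L38472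
theorem L38478 : sm gf N7957 = N7919 := ded_29_2 (flp_g L38284) L38272 L38276 L38472
theorem L38480 : sm gd N3809 = N7958 := rfl
theorem L38482 : sm gb N7958 = N3847 := ded_14_1 (flp_d L18501) (flp_b L18305) L38480
theorem L38490 : sm gf N3810 = N7960 := rfl
theorem L38492 : sm ga N7960 = N7919 := ded_11_1 (flp_f L38478) L38474 L38490
theorem L38494 : sm ge N7960 = N3819 := ded_25_1 (flp_f L18349) (flp_e L18309) L38490
theorem L38516 : sm gd N3812 = N7964 := rfl
theorem L38518 : sm gb N7964 = N3857 := ded_14_1 (flp_d L18555) (flp_b L18319) L38516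
theorem L38526 : sm gg N3813 = N7966 := rfl
theorem L38532 : sm gf N7921 = N7966 := ded_29_0 (flp_g L38526) (flp_f L18321) (flp_g L18211) L38292
theorem L38556 : sm gg N3815 = N7973 := rfl
theorem L38562 : sm gf N7973 = N7928 := ded_29_2 (flp_g L38326) (flp_a L38318) L38320 L38556
theorem L38602 : sm gf N3820 = N7983 := rfl
theorem L38604 : sm gd N7983 = N6555 := ded_23_1 (flp_f L31634) (flp_d L18359) L38602
theorem L38612 : sm gd N3821 = N7986 := rfl
theorem L38614 : sm ga N7986 = N3823 := ded_9_1 (flp_d L18373) (flp_a L18363) L38612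
theorem L38616 : sm gc N7986 = N4822 := ded_28_6 (flp_d L23295) L23291 L23293 (flp_d L11782) L11780 (flp_d L8919) L18361 L38612
theorem L38660 : sm gb N3826 = N7995 := rfl
theorem L38662 : sm ge N7995 = N3910 := ded_15_2 (flp_b L18787) (flp_e L18391) L38660
theorem L38664 : sm gd N3826 = N7996 := rfl
theorem L38666 : sm ga N7996 = N3827 := ded_9_1 (flp_d L18393) L18389 L38664
theorem L38668 : sm gf N3826 = N7997 := rfl
theorem L38670 : sm ga N7997 = N3828 := ded_11_1 (flp_f L18397) L18389 L38668
theorem L38672 : sm ge N7997 = N3911 := ded_25_1 (flp_f L18789) (flp_e L18391) L38668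
theorem L38674 : sm gg N3826 = N7998 := rfl
theorem L38676 : sm ga N7998 = N3829 := ded_12_1 (flp_g L18401) L18389 L38674

end Cfsg.Agent.Helper28.SzbA
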