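import Cfsg.Agent.Helper28.SzbB6

/-! # The Suzuki group presentation, cosets of the subgroup generated by a, b, c, d, f, g: the coset enumeration, part 7 (helper28; generated) -/

set_option autoImplicit false

noncomputable section

namespace Cfsg.Agent.Helper28.SzbA

open Cfsg.Agent.Helper28.CosetTable

theorem L38678 : sm ge N7998 = N3912 := ded_26_1 (flp_g L18793) (flp_e L18391) L38674
theorem L38680 : sm gc N3827 = N7999 := rfl
theorem L38682 : sm gf N3827 = N8000 := rfl
theorem L38684 : sm gd N8000 = N3828 := ded_23_1 (flp_f L18397) L18393 L38682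
theorem L38686 : sm gg N3827 = N8001 := rfl
theorem L38688 : sm gd N8001 = N3829 := ded_24_1 (flp_g L18401) L18393 L38686
theorem L38690 : sm gb N3828 = N8002 := rfl
theorem L38692 : sm ge N8002 = N3913 := ded_15_2 (flp_b L18797) (flp_e L18399) L38690
theorem L38694 : sm gf N8002 = N3832 := ded_16_2 (flp_b L18413) (flp_f L8935) L8929 L18397 L38690
theorem L38696 : sm gg N3828 = N8003 := rfl
theorem L38698 : sm ge N8003 = N3914 := ded_26_1 (flp_g L18801) (flp_e L18399) L38696
theorem L38700 : sm gf N7998 = N8003 := ded_29_0 (flp_g L38696) (flp_f L18397) L18401 (flp_a L38676)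
theorem L38702 : sm gb N3829 = N8004 := rfl
theorem L38704 : sm ge N8004 = N3915 := ded_15_2 (flp_b L18805) (flp_e L18403) L38702
theorem L38706 : sm gg N8004 = N3834 := ded_17_2 (flp_b L18425) (flp_g L8941) L8929 L18401 L38702
theorem L38708 : sm gf N3829 = N8005 := rfl
theorem L38710 : sm ga N8005 = N8003 := ded_11_1 (flp_f L38700) L38676 L38708
theorem L38712 : sm ge N8005 = N3916 := ded_25_1 (flp_f L18809) (flp_e L18403) L38708
theorem L38714 : sm gg N8005 = N7997 := ded_29_3 L38670 (flp_f L18397) L18401 L38708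
theorem L38716 : sm gb N3830 = N8006 := rfl
theorem L38718 : sm gd N8006 = N3832 := ded_14_2 (flp_b L18413) (flp_d L18407) L38716
theorem L38720 : sm gg N3830 = N8007 := rfl
theorem L38722 : sm gd N8007 = N3833 := ded_24_1 (flp_g L18417) (flp_d L18407) L38720
theorem L38724 : sm gf N6808 = N8007 := ded_29_0 (flp_g L38720) (flp_f L18405) L18409 (flp_a L32838)
theorem L38726 : sm gb N3831 = N8008 := rfl
theorem L38728 : sm gd N8008 = N3834 := ded_14_2 (flp_b L18425) (flp_d L18411) L38726
theorem L38730 : sm gf N3831 = N8009 := rfl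
theorem L38732 : sm ga N8009 = N8007 := ded_11_1 (flp_f L38724) L32838 L38730
theorem L38734 : sm gd N8009 = N3835 := ded_23_1 (flp_f L18429) (flp_d L18411) L38730
theorem L38736 : sm ge N8009 = N8007 := ded_25_1 (flp_f L38724) L32842 L38730
theorem L38738 : sm gg N8009 = N6807 := ded_29_3 L32830 (flp_f L18405) L18409 L38730
theorem L38740 : sm ga N3832 = N8010 := rfl
theorem L38742 : sm ge N8010 = N3917 := ded_10_2 (flp_a L18815) (flp_e L18415) L38740
theorem L38744 : sm gc N3832 = N8011 := rfl
theorem L38746 : sm ge N8011 = N3918 := ded_19_2 (flp_c L18817) (flp_e L18415) L38744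
theorem L38748 : sm gb N8011 = N3837 := ded_13_1 (flp_c L18445) (flp_b L8947) (flp_c L8937) L18413 L38744
theorem L38750 : sm gg N3832 = N8012 := rfl
theorem L38752 : sm ge N8012 = N3919 := ded_26_1 (flp_g L18821) (flp_e L18415) L38750
theorem L38754 : sm gb N3833 = N8013 := rfl
theorem L38756 : sm ge N8013 = N3920 := ded_15_2 (flp_b L18823) (flp_e L18421) L38754
theorem L38758 : sm ga N3834 = N8014 := rfl
theorem L38760 : sm ge N8014 = N3921 := ded_10_2 (flp_a L18825) (flp_e L18427) L38758
theorem L38762 : sm gc N3834 = N8015 := rfl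
theorem L38764 : sm ge N8015 = N3922 := ded_19_2 (flp_c L18827) (flp_e L18427) L38762
theorem L38766 : sm gb N8015 = N3841 := ded_13_1 (flp_c L18467) (flp_b L8961) (flp_c L8943) L18425 L38762
theorem L38768 : sm gf N3834 = N8016 := rfl
theorem L38770 : sm ge N8016 = N3923 := ded_25_1 (flp_f L18831) (flp_e L18427) L38768
theorem L38772 : sm gb N3835 = N8017 := rfl
theorem L38774 : sm ge N8017 = N3924 := ded_15_2 (flp_b L18833) (flp_e L18435) L38772
theorem L38776 : sm gb N3836 = N8018 := rfl
theorem L38778 : sm gd N8018 = N3844 := ded_14_2 (flp_b L18483) (flp_d L18441) L38776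
theorem L38780 : sm ge N8018 = N3925 := ded_15_2 (flp_b L18837) (flp_e L18443) L38776
theorem L38782 : sm gc N3836 = N8019 := rfl
theorem L38784 : sm ga N8019 = N3837 := ded_8_1 (flp_c L18445) L18439 L38782
theorem L38786 : sm ge N8019 = N3926 := ded_19_2 (flp_c L18841) (flp_e L18443) L38782
theorem L38788 : sm gg N3836 = N8020 := rfl
theorem L38790 : sm ga N8020 = N3838 := ded_12_1 (flp_g L18449) L18439 L38788
theorem L38794 : sm ge N8020 = N3927 := ded_26_1 (flp_g L18845) (flp_e L18443) L38788
theorem L38796 : sm gf N8020 = N7673 := ded_29_2 (flp_g L36865) L36851 L36857 L38788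
theorem L38798 : sm gd N3837 = N8021 := rfl
theorem L38800 : sm gg N3837 = N8022 := rfl
theorem L38802 : sm gc N8022 = N3838 := ded_21_1 (flp_g L18449) L18445 L38800
theorem L38804 : sm ge N8022 = N3929 := ded_26_1 (flp_g L18855) (flp_e L18447) L38800
theorem L38806 : sm gb N3838 = N8023 := rfl
theorem L38808 : sm gd N8023 = N3849 := ded_14_2 (flp_b L18509) (flp_d L18451) L38806
theorem L38810 : sm ge N8023 = N3930 := ded_15_2 (flp_b L18859) (flp_e L18453) L38806
theorem L38812 : sm gg N8023 = N3839 := ded_17_2 (flp_b L18455) (flp_g L8953) L8947 L18449 L38806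
theorem L38814 : sm gf N3838 = N8024 := rfl
theorem L38816 : sm ga N8024 = N7673 := ded_11_1 (flp_f L38796) L38790 L38814
theorem L38818 : sm gd N8024 = N3850 := ded_23_1 (flp_f L18515) (flp_d L18451) L38814
theorem L38820 : sm ge N8024 = N3931 := ded_25_1 (flp_f L18865) (flp_e L18453) L38814
theorem L38822 : sm gg N8024 = N7671 := ded_29_3 (flp_a L36851) L17662 L18449 L38814
theorem L38824 : sm ga N3839 = N8025 := rfl
theorem L38826 : sm gd N8025 = N3851 := ded_9_2 (flp_a L18523) (flp_d L18457) L38824
theorem L38828 : sm ge N8025 = N3932 := ded_10_2 (flp_a L18873) (flp_e L18459) L38824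
theorem L38830 : sm gc N3839 = N8026 := rfl
theorem L38832 : sm ge N8026 = N3933 := ded_19_2 (flp_c L18877) (flp_e L18459) L38830
theorem L38834 : sm gf N3839 = N8027 := rfl
theorem L38836 : sm gd N8027 = N3853 := ded_23_1 (flp_f L18531) (flp_d L18457) L38834
theorem L38842 : sm gb N3840 = N8028 := rfl
theorem L38844 : sm gd N8028 = N3854 := ded_14_2 (flp_b L18537) (flp_d L18463) L38842
theorem L38846 : sm ge N8028 = N3935 := ded_15_2 (flp_b L18885) (flp_e L18465) L38842
theorem L38848 : sm gc N3840 = N8029 := rfl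
theorem L38850 : sm ga N8029 = N3841 := ded_8_1 (flp_c L18467) L18461 L38848
theorem L38852 : sm ge N8029 = N3936 := ded_19_2 (flp_c L18889) (flp_e L18465) L38848
theorem L38854 : sm gf N3840 = N8030 := rfl
theorem L38856 : sm ga N8030 = N3842 := ded_11_1 (flp_f L18471) L18461 L38854
theorem L38860 : sm ge N8030 = N3937 := ded_25_1 (flp_f L18893) (flp_e L18465) L38854
theorem L38862 : sm gg N7677 = N8030 := ded_29_1 (flp_f L38854) (flp_g L36883) (flp_a L36877) L36891
theorem L38864 : sm gd N3841 = N8031 := rfl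
theorem L38866 : sm gf N3841 = N8032 := rfl
theorem L38868 : sm gc N8032 = N3842 := ded_20_1 (flp_f L18471) L18467 L38866
theorem L38870 : sm ge N8032 = N3939 := ded_25_1 (flp_f L18903) (flp_e L18469) L38866
theorem L38872 : sm gb N3842 = N8033 := rfl
theorem L38874 : sm gd N8033 = N3859 := ded_14_2 (flp_b L18563) (flp_d L18473) L38872
theorem L38876 : sm ge N8033 = N3940 := ded_15_2 (flp_b L18907) (flp_e L18475) L38872
theorem L38878 : sm gf N8033 = N3843 := ded_16_2 (flp_b L18477) (flp_f L8967) L8961 L18471 L38872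
theorem L38880 : sm gg N3842 = N8034 := rfl
theorem L38882 : sm ga N8034 = N7677 := ded_12_1 L38862 L38856 L38880
theorem L38884 : sm gd N8034 = N3860 := ded_24_1 (flp_g L18569) (flp_d L18473) L38880
theorem L38886 : sm ge N8034 = N3941 := ded_26_1 (flp_g L18913) (flp_e L18475) L38880
theorem L38888 : sm gf N7675 = N8034 := ded_29_0 (flp_g L38880) (flp_f L18471) (flp_g L17678) L36877
theorem L38890 : sm ga N3843 = N8035 := rfl
theorem L38892 : sm gd N8035 = N3861 := ded_9_2 (flp_a L18577) (flp_d L18479) L38890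
theorem L38894 : sm ge N8035 = N3942 := ded_10_2 (flp_a L18921) (flp_e L18481) L38890
theorem L38896 : sm gc N3843 = N8036 := rfl
theorem L38898 : sm ge N8036 = N3943 := ded_19_2 (flp_c L18925) (flp_e L18481) L38896
theorem L38900 : sm gg N3843 = N8037 := rfl
theorem L38906 : sm gb N8037 = N6813 := ded_17_1 (flp_g L32862) (flp_b L15816) (flp_g L8975) L18477 L38900
theorem L38908 : sm ga N3844 = N8038 := rfl
theorem L38910 : sm ge N8038 = N3864 := ded_10_2 (flp_a L18591) (flp_e L18485) L38908
theorem L38912 : sm gc N3844 = N8039 := rfl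
theorem L38916 : sm gf N3844 = N8040 := rfl
theorem L38918 : sm ge N8040 = N3866 := ded_25_1 (flp_f L18597) (flp_e L18485) L38916
theorem L38920 : sm gg N3844 = N8041 := rfl
theorem L38922 : sm ge N8041 = N3867 := ded_26_1 (flp_g L18601) (flp_e L18485) L38920
theorem L38928 : sm gd N3845 = N8043 := rfl
theorem L38930 : sm ga N8043 = N3847 := ded_9_1 (flp_d L18501) (flp_a L18489) L38928
theorem L38932 : sm gg N3845 = N8044 := rfl
theorem L38934 : sm ga N8044 = N3848 := ded_12_1 (flp_g L18503) (flp_a L18489) L38932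
theorem L38936 : sm gc N8044 = N3846 := ded_21_1 (flp_g L18493) L18487 L38932
theorem L38942 : sm gb N3846 = N8045 := rfl
theorem L38944 : sm ge N8045 = N3871 := ded_15_2 (flp_b L18619) (flp_e L18497) L38942
theorem L38946 : sm gc N3847 = N8046 := rfl
theorem L38948 : sm ge N3847 = N8047 := rfl
theorem L38950 : sm gd N8047 = N3873 := ded_22_1 (flp_e L18625) (flp_d L9025) (flp_e L8983) L18501 L38948
theorem L38952 : sm gg N3847 = N8048 := rfl
theorem L38954 : sm gd N8048 = N3848 := ded_24_1 (flp_g L18503) L18501 L38952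
theorem L38956 : sm gb N3848 = N8049 := rfl
theorem L38958 : sm ge N8049 = N3875 := ded_15_2 (flp_b L18631) (flp_e L18507) L38956
theorem L38960 : sm gf N3848 = N8050 := rfl
theorem L38964 : sm gc N8050 = N3850 := ded_20_1 (flp_f L18515) (flp_c L18505) L38960
theorem L38968 : sm gg N8050 = N7680 := ded_29_3 L36909 L17700 L18503 L38960
theorem L38970 : sm ga N3849 = N8051 := rfl
theorem L38972 : sm ge N8051 = N3877 := ded_10_2 (flp_a L18641) (flp_e L18511) L38970
theorem L38974 : sm gg N8051 = N3851 := ded_12_2 (flp_a L18523) (flp_g L18513) L38970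
theorem L38976 : sm gc N3849 = N8052 := rfl
theorem L38978 : sm ge N8052 = N3878 := ded_19_2 (flp_c L18647) (flp_e L18511) L38976
theorem L38980 : sm gg N8052 = N3852 := ded_21_2 (flp_c L18527) (flp_g L18513) L38976
theorem L38982 : sm gf N3849 = N8053 := rfl
theorem L38984 : sm ge N8053 = N3879 := ded_25_1 (flp_f L18651) (flp_e L18511) L38982
theorem L38990 : sm gb N3851 = N8055 := rfl
theorem L38992 : sm ge N8055 = N3881 := ded_15_2 (flp_b L18659) (flp_e L18525) L38990
theorem L38994 : sm gc N3851 = N8056 := rfl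
theorem L38996 : sm ga N8056 = N3852 := ded_8_1 (flp_c L18527) L18523 L38994
theorem L38998 : sm ge N8056 = N3882 := ded_19_2 (flp_c L18663) (flp_e L18525) L38994
theorem L39000 : sm gf N3851 = N8057 := rfl
theorem L39002 : sm ga N8057 = N3853 := ded_11_1 (flp_f L18531) L18523 L39000
theorem L39006 : sm gg N8053 = N8057 := ded_29_1 (flp_f L39000) (flp_g L38974) (flp_a L38970) L38982
theorem L39008 : sm gd N3852 = N8058 := rfl
theorem L39010 : sm gf N3852 = N8059 := rfl
theorem L39014 : sm ge N8059 = N3885 := ded_25_1 (flp_f L18677) (flp_e L18529) L39010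
theorem L39016 : sm gg N3853 = N8060 := rfl
theorem L39018 : sm ga N8060 = N8053 := ded_12_1 L39006 L39002 L39016
theorem L39020 : sm ge N8060 = N3886 := ded_26_1 (flp_g L18681) (flp_e L18533) L39016
theorem L39022 : sm gf N8051 = N8060 := ded_29_0 (flp_g L39016) (flp_f L18531) (flp_g L18513) L38970
theorem L39024 : sm ga N3854 = N8061 := rfl
theorem L39026 : sm ge N8061 = N3887 := ded_10_2 (flp_a L18689) (flp_e L18539) L39024
theorem L39032 : sm gf N3854 = N8063 := rfl
theorem L39034 : sm ge N8063 = N3889 := ded_25_1 (flp_f L18695) (flp_e L18539) L39032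
theorem L39036 : sm gg N3854 = N8064 := rfl
theorem L39038 : sm ge N8064 = N3890 := ded_26_1 (flp_g L18699) (flp_e L18539) L39036
theorem L39044 : sm gd N3855 = N8066 := rfl
theorem L39046 : sm ga N8066 = N3857 := ded_9_1 (flp_d L18555) (flp_a L18543) L39044
theorem L39048 : sm gf N3855 = N8067 := rfl
theorem L39050 : sm ga N8067 = N3858 := ded_11_1 (flp_f L18557) (flp_a L18543) L39048
theorem L39052 : sm gc N8067 = N3856 := ded_20_1 (flp_f L18547) L18541 L39048
theorem L39056 : sm gg N7690 = N8067 := ded_29_1 (flp_f L39048) (flp_g L36955) L36951 L36961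
theorem L39058 : sm gb N3856 = N8068 := rfl
theorem L39060 : sm ge N8068 = N3894 := ded_15_2 (flp_b L18717) (flp_e L18551) L39058
theorem L39062 : sm gc N3857 = N8069 := rfl
theorem L39064 : sm ge N3857 = N8070 := rfl
theorem L39068 : sm gf N3857 = N8071 := rfl
theorem L39070 : sm gd N8071 = N3858 := ded_23_1 (flp_f L18557) L18555 L39068
theorem L39072 : sm gb N3858 = N8072 := rfl
theorem L39074 : sm ge N8072 = N3898 := ded_15_2 (flp_b L18729) (flp_e L18561) L39072
theorem L39076 : sm gg N3858 = N8073 := rfl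
theorem L39078 : sm ga N8073 = N7690 := ded_12_1 L39056 L39050 L39076
theorem L39086 : sm ga N3859 = N8074 := rfl
theorem L39088 : sm ge N8074 = N3900 := ded_10_2 (flp_a L18739) (flp_e L18565) L39086
theorem L39090 : sm gf N8074 = N3861 := ded_11_2 (flp_a L18577) (flp_f L18567) L39086
theorem L39092 : sm gc N3859 = N8075 := rfl
theorem L39094 : sm ge N8075 = N3901 := ded_19_2 (flp_c L18745) (flp_e L18565) L39092
theorem L39096 : sm gf N8075 = N3862 := ded_20_2 (flp_c L18581) (flp_f L18567) L39092
theorem L39098 : sm gg N3859 = N8076 := rfl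
theorem L39100 : sm ge N8076 = N3902 := ded_26_1 (flp_g L18749) (flp_e L18565) L39098
theorem L39102 : sm gb N3860 = N8077 := rfl
theorem L39106 : sm gb N3861 = N8078 := rfl
theorem L39108 : sm ge N8078 = N3904 := ded_15_2 (flp_b L18757) (flp_e L18579) L39106
theorem L39110 : sm gc N3861 = N8079 := rfl
theorem L39112 : sm ga N8079 = N3862 := ded_8_1 (flp_c L18581) L18577 L39110
theorem L39114 : sm ge N8079 = N3905 := ded_19_2 (flp_c L18761) (flp_e L18579) L39110
theorem L39116 : sm gg N3861 = N8080 := rfl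
theorem L39118 : sm ga N8080 = N3863 := ded_12_1 (flp_g L18585) L18577 L39116
theorem L39120 : sm ge N8080 = N3906 := ded_26_1 (flp_g L18765) (flp_e L18579) L39116
theorem L39122 : sm gf N8080 = N8076 := ded_29_2 (flp_g L39098) L39086 L39090 L39116
theorem L39124 : sm gd N3862 = N8081 := rfl
theorem L39126 : sm gg N3862 = N8082 := rfl
theorem L39130 : sm ge N8082 = N3908 := ded_26_1 (flp_g L18775) (flp_e L18583) L39126
theorem L39132 : sm gf N3863 = N8083 := rfl
theorem L39134 : sm ga N8083 = N8076 := ded_11_1 (flp_f L39122) L39118 L39132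
theorem L39138 : sm gg N8083 = N8074 := ded_29_3 (flp_a L39086) L18567 L18585 L39132
theorem L39144 : sm gf N3864 = N8085 := rfl
theorem L39148 : sm gd N8085 = N3991 := ded_23_1 L23861 (flp_d L18593) L39144
theorem L39150 : sm gg N3864 = N8086 := rfl
theorem L39154 : sm gd N8086 = N3993 := ded_24_1 (flp_g L19189) (flp_d L18593) L39150
theorem L39166 : sm gg N3865 = N8090 := rfl
theorem L39168 : sm gc N8090 = N3867 := ded_21_1 (flp_g L18601) L18595 L39166
theorem L39216 : sm ga N3871 = N8101 := rfl
theorem L39218 : sm gd N8101 = N4009 := ded_9_2 (flp_a L19253) (flp_d L18621) L39216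
theorem L39222 : sm gf N3871 = N8103 := rfl
theorem L39224 : sm gd N8103 = N4011 := ded_23_1 (flp_f L19257) (flp_d L18621) L39222
theorem L39242 : sm gb N3874 = N8108 := rfl
theorem L39244 : sm gd N8108 = N3875 := ded_14_2 (flp_b L18631) (flp_d L18629) L39242
theorem L39246 : sm gf N3874 = N8109 := rfl
theorem L39250 : sm gd N8109 = N3876 := ded_23_1 (flp_f L18633) (flp_d L18629) L39246
theorem L39252 : sm gg N8109 = N7700 := ded_29_3 L37009 L17742 L18627 L39246
theorem L39256 : sm gc N3875 = N8111 := rfl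
theorem L39258 : sm gb N8111 = N3878 := ded_13_1 (flp_c L18647) (flp_b L9031) (flp_c L9029) L18631 L39256
theorem L39264 : sm gb N3877 = N8114 := rfl
theorem L39266 : sm gd N8114 = N4021 := ded_14_2 (flp_b L19305) (flp_d L18643) L39264
theorem L39268 : sm gc N3877 = N8115 := rfl
theorem L39270 : sm ga N8115 = N3878 := ded_8_1 (flp_c L18647) L18641 L39268
theorem L39272 : sm gg N8115 = N3882 := ded_21_2 (flp_c L18663) (flp_g L18645) L39268
theorem L39274 : sm gd N3878 = N8116 := rfl
theorem L39278 : sm gf N3878 = N8117 := rfl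
theorem L39280 : sm gc N8117 = N3879 := ded_20_1 (flp_f L18651) L18647 L39278
theorem L39306 : sm gf N3881 = N8124 := rfl
theorem L39308 : sm gd N8124 = N4031 := ded_23_1 (flp_f L19337) (flp_d L18661) L39306
theorem L39314 : sm gb N3882 = N8126 := rfl
theorem L39316 : sm gd N3882 = N8127 := rfl
theorem L39318 : sm ga N8127 = N3884 := ded_9_1 (flp_d L18675) (flp_a L18665) L39316
theorem L39320 : sm gf N3882 = N8128 := rfl
theorem L39322 : sm ga N8128 = N3885 := ded_11_1 (flp_f L18677) (flp_a L18665) L39320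
theorem L39328 : sm gb N3883 = N8129 := rfl
theorem L39330 : sm gd N8129 = N4036 := ded_14_2 (flp_b L19355) (flp_d L18671) L39328
theorem L39340 : sm gb N3885 = N8133 := rfl
theorem L39342 : sm gc N8133 = N6854 := ded_13_2 (flp_b L33052) L15902 (flp_b L9055) (flp_c L18679) L39340
theorem L39352 : sm gb N3886 = N8135 := rfl
theorem L39354 : sm gd N8135 = N4041 := ded_14_2 (flp_b L19377) (flp_d L18685) L39352
theorem L39368 : sm gg N3887 = N8138 := rfl
theorem L39370 : sm ga N8138 = N3890 := ded_12_1 (flp_g L18699) L18689 L39368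
theorem L39384 : sm gg N3888 = N8142 := rfl
theorem L39386 : sm gc N8142 = N3890 := ded_21_1 (flp_g L18699) L18693 L39384
theorem L39396 : sm gg N3889 = N8144 := rfl
theorem L39400 : sm gf N8138 = N8144 := ded_29_0 (flp_g L39396) (flp_f L18695) L18699 (flp_a L39370)
theorem L39402 : sm gf N3890 = N8145 := rfl
theorem L39404 : sm ga N8145 = N8144 := ded_11_1 (flp_f L39400) L39370 L39402
theorem L39420 : sm ge N3892 = N8150 := rfl
theorem L39432 : sm gb N3893 = N8152 := rfl
theorem L39434 : sm ga N3894 = N8153 := rfl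
theorem L39440 : sm gc N3894 = N8154 := rfl
theorem L39442 : sm gb N3895 = N8155 := rfl
theorem L39449 : sm gf N3895 = N8157 := rfl
theorem L39451 : sm gc N8157 = N3897 := ded_20_1 (flp_f L18725) L18721 L39449
theorem L39461 : sm gg N3897 = N8160 := rfl
theorem L39467 : sm gf N7719 = N8160 := ded_29_0 (flp_g L39461) (flp_f L18725) (flp_g L17778) (flp_a L37091)
theorem L39471 : sm gc N3898 = N8162 := rfl
theorem L39473 : sm gb N8162 = N3901 := ded_13_1 (flp_c L18745) (flp_b L9079) (flp_c L9077) L18729 L39471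
theorem L39479 : sm gb N3900 = N8165 := rfl
theorem L39483 : sm gc N3900 = N8166 := rfl
theorem L39485 : sm ga N8166 = N3901 := ded_8_1 (flp_c L18745) L18739 L39483
theorem L39487 : sm gf N8166 = N3905 := ded_20_2 (flp_c L18761) (flp_f L18743) L39483
theorem L39489 : sm gd N3901 = N8167 := rfl
theorem L39491 : sm gf N8167 = N3907 := ded_23_2 (flp_d L18773) (flp_f L18747) L39489
theorem L39493 : sm gg N3901 = N8168 := rfl
theorem L39495 : sm gc N8168 = N3902 := ded_21_1 (flp_g L18749) L18745 L39493
theorem L39497 : sm gb N3902 = N8169 := rfl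
theorem L39501 : sm gg N8169 = N3903 := ded_17_2 (flp_b L18753) (flp_g L9085) L9079 L18749 L39497
theorem L39509 : sm gf N3903 = N8172 := rfl
theorem L39513 : sm gb N8172 = N7716 := ded_16_1 (flp_f L37077) (flp_b L17766) L9091 L18753 L39509
theorem L39515 : sm ga N3904 = N8173 := rfl
theorem L39521 : sm gc N3904 = N8174 := rfl
theorem L39523 : sm gf N3904 = N8175 := rfl
theorem L39525 : sm gd N8175 = N4080 := ded_23_1 (flp_f L19547) (flp_d L18759) L39523
theorem L39531 : sm gb N3905 = N8177 := rfl
theorem L39537 : sm gg N3905 = N8179 := rfl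
theorem L39539 : sm ga N8179 = N3908 := ded_12_1 (flp_g L18775) (flp_a L18763) L39537
theorem L39541 : sm gc N8179 = N3906 := ded_21_1 (flp_g L18765) L18761 L39537
theorem L39545 : sm gb N3906 = N8180 := rfl
theorem L39547 : sm gd N8180 = N4085 := ded_14_2 (flp_b L19565) (flp_d L18769) L39545
theorem L39549 : sm gc N3907 = N8181 := rfl
theorem L39575 : sm ga N3910 = N8187 := rfl
theorem L39577 : sm gc N3910 = N8188 := rfl
theorem L39579 : sm gf N3910 = N8189 := rfl
theorem L39581 : sm gg N3910 = N8190 := rfl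
theorem L39583 : sm gb N3911 = N8191 := rfl
theorem L39585 : sm gb N3912 = N8192 := rfl
theorem L39587 : sm ga N3913 = N8193 := rfl
theorem L39589 : sm gf N8193 = N3917 := ded_11_2 (flp_a L18815) (flp_f L18799) L39587
theorem L39591 : sm gc N3913 = N8194 := rfl
theorem L39593 : sm gf N8194 = N3918 := ded_20_2 (flp_c L18817) (flp_f L18799) L39591
theorem L39595 : sm gg N3913 = N8195 := rfl
theorem L39597 : sm gb N3914 = N8196 := rfl
theorem L39599 : sm ga N3915 = N8197 := rfl
theorem L39601 : sm gg N8197 = N3921 := ded_12_2 (flp_a L18825) (flp_g L18807) L39599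
theorem L39603 : sm gc N3915 = N8198 := rfl
theorem L39605 : sm gg N8198 = N3922 := ded_21_2 (flp_c L18827) (flp_g L18807) L39603
theorem L39607 : sm gf N3915 = N8199 := rfl
theorem L39609 : sm gb N3916 = N8200 := rfl
theorem L39611 : sm gb N3917 = N8201 := rfl
theorem L39613 : sm gc N3917 = N8202 := rfl
theorem L39615 : sm ga N8202 = N3918 := ded_8_1 (flp_c L18817) L18815 L39613
theorem L39617 : sm gg N3917 = N8203 := rfl
theorem L39619 : sm ga N8203 = N3919 := ded_12_1 (flp_g L18821) L18815 L39617
theorem L39621 : sm gf N8203 = N8195 := ded_29_2 (flp_g L39595) L39587 L39589 L39617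
theorem L39623 : sm gd N3918 = N8204 := rfl
theorem L39625 : sm gb N8204 = N3928 := ded_14_1 (flp_d L18853) (flp_b L18819) L39623
theorem L39627 : sm gg N3918 = N8205 := rfl
theorem L39629 : sm gc N8205 = N3919 := ded_21_1 (flp_g L18821) L18817 L39627
theorem L39631 : sm gb N3919 = N8206 := rfl
theorem L39633 : sm gg N8206 = N3920 := ded_17_2 (flp_b L18823) (flp_g L9113) L9111 L18821 L39631
theorem L39635 : sm gf N3919 = N8207 := rfl
theorem L39637 : sm ga N8207 = N8195 := ded_11_1 (flp_f L39621) L39619 L39635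
theorem L39639 : sm gg N8207 = N8193 := ded_29_3 (flp_a L39587) L18799 L18821 L39635
theorem L39641 : sm ga N3920 = N8208 := rfl
theorem L39643 : sm gc N3920 = N8209 := rfl
theorem L39645 : sm gb N8209 = N3933 := ded_13_1 (flp_c L18877) (flp_b L9141) (flp_c L9115) L18823 L39643
theorem L39647 : sm gf N3920 = N8210 := rfl
theorem L39649 : sm gb N8210 = N6869 := ded_16_1 (flp_f L33128) (flp_b L15928) L9117 L18823 L39647
theorem L39651 : sm gb N3921 = N8211 := rfl
theorem L39653 : sm gc N3921 = N8212 := rfl
theorem L39655 : sm ga N8212 = N3922 := ded_8_1 (flp_c L18827) L18825 L39653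
theorem L39657 : sm gf N3921 = N8213 := rfl
theorem L39659 : sm ga N8213 = N3923 := ded_11_1 (flp_f L18831) L18825 L39657
theorem L39661 : sm gg N8199 = N8213 := ded_29_1 (flp_f L39657) (flp_g L39601) (flp_a L39599) L39607
theorem L39663 : sm gd N3922 = N8214 := rfl
theorem L39665 : sm gb N8214 = N3938 := ded_14_1 (flp_d L18901) (flp_b L18829) L39663
theorem L39667 : sm gf N3922 = N8215 := rfl
theorem L39669 : sm gc N8215 = N3923 := ded_20_1 (flp_f L18831) L18827 L39667
theorem L39671 : sm gb N3923 = N8216 := rfl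
theorem L39673 : sm gd N8216 = N8210 := ded_14_2 L39649 L33130 L39671
theorem L39675 : sm gf N8216 = N3924 := ded_16_2 (flp_b L18833) (flp_f L9121) L9119 L18831 L39671
theorem L39677 : sm gg N3923 = N8217 := rfl
theorem L39679 : sm ga N8217 = N8199 := ded_12_1 L39661 L39659 L39677
theorem L39681 : sm gf N8197 = N8217 := ded_29_0 (flp_g L39677) (flp_f L18831) (flp_g L18807) L39599
theorem L39683 : sm ga N3924 = N8218 := rfl
theorem L39685 : sm gd N8218 = N8208 := ded_9_2 (flp_a L39641) (flp_d L18835) L39683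
theorem L39687 : sm gc N3924 = N8219 := rfl
theorem L39689 : sm gb N8219 = N3943 := ded_13_1 (flp_c L18925) (flp_b L9155) (flp_c L9125) L18833 L39687
theorem L39691 : sm gg N3924 = N8220 := rfl
theorem L39693 : sm gd N8220 = N8206 := ded_24_1 L39633 (flp_d L18835) L39691
theorem L39695 : sm gb N8220 = N6866 := ded_17_1 (flp_g L33116) (flp_b L15924) (flp_g L9129) L18833 L39691
theorem L39697 : sm ga N3925 = N8221 := rfl
theorem L39699 : sm gd N8221 = N3945 := ded_9_2 (flp_a L18933) (flp_d L18839) L39697
theorem L39701 : sm gc N3925 = N8222 := rfl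
theorem L39703 : sm gf N3925 = N8223 := rfl
theorem L39705 : sm gd N8223 = N3946 := ded_23_1 L23855 (flp_d L18839) L39703
theorem L39711 : sm gb N3926 = N8225 := rfl
theorem L39713 : sm gd N3926 = N8226 := rfl
theorem L39715 : sm ga N8226 = N3928 := ded_9_1 (flp_d L18853) (flp_a L18843) L39713
theorem L39717 : sm gg N3926 = N8227 := rfl
theorem L39719 : sm ga N8227 = N3929 := ded_12_1 (flp_g L18855) (flp_a L18843) L39717
theorem L39721 : sm gc N8227 = N3927 := ded_21_1 (flp_g L18845) L18841 L39717
theorem L39723 : sm gf N8227 = N7762 := ded_29_2 (flp_g L37279) (flp_a L37271) L37273 L39717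
theorem L39729 : sm gc N3928 = N8229 := rfl
theorem L39731 : sm ge N3928 = N8230 := rfl
theorem L39733 : sm gg N3928 = N8231 := rfl
theorem L39735 : sm gd N8231 = N3929 := ded_24_1 (flp_g L18855) L18853 L39733
theorem L39737 : sm gb N3929 = N8232 := rfl
theorem L39739 : sm gf N3929 = N8233 := rfl
theorem L39741 : sm ga N8233 = N7762 := ded_11_1 (flp_f L39723) L39719 L39739
theorem L39743 : sm gc N8233 = N3931 := ded_20_1 (flp_f L18865) (flp_c L18857) L39739
theorem L39745 : sm gg N8233 = N7760 := ded_29_3 L37271 L17856 L18855 L39739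
theorem L39747 : sm ga N3930 = N8234 := rfl
theorem L39749 : sm gd N8234 = N3958 := ded_9_2 (flp_a L18999) (flp_d L18861) L39747
theorem L39751 : sm gg N8234 = N3932 := ded_12_2 (flp_a L18873) (flp_g L18863) L39747
theorem L39753 : sm gc N3930 = N8235 := rfl
theorem L39755 : sm gg N8235 = N3933 := ded_21_2 (flp_c L18877) (flp_g L18863) L39753
theorem L39757 : sm gf N3930 = N8236 := rfl
theorem L39765 : sm gb N3932 = N8238 := rfl
theorem L39769 : sm gc N3932 = N8239 := rfl
theorem L39771 : sm ga N8239 = N3933 := ded_8_1 (flp_c L18877) L18873 L39769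
theorem L39773 : sm gf N3932 = N8240 := rfl
theorem L39775 : sm ga N8240 = N3934 := ded_11_1 (flp_f L18879) L18873 L39773
theorem L39777 : sm gd N8240 = N3964 := ded_23_1 (flp_f L19029) (flp_d L18875) L39773
theorem L39779 : sm gg N8236 = N8240 := ded_29_1 (flp_f L39773) (flp_g L39751) (flp_a L39747) L39757
theorem L39781 : sm gd N3933 = N8241 := rfl
theorem L39783 : sm gf N3933 = N8242 := rfl
theorem L39785 : sm gc N8242 = N3934 := ded_20_1 (flp_f L18879) L18877 L39783
theorem L39787 : sm gg N3934 = N8243 := rfl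
theorem L39789 : sm ga N8243 = N8236 := ded_12_1 L39779 L39775 L39787
theorem L39793 : sm gf N8234 = N8243 := ded_29_0 (flp_g L39787) (flp_f L18879) (flp_g L18863) L39747
theorem L39795 : sm ga N3935 = N8244 := rfl
theorem L39797 : sm gd N8244 = N3968 := ded_9_2 (flp_a L19057) (flp_d L18887) L39795
theorem L39799 : sm gc N3935 = N8245 := rfl
theorem L39801 : sm gf N3935 = N8246 := rfl
theorem L39803 : sm gd N8246 = N3970 := ded_23_1 (flp_f L19065) (flp_d L18887) L39801
theorem L39805 : sm gg N3935 = N8247 := rfl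
theorem L39807 : sm gd N8247 = N3969 := ded_24_1 L20337 (flp_d L18887) L39805
theorem L39809 : sm gb N3936 = N8248 := rfl
theorem L39811 : sm gd N3936 = N8249 := rfl
theorem L39813 : sm ga N8249 = N3938 := ded_9_1 (flp_d L18901) (flp_a L18891) L39811
theorem L39815 : sm gf N3936 = N8250 := rfl
theorem L39817 : sm ga N8250 = N3939 := ded_11_1 (flp_f L18903) (flp_a L18891) L39815
theorem L39819 : sm gc N8250 = N3937 := ded_20_1 (flp_f L18893) L18889 L39815
theorem L39821 : sm gg N7770 = N8250 := ded_29_1 (flp_f L39815) (flp_g L37309) L37307 L37315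
theorem L39827 : sm gc N3938 = N8252 := rfl
theorem L39829 : sm ge N3938 = N8253 := rfl
theorem L39831 : sm gf N3938 = N8254 := rfl
theorem L39833 : sm gd N8254 = N3939 := ded_23_1 (flp_f L18903) L18901 L39831
theorem L39835 : sm gb N3939 = N8255 := rfl
theorem L39837 : sm gg N3939 = N8256 := rfl
theorem L39839 : sm ga N8256 = N7770 := ded_12_1 L39821 L39817 L39837
theorem L39841 : sm gc N8256 = N3941 := ded_21_1 (flp_g L18913) (flp_c L18905) L39837
theorem L39843 : sm gf N7768 = N8256 := ded_29_0 (flp_g L39837) (flp_f L18903) (flp_g L17874) (flp_a L37307)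
theorem L39845 : sm ga N3940 = N8257 := rfl
theorem L39847 : sm gd N8257 = N3981 := ded_9_2 (flp_a L19123) (flp_d L18909) L39845
theorem L39849 : sm gf N8257 = N3942 := ded_11_2 (flp_a L18921) (flp_f L18911) L39845
theorem L39851 : sm gc N3940 = N8258 := rfl
theorem L39853 : sm gf N8258 = N3943 := ded_20_2 (flp_c L18925) (flp_f L18911) L39851
theorem L39855 : sm gg N3940 = N8259 := rfl
theorem L39857 : sm gd N8259 = N3983 := ded_24_1 (flp_g L19135) (flp_d L18909) L39855
theorem L39859 : sm gb N3941 = N8260 := rfl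
theorem L39861 : sm gd N8260 = N3984 := ded_14_2 (flp_b L19139) (flp_d L18917) L39859
theorem L39863 : sm gb N3942 = N8261 := rfl
theorem L39867 : sm gc N3942 = N8262 := rfl
theorem L39869 : sm ga N8262 = N3943 := ded_8_1 (flp_c L18925) L18921 L39867
theorem L39871 : sm gg N3942 = N8263 := rfl
theorem L39873 : sm ga N8263 = N3944 := ded_12_1 (flp_g L18927) L18921 L39871
theorem L39875 : sm gd N8263 = N3987 := ded_24_1 (flp_g L19153) (flp_d L18923) L39871
theorem L39877 : sm gf N8263 = N8259 := ded_29_2 (flp_g L39855) L39845 L39849 L39871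
theorem L39879 : sm gd N3943 = N8264 := rfl
theorem L39881 : sm gg N3943 = N8265 := rfl
theorem L39883 : sm gc N8265 = N3944 := ded_21_1 (flp_g L18927) L18925 L39881
theorem L39885 : sm gf N3944 = N8266 := rfl
theorem L39887 : sm ga N8266 = N8259 := ded_11_1 (flp_f L39877) L39873 L39885
theorem L39891 : sm gg N8266 = N8257 := ded_29_3 (flp_a L39845) L18911 L18927 L39885
theorem L39901 : sm gg N3945 = N8268 := rfl
theorem L39905 : sm ge N8268 = N3993 := ded_26_1 (flp_g L19189) (flp_e L18935) L39901
theorem L39915 : sm gb N3948 = N8270 := rfl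
theorem L39919 : sm gg N8270 = N3952 := ded_17_2 (flp_b L18967) (flp_g L9169) L9159 L18945 L39915
theorem L39931 : sm ga N3949 = N8272 := rfl
theorem L39935 : sm gb N8272 = N4853 := ded_7_2 L23453 (flp_b L11728) L11726 L5814 L3030 (flp_b L4653) (flp_a L9165) L18949 L39931
theorem L39937 : sm gd N3949 = N8273 := rfl
theorem L39939 : sm gb N8273 = N3950 := ded_14_1 (flp_d L18953) L18949 L39937
theorem L39941 : sm gg N3949 = N8274 := rfl
theorem L39943 : sm ge N8274 = N4004 := ded_26_1 (flp_g L19231) (flp_e L18951) L39941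
theorem L39945 : sm gc N3950 = N8275 := rfl
theorem L39947 : sm ga N8275 = N3953 := ded_8_1 (flp_c L18971) (flp_a L18955) L39945
theorem L39949 : sm gd N8229 = N8275 := ded_28_1 (flp_c L39945) (flp_d L18953) (flp_c L9163) (flp_d L9133) L18841 L39713 L39715 L39729
theorem L39951 : sm ge N3950 = N8276 := rfl
theorem L39953 : sm ga N8276 = N3954 := ded_10_1 (flp_e L18973) (flp_a L18955) L39951
theorem L39955 : sm gd N8276 = N4006 := ded_22_1 (flp_e L19239) (flp_d L9285) (flp_e L9167) L18953 L39951
theorem L39957 : sm gg N3950 = N8277 := rfl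
theorem L39959 : sm ga N8277 = N3955 := ded_12_1 (flp_g L18979) (flp_a L18955) L39957
theorem L39961 : sm gd N8277 = N3951 := ded_24_1 (flp_g L18957) L18953 L39957
theorem L39963 : sm gf N8277 = N7783 := ded_29_2 (flp_g L37382) (flp_a L37366) L37368 L39957
theorem L39977 : sm gf N3952 = N8281 := rfl
theorem L39979 : sm ge N8281 = N4011 := ded_25_1 (flp_f L19257) (flp_e L18969) L39977
theorem L39983 : sm gb N3953 = N8282 := rfl
theorem L39985 : sm gc N8282 = N4091 := ded_13_2 (flp_b L19591) (flp_c L9449) (flp_b L9179) L18971 L39983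
theorem L39987 : sm gd N3953 = N8283 := rfl
theorem L39989 : sm ga N8283 = N8229 := ded_9_1 L39949 L39947 L39987
theorem L39991 : sm gc N8226 = N8283 := ded_28_0 (flp_d L39987) (flp_c L18971) (flp_d L9177) (flp_c L4649) (flp_d L4625) L9135 L18853 (flp_a L39715)
theorem L39993 : sm ge N3953 = N8284 := rfl
theorem L39995 : sm gc N8284 = N3954 := ded_19_1 (flp_e L18973) L18971 L39993
theorem L39997 : sm gg N3953 = N8285 := rfl
theorem L39999 : sm gc N8285 = N3955 := ded_21_1 (flp_g L18979) L18971 L39997
theorem L40001 : sm gg N3954 = N8286 := rfl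
theorem L40003 : sm gd N8286 = N4015 := ded_24_1 (flp_g L19279) (flp_d L18977) L40001
theorem L40005 : sm ge N8286 = N3955 := ded_26_1 (flp_g L18979) L18973 L40001
theorem L40007 : sm gb N3955 = N8287 := rfl
theorem L40009 : sm gd N8287 = N3956 := ded_14_2 (flp_b L18983) (flp_d L18981) L40007
theorem L40011 : sm gg N8287 = N4095 := ded_17_2 (flp_b L19609) (flp_g L9459) (flp_b L9179) L18979 L40007
theorem L40013 : sm gf N3955 = N8288 := rfl
theorem L40015 : sm ga N8288 = N7783 := ded_11_1 (flp_f L39963) L39959 L40013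
theorem L40017 : sm gd N8288 = N3957 := ded_23_1 (flp_f L18989) (flp_d L18981) L40013
theorem L40019 : sm gg N8288 = N7780 := ded_29_3 L37366 L17900 L18979 L40013
theorem L40021 : sm ga N3956 = N8289 := rfl
theorem L40023 : sm ge N8289 = N4018 := ded_10_2 (flp_a L19297) (flp_e L18985) L40021
theorem L40025 : sm gg N8289 = N4096 := ded_12_2 (flp_a L19613) (flp_g L18987) L40021
theorem L40027 : sm gf N8289 = N4877 := ded_29_0 (flp_g L23567) (flp_f L19617) (flp_g L18987) L40021
theorem L40029 : sm gf N3956 = N8290 := rfl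
theorem L40031 : sm ga N8290 = N4877 := ded_11_1 (flp_f L40027) (flp_a L40021) L40029
theorem L40033 : sm ge N8290 = N4019 := ded_25_1 (flp_f L19301) (flp_e L18985) L40029
theorem L40035 : sm gb N3957 = N8291 := rfl
theorem L40037 : sm ge N8291 = N4020 := ded_15_2 (flp_b L19303) (flp_e L18995) L40035
theorem L40039 : sm gb N3958 = N8292 := rfl
theorem L40041 : sm ge N8292 = N4021 := ded_15_2 (flp_b L19305) (flp_e L19001) L40039
theorem L40043 : sm gc N3958 = N8293 := rfl
theorem L40045 : sm ga N8293 = N3959 := ded_8_1 (flp_c L19005) L18999 L40043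
theorem L40047 : sm ge N8293 = N4022 := ded_19_2 (flp_c L19307) (flp_e L19001) L40043
theorem L40049 : sm gg N8293 = N3963 := ded_21_2 (flp_c L19023) (flp_g L19003) L40043
theorem L40051 : sm gd N3959 = N8294 := rfl
theorem L40053 : sm gg N8294 = N3965 := ded_24_2 (flp_d L19037) (flp_g L19009) L40051
theorem L40055 : sm gf N3959 = N8295 := rfl
theorem L40081 : sm ga N3962 = N8300 := rfl
theorem L40083 : sm ge N8300 = N4029 := ded_10_2 (flp_a L19333) (flp_e L19021) L40081
theorem L40097 : sm gb N3963 = N8304 := rfl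
theorem L40099 : sm ge N8304 = N4033 := ded_15_2 (flp_b L19341) (flp_e L19027) L40097
theorem L40101 : sm gd N3963 = N8305 := rfl
theorem L40103 : sm ga N8305 = N3965 := ded_9_1 (flp_d L19037) (flp_a L19025) L40101
theorem L40105 : sm gf N3963 = N8306 := rfl
theorem L40107 : sm ga N8306 = N3966 := ded_11_1 (flp_f L19041) (flp_a L19025) L40105
theorem L40109 : sm gc N8306 = N3964 := ded_20_1 (flp_f L19029) L19023 L40105
theorem L40113 : sm gg N8295 = N8306 := ded_29_1 (flp_f L40105) (flp_g L40049) L40045 L40055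
theorem L40115 : sm gb N3964 = N8307 := rfl
theorem L40117 : sm ge N8307 = N4036 := ded_15_2 (flp_b L19355) (flp_e L19033) L40115
theorem L40119 : sm gc N3965 = N8308 := rfl
theorem L40121 : sm ge N3965 = N8309 := rfl
theorem L40123 : sm gb N8309 = N4099 := ded_15_1 (flp_e L19633) (flp_b L19039) L40121
theorem L40125 : sm gd N8309 = N4038 := ded_22_1 (flp_e L19359) (flp_d L9347) (flp_e L9207) L19037 L40121
theorem L40127 : sm gf N3965 = N8310 := rfl
theorem L40129 : sm gd N8310 = N3966 := ded_23_1 (flp_f L19041) L19037 L40127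
theorem L40131 : sm gb N8310 = N4895 := ded_16_1 (flp_f L23675) L11386 (flp_f L9471) (flp_b L19039) L40127
theorem L40133 : sm gg N3966 = N8311 := rfl
theorem L40135 : sm ga N8311 = N8295 := ded_12_1 L40113 L40107 L40133
theorem L40139 : sm ge N8311 = N4040 := ded_26_1 (flp_g L19369) (flp_e L19045) L40133
theorem L40141 : sm gf N8293 = N8311 := ded_29_0 (flp_g L40133) (flp_f L19041) (flp_g L19009) (flp_a L40045)
theorem L40143 : sm gb N3967 = N8312 := rfl
theorem L40171 : sm gb N3970 = N8316 := rfl
theorem L40173 : sm ge N8316 = N4049 := ded_15_2 (flp_b L19407) (flp_e L19067) L40171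
theorem L40175 : sm gf N8316 = N3975 := ded_16_2 (flp_b L19091) (flp_f L9227) L9217 L19065 L40171
theorem L40177 : sm ga N5735 = N8316 := ded_10_3 L40173 L19413 (flp_e L27808)
theorem L40195 : sm gd N3972 = N8319 := rfl
theorem L40197 : sm gb N8319 = N3973 := ded_14_1 (flp_d L19077) L19073 L40195
theorem L40203 : sm gc N3973 = N8321 := rfl
theorem L40205 : sm ga N8321 = N3976 := ded_8_1 (flp_c L19095) (flp_a L19079) L40203
theorem L40207 : sm gd N8252 = N8321 := ded_28_1 (flp_c L40203) (flp_d L19077) (flp_c L9221) (flp_d L9147) L18889 L39811 L39813 L39827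
theorem L40209 : sm ge N3973 = N8322 := rfl
theorem L40211 : sm ga N8322 = N3977 := ded_10_1 (flp_e L19097) (flp_a L19079) L40209
theorem L40213 : sm gd N8322 = N4057 := ded_22_1 (flp_e L19441) (flp_d L9373) (flp_e L9225) L19077 L40209
theorem L40215 : sm gf N3973 = N8323 := rfl
theorem L40217 : sm ga N8323 = N3978 := ded_11_1 (flp_f L19103) (flp_a L19079) L40215
theorem L40219 : sm gd N8323 = N3974 := ded_23_1 (flp_f L19081) L19077 L40215
theorem L40221 : sm gg N7802 = N8323 := ded_29_1 (flp_f L40215) (flp_g L37474) L37472 L37488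
theorem L40223 : sm ga N3975 = N8324 := rfl
theorem L40225 : sm gc N8324 = N5736 := ded_8_2 L27812 L27480 L40223
theorem L40229 : sm gf N8324 = N5735 := ded_11_2 L40177 L40175 L40223
theorem L40231 : sm gb N3976 = N8325 := rfl
theorem L40233 : sm gc N8325 = N4106 := ded_13_2 (flp_b L19678) (flp_c L9484) (flp_b L9237) L19095 L40231
theorem L40235 : sm gd N3976 = N8326 := rfl
theorem L40237 : sm ga N8326 = N8252 := ded_9_1 L40207 L40205 L40235
theorem L40239 : sm gc N8249 = N8326 := ded_28_0 (flp_d L40235) (flp_c L19095) (flp_d L9235) (flp_c L4667) (flp_d L4635) L9149 L18901 (flp_a L39813)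
theorem L40241 : sm ge N3976 = N8327 := rfl
theorem L40243 : sm gc N8327 = N3977 := ded_19_1 (flp_e L19097) L19095 L40241
theorem L40245 : sm gf N3976 = N8328 := rfl
theorem L40247 : sm gc N8328 = N3978 := ded_20_1 (flp_f L19103) L19095 L40245
theorem L40249 : sm gf N3977 = N8329 := rfl
theorem L40251 : sm gd N8329 = N4064 := ded_23_1 (flp_f L19477) (flp_d L19101) L40249
theorem L40253 : sm ge N8329 = N3978 := ded_25_1 (flp_f L19103) L19097 L40249
theorem L40255 : sm gb N3978 = N8330 := rfl
theorem L40257 : sm gd N8330 = N3979 := ded_14_2 (flp_b L19107) (flp_d L19105) L40255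
theorem L40259 : sm gf N8330 = N4110 := ded_16_2 (flp_b L19700) (flp_f L9494) (flp_b L9237) L19103 L40255
theorem L40261 : sm gg N3978 = N8331 := rfl
theorem L40263 : sm ga N8331 = N7802 := ded_12_1 L40221 L40217 L40261
theorem L40265 : sm gd N8331 = N3980 := ded_24_1 (flp_g L19113) (flp_d L19105) L40261
theorem L40267 : sm gf N7799 = N8331 := ded_29_0 (flp_g L40261) (flp_f L19103) (flp_g L17946) (flp_a L37472)
theorem L40269 : sm ga N3979 = N8332 := rfl
theorem L40271 : sm ge N8332 = N4067 := ded_10_2 (flp_a L19495) (flp_e L19109) L40269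
theorem L40273 : sm gf N8332 = N4111 := ded_11_2 (flp_a L19704) (flp_f L19111) L40269
theorem L40275 : sm gg N3979 = N8333 := rfl
theorem L40277 : sm gc N8333 = N4877 := ded_21_1 (flp_g L23567) L19619 L40275
theorem L40279 : sm ge N8333 = N4068 := ded_26_1 (flp_g L19499) (flp_e L19109) L40275
theorem L40281 : sm gb N3980 = N8334 := rfl
theorem L40283 : sm ge N8334 = N4069 := ded_15_2 (flp_b L19501) (flp_e L19119) L40281
theorem L40285 : sm gb N3981 = N8335 := rfl
theorem L40289 : sm gc N3981 = N8336 := rfl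
theorem L40291 : sm ga N8336 = N3982 := ded_8_1 (flp_c L19129) L19123 L40289
theorem L40295 : sm gf N8336 = N3986 := ded_20_2 (flp_c L19147) (flp_f L19127) L40289
theorem L40297 : sm gd N3982 = N8337 := rfl
theorem L40299 : sm gf N8337 = N3988 := ded_23_2 (flp_d L19161) (flp_f L19133) L40297
theorem L40301 : sm gg N3982 = N8338 := rfl
theorem L40307 : sm gb N8338 = N4699 := ded_17_1 L22687 L23563 (flp_g L23567) L19623 L40301
theorem L40319 : sm gc N3984 = N8341 := rfl
theorem L40321 : sm ge N8341 = N4076 := ded_19_2 (flp_c L19535) (flp_e L19141) L40319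
theorem L40323 : sm gf N3984 = N8342 := rfl
theorem L40327 : sm gb N8342 = N7796 := ded_16_1 (flp_f L37454) (flp_b L17930) L9257 L19139 L40323
theorem L40329 : sm ga N3985 = N8343 := rfl
theorem L40331 : sm ge N8343 = N4078 := ded_10_2 (flp_a L19541) (flp_e L19145) L40329
theorem L40333 : sm gb N8343 = N8300 := ded_7_2 (flp_a L40081) (flp_b L19019) (flp_a L9201) (flp_b L4659) (flp_a L2420) L4677 L9259 L19143 L40329
theorem L40343 : sm gg N3985 = N8346 := rfl
theorem L40347 : sm gb N3986 = N8347 := rfl
theorem L40349 : sm ge N8347 = N4082 := ded_15_2 (flp_b L19551) (flp_e L19151) L40347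
theorem L40351 : sm gd N3986 = N8348 := rfl
theorem L40353 : sm ga N8348 = N3988 := ded_9_1 (flp_d L19161) (flp_a L19149) L40351
theorem L40355 : sm gg N3986 = N8349 := rfl
theorem L40357 : sm ga N8349 = N3989 := ded_12_1 (flp_g L19165) (flp_a L19149) L40355
theorem L40363 : sm gf N8349 = N8338 := ded_29_2 (flp_g L40301) (flp_a L40291) L40295 L40355
theorem L40365 : sm gb N3987 = N8350 := rfl
theorem L40367 : sm ge N8350 = N4085 := ded_15_2 (flp_b L19565) (flp_e L19157) L40365
theorem L40369 : sm gc N3988 = N8351 := rfl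
theorem L40371 : sm ge N3988 = N8352 := rfl
theorem L40373 : sm gb N8352 = N4114 := ded_15_1 (flp_e L19728) (flp_b L19163) L40371
theorem L40375 : sm gd N8352 = N4087 := ded_22_1 (flp_e L19569) (flp_d L9433) (flp_e L9265) L19161 L40371
theorem L40377 : sm gg N3988 = N8353 := rfl
theorem L40379 : sm gd N8353 = N3989 := ded_24_1 (flp_g L19165) L19161 L40377
theorem L40383 : sm gf N3989 = N8354 := rfl
theorem L40385 : sm ga N8354 = N8338 := ded_11_1 (flp_f L40363) L40357 L40383
theorem L40387 : sm gc N8354 = N3990 := ded_20_1 (flp_f L19173) (flp_c L19167) L40383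
theorem L40389 : sm ge N8354 = N4089 := ded_25_1 (flp_f L19579) (flp_e L19169) L40383
theorem L40399 : sm gb N3991 = N8356 := rfl
theorem L40405 : sm gb N3997 = N8357 := rfl
theorem L40407 : sm gf N8357 = N4193 := ded_16_2 L20100 L20371 (flp_b L37807) (flp_f L23853) L40405
theorem L40409 : sm ga N6786 = N8357 := ded_11_3 L40407 (flp_a L32731) L32741
theorem L40413 : sm ga N7882 = N6967 := ded_7_9 L33576 L40409 (flp_b L40405) L23851 (flp_b L37803) L28164 (flp_b L18105) (flp_a L18129) L38088
theorem L40415 : N6965 = N7645 := coi_11_0 (flp_f L38090) L40413 (flp_f L33574) L33570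
theorem L40416 : N7645 = N6965 := (eqc rfl L40415 rfl).symm
theorem L40421 : sm gf N6965 = N7882 := trfs L40416 (flp_f L38090) rfl
theorem L40423 : sm gg N6965 = N4294 := trfs L40416 L36736 rfl
theorem L40427 : sm ga N4294 = N4041 := ded_12_1 L19379 L33570 L40423
theorem L40429 : sm ga N3999 = N8358 := rfl
theorem L40431 : sm gg N8358 = N4009 := ded_12_2 (flp_a L19253) (flp_g L19213) L40429
theorem L40433 : sm gf N8358 = N6797 := ded_29_0 (flp_g L32795) (flp_f L19257) (flp_g L19213) L40429
theorem L40443 : sm gf N3999 = N8360 := rfl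
theorem L40445 : sm ga N8360 = N6797 := ded_11_1 (flp_f L40433) (flp_a L40429) L40443
theorem L40449 : sm gb N8360 = N4233 := ded_16_1 (flp_f L28166) L37803 (flp_f L19215) L19211 L40443
theorem L40467 : sm ge N4002 = N8364 := rfl
theorem L40469 : sm gb N8364 = N4006 := ded_15_1 (flp_e L19239) (flp_b L19227) L40467
theorem L40475 : sm gb N4004 = N8366 := rfl
theorem L40477 : sm gg N8366 = N4008 := ded_17_2 (flp_b L19251) (flp_g L9289) L9283 L19231 L40475
theorem L40479 : sm gf N4004 = N8367 := rfl
theorem L40485 : sm gg N8367 = N7813 := ded_29_3 L37564 L23823 L19231 L40479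
theorem L40491 : sm ge N4005 = N8369 := rfl
theorem L40493 : sm ga N8369 = N4013 := ded_10_1 (flp_e L19269) (flp_a L19235) L40491
theorem L40495 : sm gc N8369 = N4006 := ded_19_1 (flp_e L19239) L19233 L40491
theorem L40497 : sm gg N4005 = N8370 := rfl
theorem L40499 : sm ga N8370 = N4014 := ded_12_1 (flp_g L19275) (flp_a L19235) L40497
theorem L40501 : sm gc N8370 = N4007 := ded_21_1 (flp_g L19243) L19233 L40497
theorem L40507 : sm gg N4006 = N8371 := rfl
theorem L40509 : sm ga N8371 = N4015 := ded_12_1 (flp_g L19279) (flp_a L19241) L40507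
theorem L40511 : sm ge N8371 = N4007 := ded_26_1 (flp_g L19243) L19239 L40507
theorem L40513 : sm gf N8371 = N7829 := ded_29_2 (flp_g L37657) (flp_a L37629) L37631 L40507
theorem L40525 : sm gf N4008 = N8375 := rfl
theorem L40527 : sm gb N8375 = N7833 := ded_16_1 (flp_f L37679) (flp_b L18009) (flp_f L9295) L19251 L40525
theorem L40529 : sm ga N4119 = N8375 := ded_7_9 L40527 L37681 (flp_b L24060) (flp_a L11563) (flp_b L5735) L2981 L4821 L9524 L19756
theorem L40533 : sm gb N4009 = N8376 := rfl
theorem L40535 : sm gc N4009 = N8377 := rfl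
theorem L40539 : sm gf N4009 = N8378 := rfl
theorem L40541 : sm ga N8378 = N4011 := ded_11_1 (flp_f L19257) L19253 L40539
theorem L40543 : sm gg N8378 = N8360 := ded_29_3 L40445 (flp_f L40433) L40431 L40539
theorem L40545 : sm gb N4050 = N8378 := ded_17_5 L40543 L40449 L20359 (flp_b L19407) L19415
theorem L40547 : sm ga N7849 = N6937 := ded_7_5 L33455 L20679 (flp_b L20313) L20311 L40545 L40541 L19259 (flp_a L18045) L37753
theorem L40549 : N6935 = N7659 := coi_12_0 (flp_g L37755) L40547 (flp_g L33453) L33449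
theorem L40550 : N7659 = N6935 := (eqc rfl L40549 rfl).symm
theorem L40551 : sm gb N6935 = N3671 := trfs L40550 (flp_b L36786) rfl
theorem L40553 : sm gg N6935 = N7849 := trfs L40550 (flp_g L37755) rfl
theorem L40581 : sm gg N4013 = N8384 := rfl
theorem L40583 : sm gc N8384 = N4015 := ded_21_1 (flp_g L19279) (flp_c L19273) L40581
theorem L40585 : sm ge N8384 = N4014 := ded_26_1 (flp_g L19275) L19269 L40581
theorem L40587 : sm gb N4014 = N8385 := rfl
theorem L40589 : sm gg N8385 = N4770 := ded_17_2 (flp_b L23056) (flp_g L11111) (flp_b L9301) L19275 L40587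
theorem L40599 : sm gb N4015 = N8387 := rfl
theorem L40601 : sm ge N8387 = N4016 := ded_15_2 (flp_b L19283) (flp_e L19281) L40599
theorem L40603 : sm gg N8387 = N4115 := ded_17_2 (flp_b L19738) (flp_g L9514) (flp_b L9305) L19279 L40599
theorem L40605 : sm gf N4015 = N8388 := rfl
theorem L40609 : sm ge N8388 = N4017 := ded_25_1 (flp_f L19289) (flp_e L19281) L40605
theorem L40611 : sm gg N8388 = N7824 := ded_29_3 L37629 L18003 L19279 L40605
theorem L40613 : sm ga N4016 = N8389 := rfl
theorem L40615 : sm gd N8389 = N4018 := ded_9_2 (flp_a L19297) (flp_d L19285) L40613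
theorem L40619 : sm gf N8389 = N4954 := ded_29_0 (flp_g L23998) (flp_f L19750) (flp_g L19287) L40613
theorem L40621 : sm gc N4016 = N8390 := rfl
theorem L40623 : sm gg N8390 = N4117 := ded_21_2 (flp_c L19746) (flp_g L19287) L40621
theorem L40631 : sm gb N4017 = N8392 := rfl
theorem L40633 : sm gd N8392 = N4020 := ded_14_2 (flp_b L19303) (flp_d L19293) L40631
theorem L40635 : sm gb N4018 = N8393 := rfl
theorem L40637 : sm gf N8393 = N4964 := ded_16_2 (flp_b L24046) (flp_f L11545) L11543 (flp_f L19527) L40635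
theorem L40639 : sm gb N4019 = N8394 := rfl
theorem L40641 : sm gf N8394 = N4020 := ded_16_2 (flp_b L19303) (flp_f L9315) L9311 L19301 L40639
theorem L40643 : sm ga N8394 = N4082 := ded_7_1 (flp_b L19551) L9425 L4755 L2536 L2977 L5731 L11543 L19525 L40639
theorem L40645 : sm ga N4020 = N8395 := rfl
theorem L40647 : sm gf N8395 = N4082 := ded_11_2 (flp_a L40643) L40641 L40645
theorem L40649 : sm gc N4020 = N8396 := rfl
theorem L40651 : sm gb N8396 = N4027 := ded_13_1 (flp_c L19327) (flp_b L9333) (flp_c L9319) L19303 L40649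
theorem L40653 : sm gg N4020 = N8397 := rfl
theorem L40655 : sm gb N8397 = N7822 := ded_17_1 (flp_g L37616) (flp_b L17986) (flp_g L9321) L19303 L40653
theorem L40667 : sm gb N4022 = N8402 := rfl
theorem L40669 : sm gd N4022 = N8403 := rfl
theorem L40671 : sm ga N8403 = N4023 := ded_9_1 (flp_d L19313) (flp_a L19309) L40669
theorem L40673 : sm gg N8403 = N4034 := ded_24_2 (flp_d L19343) (flp_g L19311) L40669
theorem L40675 : sm gc N4023 = N8404 := rfl
theorem L40677 : sm gg N8404 = N4037 := ded_21_2 (flp_c L19357) (flp_g L19315) L40675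
theorem L40679 : sm ge N4023 = N8405 := rfl
theorem L40681 : sm gg N8405 = N4038 := ded_26_2 (flp_e L19359) (flp_g L19315) L40679
theorem L40683 : sm gf N4023 = N8406 := rfl
theorem L40689 : sm ga N4025 = N8408 := rfl
theorem L40691 : sm gf N8408 = N4026 := ded_11_2 (flp_a L19325) (flp_f L19323) L40689
theorem L40693 : sm gb N8408 = N7856 := ded_7_2 (flp_a L37793) L37799 L20661 L20675 L40427 (flp_b L19377) L9359 L19321 L40689
theorem L40695 : sm gb N4026 = N6682 := ded_16_1 (flp_f L32220) L37805 L37789 (flp_b L40693) L40691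
theorem L40701 : sm gg N4025 = N8410 := rfl
theorem L40703 : sm gb N8410 = N7592 := ded_17_1 L36473 (flp_b L19355) (flp_g L9345) L19321 L40701
theorem L40709 : sm gg N4026 = N8412 := rfl
theorem L40711 : sm ga N8412 = N4028 := ded_12_1 (flp_g L19329) L19325 L40709
theorem L40713 : sm gf N8412 = N8410 := ded_29_2 (flp_g L40701) L40689 L40691 L40709
theorem L40723 : sm gf N4028 = N8415 := rfl
theorem L40725 : sm ga N8415 = N8410 := ded_11_1 (flp_f L40713) L40711 L40723
theorem L40727 : sm gg N8415 = N8408 := ded_29_3 (flp_a L40689) L19323 L19329 L40723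
theorem L40729 : sm gc N4029 = N8416 := rfl
theorem L40731 : sm ga N8416 = N4030 := ded_8_1 (flp_c L19335) L19333 L40729
theorem L40737 : sm gg N4029 = N8418 := rfl
theorem L40739 : sm ga N8418 = N4032 := ded_12_1 (flp_g L19339) L19333 L40737
theorem L40741 : sm gb N4030 = N8419 := rfl
theorem L40743 : sm gc N8419 = N4033 := ded_13_2 (flp_b L19341) (flp_c L9337) L9335 L19335 L40741
theorem L40747 : sm gf N4030 = N8421 := rfl
theorem L40749 : sm gc N8421 = N4031 := ded_20_1 (flp_f L19337) L19335 L40747
theorem L40755 : sm gb N4031 = N8423 := rfl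
theorem L40757 : sm gf N8423 = N4036 := ded_16_2 (flp_b L19355) (flp_f L9341) L9335 L19337 L40755
theorem L40759 : sm gg N4031 = N7653 := ded_31_3 L37933 (flp_b L20713) L20715 (flp_f L20721) L32729 (flp_g L31994) L32220 (flp_b L40695) L40709 L40713 L40703 L36473 (flp_f L40757) (flp_b L40755)
theorem L40763 : sm ga N5910 = N8423 := ded_11_3 L40757 L36469 L36465
theorem L40765 : sm gg N7847 = N8421 := ded_21_2 L40749 L40759 L37931
theorem L40767 : N8418 = N4303 := coi_29_0 (flp_f L37933) (flp_g L40759) (flp_f L19337) L19339 (flp_a L40739)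
theorem L40768 : N8418 = N4303 := eqc rfl L40767 rfl
theorem L40771 : sm gg N4303 = N4029 := trfs L40768 (flp_g L40737) rfl
theorem L40773 : sm gc N8423 = N5912 := ded_8_2 (flp_a L28662) (flp_c L28658) L40763
theorem L40775 : sm gg N4471 = N8416 := ded_29_3 L40731 L40747 (flp_g L40765) L37743
theorem L40787 : sm ga N4033 = N8425 := rfl
theorem L40789 : sm gb N8425 = N5031 := ded_7_2 (flp_a L24336) (flp_b L11686) (flp_a L5793) (flp_b L3007) (flp_a L2514) (flp_b L4715) (flp_a L9339) L19341 L40787
theorem L40791 : sm gd N4033 = N8426 := rfl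
theorem L40797 : sm gg N4033 = N8428 := rfl
theorem L40805 : sm ge N4034 = N8430 := rfl
theorem L40807 : sm ga N8430 = N4038 := ded_10_1 (flp_e L19359) (flp_a L19345) L40805
theorem L40809 : sm gf N4034 = N8431 := rfl
theorem L40811 : sm ga N8431 = N4039 := ded_11_1 (flp_f L19363) (flp_a L19345) L40809
theorem L40815 : sm gg N8406 = N8431 := ded_29_1 (flp_f L40809) (flp_g L40673) L40671 L40683
theorem L40819 : sm gc N4036 = N8433 := rfl
theorem L40821 : sm ga N8433 = N5914 := ded_8_1 L36467 (flp_a L36469) L40819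
theorem L40823 : sm gf N8433 = N5912 := ded_20_2 (flp_c L40773) L40757 L40819
theorem L40825 : sm gd N4037 = N8434 := rfl
theorem L40829 : sm gc N8127 = N8434 := ded_28_0 (flp_d L40825) (flp_c L19357) (flp_d L9347) (flp_c L4713) (flp_d L4597) L9049 L18675 (flp_a L39318)
theorem L40831 : sm ge N4037 = N8435 := rfl
theorem L40833 : sm gc N8435 = N4038 := ded_19_1 (flp_e L19359) L19357 L40831
theorem L40839 : sm gf N4038 = N8437 := rfl
theorem L40843 : sm gb N8437 = N4995 := ded_16_1 (flp_f L24180) L11618 (flp_f L9536) (flp_b L19361) L40839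
theorem L40845 : sm gg N4039 = N8438 := rfl
theorem L40847 : sm ga N8438 = N8406 := ded_12_1 L40815 L40811 L40845
theorem L40849 : sm gd N8438 = N4040 := ded_24_1 (flp_g L19369) (flp_d L19365) L40845
theorem L40871 : sm gb N4042 = N8442 := rfl
theorem L40873 : sm gf N8442 = N8376 := ded_16_2 (flp_b L40533) L40539 (flp_b L40545) (flp_f L20347) L40871
theorem L40875 : sm gg N8442 = N7531 := ded_17_2 L37964 (flp_g L33469) L16076 (flp_g L20349) L40871
theorem L40879 : sm gg N7533 = N8376 := ded_29_1 (flp_f L40873) L40875 (flp_a L36161) L36165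
theorem L40881 : sm gb N4043 = N8443 := rfl
theorem L40883 : sm gg N8443 = N4189 := ded_17_2 L20090 L20303 (flp_b L20313) L20318 L40881
theorem L40885 : sm gc N4190 = N8443 := ded_21_3 L40883 (flp_c L20086) L20092
theorem L40887 : sm gb N4052 = N8444 := rfl
theorem L40889 : sm gg N8444 = N4784 := ded_17_2 (flp_b L23127) (flp_g L20689) L37960 (flp_g L37761) L40887
theorem L40891 : sm ga N8444 = N4121 := ded_7_1 (flp_b L19766) (flp_a L9538) (flp_b L4829) L2520 (flp_b L2442) (flp_a L4725) L9371 L19425 L40887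
theorem L40893 : sm gc N5879 = N8444 := ded_21_3 L40889 L23129 L28519
theorem L40909 : sm ge N4053 = N8448 := rfl
theorem L40911 : sm gb N8448 = N4057 := ded_15_1 (flp_e L19441) (flp_b L19429) L40909
theorem L40925 : sm gb N4056 = N8451 := rfl
theorem L40927 : sm gd N8451 = N8155 := ded_14_2 (flp_b L39442) L19439 L40925
theorem L40929 : sm gg N8451 = N8451 := ded_17_2 (flp_b L40925) (flp_g L37980) L37984 L37980 L40925
theorem L40930 : sm ge N4056 = N8452 := rfl
theorem L40932 : sm ga N8452 = N4062 := ded_10_1 (flp_e L19469) (flp_a L19437) L40930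
theorem L40934 : sm gc N8452 = N4057 := ded_19_1 (flp_e L19441) L19435 L40930
theorem L40936 : sm gf N4056 = N8453 := rfl
theorem L40938 : sm ga N8453 = N4063 := ded_11_1 (flp_f L19473) (flp_a L19437) L40936
theorem L40940 : sm gc N8453 = N4058 := ded_20_1 (flp_f L19445) L19435 L40936
theorem L40946 : sm gf N4057 = N8454 := rfl
theorem L40948 : sm ga N8454 = N4064 := ded_11_1 (flp_f L19477) (flp_a L19443) L40946
theorem L40950 : sm ge N8454 = N4058 := ded_25_1 (flp_f L19445) L19441 L40946
theorem L40952 : sm gg N7867 = N8454 := ded_29_1 (flp_f L40946) (flp_g L37990) L37988 L38014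
theorem L40954 : sm gb N4059 = N8455 := rfl
theorem L40956 : sm gc N8455 = N5937 := ded_13_2 (flp_b L28769) L13892 (flp_b L13846) (flp_c L19455) L40954
theorem L40958 : sm gf N8455 = N7530 := ded_16_2 (flp_b L36463) L36465 (flp_b L28656) (flp_f L19457) L40954
theorem L40960 : sm gg N8455 = N8356 := ded_17_2 (flp_b L40399) L23863 (flp_b L37803) L28168 L40954
theorem L40966 : sm gd N4060 = N8457 := rfl
theorem L40968 : sm gb N8457 = N4061 := ded_14_1 (flp_d L19463) L19459 L40966
theorem L40970 : sm ge N4060 = N8458 := rfl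
theorem L40972 : sm gb N8458 = N4062 := ded_15_1 (flp_e L19469) L19459 L40970
theorem L40976 : sm gf N4060 = N8459 := rfl
theorem L40978 : sm gc N8459 = N4133 := ded_20_1 (flp_f L19816) (flp_c L19461) L40976
theorem L40984 : sm ge N4061 = N8461 := rfl
theorem L40988 : sm gc N8461 = N8150 := ded_19_1 (flp_e L39420) L19467 L40984
theorem L40998 : sm gd N4062 = N8463 := rfl
theorem L41000 : sm gf N4062 = N8464 := rfl
theorem L41002 : sm gc N8464 = N4064 := ded_20_1 (flp_f L19477) (flp_c L19471) L41000
theorem L41004 : sm ge N8464 = N4063 := ded_25_1 (flp_f L19473) L19469 L41000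
theorem L41008 : sm gg N4063 = N8466 := rfl
theorem L41014 : sm gf N7861 = N8466 := ded_29_0 (flp_g L41008) (flp_f L19473) (flp_g L18069) (flp_a L37978)
theorem L41016 : sm gb N4064 = N8467 := rfl
theorem L41018 : sm ge N8467 = N4065 := ded_15_2 (flp_b L19481) (flp_e L19479) L41016
theorem L41020 : sm gf N8467 = N4138 := ded_16_2 (flp_b L19840) (flp_f L9577) (flp_b L9391) L19477 L41016
theorem L41022 : sm gg N4064 = N8468 := rfl
theorem L41024 : sm ga N8468 = N7867 := ded_12_1 L40952 L40948 L41022
theorem L41026 : sm ge N8468 = N4066 := ded_26_1 (flp_g L19487) (flp_e L19479) L41022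
theorem L41028 : sm gf N7862 = N8468 := ded_29_0 (flp_g L41022) (flp_f L19477) (flp_g L18075) (flp_a L37988)
theorem L41030 : sm ga N4065 = N8469 := rfl
theorem L41032 : sm gd N8469 = N4067 := ded_9_2 (flp_a L19495) (flp_d L19483) L41030
theorem L41034 : sm gf N8469 = N4139 := ded_11_2 (flp_a L19844) (flp_f L19485) L41030
theorem L41036 : sm gc N4065 = N8470 := rfl
theorem L41038 : sm gf N8470 = N4140 := ded_20_2 (flp_c L19848) (flp_f L19485) L41036
theorem L41040 : sm gg N4065 = N8471 := rfl
theorem L41044 : sm gb N4066 = N8472 := rfl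
theorem L41046 : sm gd N8472 = N4069 := ded_14_2 (flp_b L19501) (flp_d L19491) L41044
theorem L41048 : sm gb N4067 = N8473 := rfl
theorem L41050 : sm ga N4069 = N8474 := rfl
theorem L41078 : sm ge N4072 = N8483 := rfl
theorem L41080 : sm gf N8483 = N4087 := ded_25_2 (flp_e L19569) (flp_f L19513) L41078
theorem L41088 : sm ga N4074 = N8485 := rfl
theorem L41090 : sm gg N8485 = N4075 := ded_12_2 (flp_a L19533) (flp_g L19531) L41088
theorem L41092 : sm gf N4074 = N8486 := rfl
theorem L41100 : sm gf N4075 = N8489 := rfl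
theorem L41102 : sm ga N8489 = N4077 := ded_11_1 (flp_f L19537) L19533 L41100
theorem L41104 : sm gg N8486 = N8489 := ded_29_1 (flp_f L41100) (flp_g L41090) (flp_a L41088) L41092
theorem L41106 : sm gb N6802 = N8489 := ded_31_14 (flp_g L41104) (flp_f L41092) (flp_b L19529) (flp_g L9417) L4743 (flp_b L2446) L1232 (flp_f L1035) L1022 L2058 L3980 L7747 L15786 L32804
theorem L41112 : sm gb N7820 = N8485 := ded_31_14 L41090 L41100 (flp_b L41106) L32808 L32773 L32781 (flp_g L32795) (flp_f L19257) (flp_b L9297) (flp_g L4687) (flp_f L4475) L8751 L17984 L37605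
theorem L41120 : sm gg N4077 = N8492 := rfl
theorem L41122 : sm ga N8492 = N8486 := ded_12_1 L41104 L41102 L41120
theorem L41126 : sm gb N8492 = N8415 := ded_17_1 L40727 L40693 (flp_g L37787) (flp_b L19539) L41120
theorem L41128 : sm gb N8486 = N7584 := ded_7_2 (flp_a L36429) (flp_b L17457) (flp_a L8507) L17469 L36457 (flp_b L40703) (flp_a L40725) (flp_b L41126) L41122
theorem L41130 : sm gf N7584 = N4085 := ded_16_2 (flp_b L19565) L9431 L19529 L41092 L41128
theorem L41134 : sm gc N4078 = N8493 := rfl
theorem L41136 : sm ga N8493 = N4079 := ded_8_1 (flp_c L19545) L19541 L41134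
theorem L41156 : sm gb N4079 = N8496 := rfl
theorem L41158 : sm gc N8496 = N4082 := ded_13_2 (flp_b L19551) (flp_c L9423) L9421 L19545 L41156
theorem L41162 : sm gf N4079 = N8498 := rfl
theorem L41164 : sm gc N8498 = N4080 := ded_20_1 (flp_f L19547) L19545 L41162
theorem L41166 : sm gg N4079 = N8499 := rfl
theorem L41180 : sm gb N4081 = N8501 := rfl
theorem L41182 : sm gf N8501 = N7583 := ded_16_2 (flp_b L36425) (flp_f L17591) L36716 (flp_f L36718) L41180
theorem L41184 : sm gg N8501 = N4085 := ded_17_2 (flp_b L19565) (flp_g L9427) L9421 L19549 L41180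
theorem L41186 : sm gd N4082 = N8502 := rfl
theorem L41200 : sm ge N4083 = N8505 := rfl
theorem L41202 : sm ga N8505 = N4087 := ded_10_1 (flp_e L19569) (flp_a L19555) L41200
theorem L41212 : sm gb N4084 = N8507 := rfl
theorem L41214 : sm gf N8507 = N4967 := ded_16_2 (flp_b L24058) (flp_f L11561) L19519 (flp_f L19563) L41212
theorem L41224 : sm ge N4086 = N8510 := rfl
theorem L41226 : sm gc N8510 = N4087 := ded_19_1 (flp_e L19569) L19567 L41224
theorem L41232 : sm gg N4087 = N8512 := rfl
theorem L41234 : sm ge N8512 = N4088 := ded_26_1 (flp_g L19573) L19569 L41232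
theorem L41236 : sm gb N8512 = N4945 := ded_17_1 (flp_g L23956) L11495 (flp_g L9603) (flp_b L19571) L41232
theorem L41238 : sm gf N4088 = N8513 := rfl
theorem L41242 : sm gd N8513 = N4089 := ded_23_1 (flp_f L19579) (flp_d L19575) L41238
theorem L41254 : sm gc N4090 = N8516 := rfl
theorem L41256 : sm gf N8516 = N6936 := ded_20_2 (flp_c L33451) (flp_f L19589) L41254
theorem L41258 : sm gg N4090 = N8517 := rfl
theorem L41260 : sm gf N7849 = N8517 := ded_29_0 (flp_g L41258) L19589 L33453 (flp_a L40547)
theorem L41266 : sm ga N4091 = N8518 := rfl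
theorem L41268 : sm ge N4091 = N8519 := rfl
theorem L41270 : sm gb N8519 = N4092 := ded_15_1 (flp_e L19593) L19591 L41268
theorem L41272 : sm gf N4091 = N8520 := rfl
theorem L41274 : sm gb N8520 = N4865 := ded_16_1 (flp_f L23509) (flp_b L11326) (flp_f L9451) L19591 L41272
theorem L41276 : sm gg N4091 = N8521 := rfl
theorem L41278 : sm gd N4092 = N8522 := rfl
theorem L41280 : sm gf N8522 = N4867 := ded_23_2 (flp_d L23513) (flp_f L19597) L41278
theorem L41282 : sm gg N4092 = N8523 := rfl
theorem L41284 : sm gc N8523 = N4094 := ded_21_1 (flp_g L19603) (flp_c L19595) L41282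
theorem L41286 : sm ge N8523 = N4093 := ded_26_1 (flp_g L19599) L19593 L41282
theorem L41288 : sm gb N4093 = N8524 := rfl
theorem L41290 : sm gb N4094 = N8525 := rfl
theorem L41292 : sm gd N8525 = N4115 := ded_14_2 (flp_b L19738) (flp_d L19605) L41290
theorem L41294 : sm ge N8525 = N4095 := ded_15_2 (flp_b L19609) (flp_e L19607) L41290
theorem L41296 : sm ga N4095 = N8526 := rfl
theorem L41298 : sm gd N8526 = N4096 := ded_9_2 (flp_a L19613) (flp_d L19611) L41296
theorem L41300 : sm gc N4095 = N8527 := rfl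
theorem L41302 : sm gf N4095 = N8528 := rfl
theorem L41304 : sm gd N8528 = N4097 := ded_23_1 (flp_f L19617) (flp_d L19611) L41302
theorem L41306 : sm gb N8528 = N8337 := ded_16_1 L40299 L19163 L9510 L19609 L41302
theorem L41308 : sm gb N4096 = N8529 := rfl
theorem L41310 : sm ge N8529 = N4119 := ded_15_2 (flp_b L19756) (flp_e L19615) L41308
theorem L41312 : sm gf N4096 = N8530 := rfl
theorem L41320 : sm gg N8530 = N8290 := ded_29_3 L40031 (flp_f L40027) L40025 L41312
theorem L41322 : sm gb N4098 = N8531 := rfl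
theorem L41324 : sm gd N8531 = N4907 := ded_14_2 (flp_b L23725) (flp_d L19631) L41322
theorem L41326 : sm ge N4098 = N8532 := rfl
theorem L41328 : sm ga N8532 = N4906 := ded_10_1 L23723 (flp_a L19627) L41326
theorem L41330 : sm gc N8532 = N4099 := ded_19_1 (flp_e L19633) L19625 L41326
theorem L41332 : sm gf N8532 = N4900 := ded_25_2 (flp_e L23701) (flp_f L19629) L41326
theorem L41349 : sm gg N4100 = N8536 := rfl
theorem L41351 : sm ga N8536 = N4103 := ded_12_1 (flp_g L19655) L19641 L41349
theorem L41364 : sm gf N4101 = N8539 := rfl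
theorem L41366 : sm gd N8539 = N4102 := ded_23_1 (flp_f L19650) L19646 L41364
theorem L41368 : sm gg N4101 = N8540 := rfl
theorem L41372 : sm gb N8540 = N4896 := ded_17_1 (flp_g L23679) L11386 (flp_g L9482) (flp_b L19648) L41368
theorem L41374 : sm gg N4102 = N8541 := rfl
theorem L41379 : sm gf N8536 = N8541 := ded_29_0 (flp_g L41374) (flp_f L19650) L19655 (flp_a L41351)
theorem L41390 : sm gb N4104 = N8543 := rfl
theorem L41392 : sm gd N8543 = N4106 := ded_14_2 (flp_b L19678) (flp_d L19668) L41390
theorem L41394 : sm ge N4104 = N8544 := rfl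
theorem L41400 : sm gg N8544 = N4900 := ded_26_2 (flp_e L23701) (flp_g L19666) L41394
theorem L41402 : sm ga N4106 = N8545 := rfl
theorem L41404 : sm ge N4106 = N8546 := rfl
theorem L41406 : sm gb N8546 = N4107 := ded_15_1 (flp_e L19680) L19678 L41404
theorem L41408 : sm gf N4106 = N8547 := rfl
theorem L41410 : sm gg N4106 = N8548 := rfl
theorem L41412 : sm gb N8548 = N4904 := ded_17_1 (flp_g L23715) (flp_b L11408) (flp_g L9486) L19678 L41410
theorem L41414 : sm gd N4107 = N8549 := rfl
theorem L41416 : sm gg N8549 = N4905 := ded_24_2 (flp_d L23717) (flp_g L19684) L41414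
theorem L41418 : sm gf N4107 = N8550 := rfl
theorem L41420 : sm gc N8550 = N4109 := ded_20_1 (flp_f L19692) (flp_c L19682) L41418
theorem L41422 : sm ge N8550 = N4108 := ded_25_1 (flp_f L19686) L19680 L41418
theorem L41424 : sm gg N8550 = N8532 := ded_29_3 L41328 (flp_f L23719) (flp_g L19684) L41418
theorem L41426 : sm gb N4108 = N8551 := rfl
theorem L41428 : sm gb N4109 = N8552 := rfl
theorem L41430 : sm gd N8552 = N4138 := ded_14_2 (flp_b L19840) (flp_d L19694) L41428
theorem L41432 : sm ge N8552 = N4110 := ded_15_2 (flp_b L19700) (flp_e L19696) L41428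
theorem L41434 : sm ga N4110 = N8553 := rfl
theorem L41436 : sm gd N8553 = N4111 := ded_9_2 (flp_a L19704) (flp_d L19702) L41434
theorem L41438 : sm gc N4110 = N8554 := rfl
theorem L41440 : sm gg N4110 = N8555 := rfl
theorem L41442 : sm gd N8555 = N4112 := ded_24_1 (flp_g L19710) (flp_d L19702) L41440
theorem L41444 : sm gb N8555 = N8294 := ded_17_1 L40053 L19039 (flp_g L9498) L19700 L41440
theorem L41446 : sm gb N4111 = N8556 := rfl
theorem L41448 : sm ge N8556 = N4142 := ded_15_2 (flp_b L19856) (flp_e L19708) L41446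
theorem L41450 : sm gg N4111 = N8557 := rfl
theorem L41452 : sm ga N8557 = N4112 := ded_12_1 (flp_g L19710) L19704 L41450
theorem L41454 : sm gc N8557 = N8289 := ded_21_1 L40025 (flp_c L19706) L41450
theorem L41458 : sm gf N8557 = N8333 := ded_29_2 (flp_g L40275) L40269 L40273 L41450
theorem L41460 : sm gf N4112 = N8558 := rfl
theorem L41462 : sm ga N8558 = N8333 := ded_11_1 (flp_f L41458) L41452 L41460
theorem L41464 : sm gc N8558 = N8290 := ded_20_1 (flp_f L40029) (flp_c L19712) L41460
theorem L41466 : sm ge N8558 = N4144 := ded_25_1 (flp_f L19866) (flp_e L19714) L41460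
theorem L41468 : sm gg N8558 = N8332 := ded_29_3 (flp_a L40269) L19111 L19710 L41460
theorem L41470 : sm gb N4113 = N8559 := rfl
theorem L41472 : sm gd N8559 = N4869 := ded_14_2 (flp_b L23521) (flp_d L19726) L41470
theorem L41474 : sm ge N4113 = N8560 := rfl
theorem L41476 : sm ga N8560 = N4868 := ded_10_1 L23519 (flp_a L19720) L41474
theorem L41478 : sm gc N8560 = N4114 := ded_19_1 (flp_e L19728) L19718 L41474
theorem L41480 : sm gf N8560 = N8523 := ded_25_2 L41286 (flp_f L19722) L41474
theorem L41482 : sm gg N8560 = N4862 := ded_26_2 (flp_e L23497) (flp_g L19724) L41474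
theorem L41484 : sm ga N4115 = N8561 := rfl
theorem L41486 : sm ge N8561 = N4116 := ded_10_2 (flp_a L19742) (flp_e L19740) L41484
theorem L41488 : sm gc N4115 = N8562 := rfl
theorem L41490 : sm ge N8562 = N4117 := ded_19_2 (flp_c L19746) (flp_e L19740) L41488
theorem L41492 : sm gb N8562 = N4951 := ded_13_1 (flp_c L23982) (flp_b L11515) (flp_c L9516) L19738 L41488
theorem L41494 : sm gf N4115 = N8563 := rfl
theorem L41496 : sm ge N8563 = N4118 := ded_25_1 (flp_f L19750) (flp_e L19740) L41494
theorem L41500 : sm gb N4116 = N8564 := rfl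
theorem L41502 : sm gd N8564 = N4119 := ded_14_2 (flp_b L19756) (flp_d L19744) L41500
theorem L41504 : sm gc N4116 = N8565 := rfl
theorem L41506 : sm ga N8565 = N4117 := ded_8_1 (flp_c L19746) L19742 L41504
theorem L41520 : sm gf N4117 = N8568 := rfl
theorem L41522 : sm gc N8568 = N4118 := ded_20_1 (flp_f L19750) L19746 L41520
theorem L41524 : sm gc N4119 = N8569 := rfl
theorem L41629 : sm gg N4131 = N8595 := rfl
theorem L41631 : sm ga N8595 = N4134 := ded_12_1 (flp_g L19818) L19810 L41629
theorem L41647 : sm gb N4133 = N8599 := rfl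
theorem L41651 : sm gf N8599 = N4137 := ded_16_2 (flp_b L19836) (flp_f L9567) L9559 L19816 L41647
theorem L41653 : sm gg N4133 = N8600 := rfl
theorem L41655 : sm gf N8595 = N8600 := ded_29_0 (flp_g L41653) (flp_f L19816) L19818 (flp_a L41631)
theorem L41685 : sm gc N4137 = N8606 := rfl
theorem L41687 : sm gb N8606 = N4140 := ded_13_1 (flp_c L19848) (flp_b L9583) (flp_c L9571) L19836 L41685
theorem L41695 : sm ga N4138 = N8608 := rfl
theorem L41697 : sm ge N8608 = N4139 := ded_10_2 (flp_a L19844) (flp_e L19842) L41695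
theorem L41699 : sm gc N4138 = N8609 := rfl
theorem L41701 : sm ge N8609 = N4140 := ded_19_2 (flp_c L19848) (flp_e L19842) L41699
theorem L41703 : sm gg N4138 = N8610 := rfl
theorem L41705 : sm ge N8610 = N4141 := ded_26_1 (flp_g L19850) (flp_e L19842) L41703
theorem L41707 : sm gb N8610 = N8405 := ded_17_1 L40681 L19361 (flp_g L9581) L19840 L41703
theorem L41709 : sm gb N4139 = N8611 := rfl
theorem L41711 : sm gd N8611 = N4142 := ded_14_2 (flp_b L19856) (flp_d L19846) L41709
theorem L41717 : sm gg N4139 = N8613 := rfl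
theorem L41719 : sm ga N8613 = N4141 := ded_12_1 (flp_g L19850) L19844 L41717
theorem L41723 : sm gf N8613 = N8471 := ded_29_2 (flp_g L41040) L41030 L41034 L41717
theorem L41727 : sm gg N4140 = N8615 := rfl
theorem L41729 : sm gc N8615 = N4141 := ded_21_1 (flp_g L19850) L19848 L41727
theorem L41731 : sm gf N4141 = N8616 := rfl
theorem L41733 : sm ga N8616 = N8471 := ded_11_1 (flp_f L41723) L41719 L41731
theorem L41735 : sm gd N8616 = N4144 := ded_23_1 (flp_f L19866) (flp_d L19852) L41731
theorem L41737 : sm gg N8616 = N8469 := ded_29_3 (flp_a L41030) L19485 L19850 L41731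
theorem L41741 : sm gc N4142 = N8618 := rfl
theorem L41743 : sm gb N8618 = N8569 := ded_13_1 (flp_c L41524) (flp_b L19756) (flp_c L9589) L19856 L41741
theorem L41751 : sm gb N4144 = N8622 := rfl
theorem L41815 : sm gf N4150 = N8635 := rfl
theorem L41817 : sm ga N8635 = N4152 := ded_11_1 (flp_f L19908) L19896 L41815
theorem L41837 : sm gf N4151 = N8638 := rfl
theorem L41839 : sm gc N8638 = N6441 := ded_20_1 (flp_f L31149) (flp_c L19906) L41837
theorem L41843 : sm gg N4151 = N8639 := rfl
theorem L41847 : sm ge N8639 = N4153 := ded_26_1 (flp_g L19914) L19902 L41843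
theorem L41859 : sm gf N4153 = N8641 := rfl
theorem L41867 : sm gg N8641 = N8635 := ded_29_3 L41817 (flp_f L19908) L19914 L41859
theorem L41925 : sm gg N4157 = N8655 := rfl
theorem L41927 : sm ga N8655 = N4166 := ded_12_1 (flp_g L19974) (flp_a L19938) L41925
theorem L41985 : sm gf N4164 = N8668 := rfl
theorem L41987 : sm gd N8668 = N4165 := ded_23_1 (flp_f L19970) L19966 L41985
theorem L41989 : sm gg N4164 = N8669 := rfl
theorem L41993 : sm gb N8669 = N5094 := ded_17_1 (flp_g L24649) L11847 (flp_g L9657) (flp_b L19968) L41989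
theorem L41995 : sm gg N4165 = N8670 := rfl
theorem L41999 : sm gf N8655 = N8670 := ded_29_0 (flp_g L41995) (flp_f L19970) L19974 (flp_a L41927)
theorem L42015 : sm gc N4169 = N8674 := rfl
theorem L42019 : sm ge N8674 = N4170 := ded_19_2 (flp_c L19998) (flp_e L19996) L42015
theorem L42021 : sm gg N8674 = N5103 := ded_21_2 (flp_c L24690) (flp_g L19994) L42015
theorem L42027 : sm gd N4171 = N8677 := rfl
theorem L42029 : sm gb N8677 = N4172 := ded_14_1 (flp_d L20004) L20002 L42027
theorem L42031 : sm gc N8677 = N8677 := ded_13_0 L42029 L20007 L9706 (flp_c L20007) (flp_b L42029)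
theorem L42032 : N6376 = N6377 := coi_28_0 (flp_c L30839) L30843 (flp_c L30847) L42027 L42031 (flp_d L42027) L30847 (flp_d L30843) L30837
theorem L42033 : N6377 = N6376 := (eqc rfl L42032 rfl).symm
theorem L42034 : sm gb N6376 = N3127 := trfs L42033 L30841 rfl
theorem L42038 : N6465 = N6346 := coi_7_2 (flp_b L30699) (flp_a L14823) (flp_b L7280) L3762 L3783 L7322 L14885 L30837 L42034 (flp_a L31262)
theorem L42039 : N6465 = N6346 := eqc rfl L42038 rfl
theorem L42042 : sm gc N6346 = N3126 := trfs L42039 (flp_c L31260) rfl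
theorem L42044 : N6987 = N6339 := coi_13_4 L30667 L30699 L42042 L15091 L16173 L33669
theorem L42045 : N6987 = N6339 := eqc rfl L42044 rfl
theorem L42046 : sm gb N6339 = N3364 := trfs L42045 (flp_b L33669) rfl
theorem L42056 : sm ge N4172 = N8681 := rfl
theorem L42059 : sm gc N8681 = N4195 := ded_19_1 (flp_e L20104) (flp_c L20007) L42056
theorem L42078 : sm gf N4173 = N8685 := rfl
theorem L42083 : sm ge N8685 = N4174 := ded_25_1 (flp_f L20014) L20009 L42078
theorem L42115 : sm gg N4176 = N8692 := rfl
theorem L42120 : sm ge N8692 = N4184 := ded_26_1 (flp_g L20062) (flp_e L20027) L42115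
theorem L42163 : sm gd N4182 = N8704 := rfl
theorem L42165 : sm ga N8704 = N8704 := ded_9_1 (flp_d L42163) L20056 L42163
theorem L42166 : sm gc N8704 = N4218 := ded_28_0 (flp_d L20227) (flp_c L9759) (flp_d L4951) (flp_c L4920) L9675 L20054 L42163 L42165
theorem L42168 : sm gf N4182 = N8705 := rfl
theorem L42171 : sm gc N8705 = N4183 := ded_20_1 (flp_f L20057) L20054 L42168
theorem L42182 : sm gg N4183 = N8708 := rfl
theorem L42184 : sm ga N8708 = N8708 := ded_12_1 (flp_g L42182) L20059 L42182
theorem L42187 : sm gf N8708 = N4184 := ded_29_0 (flp_g L20062) L20057 L42182 L42184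
theorem L42239 : sm gd N4189 = N8719 := rfl
theorem L42241 : sm gb N8719 = N4231 := ded_14_1 (flp_d L20299) (flp_b L20090) L42239
theorem L42243 : sm gf N8719 = N7607 := ded_23_2 L36542 (flp_f L20088) L42239
theorem L42245 : sm gb N4190 = N8720 := rfl
theorem L42247 : sm gc N8720 = N8378 := ded_13_2 (flp_b L40545) L20351 L40881 (flp_c L40885) L42245
theorem L42253 : sm gf N8377 = N8720 := ded_20_0 L42247 (flp_f L40539) L40535
theorem L42255 : sm gf N4190 = N8721 := rfl
theorem L42259 : sm gg N8721 = N7548 := ded_29_3 (flp_a L36251) L17351 L20092 L42255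
theorem L42285 : sm gg N4194 = N8726 := rfl
theorem L42289 : sm gf N7551 = N8726 := ded_29_0 (flp_g L42285) (flp_f L20102) (flp_g L17361) L36259
theorem L42291 : sm gd N4195 = N8727 := rfl
theorem L42295 : sm ge N8727 = N4198 := ded_22_2 (flp_d L20118) (flp_e L9707) L9703 L20104 L42291
theorem L42307 : sm gb N4196 = N8730 := rfl
theorem L42309 : sm gd N8730 = N4201 := ded_14_2 (flp_b L20136) (flp_d L20111) L42307
theorem L42332 : sm gg N4198 = N8735 := rfl
theorem L42335 : sm gd N8735 = N4200 := ded_24_1 (flp_g L20129) L20118 L42332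
theorem L42342 : sm gg N4199 = N8737 := rfl
theorem L42345 : sm gc N8737 = N4208 := ded_21_1 (flp_g L20174) (flp_c L20125) L42342
theorem L42359 : sm gc N4201 = N8740 := rfl
theorem L42362 : sm gb N8740 = N4211 := ded_13_1 (flp_c L20195) (flp_b L9740) (flp_c L9716) L20136 L42359
theorem L42378 : sm gb N4204 = N8746 := rfl
theorem L42380 : sm ge N8746 = N4217 := ded_15_2 (flp_b L20223) (flp_e L20152) L42378
theorem L42382 : sm gc N8746 = N4237 := ded_13_2 (flp_b L20375) (flp_c L9813) (flp_b L9726) L20149 L42378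
theorem L42384 : sm gd N4204 = N8747 := rfl
theorem L42387 : sm gf N4204 = N8748 := rfl
theorem L42390 : sm gc N8748 = N4205 := ded_20_1 (flp_f L20154) L20149 L42387
theorem L42394 : sm gg N4204 = N8749 := rfl
theorem L42397 : sm gc N8749 = N4206 := ded_21_1 (flp_g L20161) L20149 L42394
theorem L42399 : sm ge N8749 = N4220 := ded_26_1 (flp_g L20235) (flp_e L20152) L42394
theorem L42401 : sm gb N4205 = N8750 := rfl
theorem L42407 : sm gf N8750 = N4241 := ded_16_2 (flp_b L20401) (flp_f L9819) (flp_b L9726) L20154 L42401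
theorem L42409 : sm gg N4205 = N8751 := rfl
theorem L42412 : sm gd N8751 = N4208 := ded_24_1 (flp_g L20174) (flp_d L20157) L42409
theorem L42426 : sm ga N4207 = N8753 := rfl
theorem L42428 : sm ge N8753 = N4210 := ded_10_2 (flp_a L20187) (flp_e L20170) L42426
theorem L42430 : sm gf N8753 = N4243 := ded_11_2 (flp_a L20413) (flp_f L20172) L42426
theorem L42432 : sm gb N5236 = N8753 := ded_15_3 L42428 (flp_b L20193) (flp_e L25390)
theorem L42448 : sm ga N4209 = N8757 := rfl
theorem L42452 : sm gg N8757 = N4246 := ded_12_2 (flp_a L20426) (flp_g L20185) L42448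
theorem L42456 : sm gc N4209 = N8758 := rfl
theorem L42460 : sm gg N8758 = N4247 := ded_21_2 (flp_c L20430) (flp_g L20185) L42456
theorem L42462 : sm gf N4209 = N8759 := rfl
theorem L42476 : sm gg N4211 = N8762 := rfl
theorem L42478 : sm gc N8762 = N4212 := ded_21_1 (flp_g L20199) L20195 L42476
theorem L42482 : sm gc N4214 = N8764 := rfl
theorem L42484 : sm ga N8764 = N4215 := ded_8_1 (flp_c L20215) L20207 L42482
theorem L42486 : sm gg N8764 = N4256 := ded_21_2 (flp_c L20484) (flp_g L20211) L42482
theorem L42496 : sm ga N4217 = N8767 := rfl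
theorem L42498 : sm gc N8767 = N4261 := ded_8_2 (flp_a L20513) (flp_c L20225) L42496
theorem L42500 : sm gd N4217 = N8768 := rfl
theorem L42502 : sm gb N8768 = N4218 := ded_14_1 (flp_d L20227) L20223 L42500
theorem L42504 : sm gf N4217 = N8769 := rfl
theorem L42506 : sm gc N8769 = N4263 := ded_20_1 (flp_f L20519) (flp_c L20225) L42504
theorem L42508 : sm gg N4217 = N8770 := rfl
theorem L42510 : sm gc N8770 = N4264 := ded_21_1 (flp_g L20521) (flp_c L20225) L42508
theorem L42512 : sm ge N4218 = N8771 := rfl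
theorem L42515 : sm gf N4218 = N8772 := rfl
theorem L42518 : sm gd N8772 = N4219 := ded_23_1 (flp_f L20230) L20227 L42515
theorem L42520 : sm gg N4218 = N8773 := rfl
theorem L42523 : sm gd N8773 = N4220 := ded_24_1 (flp_g L20235) L20227 L42520
theorem L42536 : sm ga N4221 = N8777 := rfl
theorem L42538 : sm gd N8777 = N4224 := ded_9_2 (flp_a L20259) (flp_d L20242) L42536
theorem L42540 : sm gf N8777 = N4270 := ded_11_2 (flp_a L20549) (flp_f L20244) L42536
theorem L42556 : sm ga N4223 = N8781 := rfl
theorem L42560 : sm gg N8781 = N4273 := ded_12_2 (flp_a L20559) (flp_g L20257) L42556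
theorem L42576 : sm gg N4225 = N8785 := rfl
theorem L42578 : sm gc N8785 = N4226 := ded_21_1 (flp_g L20273) L20267 L42576
theorem L42580 : sm ge N8785 = N4232 := ded_26_1 (flp_g L20303) (flp_e L20269) L42576
theorem L42590 : sm gc N4228 = N8787 := rfl
theorem L42594 : sm ge N8787 = N4234 := ded_19_2 (flp_c L20361) (flp_e L20283) L42590
theorem L42596 : sm gg N8787 = N4283 := ded_21_2 (flp_c L20617) (flp_g L20285) L42590
theorem L42630 : sm gd N4234 = N8794 := rfl
theorem L42636 : sm gg N8794 = N4298 := ded_24_2 (flp_d L20693) (flp_g L20365) L42630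
theorem L42652 : sm ga N4237 = N8798 := rfl
theorem L42654 : sm ge N8798 = N4261 := ded_10_2 (flp_a L20513) (flp_e L20377) L42652
theorem L42656 : sm gd N4237 = N8799 := rfl
theorem L42658 : sm gb N8799 = N4238 := ded_14_1 (flp_d L20379) L20375 L42656
theorem L42660 : sm gf N4237 = N8800 := rfl
theorem L42662 : sm ge N8800 = N4263 := ded_25_1 (flp_f L20519) (flp_e L20377) L42660
theorem L42664 : sm gg N4237 = N8801 := rfl
theorem L42666 : sm ge N8801 = N4264 := ded_26_1 (flp_g L20521) (flp_e L20377) L42664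
theorem L42668 : sm ge N4238 = N8802 := rfl
theorem L42670 : sm ga N8802 = N4309 := ded_10_1 (flp_e L20745) (flp_a L20381) L42668
theorem L42672 : sm gc N8802 = N4309 := ded_19_1 (flp_e L20745) L20383 L42668
theorem L42674 : sm gd N8802 = N4265 := ded_22_1 (flp_e L20523) (flp_d L9867) (flp_e L9817) L20379 L42668
theorem L42676 : sm gf N4238 = N8803 := rfl
theorem L42678 : sm ga N8803 = N4310 := ded_11_1 (flp_f L20749) (flp_a L20381) L42676
theorem L42680 : sm gc N8803 = N4310 := ded_20_1 (flp_f L20749) L20383 L42676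
theorem L42682 : sm gd N8803 = N4239 := ded_23_1 (flp_f L20385) L20379 L42676
theorem L42684 : sm gg N4238 = N8804 := rfl
theorem L42686 : sm ga N8804 = N4311 := ded_12_1 (flp_g L20753) (flp_a L20381) L42684
theorem L42688 : sm gc N8804 = N4311 := ded_21_1 (flp_g L20753) L20383 L42684
theorem L42690 : sm gd N8804 = N4240 := ded_24_1 (flp_g L20393) L20379 L42684
theorem L42692 : sm gb N4239 = N8805 := rfl
theorem L42694 : sm ge N8805 = N4268 := ded_15_2 (flp_b L20545) (flp_e L20391) L42692
theorem L42696 : sm gb N4240 = N8806 := rfl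
theorem L42698 : sm ge N8806 = N4269 := ded_15_2 (flp_b L20547) (flp_e L20399) L42696
theorem L42706 : sm gc N4241 = N8808 := rfl
theorem L42708 : sm ge N8808 = N4271 := ded_19_2 (flp_c L20553) (flp_e L20405) L42706
theorem L42710 : sm gg N4241 = N8809 := rfl
theorem L42712 : sm gd N8809 = N4245 := ded_24_1 (flp_g L20422) (flp_d L20403) L42710
theorem L42722 : sm gc N4242 = N8811 := rfl
theorem L42724 : sm ge N8811 = N4274 := ded_19_2 (flp_c L20563) (flp_e L20411) L42722
theorem L42726 : sm gf N4242 = N8812 := rfl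
theorem L42732 : sm gb N4243 = N8813 := rfl
theorem L42734 : sm ge N8813 = N4249 := ded_15_2 (flp_b L20439) (flp_e L20415) L42732
theorem L42736 : sm gf N8813 = N4534 := ded_16_2 L21887 L25386 L42432 L42430 L42732
theorem L42738 : sm ga N4536 = N8813 := ded_10_3 L42734 (flp_a L20445) (flp_e L21895)
theorem L42763 : sm gf N4245 = N8818 := rfl
theorem L42769 : sm gg N8818 = N8753 := ded_29_3 (flp_a L42426) L20172 L20422 L42763
theorem L42787 : sm gf N4246 = N8821 := rfl
theorem L42791 : sm ge N8821 = N4257 := ded_25_1 (flp_f L20488) (flp_e L20428) L42787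
theorem L42793 : sm gg N8759 = N8821 := ded_29_1 (flp_f L42787) (flp_g L42452) (flp_a L42448) L42462
theorem L42798 : sm gf N4247 = N8823 := rfl
theorem L42802 : sm ge N8823 = N4259 := ded_25_1 (flp_f L20499) (flp_e L20432) L42798
theorem L42843 : sm gb N4253 = N8832 := rfl
theorem L42854 : sm gc N4255 = N8834 := rfl
theorem L42856 : sm ga N8834 = N4596 := ded_8_1 L22185 L20482 L42854
theorem L42858 : sm gg N8834 = N4591 := ded_21_2 (flp_c L22161) (flp_g L20480) L42854
theorem L42862 : sm gd N4256 = N8836 := rfl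
theorem L42864 : sm ga N8836 = N4258 := ded_9_1 (flp_d L20496) (flp_a L20486) L42862
theorem L42886 : sm gg N4259 = N8842 := rfl
theorem L42890 : sm gc N8842 = N4260 := ded_21_1 (flp_g L20503) (flp_c L20501) L42886
theorem L42892 : sm gf N8764 = N8842 := ded_29_0 (flp_g L42886) (flp_f L20499) (flp_g L20217) (flp_a L42484)
theorem L42894 : sm gb N4261 = N8843 := rfl
theorem L42896 : sm gd N4261 = N8844 := rfl
theorem L42898 : sm ga N8844 = N4262 := ded_9_1 (flp_d L20515) L20513 L42896
theorem L42900 : sm gf N4261 = N8845 := rfl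
theorem L42902 : sm ga N8845 = N4263 := ded_11_1 (flp_f L20519) L20513 L42900
theorem L42904 : sm gg N4261 = N8846 := rfl
theorem L42906 : sm ga N8846 = N4264 := ded_12_1 (flp_g L20521) L20513 L42904
theorem L42908 : sm gc N4262 = N8847 := rfl
theorem L42910 : sm gb N8847 = N7737 := ded_13_1 (flp_c L37175) L17810 (flp_c L9871) (flp_b L20517) L42908
theorem L42912 : sm ge N4262 = N8848 := rfl
theorem L42914 : sm gb N8848 = N4265 := ded_15_1 (flp_e L20523) (flp_b L20517) L42912
theorem L42916 : sm gf N4262 = N8849 := rfl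
theorem L42918 : sm gd N8849 = N4263 := ded_23_1 (flp_f L20519) L20515 L42916
theorem L42920 : sm gg N4262 = N8850 := rfl
theorem L42922 : sm gd N8850 = N4264 := ded_24_1 (flp_g L20521) L20515 L42920
theorem L42924 : sm gb N4263 = N8851 := rfl
theorem L42926 : sm gf N8851 = N4268 := ded_16_2 (flp_b L20545) (flp_f L9873) L9865 L20519 L42924
theorem L42928 : sm gg N4263 = N8852 := rfl
theorem L42930 : sm gf N8846 = N8852 := ded_29_0 (flp_g L42928) (flp_f L20519) L20521 (flp_a L42906)
theorem L42932 : sm gb N4264 = N8853 := rfl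
theorem L42934 : sm gg N8853 = N4269 := ded_17_2 (flp_b L20547) (flp_g L9879) L9865 L20521 L42932
theorem L42936 : sm gf N4264 = N8854 := rfl
theorem L42938 : sm ga N8854 = N8852 := ded_11_1 (flp_f L42930) L42906 L42936
theorem L42940 : sm gg N8854 = N8845 := ded_29_3 L42902 (flp_f L20519) L20521 L42936
theorem L42942 : sm gf N4265 = N8855 := rfl
theorem L42944 : sm ga N8855 = N4389 := ded_11_1 (flp_f L21169) (flp_a L20525) L42942
theorem L42946 : sm gc N8855 = N7745 := ded_20_1 (flp_f L37211) (flp_c L20527) L42942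
theorem L42948 : sm ge N8855 = N4266 := ded_25_1 (flp_f L20529) L20523 L42942
theorem L42950 : sm gg N4265 = N8856 := rfl
theorem L42952 : sm ga N8856 = N4390 := ded_12_1 (flp_g L21173) (flp_a L20525) L42950
theorem L42954 : sm gc N8856 = N7746 := ded_21_1 (flp_g L37215) (flp_c L20527) L42950
theorem L42956 : sm ge N8856 = N4267 := ded_26_1 (flp_g L20537) L20523 L42950
theorem L42958 : sm gb N4266 = N8857 := rfl
theorem L42960 : sm gd N8857 = N4268 := ded_14_2 (flp_b L20545) (flp_d L20535) L42958
theorem L42962 : sm gb N4267 = N8858 := rfl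
theorem L42964 : sm gd N8858 = N4269 := ded_14_2 (flp_b L20547) (flp_d L20543) L42962
theorem L42966 : sm ga N4268 = N8859 := rfl
theorem L42968 : sm gc N4268 = N8860 := rfl
theorem L42970 : sm gb N8860 = N4271 := ded_13_1 (flp_c L20553) (flp_b L9885) (flp_c L9877) L20545 L42968
theorem L42972 : sm gg N4268 = N8861 := rfl
theorem L42974 : sm ga N4269 = N8862 := rfl
theorem L42976 : sm gc N4269 = N8863 := rfl
theorem L42978 : sm gb N8863 = N4274 := ded_13_1 (flp_c L20563) (flp_b L9889) (flp_c L9883) L20547 L42976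
theorem L42980 : sm gf N4269 = N8864 := rfl
theorem L42982 : sm gb N4270 = N8865 := rfl
theorem L42984 : sm gd N8865 = N4276 := ded_14_2 (flp_b L20569) (flp_d L20551) L42982
theorem L42988 : sm ga N4648 = N8865 := ded_9_3 L42984 (flp_a L20575) (flp_d L22431)
theorem L42994 : sm gg N4270 = N8867 := rfl
theorem L42996 : sm ga N8867 = N4272 := ded_12_1 (flp_g L20555) L20549 L42994
theorem L43030 : sm gf N4273 = N8873 := rfl
theorem L43032 : sm ga N8873 = N4275 := ded_11_1 (flp_f L20565) L20559 L43030
theorem L43044 : sm gg N4275 = N8876 := rfl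
theorem L43048 : sm gd N8876 = N4287 := ded_24_1 (flp_g L20639) (flp_d L20567) L43044
theorem L43050 : sm gf N8781 = N8876 := ded_29_0 (flp_g L43044) (flp_f L20565) (flp_g L20257) L42556
theorem L43066 : sm gg N4277 = N8879 := rfl
theorem L43068 : sm ga N8879 = N4280 := ded_12_1 (flp_g L20593) (flp_a L20579) L43066
theorem L43074 : sm gf N8879 = N8785 := ded_29_2 (flp_g L42576) L32570 (flp_f L32572) L43066
theorem L43092 : sm gf N4280 = N8884 := rfl
theorem L43094 : sm ga N8884 = N8785 := ded_11_1 (flp_f L43074) L43068 L43092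
theorem L43114 : sm gf N4283 = N8887 := rfl
theorem L43118 : sm gc N8887 = N4284 := ded_20_1 (flp_f L20623) L20617 L43114
theorem L43134 : sm gb N4286 = N8891 := rfl
theorem L43136 : sm ge N8891 = N4303 := ded_15_2 (flp_b L20713) (flp_e L20637) L43134
theorem L43140 : sm gg N8300 = N8891 := ded_26_0 L43136 L40771 (flp_e L40083)
theorem L43152 : sm gd N4288 = N8893 := rfl
theorem L43154 : sm ga N8893 = N4743 := ded_9_1 L22922 (flp_a L20651) L43152
theorem L43196 : sm gb N4293 = N8902 := rfl
theorem L43198 : sm gd N8902 = N4294 := ded_14_2 (flp_b L20675) (flp_d L20673) L43196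
theorem L43200 : sm ga N8135 = N8902 := ded_9_3 L43198 L40427 (flp_d L39354)
theorem L43230 : sm ge N4298 = N8907 := rfl
theorem L43234 : sm gf N4298 = N8908 := rfl
theorem L43244 : sm gd N4300 = N8910 := rfl
theorem L43248 : sm gc N8836 = N8910 := ded_28_0 (flp_d L43244) (flp_c L20705) (flp_d L9953) (flp_c L5039) (flp_d L5005) L9858 L20496 (flp_a L42864)
theorem L43254 : sm gf N4300 = N8912 := rfl
theorem L43256 : sm gc N8912 = N4302 := ded_20_1 (flp_f L20709) L20705 L43254
theorem L43278 : sm gb N4305 = N8916 := rfl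
theorem L43282 : sm gd N4305 = N8917 := rfl
theorem L43284 : sm ga N8917 = N4306 := ded_9_1 (flp_d L20729) L20723 L43282
theorem L43286 : sm gf N4305 = N8918 := rfl
theorem L43288 : sm ga N8918 = N4307 := ded_11_1 (flp_f L20733) L20723 L43286
theorem L43290 : sm gc N8918 = N4505 := ded_20_1 (flp_f L21708) (flp_c L20725) L43286
theorem L43292 : sm ge N8918 = N4376 := ded_25_1 (flp_f L21097) (flp_e L20727) L43286
theorem L43294 : sm gg N4305 = N8919 := rfl
theorem L43296 : sm ga N8919 = N4308 := ded_12_1 (flp_g L20739) L20723 L43294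
theorem L43298 : sm gc N8919 = N4506 := ded_21_1 (flp_g L21714) (flp_c L20725) L43294
theorem L43300 : sm ge N8919 = N4377 := ded_26_1 (flp_g L21103) (flp_e L20727) L43294
theorem L43304 : sm ge N4306 = N8921 := rfl
theorem L43306 : sm gb N8921 = N4309 := ded_15_1 (flp_e L20745) (flp_b L20731) L43304
theorem L43308 : sm gd N8921 = N4378 := ded_22_1 (flp_e L21109) (flp_d L10141) (flp_e L9967) L20729 L43304
theorem L43310 : sm gf N4306 = N8922 := rfl
theorem L43312 : sm gd N8922 = N4307 := ded_23_1 (flp_f L20733) L20729 L43310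
theorem L43314 : sm gg N4306 = N8923 := rfl
theorem L43316 : sm gd N8923 = N4308 := ded_24_1 (flp_g L20739) L20729 L43314
theorem L43318 : sm gb N4307 = N8924 := rfl
theorem L43320 : sm ge N8924 = N4381 := ded_15_2 (flp_b L21121) (flp_e L20737) L43318
theorem L43322 : sm gf N8924 = N4312 := ded_16_2 (flp_b L20757) (flp_f L9973) L9965 L20733 L43318
theorem L43324 : sm gg N4307 = N8925 := rfl
theorem L43326 : sm gc N8925 = N4511 := ded_21_1 (flp_g L21743) (flp_c L20735) L43324
theorem L43328 : sm ge N8925 = N4382 := ded_26_1 (flp_g L21125) (flp_e L20737) L43324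
theorem L43330 : sm gf N8919 = N8925 := ded_29_0 (flp_g L43324) (flp_f L20733) L20739 (flp_a L43296)
theorem L43332 : sm gb N4308 = N8926 := rfl
theorem L43334 : sm ge N8926 = N4383 := ded_15_2 (flp_b L21131) (flp_e L20743) L43332
theorem L43336 : sm gg N8926 = N4314 := ded_17_2 (flp_b L20769) (flp_g L9979) L9965 L20739 L43332
theorem L43338 : sm gf N4308 = N8927 := rfl
theorem L43340 : sm ga N8927 = N8925 := ded_11_1 (flp_f L43330) L43296 L43338
theorem L43342 : sm gc N8927 = N4513 := ded_20_1 (flp_f L21755) (flp_c L20741) L43338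
theorem L43344 : sm ge N8927 = N4384 := ded_25_1 (flp_f L21135) (flp_e L20743) L43338
theorem L43346 : sm gg N8927 = N8918 := ded_29_3 L43288 (flp_f L20733) L20739 L43338
theorem L43348 : sm gf N4309 = N8928 := rfl
theorem L43350 : sm gd N8928 = N4389 := ded_23_1 (flp_f L21169) (flp_d L20747) L43348
theorem L43352 : sm ge N8928 = N4310 := ded_25_1 (flp_f L20749) L20745 L43348
theorem L43354 : sm gg N4309 = N8929 := rfl
theorem L43356 : sm gd N8929 = N4390 := ded_24_1 (flp_g L21173) (flp_d L20747) L43354
theorem L43358 : sm ge N8929 = N4311 := ded_26_1 (flp_g L20753) L20745 L43354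
theorem L43360 : sm gb N4310 = N8930 := rfl
theorem L43362 : sm gd N8930 = N4312 := ded_14_2 (flp_b L20757) (flp_d L20751) L43360
theorem L43364 : sm gg N4310 = N8931 := rfl
theorem L43366 : sm gd N8931 = N4313 := ded_24_1 (flp_g L20761) (flp_d L20751) L43364
theorem L43368 : sm gf N8804 = N8931 := ded_29_0 (flp_g L43364) (flp_f L20749) L20753 (flp_a L42686)
theorem L43370 : sm gb N4311 = N8932 := rfl
theorem L43372 : sm gd N8932 = N4314 := ded_14_2 (flp_b L20769) (flp_d L20755) L43370
theorem L43374 : sm gf N4311 = N8933 := rfl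
theorem L43376 : sm ga N8933 = N8931 := ded_11_1 (flp_f L43368) L42686 L43374
theorem L43378 : sm gc N8933 = N8931 := ded_20_1 (flp_f L43368) L42688 L43374
theorem L43380 : sm gd N8933 = N4315 := ded_23_1 (flp_f L20773) (flp_d L20755) L43374
theorem L43382 : sm gg N8933 = N8803 := ded_29_3 L42678 (flp_f L20749) L20753 L43374
theorem L43384 : sm ga N4312 = N8934 := rfl
theorem L43386 : sm ge N8934 = N4395 := ded_10_2 (flp_a L21199) (flp_e L20759) L43384
theorem L43388 : sm gc N4312 = N8935 := rfl
theorem L43390 : sm ge N8935 = N4396 := ded_19_2 (flp_c L21201) (flp_e L20759) L43388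
theorem L43392 : sm gb N8935 = N4317 := ded_13_1 (flp_c L20791) (flp_b L9985) (flp_c L9975) L20757 L43388
theorem L43394 : sm gg N4312 = N8936 := rfl
theorem L43396 : sm ge N8936 = N4397 := ded_26_1 (flp_g L21205) (flp_e L20759) L43394
theorem L43398 : sm gb N4313 = N8937 := rfl
theorem L43400 : sm ge N8937 = N4398 := ded_15_2 (flp_b L21207) (flp_e L20765) L43398
theorem L43402 : sm ga N4314 = N8938 := rfl
theorem L43404 : sm ge N8938 = N4399 := ded_10_2 (flp_a L21209) (flp_e L20771) L43402
theorem L43406 : sm gc N4314 = N8939 := rfl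
theorem L43408 : sm ge N8939 = N4400 := ded_19_2 (flp_c L21211) (flp_e L20771) L43406
theorem L43410 : sm gb N8939 = N4321 := ded_13_1 (flp_c L20817) (flp_b L10001) (flp_c L9981) L20769 L43406
theorem L43412 : sm gf N4314 = N8940 := rfl
theorem L43414 : sm ge N8940 = N4401 := ded_25_1 (flp_f L21215) (flp_e L20771) L43412
theorem L43416 : sm gb N4315 = N8941 := rfl
theorem L43418 : sm ge N8941 = N4402 := ded_15_2 (flp_b L21217) (flp_e L20779) L43416
theorem L43426 : sm gc N4316 = N8943 := rfl
theorem L43428 : sm ga N8943 = N4317 := ded_8_1 (flp_c L20791) L20783 L43426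
theorem L43430 : sm ge N8943 = N4404 := ded_19_2 (flp_c L21223) (flp_e L20787) L43426
theorem L43432 : sm gf N8943 = N4523 := ded_20_2 (flp_c L21809) (flp_f L20789) L43426
theorem L43434 : sm gd N4317 = N8944 := rfl
theorem L43436 : sm gf N8944 = N4525 := ded_23_2 (flp_d L21825) (flp_f L20795) L43434
theorem L43438 : sm gg N4317 = N8945 := rfl
theorem L43442 : sm ge N8945 = N4406 := ded_26_1 (flp_g L21233) (flp_e L20793) L43438
theorem L43444 : sm gb N4318 = N8946 := rfl
theorem L43448 : sm ge N8946 = N4407 := ded_15_2 (flp_b L21237) (flp_e L20801) L43444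
theorem L43450 : sm gg N8946 = N4319 := ded_17_2 (flp_b L20803) (flp_g L9993) L9985 L20797 L43444
theorem L43452 : sm ga N4319 = N8947 := rfl
theorem L43454 : sm gd N8947 = N4329 := ded_9_2 (flp_a L20864) (flp_d L20805) L43452
theorem L43456 : sm ge N8947 = N4408 := ded_10_2 (flp_a L21243) (flp_e L20807) L43452
theorem L43458 : sm gc N4319 = N8948 := rfl
theorem L43460 : sm ge N8948 = N4409 := ded_19_2 (flp_c L21247) (flp_e L20807) L43458
theorem L43462 : sm gf N4319 = N8949 := rfl
theorem L43466 : sm ge N8949 = N4410 := ded_25_1 (flp_f L21249) (flp_e L20807) L43462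
theorem L43468 : sm gb N8949 = N8812 := ded_16_1 (flp_f L42726) (flp_b L20407) L9999 L20803 L43462
theorem L43470 : sm gb N4320 = N8950 := rfl
theorem L43472 : sm gd N8950 = N4332 := ded_14_2 (flp_b L20879) (flp_d L20811) L43470
theorem L43476 : sm gc N4320 = N8951 := rfl
theorem L43478 : sm ga N8951 = N4321 := ded_8_1 (flp_c L20817) L20809 L43476
theorem L43482 : sm gg N8951 = N4529 := ded_21_2 (flp_c L21849) (flp_g L20815) L43476
theorem L43484 : sm gd N4321 = N8952 := rfl
theorem L43486 : sm gg N8952 = N4531 := ded_24_2 (flp_d L21865) (flp_g L20821) L43484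
theorem L43488 : sm gf N4321 = N8953 := rfl
theorem L43490 : sm gc N8953 = N4322 := ded_20_1 (flp_f L20823) L20817 L43488
theorem L43494 : sm gb N4322 = N8954 := rfl
theorem L43500 : sm gf N8954 = N4323 := ded_16_2 (flp_b L20829) (flp_f L10009) L10001 L20823 L43494
theorem L43502 : sm ga N4323 = N8955 := rfl
theorem L43504 : sm gd N8955 = N4337 := ded_9_2 (flp_a L20908) (flp_d L20831) L43502
theorem L43506 : sm ge N8955 = N4416 := ded_10_2 (flp_a L21279) (flp_e L20833) L43502
theorem L43508 : sm gc N4323 = N8956 := rfl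
theorem L43510 : sm ge N8956 = N4417 := ded_19_2 (flp_c L21283) (flp_e L20833) L43508
theorem L43512 : sm gg N4323 = N8957 := rfl
theorem L43518 : sm gb N8957 = N8809 := ded_17_1 (flp_g L42710) (flp_b L20401) (flp_g L10017) L20829 L43512
theorem L43537 : sm gb N4325 = N8961 := rfl
theorem L43539 : sm ge N8961 = N4343 := ded_15_2 (flp_b L20938) (flp_e L20843) L43537
theorem L43551 : sm ge N4326 = N8964 := rfl
theorem L43556 : sm gd N8964 = N4346 := ded_22_1 (flp_e L20950) (flp_d L10071) (flp_e L10027) L20847 L43551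
theorem L43567 : sm ga N4328 = N8967 := rfl
theorem L43569 : sm ge N8967 = N4349 := ded_10_2 (flp_a L20962) (flp_e L20860) L43567
theorem L43571 : sm gg N8967 = N4329 := ded_12_2 (flp_a L20864) (flp_g L20862) L43567
theorem L43573 : sm gc N4328 = N8968 := rfl
theorem L43575 : sm ge N8968 = N4350 := ded_19_2 (flp_c L20968) (flp_e L20860) L43573
theorem L43577 : sm gg N8968 = N4330 := ded_21_2 (flp_c L20868) (flp_g L20862) L43573
theorem L43579 : sm gf N4328 = N8969 := rfl
theorem L43583 : sm gg N8969 = N5324 := ded_29_3 (flp_a L25864) (flp_f L20873) (flp_g L20862) L43579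
theorem L43587 : sm gb N4329 = N8970 := rfl
theorem L43591 : sm gf N8970 = N5303 := ded_16_2 L25754 (flp_f L12401) L25860 (flp_f L25866) L43587
theorem L43593 : sm gc N4329 = N8971 := rfl
theorem L43595 : sm ga N8971 = N4330 := ded_8_1 (flp_c L20868) L20864 L43593
theorem L43597 : sm ge N8971 = N4353 := ded_19_2 (flp_c L20986) (flp_e L20866) L43593
theorem L43599 : sm gd N4330 = N8972 := rfl
theorem L43601 : sm gb N8972 = N8972 := ded_14_1 (flp_d L43599) L20872 L43599
theorem L43602 : sm gf N4330 = N8973 := rfl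
theorem L43604 : sm gc N8973 = N4331 := ded_20_1 (flp_f L20873) L20868 L43602
theorem L43608 : sm gg N4331 = N8974 := rfl
theorem L43610 : sm ga N8974 = N8969 := ded_12_1 L43583 (flp_a L25864) L43608
theorem L43612 : sm ge N8974 = N4356 := ded_26_1 (flp_g L20997) (flp_e L20875) L43608
theorem L43614 : sm gf N8967 = N8974 := ded_29_0 (flp_g L43608) (flp_f L20873) (flp_g L20862) L43567
theorem L43628 : sm gf N4332 = N8977 := rfl
theorem L43637 : sm gd N4333 = N8979 := rfl
theorem L43639 : sm ga N8979 = N4334 := ded_9_1 (flp_d L20891) (flp_a L20885) L43637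
theorem L43641 : sm gg N8979 = N4553 := ded_24_2 (flp_d L21977) (flp_g L20889) L43637
theorem L43643 : sm gc N4334 = N8980 := rfl
theorem L43645 : sm gg N8980 = N4556 := ded_21_2 (flp_c L21995) (flp_g L20894) L43643
theorem L43647 : sm ge N4334 = N8981 := rfl
theorem L43649 : sm gb N8981 = N8981 := ded_15_1 (flp_e L43647) L20893 L43647
theorem L43650 : sm gg N8981 = N4557 := ded_26_2 (flp_e L21997) (flp_g L20894) L43647
theorem L43654 : sm gf N4334 = N8982 := rfl
theorem L43663 : sm ga N4336 = N8984 := rfl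
theorem L43665 : sm ge N8984 = N4366 := ded_10_2 (flp_a L21044) (flp_e L20904) L43663
theorem L43669 : sm gb N8984 = N8967 := ded_7_2 (flp_a L43567) (flp_b L20858) (flp_a L10569) L21951 L22027 (flp_b L22023) L10605 L20902 L43663
theorem L43671 : sm gc N4336 = N8985 := rfl
theorem L43673 : sm ge N8985 = N4367 := ded_19_2 (flp_c L21052) (flp_e L20904) L43671
theorem L43675 : sm gf N8985 = N4338 := ded_20_2 (flp_c L20912) (flp_f L20906) L43671
theorem L43677 : sm gg N4336 = N8986 := rfl
theorem L43683 : sm gb N8986 = N5271 := ded_17_1 (flp_g L25577) (flp_b L21991) (flp_g L10591) L20902 L43677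
theorem L43685 : sm gb N4337 = N8987 := rfl
theorem L43689 : sm gg N8987 = N5255 := ded_17_2 L25499 L12295 L25601 (flp_g L25607) L43685
theorem L43691 : sm gc N4337 = N8988 := rfl
theorem L43693 : sm ga N8988 = N4338 := ded_8_1 (flp_c L20912) L20908 L43691
theorem L43695 : sm ge N8988 = N4370 := ded_19_2 (flp_c L21070) (flp_e L20910) L43691
theorem L43697 : sm gd N4338 = N8989 := rfl
theorem L43699 : sm gb N8989 = N8989 := ded_14_1 (flp_d L43697) L20916 L43697
theorem L43700 : sm gg N4338 = N8990 := rfl
theorem L43704 : sm ge N8990 = N4372 := ded_26_1 (flp_g L21077) (flp_e L20914) L43700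
theorem L43737 : sm gf N4343 = N8998 := rfl
theorem L43739 : sm gb N8998 = N4573 := ded_16_1 (flp_f L22085) (flp_b L10627) (flp_f L10069) L20938 L43737
theorem L43741 : sm gg N4343 = N8999 := rfl
theorem L43743 : sm ge N4344 = N9000 := rfl
theorem L43745 : sm ga N9000 = N4346 := ded_10_1 (flp_e L20950) (flp_a L20942) L43743
theorem L43747 : sm gf N9000 = N4575 := ded_25_2 (flp_e L22089) (flp_f L20944) L43743
theorem L43749 : sm gb N4345 = N9001 := rfl
theorem L43751 : sm gc N9001 = N9001 := ded_13_2 (flp_b L43749) (flp_c L20946) L10073 L20946 L43749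
theorem L43766 : sm gg N4346 = N9004 := rfl
theorem L43778 : sm gc N4348 = N9007 := rfl
theorem L43781 : sm gb N9007 = N4350 := ded_13_1 (flp_c L20968) (flp_b L10080) (flp_c L10078) L20959 L43778
theorem L43785 : sm gc N4349 = N9009 := rfl
theorem L43787 : sm ga N9009 = N4350 := ded_8_1 (flp_c L20968) L20962 L43785
theorem L43789 : sm gg N9009 = N4353 := ded_21_2 (flp_c L20986) (flp_g L20966) L43785
theorem L43791 : sm gd N4350 = N9010 := rfl
theorem L43793 : sm gg N9010 = N4354 := ded_24_2 (flp_d L20990) (flp_g L20970) L43791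
theorem L43795 : sm gf N4350 = N9011 := rfl
theorem L43797 : sm gc N9011 = N4351 := ded_20_1 (flp_f L20972) L20968 L43795
theorem L43799 : sm gg N9011 = N5482 := ded_29_3 L26598 (flp_f L20993) (flp_g L20970) L43795
theorem L43805 : sm gb N4353 = N9013 := rfl
theorem L43807 : sm gd N4353 = N9014 := rfl
theorem L43809 : sm ga N9014 = N4354 := ded_9_1 (flp_d L20990) (flp_a L20988) L43807
theorem L43811 : sm gc N4354 = N9015 := rfl
theorem L43816 : sm gf N4354 = N9017 := rfl
theorem L43818 : sm gd N9017 = N4355 := ded_23_1 (flp_f L20993) L20990 L43816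
theorem L43862 : sm ge N4361 = N9028 := rfl
theorem L43864 : sm ga N9028 = N4363 := ded_10_1 (flp_e L21032) (flp_a L21024) L43862
theorem L43868 : sm gb N4362 = N9029 := rfl
theorem L43870 : sm gc N9029 = N9029 := ded_13_2 (flp_b L43868) (flp_c L21028) L10111 L21028 L43868
theorem L43889 : sm gb N4364 = N9033 := rfl
theorem L43891 : sm gd N9033 = N4365 := ded_14_2 (flp_b L21041) (flp_d L21039) L43889
theorem L43897 : sm gc N4365 = N9035 := rfl
theorem L43900 : sm gb N9035 = N4367 := ded_13_1 (flp_c L21052) (flp_b L10118) (flp_c L10116) L21041 L43897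
theorem L43902 : sm gg N4365 = N9036 := rfl
theorem L43904 : sm gc N4366 = N9037 := rfl
theorem L43906 : sm ga N9037 = N4367 := ded_8_1 (flp_c L21052) L21044 L43904
theorem L43914 : sm gg N4367 = N9039 := rfl
theorem L43916 : sm gc N9039 = N4368 := ded_21_1 (flp_g L21056) L21052 L43914
theorem L43918 : sm gf N5400 = N9039 := ded_29_0 (flp_g L43914) L21054 L21077 (flp_a L26229)
theorem L43926 : sm gd N4370 = N9042 := rfl
theorem L43928 : sm ga N9042 = N4371 := ded_9_1 (flp_d L21074) (flp_a L21072) L43926
theorem L43930 : sm gc N4371 = N9043 := rfl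
theorem L43932 : sm ge N4371 = N9044 := rfl
theorem L43939 : sm gb N4372 = N9046 := rfl
theorem L43941 : sm gc N9046 = N8832 := ded_13_2 (flp_b L42843) L20464 (flp_b L10135) (flp_c L21079) L43939
theorem L43944 : sm gf N4372 = N9047 := rfl
theorem L43946 : sm ga N9047 = N9039 := ded_11_1 (flp_f L43918) L26229 L43944
theorem L43952 : sm ga N4374 = N9048 := rfl
theorem L43954 : sm gc N4374 = N9049 := rfl
theorem L43956 : sm gb N9049 = N4621 := ded_13_1 (flp_c L22303) (flp_b L10733) (flp_c L10139) L21089 L43954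
theorem L43958 : sm gd N4374 = N9050 := rfl
theorem L43960 : sm gb N9050 = N4375 := ded_14_1 (flp_d L21091) L21089 L43958
theorem L43962 : sm gc N4385 = N9050 := ded_13_0 L43960 (flp_c L21095) L10143 L10153 L21143
theorem L43968 : sm ge N4375 = N9053 := rfl
theorem L43970 : sm ga N9053 = N4378 := ded_10_1 (flp_e L21109) (flp_a L21093) L43968
theorem L43974 : sm gf N4375 = N9054 := rfl
theorem L43976 : sm ga N9054 = N4379 := ded_11_1 (flp_f L21113) (flp_a L21093) L43974
theorem L43978 : sm gc N9054 = N4379 := ded_20_1 (flp_f L21113) L21095 L43974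
theorem L43980 : sm gd N9054 = N4376 := ded_23_1 (flp_f L21097) L21091 L43974
theorem L43982 : sm gg N4375 = N9055 := rfl
theorem L43984 : sm ga N9055 = N4380 := ded_12_1 (flp_g L21117) (flp_a L21093) L43982
theorem L43986 : sm gc N9055 = N4380 := ded_21_1 (flp_g L21117) L21095 L43982
theorem L43988 : sm gd N9055 = N4377 := ded_24_1 (flp_g L21103) L21091 L43982
theorem L43990 : sm gb N4376 = N9056 := rfl
theorem L43992 : sm gb N4377 = N9057 := rfl
theorem L43994 : sm gf N4378 = N9058 := rfl
theorem L43996 : sm ge N9058 = N4379 := ded_25_1 (flp_f L21113) L21109 L43994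
theorem L43998 : sm gg N4378 = N9059 := rfl
theorem L44000 : sm ge N9059 = N4380 := ded_26_1 (flp_g L21117) L21109 L43998
theorem L44002 : sm gb N4379 = N9060 := rfl
theorem L44004 : sm gd N9060 = N4381 := ded_14_2 (flp_b L21121) (flp_d L21115) L44002
theorem L44006 : sm gf N9060 = N4391 := ded_16_2 (flp_b L21177) (flp_f L10161) (flp_b L10143) L21113 L44002
theorem L44008 : sm gg N4379 = N9061 := rfl
theorem L44010 : sm gd N9061 = N4382 := ded_24_1 (flp_g L21125) (flp_d L21115) L44008
theorem L44012 : sm gf N9055 = N9061 := ded_29_0 (flp_g L44008) (flp_f L21113) L21117 (flp_a L43984)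
theorem L44014 : sm gb N4380 = N9062 := rfl
theorem L44016 : sm gd N9062 = N4383 := ded_14_2 (flp_b L21131) (flp_d L21119) L44014
theorem L44018 : sm gg N9062 = N4393 := ded_17_2 (flp_b L21187) (flp_g L10165) (flp_b L10143) L21117 L44014
theorem L44020 : sm gf N4380 = N9063 := rfl
theorem L44022 : sm ga N9063 = N9061 := ded_11_1 (flp_f L44012) L43984 L44020
theorem L44024 : sm gc N9063 = N9061 := ded_20_1 (flp_f L44012) L43986 L44020
theorem L44026 : sm gd N9063 = N4384 := ded_23_1 (flp_f L21135) (flp_d L21119) L44020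
theorem L44028 : sm gg N9063 = N9054 := ded_29_3 L43976 (flp_f L21113) L21117 L44020
theorem L44030 : sm ga N4381 = N9064 := rfl
theorem L44032 : sm gf N9064 = N4395 := ded_11_2 (flp_a L21199) (flp_f L21123) L44030
theorem L44034 : sm gc N4381 = N9065 := rfl
theorem L44036 : sm gf N9065 = N4396 := ded_20_2 (flp_c L21201) (flp_f L21123) L44034
theorem L44038 : sm gb N9065 = N4627 := ded_13_1 (flp_c L22327) (flp_b L10749) (flp_c L10147) L21121 L44034
theorem L44040 : sm gg N4381 = N9066 := rfl
theorem L44042 : sm gb N4382 = N9067 := rfl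
theorem L44044 : sm ga N4383 = N9068 := rfl
theorem L44046 : sm gg N9068 = N4399 := ded_12_2 (flp_a L21209) (flp_g L21133) L44044
theorem L44048 : sm gc N4383 = N9069 := rfl
theorem L44050 : sm gg N9069 = N4400 := ded_21_2 (flp_c L21211) (flp_g L21133) L44048
theorem L44052 : sm gb N9069 = N4631 := ded_13_1 (flp_c L22345) (flp_b L10761) (flp_c L10151) L21131 L44048
theorem L44054 : sm gf N4383 = N9070 := rfl
theorem L44056 : sm gb N4384 = N9071 := rfl
theorem L44058 : sm ga N4385 = N9072 := rfl
theorem L44060 : sm gd N9072 = N7619 := ded_9_2 (flp_a L36604) (flp_d L21145) L44058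
theorem L44062 : sm ge N4385 = N9073 := rfl
theorem L44064 : sm gb N9073 = N4386 := ded_15_1 (flp_e L21147) L21143 L44062
theorem L44066 : sm gf N4385 = N9074 := rfl
theorem L44068 : sm gd N9074 = N7620 := ded_23_1 (flp_f L36606) (flp_d L21145) L44066
theorem L44070 : sm gg N4385 = N9075 := rfl
theorem L44072 : sm gd N9075 = N7621 := ded_24_1 (flp_g L36608) (flp_d L21145) L44070
theorem L44074 : sm gd N4386 = N9076 := rfl
theorem L44076 : sm ga N9076 = N7664 := ded_9_1 L36813 (flp_a L21149) L44074
theorem L44078 : sm ge N9076 = N7596 := ded_22_2 (flp_d L36479) L17475 (flp_d L10157) L21147 L44074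
theorem L44081 : sm gf N4386 = N9077 := rfl
theorem L44083 : sm ga N9077 = N7745 := ded_11_1 (flp_f L37211) (flp_a L21149) L44081
theorem L44085 : sm gc N9077 = N4389 := ded_20_1 (flp_f L21169) (flp_c L21151) L44081
theorem L44087 : sm ge N9077 = N4387 := ded_25_1 (flp_f L21153) L21147 L44081
theorem L44089 : sm gg N4386 = N9078 := rfl
theorem L44091 : sm ga N9078 = N7746 := ded_12_1 (flp_g L37215) (flp_a L21149) L44089
theorem L44093 : sm gc N9078 = N4390 := ded_21_1 (flp_g L21173) (flp_c L21151) L44089
theorem L44095 : sm ge N9078 = N4388 := ded_26_1 (flp_g L21161) L21147 L44089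
theorem L44097 : sm gb N4387 = N9079 := rfl
theorem L44099 : sm gd N9079 = N7622 := ded_14_2 (flp_b L36610) (flp_d L21159) L44097
theorem L44101 : sm gb N4388 = N9080 := rfl
theorem L44103 : sm gd N9080 = N7623 := ded_14_2 (flp_b L36612) (flp_d L21167) L44101
theorem L44105 : sm gb N4389 = N9081 := rfl
theorem L44107 : sm ge N9081 = N4391 := ded_15_2 (flp_b L21177) (flp_e L21171) L44105
theorem L44109 : sm gg N4389 = N9082 := rfl
theorem L44111 : sm ge N9082 = N4392 := ded_26_1 (flp_g L21181) (flp_e L21171) L44109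
theorem L44113 : sm gf N8856 = N9082 := ded_29_0 (flp_g L44109) (flp_f L21169) L21173 (flp_a L42952)
theorem L44115 : sm gb N4390 = N9083 := rfl
theorem L44117 : sm ge N9083 = N4393 := ded_15_2 (flp_b L21187) (flp_e L21175) L44115
theorem L44119 : sm gf N4390 = N9084 := rfl
theorem L44121 : sm ga N9084 = N9082 := ded_11_1 (flp_f L44113) L42952 L44119
theorem L44123 : sm ge N9084 = N4394 := ded_25_1 (flp_f L21191) (flp_e L21175) L44119
theorem L44125 : sm gg N9084 = N8855 := ded_29_3 L42944 (flp_f L21169) L21173 L44119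
theorem L44127 : sm ga N4391 = N9085 := rfl
theorem L44129 : sm gd N9085 = N4395 := ded_9_2 (flp_a L21199) (flp_d L21179) L44127
theorem L44131 : sm gc N4391 = N9086 := rfl
theorem L44133 : sm gg N4391 = N9087 := rfl
theorem L44135 : sm gd N9087 = N4397 := ded_24_1 (flp_g L21205) (flp_d L21179) L44133
theorem L44137 : sm gb N4392 = N9088 := rfl
theorem L44139 : sm gd N9088 = N4398 := ded_14_2 (flp_b L21207) (flp_d L21183) L44137
theorem L44141 : sm ga N4393 = N9089 := rfl
theorem L44143 : sm gd N9089 = N4399 := ded_9_2 (flp_a L21209) (flp_d L21189) L44141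
theorem L44145 : sm gc N4393 = N9090 := rfl
theorem L44147 : sm gf N4393 = N9091 := rfl
theorem L44149 : sm gd N9091 = N4401 := ded_23_1 (flp_f L21215) (flp_d L21189) L44147
theorem L44151 : sm gb N4394 = N9092 := rfl
theorem L44153 : sm gd N9092 = N4402 := ded_14_2 (flp_b L21217) (flp_d L21195) L44151
theorem L44155 : sm gb N4395 = N9093 := rfl
theorem L44157 : sm gc N4395 = N9094 := rfl
theorem L44159 : sm ga N9094 = N4396 := ded_8_1 (flp_c L21201) L21199 L44157
theorem L44161 : sm gg N4395 = N9095 := rfl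
theorem L44163 : sm ga N9095 = N4397 := ded_12_1 (flp_g L21205) L21199 L44161
theorem L44165 : sm gf N9095 = N9066 := ded_29_2 (flp_g L44040) L44030 L44032 L44161
theorem L44167 : sm gd N4396 = N9096 := rfl
theorem L44169 : sm gb N9096 = N4405 := ded_14_1 (flp_d L21229) (flp_b L21203) L44167
theorem L44171 : sm gg N4396 = N9097 := rfl
theorem L44173 : sm gc N9097 = N4397 := ded_21_1 (flp_g L21205) L21201 L44171
theorem L44175 : sm gb N4397 = N9098 := rfl
theorem L44177 : sm gg N9098 = N4398 := ded_17_2 (flp_b L21207) (flp_g L10171) L10169 L21205 L44175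
theorem L44179 : sm gf N4397 = N9099 := rfl
theorem L44181 : sm ga N9099 = N9066 := ded_11_1 (flp_f L44165) L44163 L44179
theorem L44183 : sm gg N9099 = N9064 := ded_29_3 (flp_a L44030) L21123 L21205 L44179
theorem L44185 : sm ga N4398 = N9100 := rfl
theorem L44187 : sm gc N4398 = N9101 := rfl
theorem L44189 : sm gb N9101 = N4409 := ded_13_1 (flp_c L21247) (flp_b L10201) (flp_c L10173) L21207 L44187
theorem L44191 : sm gf N4398 = N9102 := rfl
theorem L44193 : sm gb N9102 = N8864 := ded_16_1 (flp_f L42980) (flp_b L20547) L10175 L21207 L44191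
theorem L44195 : sm gb N4399 = N9103 := rfl
theorem L44197 : sm gc N4399 = N9104 := rfl
theorem L44199 : sm ga N9104 = N4400 := ded_8_1 (flp_c L21211) L21209 L44197
theorem L44201 : sm gf N4399 = N9105 := rfl
theorem L44203 : sm ga N9105 = N4401 := ded_11_1 (flp_f L21215) L21209 L44201
theorem L44205 : sm gg N9070 = N9105 := ded_29_1 (flp_f L44201) (flp_g L44046) (flp_a L44044) L44054
theorem L44207 : sm gd N4400 = N9106 := rfl
theorem L44209 : sm gb N9106 = N4413 := ded_14_1 (flp_d L21265) (flp_b L21213) L44207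
theorem L44211 : sm gf N4400 = N9107 := rfl
theorem L44213 : sm gc N9107 = N4401 := ded_20_1 (flp_f L21215) L21211 L44211
theorem L44215 : sm gb N4401 = N9108 := rfl
theorem L44217 : sm gf N9108 = N4402 := ded_16_2 (flp_b L21217) (flp_f L10179) L10177 L21215 L44215
theorem L44219 : sm gg N4401 = N9109 := rfl
theorem L44221 : sm ga N9109 = N9070 := ded_12_1 L44205 L44203 L44219
theorem L44223 : sm gf N9068 = N9109 := ded_29_0 (flp_g L44219) (flp_f L21215) (flp_g L21133) L44044
theorem L44225 : sm ga N4402 = N9110 := rfl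
theorem L44227 : sm gc N4402 = N9111 := rfl
theorem L44229 : sm gb N9111 = N4417 := ded_13_1 (flp_c L21283) (flp_b L10219) (flp_c L10183) L21217 L44227
theorem L44231 : sm gg N4402 = N9112 := rfl
theorem L44233 : sm gb N9112 = N8861 := ded_17_1 (flp_g L42972) (flp_b L20545) (flp_g L10185) L21217 L44231
theorem L44235 : sm ga N4403 = N9113 := rfl
theorem L44237 : sm gd N9113 = N4419 := ded_9_2 (flp_a L21291) (flp_d L21221) L44235
theorem L44239 : sm gb N9113 = N4648 := ded_7_2 L42988 (flp_b L42982) (flp_a L20549) (flp_b L9885) L5013 L5139 L10187 L21219 L44235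
theorem L44245 : sm gg N4403 = N9115 := rfl
theorem L44247 : sm gd N9115 = N4420 := ded_24_1 (flp_g L21300) (flp_d L21221) L44245
theorem L44250 : sm gb N4404 = N9116 := rfl
theorem L44252 : sm gd N4404 = N9117 := rfl
theorem L44254 : sm ga N9117 = N4405 := ded_9_1 (flp_d L21229) (flp_a L21225) L44252
theorem L44256 : sm gf N9117 = N4651 := ded_23_2 (flp_d L22439) (flp_f L21227) L44252
theorem L44258 : sm gc N4405 = N9118 := rfl
theorem L44260 : sm gf N9118 = N4654 := ded_20_2 (flp_c L22455) (flp_f L21231) L44258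
theorem L44262 : sm ge N4405 = N9119 := rfl
theorem L44264 : sm gf N9119 = N4655 := ded_25_2 (flp_e L22457) (flp_f L21231) L44262
theorem L44266 : sm gg N4405 = N9120 := rfl
theorem L44272 : sm ga N4407 = N9122 := rfl
theorem L44274 : sm gd N9122 = N4426 := ded_9_2 (flp_a L21331) (flp_d L21239) L44272
theorem L44278 : sm gc N4407 = N9123 := rfl
theorem L44280 : sm gg N9123 = N4409 := ded_21_2 (flp_c L21247) (flp_g L21241) L44278
theorem L44282 : sm gf N4407 = N9124 := rfl
theorem L44286 : sm gg N9124 = N5650 := ded_29_3 (flp_a L27293) (flp_f L21249) (flp_g L21241) L44282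
theorem L44288 : sm gb N9124 = N5646 := ded_16_1 (flp_f L27273) (flp_b L22451) L10813 L21237 L44282
theorem L44290 : sm gb N4408 = N9125 := rfl
theorem L44292 : sm gd N9125 = N4429 := ded_14_2 (flp_b L21351) (flp_d L21245) L44290
theorem L44294 : sm gf N9125 = N5633 := ded_16_2 L27221 (flp_f L13102) L27289 (flp_f L27295) L44290
theorem L44296 : sm gc N4408 = N9126 := rfl
theorem L44298 : sm ga N9126 = N4409 := ded_8_1 (flp_c L21247) L21243 L44296
theorem L44300 : sm gd N4409 = N9127 := rfl
theorem L44302 : sm gf N4409 = N9128 := rfl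
theorem L44304 : sm gc N9128 = N4410 := ded_20_1 (flp_f L21249) L21247 L44302
theorem L44306 : sm gg N4410 = N9129 := rfl
theorem L44310 : sm gd N9129 = N4433 := ded_24_1 (flp_g L21371) (flp_d L21251) L44306
theorem L44331 : sm gd N4412 = N9134 := rfl
theorem L44333 : sm ga N9134 = N4413 := ded_9_1 (flp_d L21265) (flp_a L21261) L44331
theorem L44335 : sm gg N9134 = N4665 := ded_24_2 (flp_d L22495) (flp_g L21263) L44331
theorem L44337 : sm gc N4413 = N9135 := rfl
theorem L44339 : sm gg N9135 = N4668 := ded_21_2 (flp_c L22511) (flp_g L21267) L44337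
theorem L44341 : sm ge N4413 = N9136 := rfl
theorem L44343 : sm gg N9136 = N4669 := ded_26_2 (flp_e L22513) (flp_g L21267) L44341
theorem L44345 : sm gf N4413 = N9137 := rfl
theorem L44351 : sm ga N4415 = N9139 := rfl
theorem L44353 : sm gd N9139 = N4443 := ded_9_2 (flp_a L21424) (flp_d L21275) L44351
theorem L44357 : sm gb N9139 = N9122 := ded_7_2 (flp_a L44272) (flp_b L21237) (flp_a L10823) L22473 L22533 (flp_b L22529) L10853 L21273 L44351
theorem L44359 : sm gc N4415 = N9140 := rfl
theorem L44361 : sm gf N9140 = N4417 := ded_20_2 (flp_c L21283) (flp_f L21277) L44359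
theorem L44377 : sm gc N4416 = N9143 := rfl
theorem L44379 : sm ga N9143 = N4417 := ded_8_1 (flp_c L21283) L21279 L44377
theorem L44381 : sm gd N4417 = N9144 := rfl
theorem L44383 : sm gg N4417 = N9145 := rfl
theorem L44385 : sm gc N9145 = N4418 := ded_21_1 (flp_g L21285) L21283 L44383
theorem L44395 : sm gc N4421 = N9147 := rfl
theorem L44397 : sm ga N9147 = N4422 := ded_8_1 (flp_c L21313) (flp_a L21308) L44395
theorem L44399 : sm gf N9147 = N4686 := ded_20_2 (flp_c L22609) (flp_f L21311) L44395
theorem L44401 : sm gd N9118 = N9147 := ded_28_1 (flp_c L44395) (flp_d L21306) (flp_c L10228) (flp_d L10189) L21223 L44252 L44254 L44258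
theorem L44403 : sm ge N4421 = N9148 := rfl
theorem L44405 : sm ga N9148 = N4423 := ded_10_1 (flp_e L21317) (flp_a L21308) L44403
theorem L44408 : sm gf N9148 = N4687 := ded_25_2 (flp_e L22615) (flp_f L21311) L44403
theorem L44412 : sm gb N4422 = N9149 := rfl
theorem L44414 : sm gd N4422 = N9150 := rfl
theorem L44416 : sm ga N9150 = N9118 := ded_9_1 L44401 L44397 L44414
theorem L44418 : sm gf N9150 = N4693 := ded_23_2 (flp_d L22649) (flp_f L21315) L44414
theorem L44420 : sm gc N9117 = N9150 := ded_28_0 (flp_d L44414) (flp_c L21313) (flp_d L10237) (flp_c L5171) (flp_d L5141) L10193 L21229 (flp_a L44254)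
theorem L44422 : sm ge N4422 = N9151 := rfl
theorem L44424 : sm gc N9151 = N4423 := ded_19_1 (flp_e L21317) L21313 L44422
theorem L44426 : sm gf N9151 = N4694 := ded_25_2 (flp_e L22655) (flp_f L21315) L44422
theorem L44428 : sm gg N4422 = N9152 := rfl
theorem L44432 : sm gg N4423 = N9153 := rfl
theorem L44436 : sm ge N9153 = N4424 := ded_26_1 (flp_g L21323) L21317 L44432
theorem L44446 : sm gc N4425 = N9156 := rfl
theorem L44448 : sm ge N9156 = N4460 := ded_19_2 (flp_c L21519) (flp_e L21329) L44446
theorem L44452 : sm gf N4425 = N9157 := rfl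
theorem L44454 : sm ge N9157 = N4461 := ded_25_1 (flp_f L21523) (flp_e L21329) L44452
theorem L44464 : sm gd N4427 = N9159 := rfl
theorem L44466 : sm gg N9159 = N4431 := ded_24_2 (flp_d L21363) (flp_g L21341) L44464
theorem L44468 : sm gf N4427 = N9160 := rfl
theorem L44474 : sm gg N9160 = N5757 := ded_29_3 L27930 (flp_f L21365) (flp_g L21341) L44468
theorem L44482 : sm gb N4430 = N9162 := rfl
theorem L44484 : sm ge N9162 = N4466 := ded_15_2 (flp_b L21545) (flp_e L21361) L44482
theorem L44486 : sm gd N4430 = N9163 := rfl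
theorem L44488 : sm ga N9163 = N4431 := ded_9_1 (flp_d L21363) (flp_a L21359) L44486
theorem L44490 : sm gc N4431 = N9164 := rfl
theorem L44492 : sm ge N4431 = N9165 := rfl
theorem L44496 : sm gf N4431 = N9166 := rfl
theorem L44498 : sm gd N9166 = N4432 := ded_23_1 (flp_f L21365) L21363 L44496
theorem L44500 : sm gb N4432 = N9167 := rfl
theorem L44502 : sm ge N9167 = N4471 := ded_15_2 (flp_b L21559) (flp_e L21369) L44500
theorem L44504 : sm gc N9167 = N8891 := ded_13_2 (flp_b L43134) L20635 (flp_b L10265) (flp_c L21367) L44500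
theorem L44506 : sm gg N4432 = N9168 := rfl
theorem L44510 : sm gc N9168 = N4433 := ded_21_1 (flp_g L21371) (flp_c L21367) L44506
theorem L44547 : sm gf N4437 = N9175 := rfl
theorem L44549 : sm ge N9175 = N4479 := ded_25_1 (flp_f L21594) (flp_e L21398) L44547
theorem L44551 : sm gg N4437 = N9176 := rfl
theorem L44555 : sm gb N9176 = N4716 := ded_17_1 (flp_g L22782) (flp_b L10950) (flp_g L10277) L21396 L44551
theorem L44557 : sm gc N4438 = N9177 := rfl
theorem L44559 : sm ga N9177 = N4439 := ded_8_1 (flp_c L21406) (flp_a L21402) L44557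
theorem L44561 : sm gg N9177 = N4717 := ded_21_2 (flp_c L22786) (flp_g L21404) L44557
theorem L44563 : sm gd N9135 = N9177 := ded_28_1 (flp_c L44557) (flp_d L21400) (flp_c L10271) (flp_d L10207) L21259 L44331 L44333 L44337
theorem L44565 : sm ge N4438 = N9178 := rfl
theorem L44567 : sm ga N9178 = N4440 := ded_10_1 (flp_e L21410) (flp_a L21402) L44565
theorem L44569 : sm gg N9178 = N4718 := ded_26_2 (flp_e L22792) (flp_g L21404) L44565
theorem L44573 : sm gb N4439 = N9179 := rfl
theorem L44575 : sm gd N4439 = N9180 := rfl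
theorem L44577 : sm ga N9180 = N9135 := ded_9_1 L44563 L44559 L44575
theorem L44579 : sm gg N9180 = N4724 := ded_24_2 (flp_d L22826) (flp_g L21408) L44575
theorem L44581 : sm gc N9134 = N9180 := ded_28_0 (flp_d L44575) (flp_c L21406) (flp_d L10279) (flp_c L5191) (flp_d L5153) L10211 L21265 (flp_a L44333)
theorem L44583 : sm ge N4439 = N9181 := rfl
theorem L44585 : sm gc N9181 = N4440 := ded_19_1 (flp_e L21410) L21406 L44583
theorem L44587 : sm gg N9181 = N4725 := ded_26_2 (flp_e L22832) (flp_g L21408) L44583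
theorem L44589 : sm gf N4439 = N9182 := rfl
theorem L44593 : sm gf N4440 = N9183 := rfl
theorem L44597 : sm ge N9183 = N4441 := ded_25_1 (flp_f L21416) L21410 L44593
theorem L44603 : sm ga N4442 = N9185 := rfl
theorem L44605 : sm ge N9185 = N4489 := ded_10_2 (flp_a L21642) (flp_e L21422) L44603
theorem L44607 : sm gc N4442 = N9186 := rfl
theorem L44611 : sm gf N9186 = N5697 := ded_20_2 L37500 L37496 L44607
theorem L44613 : sm gb N9186 = N4444 := ded_13_1 (flp_c L21432) (flp_b L10289) (flp_c L10285) L21420 L44607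
theorem L44615 : sm gg N4442 = N9187 := rfl
theorem L44617 : sm ge N9187 = N4491 := ded_26_1 (flp_g L21650) (flp_e L21422) L44615
theorem L44619 : sm gc N4443 = N9188 := rfl
theorem L44625 : sm gf N9188 = N4447 := ded_20_2 (flp_c L21452) (flp_f L21428) L44619
theorem L44627 : sm gd N4444 = N9189 := rfl
theorem L44629 : sm gf N9189 = N4448 := ded_23_2 (flp_d L21458) (flp_f L21436) L44627
theorem L44645 : sm gb N4447 = N9192 := rfl
theorem L44647 : sm ge N9192 = N4496 := ded_15_2 (flp_b L21672) (flp_e L21456) L44645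
theorem L44649 : sm gd N4447 = N9193 := rfl
theorem L44651 : sm ga N9193 = N4448 := ded_9_1 (flp_d L21458) (flp_a L21454) L44649
theorem L44653 : sm gc N4448 = N9194 := rfl
theorem L44655 : sm ge N4448 = N9195 := rfl
theorem L44659 : sm gg N4448 = N9196 := rfl
theorem L44661 : sm gd N9196 = N4449 := ded_24_1 (flp_g L21460) L21458 L44659
theorem L44679 : sm gb N4451 = N9199 := rfl
theorem L44681 : sm gd N9199 = N9001 := ded_14_2 (flp_b L43749) L21480 L44679
theorem L44683 : sm gc N9199 = N9199 := ded_13_2 (flp_b L44679) (flp_c L21474) L10330 L21474 L44679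
theorem L44684 : sm ga N9001 = N9001 := ded_28_8 L43751 (flp_d L44681) L44683 L44681 L43751 (flp_d L44681) L44683 L44681
theorem L44686 : sm ge N4451 = N9200 := rfl
theorem L44688 : sm ga N9200 = N4455 := ded_10_1 (flp_e L21499) (flp_a L21476) L44686
theorem L44690 : sm gc N9200 = N4452 := ded_19_1 (flp_e L21482) L21474 L44686
theorem L44715 : sm gg N4454 = N9206 := rfl
theorem L44719 : sm gc N9206 = N4585 := ded_21_1 L22141 L21497 L44715
theorem L44721 : sm gd N9206 = N4456 := ded_24_1 (flp_g L21505) L21491 L44715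
theorem L44723 : sm gf N4582 = N9206 := ded_29_0 (flp_g L44715) L21495 L23040 L23042
theorem L44729 : sm gg N4455 = N9208 := rfl
theorem L44731 : sm gc N9208 = N4457 := ded_21_1 (flp_g L21509) (flp_c L21501) L44729
theorem L44741 : sm ga N4458 = N9211 := rfl
theorem L44743 : sm gd N9211 = N4459 := ded_9_2 (flp_a L21517) (flp_d L21515) L44741
theorem L44745 : sm gc N4458 = N9212 := rfl
theorem L44747 : sm gf N4458 = N9213 := rfl
theorem L44749 : sm gd N9213 = N4461 := ded_23_1 (flp_f L21523) (flp_d L21515) L44747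
theorem L44751 : sm gb N4459 = N9214 := rfl
theorem L44753 : sm gc N4459 = N9215 := rfl
theorem L44755 : sm ga N9215 = N4460 := ded_8_1 (flp_c L21519) L21517 L44753
theorem L44757 : sm gf N4459 = N9216 := rfl
theorem L44759 : sm ga N9216 = N4461 := ded_11_1 (flp_f L21523) L21517 L44757
theorem L44761 : sm gg N9216 = N7833 := ded_29_3 L37681 (flp_f L37671) L37669 L44757
theorem L44763 : sm gd N4460 = N9217 := rfl
theorem L44765 : sm gb N9217 = N4463 := ded_14_1 (flp_d L21531) (flp_b L21521) L44763
theorem L44767 : sm gf N4460 = N9218 := rfl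
theorem L44769 : sm gc N9218 = N4461 := ded_20_1 (flp_f L21523) L21519 L44767
theorem L44773 : sm gd N4462 = N9220 := rfl
theorem L44775 : sm ga N9220 = N4463 := ded_9_1 (flp_d L21531) (flp_a L21527) L44773
theorem L44777 : sm gg N9220 = N4467 := ded_24_2 (flp_d L21547) (flp_g L21529) L44773
theorem L44779 : sm gc N4463 = N9221 := rfl
theorem L44781 : sm gg N9221 = N4468 := ded_21_2 (flp_c L21551) (flp_g L21533) L44779
theorem L44787 : sm gf N4463 = N9223 := rfl
theorem L44791 : sm gg N9223 = N5958 := ded_29_3 L28861 (flp_f L21555) (flp_g L21533) L44787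
theorem L44797 : sm gb N4465 = N9225 := rfl
theorem L44799 : sm gc N9225 = N4466 := ded_13_2 (flp_b L21545) (flp_c L10371) L10367 L21541 L44797
theorem L44805 : sm ga N4466 = N9227 := rfl
theorem L44807 : sm gd N4466 = N9228 := rfl
theorem L44809 : sm gb N9228 = N4467 := ded_14_1 (flp_d L21547) L21545 L44807
theorem L44811 : sm gf N4466 = N9229 := rfl
theorem L44813 : sm gg N4466 = N9230 := rfl
theorem L44815 : sm gc N4467 = N9231 := rfl
theorem L44817 : sm ga N9231 = N4468 := ded_8_1 (flp_c L21551) (flp_a L21549) L44815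
theorem L44819 : sm gd N9015 = N9231 := ded_28_1 (flp_c L44815) (flp_d L21547) (flp_c L10371) (flp_d L10088) L20986 L43807 L43809 L43811
theorem L44825 : sm gb N4468 = N9233 := rfl
theorem L44833 : sm ge N4468 = N9235 := rfl
theorem L44837 : sm gf N4468 = N9236 := rfl
theorem L44839 : sm gc N9236 = N4470 := ded_20_1 (flp_f L21555) L21551 L44837
theorem L44845 : sm gb N4470 = N9238 := rfl
theorem L44847 : sm gd N9238 = N4471 := ded_14_2 (flp_b L21559) (flp_d L21557) L44845
theorem L44849 : sm gg N4470 = N9239 := rfl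
theorem L44851 : sm ga N9239 = N9223 := ded_12_1 L44791 L28861 L44849
theorem L44855 : sm gf N9220 = N9239 := ded_29_0 (flp_g L44849) (flp_f L21555) (flp_g L21533) (flp_a L44775)
theorem L44898 : sm gd N4477 = N9252 := rfl
theorem L44900 : sm ga N9252 = N4478 := ded_9_1 (flp_d L21590) L21588 L44898
theorem L44906 : sm gg N4477 = N9254 := rfl
theorem L44908 : sm ga N9254 = N4480 := ded_12_1 (flp_g L21596) L21588 L44906
theorem L44920 : sm gg N4478 = N9258 := rfl
theorem L44924 : sm gb N9258 = N4807 := ded_17_1 (flp_g L23221) L11198 (flp_g L10403) (flp_b L21592) L44920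
theorem L44926 : sm gg N4479 = N9259 := rfl
theorem L44928 : sm gf N9254 = N9259 := ded_29_0 (flp_g L44926) (flp_f L21594) L21596 (flp_a L44908)
theorem L44936 : sm gb N4481 = N9261 := rfl
theorem L44938 : sm gd N9261 = N9029 := ded_14_2 (flp_b L43868) L21606 L44936
theorem L44964 : sm ge N4484 = N9268 := rfl
theorem L44968 : sm gc N9268 = N9028 := ded_19_1 (flp_e L43862) L21622 L44964
theorem L44970 : sm gg N9268 = N4826 := ded_26_2 (flp_e L23313) (flp_g L21620) L44964
theorem L44972 : sm gf N4484 = N9269 := rfl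
theorem L44978 : sm gd N9269 = N4486 := ded_23_1 (flp_f L21630) L21616 L44972
theorem L44980 : sm gg N9269 = N4611 := ded_29_3 (flp_a L23321) (flp_f L23319) (flp_g L21620) L44972
theorem L44982 : sm gd N4485 = N9270 := rfl
theorem L44984 : sm gg N9270 = N4828 := ded_24_2 (flp_d L23327) (flp_g L21628) L44982
theorem L44998 : sm ga N4488 = N9274 := rfl
theorem L45000 : sm gd N9274 = N4489 := ded_9_2 (flp_a L21642) (flp_d L21640) L44998
theorem L45004 : sm gg N4488 = N9276 := rfl
theorem L45006 : sm gd N9276 = N4491 := ded_24_1 (flp_g L21650) (flp_d L21640) L45004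
theorem L45010 : sm gd N4490 = N9278 := rfl
theorem L45012 : sm gb N9278 = N4493 := ded_14_1 (flp_d L21658) (flp_b L21648) L45010
theorem L45014 : sm gf N9278 = N5840 := ded_23_2 L28331 (flp_f L21646) L45010
theorem L45020 : sm gd N4492 = N9280 := rfl
theorem L45022 : sm ga N9280 = N4493 := ded_9_1 (flp_d L21658) (flp_a L21654) L45020
theorem L45024 : sm gf N9280 = N4497 := ded_23_2 (flp_d L21674) (flp_f L21656) L45020
theorem L45026 : sm gc N4493 = N9281 := rfl
theorem L45028 : sm gf N9281 = N4498 := ded_20_2 (flp_c L21678) (flp_f L21660) L45026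
theorem L45044 : sm gb N4495 = N9285 := rfl
theorem L45046 : sm gc N9285 = N4496 := ded_13_2 (flp_b L21672) (flp_c L10443) L10439 L21668 L45044
theorem L45052 : sm ga N4496 = N9287 := rfl
theorem L45054 : sm gd N4496 = N9288 := rfl
theorem L45056 : sm gb N9288 = N4497 := ded_14_1 (flp_d L21674) L21672 L45054
theorem L45058 : sm gf N4496 = N9289 := rfl
theorem L45060 : sm gg N4496 = N9290 := rfl
theorem L45062 : sm gc N4497 = N9291 := rfl
theorem L45064 : sm ga N9291 = N4498 := ded_8_1 (flp_c L21678) (flp_a L21676) L45062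
theorem L45066 : sm gd N9043 = N9291 := ded_28_1 (flp_c L45062) (flp_d L21674) (flp_c L10443) (flp_d L10126) L21070 L43926 L43928 L43930
theorem L45068 : sm ge N4497 = N9292 := rfl
theorem L45070 : sm ga N9292 = N4499 := ded_10_1 (flp_e L21680) (flp_a L21676) L45068
theorem L45072 : sm gb N4498 = N9293 := rfl
theorem L45074 : sm gd N4498 = N9294 := rfl
theorem L45080 : sm ge N4498 = N9295 := rfl
theorem L45104 : sm ga N4503 = N9300 := rfl
theorem L45106 : sm ge N9300 = N4620 := ded_10_2 (flp_a L22297) (flp_e L21700) L45104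
theorem L45108 : sm gb N9300 = N5140 := ded_7_2 (flp_a L24860) (flp_b L11968) (flp_a L5939) (flp_b L3098) (flp_a L2731) L5263 L10463 L21698 L45104
theorem L45110 : sm gc N4503 = N9301 := rfl
theorem L45112 : sm ge N9301 = N4621 := ded_19_2 (flp_c L22303) (flp_e L21700) L45110
theorem L45114 : sm gd N4503 = N9302 := rfl
theorem L45116 : sm gb N9302 = N4504 := ded_14_1 (flp_d L21702) L21698 L45114
theorem L45118 : sm ge N9302 = N5142 := ded_22_2 (flp_d L24869) L11970 (flp_d L10735) (flp_e L21700) L45114
theorem L45120 : sm gf N4503 = N9303 := rfl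
theorem L45122 : sm ge N9303 = N4622 := ded_25_1 (flp_f L22305) (flp_e L21700) L45120
theorem L45124 : sm gg N4503 = N9304 := rfl
theorem L45126 : sm ge N9304 = N4623 := ded_26_1 (flp_g L22309) (flp_e L21700) L45124
theorem L45128 : sm gc N4504 = N9305 := rfl
theorem L45130 : sm ga N9305 = N4507 := ded_8_1 (flp_c L21720) (flp_a L21704) L45128
theorem L45132 : sm ge N9305 = N5145 := ded_19_2 (flp_c L24881) (flp_e L21706) L45128
theorem L45134 : sm gf N4504 = N9306 := rfl
theorem L45136 : sm ga N9306 = N4508 := ded_11_1 (flp_f L21725) (flp_a L21704) L45134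
theorem L45138 : sm gd N9306 = N4505 := ded_23_1 (flp_f L21708) L21702 L45134
theorem L45140 : sm ge N9306 = N5146 := ded_25_1 (flp_f L24885) (flp_e L21706) L45134
theorem L45142 : sm gg N4504 = N9307 := rfl
theorem L45144 : sm ga N9307 = N4509 := ded_12_1 (flp_g L21731) (flp_a L21704) L45142
theorem L45146 : sm gd N9307 = N4506 := ded_24_1 (flp_g L21714) L21702 L45142
theorem L45148 : sm ge N9307 = N5147 := ded_26_1 (flp_g L24891) (flp_e L21706) L45142
theorem L45150 : sm gb N4505 = N9308 := rfl
theorem L45152 : sm ge N9308 = N4624 := ded_15_2 (flp_b L22313) (flp_e L21712) L45150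
theorem L45154 : sm gb N4506 = N9309 := rfl
theorem L45156 : sm ge N9309 = N4625 := ded_15_2 (flp_b L22317) (flp_e L21718) L45154
theorem L45158 : sm gd N4507 = N9310 := rfl
theorem L45161 : sm gf N4507 = N9311 := rfl
theorem L45163 : sm gc N9311 = N4508 := ded_20_1 (flp_f L21725) L21720 L45161
theorem L45165 : sm ge N9311 = N5151 := ded_25_1 (flp_f L24908) (flp_e L21722) L45161
theorem L45167 : sm gg N4507 = N9312 := rfl
theorem L45169 : sm gc N9312 = N4509 := ded_21_1 (flp_g L21731) L21720 L45167
theorem L45171 : sm ge N9312 = N5152 := ded_26_1 (flp_g L24912) (flp_e L21722) L45167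
theorem L45173 : sm gb N4508 = N9313 := rfl
theorem L45175 : sm gd N9313 = N4510 := ded_14_2 (flp_b L21737) (flp_d L21727) L45173
theorem L45177 : sm ge N9313 = N5153 := ded_15_2 (flp_b L24916) (flp_e L21729) L45173
theorem L45179 : sm gf N9313 = N4514 := ded_16_2 (flp_b L21763) (flp_f L10481) (flp_b L10469) L21725 L45173
theorem L45181 : sm gg N4508 = N9314 := rfl
theorem L45183 : sm gd N9314 = N4511 := ded_24_1 (flp_g L21743) (flp_d L21727) L45181
theorem L45185 : sm ge N9314 = N5154 := ded_26_1 (flp_g L24922) (flp_e L21729) L45181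
theorem L45187 : sm gf N9307 = N9314 := ded_29_0 (flp_g L45181) (flp_f L21725) L21731 (flp_a L45144)
theorem L45189 : sm gb N4509 = N9315 := rfl
theorem L45191 : sm gd N9315 = N4512 := ded_14_2 (flp_b L21749) (flp_d L21733) L45189
theorem L45193 : sm ge N9315 = N5155 := ded_15_2 (flp_b L24928) (flp_e L21735) L45189
theorem L45195 : sm gg N9315 = N4515 := ded_17_2 (flp_b L21769) (flp_g L10490) (flp_b L10469) L21731 L45189
theorem L45197 : sm gf N4509 = N9316 := rfl
theorem L45199 : sm ga N9316 = N9314 := ded_11_1 (flp_f L45187) L45144 L45197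
theorem L45201 : sm gd N9316 = N4513 := ded_23_1 (flp_f L21755) (flp_d L21733) L45197
theorem L45203 : sm ge N9316 = N5156 := ded_25_1 (flp_f L24934) (flp_e L21735) L45197
theorem L45205 : sm gg N9316 = N9306 := ded_29_3 L45136 (flp_f L21725) L21731 L45197
theorem L45207 : sm ga N4510 = N9317 := rfl
theorem L45209 : sm ge N9317 = N4626 := ded_10_2 (flp_a L22321) (flp_e L21739) L45207
theorem L45211 : sm gf N9317 = N4516 := ded_11_2 (flp_a L21775) (flp_f L21741) L45207
theorem L45213 : sm gc N4510 = N9318 := rfl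
theorem L45215 : sm ge N9318 = N4627 := ded_19_2 (flp_c L22327) (flp_e L21739) L45213
theorem L45217 : sm gf N9318 = N4517 := ded_20_2 (flp_c L21779) (flp_f L21741) L45213
theorem L45219 : sm gg N4510 = N9319 := rfl
theorem L45221 : sm ge N9319 = N4628 := ded_26_1 (flp_g L22331) (flp_e L21739) L45219
theorem L45223 : sm gb N4511 = N9320 := rfl
theorem L45225 : sm ge N9320 = N4629 := ded_15_2 (flp_b L22335) (flp_e L21745) L45223
theorem L45227 : sm ga N4512 = N9321 := rfl
theorem L45229 : sm ge N9321 = N4630 := ded_10_2 (flp_a L22339) (flp_e L21751) L45227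
theorem L45231 : sm gg N9321 = N4519 := ded_12_2 (flp_a L21789) (flp_g L21753) L45227
theorem L45233 : sm gc N4512 = N9322 := rfl
theorem L45235 : sm ge N9322 = N4631 := ded_19_2 (flp_c L22345) (flp_e L21751) L45233
theorem L45237 : sm gg N9322 = N4520 := ded_21_2 (flp_c L21793) (flp_g L21753) L45233
theorem L45239 : sm gf N4512 = N9323 := rfl
theorem L45241 : sm ge N9323 = N4632 := ded_25_1 (flp_f L22349) (flp_e L21751) L45239
theorem L45243 : sm gb N4513 = N9324 := rfl
theorem L45245 : sm ge N9324 = N4633 := ded_15_2 (flp_b L22353) (flp_e L21759) L45243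
theorem L45247 : sm ga N4514 = N9325 := rfl
theorem L45249 : sm gd N9325 = N4516 := ded_9_2 (flp_a L21775) (flp_d L21765) L45247
theorem L45251 : sm ge N9325 = N5165 := ded_10_2 (flp_a L24984) (flp_e L21767) L45247
theorem L45253 : sm gc N4514 = N9326 := rfl
theorem L45255 : sm ge N9326 = N5166 := ded_19_2 (flp_c L24988) (flp_e L21767) L45253
theorem L45257 : sm gb N9326 = N9326 := ded_13_1 (flp_c L45253) (flp_b L21763) L10485 L21763 L45253
theorem L45258 : sm gg N4514 = N9327 := rfl
theorem L45260 : sm gd N9327 = N4518 := ded_24_1 (flp_g L21785) (flp_d L21765) L45258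
theorem L45262 : sm ge N9327 = N5167 := ded_26_1 (flp_g L24991) (flp_e L21767) L45258
theorem L45264 : sm ga N4515 = N9328 := rfl
theorem L45266 : sm gd N9328 = N4519 := ded_9_2 (flp_a L21789) (flp_d L21771) L45264
theorem L45268 : sm ge N9328 = N5169 := ded_10_2 (flp_a L24999) (flp_e L21773) L45264
theorem L45270 : sm gc N4515 = N9329 := rfl
theorem L45272 : sm ge N9329 = N5170 := ded_19_2 (flp_c L25003) (flp_e L21773) L45270
theorem L45274 : sm gb N9329 = N9329 := ded_13_1 (flp_c L45270) (flp_b L21769) L10494 L21769 L45270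
theorem L45275 : sm gf N4515 = N9330 := rfl
theorem L45277 : sm gd N9330 = N4521 := ded_23_1 (flp_f L21799) (flp_d L21771) L45275
theorem L45279 : sm ge N9330 = N5171 := ded_25_1 (flp_f L25006) (flp_e L21773) L45275
theorem L45281 : sm gb N4516 = N9331 := rfl
theorem L45283 : sm ge N9331 = N4634 := ded_15_2 (flp_b L22357) (flp_e L21777) L45281
theorem L45285 : sm gc N4516 = N9332 := rfl
theorem L45287 : sm ga N9332 = N4517 := ded_8_1 (flp_c L21779) L21775 L45285
theorem L45289 : sm ge N9332 = N4635 := ded_19_2 (flp_c L22361) (flp_e L21777) L45285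
theorem L45291 : sm gg N4516 = N9333 := rfl
theorem L45293 : sm ga N9333 = N4518 := ded_12_1 (flp_g L21785) L21775 L45291
theorem L45295 : sm ge N9333 = N4636 := ded_26_1 (flp_g L22365) (flp_e L21777) L45291
theorem L45297 : sm gf N9333 = N9319 := ded_29_2 (flp_g L45219) L45207 L45211 L45291
theorem L45299 : sm gd N4517 = N9334 := rfl
theorem L45301 : sm gb N9334 = N4525 := ded_14_1 (flp_d L21825) (flp_b L21783) L45299
theorem L45303 : sm gg N4517 = N9335 := rfl
theorem L45305 : sm gc N9335 = N4518 := ded_21_1 (flp_g L21785) L21779 L45303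
theorem L45307 : sm ge N9335 = N4638 := ded_26_1 (flp_g L22377) (flp_e L21781) L45303
theorem L45309 : sm gf N4518 = N9336 := rfl
theorem L45311 : sm ga N9336 = N9319 := ded_11_1 (flp_f L45297) L45293 L45309
theorem L45313 : sm ge N9336 = N4639 := ded_25_1 (flp_f L22381) (flp_e L21787) L45309
theorem L45315 : sm gg N9336 = N9317 := ded_29_3 (flp_a L45207) L21741 L21785 L45309
theorem L45317 : sm gb N4519 = N9337 := rfl
theorem L45319 : sm ge N9337 = N4640 := ded_15_2 (flp_b L22389) (flp_e L21791) L45317
theorem L45321 : sm gc N4519 = N9338 := rfl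
theorem L45323 : sm ga N9338 = N4520 := ded_8_1 (flp_c L21793) L21789 L45321
theorem L45325 : sm ge N9338 = N4641 := ded_19_2 (flp_c L22393) (flp_e L21791) L45321
theorem L45327 : sm gf N4519 = N9339 := rfl
theorem L45329 : sm ga N9339 = N4521 := ded_11_1 (flp_f L21799) L21789 L45327
theorem L45331 : sm ge N9339 = N4642 := ded_25_1 (flp_f L22397) (flp_e L21791) L45327
theorem L45333 : sm gg N9323 = N9339 := ded_29_1 (flp_f L45327) (flp_g L45231) (flp_a L45227) L45239
theorem L45335 : sm gd N4520 = N9340 := rfl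
theorem L45337 : sm gb N9340 = N4531 := ded_14_1 (flp_d L21865) (flp_b L21797) L45335
theorem L45339 : sm gf N4520 = N9341 := rfl
theorem L45341 : sm gc N9341 = N4521 := ded_20_1 (flp_f L21799) L21793 L45339
theorem L45343 : sm ge N9341 = N4644 := ded_25_1 (flp_f L22409) (flp_e L21795) L45339
theorem L45345 : sm gg N4521 = N9342 := rfl
theorem L45347 : sm ga N9342 = N9323 := ded_12_1 L45333 L45329 L45345
theorem L45349 : sm ge N9342 = N4645 := ded_26_1 (flp_g L22413) (flp_e L21801) L45345
theorem L45351 : sm gf N9321 = N9342 := ded_29_0 (flp_g L45345) (flp_f L21799) (flp_g L21753) L45227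
theorem L45353 : sm ga N4522 = N9343 := rfl
theorem L45355 : sm gd N9343 = N4534 := ded_9_2 (flp_a L21883) (flp_d L21805) L45353
theorem L45357 : sm ge N9343 = N4646 := ded_10_2 (flp_a L22421) (flp_e L21807) L45353
theorem L45377 : sm gb N4523 = N9347 := rfl
theorem L45379 : sm ge N9347 = N4650 := ded_15_2 (flp_b L22437) (flp_e L21813) L45377
theorem L45381 : sm gd N4523 = N9348 := rfl
theorem L45383 : sm ga N9348 = N4525 := ded_9_1 (flp_d L21825) (flp_a L21811) L45381
theorem L45385 : sm gg N4523 = N9349 := rfl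
theorem L45387 : sm ga N9349 = N4526 := ded_12_1 (flp_g L21827) (flp_a L21811) L45385
theorem L45389 : sm gc N9349 = N4524 := ded_21_1 (flp_g L21815) L21809 L45385
theorem L45391 : sm ge N9349 = N4652 := ded_26_1 (flp_g L22443) (flp_e L21813) L45385
theorem L45393 : sm gf N9349 = N8945 := ded_29_2 (flp_g L43438) (flp_a L43428) L43432 L45385
theorem L45395 : sm gb N4524 = N9350 := rfl
theorem L45401 : sm gc N4525 = N9351 := rfl
theorem L45403 : sm ge N4525 = N9352 := rfl
theorem L45405 : sm gd N9352 = N4655 := ded_22_1 (flp_e L22457) (flp_d L10815) (flp_e L10515) L21825 L45403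
theorem L45407 : sm gg N4525 = N9353 := rfl
theorem L45409 : sm gd N9353 = N4526 := ded_24_1 (flp_g L21827) L21825 L45407
theorem L45411 : sm gb N4526 = N9354 := rfl
theorem L45413 : sm ge N9354 = N4657 := ded_15_2 (flp_b L22463) (flp_e L21831) L45411
theorem L45415 : sm gf N4526 = N9355 := rfl
theorem L45419 : sm gc N9355 = N4527 := ded_20_1 (flp_f L21833) (flp_c L21829) L45415
theorem L45431 : sm ga N4528 = N9357 := rfl
theorem L45433 : sm gd N9357 = N4548 := ded_9_2 (flp_a L21955) (flp_d L21845) L45431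
theorem L45435 : sm ge N9357 = N4660 := ded_10_2 (flp_a L22477) (flp_e L21847) L45431
theorem L45455 : sm gb N4529 = N9361 := rfl
theorem L45457 : sm ge N9361 = N4664 := ded_15_2 (flp_b L22493) (flp_e L21853) L45455
theorem L45459 : sm gd N4529 = N9362 := rfl
theorem L45461 : sm ga N9362 = N4531 := ded_9_1 (flp_d L21865) (flp_a L21851) L45459
theorem L45463 : sm gf N4529 = N9363 := rfl
theorem L45465 : sm ga N9363 = N4532 := ded_11_1 (flp_f L21867) (flp_a L21851) L45463
theorem L45467 : sm gc N9363 = N4530 := ded_20_1 (flp_f L21855) L21849 L45463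
theorem L45469 : sm ge N9363 = N4666 := ded_25_1 (flp_f L22499) (flp_e L21853) L45463
theorem L45471 : sm gg N8953 = N9363 := ded_29_1 (flp_f L45463) (flp_g L43482) L43478 L43488
theorem L45473 : sm gb N4530 = N9364 := rfl
theorem L45475 : sm gd N9364 = N4555 := ded_14_2 (flp_b L21991) (flp_d L21859) L45473
theorem L45479 : sm gc N4531 = N9365 := rfl
theorem L45481 : sm ge N4531 = N9366 := rfl
theorem L45483 : sm gd N9366 = N4669 := ded_22_1 (flp_e L22513) (flp_d L10845) (flp_e L10531) L21865 L45481
theorem L45485 : sm gf N4531 = N9367 := rfl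
theorem L45487 : sm gd N9367 = N4532 := ded_23_1 (flp_f L21867) L21865 L45485
theorem L45489 : sm gb N4532 = N9368 := rfl
theorem L45491 : sm ge N9368 = N4671 := ded_15_2 (flp_b L22519) (flp_e L21871) L45489
theorem L45493 : sm gg N4532 = N9369 := rfl
theorem L45503 : sm gb N4533 = N9370 := rfl
theorem L45505 : sm gd N9370 = N4561 := ded_14_2 (flp_b L22023) (flp_d L21877) L45503
theorem L45507 : sm ge N9370 = N4673 := ded_15_2 (flp_b L22529) (flp_e L21879) L45503
theorem L45531 : sm gf N4535 = N9375 := rfl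
theorem L45535 : sm ge N9375 = N4566 := ded_25_1 (flp_f L22045) (flp_e L21891) L45531
theorem L45537 : sm gg N4535 = N9376 := rfl
theorem L45539 : sm gc N9376 = N4537 := ded_21_1 (flp_g L21897) L21889 L45537
theorem L45551 : sm gb N4537 = N9378 := rfl
theorem L45553 : sm ge N9378 = N4569 := ded_15_2 (flp_b L22061) (flp_e L21899) L45551
theorem L45559 : sm gf N5317 = N9378 := ded_25_0 L45553 (flp_f L22069) (flp_e L25824)
theorem L45561 : sm gf N4537 = N9379 := rfl
theorem L45567 : sm gg N9379 = N8813 := ded_29_3 (flp_a L42738) (flp_f L21893) L21897 L45561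
theorem L45585 : sm gc N4539 = N9384 := rfl
theorem L45587 : sm ga N9384 = N4542 := ded_8_1 (flp_c L21923) (flp_a L21907) L45585
theorem L45589 : sm gd N9351 = N9384 := ded_28_1 (flp_c L45585) (flp_d L21905) (flp_c L10543) (flp_d L10509) L21809 L45381 L45383 L45401
theorem L45617 : sm gc N4541 = N9389 := rfl
theorem L45619 : sm ge N9389 = N4579 := ded_19_2 (flp_c L22111) (flp_e L21921) L45617
theorem L45621 : sm gb N4542 = N9390 := rfl
theorem L45623 : sm gc N9390 = N5256 := ded_13_2 (flp_b L25501) (flp_c L12247) (flp_b L10559) L21923 L45621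
theorem L45625 : sm gd N4542 = N9391 := rfl
theorem L45627 : sm ga N9391 = N9351 := ded_9_1 L45589 L45587 L45625
theorem L45629 : sm gc N9348 = N9391 := ded_28_0 (flp_d L45625) (flp_c L21923) (flp_d L10557) (flp_c L5306) (flp_d L5292) L10513 L21825 (flp_a L45383)
theorem L45635 : sm gg N4542 = N9393 := rfl
theorem L45637 : sm gc N9393 = N4544 := ded_21_1 (flp_g L21931) L21923 L45635
theorem L45685 : sm gc N4548 = N9402 := rfl
theorem L45689 : sm ge N9402 = N4591 := ded_19_2 (flp_c L22161) (flp_e L21957) L45685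
theorem L45691 : sm gf N4548 = N9403 := rfl
theorem L45693 : sm ga N9403 = N4550 := ded_11_1 (flp_f L21965) L21955 L45691
theorem L45695 : sm ge N9403 = N4592 := ded_25_1 (flp_f L22165) (flp_e L21957) L45691
theorem L45719 : sm gb N4550 = N9408 := rfl
theorem L45721 : sm ge N9408 = N4597 := ded_15_2 (flp_b L22187) (flp_e L21967) L45719
theorem L45723 : sm gf N9408 = N4555 := ded_16_2 (flp_b L21991) (flp_f L10585) L10575 L21965 L45719
theorem L45727 : sm gg N5269 = N9408 := ded_26_0 L45721 (flp_g L22195) (flp_e L25567)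
theorem L45735 : sm gf N4551 = N9410 := rfl
theorem L45741 : sm gg N9410 = N9403 := ded_29_3 L45693 (flp_f L21965) L21969 L45735
theorem L45761 : sm gc N4553 = N9415 := rfl
theorem L45763 : sm ga N9415 = N4556 := ded_8_1 (flp_c L21995) (flp_a L21979) L45761
theorem L45765 : sm gd N9365 = N9415 := ded_28_1 (flp_c L45761) (flp_d L21977) (flp_c L10579) (flp_d L10525) L21849 L45459 L45461 L45479
theorem L45773 : sm gf N4553 = N9417 := rfl
theorem L45775 : sm ga N9417 = N4558 := ded_11_1 (flp_f L22003) (flp_a L21979) L45773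
theorem L45777 : sm gd N9417 = N4554 := ded_23_1 (flp_f L21981) L21977 L45773
theorem L45779 : sm gg N8982 = N9417 := ded_29_1 (flp_f L45773) (flp_g L43641) L43639 L43654
theorem L45797 : sm gb N4556 = N9421 := rfl
theorem L45799 : sm gc N9421 = N5304 := ded_13_2 (flp_b L25756) (flp_c L12353) (flp_b L10595) L21995 L45797
theorem L45801 : sm gd N4556 = N9422 := rfl
theorem L45803 : sm ga N9422 = N9365 := ded_9_1 L45765 L45763 L45801
theorem L45805 : sm gc N9362 = N9422 := ded_28_0 (flp_d L45801) (flp_c L21995) (flp_d L10593) (flp_c L5320) (flp_d L5298) L10529 L21865 (flp_a L45461)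
theorem L45807 : sm ge N4556 = N9423 := rfl
theorem L45809 : sm gc N9423 = N4557 := ded_19_1 (flp_e L21997) L21995 L45807
theorem L45811 : sm gf N4556 = N9424 := rfl
theorem L45835 : sm ga N4559 = N9428 := rfl
theorem L45837 : sm ge N9428 = N4615 := ded_10_2 (flp_a L22277) (flp_e L22009) L45835
theorem L45839 : sm gf N9428 = N5310 := ded_11_2 (flp_a L25784) (flp_f L22011) L45835
theorem L45855 : sm gf N4561 = N9432 := rfl
theorem L45861 : sm gb N9432 = N8977 := ded_16_1 (flp_f L43628) (flp_b L20879) L10609 L22023 L45855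
theorem L45868 : sm gd N4562 = N9434 := rfl
theorem L45870 : sm ga N9434 = N4565 := ded_9_1 (flp_d L22043) (flp_a L22031) L45868
theorem L45872 : sm gg N4562 = N9435 := rfl
theorem L45874 : sm ga N9435 = N4567 := ded_12_1 (flp_g L22049) (flp_a L22031) L45872
theorem L45909 : sm gg N4566 = N9445 := rfl
theorem L45913 : sm gf N9435 = N9445 := ded_29_0 (flp_g L45909) (flp_f L22045) L22049 (flp_a L45874)
theorem L45925 : sm gc N4569 = N9448 := rfl
theorem L45927 : sm ga N9448 = N5473 := ded_8_1 L26564 L22067 L45925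
theorem L45929 : sm gf N9448 = N5469 := ded_20_2 (flp_c L26542) L22069 L45925
theorem L45946 : sm gg N4571 = N9452 := rfl
theorem L45948 : sm ga N9452 = N4574 := ded_12_1 (flp_g L22087) L22079 L45946
theorem L45962 : sm gg N4573 = N9456 := rfl
theorem L45964 : sm gf N9452 = N9456 := ded_29_0 (flp_g L45962) (flp_f L22085) L22087 (flp_a L45948)
theorem L45966 : sm gb N4574 = N9457 := rfl
theorem L45968 : sm gg N9457 = N4577 := ded_17_2 (flp_b L22101) (flp_g L10633) L10627 L22087 L45966
theorem L45976 : sm gg N4575 = N9459 := rfl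
theorem L45982 : sm gf N9459 = N9004 := ded_29_2 (flp_g L43766) (flp_a L43745) L43747 L45976
theorem L45990 : sm gc N4577 = N9462 := rfl
theorem L45992 : sm gb N9462 = N4579 := ded_13_1 (flp_c L22111) (flp_b L10641) (flp_c L10637) L22101 L45990
theorem L45998 : sm gc N4578 = N9464 := rfl
theorem L46000 : sm ga N9464 = N4579 := ded_8_1 (flp_c L22111) L22103 L45998
theorem L46006 : sm ga N4580 = N9466 := rfl
theorem L46008 : sm gc N9466 = N5351 := ded_8_2 L26008 (flp_c L22115) L46006
theorem L46010 : sm ge N4580 = N9467 := rfl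
theorem L46012 : sm gb N9467 = N4581 := ded_15_1 (flp_e L22117) L22113 L46010
theorem L46014 : sm gc N9467 = N5353 := ded_19_1 (flp_e L26016) (flp_c L22115) L46010
theorem L46016 : sm gf N4580 = N9468 := rfl
theorem L46018 : sm gc N9468 = N5354 := ded_20_1 (flp_f L26020) (flp_c L22115) L46016
theorem L46074 : sm gc N4588 = N9482 := rfl
theorem L46076 : sm gb N9482 = N4589 := ded_13_1 (flp_c L22151) (flp_b L10667) (flp_c L10663) L22149 L46074
theorem L46078 : sm gg N4588 = N9483 := rfl
theorem L46080 : sm gb N9483 = N8999 := ded_17_1 (flp_g L43741) (flp_b L20938) (flp_g L10665) L22149 L46078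
theorem L46084 : sm gg N4589 = N9485 := rfl
theorem L46088 : sm gc N9485 = N4590 := ded_21_1 (flp_g L22153) L22151 L46084
theorem L46099 : sm gb N4591 = N9487 := rfl
theorem L46101 : sm gc N9487 = N5412 := ded_13_2 (flp_b L26281) (flp_c L12617) (flp_b L10675) L22161 L46099
theorem L46117 : sm gd N4593 = N9491 := rfl
theorem L46119 : sm gb N9491 = N4594 := ded_14_1 (flp_d L22177) L22173 L46117
theorem L46121 : sm gf N4593 = N9492 := rfl
theorem L46123 : sm gc N9492 = N4602 := ded_20_1 (flp_f L22219) (flp_c L22175) L46121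
theorem L46129 : sm gc N4594 = N9494 := rfl
theorem L46133 : sm gf N4594 = N9496 := rfl
theorem L46135 : sm gd N9496 = N4595 := ded_23_1 (flp_f L22179) L22177 L46133
theorem L46137 : sm gg N4594 = N9497 := rfl
theorem L46143 : sm gg N4595 = N9499 := rfl
theorem L46147 : sm gf N8834 = N9499 := ded_29_0 (flp_g L46143) (flp_f L22179) L22183 (flp_a L42856)
theorem L46159 : sm gc N4597 = N9502 := rfl
theorem L46163 : sm gf N9502 = N4608 := ded_20_2 (flp_c L22245) (flp_f L22191) L46159
theorem L46165 : sm gg N9502 = N5387 := ded_21_2 (flp_c L26173) L22195 L46159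
theorem L46171 : sm gd N4600 = N9504 := rfl
theorem L46173 : sm ga N9504 = N4601 := ded_9_1 (flp_d L22215) L22213 L46171
theorem L46179 : sm gg N4600 = N9506 := rfl
theorem L46181 : sm ga N9506 = N4603 := ded_12_1 (flp_g L22221) L22213 L46179
theorem L46205 : sm gg N4602 = N9512 := rfl
theorem L46207 : sm gf N9506 = N9512 := ded_29_0 (flp_g L46205) (flp_f L22219) L22221 (flp_a L46181)
theorem L46229 : sm gc N4606 = N9517 := rfl
theorem L46231 : sm gb N9517 = N4608 := ded_13_1 (flp_c L22245) (flp_b L10701) (flp_c L10697) L22235 L46229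
theorem L46233 : sm gg N4606 = N9518 := rfl
theorem L46235 : sm gb N9518 = N9036 := ded_17_1 (flp_g L43902) (flp_b L21041) L10699 L22235 L46233
theorem L46245 : sm ga N4609 = N9521 := rfl
theorem L46247 : sm gc N9521 = N5433 := ded_8_2 L26383 (flp_c L22249) L46245
theorem L46259 : sm gg N4609 = N9524 := rfl
theorem L46261 : sm gc N9524 = N5438 := ded_21_1 (flp_g L26401) (flp_c L22249) L46259
theorem L46279 : sm gg N4612 = N9529 := rfl
theorem L46285 : sm gf N9028 = N9529 := ded_29_0 (flp_g L46279) (flp_f L22259) (flp_g L21035) (flp_a L43864)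
theorem L46297 : sm gg N4613 = N9532 := rfl
theorem L46299 : sm gd N9532 = N4616 := ded_24_1 (flp_g L22281) (flp_d L22265) L46297
theorem L46331 : sm gc N4620 = N9541 := rfl
theorem L46333 : sm ga N9541 = N4621 := ded_8_1 (flp_c L22303) L22297 L46331
theorem L46335 : sm gf N4620 = N9542 := rfl
theorem L46337 : sm ga N9542 = N4622 := ded_11_1 (flp_f L22305) L22297 L46335
theorem L46339 : sm gd N9542 = N5494 := ded_23_1 (flp_f L26652) (flp_d L22299) L46335
theorem L46341 : sm gg N4620 = N9543 := rfl
theorem L46343 : sm ga N9543 = N4623 := ded_12_1 (flp_g L22309) L22297 L46341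
theorem L46345 : sm gd N9543 = N5495 := ded_24_1 (flp_g L26656) (flp_d L22299) L46341
theorem L46347 : sm gd N4621 = N9544 := rfl
theorem L46349 : sm gf N4621 = N9545 := rfl
theorem L46351 : sm gc N9545 = N4622 := ded_20_1 (flp_f L22305) L22303 L46349
theorem L46353 : sm gg N4621 = N9546 := rfl
theorem L46355 : sm gc N9546 = N4623 := ded_21_1 (flp_g L22309) L22303 L46353
theorem L46357 : sm gb N4622 = N9547 := rfl
theorem L46359 : sm gd N9547 = N5499 := ded_14_2 (flp_b L26671) (flp_d L22307) L46357
theorem L46361 : sm gf N9547 = N4624 := ded_16_2 (flp_b L22313) (flp_f L10737) L10733 L22305 L46357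
theorem L46363 : sm gg N4622 = N9548 := rfl
theorem L46365 : sm gd N9548 = N5500 := ded_24_1 (flp_g L26675) (flp_d L22307) L46363
theorem L46367 : sm gf N9543 = N9548 := ded_29_0 (flp_g L46363) (flp_f L22305) L22309 (flp_a L46343)
theorem L46369 : sm gb N4623 = N9549 := rfl
theorem L46371 : sm gd N9549 = N5501 := ded_14_2 (flp_b L26679) (flp_d L22311) L46369
theorem L46373 : sm gg N9549 = N4625 := ded_17_2 (flp_b L22317) (flp_g L10743) L10733 L22309 L46369
theorem L46375 : sm gf N4623 = N9550 := rfl
theorem L46377 : sm ga N9550 = N9548 := ded_11_1 (flp_f L46367) L46343 L46375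
theorem L46379 : sm gd N9550 = N5502 := ded_23_1 (flp_f L26683) (flp_d L22311) L46375
theorem L46381 : sm gg N9550 = N9542 := ded_29_3 L46337 (flp_f L22305) L22309 L46375
theorem L46383 : sm ga N4624 = N9551 := rfl
theorem L46385 : sm gd N9551 = N5503 := ded_9_2 (flp_a L26689) (flp_d L22315) L46383
theorem L46387 : sm gc N4624 = N9552 := rfl
theorem L46389 : sm gg N4624 = N9553 := rfl
theorem L46391 : sm gd N9553 = N5505 := ded_24_1 (flp_g L26694) (flp_d L22315) L46389
theorem L46393 : sm ga N4625 = N9554 := rfl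
theorem L46395 : sm gd N9554 = N5506 := ded_9_2 (flp_a L26696) (flp_d L22319) L46393
theorem L46397 : sm gc N4625 = N9555 := rfl
theorem L46399 : sm gf N4625 = N9556 := rfl
theorem L46401 : sm gd N9556 = N5508 := ded_23_1 (flp_f L26701) (flp_d L22319) L46399
theorem L46403 : sm gb N4626 = N9557 := rfl
theorem L46405 : sm gd N9557 = N5509 := ded_14_2 (flp_b L26703) (flp_d L22323) L46403
theorem L46407 : sm gc N4626 = N9558 := rfl
theorem L46409 : sm ga N9558 = N4627 := ded_8_1 (flp_c L22327) L22321 L46407
theorem L46411 : sm gf N9558 = N4635 := ded_20_2 (flp_c L22361) (flp_f L22325) L46407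
theorem L46413 : sm gd N4627 = N9559 := rfl
theorem L46415 : sm gf N9559 = N4637 := ded_23_2 (flp_d L22373) (flp_f L22329) L46413
theorem L46417 : sm gg N4627 = N9560 := rfl
theorem L46419 : sm gc N9560 = N4628 := ded_21_1 (flp_g L22331) L22327 L46417
theorem L46421 : sm gb N4628 = N9561 := rfl
theorem L46423 : sm gd N9561 = N5513 := ded_14_2 (flp_b L26720) (flp_d L22333) L46421
theorem L46425 : sm gg N9561 = N4629 := ded_17_2 (flp_b L22335) (flp_g L10755) L10749 L22331 L46421
theorem L46427 : sm ga N4629 = N9562 := rfl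
theorem L46429 : sm gd N9562 = N5514 := ded_9_2 (flp_a L26724) (flp_d L22337) L46427
theorem L46431 : sm gc N4629 = N9563 := rfl
theorem L46433 : sm gf N4629 = N9564 := rfl
theorem L46435 : sm gd N9564 = N5516 := ded_23_1 (flp_f L26729) (flp_d L22337) L46433
theorem L46437 : sm gb N9564 = N9556 := ded_16_1 (flp_f L46399) (flp_b L22317) L10759 L22335 L46433
theorem L46439 : sm gb N4630 = N9565 := rfl
theorem L46441 : sm gd N9565 = N5517 := ded_14_2 (flp_b L26733) (flp_d L22341) L46439
theorem L46443 : sm gc N4630 = N9566 := rfl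
theorem L46445 : sm ga N9566 = N4631 := ded_8_1 (flp_c L22345) L22339 L46443
theorem L46447 : sm gg N9566 = N4641 := ded_21_2 (flp_c L22393) (flp_g L22343) L46443
theorem L46449 : sm gd N4631 = N9567 := rfl
theorem L46451 : sm gg N9567 = N4643 := ded_24_2 (flp_d L22405) (flp_g L22347) L46449
theorem L46453 : sm gf N4631 = N9568 := rfl
theorem L46455 : sm gc N9568 = N4632 := ded_20_1 (flp_f L22349) L22345 L46453
theorem L46457 : sm gb N4632 = N9569 := rfl
theorem L46459 : sm gd N9569 = N5521 := ded_14_2 (flp_b L26750) (flp_d L22351) L46457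
theorem L46461 : sm gf N9569 = N4633 := ded_16_2 (flp_b L22353) (flp_f L10767) L10761 L22349 L46457
theorem L46463 : sm ga N4633 = N9570 := rfl
theorem L46465 : sm gd N9570 = N5522 := ded_9_2 (flp_a L26754) (flp_d L22355) L46463
theorem L46467 : sm gc N4633 = N9571 := rfl
theorem L46469 : sm gg N4633 = N9572 := rfl
theorem L46471 : sm gd N9572 = N5524 := ded_24_1 (flp_g L26759) (flp_d L22355) L46469
theorem L46473 : sm gb N9572 = N9553 := ded_17_1 (flp_g L46389) (flp_b L22313) (flp_g L10773) L22353 L46469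
theorem L46475 : sm ga N4634 = N9573 := rfl
theorem L46477 : sm gd N9573 = N5525 := ded_9_2 (flp_a L26763) (flp_d L22359) L46475
theorem L46479 : sm gb N9573 = N5525 := ded_7_2 (flp_a L26763) (flp_b L12854) (flp_a L6352) (flp_b L3281) (flp_a L2789) L5406 L10775 L22357 L46475
theorem L46481 : sm gc N4634 = N9574 := rfl
theorem L46483 : sm gf N4634 = N9575 := rfl
theorem L46485 : sm gd N9575 = N5527 := ded_23_1 (flp_f L26767) (flp_d L22359) L46483
theorem L46487 : sm gg N4634 = N9576 := rfl
theorem L46489 : sm gd N9576 = N5528 := ded_24_1 (flp_g L26769) (flp_d L22359) L46487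
theorem L46491 : sm gb N4635 = N9577 := rfl
theorem L46493 : sm gd N4635 = N9578 := rfl
theorem L46495 : sm ga N9578 = N4637 := ded_9_1 (flp_d L22373) (flp_a L22363) L46493
theorem L46497 : sm gg N4635 = N9579 := rfl
theorem L46499 : sm ga N9579 = N4638 := ded_12_1 (flp_g L22377) (flp_a L22363) L46497
theorem L46501 : sm gc N9579 = N4636 := ded_21_1 (flp_g L22365) L22361 L46497
theorem L46503 : sm gf N9579 = N9560 := ded_29_2 (flp_g L46417) (flp_a L46409) L46411 L46497
theorem L46505 : sm gb N4636 = N9580 := rfl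
theorem L46507 : sm gd N9580 = N5532 := ded_14_2 (flp_b L26785) (flp_d L22369) L46505
theorem L46509 : sm gc N4637 = N9581 := rfl
theorem L46511 : sm ge N4637 = N9582 := rfl
theorem L46513 : sm gb N9582 = N4655 := ded_15_1 (flp_e L22457) (flp_b L22375) L46511
theorem L46515 : sm gg N4637 = N9583 := rfl
theorem L46517 : sm gd N9583 = N4638 := ded_24_1 (flp_g L22377) L22373 L46515
theorem L46519 : sm gb N4638 = N9584 := rfl
theorem L46521 : sm gg N9584 = N4657 := ded_17_2 (flp_b L22463) (flp_g L10817) (flp_b L10781) L22377 L46519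
theorem L46523 : sm gf N4638 = N9585 := rfl
theorem L46525 : sm ga N9585 = N9560 := ded_11_1 (flp_f L46503) L46499 L46523
theorem L46527 : sm gc N9585 = N4639 := ded_20_1 (flp_f L22381) (flp_c L22379) L46523
theorem L46529 : sm gg N9585 = N9558 := ded_29_3 L46409 L22329 L22377 L46523
theorem L46531 : sm gb N4639 = N9586 := rfl
theorem L46533 : sm gd N9586 = N5541 := ded_14_2 (flp_b L26819) (flp_d L22385) L46531
theorem L46535 : sm ga N4640 = N9587 := rfl
theorem L46537 : sm gd N9587 = N5548 := ded_9_2 (flp_a L26847) (flp_d L22391) L46535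
theorem L46539 : sm gb N9587 = N5548 := ded_7_2 (flp_a L26847) (flp_b L12894) (flp_a L6362) (flp_b L3289) (flp_a L2797) L5410 L10787 L22389 L46535
theorem L46541 : sm gc N4640 = N9588 := rfl
theorem L46543 : sm gf N4640 = N9589 := rfl
theorem L46545 : sm gd N9589 = N5550 := ded_23_1 (flp_f L26851) (flp_d L22391) L46543
theorem L46547 : sm gg N4640 = N9590 := rfl
theorem L46549 : sm gd N9590 = N5551 := ded_24_1 (flp_g L26853) (flp_d L22391) L46547
theorem L46551 : sm gb N4641 = N9591 := rfl
theorem L46553 : sm gd N4641 = N9592 := rfl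
theorem L46555 : sm ga N9592 = N4643 := ded_9_1 (flp_d L22405) (flp_a L22395) L46553
theorem L46557 : sm gf N4641 = N9593 := rfl
theorem L46559 : sm ga N9593 = N4644 := ded_11_1 (flp_f L22409) (flp_a L22395) L46557
theorem L46561 : sm gc N9593 = N4642 := ded_20_1 (flp_f L22397) L22393 L46557
theorem L46563 : sm gg N9568 = N9593 := ded_29_1 (flp_f L46557) (flp_g L46447) L46445 L46453
theorem L46565 : sm gb N4642 = N9594 := rfl
theorem L46567 : sm gd N9594 = N5555 := ded_14_2 (flp_b L26869) (flp_d L22401) L46565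
theorem L46569 : sm gc N4643 = N9595 := rfl
theorem L46571 : sm ge N4643 = N9596 := rfl
theorem L46573 : sm gb N9596 = N4669 := ded_15_1 (flp_e L22513) (flp_b L22407) L46571
theorem L46575 : sm gf N4643 = N9597 := rfl
theorem L46577 : sm gd N9597 = N4644 := ded_23_1 (flp_f L22409) L22405 L46575
theorem L46579 : sm gb N4644 = N9598 := rfl
theorem L46581 : sm gf N9598 = N4671 := ded_16_2 (flp_b L22519) (flp_f L10847) (flp_b L10793) L22409 L46579
theorem L46583 : sm gg N4644 = N9599 := rfl
theorem L46585 : sm ga N9599 = N9568 := ded_12_1 L46563 L46559 L46583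
theorem L46587 : sm gc N9599 = N4645 := ded_21_1 (flp_g L22413) (flp_c L22411) L46583
theorem L46589 : sm gf N9566 = N9599 := ded_29_0 (flp_g L46583) (flp_f L22409) (flp_g L22347) (flp_a L46445)
theorem L46591 : sm gb N4645 = N9600 := rfl
theorem L46593 : sm gd N9600 = N5564 := ded_14_2 (flp_b L26907) (flp_d L22417) L46591
theorem L46599 : sm gg N4646 = N9602 := rfl
theorem L46601 : sm ga N9602 = N4649 := ded_12_1 (flp_g L22433) L22421 L46599
theorem L46605 : sm gb N4647 = N9603 := rfl
theorem L46607 : sm gc N9603 = N4650 := ded_13_2 (flp_b L22437) (flp_c L10803) L10799 L22427 L46605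
theorem L46611 : sm gf N4647 = N9605 := rfl
theorem L46613 : sm gc N9605 = N4648 := ded_20_1 (flp_f L22429) L22427 L46611
theorem L46619 : sm gg N4648 = N9607 := rfl
theorem L46623 : sm gf N9602 = N9607 := ded_29_0 (flp_g L46619) (flp_f L22429) L22433 (flp_a L46601)
theorem L46627 : sm gb N4649 = N9608 := rfl
theorem L46629 : sm gd N9608 = N4681 := ded_14_2 (flp_b L22577) (flp_d L22435) L46627
theorem L46633 : sm ga N5645 = N9608 := ded_9_3 L46629 (flp_a L22583) (flp_d L27267)
theorem L46635 : sm gf N5643 = N9608 := ded_23_0 L46629 (flp_f L22585) (flp_d L27259)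
theorem L46645 : sm ga N4650 = N9610 := rfl
theorem L46647 : sm gd N4650 = N9611 := rfl
theorem L46649 : sm gb N9611 = N4651 := ded_14_1 (flp_d L22439) L22437 L46647
theorem L46651 : sm gf N4650 = N9612 := rfl
theorem L46653 : sm gg N4650 = N9613 := rfl
theorem L46655 : sm ge N4651 = N9614 := rfl
theorem L46657 : sm ga N9614 = N4655 := ded_10_1 (flp_e L22457) (flp_a L22441) L46655
theorem L46659 : sm gg N4651 = N9615 := rfl
theorem L46661 : sm ga N9615 = N4656 := ded_12_1 (flp_g L22459) (flp_a L22441) L46659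
theorem L46663 : sm gd N9615 = N4652 := ded_24_1 (flp_g L22443) L22439 L46659
theorem L46665 : sm gf N9615 = N9120 := ded_29_2 (flp_g L44266) (flp_a L44254) L44256 L46659
theorem L46667 : sm gb N4652 = N9616 := rfl
theorem L46669 : sm ga N4653 = N9617 := rfl
theorem L46675 : sm gb N9617 = N8873 := ded_7_2 L43032 (flp_b L21253) L27293 (flp_b L27289) L13098 L6456 (flp_a L10809) L22451 L46669
theorem L46679 : sm gb N4654 = N9619 := rfl
theorem L46681 : sm ge N4654 = N9620 := rfl
theorem L46683 : sm gc N9620 = N4655 := ded_19_1 (flp_e L22457) L22455 L46681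
theorem L46685 : sm gg N4654 = N9621 := rfl
theorem L46687 : sm gc N9621 = N4656 := ded_21_1 (flp_g L22459) L22455 L46685
theorem L46689 : sm gg N4655 = N9622 := rfl
theorem L46691 : sm ge N9622 = N4656 := ded_26_1 (flp_g L22459) L22457 L46689
theorem L46693 : sm gb N4656 = N9623 := rfl
theorem L46695 : sm gd N9623 = N4657 := ded_14_2 (flp_b L22463) (flp_d L22461) L46693
theorem L46697 : sm gf N4656 = N9624 := rfl
theorem L46699 : sm ga N9624 = N9120 := ded_11_1 (flp_f L46665) L46661 L46697
theorem L46701 : sm gd N9624 = N4658 := ded_23_1 (flp_f L22465) (flp_d L22461) L46697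
theorem L46703 : sm gg N9624 = N9117 := ded_29_3 L44254 L21231 L22459 L46697
theorem L46705 : sm ga N4657 = N9625 := rfl
theorem L46707 : sm gf N4657 = N9626 := rfl
theorem L46713 : sm gg N4659 = N9629 := rfl
theorem L46715 : sm ga N9629 = N5613 := ded_12_1 L27129 (flp_a L22533) L46713
theorem L46719 : sm gb N9629 = N9115 := ded_17_1 (flp_g L44245) (flp_b L21219) (flp_g L10827) L22473 L46713
theorem L46721 : sm gc N4660 = N9630 := rfl
theorem L46723 : sm ga N9630 = N4661 := ded_8_1 (flp_c L22483) L22477 L46721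
theorem L46733 : sm gb N4661 = N9632 := rfl
theorem L46735 : sm gc N9632 = N4664 := ded_13_2 (flp_b L22493) (flp_c L10833) L10829 L22483 L46733
theorem L46743 : sm gg N4661 = N9635 := rfl
theorem L46747 : sm gb N4662 = N9636 := rfl
theorem L46749 : sm gd N9636 = N4710 := ded_14_2 (flp_b L22744) (flp_d L22487) L46747
theorem L46755 : sm gg N5600 = N9636 := ded_24_0 L46749 (flp_g L22752) (flp_d L27069)
theorem L46773 : sm ga N4664 = N9639 := rfl
theorem L46775 : sm gd N4664 = N9640 := rfl
theorem L46777 : sm gb N9640 = N4665 := ded_14_1 (flp_d L22495) L22493 L46775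
theorem L46779 : sm gf N4664 = N9641 := rfl
theorem L46781 : sm gg N4664 = N9642 := rfl
theorem L46783 : sm ge N4665 = N9643 := rfl
theorem L46785 : sm ga N9643 = N4669 := ded_10_1 (flp_e L22513) (flp_a L22497) L46783
theorem L46787 : sm gf N4665 = N9644 := rfl
theorem L46789 : sm ga N9644 = N4670 := ded_11_1 (flp_f L22515) (flp_a L22497) L46787
theorem L46791 : sm gd N9644 = N4666 := ded_23_1 (flp_f L22499) L22495 L46787
theorem L46793 : sm gg N9137 = N9644 := ded_29_1 (flp_f L46787) (flp_g L44335) L44333 L44345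
theorem L46795 : sm gb N4666 = N9645 := rfl
theorem L46797 : sm ga N4667 = N9646 := rfl
theorem L46799 : sm gd N9646 = N4721 := ded_9_2 (flp_a L22810) (flp_d L22509) L46797
theorem L46803 : sm gb N9646 = N8867 := ded_7_2 L42996 (flp_b L21289) L27101 (flp_b L27097) L13009 L6414 (flp_a L10839) L22507 L46797
theorem L46807 : sm gb N4668 = N9648 := rfl
theorem L46809 : sm ge N4668 = N9649 := rfl
theorem L46811 : sm gc N9649 = N4669 := ded_19_1 (flp_e L22513) L22511 L46809
theorem L46813 : sm gf N4668 = N9650 := rfl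
theorem L46815 : sm gc N9650 = N4670 := ded_20_1 (flp_f L22515) L22511 L46813
theorem L46817 : sm gf N4669 = N9651 := rfl
theorem L46819 : sm ge N9651 = N4670 := ded_25_1 (flp_f L22515) L22513 L46817
theorem L46821 : sm gb N4670 = N9652 := rfl
theorem L46823 : sm gd N9652 = N4671 := ded_14_2 (flp_b L22519) (flp_d L22517) L46821
theorem L46825 : sm gg N4670 = N9653 := rfl
theorem L46827 : sm ga N9653 = N9137 := ded_12_1 L46793 L46789 L46825
theorem L46833 : sm ga N4671 = N9654 := rfl
theorem L46835 : sm gg N4671 = N9655 := rfl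
theorem L46843 : sm gf N4673 = N9658 := rfl
theorem L46847 : sm gd N9658 = N4734 := ded_23_1 (flp_f L22880) (flp_d L22531) L46843
theorem L46881 : sm gg N4676 = N9664 := rfl
theorem L46883 : sm gc N9664 = N4685 := ded_21_1 (flp_g L22605) (flp_c L22551) L46881
theorem L46885 : sm ge N9664 = N4740 := ded_26_1 (flp_g L22912) (flp_e L22549) L46881
theorem L46902 : sm gg N4678 = N9669 := rfl
theorem L46906 : sm ge N9669 = N4745 := ded_26_1 (flp_g L22929) (flp_e L22560) L46902
theorem L46910 : sm gb N4679 = N9670 := rfl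
theorem L46912 : sm ge N9670 = N4746 := ded_15_2 (flp_b L22935) (flp_e L22567) L46910
theorem L46924 : sm gc N4681 = N9672 := rfl
theorem L46926 : sm ga N9672 = N5747 := ded_8_1 L27876 L22583 L46924
theorem L46930 : sm gf N9672 = N5743 := ded_20_2 (flp_c L27850) L22585 L46924
theorem L46934 : sm gb N4683 = N9673 := rfl
theorem L46936 : sm ge N9673 = N4749 := ded_15_2 (flp_b L22953) (flp_e L22597) L46934
theorem L46940 : sm gd N4683 = N9674 := rfl
theorem L46942 : sm ga N9674 = N4684 := ded_9_1 (flp_d L22600) L22595 L46940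
theorem L46945 : sm gg N4683 = N9675 := rfl
theorem L46947 : sm ga N9675 = N4685 := ded_12_1 (flp_g L22605) L22595 L46945
theorem L46949 : sm ge N9675 = N4751 := ded_26_1 (flp_g L22962) (flp_e L22597) L46945
theorem L46951 : sm gf N4685 = N9675 := ded_29_0 (flp_g L46945) L22599 L46945 L46947
theorem L46953 : sm gc N4684 = N9676 := rfl
theorem L46955 : sm gf N9676 = N9676 := ded_20_2 (flp_c L46953) L22604 L46953
theorem L46956 : sm ge N4684 = N9677 := rfl
theorem L46958 : sm gb N9677 = N4687 := ded_15_1 (flp_e L22615) (flp_b L22602) L46956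
theorem L46961 : sm gd N9677 = N4753 := ded_22_1 (flp_e L22971) (flp_d L11051) (flp_e L10879) L22600 L46956
theorem L46963 : sm gg N4684 = N9678 := rfl
theorem L46967 : sm gb N4685 = N9679 := rfl
theorem L46971 : sm gg N9679 = N4689 := ded_17_2 (flp_b L22629) (flp_g L10886) L10877 L22605 L46967
theorem L46973 : sm gb N4686 = N9680 := rfl
theorem L46975 : sm gd N9680 = N9619 := ded_14_2 (flp_b L46679) L22613 L46973
theorem L46977 : sm ge N4686 = N9681 := rfl
theorem L46979 : sm ga N9681 = N4694 := ded_10_1 (flp_e L22655) (flp_a L22611) L46977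
theorem L46981 : sm gc N9681 = N4687 := ded_19_1 (flp_e L22615) L22609 L46977
theorem L46983 : sm gg N4686 = N9682 := rfl
theorem L46985 : sm ga N9682 = N4695 := ded_12_1 (flp_g L22659) (flp_a L22611) L46983
theorem L46987 : sm gc N9682 = N4688 := ded_21_1 (flp_g L22621) L22609 L46983
theorem L46989 : sm gd N9682 = N9621 := ded_24_1 (flp_g L46685) L22613 L46983
theorem L46991 : sm gf N9682 = N9152 := ded_29_2 (flp_g L44428) (flp_a L44397) L44399 L46983
theorem L46993 : sm gg N4687 = N9683 := rfl
theorem L46995 : sm ga N9683 = N4696 := ded_12_1 (flp_g L22663) (flp_a L22617) L46993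
theorem L46997 : sm gd N9683 = N4759 := ded_24_1 (flp_g L23004) (flp_d L22619) L46993
theorem L46999 : sm ge N9683 = N4688 := ded_26_1 (flp_g L22621) L22615 L46993
theorem L47001 : sm gf N9683 = N9153 := ded_29_2 (flp_g L44432) (flp_a L44405) L44408 L46993
theorem L47003 : sm gb N4688 = N9684 := rfl
theorem L47005 : sm gd N9684 = N4689 := ded_14_2 (flp_b L22629) (flp_d L22625) L47003
theorem L47007 : sm ga N4689 = N9685 := rfl
theorem L47009 : sm ge N9685 = N4761 := ded_10_2 (flp_a L23016) (flp_e L22631) L47007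
theorem L47011 : sm gc N4689 = N9686 := rfl
theorem L47013 : sm ge N9686 = N4762 := ded_19_2 (flp_c L23018) (flp_e L22631) L47011
theorem L47017 : sm gf N4689 = N9687 := rfl
theorem L47019 : sm ge N9687 = N4763 := ded_25_1 (flp_f L23022) (flp_e L22631) L47017
theorem L47021 : sm gb N9687 = N9157 := ded_16_1 (flp_f L44452) (flp_b L21327) (flp_f L10894) L22629 L47017
theorem L47023 : sm gc N4690 = N9688 := rfl
theorem L47025 : sm ga N9688 = N4691 := ded_8_1 (flp_c L22641) L22633 L47023
theorem L47027 : sm ge N9688 = N4764 := ded_19_2 (flp_c L23026) (flp_e L22635) L47023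
theorem L47033 : sm ga N4692 = N9690 := rfl
theorem L47035 : sm gc N9690 = N4863 := ded_8_2 (flp_a L23503) (flp_c L22647) L47033
theorem L47037 : sm gd N4692 = N9691 := rfl
theorem L47039 : sm gb N9691 = N4693 := ded_14_1 (flp_d L22649) L22645 L47037
theorem L47041 : sm ge N4692 = N9692 := rfl
theorem L47043 : sm gb N9692 = N4694 := ded_15_1 (flp_e L22655) L22645 L47041
theorem L47045 : sm gc N9692 = N4864 := ded_19_1 (flp_e L23505) (flp_c L22647) L47041
theorem L47047 : sm gf N4692 = N9693 := rfl
theorem L47049 : sm gc N9693 = N4865 := ded_20_1 (flp_f L23509) (flp_c L22647) L47047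
theorem L47051 : sm gg N4692 = N9694 := rfl
theorem L47053 : sm gc N9694 = N4866 := ded_21_1 (flp_g L23511) (flp_c L22647) L47051
theorem L47055 : sm ge N4693 = N9695 := rfl
theorem L47057 : sm ga N9695 = N9620 := ded_10_1 (flp_e L46681) (flp_a L22651) L47055
theorem L47059 : sm gc N9695 = N9614 := ded_19_1 (flp_e L46655) L22653 L47055
theorem L47061 : sm gg N4693 = N9696 := rfl
theorem L47063 : sm ga N9696 = N9621 := ded_12_1 (flp_g L46685) (flp_a L22651) L47061
theorem L47065 : sm gc N9696 = N9615 := ded_21_1 (flp_g L46659) L22653 L47061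
theorem L47067 : sm gd N9696 = N4695 := ded_24_1 (flp_g L22659) L22649 L47061
theorem L47069 : sm gd N4694 = N9697 := rfl
theorem L47071 : sm gg N4694 = N9698 := rfl
theorem L47073 : sm gc N9698 = N4696 := ded_21_1 (flp_g L22663) (flp_c L22657) L47071
theorem L47075 : sm ge N9698 = N4695 := ded_26_1 (flp_g L22659) L22655 L47071
theorem L47077 : sm gb N4695 = N9699 := rfl
theorem L47079 : sm gf N4695 = N9700 := rfl
theorem L47081 : sm ga N9700 = N9152 := ded_11_1 (flp_f L46991) L46985 L47079
theorem L47083 : sm gc N9700 = N4698 := ded_20_1 (flp_f L22675) (flp_c L22661) L47079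
theorem L47087 : sm gb N4696 = N9701 := rfl
theorem L47089 : sm gd N9701 = N4772 := ded_14_2 (flp_b L23066) (flp_d L22665) L47087
theorem L47091 : sm ge N9701 = N4697 := ded_15_2 (flp_b L22669) (flp_e L22667) L47087
theorem L47093 : sm gg N9701 = N4871 := ded_17_2 (flp_b L23533) (flp_g L11336) (flp_b L10904) L22663 L47087
theorem L47095 : sm gf N4696 = N9702 := rfl
theorem L47099 : sm gd N9702 = N4773 := ded_23_1 (flp_f L23072) (flp_d L22665) L47095
theorem L47105 : sm ga N4697 = N9703 := rfl
theorem L47107 : sm gd N9703 = N4699 := ded_9_2 (flp_a L22683) (flp_d L22671) L47105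
theorem L47109 : sm gg N9703 = N4873 := ded_12_2 (flp_a L23549) (flp_g L22673) L47105
theorem L47111 : sm gc N4697 = N9704 := rfl
theorem L47113 : sm gg N9704 = N4874 := ded_21_2 (flp_c L23553) (flp_g L22673) L47111
theorem L47115 : sm gf N4697 = N9705 := rfl
theorem L47117 : sm gd N9705 = N4700 := ded_23_1 (flp_f L22689) (flp_d L22671) L47115
theorem L47124 : sm gb N4700 = N9707 := rfl
theorem L47128 : sm gf N9707 = N4701 := ded_16_2 (flp_b L22693) (flp_f L10918) L10912 L22689 L47124
theorem L47135 : sm gc N4701 = N9709 := rfl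
theorem L47137 : sm ge N9709 = N4780 := ded_19_2 (flp_c L23106) (flp_e L22695) L47135
theorem L47144 : sm gg N4702 = N9711 := rfl
theorem L47146 : sm ga N9711 = N5713 := ded_12_1 L27664 L22876 L47144
theorem L47150 : sm ge N9711 = N4782 := ded_26_1 (flp_g L23113) (flp_e L22700) L47144
theorem L47168 : sm gd N4704 = N9714 := rfl
theorem L47170 : sm ga N9714 = N4707 := ded_9_1 (flp_d L22730) (flp_a L22712) L47168
theorem L47180 : sm ga N4706 = N9716 := rfl
theorem L47186 : sm gd N4706 = N9717 := rfl
theorem L47188 : sm gb N9717 = N4707 := ded_14_1 (flp_d L22730) L22724 L47186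
theorem L47190 : sm gf N4706 = N9718 := rfl
theorem L47194 : sm ge N9718 = N4789 := ded_25_1 (flp_f L23149) (flp_e L22726) L47190
theorem L47196 : sm gg N4706 = N9719 := rfl
theorem L47198 : sm gc N9719 = N4716 := ded_21_1 (flp_g L22782) (flp_c L22728) L47196
theorem L47200 : sm ge N9719 = N4790 := ded_26_1 (flp_g L23153) (flp_e L22726) L47196
theorem L47202 : sm gc N4707 = N9720 := rfl
theorem L47204 : sm ge N4707 = N9721 := rfl
theorem L47206 : sm gd N9721 = N4792 := ded_22_1 (flp_e L23159) (flp_d L11164) (flp_e L10940) L22730 L47204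
theorem L47212 : sm gg N4707 = N9723 := rfl
theorem L47242 : sm gc N4710 = N9728 := rfl
theorem L47248 : sm gf N9728 = N4722 := ded_20_2 (flp_c L22818) (flp_f L22748) L47242
theorem L47250 : sm gg N9728 = N5688 := ded_21_2 (flp_c L27516) L22752 L47242
theorem L47252 : sm gb N4713 = N9729 := rfl
theorem L47256 : sm ga N9729 = N4889 := ded_7_1 (flp_b L23647) (flp_a L11380) (flp_b L5655) L2936 (flp_b L2833) (flp_a L5476) L10950 L22770 L47252
theorem L47258 : sm gd N4713 = N9730 := rfl
theorem L47260 : sm ga N9730 = N4714 := ded_9_1 (flp_d L22774) L22770 L47258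
theorem L47274 : sm gc N4714 = N9733 := rfl
theorem L47276 : sm ge N4714 = N9734 := rfl
theorem L47280 : sm gd N9734 = N4805 := ded_22_1 (flp_e L23213) (flp_d L11196) (flp_e L10952) L22774 L47276
theorem L47282 : sm gf N4714 = N9735 := rfl
theorem L47284 : sm gd N9735 = N4715 := ded_23_1 (flp_f L22778) L22774 L47282
theorem L47286 : sm gg N4714 = N9736 := rfl
theorem L47288 : sm gd N9736 = N4716 := ded_24_1 (flp_g L22782) L22774 L47286
theorem L47290 : sm gb N4715 = N9737 := rfl
theorem L47292 : sm ge N9737 = N4808 := ded_15_2 (flp_b L23225) (flp_e L22780) L47290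
theorem L47302 : sm gf N4716 = N9739 := rfl
theorem L47306 : sm ge N9739 = N4810 := ded_25_1 (flp_f L23233) (flp_e L22784) L47302
theorem L47310 : sm gb N4717 = N9740 := rfl
theorem L47312 : sm gd N9740 = N9648 := ded_14_2 (flp_b L46807) L22790 L47310
theorem L47314 : sm ge N4717 = N9741 := rfl
theorem L47316 : sm ga N9741 = N4725 := ded_10_1 (flp_e L22832) (flp_a L22788) L47314
theorem L47318 : sm gc N9741 = N4718 := ded_19_1 (flp_e L22792) L22786 L47314
theorem L47320 : sm gf N4717 = N9742 := rfl
theorem L47322 : sm ga N9742 = N4726 := ded_11_1 (flp_f L22836) (flp_a L22788) L47320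
theorem L47324 : sm gc N9742 = N4719 := ded_20_1 (flp_f L22798) L22786 L47320
theorem L47326 : sm gd N9742 = N9650 := ded_23_1 (flp_f L46813) L22790 L47320
theorem L47328 : sm gg N9182 = N9742 := ded_29_1 (flp_f L47320) (flp_g L44561) L44559 L44589
theorem L47330 : sm gf N4718 = N9743 := rfl
theorem L47332 : sm ga N9743 = N4727 := ded_11_1 (flp_f L22840) (flp_a L22794) L47330
theorem L47334 : sm gd N9743 = N4814 := ded_23_1 (flp_f L23259) (flp_d L22796) L47330
theorem L47336 : sm ge N9743 = N4719 := ded_25_1 (flp_f L22798) L22792 L47330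
theorem L47338 : sm gg N9183 = N9743 := ded_29_1 (flp_f L47330) (flp_g L44569) L44567 L44593
theorem L47340 : sm gb N4719 = N9744 := rfl
theorem L47342 : sm gd N9744 = N4720 := ded_14_2 (flp_b L22806) (flp_d L22802) L47340
theorem L47344 : sm ga N4720 = N9745 := rfl
theorem L47346 : sm ge N9745 = N4816 := ded_10_2 (flp_a L23271) (flp_e L22808) L47344
theorem L47348 : sm gc N4720 = N9746 := rfl
theorem L47350 : sm ge N9746 = N4817 := ded_19_2 (flp_c L23273) (flp_e L22808) L47348
theorem L47352 : sm gb N9746 = N4722 := ded_13_1 (flp_c L22818) (flp_b L10968) (flp_c L10962) L22806 L47348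
theorem L47372 : sm ga N4723 = N9750 := rfl
theorem L47374 : sm gc N9750 = N4901 := ded_8_2 (flp_a L23707) (flp_c L22824) L47372
theorem L47376 : sm gd N4723 = N9751 := rfl
theorem L47378 : sm gb N9751 = N4724 := ded_14_1 (flp_d L22826) L22822 L47376
theorem L47380 : sm ge N4723 = N9752 := rfl
theorem L47382 : sm gb N9752 = N4725 := ded_15_1 (flp_e L22832) L22822 L47380
theorem L47384 : sm gc N9752 = N4902 := ded_19_1 (flp_e L23709) (flp_c L22824) L47380
theorem L47386 : sm gf N4723 = N9753 := rfl
theorem L47388 : sm gc N9753 = N4903 := ded_20_1 (flp_f L23713) (flp_c L22824) L47386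
theorem L47390 : sm gg N4723 = N9754 := rfl
theorem L47392 : sm gc N9754 = N4904 := ded_21_1 (flp_g L23715) (flp_c L22824) L47390
theorem L47394 : sm ge N4724 = N9755 := rfl
theorem L47396 : sm ga N9755 = N9649 := ded_10_1 (flp_e L46809) (flp_a L22828) L47394
theorem L47398 : sm gc N9755 = N9643 := ded_19_1 (flp_e L46783) L22830 L47394
theorem L47400 : sm gf N4724 = N9756 := rfl
theorem L47402 : sm ga N9756 = N9650 := ded_11_1 (flp_f L46813) (flp_a L22828) L47400
theorem L47404 : sm gc N9756 = N9644 := ded_20_1 (flp_f L46787) L22830 L47400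
theorem L47406 : sm gd N9756 = N4726 := ded_23_1 (flp_f L22836) L22826 L47400
theorem L47408 : sm gd N4725 = N9757 := rfl
theorem L47410 : sm gf N4725 = N9758 := rfl
theorem L47412 : sm gc N9758 = N4727 := ded_20_1 (flp_f L22840) (flp_c L22834) L47410
theorem L47414 : sm ge N9758 = N4726 := ded_25_1 (flp_f L22836) L22832 L47410
theorem L47416 : sm gb N4726 = N9759 := rfl
theorem L47418 : sm gg N4726 = N9760 := rfl
theorem L47420 : sm ga N9760 = N9182 := ded_12_1 L47328 L47322 L47418
theorem L47422 : sm gc N9760 = N4729 := ded_21_1 (flp_g L22852) (flp_c L22838) L47418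
theorem L47426 : sm gb N4727 = N9761 := rfl
theorem L47428 : sm gd N9761 = N4832 := ded_14_2 (flp_b L23345) (flp_d L22842) L47426
theorem L47430 : sm ge N9761 = N4728 := ded_15_2 (flp_b L22846) (flp_e L22844) L47426
theorem L47432 : sm gf N9761 = N4909 := ded_16_2 (flp_b L23737) (flp_f L11418) (flp_b L10976) L22840 L47426
theorem L47434 : sm gg N4727 = N9762 := rfl
theorem L47438 : sm gd N9762 = N4833 := ded_24_1 (flp_g L23351) (flp_d L22842) L47434
theorem L47444 : sm ga N4728 = N9763 := rfl
theorem L47446 : sm gd N9763 = N4730 := ded_9_2 (flp_a L22860) (flp_d L22848) L47444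
theorem L47448 : sm gf N9763 = N4911 := ded_11_2 (flp_a L23753) (flp_f L22850) L47444
theorem L47450 : sm gc N4728 = N9764 := rfl
theorem L47452 : sm gf N9764 = N4912 := ded_20_2 (flp_c L23757) (flp_f L22850) L47450
theorem L47458 : sm gb N4729 = N9766 := rfl
theorem L47460 : sm gd N9766 = N4732 := ded_14_2 (flp_b L22870) (flp_d L22856) L47458
theorem L47466 : sm gb N4731 = N9768 := rfl
theorem L47470 : sm gg N9768 = N4732 := ded_17_2 (flp_b L22870) (flp_g L10990) L10984 L22866 L47466
theorem L47476 : sm gc N4732 = N9770 := rfl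
theorem L47478 : sm ge N9770 = N4841 := ded_19_2 (flp_c L23385) (flp_e L22872) L47476
theorem L47480 : sm gb N9770 = N4733 := ded_13_1 (flp_c L22874) (flp_b L11000) (flp_c L10994) L22870 L47476
theorem L47557 : sm gb N4740 = N9787 := rfl
theorem L47559 : sm gg N9787 = N4746 := ded_17_2 (flp_b L22935) (flp_g L11026) L11014 L22912 L47557
theorem L47563 : sm gd N4741 = N9789 := rfl
theorem L47567 : sm gc N9434 = N9789 := ded_28_0 (flp_d L47563) (flp_c L22916) (flp_d L11019) (flp_c L5510) (flp_d L5332) L10617 L22043 (flp_a L45870)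
theorem L47600 : sm gf N4744 = N9797 := rfl
theorem L47606 : sm gg N9797 = N8893 := ded_29_3 L43154 (flp_f L22920) L22925 L47600
theorem L47613 : sm ga N4746 = N9799 := rfl
theorem L47615 : sm gc N4746 = N9800 := rfl
theorem L47619 : sm gf N9799 = N9800 := ded_30_0 (flp_c L47615) (flp_b L22935) (flp_a L22898) L22933 L22931 (flp_b L11088) L6729 (flp_f L3457) L3454 L3456 (flp_a L6725) L13742 L13746 L11088 (flp_a L11044) (flp_f L11042) (flp_c L11028) L22935 L47613
theorem L47621 : sm gf N4746 = N9801 := rfl
theorem L47623 : sm ga N9801 = N9800 := ded_11_1 (flp_f L47619) (flp_a L47613) L47621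
theorem L47629 : sm gd N4748 = N9803 := rfl
theorem L47633 : sm gf N9803 = N5927 := ded_23_2 (flp_d L28727) (flp_f L22949) L47629
theorem L47647 : sm gf N4749 = N9806 := rfl
theorem L47649 : sm ga N9806 = N4933 := ded_11_1 (flp_f L23912) (flp_a L22955) L47647
theorem L47661 : sm ge N4750 = N9809 := rfl
theorem L47663 : sm ga N9809 = N4753 := ded_10_1 (flp_e L22971) (flp_a L22959) L47661
theorem L47666 : sm gg N4750 = N9810 := rfl
theorem L47670 : sm gd N9810 = N4751 := ded_24_1 (flp_g L22962) L22957 L47666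
theorem L47676 : sm gb N4752 = N9812 := rfl
theorem L47678 : sm gc N9812 = N4756 := ded_13_2 (flp_b L22984) (flp_c L11058) (flp_b L11053) L22968 L47676
theorem L47680 : sm gd N9468 = N9812 := ded_28_5 L47678 L22986 L46006 L46008 (flp_d L26006) (flp_c L12483) (flp_d L26024) (flp_c L46018)
theorem L47682 : sm gf N9812 = N4756 := ded_23_2 L22986 L46016 L47680
theorem L47684 : N9199 = N4752 := coi_16_4 L22970 L47676 L47682 (flp_b L22984) (flp_f L21478) L44679
theorem L47685 : N9199 = N4752 := eqc rfl L47684 rfl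
theorem L47692 : sm gc N4752 = N4752 := trfs L47685 L44683 L47685
theorem L47693 : N4752 = N2286 := eqes L47692 (flp_c L22968)
theorem L47694 : N4752 = N2286 := eqc rfl L47693 rfl
theorem L47695 : N9199 = N2286 := L47685.trans L47694
theorem L47696 : sm gd N2286 = N9001 := trfs L47695 L44681 rfl
theorem L47697 : N9001 = N1114 := eqes L47696 (flp_d L11051)
theorem L47698 : N9001 = N1114 := eqc rfl L47697 rfl
theorem L47699 : sm ga N1114 = N1114 := trfs L47698 L44684 L47698
theorem L47700 : N1114 = N2285 := eqes L47699 L11048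
theorem L47701 : N2285 = N1114 := (eqc rfl L47700 rfl).symm
theorem L47705 : sm gc N1114 = N1114 := trfs L47698 L43751 L47698
theorem L47706 : N1114 = N2278 := eqes L47705 (flp_c L11016)
theorem L47707 : N2278 = N1114 := (eqc rfl L47706 rfl).symm
theorem L47714 : sm gc N1114 = N1114 := trfs L47707 L11016 rfl
theorem L47718 : sm ge N1114 = N4676 := trfs L47707 (flp_e L22549) rfl
theorem L47719 : N4676 = N2252 := eqes L47718 (flp_e L10879)
theorem L47720 : N4676 = N2252 := eqc rfl L47719 rfl
theorem L47722 : sm gg N1114 = N4740 := trfs L47707 L22912 rfl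
theorem L47723 : N4740 = N2287 := eqes L47722 L11056
theorem L47724 : N4740 = N2287 := eqc rfl L47723 rfl
theorem L47728 : sm gb N2287 = N9787 := trfs L47724 L47557 rfl
theorem L47729 : N9787 = N4755 := eqes L47728 L22980
theorem L47730 : N9787 = N4755 := eqc rfl L47729 rfl
theorem L47735 : sm ge N2287 = N9664 := trfs L47724 (flp_e L46885) rfl
theorem L47736 : N9664 = N4685 := eqes L47735 (flp_e L22607)
theorem L47737 : N9664 = N4685 := eqc rfl L47736 rfl
theorem L47739 : sm gc N4685 = N4685 := trfs L47737 L46883 rfl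
theorem L47742 : sm gg N4755 = N4746 := trfs L47730 L47559 rfl
theorem L47743 : N4746 = N2291 := eqes L47742 L22982
theorem L47744 : N4746 = N2291 := eqc rfl L47743 rfl
theorem L47745 : sm ga N2291 = N9799 := trfs L47744 L47613 rfl
theorem L47746 : N9799 = N4761 := eqes L47745 L23016
theorem L47747 : N9799 = N4761 := eqc rfl L47746 rfl
theorem L47751 : sm gc N2291 = N9800 := trfs L47744 L47615 rfl
theorem L47752 : N9800 = N4762 := eqes L47751 L23018
theorem L47753 : N9800 = N4762 := eqc rfl L47752 rfl
theorem L47757 : sm ge N2291 = N9670 := trfs L47744 (flp_e L46912) rfl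
theorem L47758 : N9670 = N4689 := eqes L47757 (flp_e L22631)
theorem L47759 : N9670 = N4689 := eqc rfl L47758 rfl
theorem L47760 : sm gf N2291 = N9801 := trfs L47744 L47621 rfl
theorem L47761 : N9801 = N4763 := eqes L47760 L23022
theorem L47762 : N9801 = N4763 := eqc rfl L47761 rfl
theorem L47763 : sm ga N4763 = N4762 := trfs L47762 L47623 L47753
theorem L47767 : sm gb N4689 = N4679 := trfs L47759 (flp_b L46910) rfl
theorem L47768 : N4679 = N2254 := eqes L47767 (flp_b L22629)
theorem L47769 : N4679 = N2254 := eqc rfl L47768 rfl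
theorem L47783 : sm gg N2254 = N2249 := trfs L47769 (flp_g L22563) rfl
theorem L47784 : N2249 = N1099 := eqes L47783 (flp_g L10886)
theorem L47785 : N2249 = N1099 := eqc rfl L47784 rfl
theorem L47790 : sm gc N1099 = N1098 := trfs L47785 (flp_c L10865) rfl
theorem L47791 : N1098 = N552 := eqes L47790 (flp_c L5438)
theorem L47792 : N1098 = N552 := eqc rfl L47791 rfl
theorem L47797 : sm gf N1099 = N4678 := trfs L47785 L22556 rfl
theorem L47798 : N4678 = N2121 := eqes L47797 (flp_f L10234)
theorem L47799 : N4678 = N2121 := eqc rfl L47798 rfl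
theorem L47813 : sm gg N2121 = N9669 := trfs L47799 L46902 rfl
theorem L47814 : N9669 = N2260 := eqes L47813 (flp_g L10926)
theorem L47815 : N9669 = N2260 := eqc rfl L47814 rfl
theorem L47820 : sm ge N2260 = N4745 := trfs L47815 L46906 rfl
theorem L47821 : N4745 = N1122 := eqes L47820 L10924
theorem L47822 : N4745 = N1122 := eqc rfl L47821 rfl
theorem L47836 : sm gf N1122 = N4737 := trfs L47822 (flp_f L22933) rfl
theorem L47837 : N4737 = N562 := eqes L47836 (flp_f L5547)
theorem L47838 : N4737 = N562 := eqc rfl L47837 rfl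
theorem L47851 : sm gg N562 = N2276 := trfs L47838 (flp_g L22896) rfl
theorem L47852 : N2276 = N283 := eqes L47851 (flp_g L2855)
theorem L47853 : N2276 = N283 := eqc rfl L47852 rfl
theorem L47865 : sm gf N283 = N4288 := trfs L47853 (flp_f L20653) rfl
theorem L47866 : N4288 = N529 := eqes L47865 (flp_f L2711)
theorem L47867 : N4288 = N529 := eqc rfl L47866 rfl
theorem L47875 : sm gd N529 = N8893 := trfs L47867 L43152 rfl
theorem L47876 : N8893 = N1049 := eqes L47875 L5215
theorem L47877 : N8893 = N1049 := eqc rfl L47876 rfl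
theorem L47884 : sm gg N1049 = N9797 := trfs L47877 (flp_g L47606) rfl
theorem L47885 : N9797 = N2141 := eqes L47884 L10341
theorem L47886 : N9797 = N2141 := eqc rfl L47885 rfl
theorem L47889 : sm gf N2141 = N4744 := trfs L47886 (flp_f L47600) rfl
theorem L47890 : N4744 = N2290 := eqes L47889 (flp_f L11074)
theorem L47891 : N4744 = N2290 := eqc rfl L47890 rfl
theorem L47901 : sm gg N2290 = N2279 := trfs L47891 (flp_g L22925) rfl
theorem L47902 : N2279 = N1115 := eqes L47901 (flp_g L11068)
theorem L47903 : N2279 = N1115 := eqc rfl L47902 rfl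
theorem L47906 : sm gc N1115 = N4741 := trfs L47903 L22916 rfl
theorem L47907 : N4741 = N2288 := eqes L47906 L11058
theorem L47908 : N4741 = N2288 := eqc rfl L47907 rfl
theorem L47943 : sm gd N2288 = N9789 := trfs L47908 L47563 rfl
theorem L47944 : N9789 = N2203 := eqes L47943 (flp_d L11062)
theorem L47945 : N9789 = N2203 := eqc rfl L47944 rfl
theorem L47954 : sm gc N2203 = N9434 := trfs L47945 (flp_c L47567) rfl
theorem L47955 : N9434 = N1078 := eqes L47954 (flp_c L10645)
theorem L47956 : N9434 = N1078 := eqc rfl L47955 rfl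
theorem L47960 : sm gd N1078 = N4562 := trfs L47956 (flp_d L45868) rfl
theorem L47961 : N4562 = N542 := eqes L47960 (flp_d L5346)
theorem L47962 : N4562 = N542 := eqc rfl L47961 rfl
theorem L47978 : sm gg N542 = N9435 := trfs L47962 L45872 rfl
theorem L47979 : N9435 = N1079 := eqes L47978 L5350
theorem L47980 : N9435 = N1079 := eqc rfl L47979 rfl
theorem L47987 : sm gf N1079 = N9445 := trfs L47980 L45913 rfl
theorem L47988 : N9445 = N2207 := eqes L47987 L10659
theorem L47989 : N9445 = N2207 := eqc rfl L47988 rfl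
theorem L47996 : sm gg N2207 = N4566 := trfs L47989 (flp_g L45909) rfl
theorem L47997 : N4566 = N2085 := eqes L47996 L10665
theorem L47998 : N4566 = N2085 := eqc rfl L47997 rfl
theorem L48009 : sm ge N2085 = N9375 := trfs L47998 (flp_e L45535) rfl
theorem L48010 : N9375 = N4325 := eqes L48009 (flp_e L20843)
theorem L48011 : N9375 = N4325 := eqc rfl L48010 rfl
theorem L48016 : sm gf N4325 = N4535 := trfs L48011 (flp_f L45531) rfl
theorem L48017 : N4535 = N2184 := eqes L48016 L20845
theorem L48018 : N4535 = N2184 := eqc rfl L48017 rfl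
theorem L48023 : sm gc N2184 = N2183 := trfs L48018 (flp_c L21889) rfl
theorem L48024 : N2183 = N1069 := eqes L48023 (flp_c L10543)
theorem L48025 : N2183 = N1069 := eqc rfl L48024 rfl
theorem L48030 : sm gg N2184 = N9376 := trfs L48018 L45537 rfl
theorem L48031 : N9376 = N4540 := eqes L48030 L21909
theorem L48032 : N9376 = N4540 := eqc rfl L48031 rfl
theorem L48033 : sm gc N4540 = N4537 := trfs L48032 L45539 rfl
theorem L48034 : N4537 = N2185 := eqes L48033 L21913
theorem L48035 : N4537 = N2185 := eqc rfl L48034 rfl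
theorem L48040 : sm gb N2185 = N9378 := trfs L48035 L45551 rfl
theorem L48041 : N9378 = N4541 := eqes L48040 L21919
theorem L48042 : N9378 = N4541 := eqc rfl L48041 rfl
theorem L48049 : sm gf N2185 = N9379 := trfs L48035 L45561 rfl
theorem L48050 : N9379 = N2078 := eqes L48049 L10555
theorem L48051 : N9379 = N2078 := eqc rfl L48050 rfl
theorem L48059 : sm gg N2078 = N8813 := trfs L48051 L45567 rfl
theorem L48060 : N8813 = N1019 := eqes L48059 (flp_g L10032)
theorem L48061 : N8813 = N1019 := eqc rfl L48060 rfl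
theorem L48069 : sm gf N1019 = N4534 := trfs L48061 L42736 rfl
theorem L48070 : N4534 = N539 := eqes L48069 L5063
theorem L48071 : N4534 = N539 := eqc rfl L48070 rfl
theorem L48077 : sm gd N539 = N9343 := trfs L48071 (flp_d L45355) rfl
theorem L48078 : N9343 = N1067 := eqes L48077 (flp_d L5292)
theorem L48079 : N9343 = N1067 := eqc rfl L48078 rfl
theorem L48082 : sm ga N1067 = N4522 := trfs L48079 (flp_a L45353) rfl
theorem L48083 : N4522 = N2177 := eqes L48082 L10507
theorem L48084 : N4522 = N2177 := eqc rfl L48083 rfl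
theorem L48088 : sm ge N1067 = N4646 := trfs L48079 L45357 rfl
theorem L48089 : N4646 = N550 := eqes L48088 L5294
theorem L48090 : N4646 = N550 := eqc rfl L48089 rfl
theorem L48091 : sm ga N550 = N2236 := trfs L48090 (flp_a L22421) rfl
theorem L48092 : N2236 = N1092 := eqes L48091 L5414
theorem L48093 : N2236 = N1092 := eqc rfl L48092 rfl
theorem L48106 : sm gg N550 = N9602 := trfs L48090 L46599 rfl
theorem L48107 : N9602 = N1094 := eqes L48106 L5420
theorem L48108 : N9602 = N1094 := eqc rfl L48107 rfl
theorem L48118 : sm gf N1094 = N9607 := trfs L48108 L46623 rfl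
theorem L48119 : N9607 = N2241 := eqes L48118 L10821
theorem L48120 : N9607 = N2241 := eqc rfl L48119 rfl
theorem L48128 : sm gg N2241 = N4648 := trfs L48120 (flp_g L46619) rfl
theorem L48129 : N4648 = N2112 := eqes L48128 L10827
theorem L48130 : N4648 = N2112 := eqc rfl L48129 rfl
theorem L48132 : sm gb N2112 = N9113 := trfs L48130 (flp_b L44239) rfl
theorem L48133 : N9113 = N4403 := eqes L48132 L21219
theorem L48134 : N9113 = N4403 := eqc rfl L48133 rfl
theorem L48135 : sm gc N2112 = N9605 := trfs L48130 (flp_c L46613) rfl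
theorem L48136 : N9605 = N4404 := eqes L48135 L21223
theorem L48137 : N9605 = N4404 := eqc rfl L48136 rfl
theorem L48145 : sm gf N4404 = N4647 := trfs L48137 (flp_f L46611) rfl
theorem L48146 : N4647 = N2237 := eqes L48145 L21227
theorem L48147 : N4647 = N2237 := eqc rfl L48146 rfl
theorem L48149 : sm gb N2237 = N9603 := trfs L48147 L46605 rfl
theorem L48150 : N9603 = N4650 := eqes L48149 L22437
theorem L48151 : N9603 = N4650 := eqc rfl L48150 rfl
theorem L48164 : sm gc N4650 = N4650 := trfs L48151 L46607 rfl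
theorem L48166 : sm gd N4403 = N4419 := trfs L48134 L44237 rfl
theorem L48167 : N4419 = N2120 := eqes L48166 L21221
theorem L48168 : N4419 = N2120 := eqc rfl L48167 rfl
theorem L48170 : sm ga N2120 = N2120 := trfs L48168 (flp_a L21291) rfl
theorem L48177 : sm gg N2120 = N5730 := trfs L48168 (flp_g L27777) rfl
theorem L48178 : N5730 = N4420 := eqes L48177 L21300
theorem L48179 : N5730 = N4420 := eqc rfl L48178 rfl
theorem L48185 : sm ge N4420 = N2857 := trfs L48179 L27773 rfl
theorem L48186 : N2857 = N2137 := eqes L48185 L21303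
theorem L48187 : N2857 = N2137 := eqc rfl L48186 rfl
theorem L48190 : sm gb N2137 = N1384 := trfs L48187 (flp_b L13808) rfl
theorem L48191 : N1384 = N2304 := eqes L48190 (flp_b L11148)
theorem L48192 : N2304 = N1384 := (eqc rfl L48191 rfl).symm
theorem L48194 : sm gd N2137 = N5431 := trfs L48187 (flp_d L26372) rfl
theorem L48195 : N5431 = N4342 := eqes L48194 (flp_d L20935)
theorem L48196 : N5431 = N4342 := eqc rfl L48195 rfl
theorem L48200 : sm gb N4342 = N2616 := trfs L48196 (flp_b L26370) rfl
theorem L48201 : N2616 = N4590 := eqes L48200 (flp_b L22159)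
theorem L48202 : N4590 = N2616 := (eqc rfl L48201 rfl).symm
theorem L48222 : sm ga N2616 = N2606 := trfs L48202 L22155 rfl
theorem L48223 : N2606 = N2615 := eqes L48222 L12661
theorem L48224 : N2615 = N2606 := (eqc rfl L48223 rfl).symm
theorem L48225 : sm gb N2616 = N4342 := trfs L48202 L22159 rfl
theorem L48227 : sm gc N2616 = N9485 := trfs L48202 (flp_c L46088) rfl
theorem L48228 : N9485 = N5427 := eqes L48227 (flp_c L26342)
theorem L48229 : N9485 = N5427 := eqc rfl L48228 rfl
theorem L48237 : sm gg N2616 = N2208 := trfs L48202 (flp_g L22153) rfl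
theorem L48238 : N2208 = N2608 := eqes L48237 L12665
theorem L48239 : N2608 = N2208 := (eqc rfl L48238 rfl).symm
theorem L48244 : sm gc N2208 = N5414 := trfs L48239 (flp_c L26291) rfl
theorem L48245 : N5414 = N4589 := eqes L48244 L22151
theorem L48246 : N5414 = N4589 := eqc rfl L48245 rfl
theorem L48253 : sm gf N2208 = N1265 := trfs L48239 (flp_f L12621) rfl
theorem L48254 : N1265 = N2649 := eqes L48253 (flp_f L12813)
theorem L48255 : N2649 = N1265 := (eqc rfl L48254 rfl).symm
theorem L48273 : sm gf N1265 = N2208 := trfs L48255 L12813 rfl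
theorem L48275 : sm gg N1265 = N5411 := trfs L48255 (flp_g L26277) rfl
theorem L48276 : N5411 = N2609 := eqes L48275 L12627
theorem L48277 : N5411 = N2609 := eqc rfl L48276 rfl
theorem L48282 : sm gd N2609 = N2841 := trfs L48277 L26275 rfl
theorem L48283 : N2841 = N1378 := eqes L48282 L12631
theorem L48284 : N2841 = N1378 := eqc rfl L48283 rfl
theorem L48293 : sm gc N1378 = N5875 := trfs L48284 (flp_c L28507) rfl
theorem L48294 : N5875 = N2845 := eqes L48293 (flp_c L13752)
theorem L48295 : N5875 = N2845 := eqc rfl L48294 rfl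
theorem L48299 : sm gf N1378 = N1375 := trfs L48284 (flp_f L13730) rfl
theorem L48300 : N1375 = N1383 := eqes L48299 L6752
theorem L48301 : N1383 = N1375 := (eqc rfl L48300 rfl).symm
theorem L48315 : sm gf N1375 = N1378 := trfs L48301 (flp_f L6752) rfl
theorem L48317 : sm gg N1375 = N687 := trfs L48301 (flp_g L6750) rfl
theorem L48318 : N687 = N1137 := eqes L48317 L6721
theorem L48319 : N1137 = N687 := (eqc rfl L48318 rfl).symm
theorem L48329 : sm ge N687 = N2275 := trfs L48319 (flp_e L11002) rfl
theorem L48330 : N2275 = N1334 := eqes L48329 (flp_e L6544)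
theorem L48331 : N2275 = N1334 := eqc rfl L48330 rfl
theorem L48332 : sm gf N687 = N2335 := trfs L48319 L11280 rfl
theorem L48333 : N2335 = N346 := eqes L48332 (flp_f L3457)
theorem L48334 : N2335 = N346 := eqc rfl L48333 rfl
theorem L48335 : sm gg N687 = N1375 := trfs L48319 (flp_g L6721) rfl
theorem L48345 : sm ge N346 = N4734 := trfs L48334 (flp_e L22884) rfl
theorem L48346 : N4734 = N665 := eqes L48345 (flp_e L3370)
theorem L48347 : N4734 = N665 := eqc rfl L48346 rfl
theorem L48358 : sm gd N665 = N9658 := trfs L48347 (flp_d L46847) rfl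
theorem L48359 : N9658 = N1309 := eqes L48358 (flp_d L6418)
theorem L48360 : N9658 = N1309 := eqc rfl L48359 rfl
theorem L48375 : sm gf N1309 = N4673 := trfs L48360 (flp_f L46843) rfl
theorem L48376 : N4673 = N2706 := eqes L48375 L13035
theorem L48377 : N4673 = N2706 := eqc rfl L48376 rfl
theorem L48380 : sm gb N2706 = N2247 := trfs L48377 (flp_b L22529) rfl
theorem L48381 : N2247 = N5621 := eqes L48380 L27161
theorem L48382 : N5621 = N2247 := (eqc rfl L48381 rfl).symm
theorem L48387 : sm ge N2706 = N9370 := trfs L48377 (flp_e L45507) rfl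
theorem L48388 : N9370 = N5216 := eqes L48387 (flp_e L25270)
theorem L48389 : N9370 = N5216 := eqc rfl L48388 rfl
theorem L48390 : sm gg N2706 = N5613 := trfs L48377 (flp_g L27129) rfl
theorem L48391 : N5613 = N5622 := eqes L48390 L27167
theorem L48392 : N5622 = N5613 := (eqc rfl L48391 rfl).symm
theorem L48393 : sm ga N5613 = N5623 := trfs L48392 (flp_a L27175) rfl
theorem L48394 : N5623 = N9629 := eqes L48393 (flp_a L46715)
theorem L48395 : N9629 = N5623 := (eqc rfl L48394 rfl).symm
theorem L48403 : sm gb N5623 = N9115 := trfs L48395 L46719 rfl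
theorem L48412 : sm gd N5216 = N4561 := trfs L48389 L45505 rfl
theorem L48413 : N4561 = N2545 := eqes L48412 L25268
theorem L48414 : N4561 = N2545 := eqc rfl L48413 rfl
theorem L48424 : sm gf N2545 = N9432 := trfs L48414 L45855 rfl
theorem L48425 : N9432 = N1236 := eqes L48424 (flp_f L12321)
theorem L48426 : N9432 = N1236 := eqc rfl L48425 rfl
theorem L48438 : sm gb N1236 = N8977 := trfs L48426 L45861 rfl
theorem L48439 : N8977 = N622 := eqes L48438 (flp_b L6090)
theorem L48440 : N8977 = N622 := eqc rfl L48439 rfl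
theorem L48445 : sm gf N622 = N4332 := trfs L48440 (flp_f L43628) rfl
theorem L48446 : N4332 = N1238 := eqes L48445 L6101
theorem L48447 : N4332 = N1238 := eqc rfl L48446 rfl
theorem L48458 : sm gd N1238 = N8950 := trfs L48447 (flp_d L43472) rfl
theorem L48459 : N8950 = N2515 := eqes L48458 (flp_d L12166)
theorem L48460 : N8950 = N2515 := eqc rfl L48459 rfl
theorem L48461 : sm ge N1238 = N2092 := trfs L48447 L20881 rfl
theorem L48462 : N2092 = N637 := eqes L48461 L6105
theorem L48463 : N2092 = N637 := eqc rfl L48462 rfl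
theorem L48474 : sm gd N637 = N1055 := trfs L48463 L10101 rfl
theorem L48475 : N1055 = N347 := eqes L48474 L3241
theorem L48476 : N1055 = N347 := eqc rfl L48475 rfl
theorem L48488 : sm ge N347 = N2128 := trfs L48476 (flp_e L10269) rfl
theorem L48489 : N2128 = N666 := eqes L48488 (flp_e L3377)
theorem L48490 : N2128 = N666 := eqc rfl L48489 rfl
theorem L48496 : sm gb N666 = N1043 := trfs L48490 (flp_b L10267) rfl
theorem L48497 : N1043 = N1336 := eqes L48496 L6551
theorem L48498 : N1336 = N1043 := (eqc rfl L48497 rfl).symm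
theorem L48502 : sm gd N666 = N4411 := trfs L48490 (flp_d L21257) rfl
theorem L48503 : N4411 = N1311 := eqes L48502 (flp_d L6429)
theorem L48504 : N4411 = N1311 := eqc rfl L48503 rfl
theorem L48510 : sm gb N1311 = N2116 := trfs L48504 (flp_b L21255) rfl
theorem L48511 : N2116 = N2711 := eqes L48510 L13061
theorem L48512 : N2711 = N2116 := (eqc rfl L48511 rfl).symm
theorem L48532 : sm gg N2116 = N5633 := trfs L48512 L27217 rfl
theorem L48533 : N5633 = N1095 := eqes L48532 L10209
theorem L48534 : N5633 = N1095 := eqc rfl L48533 rfl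
theorem L48535 : sm gb N1095 = N2717 := trfs L48534 L27221 rfl
theorem L48536 : N2717 = N2242 := eqes L48535 L10829
theorem L48537 : N2717 = N2242 := eqc rfl L48536 rfl
theorem L48541 : sm gf N1095 = N9125 := trfs L48534 (flp_f L44294) rfl
theorem L48542 : N9125 = N2244 := eqes L48541 L10837
theorem L48543 : N9125 = N2244 := eqc rfl L48542 rfl
theorem L48544 : sm gb N2244 = N4408 := trfs L48543 (flp_b L44290) rfl
theorem L48545 : N4408 = N4667 := eqes L48544 L22507
theorem L48546 : N4667 = N4408 := (eqc rfl L48545 rfl).symm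
theorem L48547 : sm gd N2244 = N4429 := trfs L48543 L44292 rfl
theorem L48548 : N4429 = N1106 := eqes L48547 L10841
theorem L48549 : N4429 = N1106 := eqc rfl L48548 rfl
theorem L48553 : sm gb N1106 = N2125 := trfs L48549 (flp_b L21351) rfl
theorem L48554 : N2125 = N2269 := eqes L48553 L10968
theorem L48555 : N2269 = N2125 := (eqc rfl L48554 rfl).symm
theorem L48559 : sm ge N1106 = N2146 := trfs L48549 L21353 rfl
theorem L48560 : N2146 = N566 := eqes L48559 L5484
theorem L48561 : N2146 = N566 := eqc rfl L48560 rfl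
theorem L48563 : sm gg N1106 = N5727 := trfs L48549 L27751 rfl
theorem L48564 : N5727 = N1045 := eqes L48563 (flp_g L5486)
theorem L48565 : N5727 = N1045 := eqc rfl L48564 rfl
theorem L48575 : sm gf N1045 = N2763 := trfs L48565 L27749 rfl
theorem L48576 : N2763 = N526 := eqes L48575 (flp_f L5197)
theorem L48577 : N2763 = N526 := eqc rfl L48576 rfl
theorem L48589 : sm gg N526 = N5673 := trfs L48577 (flp_g L27427) rfl
theorem L48590 : N5673 = N281 := eqes L48589 L2695
theorem L48591 : N5673 = N281 := eqc rfl L48590 rfl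
theorem L48596 : sm ge N281 = N2800 := trfs L48591 L27425 rfl
theorem L48597 : N2800 = N139 := eqes L48596 L1450
theorem L48598 : N2800 = N139 := eqc rfl L48597 rfl
theorem L48612 : sm gf N139 = N2856 := trfs L48598 L13804 rfl
theorem L48613 : N2856 = N287 := eqes L48612 L1466
theorem L48614 : N2856 = N287 := eqc rfl L48613 rfl
theorem L48623 : sm gd N287 = N5430 := trfs L48614 (flp_d L26364) rfl
theorem L48624 : N5430 = N546 := eqes L48623 (flp_d L2781)
theorem L48625 : N5430 = N546 := eqc rfl L48624 rfl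
theorem L48628 : sm ga N546 = N4352 := trfs L48625 L26362 rfl
theorem L48629 : N4352 = N1083 := eqes L48628 (flp_a L5372)
theorem L48630 : N4352 = N1083 := eqc rfl L48629 rfl
theorem L48635 : sm gg N546 = N2614 := trfs L48625 (flp_g L26360) rfl
theorem L48636 : N2614 = N1086 := eqes L48635 L5386
theorem L48637 : N2614 = N1086 := eqc rfl L48636 rfl
theorem L48643 : sm gc N1086 = N5429 := trfs L48637 L26356 rfl
theorem L48644 : N5429 = N2221 := eqes L48643 (flp_c L10723)
theorem L48645 : N5429 = N2221 := eqc rfl L48644 rfl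
theorem L48649 : sm gf N2221 = N2625 := trfs L48645 L26358 rfl
theorem L48650 : N2625 = N2093 := eqes L48649 (flp_f L10725)
theorem L48651 : N2625 = N2093 := eqc rfl L48650 rfl
theorem L48665 : sm gg N2093 = N5449 := trfs L48651 L26450 rfl
theorem L48666 : N5449 = N1082 := eqes L48665 L10107
theorem L48667 : N5449 = N1082 := eqc rfl L48666 rfl
theorem L48668 : sm gc N1082 = N2626 := trfs L48667 L26452 rfl
theorem L48669 : N2626 = N544 := eqes L48668 (flp_c L5366)
theorem L48670 : N2626 = N544 := eqc rfl L48669 rfl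
theorem L48676 : sm gb N544 = N1278 := trfs L48670 L12707 rfl
theorem L48677 : N1278 = N1081 := eqes L48676 L5362
theorem L48678 : N1278 = N1081 := eqc rfl L48677 rfl
theorem L48680 : sm ge N544 = N5303 := trfs L48670 (flp_e L25752) rfl
theorem L48681 : N5303 = N1072 := eqes L48680 (flp_e L5318)
theorem L48682 : N5303 = N1072 := eqc rfl L48681 rfl
theorem L48688 : sm gf N1072 = N8970 := trfs L48682 (flp_f L43591) rfl
theorem L48689 : N8970 = N2191 := eqes L48688 L10585
theorem L48690 : N8970 = N2191 := eqc rfl L48689 rfl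
theorem L48692 : sm gb N2191 = N4329 := trfs L48690 (flp_b L43587) rfl
theorem L48693 : N4329 = N4555 := eqes L48692 L21991
theorem L48694 : N4555 = N4329 := (eqc rfl L48693 rfl).symm
theorem L48699 : sm gb N4329 = N2191 := trfs L48694 (flp_b L21991) rfl
theorem L48704 : sm gd N4329 = N9364 := trfs L48694 (flp_d L45475) rfl
theorem L48705 : N9364 = N8947 := eqes L48704 (flp_d L43454)
theorem L48706 : N9364 = N8947 := eqc rfl L48705 rfl
theorem L48707 : sm ge N4329 = N2216 := trfs L48694 L21993 rfl
theorem L48708 : N2216 = N2089 := eqes L48707 L20866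
theorem L48709 : N2216 = N2089 := eqc rfl L48708 rfl
theorem L48710 : sm gf N4329 = N9408 := trfs L48694 (flp_f L45723) rfl
theorem L48711 : N9408 = N5324 := eqes L48710 L25866
theorem L48712 : N9408 = N5324 := eqc rfl L48711 rfl
theorem L48713 : sm gg N4329 = N5271 := trfs L48694 L25577 rfl
theorem L48714 : N5271 = N8967 := eqes L48713 (flp_g L43571)
theorem L48715 : N8967 = N5271 := (eqc rfl L48714 rfl).symm
theorem L48716 : sm ga N5271 = N4328 := trfs L48715 (flp_a L43567) rfl
theorem L48718 : sm gb N5271 = N8984 := trfs L48715 (flp_b L43669) rfl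
theorem L48719 : N8984 = N8986 := eqes L48718 (flp_b L43683)
theorem L48720 : N8986 = N8984 := (eqc rfl L48719 rfl).symm
theorem L48721 : sm ge N5271 = N4349 := trfs L48715 L43569 rfl
theorem L48722 : N4349 = N2595 := eqes L48721 L25575
theorem L48723 : N4349 = N2595 := eqc rfl L48722 rfl
theorem L48724 : sm gf N5271 = N8974 := trfs L48715 L43614 rfl
theorem L48725 : N8974 = N2537 := eqes L48724 (flp_f L25573)
theorem L48726 : N8974 = N2537 := eqc rfl L48725 rfl
theorem L48727 : sm gg N5271 = N4329 := trfs L48715 L43571 rfl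
theorem L48729 : sm ga N2537 = N8969 := trfs L48726 L43610 rfl
theorem L48730 : N8969 = N5269 := eqes L48729 L25565
theorem L48731 : N8969 = N5269 := eqc rfl L48730 rfl
theorem L48732 : sm ge N2537 = N4356 := trfs L48726 L43612 rfl
theorem L48733 : N4356 = N1259 := eqes L48732 L12281
theorem L48734 : N4356 = N1259 := eqc rfl L48733 rfl
theorem L48735 : sm gg N2537 = N4331 := trfs L48726 (flp_g L43608) rfl
theorem L48736 : N4331 = N5272 := eqes L48735 L25579
theorem L48737 : N5272 = N4331 := (eqc rfl L48736 rfl).symm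
theorem L48739 : sm ge N4331 = N2596 := trfs L48737 L25581 rfl
theorem L48740 : N2596 = N2091 := eqes L48739 L20875
theorem L48741 : N2596 = N2091 := eqc rfl L48740 rfl
theorem L48743 : sm gg N4331 = N2537 := trfs L48737 (flp_g L25579) rfl
theorem L48751 : sm gc N2091 = N5392 := trfs L48741 (flp_c L26201) rfl
theorem L48752 : N5392 = N4355 := eqes L48751 (flp_c L20995)
theorem L48753 : N5392 = N4355 := eqc rfl L48752 rfl
theorem L48757 : sm gf N2091 = N4607 := trfs L48741 (flp_f L22241) rfl
theorem L48758 : N4607 = N1026 := eqes L48757 (flp_f L10093)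
theorem L48759 : N4607 = N1026 := eqc rfl L48758 rfl
theorem L48773 : sm gg N1026 = N5388 := trfs L48759 (flp_g L26183) rfl
theorem L48774 : N5388 = N2088 := eqes L48773 (flp_g L10084)
theorem L48775 : N5388 = N2088 := eqc rfl L48774 rfl
theorem L48779 : sm gd N2088 = N2816 := trfs L48775 L26181 rfl
theorem L48780 : N2816 = N1051 := eqes L48779 L10082
theorem L48781 : N2816 = N1051 := eqc rfl L48780 rfl
theorem L48782 : sm gf N2088 = N2593 := trfs L48775 (flp_f L26177) rfl
theorem L48783 : N2593 = N4351 := eqes L48782 L20972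
theorem L48784 : N4351 = N2593 := (eqc rfl L48783 rfl).symm
theorem L48786 : sm gb N2593 = N2639 := trfs L48784 L20978 rfl
theorem L48787 : N2639 = N2636 := eqes L48786 (flp_b L12749)
theorem L48788 : N2639 = N2636 := eqc rfl L48787 rfl
theorem L48789 : sm gc N2593 = N9011 := trfs L48784 (flp_c L43797) rfl
theorem L48790 : N9011 = N5387 := eqes L48789 L26173
theorem L48791 : N9011 = N5387 := eqc rfl L48790 rfl
theorem L48792 : sm gd N2593 = N2145 := trfs L48784 L20974 rfl
theorem L48793 : N2145 = N1362 := eqes L48792 L12555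
theorem L48794 : N2145 = N1362 := eqc rfl L48793 rfl
theorem L48803 : sm gb N1362 = N1395 := trfs L48794 L10363 rfl
theorem L48804 : N1395 = N1392 := eqes L48803 (flp_b L6788)
theorem L48805 : N1395 = N1392 := eqc rfl L48804 rfl
theorem L48809 : sm ge N1362 = N4428 := trfs L48794 (flp_e L21345) rfl
theorem L48810 : N4428 = N2740 := eqes L48809 (flp_e L13211)
theorem L48811 : N4428 = N2740 := eqc rfl L48810 rfl
theorem L48814 : sm gg N1362 = N1399 := trfs L48794 (flp_g L10357) rfl
theorem L48815 : N1399 = N2311 := eqes L48814 (flp_g L11178)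
theorem L48816 : N2311 = N1399 := (eqc rfl L48815 rfl).symm
theorem L48828 : sm gf N1399 = N1131 := trfs L48816 L11176 rfl
theorem L48829 : N1131 = N1052 := eqes L48828 L10359
theorem L48830 : N1131 = N1052 := eqc rfl L48829 rfl
theorem L48831 : sm gg N1399 = N1362 := trfs L48816 L11178 rfl
theorem L48836 : sm gc N1052 = N2323 := trfs L48830 L11230 rfl
theorem L48837 : N2323 = N2147 := eqes L48836 L10371
theorem L48838 : N2323 = N2147 := eqc rfl L48837 rfl
theorem L48841 : sm gg N1052 = N1364 := trfs L48830 L10437 rfl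
theorem L48842 : N1364 = N2143 := eqes L48841 (flp_g L10349)
theorem L48843 : N2143 = N1364 := (eqc rfl L48842 rfl).symm
theorem L48849 : sm gc N1364 = N4462 := trfs L48843 L21525 rfl
theorem L48850 : N4462 = N2819 := eqes L48849 (flp_c L13628)
theorem L48851 : N4462 = N2819 := eqc rfl L48850 rfl
theorem L48853 : sm ge N1364 = N4426 := trfs L48843 (flp_e L21333) rfl
theorem L48854 : N4426 = N2742 := eqes L48853 (flp_e L13219)
theorem L48855 : N4426 = N2742 := eqc rfl L48854 rfl
theorem L48857 : sm gg N1364 = N1052 := trfs L48843 L10349 rfl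
theorem L48862 : sm gb N2742 = N4443 := trfs L48855 (flp_b L21430) rfl
theorem L48863 : N4443 = N4445 := eqes L48862 (flp_b L21444)
theorem L48864 : N4445 = N4443 := (eqc rfl L48863 rfl).symm
theorem L48868 : sm gd N2742 = N9122 := trfs L48855 (flp_d L44274) rfl
theorem L48869 : N9122 = N5602 := eqes L48868 (flp_d L27075)
theorem L48870 : N9122 = N5602 := eqc rfl L48869 rfl
theorem L48871 : sm gf N2742 = N4433 := trfs L48855 L21377 rfl
theorem L48872 : N4433 = N1326 := eqes L48871 (flp_f L13217)
theorem L48873 : N4433 = N1326 := eqc rfl L48872 rfl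
theorem L48880 : sm gc N1326 = N9168 := trfs L48873 (flp_c L44510) rfl
theorem L48881 : N9168 = N2741 := eqes L48880 L13213
theorem L48882 : N9168 = N2741 := eqc rfl L48881 rfl
theorem L48883 : sm gd N1326 = N9129 := trfs L48873 (flp_d L44310) rfl
theorem L48884 : N9129 = N2698 := eqes L48883 (flp_d L13001)
theorem L48885 : N9129 = N2698 := eqc rfl L48884 rfl
theorem L48887 : sm gg N1326 = N2127 := trfs L48873 (flp_g L21371) rfl
theorem L48888 : N2127 = N2743 := eqes L48887 L13223
theorem L48889 : N2743 = N2127 := (eqc rfl L48888 rfl).symm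
theorem L48891 : sm gb N2127 = N5681 := trfs L48889 (flp_b L27484) rfl
theorem L48892 : N5681 = N2055 := eqes L48891 L10265
theorem L48893 : N5681 = N2055 := eqc rfl L48892 rfl
theorem L48894 : sm gc N2127 = N5693 := trfs L48889 (flp_c L27550) rfl
theorem L48895 : N5693 = N4432 := eqes L48894 (flp_c L21367)
theorem L48896 : N5693 = N4432 := eqc rfl L48895 rfl
theorem L48901 : sm gf N2127 = N4721 := trfs L48889 (flp_f L22814) rfl
theorem L48902 : N4721 = N1042 := eqes L48901 (flp_f L10261)
theorem L48903 : N4721 = N1042 := eqc rfl L48902 rfl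
theorem L48904 : sm gg N2127 = N1326 := trfs L48889 (flp_g L13223) rfl
theorem L48913 : sm gd N1042 = N9646 := trfs L48903 (flp_d L46799) rfl
theorem L48914 : N9646 = N2115 := eqes L48913 (flp_d L10203)
theorem L48915 : N9646 = N2115 := eqc rfl L48914 rfl
theorem L48919 : sm gb N2115 = N8867 := trfs L48915 L46803 rfl
theorem L48920 : N8867 = N1036 := eqes L48919 (flp_b L10201)
theorem L48921 : N8867 = N1036 := eqc rfl L48920 rfl
theorem L48930 : sm gg N1036 = N4270 := trfs L48921 (flp_g L42994) rfl
theorem L48931 : N4270 = N522 := eqes L48930 (flp_g L5145)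
theorem L48932 : N4270 = N522 := eqc rfl L48931 rfl
theorem L48933 : sm ga N522 = N2048 := trfs L48932 (flp_a L20549) rfl
theorem L48934 : N2048 = N1006 := eqes L48933 (flp_a L5013)
theorem L48935 : N2048 = N1006 := eqc rfl L48934 rfl
theorem L48946 : sm gf N522 = N8777 := trfs L48932 (flp_f L42540) rfl
theorem L48947 : N8777 = N265 := eqes L48946 (flp_f L2671)
theorem L48948 : N8777 = N265 := eqc rfl L48947 rfl
theorem L48955 : sm gd N265 = N4224 := trfs L48948 L42538 rfl
theorem L48956 : N4224 = N129 := eqes L48955 (flp_d L1366)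
theorem L48957 : N4224 = N129 := eqc rfl L48956 rfl
theorem L48974 : sm ge N129 = N2026 := trfs L48957 L20261 rfl
theorem L48975 : N2026 = N57 := eqes L48974 (flp_e L643)
theorem L48976 : N2026 = N57 := eqc rfl L48975 rfl
theorem L48994 : sm gg N57 = N2061 := trfs L48976 (flp_g L9939) rfl
theorem L48995 : N2061 = N131 := eqes L48994 L649
theorem L48996 : N2061 = N131 := eqc rfl L48995 rfl
theorem L49008 : sm gf N131 = N1012 := trfs L48996 (flp_f L9935) rfl
theorem L49009 : N1012 = N271 := eqes L49008 L1390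
theorem L49010 : N1012 = N271 := eqc rfl L49009 rfl
theorem L49014 : sm gb N271 = N1062 := trfs L49010 (flp_b L5261) rfl
theorem L49015 : N1062 = N535 := eqes L49014 L2727
theorem L49016 : N1062 = N535 := eqc rfl L49015 rfl
theorem L49026 : sm gg N271 = N512 := trfs L49010 (flp_g L5035) rfl
theorem L49027 : N512 = N260 := eqes L49026 L1394
theorem L49028 : N512 = N260 := eqc rfl L49027 rfl
theorem L49030 : sm gb N260 = N260 := trfs L49028 (flp_b L2621) rfl
theorem L49034 : sm gd N260 = N1003 := trfs L49028 (flp_d L5001) rfl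
theorem L49035 : N1003 = N507 := eqes L49034 (flp_d L2596)
theorem L49036 : N1003 = N507 := eqc rfl L49035 rfl
theorem L49037 : sm ge N260 = N1008 := trfs L49028 (flp_e L5025) rfl
theorem L49038 : N1008 = N510 := eqes L49037 (flp_e L2613)
theorem L49039 : N1008 = N510 := eqc rfl L49038 rfl
theorem L49042 : sm gb N510 = N510 := trfs L49039 (flp_b L5023) rfl
theorem L49043 : sm gc N510 = N2051 := trfs L49039 L9897 rfl
theorem L49044 : N2051 = N876 := eqes L49043 (flp_c L4375)
theorem L49045 : N2051 = N876 := eqc rfl L49044 rfl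
theorem L49052 : sm gb N876 = N3657 := trfs L49045 (flp_b L17561) rfl
theorem L49053 : N3657 = N1765 := eqes L49052 L8557
theorem L49054 : N3657 = N1765 := eqc rfl L49053 rfl
theorem L49055 : sm gd N876 = N4279 := trfs L49045 L20591 rfl
theorem L49056 : N4279 = N1763 := eqes L49055 (flp_d L8549)
theorem L49057 : N4279 = N1763 := eqc rfl L49056 rfl
theorem L49062 : sm gg N876 = N4280 := trfs L49045 L20593 rfl
theorem L49063 : N4280 = N893 := eqes L49062 (flp_g L4471)
theorem L49064 : N4280 = N893 := eqc rfl L49063 rfl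
theorem L49076 : sm gf N893 = N8884 := trfs L49064 L43092 rfl
theorem L49077 : N8884 = N452 := eqes L49076 (flp_f L4463)
theorem L49078 : N8884 = N452 := eqc rfl L49077 rfl
theorem L49079 : sm ga N452 = N8785 := trfs L49078 L43094 rfl
theorem L49080 : N8785 = N877 := eqes L49079 (flp_a L4381)
theorem L49081 : N8785 = N877 := eqc rfl L49080 rfl
theorem L49088 : sm gc N877 = N4226 := trfs L49081 L42578 rfl
theorem L49089 : N4226 = N511 := eqes L49088 L4383
theorem L49090 : N4226 = N511 := eqc rfl L49089 rfl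
theorem L49091 : sm ge N877 = N4232 := trfs L49081 L42580 rfl
theorem L49092 : N4232 = N446 := eqes L49091 L4385
theorem L49093 : N4232 = N446 := eqc rfl L49092 rfl
theorem L49097 : sm gb N446 = N4047 := trfs L49093 (flp_b L20313) rfl
theorem L49098 : N4047 = N879 := eqes L49097 L4389
theorem L49099 : N4047 = N879 := eqc rfl L49098 rfl
theorem L49107 : sm gg N446 = N2027 := trfs L49093 (flp_g L20303) rfl
theorem L49108 : N2027 = N227 := eqes L49107 (flp_g L2276)
theorem L49109 : N2027 = N227 := eqc rfl L49108 rfl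
theorem L49115 : sm gd N227 = N4231 := trfs L49109 L20299 rfl
theorem L49116 : N4231 = N443 := eqes L49115 L2258
theorem L49117 : N4231 = N443 := eqc rfl L49116 rfl
theorem L49123 : sm gb N443 = N8719 := trfs L49117 (flp_b L42241) rfl
theorem L49124 : N8719 = N868 := eqes L49123 (flp_b L4333)
theorem L49125 : N8719 = N868 := eqc rfl L49124 rfl
theorem L49132 : sm gf N443 = N2059 := trfs L49117 L20301 rfl
theorem L49133 : N2059 = N873 := eqes L49132 L4351
theorem L49134 : N2059 = N873 := eqc rfl L49133 rfl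
theorem L49149 : sm gg N873 = N4293 := trfs L49134 L20671 rfl
theorem L49150 : N4293 = N886 := eqes L49149 (flp_g L4431)
theorem L49151 : N4293 = N886 := eqc rfl L49150 rfl
theorem L49155 : sm gb N886 = N8902 := trfs L49151 L43196 rfl
theorem L49156 : N8902 = N1787 := eqes L49155 L8663
theorem L49157 : N8902 = N1787 := eqc rfl L49156 rfl
theorem L49173 : sm ga N1787 = N8135 := trfs L49157 (flp_a L43200) rfl
theorem L49174 : N8135 = N3701 := eqes L49173 L17790
theorem L49175 : N8135 = N3701 := eqc rfl L49174 rfl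
theorem L49176 : sm gd N1787 = N4294 := trfs L49157 L43198 rfl
theorem L49177 : N4294 = N901 := eqes L49176 L8665
theorem L49178 : N4294 = N901 := eqc rfl L49177 rfl
theorem L49179 : sm ga N901 = N4041 := trfs L49178 L40427 rfl
theorem L49180 : N4041 = N1817 := eqes L49179 L8805
theorem L49181 : N4041 = N1817 := eqc rfl L49180 rfl
theorem L49190 : sm gg N901 = N6965 := trfs L49178 (flp_g L40423) rfl
theorem L49191 : N6965 = N1819 := eqes L49190 L8811
theorem L49192 : N6965 = N1819 := eqc rfl L49191 rfl
theorem L49193 : sm ga N1819 = N3352 := trfs L49192 (flp_a L33570) rfl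
theorem L49194 : N3352 = N3773 := eqes L49193 (flp_a L18115)
theorem L49195 : N3773 = N3352 := (eqc rfl L49194 rfl).symm
theorem L49202 : sm gf N1819 = N7882 := trfs L49192 L40421 rfl
theorem L49203 : N7882 = N3776 := eqes L49202 L18127
theorem L49204 : N7882 = N3776 := eqc rfl L49203 rfl
theorem L49205 : sm ga N3776 = N6967 := trfs L49204 L40413 rfl
theorem L49206 : N6967 = N3770 := eqes L49205 L18129
theorem L49207 : N6967 = N3770 := eqc rfl L49206 rfl
theorem L49220 : sm gb N3770 = N6786 := trfs L49207 L33576 rfl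
theorem L49221 : N6786 = N2806 := eqes L49220 L18105
theorem L49222 : N6786 = N2806 := eqc rfl L49221 rfl
theorem L49232 : sm gf N2806 = N3272 := trfs L49222 (flp_f L32741) rfl
theorem L49233 : N3272 = N5808 := eqes L49232 L28174
theorem L49234 : N5808 = N3272 := (eqc rfl L49233 rfl).symm
theorem L49244 : sm gf N3272 = N2806 := trfs L49234 (flp_f L28174) rfl
theorem L49246 : sm gg N3272 = N2862 := trfs L49234 L28180 rfl
theorem L49247 : N2862 = N6787 := eqes L49246 L32743
theorem L49248 : N6787 = N2862 := (eqc rfl L49247 rfl).symm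
theorem L49252 : sm gb N2862 = N3343 := trfs L49248 L32745 rfl
theorem L49253 : N3343 = N5910 := eqes L49252 L28656
theorem L49254 : N5910 = N3343 := (eqc rfl L49253 rfl).symm
theorem L49255 : sm gc N2862 = N7551 := trfs L49248 L36263 rfl
theorem L49256 : N7551 = N1388 := eqes L49255 (flp_c L13838)
theorem L49257 : N7551 = N1388 := eqc rfl L49256 rfl
theorem L49258 : sm gg N2862 = N3272 := trfs L49248 (flp_g L32743) rfl
theorem L49263 : sm gf N1388 = N8726 := trfs L49257 L42289 rfl
theorem L49264 : N8726 = N2863 := eqes L49263 L13840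
theorem L49265 : N8726 = N2863 := eqc rfl L49264 rfl
theorem L49271 : sm gg N2863 = N4194 := trfs L49265 (flp_g L42285) rfl
theorem L49272 : N4194 = N2805 := eqes L49271 L13844
theorem L49273 : N4194 = N2805 := eqc rfl L49272 rfl
theorem L49285 : sm gf N2805 = N2009 := trfs L49273 (flp_f L20102) rfl
theorem L49286 : N2009 = N2029 := eqes L49285 (flp_f L13570)
theorem L49287 : N2029 = N2009 := (eqc rfl L49286 rfl).symm
theorem L49290 : sm gb N2009 = N998 := trfs L49287 (flp_b L9801) rfl
theorem L49291 : N998 = N989 := eqes L49290 (flp_b L9701)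
theorem L49292 : N998 = N989 := eqc rfl L49291 rfl
theorem L49297 : sm ge N2009 = N4227 := trfs L49287 (flp_e L20279) rfl
theorem L49298 : N4227 = N4187 := eqes L49297 (flp_e L20082)
theorem L49299 : N4227 = N4187 := eqc rfl L49298 rfl
theorem L49318 : sm gg N4187 = N5734 := trfs L49299 (flp_g L27800) rfl
theorem L49319 : N5734 = N7546 := eqes L49318 (flp_g L36239)
theorem L49320 : N7546 = N5734 := (eqc rfl L49319 rfl).symm
theorem L49321 : sm gb N5734 = N3615 := trfs L49320 (flp_b L36235) rfl
theorem L49322 : N3615 = N4226 := eqes L49321 L27804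
theorem L49323 : N3615 = N511 := eqc rfl L49322 L49090
theorem L49342 : sm gg N511 = N1744 := trfs L49323 (flp_g L17343) rfl
theorem L49343 : N1744 = N259 := eqes L49342 (flp_g L2615)
theorem L49344 : N1744 = N259 := eqc rfl L49343 rfl
theorem L49348 : sm gb N259 = N987 := trfs L49344 L8451 rfl
theorem L49349 : N987 = N503 := eqes L49348 (flp_b L2578)
theorem L49350 : N987 = N503 := eqc rfl L49349 rfl
theorem L49351 : sm gc N259 = N869 := trfs L49344 L8453 rfl
theorem L49352 : N869 = N444 := eqes L49351 (flp_c L2268)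
theorem L49353 : N869 = N444 := eqc rfl L49352 rfl
theorem L49360 : sm gf N259 = N3614 := trfs L49344 L17337 rfl
theorem L49361 : N3614 = N510 := eqes L49360 L2609
theorem L49362 : N3614 = N510 := eqc rfl L49361 rfl
theorem L49378 : sm gg N510 = N7545 := trfs L49362 L36227 rfl
theorem L49379 : N7545 = N527 := eqes L49378 (flp_g L2703)
theorem L49380 : N7545 = N527 := eqc rfl L49379 rfl
theorem L49385 : sm ge N527 = N3617 := trfs L49380 L36231 rfl
theorem L49386 : N3617 = N271 := eqes L49385 L2701
theorem L49387 : N3617 = N271 := eqc rfl L49386 rfl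
theorem L49401 : sm gf N271 = N3601 := trfs L49387 (flp_f L17357) rfl
theorem L49402 : N3601 = N131 := eqes L49401 (flp_f L1390)
theorem L49403 : N3601 = N131 := eqc rfl L49402 rfl
theorem L49416 : sm gg N131 = N1738 := trfs L49403 (flp_g L17273) rfl
theorem L49417 : N1738 = N57 := eqes L49416 (flp_g L649)
theorem L49418 : N1738 = N57 := eqc rfl L49417 rfl
theorem L49430 : sm gf N57 = N3600 := trfs L49418 L17267 rfl
theorem L49431 : N3600 = N130 := eqes L49430 L647
theorem L49432 : N3600 = N130 := eqc rfl L49431 rfl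
theorem L49437 : sm gc N130 = N1741 := trfs L49432 L17271 rfl
theorem L49438 : N1741 = N230 := eqes L49437 (flp_c L1180)
theorem L49439 : N1741 = N230 := eqc rfl L49438 rfl
theorem L49440 : sm gd N130 = N6391 := trfs L49432 (flp_d L30915) rfl
theorem L49441 : N6391 = N263 := eqes L49440 (flp_d L1359)
theorem L49442 : N6391 = N263 := eqc rfl L49441 rfl
theorem L49452 : sm gg N263 = N7540 := trfs L49442 (flp_g L36209) rfl
theorem L49453 : N7540 = N518 := eqes L49452 L2647
theorem L49454 : N7540 = N518 := eqc rfl L49453 rfl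
theorem L49460 : sm gf N518 = N3612 := trfs L49454 (flp_f L36201) rfl
theorem L49461 : N3612 = N508 := eqes L49460 (flp_f L2652)
theorem L49462 : N3612 = N508 := eqc rfl L49461 rfl
theorem L49474 : sm gg N508 = N1743 := trfs L49462 (flp_g L17329) rfl
theorem L49475 : N1743 = N258 := eqes L49474 (flp_g L2598)
theorem L49476 : N1743 = N258 := eqc rfl L49475 rfl
theorem L49485 : sm ge N258 = N3610 := trfs L49476 L17321 rfl
theorem L49486 : N3610 = N506 := eqes L49485 L2586
theorem L49487 : N3610 = N506 := eqc rfl L49486 rfl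
theorem L49498 : sm gd N506 = N7534 := trfs L49487 L36167 rfl
theorem L49499 : N7534 = N1000 := eqes L49498 L4979
theorem L49500 : N7534 = N1000 := eqc rfl L49499 rfl
theorem L49506 : sm gb N1000 = N4176 := trfs L49500 L36169 rfl
theorem L49507 : N4176 = N2014 := eqes L49506 (flp_b L9726)
theorem L49508 : N4176 = N2014 := eqc rfl L49507 rfl
theorem L49521 : sm gg N2014 = N8692 := trfs L49508 L42115 rfl
theorem L49522 : N8692 = N4206 := eqes L49521 L20161
theorem L49523 : N8692 = N4206 := eqc rfl L49522 rfl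
theorem L49528 : sm ge N4206 = N4184 := trfs L49523 L42120 rfl
theorem L49529 : N4184 = N2022 := eqes L49528 L20166
theorem L49530 : N4184 = N2022 := eqc rfl L49529 rfl
theorem L49541 : sm gf N2022 = N8708 := trfs L49530 (flp_f L42187) rfl
theorem L49542 : N8708 = N4222 := eqes L49541 (flp_f L20251)
theorem L49543 : N8708 = N4222 := eqc rfl L49542 rfl
theorem L49550 : sm gg N4222 = N4183 := trfs L49543 (flp_g L42182) rfl
theorem L49551 : N4183 = N2021 := eqes L49550 (flp_g L20246)
theorem L49552 : N4183 = N2021 := eqc rfl L49551 rfl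
theorem L49557 : sm gc N2021 = N8705 := trfs L49552 (flp_c L42171) rfl
theorem L49558 : N8705 = N4219 := eqes L49557 (flp_c L20233)
theorem L49559 : N8705 = N4219 := eqc rfl L49558 rfl
theorem L49560 : sm gd N2021 = N2005 := trfs L49552 L20060 rfl
theorem L49561 : N2005 = N995 := eqes L49560 L9765
theorem L49562 : N2005 = N995 := eqc rfl L49561 rfl
theorem L49570 : sm ge N995 = N988 := trfs L49562 L9683 rfl
theorem L49571 : N988 = N504 := eqes L49570 L4959
theorem L49572 : N988 = N504 := eqc rfl L49571 rfl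
theorem L49581 : sm gd N504 = N2002 := trfs L49572 (flp_d L9668) rfl
theorem L49582 : N2002 = N992 := eqes L49581 (flp_d L4944)
theorem L49583 : N2002 = N992 := eqc rfl L49582 rfl
theorem L49584 : sm gf N504 = N501 := trfs L49572 (flp_f L4922) rfl
theorem L49585 : N501 = N257 := eqes L49584 (flp_f L2580)
theorem L49586 : N501 = N257 := eqc rfl L49585 rfl
theorem L49587 : sm gg N504 = N2008 := trfs L49572 L9694 rfl
theorem L49588 : N2008 = N998 := eqes L49587 L4970
theorem L49589 : N2008 = N989 := eqc rfl L49588 L49292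
theorem L49594 : sm gc N989 = N989 := trfs L49589 L9697 L49292
theorem L49595 : N989 = N505 := eqes L49594 L4930
theorem L49596 : N989 = N505 := eqc rfl L49595 rfl
theorem L49597 : N2008 = N505 := L49589.trans L49596
theorem L49598 : sm gd N505 = N4180 := trfs L49597 (flp_d L20046) rfl
theorem L49599 : N4180 = N993 := eqes L49598 (flp_d L4949)
theorem L49600 : N4180 = N993 := eqc rfl L49599 rfl
theorem L49615 : sm gf N993 = N2003 := trfs L49600 L20048 rfl
theorem L49616 : N2003 = N2018 := eqes L49615 (flp_f L9751)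
theorem L49617 : N2018 = N2003 := (eqc rfl L49616 rfl).symm
theorem L49618 : sm gg N993 = N992 := trfs L49600 (flp_g L20043) L49583
theorem L49619 : N992 = N502 := eqes L49618 (flp_g L4946)
theorem L49620 : N992 = N502 := eqc rfl L49619 rfl
theorem L49625 : sm gc N502 = N2012 := trfs L49620 (flp_c L9716) rfl
theorem L49626 : N2012 = N990 := eqes L49625 L4932
theorem L49627 : N2012 = N990 := eqc rfl L49626 rfl
theorem L49628 : sm gd N502 = N504 := trfs L49620 L4944 rfl
theorem L49629 : N504 = N257 := eqes L49628 (flp_d L2570)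
theorem L49630 : N504 = N257 := eqc rfl L49629 rfl
theorem L49631 : sm ge N502 = N2015 := trfs L49620 (flp_e L9733) rfl
theorem L49632 : N2015 = N991 := eqes L49631 L4936
theorem L49633 : N2015 = N991 := eqc rfl L49632 rfl
theorem L49634 : sm gf N502 = N502 := trfs L49620 (flp_f L4941) rfl
theorem L49635 : sm gg N502 = N2003 := trfs L49620 L9746 L49617
theorem L49636 : N2003 = N993 := eqes L49635 L4946
theorem L49637 : N2003 = N993 := eqc rfl L49636 rfl
theorem L49642 : sm gc N993 = N4175 := trfs L49637 (flp_c L20022) rfl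
theorem L49643 : N4175 = N2013 := eqes L49642 (flp_c L9721)
theorem L49644 : N4175 = N2013 := eqc rfl L49643 rfl
theorem L49661 : sm gg N2013 = N2000 := trfs L49644 (flp_g L20019) rfl
theorem L49662 : N2000 = N990 := eqes L49661 (flp_g L9718)
theorem L49663 : N2000 = N990 := eqc rfl L49662 rfl
theorem L49669 : sm gd N990 = N4172 := trfs L49663 L20004 rfl
theorem L49670 : N4172 = N2010 := eqes L49669 L9703
theorem L49671 : N4172 = N2010 := eqc rfl L49670 rfl
theorem L49672 : sm ge N990 = N4173 := trfs L49663 L20009 rfl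
theorem L49673 : N4173 = N2011 := eqes L49672 L9707
theorem L49674 : N4173 = N2011 := eqc rfl L49673 rfl
theorem L49675 : sm gf N990 = N4174 := trfs L49663 L20014 rfl
theorem L49676 : N4174 = N2012 := eqes L49675 L9713
theorem L49677 : N4174 = N990 := eqc rfl L49676 L49627
theorem L49687 : sm ge N990 = N8685 := trfs L49677 (flp_e L42083) rfl
theorem L49688 : N8685 = N2011 := eqes L49687 L9707
theorem L49689 : N8685 = N2011 := eqc rfl L49688 rfl
theorem L49695 : sm gf N2011 = N2011 := trfs L49689 (flp_f L42078) L49674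
theorem L49696 : N2011 = N4199 := eqes L49695 L20122
theorem L49697 : N4199 = N2011 := (eqc rfl L49696 rfl).symm
theorem L49707 : sm gf N2011 = N2011 := trfs L49697 (flp_f L20122) rfl
theorem L49708 : sm gg N2011 = N8737 := trfs L49697 L42342 rfl
theorem L49709 : N8737 = N4200 := eqes L49708 L20129
theorem L49710 : N8737 = N4200 := eqc rfl L49709 rfl
theorem L49712 : sm gc N4200 = N4208 := trfs L49710 L42345 rfl
theorem L49713 : N4208 = N2016 := eqes L49712 L20132
theorem L49714 : N4208 = N2016 := eqc rfl L49713 rfl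
theorem L49721 : sm gd N2016 = N8751 := trfs L49714 (flp_d L42412) rfl
theorem L49722 : N8751 = N4206 := eqes L49721 (flp_d L20164)
theorem L49723 : N8751 = N4206 := eqc rfl L49722 rfl
theorem L49733 : sm gg N4206 = N4205 := trfs L49723 (flp_g L42409) rfl
theorem L49734 : N4205 = N2014 := eqes L49733 (flp_g L20161)
theorem L49735 : N4205 = N2014 := eqc rfl L49734 rfl
theorem L49737 : sm gb N2014 = N8750 := trfs L49735 L42401 rfl
theorem L49738 : N8750 = N1000 := eqes L49737 L9726
theorem L49739 : N8750 = N1000 := eqc rfl L49738 rfl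
theorem L49740 : sm gc N2014 = N8748 := trfs L49735 (flp_c L42390) rfl
theorem L49741 : N8748 = N4204 := eqes L49740 L20149
theorem L49742 : N8748 = N4204 := eqc rfl L49741 rfl
theorem L49744 : sm ge N2014 = N2021 := trfs L49735 L20159 rfl
theorem L49745 : N2021 = N994 := eqes L49744 L9728
theorem L49746 : N2021 = N994 := eqc rfl L49745 rfl
theorem L49747 : sm gf N2014 = N2014 := trfs L49735 (flp_f L20154) rfl
theorem L49750 : sm gc N994 = N4219 := trfs L49746 (flp_c L20233) rfl
theorem L49751 : N4219 = N2020 := eqes L49750 L9759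
theorem L49752 : N4219 = N2020 := eqc rfl L49751 rfl
theorem L49753 : sm gd N994 = N995 := trfs L49746 L9765 rfl
theorem L49754 : N995 = N503 := eqes L49753 (flp_d L4951)
theorem L49755 : N995 = N503 := eqc rfl L49754 rfl
theorem L49756 : sm gf N994 = N994 := trfs L49746 (flp_f L9762) rfl
theorem L49763 : sm gf N503 = N503 := trfs L49755 (flp_f L4956) rfl
theorem L49769 : sm gd N2020 = N8772 := trfs L49752 (flp_d L42518) rfl
theorem L49770 : N8772 = N4218 := eqes L49769 L20227
theorem L49771 : N8772 = N4218 := eqc rfl L49770 rfl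
theorem L49773 : sm gf N2020 = N2020 := trfs L49752 (flp_f L20230) rfl
theorem L49781 : sm gf N4218 = N4218 := trfs L49771 (flp_f L42515) rfl
theorem L49783 : sm gf N4204 = N4204 := trfs L49742 (flp_f L42387) rfl
theorem L49788 : sm gf N1000 = N4241 := trfs L49739 L42407 rfl
theorem L49789 : N4241 = N2034 := eqes L49788 L9819
theorem L49790 : N4241 = N2034 := eqc rfl L49789 rfl
theorem L49792 : sm gb N2034 = N2034 := trfs L49790 (flp_b L20401) rfl
theorem L49793 : sm gc N2034 = N8808 := trfs L49790 L42706 rfl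
theorem L49794 : N8808 = N4239 := eqes L49793 (flp_c L20389)
theorem L49795 : N8808 = N4239 := eqc rfl L49794 rfl
theorem L49796 : sm gd N2034 = N2036 := trfs L49790 L20403 rfl
theorem L49797 : N2036 = N1001 := eqes L49796 L9823
theorem L49798 : N2036 = N1001 := eqc rfl L49797 rfl
theorem L49800 : sm gg N2034 = N8809 := trfs L49790 L42710 rfl
theorem L49801 : N8809 = N2075 := eqes L49800 (flp_g L10017)
theorem L49802 : N8809 = N2075 := eqc rfl L49801 rfl
theorem L49803 : sm gb N2075 = N8957 := trfs L49802 (flp_b L43518) rfl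
theorem L49804 : N8957 = N4323 := eqes L49803 L20829
theorem L49805 : N8957 = N4323 := eqc rfl L49804 rfl
theorem L49806 : sm gd N2075 = N4245 := trfs L49802 L42712 rfl
theorem L49807 : N4245 = N1022 := eqes L49806 L10013
theorem L49808 : N4245 = N1022 := eqc rfl L49807 rfl
theorem L49813 : sm gb N1022 = N4339 := trfs L49808 (flp_b L20921) rfl
theorem L49814 : N4339 = N2083 := eqes L49813 L10057
theorem L49815 : N4339 = N2083 := eqc rfl L49814 rfl
theorem L49820 : sm gf N1022 = N8818 := trfs L49808 L42763 rfl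
theorem L49821 : N8818 = N516 := eqes L49820 (flp_f L5078)
theorem L49822 : N8818 = N516 := eqc rfl L49821 rfl
theorem L49831 : sm gg N516 = N8753 := trfs L49822 L42769 rfl
theorem L49832 : N8753 = N262 := eqes L49831 (flp_g L2636)
theorem L49833 : N8753 = N262 := eqc rfl L49832 rfl
theorem L49835 : sm gb N262 = N5236 := trfs L49833 (flp_b L42432) rfl
theorem L49836 : N5236 = N132 := eqes L49835 L1353
theorem L49837 : N5236 = N132 := eqc rfl L49836 rfl
theorem L49847 : sm gg N132 = N5244 := trfs L49837 (flp_g L25436) rfl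
theorem L49848 : N5244 = N274 := eqes L49847 L1410
theorem L49849 : N5244 = N274 := eqc rfl L49848 rfl
theorem L49856 : sm gf N274 = N2525 := trfs L49849 (flp_f L25430) rfl
theorem L49857 : N2525 = N316 := eqes L49856 L1620
theorem L49858 : N2525 = N316 := eqc rfl L49857 rfl
theorem L49874 : sm gg N316 = N1227 := trfs L49858 (flp_g L12220) rfl
theorem L49875 : N1227 = N157 := eqes L49874 (flp_g L1616)
theorem L49876 : N1227 = N157 := eqc rfl L49875 rfl
theorem L49878 : sm gb N157 = N618 := trfs L49876 (flp_b L6042) rfl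
theorem L49879 : N618 = N315 := eqes L49878 L1611
theorem L49880 : N618 = N315 := eqc rfl L49879 rfl
theorem L49887 : sm ge N157 = N626 := trfs L49876 L6044 rfl
theorem L49888 : N626 = N73 := eqes L49887 L789
theorem L49889 : N626 = N73 := eqc rfl L49888 rfl
theorem L49894 : sm gb N73 = N319 := trfs L49889 (flp_b L3186) rfl
theorem L49895 : N319 = N159 := eqes L49894 L795
theorem L49896 : N319 = N159 := eqc rfl L49895 rfl
theorem L49903 : sm gf N73 = N1247 := trfs L49889 L6146 rfl
theorem L49904 : N1247 = N32 := eqes L49903 (flp_f L354)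
theorem L49905 : N1247 = N32 := eqc rfl L49904 rfl
theorem L49916 : sm gg N32 = N2571 := trfs L49905 L12451 rfl
theorem L49917 : N2571 = N74 := eqes L49916 L358
theorem L49918 : N2571 = N74 := eqc rfl L49917 rfl
theorem L49930 : sm gf N74 = N2566 := trfs L49918 (flp_f L12455) rfl
theorem L49931 : N2566 = N162 := eqes L49930 L811
theorem L49932 : N2566 = N162 := eqc rfl L49931 rfl
theorem L49940 : sm gd N162 = N1348 := trfs L49932 L12435 rfl
theorem L49941 : N1348 = N81 := eqes L49940 L817
theorem L49942 : N1348 = N81 := eqc rfl L49941 rfl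
theorem L49958 : sm gg N81 = N671 := trfs L49942 (flp_g L6616) rfl
theorem L49959 : N671 = N60 := eqes L49958 L397
theorem L49960 : N671 = N60 := eqc rfl L49959 rfl
theorem L49967 : sm ge N60 = N1318 := trfs L49960 (flp_e L6460) rfl
theorem L49968 : N1318 = N136 := eqes L49967 (flp_e L683)
theorem L49969 : N1318 = N136 := eqc rfl L49968 rfl
theorem L49975 : sm gc N136 = N2724 := trfs L49969 L13118 rfl
theorem L49976 : N2724 = N62 := eqes L49975 L681
theorem L49977 : N2724 = N62 := eqc rfl L49976 rfl
theorem L49991 : sm gf N62 = N5659 := trfs L49977 L27331 rfl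
theorem L49992 : N5659 = N27 := eqes L49991 (flp_f L303)
theorem L49993 : N5659 = N27 := eqc rfl L49992 rfl
theorem L49994 : sm gg N62 = N5660 := trfs L49977 L27339 rfl
theorem L49995 : N5660 = N83 := eqes L49994 (flp_g L413)
theorem L49996 : N5660 = N83 := eqc rfl L49995 rfl
theorem L50002 : sm gf N83 = N5666 := trfs L49996 L27375 rfl
theorem L50003 : N5666 = N37 := eqes L50002 (flp_f L406)
theorem L50004 : N5666 = N37 := eqc rfl L50003 rfl
theorem L50014 : sm gg N37 = N2728 := trfs L50004 (flp_g L27369) rfl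
theorem L50015 : N2728 = N16 := eqes L50014 (flp_g L179)
theorem L50016 : N2728 = N16 := eqc rfl L50015 rfl
theorem L50027 : sm ge N16 = N1350 := trfs L50016 L13143 rfl
theorem L50028 : N1350 = N7 := eqes L50027 (flp_e L83)
theorem L50029 : N1350 = N7 := eqc rfl L50028 rfl
theorem L50041 : sm gf N7 = N672 := trfs L50029 (flp_f L6623) rfl
theorem L50042 : N672 = N17 := eqes L50041 L88
theorem L50043 : N672 = N17 := eqc rfl L50042 rfl
theorem L50052 : sm gg N17 = N1351 := trfs L50043 L6627 rfl
theorem L50053 : N1351 = N38 := eqes L50052 L185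
theorem L50054 : N1351 = N38 := eqc rfl L50053 rfl
theorem L50064 : sm gf N38 = N2795 := trfs L50054 L13506 rfl
theorem L50065 : N2795 = N29 := eqes L50064 (flp_f L189)
theorem L50066 : N2795 = N29 := eqc rfl L50065 rfl
theorem L50072 : sm gd N29 = N5787 := trfs L50066 (flp_d L28080) rfl
theorem L50073 : N5787 = N14 := eqes L50072 L149
theorem L50074 : N5787 = N14 := eqc rfl L50073 rfl
theorem L50081 : sm gg N14 = N5774 := trfs L50074 L28082 rfl
theorem L50082 : N5774 = N6 := eqes L50081 (flp_g L74)
theorem L50083 : N5774 = N6 := eqc rfl L50082 rfl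
theorem L50089 : sm gf N6 = N2785 := trfs L50083 (flp_f L28016) rfl
theorem L50090 : N2785 = N13 := eqes L50089 L68
theorem L50091 : N2785 = N13 := eqc rfl L50090 rfl
theorem L50100 : sm ge N13 = N5773 := trfs L50091 L28012 rfl
theorem L50101 : N5773 = N13 := eqes L50100 L73
theorem L50102 : N5773 = N13 := eqc rfl L50101 rfl
theorem L50109 : sm ga N13 = N2789 := trfs L50102 L28014 rfl
theorem L50110 : N2789 = N8 := eqes L50109 L70
theorem L50111 : N2789 = N8 := eqc rfl L50110 rfl
theorem L50113 : sm gc N8 = N5779 := trfs L50111 (flp_c L28041) rfl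
theorem L50114 : N5779 = N8 := eqes L50113 L46
theorem L50115 : N5779 = N8 := eqc rfl L50114 rfl
theorem L50143 : sm ge N8 = N2788 := trfs L50115 (flp_e L28039) rfl
theorem L50144 : N2788 = N8 := eqes L50143 L47
theorem L50145 : N2788 = N8 := eqc rfl L50144 rfl
theorem L50151 : sm gd N8 = N5778 := trfs L50145 L28033 rfl
theorem L50152 : N5778 = N17 := eqes L50151 (flp_d L90)
theorem L50153 : N5778 = N17 := eqc rfl L50152 rfl
theorem L50165 : sm gc N17 = N5332 := trfs L50153 (flp_c L28037) rfl
theorem L50166 : N5332 = N34 := eqes L50165 (flp_c L167)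
theorem L50167 : N5332 = N34 := eqc rfl L50166 rfl
theorem L50168 : sm ga N34 = N2568 := trfs L50167 L25909 rfl
theorem L50169 : N2568 = N60 := eqes L50168 (flp_a L293)
theorem L50170 : N2568 = N60 := eqc rfl L50169 rfl
theorem L50212 : sm gb N60 = N5335 := trfs L50170 (flp_b L25925) rfl
theorem L50213 : N5335 = N138 := eqes L50212 L693
theorem L50214 : N5335 = N138 := eqc rfl L50213 rfl
theorem L50230 : sm gf N138 = N5351 := trfs L50214 (flp_f L26010) rfl
theorem L50231 : N5351 = N268 := eqes L50230 (flp_f L1380)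
theorem L50232 : N5351 = N268 := eqc rfl L50231 rfl
theorem L50239 : sm gd N268 = N2574 := trfs L50232 (flp_d L26006) rfl
theorem L50240 : N2574 = N517 := eqes L50239 (flp_d L2643)
theorem L50241 : N2574 = N517 := eqc rfl L50240 rfl
theorem L50251 : sm ge N517 = N5245 := trfs L50241 (flp_e L25440) rfl
theorem L50252 : N5245 = N1019 := eqes L50251 (flp_e L5061)
theorem L50253 : N5245 = N1019 := eqc rfl L50252 rfl
theorem L50255 : sm gg N517 = N5352 := trfs L50241 L26012 rfl
theorem L50256 : N5352 = N1025 := eqes L50255 L5098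
theorem L50257 : N5352 = N1025 := eqc rfl L50256 rfl
theorem L50261 : sm gc N1025 = N5356 := trfs L50257 (flp_c L26035) rfl
theorem L50262 : N5356 = N2087 := eqes L50261 (flp_c L10078)
theorem L50263 : N5356 = N2087 := eqc rfl L50262 rfl
theorem L50264 : sm gf N1025 = N2087 := trfs L50257 L26037 L50263
theorem L50265 : N2087 = N1077 := eqes L50264 (flp_f L5344)
theorem L50266 : N2087 = N1077 := eqc rfl L50265 rfl
theorem L50273 : sm gc N1077 = N1025 := trfs L50266 L10078 rfl
theorem L50274 : N1025 = N2201 := eqes L50273 (flp_c L10637)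
theorem L50275 : N2201 = N1025 := (eqc rfl L50274 rfl).symm
theorem L50279 : sm ge N1077 = N4327 := trfs L50266 (flp_e L20856) rfl
theorem L50280 : N4327 = N2185 := eqes L50279 (flp_e L10553)
theorem L50281 : N4327 = N2185 := eqc rfl L50280 rfl
theorem L50283 : sm gg N1077 = N1024 := trfs L50266 (flp_g L10076) rfl
theorem L50284 : N1024 = N541 := eqes L50283 (flp_g L5338)
theorem L50285 : N1024 = N541 := eqc rfl L50284 rfl
theorem L50289 : sm gb N541 = N541 := trfs L50285 L5097 L50285
theorem L50290 : N541 = N1075 := eqes L50289 L5330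
theorem L50291 : N1075 = N541 := (eqc rfl L50290 rfl).symm
theorem L50292 : sm gc N541 = N517 := trfs L50285 (flp_c L5093) rfl
theorem L50293 : N517 = N1076 := eqes L50292 L5334
theorem L50294 : N1076 = N517 := (eqc rfl L50293 rfl).symm
theorem L50298 : sm ge N541 = N2077 := trfs L50285 (flp_e L10027) rfl
theorem L50299 : N2077 = N1069 := eqes L50298 (flp_e L5304)
theorem L50300 : N2077 = N1069 := eqc rfl L50299 rfl
theorem L50301 : sm gf N541 = N542 := trfs L50285 L5095 rfl
theorem L50302 : N542 = N1023 := eqes L50301 (flp_f L5091)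
theorem L50303 : N1023 = N542 := (eqc rfl L50302 rfl).symm
theorem L50313 : sm ge N542 = N2076 := trfs L50303 (flp_e L10021) rfl
theorem L50314 : N2076 = N1070 := eqes L50313 (flp_e L5308)
theorem L50315 : N2076 = N1070 := eqc rfl L50314 rfl
theorem L50316 : sm gf N542 = N541 := trfs L50303 L5091 rfl
theorem L50318 : sm gg N542 = N1080 := trfs L50303 (flp_g L5360) rfl
theorem L50319 : N1080 = N1079 := eqes L50318 L5350
theorem L50320 : N1080 = N1079 := eqc rfl L50319 rfl
theorem L50323 : sm gb N1079 = N2208 := trfs L50320 L10667 rfl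
theorem L50324 : N2208 = N2206 := eqes L50323 L10655
theorem L50325 : N2208 = N2206 := eqc rfl L50324 rfl
theorem L50330 : sm ge N1079 = N2188 := trfs L50320 (flp_e L10571) rfl
theorem L50331 : N2188 = N2187 := eqes L50330 (flp_e L10565)
theorem L50332 : N2188 = N2187 := eqc rfl L50331 rfl
theorem L50344 : sm gd N2187 = N4527 := trfs L50332 (flp_d L21837) rfl
theorem L50345 : N4527 = N4544 := eqes L50344 (flp_d L21933)
theorem L50346 : N4544 = N4527 := (eqc rfl L50345 rfl).symm
theorem L50356 : sm gc N4527 = N9393 := trfs L50346 (flp_c L45637) rfl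
theorem L50357 : N9393 = N9355 := eqes L50356 (flp_c L45419)
theorem L50358 : N9393 = N9355 := eqc rfl L50357 rfl
theorem L50359 : sm gd N4527 = N2187 := trfs L50346 L21933 rfl
theorem L50367 : sm gg N4527 = N2186 := trfs L50346 (flp_g L21931) rfl
theorem L50368 : N2186 = N4316 := eqes L50367 L21841
theorem L50369 : N4316 = N2186 := (eqc rfl L50368 rfl).symm
theorem L50370 : sm ga N2186 = N2072 := trfs L50369 (flp_a L20783) rfl
theorem L50371 : N2072 = N4539 := eqes L50370 (flp_a L21907)
theorem L50372 : N4539 = N2072 := (eqc rfl L50371 rfl).symm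
theorem L50376 : sm gc N2186 = N8943 := trfs L50369 L43426 rfl
theorem L50377 : N8943 = N4542 := eqes L50376 L21923
theorem L50378 : N8943 = N4542 := eqc rfl L50377 rfl
theorem L50380 : sm ge N2186 = N2112 := trfs L50369 L20787 rfl
theorem L50381 : N2112 = N4543 := eqes L50380 L21925
theorem L50382 : N4543 = N2112 := (eqc rfl L50381 rfl).symm
theorem L50383 : sm gf N2186 = N2177 := trfs L50369 L20789 rfl
theorem L50384 : N2177 = N4326 := eqes L50383 (flp_f L20850)
theorem L50385 : N4326 = N2177 := (eqc rfl L50384 rfl).symm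
theorem L50386 : sm gg N2186 = N4527 := trfs L50369 (flp_g L21841) rfl
theorem L50397 : sm ge N2177 = N8964 := trfs L50385 L43551 rfl
theorem L50398 : N8964 = N1092 := eqes L50397 L10511
theorem L50399 : N8964 = N1092 := eqc rfl L50398 rfl
theorem L50400 : sm gf N2177 = N2186 := trfs L50385 L20850 rfl
theorem L50410 : sm gd N1092 = N4346 := trfs L50399 L43556 rfl
theorem L50411 : N4346 = N552 := eqes L50410 L5416
theorem L50412 : N4346 = N552 := eqc rfl L50411 rfl
theorem L50426 : sm gg N552 = N9004 := trfs L50412 L43766 rfl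
theorem L50427 : N9004 = N1100 := eqes L50426 L5444
theorem L50428 : N9004 = N1100 := eqc rfl L50427 rfl
theorem L50433 : sm gf N1100 = N9459 := trfs L50428 (flp_f L45982) rfl
theorem L50434 : N9459 = N1041 := eqes L50433 L5450
theorem L50435 : N9459 = N1041 := eqc rfl L50434 rfl
theorem L50442 : sm gg N1041 = N4575 := trfs L50435 (flp_g L45976) rfl
theorem L50443 : N4575 = N524 := eqes L50442 (flp_g L5177)
theorem L50444 : N4575 = N524 := eqc rfl L50443 rfl
theorem L50455 : sm ge N524 = N2200 := trfs L50444 (flp_e L22089) rfl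
theorem L50456 : N2200 = N268 := eqes L50455 L2681
theorem L50457 : N2200 = N268 := eqc rfl L50456 rfl
theorem L50467 : sm gf N268 = N4344 := trfs L50457 (flp_f L20944) rfl
theorem L50468 : N4344 = N138 := eqes L50467 L1380
theorem L50469 : N4344 = N138 := eqc rfl L50468 rfl
theorem L50480 : sm gg N138 = N4585 := trfs L50469 (flp_g L22141) rfl
theorem L50481 : N4585 = N284 := eqes L50480 L1458
theorem L50482 : N4585 = N284 := eqc rfl L50481 rfl
theorem L50487 : sm gc N284 = N9206 := trfs L50482 (flp_c L44719) rfl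
theorem L50488 : N9206 = N562 := eqes L50487 (flp_c L2857)
theorem L50489 : N9206 = N562 := eqc rfl L50488 rfl
theorem L50496 : sm gd N562 = N4456 := trfs L50489 L44721 rfl
theorem L50497 : N4456 = N1120 := eqes L50496 (flp_d L5541)
theorem L50498 : N4456 = N1120 := eqc rfl L50497 rfl
theorem L50499 : sm gf N562 = N4582 := trfs L50489 (flp_f L44723) rfl
theorem L50500 : N4582 = N1122 := eqes L50499 L5547
theorem L50501 : N4582 = N1122 := eqc rfl L50500 rfl
theorem L50510 : sm gd N1122 = N4758 := trfs L50501 (flp_d L23000) rfl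
theorem L50511 : N4758 = N2299 := eqes L50510 (flp_d L11129)
theorem L50512 : N4758 = N2299 := eqc rfl L50511 rfl
theorem L50516 : sm gg N1122 = N2203 := trfs L50501 (flp_g L22121) rfl
theorem L50517 : N2203 = N1048 := eqes L50516 L5553
theorem L50518 : N2203 = N1048 := eqc rfl L50517 rfl
theorem L50524 : sm gd N1048 = N2288 := trfs L50518 L11062 rfl
theorem L50525 : N2288 = N2138 := eqes L50524 L10326
theorem L50526 : N2288 = N2138 := eqc rfl L50525 rfl
theorem L50527 : sm ge N1048 = N4581 := trfs L50518 L22117 rfl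
theorem L50528 : N4581 = N2121 := eqes L50527 (flp_e L10232)
theorem L50529 : N4581 = N2121 := eqc rfl L50528 rfl
theorem L50532 : sm gb N2121 = N9467 := trfs L50529 (flp_b L46012) rfl
theorem L50533 : N9467 = N2121 := eqes L50532 L10236
theorem L50534 : N9467 = N2121 := eqc rfl L50533 rfl
theorem L50541 : sm gc N2121 = N5353 := trfs L50534 L46014 rfl
theorem L50542 : N5353 = N1039 := eqes L50541 (flp_c L10228)
theorem L50543 : N5353 = N1039 := eqc rfl L50542 rfl
theorem L50545 : sm gb N1039 = N2578 := trfs L50543 L26018 rfl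
theorem L50546 : N2578 = N2120 := eqes L50545 L10223
theorem L50547 : N2578 = N2120 := eqc rfl L50546 rfl
theorem L50549 : sm ga N2120 = N1253 := trfs L50547 L12490 rfl
theorem L50550 : N1253 = N2120 := eqes L50549 L48170
theorem L50551 : N2120 = N1253 := (eqc rfl L50550 rfl).symm
theorem L50552 : N2578 = N1253 := L50547.trans L50551
theorem L50561 : sm gg N1253 = N5358 := trfs L50552 L26043 rfl
theorem L50562 : N5358 = N2584 := eqes L50561 L12519
theorem L50563 : N5358 = N2584 := eqc rfl L50562 rfl
theorem L50566 : sm ge N2584 = N2579 := trfs L50563 L26049 rfl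
theorem L50567 : N2579 = N1254 := eqes L50566 L12521
theorem L50568 : N2579 = N1254 := eqc rfl L50567 rfl
theorem L50575 : sm gd N1254 = N1251 := trfs L50568 L12501 rfl
theorem L50576 : N1251 = N630 := eqes L50575 L6181
theorem L50577 : N1251 = N630 := eqc rfl L50576 rfl
theorem L50591 : sm gg N630 = N627 := trfs L50577 (flp_g L6164) rfl
theorem L50592 : N627 = N320 := eqes L50591 (flp_g L3206)
theorem L50593 : N627 = N320 := eqc rfl L50592 rfl
theorem L50594 : sm ga N320 = N320 := trfs L50593 L3192 rfl
theorem L50599 : sm ge N320 = N1228 := trfs L50593 (flp_e L6050) rfl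
theorem L50600 : N1228 = N619 := eqes L50599 (flp_e L3157)
theorem L50601 : N1228 = N619 := eqc rfl L50600 rfl
theorem L50603 : sm ga N619 = N619 := trfs L50601 L6048 rfl
theorem L50604 : sm gb N619 = N2526 := trfs L50601 L12224 rfl
theorem L50605 : N2526 = N1070 := eqes L50604 (flp_b L5310)
theorem L50606 : N2526 = N1070 := eqc rfl L50605 rfl
theorem L50608 : sm gd N619 = N2527 := trfs L50601 L12228 rfl
theorem L50609 : N2527 = N1230 := eqes L50608 L6061
theorem L50610 : N2527 = N1230 := eqc rfl L50609 rfl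
theorem L50617 : sm gc N1230 = N5249 := trfs L50610 L25461 rfl
theorem L50618 : N5249 = N2530 := eqes L50617 L12247
theorem L50619 : N5249 = N2530 := eqc rfl L50618 rfl
theorem L50629 : sm gd N2530 = N5201 := trfs L50619 (flp_d L25466) rfl
theorem L50630 : N5201 = N5257 := eqes L50629 L25503
theorem L50631 : N5257 = N5201 := (eqc rfl L50630 rfl).symm
theorem L50633 : sm ga N5201 = N5201 := trfs L50631 L25505 rfl
theorem L50634 : sm gc N5201 = N5198 := trfs L50631 (flp_c L25508) rfl
theorem L50635 : N5198 = N2507 := eqes L50634 (flp_c L25180)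
theorem L50636 : N5198 = N2507 := eqc rfl L50635 rfl
theorem L50637 : sm gd N5201 = N2530 := trfs L50631 (flp_d L25503) rfl
theorem L50640 : sm ga N2507 = N2507 := trfs L50636 L25161 rfl
theorem L50641 : sm gd N2507 = N2505 := trfs L50636 (flp_d L25159) rfl
theorem L50642 : N2505 = N1220 := eqes L50641 (flp_d L12114)
theorem L50643 : N2505 = N1220 := eqc rfl L50642 rfl
theorem L50645 : sm ga N1220 = N1220 := trfs L50643 L12099 rfl
theorem L50649 : sm gc N1220 = N1219 := trfs L50643 (flp_c L12097) rfl
theorem L50650 : N1219 = N614 := eqes L50649 (flp_c L6001)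
theorem L50651 : N1219 = N614 := eqc rfl L50650 rfl
theorem L50652 : sm ge N1220 = N1301 := trfs L50643 L12101 rfl
theorem L50653 : N1301 = N652 := eqes L50652 L6003
theorem L50654 : N1301 = N652 := eqc rfl L50653 rfl
theorem L50656 : sm gg N1220 = N5199 := trfs L50643 L25164 rfl
theorem L50657 : N5199 = N2508 := eqes L50656 L12117
theorem L50658 : N5199 = N2508 := eqc rfl L50657 rfl
theorem L50659 : sm ga N2508 = N2508 := trfs L50658 L25166 rfl
theorem L50660 : sm gc N2508 = N2506 := trfs L50658 L25168 rfl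
theorem L50661 : N2506 = N1221 := eqes L50660 L12119
theorem L50662 : N2506 = N1221 := eqc rfl L50661 rfl
theorem L50663 : sm ge N2508 = N2690 := trfs L50658 L25170 rfl
theorem L50664 : N2690 = N1304 := eqes L50663 L12121
theorem L50665 : N2690 = N1304 := eqc rfl L50664 rfl
theorem L50666 : sm gf N2508 = N2508 := trfs L50658 (flp_f L25172) rfl
theorem L50667 : sm ga N1304 = N1304 := trfs L50665 L12966 rfl
theorem L50671 : sm gc N1304 = N1302 := trfs L50665 L12968 rfl
theorem L50672 : N1302 = N653 := eqes L50671 L6396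
theorem L50673 : N1302 = N653 := eqc rfl L50672 rfl
theorem L50674 : sm gd N1304 = N5586 := trfs L50665 (flp_d L27015) rfl
theorem L50675 : N5586 = N2693 := eqes L50674 (flp_d L12981)
theorem L50676 : N5586 = N2693 := eqc rfl L50675 rfl
theorem L50677 : sm gf N1304 = N1304 := trfs L50665 (flp_f L12970) rfl
theorem L50679 : sm ga N2693 = N2693 := trfs L50676 L27011 rfl
theorem L50680 : sm gc N2693 = N2693 := trfs L50676 L27013 rfl
theorem L50681 : sm gf N2693 = N2693 := trfs L50676 (flp_f L27017) rfl
theorem L50682 : sm gg N2693 = N2689 := trfs L50676 (flp_g L27009) rfl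
theorem L50683 : N2689 = N1303 := eqes L50682 (flp_g L12979)
theorem L50684 : N2689 = N1303 := eqc rfl L50683 rfl
theorem L50685 : sm ga N1303 = N1303 := trfs L50684 L12959 rfl
theorem L50686 : sm gb N1303 = N5582 := trfs L50684 (flp_b L26995) rfl
theorem L50687 : N5582 = N2667 := eqes L50686 (flp_b L12868)
theorem L50688 : N5582 = N2667 := eqc rfl L50687 rfl
theorem L50689 : sm gc N1303 = N1303 := trfs L50684 (flp_c L12962) rfl
theorem L50691 : sm ge N1303 = N5585 := trfs L50684 L27002 rfl
theorem L50692 : N5585 = N2692 := eqes L50691 L12976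
theorem L50693 : N5585 = N2692 := eqc rfl L50692 rfl
theorem L50695 : sm ga N2692 = N2692 := trfs L50693 L27004 rfl
theorem L50696 : sm gc N2692 = N2692 := trfs L50693 L27006 rfl
theorem L50698 : sm gd N2667 = N2688 := trfs L50688 (flp_d L26993) rfl
theorem L50699 : N2688 = N1293 := eqes L50698 (flp_d L12866)
theorem L50700 : N2688 = N1293 := eqc rfl L50699 rfl
theorem L50705 : sm gc N1293 = N5574 := trfs L50700 (flp_c L26959) rfl
theorem L50706 : N5574 = N647 := eqes L50705 (flp_c L6354)
theorem L50707 : N5574 = N647 := eqc rfl L50706 rfl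
theorem L50716 : sm gb N647 = N2685 := trfs L50707 (flp_b L26957) rfl
theorem L50717 : N2685 = N328 := eqes L50716 (flp_b L3281)
theorem L50718 : N2685 = N328 := eqc rfl L50717 rfl
theorem L50734 : sm gg N328 = N5577 := trfs L50718 L26967 rfl
theorem L50735 : N5577 = N648 := eqes L50734 L3283
theorem L50736 : N5577 = N648 := eqc rfl L50735 rfl
theorem L50737 : sm gc N648 = N2687 := trfs L50736 L26969 rfl
theorem L50738 : N2687 = N331 := eqes L50737 L3285
theorem L50739 : N2687 = N331 := eqc rfl L50738 rfl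
theorem L50746 : sm gd N331 = N1321 := trfs L50739 L12953 rfl
theorem L50747 : N1321 = N167 := eqes L50746 L1687
theorem L50748 : N1321 = N167 := eqc rfl L50747 rfl
theorem L50776 : sm gb N167 = N2731 := trfs L50748 L13157 rfl
theorem L50777 : N2731 = N336 := eqes L50776 L1715
theorem L50778 : N2731 = N336 := eqc rfl L50777 rfl
theorem L50794 : sm gg N336 = N1322 := trfs L50778 L13161 rfl
theorem L50795 : N1322 = N661 := eqes L50794 (flp_g L3350)
theorem L50796 : N1322 = N661 := eqc rfl L50795 rfl
theorem L50800 : sm gb N661 = N660 := trfs L50796 (flp_b L6476) rfl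
theorem L50801 : N660 = N335 := eqes L50800 (flp_b L3346)
theorem L50802 : N660 = N335 := eqc rfl L50801 rfl
theorem L50809 : sm ge N661 = N675 := trfs L50796 L6478 rfl
theorem L50810 : N675 = N342 := eqes L50809 L3348
theorem L50811 : N675 = N342 := eqc rfl L50810 rfl
theorem L50812 : sm gf N661 = N2735 := trfs L50796 L13180 rfl
theorem L50813 : N2735 = N1325 := eqes L50812 L6493
theorem L50814 : N2735 = N1325 := eqc rfl L50813 rfl
theorem L50828 : sm gg N1325 = N4446 := trfs L50814 (flp_g L21450) rfl
theorem L50829 : N4446 = N1328 := eqes L50828 L6513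
theorem L50830 : N4446 = N1328 := eqc rfl L50829 rfl
theorem L50832 : sm gb N1328 = N2133 := trfs L50830 (flp_b L21446) rfl
theorem L50833 : N2133 = N2747 := eqes L50832 L13245
theorem L50834 : N2747 = N2133 := (eqc rfl L50833 rfl).symm
theorem L50841 : sm ge N1328 = N2164 := trfs L50830 L21448 rfl
theorem L50842 : N2164 = N681 := eqes L50841 L6511
theorem L50843 : N2164 = N681 := eqc rfl L50842 rfl
theorem L50846 : sm gb N681 = N1060 := trfs L50843 (flp_b L10439) rfl
theorem L50847 : N1060 = N1369 := eqes L50846 L6693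
theorem L50848 : N1369 = N1060 := (eqc rfl L50847 rfl).symm
theorem L50852 : sm gd N681 = N4369 := trfs L50843 (flp_d L21066) rfl
theorem L50853 : N4369 = N1261 := eqes L50852 (flp_d L6211)
theorem L50854 : N4369 = N1261 := eqc rfl L50853 rfl
theorem L50855 : sm gf N681 = N2797 := trfs L50843 (flp_f L13525) rfl
theorem L50856 : N2797 = N343 := eqes L50855 (flp_f L3432)
theorem L50857 : N2797 = N343 := eqc rfl L50856 rfl
theorem L50868 : sm gg N343 = N1355 := trfs L50857 L13523 rfl
theorem L50869 : N1355 = N676 := eqes L50868 (flp_g L3417)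
theorem L50870 : N1355 = N676 := eqc rfl L50869 rfl
theorem L50878 : sm gd N676 = N2581 := trfs L50870 (flp_d L12509) rfl
theorem L50879 : N2581 = N1256 := eqes L50878 (flp_d L6187)
theorem L50880 : N2581 = N1256 := eqc rfl L50879 rfl
theorem L50886 : sm gb N1256 = N4260 := trfs L50880 L20511 rfl
theorem L50887 : N4260 = N2589 := eqes L50886 L12535
theorem L50888 : N4260 = N2589 := eqc rfl L50887 rfl
theorem L50895 : sm gf N1256 = N5364 := trfs L50880 L26071 rfl
theorem L50896 : N5364 = N1264 := eqes L50895 L6227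
theorem L50897 : N5364 = N1264 := eqc rfl L50896 rfl
theorem L50899 : sm ga N1264 = N2583 := trfs L50897 L26073 rfl
theorem L50900 : N2583 = N1258 := eqes L50899 L6223
theorem L50901 : N2583 = N1258 := eqc rfl L50900 rfl
theorem L50910 : sm ge N1258 = N5255 := trfs L50901 (flp_e L25497) rfl
theorem L50911 : N5255 = N2536 := eqes L50910 (flp_e L12277)
theorem L50912 : N5255 = N2536 := eqc rfl L50911 rfl
theorem L50919 : sm gg N2536 = N8987 := trfs L50912 (flp_g L43689) rfl
theorem L50920 : N8987 = N2539 := eqes L50919 L12295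
theorem L50921 : N8987 = N2539 := eqc rfl L50920 rfl
theorem L50922 : sm gb N2539 = N4337 := trfs L50921 (flp_b L43685) rfl
theorem L50923 : N4337 = N5276 := eqes L50922 L25601
theorem L50924 : N5276 = N4337 := (eqc rfl L50923 rfl).symm
theorem L50927 : sm gb N4337 = N2539 := trfs L50924 (flp_b L25601) rfl
theorem L50929 : sm ge N4337 = N2600 := trfs L50924 L25603 rfl
theorem L50930 : N2600 = N2097 := eqes L50929 L20910
theorem L50931 : N2600 = N2097 := eqc rfl L50930 rfl
theorem L50933 : sm gg N4337 = N4337 := trfs L50924 (flp_g L25607) rfl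
theorem L50934 : sm ga N2097 = N2099 := trfs L50931 (flp_a L12587) rfl
theorem L50935 : N2099 = N1030 := eqes L50934 (flp_a L10124)
theorem L50936 : N2099 = N1030 := eqc rfl L50935 rfl
theorem L50939 : sm gc N2097 = N5400 := trfs L50931 L26227 rfl
theorem L50940 : N5400 = N4370 := eqes L50939 L21070
theorem L50941 : N5400 = N4370 := eqc rfl L50940 rfl
theorem L50943 : sm gf N2097 = N4368 := trfs L50931 L21060 rfl
theorem L50944 : N4368 = N4366 := eqes L50943 (flp_f L21048)
theorem L50945 : N4368 = N4366 := eqc rfl L50944 rfl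
theorem L50946 : sm gg N2097 = N2097 := trfs L50931 (flp_g L12589) rfl
theorem L50952 : sm gc N4366 = N9039 := trfs L50945 (flp_c L43916) rfl
theorem L50953 : N9039 = N9037 := eqes L50952 L43904
theorem L50954 : N9039 = N9037 := eqc rfl L50953 rfl
theorem L50959 : sm ga N9037 = N9047 := trfs L50954 (flp_a L43946) rfl
theorem L50960 : N9047 = N4367 := eqes L50959 L43906
theorem L50961 : N9047 = N4367 := eqc rfl L50960 rfl
theorem L50966 : sm gf N4367 = N4372 := trfs L50961 (flp_f L43944) rfl
theorem L50967 : N4372 = N2098 := eqes L50966 L21054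
theorem L50968 : N4372 = N2098 := eqc rfl L50967 rfl
theorem L50972 : sm gb N2098 = N9046 := trfs L50968 L43939 rfl
theorem L50973 : N9046 = N2098 := eqes L50972 L10130
theorem L50974 : N9046 = N2098 := eqc rfl L50973 rfl
theorem L50979 : sm ge N2098 = N8990 := trfs L50968 (flp_e L43704) rfl
theorem L50980 : N8990 = N4338 := eqes L50979 (flp_e L20914)
theorem L50981 : N8990 = N4338 := eqc rfl L50980 rfl
theorem L50982 : sm gg N2098 = N2098 := trfs L50968 (flp_g L21077) rfl
theorem L50984 : sm gg N4338 = N4338 := trfs L50981 (flp_g L43700) rfl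
theorem L50986 : sm gc N2098 = N8832 := trfs L50974 L43941 rfl
theorem L50987 : N8832 = N1030 := eqes L50986 (flp_c L10128)
theorem L50988 : N8832 = N1030 := eqc rfl L50987 rfl
theorem L50990 : sm gb N1030 = N4253 := trfs L50988 (flp_b L42843) rfl
theorem L50991 : N4253 = N520 := eqes L50990 (flp_b L5121)
theorem L50992 : N4253 = N520 := eqc rfl L50991 rfl
theorem L51006 : sm gg N520 = N2039 := trfs L50992 (flp_g L20462) rfl
theorem L51007 : N2039 = N507 := eqes L51006 L2667
theorem L51008 : N2039 = N507 := eqc rfl L51007 rfl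
theorem L51021 : sm gf N507 = N4211 := trfs L51008 (flp_f L20197) rfl
theorem L51022 : N4211 = N258 := eqes L51021 (flp_f L2591)
theorem L51023 : N4211 = N258 := eqc rfl L51022 rfl
theorem L51027 : sm gb N258 = N8740 := trfs L51023 (flp_b L42362) rfl
theorem L51028 : N8740 = N502 := eqes L51027 (flp_b L2573)
theorem L51029 : N8740 = N502 := eqc rfl L51028 rfl
theorem L51037 : sm gg N258 = N8762 := trfs L51023 L42476 rfl
theorem L51038 : N8762 = N508 := eqes L51037 L2598
theorem L51039 : N8762 = N508 := eqc rfl L51038 rfl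
theorem L51041 : sm gc N508 = N4212 := trfs L51039 L42478 rfl
theorem L51042 : N4212 = N508 := eqes L51041 L2602
theorem L51043 : N4212 = N508 := eqc rfl L51042 rfl
theorem L51046 : sm gb N508 = N5460 := trfs L51043 (flp_b L26506) rfl
theorem L51047 : N5460 = N1004 := eqes L51046 L5003
theorem L51048 : N5460 = N1004 := eqc rfl L51047 rfl
theorem L51056 : sm gd N1004 = N2861 := trfs L51048 L26500 rfl
theorem L51057 : N2861 = N513 := eqes L51056 L5005
theorem L51058 : N2861 = N513 := eqc rfl L51057 rfl
theorem L51066 : sm gc N513 = N4049 := trfs L51058 L19411 rfl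
theorem L51067 : N4049 = N1014 := eqes L51066 L5039
theorem L51068 : N4049 = N1014 := eqc rfl L51067 rfl
theorem L51072 : sm gf N513 = N2808 := trfs L51058 L13834 rfl
theorem L51073 : N2808 = N1015 := eqes L51072 L5041
theorem L51074 : N2808 = N1015 := eqc rfl L51073 rfl
theorem L51075 : sm ga N1015 = N2863 := trfs L51074 (flp_a L13842) rfl
theorem L51076 : N2863 = N2064 := eqes L51075 (flp_a L9949)
theorem L51077 : N2863 = N2064 := eqc rfl L51076 rfl
theorem L51079 : sm gc N1015 = N1943 := trfs L51074 (flp_c L13638) rfl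
theorem L51080 : N1943 = N2066 := eqes L51079 (flp_c L9957)
theorem L51081 : N2066 = N1943 := (eqc rfl L51080 rfl).symm
theorem L51092 : sm gc N1943 = N1015 := trfs L51081 L9957 rfl
theorem L51094 : sm gd N1943 = N4302 := trfs L51081 (flp_d L20711) rfl
theorem L51095 : N4302 = N3894 := eqes L51094 (flp_d L18719)
theorem L51096 : N4302 = N3894 := eqc rfl L51095 rfl
theorem L51102 : sm gg N1943 = N4304 := trfs L51081 L20715 rfl
theorem L51103 : N4304 = N2806 := eqes L51102 (flp_g L13640)
theorem L51104 : N4304 = N2806 := eqc rfl L51103 rfl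
theorem L51118 : sm gf N2806 = N4234 := trfs L51104 (flp_f L20721) rfl
theorem L51119 : N4234 = N3272 := eqes L51118 (flp_f L49244)
theorem L51120 : N4234 = N3272 := eqc rfl L51119 rfl
theorem L51129 : sm gd N3272 = N8794 := trfs L51120 L42630 rfl
theorem L51130 : N8794 = N6729 := eqes L51129 (flp_d L32450)
theorem L51131 : N8794 = N6729 := eqc rfl L51130 rfl
theorem L51132 : sm ge N3272 = N8787 := trfs L51120 (flp_e L42594) rfl
theorem L51133 : N8787 = N6764 := eqes L51132 (flp_e L32618)
theorem L51134 : N8787 = N6764 := eqc rfl L51133 rfl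
theorem L51135 : sm gg N3272 = N2063 := trfs L51120 L20365 rfl
theorem L51136 : N2063 = N2862 := eqes L51135 (flp_g L49258)
theorem L51137 : N2862 = N2063 := (eqc rfl L51136 rfl).symm
theorem L51139 : sm gb N2063 = N3343 := trfs L51137 L28656 L49254
theorem L51140 : N3343 = N3758 := eqes L51139 (flp_b L37817)
theorem L51141 : N3758 = N3343 := (eqc rfl L51140 rfl).symm
theorem L51146 : sm ge N2063 = N5735 := trfs L51137 (flp_e L27808) rfl
theorem L51147 : N5735 = N4283 := eqes L51146 (flp_e L20621)
theorem L51148 : N5735 = N4283 := eqc rfl L51147 rfl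
theorem L51151 : sm gg N2063 = N3272 := trfs L51137 L49258 rfl
theorem L51159 : sm gf N4283 = N8324 := trfs L51148 (flp_f L40229) rfl
theorem L51160 : N8324 = N8887 := eqes L51159 L43114
theorem L51161 : N8887 = N8324 := (eqc rfl L51160 rfl).symm
theorem L51163 : sm gc N8324 = N4284 := trfs L51161 L43118 rfl
theorem L51164 : N4284 = N5736 := eqes L51163 L40225
theorem L51165 : N5736 = N4284 := (eqc rfl L51164 rfl).symm
theorem L51167 : sm gf N8324 = N4283 := trfs L51161 (flp_f L43114) rfl
theorem L51179 : sm gg N4284 = N5678 := trfs L51165 L27816 rfl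
theorem L51180 : N5678 = N4230 := eqes L51179 (flp_g L20629)
theorem L51181 : N5678 = N4230 := eqc rfl L51180 rfl
theorem L51182 : sm ga N4230 = N2736 := trfs L51181 (flp_a L27456) rfl
theorem L51183 : N2736 = N4287 := eqes L51182 (flp_a L20641)
theorem L51184 : N4287 = N2736 := (eqc rfl L51183 rfl).symm
theorem L51186 : sm ge N4230 = N2805 := trfs L51181 L27458 rfl
theorem L51187 : N2805 = N2032 := eqes L51186 L20297
theorem L51188 : N2805 = N2032 := eqc rfl L51187 rfl
theorem L51193 : sm gd N2032 = N5377 := trfs L51188 (flp_d L26129) rfl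
theorem L51194 : N5377 = N4216 := eqes L51193 (flp_d L20221)
theorem L51195 : N5377 = N4216 := eqc rfl L51194 rfl
theorem L51233 : sm gg N4216 = N5462 := trfs L51195 (flp_g L26516) rfl
theorem L51234 : N5462 = N4257 := eqes L51233 L20494
theorem L51235 : N5462 = N4257 := eqc rfl L51234 rfl
theorem L51237 : sm gb N4257 = N2638 := trfs L51235 L26518 rfl
theorem L51238 : N2638 = N4578 := eqes L51237 (flp_b L22109)
theorem L51239 : N4578 = N2638 := (eqc rfl L51238 rfl).symm
theorem L51245 : sm gb N2638 = N4257 := trfs L51239 L22109 rfl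
theorem L51247 : sm gc N2638 = N9464 := trfs L51239 L45998 rfl
theorem L51248 : N9464 = N5473 := eqes L51247 (flp_c L26564)
theorem L51249 : N9464 = N5473 := eqc rfl L51248 rfl
theorem L51256 : sm gf N2638 = N5470 := trfs L51239 L26552 rfl
theorem L51257 : N5470 = N1279 := eqes L51256 (flp_f L12753)
theorem L51258 : N5470 = N1279 := eqc rfl L51257 rfl
theorem L51264 : sm gd N1279 = N2871 := trfs L51258 L26550 rfl
theorem L51265 : N2871 = N693 := eqes L51264 L6290
theorem L51266 : N2871 = N693 := eqc rfl L51265 rfl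
theorem L51273 : sm gc N693 = N5928 := trfs L51266 (flp_c L28735) rfl
theorem L51274 : N5928 = N1393 := eqes L51273 L6790
theorem L51275 : N5928 = N1393 := eqc rfl L51274 rfl
theorem L51276 : sm ge N693 = N5744 := trfs L51266 (flp_e L27860) rfl
theorem L51277 : N5744 = N1340 := eqes L51276 (flp_e L6574)
theorem L51278 : N5744 = N1340 := eqc rfl L51277 rfl
theorem L51282 : sm ga N1340 = N2773 := trfs L51278 L27858 rfl
theorem L51283 : N2773 = N2770 := eqes L51282 L13380
theorem L51284 : N2773 = N2770 := eqc rfl L51283 rfl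
theorem L51285 : sm gb N1340 = N4711 := trfs L51278 L27864 rfl
theorem L51286 : N4711 = N668 := eqes L51285 (flp_b L6572)
theorem L51287 : N4711 = N668 := eqc rfl L51286 rfl
theorem L51304 : sm gg N668 = N2264 := trfs L51287 (flp_g L22754) rfl
theorem L51305 : N2264 = N1342 := eqes L51304 L6582
theorem L51306 : N2264 = N1342 := eqc rfl L51305 rfl
theorem L51318 : sm gf N1342 = N1104 := trfs L51306 (flp_f L10942) rfl
theorem L51319 : N1104 = N1339 := eqes L51318 L6588
theorem L51320 : N1339 = N1104 := (eqc rfl L51319 rfl).symm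
theorem L51325 : sm gc N1104 = N2769 := trfs L51320 (flp_c L13376) rfl
theorem L51326 : N2769 = N2263 := eqes L51325 L10938
theorem L51327 : N2769 = N2263 := eqc rfl L51326 rfl
theorem L51329 : sm ge N1104 = N692 := trfs L51320 L6570 rfl
theorem L51330 : N692 = N564 := eqes L51329 L5472
theorem L51331 : N692 = N564 := eqc rfl L51330 rfl
theorem L51332 : sm gf N1104 = N1342 := trfs L51320 (flp_f L6588) rfl
theorem L51334 : sm gg N1104 = N667 := trfs L51320 (flp_g L6568) rfl
theorem L51335 : N667 = N2265 := eqes L51334 L10946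
theorem L51336 : N2265 = N667 := (eqc rfl L51335 rfl).symm
theorem L51345 : sm ge N667 = N1127 := trfs L51336 L10948 rfl
theorem L51346 : N1127 = N348 := eqes L51345 L3383
theorem L51347 : N1127 = N348 := eqc rfl L51346 rfl
theorem L51349 : sm gg N667 = N1104 := trfs L51336 (flp_g L10946) rfl
theorem L51355 : sm gc N348 = N2310 := trfs L51347 (flp_c L11172) rfl
theorem L51356 : N2310 = N691 := eqes L51355 L3468
theorem L51357 : N2310 = N691 := eqc rfl L51356 rfl
theorem L51358 : sm gd N348 = N2212 := trfs L51347 (flp_d L10685) rfl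
theorem L51359 : N2212 = N640 := eqes L51358 (flp_d L3254)
theorem L51360 : N2212 = N640 := eqc rfl L51359 rfl
theorem L51371 : sm ge N640 = N4551 := trfs L51360 (flp_e L21971) rfl
theorem L51372 : N4551 = N1241 := eqes L51371 (flp_e L6120)
theorem L51373 : N4551 = N1241 := eqc rfl L51372 rfl
theorem L51387 : sm gf N1241 = N9410 := trfs L51373 L45735 rfl
theorem L51388 : N9410 = N625 := eqes L51387 L6122
theorem L51389 : N9410 = N625 := eqc rfl L51388 rfl
theorem L51397 : sm gg N625 = N9403 := trfs L51389 L45741 rfl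
theorem L51398 : N9403 = N1244 := eqes L51397 L6134
theorem L51399 : N9403 = N1244 := eqc rfl L51398 rfl
theorem L51404 : sm ge N1244 = N4592 := trfs L51399 L45695 rfl
theorem L51405 : N4592 = N643 := eqes L51404 L6136
theorem L51406 : N4592 = N643 := eqc rfl L51405 rfl
theorem L51407 : sm gf N1244 = N4548 := trfs L51399 (flp_f L45691) rfl
theorem L51408 : N4548 = N2563 := eqes L51407 L12413
theorem L51409 : N4548 = N2563 := eqc rfl L51408 rfl
theorem L51414 : sm gc N2563 = N9402 := trfs L51409 L45685 rfl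
theorem L51415 : N9402 = N5329 := eqes L51414 (flp_c L25892)
theorem L51416 : N9402 = N5329 := eqc rfl L51415 rfl
theorem L51417 : sm gd N2563 = N9357 := trfs L51409 (flp_d L45433) rfl
theorem L51418 : N9357 = N5234 := eqes L51417 (flp_d L25374)
theorem L51419 : N9357 = N5234 := eqc rfl L51418 rfl
theorem L51427 : sm ge N5234 = N4660 := trfs L51419 L45435 rfl
theorem L51428 : N4660 = N2723 := eqes L51427 L25376
theorem L51429 : N4660 = N2723 := eqc rfl L51428 rfl
theorem L51434 : sm gc N2723 = N9630 := trfs L51429 L46721 rfl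
theorem L51435 : N9630 = N5655 := eqes L51434 (flp_c L27313)
theorem L51436 : N9630 = N5655 := eqc rfl L51435 rfl
theorem L51451 : sm ga N5655 = N4661 := trfs L51436 L46723 rfl
theorem L51452 : N4661 = N5642 := eqes L51451 L27311
theorem L51453 : N5642 = N4661 := (eqc rfl L51452 rfl).symm
theorem L51454 : sm ga N4661 = N5655 := trfs L51453 (flp_a L27311) rfl
theorem L51460 : sm gg N4661 = N2716 := trfs L51453 (flp_g L27253) rfl
theorem L51461 : N2716 = N9635 := eqes L51460 L46743
theorem L51462 : N9635 = N2716 := (eqc rfl L51461 rfl).symm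
theorem L51464 : sm gg N2716 = N4661 := trfs L51462 (flp_g L46743) rfl
theorem L51485 : sm ge N5329 = N4591 := trfs L51416 L45689 rfl
theorem L51486 : N4591 = N2648 := eqes L51485 L25894
theorem L51487 : N4591 = N2648 := eqc rfl L51486 rfl
theorem L51488 : sm ga N2648 = N2210 := trfs L51487 L22163 rfl
theorem L51489 : N2210 = N2635 := eqes L51488 L12803
theorem L51490 : N2635 = N2210 := (eqc rfl L51489 rfl).symm
theorem L51491 : sm gb N2648 = N9487 := trfs L51487 L46099 rfl
theorem L51492 : N9487 = N5491 := eqes L51491 L26642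
theorem L51493 : N9487 = N5491 := eqc rfl L51492 rfl
theorem L51501 : sm gg N2648 = N8834 := trfs L51487 (flp_g L42858) rfl
theorem L51502 : N8834 = N2633 := eqes L51501 L12807
theorem L51503 : N8834 = N2633 := eqc rfl L51502 rfl
theorem L51506 : sm gf N2633 = N9499 := trfs L51503 L46147 rfl
theorem L51507 : N9499 = N1280 := eqes L51506 L12735
theorem L51508 : N9499 = N1280 := eqc rfl L51507 rfl
theorem L51513 : sm gg N1280 = N4595 := trfs L51508 (flp_g L46143) rfl
theorem L51514 : N4595 = N2642 := eqes L51513 L12769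
theorem L51515 : N4595 = N2642 := eqc rfl L51514 rfl
theorem L51523 : sm gd N2642 = N9496 := trfs L51515 (flp_d L46135) rfl
theorem L51524 : N9496 = N5480 := eqes L51523 (flp_d L26590)
theorem L51525 : N9496 = N5480 := eqc rfl L51524 rfl
theorem L51534 : sm gf N5480 = N4594 := trfs L51525 (flp_f L46133) rfl
theorem L51535 : N4594 = N5467 := eqes L51534 L26592
theorem L51536 : N5467 = N4594 := (eqc rfl L51535 rfl).symm
theorem L51540 : sm gf N4594 = N5480 := trfs L51536 (flp_f L26592) rfl
theorem L51542 : sm gg N4594 = N2634 := trfs L51536 (flp_g L26536) rfl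
theorem L51543 : N2634 = N9497 := eqes L51542 L46137
theorem L51544 : N9497 = N2634 := (eqc rfl L51543 rfl).symm
theorem L51546 : sm gg N2634 = N4594 := trfs L51544 (flp_g L46137) rfl
theorem L51561 : sm gc N5491 = N5412 := trfs L51493 L46101 rfl
theorem L51570 : sm gf N2210 = N2642 := trfs L51490 (flp_f L12775) rfl
theorem L51582 : sm gd N643 = N2306 := trfs L51406 L22169 rfl
theorem L51583 : N2306 = N351 := eqes L51582 L3268
theorem L51584 : N2306 = N351 := eqc rfl L51583 rfl
theorem L51593 : sm gf N351 = N1124 := trfs L51584 (flp_f L11154) rfl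
theorem L51594 : N1124 = N698 := eqes L51593 L3495
theorem L51595 : N1124 = N698 := eqc rfl L51594 rfl
theorem L51601 : sm gc N698 = N2305 := trfs L51595 L11150 rfl
theorem L51602 : N2305 = N1404 := eqes L51601 (flp_c L6832)
theorem L51603 : N2305 = N1404 := eqc rfl L51602 rfl
theorem L51607 : sm ga N1404 = N1125 := trfs L51603 L11152 rfl
theorem L51608 : N1125 = N1391 := eqes L51607 L6830
theorem L51609 : N1391 = N1125 := (eqc rfl L51608 rfl).symm
theorem L51610 : sm gb N1404 = N4784 := trfs L51603 L23127 rfl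
theorem L51611 : N4784 = N2894 := eqes L51610 L13982
theorem L51612 : N4784 = N2894 := eqc rfl L51611 rfl
theorem L51616 : sm ge N1404 = N4704 := trfs L51603 (flp_e L22714) rfl
theorem L51617 : N4704 = N2782 := eqes L51616 (flp_e L13452)
theorem L51618 : N4704 = N2782 := eqc rfl L51617 rfl
theorem L51620 : sm gg N1404 = N4296 := trfs L51603 (flp_g L20689) rfl
theorem L51621 : N4296 = N1389 := eqes L51620 L6834
theorem L51622 : N4296 = N1389 := eqc rfl L51621 rfl
theorem L51634 : sm gf N1389 = N4796 := trfs L51622 L23175 rfl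
theorem L51635 : N4796 = N694 := eqes L51634 L6775
theorem L51636 : N4796 = N694 := eqc rfl L51635 rfl
theorem L51642 : sm gg N694 = N2309 := trfs L51636 (flp_g L23171) rfl
theorem L51643 : N2309 = N1398 := eqes L51642 L6802
theorem L51644 : N2309 = N1398 := eqc rfl L51643 rfl
theorem L51650 : sm gd N1398 = N4793 := trfs L51644 (flp_d L23163) rfl
theorem L51651 : N4793 = N2882 := eqes L51650 (flp_d L13924)
theorem L51652 : N4793 = N2882 := eqc rfl L51651 rfl
theorem L51656 : sm gf N2882 = N2308 := trfs L51652 (flp_f L23161) rfl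
theorem L51657 : N2308 = N2868 := eqes L51656 L13926
theorem L51658 : N2868 = N2308 := (eqc rfl L51657 rfl).symm
theorem L51661 : sm gb N2308 = N5923 := trfs L51658 L28713 rfl
theorem L51662 : N5923 = N4788 := eqes L51661 (flp_b L23147)
theorem L51663 : N5923 = N4788 := eqc rfl L51662 rfl
theorem L51668 : sm ge N2308 = N5922 := trfs L51658 (flp_e L28711) rfl
theorem L51669 : N5922 = N4792 := eqes L51668 L23159
theorem L51670 : N5922 = N4792 := eqc rfl L51669 rfl
theorem L51671 : sm gf N2308 = N2882 := trfs L51658 (flp_f L13926) rfl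
theorem L51673 : sm gg N2308 = N1390 := trfs L51658 (flp_g L13865) rfl
theorem L51674 : N1390 = N4794 := eqes L51673 L23165
theorem L51675 : N4794 = N1390 := (eqc rfl L51674 rfl).symm
theorem L51678 : sm gg N1390 = N2308 := trfs L51675 (flp_g L23165) rfl
theorem L51684 : sm gg N4792 = N2867 := trfs L51670 (flp_g L28709) rfl
theorem L51692 : sm gd N4788 = N2869 := trfs L51663 L28715 rfl
theorem L51693 : N2869 = N2307 := eqes L51692 (flp_d L23145)
theorem L51694 : N2869 = N2307 := eqc rfl L51693 rfl
theorem L51700 : sm gc N2307 = N5909 := trfs L51694 (flp_c L28653) rfl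
theorem L51701 : N5909 = N1128 := eqes L51700 L11162
theorem L51702 : N5909 = N1128 := eqc rfl L51701 rfl
theorem L51709 : sm gg N2307 = N2307 := trfs L51694 L13871 L51694
theorem L51710 : N2307 = N4790 := eqes L51709 L23153
theorem L51711 : N4790 = N2307 := (eqc rfl L51710 rfl).symm
theorem L51712 : sm gc N2307 = N2317 := trfs L51711 L23155 rfl
theorem L51713 : N2317 = N1128 := eqes L51712 L11162
theorem L51714 : N2317 = N1128 := eqc rfl L51713 rfl
theorem L51715 : sm ge N2307 = N9719 := trfs L51711 (flp_e L47200) rfl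
theorem L51716 : N9719 = N4706 := eqes L51715 (flp_e L22726)
theorem L51717 : N9719 = N4706 := eqc rfl L51716 rfl
theorem L51719 : sm gc N4706 = N4716 := trfs L51717 L47198 rfl
theorem L51720 : N4716 = N2266 := eqes L51719 L22728
theorem L51721 : N4716 = N2266 := eqc rfl L51720 rfl
theorem L51726 : sm gb N2266 = N9176 := trfs L51721 (flp_b L44555) rfl
theorem L51727 : N9176 = N1105 := eqes L51726 (flp_b L10950)
theorem L51728 : N9176 = N1105 := eqc rfl L51727 rfl
theorem L51729 : sm gd N2266 = N9736 := trfs L51721 (flp_d L47288) rfl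
theorem L51730 : N9736 = N4714 := eqes L51729 L22774
theorem L51731 : N9736 = N4714 := eqc rfl L51730 rfl
theorem L51733 : sm gf N2266 = N9739 := trfs L51721 L47302 rfl
theorem L51734 : N9739 = N4715 := eqes L51733 L22778
theorem L51735 : N9739 = N4715 := eqc rfl L51734 rfl
theorem L51736 : sm gg N2266 = N2266 := trfs L51721 (flp_g L22782) rfl
theorem L51740 : sm ge N4715 = N4810 := trfs L51735 L47306 rfl
theorem L51741 : N4810 = N2316 := eqes L51740 L22780
theorem L51742 : N4810 = N2316 := eqc rfl L51741 rfl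
theorem L51745 : sm ga N2316 = N4809 := trfs L51742 L23235 rfl
theorem L51746 : N4809 = N4802 := eqes L51745 (flp_a L23205)
theorem L51747 : N4809 = N4802 := eqc rfl L51746 rfl
theorem L51755 : sm gg N4802 = N2316 := trfs L51747 (flp_g L23229) rfl
theorem L51763 : sm gg N4714 = N4714 := trfs L51731 (flp_g L47286) rfl
theorem L51767 : sm gg N1105 = N4437 := trfs L51728 (flp_g L44551) rfl
theorem L51768 : N4437 = N2129 := eqes L51767 (flp_g L10277)
theorem L51769 : N4437 = N2129 := eqc rfl L51768 rfl
theorem L51773 : sm gb N2129 = N2129 := trfs L51769 (flp_b L21396) rfl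
theorem L51780 : sm ge N2129 = N2155 := trfs L51769 L21398 rfl
theorem L51781 : N2155 = N1056 := eqes L51780 L10275
theorem L51782 : N2155 = N1056 := eqc rfl L51781 rfl
theorem L51783 : sm gf N2129 = N9175 := trfs L51769 L44547 rfl
theorem L51784 : N9175 = N2274 := eqes L51783 L10998
theorem L51785 : N9175 = N2274 := eqc rfl L51784 rfl
theorem L51789 : sm ge N2274 = N4479 := trfs L51785 L44549 rfl
theorem L51790 : N4479 = N1136 := eqes L51789 L10996
theorem L51791 : N4479 = N1136 := eqc rfl L51790 rfl
theorem L51795 : sm gb N1136 = N4842 := trfs L51791 (flp_b L23391) rfl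
theorem L51796 : N4842 = N2333 := eqes L51795 L11274
theorem L51797 : N4842 = N2333 := eqc rfl L51796 rfl
theorem L51805 : sm gg N1136 = N9259 := trfs L51791 L44926 rfl
theorem L51806 : N9259 = N568 := eqes L51805 (flp_g L5597)
theorem L51807 : N9259 = N568 := eqc rfl L51806 rfl
theorem L51811 : sm gf N568 = N9254 := trfs L51807 (flp_f L44928) rfl
theorem L51812 : N9254 = N286 := eqes L51811 (flp_f L2881)
theorem L51813 : N9254 = N286 := eqc rfl L51812 rfl
theorem L51815 : sm gg N286 = N4477 := trfs L51813 (flp_g L44906) rfl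
theorem L51816 : N4477 = N533 := eqes L51815 (flp_g L2723)
theorem L51817 : N4477 = N533 := eqc rfl L51816 rfl
theorem L51825 : sm gd N533 = N9252 := trfs L51817 L44898 rfl
theorem L51826 : N9252 = N1057 := eqes L51825 L5243
theorem L51827 : N9252 = N1057 := eqc rfl L51826 rfl
theorem L51830 : sm ga N1057 = N4478 := trfs L51827 L44900 rfl
theorem L51831 : N4478 = N2156 := eqes L51830 (flp_a L10401)
theorem L51832 : N4478 = N2156 := eqc rfl L51831 rfl
theorem L51833 : sm gb N2156 = N2156 := trfs L51832 L21592 rfl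
theorem L51842 : sm gg N2156 = N9258 := trfs L51832 L44920 rfl
theorem L51843 : N9258 = N1129 := eqes L51842 L10403
theorem L51844 : N9258 = N1129 := eqc rfl L51843 rfl
theorem L51845 : sm gb N1129 = N4807 := trfs L51844 L44924 rfl
theorem L51846 : N4807 = N2315 := eqes L51845 (flp_b L11198)
theorem L51847 : N4807 = N2315 := eqc rfl L51846 rfl
theorem L51850 : sm gg N2315 = N2315 := trfs L51847 (flp_g L23221) rfl
theorem L51873 : sm gf N2333 = N2333 := trfs L51797 (flp_f L23389) rfl
theorem L51875 : sm gb N1056 = N1056 := trfs L51782 (flp_b L10397) rfl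
theorem L51883 : sm gg N1128 = N1128 := trfs L51714 (flp_g L11202) rfl
theorem L51888 : sm gb N1128 = N2860 := trfs L51702 (flp_b L28651) rfl
theorem L51889 : N2860 = N565 := eqes L51888 (flp_b L5567)
theorem L51890 : N2860 = N565 := eqc rfl L51889 rfl
theorem L51900 : sm gf N565 = N4465 := trfs L51890 (flp_f L21543) rfl
theorem L51901 : N4465 = N1130 := eqes L51900 L5573
theorem L51902 : N4465 = N1130 := eqc rfl L51901 rfl
theorem L51903 : sm gg N565 = N1386 := trfs L51890 (flp_g L13826) rfl
theorem L51904 : N1386 = N1056 := eqes L51903 (flp_g L5241)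
theorem L51905 : N1386 = N1056 := eqc rfl L51904 rfl
theorem L51917 : sm gf N1056 = N2855 := trfs L51905 (flp_f L13798) rfl
theorem L51918 : N2855 = N1136 := eqes L51917 L5603
theorem L51919 : N2855 = N1136 := eqc rfl L51918 rfl
theorem L51920 : sm ga N1136 = N5901 := trfs L51919 (flp_a L28618) rfl
theorem L51921 : N5901 = N1058 := eqes L51920 L5599
theorem L51922 : N5901 = N1058 := eqc rfl L51921 rfl
theorem L51923 : sm gb N1136 = N5898 := trfs L51919 (flp_b L28610) rfl
theorem L51924 : N5898 = N2333 := eqes L51923 L11274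
theorem L51925 : N5898 = N2333 := eqc rfl L51924 rfl
theorem L51937 : sm gc N2333 = N2850 := trfs L51925 (flp_c L28607) rfl
theorem L51938 : N2850 = N4841 := eqes L51937 L23385
theorem L51939 : N4841 = N2850 := (eqc rfl L51938 rfl).symm
theorem L51944 : sm ge N2850 = N9770 := trfs L51939 (flp_e L47478) rfl
theorem L51945 : N9770 = N5723 := eqes L51944 (flp_e L27715)
theorem L51946 : N9770 = N5723 := eqc rfl L51945 rfl
theorem L51947 : sm gb N5723 = N4733 := trfs L51946 L47480 rfl
theorem L51948 : N4733 = N2758 := eqes L51947 (flp_b L27713)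
theorem L51949 : N4733 = N2758 := eqc rfl L51948 rfl
theorem L51952 : sm ga N2758 = N4702 := trfs L51949 L22876 rfl
theorem L51953 : N4702 = N5717 := eqes L51952 (flp_a L27684)
theorem L51954 : N5717 = N4702 := (eqc rfl L51953 rfl).symm
theorem L51961 : sm gg N2758 = N5713 := trfs L51949 (flp_g L27664) rfl
theorem L51962 : N5713 = N5724 := eqes L51961 L27718
theorem L51963 : N5724 = N5713 := (eqc rfl L51962 rfl).symm
theorem L51964 : sm ga N5713 = N5726 := trfs L51963 (flp_a L27736) rfl
theorem L51965 : N5726 = N9711 := eqes L51964 (flp_a L47146)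
theorem L51966 : N9711 = N5726 := (eqc rfl L51965 rfl).symm
theorem L51969 : sm gf N5713 = N5718 := trfs L51963 (flp_f L27724) rfl
theorem L51973 : sm ga N5726 = N5713 := trfs L51966 L47146 rfl
theorem L51977 : sm ge N5726 = N4782 := trfs L51966 L47150 rfl
theorem L51978 : N4782 = N2853 := eqes L51977 L27740
theorem L51979 : N4782 = N2853 := eqc rfl L51978 rfl
theorem L51986 : sm gg N2853 = N2303 := trfs L51979 (flp_g L23113) rfl
theorem L51987 : N2303 = N2844 := eqes L51986 L13786
theorem L51988 : N2844 = N2303 := (eqc rfl L51987 rfl).symm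
theorem L51995 : sm gd N2303 = N5882 := trfs L51988 (flp_d L28535) rfl
theorem L51996 : N5882 = N4781 := eqes L51995 L23111
theorem L51997 : N5882 = N4781 := eqc rfl L51996 rfl
theorem L52026 : sm ga N4781 = N2848 := trfs L51997 L28533 rfl
theorem L52027 : N2848 = N4843 := eqes L52026 (flp_a L23395)
theorem L52028 : N4843 = N2848 := (eqc rfl L52027 rfl).symm
theorem L52029 : sm gf N4781 = N2843 := trfs L51997 (flp_f L28531) rfl
theorem L52033 : sm ga N2848 = N4781 := trfs L52028 L23395 rfl
theorem L52055 : sm gf N4702 = N2754 := trfs L51954 (flp_f L27682) rfl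
theorem L52068 : sm gb N1058 = N6135 := trfs L51922 L29666 rfl
theorem L52069 : N6135 = N2160 := eqes L52068 L10417
theorem L52070 : N6135 = N2160 := eqc rfl L52069 rfl
theorem L52074 : sm ga N2160 = N2969 := trfs L52070 L29660 rfl
theorem L52075 : N2969 = N4489 := eqes L52074 L21642
theorem L52076 : N4489 = N2969 := (eqc rfl L52075 rfl).symm
theorem L52077 : sm gc N2160 = N6065 := trfs L52070 L29662 rfl
theorem L52078 : N6065 = N4490 := eqes L52077 L21644
theorem L52079 : N6065 = N4490 := eqc rfl L52078 rfl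
theorem L52080 : sm gf N2160 = N2968 := trfs L52070 (flp_f L29658) rfl
theorem L52081 : N2968 = N3767 := eqes L52080 (flp_f L18083)
theorem L52082 : N3767 = N2968 := (eqc rfl L52081 rfl).symm
theorem L52083 : sm gg N2160 = N6128 := trfs L52070 (flp_g L29664) rfl
theorem L52084 : N6128 = N4491 := eqes L52083 L21650
theorem L52085 : N6128 = N4491 := eqc rfl L52084 rfl
theorem L52092 : sm gf N4491 = N2964 := trfs L52085 (flp_f L29634) rfl
theorem L52093 : N2964 = N5825 := eqes L52092 (flp_f L28267)
theorem L52094 : N5825 = N2964 := (eqc rfl L52093 rfl).symm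
theorem L52095 : sm ga N2964 = N2817 := trfs L52094 (flp_a L28263) rfl
theorem L52096 : N2817 = N6127 := eqes L52095 L29628
theorem L52097 : N6127 = N2817 := (eqc rfl L52096 rfl).symm
theorem L52098 : sm gc N2964 = N2821 := trfs L52094 L28265 rfl
theorem L52099 : N2821 = N2940 := eqes L52098 L14292
theorem L52100 : N2940 = N2821 := (eqc rfl L52099 rfl).symm
theorem L52101 : sm gf N2964 = N4491 := trfs L52094 L28267 rfl
theorem L52103 : sm gg N2964 = N7869 := trfs L52094 (flp_g L38032) rfl
theorem L52104 : N7869 = N1440 := eqes L52103 L14294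
theorem L52105 : N7869 = N1440 := eqc rfl L52104 rfl
theorem L52107 : sm gc N1440 = N5836 := trfs L52105 L38028 rfl
theorem L52108 : N5836 = N1426 := eqes L52107 L6993
theorem L52109 : N5836 = N1426 := eqc rfl L52108 rfl
theorem L52111 : sm ga N1426 = N2824 := trfs L52109 L28317 rfl
theorem L52112 : N2824 = N2939 := eqes L52111 L14197
theorem L52113 : N2939 = N2824 := (eqc rfl L52112 rfl).symm
theorem L52114 : sm gf N1426 = N5842 := trfs L52109 L28343 rfl
theorem L52115 : N5842 = N2934 := eqes L52114 (flp_f L14173)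
theorem L52116 : N5842 = N2934 := eqc rfl L52115 rfl
theorem L52122 : sm gg N2934 = N2823 := trfs L52116 (flp_g L28337) rfl
theorem L52123 : N2823 = N6066 := eqes L52122 L29392
theorem L52124 : N6066 = N2823 := (eqc rfl L52123 rfl).symm
theorem L52130 : sm gg N2823 = N2934 := trfs L52124 (flp_g L29392) rfl
theorem L52135 : sm ga N2824 = N1426 := trfs L52113 (flp_a L14197) rfl
theorem L52142 : sm gd N2824 = N6070 := trfs L52113 (flp_d L29406) rfl
theorem L52143 : N6070 = N5840 := eqes L52142 (flp_d L28331)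
theorem L52144 : N6070 = N5840 := eqc rfl L52143 rfl
theorem L52145 : sm ge N2824 = N5998 := trfs L52113 (flp_e L29069) rfl
theorem L52146 : N5998 = N5697 := eqes L52145 (flp_e L27570)
theorem L52147 : N5998 = N5697 := eqc rfl L52146 rfl
theorem L52149 : sm ga N5697 = N2903 := trfs L52147 (flp_a L29067) rfl
theorem L52151 : sm gc N5697 = N6030 := trfs L52147 (flp_c L29235) rfl
theorem L52152 : N6030 = N7803 := eqes L52151 L37500
theorem L52153 : N7803 = N6030 := (eqc rfl L52152 rfl).symm
theorem L52154 : sm gb N6030 = N3734 := trfs L52153 (flp_b L37492) rfl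
theorem L52156 : sm gc N6030 = N5697 := trfs L52153 (flp_c L37500) rfl
theorem L52159 : sm gf N6030 = N4442 := trfs L52153 L37496 rfl
theorem L52161 : sm gg N6030 = N5690 := trfs L52153 L37498 rfl
theorem L52163 : sm ga N5840 = N2938 := trfs L52144 (flp_a L29404) rfl
theorem L52167 : sm gb N2821 = N1433 := trfs L52100 L14201 rfl
theorem L52168 : N1433 = N5833 := eqes L52167 L28299
theorem L52169 : N5833 = N1433 := (eqc rfl L52168 rfl).symm
theorem L52170 : sm gc N2821 = N2964 := trfs L52100 (flp_c L14292) rfl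
theorem L52172 : sm gd N2821 = N6072 := trfs L52100 (flp_d L29412) rfl
theorem L52173 : N6072 = N5834 := eqes L52172 L28303
theorem L52174 : N6072 = N5834 := eqc rfl L52173 rfl
theorem L52175 : sm ge N2821 = N5999 := trfs L52100 (flp_e L29073) rfl
theorem L52176 : N5999 = N5694 := eqes L52175 (flp_e L27558)
theorem L52177 : N5999 = N5694 := eqc rfl L52176 rfl
theorem L52179 : sm gg N2821 = N1426 := trfs L52100 (flp_g L14199) rfl
theorem L52181 : sm gb N5694 = N2910 := trfs L52177 L29075 rfl
theorem L52183 : sm gc N5694 = N6023 := trfs L52177 (flp_c L29186) rfl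
theorem L52185 : sm gg N5694 = N2903 := trfs L52177 (flp_g L29071) rfl
theorem L52187 : sm gb N5834 = N2951 := trfs L52174 L29414 rfl
theorem L52189 : sm gg N5834 = N2938 := trfs L52174 (flp_g L29410) rfl
theorem L52191 : sm ga N1433 = N2926 := trfs L52169 L28301 rfl
theorem L52192 : N2926 = N2953 := eqes L52191 (flp_a L14243)
theorem L52193 : N2953 = N2926 := (eqc rfl L52192 rfl).symm
theorem L52194 : sm gb N1433 = N2821 := trfs L52169 (flp_b L28299) rfl
theorem L52201 : sm gc N2926 = N2426 := trfs L52193 L14245 rfl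
theorem L52202 : N2426 = N6046 := eqes L52201 L29309
theorem L52203 : N6046 = N2426 := (eqc rfl L52202 rfl).symm
theorem L52207 : sm ge N2926 = N6012 := trfs L52193 (flp_e L29125) rfl
theorem L52208 : N6012 = N5982 := eqes L52207 (flp_e L28977)
theorem L52209 : N6012 = N5982 := eqc rfl L52208 rfl
theorem L52210 : sm gf N2926 = N2838 := trfs L52193 L14247 rfl
theorem L52211 : N2838 = N6048 := eqes L52210 L29315
theorem L52212 : N6048 = N2838 := (eqc rfl L52211 rfl).symm
theorem L52213 : sm gg N2926 = N1432 := trfs L52193 (flp_g L14241) rfl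
theorem L52214 : N1432 = N6049 := eqes L52213 L29317
theorem L52215 : N6049 = N1432 := (eqc rfl L52214 rfl).symm
theorem L52216 : sm gg N1432 = N2926 := trfs L52215 (flp_g L29317) rfl
theorem L52218 : sm gf N2838 = N2926 := trfs L52212 (flp_f L29315) rfl
theorem L52220 : sm ga N5982 = N2910 := trfs L52209 L29121 rfl
theorem L52234 : sm gc N2426 = N2926 := trfs L52203 (flp_c L29309) rfl
theorem L52236 : sm ga N2817 = N2964 := trfs L52097 (flp_a L29628) rfl
theorem L52244 : sm gb N2968 = N1815 := trfs L52082 (flp_b L18081) rfl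
theorem L52245 : N1815 = N6134 := eqes L52244 L29656
theorem L52246 : N6134 = N1815 := (eqc rfl L52245 rfl).symm
theorem L52249 : sm gd N2968 = N7868 := trfs L52082 (flp_d L38020) rfl
theorem L52250 : N7868 = N6131 := eqes L52249 (flp_d L29646)
theorem L52251 : N7868 = N6131 := eqc rfl L52250 rfl
theorem L52254 : sm gg N2968 = N2817 := trfs L52082 L18085 rfl
theorem L52256 : sm gb N6131 = N3766 := trfs L52251 (flp_b L38018) rfl
theorem L52258 : sm gf N6131 = N4488 := trfs L52251 L38022 rfl
theorem L52260 : sm gg N6131 = N5826 := trfs L52251 L38024 rfl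
theorem L52262 : sm gb N1815 = N2968 := trfs L52246 (flp_b L29656) rfl
theorem L52264 : sm gf N1815 = N5904 := trfs L52246 L29668 rfl
theorem L52265 : N5904 = N899 := eqes L52264 (flp_f L8797)
theorem L52266 : N5904 = N899 := eqc rfl L52265 rfl
theorem L52271 : sm gg N899 = N6936 := trfs L52266 (flp_g L33459) rfl
theorem L52272 : N6936 = N480 := eqes L52271 L4493
theorem L52273 : N6936 = N480 := eqc rfl L52272 rfl
theorem L52277 : sm gf N480 = N8516 := trfs L52273 (flp_f L41256) rfl
theorem L52278 : N8516 = N955 := eqes L52277 L4737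
theorem L52279 : N8516 = N955 := eqc rfl L52278 rfl
theorem L52280 : sm gc N955 = N4090 := trfs L52279 (flp_c L41254) rfl
theorem L52281 : N4090 = N481 := eqes L52280 L4739
theorem L52282 : N4090 = N481 := eqc rfl L52281 rfl
theorem L52286 : sm gb N481 = N1958 := trfs L52282 (flp_b L19587) rfl
theorem L52287 : N1958 = N956 := eqes L52286 L4741
theorem L52288 : N1958 = N956 := eqc rfl L52287 rfl
theorem L52296 : sm gg N481 = N8517 := trfs L52282 L41258 rfl
theorem L52297 : N8517 = N957 := eqes L52296 L4745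
theorem L52298 : N8517 = N957 := eqc rfl L52297 rfl
theorem L52302 : sm gf N957 = N7849 := trfs L52298 (flp_f L41260) rfl
theorem L52303 : N7849 = N898 := eqes L52302 (flp_f L4749)
theorem L52304 : N7849 = N898 := eqc rfl L52303 rfl
theorem L52309 : sm gg N898 = N6935 := trfs L52304 (flp_g L40553) rfl
theorem L52310 : N6935 = N479 := eqes L52309 L4489
theorem L52311 : N6935 = N479 := eqc rfl L52310 rfl
theorem L52313 : sm gb N479 = N3671 := trfs L52311 L40551 rfl
theorem L52314 : N3671 = N951 := eqes L52313 L4721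
theorem L52315 : N3671 = N951 := eqc rfl L52314 rfl
theorem L52317 : sm ga N951 = N3638 := trfs L52315 L17631 rfl
theorem L52318 : N3638 = N1936 := eqes L52317 L9363
theorem L52319 : N3638 = N1936 := eqc rfl L52318 rfl
theorem L52320 : sm gc N951 = N1936 := trfs L52315 (flp_c L37935) L52319
theorem L52321 : N1936 = N1937 := eqes L52320 L9365
theorem L52322 : N1937 = N1936 := (eqc rfl L52321 rfl).symm
theorem L52323 : sm gd N951 = N7618 := trfs L52315 (flp_d L36600) rfl
theorem L52324 : N7618 = N1868 := eqes L52323 (flp_d L9059)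
theorem L52325 : N7618 = N1868 := eqc rfl L52324 rfl
theorem L52326 : sm ge N951 = N7639 := trfs L52315 (flp_e L36700) rfl
theorem L52327 : N7639 = N1903 := eqes L52326 (flp_e L9219)
theorem L52328 : N7639 = N1903 := eqc rfl L52327 rfl
theorem L52332 : sm gg N951 = N1772 := trfs L52315 (flp_g L17629) rfl
theorem L52333 : N1772 = N1937 := eqes L52332 L20341
theorem L52334 : N1936 = N1772 := (eqc rfl L52333 L52322).symm
theorem L52335 : sm ga N1772 = N951 := trfs L52334 (flp_a L9363) rfl
theorem L52336 : N951 = N3668 := eqes L52335 (flp_a L17617)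
theorem L52337 : N3668 = N951 := (eqc rfl L52336 rfl).symm
theorem L52338 : sm gb N1772 = N3340 := trfs L52334 (flp_b L16076) rfl
theorem L52339 : N3340 = N1811 := eqes L52338 (flp_b L8781)
theorem L52340 : N3340 = N1811 := eqc rfl L52339 rfl
theorem L52344 : sm gd N1772 = N3887 := trfs L52334 (flp_d L18691) rfl
theorem L52345 : N3887 = N3650 := eqes L52344 (flp_d L17523)
theorem L52346 : N3887 = N3650 := eqc rfl L52345 rfl
theorem L52347 : sm ge N1772 = N3968 := trfs L52334 (flp_e L19059) rfl
theorem L52348 : N3968 = N3661 := eqes L52347 (flp_e L17579)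
theorem L52349 : N3968 = N3661 := eqc rfl L52348 rfl
theorem L52350 : sm gf N1772 = N4043 := trfs L52334 L19385 rfl
theorem L52351 : N4043 = N879 := eqes L52350 (flp_f L8585)
theorem L52352 : N4043 = N879 := eqc rfl L52351 rfl
theorem L52356 : N1937 = N1772 := L52322.trans L52334
theorem L52357 : sm ga N879 = N1938 := trfs L52352 L19387 rfl
theorem L52358 : N1938 = N1770 := eqes L52357 L8579
theorem L52359 : N1938 = N1770 := eqc rfl L52358 rfl
theorem L52372 : sm gg N879 = N879 := trfs L52352 (flp_g L20318) L49099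
theorem L52373 : N879 = N1755 := eqes L52372 (flp_g L8503)
theorem L52374 : N1755 = N879 := (eqc rfl L52373 rfl).symm
theorem L52381 : sm gd N879 = N3625 := trfs L52374 (flp_d L17405) rfl
theorem L52382 : N3625 = N1761 := eqes L52381 (flp_d L8539)
theorem L52383 : N3625 = N1761 := eqc rfl L52382 rfl
theorem L52384 : sm ge N879 = N3632 := trfs L52374 (flp_e L17443) rfl
theorem L52385 : N3632 = N1766 := eqes L52384 (flp_e L8563)
theorem L52386 : N3632 = N1766 := eqc rfl L52385 rfl
theorem L52389 : sm gg N879 = N879 := trfs L52374 L8503 rfl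
theorem L52395 : sm gd N1766 = N7575 := trfs L52386 (flp_d L36385) rfl
theorem L52396 : N7575 = N3655 := eqes L52395 (flp_d L17545)
theorem L52397 : N7575 = N3655 := eqc rfl L52396 rfl
theorem L52398 : sm gf N1766 = N7581 := trfs L52386 L36417 rfl
theorem L52399 : N7581 = N3661 := eqes L52398 L17577
theorem L52400 : N7581 = N3661 := eqc rfl L52399 rfl
theorem L52401 : sm gg N1766 = N1766 := trfs L52386 L17445 rfl
theorem L52402 : sm ga N3661 = N1903 := trfs L52400 (flp_a L36698) L52328
theorem L52403 : N1903 = N7636 := eqes L52402 (flp_a L36680)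
theorem L52404 : N7636 = N1903 := (eqc rfl L52403 rfl).symm
theorem L52412 : sm gc N1903 = N3661 := trfs L52404 L37942 rfl
theorem L52413 : N3661 = N3969 := eqes L52412 L19061
theorem L52414 : N3969 = N3661 := (eqc rfl L52413 rfl).symm
theorem L52416 : sm gf N1903 = N3659 := trfs L52404 (flp_f L36678) rfl
theorem L52417 : N3659 = N3970 := eqes L52416 L19065
theorem L52418 : N3970 = N3659 := (eqc rfl L52417 rfl).symm
theorem L52422 : sm gd N3659 = N8246 := trfs L52418 (flp_d L39803) rfl
theorem L52423 : N8246 = N7627 := eqes L52422 (flp_d L36626)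
theorem L52424 : N8246 = N7627 := eqc rfl L52423 rfl
theorem L52426 : sm gf N3659 = N1903 := trfs L52418 (flp_f L19065) rfl
theorem L52444 : sm gf N7627 = N3935 := trfs L52424 (flp_f L39801) rfl
theorem L52446 : sm gb N3661 = N7797 := trfs L52414 (flp_b L37464) rfl
theorem L52447 : N7797 = N3730 := eqes L52446 (flp_b L17928)
theorem L52448 : N7797 = N3730 := eqc rfl L52447 rfl
theorem L52449 : sm gc N3661 = N1903 := trfs L52414 (flp_c L19061) rfl
theorem L52451 : sm gd N3661 = N8247 := trfs L52414 (flp_d L39807) rfl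
theorem L52452 : N8247 = N7629 := eqes L52451 (flp_d L36632)
theorem L52453 : N8247 = N7629 := eqc rfl L52452 rfl
theorem L52458 : sm gg N7629 = N3935 := trfs L52453 (flp_g L39805) rfl
theorem L52460 : sm gc N3730 = N3972 := trfs L52448 L37460 rfl
theorem L52461 : N3972 = N7792 := eqes L52460 (flp_c L37432)
theorem L52462 : N7792 = N3972 := (eqc rfl L52461 rfl).symm
theorem L52466 : sm gg N3730 = N3731 := trfs L52448 (flp_g L37458) rfl
theorem L52467 : N3731 = N7793 := eqes L52466 L37436
theorem L52468 : N7793 = N3731 := (eqc rfl L52467 rfl).symm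
theorem L52473 : sm gf N3731 = N7785 := trfs L52468 (flp_f L37442) rfl
theorem L52474 : N7785 = N7796 := eqes L52473 L37454
theorem L52475 : N7796 = N7785 := (eqc rfl L52474 rfl).symm
theorem L52478 : sm gb N7785 = N8342 := trfs L52475 (flp_b L40327) rfl
theorem L52480 : sm ge N7785 = N3760 := trfs L52475 L37456 rfl
theorem L52481 : N3760 = N3749 := eqes L52480 L37394
theorem L52482 : N3760 = N3749 := eqc rfl L52481 rfl
theorem L52491 : sm gc N3749 = N7855 := trfs L52482 (flp_c L37785) rfl
theorem L52492 : N7855 = N7835 := eqes L52491 L37685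
theorem L52493 : N7855 = N7835 := eqc rfl L52492 rfl
theorem L52494 : sm gd N3749 = N7716 := trfs L52482 (flp_d L37079) rfl
theorem L52495 : N7716 = N7705 := eqes L52494 (flp_d L37029)
theorem L52496 : N7716 = N7705 := eqc rfl L52495 rfl
theorem L52499 : sm gg N3749 = N7856 := trfs L52482 L37787 rfl
theorem L52500 : N7856 = N1809 := eqes L52499 L18015
theorem L52501 : N7856 = N1809 := eqc rfl L52500 rfl
theorem L52511 : sm gf N1809 = N7852 := trfs L52501 (flp_f L37789) rfl
theorem L52512 : N7852 = N3754 := eqes L52511 L18029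
theorem L52513 : N7852 = N3754 := eqc rfl L52512 rfl
theorem L52518 : sm gc N3754 = N4052 := trfs L52513 L37771 rfl
theorem L52519 : N4052 = N7843 := eqes L52518 (flp_c L37725)
theorem L52520 : N7843 = N4052 := (eqc rfl L52519 rfl).symm
theorem L52521 : sm gg N3754 = N3343 := trfs L52513 (flp_g L37767) L51141
theorem L52522 : N3343 = N3751 := eqes L52521 (flp_g L18033)
theorem L52523 : N3751 = N3343 := (eqc rfl L52522 rfl).symm
theorem L52529 : sm gc N3343 = N7837 := trfs L52523 (flp_c L37697) rfl
theorem L52530 : N7837 = N6944 := eqes L52529 (flp_c L33485)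
theorem L52531 : N7837 = N6944 := eqc rfl L52530 rfl
theorem L52538 : sm gf N3343 = N1808 := trfs L52523 (flp_f L18021) rfl
theorem L52539 : N1808 = N6947 := eqes L52538 L33495
theorem L52540 : N6947 = N1808 := (eqc rfl L52539 rfl).symm
theorem L52541 : sm gg N3343 = N3754 := trfs L52523 L18033 rfl
theorem L52542 : N3754 = N1620 := eqes L52541 (flp_g L16082)
theorem L52543 : N3754 = N1620 := eqc rfl L52542 rfl
theorem L52549 : sm gc N1620 = N4052 := trfs L52543 (flp_c L37725) L52520
theorem L52550 : N4052 = N3341 := eqes L52549 L16078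
theorem L52551 : N4052 = N3341 := eqc rfl L52550 rfl
theorem L52552 : sm gd N1620 = N7710 := trfs L52543 (flp_d L37053) rfl
theorem L52553 : N7710 = N3298 := eqes L52552 (flp_d L15884)
theorem L52554 : N7710 = N3298 := eqc rfl L52553 rfl
theorem L52558 : sm gf N1620 = N1809 := trfs L52543 (flp_f L18029) rfl
theorem L52559 : N1809 = N3342 := eqes L52558 L16080
theorem L52560 : N3342 = N1809 := (eqc rfl L52559 rfl).symm
theorem L52564 : sm gb N1809 = N6945 := trfs L52560 L33487 rfl
theorem L52565 : N6945 = N3752 := eqes L52564 L18023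
theorem L52566 : N6945 = N3752 := eqc rfl L52565 rfl
theorem L52590 : N7843 = N3341 := L52520.trans L52551
theorem L52591 : sm ga N3752 = N7840 := trfs L52566 (flp_a L37707) rfl
theorem L52592 : N7840 = N7838 := eqes L52591 L37699
theorem L52593 : N7840 = N7838 := eqc rfl L52592 rfl
theorem L52594 : sm gf N3752 = N3347 := trfs L52566 L33489 rfl
theorem L52595 : N3347 = N6958 := eqes L52594 L33540
theorem L52596 : N6958 = N3347 := (eqc rfl L52595 rfl).symm
theorem L52599 : sm gb N3347 = N6796 := trfs L52596 L33538 rfl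
theorem L52600 : N6796 = N1622 := eqes L52599 (flp_b L16098)
theorem L52601 : N6796 = N1622 := eqc rfl L52600 rfl
theorem L52602 : sm gf N3347 = N3752 := trfs L52596 (flp_f L33540) rfl
theorem L52604 : sm gg N3347 = N3347 := trfs L52596 (flp_g L33536) rfl
theorem L52610 : sm gg N1622 = N3276 := trfs L52601 (flp_g L32779) rfl
theorem L52611 : N3276 = N1590 := eqes L52610 (flp_g L7891)
theorem L52612 : N3276 = N1590 := eqc rfl L52611 rfl
theorem L52626 : sm gf N1590 = N1591 := trfs L52612 L15779 rfl
theorem L52627 : N1591 = N792 := eqes L52626 (flp_f L7745)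
theorem L52628 : N1591 = N792 := eqc rfl L52627 rfl
theorem L52632 : sm gb N792 = N793 := trfs L52628 (flp_b L7747) rfl
theorem L52633 : N793 = N403 := eqes L52632 (flp_b L3976)
theorem L52634 : N793 = N403 := eqc rfl L52633 rfl
theorem L52644 : sm gg N792 = N3279 := trfs L52628 L15786 rfl
theorem L52645 : N3279 = N411 := eqes L52644 L3978
theorem L52646 : N3279 = N411 := eqc rfl L52645 rfl
theorem L52657 : sm ge N411 = N6771 := trfs L52646 (flp_e L32656) rfl
theorem L52658 : N6771 = N803 := eqes L52657 (flp_e L4037)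
theorem L52659 : N6771 = N803 := eqc rfl L52658 rfl
theorem L52661 : sm gb N803 = N6667 := trfs L52659 L32658 rfl
theorem L52662 : N6667 = N409 := eqes L52661 (flp_b L4035)
theorem L52663 : N6667 = N409 := eqc rfl L52662 rfl
theorem L52666 : sm gg N409 = N3215 := trfs L52663 (flp_g L32151) rfl
theorem L52667 : N3215 = N204 := eqes L52666 (flp_g L2089)
theorem L52668 : N3215 = N204 := eqc rfl L52667 rfl
theorem L52672 : sm gb N204 = N1562 := trfs L52668 (flp_b L15497) rfl
theorem L52673 : N1562 = N401 := eqes L52672 (flp_b L2052)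
theorem L52674 : N1562 = N401 := eqc rfl L52673 rfl
theorem L52684 : sm gf N204 = N6623 := trfs L52668 (flp_f L31958) rfl
theorem L52685 : N6623 = N408 := eqes L52684 L2081
theorem L52686 : N6623 = N408 := eqc rfl L52685 rfl
theorem L52690 : sm ge N408 = N3198 := trfs L52686 L31956 rfl
theorem L52691 : N3198 = N205 := eqes L52690 L2087
theorem L52692 : N3198 = N205 := eqc rfl L52691 rfl
theorem L52696 : sm gb N205 = N1555 := trfs L52692 (flp_b L15411) rfl
theorem L52697 : N1555 = N410 := eqes L52696 L2097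
theorem L52698 : N1555 = N410 := eqc rfl L52697 rfl
theorem L52706 : sm gg N205 = N6629 := trfs L52692 L31988 rfl
theorem L52707 : N6629 = N242 := eqes L52706 (flp_g L1232)
theorem L52708 : N6629 = N242 := eqc rfl L52707 rfl
theorem L52712 : sm gf N242 = N6673 := trfs L52708 (flp_f L32182) rfl
theorem L52713 : N6673 = N114 := eqes L52712 (flp_f L1226)
theorem L52714 : N6673 = N114 := eqc rfl L52713 rfl
theorem L52719 : sm gg N114 = N3217 := trfs L52714 (flp_g L32178) rfl
theorem L52720 : N3217 = N49 := eqes L52719 (flp_g L558)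
theorem L52721 : N3217 = N49 := eqc rfl L52720 rfl
theorem L52729 : sm gd N49 = N6653 := trfs L52721 (flp_d L32096) rfl
theorem L52730 : N6653 = N111 := eqes L52729 L548
theorem L52731 : N6653 = N111 := eqc rfl L52730 rfl
theorem L52734 : sm ga N111 = N3210 := trfs L52731 (flp_a L32094) rfl
theorem L52735 : N3210 = N203 := eqes L52734 (flp_a L1027)
theorem L52736 : N3210 = N203 := eqc rfl L52735 rfl
theorem L52744 : sm ge N203 = N6651 := trfs L52736 (flp_e L32088) rfl
theorem L52745 : N6651 = N404 := eqes L52744 L2061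
theorem L52746 : N6651 = N404 := eqc rfl L52745 rfl
theorem L52753 : sm gb N404 = N3208 := trfs L52746 (flp_b L32086) rfl
theorem L52754 : N3208 = N784 := eqes L52753 (flp_b L3943)
theorem L52755 : N3208 = N784 := eqc rfl L52754 rfl
theorem L52756 : sm ga N784 = N1571 := trfs L52755 L15463 rfl
theorem L52757 : N1571 = N1558 := eqes L52756 (flp_a L7595)
theorem L52758 : N1571 = N1558 := eqc rfl L52757 rfl
theorem L52768 : sm gg N784 = N3239 := trfs L52755 (flp_g L15601) rfl
theorem L52769 : N3239 = N1572 := eqes L52768 L7655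
theorem L52770 : N3239 = N1572 := eqc rfl L52769 rfl
theorem L52783 : sm ge N1572 = N1576 := trfs L52770 L15599 rfl
theorem L52784 : N1576 = N786 := eqes L52783 L7657
theorem L52785 : N1576 = N786 := eqc rfl L52784 rfl
theorem L52786 : sm gf N1572 = N1572 := trfs L52770 (flp_f L15595) rfl
theorem L52791 : sm gc N786 = N3232 := trfs L52785 (flp_c L15557) rfl
theorem L52792 : N3232 = N1569 := eqes L52791 (flp_c L7643)
theorem L52793 : N3232 = N1569 := eqc rfl L52792 rfl
theorem L52795 : sm gf N786 = N786 := trfs L52785 (flp_f L7677) rfl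
theorem L52797 : sm ga N1569 = N3230 := trfs L52793 L15555 rfl
theorem L52798 : N3230 = N3206 := eqes L52797 (flp_a L15451)
theorem L52799 : N3230 = N3206 := eqc rfl L52798 rfl
theorem L52808 : sm gg N1569 = N3205 := trfs L52793 L15559 rfl
theorem L52809 : N3205 = N783 := eqes L52808 (flp_g L7641)
theorem L52810 : N3205 = N783 := eqc rfl L52809 rfl
theorem L52811 : sm ga N783 = N1568 := trfs L52810 L15445 rfl
theorem L52812 : N1568 = N1557 := eqes L52811 (flp_a L7591)
theorem L52813 : N1568 = N1557 := eqc rfl L52812 rfl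
theorem L52818 : sm gd N783 = N6641 := trfs L52810 (flp_d L32030) rfl
theorem L52819 : N6641 = N1566 := eqes L52818 L7631
theorem L52820 : N6641 = N1566 := eqc rfl L52819 rfl
theorem L52824 : sm ga N1566 = N3224 := trfs L52820 L32026 rfl
theorem L52825 : N3224 = N3203 := eqes L52824 (flp_a L15433)
theorem L52826 : N3224 = N3203 := eqc rfl L52825 rfl
theorem L52831 : sm gb N3203 = N6686 := trfs L52826 L32234 rfl
theorem L52832 : N6686 = N6636 := eqes L52831 (flp_b L32008)
theorem L52833 : N6686 = N6636 := eqc rfl L52832 rfl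
theorem L52838 : sm gf N3203 = N1566 := trfs L52826 (flp_f L15521) rfl
theorem L52849 : sm gd N6636 = N3229 := trfs L52833 L32236 rfl
theorem L52850 : N3229 = N3202 := eqes L52849 (flp_d L32006)
theorem L52851 : N3229 = N3202 := eqc rfl L52850 rfl
theorem L52858 : sm gc N3202 = N6698 := trfs L52851 L32296 rfl
theorem L52859 : N6698 = N6608 := eqes L52858 (flp_c L31888)
theorem L52860 : N6698 = N6608 := eqc rfl L52859 rfl
theorem L52864 : sm gf N3202 = N3411 := trfs L52851 (flp_f L16373) rfl
theorem L52865 : N3411 = N6638 := eqes L52864 L32014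
theorem L52866 : N6638 = N3411 := (eqc rfl L52865 rfl).symm
theorem L52870 : sm gf N3411 = N3202 := trfs L52866 (flp_f L32014) rfl
theorem L52894 : sm gb N6608 = N3241 := trfs L52860 L32298 rfl
theorem L52895 : N3241 = N3191 := eqes L52894 (flp_b L31886)
theorem L52896 : N3241 = N3191 := eqc rfl L52895 rfl
theorem L52914 : sm gg N3191 = N6724 := trfs L52896 L32426 rfl
theorem L52915 : N6724 = N6612 := eqes L52914 L31900
theorem L52916 : N6724 = N6612 := eqc rfl L52915 rfl
theorem L52919 : sm gc N6612 = N3242 := trfs L52916 L32428 rfl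
theorem L52920 : N3242 = N3194 := eqes L52919 L31902
theorem L52921 : N3242 = N3194 := eqc rfl L52920 rfl
theorem L52922 : sm gf N6612 = N6835 := trfs L52916 (flp_f L32982) rfl
theorem L52930 : sm gd N3194 = N1586 := trfs L52921 L15615 rfl
theorem L52931 : N1586 = N1556 := eqes L52930 L15397
theorem L52932 : N1586 = N1556 := eqc rfl L52931 rfl
theorem L52936 : sm gf N3194 = N3294 := trfs L52921 (flp_f L15866) rfl
theorem L52937 : N3294 = N6619 := eqes L52936 L31936
theorem L52938 : N6619 = N3294 := (eqc rfl L52937 rfl).symm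
theorem L52948 : sm gg N3294 = N6590 := trfs L52938 L31942 rfl
theorem L52949 : N6590 = N1597 := eqes L52948 (flp_g L15860)
theorem L52950 : N6590 = N1597 := eqc rfl L52949 rfl
theorem L52954 : sm gd N1597 = N3185 := trfs L52950 L31804 rfl
theorem L52955 : N3185 = N804 := eqes L52954 L7781
theorem L52956 : N3185 = N804 := eqc rfl L52955 rfl
theorem L52957 : sm gf N1597 = N3183 := trfs L52950 (flp_f L31800) rfl
theorem L52958 : N3183 = N3240 := eqes L52957 (flp_f L15607)
theorem L52959 : N3240 = N3183 := (eqc rfl L52958 rfl).symm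
theorem L52968 : sm ge N3183 = N6713 := trfs L52959 (flp_e L32370) rfl
theorem L52969 : N6713 = N6589 := eqes L52968 L31794
theorem L52970 : N6713 = N6589 := eqc rfl L52969 rfl
theorem L52975 : sm ga N6589 = N3236 := trfs L52970 (flp_a L32368) rfl
theorem L52976 : N3236 = N3192 := eqes L52975 L31796
theorem L52977 : N3236 = N3192 := eqc rfl L52976 rfl
theorem L52984 : sm gd N3192 = N6709 := trfs L52977 (flp_d L32336) rfl
theorem L52985 : N6709 = N6613 := eqes L52984 L31904
theorem L52986 : N6709 = N6613 := eqc rfl L52985 rfl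
theorem L52988 : sm gf N3192 = N1595 := trfs L52977 L15581 rfl
theorem L52989 : N1595 = N6614 := eqes L52988 L31910
theorem L52990 : N6614 = N1595 := (eqc rfl L52989 rfl).symm
theorem L52993 : sm gf N1595 = N3192 := trfs L52990 (flp_f L31910) rfl
theorem L52995 : sm gb N6613 = N3234 := trfs L52986 (flp_b L32334) rfl
theorem L52996 : N3234 = N3207 := eqes L52995 L31906
theorem L52997 : N3234 = N3207 := eqc rfl L52996 rfl
theorem L52998 : sm ge N6613 = N3252 := trfs L52986 L32338 rfl
theorem L52999 : N3252 = N3195 := eqes L52998 L31908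
theorem L53000 : N3252 = N3195 := eqc rfl L52999 rfl
theorem L53006 : sm gb N3195 = N1578 := trfs L53000 (flp_b L15653) rfl
theorem L53007 : N1578 = N1561 := eqes L53006 L15401
theorem L53008 : N1578 = N1561 := eqc rfl L53007 rfl
theorem L53015 : sm gf N3195 = N1606 := trfs L53000 L15657 rfl
theorem L53016 : N1606 = N6621 := eqes L53015 L31946
theorem L53017 : N6621 = N1606 := (eqc rfl L53016 rfl).symm
theorem L53018 : sm gg N3195 = N6750 := trfs L53000 L32538 rfl
theorem L53019 : N6750 = N6622 := eqes L53018 L31950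
theorem L53020 : N6750 = N6622 := eqc rfl L53019 rfl
theorem L53023 : sm gd N6622 = N3258 := trfs L53020 L32540 rfl
theorem L53024 : N3258 = N3197 := eqes L53023 L31952
theorem L53025 : N3258 = N3197 := eqc rfl L53024 rfl
theorem L53038 : sm gf N3197 = N3317 := trfs L53025 (flp_f L15968) rfl
theorem L53039 : N3317 = N6626 := eqes L53038 L31972
theorem L53040 : N6626 = N3317 := (eqc rfl L53039 rfl).symm
theorem L53048 : sm gg N3317 = N6593 := trfs L53040 L31978 rfl
theorem L53049 : N6593 = N1608 := eqes L53048 (flp_g L15962)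
theorem L53050 : N6593 = N1608 := eqc rfl L53049 rfl
theorem L53053 : sm gf N1608 = N3184 := trfs L53050 (flp_f L31818) rfl
theorem L53054 : N3184 = N3256 := eqes L53053 (flp_f L15683)
theorem L53055 : N3256 = N3184 := (eqc rfl L53054 rfl).symm
theorem L53060 : sm gc N3184 = N6757 := trfs L53055 L32574 rfl
theorem L53061 : N6757 = N6585 := eqes L53060 (flp_c L31774)
theorem L53062 : N6757 = N6585 := eqc rfl L53061 rfl
theorem L53069 : sm ga N6585 = N3257 := trfs L53062 L32576 rfl
theorem L53070 : N3257 = N3188 := eqes L53069 L31772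
theorem L53071 : N3257 = N3188 := eqc rfl L53070 rfl
theorem L53072 : sm gb N6585 = N27 := trfs L53062 L32582 L49993
theorem L53074 : N6585 = N50 := eqes (flp_b L53072) (flp_b L244)
theorem L53075 : N6585 = N50 := eqc rfl L53074 rfl
theorem L53076 : N6757 = N50 := L53062.trans L53075
theorem L53083 : sm gg N50 = N6893 := trfs L53076 (flp_g L33256) rfl
theorem L53084 : N6893 = N116 := eqes L53083 L567
theorem L53085 : N6893 = N116 := eqc rfl L53084 rfl
theorem L53095 : sm gf N116 = N3319 := trfs L53085 (flp_f L33248) rfl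
theorem L53096 : N3319 = N246 := eqes L53095 L1255
theorem L53097 : N3319 = N246 := eqc rfl L53096 rfl
theorem L53113 : sm gg N246 = N1609 := trfs L53097 (flp_g L15974) rfl
theorem L53114 : N1609 = N207 := eqes L53113 L1262
theorem L53115 : N1609 = N207 := eqc rfl L53114 rfl
theorem L53117 : sm gb N207 = N810 := trfs L53115 L7835 rfl
theorem L53118 : N810 = N412 := eqes L53117 L2101
theorem L53119 : N810 = N412 := eqc rfl L53118 rfl
theorem L53120 : sm gc N207 = N802 := trfs L53115 (flp_c L7831) rfl
theorem L53121 : N802 = N408 := eqes L53120 (flp_c L2085)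
theorem L53122 : N802 = N408 := eqc rfl L53121 rfl
theorem L53129 : sm gf N207 = N3188 := trfs L53115 (flp_f L15689) L53071
theorem L53130 : N3188 = N97 := eqes L53129 (flp_f L1047)
theorem L53131 : N3188 = N97 := eqc rfl L53130 rfl
theorem L53143 : sm gf N97 = N6602 := trfs L53131 L31854 rfl
theorem L53144 : N6602 = N207 := eqes L53143 L1047
theorem L53145 : N6602 = N207 := eqc rfl L53144 rfl
theorem L53149 : sm ge N207 = N3189 := trfs L53145 L31858 rfl
theorem L53150 : N3189 = N98 := eqes L53149 L1052
theorem L53151 : N3189 = N98 := eqc rfl L53150 rfl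
theorem L53158 : sm gc N98 = N410 := trfs L53151 L15379 L52698
theorem L53159 : N410 = N205 := eqes L53158 (flp_c L1039)
theorem L53160 : N410 = N205 := eqc rfl L53159 rfl
theorem L53165 : sm gg N98 = N6605 := trfs L53151 L31869 rfl
theorem L53166 : N6605 = N120 := eqes L53165 (flp_g L596)
theorem L53167 : N6605 = N120 := eqc rfl L53166 rfl
theorem L53174 : sm gf N120 = N6587 := trfs L53167 (flp_f L31873) rfl
theorem L53175 : N6587 = N52 := eqes L53174 (flp_f L590)
theorem L53176 : N6587 = N52 := eqc rfl L53175 rfl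
theorem L53183 : sm gg N52 = N3182 := trfs L53176 (flp_g L31782) rfl
theorem L53184 : N3182 = N23 := eqes L53183 (flp_g L251)
theorem L53185 : N3182 = N23 := eqc rfl L53184 rfl
theorem L53190 : sm gc N23 = N1551 := trfs L53185 (flp_c L15345) rfl
theorem L53191 : N1551 = N49 := eqes L53190 L240
theorem L53192 : N1551 = N49 := eqc rfl L53191 rfl
theorem L53225 : sm gf N49 = N804 := trfs L53192 L15361 L52956
theorem L53226 : N804 = N113 := eqes L53225 L554
theorem L53227 : N804 = N113 := eqc rfl L53226 rfl
theorem L53244 : sm gg N113 = N1616 := trfs L53227 L7861 rfl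
theorem L53245 : N1616 = N240 := eqes L53244 L1218
theorem L53246 : N1616 = N240 := eqc rfl L53245 rfl
theorem L53262 : sm gf N240 = N1556 := trfs L53246 L7865 L52932
theorem L53263 : N1556 = N206 := eqes L53262 (flp_f L1222)
theorem L53264 : N1556 = N206 := eqc rfl L53263 rfl
theorem L53273 : sm ge N206 = N3197 := trfs L53264 (flp_e L15409) rfl
theorem L53274 : N3197 = N409 := eqes L53273 (flp_e L2095)
theorem L53275 : N3197 = N409 := eqc rfl L53274 rfl
theorem L53285 : sm gd N409 = N6622 := trfs L53275 (flp_d L31952) rfl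
theorem L53286 : N6622 = N801 := eqes L53285 (flp_d L4029)
theorem L53287 : N6622 = N801 := eqc rfl L53286 rfl
theorem L53296 : sm gg N801 = N3195 := trfs L53287 (flp_g L31950) rfl
theorem L53297 : N3195 = N407 := eqes L53296 (flp_g L4025)
theorem L53298 : N3195 = N407 := eqc rfl L53297 rfl
theorem L53302 : sm gb N407 = N1561 := trfs L53298 L15401 rfl
theorem L53303 : N1561 = N787 := eqes L53302 (flp_b L3955)
theorem L53304 : N1561 = N787 := eqc rfl L53303 rfl
theorem L53312 : sm gf N407 = N1606 := trfs L53298 L31946 L53017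
theorem L53313 : N1606 = N800 := eqes L53312 L4019
theorem L53314 : N1606 = N800 := eqc rfl L53313 rfl
theorem L53318 : sm gb N800 = N800 := trfs L53314 (flp_b L7819) rfl
theorem L53319 : sm gc N800 = N3310 := trfs L53314 L15936 rfl
theorem L53320 : N3310 = N1604 := eqes L53319 (flp_c L7807)
theorem L53321 : N3310 = N1604 := eqc rfl L53320 rfl
theorem L53323 : sm ge N800 = N3284 := trfs L53314 (flp_e L15820) rfl
theorem L53324 : N3284 = N1593 := eqes L53323 (flp_e L7761)
theorem L53325 : N3284 = N1593 := eqc rfl L53324 rfl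
theorem L53326 : sm gg N800 = N3311 := trfs L53314 L15938 rfl
theorem L53327 : N3311 = N932 := eqes L53326 (flp_g L4643)
theorem L53328 : N3311 = N932 := eqc rfl L53327 rfl
theorem L53330 : sm gb N932 = N3944 := trfs L53328 (flp_b L18931) rfl
theorem L53331 : N3944 = N1892 := eqes L53330 L9155
theorem L53332 : N3944 = N1892 := eqc rfl L53331 rfl
theorem L53337 : sm ge N932 = N6813 := trfs L53328 (flp_e L32866) rfl
theorem L53338 : N6813 = N1849 := eqes L53337 (flp_e L8973)
theorem L53339 : N6813 = N1849 := eqc rfl L53338 rfl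
theorem L53341 : sm gb N1849 = N8037 := trfs L53339 (flp_b L38906) rfl
theorem L53342 : N8037 = N3843 := eqes L53341 L18477
theorem L53343 : N8037 = N3843 := eqc rfl L53342 rfl
theorem L53344 : sm gd N1849 = N3288 := trfs L53339 L32864 rfl
theorem L53345 : N3288 = N917 := eqes L53344 L8971
theorem L53346 : N3288 = N917 := eqc rfl L53345 rfl
theorem L53351 : sm gb N917 = N3863 := trfs L53346 (flp_b L18589) rfl
theorem L53352 : N3863 = N1857 := eqes L53351 L9005
theorem L53353 : N3863 = N1857 := eqc rfl L53352 rfl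
theorem L53363 : sm gg N917 = N1595 := trfs L53346 (flp_g L15836) rfl
theorem L53364 : N1595 = N795 := eqes L53363 L4583
theorem L53365 : N1595 = N795 := eqc rfl L53364 rfl
theorem L53369 : sm gb N795 = N795 := trfs L53365 (flp_b L7771) rfl
theorem L53374 : sm ge N795 = N797 := trfs L53365 L7773 rfl
theorem L53375 : N797 = N405 := eqes L53374 L3997
theorem L53376 : N797 = N405 := eqc rfl L53375 rfl
theorem L53377 : sm gf N795 = N3192 := trfs L53365 L52993 rfl
theorem L53378 : N3192 = N404 := eqes L53377 (flp_f L3993)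
theorem L53379 : N3192 = N404 := eqc rfl L53378 rfl
theorem L53383 : sm gb N404 = N1558 := trfs L53379 L15389 rfl
theorem L53384 : N1558 = N784 := eqes L53383 (flp_b L3943)
theorem L53385 : N1558 = N784 := eqc rfl L53384 rfl
theorem L53390 : sm ge N404 = N1553 := trfs L53379 (flp_e L15387) rfl
theorem L53391 : N1553 = N203 := eqes L53390 (flp_e L2061)
theorem L53392 : N1553 = N203 := eqc rfl L53391 rfl
theorem L53398 : sm gb N203 = N779 := trfs L53392 L7579 rfl
theorem L53399 : N779 = N400 := eqes L53398 (flp_b L2048)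
theorem L53400 : N779 = N400 := eqc rfl L53399 rfl
theorem L53401 : sm gc N203 = N3191 := trfs L53392 L15385 rfl
theorem L53402 : N3191 = N213 := eqes L53401 L1085
theorem L53403 : N3191 = N213 := eqc rfl L53402 rfl
theorem L53421 : sm gg N213 = N6612 := trfs L53403 L31900 rfl
theorem L53422 : N6612 = N424 := eqes L53421 L2157
theorem L53423 : N6612 = N424 := eqc rfl L53422 rfl
theorem L53428 : sm gf N424 = N6835 := trfs L53423 L52922 rfl
theorem L53429 : N6835 = N838 := eqes L53428 L4191
theorem L53430 : N6835 = N838 := eqc rfl L53429 rfl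
theorem L53435 : sm gg N838 = N3293 := trfs L53430 (flp_g L32976) rfl
theorem L53436 : N3293 = N459 := eqes L53435 L4199
theorem L53437 : N3293 = N459 := eqc rfl L53436 rfl
theorem L53443 : sm gd N459 = N6834 := trfs L53437 L32972 rfl
theorem L53444 : N6834 = N391 := eqes L53443 L2348
theorem L53445 : N6834 = N391 := eqc rfl L53444 rfl
theorem L53453 : sm ga N391 = N3295 := trfs L53445 L32974 rfl
theorem L53454 : N3295 = N215 := eqes L53453 L1989
theorem L53455 : N3295 = N215 := eqc rfl L53454 rfl
theorem L53456 : sm gc N391 = N6929 := trfs L53445 L33423 rfl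
theorem L53457 : N6929 = N199 := eqes L53456 L1991
theorem L53458 : N6929 = N199 := eqc rfl L53457 rfl
theorem L53462 : sm gd N199 = N3335 := trfs L53458 (flp_d L33419) rfl
theorem L53463 : N3335 = N94 := eqes L53462 L1011
theorem L53464 : N3335 = N94 := eqc rfl L53463 rfl
theorem L53480 : sm gg N94 = N6931 := trfs L53464 L33429 rfl
theorem L53481 : N6931 = N109 := eqes L53480 (flp_g L542)
theorem L53482 : N6931 = N109 := eqc rfl L53481 rfl
theorem L53483 : sm gc N109 = N3337 := trfs L53482 L33431 rfl
theorem L53484 : N3337 = N56 := eqes L53483 L539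
theorem L53485 : N3337 = N56 := eqc rfl L53484 rfl
theorem L53496 : sm gf N56 = N6933 := trfs L53485 L33437 rfl
theorem L53497 : N6933 = N25 := eqes L53496 (flp_f L270)
theorem L53498 : N6933 = N25 := eqc rfl L53497 rfl
theorem L53500 : sm ga N25 = N6775 := trfs L53498 L33439 rfl
theorem L53501 : N6775 = N45 := eqes L53500 (flp_a L224)
theorem L53502 : N6775 = N45 := eqc rfl L53501 rfl
theorem L53509 : sm gg N45 = N3266 := trfs L53502 (flp_g L32677) rfl
theorem L53510 : N3266 = N21 := eqes L53509 (flp_g L222)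
theorem L53511 : N3266 = N21 := eqc rfl L53510 rfl
theorem L53518 : sm ge N21 = N6774 := trfs L53511 L32672 rfl
theorem L53519 : N6774 = N21 := eqes L53518 L114
theorem L53520 : N6774 = N21 := eqc rfl L53519 rfl
theorem L53523 : sm gf N21 = N3336 := trfs L53520 L32675 rfl
theorem L53524 : N3336 = N44 := eqes L53523 L217
theorem L53525 : N3336 = N44 := eqc rfl L53524 rfl
theorem L53533 : sm gd N44 = N6891 := trfs L53525 (flp_d L33242) rfl
theorem L53534 : N6891 = N98 := eqes L53533 (flp_d L489)
theorem L53535 : N6891 = N98 := eqc rfl L53534 rfl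
theorem L53538 : sm gb N98 = N3354 := trfs L53535 L33240 rfl
theorem L53539 : N3354 = N209 := eqes L53538 L1061
theorem L53540 : N3354 = N209 := eqc rfl L53539 rfl
theorem L53551 : sm gg N209 = N4850 := trfs L53540 (flp_g L23439) rfl
theorem L53552 : N4850 = N294 := eqes L53551 (flp_g L1501)
theorem L53553 : N4850 = N294 := eqc rfl L53552 rfl
theorem L53558 : sm ge N294 = N2337 := trfs L53553 (flp_e L23435) rfl
theorem L53559 : N2337 = N570 := eqes L53558 (flp_e L2894)
theorem L53560 : N2337 = N570 := eqc rfl L53559 rfl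
theorem L53569 : sm gd N570 = N1138 := trfs L53560 (flp_d L11292) rfl
theorem L53570 : N1138 = N570 := eqes L53569 L2893
theorem L53571 : N1138 = N570 := eqc rfl L53570 rfl
theorem L53578 : sm gc N570 = N570 := trfs L53571 (flp_c L5607) rfl
theorem L53579 : sm ge N570 = N580 := trfs L53571 L5610 rfl
theorem L53580 : N580 = N294 := eqes L53579 L2894
theorem L53581 : N580 = N294 := eqc rfl L53580 rfl
theorem L53588 : sm gc N294 = N294 := trfs L53581 (flp_c L2959) rfl
theorem L53593 : sm gg N294 = N414 := trfs L53581 L2963 rfl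
theorem L53594 : N414 = N209 := eqes L53593 L1501
theorem L53595 : N414 = N209 := eqc rfl L53594 rfl
theorem L53598 : sm gc N209 = N209 := trfs L53595 (flp_c L2115) rfl
theorem L53599 : sm gd N209 = N812 := trfs L53595 L4067 rfl
theorem L53600 : N812 = N100 := eqes L53599 L1063
theorem L53601 : N812 = N100 := eqc rfl L53600 rfl
theorem L53606 : sm gc N100 = N1628 := trfs L53601 L7915 rfl
theorem L53607 : N1628 = N211 := eqes L53606 L1073
theorem L53608 : N1628 = N211 := eqc rfl L53607 rfl
theorem L53623 : sm gg N211 = N859 := trfs L53608 L7919 rfl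
theorem L53624 : N859 = N106 := eqes L53623 L1078
theorem L53625 : N859 = N106 := eqc rfl L53624 rfl
theorem L53634 : sm ge N106 = N1730 := trfs L53625 L8377 rfl
theorem L53635 : N1730 = N106 := eqes L53634 L522
theorem L53636 : N1730 = N106 := eqc rfl L53635 rfl
theorem L53643 : sm gd N106 = N3579 := trfs L53636 (flp_d L17150) rfl
theorem L53644 : N3579 = N219 := eqes L53643 (flp_d L1111)
theorem L53645 : N3579 = N219 := eqc rfl L53644 rfl
theorem L53659 : sm gg N219 = N6976 := trfs L53645 (flp_g L33619) rfl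
theorem L53660 : N6976 = N416 := eqes L53659 (flp_g L2127)
theorem L53661 : N6976 = N416 := eqc rfl L53660 rfl
theorem L53664 : sm ge N416 = N3363 := trfs L53661 L33621 rfl
theorem L53665 : N3363 = N815 := eqes L53664 L4081
theorem L53666 : N3363 = N815 := eqc rfl L53665 rfl
theorem L53675 : sm gd N815 = N1632 := trfs L53666 (flp_d L16167) rfl
theorem L53676 : N1632 = N815 := eqes L53675 L4087
theorem L53677 : N1632 = N815 := eqc rfl L53676 rfl
theorem L53687 : sm gg N815 = N854 := trfs L53677 L7939 rfl
theorem L53688 : N854 = N432 := eqes L53687 L4085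
theorem L53689 : N854 = N432 := eqc rfl L53688 rfl
theorem L53691 : sm gb N432 = N1697 := trfs L53689 (flp_b L8236) rfl
theorem L53692 : N1697 = N217 := eqes L53691 (flp_b L2195)
theorem L53693 : N1697 = N217 := eqc rfl L53692 rfl
theorem L53713 : sm gg N217 = N3517 := trfs L53693 L16879 rfl
theorem L53714 : N3517 = N433 := eqes L53713 L2202
theorem L53715 : N3517 = N433 := eqc rfl L53714 rfl
theorem L53731 : sm gf N433 = N7344 := trfs L53715 L35315 rfl
theorem L53732 : N7344 = N394 := eqes L53731 (flp_f L2207)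
theorem L53733 : N7344 = N394 := eqc rfl L53732 rfl
theorem L53743 : sm gg N394 = N7161 := trfs L53733 L35323 rfl
theorem L53744 : N7161 = N198 := eqes L53743 (flp_g L2006)
theorem L53745 : N7161 = N198 := eqc rfl L53744 rfl
theorem L53750 : sm ge N198 = N3447 := trfs L53745 L34479 rfl
theorem L53751 : N3447 = N93 := eqes L53750 (flp_e L1002)
theorem L53752 : N3447 = N93 := eqc rfl L53751 rfl
theorem L53766 : sm gf N93 = N1705 := trfs L53752 L16559 rfl
theorem L53767 : N1705 = N199 := eqes L53766 L1007
theorem L53768 : N1705 = N199 := eqc rfl L53767 rfl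
theorem L53781 : sm gg N199 = N3539 := trfs L53768 L16987 rfl
theorem L53782 : N3539 = N222 := eqes L53781 (flp_g L1133)
theorem L53783 : N3539 = N222 := eqc rfl L53782 rfl
theorem L53795 : sm gf N222 = N3449 := trfs L53783 L16993 rfl
theorem L53796 : N3449 = N105 := eqes L53795 (flp_f L1127)
theorem L53797 : N3449 = N105 := eqc rfl L53796 rfl
theorem L53805 : sm gd N105 = N7184 := trfs L53797 (flp_d L34588) rfl
theorem L53806 : N7184 = N48 := eqes L53805 L518
theorem L53807 : N7184 = N48 := eqc rfl L53806 rfl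
theorem L53814 : sm gg N48 = N3448 := trfs L53807 (flp_g L34586) rfl
theorem L53815 : N3448 = N22 := eqes L53814 (flp_g L235)
theorem L53816 : N3448 = N22 := eqc rfl L53815 rfl
theorem L53819 : sm gc N22 = N7182 := trfs L53816 L34577 rfl
theorem L53820 : N7182 = N11 := eqes L53819 (flp_c L116)
theorem L53821 : N7182 = N11 := eqc rfl L53820 rfl
theorem L53829 : sm gf N11 = N3541 := trfs L53821 L34579 rfl
theorem L53830 : N3541 = N24 := eqes L53829 L124
theorem L53831 : N3541 = N24 := eqc rfl L53830 rfl
theorem L53845 : sm gg N24 = N7401 := trfs L53831 L35596 rfl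
theorem L53846 : N7401 = N54 := eqes L53845 L260
theorem L53847 : N7401 = N54 := eqc rfl L53846 rfl
theorem L53848 : sm gc N54 = N3543 := trfs L53847 L35598 rfl
theorem L53849 : N3543 = N107 := eqes L53848 (flp_c L526)
theorem L53850 : N3543 = N107 := eqc rfl L53849 rfl
theorem L53852 : sm gb N107 = N6975 := trfs L53850 (flp_b L33613) rfl
theorem L53853 : N6975 = N223 := eqes L53852 L1135
theorem L53854 : N6975 = N223 := eqc rfl L53853 rfl
theorem L53862 : sm gd N223 = N3362 := trfs L53854 L33611 rfl
theorem L53863 : N3362 = N437 := eqes L53862 (flp_d L2231)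
theorem L53864 : N3362 = N437 := eqc rfl L53863 rfl
theorem L53870 : sm gc N437 = N6580 := trfs L53864 (flp_c L31740) rfl
theorem L53871 : N6580 = N861 := eqes L53870 L4300
theorem L53872 : N6580 = N861 := eqc rfl L53871 rfl
theorem L53877 : sm gg N437 = N1631 := trfs L53864 (flp_g L16163) rfl
theorem L53878 : N1631 = N777 := eqes L53877 (flp_g L3916)
theorem L53879 : N1631 = N777 := eqc rfl L53878 rfl
theorem L53884 : sm gc N777 = N3179 := trfs L53879 (flp_c L15323) rfl
theorem L53885 : N3179 = N1549 := eqes L53884 L7551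
theorem L53886 : N3179 = N1549 := eqc rfl L53885 rfl
theorem L53925 : sm gb N1549 = N1549 := trfs L53886 (flp_b L15321) rfl
theorem L53926 : sm gd N1549 = N6577 := trfs L53886 L31722 rfl
theorem L53927 : N6577 = N3180 := eqes L53926 L15325
theorem L53928 : N6577 = N3180 := eqc rfl L53927 rfl
theorem L53935 : sm gb N3180 = N3180 := trfs L53928 L31724 rfl
theorem L53949 : sm gb N861 = N3546 := trfs L53872 L31742 rfl
theorem L53950 : N3546 = N1712 := eqes L53949 (flp_b L8298)
theorem L53951 : N3546 = N1712 := eqc rfl L53950 rfl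
theorem L53961 : sm ge N1712 = N7346 := trfs L53951 (flp_e L35333) rfl
theorem L53962 : N7346 = N3521 := eqes L53961 (flp_e L16905)
theorem L53963 : N7346 = N3521 := eqc rfl L53962 rfl
theorem L53964 : sm gf N1712 = N7408 := trfs L53951 L35626 rfl
theorem L53965 : N7408 = N3553 := eqes L53964 L17043
theorem L53966 : N7408 = N3553 := eqc rfl L53965 rfl
theorem L53971 : sm gc N3553 = N3547 := trfs L53966 L35628 rfl
theorem L53972 : N3547 = N1713 := eqes L53971 L17045
theorem L53973 : N3547 = N1713 := eqc rfl L53972 rfl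
theorem L53985 : sm ge N1713 = N7347 := trfs L53973 (flp_e L35339) rfl
theorem L53986 : N7347 = N3522 := eqes L53985 (flp_e L16911)
theorem L53987 : N7347 = N3522 := eqc rfl L53986 rfl
theorem L53994 : sm gf N3522 = N3518 := trfs L53987 (flp_f L35337) rfl
theorem L53995 : N3518 = N1699 := eqes L53994 (flp_f L16909)
theorem L53996 : N3518 = N1699 := eqc rfl L53995 rfl
theorem L53999 : sm ga N1699 = N7345 := trfs L53996 L35325 rfl
theorem L54000 : N7345 = N3520 := eqes L53999 L16899
theorem L54001 : N7345 = N3520 := eqc rfl L54000 rfl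
theorem L54004 : sm gd N1699 = N7318 := trfs L53996 (flp_d L35193) rfl
theorem L54005 : N7318 = N3508 := eqes L54004 (flp_d L16841)
theorem L54006 : N7318 = N3508 := eqc rfl L54005 rfl
theorem L54009 : sm gb N3508 = N3507 := trfs L54006 (flp_b L35191) rfl
theorem L54010 : N3507 = N1693 := eqes L54009 (flp_b L16839)
theorem L54011 : N3507 = N1693 := eqc rfl L54010 rfl
theorem L54026 : sm gg N1693 = N1692 := trfs L54011 (flp_g L16835) rfl
theorem L54027 : N1692 = N840 := eqes L54026 (flp_g L8210)
theorem L54028 : N1692 = N840 := eqc rfl L54027 rfl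
theorem L54040 : sm gf N840 = N3434 := trfs L54028 (flp_f L16489) rfl
theorem L54041 : N3434 = N425 := eqes L54040 (flp_f L4203)
theorem L54042 : N3434 = N425 := eqc rfl L54041 rfl
theorem L54058 : sm gg N425 = N7154 := trfs L54042 L34445 rfl
theorem L54059 : N7154 = N841 := eqes L54058 L4207
theorem L54060 : N7154 = N841 := eqc rfl L54059 rfl
theorem L54062 : sm gd N841 = N3440 := trfs L54060 L34447 rfl
theorem L54063 : N3440 = N427 := eqes L54062 L4209
theorem L54064 : N3440 = N427 := eqc rfl L54063 rfl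
theorem L54072 : sm gf N427 = N3515 := trfs L54064 (flp_f L16873) rfl
theorem L54073 : N3515 = N845 := eqes L54072 L4227
theorem L54074 : N3515 = N845 := eqc rfl L54073 rfl
theorem L54083 : sm gg N845 = N1696 := trfs L54074 (flp_g L16867) rfl
theorem L54084 : N1696 = N768 := eqes L54083 L4235
theorem L54085 : N1696 = N768 := eqc rfl L54084 rfl
theorem L54087 : sm gb N768 = N3513 := trfs L54085 L16857 rfl
theorem L54088 : N3513 = N1535 := eqes L54087 L7492
theorem L54089 : N3513 = N1535 := eqc rfl L54088 rfl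
theorem L54109 : sm gg N1535 = N7336 := trfs L54089 L35277 rfl
theorem L54110 : N7336 = N3157 := eqes L54109 L15217
theorem L54111 : N7336 = N3157 := eqc rfl L54110 rfl
theorem L54112 : sm ge N3157 = N3536 := trfs L54111 L35279 rfl
theorem L54113 : N3536 = N1539 := eqes L54112 L15219
theorem L54114 : N3536 = N1539 := eqc rfl L54113 rfl
theorem L54127 : sm gf N1539 = N7387 := trfs L54114 L35541 rfl
theorem L54128 : N7387 = N3165 := eqes L54127 L15249
theorem L54129 : N7387 = N3165 := eqc rfl L54128 rfl
theorem L54134 : sm gg N3165 = N7379 := trfs L54129 L35545 rfl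
theorem L54135 : N7379 = N3143 := eqes L54134 L15253
theorem L54136 : N7379 = N3143 := eqc rfl L54135 rfl
theorem L54140 : sm gf N3143 = N3533 := trfs L54136 (flp_f L35511) rfl
theorem L54141 : N3533 = N1537 := eqes L54140 L15161
theorem L54142 : N3533 = N1537 := eqc rfl L54141 rfl
theorem L54150 : sm gd N1537 = N7252 := trfs L54142 (flp_d L34913) rfl
theorem L54151 : N7252 = N1836 := eqes L54150 (flp_d L8907)
theorem L54152 : N7252 = N1836 := eqc rfl L54151 rfl
theorem L54155 : sm ga N1836 = N3478 := trfs L54152 (flp_a L34911) rfl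
theorem L54156 : N3478 = N909 := eqes L54155 (flp_a L8905)
theorem L54157 : N3478 = N909 := eqc rfl L54156 rfl
theorem L54170 : sm ge N909 = N7232 := trfs L54157 (flp_e L34797) rfl
theorem L54171 : N7232 = N1834 := eqes L54170 (flp_e L8899)
theorem L54172 : N7232 = N1834 := eqc rfl L54171 rfl
theorem L54178 : sm gb N1834 = N3470 := trfs L54172 (flp_b L34795) rfl
theorem L54179 : N3470 = N907 := eqes L54178 (flp_b L8897)
theorem L54180 : N3470 = N907 := eqc rfl L54179 rfl
theorem L54194 : sm gg N907 = N7234 := trfs L54180 L34805 rfl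
theorem L54195 : N7234 = N1680 := eqes L54194 (flp_g L8162)
theorem L54196 : N7234 = N1680 := eqc rfl L54195 rfl
theorem L54203 : sm gf N1680 = N7119 := trfs L54196 L34811 rfl
theorem L54204 : N7119 = N834 := eqes L54203 (flp_f L8154)
theorem L54205 : N7119 = N834 := eqc rfl L54204 rfl
theorem L54212 : sm gg N834 = N3418 := trfs L54205 (flp_g L34291) rfl
theorem L54213 : N3418 = N422 := eqes L54212 (flp_g L4169)
theorem L54214 : N3418 = N422 := eqc rfl L54213 rfl
theorem L54223 : sm ge N422 = N1655 := trfs L54214 L16411 rfl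
theorem L54224 : N1655 = N213 := eqes L54223 (flp_e L2147)
theorem L54225 : N1655 = N213 := eqc rfl L54224 rfl
theorem L54230 : sm gb N213 = N823 := trfs L54225 (flp_b L8032) rfl
theorem L54231 : N823 = N418 := eqes L54230 (flp_b L2134)
theorem L54232 : N823 = N418 := eqc rfl L54231 rfl
theorem L54239 : sm gf N213 = N835 := trfs L54225 L8036 rfl
theorem L54240 : N835 = N423 := eqes L54239 L2151
theorem L54241 : N835 = N423 := eqc rfl L54240 rfl
theorem L54252 : sm gg N423 = N1683 := trfs L54241 L8172 rfl
theorem L54253 : N1683 = N836 := eqes L54252 L4179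
theorem L54254 : N1683 = N836 := eqc rfl L54253 rfl
theorem L54266 : sm gf N836 = N3484 := trfs L54254 L16729 rfl
theorem L54267 : N3484 = N460 := eqes L54266 (flp_f L4185)
theorem L54268 : N3484 = N460 := eqc rfl L54267 rfl
theorem L54273 : sm gc N460 = N7264 := trfs L54268 (flp_c L34961) rfl
theorem L54274 : N7264 = N235 := eqes L54273 L2354
theorem L54275 : N7264 = N235 := eqc rfl L54274 rfl
theorem L54333 : sm gg N235 = N7126 := trfs L54275 L34963 rfl
theorem L54334 : N7126 = N111 := eqes L54333 (flp_g L1198)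
theorem L54335 : N7126 = N111 := eqc rfl L54334 rfl
theorem L54338 : sm gf N111 = N3479 := trfs L54335 L34327 rfl
theorem L54339 : N3479 = N234 := eqes L54338 L1194
theorem L54340 : N3479 = N234 := eqc rfl L54339 rfl
theorem L54346 : sm gd N234 = N7257 := trfs L54340 L34927 rfl
theorem L54347 : N7257 = N113 := eqes L54346 L1196
theorem L54348 : N7257 = N113 := eqc rfl L54347 rfl
theorem L54356 : sm ga N113 = N3481 := trfs L54348 L34929 rfl
theorem L54357 : N3481 = N205 := eqes L54356 (flp_a L1037)
theorem L54358 : N3481 = N205 := eqc rfl L54357 rfl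
theorem L54360 : sm gb N205 = N215 := trfs L54358 L16717 L53455
theorem L54361 : N215 = N410 := eqes L54360 L2097
theorem L54362 : N215 = N205 := eqc rfl L54361 L53160
theorem L54394 : sm gd N205 = N423 := trfs L54362 (flp_d L2155) rfl
theorem L54395 : N423 = N405 := eqes L54394 (flp_d L2069)
theorem L54396 : N423 = N405 := eqc rfl L54395 rfl
theorem L54403 : sm gg N205 = N429 := trfs L54362 L2179 rfl
theorem L54404 : N429 = N242 := eqes L54403 (flp_g L1232)
theorem L54405 : N429 = N242 := eqc rfl L54404 rfl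
theorem L54415 : sm gd N242 = N836 := trfs L54405 (flp_d L4183) rfl
theorem L54416 : N836 = N467 := eqes L54415 (flp_d L2388)
theorem L54417 : N836 = N467 := eqc rfl L54416 rfl
theorem L54421 : sm gf N242 = N392 := trfs L54405 (flp_f L2183) rfl
theorem L54422 : N392 = N114 := eqes L54421 (flp_f L1226)
theorem L54423 : N392 = N114 := eqc rfl L54422 rfl
theorem L54433 : sm gd N114 = N460 := trfs L54423 (flp_d L2356) rfl
theorem L54434 : N460 = N235 := eqes L54433 (flp_d L1200)
theorem L54435 : N460 = N235 := eqc rfl L54434 rfl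
theorem L54439 : sm gg N114 = N197 := trfs L54423 (flp_g L1993) rfl
theorem L54440 : N197 = N49 := eqes L54439 (flp_g L558)
theorem L54441 : N197 = N49 := eqc rfl L54440 rfl
theorem L54449 : sm gd N49 = N232 := trfs L54441 (flp_d L1190) rfl
theorem L54450 : N232 = N111 := eqes L54449 L548
theorem L54451 : N232 = N111 := eqc rfl L54450 rfl
theorem L54452 : sm ge N49 = N390 := trfs L54441 L1981 rfl
theorem L54453 : N390 = N112 := eqes L54452 L550
theorem L54454 : N390 = N112 := eqc rfl L54453 rfl
theorem L54468 : sm gf N112 = N768 := trfs L54454 L3859 rfl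
theorem L54469 : N768 = N237 := eqes L54468 L1204
theorem L54470 : N768 = N237 := eqc rfl L54469 rfl
theorem L54483 : sm gg N237 = N845 := trfs L54470 (flp_g L4235) rfl
theorem L54484 : N845 = N472 := eqes L54483 L2406
theorem L54485 : N845 = N472 := eqc rfl L54484 rfl
theorem L54497 : sm gf N472 = N427 := trfs L54485 (flp_f L4227) rfl
theorem L54498 : N427 = N409 := eqes L54497 (flp_f L2412)
theorem L54499 : N427 = N409 := eqc rfl L54498 rfl
theorem L54507 : sm gd N409 = N841 := trfs L54499 (flp_d L4209) rfl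
theorem L54508 : N841 = N801 := eqes L54507 (flp_d L4029)
theorem L54509 : N841 = N801 := eqc rfl L54508 rfl
theorem L54525 : sm gg N801 = N425 := trfs L54509 (flp_g L4207) rfl
theorem L54526 : N425 = N407 := eqes L54525 (flp_g L4025)
theorem L54527 : N425 = N407 := eqc rfl L54526 rfl
theorem L54539 : sm gf N407 = N840 := trfs L54527 L4203 rfl
theorem L54540 : N840 = N800 := eqes L54539 L4019
theorem L54541 : N840 = N800 := eqc rfl L54540 rfl
theorem L54551 : sm gg N800 = N1693 := trfs L54541 L8210 rfl
theorem L54552 : N1693 = N932 := eqes L54551 (flp_g L4643)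
theorem L54553 : N1693 = N932 := eqc rfl L54552 rfl
theorem L54562 : sm ge N932 = N3467 := trfs L54553 (flp_e L16643) rfl
theorem L54563 : N3467 = N1849 := eqes L54562 (flp_e L8973)
theorem L54564 : N3467 = N1849 := eqc rfl L54563 rfl
theorem L54575 : sm gd N1849 = N1678 := trfs L54564 L16641 rfl
theorem L54576 : N1678 = N917 := eqes L54575 L8971
theorem L54577 : N1678 = N917 := eqc rfl L54576 rfl
theorem L54578 : sm gf N1849 = N1833 := trfs L54564 (flp_f L16645) rfl
theorem L54579 : N1833 = N913 := eqes L54578 (flp_f L8967)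
theorem L54580 : N1833 = N913 := eqc rfl L54579 rfl
theorem L54589 : sm gd N913 = N908 := trfs L54580 L8893 rfl
theorem L54590 : N908 = N463 := eqes L54589 L4559
theorem L54591 : N908 = N463 := eqc rfl L54590 rfl
theorem L54593 : sm gg N913 = N906 := trfs L54580 (flp_g L8889) rfl
theorem L54594 : N906 = N461 := eqes L54593 (flp_g L4557)
theorem L54595 : N906 = N461 := eqc rfl L54594 rfl
theorem L54603 : sm gd N461 = N458 := trfs L54595 (flp_d L4517) rfl
theorem L54604 : N458 = N233 := eqes L54603 (flp_d L2358)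
theorem L54605 : N458 = N233 := eqc rfl L54604 rfl
theorem L54607 : sm gf N461 = N1832 := trfs L54595 L8881 rfl
theorem L54608 : N1832 = N912 := eqes L54607 L4551
theorem L54609 : N1832 = N912 := eqc rfl L54608 rfl
theorem L54617 : sm gd N912 = N907 := trfs L54609 L8885 rfl
theorem L54618 : N907 = N462 := eqes L54617 L4553
theorem L54619 : N907 = N462 := eqc rfl L54618 rfl
theorem L54622 : sm ga N462 = N833 := trfs L54619 L4525 rfl
theorem L54623 : N833 = N795 := eqes L54622 (flp_a L3995)
theorem L54624 : N833 = N795 := eqc rfl L54623 rfl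
theorem L54628 : sm gc N462 = N462 := trfs L54619 L4527 rfl
theorem L54629 : sm ge N462 = N459 := trfs L54619 L4529 rfl
theorem L54630 : N459 = N234 := eqes L54629 L2364
theorem L54631 : N459 = N234 := eqc rfl L54630 rfl
theorem L54633 : sm gg N462 = N1680 := trfs L54619 (flp_g L8162) rfl
theorem L54634 : N1680 = N915 := eqes L54633 L4567
theorem L54635 : N1680 = N915 := eqc rfl L54634 rfl
theorem L54640 : sm gc N915 = N915 := trfs L54635 L8158 rfl
theorem L54642 : sm ge N915 = N838 := trfs L54635 L8160 rfl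
theorem L54643 : N838 = N465 := eqes L54642 L4569
theorem L54644 : N838 = N465 := eqc rfl L54643 rfl
theorem L54645 : sm gf N915 = N834 := trfs L54635 (flp_f L8154) rfl
theorem L54646 : N834 = N796 := eqes L54645 (flp_f L4571)
theorem L54647 : N834 = N796 := eqc rfl L54646 rfl
theorem L54652 : sm gc N796 = N796 := trfs L54647 L4171 rfl
theorem L54654 : sm ge N796 = N424 := trfs L54647 L4173 rfl
theorem L54655 : N424 = N406 := eqes L54654 L4003
theorem L54656 : N424 = N406 := eqc rfl L54655 rfl
theorem L54657 : sm gg N796 = N422 := trfs L54647 (flp_g L4169) rfl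
theorem L54658 : N422 = N404 := eqes L54657 (flp_g L3999)
theorem L54659 : N422 = N404 := eqc rfl L54658 rfl
theorem L54664 : sm gc N404 = N404 := trfs L54659 L2149 rfl
theorem L54666 : sm ge N404 = N213 := trfs L54659 (flp_e L2147) rfl
theorem L54667 : N213 = N203 := eqes L54666 (flp_e L2061)
theorem L54668 : N213 = N203 := eqc rfl L54667 rfl
theorem L54671 : sm gb N203 = N418 := trfs L54668 (flp_b L2134) rfl
theorem L54672 : N418 = N400 := eqes L54671 (flp_b L2048)
theorem L54673 : N418 = N400 := eqc rfl L54672 rfl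
theorem L54674 : sm gc N203 = N203 := trfs L54668 (flp_c L1085) rfl
theorem L54681 : sm gc N400 = N821 := trfs L54673 L4109 rfl
theorem L54682 : N821 = N783 := eqes L54681 L3939
theorem L54683 : N821 = N783 := eqc rfl L54682 rfl
theorem L54688 : N823 = N400 := L54232.trans L54673
theorem L54689 : sm gf N400 = N400 := trfs L54673 L4117 L54688
theorem L54690 : N400 = N785 := eqes L54689 L3945
theorem L54691 : N785 = N400 := (eqc rfl L54690 rfl).symm
theorem L54692 : sm gg N400 = N824 := trfs L54673 L4121 rfl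
theorem L54693 : N824 = N786 := eqes L54692 L3949
theorem L54694 : N824 = N786 := eqc rfl L54693 rfl
theorem L54710 : sm gf N786 = N1658 := trfs L54694 L8050 rfl
theorem L54711 : N1658 = N786 := eqes L54710 L52795
theorem L54712 : N1658 = N786 := eqc rfl L54711 rfl
theorem L54728 : sm gg N786 = N1641 := trfs L54712 L8056 rfl
theorem L54729 : N1641 = N400 := eqes L54728 (flp_g L3949)
theorem L54730 : N1641 = N400 := eqc rfl L54729 rfl
theorem L54742 : sm ge N400 = N3390 := trfs L54730 (flp_e L16289) rfl
theorem L54743 : N3390 = N784 := eqes L54742 L3941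
theorem L54744 : N3390 = N784 := eqc rfl L54743 rfl
theorem L54756 : sm gd N784 = N7053 := trfs L54744 (flp_d L33971) rfl
theorem L54757 : N7053 = N1570 := eqes L54756 L7645
theorem L54758 : N7053 = N1570 := eqc rfl L54757 rfl
theorem L54759 : sm gf N784 = N1640 := trfs L54744 (flp_f L16285) rfl
theorem L54760 : N1640 = N1571 := eqes L54759 L7651
theorem L54761 : N1571 = N784 := L52758.trans L53385
theorem L54762 : N1640 = N784 := eqc rfl L54760 L54761
theorem L54769 : sm gc N784 = N3386 := trfs L54762 (flp_c L16265) rfl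
theorem L54770 : N3386 = N1567 := eqes L54769 (flp_c L7635)
theorem L54771 : N3386 = N1567 := eqc rfl L54770 rfl
theorem L54776 : sm gg N784 = N3391 := trfs L54762 L16291 rfl
theorem L54777 : N3391 = N1572 := eqes L54776 L7655
theorem L54778 : N3391 = N1572 := eqc rfl L54777 rfl
theorem L54785 : sm gc N1572 = N7049 := trfs L54778 (flp_c L33953) rfl
theorem L54786 : N7049 = N3228 := eqes L54785 (flp_c L15539)
theorem L54787 : N7049 = N3228 := eqc rfl L54786 rfl
theorem L54794 : sm gf N1572 = N3419 := trfs L54778 L16419 rfl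
theorem L54795 : N3419 = N1572 := eqes L54794 L52786
theorem L54796 : N3419 = N1572 := eqc rfl L54795 rfl
theorem L54805 : sm gd N1572 = N7114 := trfs L54796 (flp_d L34255) rfl
theorem L54806 : N7114 = N3235 := eqes L54805 (flp_d L15573)
theorem L54807 : N7114 = N3235 := eqc rfl L54806 rfl
theorem L54814 : sm ge N3235 = N3435 := trfs L54807 L34257 rfl
theorem L54815 : N3435 = N1579 := eqes L54814 L15575
theorem L54816 : N3435 = N1579 := eqc rfl L54815 rfl
theorem L54819 : sm gg N3235 = N3416 := trfs L54807 (flp_g L34253) rfl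
theorem L54820 : N3416 = N1570 := eqes L54819 (flp_g L15571)
theorem L54821 : N3416 = N1570 := eqc rfl L54820 rfl
theorem L54822 : sm ga N1570 = N1570 := trfs L54821 (flp_a L33969) L54758
theorem L54823 : N1570 = N3207 := eqes L54822 (flp_a L15457)
theorem L54824 : N3207 = N1570 := (eqc rfl L54823 rfl).symm
theorem L54827 : sm gc N1570 = N7111 := trfs L54821 (flp_c L34235) rfl
theorem L54828 : N7111 = N3233 := eqes L54827 L15561
theorem L54829 : N7111 = N3233 := eqc rfl L54828 rfl
theorem L54833 : sm gf N1570 = N1652 := trfs L54821 (flp_f L16397) rfl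
theorem L54834 : N1652 = N3234 := eqes L54833 L15565
theorem L54835 : N3234 = N1570 := L52997.trans L54824
theorem L54836 : N1652 = N1570 := eqc rfl L54834 L54835
theorem L54845 : sm gg N1570 = N3417 := trfs L54836 L16403 rfl
theorem L54846 : N3417 = N3235 := eqes L54845 L15571
theorem L54847 : N3417 = N3235 := eqc rfl L54846 rfl
theorem L54858 : sm ge N3235 = N1661 := trfs L54847 L16407 rfl
theorem L54859 : N1661 = N1579 := eqes L54858 L15575
theorem L54860 : N1661 = N1579 := eqc rfl L54859 rfl
theorem L54864 : sm ga N1579 = N3396 := trfs L54860 (flp_a L16317) rfl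
theorem L54865 : N3396 = N3214 := eqes L54864 (flp_a L15493)
theorem L54866 : N3396 = N3214 := eqc rfl L54865 rfl
theorem L54876 : sm gf N1579 = N3437 := trfs L54860 L16503 rfl
theorem L54877 : N3437 = N3255 := eqes L54876 L15671
theorem L54878 : N3437 = N3255 := eqc rfl L54877 rfl
theorem L54880 : sm ga N3255 = N1579 := trfs L54878 L16505 L54816
theorem L54881 : N1579 = N3253 := eqes L54880 L15673
theorem L54882 : N3253 = N1579 := (eqc rfl L54881 rfl).symm
theorem L54894 : sm gg N3255 = N3395 := trfs L54878 L16509 rfl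
theorem L54895 : N3395 = N3213 := eqes L54894 L15677
theorem L54896 : N3395 = N3213 := eqc rfl L54895 rfl
theorem L54899 : N1578 = N787 := L53008.trans L53304
theorem L54911 : sm gf N3213 = N1643 := trfs L54896 (flp_f L16309) rfl
theorem L54912 : N1643 = N1561 := eqes L54911 (flp_f L15485)
theorem L54913 : N1643 = N787 := eqc rfl L54912 L53304
theorem L54926 : sm gg N787 = N3214 := trfs L54913 L16315 L54866
theorem L54927 : N3214 = N1579 := eqes L54926 L7691
theorem L54928 : N3214 = N1579 := eqc rfl L54927 rfl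
theorem L54936 : sm gd N1579 = N1563 := trfs L54928 L15495 rfl
theorem L54937 : N1563 = N789 := eqes L54936 L7693
theorem L54938 : N1563 = N789 := eqc rfl L54937 rfl
theorem L54940 : sm gf N1579 = N1579 := trfs L54928 L15663 L54882
theorem L54941 : N1579 = N3255 := eqes L54940 L15671
theorem L54942 : N3255 = N1579 := (eqc rfl L54941 rfl).symm
theorem L54951 : sm gd N1579 = N1583 := trfs L54942 L15675 rfl
theorem L54952 : N1583 = N789 := eqes L54951 L7693
theorem L54953 : N1583 = N789 := eqc rfl L54952 rfl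
theorem L54955 : sm gf N1579 = N1579 := trfs L54942 (flp_f L15671) rfl
theorem L54956 : sm gg N1579 = N3213 := trfs L54942 L15677 rfl
theorem L54957 : N3213 = N787 := eqes L54956 (flp_g L7691)
theorem L54958 : N3213 = N787 := eqc rfl L54957 rfl
theorem L54962 : sm gc N787 = N6661 := trfs L54958 (flp_c L32126) rfl
theorem L54963 : N6661 = N1577 := eqes L54962 L7685
theorem L54964 : N6661 = N1577 := eqc rfl L54963 rfl
theorem L54969 : sm ga N1577 = N3250 := trfs L54964 L32124 rfl
theorem L54970 : N3250 = N3212 := eqes L54969 (flp_a L15483)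
theorem L54971 : N3250 = N3212 := eqc rfl L54970 rfl
theorem L54980 : sm gd N3212 = N6742 := trfs L54971 (flp_d L32504) rfl
theorem L54981 : N6742 = N6660 := eqes L54980 L32116
theorem L54982 : N6742 = N6660 := eqc rfl L54981 rfl
theorem L54983 : sm ge N3212 = N6707 := trfs L54971 (flp_e L32326) rfl
theorem L54984 : N6707 = N6648 := eqes L54983 (flp_e L32068)
theorem L54985 : N6707 = N6648 := eqc rfl L54984 rfl
theorem L54986 : sm gf N3212 = N1577 := trfs L54971 (flp_f L15645) rfl
theorem L54998 : sm gf N6648 = N3233 := trfs L54985 (flp_f L32322) rfl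
theorem L55000 : sm gf N6660 = N3249 := trfs L54982 (flp_f L32502) rfl
theorem L55002 : sm ga N789 = N1581 := trfs L54953 L7716 rfl
theorem L55003 : N1581 = N1563 := eqes L55002 (flp_a L7622)
theorem L55004 : N1581 = N789 := eqc rfl L55003 L54938
theorem L55019 : sm gg N789 = N788 := trfs L55004 (flp_g L7701) rfl
theorem L55020 : N788 = N401 := eqes L55019 (flp_g L3962)
theorem L55021 : N788 = N401 := eqc rfl L55020 rfl
theorem L55022 : sm ga N401 = N401 := trfs L55021 (flp_a L7615) L52674
theorem L55023 : N401 = N780 := eqes L55022 (flp_a L3926)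
theorem L55024 : N780 = N401 := (eqc rfl L55023 rfl).symm
theorem L55029 : sm ge N401 = N402 := trfs L55021 L3960 rfl
theorem L55030 : N402 = N202 := eqes L55029 (flp_e L2050)
theorem L55031 : N402 = N202 := eqc rfl L55030 rfl
theorem L55032 : sm gf N401 = N401 := trfs L55021 (flp_f L3957) rfl
theorem L55033 : sm ga N202 = N781 := trfs L55031 (flp_a L3931) rfl
theorem L55034 : N781 = N399 := eqes L55033 L2043
theorem L55035 : N781 = N399 := eqc rfl L55034 rfl
theorem L55041 : sm gf N202 = N202 := trfs L55031 (flp_f L2055) rfl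
theorem L55059 : sm gg N399 = N403 := trfs L55035 (flp_g L3985) L52634
theorem L55060 : N403 = N782 := eqes L55059 L3934
theorem L55061 : N782 = N403 := (eqc rfl L55060 rfl).symm
theorem L55063 : sm gb N403 = N1565 := trfs L55061 L7629 rfl
theorem L55064 : N1565 = N792 := eqes L55063 L3976
theorem L55065 : N1565 = N792 := eqc rfl L55064 rfl
theorem L55071 : sm gg N403 = N399 := trfs L55061 (flp_g L3934) rfl
theorem L55072 : N399 = N202 := eqes L55071 (flp_g L2058)
theorem L55073 : N399 = N202 := eqc rfl L55072 rfl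
theorem L55074 : sm ga N202 = N202 := trfs L55073 (flp_a L2043) rfl
theorem L55090 : sm gf N792 = N3222 := trfs L55065 L15517 rfl
theorem L55091 : N3222 = N1590 := eqes L55090 L7745
theorem L55092 : N3222 = N1590 := eqc rfl L55091 rfl
theorem L55109 : sm gg N1590 = N6682 := trfs L55092 L32216 rfl
theorem L55110 : N6682 = N1622 := eqes L55109 L7891
theorem L55111 : N6682 = N1622 := eqc rfl L55110 rfl
theorem L55115 : sm gb N1622 = N4026 := trfs L55111 (flp_b L40695) rfl
theorem L55116 : N4026 = N3347 := eqes L55115 L16098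
theorem L55117 : N4026 = N3347 := eqc rfl L55116 rfl
theorem L55132 : sm gg N3347 = N8412 := trfs L55117 L40709 rfl
theorem L55133 : N8412 = N3347 := eqes L55132 L52604
theorem L55134 : N8412 = N3347 := eqc rfl L55133 rfl
theorem L55141 : sm gf N3347 = N8410 := trfs L55134 L40713 rfl
theorem L55142 : N8410 = N3752 := eqes L55141 L52602
theorem L55143 : N8410 = N3752 := eqc rfl L55142 rfl
theorem L55150 : sm gg N3752 = N4025 := trfs L55143 (flp_g L40701) rfl
theorem L55151 : N4025 = N7840 := eqes L55150 L37705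
theorem L55152 : N7838 = N4025 := (eqc rfl L55151 L52593).symm
theorem L55155 : sm gb N4025 = N7873 := trfs L55152 (flp_b L38056) rfl
theorem L55156 : N7873 = N1928 := eqes L55155 (flp_b L19321)
theorem L55157 : N7873 = N1928 := eqc rfl L55156 rfl
theorem L55158 : sm ga N1928 = N3771 := trfs L55157 (flp_a L38052) rfl
theorem L55159 : N3771 = N1935 := eqes L55158 (flp_a L9359)
theorem L55160 : N3771 = N1935 := eqc rfl L55159 rfl
theorem L55161 : sm gf N1928 = N6916 := trfs L55157 L38054 rfl
theorem L55162 : N6916 = N946 := eqes L55161 (flp_f L9331)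
theorem L55163 : N6916 = N946 := eqc rfl L55162 rfl
theorem L55167 : sm gb N946 = N3330 := trfs L55163 (flp_b L33362) rfl
theorem L55168 : N3330 = N477 := eqes L55167 (flp_b L4701)
theorem L55169 : N3330 = N477 := eqc rfl L55168 rfl
theorem L55183 : sm gf N477 = N6917 := trfs L55169 L33366 rfl
theorem L55184 : N6917 = N947 := eqes L55183 L4705
theorem L55185 : N6917 = N947 := eqc rfl L55184 rfl
theorem L55190 : sm gg N947 = N6909 := trfs L55185 L33370 rfl
theorem L55191 : N6909 = N894 := eqes L55190 L4709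
theorem L55192 : N6909 = N894 := eqc rfl L55191 rfl
theorem L55196 : sm gb N894 = N7528 := trfs L55192 (flp_b L36155) rfl
theorem L55197 : N7528 = N1804 := eqes L55196 L8751
theorem L55198 : N7528 = N1804 := eqc rfl L55197 rfl
theorem L55199 : sm gf N894 = N3327 := trfs L55192 (flp_f L33332) rfl
theorem L55200 : N3327 = N475 := eqes L55199 L4475
theorem L55201 : N3327 = N475 := eqc rfl L55200 rfl
theorem L55203 : sm gb N475 = N1913 := trfs L55201 L16026 rfl
theorem L55204 : N1913 = N941 := eqes L55203 L4681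
theorem L55205 : N1913 = N941 := eqc rfl L55204 rfl
theorem L55212 : sm ge N475 = N6882 := trfs L55201 (flp_e L33194) rfl
theorem L55213 : N6882 = N933 := eqes L55212 (flp_e L4647)
theorem L55214 : N6882 = N933 := eqc rfl L55213 rfl
theorem L55219 : sm gb N933 = N3945 := trfs L55214 L33196 rfl
theorem L55220 : N3945 = N1893 := eqes L55219 L9159
theorem L55221 : N3945 = N1893 := eqc rfl L55220 rfl
theorem L55222 : sm ga N1893 = N1893 := trfs L55221 (flp_a L18933) rfl
theorem L55226 : sm gd N1893 = N8221 := trfs L55221 (flp_d L39699) rfl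
theorem L55227 : N8221 = N3925 := eqes L55226 (flp_d L18839)
theorem L55228 : N8221 = N3925 := eqc rfl L55227 rfl
theorem L55231 : sm gg N1893 = N8268 := trfs L55221 L39901 rfl
theorem L55232 : N8268 = N3948 := eqes L55231 L18945
theorem L55233 : N8268 = N3948 := eqc rfl L55232 rfl
theorem L55241 : sm ge N3948 = N3993 := trfs L55233 L39905 rfl
theorem L55242 : N3993 = N1916 := eqes L55241 L18947
theorem L55243 : N3993 = N1916 := eqc rfl L55242 rfl
theorem L55253 : sm gd N1916 = N8086 := trfs L55243 (flp_d L39154) rfl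
theorem L55254 : N8086 = N3867 := eqes L55253 (flp_d L18603)
theorem L55255 : N8086 = N3867 := eqc rfl L55254 rfl
theorem L55266 : sm gg N3867 = N3864 := trfs L55255 (flp_g L39150) rfl
theorem L55267 : N3864 = N1858 := eqes L55266 (flp_g L18601)
theorem L55268 : N3864 = N1858 := eqc rfl L55267 rfl
theorem L55269 : sm ga N1858 = N1858 := trfs L55268 (flp_a L18591) rfl
theorem L55275 : sm ge N1858 = N8038 := trfs L55268 (flp_e L38910) rfl
theorem L55276 : N8038 = N3844 := eqes L55275 (flp_e L18485)
theorem L55277 : N8038 = N3844 := eqc rfl L55276 rfl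
theorem L55278 : sm gf N1858 = N8085 := trfs L55268 L39144 rfl
theorem L55279 : N8085 = N3866 := eqes L55278 L18597
theorem L55280 : N8085 = N3866 := eqc rfl L55279 rfl
theorem L55282 : sm gd N3866 = N3991 := trfs L55280 L39148 rfl
theorem L55283 : N3991 = N1914 := eqes L55282 L23857
theorem L55284 : N3991 = N1914 := eqc rfl L55283 rfl
theorem L55287 : sm gb N1914 = N8356 := trfs L55284 L40399 rfl
theorem L55288 : N8356 = N3741 := eqes L55287 L23835
theorem L55289 : N8356 = N3741 := eqc rfl L55288 rfl
theorem L55298 : sm gg N3741 = N8455 := trfs L55289 (flp_g L40960) rfl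
theorem L55299 : N8455 = N7819 := eqes L55298 L37599
theorem L55300 : N8455 = N7819 := eqc rfl L55299 rfl
theorem L55303 : sm gc N7819 = N5937 := trfs L55300 L40956 rfl
theorem L55304 : N5937 = N4004 := eqes L55303 L37601
theorem L55305 : N5937 = N4004 := eqc rfl L55304 rfl
theorem L55306 : sm gf N7819 = N7530 := trfs L55300 L40958 rfl
theorem L55307 : N7530 = N7815 := eqes L55306 (flp_f L37603)
theorem L55308 : N7815 = N7530 := (eqc rfl L55307 rfl).symm
theorem L55318 : sm gg N7530 = N3739 := trfs L55308 (flp_g L37578) rfl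
theorem L55319 : N3739 = N3608 := eqes L55318 (flp_g L36159)
theorem L55320 : N3739 = N3608 := eqc rfl L55319 rfl
theorem L55323 : sm gb N3608 = N7640 := trfs L55320 (flp_b L36710) rfl
theorem L55324 : N7640 = N1741 := eqes L55323 (flp_b L17317)
theorem L55325 : N7640 = N230 := eqc rfl L55324 L49439
theorem L55326 : sm gc N3608 = N7813 := trfs L55320 L37562 rfl
theorem L55327 : N7813 = N7529 := eqes L55326 L36157
theorem L55328 : N7813 = N7529 := eqc rfl L55327 rfl
theorem L55332 : sm ge N3608 = N7775 := trfs L55320 (flp_e L37339) rfl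
theorem L55333 : N7775 = N7526 := eqes L55332 (flp_e L36147)
theorem L55334 : N7775 = N7526 := eqc rfl L55333 rfl
theorem L55336 : sm ga N7526 = N3723 := trfs L55334 (flp_a L37337) rfl
theorem L55340 : sm ga N7529 = N3740 := trfs L55328 L37564 rfl
theorem L55342 : sm gb N7529 = N4933 := trfs L55328 L37568 rfl
theorem L55346 : sm gg N7529 = N8367 := trfs L55328 (flp_g L40485) rfl
theorem L55351 : sm gc N230 = N7548 := trfs L55325 L36706 rfl
theorem L55352 : N7548 = N130 := eqes L55351 L1180
theorem L55353 : N7548 = N130 := eqc rfl L55352 rfl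
theorem L55361 : sm gg N130 = N8721 := trfs L55353 (flp_g L42259) rfl
theorem L55362 : N8721 = N269 := eqes L55361 L1382
theorem L55363 : N8721 = N269 := eqc rfl L55362 rfl
theorem L55367 : sm gf N269 = N4190 := trfs L55363 (flp_f L42255) rfl
theorem L55368 : N4190 = N261 := eqes L55367 (flp_f L1384)
theorem L55369 : N4190 = N261 := eqc rfl L55368 rfl
theorem L55373 : sm gb N261 = N8720 := trfs L55369 L42245 rfl
theorem L55374 : N8720 = N513 := eqes L55373 L2623
theorem L55375 : N8720 = N513 := eqc rfl L55374 rfl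
theorem L55413 : sm gf N513 = N8377 := trfs L55375 (flp_f L42253) rfl
theorem L55414 : N8377 = N1015 := eqes L55413 L5041
theorem L55415 : N8377 = N1015 := eqc rfl L55414 rfl
theorem L55421 : sm gc N1015 = N4009 := trfs L55415 (flp_c L40535) rfl
theorem L55422 : N4009 = N1943 := eqes L55421 (flp_c L51092)
theorem L55423 : N4009 = N1943 := eqc rfl L55422 rfl
theorem L55424 : sm ga N1943 = N1920 := trfs L55423 (flp_a L19253) rfl
theorem L55425 : N1920 = N4059 := eqes L55424 L19453
theorem L55426 : N4059 = N1920 := (eqc rfl L55425 rfl).symm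
theorem L55427 : sm gb N1943 = N8376 := trfs L55423 L40533 rfl
theorem L55428 : N8376 = N953 := eqes L55427 (flp_b L9385)
theorem L55429 : N8376 = N953 := eqc rfl L55428 rfl
theorem L55430 : sm gd N1943 = N8101 := trfs L55423 (flp_d L39218) rfl
theorem L55431 : N8101 = N3894 := eqes L55430 (flp_d L18719)
theorem L55432 : N8101 = N3894 := eqc rfl L55431 rfl
theorem L55438 : sm gg N1943 = N8358 := trfs L55423 (flp_g L40431) rfl
theorem L55439 : N8358 = N2806 := eqes L55438 (flp_g L13640)
theorem L55440 : N8358 = N2806 := eqc rfl L55439 rfl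
theorem L55444 : sm gf N2806 = N6797 := trfs L55440 L40433 rfl
theorem L55445 : N6797 = N3272 := eqes L55444 (flp_f L49244)
theorem L55446 : N6797 = N3272 := eqc rfl L55445 rfl
theorem L55454 : sm gg N3272 = N4011 := trfs L55446 (flp_g L32795) rfl
theorem L55455 : N4011 = N2063 := eqes L55454 (flp_g L51151)
theorem L55456 : N4011 = N2063 := eqc rfl L55455 rfl
theorem L55461 : sm gd N2063 = N8103 := trfs L55456 (flp_d L39224) rfl
theorem L55462 : N8103 = N4298 := eqes L55461 L20693
theorem L55463 : N8103 = N4298 := eqc rfl L55462 rfl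
theorem L55464 : sm ge N2063 = N8281 := trfs L55456 (flp_e L39979) rfl
theorem L55465 : N8281 = N4283 := eqes L55464 (flp_e L20621)
theorem L55466 : N8281 = N4283 := eqc rfl L55465 rfl
theorem L55473 : sm gf N4283 = N3952 := trfs L55466 (flp_f L39977) rfl
theorem L55474 : N3952 = N8324 := eqes L55473 (flp_f L51167)
theorem L55475 : N8324 = N3952 := (eqc rfl L55474 rfl).symm
theorem L55482 : sm gf N3952 = N4283 := trfs L55475 L51167 rfl
theorem L55491 : sm gf N4298 = N3871 := trfs L55463 (flp_f L39222) rfl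
theorem L55492 : N3871 = N8908 := eqes L55491 L43234
theorem L55493 : N8908 = N3871 := (eqc rfl L55492 rfl).symm
theorem L55497 : sm gf N3871 = N4298 := trfs L55493 (flp_f L43234) rfl
theorem L55516 : sm ga N3894 = N3871 := trfs L55432 (flp_a L39216) rfl
theorem L55517 : N3871 = N8153 := eqes L55516 L39434
theorem L55518 : N8153 = N3871 := (eqc rfl L55517 rfl).symm
theorem L55519 : sm ga N3871 = N3894 := trfs L55518 (flp_a L39434) rfl
theorem L55526 : sm gg N953 = N7533 := trfs L55429 (flp_g L40879) rfl
theorem L55527 : N7533 = N900 := eqes L55526 (flp_g L4731)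
theorem L55528 : N7533 = N900 := eqc rfl L55527 rfl
theorem L55532 : sm gf N900 = N3609 := trfs L55528 (flp_f L36165) rfl
theorem L55533 : N3609 = N455 := eqes L55532 (flp_f L4497)
theorem L55534 : N3609 = N455 := eqc rfl L55533 rfl
theorem L55545 : sm ge N455 = N7527 := trfs L55534 (flp_e L36151) rfl
theorem L55546 : N7527 = N892 := eqes L55545 (flp_e L4459)
theorem L55547 : N7527 = N892 := eqc rfl L55546 rfl
theorem L55553 : sm gb N892 = N3607 := trfs L55547 (flp_b L36149) rfl
theorem L55554 : N3607 = N452 := eqes L55553 (flp_b L4457)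
theorem L55555 : N3607 = N452 := eqc rfl L55554 rfl
theorem L55558 : sm gd N452 = N7525 := trfs L55555 (flp_d L36143) rfl
theorem L55559 : N7525 = N889 := eqes L55558 (flp_d L4441)
theorem L55560 : N7525 = N889 := eqc rfl L55559 rfl
theorem L55570 : sm gg N889 = N3605 := trfs L55560 (flp_g L36139) rfl
theorem L55571 : N3605 = N450 := eqes L55570 (flp_g L4439)
theorem L55572 : N3605 = N450 := eqc rfl L55571 rfl
theorem L55573 : sm ga N450 = N1750 := trfs L55572 L17303 rfl
theorem L55574 : N1750 = N875 := eqes L55573 (flp_a L4369)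
theorem L55575 : N1750 = N875 := eqc rfl L55574 rfl
theorem L55584 : sm gf N450 = N7524 := trfs L55572 L36133 rfl
theorem L55585 : N7524 = N888 := eqes L55584 L4435
theorem L55586 : N7524 = N888 := eqc rfl L55585 rfl
theorem L55593 : sm gg N888 = N7576 := trfs L55586 (flp_g L36395) rfl
theorem L55594 : N7576 = N1793 := eqes L55593 L8687
theorem L55595 : N7576 = N1793 := eqc rfl L55594 rfl
theorem L55597 : sm gd N1793 = N3633 := trfs L55595 L36393 rfl
theorem L55598 : N3633 = N891 := eqes L55597 L8689
theorem L55599 : N3633 = N891 := eqc rfl L55598 rfl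
theorem L55606 : sm ge N891 = N1756 := trfs L55599 L17451 rfl
theorem L55607 : N1756 = N454 := eqes L55606 L4453
theorem L55608 : N1756 = N454 := eqc rfl L55607 rfl
theorem L55616 : sm gd N454 = N3626 := trfs L55608 (flp_d L17415) rfl
theorem L55617 : N3626 = N884 := eqes L55616 (flp_d L4413)
theorem L55618 : N3626 = N884 := eqc rfl L55617 rfl
theorem L55636 : sm gg N884 = N3603 := trfs L55618 L17417 rfl
theorem L55637 : N3603 = N448 := eqes L55636 (flp_g L4411)
theorem L55638 : N3603 = N448 := eqc rfl L55637 rfl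
theorem L55649 : sm ge N448 = N7519 := trfs L55638 (flp_e L36111) rfl
theorem L55650 : N7519 = N881 := eqes L55649 (flp_e L4399)
theorem L55651 : N7519 = N881 := eqc rfl L55650 rfl
theorem L55659 : sm gf N881 = N3602 := trfs L55651 (flp_f L36105) rfl
theorem L55660 : N3602 = N447 := eqes L55659 (flp_f L4397)
theorem L55661 : N3602 = N447 := eqc rfl L55660 rfl
theorem L55663 : sm ga N447 = N1747 := trfs L55661 L17281 rfl
theorem L55664 : N1747 = N872 := eqes L55663 (flp_a L4347)
theorem L55665 : N1747 = N872 := eqc rfl L55664 rfl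
theorem L55672 : sm gg N447 = N7520 := trfs L55661 L36113 rfl
theorem L55673 : N7520 = N882 := eqes L55672 L4401
theorem L55674 : N7520 = N882 := eqc rfl L55673 rfl
theorem L55675 : sm ga N882 = N3622 := trfs L55674 L36115 rfl
theorem L55676 : N3622 = N1759 := eqes L55675 (flp_a L8527)
theorem L55677 : N3622 = N1759 := eqc rfl L55676 rfl
theorem L55684 : sm gf N882 = N7559 := trfs L55674 L36305 rfl
theorem L55685 : N7559 = N1779 := eqes L55684 L8621
theorem L55686 : N7559 = N1779 := eqc rfl L55685 rfl
theorem L55688 : sm gc N1779 = N3791 := trfs L55686 L36301 rfl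
theorem L55689 : N3791 = N1777 := eqes L55688 L8625
theorem L55690 : N3791 = N1777 := eqc rfl L55689 rfl
theorem L55706 : sm gg N1777 = N1825 := trfs L55690 (flp_g L18201) rfl
theorem L55707 : N1825 = N881 := eqes L55706 (flp_g L8609)
theorem L55708 : N1825 = N881 := eqc rfl L55707 rfl
theorem L55720 : sm gf N881 = N903 := trfs L55708 (flp_f L8841) rfl
theorem L55721 : N903 = N447 := eqes L55720 (flp_f L4397)
theorem L55722 : N903 = N447 := eqc rfl L55721 rfl
theorem L55730 : sm gg N447 = N1826 := trfs L55722 L8845 rfl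
theorem L55731 : N1826 = N882 := eqes L55730 L4401
theorem L55732 : N1826 = N882 := eqc rfl L55731 rfl
theorem L55741 : sm ge N882 = N905 := trfs L55732 L8847 rfl
theorem L55742 : N905 = N449 := eqes L55741 L4403
theorem L55743 : N905 = N449 := eqc rfl L55742 rfl
theorem L55752 : sm gd N449 = N766 := trfs L55743 L4515 rfl
theorem L55753 : N766 = N231 := eqes L55752 L2292
theorem L55754 : N766 = N231 := eqc rfl L55753 rfl
theorem L55769 : sm gf N231 = N1531 := trfs L55754 L7468 rfl
theorem L55770 : N1531 = N456 := eqes L55769 L2324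
theorem L55771 : N1531 = N456 := eqc rfl L55770 rfl
theorem L55786 : sm gg N456 = N1523 := trfs L55771 L7472 rfl
theorem L55787 : N1523 = N445 := eqes L55786 L2330
theorem L55788 : N1523 = N445 := eqc rfl L55787 rfl
theorem L55802 : sm gf N445 = N763 := trfs L55788 (flp_f L7436) rfl
theorem L55803 : N763 = N227 := eqes L55802 (flp_f L2270)
theorem L55804 : N763 = N227 := eqc rfl L55803 rfl
theorem L55815 : sm ge N227 = N1522 := trfs L55804 L7432 rfl
theorem L55816 : N1522 = N444 := eqes L55815 L2264
theorem L55817 : N1522 = N444 := eqc rfl L55816 rfl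
theorem L55830 : sm gg N444 = N3133 := trfs L55817 L15113 rfl
theorem L55831 : N3133 = N877 := eqes L55830 L4379
theorem L55832 : N3133 = N877 := eqc rfl L55831 rfl
theorem L55844 : sm gf N877 = N3140 := trfs L55832 L15143 rfl
theorem L55845 : N3140 = N891 := eqes L55844 L4455
theorem L55846 : N3140 = N891 := eqc rfl L55845 rfl
theorem L55858 : sm gg N891 = N1526 := trfs L55846 (flp_g L15139) rfl
theorem L55859 : N1526 = N451 := eqes L55858 (flp_g L4449)
theorem L55860 : N1526 = N451 := eqc rfl L55859 rfl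
theorem L55868 : sm gd N451 = N3137 := trfs L55860 (flp_d L15127) rfl
theorem L55869 : N3137 = N888 := eqes L55868 (flp_d L4437)
theorem L55870 : N3137 = N888 := eqc rfl L55869 rfl
theorem L55883 : sm gf N888 = N1525 := trfs L55870 (flp_f L15125) rfl
theorem L55884 : N1525 = N450 := eqes L55883 (flp_f L4435)
theorem L55885 : N1525 = N450 := eqc rfl L55884 rfl
theorem L55894 : sm gg N450 = N3138 := trfs L55885 L15129 rfl
theorem L55895 : N3138 = N889 := eqes L55894 L4439
theorem L55896 : N3138 = N889 := eqc rfl L55895 rfl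
theorem L55906 : sm gf N889 = N6498 := trfs L55896 L31396 rfl
theorem L55907 : N6498 = N1795 := eqes L55906 L8699
theorem L55908 : N6498 = N1795 := eqc rfl L55907 rfl
theorem L55911 : sm ge N1795 = N7916 := trfs L55908 (flp_e L38268) rfl
theorem L55912 : N7916 = N3679 := eqes L55911 (flp_e L17686)
theorem L55913 : N7916 = N3679 := eqc rfl L55912 rfl
theorem L55918 : sm gg N3679 = N7899 := trfs L55913 L38270 rfl
theorem L55919 : N7899 = N3641 := eqes L55918 L17688
theorem L55920 : N7899 = N3641 := eqc rfl L55919 rfl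
theorem L55924 : sm gf N3641 = N3782 := trfs L55920 (flp_f L38174) rfl
theorem L55925 : N3782 = N1757 := eqes L55924 (flp_f L17477)
theorem L55926 : N3782 = N1757 := eqc rfl L55925 rfl
theorem L55928 : sm gb N1757 = N7891 := trfs L55926 (flp_b L38130) rfl
theorem L55929 : N7891 = N3620 := eqes L55928 (flp_b L17373)
theorem L55930 : N7891 = N3620 := eqc rfl L55929 rfl
theorem L55931 : sm gc N1757 = N7898 := trfs L55926 L38168 rfl
theorem L55932 : N7898 = N3640 := eqes L55931 L17471
theorem L55933 : N7898 = N3640 := eqc rfl L55932 rfl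
theorem L55943 : sm ga N3640 = N3787 := trfs L55933 L38170 rfl
theorem L55944 : N3787 = N1773 := eqes L55943 L17473
theorem L55945 : N3787 = N1773 := eqc rfl L55944 rfl
theorem L55951 : sm gb N1773 = N7909 := trfs L55945 L38218 rfl
theorem L55952 : N7909 = N3672 := eqes L55951 L17635
theorem L55953 : N7909 = N3672 := eqc rfl L55952 rfl
theorem L55972 : sm ge N3672 = N6491 := trfs L55953 L38220 rfl
theorem L55973 : N6491 = N1788 := eqes L55972 L17637
theorem L55974 : N6491 = N1788 := eqc rfl L55973 rfl
theorem L55976 : sm gc N1788 = N3150 := trfs L55974 L31366 rfl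
theorem L55977 : N3150 = N926 := eqes L55976 L8669
theorem L55978 : N3150 = N926 := eqc rfl L55977 rfl
theorem L55992 : sm gg N926 = N6521 := trfs L55978 L31488 rfl
theorem L55993 : N6521 = N1880 := eqes L55992 L9109
theorem L55994 : N6521 = N1880 := eqc rfl L55993 rfl
theorem L55995 : sm gd N1880 = N3500 := trfs L55994 L31490 rfl
theorem L55996 : N3500 = N3306 := eqes L55995 (flp_d L15922)
theorem L55997 : N3500 = N3306 := eqc rfl L55996 rfl
theorem L56014 : sm gf N3306 = N7304 := trfs L55997 L35141 rfl
theorem L56015 : N7304 = N6863 := eqes L56014 L33100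
theorem L56016 : N7304 = N6863 := eqc rfl L56015 rfl
theorem L56021 : sm gg N6863 = N7299 := trfs L56016 L35145 rfl
theorem L56022 : N7299 = N6858 := eqes L56021 L33106
theorem L56023 : N7299 = N6858 := eqc rfl L56022 rfl
theorem L56027 : sm gf N6858 = N3498 := trfs L56023 (flp_f L35121) rfl
theorem L56028 : N3498 = N3304 := eqes L56027 (flp_f L33070)
theorem L56029 : N3498 = N3304 := eqc rfl L56028 rfl
theorem L56038 : sm ge N3304 = N7214 := trfs L56029 (flp_e L34699) rfl
theorem L56039 : N7214 = N6803 := eqes L56038 (flp_e L32812)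
theorem L56040 : N7214 = N6803 := eqc rfl L56039 rfl
theorem L56042 : sm ga N6803 = N3462 := trfs L56040 (flp_a L34697) rfl
theorem L56043 : N3462 = N3280 := eqes L56042 (flp_a L32810)
theorem L56044 : N3462 = N3280 := eqc rfl L56043 rfl
theorem L56048 : sm gc N3280 = N7109 := trfs L56044 (flp_c L34229) rfl
theorem L56049 : N7109 = N6705 := eqes L56048 (flp_c L32318)
theorem L56050 : N7109 = N6705 := eqc rfl L56049 rfl
theorem L56051 : sm gd N3280 = N7215 := trfs L56044 L34701 rfl
theorem L56052 : N7215 = N6804 := eqes L56051 L32814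
theorem L56053 : N7215 = N6804 := eqc rfl L56052 rfl
theorem L56060 : sm gb N6804 = N3463 := trfs L56053 L34703 rfl
theorem L56061 : N3463 = N3281 := eqes L56060 L32816
theorem L56062 : N3463 = N3281 := eqc rfl L56061 rfl
theorem L56063 : sm ge N6804 = N7942 := trfs L56053 (flp_e L38392) rfl
theorem L56064 : N7942 = N3827 := eqes L56063 L32818
theorem L56065 : N7942 = N3827 := eqc rfl L56064 rfl
theorem L56066 : sm gb N3827 = N3803 := trfs L56065 L38390 rfl
theorem L56067 : N3803 = N1843 := eqes L56066 L18395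
theorem L56068 : N3803 = N1843 := eqc rfl L56067 rfl
theorem L56075 : sm gf N1843 = N7945 := trfs L56068 L38402 rfl
theorem L56076 : N7945 = N3830 := eqes L56075 L18405
theorem L56077 : N7945 = N3830 := eqc rfl L56076 rfl
theorem L56078 : sm gg N1843 = N7946 := trfs L56068 L38412 rfl
theorem L56079 : N7946 = N3831 := eqes L56078 L18409
theorem L56080 : N7946 = N3831 := eqc rfl L56079 rfl
theorem L56081 : sm ga N3831 = N7219 := trfs L56080 L38414 rfl
theorem L56082 : N7219 = N6808 := eqes L56081 (flp_a L32838)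
theorem L56083 : N7219 = N6808 := eqc rfl L56082 rfl
theorem L56088 : sm gc N6808 = N3831 := trfs L56083 L34721 rfl
theorem L56090 : sm gd N6808 = N3465 := trfs L56083 L34723 rfl
theorem L56091 : N3465 = N3283 := eqes L56090 L32840
theorem L56092 : N3465 = N3283 := eqc rfl L56091 rfl
theorem L56095 : sm gb N3283 = N7222 := trfs L56092 L34737 rfl
theorem L56096 : N7222 = N6810 := eqes L56095 L32848
theorem L56097 : N7222 = N6810 := eqc rfl L56096 rfl
theorem L56175 : sm ge N6810 = N3503 := trfs L56097 L34739 rfl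
theorem L56176 : N3503 = N3308 := eqes L56175 L32850
theorem L56177 : N3503 = N3308 := eqc rfl L56176 rfl
theorem L56182 : sm gc N3308 = N7310 := trfs L56177 L35159 rfl
theorem L56183 : N7310 = N6868 := eqes L56182 L33124
theorem L56184 : N7310 = N6868 := eqc rfl L56183 rfl
theorem L56205 : sm gb N6868 = N3510 := trfs L56184 L35161 rfl
theorem L56206 : N3510 = N3313 := eqes L56205 L33126
theorem L56207 : N3510 = N3313 := eqc rfl L56206 rfl
theorem L56218 : sm gf N3313 = N7327 := trfs L56207 L35235 rfl
theorem L56219 : N7327 = N6880 := eqes L56218 L33180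
theorem L56220 : N7327 = N6880 := eqc rfl L56219 rfl
theorem L56225 : sm gc N6880 = N3511 := trfs L56220 L35237 rfl
theorem L56226 : N3511 = N3314 := eqes L56225 L33182
theorem L56227 : N3511 = N3314 := eqc rfl L56226 rfl
theorem L56241 : sm gg N3314 = N7329 := trfs L56227 L35245 rfl
theorem L56242 : N7329 = N6881 := eqes L56241 L33184
theorem L56243 : N7329 = N6881 := eqc rfl L56242 rfl
theorem L56250 : sm gf N6881 = N7156 := trfs L56243 (flp_f L35251) rfl
theorem L56251 : N7156 = N6752 := eqes L56250 (flp_f L33190)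
theorem L56252 : N7156 = N6752 := eqc rfl L56251 rfl
theorem L56257 : sm gg N6752 = N3509 := trfs L56252 L34457 rfl
theorem L56258 : N3509 = N3312 := eqes L56257 L32550
theorem L56259 : N3509 = N3312 := eqc rfl L56258 rfl
theorem L56268 : sm ge N3312 = N7228 := trfs L56259 (flp_e L34777) rfl
theorem L56269 : N7228 = N6814 := eqes L56268 (flp_e L32872)
theorem L56270 : N7228 = N6814 := eqc rfl L56269 rfl
theorem L56275 : sm gd N6814 = N3474 := trfs L56270 L34775 rfl
theorem L56276 : N3474 = N3289 := eqes L56275 L32870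
theorem L56277 : N3474 = N3289 := eqc rfl L56276 rfl
theorem L56291 : sm gg N3289 = N7121 := trfs L56277 (flp_g L34303) rfl
theorem L56292 : N7121 = N6717 := eqes L56291 (flp_g L32392)
theorem L56293 : N7121 = N6717 := eqc rfl L56292 rfl
theorem L56300 : sm gf N6717 = N7248 := trfs L56293 L34893 rfl
theorem L56301 : N7248 = N6828 := eqes L56300 L32950
theorem L56302 : N7248 = N6828 := eqc rfl L56301 rfl
theorem L56309 : sm gg N6828 = N3476 := trfs L56302 (flp_g L34887) rfl
theorem L56310 : N3476 = N3291 := eqes L56309 (flp_g L32944)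
theorem L56311 : N3476 = N3291 := eqc rfl L56310 rfl
theorem L56320 : sm ge N3291 = N1687 := trfs L56311 L16693 rfl
theorem L56321 : N1687 = N1602 := eqes L56320 L15850
theorem L56322 : N1687 = N1602 := eqc rfl L56321 rfl
theorem L56336 : sm gf N1602 = N837 := trfs L56322 (flp_f L8188) rfl
theorem L56337 : N837 = N798 := eqes L56336 (flp_f L7795)
theorem L56338 : N837 = N798 := eqc rfl L56337 rfl
theorem L56345 : sm gd N798 = N430 := trfs L56338 L4189 rfl
theorem L56346 : N430 = N411 := eqes L56345 L4011
theorem L56347 : N430 = N411 := eqc rfl L56346 rfl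
theorem L56359 : sm gg N411 = N830 := trfs L56347 (flp_g L4150) rfl
theorem L56360 : N830 = N792 := eqes L56359 (flp_g L3978)
theorem L56361 : N830 = N792 := eqc rfl L56360 rfl
theorem L56373 : sm gf N792 = N1672 := trfs L56361 L8118 rfl
theorem L56374 : N1672 = N1590 := eqes L56373 L7745
theorem L56375 : N1672 = N1590 := eqc rfl L56374 rfl
theorem L56391 : sm gg N1590 = N1716 := trfs L56375 L8314 rfl
theorem L56392 : N1716 = N1622 := eqes L56391 L7891
theorem L56393 : N1716 = N1622 := eqc rfl L56392 rfl
theorem L56402 : sm ge N1622 = N3525 := trfs L56393 (flp_e L16929) rfl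
theorem L56403 : N3525 = N3323 := eqes L56402 (flp_e L16002)
theorem L56404 : N3525 = N3323 := eqc rfl L56403 rfl
theorem L56410 : sm gc N3323 = N7361 := trfs L56404 (flp_c L35409) rfl
theorem L56411 : N7361 = N6901 := eqes L56410 (flp_c L33292)
theorem L56412 : N7361 = N6901 := eqc rfl L56411 rfl
theorem L56423 : sm gg N6901 = N7171 := trfs L56412 (flp_g L35413) rfl
theorem L56424 : N7171 = N6767 := eqes L56423 (flp_g L33296)
theorem L56425 : N7171 = N6767 := eqc rfl L56424 rfl
theorem L56431 : sm gf N6767 = N3443 := trfs L56425 (flp_f L34532) rfl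
theorem L56432 : N3443 = N3261 := eqes L56431 (flp_f L32633)
theorem L56433 : N3443 = N3261 := eqc rfl L56432 rfl
theorem L56443 : sm gg N3261 = N1701 := trfs L56433 L16542 rfl
theorem L56444 : N1701 = N1612 := eqes L56443 L15710
theorem L56445 : N1701 = N1612 := eqc rfl L56444 rfl
theorem L56451 : sm gd N1612 = N3526 := trfs L56445 L16933 rfl
theorem L56452 : N3526 = N3324 := eqes L56451 L16006
theorem L56453 : N3526 = N3324 := eqc rfl L56452 rfl
theorem L56465 : sm ge N3324 = N7364 := trfs L56453 L35421 rfl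
theorem L56466 : N7364 = N6904 := eqes L56465 L33304
theorem L56467 : N7364 = N6904 := eqc rfl L56466 rfl
theorem L56476 : sm gd N6904 = N3564 := trfs L56467 L35425 rfl
theorem L56477 : N3564 = N3349 := eqes L56476 L33308
theorem L56478 : N3564 = N3349 := eqc rfl L56477 rfl
theorem L56494 : sm gg N3349 = N7202 := trfs L56478 (flp_g L34653) rfl
theorem L56495 : N7202 = N6791 := eqes L56494 (flp_g L32762)
theorem L56496 : N7202 = N6791 := eqc rfl L56495 rfl
theorem L56498 : sm ge N6791 = N3456 := trfs L56496 (flp_e L34650) rfl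
theorem L56499 : N3456 = N3274 := eqes L56498 (flp_e L32759)
theorem L56500 : N3456 = N3274 := eqc rfl L56499 rfl
theorem L56509 : sm gf N3274 = N7203 := trfs L56500 L34655 rfl
theorem L56510 : N7203 = N6792 := eqes L56509 L32764
theorem L56511 : N7203 = N6792 := eqc rfl L56510 rfl
theorem L56517 : sm gg N6792 = N7442 := trfs L56511 L35755 rfl
theorem L56518 : N7442 = N6954 := eqes L56517 L33528
theorem L56519 : N7442 = N6954 := eqc rfl L56518 rfl
theorem L56524 : sm gf N6954 = N3560 := trfs L56519 (flp_f L35749) rfl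
theorem L56525 : N3560 = N3345 := eqes L56524 (flp_f L33522)
theorem L56526 : N3560 = N3345 := eqc rfl L56525 rfl
theorem L56534 : sm gd N3345 = N1715 := trfs L56526 (flp_d L17063) rfl
theorem L56535 : N1715 = N1621 := eqes L56534 (flp_d L16086)
theorem L56536 : N1715 = N1621 := eqc rfl L56535 rfl
theorem L56546 : sm gg N1621 = N3455 := trfs L56536 (flp_g L16589) rfl
theorem L56547 : N3455 = N3273 := eqes L56546 (flp_g L15766)
theorem L56548 : N3455 = N3273 := eqc rfl L56547 rfl
theorem L56556 : sm gf N3273 = N3567 := trfs L56548 L17099 rfl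
theorem L56557 : N3567 = N3351 := eqes L56556 L16116
theorem L56558 : N3567 = N3351 := eqc rfl L56557 rfl
theorem L56566 : sm gg N3351 = N1718 := trfs L56558 (flp_g L17093) rfl
theorem L56567 : N1718 = N1624 := eqes L56566 (flp_g L16110)
theorem L56568 : N1718 = N1624 := eqc rfl L56567 rfl
theorem L56570 : sm gb N1624 = N3566 := trfs L56568 L17087 rfl
theorem L56571 : N3566 = N2399 := eqes L56570 (flp_b L11585)
theorem L56572 : N3566 = N2399 := eqc rfl L56571 rfl
theorem L56592 : sm gg N2399 = N7455 := trfs L56572 L35809 rfl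
theorem L56593 : N7455 = N4979 := eqes L56592 L24118
theorem L56594 : N7455 = N4979 := eqc rfl L56593 rfl
theorem L56601 : sm gf N4979 = N7507 := trfs L56594 (flp_f L36054) rfl
theorem L56602 : N7507 = N4974 := eqes L56601 (flp_f L24122)
theorem L56603 : N7507 = N4974 := eqc rfl L56602 rfl
theorem L56610 : sm gg N4974 = N3595 := trfs L56603 (flp_g L36048) rfl
theorem L56611 : N3595 = N2397 := eqes L56610 (flp_g L24093)
theorem L56612 : N3595 = N2397 := eqc rfl L56611 rfl
theorem L56623 : sm ge N2397 = N7490 := trfs L56612 (flp_e L35964) rfl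
theorem L56624 : N7490 = N4883 := eqes L56623 (flp_e L23611)
theorem L56625 : N7490 = N4883 := eqc rfl L56624 rfl
theorem L56630 : sm gc N4883 = N4157 := trfs L56625 L35962 rfl
theorem L56631 : N4157 = N2355 := eqes L56630 L23609
theorem L56632 : N4157 = N2355 := eqc rfl L56631 rfl
theorem L56646 : sm gg N2355 = N8655 := trfs L56632 L41925 rfl
theorem L56647 : N8655 = N4892 := eqes L56646 L23661
theorem L56648 : N8655 = N4892 := eqc rfl L56647 rfl
theorem L56649 : sm ga N4892 = N4166 := trfs L56648 L41927 rfl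
theorem L56650 : N4166 = N2358 := eqes L56649 L23663
theorem L56651 : N4166 = N2358 := eqc rfl L56650 rfl
theorem L56653 : sm gf N4892 = N8670 := trfs L56648 L41999 rfl
theorem L56654 : N8670 = N4897 := eqes L56653 L23687
theorem L56655 : N8670 = N4897 := eqc rfl L56654 rfl
theorem L56660 : sm gg N4897 = N4165 := trfs L56655 (flp_g L41995) rfl
theorem L56661 : N4165 = N2357 := eqes L56660 (flp_g L23683)
theorem L56662 : N4165 = N2357 := eqc rfl L56661 rfl
theorem L56668 : sm gd N2357 = N8668 := trfs L56662 (flp_d L41987) rfl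
theorem L56669 : N8668 = N4895 := eqes L56668 (flp_d L23677)
theorem L56670 : N8668 = N4895 := eqc rfl L56669 rfl
theorem L56673 : sm gf N4895 = N4164 := trfs L56670 (flp_f L41985) rfl
theorem L56674 : N4164 = N2356 := eqes L56673 (flp_f L23675)
theorem L56675 : N4164 = N2356 := eqc rfl L56674 rfl
theorem L56677 : sm gb N2356 = N1999 := trfs L56675 L19968 rfl
theorem L56678 : N1999 = N1148 := eqes L56677 L11386
theorem L56679 : N1999 = N1148 := eqc rfl L56678 rfl
theorem L56687 : sm gg N2356 = N8669 := trfs L56675 L41989 rfl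
theorem L56688 : N8669 = N4896 := eqes L56687 L23679
theorem L56689 : N8669 = N4896 := eqc rfl L56688 rfl
theorem L56690 : sm gb N4896 = N5094 := trfs L56689 L41993 rfl
theorem L56691 : N5094 = N8540 := eqes L56690 (flp_b L41372)
theorem L56692 : N8540 = N5094 := (eqc rfl L56691 rfl).symm
theorem L56694 : sm gb N5094 = N4896 := trfs L56692 L41372 rfl
theorem L56699 : sm gg N5094 = N4101 := trfs L56692 (flp_g L41368) rfl
theorem L56700 : N4101 = N2455 := eqes L56699 (flp_g L24649)
theorem L56701 : N4101 = N2455 := eqc rfl L56700 rfl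
theorem L56705 : sm gb N2455 = N1965 := trfs L56701 L19648 rfl
theorem L56706 : N1965 = N1198 := eqes L56705 L11847
theorem L56707 : N1965 = N1198 := eqc rfl L56706 rfl
theorem L56717 : sm gf N2455 = N8539 := trfs L56701 L41364 rfl
theorem L56718 : N8539 = N5093 := eqes L56717 L24645
theorem L56719 : N8539 = N5093 := eqc rfl L56718 rfl
theorem L56720 : sm gd N5093 = N4102 := trfs L56719 L41366 rfl
theorem L56721 : N4102 = N2456 := eqes L56720 L24647
theorem L56722 : N4102 = N2456 := eqc rfl L56721 rfl
theorem L56726 : sm gb N2456 = N4920 := trfs L56722 (flp_b L23807) rfl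
theorem L56727 : N4920 = N5095 := eqes L56726 L24653
theorem L56728 : N5095 = N4920 := (eqc rfl L56727 rfl).symm
theorem L56730 : sm ge N2456 = N1978 := trfs L56722 L19653 rfl
theorem L56731 : N1978 = N1194 := eqes L56730 L11852
theorem L56732 : N1978 = N1194 := eqc rfl L56731 rfl
theorem L56734 : sm gg N2456 = N8541 := trfs L56722 L41374 rfl
theorem L56735 : N8541 = N5096 := eqes L56734 L24659
theorem L56736 : N8541 = N5096 := eqc rfl L56735 rfl
theorem L56744 : sm gf N5096 = N8536 := trfs L56736 (flp_f L41379) rfl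
theorem L56745 : N8536 = N5079 := eqes L56744 (flp_f L24664)
theorem L56746 : N8536 = N5079 := eqc rfl L56745 rfl
theorem L56752 : sm gg N5079 = N4100 := trfs L56746 (flp_g L41349) rfl
theorem L56753 : N4100 = N2448 := eqes L56752 (flp_g L24580)
theorem L56754 : N4100 = N2448 := eqc rfl L56753 rfl
theorem L56761 : sm ge N2448 = N1976 := trfs L56754 L19644 rfl
theorem L56762 : N1976 = N1191 := eqes L56761 (flp_e L11814)
theorem L56763 : N1976 = N1191 := eqc rfl L56762 rfl
theorem L56768 : sm gb N1191 = N4121 := trfs L56763 L19766 rfl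
theorem L56769 : N4121 = N2446 := eqes L56768 L11808
theorem L56770 : N4121 = N2446 := eqc rfl L56769 rfl
theorem L56775 : sm gf N1191 = N4123 := trfs L56763 L19772 rfl
theorem L56776 : N4123 = N2449 := eqes L56775 L11819
theorem L56777 : N4123 = N2449 := eqc rfl L56776 rfl
theorem L56788 : sm gg N2449 = N4130 := trfs L56777 (flp_g L19808) rfl
theorem L56789 : N4130 = N2460 := eqes L56788 (flp_g L11873)
theorem L56790 : N4130 = N2460 := eqc rfl L56789 rfl
theorem L56800 : sm gf N2460 = N1979 := trfs L56790 (flp_f L19803) rfl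
theorem L56801 : N1979 = N1195 := eqes L56800 (flp_f L11868)
theorem L56802 : N1979 = N1195 := eqc rfl L56801 rfl
theorem L56804 : sm gb N1195 = N1172 := trfs L56802 L9551 rfl
theorem L56805 : N1172 = N1997 := eqes L56804 (flp_b L9645)
theorem L56806 : N1997 = N1172 := (eqc rfl L56805 rfl).symm
theorem L56808 : sm gd N1195 = N4128 := trfs L56802 (flp_d L19794) rfl
theorem L56809 : N4128 = N2454 := eqes L56808 (flp_d L11843)
theorem L56810 : N4128 = N2454 := eqc rfl L56809 rfl
theorem L56826 : sm gg N2454 = N1977 := trfs L56810 (flp_g L19792) rfl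
theorem L56827 : N1977 = N1192 := eqes L56826 (flp_g L11841)
theorem L56828 : N1977 = N1192 := eqc rfl L56827 rfl
theorem L56830 : sm gb N1192 = N973 := trfs L56828 L9543 rfl
theorem L56831 : N973 = N601 := eqes L56830 L5852
theorem L56832 : N973 = N601 := eqc rfl L56831 rfl
theorem L56840 : sm gf N1192 = N4127 := trfs L56828 L19788 rfl
theorem L56841 : N4127 = N2453 := eqes L56840 L11837
theorem L56842 : N4127 = N2453 := eqc rfl L56841 rfl
theorem L56844 : sm gb N2453 = N5030 := trfs L56842 (flp_b L24334) rfl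
theorem L56845 : N5030 = N5089 := eqes L56844 L24623
theorem L56846 : N5089 = N5030 := (eqc rfl L56845 rfl).symm
theorem L56862 : sm gb N5030 = N2453 := trfs L56846 (flp_b L24623) rfl
theorem L56867 : sm gf N5030 = N2463 := trfs L56846 L24627 rfl
theorem L56868 : N2463 = N2424 := eqes L56867 (flp_f L24330)
theorem L56869 : N2463 = N2424 := eqc rfl L56868 rfl
theorem L56873 : sm gb N2424 = N1197 := trfs L56869 (flp_b L11889) rfl
theorem L56874 : N1197 = N1179 := eqes L56873 (flp_b L11682)
theorem L56875 : N1197 = N1179 := eqc rfl L56874 rfl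
theorem L56876 : sm gc N2424 = N5107 := trfs L56869 L24712 rfl
theorem L56877 : N5107 = N5029 := eqes L56876 L24328
theorem L56878 : N5107 = N5029 := eqc rfl L56877 rfl
theorem L56885 : sm gg N2424 = N5108 := trfs L56869 L24716 rfl
theorem L56886 : N5108 = N5026 := eqes L56885 (flp_g L24314)
theorem L56887 : N5108 = N5026 := eqc rfl L56886 rfl
theorem L56891 : sm gd N5026 = N2470 := trfs L56887 L24718 rfl
theorem L56892 : N2470 = N2427 := eqes L56891 L24312
theorem L56893 : N2470 = N2427 := eqc rfl L56892 rfl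
theorem L56906 : sm gf N2427 = N5123 := trfs L56893 L24780 rfl
theorem L56907 : N5123 = N5037 := eqes L56906 L24352
theorem L56908 : N5123 = N5037 := eqc rfl L56907 rfl
theorem L56913 : sm gg N5037 = N5098 := trfs L56908 L24784 rfl
theorem L56914 : N5098 = N5040 := eqes L56913 L24366
theorem L56915 : N5098 = N5040 := eqc rfl L56914 rfl
theorem L56917 : sm gf N5040 = N2468 := trfs L56915 L24677 rfl
theorem L56918 : N2468 = N2429 := eqes L56917 (flp_f L24360)
theorem L56919 : N2468 = N2429 := eqc rfl L56918 rfl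
theorem L56928 : sm ge N2429 = N5113 := trfs L56919 (flp_e L24740) rfl
theorem L56929 : N5113 = N4919 := eqes L56928 (flp_e L23799)
theorem L56930 : N5113 = N4919 := eqc rfl L56929 rfl
theorem L56932 : sm ga N4919 = N2466 := trfs L56930 (flp_a L24738) rfl
theorem L56933 : N2466 = N2369 := eqes L56932 (flp_a L23795)
theorem L56934 : N2466 = N2369 := eqc rfl L56933 rfl
theorem L56935 : sm gb N2369 = N1199 := trfs L56934 (flp_b L11899) rfl
theorem L56936 : N1199 = N1153 := eqes L56935 (flp_b L11444)
theorem L56937 : N1199 = N1153 := eqc rfl L56936 rfl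
theorem L56941 : sm gd N2369 = N5111 := trfs L56934 (flp_d L24728) rfl
theorem L56942 : N5111 = N4914 := eqes L56941 (flp_d L23765)
theorem L56943 : N5111 = N4914 := eqc rfl L56942 rfl
theorem L56947 : sm gb N4914 = N2465 := trfs L56943 (flp_b L24726) rfl
theorem L56948 : N2465 = N2366 := eqes L56947 (flp_b L23763)
theorem L56949 : N2465 = N2366 := eqc rfl L56948 rfl
theorem L56953 : sm gc N2366 = N5110 := trfs L56949 (flp_c L24724) rfl
theorem L56954 : N5110 = N4908 := eqes L56953 (flp_c L23731)
theorem L56955 : N5110 = N4908 := eqc rfl L56954 rfl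
theorem L56957 : sm ge N2366 = N5104 := trfs L56949 (flp_e L24702) rfl
theorem L56958 : N5104 = N4910 := eqes L56957 (flp_e L23749)
theorem L56959 : N5104 = N4910 := eqc rfl L56958 rfl
theorem L56962 : sm gg N2366 = N5112 := trfs L56949 L24730 rfl
theorem L56963 : N5112 = N1151 := eqes L56962 (flp_g L11428)
theorem L56964 : N5112 = N1151 := eqc rfl L56963 rfl
theorem L56974 : sm gf N1151 = N4154 := trfs L56964 (flp_f L24736) rfl
theorem L56975 : N4154 = N577 := eqes L56974 (flp_f L5669)
theorem L56976 : N4154 = N577 := eqc rfl L56975 rfl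
theorem L56990 : sm gg N577 = N2445 := trfs L56976 L19926 rfl
theorem L56991 : N2445 = N965 := eqes L56990 (flp_g L4789)
theorem L56992 : N2445 = N965 := eqc rfl L56991 rfl
theorem L56998 : sm gc N965 = N5066 := trfs L56992 L24524 rfl
theorem L56999 : N5066 = N1966 := eqes L56998 L9484
theorem L57000 : N5066 = N1966 := eqc rfl L56999 rfl
theorem L57001 : sm gd N965 = N1190 := trfs L56992 (flp_d L11802) rfl
theorem L57002 : N1190 = N487 := eqes L57001 (flp_d L4787)
theorem L57003 : N1190 = N487 := eqc rfl L57002 rfl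
theorem L57004 : sm ge N965 = N2416 := trfs L56992 L11806 rfl
theorem L57005 : N2416 = N1967 := eqes L57004 L9488
theorem L57006 : N2416 = N1967 := eqc rfl L57005 rfl
theorem L57008 : sm ga N1967 = N2461 := trfs L57006 (flp_a L11877) rfl
theorem L57009 : N2461 = N4105 := eqes L57008 (flp_a L19672)
theorem L57010 : N4105 = N2461 := (eqc rfl L57009 rfl).symm
theorem L57014 : sm gc N1967 = N5011 := trfs L57006 L24248 rfl
theorem L57015 : N5011 = N4107 := eqes L57014 (flp_c L19682)
theorem L57016 : N5011 = N4107 := eqc rfl L57015 rfl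
theorem L57017 : sm gd N1967 = N1175 := trfs L57006 (flp_d L11648) rfl
theorem L57018 : N1175 = N975 := eqes L57017 L9492
theorem L57019 : N1175 = N975 := eqc rfl L57018 rfl
theorem L57020 : sm gf N1967 = N5012 := trfs L57006 L24250 rfl
theorem L57021 : N5012 = N4109 := eqes L57020 L19692
theorem L57022 : N5012 = N4109 := eqc rfl L57021 rfl
theorem L57025 : sm gd N4109 = N2417 := trfs L57022 L24252 rfl
theorem L57026 : N2417 = N1984 := eqes L57025 L19694
theorem L57027 : N2417 = N1984 := eqc rfl L57026 rfl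
theorem L57029 : sm gg N4109 = N7493 := trfs L57022 (flp_g L35981) rfl
theorem L57030 : N7493 = N4099 := eqes L57029 L19698
theorem L57031 : N7493 = N4099 := eqc rfl L57030 rfl
theorem L57033 : sm gd N4099 = N3597 := trfs L57031 L35983 rfl
theorem L57034 : N3597 = N1975 := eqes L57033 L19639
theorem L57035 : N3597 = N1975 := eqc rfl L57034 rfl
theorem L57037 : sm gf N4099 = N4169 := trfs L57031 L35979 rfl
theorem L57038 : N4169 = N2360 := eqes L57037 L19637
theorem L57039 : N4169 = N2360 := eqc rfl L57038 rfl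
theorem L57042 : sm gc N2360 = N8674 := trfs L57039 L42015 rfl
theorem L57043 : N8674 = N4900 := eqes L57042 (flp_c L23705)
theorem L57044 : N8674 = N4900 := eqc rfl L57043 rfl
theorem L57045 : sm gd N2360 = N1998 := trfs L57039 (flp_d L19990) rfl
theorem L57046 : N1998 = N1173 := eqes L57045 L11406
theorem L57047 : N1998 = N1173 := eqc rfl L57046 rfl
theorem L57057 : sm gc N1173 = N1980 := trfs L57047 L9651 rfl
theorem L57058 : N1980 = N1196 := eqes L57057 (flp_c L5869)
theorem L57059 : N1980 = N1196 := eqc rfl L57058 rfl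
theorem L57060 : sm ge N1173 = N984 := trfs L57047 (flp_e L9647) rfl
theorem L57061 : N984 = N589 := eqes L57060 (flp_e L5761)
theorem L57062 : N984 = N589 := eqc rfl L57061 rfl
theorem L57066 : sm ga N589 = N974 := trfs L57062 L4902 rfl
theorem L57067 : N974 = N301 := eqes L57066 L2997
theorem L57068 : N974 = N301 := eqc rfl L57067 rfl
theorem L57073 : sm gd N589 = N499 := trfs L57062 (flp_d L4900) rfl
theorem L57074 : N499 = N300 := eqes L57073 (flp_d L2995)
theorem L57075 : N499 = N300 := eqc rfl L57074 rfl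
theorem L57076 : sm gf N589 = N1737 := trfs L57062 (flp_f L8417) rfl
theorem L57077 : N1737 = N971 := eqes L57076 (flp_f L4827)
theorem L57078 : N1737 = N971 := eqc rfl L57077 rfl
theorem L57081 : sm ga N971 = N1983 := trfs L57078 (flp_a L9569) rfl
theorem L57082 : N1983 = N592 := eqes L57081 L4825
theorem L57083 : N1983 = N592 := eqc rfl L57082 rfl
theorem L57093 : sm gg N971 = N1176 := trfs L57078 L8419 rfl
theorem L57094 : N1176 = N976 := eqes L57093 (flp_g L4850)
theorem L57095 : N1176 = N976 := eqc rfl L57094 rfl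
theorem L57106 : sm gf N976 = N590 := trfs L57095 (flp_f L5771) rfl
theorem L57107 : N590 = N494 := eqes L57106 (flp_f L4846)
theorem L57108 : N590 = N494 := eqc rfl L57107 rfl
theorem L57116 : sm gd N494 = N598 := trfs L57108 L3040 rfl
theorem L57117 : N598 = N251 := eqes L57116 (flp_d L2524)
theorem L57118 : N598 = N251 := eqc rfl L57117 rfl
theorem L57121 : sm ga N251 = N307 := trfs L57118 L3038 rfl
theorem L57122 : N307 = N493 := eqes L57121 (flp_a L2520)
theorem L57123 : N493 = N307 := (eqc rfl L57122 rfl).symm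
theorem L57127 : sm gc N251 = N306 := trfs L57118 (flp_c L3036) rfl
theorem L57128 : N306 = N119 := eqes L57127 (flp_c L1287)
theorem L57129 : N306 = N119 := eqc rfl L57128 rfl
theorem L57132 : sm gg N251 = N981 := trfs L57118 (flp_g L4885) rfl
theorem L57133 : N981 = N146 := eqes L57132 L1289
theorem L57134 : N981 = N146 := eqc rfl L57133 rfl
theorem L57144 : sm gf N146 = N1201 := trfs L57134 L5895 rfl
theorem L57145 : N1201 = N302 := eqes L57144 L1538
theorem L57146 : N1201 = N302 := eqc rfl L57145 rfl
theorem L57156 : sm gg N302 = N603 := trfs L57146 (flp_g L5889) rfl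
theorem L57157 : N603 = N594 := eqes L57156 L3009
theorem L57158 : N603 = N594 := eqc rfl L57157 rfl
theorem L57161 : sm gc N594 = N309 := trfs L57158 L3064 rfl
theorem L57162 : N309 = N303 := eqes L57161 L3013
theorem L57163 : N309 = N303 := eqc rfl L57162 rfl
theorem L57174 : sm gd N303 = N154 := trfs L57163 L1580 rfl
theorem L57175 : N154 = N155 := eqes L57174 L1546
theorem L57176 : N155 = N154 := (eqc rfl L57175 rfl).symm
theorem L57177 : sm ge N303 = N604 := trfs L57163 (flp_e L3069) rfl
theorem L57178 : N604 = N579 := eqes L57177 (flp_e L2953)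
theorem L57179 : N604 = N579 := eqc rfl L57178 rfl
theorem L57180 : sm gf N303 = N153 := trfs L57163 (flp_f L1578) rfl
theorem L57181 : N153 = N250 := eqes L57180 (flp_f L1548)
theorem L57182 : N250 = N153 := (eqc rfl L57181 rfl).symm
theorem L57188 : sm gd N153 = N123 := trfs L57182 L1282 rfl
theorem L57189 : N123 = N70 := eqes L57188 (flp_d L767)
theorem L57190 : N123 = N70 := eqc rfl L57189 rfl
theorem L57191 : sm ge N153 = N486 := trfs L57182 (flp_e L2471) rfl
theorem L57192 : N486 = N308 := eqes L57191 L1574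
theorem L57193 : N486 = N308 := eqc rfl L57192 rfl
theorem L57194 : sm gf N153 = N303 := trfs L57182 L1548 rfl
theorem L57196 : sm gg N153 = N145 := trfs L57182 L1284 rfl
theorem L57197 : N145 = N256 := eqes L57196 (flp_g L1329)
theorem L57198 : N256 = N145 := (eqc rfl L57197 rfl).symm
theorem L57204 : sm gd N145 = N124 := trfs L57198 (flp_d L1327) rfl
theorem L57205 : N124 = N69 := eqes L57204 L719
theorem L57206 : N124 = N69 := eqc rfl L57205 rfl
theorem L57210 : sm gf N145 = N440 := trfs L57198 (flp_f L2249) rfl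
theorem L57211 : N440 = N249 := eqes L57210 L1278
theorem L57212 : N440 = N249 := eqc rfl L57211 rfl
theorem L57213 : sm gg N145 = N153 := trfs L57198 L1329 rfl
theorem L57220 : sm gd N249 = N226 := trfs L57212 L2247 rfl
theorem L57221 : N226 = N122 := eqes L57220 L1274
theorem L57222 : N226 = N122 := eqc rfl L57221 rfl
theorem L57223 : sm ge N249 = N858 := trfs L57212 (flp_e L4286) rfl
theorem L57224 : N858 = N485 := eqes L57223 (flp_e L2462)
theorem L57225 : N858 = N485 := eqc rfl L57224 rfl
theorem L57231 : sm gc N485 = N1729 := trfs L57225 L8371 rfl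
theorem L57232 : N1729 = N963 := eqes L57231 L4771
theorem L57233 : N1729 = N963 := eqc rfl L57232 rfl
theorem L57236 : sm gg N485 = N980 := trfs L57225 (flp_g L4878) rfl
theorem L57237 : N980 = N488 := eqes L57236 (flp_g L2487)
theorem L57238 : N980 = N488 := eqc rfl L57237 rfl
theorem L57248 : sm gf N488 = N599 := trfs L57238 L4876 rfl
theorem L57249 : N599 = N245 := eqes L57248 (flp_f L2482)
theorem L57250 : N599 = N245 := eqc rfl L57249 rfl
theorem L57259 : sm gg N245 = N982 := trfs L57250 (flp_g L4895) rfl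
theorem L57260 : N982 = N141 := eqes L57259 L1253
theorem L57261 : N982 = N141 := eqc rfl L57260 rfl
theorem L57263 : sm gb N141 = N758 := trfs L57261 L4893 rfl
theorem L57264 : N758 = N63 := eqes L57263 (flp_b L702)
theorem L57265 : N758 = N63 := eqc rfl L57264 rfl
theorem L57283 : sm gg N63 = N383 := trfs L57265 (flp_g L3806) rfl
theorem L57284 : N383 = N27 := eqes L57283 (flp_g L310)
theorem L57285 : N383 = N27 := eqc rfl L57284 rfl
theorem L57297 : sm gf N27 = N757 := trfs L57285 L3801 rfl
theorem L57298 : N757 = N62 := eqes L57297 L303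
theorem L57299 : N757 = N62 := eqc rfl L57298 rfl
theorem L57313 : sm gg N62 = N1516 := trfs L57299 L7393 rfl
theorem L57314 : N1516 = N83 := eqes L57313 (flp_g L413)
theorem L57315 : N1516 = N83 := eqc rfl L57314 rfl
theorem L57324 : sm ge N83 = N760 := trfs L57315 L7396 rfl
theorem L57325 : N760 = N39 := eqes L57324 L411
theorem L57326 : N760 = N39 := eqc rfl L57325 rfl
theorem L57340 : sm gf N39 = N751 := trfs L57326 (flp_f L3821) rfl
theorem L57341 : N751 = N18 := eqes L57340 (flp_f L191)
theorem L57342 : N751 = N18 := eqc rfl L57341 rfl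
theorem L57353 : sm gg N18 = N379 := trfs L57342 (flp_g L3776) rfl
theorem L57354 : N379 = N7 := eqes L57353 (flp_g L93)
theorem L57355 : N379 = N7 := eqc rfl L57354 rfl
theorem L57367 : sm gf N7 = N750 := trfs L57355 L3769 rfl
theorem L57368 : N750 = N17 := eqes L57367 L88
theorem L57369 : N750 = N17 := eqc rfl L57368 rfl
theorem L57375 : sm gd N17 = N380 := trfs L57369 L3773 rfl
theorem L57376 : N380 = N8 := eqes L57375 L90
theorem L57377 : N380 = N8 := eqc rfl L57376 rfl
theorem L57387 : sm gg N8 = N388 := trfs L57377 (flp_g L1977) rfl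
theorem L57388 : N388 = N19 := eqes L57387 L98
theorem L57389 : N388 = N19 := eqc rfl L57388 rfl
theorem L57397 : sm gf N19 = N196 := trfs L57389 (flp_f L1971) rfl
theorem L57398 : N196 = N14 := eqes L57397 (flp_f L102)
theorem L57399 : N196 = N14 := eqc rfl L57398 rfl
theorem L57407 : sm gg N14 = N92 := trfs L57399 (flp_g L994) rfl
theorem L57408 : N92 = N6 := eqes L57407 (flp_g L74)
theorem L57409 : N92 = N6 := eqc rfl L57408 rfl
theorem L57411 : sm gb N6 = N42 := trfs L57409 (flp_b L453) rfl
theorem L57412 : N42 = N11 := eqes L57411 L61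
theorem L57413 : N42 = N11 := eqc rfl L57412 rfl
theorem L57418 : sm ga N11 = N22 := trfs L57413 L209 rfl
theorem L57419 : N22 = N21 := eqes L57418 L112
theorem L57420 : N22 = N21 := eqc rfl L57419 rfl
theorem L57425 : sm gf N11 = N94 := trfs L57413 L461 rfl
theorem L57426 : N94 = N24 := eqes L57425 L124
theorem L57427 : N94 = N24 := eqc rfl L57426 rfl
theorem L57428 : sm gg N11 = N95 := trfs L57413 L468 rfl
theorem L57429 : N95 = N25 := eqes L57428 L127
theorem L57430 : N95 = N25 := eqc rfl L57429 rfl
theorem L57431 : sm ga N25 = N48 := trfs L57430 L470 rfl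
theorem L57432 : N48 = N45 := eqes L57431 (flp_a L224)
theorem L57433 : N48 = N45 := eqc rfl L57432 rfl
theorem L57441 : sm gf N25 = N107 := trfs L57430 L529 rfl
theorem L57442 : N107 = N56 := eqes L57441 L270
theorem L57443 : N107 = N56 := eqc rfl L57442 rfl
theorem L57444 : sm ga N56 = N109 := trfs L57443 (flp_a L537) rfl
theorem L57445 : N109 = N54 := eqes L57444 L272
theorem L57446 : N109 = N54 := eqc rfl L57445 rfl
theorem L57454 : sm gg N56 = N47 := trfs L57443 (flp_g L524) rfl
theorem L57455 : N47 = N44 := eqes L57454 L275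
theorem L57456 : N47 = N44 := eqc rfl L57455 rfl
theorem L57458 : sm gb N44 = N106 := trfs L57456 L520 rfl
theorem L57459 : N106 = N100 := eqes L57458 L497
theorem L57460 : N106 = N100 := eqc rfl L57459 rfl
theorem L57467 : sm gc N100 = N148 := trfs L57460 (flp_c L730) rfl
theorem L57468 : N148 = N211 := eqes L57467 L1073
theorem L57469 : N211 = N148 := (eqc rfl L57468 rfl).symm
theorem L57470 : sm gd N100 = N219 := trfs L57460 (flp_d L1111) rfl
theorem L57471 : N219 = N209 := eqes L57470 (flp_d L1063)
theorem L57472 : N219 = N209 := eqc rfl L57471 rfl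
theorem L57484 : sm gg N209 = N416 := trfs L57472 (flp_g L2127) rfl
theorem L57485 : N416 = N294 := eqes L57484 (flp_g L1501)
theorem L57486 : N416 = N294 := eqc rfl L57485 rfl
theorem L57494 : sm ge N294 = N815 := trfs L57486 L4081 rfl
theorem L57495 : N815 = N570 := eqes L57494 (flp_e L2894)
theorem L57496 : N815 = N570 := eqc rfl L57495 rfl
theorem L57499 : sm gb N570 = N1550 := trfs L57496 (flp_b L7563) rfl
theorem L57500 : N1550 = N288 := eqes L57499 (flp_b L2891)
theorem L57501 : N1550 = N288 := eqc rfl L57500 rfl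
theorem L57515 : sm gg N288 = N855 := trfs L57501 L7567 rfl
theorem L57516 : N855 = N489 := eqes L57515 L2500
theorem L57517 : N855 = N489 := eqc rfl L57516 rfl
theorem L57528 : sm ge N489 = N437 := trfs L57517 L4266 rfl
theorem L57529 : N437 = N253 := eqes L57528 L2494
theorem L57530 : N437 = N253 := eqc rfl L57529 rfl
theorem L57540 : sm gf N253 = N775 := trfs L57530 (flp_f L3897) rfl
theorem L57541 : N775 = N248 := eqes L57540 L1303
theorem L57542 : N775 = N248 := eqc rfl L57541 rfl
theorem L57555 : sm gg N248 = N395 := trfs L57542 (flp_g L3891) rfl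
theorem L57556 : N395 = N117 := eqes L57555 (flp_g L1268)
theorem L57557 : N395 = N117 := eqc rfl L57556 rfl
theorem L57573 : sm gf N117 = N759 := trfs L57557 (flp_f L3815) rfl
theorem L57574 : N759 = N64 := eqes L57573 L576
theorem L57575 : N759 = N64 := eqc rfl L57574 rfl
theorem L57581 : sm gd N64 = N386 := trfs L57575 L3813 rfl
theorem L57582 : N386 = N30 := eqes L57581 L319
theorem L57583 : N386 = N30 := eqc rfl L57582 rfl
theorem L57595 : sm gg N30 = N441 := trfs L57583 (flp_g L2254) rfl
theorem L57596 : N441 = N68 := eqes L57595 L338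
theorem L57597 : N441 = N68 := eqc rfl L57596 rfl

end Cfsg.Agent.Helper28.SzbA
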