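import Cfsg.Agent.Helper28.SzbB7

/-! # The Suzuki group presentation, cosets of the subgroup generated by a, b, c, d, f, g: the coset enumeration, part 8 (helper28; generated) -/

set_option autoImplicit false

noncomputable section

namespace Cfsg.Agent.Helper28.SzbA

open Cfsg.Agent.Helper28.CosetTable

theorem L57602 : sm gc N68 = N776 := trfs L57597 (flp_c L3903) rfl
theorem L57603 : N776 = N150 := eqes L57602 (flp_c L748)
theorem L57604 : N776 = N150 := eqc rfl L57603 rfl
theorem L57609 : sm gb N150 = N1520 := trfs L57604 (flp_b L7428) rfl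
theorem L57610 : N1520 = N86 := eqes L57609 L937
theorem L57611 : N1520 = N86 := eqc rfl L57610 rfl
theorem L57623 : sm gf N86 = N1208 := trfs L57611 L7425 rfl
theorem L57624 : N1208 = N186 := eqes L57623 L928
theorem L57625 : N1208 = N186 := eqc rfl L57624 rfl
theorem L57636 : sm gd N186 = N2479 := trfs L57625 (flp_d L11960) rfl
theorem L57637 : N2479 = N359 := eqes L57636 (flp_d L1825)
theorem L57638 : N2479 = N359 := eqc rfl L57637 rfl
theorem L57650 : sm ge N359 = N5130 := trfs L57638 (flp_e L24815) rfl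
theorem L57651 : N5130 = N700 := eqes L57650 (flp_e L3513)
theorem L57652 : N5130 = N700 := eqc rfl L57651 rfl
theorem L57662 : sm gf N700 = N6460 := trfs L57652 (flp_f L31230) rfl
theorem L57663 : N6460 = N352 := eqes L57662 (flp_f L3508)
theorem L57664 : N6460 = N352 := eqc rfl L57663 rfl
theorem L57669 : sm gb N352 = N3170 := trfs L57664 L31233 rfl
theorem L57670 : N3170 = N574 := eqes L57669 L2923
theorem L57671 : N3170 = N574 := eqc rfl L57670 rfl
theorem L57676 : sm gc N574 = N6561 := trfs L57671 (flp_c L31655) rfl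
theorem L57677 : N6561 = N1145 := eqes L57676 (flp_c L5641)
theorem L57678 : N6561 = N1145 := eqc rfl L57677 rfl
theorem L57692 : sm gg N1145 = N3169 := trfs L57678 (flp_g L31651) rfl
theorem L57693 : N3169 = N597 := eqes L57692 L5645
theorem L57694 : N3169 = N597 := eqc rfl L57693 rfl
theorem L57705 : sm ge N597 = N1545 := trfs L57694 L15273 rfl
theorem L57706 : N1545 = N304 := eqes L57705 (flp_e L3028)
theorem L57707 : N1545 = N304 := eqc rfl L57706 rfl
theorem L57717 : sm gf N304 = N1549 := trfs L57707 (flp_f L7555) rfl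
theorem L57718 : N1549 = N295 := eqes L57717 L1556
theorem L57719 : N1549 = N295 := eqc rfl L57718 rfl
theorem L57722 : sm gb N295 = N295 := trfs L57719 L53925 L57719
theorem L57723 : N295 = N581 := eqes L57722 L2965
theorem L57724 : N581 = N295 := (eqc rfl L57723 rfl).symm
theorem L57726 : sm gd N295 = N3180 := trfs L57719 L15325 rfl
theorem L57727 : N3180 = N582 := eqes L57726 L2967
theorem L57728 : N3180 = N582 := eqc rfl L57727 rfl
theorem L57734 : sm gb N582 = N582 := trfs L57728 L53935 L57728
theorem L57735 : N582 = N1157 := eqes L57734 (flp_b L5703)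
theorem L57736 : N1157 = N582 := (eqc rfl L57735 rfl).symm
theorem L57742 : sm gg N582 = N1733 := trfs L57728 L15331 rfl
theorem L57743 : N1733 = N978 := eqes L57742 (flp_g L4862)
theorem L57744 : N1733 = N978 := eqc rfl L57743 rfl
theorem L57758 : sm gf N978 = N3177 := trfs L57744 L15315 rfl
theorem L57759 : N3177 = N969 := eqes L57758 L4860
theorem L57760 : N3177 = N969 := eqc rfl L57759 rfl
theorem L57770 : sm gg N969 = N1547 := trfs L57760 (flp_g L15311) rfl
theorem L57771 : N1547 = N490 := eqes L57770 (flp_g L4815)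
theorem L57772 : N1547 = N490 := eqc rfl L57771 rfl
theorem L57779 : sm ge N490 = N3176 := trfs L57772 L15309 rfl
theorem L57780 : N3176 = N968 := eqes L57779 L4809
theorem L57781 : N3176 = N968 := eqc rfl L57780 rfl
theorem L57792 : sm gd N968 = N6563 := trfs L57781 (flp_d L31665) rfl
theorem L57793 : N6563 = N1960 := eqes L57792 (flp_d L9457)
theorem L57794 : N6563 = N1960 := eqc rfl L57793 rfl
theorem L57797 : sm ge N1960 = N3171 := trfs L57794 (flp_e L31663) rfl
theorem L57798 : N3171 = N961 := eqes L57797 (flp_e L9453)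
theorem L57799 : N3171 = N961 := eqc rfl L57798 rfl
theorem L57811 : sm gg N961 = N6564 := trfs L57799 L31667 rfl
theorem L57812 : N6564 = N1961 := eqes L57811 L9459
theorem L57813 : N6564 = N1961 := eqc rfl L57812 rfl
theorem L57815 : sm gf N1961 = N3582 := trfs L57813 (flp_f L31671) rfl
theorem L57816 : N3582 = N1970 := eqes L57815 (flp_f L9510)
theorem L57817 : N3582 = N1970 := eqc rfl L57816 rfl
theorem L57821 : sm gb N1970 = N7352 := trfs L57817 (flp_b L35365) rfl
theorem L57822 : N7352 = N3988 := eqes L57821 (flp_b L19163)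
theorem L57823 : N7352 = N3988 := eqc rfl L57822 rfl
theorem L57838 : sm gd N3988 = N3521 := trfs L57823 (flp_d L35363) rfl
theorem L57839 : N3521 = N1911 := eqes L57838 (flp_d L19161)
theorem L57840 : N3521 = N1911 := eqc rfl L57839 rfl
theorem L57854 : N7346 = N1911 := L53963.trans L57840
theorem L57855 : sm gg N1911 = N1911 := trfs L57840 (flp_g L35335) L57854
theorem L57856 : N1911 = N3989 := eqes L57855 L19165
theorem L57857 : N3989 = N1911 := (eqc rfl L57856 rfl).symm
theorem L57858 : sm ga N1911 = N8349 := trfs L57857 (flp_a L40357) rfl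
theorem L57859 : N8349 = N3986 := eqes L57858 (flp_a L19149)
theorem L57860 : N8349 = N3986 := eqc rfl L57859 rfl
theorem L57864 : sm gc N1911 = N1912 := trfs L57857 L19167 rfl
theorem L57865 : N1912 = N940 := eqes L57864 (flp_c L9263)
theorem L57866 : N1912 = N940 := eqc rfl L57865 rfl
theorem L57867 : sm gd N1911 = N8353 := trfs L57857 (flp_d L40379) rfl
theorem L57868 : N8353 = N3988 := eqes L57867 L19161
theorem L57869 : N8353 = N3988 := eqc rfl L57868 rfl
theorem L57870 : sm ge N1911 = N1957 := trfs L57857 L19169 rfl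
theorem L57871 : N1957 = N959 := eqes L57870 L9265
theorem L57872 : N1957 = N959 := eqc rfl L57871 rfl
theorem L57873 : sm gf N1911 = N8354 := trfs L57857 L40383 rfl
theorem L57874 : N8354 = N3982 := eqes L57873 (flp_f L19133)
theorem L57875 : N8354 = N3982 := eqc rfl L57874 rfl
theorem L57876 : sm gg N1911 = N1911 := trfs L57857 (flp_g L19165) rfl
theorem L57877 : sm ga N3982 = N8338 := trfs L57875 L40385 rfl
theorem L57878 : N8338 = N8336 := eqes L57877 (flp_a L40291)
theorem L57879 : N8338 = N8336 := eqc rfl L57878 rfl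
theorem L57880 : sm gc N3982 = N3990 := trfs L57875 L40387 rfl
theorem L57881 : N3990 = N1908 := eqes L57880 (flp_c L19129)
theorem L57882 : N3990 = N1908 := eqc rfl L57881 rfl
theorem L57883 : sm ge N3982 = N4089 := trfs L57875 L40389 rfl
theorem L57884 : N4089 = N1950 := eqes L57883 L19131
theorem L57885 : N4089 = N1950 := eqc rfl L57884 rfl
theorem L57888 : sm ga N1950 = N4073 := trfs L57885 L19581 rfl
theorem L57889 : N4073 = N4071 := eqes L57888 (flp_a L19507)
theorem L57890 : N4073 = N4071 := eqc rfl L57889 rfl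
theorem L57895 : sm gd N1950 = N8513 := trfs L57885 (flp_d L41242) rfl
theorem L57896 : N8513 = N4072 := eqes L57895 L19511
theorem L57897 : N8513 = N4072 := eqc rfl L57896 rfl
theorem L57904 : sm gf N4072 = N4088 := trfs L57897 (flp_f L41238) rfl
theorem L57905 : N4088 = N1956 := eqes L57904 L19513
theorem L57906 : N4088 = N1956 := eqc rfl L57905 rfl
theorem L57919 : sm ge N1956 = N8512 := trfs L57906 (flp_e L41234) rfl
theorem L57920 : N8512 = N4087 := eqes L57919 L19569
theorem L57921 : N8512 = N4087 := eqc rfl L57920 rfl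
theorem L57922 : sm gg N1956 = N1956 := trfs L57906 (flp_g L19573) rfl
theorem L57923 : sm gb N4087 = N4945 := trfs L57921 L41236 rfl
theorem L57924 : N4945 = N1988 := eqes L57923 L19571
theorem L57925 : N4945 = N1988 := eqc rfl L57924 rfl
theorem L57926 : sm gg N4087 = N4087 := trfs L57921 (flp_g L41232) rfl
theorem L57928 : sm gg N1988 = N2380 := trfs L57925 (flp_g L23956) rfl
theorem L57929 : N2380 = N1160 := eqes L57928 L9603
theorem L57930 : N2380 = N1160 := eqc rfl L57929 rfl
theorem L57934 : sm gb N1160 = N1160 := trfs L57930 L11495 rfl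
theorem L57938 : sm gd N1160 = N4856 := trfs L57930 (flp_d L23469) rfl
theorem L57939 : N4856 = N2343 := eqes L57938 (flp_d L11324)
theorem L57940 : N4856 = N2343 := eqc rfl L57939 rfl
theorem L57942 : sm gf N1160 = N4944 := trfs L57930 L23952 rfl
theorem L57943 : N4944 = N1187 := eqes L57942 (flp_f L5827)
theorem L57944 : N4944 = N1187 := eqc rfl L57943 rfl
theorem L57945 : sm gb N1187 = N5043 := trfs L57944 (flp_b L24386) rfl
theorem L57946 : N5043 = N2435 := eqes L57945 (flp_b L11745)
theorem L57947 : N5043 = N2435 := eqc rfl L57946 rfl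
theorem L57948 : sm ge N1187 = N2381 := trfs L57944 L23954 rfl
theorem L57949 : N2381 = N596 := eqes L57948 (flp_e L5821)
theorem L57950 : N2381 = N596 := eqc rfl L57949 rfl
theorem L57954 : sm gb N596 = N2431 := trfs L57950 (flp_b L11720) rfl
theorem L57955 : N2431 = N1184 := eqes L57954 (flp_b L5810)
theorem L57956 : N2431 = N1184 := eqc rfl L57955 rfl
theorem L57964 : sm gg N596 = N4946 := trfs L57950 L23960 rfl
theorem L57965 : N4946 = N1163 := eqes L57964 (flp_g L5729)
theorem L57966 : N4946 = N1163 := eqc rfl L57965 rfl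
theorem L57973 : sm gf N1163 = N4938 := trfs L57966 (flp_f L23964) rfl
theorem L57974 : N4938 = N584 := eqes L57973 (flp_f L5721)
theorem L57975 : N4938 = N584 := eqc rfl L57974 rfl
theorem L57980 : sm gg N584 = N2376 := trfs L57975 (flp_g L23930) rfl
theorem L57981 : N2376 = N296 := eqes L57980 (flp_g L2973)
theorem L57982 : N2376 = N296 := eqc rfl L57981 rfl
theorem L57987 : sm gc N296 = N4935 := trfs L57982 L23916 rfl
theorem L57988 : N4935 = N490 := eqes L57987 (flp_c L2506)
theorem L57989 : N4935 = N490 := eqc rfl L57988 rfl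
theorem L57990 : sm gd N296 = N1156 := trfs L57982 (flp_d L11479) rfl
theorem L57991 : N1156 = N143 := eqes L57990 (flp_d L1508)
theorem L57992 : N1156 = N143 := eqc rfl L57991 rfl
theorem L58005 : sm gf N143 = N2377 := trfs L57992 L11483 rfl
theorem L58006 : N2377 = N247 := eqes L58005 (flp_f L1266)
theorem L58007 : N2377 = N247 := eqc rfl L58006 rfl
theorem L58017 : sm ge N247 = N4853 := trfs L58007 (flp_e L23455) rfl
theorem L58018 : N4853 = N483 := eqes L58017 (flp_e L2450)
theorem L58019 : N4853 = N483 := eqc rfl L58018 rfl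
theorem L58020 : sm gg N247 = N2384 := trfs L58007 (flp_g L11513) rfl
theorem L58021 : N2384 = N491 := eqes L58020 L2508
theorem L58022 : N2384 = N491 := eqc rfl L58021 rfl
theorem L58034 : sm gf N491 = N1159 := trfs L58022 (flp_f L11509) rfl
theorem L58035 : N1159 = N496 := eqes L58034 (flp_f L2538)
theorem L58036 : N1159 = N496 := eqc rfl L58035 rfl
theorem L58039 : sm gc N496 = N2373 := trfs L58036 (flp_c L11465) rfl
theorem L58040 : N2373 = N253 := eqes L58039 (flp_c L2534)
theorem L58041 : N2373 = N253 := eqc rfl L58040 rfl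
theorem L58045 : sm ga N253 = N4924 := trfs L58041 (flp_a L23869) rfl
theorem L58046 : N4924 = N144 := eqes L58045 (flp_a L1305)
theorem L58047 : N4924 = N144 := eqc rfl L58046 rfl
theorem L58054 : sm gf N144 = N4929 := trfs L58047 L23896 rfl
theorem L58055 : N4929 = N298 := eqes L58054 L1514
theorem L58056 : N4929 = N298 := eqc rfl L58055 rfl
theorem L58060 : sm gg N298 = N2372 := trfs L58056 (flp_g L23892) rfl
theorem L58061 : N2372 = N149 := eqes L58060 L1520
theorem L58062 : N2372 = N149 := eqc rfl L58061 rfl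
theorem L58069 : sm ge N149 = N4847 := trfs L58062 (flp_e L23417) rfl
theorem L58070 : N4847 = N305 := eqes L58069 L1558
theorem L58071 : N4847 = N305 := eqc rfl L58070 rfl
theorem L58074 : sm gc N305 = N2340 := trfs L58071 L23415 rfl
theorem L58075 : N2340 = N597 := eqes L58074 (flp_c L3032)
theorem L58076 : N2340 = N597 := eqc rfl L58075 rfl
theorem L58079 : sm gb N597 = N2432 := trfs L58076 (flp_b L11728) rfl
theorem L58080 : N2432 = N1185 := eqes L58079 (flp_b L5814)
theorem L58081 : N2432 = N1185 := eqc rfl L58080 rfl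
theorem L58082 : sm gd N597 = N4857 := trfs L58076 (flp_d L23473) rfl
theorem L58083 : N4857 = N1188 := eqes L58082 L5829
theorem L58084 : N4857 = N1188 := eqc rfl L58083 rfl
theorem L58086 : sm gf N597 = N1139 := trfs L58076 (flp_f L11306) rfl
theorem L58087 : N1139 = N571 := eqes L58086 L3034
theorem L58088 : N1139 = N571 := eqc rfl L58087 rfl
theorem L58101 : sm gb N571 = N571 := trfs L58088 (flp_b L5615) rfl
theorem L58103 : sm gd N571 = N2339 := trfs L58088 L11302 rfl
theorem L58104 : N2339 = N1140 := eqes L58103 L5619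
theorem L58105 : N2339 = N1140 := eqc rfl L58104 rfl
theorem L58111 : sm gb N1140 = N1140 := trfs L58105 L11304 rfl
theorem L58123 : sm gb N1188 = N5045 := trfs L58084 (flp_b L24401) rfl
theorem L58124 : N5045 = N2437 := eqes L58123 (flp_b L11754)
theorem L58125 : N5045 = N2437 := eqc rfl L58124 rfl
theorem L58126 : sm ga N2437 = N2437 := trfs L58125 L24399 rfl
theorem L58128 : sm gf N2437 = N2437 := trfs L58125 L24403 rfl
theorem L58129 : sm ga N1185 = N1185 := trfs L58081 L11726 rfl
theorem L58131 : sm ge N1185 = N1183 := trfs L58081 (flp_e L11724) rfl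
theorem L58132 : N1183 = N595 := eqes L58131 (flp_e L5812)
theorem L58133 : N1183 = N595 := eqc rfl L58132 rfl
theorem L58134 : sm gf N1185 = N1185 := trfs L58081 L11731 rfl
theorem L58135 : sm gg N1185 = N5046 := trfs L58081 L24405 rfl
theorem L58136 : N5046 = N2438 := eqes L58135 L11756
theorem L58137 : N5046 = N2438 := eqc rfl L58136 rfl
theorem L58138 : sm ga N2438 = N2438 := trfs L58137 L24407 rfl
theorem L58140 : sm ge N2438 = N2433 := trfs L58137 L24410 rfl
theorem L58141 : N2433 = N1186 := eqes L58140 L11759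
theorem L58142 : N2433 = N1186 := eqc rfl L58141 rfl
theorem L58144 : sm ga N1186 = N1186 := trfs L58142 L11735 rfl
theorem L58161 : sm ga N595 = N595 := trfs L58133 (flp_a L5801) rfl
theorem L58165 : sm gf N595 = N595 := trfs L58133 L5804 rfl
theorem L58186 : sm gb N483 = N8272 := trfs L58019 (flp_b L39935) rfl
theorem L58187 : N8272 = N934 := eqes L58186 (flp_b L4653)
theorem L58188 : N8272 = N934 := eqc rfl L58187 rfl
theorem L58190 : sm ga N934 = N3949 := trfs L58188 (flp_a L39931) rfl
theorem L58191 : N3949 = N1894 := eqes L58190 (flp_a L9165)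
theorem L58192 : N3949 = N1894 := eqc rfl L58191 rfl
theorem L58194 : sm gb N1894 = N1894 := trfs L58192 (flp_b L18949) rfl
theorem L58198 : sm gd N1894 = N8273 := trfs L58192 L39937 rfl
theorem L58199 : N8273 = N3950 := eqes L58198 L18953
theorem L58200 : N8273 = N3950 := eqc rfl L58199 rfl
theorem L58201 : sm ge N1894 = N1917 := trfs L58192 L18951 rfl
theorem L58202 : N1917 = N942 := eqes L58201 L9167
theorem L58203 : N1917 = N942 := eqc rfl L58202 rfl
theorem L58207 : sm gg N1894 = N8274 := trfs L58192 L39941 rfl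
theorem L58208 : N8274 = N3951 := eqes L58207 L18957
theorem L58209 : N8274 = N3951 := eqc rfl L58208 rfl
theorem L58210 : sm ge N3951 = N4004 := trfs L58209 L39943 rfl
theorem L58211 : N4004 = N1919 := eqes L58210 L18963
theorem L58212 : N4004 = N1919 := eqc rfl L58211 rfl
theorem L58216 : sm gb N1919 = N8366 := trfs L58212 L40475 rfl
theorem L58217 : N8366 = N4008 := eqes L58216 L19251
theorem L58218 : N8366 = N4008 := eqc rfl L58217 rfl
theorem L58225 : sm gf N1919 = N8367 := trfs L58212 L40479 rfl
theorem L58226 : N8367 = N1807 := eqes L58225 L9295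
theorem L58227 : N8367 = N1807 := eqc rfl L58226 rfl
theorem L58235 : sm gg N1807 = N7529 := trfs L58227 (flp_g L55346) rfl
theorem L58236 : N7529 = N895 := eqes L58235 (flp_g L8765)
theorem L58237 : N7529 = N895 := eqc rfl L58236 rfl
theorem L58238 : sm ga N895 = N3740 := trfs L58237 L55340 rfl
theorem L58239 : N3740 = N1805 := eqes L58238 (flp_a L8755)
theorem L58240 : N3740 = N1805 := eqc rfl L58239 rfl
theorem L58241 : sm gb N895 = N4933 := trfs L58237 L55342 rfl
theorem L58242 : N4933 = N529 := eqes L58241 L4481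
theorem L58243 : N4933 = N529 := eqc rfl L58242 rfl
theorem L58244 : sm gc N895 = N3608 := trfs L58237 (flp_c L36157) rfl
theorem L58245 : N3608 = N453 := eqes L58244 (flp_c L4477)
theorem L58246 : N3608 = N453 := eqc rfl L58245 rfl
theorem L58248 : sm ga N453 = N1804 := trfs L58246 L36153 L55198
theorem L58249 : N1804 = N894 := eqes L58248 L4473
theorem L58250 : N1804 = N894 := eqc rfl L58249 rfl
theorem L58253 : sm ge N453 = N7526 := trfs L58246 (flp_e L36147) rfl
theorem L58254 : N7526 = N890 := eqes L58253 (flp_e L4445)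
theorem L58255 : N7526 = N890 := eqc rfl L58254 rfl
theorem L58262 : sm ga N890 = N3723 := trfs L58255 L55336 rfl
theorem L58263 : N3723 = N1796 := eqes L58262 L8707
theorem L58264 : N3723 = N1796 := eqc rfl L58263 rfl
theorem L58266 : sm gb N1796 = N1796 := trfs L58264 (flp_b L17884) rfl
theorem L58268 : sm gd N1796 = N7759 := trfs L58264 (flp_d L37267) rfl
theorem L58269 : N7759 = N3715 := eqes L58268 (flp_d L17850)
theorem L58270 : N7759 = N3715 := eqc rfl L58269 rfl
theorem L58273 : sm gg N1796 = N7778 := trfs L58264 L37355 rfl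
theorem L58274 : N7778 = N1899 := eqes L58273 (flp_g L9199)
theorem L58275 : N7778 = N1899 := eqc rfl L58274 rfl
theorem L58279 : sm ge N1899 = N3742 := trfs L58275 L37357 rfl
theorem L58280 : N3742 = N947 := eqes L58279 L9197
theorem L58281 : N3742 = N947 := eqc rfl L58280 rfl
theorem L58288 : sm gf N947 = N7820 := trfs L58281 L37605 rfl
theorem L58289 : N7820 = N477 := eqes L58288 (flp_f L4705)
theorem L58290 : N7820 = N477 := eqc rfl L58289 rfl
theorem L58293 : sm gb N477 = N8485 := trfs L58290 L41112 rfl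
theorem L58294 : N8485 = N946 := eqes L58293 L4701
theorem L58295 : N8485 = N946 := eqc rfl L58294 rfl
theorem L58299 : sm ga N946 = N4074 := trfs L58295 (flp_a L41088) rfl
theorem L58300 : N4074 = N1926 := eqes L58299 L9323
theorem L58301 : N4074 = N1926 := eqc rfl L58300 rfl
theorem L58305 : sm gg N946 = N4075 := trfs L58295 L41090 rfl
theorem L58306 : N4075 = N478 := eqes L58305 L4703
theorem L58307 : N4075 = N478 := eqc rfl L58306 rfl
theorem L58308 : sm ga N478 = N1952 := trfs L58307 (flp_a L19533) rfl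
theorem L58309 : N1952 = N948 := eqes L58308 L4711
theorem L58310 : N1952 = N948 := eqc rfl L58309 rfl
theorem L58321 : sm gf N478 = N8489 := trfs L58307 L41100 rfl
theorem L58322 : N8489 = N950 := eqes L58321 L4717
theorem L58323 : N8489 = N950 := eqc rfl L58322 rfl
theorem L58328 : sm gg N950 = N8486 := trfs L58323 (flp_g L41104) rfl
theorem L58329 : N8486 = N1935 := eqes L58328 L9357
theorem L58330 : N8486 = N1935 := eqc rfl L58329 rfl
theorem L58332 : sm gb N1935 = N7584 := trfs L58330 L41128 rfl
theorem L58333 : N7584 = N4041 := eqes L58332 L19377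
theorem L58334 : N7584 = N1817 := eqc rfl L58333 L49181
theorem L58339 : sm gf N1817 = N4085 := trfs L58334 L41130 rfl
theorem L58340 : N4085 = N3768 := eqes L58339 (flp_f L18091)
theorem L58341 : N4085 = N3768 := eqc rfl L58340 rfl
theorem L58349 : sm gd N3768 = N8180 := trfs L58341 (flp_d L39547) rfl
theorem L58350 : N8180 = N7724 := eqes L58349 (flp_d L37111)
theorem L58351 : N8180 = N7724 := eqc rfl L58350 rfl
theorem L58352 : sm ge N3768 = N8350 := trfs L58341 (flp_e L40367) rfl
theorem L58353 : N8350 = N7804 := eqes L58352 (flp_e L37504)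
theorem L58354 : N8350 = N7804 := eqc rfl L58353 rfl
theorem L58355 : sm gg N3768 = N8501 := trfs L58341 (flp_g L41184) rfl
theorem L58356 : N8501 = N3776 := eqes L58355 (flp_g L18131)
theorem L58357 : N8501 = N3776 := eqc rfl L58356 rfl
theorem L58361 : sm gf N3776 = N7583 := trfs L58357 L41182 rfl
theorem L58362 : N7583 = N1819 := eqes L58361 (flp_f L18127)
theorem L58363 : N7583 = N1819 := eqc rfl L58362 rfl
theorem L58364 : sm gb N1819 = N3634 := trfs L58363 (flp_b L36425) rfl
theorem L58365 : N3634 = N1769 := eqes L58364 L8813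
theorem L58366 : N3634 = N1769 := eqc rfl L58365 rfl
theorem L58381 : sm gg N1769 = N1753 := trfs L58366 (flp_g L17455) rfl
theorem L58382 : N1753 = N878 := eqes L58381 (flp_g L8577)
theorem L58383 : N1753 = N878 := eqc rfl L58382 rfl
theorem L58384 : sm ga N878 = N1768 := trfs L58383 (flp_a L8575) rfl
theorem L58385 : N1768 = N1767 := eqes L58384 L8565
theorem L58386 : N1768 = N1767 := eqc rfl L58385 rfl
theorem L58392 : sm gd N878 = N3623 := trfs L58383 (flp_d L17391) rfl
theorem L58393 : N3623 = N1760 := eqes L58392 (flp_d L8535)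
theorem L58394 : N3623 = N1760 := eqc rfl L58393 rfl
theorem L58395 : sm ge N878 = N3630 := trfs L58383 (flp_e L17431) rfl
theorem L58396 : N3630 = N1765 := eqes L58395 (flp_e L8559)
theorem L58397 : N3630 = N1765 := eqc rfl L58396 rfl
theorem L58398 : sm gf N878 = N878 := trfs L58383 L8495 rfl
theorem L58399 : sm ga N1765 = N1765 := trfs L58397 (flp_a L17555) L49054
theorem L58400 : N1765 = N3656 := eqes L58399 L17547
theorem L58401 : N3656 = N1765 := (eqc rfl L58400 rfl).symm
theorem L58405 : sm gd N1765 = N7573 := trfs L58397 (flp_d L36373) rfl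
theorem L58406 : N7573 = N3654 := eqes L58405 (flp_d L17541)
theorem L58407 : N7573 = N3654 := eqc rfl L58406 rfl
theorem L58408 : sm gf N1765 = N1765 := trfs L58397 L17433 rfl
theorem L58410 : sm ga N3654 = N7632 := trfs L58407 (flp_a L36652) rfl
theorem L58411 : N7632 = N7624 := eqes L58410 L36614
theorem L58412 : N7632 = N7624 := eqc rfl L58411 rfl
theorem L58414 : sm gf N3654 = N3654 := trfs L58407 L36375 rfl
theorem L58415 : sm gb N7624 = N1763 := trfs L58412 L36654 L49057
theorem L58417 : N7624 = N3654 := eqes (flp_b L58415) L17539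
theorem L58418 : N7624 = N3654 := eqc rfl L58417 rfl
theorem L58422 : sm ga N3654 = N3654 := trfs L58418 (flp_a L36614) rfl
theorem L58424 : sm ga N1765 = N1765 := trfs L58401 (flp_a L17547) rfl
theorem L58428 : sm ge N1765 = N1767 := trfs L58401 L17549 rfl
theorem L58429 : N1767 = N878 := eqes L58428 L8559
theorem L58430 : N1767 = N878 := eqc rfl L58429 rfl
theorem L58447 : sm ga N878 = N878 := trfs L58430 (flp_a L8565) rfl
theorem L58449 : sm gd N878 = N3645 := trfs L58430 (flp_d L17503) rfl
theorem L58450 : N3645 = N1760 := eqes L58449 (flp_d L8535)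
theorem L58451 : N3645 = N1760 := eqc rfl L58450 rfl
theorem L58452 : N1768 = N878 := L58386.trans L58430
theorem L58455 : sm ga N1760 = N1760 := trfs L58451 (flp_a L17501) rfl
theorem L58456 : sm gb N1760 = N7607 := trfs L58451 L36540 rfl
theorem L58457 : N7607 = N873 := eqes L58456 (flp_b L8533)
theorem L58458 : N7607 = N873 := eqc rfl L58457 rfl
theorem L58462 : sm ge N1760 = N7601 := trfs L58451 (flp_e L36514) rfl
theorem L58463 : N7601 = N3643 := eqes L58462 (flp_e L17495)
theorem L58464 : N7601 = N3643 := eqc rfl L58463 rfl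
theorem L58479 : sm ga N3643 = N3643 := trfs L58464 (flp_a L36512) rfl
theorem L58496 : sm gf N873 = N868 := trfs L58458 (flp_f L42243) L49125
theorem L58497 : N868 = N443 := eqes L58496 (flp_f L4351)
theorem L58498 : N868 = N443 := eqc rfl L58497 rfl
theorem L58500 : sm gb N443 = N443 := trfs L58498 L4333 rfl
theorem L58502 : sm gd N443 = N442 := trfs L58498 (flp_d L4331) rfl
theorem L58503 : N442 = N227 := eqes L58502 (flp_d L2258)
theorem L58504 : N442 = N227 := eqc rfl L58503 rfl
theorem L58509 : sm gb N227 = N227 := trfs L58504 (flp_b L2256) rfl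
theorem L58526 : sm gc N1760 = N7562 := trfs L58394 L36323 rfl
theorem L58527 : N7562 = N3646 := eqes L58526 L17505
theorem L58528 : N7562 = N3646 := eqc rfl L58527 rfl
theorem L58529 : sm ge N1760 = N7558 := trfs L58394 (flp_e L36295) rfl
theorem L58530 : N7558 = N3643 := eqes L58529 (flp_e L17495)
theorem L58531 : N7558 = N3643 := eqc rfl L58530 rfl
theorem L58532 : sm gf N1760 = N1760 := trfs L58394 L17393 rfl
theorem L58536 : sm gf N3643 = N3643 := trfs L58531 L36297 rfl
theorem L58538 : sm gb N3646 = N3795 := trfs L58528 L36327 rfl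
theorem L58539 : N3795 = N1781 := eqes L58538 L17507
theorem L58540 : N3795 = N1781 := eqc rfl L58539 rfl
theorem L58554 : sm gf N1781 = N1837 := trfs L58540 L18229 rfl
theorem L58555 : N1837 = N919 := eqes L58554 L8639
theorem L58556 : N1837 = N919 := eqc rfl L58555 rfl
theorem L58557 : sm gg N1781 = N7928 := trfs L58540 L38326 rfl
theorem L58558 : N7928 = N3691 := eqes L58557 L17744
theorem L58559 : N7928 = N3691 := eqc rfl L58558 rfl
theorem L58566 : sm gf N3691 = N7973 := trfs L58559 (flp_f L38562) rfl
theorem L58567 : N7973 = N3870 := eqes L58566 (flp_f L18617)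
theorem L58568 : N7973 = N3870 := eqc rfl L58567 rfl
theorem L58575 : sm gg N3870 = N3815 := trfs L58568 (flp_g L38556) rfl
theorem L58576 : N3815 = N1859 := eqes L58575 (flp_g L18611)
theorem L58577 : N3815 = N1859 := eqc rfl L58576 rfl
theorem L58588 : sm ge N1859 = N7956 := trfs L58577 (flp_e L38470) rfl
theorem L58589 : N7956 = N3845 := eqes L58588 (flp_e L18491)
theorem L58590 : N7956 = N3845 := eqc rfl L58589 rfl
theorem L58592 : sm ga N3845 = N3809 := trfs L58590 L38468 rfl
theorem L58593 : N3809 = N1851 := eqes L58592 L18489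
theorem L58594 : N3809 = N1851 := eqc rfl L58593 rfl
theorem L58595 : sm gc N3845 = N3808 := trfs L58590 (flp_c L38466) rfl
theorem L58596 : N3808 = N1850 := eqes L58595 (flp_c L18487)
theorem L58597 : N3808 = N1850 := eqc rfl L58596 rfl
theorem L58609 : sm gg N1850 = N7957 := trfs L58597 L38472 rfl
theorem L58610 : N7957 = N3846 := eqes L58609 L18493
theorem L58611 : N7957 = N3846 := eqc rfl L58610 rfl
theorem L58616 : sm gf N3846 = N7919 := trfs L58611 L38478 rfl
theorem L58617 : N7919 = N3682 := eqes L58616 L18499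
theorem L58618 : N7919 = N3682 := eqc rfl L58617 rfl
theorem L58619 : sm ga N3682 = N7960 := trfs L58618 (flp_a L38492) rfl
theorem L58620 : N7960 = N3850 := eqes L58619 (flp_a L18517)
theorem L58621 : N7960 = N3850 := eqc rfl L58620 rfl
theorem L58624 : sm ge N3850 = N3819 := trfs L58621 L38494 rfl
theorem L58625 : N3819 = N1864 := eqes L58624 L18519
theorem L58626 : N3819 = N1864 := eqc rfl L58625 rfl
theorem L58640 : sm gg N1864 = N3794 := trfs L58626 L18355 rfl
theorem L58641 : N3794 = N1780 := eqes L58640 L9043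
theorem L58642 : N3794 = N1780 := eqc rfl L58641 rfl
theorem L58644 : sm gb N1780 = N7925 := trfs L58642 L38312 rfl
theorem L58645 : N7925 = N3688 := eqes L58644 L17730
theorem L58646 : N7925 = N3688 := eqc rfl L58645 rfl
theorem L58648 : sm gd N1780 = N3143 := trfs L58642 L18223 rfl
theorem L58649 : N3143 = N894 := eqes L58648 L8633
theorem L58650 : N3143 = N894 := eqc rfl L58649 rfl
theorem L58656 : sm gb N894 = N6506 := trfs L58650 L31438 rfl
theorem L58657 : N6506 = N1804 := eqes L58656 L8751
theorem L58658 : N6506 = N894 := eqc rfl L58657 L58250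
theorem L58665 : sm gf N894 = N1537 := trfs L58650 L15161 rfl
theorem L58666 : N1537 = N475 := eqes L58665 L4475
theorem L58667 : N1537 = N475 := eqc rfl L58666 rfl
theorem L58682 : sm gg N475 = N3162 := trfs L58667 L15235 rfl
theorem L58683 : N3162 = N943 := eqes L58682 L4687
theorem L58684 : N3162 = N943 := eqc rfl L58683 rfl
theorem L58698 : sm gf N943 = N3145 := trfs L58684 L15239 rfl
theorem L58699 : N3145 = N896 := eqes L58698 L4691
theorem L58700 : N3145 = N896 := eqc rfl L58699 rfl
theorem L58709 : sm ge N896 = N6501 := trfs L58700 (flp_e L31418) rfl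
theorem L58710 : N6501 = N1798 := eqes L58709 (flp_e L8723)
theorem L58711 : N6501 = N1798 := eqc rfl L58710 rfl
theorem L58713 : sm ga N1798 = N6535 := trfs L58711 (flp_a L31550) rfl
theorem L58714 : N6535 = N1899 := eqes L58713 (flp_a L9195)
theorem L58715 : N6535 = N1899 := eqc rfl L58714 rfl
theorem L58719 : sm gf N1899 = N3157 := trfs L58715 (flp_f L31548) rfl
theorem L58720 : N3157 = N935 := eqes L58719 (flp_f L9193)
theorem L58721 : N3157 = N935 := eqc rfl L58720 rfl
theorem L58730 : sm gd N935 = N6526 := trfs L58721 (flp_d L31508) rfl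
theorem L58731 : N6526 = N1887 := eqes L58730 (flp_d L9139)
theorem L58732 : N6526 = N1887 := eqc rfl L58731 rfl
theorem L58735 : sm gb N1887 = N7332 := trfs L58732 (flp_b L35263) rfl
theorem L58736 : N7332 = N3930 := eqes L58735 L18859
theorem L58737 : N7332 = N3930 := eqc rfl L58736 rfl
theorem L58763 : sm gg N3930 = N3512 := trfs L58737 (flp_g L35259) rfl
theorem L58764 : N3512 = N1888 := eqes L58763 L18863
theorem L58765 : N3512 = N1888 := eqc rfl L58764 rfl
theorem L58766 : sm ga N1888 = N7330 := trfs L58765 L35253 rfl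
theorem L58767 : N7330 = N3932 := eqes L58766 L18873
theorem L58768 : N7330 = N3932 := eqc rfl L58767 rfl
theorem L58780 : sm gd N3932 = N3530 := trfs L58768 L35255 rfl
theorem L58781 : N3530 = N1900 := eqes L58780 L18875
theorem L58782 : N3530 = N1900 := eqc rfl L58781 rfl
theorem L58796 : sm gg N1900 = N7374 := trfs L58782 L35481 rfl
theorem L58797 : N7374 = N3958 := eqes L58796 (flp_g L19003)
theorem L58798 : N7374 = N3958 := eqc rfl L58797 rfl
theorem L58803 : sm gf N3958 = N7370 := trfs L58798 L35487 rfl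
theorem L58804 : N7370 = N3967 := eqes L58803 L19055
theorem L58805 : N7370 = N3967 := eqc rfl L58804 rfl
theorem L58812 : sm gg N3967 = N3528 := trfs L58805 (flp_g L35463) rfl
theorem L58813 : N3528 = N1902 := eqes L58812 (flp_g L19049)
theorem L58814 : N3528 = N1902 := eqc rfl L58813 rfl
theorem L58819 : sm ge N1902 = N1719 := trfs L58814 L16945 rfl
theorem L58820 : N1719 = N950 := eqes L58819 L9213
theorem L58821 : N1719 = N950 := eqc rfl L58820 rfl
theorem L58831 : sm gf N950 = N853 := trfs L58821 L8326 rfl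
theorem L58832 : N853 = N478 := eqes L58831 (flp_f L4717)
theorem L58833 : N853 = N478 := eqc rfl L58832 rfl
theorem L58844 : sm gg N478 = N1723 := trfs L58833 L8340 rfl
theorem L58845 : N1723 = N946 := eqes L58844 (flp_g L4703)
theorem L58846 : N1723 = N946 := eqc rfl L58845 rfl
theorem L58856 : sm gf N946 = N3577 := trfs L58846 L17135 rfl
theorem L58857 : N3577 = N1928 := eqes L58856 L9331
theorem L58858 : N3577 = N1928 := eqc rfl L58857 rfl
theorem L58866 : sm gd N1928 = N7297 := trfs L58858 (flp_d L35115) rfl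
theorem L58867 : N7297 = N3879 := eqes L58866 (flp_d L18653)
theorem L58868 : N7297 = N3879 := eqc rfl L58867 rfl
theorem L58875 : sm gg N3879 = N7288 := trfs L58868 L35117 rfl
theorem L58876 : N7288 = N3883 := eqes L58875 L18673
theorem L58877 : N7288 = N3883 := eqc rfl L58876 rfl
theorem L58880 : sm gf N3883 = N3495 := trfs L58877 L35073 rfl
theorem L58881 : N3495 = N1865 := eqes L58880 (flp_f L18667)
theorem L58882 : N3495 = N1865 := eqc rfl L58881 rfl
theorem L58884 : sm gb N1865 = N7292 := trfs L58882 L35087 rfl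
theorem L58885 : N7292 = N3881 := eqes L58884 L18659
theorem L58886 : N7292 = N3881 := eqc rfl L58885 rfl
theorem L58887 : sm gc N1865 = N7293 := trfs L58882 L35091 rfl
theorem L58888 : N7293 = N3882 := eqes L58887 L18663
theorem L58889 : N7293 = N3882 := eqc rfl L58888 rfl
theorem L58901 : sm ga N3882 = N3496 := trfs L58889 L35093 rfl
theorem L58902 : N3496 = N1866 := eqes L58901 L18665
theorem L58903 : N3496 = N1866 := eqc rfl L58902 rfl
theorem L58904 : sm gb N1866 = N1866 := trfs L58903 L16795 rfl
theorem L58909 : sm ge N1866 = N7250 := trfs L58903 (flp_e L34901) rfl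
theorem L58910 : N7250 = N3852 := eqes L58909 (flp_e L18529)
theorem L58911 : N7250 = N3852 := eqc rfl L58910 rfl
theorem L58920 : sm gb N3852 = N3852 := trfs L58911 L34903 rfl
theorem L58923 : sm gd N3881 = N3572 := trfs L58886 L35089 rfl
theorem L58924 : N3572 = N1930 := eqes L58923 L18661
theorem L58925 : N3572 = N1930 := eqc rfl L58924 rfl
theorem L58926 : sm ga N1930 = N7465 := trfs L58925 L35845 rfl
theorem L58927 : N7465 = N4029 := eqes L58926 L19333
theorem L58928 : N7465 = N4029 := eqc rfl L58927 rfl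
theorem L58940 : sm gb N4029 = N7413 := trfs L58928 L35847 rfl
theorem L58941 : N7413 = N4078 := eqes L58940 (flp_b L19543)
theorem L58942 : N7413 = N4078 := eqc rfl L58941 rfl
theorem L58943 : sm ga N4078 = N3549 := trfs L58942 (flp_a L35642) rfl
theorem L58944 : N3549 = N1953 := eqes L58943 (flp_a L19541)
theorem L58945 : N3549 = N1953 := eqc rfl L58944 rfl
theorem L58955 : sm ge N1953 = N7349 := trfs L58945 (flp_e L35347) rfl
theorem L58956 : N7349 = N3985 := eqes L58955 (flp_e L19145)
theorem L58957 : N7349 = N3985 := eqc rfl L58956 rfl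
theorem L58964 : sm gb N3985 = N3520 := trfs L58957 (flp_b L35345) rfl
theorem L58965 : N3520 = N1910 := eqes L58964 (flp_b L19143)
theorem L58966 : N3520 = N1910 := eqc rfl L58965 rfl
theorem L58973 : sm gf N1910 = N7351 := trfs L58966 L35355 rfl
theorem L58974 : N7351 = N3981 := eqes L58973 (flp_f L19127)
theorem L58975 : N7351 = N3981 := eqc rfl L58974 rfl
theorem L58976 : N7345 = N1910 := L54001.trans L58966
theorem L58977 : sm gg N1910 = N1910 := trfs L58966 (flp_g L35329) L58976
theorem L58978 : N1910 = N3987 := eqes L58977 L19153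
theorem L58979 : N3987 = N1910 := (eqc rfl L58978 rfl).symm
theorem L58981 : sm gb N1910 = N7804 := trfs L58979 L40365 L58354
theorem L58982 : N7804 = N3985 := eqes L58981 L19143
theorem L58983 : N7804 = N3985 := eqc rfl L58982 rfl
theorem L58985 : sm gd N1910 = N8263 := trfs L58979 (flp_d L39875) rfl
theorem L58986 : N8263 = N3942 := eqes L58985 (flp_d L18923)
theorem L58987 : N8263 = N3942 := eqc rfl L58986 rfl
theorem L58988 : sm ge N1910 = N1955 := trfs L58979 L19157 rfl
theorem L58989 : N1955 = N958 := eqes L58988 L9261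
theorem L58990 : N1955 = N958 := eqc rfl L58989 rfl
theorem L58991 : sm gf N1910 = N3983 := trfs L58979 L19159 rfl
theorem L58992 : N3983 = N3981 := eqes L58991 (flp_f L19127)
theorem L58993 : N3983 = N3981 := eqc rfl L58992 rfl
theorem L58994 : sm gg N1910 = N1910 := trfs L58979 (flp_g L19153) rfl
theorem L59000 : sm gd N3981 = N8259 := trfs L58993 (flp_d L39857) rfl
theorem L59001 : N8259 = N8257 := eqes L59000 (flp_d L39847)
theorem L59002 : N8259 = N8257 := eqc rfl L59001 rfl
theorem L59003 : sm ge N3981 = N1951 := trfs L58993 L19137 rfl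
theorem L59004 : N1951 = N1949 := eqes L59003 L19125
theorem L59005 : N1951 = N1949 := eqc rfl L59004 rfl
theorem L59009 : sm gb N1949 = N1926 := trfs L59005 L19529 L58301
theorem L59010 : N1926 = N4070 := eqes L59009 L19503
theorem L59011 : N4070 = N1926 := (eqc rfl L59010 rfl).symm
theorem L59013 : sm gd N1949 = N3902 := trfs L59005 (flp_d L18751) rfl
theorem L59014 : N3902 = N3900 := eqes L59013 (flp_d L18741)
theorem L59015 : N3902 = N3900 := eqc rfl L59014 rfl
theorem L59019 : sm ga N3900 = N3909 := trfs L59015 (flp_a L18781) rfl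
theorem L59020 : N3909 = N1873 := eqes L59019 (flp_a L18739)
theorem L59021 : N3909 = N1873 := eqc rfl L59020 rfl
theorem L59022 : sm gb N3900 = N8169 := trfs L59015 L39497 rfl
theorem L59023 : N8169 = N8165 := eqes L59022 L39479
theorem L59024 : N8169 = N8165 := eqc rfl L59023 rfl
theorem L59025 : sm gc N3900 = N8168 := trfs L59015 (flp_c L39495) rfl
theorem L59026 : N8168 = N8166 := eqes L59025 L39483
theorem L59027 : N8168 = N8166 := eqc rfl L59026 rfl
theorem L59028 : sm ge N3900 = N8076 := trfs L59015 (flp_e L39100) rfl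
theorem L59029 : N8076 = N8074 := eqes L59028 (flp_e L39088)
theorem L59030 : N8076 = N8074 := eqc rfl L59029 rfl
theorem L59031 : sm gf N3900 = N3906 := trfs L59015 (flp_f L18771) rfl
theorem L59032 : N3906 = N1875 := eqes L59031 L18743
theorem L59033 : N3906 = N1875 := eqc rfl L59032 rfl
theorem L59036 : sm ga N1875 = N1877 := trfs L59033 L18767 rfl
theorem L59037 : N1877 = N925 := eqes L59036 (flp_a L9093)
theorem L59038 : N1877 = N925 := eqc rfl L59037 rfl
theorem L59039 : sm gb N1875 = N7724 := trfs L59033 L39545 L58351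
theorem L59040 : N7724 = N3904 := eqes L59039 L18757
theorem L59041 : N7724 = N3904 := eqc rfl L59040 rfl
theorem L59042 : sm gc N1875 = N8179 := trfs L59033 (flp_c L39541) rfl
theorem L59043 : N8179 = N3905 := eqes L59042 L18761
theorem L59044 : N8179 = N3905 := eqc rfl L59043 rfl
theorem L59046 : sm ge N1875 = N8080 := trfs L59033 (flp_e L39120) rfl
theorem L59047 : N8080 = N3861 := eqes L59046 (flp_e L18579)
theorem L59048 : N8080 = N3861 := eqc rfl L59047 rfl
theorem L59049 : sm gg N1875 = N1875 := trfs L59033 (flp_g L18765) rfl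
theorem L59052 : sm gg N3861 = N3861 := trfs L59048 (flp_g L39116) rfl
theorem L59053 : sm ga N3905 = N3908 := trfs L59044 L39539 rfl
theorem L59054 : N3908 = N1876 := eqes L59053 L18763
theorem L59055 : N3908 = N1876 := eqc rfl L59054 rfl
theorem L59057 : sm gg N3905 = N3905 := trfs L59044 (flp_g L39537) rfl
theorem L59065 : sm ge N1876 = N8082 := trfs L59055 (flp_e L39130) rfl
theorem L59066 : N8082 = N3862 := eqes L59065 (flp_e L18583)
theorem L59067 : N8082 = N3862 := eqc rfl L59066 rfl
theorem L59071 : sm gg N1876 = N1876 := trfs L59055 (flp_g L18775) rfl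
theorem L59077 : sm gg N3862 = N3862 := trfs L59067 (flp_g L39126) rfl
theorem L59090 : sm ga N3904 = N3700 := trfs L59041 (flp_a L37109) rfl
theorem L59091 : N3700 = N8173 := eqes L59090 L39515
theorem L59092 : N8173 = N3700 := (eqc rfl L59091 rfl).symm
theorem L59093 : sm gd N3904 = N3768 := trfs L59041 L37111 rfl
theorem L59094 : N3768 = N1953 := eqes L59093 L18759
theorem L59095 : N3768 = N1953 := eqc rfl L59094 rfl
theorem L59096 : sm gf N3904 = N3701 := trfs L59041 L37113 rfl
theorem L59097 : N3701 = N8175 := eqes L59096 L39523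
theorem L59098 : N8175 = N3701 := (eqc rfl L59097 rfl).symm
theorem L59105 : sm gd N3701 = N4080 := trfs L59098 L39525 rfl
theorem L59106 : N4080 = N1817 := eqes L59105 L17792
theorem L59107 : N4080 = N1817 := eqc rfl L59106 rfl
theorem L59108 : sm gf N3701 = N3904 := trfs L59098 (flp_f L39523) rfl
theorem L59116 : sm gc N1817 = N8498 := trfs L59107 (flp_c L41164) rfl
theorem L59117 : N8498 = N3772 := eqes L59116 L18109
theorem L59118 : N8498 = N3772 := eqc rfl L59117 rfl
theorem L59135 : sm gf N3772 = N4079 := trfs L59118 (flp_f L41162) rfl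
theorem L59136 : N4079 = N7871 := eqes L59135 (flp_f L38040)
theorem L59137 : N7871 = N4079 := (eqc rfl L59136 rfl).symm
theorem L59138 : sm ga N4079 = N3769 := trfs L59137 L38038 rfl
theorem L59139 : N3769 = N8493 := eqes L59138 (flp_a L41136)
theorem L59140 : N8493 = N3769 := (eqc rfl L59139 rfl).symm
theorem L59144 : sm gg N4079 = N5809 := trfs L59137 L38042 rfl
theorem L59145 : N5809 = N8499 := eqes L59144 L41166
theorem L59146 : N8499 = N5809 := (eqc rfl L59145 rfl).symm
theorem L59151 : sm gg N5809 = N4079 := trfs L59146 (flp_g L41166) rfl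
theorem L59156 : sm ga N3769 = N4079 := trfs L59140 L41136 rfl
theorem L59158 : sm gc N3769 = N4078 := trfs L59140 (flp_c L41134) rfl
theorem L59159 : N4078 = N1816 := eqes L59158 (flp_c L18093)
theorem L59160 : N4078 = N1816 := eqc rfl L59159 rfl
theorem L59167 : sm ge N1816 = N8343 := trfs L59160 (flp_e L40331) rfl
theorem L59168 : N8343 = N3735 := eqes L59167 (flp_e L17956)
theorem L59169 : N8343 = N3735 := eqc rfl L59168 rfl
theorem L59174 : sm gb N3735 = N8300 := trfs L59169 L40333 rfl
theorem L59175 : N8300 = N1802 := eqes L59174 (flp_b L17954)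
theorem L59176 : N8300 = N1802 := eqc rfl L59175 rfl
theorem L59177 : sm ga N1802 = N3962 := trfs L59176 (flp_a L40081) rfl
theorem L59178 : N3962 = N1909 := eqes L59177 (flp_a L9253)
theorem L59179 : N3962 = N1909 := eqc rfl L59178 rfl
theorem L59181 : sm gg N1802 = N8891 := trfs L59176 L43140 rfl
theorem L59182 : N8891 = N1905 := eqes L59181 L9233
theorem L59183 : N8891 = N1905 := eqc rfl L59182 rfl
theorem L59188 : sm gc N1905 = N9167 := trfs L59183 (flp_c L44504) rfl
theorem L59189 : N9167 = N3974 := eqes L59188 (flp_c L19085)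
theorem L59190 : N9167 = N3974 := eqc rfl L59189 rfl
theorem L59194 : sm ge N3974 = N4471 := trfs L59190 L44502 rfl
theorem L59195 : N4471 = N1942 := eqes L59194 L19087
theorem L59196 : N4471 = N1942 := eqc rfl L59195 rfl
theorem L59200 : sm gb N1942 = N2149 := trfs L59196 (flp_b L21559) rfl
theorem L59201 : N2149 = N2820 := eqes L59200 (flp_b L13636)
theorem L59202 : N2820 = N2149 := (eqc rfl L59201 rfl).symm
theorem L59204 : sm gd N1942 = N9238 := trfs L59196 (flp_d L44847) rfl
theorem L59205 : N9238 = N4058 := eqes L59204 (flp_d L19449)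
theorem L59206 : N9238 = N4058 := eqc rfl L59205 rfl
theorem L59210 : sm gg N1942 = N8416 := trfs L59196 L40775 rfl
theorem L59211 : N8416 = N1815 := eqes L59210 (flp_g L9383)
theorem L59212 : N8416 = N1815 := eqc rfl L59211 rfl
theorem L59213 : sm ga N1815 = N4030 := trfs L59212 L40731 rfl
theorem L59214 : N4030 = N1948 := eqes L59213 (flp_a L9403)
theorem L59215 : N4030 = N1948 := eqc rfl L59214 rfl
theorem L59217 : sm gb N1948 = N8419 := trfs L59215 L40741 rfl
theorem L59218 : N8419 = N4069 := eqes L59217 L19501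
theorem L59219 : N8419 = N4069 := eqc rfl L59218 rfl
theorem L59229 : sm gf N1948 = N8421 := trfs L59215 L40747 rfl
theorem L59230 : N8421 = N1813 := eqes L59229 (flp_f L9407)
theorem L59231 : N8421 = N1813 := eqc rfl L59230 rfl
theorem L59233 : sm gc N1813 = N4031 := trfs L59231 L40749 rfl
theorem L59234 : N4031 = N898 := eqes L59233 (flp_c L8785)
theorem L59235 : N4031 = N898 := eqc rfl L59234 rfl
theorem L59240 : sm gb N898 = N8423 := trfs L59235 L40755 rfl
theorem L59241 : N8423 = N1812 := eqes L59240 L8783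
theorem L59242 : N8423 = N1812 := eqc rfl L59241 rfl
theorem L59243 : sm gd N898 = N8124 := trfs L59235 (flp_d L39308) rfl
theorem L59244 : N8124 = N1784 := eqes L59243 (flp_d L8651)
theorem L59245 : N8124 = N1784 := eqc rfl L59244 rfl
theorem L59258 : sm gf N1784 = N3881 := trfs L59245 (flp_f L39306) rfl
theorem L59259 : N3881 = N1874 := eqes L59258 L9091
theorem L59260 : N3881 = N1874 := eqc rfl L59259 rfl
theorem L59264 : sm gb N1874 = N1865 := trfs L59260 (flp_b L18659) rfl
theorem L59265 : N1865 = N3903 := eqes L59264 L18753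
theorem L59266 : N3903 = N1865 := (eqc rfl L59265 rfl).symm
theorem L59271 : sm ge N1874 = N8055 := trfs L59260 (flp_e L38992) rfl
theorem L59272 : N8055 = N3860 := eqes L59271 (flp_e L18573)
theorem L59273 : N8055 = N3860 := eqc rfl L59272 rfl
theorem L59296 : sm gb N3860 = N3851 := trfs L59273 (flp_b L38990) rfl
theorem L59297 : N3851 = N8077 := eqes L59296 L39102
theorem L59298 : N8077 = N3851 := (eqc rfl L59297 rfl).symm
theorem L59299 : sm gb N3851 = N3860 := trfs L59298 (flp_b L39102) rfl
theorem L59303 : sm gb N1865 = N1874 := trfs L59266 (flp_b L18753) rfl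
theorem L59309 : sm gf N1865 = N8172 := trfs L59266 L39509 rfl
theorem L59310 : N8172 = N3883 := eqes L59309 L18667
theorem L59311 : N8172 = N3883 := eqc rfl L59310 rfl
theorem L59312 : sm gg N1865 = N8165 := trfs L59266 (flp_g L39501) L59024
theorem L59313 : N8165 = N3877 := eqes L59312 (flp_g L18645)
theorem L59314 : N8165 = N3877 := eqc rfl L59313 rfl
theorem L59315 : sm gb N3877 = N3900 := trfs L59314 (flp_b L39479) rfl
theorem L59316 : N3900 = N8114 := eqes L59315 L39264
theorem L59317 : N8114 = N3900 := (eqc rfl L59316 rfl).symm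
theorem L59319 : sm gb N3900 = N3877 := trfs L59317 (flp_b L39264) rfl
theorem L59321 : sm gd N3900 = N4021 := trfs L59317 L39266 rfl
theorem L59322 : N4021 = N1949 := eqes L59321 L18741
theorem L59323 : N4021 = N1949 := eqc rfl L59322 rfl
theorem L59332 : sm ge N1949 = N8292 := trfs L59323 (flp_e L40041) rfl
theorem L59333 : N8292 = N3981 := eqes L59332 (flp_e L19125)
theorem L59334 : N8292 = N3981 := eqc rfl L59333 rfl
theorem L59339 : sm gb N3981 = N3958 := trfs L59334 (flp_b L40039) rfl
theorem L59340 : N3958 = N8335 := eqes L59339 L40285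
theorem L59341 : N8335 = N3958 := (eqc rfl L59340 rfl).symm
theorem L59342 : sm gb N3958 = N3981 := trfs L59341 (flp_b L40285) rfl
theorem L59345 : sm gb N3883 = N7705 := trfs L59311 L39513 L52496
theorem L59346 : N7705 = N8129 := eqes L59345 L39328
theorem L59347 : N8129 = N7705 := (eqc rfl L59346 rfl).symm
theorem L59349 : sm gb N7705 = N3883 := trfs L59347 (flp_b L39328) rfl
theorem L59351 : sm gd N7705 = N4036 := trfs L59347 L39330 rfl
theorem L59352 : N4036 = N3749 := eqes L59351 L37029
theorem L59353 : N4036 = N3749 := eqc rfl L59352 rfl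
theorem L59358 : sm gc N3749 = N8433 := trfs L59353 L40819 rfl
theorem L59359 : N8433 = N7835 := eqes L59358 L37685
theorem L59360 : N8433 = N7835 := eqc rfl L59359 rfl
theorem L59361 : sm ge N3749 = N8307 := trfs L59353 (flp_e L40117) rfl
theorem L59362 : N8307 = N7785 := eqes L59361 (flp_e L37394)
theorem L59363 : N8307 = N7785 := eqc rfl L59362 rfl
theorem L59367 : sm gb N7785 = N3964 := trfs L59363 (flp_b L40115) rfl
theorem L59368 : N3964 = N8342 := eqes L59367 L52478
theorem L59369 : N8342 = N3964 := (eqc rfl L59368 rfl).symm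
theorem L59373 : sm gf N3964 = N3984 := trfs L59369 (flp_f L40323) rfl
theorem L59374 : N3984 = N1900 := eqes L59373 (flp_f L19029)
theorem L59375 : N3984 = N1900 := eqc rfl L59374 rfl
theorem L59379 : sm gc N1900 = N8341 := trfs L59375 L40319 rfl
theorem L59380 : N8341 = N3963 := eqes L59379 L19023
theorem L59381 : N8341 = N3963 := eqc rfl L59380 rfl
theorem L59382 : sm gd N1900 = N8260 := trfs L59375 (flp_d L39861) rfl
theorem L59383 : N8260 = N3932 := eqes L59382 (flp_d L18875)
theorem L59384 : N8260 = N3932 := eqc rfl L59383 rfl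
theorem L59388 : sm gb N3932 = N3941 := trfs L59384 (flp_b L39859) rfl
theorem L59389 : N3941 = N8238 := eqes L59388 L39765
theorem L59390 : N8238 = N3941 := (eqc rfl L59389 rfl).symm
theorem L59391 : sm gb N3941 = N3932 := trfs L59390 (flp_b L39765) rfl
theorem L59394 : sm ge N3963 = N4076 := trfs L59381 L40321 rfl
theorem L59395 : N4076 = N1931 := eqes L59394 L19027
theorem L59396 : N4076 = N1931 := eqc rfl L59395 rfl
theorem L59398 : sm gb N1931 = N6165 := trfs L59396 (flp_b L29794) rfl
theorem L59399 : N6165 = N4033 := eqes L59398 L19341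
theorem L59400 : N6165 = N4033 := eqc rfl L59399 rfl
theorem L59408 : sm gg N1931 = N5976 := trfs L59396 L28955 rfl
theorem L59409 : N5976 = N4022 := eqes L59408 (flp_g L19311)
theorem L59410 : N5976 = N4022 := eqc rfl L59409 rfl
theorem L59411 : sm gb N4022 = N2892 := trfs L59410 (flp_b L28951) rfl
theorem L59412 : N2892 = N8402 := eqes L59411 L40667
theorem L59413 : N8402 = N2892 := (eqc rfl L59412 rfl).symm
theorem L59415 : sm gb N2892 = N4022 := trfs L59413 (flp_b L40667) rfl
theorem L59420 : sm gg N4033 = N2981 := trfs L59400 (flp_g L29790) rfl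
theorem L59421 : N2981 = N8428 := eqes L59420 L40797
theorem L59422 : N8428 = N2981 := (eqc rfl L59421 rfl).symm
theorem L59423 : sm gg N2981 = N4033 := trfs L59422 (flp_g L40797) rfl
theorem L59425 : sm ga N7835 = N5914 := trfs L59360 L40821 rfl
theorem L59426 : N5914 = N3750 := eqes L59425 L37687
theorem L59427 : N5914 = N3750 := eqc rfl L59426 rfl
theorem L59428 : sm gf N7835 = N5912 := trfs L59360 L40823 rfl
theorem L59429 : N5912 = N7848 := eqes L59428 L37751
theorem L59430 : N7848 = N5912 := (eqc rfl L59429 rfl).symm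
theorem L59431 : sm ga N5912 = N6944 := trfs L59430 L37747 L52531
theorem L59432 : N6944 = N2864 := eqes L59431 (flp_a L28662)
theorem L59433 : N6944 = N2864 := eqc rfl L59432 rfl
theorem L59438 : sm gg N5912 = N3756 := trfs L59430 (flp_g L37745) rfl
theorem L59442 : sm gg N2864 = N3341 := trfs L59433 (flp_g L33483) rfl
theorem L59443 : N3341 = N5915 := eqes L59442 L28672
theorem L59444 : N5915 = N3341 := (eqc rfl L59443 rfl).symm
theorem L59445 : sm gb N3341 = N5980 := trfs L59444 (flp_b L28969) rfl
theorem L59446 : N5980 = N6941 := eqes L59445 L33473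
theorem L59447 : N6941 = N5980 := (eqc rfl L59446 rfl).symm
theorem L59448 : sm gg N3341 = N2864 := trfs L59444 (flp_g L28672) rfl
theorem L59450 : sm gb N5980 = N3341 := trfs L59447 (flp_b L33473) rfl
theorem L59452 : sm gc N5980 = N3344 := trfs L59447 L33475 rfl
theorem L59454 : sm gb N3750 = N2878 := trfs L59427 L28670 rfl
theorem L59455 : N2878 = N7832 := eqes L59454 (flp_b L37677)
theorem L59456 : N7832 = N2878 := (eqc rfl L59455 rfl).symm
theorem L59460 : N7837 = N2864 := L52531.trans L59433
theorem L59465 : sm gb N2878 = N3750 := trfs L59456 L37677 rfl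
theorem L59467 : sm gc N2878 = N3748 := trfs L59456 (flp_c L37673) rfl
theorem L59468 : N3748 = N5931 := eqes L59467 (flp_c L28749)
theorem L59469 : N5931 = N3748 := (eqc rfl L59468 rfl).symm
theorem L59470 : sm gg N2878 = N4460 := trfs L59456 L37675 rfl
theorem L59471 : N4460 = N5947 := eqes L59470 L28803
theorem L59472 : N5947 = N4460 := (eqc rfl L59471 rfl).symm
theorem L59473 : sm ga N4460 = N5949 := trfs L59472 (flp_a L28813) rfl
theorem L59474 : N5949 = N9215 := eqes L59473 (flp_a L44755)
theorem L59475 : N9215 = N5949 := (eqc rfl L59474 rfl).symm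
theorem L59476 : sm gf N4460 = N5942 := trfs L59472 (flp_f L28805) rfl
theorem L59477 : N5942 = N9218 := eqes L59476 L44767
theorem L59478 : N9218 = N5942 := (eqc rfl L59477 rfl).symm
theorem L59479 : sm gg N4460 = N2878 := trfs L59472 (flp_g L28803) rfl
theorem L59481 : sm gc N5942 = N4461 := trfs L59478 L44769 rfl
theorem L59483 : sm gf N5942 = N4460 := trfs L59478 (flp_f L44767) rfl
theorem L59487 : sm gc N5949 = N4459 := trfs L59475 (flp_c L44753) rfl
theorem L59489 : sm gc N3748 = N2878 := trfs L59469 L28749 rfl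
theorem L59491 : sm gf N3748 = N2872 := trfs L59469 (flp_f L28747) rfl
theorem L59492 : N2872 = N7833 := eqes L59491 L37679
theorem L59493 : N7833 = N2872 := (eqc rfl L59492 rfl).symm
theorem L59494 : sm ga N2872 = N4968 := trfs L59493 L37681 rfl
theorem L59495 : N4968 = N5929 := eqes L59494 L28739
theorem L59496 : N5929 = N4968 := (eqc rfl L59495 rfl).symm
theorem L59497 : sm gb N2872 = N8375 := trfs L59493 (flp_b L40527) rfl
theorem L59498 : N8375 = N1393 := eqes L59497 (flp_b L13884)
theorem L59499 : N8375 = N1393 := eqc rfl L59498 rfl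
theorem L59500 : sm gf N2872 = N3748 := trfs L59493 (flp_f L37679) rfl
theorem L59502 : sm gg N2872 = N9216 := trfs L59493 (flp_g L44761) rfl
theorem L59503 : N9216 = N5932 := eqes L59502 L28751
theorem L59504 : N9216 = N5932 := eqc rfl L59503 rfl
theorem L59505 : sm ga N5932 = N4461 := trfs L59504 L44759 rfl
theorem L59507 : sm gf N5932 = N4459 := trfs L59504 (flp_f L44757) rfl
theorem L59509 : sm ga N1393 = N4119 := trfs L59499 (flp_a L40529) rfl
theorem L59510 : N4119 = N2870 := eqes L59509 (flp_a L13874)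
theorem L59511 : N4119 = N2870 := eqc rfl L59510 rfl
theorem L59512 : sm gf N1393 = N4008 := trfs L59499 (flp_f L40525) rfl
theorem L59513 : N4008 = N2874 := eqes L59512 L13890
theorem L59514 : N4008 = N2874 := eqc rfl L59513 rfl
theorem L59520 : N5937 = N1919 := L55305.trans L58212
theorem L59530 : N8366 = N2874 := L58218.trans L59514
theorem L59531 : sm gg N2874 = N2874 := trfs L59514 (flp_g L40477) L59530
theorem L59532 : N2874 = N4764 := eqes L59531 (flp_g L23030)
theorem L59533 : N4764 = N2874 := (eqc rfl L59532 rfl).symm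
theorem L59534 : sm ga N2874 = N2293 := trfs L59533 L23028 rfl
theorem L59535 : N2293 = N4748 := eqes L59534 (flp_a L22947)
theorem L59536 : N4748 = N2293 := (eqc rfl L59535 rfl).symm
theorem L59538 : sm ge N2874 = N9688 := trfs L59533 (flp_e L47027) rfl
theorem L59539 : N9688 = N5747 := eqes L59538 (flp_e L27878)
theorem L59540 : N9688 = N5747 := eqc rfl L59539 rfl
theorem L59543 : sm ga N5747 = N4691 := trfs L59540 L47025 rfl
theorem L59544 : N4691 = N9672 := eqes L59543 (flp_a L46926)
theorem L59545 : N9672 = N4691 := (eqc rfl L59544 rfl).symm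
theorem L59550 : sm gc N4691 = N4681 := trfs L59545 (flp_c L46924) rfl
theorem L59551 : N4681 = N2255 := eqes L59550 (flp_c L22641)
theorem L59552 : N4681 = N2255 := eqc rfl L59551 rfl
theorem L59554 : sm gf N4691 = N5743 := trfs L59545 L46930 rfl
theorem L59555 : N5743 = N5748 := eqes L59554 L27886
theorem L59556 : N5748 = N5743 := (eqc rfl L59555 rfl).symm
theorem L59559 : sm ge N5743 = N2875 := trfs L59556 L27884 rfl
theorem L59560 : N2875 = N2870 := eqes L59559 L27854
theorem L59561 : N2875 = N2870 := eqc rfl L59560 rfl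
theorem L59564 : sm gg N5743 = N2771 := trfs L59556 (flp_g L27880) rfl
theorem L59571 : sm gd N2870 = N5936 := trfs L59561 (flp_d L28765) rfl
theorem L59572 : N5936 = N5927 := eqes L59571 L28727
theorem L59573 : N5936 = N5927 := eqc rfl L59572 rfl
theorem L59578 : sm gf N5927 = N4765 := trfs L59573 (flp_f L28767) rfl
theorem L59579 : N4765 = N9803 := eqes L59578 (flp_f L47633)
theorem L59580 : N9803 = N4765 := (eqc rfl L59579 rfl).symm
theorem L59586 : sm gf N4765 = N5927 := trfs L59580 L47633 rfl
theorem L59596 : sm gd N2255 = N9608 := trfs L59552 (flp_d L46629) rfl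
theorem L59597 : N9608 = N4653 := eqes L59596 (flp_d L22453)
theorem L59598 : N9608 = N4653 := eqc rfl L59597 rfl
theorem L59599 : sm ge N2255 = N2283 := trfs L59552 L22579 rfl
theorem L59600 : N2283 = N1117 := eqes L59599 L10898
theorem L59601 : N2283 = N1117 := eqc rfl L59600 rfl
theorem L59607 : sm gb N1117 = N1113 := trfs L59601 (flp_b L11034) rfl
theorem L59608 : N1113 = N560 := eqes L59607 (flp_b L5531)
theorem L59609 : N1113 = N560 := eqc rfl L59608 rfl
theorem L59622 : sm gg N560 = N558 := trfs L59609 (flp_g L5514) rfl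
theorem L59623 : N558 = N282 := eqes L59622 (flp_g L2845)
theorem L59624 : N558 = N282 := eqc rfl L59623 rfl
theorem L59626 : sm gb N282 = N282 := trfs L59624 (flp_b L2839) rfl
theorem L59664 : sm ga N4653 = N5645 := trfs L59598 (flp_a L46633) rfl
theorem L59665 : N5645 = N9617 := eqes L59664 L46669
theorem L59666 : N9617 = N5645 := (eqc rfl L59665 rfl).symm
theorem L59668 : sm gf N4653 = N5643 := trfs L59598 (flp_f L46635) rfl
theorem L59669 : N5643 = N5646 := eqes L59668 L27273
theorem L59670 : N5646 = N5643 := (eqc rfl L59669 rfl).symm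
theorem L59672 : sm gb N5643 = N9124 := trfs L59670 (flp_b L44288) rfl
theorem L59673 : N9124 = N5600 := eqes L59672 L27261
theorem L59674 : N9124 = N5600 := eqc rfl L59673 rfl
theorem L59676 : sm gf N5643 = N4653 := trfs L59670 (flp_f L27273) rfl
theorem L59678 : sm gg N5643 = N2718 := trfs L59670 (flp_g L27269) rfl
theorem L59684 : sm gg N5600 = N5650 := trfs L59674 L44286 rfl
theorem L59685 : N5650 = N9636 := eqes L59684 L46755
theorem L59686 : N9636 = N5650 := (eqc rfl L59685 rfl).symm
theorem L59691 : sm gg N5650 = N5600 := trfs L59686 (flp_g L46755) rfl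
theorem L59693 : sm ga N5645 = N4653 := trfs L59666 (flp_a L46669) rfl
theorem L59695 : sm gb N5645 = N8873 := trfs L59666 L46675 rfl
theorem L59699 : sm ga N2293 = N2874 := trfs L59536 L22947 rfl
theorem L59702 : sm gf N2293 = N2870 := trfs L59536 L22949 rfl
theorem L59713 : sm gb N2870 = N1973 := trfs L59511 (flp_b L19756) rfl
theorem L59714 : N1973 = N5926 := eqes L59713 L28723
theorem L59715 : N5926 = N1973 := (eqc rfl L59714 rfl).symm
theorem L59716 : sm gc N2870 = N8569 := trfs L59511 L41524 rfl
theorem L59717 : N8569 = N1392 := eqes L59716 (flp_c L13872)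
theorem L59718 : N8569 = N1392 := eqc rfl L59717 rfl
theorem L59719 : sm gd N2870 = N8564 := trfs L59511 (flp_d L41502) rfl
theorem L59720 : N8564 = N5927 := eqes L59719 L28727
theorem L59721 : N8564 = N5927 := eqc rfl L59720 rfl
theorem L59722 : sm ge N2870 = N8529 := trfs L59511 (flp_e L41310) rfl
theorem L59723 : N8529 = N5743 := eqes L59722 (flp_e L27854)
theorem L59724 : N8529 = N5743 := eqc rfl L59723 rfl
theorem L59729 : sm gb N5743 = N4096 := trfs L59724 (flp_b L41308) rfl
theorem L59731 : sm gb N5927 = N4116 := trfs L59721 (flp_b L41500) rfl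
theorem L59733 : sm gb N1392 = N8618 := trfs L59718 (flp_b L41743) rfl
theorem L59734 : N8618 = N1362 := eqes L59733 L6788
theorem L59735 : N8618 = N1362 := eqc rfl L59734 rfl
theorem L59736 : sm gc N1362 = N4142 := trfs L59735 (flp_c L41741) rfl
theorem L59737 : N4142 = N2815 := eqes L59736 L13608
theorem L59738 : N4142 = N2815 := eqc rfl L59737 rfl
theorem L59742 : sm gb N2815 = N1986 := trfs L59738 (flp_b L19856) rfl
theorem L59743 : N1986 = N5822 := eqes L59742 L28249
theorem L59744 : N5822 = N1986 := (eqc rfl L59743 rfl).symm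
theorem L59745 : sm gd N2815 = N8611 := trfs L59738 (flp_d L41711) rfl
theorem L59746 : N8611 = N5823 := eqes L59745 L28251
theorem L59747 : N8611 = N5823 := eqc rfl L59746 rfl
theorem L59748 : sm ge N2815 = N8556 := trfs L59738 (flp_e L41448) rfl
theorem L59749 : N8556 = N5688 := eqes L59748 (flp_e L27520)
theorem L59750 : N8556 = N5688 := eqc rfl L59749 rfl
theorem L59757 : sm gb N5688 = N4111 := trfs L59750 (flp_b L41446) rfl
theorem L59759 : sm gb N5823 = N4139 := trfs L59747 (flp_b L41709) rfl
theorem L59761 : sm gb N1986 = N2815 := trfs L59744 (flp_b L28249) rfl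
theorem L59764 : sm gb N1973 = N2870 := trfs L59715 (flp_b L28723) rfl
theorem L59766 : sm ga N4968 = N2872 := trfs L59496 (flp_a L28739) rfl
theorem L59768 : sm gc N4968 = N2876 := trfs L59496 L28741 rfl
theorem L59774 : sm gc N1812 = N5912 := trfs L59242 L40773 rfl
theorem L59775 : N5912 = N3759 := eqes L59774 L18051
theorem L59776 : N5912 = N3759 := eqc rfl L59775 rfl
theorem L59786 : sm gg N3759 = N3756 := trfs L59776 L59438 rfl
theorem L59787 : N3756 = N1940 := eqes L59786 L20355
theorem L59788 : N3756 = N1940 := eqc rfl L59787 rfl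
theorem L59794 : sm gd N1940 = N7846 := trfs L59788 (flp_d L37737) rfl
theorem L59795 : N7846 = N4053 := eqes L59794 L19427
theorem L59796 : N7846 = N4053 := eqc rfl L59795 rfl
theorem L59798 : sm gf N1940 = N1810 := trfs L59788 (flp_f L18039) rfl
theorem L59799 : N1810 = N4054 := eqes L59798 L19431
theorem L59800 : N4054 = N1810 := (eqc rfl L59799 rfl).symm
theorem L59812 : sm gf N1810 = N1940 := trfs L59800 (flp_f L19431) rfl
theorem L59838 : sm gf N4053 = N3755 := trfs L59796 (flp_f L37735) rfl
theorem L59847 : sm gc N4069 = N4033 := trfs L59219 L40743 rfl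
theorem L59849 : sm gb N4058 = N4470 := trfs L59206 (flp_b L44845) rfl
theorem L59850 : N4470 = N5831 := eqes L59849 L28295
theorem L59851 : N5831 = N4470 := (eqc rfl L59850 rfl).symm
theorem L59855 : sm gg N4470 = N2818 := trfs L59851 (flp_g L28291) rfl
theorem L59856 : N2818 = N9239 := eqes L59855 L44849
theorem L59857 : N9239 = N2818 := (eqc rfl L59856 rfl).symm
theorem L59858 : sm ga N2818 = N9223 := trfs L59857 L44851 rfl
theorem L59859 : N9223 = N5823 := eqes L59858 (flp_a L28253)
theorem L59860 : N9223 = N5823 := eqc rfl L59859 rfl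
theorem L59864 : sm gf N2818 = N9220 := trfs L59857 (flp_f L44855) rfl
theorem L59865 : N9220 = N5830 := eqes L59864 L28285
theorem L59866 : N9220 = N5830 := eqc rfl L59865 rfl
theorem L59867 : sm gg N2818 = N4470 := trfs L59857 (flp_g L44849) rfl
theorem L59872 : sm gg N5830 = N4467 := trfs L59866 L44777 rfl
theorem L59873 : N4467 = N4820 := eqes L59872 (flp_g L28289)
theorem L59874 : N4820 = N4467 := (eqc rfl L59873 rfl).symm
theorem L59876 : sm gg N4467 = N5830 := trfs L59874 L28289 rfl
theorem L59888 : sm gf N5823 = N4463 := trfs L59860 (flp_f L44787) rfl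
theorem L59890 : sm gg N5823 = N5958 := trfs L59860 L44791 rfl
theorem L59893 : sm gb N2149 = N1942 := trfs L59202 L13636 rfl
theorem L59897 : sm gg N2149 = N1363 := trfs L59202 (flp_g L13632) rfl
theorem L59900 : sm gb N1909 = N1900 := trfs L59179 (flp_b L19019) rfl
theorem L59920 : sm gf N1953 = N1817 := trfs L59095 L18091 rfl
theorem L59924 : sm ga N3700 = N3904 := trfs L59092 (flp_a L39515) rfl
theorem L59927 : sm gd N925 = N960 := trfs L59038 L9101 rfl
theorem L59928 : N960 = N482 := eqes L59927 L4611
theorem L59929 : N960 = N482 := eqc rfl L59928 rfl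
theorem L59932 : sm gg N925 = N925 := trfs L59038 (flp_g L9099) rfl
theorem L59938 : sm gg N482 = N482 := trfs L59929 (flp_g L4757) rfl
theorem L59939 : sm ga N8074 = N8083 := trfs L59030 (flp_a L39134) rfl
theorem L59940 : N8083 = N3859 := eqes L59939 (flp_a L39086)
theorem L59941 : N8083 = N3859 := eqc rfl L59940 rfl
theorem L59946 : sm gg N3859 = N8074 := trfs L59941 L39138 rfl
theorem L59948 : sm gg N8166 = N3901 := trfs L59027 (flp_g L39493) rfl
theorem L59954 : sm gg N1873 = N3900 := trfs L59021 L18785 rfl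
theorem L59959 : sm gb N1926 = N1949 := trfs L59011 (flp_b L19503) rfl
theorem L59966 : sm ga N8257 = N8266 := trfs L59002 (flp_a L39887) rfl
theorem L59967 : N8266 = N3940 := eqes L59966 (flp_a L39845)
theorem L59968 : N8266 = N3940 := eqc rfl L59967 rfl
theorem L59974 : sm gg N3940 = N8257 := trfs L59968 L39891 rfl
theorem L59977 : sm gc N958 = N4084 := trfs L58990 (flp_c L19561) rfl
theorem L59978 : N4084 = N1954 := eqes L59977 L9423
theorem L59979 : N4084 = N1954 := eqc rfl L59978 rfl
theorem L59980 : sm gg N958 = N958 := trfs L58990 (flp_g L9427) rfl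
theorem L59982 : sm gb N1954 = N8507 := trfs L59979 L41212 rfl
theorem L59983 : N8507 = N4082 := eqes L59982 L19551
theorem L59984 : N8507 = N4082 := eqc rfl L59983 rfl
theorem L59988 : sm gg N1954 = N1954 := trfs L59979 (flp_g L19557) rfl
theorem L59989 : sm gf N4082 = N4967 := trfs L59984 L41214 rfl
theorem L59990 : N4967 = N8395 := eqes L59989 (flp_f L40647)
theorem L59991 : N8395 = N4967 := (eqc rfl L59990 rfl).symm
theorem L59992 : sm ga N4967 = N4020 := trfs L59991 (flp_a L40645) rfl
theorem L59994 : sm gf N4967 = N4082 := trfs L59991 L40647 rfl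
theorem L59997 : sm gg N3942 = N3942 := trfs L58987 (flp_g L39871) rfl
theorem L60000 : sm gf N3985 = N3736 := trfs L58983 L37506 rfl
theorem L60002 : sm gg N3985 = N7812 := trfs L58983 (flp_g L37560) rfl
theorem L60003 : N7812 = N8346 := eqes L60002 L40343
theorem L60004 : N8346 = N7812 := (eqc rfl L60003 rfl).symm
theorem L60006 : sm gg N7812 = N3985 := trfs L60004 (flp_g L40343) rfl
theorem L60011 : sm ge N3981 = N3551 := trfs L58975 L35359 rfl
theorem L60012 : N3551 = N1949 := eqes L60011 L19125
theorem L60013 : N3551 = N1949 := eqc rfl L60012 rfl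
theorem L60023 : sm gd N1949 = N7271 := trfs L60013 (flp_d L34995) rfl
theorem L60024 : N7271 = N3900 := eqes L60023 (flp_d L18741)
theorem L60025 : N7271 = N3900 := eqc rfl L60024 rfl
theorem L60030 : sm gf N3900 = N3485 := trfs L60025 (flp_f L34991) rfl
theorem L60031 : N3485 = N1875 := eqes L60030 L18743
theorem L60032 : N3485 = N1875 := eqc rfl L60031 rfl
theorem L60043 : sm ge N1875 = N7239 := trfs L60032 (flp_e L34839) rfl
theorem L60044 : N7239 = N3861 := eqes L60043 (flp_e L18579)
theorem L60045 : N7239 = N3861 := eqc rfl L60044 rfl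
theorem L60085 : sm ga N3861 = N3473 := trfs L60045 (flp_a L34837) rfl
theorem L60086 : N3473 = N1857 := eqes L60085 (flp_a L18577)
theorem L60087 : N3473 = N1857 := eqc rfl L60086 rfl
theorem L60089 : sm gc N1857 = N7240 := trfs L60087 L34841 rfl
theorem L60090 : N7240 = N3862 := eqes L60089 L18581
theorem L60091 : N7240 = N3862 := eqc rfl L60090 rfl
theorem L60094 : sm gf N1857 = N7241 := trfs L60087 L34847 rfl
theorem L60095 : N7241 = N3859 := eqes L60094 (flp_f L18567)
theorem L60096 : N7241 = N3859 := eqc rfl L60095 rfl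
theorem L60103 : sm gb N3859 = N3813 := trfs L60096 L34851 rfl
theorem L60104 : N3813 = N1856 := eqes L60103 (flp_b L18563)
theorem L60105 : N3813 = N1856 := eqc rfl L60104 rfl
theorem L60122 : sm gg N1856 = N7966 := trfs L60105 L38526 rfl
theorem L60123 : N7966 = N3860 := eqes L60122 L18569
theorem L60124 : N7966 = N3860 := eqc rfl L60123 rfl
theorem L60131 : sm gf N3860 = N7921 := trfs L60124 (flp_f L38532) rfl
theorem L60132 : N7921 = N3684 := eqes L60131 (flp_f L18575)
theorem L60133 : N7921 = N3684 := eqc rfl L60132 rfl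
theorem L60138 : sm gg N3684 = N3811 := trfs L60133 L38296 rfl
theorem L60139 : N3811 = N1854 := eqes L60138 L17714
theorem L60140 : N3811 = N1854 := eqc rfl L60139 rfl
theorem L60151 : sm ge N1854 = N1839 := trfs L60140 L18313 rfl
theorem L60152 : N1839 = N922 := eqes L60151 L8995
theorem L60153 : N1839 = N922 := eqc rfl L60152 rfl
theorem L60158 : sm gb N922 = N3820 := trfs L60153 L18357 rfl
theorem L60159 : N3820 = N1868 := eqes L60158 L9057
theorem L60160 : N3820 = N1868 := eqc rfl L60159 rfl
theorem L60167 : sm gf N922 = N3822 := trfs L60153 L18365 rfl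
theorem L60168 : N3822 = N1870 := eqes L60167 L9065
theorem L60169 : N3822 = N1870 := eqc rfl L60168 rfl
theorem L60182 : sm gg N1870 = N3800 := trfs L60169 (flp_g L18371) rfl
theorem L60183 : N3800 = N1786 := eqes L60182 (flp_g L9071)
theorem L60184 : N3800 = N1786 := eqc rfl L60183 rfl
theorem L60192 : sm gd N1786 = N3148 := trfs L60184 L18251 rfl
theorem L60193 : N3148 = N900 := eqes L60192 L8661
theorem L60194 : N3148 = N900 := eqc rfl L60193 rfl
theorem L60206 : sm ge N900 = N6504 := trfs L60194 (flp_e L31432) rfl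
theorem L60207 : N6504 = N1802 := eqes L60206 (flp_e L8745)
theorem L60208 : N6504 = N1802 := eqc rfl L60207 rfl
theorem L60217 : sm gg N1802 = N6537 := trfs L60208 L31566 rfl
theorem L60218 : N6537 = N1905 := eqes L60217 L9233
theorem L60219 : N6537 = N1905 := eqc rfl L60218 rfl
theorem L60224 : sm gf N1905 = N3158 := trfs L60219 (flp_f L31560) rfl
theorem L60225 : N3158 = N937 := eqes L60224 (flp_f L9227)
theorem L60226 : N3158 = N937 := eqc rfl L60225 rfl
theorem L60230 : sm gb N937 = N6536 := trfs L60226 L31556 rfl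
theorem L60231 : N6536 = N1903 := eqes L60230 L9217
theorem L60232 : N6536 = N1903 := eqc rfl L60231 rfl
theorem L60240 : sm gg N937 = N6503 := trfs L60226 (flp_g L31428) rfl
theorem L60241 : N6503 = N1800 := eqes L60240 (flp_g L8733)
theorem L60242 : N6503 = N1800 := eqc rfl L60241 rfl
theorem L60244 : sm ge N1800 = N3147 := trfs L60242 L31426 rfl
theorem L60245 : N3147 = N898 := eqes L60244 L8731
theorem L60246 : N3147 = N898 := eqc rfl L60245 rfl
theorem L60252 : sm gc N898 = N5060 := trfs L60246 (flp_c L24484) rfl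
theorem L60253 : N5060 = N1813 := eqes L60252 L8785
theorem L60254 : N5060 = N1813 := eqc rfl L60253 rfl
theorem L60267 : sm gg N1813 = N2441 := trfs L60254 (flp_g L24480) rfl
theorem L60268 : N2441 = N952 := eqes L60267 L8789
theorem L60269 : N2441 = N952 := eqc rfl L60268 rfl
theorem L60279 : sm gf N952 = N5059 := trfs L60269 L24472 rfl
theorem L60280 : N5059 = N1942 := eqes L60279 L9377
theorem L60281 : N5059 = N1942 := eqc rfl L60280 rfl
theorem L60286 : sm gd N1942 = N5003 := trfs L60281 L24478 rfl
theorem L60287 : N5003 = N4058 := eqes L60286 (flp_d L19449)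
theorem L60288 : N5003 = N4058 := eqc rfl L60287 rfl
theorem L60294 : sm gg N4058 = N5010 := trfs L60288 (flp_g L24246) rfl
theorem L60295 : N5010 = N3766 := eqes L60294 (flp_g L19451)
theorem L60296 : N5010 = N3766 := eqc rfl L60295 rfl
theorem L60301 : sm gf N3766 = N2415 := trfs L60296 (flp_f L24242) rfl
theorem L60302 : N2415 = N1814 := eqes L60301 (flp_f L18077)
theorem L60303 : N2415 = N1814 := eqc rfl L60302 rfl
theorem L60312 : sm ge N1814 = N5007 := trfs L60303 (flp_e L24230) rfl
theorem L60313 : N5007 = N3765 := eqes L60312 L18071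
theorem L60314 : N5007 = N3765 := eqc rfl L60313 rfl
theorem L60319 : sm gg N3765 = N2413 := trfs L60314 (flp_g L24228) rfl
theorem L60320 : N2413 = N1945 := eqes L60319 L18075
theorem L60321 : N2413 = N1945 := eqc rfl L60320 rfl
theorem L60326 : sm gc N1945 = N4823 := trfs L60321 (flp_c L23303) rfl
theorem L60327 : N4823 = N4062 := eqes L60326 (flp_c L19471)
theorem L60328 : N4823 = N4062 := eqc rfl L60327 rfl
theorem L60335 : sm gb N4062 = N2326 := trfs L60328 L23301 rfl
theorem L60336 : N2326 = N8458 := eqes L60335 (flp_b L40972)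
theorem L60337 : N8458 = N2326 := (eqc rfl L60336 rfl).symm
theorem L60338 : sm ge N4062 = N2324 := trfs L60328 (flp_e L23299) rfl
theorem L60339 : N2324 = N1944 := eqes L60338 (flp_e L19469)
theorem L60340 : N2324 = N1944 := eqc rfl L60339 rfl
theorem L60344 : sm gb N1944 = N1132 := trfs L60340 (flp_b L11232) rfl
theorem L60345 : N1132 = N4060 := eqes L60344 L19459
theorem L60346 : N4060 = N1132 := (eqc rfl L60345 rfl).symm
theorem L60348 : sm gd N1944 = N4822 := trfs L60340 L23295 rfl
theorem L60349 : N4822 = N4061 := eqes L60348 L19463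
theorem L60350 : N4822 = N4061 := eqc rfl L60349 rfl
theorem L60359 : sm gb N4061 = N2325 := trfs L60350 L23297 rfl
theorem L60360 : N2325 = N8457 := eqes L60359 (flp_b L40968)
theorem L60361 : N8457 = N2325 := (eqc rfl L60360 rfl).symm
theorem L60362 : sm gc N4061 = N7986 := trfs L60350 (flp_c L38616) rfl
theorem L60363 : N7986 = N3892 := eqes L60362 (flp_c L19467)
theorem L60364 : N7986 = N3892 := eqc rfl L60363 rfl
theorem L60365 : sm ga N3892 = N3823 := trfs L60364 L38614 rfl
theorem L60366 : N3823 = N1871 := eqes L60365 L18707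
theorem L60367 : N3823 = N1871 := eqc rfl L60366 rfl
theorem L60380 : sm gd N1871 = N1840 := trfs L60367 (flp_d L18373) rfl
theorem L60381 : N1840 = N923 := eqes L60380 (flp_d L9073)
theorem L60382 : N1840 = N923 := eqc rfl L60381 rfl
theorem L60389 : sm gg N1871 = N7935 := trfs L60367 (flp_g L38360) rfl
theorem L60390 : N7935 = N3698 := eqes L60389 (flp_g L17778)
theorem L60391 : N7935 = N3698 := eqc rfl L60390 rfl
theorem L60392 : sm gd N3698 = N3799 := trfs L60391 (flp_d L38358) rfl
theorem L60393 : N3799 = N1785 := eqes L60392 (flp_d L17776)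
theorem L60394 : N3799 = N1785 := eqc rfl L60393 rfl
theorem L60402 : sm ge N1785 = N7922 := trfs L60394 (flp_e L38300) rfl
theorem L60403 : N7922 = N3685 := eqes L60402 (flp_e L17718)
theorem L60404 : N7922 = N3685 := eqc rfl L60403 rfl
theorem L60408 : sm gg N3685 = N3812 := trfs L60404 L38302 rfl
theorem L60409 : N3812 = N1855 := eqes L60408 L17720
theorem L60410 : N3812 = N1855 := eqc rfl L60409 rfl
theorem L60412 : sm gb N1855 = N1855 := trfs L60410 L18319 rfl
theorem L60414 : sm gd N1855 = N7964 := trfs L60410 L38516 rfl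
theorem L60415 : N7964 = N3857 := eqes L60414 L18555
theorem L60416 : N7964 = N3857 := eqc rfl L60415 rfl
theorem L60419 : sm gb N3857 = N3857 := trfs L60416 L38518 rfl
theorem L60443 : sm gb N923 = N923 := trfs L60382 L8923 rfl
theorem L60445 : sm gb N2325 = N4061 := trfs L60361 L40968 rfl
theorem L60458 : sm gf N1132 = N8459 := trfs L60346 L40976 rfl
theorem L60459 : N8459 = N2327 := eqes L60458 L11246
theorem L60460 : N8459 = N2327 := eqc rfl L60459 rfl
theorem L60465 : sm gc N2327 = N4133 := trfs L60460 L40978 rfl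
theorem L60466 : N4133 = N1134 := eqes L60465 L11248
theorem L60467 : N4133 = N1134 := eqc rfl L60466 rfl
theorem L60471 : sm gb N1134 = N8599 := trfs L60467 L41647 rfl
theorem L60472 : N8599 = N2329 := eqes L60471 L11254
theorem L60473 : N8599 = N2329 := eqc rfl L60472 rfl
theorem L60481 : sm gg N1134 = N8600 := trfs L60467 L41653 rfl
theorem L60482 : N8600 = N2330 := eqes L60481 L11260
theorem L60483 : N8600 = N2330 := eqc rfl L60482 rfl
theorem L60490 : sm gf N2330 = N8595 := trfs L60483 (flp_f L41655) rfl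
theorem L60491 : N8595 = N2156 := eqes L60490 (flp_f L11266)
theorem L60492 : N8595 = N2156 := eqc rfl L60491 rfl
theorem L60497 : sm gg N2156 = N4131 := trfs L60492 (flp_g L41629) rfl
theorem L60498 : N4131 = N1129 := eqes L60497 L10403
theorem L60499 : N4131 = N1129 := eqc rfl L60498 rfl
theorem L60505 : sm gd N1129 = N4150 := trfs L60499 (flp_d L19900) rfl
theorem L60506 : N4150 = N565 := eqes L60505 (flp_d L5569)
theorem L60507 : N4150 = N565 := eqc rfl L60506 rfl
theorem L60535 : sm gf N565 = N8635 := trfs L60507 L41815 rfl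
theorem L60536 : N8635 = N1130 := eqes L60535 L5573
theorem L60537 : N8635 = N1130 := eqc rfl L60536 rfl
theorem L60544 : sm gg N1130 = N8641 := trfs L60537 (flp_g L41867) rfl
theorem L60545 : N8641 = N1058 := eqes L60544 (flp_g L5579)
theorem L60546 : N8641 = N1058 := eqc rfl L60545 rfl
theorem L60552 : sm gf N1058 = N4153 := trfs L60546 (flp_f L41859) rfl
theorem L60553 : N4153 = N533 := eqes L60552 (flp_f L5247)
theorem L60554 : N4153 = N533 := eqc rfl L60553 rfl
theorem L60561 : sm ge N533 = N8639 := trfs L60554 (flp_e L41847) rfl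
theorem L60562 : N8639 = N1044 := eqes L60561 (flp_e L5193)
theorem L60563 : N8639 = N1044 := eqc rfl L60562 rfl
theorem L60571 : sm gg N1044 = N4151 := trfs L60563 (flp_g L41843) rfl
theorem L60572 : N4151 = N556 := eqes L60571 L5195
theorem L60573 : N4151 = N556 := eqc rfl L60572 rfl
theorem L60581 : sm gf N556 = N8638 := trfs L60573 L41837 rfl
theorem L60582 : N8638 = N1108 := eqes L60581 L5492
theorem L60583 : N8638 = N1108 := eqc rfl L60582 rfl
theorem L60584 : sm gc N1108 = N6441 := trfs L60583 L41839 rfl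
theorem L60585 : N6441 = N557 := eqes L60584 L5494
theorem L60586 : N6441 = N557 := eqc rfl L60585 rfl
theorem L60588 : sm ge N557 = N3119 := trfs L60586 L31151 rfl
theorem L60589 : N3119 = N287 := eqes L60588 L2837
theorem L60590 : N3119 = N287 := eqc rfl L60589 rfl
theorem L60600 : sm gf N287 = N1513 := trfs L60590 (flp_f L15051) rfl
theorem L60601 : N1513 = N139 := eqes L60600 (flp_f L1466)
theorem L60602 : N1513 = N139 := eqc rfl L60601 rfl
theorem L60619 : sm gd N139 = N3105 := trfs L60602 (flp_d L14991) rfl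
theorem L60620 : N3105 = N276 := eqes L60619 (flp_d L1424)
theorem L60621 : N3105 = N276 := eqc rfl L60620 rfl
theorem L60637 : sm gg N276 = N6398 := trfs L60621 (flp_g L30955) rfl
theorem L60638 : N6398 = N519 := eqes L60637 (flp_g L2658)
theorem L60639 : N6398 = N519 := eqc rfl L60638 rfl
theorem L60640 : sm gb N519 = N3092 := trfs L60639 (flp_b L30951) rfl
theorem L60641 : N3092 = N264 := eqes L60640 (flp_b L2654)
theorem L60642 : N3092 = N264 := eqc rfl L60641 rfl
theorem L60653 : sm gg N264 = N1501 := trfs L60642 (flp_g L14925) rfl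
theorem L60654 : N1501 = N128 := eqes L60653 (flp_g L1361)
theorem L60655 : N1501 = N128 := eqc rfl L60654 rfl
theorem L60664 : sm ge N128 = N3090 := trfs L60655 L14917 rfl
theorem L60665 : N3090 = N262 := eqes L60664 L1351
theorem L60666 : N3090 = N262 := eqc rfl L60665 rfl
theorem L60673 : sm gd N262 = N6393 := trfs L60666 L30925 rfl
theorem L60674 : N6393 = N514 := eqes L60673 L2625
theorem L60675 : N6393 = N514 := eqc rfl L60674 rfl
theorem L60684 : sm ge N514 = N3093 := trfs L60675 L30929 rfl
theorem L60685 : N3093 = N265 := eqes L60684 L2629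
theorem L60686 : N3093 = N265 := eqc rfl L60685 rfl
theorem L60690 : sm gb N265 = N1508 := trfs L60686 L14931 rfl
theorem L60691 : N1508 = N135 := eqes L60690 L1368
theorem L60692 : N1508 = N135 := eqc rfl L60691 rfl
theorem L60743 : sm gg N135 = N3109 := trfs L60692 L15009 rfl
theorem L60744 : N3109 = N279 := eqes L60743 L1438
theorem L60745 : N3109 = N279 := eqc rfl L60744 rfl
theorem L60759 : sm gf N279 = N6435 := trfs L60745 L31119 rfl
theorem L60760 : N6435 = N331 := eqes L60759 L1689
theorem L60761 : N6435 = N331 := eqc rfl L60760 rfl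
theorem L60768 : sm gg N331 = N6368 := trfs L60761 L31125 rfl
theorem L60769 : N6368 = N164 := eqes L60768 (flp_g L1685)
theorem L60770 : N6368 = N164 := eqc rfl L60769 rfl
theorem L60772 : sm gd N164 = N3080 := trfs L60770 L30807 rfl
theorem L60773 : N3080 = N76 := eqes L60772 L825
theorem L60774 : N3080 = N76 := eqc rfl L60773 rfl
theorem L60782 : sm gf N76 = N1495 := trfs L60774 (flp_f L14863) rfl
theorem L60783 : N1495 = N33 := eqes L60782 (flp_f L365)
theorem L60784 : N1495 = N33 := eqc rfl L60783 rfl
theorem L60793 : sm gg N33 = N3081 := trfs L60784 L14871 rfl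
theorem L60794 : N3081 = N77 := eqes L60793 L371
theorem L60795 : N3081 = N77 := eqc rfl L60794 rfl
theorem L60797 : sm gb N77 = N6371 := trfs L60795 L30820 rfl
theorem L60798 : N6371 = N168 := eqes L60797 L845
theorem L60799 : N6371 = N168 := eqc rfl L60798 rfl
theorem L60805 : sm ge N168 = N3083 := trfs L60799 L30822 rfl
theorem L60806 : N3083 = N80 := eqes L60805 L847
theorem L60807 : N3083 = N80 := eqc rfl L60806 rfl
theorem L60819 : sm gg N80 = N6360 := trfs L60807 (flp_g L30759) rfl
theorem L60820 : N6360 = N80 := eqes L60819 L390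
theorem L60821 : N6360 = N80 := eqc rfl L60820 rfl
theorem L60822 : sm gb N80 = N3075 := trfs L60821 (flp_b L30756) rfl
theorem L60823 : N3075 = N35 := eqes L60822 (flp_b L387)
theorem L60824 : N3075 = N35 := eqc rfl L60823 rfl
theorem L60841 : sm gg N35 = N1493 := trfs L60824 (flp_g L14835) rfl
theorem L60842 : N1493 = N15 := eqes L60841 (flp_g L169)
theorem L60843 : N1493 = N15 := eqc rfl L60842 rfl
theorem L60848 : sm gc N15 = N3068 := trfs L60843 (flp_c L14809) rfl
theorem L60849 : N3068 = N7 := eqes L60848 (flp_c L80)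
theorem L60850 : N3068 = N7 := eqc rfl L60849 rfl
theorem L60855 : sm gf N15 = N3074 := trfs L60843 L14833 rfl
theorem L60856 : N3074 = N34 := eqes L60855 L165
theorem L60857 : N3074 = N34 := eqc rfl L60856 rfl
theorem L60861 : sm gb N34 = N6358 := trfs L60857 L30747 rfl
theorem L60862 : N6358 = N78 := eqes L60861 L377
theorem L60863 : N6358 = N78 := eqc rfl L60862 rfl
theorem L60883 : sm gf N78 = N3082 := trfs L60863 L30750 rfl
theorem L60884 : N3082 = N78 := eqes L60883 L380
theorem L60885 : N3082 = N78 := eqc rfl L60884 rfl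
theorem L60895 : sm gg N78 = N6373 := trfs L60885 L30828 rfl
theorem L60896 : N6373 = N171 := eqes L60895 L865
theorem L60897 : N6373 = N171 := eqc rfl L60896 rfl
theorem L60898 : sm gb N171 = N6458 := trfs L60897 (flp_b L31219) rfl
theorem L60899 : N6458 = N342 := eqes L60898 L1743
theorem L60900 : N6458 = N342 := eqc rfl L60899 rfl
theorem L60902 : sm gg N342 = N3120 := trfs L60900 (flp_g L31217) rfl
theorem L60903 : N3120 = N172 := eqes L60902 L1745
theorem L60904 : N3120 = N172 := eqc rfl L60903 rfl
theorem L60914 : sm gd N172 = N6428 := trfs L60904 (flp_d L31093) rfl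
theorem L60915 : N6428 = N322 := eqes L60914 (flp_d L1651)
theorem L60916 : N6428 = N322 := eqc rfl L60915 rfl
theorem L60922 : sm gb N322 = N3106 := trfs L60916 (flp_b L31091) rfl
theorem L60923 : N3106 = N160 := eqes L60922 (flp_b L1649)
theorem L60924 : N3106 = N160 := eqc rfl L60923 rfl
theorem L60934 : sm gg N160 = N3077 := trfs L60924 L15001 rfl
theorem L60935 : N3077 = N73 := eqes L60934 (flp_g L800)
theorem L60936 : N3077 = N73 := eqc rfl L60935 rfl
theorem L60946 : sm gf N73 = N1494 := trfs L60936 (flp_f L14843) rfl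
theorem L60947 : N1494 = N32 := eqes L60946 (flp_f L354)
theorem L60948 : N1494 = N32 := eqc rfl L60947 rfl
theorem L60956 : sm gg N32 = N3078 := trfs L60948 L14851 rfl
theorem L60957 : N3078 = N74 := eqes L60956 L358
theorem L60958 : N3078 = N74 := eqc rfl L60957 rfl
theorem L60963 : sm ge N74 = N6364 := trfs L60958 (flp_e L30787) rfl
theorem L60964 : N6364 = N158 := eqes L60963 (flp_e L793)
theorem L60965 : N6364 = N158 := eqc rfl L60964 rfl
theorem L60971 : sm gf N158 = N6418 := trfs L60965 L31051 rfl
theorem L60972 : N6418 = N318 := eqes L60971 L1627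
theorem L60973 : N6418 = N318 := eqc rfl L60972 rfl
theorem L60978 : sm gg N318 = N3101 := trfs L60973 (flp_g L31047) rfl
theorem L60979 : N3101 = N273 := eqes L60978 L1635
theorem L60980 : N3101 = N273 := eqc rfl L60979 rfl
theorem L60982 : sm gb N273 = N6417 := trfs L60980 L31043 rfl
theorem L60983 : N6417 = N539 := eqes L60982 L2751
theorem L60984 : N6417 = N539 := eqc rfl L60983 rfl
theorem L60993 : sm ge N539 = N3103 := trfs L60984 L31045 rfl
theorem L60994 : N3103 = N275 := eqes L60993 L2753
theorem L60995 : N3103 = N275 := eqc rfl L60994 rfl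
theorem L61009 : sm gg N275 = N6423 := trfs L60995 L31073 rfl
theorem L61010 : N6423 = N543 := eqes L61009 L2767
theorem L61011 : N6423 = N543 := eqc rfl L61010 rfl
theorem L61012 : sm gd N543 = N3116 := trfs L61011 L31075 rfl
theorem L61013 : N3116 = N284 := eqes L61012 L2769
theorem L61014 : N3116 = N284 := eqc rfl L61013 rfl
theorem L61021 : sm gc N284 = N6447 := trfs L61014 (flp_c L31175) rfl
theorem L61022 : N6447 = N562 := eqes L61021 (flp_c L2857)
theorem L61023 : N6447 = N562 := eqc rfl L61022 rfl
theorem L61321 : sm gb N562 = N7499 := trfs L61023 (flp_b L36009) rfl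
theorem L61322 : N7499 = N1121 := eqes L61321 L5543
theorem L61323 : N7499 = N1121 := eqc rfl L61322 rfl
theorem L61324 : sm gg N1121 = N3589 := trfs L61323 (flp_g L36007) rfl
theorem L61325 : N3589 = N585 := eqes L61324 L5545
theorem L61326 : N3589 = N585 := eqc rfl L61325 rfl
theorem L61333 : sm gc N585 = N7494 := trfs L61326 (flp_c L35987) rfl
theorem L61334 : N7494 = N720 := eqes L61333 (flp_c L3609)
theorem L61335 : N7494 = N720 := eqc rfl L61334 rfl
theorem L61347 : sm gb N720 = N3588 := trfs L61335 (flp_b L35985) rfl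
theorem L61348 : N3588 = N365 := eqes L61347 (flp_b L3607)
theorem L61349 : N3588 = N365 := eqc rfl L61348 rfl
theorem L61363 : sm gg N365 = N2476 := trfs L61349 L17206 rfl
theorem L61364 : N2476 = N182 := eqes L61363 (flp_g L1854)
theorem L61365 : N2476 = N182 := eqc rfl L61364 rfl
theorem L61373 : sm gd N182 = N5133 := trfs L61365 L24829 rfl
theorem L61374 : N5133 = N364 := eqes L61373 L1851
theorem L61375 : N5133 = N364 := eqc rfl L61374 rfl
theorem L61412 : sm gc N364 = N3023 := trfs L61375 L24834 rfl
theorem L61413 : N3023 = N717 := eqes L61412 L3597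
theorem L61414 : N3023 = N717 := eqc rfl L61413 rfl
theorem L61430 : sm gg N717 = N6249 := trfs L61414 L30198 rfl
theorem L61431 : N6249 = N1443 := eqes L61430 L7002
theorem L61432 : N6249 = N1443 := eqc rfl L61431 rfl
theorem L61434 : sm gd N1443 = N3024 := trfs L61432 L30200 rfl
theorem L61435 : N3024 = N1477 := eqes L61434 (flp_d L7192)
theorem L61436 : N3024 = N1477 := eqc rfl L61435 rfl
theorem L61446 : sm ge N1477 = N6245 := trfs L61436 (flp_e L30182) rfl
theorem L61447 : N6245 = N3039 := eqes L61446 (flp_e L14661)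
theorem L61448 : N6245 = N3039 := eqc rfl L61447 rfl
theorem L61454 : sm gg N3039 = N3019 := trfs L61448 (flp_g L30178) rfl
theorem L61455 : N3019 = N1476 := eqes L61454 (flp_g L14655)
theorem L61456 : N3019 = N1476 := eqc rfl L61455 rfl
theorem L61460 : sm gb N1476 = N6234 := trfs L61456 (flp_b L30127) rfl
theorem L61461 : N6234 = N3035 := eqes L61460 (flp_b L14637)
theorem L61462 : N6234 = N3035 := eqc rfl L61461 rfl
theorem L61463 : sm gc N1476 = N1464 := trfs L61456 (flp_c L14548) rfl
theorem L61464 : N1464 = N738 := eqes L61463 L7183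
theorem L61465 : N1464 = N738 := eqc rfl L61464 rfl
theorem L61479 : sm ge N738 = N730 := trfs L61465 L7113 rfl
theorem L61480 : N730 = N373 := eqes L61479 (flp_e L3698)
theorem L61481 : N730 = N373 := eqc rfl L61480 rfl
theorem L61491 : sm gd N373 = N371 := trfs L61481 L3661 rfl
theorem L61492 : N371 = N189 := eqes L61491 (flp_d L1893)
theorem L61493 : N371 = N189 := eqc rfl L61492 rfl
theorem L61499 : sm gb N189 = N188 := trfs L61493 (flp_b L1884) rfl
theorem L61500 : N188 = N372 := eqes L61499 L1890
theorem L61501 : N372 = N188 := (eqc rfl L61500 rfl).symm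
theorem L61507 : sm gg N189 = N732 := trfs L61493 L3672 rfl
theorem L61508 : N732 = N374 := eqes L61507 L1898
theorem L61509 : N732 = N374 := eqc rfl L61508 rfl
theorem L61513 : sm gb N374 = N1453 := trfs L61509 (flp_b L7061) rfl
theorem L61514 : N1453 = N740 := eqes L61513 L3712
theorem L61515 : N1453 = N740 := eqc rfl L61514 rfl
theorem L61521 : sm gc N740 = N1469 := trfs L61515 (flp_c L7141) rfl
theorem L61522 : N1469 = N724 := eqes L61521 L3715
theorem L61523 : N1469 = N724 := eqc rfl L61522 rfl
theorem L61524 : sm gd N740 = N2993 := trfs L61515 (flp_d L14428) rfl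
theorem L61525 : N2993 = N1479 := eqes L61524 (flp_d L7207)
theorem L61526 : N2993 = N1479 := eqc rfl L61525 rfl
theorem L61539 : sm gf N1479 = N3025 := trfs L61526 (flp_f L14583) rfl
theorem L61540 : N3025 = N1452 := eqes L61539 L7209
theorem L61541 : N3025 = N1452 := eqc rfl L61540 rfl
theorem L61552 : sm ge N1452 = N6252 := trfs L61541 L30211 rfl
theorem L61553 : N6252 = N2991 := eqes L61552 (flp_e L14419)
theorem L61554 : N6252 = N2991 := eqc rfl L61553 rfl
theorem L61558 : sm gb N2991 = N3027 := trfs L61554 L30214 rfl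
theorem L61559 : N3027 = N1451 := eqes L61558 (flp_b L14416)
theorem L61560 : N3027 = N1451 := eqc rfl L61559 rfl
theorem L61571 : sm gf N1451 = N6257 := trfs L61560 L30246 rfl
theorem L61572 : N6257 = N722 := eqes L61571 (flp_f L7043)
theorem L61573 : N6257 = N722 := eqc rfl L61572 rfl
theorem L61582 : sm ge N722 = N3028 := trfs L61573 L30251 rfl
theorem L61583 : N3028 = N366 := eqes L61582 (flp_e L3618)
theorem L61584 : N3028 = N366 := eqc rfl L61583 rfl
theorem L61592 : sm gc N366 = N6256 := trfs L61584 (flp_c L30243) rfl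
theorem L61593 : N6256 = N721 := eqes L61592 L3611
theorem L61594 : N6256 = N721 := eqc rfl L61593 rfl
theorem L61601 : sm gf N721 = N3026 := trfs L61594 (flp_f L30239) rfl
theorem L61602 : N3026 = N1450 := eqes L61601 L7033
theorem L61603 : N3026 = N1450 := eqc rfl L61602 rfl
theorem L61612 : sm gd N1450 = N6254 := trfs L61603 L30223 rfl
theorem L61613 : N6254 = N1429 := eqes L61612 L7039
theorem L61614 : N6254 = N1429 := eqc rfl L61613 rfl
theorem L61617 : sm ga N1429 = N3030 := trfs L61614 L30225 rfl
theorem L61618 : N3030 = N1460 := eqes L61617 (flp_a L7091)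
theorem L61619 : N3030 = N1460 := eqc rfl L61618 rfl
theorem L61675 : sm gb N1460 = N6259 := trfs L61619 (flp_b L30262) rfl
theorem L61676 : N6259 = N3011 := eqes L61675 L14518
theorem L61677 : N6259 = N3011 := eqc rfl L61676 rfl
theorem L61687 : sm gd N3011 = N3029 := trfs L61677 (flp_d L30260) rfl
theorem L61688 : N3029 = N1463 := eqes L61687 L14520
theorem L61689 : N3029 = N1463 := eqc rfl L61688 rfl
theorem L61690 : sm ga N1463 = N6258 := trfs L61689 L30256 rfl
theorem L61691 : N6258 = N3015 := eqes L61690 L14533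
theorem L61692 : N6258 = N3015 := eqc rfl L61691 rfl
theorem L61694 : sm gc N1463 = N1475 := trfs L61689 L14611 rfl
theorem L61695 : N1475 = N3016 := eqes L61694 L14535
theorem L61696 : N3016 = N1475 := (eqc rfl L61695 rfl).symm
theorem L61703 : sm gg N1463 = N6262 := trfs L61689 L30274 rfl
theorem L61704 : N6262 = N3017 := eqes L61703 L14539
theorem L61705 : N6262 = N3017 := eqc rfl L61704 rfl
theorem L61706 : sm gc N3017 = N3037 := trfs L61705 L30276 rfl
theorem L61707 : N3037 = N6240 := eqes L61706 (flp_c L30151)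
theorem L61708 : N6240 = N3037 := (eqc rfl L61707 rfl).symm
theorem L61709 : sm gc N3037 = N3017 := trfs L61708 L30151 rfl
theorem L61741 : sm gc N1475 = N1463 := trfs L61696 (flp_c L14535) rfl
theorem L61747 : sm gc N3015 = N3034 := trfs L61692 L30258 rfl
theorem L61802 : sm gg N724 = N740 := trfs L61523 L7143 rfl
theorem L61824 : sm gb N188 = N189 := trfs L61501 (flp_b L1890) rfl
theorem L61859 : sm gc N3035 = N3014 := trfs L61462 (flp_c L30123) rfl
theorem L62000 : sm ga N7 = N6339 := trfs L60850 L30665 rfl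
theorem L62001 : N6339 = N12 := eqes L62000 (flp_a L66)
theorem L62002 : N6339 = N12 := eqc rfl L62001 rfl
theorem L62108 : sm gb N12 = N3364 := trfs L62002 L42046 rfl
theorem L62109 : N3364 = N23 := eqes L62108 (flp_b L122)
theorem L62110 : N3364 = N23 := eqc rfl L62109 rfl
theorem L62127 : sm gg N23 = N6991 := trfs L62110 L33687 rfl
theorem L62128 : N6991 = N52 := eqes L62127 L251
theorem L62129 : N6991 = N52 := eqc rfl L62128 rfl
theorem L62136 : sm gf N52 = N7009 := trfs L62129 L33768 rfl
theorem L62137 : N7009 = N120 := eqes L62136 L590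
theorem L62138 : N7009 = N120 := eqc rfl L62137 rfl
theorem L62145 : sm gg N120 = N3371 := trfs L62138 (flp_g L33764) rfl
theorem L62146 : N3371 = N98 := eqes L62145 L596
theorem L62147 : N3371 = N98 := eqc rfl L62146 rfl
theorem L62155 : sm gd N98 = N7003 := trfs L62147 (flp_d L33740) rfl
theorem L62156 : N7003 = N44 := eqes L62155 L489
theorem L62157 : N7003 = N44 := eqc rfl L62156 rfl
theorem L62158 : sm ge N98 = N7006 := trfs L62147 (flp_e L33753) rfl
theorem L62159 : N7006 = N207 := eqes L62158 (flp_e L1052)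
theorem L62160 : N7006 = N207 := eqc rfl L62159 rfl
theorem L62165 : sm gf N207 = N3370 := trfs L62160 (flp_f L33749) rfl
theorem L62166 : N3370 = N97 := eqes L62165 (flp_f L1047)
theorem L62167 : N3370 = N97 := eqc rfl L62166 rfl
theorem L62177 : sm gg N97 = N7007 := trfs L62167 L33755 rfl
theorem L62178 : N7007 = N208 := eqes L62177 L1054
theorem L62179 : N7007 = N208 := eqc rfl L62178 rfl
theorem L62180 : sm gc N208 = N3379 := trfs L62179 L33757 rfl
theorem L62181 : N3379 = N409 := eqes L62180 (flp_c L2093)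
theorem L62182 : N3379 = N409 := eqc rfl L62181 rfl
theorem L62196 : sm gf N409 = N7030 := trfs L62182 L33867 rfl
theorem L62197 : N7030 = N472 := eqes L62196 L2412
theorem L62198 : N7030 = N472 := eqc rfl L62197 rfl
theorem L62206 : sm gg N472 = N6997 := trfs L62198 L33873 rfl
theorem L62207 : N6997 = N237 := eqes L62206 (flp_g L2406)
theorem L62208 : N6997 = N237 := eqc rfl L62207 rfl
theorem L62213 : sm gf N237 = N3366 := trfs L62208 (flp_f L33717) rfl
theorem L62214 : N3366 = N112 := eqes L62213 (flp_f L1204)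
theorem L62215 : N3366 = N112 := eqc rfl L62214 rfl
theorem L62217 : sm gb N112 = N6466 := trfs L62215 (flp_b L31268) rfl
theorem L62218 : N6466 = N229 := eqes L62217 (flp_b L1174)
theorem L62219 : N6466 = N229 := eqc rfl L62218 rfl
theorem L62228 : sm ge N229 = N3126 := trfs L62219 (flp_e L31264) rfl
theorem L62229 : N3126 = N110 := eqes L62228 (flp_e L1172)
theorem L62230 : N3126 = N110 := eqc rfl L62229 rfl
theorem L62243 : sm gg N110 = N6468 := trfs L62230 L31274 rfl
theorem L62244 : N6468 = N231 := eqes L62243 L1182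
theorem L62245 : N6468 = N231 := eqc rfl L62244 rfl
theorem L62252 : sm gf N231 = N6477 := trfs L62245 L31310 rfl
theorem L62253 : N6477 = N456 := eqes L62252 L2324
theorem L62254 : N6477 = N456 := eqc rfl L62253 rfl
theorem L62261 : sm gg N456 = N3129 := trfs L62254 (flp_g L31308) rfl
theorem L62262 : N3129 = N445 := eqes L62261 L2330
theorem L62263 : N3129 = N445 := eqc rfl L62262 rfl
theorem L62271 : sm gd N445 = N3780 := trfs L62263 (flp_d L18147) rfl
theorem L62272 : N3780 = N873 := eqes L62271 (flp_d L4357)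
theorem L62273 : N3780 = N873 := eqc rfl L62272 rfl
theorem L62291 : sm gf N873 = N1820 := trfs L62273 (flp_f L18145) rfl
theorem L62292 : N1820 = N443 := eqes L62291 (flp_f L4351)
theorem L62293 : N1820 = N443 := eqc rfl L62292 rfl
theorem L62301 : sm ge N443 = N3779 := trfs L62293 L18141 rfl
theorem L62302 : N3779 = N872 := eqes L62301 L4345
theorem L62303 : N3779 = N872 := eqc rfl L62302 rfl
theorem L62401 : sm ga N872 = N7884 := trfs L62303 (flp_a L38098) rfl
theorem L62402 : N7884 = N447 := eqes L62401 L4347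
theorem L62403 : N7884 = N447 := eqc rfl L62402 rfl
theorem L62409 : sm gd N872 = N3620 := trfs L62303 L38128 L55930
theorem L62410 : N3620 = N1757 := eqes L62409 L8511
theorem L62411 : N3620 = N1757 := eqc rfl L62410 rfl
theorem L62414 : sm gb N1757 = N1757 := trfs L62411 L17373 rfl
theorem L62415 : sm gc N1757 = N7555 := trfs L62411 L36277 rfl
theorem L62416 : N7555 = N3640 := eqes L62415 L17471
theorem L62417 : N7555 = N3640 := eqc rfl L62416 rfl
theorem L62430 : sm ge N3640 = N3627 := trfs L62417 L36279 rfl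
theorem L62431 : N3627 = N1762 := eqes L62430 L17475
theorem L62432 : N3627 = N1762 := eqc rfl L62431 rfl
theorem L62434 : sm gb N1762 = N7569 := trfs L62432 L36357 rfl
theorem L62435 : N7569 = N3651 := eqes L62434 L17525
theorem L62436 : N7569 = N3651 := eqc rfl L62435 rfl
theorem L62449 : sm gc N3651 = N3651 := trfs L62436 L36359 rfl
theorem L62451 : sm gb N447 = N6993 := trfs L62403 L38100 rfl
theorem L62452 : N6993 = N233 := eqes L62451 L2284
theorem L62453 : N6993 = N233 := eqc rfl L62452 rfl
theorem L62456 : sm ge N233 = N3365 := trfs L62453 (flp_e L33697) rfl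
theorem L62457 : N3365 = N111 := eqes L62456 (flp_e L1192)
theorem L62458 : N3365 = N111 := eqc rfl L62457 rfl
theorem L62470 : sm gg N111 = N6995 := trfs L62458 L33707 rfl
theorem L62471 : N6995 = N235 := eqes L62470 L1198
theorem L62472 : N6995 = N235 := eqc rfl L62471 rfl
theorem L62477 : sm gf N235 = N7021 := trfs L62472 L33823 rfl
theorem L62478 : N7021 = N467 := eqes L62477 L2384
theorem L62479 : N7021 = N467 := eqc rfl L62478 rfl
theorem L62484 : sm gg N467 = N3375 := trfs L62479 (flp_g L33819) rfl
theorem L62485 : N3375 = N405 := eqes L62484 L2390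
theorem L62486 : N3375 = N405 := eqc rfl L62485 rfl
theorem L62491 : sm gc N405 = N7015 := trfs L62486 (flp_c L33793) rfl
theorem L62492 : N7015 = N423 := eqes L62491 (flp_c L2153)
theorem L62493 : N7015 = N405 := eqc rfl L62492 L54396
theorem L62500 : sm gf N405 = N3373 := trfs L62493 (flp_f L33791) rfl
theorem L62501 : N3373 = N203 := eqes L62500 (flp_f L2065)
theorem L62502 : N3373 = N203 := eqc rfl L62501 rfl
theorem L62504 : sm gb N203 = N7012 := trfs L62502 L33781 rfl
theorem L62505 : N7012 = N400 := eqes L62504 (flp_b L2048)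
theorem L62506 : N7012 = N400 := eqc rfl L62505 rfl
theorem L62520 : sm gc N400 = N3384 := trfs L62506 L33783 rfl
theorem L62521 : N3384 = N783 := eqes L62520 L3939
theorem L62522 : N3384 = N783 := eqc rfl L62521 rfl
theorem L62526 : sm gb N783 = N1639 := trfs L62522 (flp_b L16253) rfl
theorem L62527 : N1639 = N821 := eqes L62526 (flp_b L4111)
theorem L62528 : N1639 = N783 := eqc rfl L62527 L54683
theorem L62532 : sm ge N783 = N7041 := trfs L62522 L33907 rfl
theorem L62533 : N7041 = N1567 := eqes L62532 L7633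
theorem L62534 : N7041 = N1567 := eqc rfl L62533 rfl
theorem L62541 : sm gb N1567 = N1567 := trfs L62534 L33909 L54771
theorem L62542 : N1567 = N1649 := eqes L62541 (flp_b L8006)
theorem L62543 : N1649 = N1567 := (eqc rfl L62542 rfl).symm
theorem L62544 : sm ga N1567 = N1567 := trfs L62543 (flp_a L16263) L54771
theorem L62545 : N1567 = N3204 := eqes L62544 (flp_a L15439)
theorem L62546 : N3204 = N1567 := (eqc rfl L62545 rfl).symm
theorem L62547 : sm gb N1567 = N1567 := trfs L62543 L8006 rfl
theorem L62553 : sm gf N1567 = N3409 := trfs L62543 L16359 rfl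
theorem L62555 : sm gg N1567 = N3410 := trfs L62543 L16365 rfl
theorem L62556 : N3410 = N3228 := eqes L62555 L15537
theorem L62557 : N3410 = N3228 := eqc rfl L62556 rfl
theorem L62558 : sm ga N3228 = N3228 := trfs L62557 (flp_a L33951) L54787
theorem L62559 : N3228 = N6645 := eqes L62558 (flp_a L32054)
theorem L62560 : N6645 = N3228 := (eqc rfl L62559 rfl).symm
theorem L62561 : sm gb N3228 = N7099 := trfs L62557 L34181 rfl
theorem L62562 : N7099 = N6695 := eqes L62561 L32280
theorem L62563 : N7099 = N6695 := eqc rfl L62562 rfl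
theorem L62578 : sm ge N6695 = N3413 := trfs L62563 L34183 rfl
theorem L62579 : N3413 = N3231 := eqes L62578 L32282
theorem L62580 : N3413 = N3231 := eqc rfl L62579 rfl
theorem L62586 : sm gc N3231 = N7106 := trfs L62580 L34215 rfl
theorem L62587 : N7106 = N6702 := eqes L62586 L32306
theorem L62588 : N7106 = N6702 := eqc rfl L62587 rfl
theorem L62589 : sm gd N3231 = N7092 := trfs L62580 (flp_d L34143) rfl
theorem L62590 : N7092 = N6688 := eqes L62589 (flp_d L32246)
theorem L62591 : N7092 = N6688 := eqc rfl L62590 rfl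
theorem L62596 : sm gb N6688 = N3407 := trfs L62591 (flp_b L34141) rfl
theorem L62597 : N3407 = N3225 := eqes L62596 (flp_b L32244)
theorem L62598 : N3407 = N3225 := eqc rfl L62597 rfl
theorem L62611 : sm gg N3225 = N1648 := trfs L62598 (flp_g L16351) rfl
theorem L62612 : N1648 = N1566 := eqes L62611 (flp_g L15525)
theorem L62613 : N1648 = N1566 := eqc rfl L62612 rfl
theorem L62617 : sm gb N1566 = N1566 := trfs L62613 L8002 rfl
theorem L62623 : sm gf N1566 = N3406 := trfs L62613 L16347 rfl
theorem L62624 : N3406 = N3203 := eqes L62623 (flp_f L52838)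
theorem L62625 : N3406 = N3203 := eqc rfl L62624 rfl
theorem L62639 : sm gg N3203 = N7091 := trfs L62625 L34135 rfl
theorem L62640 : N7091 = N6642 := eqes L62639 L32032
theorem L62641 : N7091 = N6642 := eqc rfl L62640 rfl
theorem L62644 : sm gd N6642 = N3412 := trfs L62641 L34137 rfl
theorem L62645 : N3412 = N3206 := eqes L62644 L32038
theorem L62646 : N3412 = N3206 := eqc rfl L62645 rfl
theorem L62656 : sm gf N3206 = N3388 := trfs L62646 (flp_f L16379) rfl
theorem L62657 : N3388 = N3230 := eqes L62656 L15549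
theorem L62658 : N3388 = N3206 := eqc rfl L62657 L52799
theorem L62670 : sm gg N3206 = N783 := trfs L62658 (flp_g L16273) L62528
theorem L62671 : N783 = N1557 := eqes L62670 (flp_g L15449)
theorem L62672 : N1557 = N783 := (eqc rfl L62671 rfl).symm
theorem L62673 : sm ga N783 = N783 := trfs L62672 L7591 rfl
theorem L62674 : sm gb N783 = N3202 := trfs L62672 L15429 rfl
theorem L62675 : N3202 = N821 := eqes L62674 (flp_b L4111)
theorem L62676 : N3202 = N783 := eqc rfl L62675 L54683
theorem L62678 : sm gd N783 = N3203 := trfs L62672 L15431 rfl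
theorem L62679 : N3203 = N1566 := eqes L62678 L7631
theorem L62680 : N3203 = N1566 := eqc rfl L62679 rfl
theorem L62701 : sm ga N1566 = N1566 := trfs L62680 L15433 rfl
theorem L62705 : sm gc N1566 = N1566 := trfs L62680 (flp_c L15435) rfl
theorem L62709 : sm gf N1566 = N1566 := trfs L62680 L52838 rfl
theorem L62725 : sm gf N783 = N3411 := trfs L62676 (flp_f L52870) rfl
theorem L62726 : N3411 = N1568 := eqes L62725 L7637
theorem L62727 : N1568 = N783 := L52813.trans L62672
theorem L62728 : N3411 = N783 := eqc rfl L62726 L62727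
theorem L62742 : sm ge N783 = N7097 := trfs L62728 (flp_e L34169) rfl
theorem L62743 : N7097 = N1567 := eqes L62742 L7633
theorem L62744 : N7097 = N1567 := eqc rfl L62743 rfl
theorem L62748 : sm gb N1567 = N3409 := trfs L62744 (flp_b L34167) rfl
theorem L62749 : N3409 = N1567 := eqes L62748 L62547
theorem L62750 : N3409 = N1567 := eqc rfl L62749 rfl
theorem L62760 : sm gf N1567 = N1567 := trfs L62750 (flp_f L62553) rfl
theorem L62805 : sm gg N6702 = N6702 := trfs L62588 L34217 rfl
theorem L63065 : sm ga N3228 = N3228 := trfs L62560 L32054 rfl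
theorem L63078 : sm ga N1567 = N1567 := trfs L62546 L15439 rfl
theorem L63733 : sm gf N44 = N3369 := trfs L62157 (flp_f L33738) rfl
theorem L63734 : N3369 = N21 := eqes L63733 (flp_f L217)
theorem L63735 : N3369 = N21 := eqc rfl L63734 rfl
theorem L63738 : sm gc N21 = N7001 := trfs L63735 L33733 rfl
theorem L63858 : sm gf N2329 = N4137 := trfs L60473 L41651 rfl
theorem L63859 : N4137 = N1178 := eqes L63858 L11258
theorem L63860 : N4137 = N1178 := eqc rfl L63859 rfl
theorem L63865 : sm gc N1178 = N8606 := trfs L63860 L41685 rfl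
theorem L63866 : N8606 = N2422 := eqes L63865 L11676
theorem L63867 : N8606 = N2422 := eqc rfl L63866 rfl
theorem L63893 : sm gb N2422 = N4140 := trfs L63867 L41687 rfl
theorem L63894 : N4140 = N5015 := eqes L63893 (flp_b L24266)
theorem L63895 : N5015 = N4140 := (eqc rfl L63894 rfl).symm
theorem L63896 : sm gb N4140 = N2422 := trfs L63895 L24266 rfl
theorem L63907 : sm gb N2326 = N4062 := trfs L60337 L40972 rfl
theorem L63972 : sm ge N1903 = N3166 := trfs L60232 L31558 rfl
theorem L63973 : N3166 = N951 := eqes L63972 L9219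
theorem L63974 : N3166 = N951 := eqc rfl L63973 rfl
theorem L63982 : sm gf N951 = N6555 := trfs L63974 L31634 rfl
theorem L63983 : N6555 = N1938 := eqes L63982 L9367
theorem L63984 : N6555 = N1770 := eqc rfl L63983 L52359
theorem L63993 : sm gd N1770 = N7983 := trfs L63984 (flp_d L38604) rfl
theorem L63994 : N7983 = N3648 := eqes L63993 (flp_d L17515)
theorem L63995 : N7983 = N3648 := eqc rfl L63994 rfl
theorem L63996 : sm gf N3648 = N1868 := trfs L63995 (flp_f L38602) L60160
theorem L63997 : N1868 = N7615 := eqes L63996 L36580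
theorem L63998 : N7615 = N1868 := (eqc rfl L63997 rfl).symm
theorem L64002 : sm gf N1868 = N3648 := trfs L63998 (flp_f L36580) rfl
theorem L64003 : N3648 = N3889 := eqes L64002 L18695
theorem L64004 : N3889 = N3648 := (eqc rfl L64003 rfl).symm
theorem L64005 : sm gg N1868 = N7567 := trfs L63998 (flp_g L36586) rfl
theorem L64006 : N7567 = N3890 := eqes L64005 L18699
theorem L64007 : N7567 = N3890 := eqc rfl L64006 rfl
theorem L64013 : sm gf N3890 = N1761 := trfs L64007 (flp_f L36349) L52383
theorem L64014 : N1761 = N8145 := eqes L64013 L39402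
theorem L64015 : N8145 = N1761 := (eqc rfl L64014 rfl).symm
theorem L64016 : sm ga N1761 = N8144 := trfs L64015 L39404 rfl
theorem L64017 : N8144 = N3648 := eqes L64016 L17513
theorem L64018 : N8144 = N3648 := eqc rfl L64017 rfl
theorem L64021 : sm gf N1761 = N3890 := trfs L64015 (flp_f L39402) rfl
theorem L64022 : N3890 = N3650 := eqes L64021 L17521
theorem L64023 : N3890 = N3650 := eqc rfl L64022 rfl
theorem L64029 : sm gb N3650 = N7717 := trfs L64023 (flp_b L37085) rfl
theorem L64030 : N7717 = N3695 := eqes L64029 (flp_b L17764)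
theorem L64031 : N7717 = N3695 := eqc rfl L64030 rfl
theorem L64032 : sm gc N3650 = N8142 := trfs L64023 (flp_c L39386) rfl
theorem L64033 : N8142 = N7617 := eqes L64032 (flp_c L36594)
theorem L64034 : N8142 = N7617 := eqc rfl L64033 rfl
theorem L64036 : sm ge N3650 = N8064 := trfs L64023 (flp_e L39038) rfl
theorem L64037 : N8064 = N7606 := eqes L64036 (flp_e L36538)
theorem L64038 : N8064 = N7606 := eqc rfl L64037 rfl
theorem L64041 : sm gg N7606 = N3854 := trfs L64038 (flp_g L39036) rfl
theorem L64043 : sm gg N7617 = N3888 := trfs L64034 (flp_g L39384) rfl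
theorem L64046 : sm gg N3695 = N3696 := trfs L64031 (flp_g L37081) rfl
theorem L64047 : N3696 = N7713 := eqes L64046 L37063
theorem L64048 : N7713 = N3696 := (eqc rfl L64047 rfl).symm
theorem L64053 : sm gg N3696 = N3695 := trfs L64048 (flp_g L37063) rfl
theorem L64059 : sm gg N3648 = N3648 := trfs L64018 (flp_g L39396) L64004
theorem L64060 : N3648 = N7565 := eqes L64059 (flp_g L36341)
theorem L64061 : N7565 = N3648 := (eqc rfl L64060 rfl).symm
theorem L64067 : sm gg N3648 = N3648 := trfs L64061 L36341 rfl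
theorem L64080 : sm ge N3648 = N8063 := trfs L64004 (flp_e L39034) rfl
theorem L64081 : N8063 = N7604 := eqes L64080 (flp_e L36528)
theorem L64082 : N8063 = N7604 := eqc rfl L64081 rfl
theorem L64083 : sm gf N3648 = N1868 := trfs L64004 (flp_f L18695) rfl
theorem L64085 : sm gf N7604 = N3854 := trfs L64082 (flp_f L39032) rfl
theorem L64285 : sm gb N3862 = N3862 := trfs L60091 L34845 rfl
theorem L64286 : sm ge N3862 = N3486 := trfs L60091 L34843 rfl
theorem L64287 : N3486 = N1876 := eqes L64286 L18583
theorem L64288 : N3486 = N1876 := eqc rfl L64287 rfl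
theorem L64290 : sm gb N1876 = N1876 := trfs L64288 L16743 rfl
theorem L64590 : sm gd N894 = N3688 := trfs L58658 (flp_d L38314) L58646
theorem L64591 : N3688 = N1780 := eqes L64590 (flp_d L8633)
theorem L64592 : N3688 = N1780 := eqc rfl L64591 rfl
theorem L64602 : sm gf N1780 = N7697 := trfs L64592 L36995 rfl
theorem L64603 : N7697 = N918 := eqes L64602 L8635
theorem L64604 : N7697 = N918 := eqc rfl L64603 rfl
theorem L64606 : sm gb N918 = N3866 := trfs L64604 L36999 rfl
theorem L64607 : N3866 = N1858 := eqes L64606 L9009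
theorem L64608 : N3866 = N1858 := eqc rfl L64607 rfl
theorem L64609 : sm gd N918 = N3741 := trfs L64604 L36997 rfl
theorem L64610 : N3741 = N475 := eqes L64609 L4587
theorem L64611 : N3741 = N475 := eqc rfl L64610 rfl
theorem L64613 : sm gb N475 = N1914 := trfs L64611 (flp_b L23835) rfl
theorem L64614 : N1914 = N941 := eqes L64613 L4681
theorem L64615 : N1914 = N941 := eqc rfl L64614 rfl
theorem L64622 : sm gc N941 = N941 := trfs L64615 (flp_c L9277) rfl
theorem L64624 : sm ge N941 = N3946 := trfs L64615 (flp_e L18939) rfl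
theorem L64625 : N3946 = N1893 := eqes L64624 (flp_e L9161)
theorem L64626 : N3946 = N1893 := eqc rfl L64625 rfl
theorem L64627 : sm gf N941 = N941 := trfs L64615 (flp_f L23859) rfl
theorem L64652 : sm gc N1893 = N1893 := trfs L64626 (flp_c L18937) rfl
theorem L64653 : sm gd N1893 = N8223 := trfs L64626 (flp_d L39705) rfl
theorem L64654 : N8223 = N3925 := eqes L64653 (flp_d L18839)
theorem L64655 : N8223 = N3925 := eqc rfl L64654 rfl
theorem L64656 : sm gf N1893 = N1893 := trfs L64626 L23855 rfl
theorem L64657 : sm gf N3925 = N3925 := trfs L64655 (flp_f L39703) rfl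
theorem L64662 : sm ge N1858 = N8040 := trfs L64608 (flp_e L38918) rfl
theorem L64663 : N8040 = N3844 := eqes L64662 (flp_e L18485)
theorem L64664 : N8040 = N3844 := eqc rfl L64663 rfl
theorem L64665 : sm gf N1858 = N1858 := trfs L64608 (flp_f L18597) rfl
theorem L64666 : sm gf N3844 = N3844 := trfs L64664 (flp_f L38916) rfl
theorem L64683 : sm gb N1851 = N1851 := trfs L58594 L18305 rfl
theorem L64685 : sm gd N1851 = N7958 := trfs L58594 L38480 rfl
theorem L64686 : N7958 = N3847 := eqes L64685 L18501
theorem L64687 : N7958 = N3847 := eqc rfl L64686 rfl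
theorem L64690 : sm gb N3847 = N3847 := trfs L64687 L38482 rfl
theorem L64718 : sm gb N919 = N919 := trfs L58556 L8911 rfl
theorem L64728 : sm gc N878 = N878 := trfs L58452 (flp_c L8567) rfl
theorem L64752 : sm gb N948 = N957 := trfs L58310 (flp_b L9419) rfl
theorem L64764 : sm gb N3715 = N3715 := trfs L58270 (flp_b L37265) rfl
theorem L64765 : sm gb N894 = N894 := trfs L58250 (flp_b L8751) rfl
theorem L64767 : sm ga N529 = N9806 := trfs L58243 (flp_a L47649) rfl
theorem L64768 : N9806 = N1048 := eqes L64767 (flp_a L5209)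
theorem L64769 : N9806 = N1048 := eqc rfl L64768 rfl
theorem L64772 : sm gf N1048 = N4749 := trfs L64769 (flp_f L47647) rfl
theorem L64773 : N4749 = N559 := eqes L64772 L5211
theorem L64774 : N4749 = N559 := eqc rfl L64773 rfl
theorem L64783 : sm ge N559 = N9673 := trfs L64774 (flp_e L46936) rfl
theorem L64784 : N9673 = N1099 := eqes L64783 (flp_e L5442)
theorem L64785 : N9673 = N1099 := eqc rfl L64784 rfl
theorem L64796 : sm gb N1099 = N4683 := trfs L64785 (flp_b L46934) rfl
theorem L64797 : N4683 = N2252 := eqes L64796 L10877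
theorem L64798 : N4683 = N2252 := eqc rfl L64797 rfl
theorem L64799 : sm ga N2252 = N2252 := trfs L64798 (flp_a L22595) rfl
theorem L64803 : sm gd N2252 = N9674 := trfs L64798 L46940 rfl
theorem L64804 : N9674 = N4684 := eqes L64803 L22600
theorem L64805 : N9674 = N4684 := eqc rfl L64804 rfl
theorem L64808 : sm gg N2252 = N9675 := trfs L64798 L46945 rfl
theorem L64809 : N9675 = N4685 := eqes L64808 L22605
theorem L64810 : N9675 = N4685 := eqc rfl L64809 rfl
theorem L64811 : sm ga N4685 = N4685 := trfs L64810 L46947 rfl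
theorem L64812 : sm ge N4685 = N4751 := trfs L64810 L46949 rfl
theorem L64813 : N4751 = N2287 := eqes L64812 L22607
theorem L64814 : N4751 = N2287 := eqc rfl L64813 rfl
theorem L64815 : sm gf N4685 = N4685 := trfs L64810 (flp_f L46951) rfl
theorem L64822 : sm gd N2287 = N9810 := trfs L64814 (flp_d L47670) rfl
theorem L64823 : N9810 = N4754 := eqes L64822 (flp_d L22978)
theorem L64824 : N9810 = N4754 := eqc rfl L64823 rfl
theorem L64829 : sm gg N4754 = N4750 := trfs L64824 (flp_g L47666) rfl
theorem L64830 : N4750 = N2286 := eqes L64829 (flp_g L22976)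
theorem L64831 : N4750 = N2286 := eqc rfl L64830 rfl
theorem L64838 : sm ge N2286 = N9809 := trfs L64831 L47661 rfl
theorem L64839 : N9809 = N4753 := eqes L64838 L22971
theorem L64840 : N9809 = N4753 := eqc rfl L64839 rfl
theorem L64842 : sm ga N4753 = N4753 := trfs L64840 L47663 rfl
theorem L64844 : sm ga N4684 = N4684 := trfs L64805 L46942 rfl
theorem L64856 : sm gb N1805 = N7816 := trfs L58240 L37584 rfl
theorem L64857 : N7816 = N3743 := eqes L64856 L17986
theorem L64858 : N7816 = N3743 := eqc rfl L64857 rfl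
theorem L64859 : sm gd N1805 = N7817 := trfs L58240 L37591 rfl
theorem L64860 : N7817 = N3744 := eqes L64859 L17989
theorem L64861 : N7817 = N3744 := eqc rfl L64860 rfl
theorem L64865 : sm gf N3744 = N4002 := trfs L64861 L37593 rfl
theorem L64866 : N4002 = N1918 := eqes L64865 L17993
theorem L64867 : N4002 = N1918 := eqc rfl L64866 rfl
theorem L64871 : sm gb N1918 = N1918 := trfs L64867 L19227 rfl
theorem L64876 : sm ge N1918 = N8364 := trfs L64867 L40467 rfl
theorem L64877 : N8364 = N4006 := eqes L64876 L19239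
theorem L64878 : N8364 = N4006 := eqc rfl L64877 rfl
theorem L64880 : sm gb N4006 = N4006 := trfs L64878 L40469 rfl
theorem L64884 : sm gc N3743 = N3743 := trfs L64858 L37586 rfl
theorem L64885 : sm gf N3743 = N3743 := trfs L64858 L37588 rfl
theorem L64892 : sm gb N942 = N942 := trfs L58203 (flp_b L9283) rfl
theorem L64893 : sm gb N3950 = N3950 := trfs L58200 L39939 rfl
theorem L64906 : sm ga N490 = N2379 := trfs L57989 L23918 rfl
theorem L64907 : N2379 = N596 := eqes L64906 (flp_a L3022)
theorem L64908 : N2379 = N596 := eqc rfl L64907 rfl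
theorem L64909 : sm gb N596 = N2434 := trfs L64908 (flp_b L11741) rfl
theorem L64910 : N2434 = N1184 := eqes L64909 (flp_b L5810)
theorem L64911 : N2434 = N1184 := eqc rfl L64910 rfl
theorem L64929 : sm gc N1184 = N1184 := trfs L64911 (flp_c L11739) rfl
theorem L64930 : sm ge N1184 = N5049 := trfs L64911 L24421 rfl
theorem L64931 : N5049 = N2435 := eqes L64930 L11743
theorem L64932 : N5049 = N2435 := eqc rfl L64931 rfl
theorem L64941 : sm gc N2435 = N2435 := trfs L64932 L24425 rfl
theorem L64951 : sm ga N1184 = N1184 := trfs L57956 L11718 rfl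
theorem L64953 : sm gf N1184 = N1184 := trfs L57956 L11722 rfl
theorem L64954 : sm ga N2435 = N2435 := trfs L57947 L24384 rfl
theorem L64955 : sm gf N2435 = N2435 := trfs L57947 L24388 rfl
theorem L64956 : sm gb N2343 = N2343 := trfs L57940 L23467 rfl
theorem L64970 : sm gg N4071 = N1950 := trfs L57890 (flp_g L19515) rfl
theorem L64977 : sm gg N1908 = N3981 := trfs L57882 L19179 rfl
theorem L64979 : sm gb N8336 = N4699 := trfs L57879 L40307 rfl
theorem L64982 : sm gg N8336 = N3982 := trfs L57879 (flp_g L40301) rfl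
theorem L64984 : sm gg N959 = N959 := trfs L57872 (flp_g L9437) rfl
theorem L64985 : sm gg N3988 = N3988 := trfs L57869 (flp_g L40377) rfl
theorem L64988 : sm gg N940 = N940 := trfs L57866 (flp_g L9269) rfl
theorem L64990 : sm gg N3986 = N3986 := trfs L57860 (flp_g L40355) rfl
theorem L65045 : sm gb N582 = N582 := trfs L57736 L5703 rfl
theorem L65048 : sm gb N295 = N295 := trfs L57724 (flp_b L2965) rfl
theorem L65176 : sm gc N148 = N100 := trfs L57469 (flp_c L1073) rfl
theorem L65182 : sm gc N54 = N56 := trfs L57446 L539 rfl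
theorem L65195 : sm gc N45 = N25 := trfs L57433 L237 rfl
theorem L65199 : sm gc N24 = N44 := trfs L57427 L465 rfl
theorem L65203 : sm gc N21 = N11 := trfs L57420 (flp_c L116) rfl
theorem L65204 : N11 = N7001 := eqes L65203 L63738
theorem L65205 : N7001 = N11 := (eqc rfl L65204 rfl).symm
theorem L65207 : sm gc N11 = N21 := trfs L65205 (flp_c L63738) rfl
theorem L65273 : sm gf N963 = N985 := trfs L57233 L8375 rfl
theorem L65274 : N985 = N576 := eqes L65273 L4777
theorem L65275 : N985 = N576 := eqc rfl L65274 rfl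
theorem L65281 : sm gg N576 = N602 := trfs L65275 L4912 rfl
theorem L65282 : N602 = N964 := eqes L65281 (flp_g L4785)
theorem L65283 : N964 = N602 := (eqc rfl L65282 rfl).symm
theorem L65292 : sm gg N602 = N576 := trfs L65283 L4785 rfl
theorem L65298 : sm gc N122 = N125 := trfs L57222 L1153 rfl
theorem L65308 : sm gc N69 = N55 := trfs L57206 (flp_c L609) rfl
theorem L65315 : sm ga N308 = N245 := trfs L57193 (flp_a L2468) rfl
theorem L65321 : sm gg N308 = N291 := trfs L57193 L2473 rfl
theorem L65323 : sm ga N70 = N55 := trfs L57190 (flp_a L604) rfl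
theorem L65328 : sm gg N70 = N69 := trfs L57190 L607 rfl
theorem L65332 : sm gf N579 = N308 := trfs L57179 (flp_f L3066) rfl
theorem L65334 : sm ga N154 = N125 := trfs L57176 L777 rfl
theorem L65336 : sm gb N154 = N89 := trfs L57176 (flp_b L940) rfl
theorem L65338 : sm gd N154 = N303 := trfs L57176 (flp_d L1546) rfl
theorem L65341 : sm gg N154 = N71 := trfs L57176 (flp_g L775) rfl
theorem L65353 : sm ga N119 = N153 := trfs L57129 L1568 rfl
theorem L65358 : sm ga N307 = N251 := trfs L57123 L2520 rfl
theorem L65362 : sm gf N307 = N594 := trfs L57123 L3015 rfl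
theorem L65381 : sm gc N592 = N976 := trfs L57083 L9571 rfl
theorem L65388 : sm gg N300 = N307 := trfs L57075 L2560 rfl
theorem L65398 : sm gc N301 = N494 := trfs L57068 (flp_c L4838) rfl
theorem L65406 : sm gf N1196 = N2420 := trfs L57059 L11670 rfl
theorem L65408 : sm gg N1196 = N1173 := trfs L57059 L9557 rfl
theorem L65424 : sm ge N4900 = N4170 := trfs L57044 L42019 rfl
theorem L65425 : N4170 = N2359 := eqes L65424 (flp_e L23701)
theorem L65426 : N4170 = N2359 := eqc rfl L65425 rfl
theorem L65427 : sm gg N4900 = N5103 := trfs L57044 L42021 rfl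
theorem L65428 : N5103 = N8544 := eqes L65427 (flp_g L41400)
theorem L65429 : N8544 = N5103 := (eqc rfl L65428 rfl).symm
theorem L65433 : sm ge N5103 = N4104 := trfs L65429 (flp_e L41394) rfl
theorem L65434 : N4104 = N2464 := eqes L65433 L24694
theorem L65435 : N4104 = N2464 := eqc rfl L65434 rfl
theorem L65436 : sm gg N5103 = N4900 := trfs L65429 L41400 rfl
theorem L65440 : sm gb N2464 = N8543 := trfs L65435 L41390 rfl
theorem L65441 : N8543 = N5109 := eqes L65440 L24720
theorem L65442 : N8543 = N5109 := eqc rfl L65441 rfl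
theorem L65450 : sm gd N5109 = N4106 := trfs L65442 L41392 rfl
theorem L65461 : sm gg N2359 = N2464 := trfs L65426 L20000 rfl
theorem L65474 : sm gc N1975 = N2420 := trfs L57035 L17253 rfl
theorem L65477 : sm gc N1984 = N1177 := trfs L57027 L11652 rfl
theorem L65480 : sm ga N975 = N1196 := trfs L57019 (flp_a L5867) rfl
theorem L65482 : sm gc N975 = N591 := trfs L57019 L5769 rfl
theorem L65484 : sm ga N4107 = N5103 := trfs L57016 (flp_a L24692) rfl
theorem L65488 : sm ga N2461 = N1967 := trfs L57010 L19672 rfl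
theorem L65494 : sm gg N2461 = N2360 := trfs L57010 L19674 rfl
theorem L65496 : sm ga N487 = N602 := trfs L57003 L5843 rfl
theorem L65499 : sm ga N1966 = N2464 := trfs L57000 L24526 rfl
theorem L65501 : sm gd N1966 = N2464 := trfs L57000 L24530 rfl
theorem L65510 : sm gf N4910 = N2461 := trfs L56959 (flp_f L24696) rfl
theorem L65512 : sm gf N4908 = N2464 := trfs L56955 (flp_f L24722) rfl
theorem L65514 : sm gf N1153 = N602 := trfs L56937 (flp_f L5881) rfl
theorem L65520 : sm gb N5029 = N4037 := trfs L56878 L24714 rfl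
theorem L65522 : sm gc N1179 = N971 := trfs L56875 L5875 rfl
theorem L65540 : sm ga N601 = N494 := trfs L56832 L4834 rfl
theorem L65542 : sm gf N601 = N1179 := trfs L56832 L5791 rfl
theorem L65544 : sm gg N601 = N589 := trfs L56832 L4836 rfl
theorem L65554 : sm gb N1172 = N1195 := trfs L56806 L9645 rfl
theorem L65566 : sm ga N2446 = N8444 := trfs L56770 (flp_a L40891) rfl
theorem L65567 : N8444 = N5067 := eqes L65566 L24532
theorem L65568 : N8444 = N5067 := eqc rfl L65567 rfl
theorem L65592 : sm gb N5067 = N3341 := trfs L65568 (flp_b L40887) L52551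
theorem L65594 : N5067 = N5980 := eqes (flp_b L65592) (flp_b L59450)
theorem L65595 : N5980 = N5067 := (eqc rfl L65594 rfl).symm
theorem L65596 : sm gc N5067 = N5879 := trfs L65568 (flp_c L40893) rfl
theorem L65601 : sm gb N5067 = N3341 := trfs L65595 L59450 rfl
theorem L65603 : sm gc N5067 = N3344 := trfs L65595 L59452 rfl
theorem L65604 : N3344 = N5879 := eqes L65603 L65596
theorem L65605 : N5879 = N3344 := (eqc rfl L65604 rfl).symm
theorem L65606 : sm gg N5067 = N2894 := trfs L65595 (flp_g L28967) rfl
theorem L65611 : sm gc N3344 = N5067 := trfs L65605 (flp_c L65596) rfl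
theorem L65613 : sm gg N3344 = N2842 := trfs L65605 (flp_g L28519) rfl
theorem L65614 : N2842 = N6951 := eqes L65613 L33510
theorem L65615 : N6951 = N2842 := (eqc rfl L65614 rfl).symm
theorem L65616 : sm gg N2842 = N3344 := trfs L65615 (flp_g L33510) rfl
theorem L65637 : sm gb N1194 = N2430 := trfs L56732 (flp_b L11714) rfl
theorem L65640 : sm gb N4920 = N2456 := trfs L56728 (flp_b L24653) rfl
theorem L65645 : sm ga N1198 = N965 := trfs L56707 L9480 rfl
theorem L65647 : sm gf N1198 = N2366 := trfs L56707 L11434 rfl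
theorem L65654 : sm gg N1148 = N1198 := trfs L56679 L9657 rfl
theorem L65658 : sm gb N2358 = N2457 := trfs L56651 L19978 rfl
theorem L65836 : sm gc N3830 = N6807 := trfs L56077 L38406 rfl
theorem L65839 : sm gc N3281 = N1843 := trfs L56062 (flp_c L16619) rfl
theorem L65843 : sm ge N6705 = N3430 := trfs L56050 L34227 rfl
theorem L65844 : N3430 = N3248 := eqes L65843 L32316
theorem L65845 : N3430 = N3248 := eqc rfl L65844 rfl
theorem L65851 : sm gd N3248 = N7142 := trfs L65845 L34395 rfl
theorem L65852 : N7142 = N6738 := eqes L65851 L32488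
theorem L65853 : N7142 = N6738 := eqc rfl L65852 rfl
theorem L65859 : sm gb N6738 = N3431 := trfs L65853 L34397 rfl
theorem L65860 : N3431 = N3249 := eqes L65859 L32490
theorem L65861 : N3431 = N3249 := eqc rfl L65860 rfl
theorem L65870 : sm gf N3249 = N7146 := trfs L65861 L34409 rfl
theorem L65871 : N7146 = N6660 := eqes L65870 (flp_f L55000)
theorem L65872 : N7146 = N6660 := eqc rfl L65871 rfl
theorem L65877 : sm gd N6660 = N3432 := trfs L65872 L34411 rfl
theorem L65878 : N3432 = N3212 := eqes L65877 (flp_d L32116)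
theorem L65879 : N3432 = N3212 := eqc rfl L65878 rfl
theorem L65887 : sm ge N3212 = N3233 := trfs L65879 (flp_e L34237) L54829
theorem L65888 : N3233 = N6648 := eqes L65887 (flp_e L32068)
theorem L65889 : N6648 = N3233 := (eqc rfl L65888 rfl).symm
theorem L65905 : sm ga N3233 = N3233 := trfs L65889 L32066 rfl
theorem L65907 : sm ge N3233 = N3212 := trfs L65889 L32068 rfl
theorem L65908 : N3212 = N1577 := eqes L65907 L15563
theorem L65909 : N3212 = N1577 := eqc rfl L65908 rfl
theorem L65910 : sm gf N3233 = N3233 := trfs L65889 L54998 rfl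
theorem L65911 : sm ga N1577 = N1577 := trfs L65909 L15483 rfl
theorem L65916 : sm gd N1577 = N6660 := trfs L65909 L32116 rfl
theorem L65917 : N6660 = N3249 := eqes L65916 L15643
theorem L65918 : N6660 = N3249 := eqc rfl L65917 rfl
theorem L65919 : sm gf N1577 = N1577 := trfs L65909 L54986 rfl
theorem L65921 : sm ga N3249 = N3249 := trfs L65918 L32118 rfl
theorem L65922 : sm gc N3249 = N3249 := trfs L65918 (flp_c L32120) rfl
theorem L65923 : sm gf N3249 = N3249 := trfs L65918 L55000 rfl
theorem L66049 : sm gb N1759 = N7560 := trfs L55677 L36307 rfl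
theorem L66050 : N7560 = N3644 := eqes L66049 L17497
theorem L66051 : N7560 = N3644 := eqc rfl L66050 rfl
theorem L66056 : sm gg N3644 = N3644 := trfs L66051 L36311 rfl
theorem L66058 : sm gb N872 = N872 := trfs L55665 L8465 rfl
theorem L66078 : sm gb N875 = N875 := trfs L55575 L8483 rfl
theorem L66087 : sm ga N1920 = N1943 := trfs L55426 (flp_a L19453) rfl
theorem L66120 : sm gb N1919 = N2874 := trfs L59520 (flp_b L28769) rfl
theorem L66123 : sm ga N3844 = N3844 := trfs L55277 (flp_a L38908) rfl
theorem L66149 : sm ga N3925 = N3925 := trfs L55228 (flp_a L39697) rfl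
theorem L66249 : sm ga N941 = N941 := trfs L55205 (flp_a L9275) rfl
theorem L66278 : sm ge N1935 = N7807 := trfs L55160 (flp_e L37528) rfl
theorem L66279 : N7807 = N3967 := eqes L66278 (flp_e L19053)
theorem L66280 : N7807 = N3967 := eqc rfl L66279 rfl
theorem L66281 : sm gg N1935 = N6927 := trfs L55160 L33413 rfl
theorem L66282 : N6927 = N950 := eqes L66281 (flp_g L9357)
theorem L66283 : N6927 = N950 := eqc rfl L66282 rfl
theorem L66284 : sm gb N950 = N6779 := trfs L66283 L33411 rfl
theorem L66285 : N6779 = N809 := eqes L66284 L4719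
theorem L66286 : N6779 = N809 := eqc rfl L66285 rfl
theorem L66289 : sm gf N809 = N3268 := trfs L66286 (flp_f L32692) rfl
theorem L66290 : N3268 = N411 := eqes L66289 (flp_f L4053)
theorem L66291 : N3268 = N411 := eqc rfl L66290 rfl
theorem L66310 : sm gg N411 = N1587 := trfs L66291 L15749 rfl
theorem L66311 : N1587 = N792 := eqes L66310 (flp_g L3978)
theorem L66312 : N1587 = N792 := eqc rfl L66311 rfl
theorem L66315 : sm gc N792 = N3270 := trfs L66312 L15753 rfl
theorem L66316 : N3270 = N1589 := eqes L66315 L7740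
theorem L66317 : N3270 = N1589 := eqc rfl L66316 rfl
theorem L66345 : sm ga N1589 = N6781 := trfs L66317 (flp_a L32698) rfl
theorem L66346 : N6781 = N3273 := eqes L66345 (flp_a L15764)
theorem L66347 : N6781 = N3273 := eqc rfl L66346 rfl
theorem L66363 : sm gb N3273 = N2845 := trfs L66347 L32712 L48295
theorem L66364 : N2845 = N6788 := eqes L66363 L32747
theorem L66365 : N6788 = N2845 := (eqc rfl L66364 rfl).symm
theorem L66367 : sm gb N2845 = N3273 := trfs L66365 (flp_b L32747) rfl
theorem L66368 : N3273 = N5885 := eqes L66367 L28546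
theorem L66369 : N5885 = N3273 := (eqc rfl L66368 rfl).symm
theorem L66375 : sm gb N3273 = N2845 := trfs L66369 (flp_b L28546) rfl
theorem L66383 : sm gb N3967 = N3736 := trfs L66280 (flp_b L37526) rfl
theorem L66384 : N3736 = N8312 := eqes L66383 L40143
theorem L66385 : N8312 = N3736 := (eqc rfl L66384 rfl).symm
theorem L66387 : sm gb N3736 = N3967 := trfs L66385 (flp_b L40143) rfl
theorem L66468 : sm ga N401 = N401 := trfs L55024 L3926 rfl
theorem L66546 : sm ga N1570 = N1570 := trfs L54824 L15457 rfl
theorem L66607 : sm gf N400 = N400 := trfs L54691 (flp_f L3945) rfl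
theorem L66611 : sm gb N783 = N783 := trfs L54683 L4111 rfl
theorem L66615 : sm gc N406 = N406 := trfs L54656 L2159 rfl
theorem L66619 : sm gc N465 = N465 := trfs L54644 L4195 rfl
theorem L66623 : sm gc N234 = N234 := trfs L54631 L2346 rfl
theorem L66629 : sm gc N795 = N795 := trfs L54624 L4165 rfl
theorem L66634 : sm gc N233 = N233 := trfs L54605 L2340 rfl
theorem L66638 : sm gc N463 = N463 := trfs L54591 L4535 rfl
theorem L66642 : sm gc N917 = N917 := trfs L54577 L8144 rfl
theorem L66679 : sm gc N111 = N111 := trfs L54451 (flp_c L1186) rfl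
theorem L66683 : sm gc N235 = N235 := trfs L54435 L2354 rfl
theorem L66689 : sm gc N467 = N467 := trfs L54417 L4181 rfl
theorem L66699 : sm gc N405 = N405 := trfs L54396 L2153 rfl
theorem L67061 : sm ga N400 = N400 := trfs L53400 L3922 rfl
theorem L67064 : sm ga N784 = N784 := trfs L53385 L7595 rfl
theorem L67069 : sm gb N405 = N405 := trfs L53376 (flp_b L4005) rfl
theorem L67089 : sm gg N1857 = N1857 := trfs L53353 (flp_g L18585) rfl
theorem L67093 : sm gg N3843 = N3843 := trfs L53343 (flp_g L38900) rfl
theorem L67095 : sm gc N1892 = N8265 := trfs L53332 (flp_c L39883) rfl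
theorem L67096 : N8265 = N3943 := eqes L67095 L18925
theorem L67097 : N8265 = N3943 := eqc rfl L67096 rfl
theorem L67098 : sm gg N1892 = N1892 := trfs L53332 (flp_g L18927) rfl
theorem L67099 : sm gg N3943 = N3943 := trfs L67097 (flp_g L39881) rfl
theorem L67100 : sm gb N1593 = N1593 := trfs L53325 (flp_b L15816) rfl
theorem L67109 : sm gb N1604 = N6865 := trfs L53321 (flp_b L33114) rfl
theorem L67110 : N6865 = N3307 := eqes L67109 L15924
theorem L67111 : N6865 = N3307 := eqc rfl L67110 rfl
theorem L67117 : sm gc N3307 = N3307 := trfs L67111 (flp_c L33112) rfl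
theorem L67123 : sm ga N787 = N787 := trfs L53304 L7611 rfl
theorem L67196 : sm gb N205 = N205 := trfs L53160 (flp_b L2097) rfl
theorem L67218 : sm gb N408 = N408 := trfs L53122 (flp_b L4031) rfl
theorem L67222 : sm gc N412 = N412 := trfs L53119 (flp_c L4055) rfl
theorem L67252 : sm gf N787 = N787 := trfs L54899 (flp_f L7687) rfl
theorem L67255 : sm gf N1570 = N1570 := trfs L54835 (flp_f L15565) rfl
theorem L67269 : sm gf N783 = N783 := trfs L62727 (flp_f L7637) rfl
theorem L67283 : sm gf N784 = N784 := trfs L54761 (flp_f L7651) rfl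
theorem L67359 : sm ga N3298 = N3695 := trfs L52554 L37051 rfl
theorem L67386 : sm gf N1808 = N3343 := trfs L52540 (flp_f L33495) rfl
theorem L67392 : sm gf N2864 = N3750 := trfs L59460 (flp_f L37695) rfl
theorem L67399 : sm gf N3341 = N3753 := trfs L52590 (flp_f L37721) rfl
theorem L67407 : sm gf N7705 = N3696 := trfs L52496 (flp_f L37077) rfl
theorem L67409 : sm gf N7835 = N3759 := trfs L52493 (flp_f L37783) rfl
theorem L67428 : sm gc N3972 = N3730 := trfs L52462 L37432 rfl
theorem L67430 : sm gf N3972 = N3729 := trfs L52462 (flp_f L37430) rfl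
theorem L67432 : sm gg N3655 = N3655 := trfs L52397 L36387 rfl
theorem L67436 : sm gg N1761 = N1761 := trfs L52383 L17407 rfl
theorem L67453 : sm ga N3661 = N1903 := trfs L52349 (flp_a L19057) rfl
theorem L67455 : sm gd N3661 = N8244 := trfs L52349 (flp_d L39797) rfl
theorem L67456 : N8244 = N7629 := eqes L67455 (flp_d L36632)
theorem L67457 : N8244 = N7629 := eqc rfl L67456 rfl
theorem L67458 : sm ga N7629 = N3935 := trfs L67457 (flp_a L39795) rfl
theorem L67460 : sm ga N3650 = N1868 := trfs L52346 (flp_a L18689) rfl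
theorem L67465 : sm ge N3650 = N8061 := trfs L52346 (flp_e L39026) rfl
theorem L67466 : N8061 = N7606 := eqes L67465 (flp_e L36538)
theorem L67467 : N8061 = N7606 := eqc rfl L67466 rfl
theorem L67468 : sm ga N7606 = N3854 := trfs L67467 (flp_a L39024) rfl
theorem L67475 : sm ga N1811 = N1620 := trfs L52340 (flp_a L16074) rfl
theorem L67477 : sm ga N951 = N1772 := trfs L52337 L17617 rfl
theorem L67481 : sm gf N951 = N1770 := trfs L52337 (flp_f L17615) rfl
theorem L67488 : sm gg N1903 = N3661 := trfs L52328 (flp_g L36696) rfl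
theorem L67490 : sm gg N1868 = N3650 := trfs L52325 (flp_g L36596) rfl
theorem L67492 : sm gc N1772 = N951 := trfs L52356 (flp_c L9365) rfl
theorem L67495 : sm gg N1772 = N951 := trfs L52356 (flp_g L20341) rfl
theorem L67501 : sm gg N956 = N1949 := trfs L52288 L9447 rfl
theorem L67505 : sm ga N4490 = N2934 := trfs L52079 (flp_a L29386) rfl
theorem L67507 : sm gb N4490 = N4502 := trfs L52079 (flp_b L29390) rfl
theorem L67508 : N4502 = N2162 := eqes L67507 L21648
theorem L67509 : N4502 = N2162 := eqc rfl L67508 rfl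
theorem L67522 : sm gf N2162 = N2167 := trfs L67509 (flp_f L21690) rfl
theorem L67523 : N2167 = N1061 := eqes L67522 L10425
theorem L67524 : N2167 = N1061 := eqc rfl L67523 rfl
theorem L67527 : sm ga N1061 = N2829 := trfs L67524 (flp_a L13674) rfl
theorem L67528 : N2829 = N2165 := eqes L67527 (flp_a L10445)
theorem L67529 : N2829 = N2165 := eqc rfl L67528 rfl
theorem L67535 : sm ge N1061 = N4449 := trfs L67524 (flp_e L21464) rfl
theorem L67536 : N4449 = N2134 := eqes L67535 (flp_e L10301)
theorem L67537 : N4449 = N2134 := eqc rfl L67536 rfl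
theorem L67538 : sm gg N1061 = N1061 := trfs L67524 (flp_g L10449) rfl
theorem L67545 : sm gc N2134 = N2135 := trfs L67537 L21462 rfl
theorem L67546 : N2135 = N1046 := eqes L67545 (flp_c L10299)
theorem L67547 : N2135 = N1046 := eqc rfl L67546 rfl
theorem L67548 : sm gd N2134 = N9196 := trfs L67537 (flp_d L44661) rfl
theorem L67549 : N9196 = N4448 := eqes L67548 L21458
theorem L67550 : N9196 = N4448 := eqc rfl L67549 rfl
theorem L67552 : sm gg N2134 = N2134 := trfs L67537 (flp_g L21460) rfl
theorem L67553 : sm gg N4448 = N4448 := trfs L67550 (flp_g L44659) rfl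
theorem L67556 : sm gd N1046 = N4418 := trfs L67547 (flp_d L21287) rfl
theorem L67557 : N4418 = N2119 := eqes L67556 (flp_d L10221)
theorem L67558 : N4418 = N2119 := eqc rfl L67557 rfl
theorem L67561 : sm gg N1046 = N1046 := trfs L67547 (flp_g L10303) rfl
theorem L67562 : sm ga N2119 = N5607 := trfs L67558 L27101 rfl
theorem L67563 : N5607 = N4416 := eqes L67562 L21279
theorem L67564 : N5607 = N4416 := eqc rfl L67563 rfl
theorem L67566 : sm gc N2119 = N9145 := trfs L67558 (flp_c L44385) rfl
theorem L67567 : N9145 = N4417 := eqes L67566 L21283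
theorem L67568 : N9145 = N4417 := eqc rfl L67567 rfl
theorem L67573 : sm gg N2119 = N2119 := trfs L67558 (flp_g L21285) rfl
theorem L67586 : sm gg N4417 = N4417 := trfs L67568 (flp_g L44383) rfl
theorem L67590 : sm gg N4416 = N4416 := trfs L67564 (flp_g L27103) rfl
theorem L67630 : sm gb N2165 = N5849 := trfs L67529 (flp_b L28381) rfl
theorem L67631 : N5849 = N4496 := eqes L67630 L21672
theorem L67632 : N5849 = N4496 := eqc rfl L67631 rfl
theorem L67636 : sm ga N4496 = N5841 := trfs L67632 L28387 rfl
theorem L67637 : N5841 = N9287 := eqes L67636 L45052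
theorem L67638 : N9287 = N5841 := (eqc rfl L67637 rfl).symm
theorem L67639 : sm gc N4496 = N2828 := trfs L67632 (flp_c L28379) rfl
theorem L67640 : N2828 = N9285 := eqes L67639 (flp_c L45046)
theorem L67641 : N9285 = N2828 := (eqc rfl L67640 rfl).symm
theorem L67642 : sm gf N4496 = N5848 := trfs L67632 (flp_f L28383) rfl
theorem L67643 : N5848 = N9289 := eqes L67642 L45058
theorem L67644 : N9289 = N5848 := (eqc rfl L67643 rfl).symm
theorem L67645 : sm gf N5848 = N4496 := trfs L67644 (flp_f L45058) rfl
theorem L67648 : sm gc N2828 = N4496 := trfs L67641 L45046 rfl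
theorem L67650 : sm ga N5841 = N4496 := trfs L67638 (flp_a L45052) rfl
theorem L67681 : sm gd N2969 = N9274 := trfs L52076 (flp_d L45000) rfl
theorem L67682 : N9274 = N6133 := eqes L67681 (flp_d L29652)
theorem L67683 : N9274 = N6133 := eqc rfl L67682 rfl
theorem L67684 : sm ge N2969 = N9185 := trfs L52076 (flp_e L44605) rfl
theorem L67685 : N9185 = N6031 := eqes L67684 (flp_e L29243)
theorem L67686 : N9185 = N6031 := eqc rfl L67685 rfl
theorem L67689 : sm ga N6031 = N4442 := trfs L67686 (flp_a L44603) rfl
theorem L67691 : sm ga N6133 = N4488 := trfs L67683 (flp_a L44998) rfl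
theorem L67718 : sm gb N1130 = N9225 := trfs L51902 L44797 rfl
theorem L67719 : N9225 = N2321 := eqes L67718 L11222
theorem L67720 : N9225 = N2321 := eqc rfl L67719 rfl
theorem L67727 : sm gc N2321 = N4466 := trfs L67720 L44799 rfl
theorem L67728 : N4466 = N4817 := eqes L67727 L23273
theorem L67729 : N4817 = N4466 := (eqc rfl L67728 rfl).symm
theorem L67731 : sm gc N4466 = N2321 := trfs L67729 (flp_c L23273) rfl
theorem L67733 : sm ge N4466 = N9746 := trfs L67729 (flp_e L47350) rfl
theorem L67734 : N9746 = N9162 := eqes L67733 (flp_e L44484)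
theorem L67735 : N9746 = N9162 := eqc rfl L67734 rfl
theorem L67736 : sm gb N9162 = N4722 := trfs L67735 L47352 rfl
theorem L67737 : N4722 = N4430 := eqes L67736 (flp_b L44482)
theorem L67738 : N4722 = N4430 := eqc rfl L67737 rfl
theorem L67747 : sm gf N4430 = N9728 := trfs L67738 (flp_f L47248) rfl
theorem L67748 : N9728 = N5757 := eqes L67747 (flp_f L27934)
theorem L67749 : N9728 = N5757 := eqc rfl L67748 rfl
theorem L67755 : sm gg N5757 = N5688 := trfs L67749 L47250 rfl
theorem L67756 : N5688 = N9160 := eqes L67755 (flp_g L44474)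
theorem L67757 : N9160 = N5688 := (eqc rfl L67756 rfl).symm
theorem L67761 : sm gf N5688 = N4427 := trfs L67757 (flp_f L44468) rfl
theorem L67763 : sm gg N5688 = N5757 := trfs L67757 L44474 rfl
theorem L67803 : sm gd N2782 = N9714 := trfs L51618 L47168 rfl
theorem L67804 : N9714 = N5764 := eqes L67803 (flp_d L27970)
theorem L67805 : N9714 = N5764 := eqc rfl L67804 rfl
theorem L67806 : sm ga N5764 = N4707 := trfs L67805 L47170 rfl
theorem L67807 : N4707 = N5741 := eqes L67806 L27968
theorem L67808 : N5741 = N4707 := (eqc rfl L67807 rfl).symm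
theorem L67809 : sm ga N4707 = N5764 := trfs L67808 (flp_a L27968) rfl
theorem L67815 : sm gg N4707 = N2768 := trfs L67808 (flp_g L27841) rfl
theorem L67816 : N2768 = N9723 := eqes L67815 L47212
theorem L67817 : N9723 = N2768 := (eqc rfl L67816 rfl).symm
theorem L67819 : sm gg N2768 = N4707 := trfs L67817 (flp_g L47212) rfl
theorem L67829 : sm gc N2894 = N2842 := trfs L51612 L23129 rfl
theorem L67831 : sm ga N1125 = N1404 := trfs L51609 (flp_a L6830) rfl
theorem L67872 : sm gg N691 = N1125 := trfs L51357 (flp_g L11170) rfl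
theorem L67970 : sm gg N564 = N348 := trfs L51331 (flp_g L3473) rfl
theorem L67972 : sm ga N2263 = N2782 := trfs L51327 (flp_a L13448) rfl
theorem L67976 : sm gg N2263 = N1338 := trfs L51327 (flp_g L13374) rfl
theorem L68000 : sm gf N2770 = N2255 := trfs L51284 (flp_f L13398) rfl
theorem L68002 : sm gg N2770 = N1340 := trfs L51284 (flp_g L13394) rfl
theorem L68004 : sm gg N1393 = N2870 := trfs L51275 (flp_g L28731) rfl
theorem L68021 : sm ga N5473 = N4579 := trfs L51249 L46000 rfl
theorem L68022 : N4579 = N9448 := eqes L68021 (flp_a L45927)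
theorem L68023 : N9448 = N4579 := (eqc rfl L68022 rfl).symm
theorem L68028 : sm gf N4579 = N5469 := trfs L68023 L45929 rfl
theorem L68029 : N5469 = N5474 := eqes L68028 L26570
theorem L68030 : N5474 = N5469 := (eqc rfl L68029 rfl).symm
theorem L68033 : sm gf N5469 = N4579 := trfs L68030 (flp_f L26570) rfl
theorem L68035 : sm gg N5469 = N2637 := trfs L68030 (flp_g L26566) rfl
theorem L68048 : sm gd N2736 = N8876 := trfs L51184 (flp_d L43048) rfl
theorem L68049 : N8876 = N5596 := eqes L68048 (flp_d L27051)
theorem L68050 : N8876 = N5596 := eqc rfl L68049 rfl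
theorem L68061 : sm gf N5596 = N8781 := trfs L68050 (flp_f L43050) rfl
theorem L68093 : sm gg N6764 = N4283 := trfs L51134 L42596 rfl
theorem L68100 : sm gg N6729 = N4298 := trfs L51131 L42636 rfl
theorem L68125 : sm gc N3894 = N8912 := trfs L51096 (flp_c L43256) rfl
theorem L68126 : N8912 = N8154 := eqes L68125 L39440
theorem L68127 : N8912 = N8154 := eqc rfl L68126 rfl
theorem L68135 : sm gf N8154 = N4300 := trfs L68127 (flp_f L43254) rfl
theorem L68141 : sm gb N2064 = N1394 := trfs L51077 L13846 rfl
theorem L68146 : sm gf N1014 = N1943 := trfs L51068 L19409 rfl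
theorem L68162 : sm gc N502 = N4201 := trfs L51029 (flp_c L42359) rfl
theorem L68163 : N4201 = N990 := eqes L68162 L4932
theorem L68164 : N4201 = N990 := eqc rfl L68163 rfl
theorem L68170 : sm gd N990 = N8730 := trfs L68164 (flp_d L42309) rfl
theorem L68171 : N8730 = N2010 := eqes L68170 L9703
theorem L68172 : N8730 = N2010 := eqc rfl L68171 rfl
theorem L68179 : sm gb N2010 = N4196 := trfs L68172 (flp_b L42307) rfl
theorem L68180 : N4196 = N2010 := eqes L68179 L9706
theorem L68181 : N4196 = N2010 := eqc rfl L68180 rfl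
theorem L68191 : sm gf N2010 = N2010 := trfs L68181 (flp_f L20108) rfl
theorem L68267 : sm gg N4370 = N4370 := trfs L50941 L26231 rfl
theorem L68271 : sm gg N1030 = N1030 := trfs L50936 (flp_g L10131) rfl
theorem L68333 : sm gc N2589 = N8842 := trfs L50888 (flp_c L42890) rfl
theorem L68334 : N8842 = N5378 := eqes L68333 L26135
theorem L68335 : N8842 = N5378 := eqc rfl L68334 rfl
theorem L68343 : sm gf N5378 = N8764 := trfs L68335 (flp_f L42892) rfl
theorem L68345 : sm gg N5378 = N4259 := trfs L68335 (flp_g L42886) rfl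
theorem L68431 : sm gb N1261 = N2097 := trfs L50854 (flp_b L21064) rfl
theorem L68435 : sm gb N1060 = N681 := trfs L50848 (flp_b L6693) rfl
theorem L68439 : sm gg N1060 = N1060 := trfs L50848 (flp_g L10431) rfl
theorem L68444 : sm gb N2133 = N1328 := trfs L50834 (flp_b L13245) rfl
theorem L68447 : sm gg N2133 = N2133 := trfs L50834 (flp_g L13251) rfl
theorem L68458 : sm gb N342 = N341 := trfs L50811 (flp_b L3413) rfl
theorem L68459 : N341 = N171 := eqes L68458 (flp_b L1743)
theorem L68460 : N341 = N171 := eqc rfl L68459 rfl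
theorem L68462 : sm ga N171 = N171 := trfs L68460 L1738 rfl
theorem L68466 : sm gf N171 = N171 := trfs L68460 (flp_f L1741) rfl
theorem L68467 : sm gg N171 = N170 := trfs L68460 (flp_g L1736) rfl
theorem L68468 : N170 = N78 := eqes L68467 (flp_g L865)
theorem L68469 : N170 = N78 := eqc rfl L68468 rfl
theorem L68470 : sm ga N78 = N78 := trfs L68469 (flp_a L861) rfl
theorem L68474 : sm ge N78 = N334 := trfs L68469 (flp_e L1707) rfl
theorem L68475 : N334 = N166 := eqes L68474 (flp_e L833)
theorem L68476 : N334 = N166 := eqc rfl L68475 rfl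
theorem L68478 : sm ga N166 = N166 := trfs L68476 (flp_a L1704) rfl
theorem L68481 : sm gd N166 = N651 := trfs L68476 (flp_d L3303) rfl
theorem L68482 : N651 = N330 := eqes L68481 (flp_d L1682)
theorem L68483 : N651 = N330 := eqc rfl L68482 rfl
theorem L68486 : sm ga N330 = N330 := trfs L68483 (flp_a L3301) rfl
theorem L68503 : sm ga N335 = N335 := trfs L50802 L3339 rfl
theorem L68506 : sm gf N335 = N335 := trfs L50802 (flp_f L3344) rfl
theorem L68519 : sm ga N653 = N653 := trfs L50673 L6385 rfl
theorem L68521 : sm gf N653 = N653 := trfs L50673 (flp_f L6389) rfl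
theorem L68522 : sm ga N1221 = N1221 := trfs L50662 L12106 rfl
theorem L68523 : sm gf N1221 = N1221 := trfs L50662 (flp_f L12112) rfl
theorem L68525 : sm ga N652 = N652 := trfs L50654 L6380 rfl
theorem L68527 : sm ga N614 = N614 := trfs L50651 (flp_a L5994) rfl
theorem L68532 : sm ga N1070 = N1019 := trfs L50606 L25438 L50253
theorem L68533 : N1019 = N2184 := eqes L68532 (flp_a L10545)
theorem L68534 : N2184 = N1019 := (eqc rfl L68533 rfl).symm
theorem L68566 : sm gf N1019 = N4325 := trfs L68534 (flp_f L20845) rfl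
theorem L68567 : N4325 = N539 := eqes L68566 L5063
theorem L68568 : N4325 = N539 := eqc rfl L68567 rfl
theorem L68571 : sm gb N539 = N8961 := trfs L68568 L43537 rfl
theorem L68572 : N8961 = N273 := eqes L68571 (flp_b L2751)
theorem L68573 : N8961 = N273 := eqc rfl L68572 rfl
theorem L68578 : sm ge N273 = N4343 := trfs L68573 L43539 rfl
theorem L68579 : N4343 = N133 := eqes L68578 L1408
theorem L68580 : N4343 = N133 := eqc rfl L68579 rfl
theorem L68589 : sm gf N133 = N8998 := trfs L68580 L43737 rfl
theorem L68590 : N8998 = N58 := eqes L68589 (flp_f L657)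
theorem L68591 : N8998 = N58 := eqc rfl L68590 rfl
theorem L68592 : sm gg N133 = N8999 := trfs L68580 L43741 rfl
theorem L68593 : N8999 = N162 := eqes L68592 (flp_g L819)
theorem L68594 : N8999 = N162 := eqc rfl L68593 rfl
theorem L68595 : sm gb N162 = N9483 := trfs L68594 (flp_b L46080) rfl
theorem L68596 : N9483 = N326 := eqes L68595 L1665
theorem L68597 : N9483 = N326 := eqc rfl L68596 rfl
theorem L68598 : sm gg N326 = N4588 := trfs L68597 (flp_g L46078) rfl
theorem L68599 : N4588 = N643 := eqes L68598 L3266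
theorem L68600 : N4588 = N643 := eqc rfl L68599 rfl
theorem L68605 : sm gc N643 = N9482 := trfs L68600 L46074 rfl
theorem L68606 : N9482 = N1283 := eqes L68605 (flp_c L6310)
theorem L68607 : N9482 = N1283 := eqc rfl L68606 rfl
theorem L68618 : sm gb N1283 = N4589 := trfs L68607 L46076 rfl
theorem L68619 : N4589 = N2647 := eqes L68618 L12795
theorem L68620 : N4589 = N2647 := eqc rfl L68619 rfl
theorem L68634 : sm gg N2647 = N5427 := trfs L68620 L46084 L48229
theorem L68635 : N5427 = N2587 := eqes L68634 L12799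
theorem L68636 : N5427 = N2587 := eqc rfl L68635 rfl
theorem L68640 : sm gc N2587 = N2616 := trfs L68636 L26342 rfl
theorem L68641 : N2616 = N1255 := eqes L68640 (flp_c L12529)
theorem L68642 : N2616 = N1255 := eqc rfl L68641 rfl
theorem L68643 : sm gf N2587 = N2613 := trfs L68636 (flp_f L26338) rfl
theorem L68644 : N2613 = N5375 := eqes L68643 L26117
theorem L68645 : N5375 = N2613 := (eqc rfl L68644 rfl).symm
theorem L68646 : N5414 = N2647 := L48246.trans L68620
theorem L68648 : sm gc N2613 = N2588 := trfs L68645 L26119 rfl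
theorem L68649 : N2588 = N1268 := eqes L68648 L12645
theorem L68650 : N2588 = N1268 := eqc rfl L68649 rfl
theorem L68651 : sm gf N2613 = N2587 := trfs L68645 (flp_f L26117) rfl
theorem L68667 : sm gg N1268 = N5376 := trfs L68650 L26121 rfl
theorem L68668 : N5376 = N635 := eqes L68667 (flp_g L6239)
theorem L68669 : N5376 = N635 := eqc rfl L68668 rfl
theorem L68673 : sm gf N635 = N4586 := trfs L68669 (flp_f L26125) rfl
theorem L68674 : N4586 = N1267 := eqes L68673 L6235
theorem L68675 : N4586 = N1267 := eqc rfl L68674 rfl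
theorem L68689 : sm gg N1267 = N2586 := trfs L68675 L22145 rfl
theorem L68690 : N2586 = N2615 := eqes L68689 L12653
theorem L68691 : N2606 = N2586 := (eqc rfl L68690 L48224).symm
theorem L68698 : sm gd N2586 = N1375 := trfs L68691 L12613 rfl
theorem L68699 : N1375 = N5368 := eqes L68698 (flp_d L26093)
theorem L68700 : N5368 = N1375 := (eqc rfl L68699 rfl).symm
theorem L68722 : sm ga N1375 = N2585 := trfs L68700 (flp_a L26091) rfl
theorem L68723 : N2585 = N2304 := eqes L68722 (flp_a L11146)
theorem L68724 : N2585 = N1384 := eqc rfl L68723 L48192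
theorem L68728 : sm gb N1384 = N1254 := trfs L68724 (flp_b L12523) rfl
theorem L68810 : sm gb N1255 = N4342 := trfs L68642 L48225 rfl
theorem L68811 : N4342 = N630 := eqes L68810 (flp_b L6183)
theorem L68812 : N4342 = N630 := eqc rfl L68811 rfl
theorem L68822 : sm gd N630 = N2137 := trfs L68812 L20935 rfl
theorem L68823 : N2137 = N1254 := eqes L68822 (flp_d L6181)
theorem L68824 : N2137 = N1254 := eqc rfl L68823 rfl
theorem L68860 : sm ge N1254 = N4420 := trfs L68824 (flp_e L21303) rfl
theorem L68861 : N4420 = N2584 := eqes L68860 (flp_e L12521)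
theorem L68862 : N4420 = N2584 := eqc rfl L68861 rfl
theorem L68880 : sm gd N2584 = N9115 := trfs L68862 (flp_d L44247) rfl
theorem L68881 : N9115 = N5260 := eqes L68880 (flp_d L25521)
theorem L68882 : N9115 = N5260 := eqc rfl L68881 rfl
theorem L68885 : sm gb N5260 = N5623 := trfs L68882 (flp_b L48403) rfl
theorem L68917 : sm gb N58 = N4573 := trfs L68591 L43739 rfl
theorem L68918 : N4573 = N128 := eqes L68917 (flp_b L640)
theorem L68919 : N4573 = N128 := eqc rfl L68918 rfl
theorem L68935 : sm gg N128 = N9456 := trfs L68919 L45962 rfl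
theorem L68936 : N9456 = N264 := eqes L68935 L1361
theorem L68937 : N9456 = N264 := eqc rfl L68936 rfl
theorem L68941 : sm gf N264 = N9452 := trfs L68937 (flp_f L45964) rfl
theorem L68942 : N9452 = N520 := eqes L68941 L2660
theorem L68943 : N9452 = N520 := eqc rfl L68942 rfl
theorem L68944 : sm ga N520 = N4574 := trfs L68943 L45948 rfl
theorem L68945 : N4574 = N518 := eqes L68944 L2662
theorem L68946 : N4574 = N518 := eqc rfl L68945 rfl
theorem L68988 : sm gb N518 = N9457 := trfs L68946 L45966 rfl
theorem L68989 : N9457 = N1026 := eqes L68988 L5102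
theorem L68990 : N9457 = N1026 := eqc rfl L68989 rfl
theorem L69001 : sm gg N1026 = N4577 := trfs L68990 L45968 rfl
theorem L69002 : N4577 = N2088 := eqes L69001 (flp_g L10084)
theorem L69003 : N4577 = N2088 := eqc rfl L69002 rfl
theorem L69008 : sm gc N2088 = N9462 := trfs L69003 L45990 rfl
theorem L69009 : N9462 = N4350 := eqes L69008 L20968
theorem L69010 : N9462 = N4350 := eqc rfl L69009 rfl
theorem L69028 : sm gb N4350 = N4579 := trfs L69010 L45992 rfl
theorem L69029 : N4579 = N9007 := eqes L69028 (flp_b L43781)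
theorem L69030 : N9007 = N4579 := (eqc rfl L69029 rfl).symm
theorem L69031 : sm gb N4579 = N4350 := trfs L69030 L43781 rfl
theorem L69076 : sm ga N2138 = N1118 := trfs L50526 L11060 rfl
theorem L69077 : N1118 = N1049 := eqes L69076 L10328
theorem L69078 : N1118 = N1049 := eqc rfl L69077 rfl
theorem L69082 : sm gc N2138 = N1115 := trfs L50526 (flp_c L11058) rfl
theorem L69083 : N1115 = N4451 := eqes L69082 L21474
theorem L69084 : N4451 = N1115 := (eqc rfl L69083 rfl).symm
theorem L69085 : sm ge N2138 = N4757 := trfs L50526 L22988 rfl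
theorem L69086 : N4757 = N4452 := eqes L69085 L21482
theorem L69087 : N4757 = N4452 := eqc rfl L69086 rfl
theorem L69090 : sm ga N4452 = N2295 := trfs L69087 L22990 rfl
theorem L69091 : N2295 = N2140 := eqes L69090 L21484
theorem L69092 : N2295 = N2140 := eqc rfl L69091 rfl
theorem L69093 : sm gc N4452 = N2289 := trfs L69087 L22992 rfl
theorem L69094 : N2289 = N9200 := eqes L69093 (flp_c L44690)
theorem L69095 : N9200 = N2289 := (eqc rfl L69094 rfl).symm
theorem L69097 : sm ga N2289 = N4455 := trfs L69095 L44688 rfl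
theorem L69098 : N4455 = N1119 := eqes L69097 L11066
theorem L69099 : N4455 = N1119 := eqc rfl L69098 rfl
theorem L69100 : sm gc N2289 = N4452 := trfs L69095 L44690 rfl
theorem L69115 : sm gg N1119 = N9208 := trfs L69099 L44729 rfl
theorem L69116 : N9208 = N2297 := eqes L69115 L11115
theorem L69117 : N9208 = N2297 := eqc rfl L69116 rfl
theorem L69118 : sm gc N2297 = N4457 := trfs L69117 L44731 rfl
theorem L69119 : N4457 = N4769 := eqes L69118 (flp_c L23052)
theorem L69120 : N4769 = N4457 := (eqc rfl L69119 rfl).symm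
theorem L69122 : sm gc N4457 = N2297 := trfs L69120 L23052 rfl
theorem L69124 : sm ge N4457 = N2296 := trfs L69120 L23054 rfl
theorem L69125 : N2296 = N2141 := eqes L69124 L21511
theorem L69126 : N2296 = N2141 := eqc rfl L69125 rfl
theorem L69129 : sm gb N2141 = N4770 := trfs L69126 L23056 rfl
theorem L69130 : N4770 = N4458 := eqes L69129 L21513
theorem L69131 : N4770 = N4458 := eqc rfl L69130 rfl
theorem L69144 : sm gg N4458 = N8385 := trfs L69131 (flp_g L40589) rfl
theorem L69145 : N8385 = N7830 := eqes L69144 (flp_g L37665)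
theorem L69146 : N8385 = N7830 := eqc rfl L69145 rfl
theorem L69147 : sm gb N7830 = N4014 := trfs L69146 (flp_b L40587) rfl
theorem L69148 : N4014 = N3747 := eqes L69147 (flp_b L37661)
theorem L69149 : N4014 = N3747 := eqc rfl L69148 rfl
theorem L69150 : sm ga N3747 = N8370 := trfs L69149 (flp_a L40499) rfl
theorem L69151 : N8370 = N4017 := eqes L69150 (flp_a L19291)
theorem L69152 : N8370 = N4017 := eqc rfl L69151 rfl
theorem L69153 : sm gc N3747 = N1923 := trfs L69149 L19277 rfl
theorem L69154 : N1923 = N7828 := eqes L69153 (flp_c L37655)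
theorem L69155 : N7828 = N1923 := (eqc rfl L69154 rfl).symm
theorem L69159 : sm ge N3747 = N8384 := trfs L69149 (flp_e L40585) rfl
theorem L69160 : N8384 = N7829 := eqes L69159 (flp_e L37659)
theorem L69161 : N8384 = N7829 := eqc rfl L69160 rfl
theorem L69165 : sm gg N3747 = N1921 := trfs L69149 (flp_g L19275) rfl
theorem L69166 : N1921 = N1806 := eqes L69165 (flp_g L18005)
theorem L69167 : N1921 = N1806 := eqc rfl L69166 rfl
theorem L69168 : sm ga N1806 = N4005 := trfs L69167 (flp_a L19235) rfl
theorem L69169 : N4005 = N3744 := eqes L69168 (flp_a L17991)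
theorem L69170 : N4005 = N3744 := eqc rfl L69169 rfl
theorem L69172 : sm gc N1806 = N944 := trfs L69167 (flp_c L9299) rfl
theorem L69173 : N944 = N3745 := eqes L69172 L17995
theorem L69174 : N3745 = N944 := (eqc rfl L69173 rfl).symm
theorem L69175 : sm gd N1806 = N4012 := trfs L69167 L19261 rfl
theorem L69176 : N4012 = N895 := eqes L69175 (flp_d L8759)
theorem L69177 : N4012 = N895 := eqc rfl L69176 rfl
theorem L69178 : sm ge N1806 = N4013 := trfs L69167 L19269 rfl
theorem L69179 : N4013 = N3746 := eqes L69178 L17999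
theorem L69180 : N4013 = N3746 := eqc rfl L69179 rfl
theorem L69182 : sm ga N3746 = N8369 := trfs L69180 (flp_a L40493) rfl
theorem L69183 : N8369 = N7824 := eqes L69182 (flp_a L37629)
theorem L69184 : N8369 = N7824 := eqc rfl L69183 rfl
theorem L69186 : sm gc N3746 = N1922 := trfs L69180 L19273 rfl
theorem L69187 : N1922 = N7827 := eqes L69186 (flp_c L37649)
theorem L69188 : N7827 = N1922 := (eqc rfl L69187 rfl).symm
theorem L69199 : sm gc N1922 = N3746 := trfs L69188 L37649 rfl
theorem L69202 : sm gc N7824 = N4006 := trfs L69184 L40495 rfl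
theorem L69215 : sm gf N895 = N7826 := trfs L69177 (flp_f L37643) rfl
theorem L69216 : N7826 = N476 := eqes L69215 L4479
theorem L69217 : N7826 = N476 := eqc rfl L69216 rfl
theorem L69222 : sm gc N476 = N7700 := trfs L69217 (flp_c L37645) rfl
theorem L69223 : N7700 = N239 := eqes L69222 (flp_c L2430)
theorem L69224 : N7700 = N239 := eqc rfl L69223 rfl
theorem L69233 : sm gg N239 = N8109 := trfs L69224 (flp_g L39252) rfl
theorem L69234 : N8109 = N477 := eqes L69233 L2434
theorem L69235 : N8109 = N477 := eqc rfl L69234 rfl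
theorem L69239 : sm gd N477 = N3876 := trfs L69235 L39250 rfl
theorem L69240 : N3876 = N920 := eqes L69239 (flp_d L4593)
theorem L69241 : N3876 = N920 := eqc rfl L69240 rfl
theorem L69242 : sm gf N477 = N3874 := trfs L69235 (flp_f L39246) rfl
theorem L69243 : N3874 = N947 := eqes L69242 L4705
theorem L69244 : N3874 = N947 := eqc rfl L69243 rfl
theorem L69248 : sm gb N947 = N8108 := trfs L69244 L39242 rfl
theorem L69249 : N8108 = N1929 := eqes L69248 L9333
theorem L69250 : N8108 = N1929 := eqc rfl L69249 rfl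
theorem L69254 : sm gd N947 = N1862 := trfs L69244 L18629 rfl
theorem L69255 : N1862 = N1864 := eqes L69254 (flp_d L9041)
theorem L69256 : N1864 = N1862 := (eqc rfl L69255 rfl).symm
theorem L69260 : sm gg N947 = N1861 := trfs L69244 (flp_g L18627) rfl
theorem L69261 : N1861 = N894 := eqes L69260 L4709
theorem L69262 : N1861 = N894 := eqc rfl L69261 rfl
theorem L69266 : sm gd N894 = N919 := trfs L69262 (flp_d L9025) rfl
theorem L69267 : N919 = N1780 := eqes L69266 (flp_d L8633)
theorem L69268 : N1780 = N919 := (eqc rfl L69267 rfl).symm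
theorem L69269 : sm ge N894 = N3873 := trfs L69262 L18625 rfl
theorem L69270 : N3873 = N1796 := eqes L69269 (flp_e L8709)
theorem L69271 : N3873 = N1796 := eqc rfl L69270 rfl
theorem L69280 : sm gd N1796 = N8047 := trfs L69271 (flp_d L38950) rfl
theorem L69281 : N8047 = N3715 := eqes L69280 (flp_d L17850)
theorem L69282 : N8047 = N3715 := eqc rfl L69281 rfl
theorem L69288 : sm ge N3715 = N3847 := trfs L69282 (flp_e L38948) rfl
theorem L69289 : N3847 = N7671 := eqes L69288 (flp_e L36855)
theorem L69290 : N7671 = N3847 := (eqc rfl L69289 rfl).symm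
theorem L69291 : sm ga N3847 = N3676 := trfs L69290 (flp_a L36851) rfl
theorem L69292 : N3676 = N8043 := eqes L69291 (flp_a L38930)
theorem L69293 : N8043 = N3676 := (eqc rfl L69292 rfl).symm
theorem L69294 : sm gd N3847 = N3680 := trfs L69290 L36853 rfl
theorem L69295 : N3680 = N1851 := eqes L69294 (flp_d L18501)
theorem L69296 : N3680 = N1851 := eqc rfl L69295 rfl
theorem L69297 : sm ge N3847 = N3715 := trfs L69290 L36855 rfl
theorem L69299 : sm gf N3847 = N3836 := trfs L69290 L36857 rfl
theorem L69300 : N3836 = N7681 := eqes L69299 (flp_f L36917)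
theorem L69301 : N7681 = N3836 := (eqc rfl L69300 rfl).symm
theorem L69302 : sm gg N3847 = N8024 := trfs L69290 (flp_g L38822) rfl
theorem L69303 : N8024 = N8048 := eqes L69302 L38952
theorem L69304 : N8048 = N8024 := (eqc rfl L69303 rfl).symm
theorem L69305 : sm gd N8024 = N3848 := trfs L69304 L38954 rfl
theorem L69306 : N3848 = N3850 := eqes L69305 L38818
theorem L69307 : N3850 = N3848 := (eqc rfl L69306 rfl).symm
theorem L69308 : sm gg N8024 = N3847 := trfs L69304 (flp_g L38952) rfl
theorem L69310 : sm ga N3848 = N3682 := trfs L69307 L18517 rfl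
theorem L69311 : N3682 = N8044 := eqes L69310 (flp_a L38934)
theorem L69312 : N8044 = N3682 := (eqc rfl L69311 rfl).symm
theorem L69316 : sm gc N3848 = N8050 := trfs L69307 (flp_c L38964) rfl
theorem L69317 : N8050 = N1852 := eqes L69316 L18505
theorem L69318 : N8050 = N1852 := eqc rfl L69317 rfl
theorem L69319 : sm gd N3848 = N8024 := trfs L69307 (flp_d L38818) rfl
theorem L69329 : sm gf N1852 = N3848 := trfs L69318 (flp_f L38960) rfl
theorem L69331 : sm gg N1852 = N7680 := trfs L69318 L38968 rfl
theorem L69332 : N7680 = N914 := eqes L69331 (flp_g L8985)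
theorem L69333 : N7680 = N914 := eqc rfl L69332 rfl
theorem L69334 : sm ga N914 = N3681 := trfs L69333 L36909 rfl
theorem L69335 : N3681 = N1850 := eqes L69334 L8977
theorem L69336 : N3681 = N1850 := eqc rfl L69335 rfl
theorem L69339 : sm gf N914 = N3845 := trfs L69333 L36913 rfl
theorem L69340 : N3845 = N1776 := eqes L69339 (flp_f L8607)
theorem L69341 : N3845 = N1776 := eqc rfl L69340 rfl
theorem L69350 : sm ge N1776 = N1859 := trfs L69341 L18491 rfl
theorem L69351 : N1859 = N883 := eqes L69350 L8605
theorem L69352 : N1859 = N883 := eqc rfl L69351 rfl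
theorem L69359 : sm gc N883 = N918 := trfs L69352 (flp_c L9013) rfl
theorem L69360 : N918 = N1781 := eqes L69359 L8637
theorem L69361 : N1781 = N918 := (eqc rfl L69360 rfl).symm
theorem L69364 : sm gg N883 = N3870 := trfs L69352 L18611 rfl
theorem L69365 : N3870 = N1782 := eqes L69364 L8641
theorem L69366 : N3870 = N1782 := eqc rfl L69365 rfl
theorem L69372 : sm gc N1782 = N1860 := trfs L69366 L18615 rfl
theorem L69373 : N1860 = N3691 := eqes L69372 (flp_c L17746)
theorem L69374 : N3691 = N1860 := (eqc rfl L69373 rfl).symm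
theorem L69382 : sm gc N1860 = N1782 := trfs L69374 L17746 rfl
theorem L69388 : sm gb N918 = N3646 := trfs L69361 (flp_b L17507) rfl
theorem L69389 : N3646 = N1858 := eqes L69388 L9009
theorem L69390 : N3646 = N1858 := eqc rfl L69389 rfl
theorem L69391 : sm gc N918 = N883 := trfs L69361 (flp_c L8637) rfl
theorem L69398 : sm gc N1858 = N1760 := trfs L69390 (flp_c L17505) rfl
theorem L69399 : N1760 = N3865 := eqes L69398 L18595
theorem L69400 : N3865 = N1760 := (eqc rfl L69399 rfl).symm
theorem L69404 : sm ge N1858 = N7602 := trfs L69390 (flp_e L36518) rfl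
theorem L69405 : N7602 = N3844 := eqes L69404 (flp_e L18485)
theorem L69406 : N7602 = N3844 := eqc rfl L69405 rfl
theorem L69408 : sm gg N1858 = N7611 := trfs L69390 L36560 rfl
theorem L69409 : N7611 = N3867 := eqes L69408 L18601
theorem L69410 : N7611 = N3867 := eqc rfl L69409 rfl
theorem L69411 : sm gc N3867 = N3647 := trfs L69410 L36562 rfl
theorem L69412 : N3647 = N8090 := eqes L69411 (flp_c L39168)
theorem L69413 : N8090 = N3647 := (eqc rfl L69412 rfl).symm
theorem L69414 : sm gc N3647 = N3867 := trfs L69413 L39168 rfl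
theorem L69418 : sm gc N3844 = N3643 := trfs L69406 (flp_c L36516) rfl
theorem L69419 : N3643 = N8039 := eqes L69418 L38912
theorem L69420 : N8039 = N3643 := (eqc rfl L69419 rfl).symm
theorem L69421 : sm gc N3643 = N3844 := trfs L69420 (flp_c L38912) rfl
theorem L69429 : sm gc N1760 = N1858 := trfs L69400 (flp_c L18595) rfl
theorem L69451 : sm gc N1850 = N1776 := trfs L69336 (flp_c L17696) rfl
theorem L69482 : sm ga N3682 = N3848 := trfs L69312 L38934 rfl
theorem L69484 : sm gc N3682 = N3846 := trfs L69312 L38936 rfl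
theorem L69486 : sm gf N3836 = N3847 := trfs L69301 L36917 rfl
theorem L69488 : sm ga N1851 = N1776 := trfs L69296 (flp_a L17690) rfl
theorem L69492 : sm gf N1851 = N1850 := trfs L69296 L17694 rfl
theorem L69494 : sm ga N3676 = N3847 := trfs L69293 L38930 rfl
theorem L69500 : sm ga N919 = N883 := trfs L69268 (flp_a L8631) rfl
theorem L69504 : sm gd N919 = N894 := trfs L69268 L8633 rfl
theorem L69506 : sm gf N919 = N918 := trfs L69268 L8635 rfl
theorem L69509 : sm ga N1862 = N1782 := trfs L69256 L9039 rfl
theorem L69512 : sm gd N1862 = N947 := trfs L69256 L9041 rfl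
theorem L69519 : sm gd N1929 = N3875 := trfs L69250 L39244 rfl
theorem L69527 : sm gf N920 = N1862 := trfs L69241 (flp_f L18633) rfl
theorem L69556 : sm gc N944 = N1806 := trfs L69174 (flp_c L17995) rfl
theorem L69576 : sm gc N3744 = N1918 := trfs L69170 (flp_c L19233) rfl
theorem L69582 : sm gc N7829 = N4015 := trfs L69161 L40583 rfl
theorem L69584 : sm gc N1923 = N3747 := trfs L69155 L37655 rfl
theorem L69587 : sm gc N4017 = N4007 := trfs L69152 L40501 rfl
theorem L69595 : sm gc N2140 = N1119 := trfs L69092 L11109 rfl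
theorem L69598 : sm gc N1115 = N2138 := trfs L69084 (flp_c L21474) rfl
theorem L69605 : sm gc N1049 = N561 := trfs L69078 (flp_c L5533) rfl
theorem L69626 : sm gc N2299 = N2290 := trfs L50512 L22998 rfl
theorem L69635 : sm gc N1120 = N2141 := trfs L50498 L21507 rfl
theorem L69673 : sm ge N2112 = N2186 := trfs L50382 (flp_e L21925) rfl
theorem L69678 : sm ga N4542 = N4317 := trfs L50378 L43428 rfl
theorem L69679 : N4317 = N9384 := eqes L69678 (flp_a L45587)
theorem L69680 : N9384 = N4317 := (eqc rfl L69679 rfl).symm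
theorem L69681 : sm ge N4542 = N4404 := trfs L50378 L43430 rfl
theorem L69683 : sm gf N4542 = N4523 := trfs L50378 L43432 rfl
theorem L69687 : sm ga N4317 = N4542 := trfs L69680 L45587 rfl
theorem L69690 : sm gd N4317 = N9351 := trfs L69680 (flp_d L45589) rfl
theorem L69691 : N9351 = N8944 := eqes L69690 L43434
theorem L69692 : N9351 = N8944 := eqc rfl L69691 rfl
theorem L69693 : sm ga N8944 = N9391 := trfs L69692 (flp_a L45627) rfl
theorem L69695 : sm gc N8944 = N4525 := trfs L69692 (flp_c L45401) rfl
theorem L69697 : sm ga N2072 = N2186 := trfs L50372 L21907 rfl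
theorem L69701 : sm gg N9355 = N4542 := trfs L50358 (flp_g L45635) rfl
theorem L69731 : sm gf N2206 = N1265 := trfs L50325 (flp_f L48273) rfl
theorem L69733 : sm ga N1070 = N1019 := trfs L50315 (flp_a L10019) rfl
theorem L69746 : sm gc N1069 = N1019 := trfs L50300 (flp_c L10025) rfl
theorem L69748 : sm gf N1069 = N1070 := trfs L50300 L10029 rfl
theorem L69754 : sm ga N517 = N542 := trfs L50294 L5336 rfl
theorem L69756 : sm gc N517 = N541 := trfs L50294 (flp_c L5334) rfl
theorem L69761 : sm gb N541 = N541 := trfs L50291 (flp_b L5330) rfl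
theorem L69770 : sm gc N2185 = N2078 := trfs L50281 L20854 rfl
theorem L69780 : sm ga N1025 = N1079 := trfs L50275 L10635 rfl
theorem L69782 : sm gc N1025 = N1077 := trfs L50275 L10637 rfl
theorem L69913 : sm ga N159 = N159 := trfs L49896 (flp_a L1637) rfl
theorem L69925 : sm ga N315 = N315 := trfs L49880 (flp_a L3150) rfl
theorem L69950 : sm gg N2083 = N2083 := trfs L49815 (flp_g L20917) rfl
theorem L69954 : sm gg N4323 = N4323 := trfs L49805 (flp_g L43512) rfl
theorem L69956 : sm gb N1001 = N1001 := trfs L49798 (flp_b L9835) rfl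
theorem L69959 : sm ge N4239 = N4271 := trfs L49795 L42708 rfl
theorem L69960 : N4271 = N2046 := eqes L69959 L20391
theorem L69961 : N4271 = N2046 := eqc rfl L69960 rfl
theorem L69963 : sm gb N2046 = N8860 := trfs L69961 (flp_b L42970) rfl
theorem L69964 : N8860 = N4268 := eqes L69963 L20545
theorem L69965 : N8860 = N4268 := eqc rfl L69964 rfl
theorem L69978 : sm gc N4268 = N4268 := trfs L69965 (flp_c L42968) rfl
theorem L70014 : sm gc N2010 = N2010 := trfs L49671 L20007 rfl
theorem L70015 : sm ge N2010 = N8681 := trfs L49671 L42056 rfl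
theorem L70016 : N8681 = N4195 := eqes L70015 L20104
theorem L70017 : N8681 = N4195 := eqc rfl L70016 rfl
theorem L70020 : sm gc N4195 = N4195 := trfs L70017 L42059 rfl
theorem L70058 : sm gf N991 = N991 := trfs L49633 (flp_f L9730) rfl
theorem L70063 : sm gf N257 = N257 := trfs L49630 (flp_f L2580) rfl
theorem L70066 : sm gf N990 = N990 := trfs L49627 (flp_f L9713) rfl
theorem L70089 : sm gc N257 = N257 := trfs L49586 (flp_c L2567) rfl
theorem L70098 : N8705 = N2020 := L49559.trans L49752
theorem L70100 : sm gf N2020 = N4182 := trfs L70098 (flp_f L42168) rfl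
theorem L70101 : N4182 = N2020 := eqes L70100 L49773
theorem L70102 : N4182 = N2020 := eqc rfl L70101 rfl
theorem L70108 : sm gd N2020 = N8704 := trfs L70102 L42163 rfl
theorem L70109 : N8704 = N4218 := eqes L70108 L20227
theorem L70110 : N8704 = N4218 := eqc rfl L70109 rfl
theorem L70114 : sm gc N4218 = N4218 := trfs L70110 L42166 rfl
theorem L70182 : sm gb N444 = N444 := trfs L49353 L4339 rfl
theorem L70185 : sm gc N503 = N503 := trfs L49350 L4920 rfl
theorem L70236 : sm gf N3352 = N3770 := trfs L49195 L18117 rfl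
theorem L70248 : sm gb N1817 = N1935 := trfs L49181 (flp_b L19377) rfl
theorem L70251 : sm gg N1817 = N3352 := trfs L49181 L19379 rfl
theorem L70253 : sm gb N3701 = N3886 := trfs L49175 (flp_b L39352) rfl
theorem L70306 : sm gc N1765 = N1765 := trfs L49054 (flp_c L17553) rfl
theorem L70309 : sm gb N507 = N507 := trfs L49036 (flp_b L4999) rfl
theorem L70318 : sm gg N535 = N535 := trfs L49016 (flp_g L5259) rfl
theorem L70341 : sm gb N1006 = N1006 := trfs L48935 (flp_b L9885) rfl
theorem L70346 : sm gb N4432 = N3974 := trfs L48896 (flp_b L27554) rfl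
theorem L70352 : sm gg N2055 = N2736 := trfs L48893 (flp_g L27478) rfl
theorem L70355 : sm gg N2698 = N4410 := trfs L48885 (flp_g L44306) rfl
theorem L70358 : sm gg N2741 = N4432 := trfs L48882 (flp_g L44506) rfl
theorem L70362 : sm gb N5602 = N9139 := trfs L48870 (flp_b L44357) rfl
theorem L70372 : sm gb N4443 = N2742 := trfs L48864 L21444 rfl
theorem L70382 : sm ga N2819 = N2144 := trfs L48851 L21527 rfl
theorem L70391 : sm gg N2147 = N2819 := trfs L48838 L13630 rfl
theorem L70402 : sm gg N2740 = N2777 := trfs L48811 L21347 rfl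
theorem L70411 : sm gg N1392 = N693 := trfs L48805 (flp_g L6794) rfl
theorem L70419 : sm gf N5387 = N4350 := trfs L48791 (flp_f L43795) rfl
theorem L70421 : sm gg N5387 = N5482 := trfs L48791 L43799 rfl
theorem L70422 : N5482 = N9502 := eqes L70421 (flp_g L46165)
theorem L70423 : N9502 = N5482 := (eqc rfl L70422 rfl).symm
theorem L70426 : sm gf N5482 = N4608 := trfs L70423 L46163 rfl
theorem L70427 : N4608 = N4353 := eqes L70426 L26600
theorem L70428 : N4608 = N4353 := eqc rfl L70427 rfl
theorem L70429 : sm gg N5482 = N5387 := trfs L70423 L46165 rfl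
theorem L70432 : sm gb N4353 = N9517 := trfs L70428 (flp_b L46231) rfl
theorem L70433 : N9517 = N9013 := eqes L70432 L43805
theorem L70434 : N9517 = N9013 := eqc rfl L70433 rfl
theorem L70440 : sm gg N4353 = N5391 := trfs L70428 L26197 rfl
theorem L70441 : N5391 = N9009 := eqes L70440 (flp_g L43789)
theorem L70442 : N9009 = N5391 := (eqc rfl L70441 rfl).symm
theorem L70443 : sm ga N5391 = N4350 := trfs L70442 L43787 rfl
theorem L70447 : sm gg N5391 = N4353 := trfs L70442 L43789 rfl
theorem L70449 : sm gc N9013 = N4606 := trfs L70434 (flp_c L46229) rfl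
theorem L70454 : sm ge N2636 = N5320 := trfs L48788 (flp_e L25838) rfl
theorem L70455 : N5320 = N5317 := eqes L70454 (flp_e L25824)
theorem L70456 : N5320 = N5317 := eqc rfl L70455 rfl
theorem L70457 : sm gf N2636 = N2202 := trfs L48788 (flp_f L12761) rfl
theorem L70459 : sm gg N2636 = N1279 := trfs L48788 (flp_g L12757) rfl
theorem L70464 : sm gg N5317 = N2558 := trfs L70456 (flp_g L25836) rfl
theorem L70468 : sm gf N1051 = N1362 := trfs L48781 (flp_f L13612) rfl
theorem L70475 : sm gg N4355 = N2594 := trfs L48753 (flp_g L26199) rfl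
theorem L70484 : sm gg N1259 = N2091 := trfs L48734 (flp_g L20997) rfl
theorem L70486 : sm gf N5269 = N4328 := trfs L48731 (flp_f L43579) rfl
theorem L70492 : sm gb N2595 = N4366 := trfs L48723 (flp_b L21050) rfl
theorem L70496 : sm gb N8984 = N5271 := trfs L48720 L43683 rfl
theorem L70500 : sm gg N5324 = N5269 := trfs L48712 (flp_g L45727) rfl
theorem L70504 : sm gg N2089 = N2595 := trfs L48709 L12563 rfl
theorem L70506 : sm gb N8947 = N4530 := trfs L48706 (flp_b L45473) rfl
theorem L70518 : sm gf N1081 = N1281 := trfs L48678 (flp_f L6302) rfl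
theorem L70520 : sm gg N1081 = N640 := trfs L48678 (flp_g L6284) rfl
theorem L70532 : sm gb N1083 = N2089 := trfs L48630 (flp_b L20980) rfl
theorem L70553 : sm gb N566 = N1052 := trfs L48561 (flp_b L10367) rfl
theorem L70555 : sm gb N2125 = N1106 := trfs L48555 (flp_b L10968) rfl
theorem L70560 : sm gb N4408 = N2244 := trfs L48546 (flp_b L22507) rfl
theorem L70572 : sm gg N2242 = N1314 := trfs L48537 (flp_g L13084) rfl
theorem L70582 : sm gb N1043 = N666 := trfs L48498 (flp_b L6551) rfl
theorem L70609 : sm gb N2515 = N4320 := trfs L48460 (flp_b L43470) rfl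
theorem L70621 : sm gb N2247 = N2706 := trfs L48382 (flp_b L27161) rfl
theorem L70641 : sm ga N1334 = N2261 := trfs L48331 (flp_a L11004) rfl
theorem L70707 : sm gf N2647 = N2607 := trfs L68646 (flp_f L26287) rfl
theorem L70719 : sm ga N1384 = N1375 := trfs L48192 L11146 rfl
theorem L70749 : sm gb N1092 = N1092 := trfs L48093 (flp_b L10799) rfl
theorem L70753 : sm gb N2177 = N2177 := trfs L48084 (flp_b L21803) rfl
theorem L70776 : sm gf N4541 = N5317 := trfs L48042 (flp_f L45559) rfl
theorem L70780 : sm gb N1069 = N1069 := trfs L48025 (flp_b L10539) rfl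
theorem L70851 : sm gb N552 = N552 := trfs L47792 (flp_b L5434) rfl
theorem L70854 : sm gf N4762 = N4761 := trfs L47753 (flp_f L47619) L47747
theorem L70858 : sm gc N2252 = N2252 := trfs L47720 L22551 rfl
theorem L70875 : sm ga N1114 = N1114 := trfs L47701 (flp_a L11048) rfl
theorem L70882 : sm ga N9686 = N9687 := ded_10_3 L47019 L47763 (flp_e L47013)
theorem L70884 : N8393 = N5932 := coi_7_9 L59505 (flp_b L23024) L47763 L23020 L59699 (flp_b L66120) L9291 L9311 L19297 L40635
theorem L70885 : N8393 = N5932 := eqc rfl L70884 rfl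
theorem L70886 : sm gb N5932 = N4018 := trfs L70885 (flp_b L40635) rfl
theorem L70888 : sm gf N5932 = N4964 := trfs L70885 L40637 rfl
theorem L70889 : N4964 = N4459 := eqes L70888 L59507
theorem L70890 : N4964 = N4459 := eqc rfl L70889 rfl
theorem L70891 : sm gb N4459 = N2392 := trfs L70890 (flp_b L24046) rfl
theorem L70892 : N2392 = N9214 := eqes L70891 L44751
theorem L70893 : N9214 = N2392 := (eqc rfl L70892 rfl).symm
theorem L70894 : sm gb N2392 = N4459 := trfs L70893 (flp_b L44751) rfl
theorem L70898 : sm gc N9610 = N9610 := ded_8_2 (flp_a L46645) L48164 L46645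
theorem L70899 : sm gc N9347 = N9347 := ded_19_3 L45379 L48164 (flp_e L45379)
theorem L70900 : sm gc N9612 = N9612 := ded_20_3 (flp_f L46651) L48164 L46651
theorem L70901 : sm gc N9613 = N9613 := ded_21_3 (flp_g L46653) L48164 L46653
theorem L70902 : N5455 = N1275 := coi_30_14 (flp_b L6272) (flp_a L6255) (flp_f L6253) (flp_c L3232) L3228 L6229 (flp_f L69731) (flp_c L12797) (flp_b L12795) (flp_a L12771) (flp_f L51570) (flp_c L10677) (flp_b L5362) (flp_a L2771) L2779 (flp_c L5384) L10715 L22277 L22279 L26470
theorem L70903 : N5455 = N1275 := eqc rfl L70902 rfl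
theorem L70909 : sm gf N1275 = N5407 := trfs L70903 L26474 rfl
theorem L70910 : N5407 = N2220 := eqes L70909 (flp_f L10717)
theorem L70911 : N5407 = N2220 := eqc rfl L70910 rfl
theorem L70912 : sm ga N2220 = N2604 := trfs L70911 (flp_a L26259) rfl
theorem L70913 : N2604 = N4615 := eqes L70912 L22277
theorem L70914 : N4615 = N2604 := (eqc rfl L70913 rfl).symm
theorem L70924 : sm ge N2604 = N9428 := trfs L70914 (flp_e L45837) rfl
theorem L70925 : N9428 = N5280 := eqes L70924 (flp_e L25621)
theorem L70926 : N9428 = N5280 := eqc rfl L70925 rfl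
theorem L70929 : sm gg N2604 = N5459 := trfs L70914 (flp_g L26496) rfl
theorem L70930 : N5459 = N5408 := eqes L70929 L26263
theorem L70931 : N5459 = N5408 := eqc rfl L70930 rfl
theorem L70934 : sm gf N5408 = N2631 := trfs L70931 (flp_f L26492) rfl
theorem L70938 : sm gf N5280 = N5310 := trfs L70926 L45839 rfl
theorem L70939 : N5310 = N5311 := eqes L70938 (flp_f L25792)
theorem L70940 : N5311 = N5310 := (eqc rfl L70939 rfl).symm
theorem L70946 : sm gf N5310 = N5280 := trfs L70940 L25792 rfl
theorem L70973 : sm ge N5261 = N5623 := ded_15_0 (flp_b L68885) L25523 L25525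
theorem L70981 : sm gg N5270 = N8973 := ded_21_2 L43604 L48743 L25569
theorem L70994 : sm gb N8769 = N8769 := ded_16_3 (flp_f L42504) (flp_b L20223) L49773 L20223 L42504
theorem L70998 : sm gc N8805 = N8805 := ded_13_4 (flp_b L42692) L20389 L49792 (flp_c L20389) L42692
theorem L71002 : sm ga N5202 = N5202 := ded_10_3 (flp_e L25183) L50640 L25183
theorem L71005 : sm gb N5595 = N5595 := ded_16_3 (flp_f L27047) (flp_b L12983) L50677 L12983 L27047
theorem L71006 : sm ga N5591 = N5591 := ded_10_3 L27035 L50679 (flp_e L27035)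
theorem L71007 : sm gc N5591 = N5591 := ded_19_3 L27035 L50680 (flp_e L27035)
theorem L71008 : sm gf N5591 = N5591 := ded_25_2 L27035 L50681 (flp_e L27035)
theorem L71009 : sm gb N5533 = N5533 := ded_13_3 (flp_c L26787) L12868 L50689 (flp_b L12868) L26787
theorem L71013 : sm gb N5210 = N8955 := ded_14_3 L43504 L50927 (flp_d L25232)
theorem L71015 : sm gg N8988 = N8988 := ded_21_2 (flp_c L43691) L50933 L43691
theorem L71016 : sm gg N8955 = N8955 := ded_24_2 L43504 L50933 (flp_d L43504)
theorem L71017 : sm gg N8989 = N8989 := ded_24_2 (flp_d L43697) L50984 L43697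
theorem L71030 : sm gf N5965 = N9494 := ded_20_2 (flp_c L46129) L51540 (flp_c L28897)
theorem L71038 : sm gg N5740 = N9721 := ded_24_2 L47206 L51684 (flp_d L27839)
theorem L71042 : N4802 = N4789 := coi_31_1 (flp_f L23149) (flp_b L11160) (flp_g L67872) L3470 L1774 L1854 L3595 L6991 (flp_g L14294) L52101 (flp_b L23279) (flp_g L23277) (flp_f L23227) (flp_b L23225) (flp_g L51755)
theorem L71043 : N4802 = N4789 := eqc rfl L71042 rfl
theorem L71044 : sm ga N4789 = N2316 := trfs L71043 L23205 rfl
theorem L71049 : sm gf N4789 = N2314 := trfs L71043 (flp_f L23203) rfl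
theorem L71050 : N2314 = N2307 := eqes L71049 (flp_f L23149)
theorem L71051 : N2314 = N2307 := eqc rfl L71050 rfl
theorem L71054 : sm ga N2307 = N1128 := trfs L71051 (flp_a L11194) rfl
theorem L71055 : N1128 = N4787 := eqes L71054 L23141
theorem L71056 : N4787 = N1128 := (eqc rfl L71055 rfl).symm
theorem L71061 : sm gd N2307 = N4801 := trfs L71051 L23199 rfl
theorem L71062 : N4801 = N4788 := eqes L71061 L23145
theorem L71063 : N4801 = N4788 := eqc rfl L71062 rfl
theorem L71064 : sm ge N2307 = N4713 := trfs L71051 (flp_e L22772) rfl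
theorem L71065 : N4713 = N4706 := eqes L71064 (flp_e L22726)
theorem L71066 : N4713 = N4706 := eqc rfl L71065 rfl
theorem L71068 : sm ga N4706 = N2266 := trfs L71066 (flp_a L22770) rfl
theorem L71069 : N2266 = N9716 := eqes L71068 L47180
theorem L71070 : N9716 = N2266 := (eqc rfl L71069 rfl).symm
theorem L71071 : sm gb N4706 = N9729 := trfs L71066 L47252 rfl
theorem L71072 : N9729 = N2263 := eqes L71071 (flp_b L22724)
theorem L71073 : N9729 = N2263 := eqc rfl L71072 rfl
theorem L71075 : sm gd N4706 = N9730 := trfs L71066 L47258 rfl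
theorem L71076 : N9730 = N9717 := eqes L71075 L47186
theorem L71077 : N9730 = N9717 := eqc rfl L71076 rfl
theorem L71080 : sm ga N9717 = N4714 := trfs L71077 L47260 rfl
theorem L71082 : sm ga N2263 = N4889 := trfs L71073 L47256 rfl
theorem L71083 : N4889 = N2782 := eqes L71082 L67972
theorem L71084 : N4889 = N2782 := eqc rfl L71083 rfl
theorem L71089 : sm ge N2782 = N2402 := trfs L71084 L23649 rfl
theorem L71090 : N2402 = N1404 := eqes L71089 L13452
theorem L71091 : N2402 = N1404 := eqc rfl L71090 rfl
theorem L71093 : sm gb N1404 = N1169 := trfs L71091 (flp_b L11600) rfl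
theorem L71094 : N1169 = N2894 := eqes L71093 L13982
theorem L71095 : N2894 = N1169 := (eqc rfl L71094 rfl).symm
theorem L71099 : sm gd N1404 = N4982 := trfs L71091 L24134 rfl
theorem L71100 : N4982 = N2891 := eqes L71099 (flp_d L13968)
theorem L71101 : N4982 = N2891 := eqc rfl L71100 rfl
theorem L71108 : sm gb N2891 = N2403 := trfs L71101 L24136 rfl
theorem L71109 : N2403 = N5975 := eqes L71108 L28947
theorem L71110 : N5975 = N2403 := (eqc rfl L71109 rfl).symm
theorem L71111 : sm gb N2403 = N2891 := trfs L71110 (flp_b L28947) rfl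
theorem L71119 : sm gc N1169 = N2842 := trfs L71095 L67829 rfl
theorem L71120 : N2842 = N2397 := eqes L71119 (flp_c L11575)
theorem L71121 : N2842 = N2397 := eqc rfl L71120 rfl
theorem L71123 : sm gf N1169 = N5977 := trfs L71095 (flp_f L28959) rfl
theorem L71124 : N5977 = N2404 := eqes L71123 L11606
theorem L71125 : N5977 = N2404 := eqc rfl L71124 rfl
theorem L71126 : sm gg N1169 = N5067 := trfs L71095 (flp_g L65606) rfl
theorem L71127 : N5067 = N2405 := eqes L71126 L11610
theorem L71128 : N5067 = N2405 := eqc rfl L71127 rfl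
theorem L71129 : sm ga N2405 = N2446 := trfs L71128 (flp_a L24532) rfl
theorem L71130 : N2446 = N1172 := eqes L71129 L11612
theorem L71131 : N2446 = N1172 := eqc rfl L71130 rfl
theorem L71132 : sm gb N2405 = N3341 := trfs L71128 L65601 rfl
theorem L71133 : N3341 = N4990 := eqes L71132 L24164
theorem L71134 : N4990 = N3341 := (eqc rfl L71133 rfl).symm
theorem L71135 : sm gc N2405 = N3344 := trfs L71128 (flp_c L65611) rfl
theorem L71136 : N3344 = N4974 := eqes L71135 (flp_c L24097)
theorem L71137 : N4974 = N3344 := (eqc rfl L71136 rfl).symm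
theorem L71141 : sm gc N3344 = N2405 := trfs L71137 L24097 rfl
theorem L71159 : sm gb N3341 = N2405 := trfs L71134 (flp_b L24164) rfl
theorem L71161 : sm gb N1172 = N1191 := trfs L71131 (flp_b L11808) rfl
theorem L71162 : N1191 = N1195 := eqes L71161 L65554
theorem L71163 : N1195 = N1191 := (eqc rfl L71162 rfl).symm
theorem L71167 : sm ge N1172 = N5070 := trfs L71131 L24541 rfl
theorem L71168 : N5070 = N2358 := eqes L71167 (flp_e L11394)
theorem L71169 : N5070 = N2358 := eqc rfl L71168 rfl
theorem L71174 : sm gb N2358 = N2448 := trfs L71169 L24543 rfl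
theorem L71175 : N2448 = N2457 := eqes L71174 L65658
theorem L71176 : N2457 = N2448 := (eqc rfl L71175 rfl).symm
theorem L71177 : sm ga N2448 = N5079 := trfs L71176 (flp_a L24582) rfl
theorem L71178 : N5079 = N1193 := eqes L71177 L11816
theorem L71179 : N5079 = N1193 := eqc rfl L71178 rfl
theorem L71183 : sm gd N2448 = N5094 := trfs L71176 (flp_d L24651) rfl
theorem L71184 : N5094 = N5077 := eqes L71183 L24569
theorem L71185 : N5094 = N5077 := eqc rfl L71184 rfl
theorem L71187 : sm gf N2448 = N5097 := trfs L71176 L24666 rfl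
theorem L71188 : N5097 = N5078 := eqes L71187 L24573
theorem L71189 : N5097 = N5078 := eqc rfl L71188 rfl
theorem L71192 : sm ga N5078 = N5096 := trfs L71189 L24668 rfl
theorem L71193 : N5096 = N2456 := eqes L71192 L24575
theorem L71194 : N5096 = N2456 := eqc rfl L71193 rfl
theorem L71196 : sm ge N5078 = N2460 := trfs L71189 L24671 rfl
theorem L71197 : N2460 = N2449 := eqes L71196 L24578
theorem L71198 : N2460 = N2449 := eqc rfl L71197 rfl
theorem L71200 : sm ga N2449 = N2459 := trfs L71198 L11870 rfl
theorem L71201 : N2459 = N1194 := eqes L71200 L11821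
theorem L71202 : N2459 = N1194 := eqc rfl L71201 rfl
theorem L71207 : sm gd N2449 = N5091 := trfs L71198 (flp_d L24639) rfl
theorem L71208 : N5091 = N5075 := eqes L71207 (flp_d L24561)
theorem L71209 : N5091 = N5075 := eqc rfl L71208 rfl
theorem L71212 : sm ga N5075 = N5090 := trfs L71209 L24637 rfl
theorem L71213 : N5090 = N2453 := eqes L71212 L24559
theorem L71214 : N5090 = N2453 := eqc rfl L71213 rfl
theorem L71215 : sm gf N5075 = N2454 := trfs L71209 (flp_f L24635) rfl
theorem L71216 : N2454 = N2447 := eqes L71215 (flp_f L24557)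
theorem L71217 : N2454 = N2447 := eqc rfl L71216 rfl
theorem L71219 : sm ga N2447 = N5076 := trfs L71217 (flp_a L24565) rfl
theorem L71220 : N5076 = N1192 := eqes L71219 L11812
theorem L71221 : N5076 = N1192 := eqc rfl L71220 rfl
theorem L71228 : sm ge N2447 = N5088 := trfs L71217 (flp_e L24621) rfl
theorem L71229 : N5088 = N5074 := eqes L71228 L24553
theorem L71230 : N5088 = N5074 := eqc rfl L71229 rfl
theorem L71235 : sm gg N5074 = N2452 := trfs L71230 (flp_g L24619) rfl
theorem L71243 : sm gg N1192 = N2447 := trfs L71221 (flp_g L24563) rfl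
theorem L71255 : sm gg N2453 = N2453 := trfs L71214 (flp_g L24629) rfl
theorem L71263 : sm gg N1194 = N1194 := trfs L71202 (flp_g L11863) rfl
theorem L71266 : sm gg N2456 = N2456 := trfs L71194 (flp_g L24659) rfl
theorem L71267 : sm gb N5077 = N4896 := trfs L71185 L56694 rfl
theorem L71269 : sm gg N5077 = N2455 := trfs L71185 (flp_g L24649) rfl
theorem L71272 : sm gg N1193 = N2448 := trfs L71179 (flp_g L24580) rfl
theorem L71276 : sm gb N1191 = N1172 := trfs L71163 (flp_b L65554) rfl
theorem L71279 : sm gg N1191 = N600 := trfs L71163 (flp_g L5862) rfl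
theorem L71281 : sm gb N2404 = N2893 := trfs L71125 (flp_b L28957) rfl
theorem L71282 : N2893 = N4989 := eqes L71281 L24162
theorem L71283 : N4989 = N2893 := (eqc rfl L71282 rfl).symm
theorem L71284 : sm gb N2893 = N2404 := trfs L71283 (flp_b L24162) rfl
theorem L71298 : sm gg N2397 = N3344 := trfs L71121 L65616 rfl
theorem L71309 : sm ga N2266 = N4706 := trfs L71070 (flp_a L47180) rfl
theorem L71313 : sm ga N4788 = N2315 := trfs L71063 L23201 rfl
theorem L71315 : sm ga N1128 = N2307 := trfs L71056 (flp_a L23141) rfl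
theorem L71322 : sm gg N9733 = N9733 := ded_21_2 (flp_c L47274) L51763 L47274
theorem L71324 : sm ga N7798 = N7798 := ded_7_5 (flp_b L37466) L17936 L8741 (flp_a L10273) L51773 L10273 (flp_b L8741) (flp_a L17936) L37466
theorem L71325 : sm gc N9261 = N9261 := ded_13_4 (flp_b L44936) (flp_c L21600) L51833 L21600 L44936
theorem L71327 : sm ga N7859 = N7859 := ded_7_5 L37972 L18063 L8793 (flp_a L10401) L51833 L10401 (flp_b L8793) (flp_a L18063) (flp_b L37972)
theorem L71328 : sm gg N4804 = N4804 := ded_21_2 (flp_c L23211) L51850 L23211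
theorem L71339 : N8622 = N1180 := coi_31_12 L11688 L11692 L23379 L23381 L51873 (flp_b L11274) (flp_g L5597) (flp_f L2881) L1464 (flp_g L1289) L2528 L4852 L9591 L19866 L41751
theorem L71340 : N8622 = N1180 := eqc rfl L71339 rfl
theorem L71341 : sm gb N1180 = N4144 := trfs L71340 (flp_b L41751) rfl
theorem L71342 : N4144 = N2425 := eqes L71341 L11686
theorem L71343 : N4144 = N2425 := eqc rfl L71342 rfl
theorem L71357 : sm ga N2425 = N4068 := trfs L71343 L19868 rfl
theorem L71358 : N4068 = N5031 := eqes L71357 L24336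
theorem L71359 : N5031 = N4068 := (eqc rfl L71358 rfl).symm
theorem L71360 : sm gc N2425 = N4019 := trfs L71343 L19870 rfl
theorem L71361 : N4019 = N5032 := eqes L71360 L24338
theorem L71362 : N5032 = N4019 := (eqc rfl L71361 rfl).symm
theorem L71363 : sm gd N2425 = N8616 := trfs L71343 (flp_d L41735) rfl
theorem L71364 : N8616 = N5021 := eqes L71363 (flp_d L24290)
theorem L71365 : N8616 = N5021 := eqc rfl L71364 rfl
theorem L71366 : sm ge N2425 = N8558 := trfs L71343 (flp_e L41466) rfl
theorem L71367 : N8558 = N4915 := eqes L71366 (flp_e L23769)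
theorem L71368 : N8558 = N4915 := eqc rfl L71367 rfl
theorem L71369 : sm gf N2425 = N1987 := trfs L71343 (flp_f L19866) rfl
theorem L71370 : N1987 = N5033 := eqes L71369 L24340
theorem L71371 : N5033 = N1987 := (eqc rfl L71370 rfl).symm
theorem L71372 : sm gg N2425 = N4067 := trfs L71343 L19872 rfl
theorem L71373 : N4067 = N5034 := eqes L71372 L24342
theorem L71374 : N5034 = N4067 := (eqc rfl L71373 rfl).symm
theorem L71375 : sm gg N4067 = N2425 := trfs L71374 (flp_g L24342) rfl
theorem L71377 : sm gf N1987 = N2425 := trfs L71371 (flp_f L24340) rfl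
theorem L71379 : sm ga N4915 = N8333 := trfs L71368 L41462 rfl
theorem L71381 : sm gc N4915 = N8290 := trfs L71368 L41464 rfl
theorem L71383 : sm gf N4915 = N4112 := trfs L71368 (flp_f L41460) rfl
theorem L71385 : sm gg N4915 = N8332 := trfs L71368 L41468 rfl
theorem L71387 : sm ga N5021 = N8471 := trfs L71365 L41733 rfl
theorem L71389 : sm gf N5021 = N4141 := trfs L71365 (flp_f L41731) rfl
theorem L71391 : sm gg N5021 = N8469 := trfs L71365 L41737 rfl
theorem L71393 : sm gb N4019 = N6102 := trfs L71362 (flp_b L29538) rfl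
theorem L71394 : N6102 = N8394 := eqes L71393 L40639
theorem L71395 : N8394 = N6102 := (eqc rfl L71394 rfl).symm
theorem L71396 : sm gc N4019 = N2425 := trfs L71362 (flp_c L24338) rfl
theorem L71402 : sm gf N6102 = N4020 := trfs L71395 L40641 rfl
theorem L71404 : sm ga N4068 = N2425 := trfs L71359 (flp_a L24336) rfl
theorem L71406 : sm gb N4068 = N8425 := trfs L71359 (flp_b L40789) rfl
theorem L71407 : N8425 = N6163 := eqes L71406 (flp_b L29784)
theorem L71408 : N8425 = N6163 := eqc rfl L71407 rfl
theorem L71409 : sm ga N6163 = N4033 := trfs L71408 (flp_a L40787) rfl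
theorem L71413 : N7858 = N3762 := coi_7_6 (flp_b L18059) L8787 L4495 (flp_a L5239) L51875 L5239 (flp_b L4495) (flp_a L8787) L18059 L37968
theorem L71414 : N7858 = N3762 := eqc rfl L71413 rfl
theorem L71415 : sm ga N3762 = N3762 := trfs L71414 (flp_a L37968) rfl
theorem L71426 : sm gf N9685 = N9686 := ded_30_8 (flp_c L47011) (flp_b L22629) L10888 L10918 L10922 L10928 (flp_a L70641) (flp_f L6542) L6537 L6541 (flp_a L13291) (flp_f L52055) (flp_c L22698) (flp_b L10928) L5464 (flp_f L5450) (flp_c L10890) L22629 L47007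
theorem L71430 : sm gf N9187 = N6023 := ded_25_2 L29184 L52101 (flp_e L44617)
theorem L71434 : N1436 = N5041 := coi_31_6 (flp_g L24368) (flp_f L11710) (flp_b L5797) (flp_g L3009) (flp_f L1538) (flp_b L1464) (flp_g L2723) L5247 L10417 L21650 (flp_f L52101) (flp_b L14290) (flp_g L6976) L6973 L6975
theorem L71435 : N5041 = N1436 := (eqc rfl L71434 rfl).symm
theorem L71442 : sm gf N1436 = N5036 := trfs L71435 (flp_f L24374) rfl
theorem L71443 : N5036 = N714 := eqes L71442 (flp_f L6973)
theorem L71444 : N5036 = N714 := eqc rfl L71443 rfl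
theorem L71447 : sm ga N714 = N2427 := trfs L71444 (flp_a L24346) rfl
theorem L71448 : N2427 = N1434 := eqes L71447 L6967
theorem L71449 : N2427 = N1434 := eqc rfl L71448 rfl
theorem L71453 : sm gg N714 = N2429 := trfs L71444 L24350 rfl
theorem L71454 : N2429 = N1437 := eqes L71453 L6976
theorem L71455 : N2429 = N1437 := eqc rfl L71454 rfl
theorem L71463 : sm gd N1437 = N5028 := trfs L71455 (flp_d L24326) rfl
theorem L71464 : N5028 = N2962 := eqes L71463 (flp_d L14284)
theorem L71465 : N5028 = N2962 := eqc rfl L71464 rfl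
theorem L71466 : sm ge N1437 = N4919 := trfs L71455 (flp_e L23799) rfl
theorem L71467 : N4919 = N2914 := eqes L71466 (flp_e L14079)
theorem L71468 : N4919 = N2914 := eqc rfl L71467 rfl
theorem L71477 : sm ga N2914 = N2369 := trfs L71468 (flp_a L23795) rfl
theorem L71478 : N2369 = N6017 := eqes L71477 (flp_a L29155)
theorem L71479 : N6017 = N2369 := (eqc rfl L71478 rfl).symm
theorem L71480 : sm gc N2914 = N2911 := trfs L71468 L23797 rfl
theorem L71481 : N2911 = N4917 := eqes L71480 L23785
theorem L71482 : N4917 = N2911 := (eqc rfl L71481 rfl).symm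
theorem L71483 : sm gb N2911 = N2368 := trfs L71482 (flp_b L23779) rfl
theorem L71484 : N2368 = N6014 := eqes L71483 L29139
theorem L71485 : N6014 = N2368 := (eqc rfl L71484 rfl).symm
theorem L71486 : sm gc N2911 = N2914 := trfs L71482 (flp_c L23785) rfl
theorem L71491 : sm gb N2368 = N2911 := trfs L71485 (flp_b L29139) rfl
theorem L71493 : sm ge N2368 = N2955 := trfs L71485 L29141 rfl
theorem L71494 : N2955 = N1181 := eqes L71493 L11442
theorem L71495 : N2955 = N1181 := eqc rfl L71494 rfl
theorem L71496 : sm ga N1181 = N5939 := trfs L71495 (flp_a L28775) rfl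
theorem L71497 : N5939 = N2426 := eqes L71496 (flp_a L11690)
theorem L71498 : N5939 = N2426 := eqc rfl L71497 rfl
theorem L71504 : sm gd N1181 = N6108 := trfs L71495 L29550 rfl
theorem L71505 : N6108 = N2423 := eqes L71504 (flp_d L11680)
theorem L71506 : N6108 = N2423 := eqc rfl L71505 rfl
theorem L71513 : sm gb N2423 = N2956 := trfs L71506 L29552 rfl
theorem L71514 : N2956 = N5026 := eqes L71513 L24310
theorem L71515 : N5026 = N2956 := (eqc rfl L71514 rfl).symm
theorem L71516 : sm gb N2956 = N2423 := trfs L71515 (flp_b L24310) rfl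
theorem L71519 : sm gg N2956 = N2424 := trfs L71515 L24314 rfl
theorem L71520 : N2424 = N6114 := eqes L71519 L29572
theorem L71521 : N6114 = N2424 := (eqc rfl L71520 rfl).symm
theorem L71528 : sm gg N2424 = N2956 := trfs L71521 (flp_g L29572) rfl
theorem L71535 : sm gb N2426 = N2876 := trfs L71498 (flp_b L28773) rfl
theorem L71536 : N2876 = N5035 := eqes L71535 L24344
theorem L71537 : N5035 = N2876 := (eqc rfl L71536 rfl).symm
theorem L71538 : sm gb N2876 = N2426 := trfs L71537 (flp_b L24344) rfl
theorem L71540 : sm ga N2369 = N2914 := trfs L71479 L29155 rfl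
theorem L71546 : sm gg N2369 = N2911 := trfs L71479 (flp_g L29153) rfl
theorem L71553 : sm ga N2962 = N2424 := trfs L71465 (flp_a L24324) rfl
theorem L71563 : sm gb N1434 = N1181 := trfs L71449 (flp_b L11694) rfl
theorem L71565 : sm gc N1434 = N1437 := trfs L71449 (flp_c L11698) rfl
theorem L71582 : sm gg N5990 = N5696 := ded_26_2 L27566 L52130 (flp_e L29014)
theorem L71584 : sm gg N6067 = N5841 := ded_17_4 (flp_b L28333) L52130 (flp_b L14171) L14175 L29394
theorem L71589 : N6101 = N8496 := coi_7_8 (flp_b L41156) (flp_a L59156) L18097 L52135 (flp_b L6938) L3562 L3578 L6959 L14239 L29534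
theorem L71590 : N8496 = N6101 := (eqc rfl L71589 rfl).symm
theorem L71591 : sm gb N6101 = N4079 := trfs L71590 (flp_b L41156) rfl
theorem L71593 : sm gc N6101 = N4082 := trfs L71590 L41158 rfl
theorem L71595 : sm ga N5990 = N9186 := ded_11_3 L44611 L52149 (flp_f L29016)
theorem L71597 : sm ga N8334 = N6043 := ded_7_3 (flp_b L29285) (flp_a L14130) (flp_b L6908) (flp_a L6888) L14103 L29233 L52154 (flp_a L19115) L40281
theorem L71599 : sm ga N5690 = N6023 := ded_29_4 (flp_f L71430) (flp_g L44615) (flp_f L52159) L52161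
theorem L71603 : N6055 = N6104 := coi_17_4 (flp_g L29542) (flp_b L14239) L52216 (flp_b L14142) L14152 L29341
theorem L71604 : N6104 = N6055 := (eqc rfl L71603 rfl).symm
theorem L71605 : sm gg N6055 = N2952 := trfs L71604 (flp_g L29542) rfl
theorem L71607 : sm ga N6124 = N5826 := ded_9_3 (flp_d L28269) L52236 (flp_d L29613)
theorem L71609 : sm ga N8472 = N6156 := ded_7_3 (flp_b L29750) (flp_a L14350) (flp_b L7010) (flp_a L6985) L14310 L29644 L52256 (flp_a L19489) L41044
theorem L71611 : N6162 = N4069 := coi_7_8 (flp_b L19501) L9403 L52262 (flp_a L14314) (flp_b L6991) L3591 L3607 L7014 L14360 L29780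
theorem L71612 : N6162 = N4069 := eqc rfl L71611 rfl
theorem L71613 : sm ga N4069 = N2981 := trfs L71612 (flp_a L29780) rfl
theorem L71614 : N2981 = N8474 := eqes L71613 L41050
theorem L71615 : N8474 = N2981 := (eqc rfl L71614 rfl).symm
theorem L71616 : sm ga N2981 = N4069 := trfs L71615 (flp_a L41050) rfl
theorem L71630 : sm gf N7788 = N6902 := ded_25_2 L33300 L52602 (flp_e L37410)
theorem L71637 : sm gb N8051 = N8074 := ded_31_8 (flp_g L59946) L18567 (flp_b L9005) L4583 (flp_f L3993) (flp_b L3943) L7655 L52786 L15589 L15593 L15848 (flp_b L18535) L39016 (flp_f L39022)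
theorem L71640 : sm gc N8007 = N8009 := ded_28_4 L38734 L18433 L8971 L4579 L54640 (flp_d L8955) (flp_c L18419) (flp_d L38722)
theorem L71644 : sm gb N8234 = N8257 := ded_31_8 (flp_g L59974) L18911 (flp_b L9155) L4643 (flp_f L4019) (flp_b L3955) L7691 L54955 L15665 L15669 L15948 (flp_b L18883) L39787 (flp_f L39793)
theorem L71652 : sm gf N8907 = N8045 := ded_25_2 L38944 L55497 L43230
theorem L71660 : sm ga N8068 = N8045 := ded_10_3 L38944 L55519 (flp_e L39060)
theorem L71664 : sm gb N8406 = N4834 := ded_31_11 (flp_g L24322) (flp_f L24316) (flp_b L71516) (flp_g L71528) L24330 L56862 L71255 (flp_f L11837) L5852 L65544 (flp_f L4827) (flp_b L9349) (flp_g L19315) L40683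
theorem L71668 : sm gg N8352 = N8352 := ded_24_2 L40375 L57926 (flp_d L40375)
theorem L71669 : sm gc N4753 = N4753 := ded_30_13 L22973 L11066 (flp_f L10339) L69595 L5537 (flp_a L5711) (flp_f L5827) L5825 L57934 L5711 (flp_f L4813) L4811 (flp_b L5537) (flp_a L11066) (flp_f L21487) (flp_c L69100) (flp_b L22973) L64842 L22975
theorem L71670 : sm gc N4861 = N4861 := ded_13_4 (flp_b L23493) (flp_c L11314) L58111 L11314 L23493
theorem L71671 : sm ga N5053 = N5053 := ded_8_3 (flp_c L24443) L58126 L24443
theorem L71672 : sm ga N5051 = N5051 := ded_10_3 L24436 L58126 (flp_e L24436)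
theorem L71673 : sm ga N5054 = N5054 := ded_12_3 (flp_g L24445) L58126 L24445
theorem L71674 : sm gf N5053 = N5053 := ded_20_2 (flp_c L24443) L58128 L24443
theorem L71675 : sm gf N5051 = N5051 := ded_25_2 L24436 L58128 (flp_e L24436)
theorem L71677 : sm gf N7779 = N7779 := ded_16_4 (flp_b L37359) L17894 L58194 (flp_f L17894) L37359
theorem L71678 : sm gc N7779 = N7779 := ded_13_4 (flp_b L37359) (flp_c L17888) L58266 L17888 L37359
theorem L71679 : sm gf N7625 = N7625 := ded_20_2 (flp_c L36618) L58414 L36618
theorem L71680 : sm gf N7599 = N7599 := ded_25_2 L36504 L58414 (flp_e L36504)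
theorem L71682 : sm ga N7625 = N7625 := ded_8_3 (flp_c L36618) L58422 L36618
theorem L71683 : sm ga N7599 = N7599 := ded_10_3 L36504 L58422 (flp_e L36504)
theorem L71687 : N783 = N8727 := coi_32_75 (flp_d L42291) L70020 L20107 (flp_e L20104) (flp_d L9703) (flp_c L4932) (flp_d L2570) L70089 (flp_b L1331) L1334 L1338 (flp_d L1334) (flp_c L1166) L58509 L2258 (flp_c L2262) (flp_d L1168) L546 (flp_b L277) L279 (flp_c L283) (flp_d L157) (flp_c L80) L42 (flp_d L30) (flp_c L20) (flp_d L13) L10 L9 (flp_e L6) L3 L2 L3 L2 L1 L3 L2 L3 L2 L1 L3 L2 L3 L2 L1 L3 L2 L3 L2 L1 L3 L2 L3 L2 L1 L6 L13 L20 L30 L35 (flp_b L42) (flp_d L40) L29 L40 L80 L82 L157 L283 (flp_d L279) (flp_c L130) (flp_b L122) (flp_d L120) L65207 L212 L475 L1022 L2046 L3939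
theorem L71688 : N8727 = N783 := (eqc rfl L71687 rfl).symm
theorem L71691 : sm gd N783 = N4195 := trfs L71688 (flp_d L42291) rfl
theorem L71692 : N4195 = N1566 := eqes L71691 L7631
theorem L71693 : N4195 = N1566 := eqc rfl L71692 rfl
theorem L71694 : sm ge N783 = N4198 := trfs L71688 L42295 rfl
theorem L71695 : N4198 = N1567 := eqes L71694 L7633
theorem L71696 : N4198 = N1567 := eqc rfl L71695 rfl
theorem L71702 : sm gd N1567 = N2011 := trfs L71696 (flp_d L20118) rfl
theorem L71703 : N2011 = N3226 := eqes L71702 L15529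
theorem L71704 : N3226 = N2011 := (eqc rfl L71703 rfl).symm
theorem L71706 : sm gg N1567 = N8735 := trfs L71696 L42332 rfl
theorem L71707 : N8735 = N3228 := eqes L71706 L15537
theorem L71708 : N8735 = N3228 := eqc rfl L71707 rfl
theorem L71710 : sm gd N3228 = N4200 := trfs L71708 L42335 rfl
theorem L71711 : N4200 = N6692 := eqes L71710 (flp_d L32266)
theorem L71712 : N6692 = N4200 := (eqc rfl L71711 rfl).symm
theorem L71714 : sm gd N4200 = N3228 := trfs L71712 L32266 rfl
theorem L71722 : sm gd N2011 = N1567 := trfs L71704 (flp_d L15529) rfl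
theorem L71752 : sm ge N1566 = N2010 := trfs L71693 (flp_e L20104) rfl
theorem L71755 : sm gf N8133 = N8133 := ded_16_4 (flp_b L39340) (flp_f L18677) L58904 L18677 L39340
theorem L71757 : sm gb N8058 = N8058 := ded_14_3 (flp_d L39008) L58920 L39008
theorem L71759 : sm gg N8079 = N8079 := ded_21_2 (flp_c L39110) L59052 L39110
theorem L71760 : sm gg N8035 = N8035 := ded_24_2 L38892 L59052 (flp_d L38892)
theorem L71762 : sm gg N8081 = N8081 := ded_24_2 (flp_d L39124) L59077 L39124
theorem L71765 : sm gf N8174 = N7728 := ded_20_2 (flp_c L37129) L59108 L39521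
theorem L71767 : sm gf N8078 = N7692 := ded_25_2 L36975 L59108 (flp_e L39108)
theorem L71777 : sm gb N8034 = N8025 := ded_14_3 L38826 L59299 (flp_d L38884)
theorem L71789 : sm ga N8261 = N7771 := ded_7_7 (flp_b L37319) (flp_a L18915) L59391 (flp_a L18873) (flp_b L9141) (flp_a L4639) L9155 L18921 L39863
theorem L71791 : sm gb N8403 = N5972 := ded_14_3 L28935 L59415 L40669
theorem L71801 : sm gg N8426 = N6156 := ded_24_2 L29752 L59423 L40791
theorem L71803 : sm gg N8304 = N6043 := ded_26_2 L29287 L59423 (flp_e L40099)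
theorem L71813 : N5942 = N8473 := coi_31_5 (flp_b L41048) L71375 (flp_f L71377) L9595 L9329 L9351 L9355 L11628 (flp_f L11630) (flp_b L71159) L59448 L67392 (flp_b L59465) (flp_g L59479) (flp_f L59483)
theorem L71814 : N8473 = N5942 := (eqc rfl L71813 rfl).symm
theorem L71815 : sm gb N5942 = N4067 := trfs L71814 (flp_b L41048) rfl
theorem L71821 : sm gg N5945 = N9217 := ded_24_2 (flp_d L44763) L59479 (flp_d L28797)
theorem L71823 : sm gg N5751 = N9156 := ded_26_2 L44448 L59479 (flp_e L27898)
theorem L71829 : sm gc N7831 = N5941 := ded_21_3 (flp_g L28815) L59487 (flp_g L37669)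
theorem L71831 : sm gc N5751 = N7784 := ded_19_3 L37388 L59489 (flp_e L27898)
theorem L71833 : sm gf N7830 = N5930 := ded_23_2 (flp_d L28743) L59500 (flp_d L37663)
theorem L71835 : sm gf N7784 = N5745 := ded_25_2 L27868 L59500 (flp_e L37388)
theorem L71850 : sm gf N7845 = N8448 := ded_25_2 (flp_e L40909) L59838 L37731
theorem L71856 : sm gc N8304 = N8334 := ded_19_3 L40283 L59847 (flp_e L40099)
theorem L71862 : sm gg N9236 = N5828 := ded_21_2 (flp_c L28281) L59867 (flp_c L44839)
theorem L71868 : N6103 = N8396 := coi_30_5 (flp_c L40649) (flp_b L19303) L9317 (flp_f L9295) L9293 L9297 L66087 (flp_f L68146) (flp_c L5039) (flp_b L2623) L1349 L1390 (flp_c L2328) L4499 L8805 (flp_f L59920) L19545 (flp_b L71591) (flp_a L29534) L29540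
theorem L71869 : N8396 = N6103 := (eqc rfl L71868 rfl).symm
theorem L71870 : sm gb N6103 = N4027 := trfs L71869 L40651 rfl
theorem L71872 : sm gc N6103 = N4020 := trfs L71869 (flp_c L40649) rfl
theorem L71879 : sm gg N8262 = N8262 := ded_21_2 (flp_c L39867) L59997 L39867
theorem L71885 : sm gf N8072 = N8072 := ded_16_4 (flp_b L39072) (flp_f L18557) L60412 L18557 L39072
theorem L71887 : sm gb N8070 = N8070 := ded_15_3 (flp_e L39064) L60419 L39064
theorem L71890 : sm gb N8461 = N4826 := ded_15_3 (flp_e L23313) L60445 L40984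
theorem L71896 : sm gc N6235 = N6275 := ded_19_3 L30338 L61709 (flp_e L30131)
theorem L71912 : sm gc N7595 = N7595 := ded_13_4 (flp_b L36475) (flp_c L17471) L62414 L17471 L36475
theorem L71913 : sm gg N7600 = N7600 := ded_17_4 (flp_b L36506) (flp_g L17485) L62414 L17485 L36506
theorem L71914 : sm gc N7619 = N7619 := ded_8_2 (flp_a L36604) L62449 L36604
theorem L71915 : sm gc N7620 = N7620 := ded_20_3 (flp_f L36606) L62449 L36606
theorem L71916 : sm gc N7621 = N7621 := ded_21_3 (flp_g L36608) L62449 L36608
theorem L71917 : N9048 = N9049 := coi_28_0 (flp_c L43954) L43958 (flp_c L43962) L21145 L62449 (flp_d L21145) L43962 (flp_d L43958) L43952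
theorem L71918 : N9049 = N9048 := (eqc rfl L71917 rfl).symm
theorem L71919 : sm gb N9048 = N4621 := trfs L71918 L43956 rfl
theorem L71923 : sm gd N6708 = N8749 := ded_28_3 L42397 L20164 (flp_c L20132) L71714 L63065 L15539 (flp_d L15573) (flp_c L32330)
theorem L71925 : N6706 = N4204 := coi_28_4 (flp_c L20149) (flp_d L9723) (flp_c L9711) L71722 L63078 L7635 L7645 L15561 L32320
theorem L71926 : N6706 = N4204 := eqc rfl L71925 rfl
theorem L71927 : sm gd N4204 = N3233 := trfs L71926 (flp_d L32320) rfl
theorem L71928 : N3233 = N8747 := eqes L71927 L42384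
theorem L71929 : N8747 = N3233 := (eqc rfl L71928 rfl).symm
theorem L71931 : sm gd N3233 = N4204 := trfs L71929 (flp_d L42384) rfl
theorem L71934 : N9310 = N4507 := coi_32_64 (flp_c L21720) (flp_d L10467) (flp_c L9969) (flp_b L9965) L9971 L20383 (flp_d L20379) (flp_c L9813) (flp_b L9726) (flp_d L9723) (flp_c L9711) L71722 L7635 L3943 (flp_e L2061) (flp_d L1025) (flp_c L475) (flp_d L212) (flp_c L65207) (flp_b L61) L64 L130 L279 (flp_c L283) L159 (flp_d L157) (flp_c L80) (flp_d L40) L29 (flp_b L26) L30 L35 (flp_d L30) (flp_c L20) L16 (flp_d L13) L10 L13 L20 L26 L28 L40 L80 L157 L283 (flp_b L640) (flp_d L638) (flp_c L546) L1168 L2262 L58500 (flp_d L2258) L1166 L1334 L1338 (flp_b L2573) (flp_d L2570) L70089 L2570 L4932 L4935 L9703 L70014 (flp_d L9703) (flp_c L4932) L2573 L2586 L4979 L9813 L20379 (flp_c L20383) (flp_b L20731) (flp_d L20729) L9969 L10467 L21720 L21724 L45158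
theorem L71935 : N9310 = N4507 := eqc rfl L71934 rfl
theorem L71937 : sm gd N4507 = N4507 := trfs L71935 (flp_d L45158) rfl
theorem L71940 : sm gb N5018 = N8609 := ded_15_3 L41701 L63896 (flp_e L24278)
theorem L71942 : sm gb N8463 = N4828 := ded_14_3 (flp_d L23327) L63907 L40998
theorem L71950 : sm gb N8081 = N8081 := ded_14_3 (flp_d L39124) L64285 L39124
theorem L71952 : sm gf N8222 = N8222 := ded_20_2 (flp_c L39701) L64657 L39701
theorem L71953 : sm gf N8018 = N8018 := ded_25_2 L38780 L64657 (flp_e L38780)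
theorem L71966 : sm ga N9676 = N9676 := ded_8_3 (flp_c L46953) L64844 L46953
theorem L71967 : sm gc N7821 = N7821 := ded_13_4 L37614 L69576 L64871 (flp_c L69576) (flp_b L37614)
theorem L71968 : sm gf N7821 = N7821 := ded_16_4 L37614 L17993 L64871 (flp_f L17993) (flp_b L37614)
theorem L71969 : sm gb N8276 = N8276 := ded_14_3 L39955 L64880 (flp_d L39955)
theorem L71976 : sm gg N8348 = N8348 := ded_12_2 L40353 L64985 (flp_a L40353)
theorem L71977 : sm gg N8351 = N8351 := ded_21_2 (flp_c L40369) L64985 L40369
theorem L71982 : sm gc N4892 = N6899 := ded_19_3 L33282 L71141 (flp_e L23665)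
theorem L71986 : sm gb N6739 = N6739 := ded_16_3 (flp_f L32492) (flp_b L15639) L65919 L15639 L32492
theorem L71992 : sm ga N8018 = N8018 := ded_9_3 L38778 L66123 (flp_d L38778)
theorem L71994 : sm ga N8222 = N8222 := ded_8_3 (flp_c L39701) L66149 L39701
theorem L71995 : sm gb N5883 = N6789 := ded_14_3 (flp_d L32749) L66375 (flp_d L28541)
theorem L72006 : sm gg N8036 = N8036 := ded_21_2 (flp_c L38896) L67093 L38896
theorem L72007 : sm gg N8264 = N8264 := ded_24_2 (flp_d L39879) L67099 L39879
theorem L72008 : sm gc N6809 = N6809 := ded_13_4 (flp_b L32844) L15804 L67100 (flp_c L15804) L32844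
theorem L72009 : sm gc N6864 = N6864 := ded_8_2 (flp_a L33108) L67117 L33108
theorem L72010 : sm gc N6860 = N6860 := ded_20_3 L33086 L67117 (flp_f L33086)
theorem L72011 : sm gc N6866 = N6866 := ded_21_3 (flp_g L33116) L67117 L33116
theorem L72022 : sm ga N8162 = N8133 := ded_30_15 L71755 L39342 (flp_b L33052) (flp_a L33034) (flp_f L33032) (flp_c L15886) L15882 L67359 (flp_f L17760) L17758 (flp_b L17796) (flp_a L37131) (flp_f L71765) (flp_c L39521) (flp_b L18757) (flp_a L9093) (flp_f L9083) L18745 (flp_b L39473)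
theorem L72033 : sm gf N7791 = N8319 := ded_23_2 (flp_d L40195) L67430 L37426
theorem L72035 : sm gg N7628 = N7628 := ded_21_2 (flp_c L36628) L67432 L36628
theorem L72037 : sm gg N9194 = N9194 := ded_21_2 (flp_c L44653) L67553 L44653
theorem L72039 : sm gg N9143 = N9143 := ded_12_2 L44379 L67586 (flp_a L44379)
theorem L72040 : sm gg N9144 = N9144 := ded_24_2 (flp_d L44381) L67586 L44381
theorem L72041 : sm gg N8956 = N8956 := ded_26_2 L43510 L67586 (flp_e L43510)
theorem L72048 : sm gf N9290 = N5850 := ded_29_2 (flp_g L28389) L28377 L67645 L45060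
theorem L72050 : sm gc N9192 = N5701 := ded_19_3 L27594 L67648 (flp_e L44647)
theorem L72052 : sm gc N9290 = N5850 := ded_21_3 (flp_g L28389) L67648 L45060
theorem L72054 : sm ga N9290 = N6067 := ded_12_3 L71584 L67650 L45060
theorem L72056 : sm gc N4816 = N9227 := ded_8_2 (flp_a L44805) L67731 L23271
theorem L72058 : sm gc N4808 = N9229 := ded_20_3 (flp_f L44811) L67731 (flp_f L23227)
theorem L72060 : sm gc N4818 = N9230 := ded_21_3 (flp_g L44813) L67731 L23277
theorem L72067 : sm gg N9720 = N5739 := ded_21_2 (flp_c L27830) L67819 L47202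
theorem L72081 : sm gf N5374 = N5423 := ded_23_2 L26325 L68651 L26113
theorem L72087 : N5435 = N2610 := coi_31_14 (flp_b L12633) L12643 L68651 L12531 L6193 L6217 L12599 L26263 L70934 (flp_b L26442) (flp_g L26440) (flp_f L26408) (flp_b L26406) L26410 (flp_f L26412)
theorem L72088 : N5435 = N2610 := eqc rfl L72087 rfl
theorem L72089 : sm ga N2610 = N2620 := trfs L72088 L26391 rfl
theorem L72090 : N2620 = N5416 := eqes L72089 L26299
theorem L72091 : N5416 = N2620 := (eqc rfl L72090 rfl).symm
theorem L72108 : sm gc N2620 = N2617 := trfs L72091 L26301 rfl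
theorem L72116 : sm gb N8968 = N9389 := ded_15_3 L45619 L69031 (flp_e L43575)
theorem L72118 : sm gc N4773 = N4759 := ded_21_3 (flp_g L23004) L69100 (flp_g L23078)
theorem L72120 : sm gc N8371 = N8388 := ded_21_3 L40611 L69202 L40507
theorem L72122 : sm ge N7760 = N8046 := ded_19_2 (flp_c L38946) L69297 L37269
theorem L72126 : sm gc N8041 = N7603 := ded_19_3 L36524 L69414 (flp_e L38922)
theorem L72128 : sm gf N8046 = N8019 := ded_20_2 (flp_c L38782) L69486 L38946
theorem L72130 : sm ga N8046 = N7672 := ded_8_3 (flp_c L36859) L69494 L38946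
theorem L72132 : sm gb N9212 = N4775 := ded_13_3 (flp_c L23086) (flp_b L11119) L69635 L21513 L44745
theorem L72134 : sm ge N9116 = N9390 := ded_15_2 (flp_b L45621) L69681 L44250
theorem L72136 : sm gf N9348 = N9391 := ded_23_2 (flp_d L45625) L69683 L45381
theorem L72138 : sm gc N8859 = N8859 := ded_8_2 (flp_a L42966) L69978 L42966
theorem L72139 : sm gc N8851 = N8851 := ded_20_3 L42926 L69978 (flp_f L42926)
theorem L72140 : sm gc N8861 = N8861 := ded_21_3 (flp_g L42972) L69978 L42972
theorem L72148 : sm gb N8060 = N7692 := ded_15_3 L36975 L70253 (flp_e L39020)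
theorem L72150 : sm gf N9551 = N9552 := ded_30_12 (flp_c L46387) (flp_b L22313) L10739 (flp_f L5398) (flp_c L5127) (flp_b L5125) (flp_a L5009) L9873 L9877 L70341 L5013 (flp_f L2671) L2669 L5125 L10137 L21097 L21101 L22313 L46383
theorem L72152 : sm gb N8323 = N9166 := ded_14_3 L44498 L70346 (flp_d L40219)
theorem L72156 : sm gg N9166 = N5691 := ded_24_2 (flp_d L27538) L70358 (flp_d L44498)
theorem L72158 : sm gg N5390 = N9017 := ded_24_2 L43818 L70475 L26191
theorem L72170 : sm gf N5412 = N5491 := ded_16_2 (flp_b L26642) (flp_f L12801) L12795 L70707 L26281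
theorem L72176 : sm gb N9211 = N4956 := ded_14_3 L24008 L70894 (flp_d L44743)
theorem L72185 : N4818 = N9227 := coi_30_19 (flp_a L44805) L44811 (flp_c L72058) (flp_b L23225) (flp_a L71044) (flp_f L23149) L11162 (flp_b L5567) L2869 L2881 L2883 (flp_b L1755) (flp_a L3434) (flp_f L3432) L3428 L6679 L13642 L28307 L28311 (flp_b L23279)
theorem L72186 : N9227 = N4818 := (eqc rfl L72185 rfl).symm
theorem L72189 : sm gc N4818 = N4816 := trfs L72186 (flp_c L72056) rfl
theorem L72190 : N4816 = N9230 := eqes L72189 L72060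
theorem L72191 : N9230 = N4816 := (eqc rfl L72190 rfl).symm
theorem L72194 : sm gg N4816 = N4466 := trfs L72191 (flp_g L44813) rfl
theorem L72196 : sm gb N5971 = N4986 := ded_15_3 (flp_e L24146) L71111 (flp_e L28929)
theorem L72204 : sm gg N5093 = N5093 := ded_24_2 L24647 L71266 (flp_d L24647)
theorem L72210 : sm ga N9029 = N9029 := ded_28_8 L43870 (flp_d L44938) L71325 L44938 L43870 (flp_d L44938) L71325 L44938
theorem L72215 : sm gb N6015 = N4913 := ded_14_3 L23761 L71491 L29143
theorem L72219 : sm gb N5019 = N6112 := ded_15_3 (flp_e L29562) L71516 (flp_e L24282)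
theorem L72223 : sm gg N6111 = N5029 := ded_21_2 (flp_c L24328) L71528 L29558
theorem L72227 : sm ga N6021 = N4914 := ded_9_3 L23765 L71540 (flp_d L29174)
theorem L72229 : sm gg N6015 = N4914 := ded_24_2 L23765 L71546 L29143
theorem L72231 : sm ga N5029 = N6120 := ded_8_3 L29594 L71553 L24328
theorem L72235 : sm gf N5038 = N6115 := ded_16_4 (flp_b L29578) (flp_f L14263) L71563 L11700 L24356
theorem L72241 : N9541 = N8843 := coi_7_2 (flp_b L42894) (flp_a L20513) (flp_b L9865) L5009 L5125 L10137 L21089 L43952 L71919 (flp_a L46333)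
theorem L72242 : N9541 = N8843 := eqc rfl L72241 rfl
theorem L72243 : sm ga N8843 = N4621 := trfs L72242 L46333 rfl
theorem L72245 : sm gc N8843 = N4620 := trfs L72242 (flp_c L46331) rfl
theorem L72247 : sm ge N8773 = N6743 := ded_22_4 L32508 (flp_e L32332) L71923 L42399 (flp_d L42523)
theorem L72249 : sm gd N8746 = N6705 := ded_14_2 (flp_b L32314) L71931 L42378
theorem L72251 : N8771 = N3249 := coi_22_5 (flp_d L15643) (flp_e L15563) L71931 L20152 L20227 L42512
theorem L72252 : N8771 = N3249 := eqc rfl L72251 rfl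
theorem L72255 : sm ge N3249 = N4218 := trfs L72252 (flp_e L42512) rfl
theorem L72256 : N4218 = N6741 := eqes L72255 L32500
theorem L72257 : N6741 = N4218 := (eqc rfl L72256 rfl).symm
theorem L72261 : sm ge N4218 = N3249 := trfs L72257 (flp_e L32500) rfl
theorem L72264 : sm gd N9305 = N9305 := ded_9_2 L45130 L71937 (flp_a L45130)
theorem L72265 : sm gd N9311 = N9311 := ded_23_3 (flp_f L45161) L71937 L45161
theorem L72266 : sm gd N9312 = N9312 := ded_24_3 (flp_g L45167) L71937 L45167
theorem L72267 : sm ge N5150 = N5150 := ded_22_4 (flp_d L24905) (flp_e L21722) L71937 L21722 L24905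
theorem L72268 : N8917 = N2068 := coi_28_4 L9969 L10467 L21720 L71937 (flp_a L45130) (flp_c L45128) (flp_d L21702) (flp_c L20725) L43282
theorem L72269 : N8917 = N2068 := eqc rfl L72268 rfl
theorem L72270 : sm ga N2068 = N4306 := trfs L72269 L43284 rfl
theorem L72271 : N4306 = N4305 := eqes L72270 L20723
theorem L72272 : N4306 = N4305 := eqc rfl L72271 rfl
theorem L72275 : sm gb N4305 = N2069 := trfs L72272 L20731 rfl
theorem L72276 : N2069 = N8916 := eqes L72275 L43278
theorem L72277 : N8916 = N2069 := (eqc rfl L72276 rfl).symm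
theorem L72281 : sm gd N4305 = N2068 := trfs L72272 (flp_d L20729) rfl
theorem L72283 : sm ge N4305 = N8921 := trfs L72272 L43304 rfl
theorem L72284 : N8921 = N2100 := eqes L72283 L20727
theorem L72285 : N8921 = N2100 := eqc rfl L72284 rfl
theorem L72286 : sm gf N4305 = N8922 := trfs L72272 L43310 rfl
theorem L72287 : N8922 = N8918 := eqes L72286 L43286
theorem L72288 : N8922 = N8918 := eqc rfl L72287 rfl
theorem L72289 : sm gg N4305 = N8923 := trfs L72272 L43314 rfl
theorem L72290 : N8923 = N8919 := eqes L72289 L43294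
theorem L72291 : N8923 = N8919 := eqc rfl L72290 rfl
theorem L72292 : sm gd N8919 = N4308 := trfs L72291 L43316 rfl
theorem L72294 : sm gd N8918 = N4307 := trfs L72288 L43312 rfl
theorem L72296 : sm gb N2100 = N4309 := trfs L72285 L43306 rfl
theorem L72297 : N4309 = N4374 := eqes L72296 L21089
theorem L72298 : N4374 = N4309 := (eqc rfl L72297 rfl).symm
theorem L72299 : sm gd N2100 = N4378 := trfs L72285 L43308 rfl
theorem L72300 : N4378 = N4375 := eqes L72299 L21091
theorem L72301 : N4378 = N4375 := eqc rfl L72300 rfl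
theorem L72302 : sm ga N4375 = N9053 := trfs L72301 (flp_a L43970) rfl
theorem L72303 : N9053 = N2101 := eqes L72302 L21093
theorem L72304 : N9053 = N2101 := eqc rfl L72303 rfl
theorem L72305 : sm gb N4375 = N2105 := trfs L72301 L21111 rfl
theorem L72306 : N2105 = N9050 := eqes L72305 (flp_b L43960)
theorem L72307 : N9050 = N2105 := (eqc rfl L72306 rfl).symm
theorem L72311 : sm gf N4375 = N9058 := trfs L72301 L43994 rfl
theorem L72312 : N9058 = N9054 := eqes L72311 L43974
theorem L72313 : N9058 = N9054 := eqc rfl L72312 rfl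
theorem L72314 : sm gg N4375 = N9059 := trfs L72301 L43998 rfl
theorem L72315 : N9059 = N9055 := eqes L72314 L43982
theorem L72316 : N9059 = N9055 := eqc rfl L72315 rfl
theorem L72317 : sm ge N9055 = N4380 := trfs L72316 L44000 rfl
theorem L72319 : sm ge N9054 = N4379 := trfs L72313 L43996 rfl
theorem L72321 : sm gb N2105 = N4375 := trfs L72307 L43960 rfl
theorem L72323 : sm gc N2105 = N4385 := trfs L72307 (flp_c L43962) rfl
theorem L72324 : N4385 = N4386 := eqes L72323 (flp_c L21151)
theorem L72325 : N4386 = N4385 := (eqc rfl L72324 rfl).symm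
theorem L72327 : sm ga N4385 = N3708 := trfs L72325 L21149 rfl
theorem L72328 : N3708 = N9072 := eqes L72327 L44058
theorem L72329 : N9072 = N3708 := (eqc rfl L72328 rfl).symm
theorem L72330 : sm gb N4385 = N9073 := trfs L72325 (flp_b L44064) rfl
theorem L72331 : N9073 = N2104 := eqes L72330 (flp_b L21143)
theorem L72332 : N9073 = N2104 := eqc rfl L72331 rfl
theorem L72333 : sm gc N4385 = N2105 := trfs L72325 L21151 rfl
theorem L72335 : sm gd N4385 = N9076 := trfs L72325 L44074 rfl
theorem L72336 : N9076 = N3651 := eqes L72335 L21145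
theorem L72337 : N9076 = N3651 := eqc rfl L72336 rfl
theorem L72340 : sm gf N4385 = N9077 := trfs L72325 L44081 rfl
theorem L72341 : N9077 = N9074 := eqes L72340 L44066
theorem L72342 : N9077 = N9074 := eqc rfl L72341 rfl
theorem L72343 : sm gg N4385 = N9078 := trfs L72325 L44089 rfl
theorem L72344 : N9078 = N9075 := eqes L72343 L44070
theorem L72345 : N9078 = N9075 := eqc rfl L72344 rfl
theorem L72346 : sm ga N9075 = N7746 := trfs L72345 L44091 rfl
theorem L72348 : sm gc N9075 = N4390 := trfs L72345 L44093 rfl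
theorem L72350 : sm ge N9075 = N4388 := trfs L72345 L44095 rfl
theorem L72352 : sm ga N9074 = N7745 := trfs L72342 L44083 rfl
theorem L72354 : sm gc N9074 = N4389 := trfs L72342 L44085 rfl
theorem L72356 : sm ge N9074 = N4387 := trfs L72342 L44087 rfl
theorem L72358 : sm ga N3651 = N7664 := trfs L72337 L44076 rfl
theorem L72359 : N7664 = N7619 := eqes L72358 L36604
theorem L72360 : N7664 = N7619 := eqc rfl L72359 rfl
theorem L72362 : sm ge N3651 = N7596 := trfs L72337 L44078 rfl
theorem L72363 : N7596 = N7595 := eqes L72362 (flp_e L36477)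
theorem L72364 : N7596 = N7595 := eqc rfl L72363 rfl
theorem L72365 : sm ga N7595 = N3673 := trfs L72364 L36481 rfl
theorem L72368 : sm gd N7595 = N3640 := trfs L72364 (flp_d L36479) rfl
theorem L72373 : sm ge N7619 = N3673 := trfs L72360 (flp_e L36810) rfl
theorem L72375 : sm ge N2104 = N4385 := trfs L72332 (flp_e L44062) rfl
theorem L72377 : sm ga N3708 = N4385 := trfs L72329 (flp_a L44058) rfl
theorem L72379 : sm gd N3708 = N7619 := trfs L72329 L44060 rfl
theorem L72381 : sm ge N2101 = N4375 := trfs L72304 (flp_e L43968) rfl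
theorem L72383 : sm ga N4309 = N9048 := trfs L72298 L43952 rfl
theorem L72384 : N9048 = N8802 := eqes L72383 (flp_a L42670)
theorem L72385 : N9048 = N8802 := eqc rfl L72384 rfl
theorem L72386 : sm gb N4309 = N2100 := trfs L72298 (flp_b L21089) rfl
theorem L72396 : sm gb N8802 = N4621 := trfs L72385 L71919 rfl
theorem L72398 : sm gb N2069 = N4305 := trfs L72277 (flp_b L43278) rfl
theorem L72418 : sm ga N9552 = N9547 := ded_11_1 L46361 L46383 L72150
theorem L72420 : sm gc N9547 = N9551 := ded_20_3 L72150 (flp_c L46387) (flp_f L46361)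
theorem L72425 : sm gg N9162 = N9745 := ded_26_2 L47346 L72194 (flp_e L44484)
theorem L72428 : sm gb N5493 = N8767 := ded_13_3 L42498 L42894 L72245 L22301 L26648
theorem L72430 : sm ge N6738 = N8768 := ded_22_4 (flp_d L42500) (flp_e L42380) L72249 L32316 L32488
theorem L72432 : sm gd N8927 = N8925 := ded_23_3 (flp_f L43330) L72292 L43338
theorem L72434 : sm ge N9063 = N9061 := ded_25_3 (flp_f L44012) L72317 L44020
theorem L72436 : N9544 = N8848 := coi_14_3 L42914 (flp_d L42674) L72396 L46347
theorem L72437 : N9544 = N8848 := eqc rfl L72436 rfl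
theorem L72438 : sm gd N8848 = N4621 := trfs L72437 (flp_d L46347) rfl
theorem L72440 : N9301 = N8799 := coi_15_3 L42658 L42668 L72396 (flp_e L45112)
theorem L72441 : N9301 = N8799 := eqc rfl L72440 rfl
theorem L72442 : sm gc N8799 = N4503 := trfs L72441 (flp_c L45110) rfl
theorem L72444 : sm ge N8799 = N4621 := trfs L72441 L45112 rfl
theorem L72455 : sm gb N4754 = N9814 := rfl
theorem L72457 : sm gd N9814 = N4755 := ded_14_2 (flp_b L22980) (flp_d L22978) L72455
theorem L72459 : sm gg N9814 = N4760 := ded_17_2 (flp_b L23012) (flp_g L11068) (flp_b L11053) L22976 L72455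
theorem L72465 : sm gc N4755 = N9816 := rfl
theorem L72467 : sm gg N9816 = N4762 := ded_21_2 (flp_c L23018) (flp_g L22982) L72465
theorem L72476 : sm ga N4760 = N9818 := rfl
theorem L72478 : sm gd N9818 = N4761 := ded_9_2 (flp_a L23016) (flp_d L23014) L72476
theorem L72484 : sm gf N4760 = N9820 := rfl
theorem L72486 : sm gd N9820 = N4763 := ded_23_1 (flp_f L23022) (flp_d L23014) L72484
theorem L72488 : sm gb N9820 = N9213 := ded_16_1 (flp_f L44747) (flp_b L21513) (flp_f L11074) L23012 L72484
theorem L72490 : sm gd N4762 = N9821 := rfl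
theorem L72492 : sm ga N9821 = N9820 := ded_9_1 L72486 L47763 L72490
theorem L72494 : sm gb N9821 = N4765 := ded_14_1 (flp_d L23032) (flp_b L23020) L72490
theorem L72496 : sm gf N9821 = N9818 := ded_23_2 L72478 (flp_f L70854) L72490
theorem L72498 : sm gg N4763 = N9822 := rfl
theorem L72500 : sm ga N9822 = N9816 := ded_12_1 L72467 (flp_a L47763) L72498
theorem L72506 : sm gb N9822 = N4969 := ded_17_1 (flp_g L24062) L24060 L24079 (flp_b L23024) L72498
theorem L72520 : sm gc N4772 = N9826 := rfl
theorem L72522 : sm ge N9826 = N4775 := ded_19_2 (flp_c L23086) (flp_e L23068) L72520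
theorem L72524 : sm gg N9826 = N4951 := ded_21_2 (flp_c L23982) (flp_g L23070) L72520
theorem L72535 : sm gc N4774 = N9829 := rfl
theorem L72537 : sm ga N9829 = N4775 := ded_8_1 (flp_c L23086) L23080 L72535
theorem L72573 : sm gc N4778 = N9836 := rfl
theorem L72575 : sm gf N9836 = N4780 := ded_20_2 (flp_c L23106) (flp_f L23101) L72573
theorem L72577 : sm gb N9836 = N4973 := ded_13_1 L24091 (flp_b L71284) L13980 L23099 L72573
theorem L72595 : sm ge N4781 = N9840 := rfl
theorem L72597 : sm ga N9840 = N5891 := ded_10_1 L28571 L52033 L72595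
theorem L72613 : sm gf N4788 = N9843 := rfl
theorem L72615 : sm ga N9843 = N4806 := ded_11_1 (flp_f L23217) (flp_a L71313) L72613
theorem L72617 : sm gd N9843 = N4789 := ded_23_1 (flp_f L23149) L23145 L72613
theorem L72639 : sm gb N4804 = N9847 := rfl
theorem L72641 : sm gc N9847 = N4811 := ded_13_2 (flp_b L23239) (flp_c L11204) (flp_b L11198) L23211 L72639
theorem L72643 : sm gd N9524 = N9847 := ded_28_5 L72641 L23241 L46245 L46247 (flp_d L26381) (flp_c L72108) (flp_d L26403) (flp_c L46261)
theorem L72645 : sm gg N9847 = N4811 := ded_24_2 L23241 L46259 L72643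
theorem L72647 : N9261 = N4804 := coi_17_4 L71328 L72639 L72645 (flp_b L23239) (flp_g L21604) L44936
theorem L72648 : N9261 = N4804 := eqc rfl L72647 rfl
theorem L72655 : sm gc N4804 = N4804 := trfs L72648 L71325 L72648
theorem L72656 : N4804 = N2315 := eqes L72655 (flp_c L23211)
theorem L72657 : N4804 = N2315 := eqc rfl L72656 rfl
theorem L72658 : N9261 = N2315 := L72648.trans L72657
theorem L72659 : sm gd N2315 = N9029 := trfs L72658 L44938 rfl
theorem L72660 : N9029 = N1128 := eqes L72659 (flp_d L11196)
theorem L72661 : N9029 = N1128 := eqc rfl L72660 rfl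
theorem L72662 : sm ga N1128 = N1128 := trfs L72661 L72210 L72661
theorem L72663 : N1128 = N2307 := eqes L72662 L71315
theorem L72664 : N2307 = N1128 := (eqc rfl L72663 rfl).symm
theorem L72665 : sm gb N1128 = N4362 := trfs L72661 (flp_b L43868) rfl
theorem L72666 : N4362 = N565 := eqes L72665 (flp_b L5567)
theorem L72667 : N4362 = N565 := eqc rfl L72666 rfl
theorem L72676 : sm gd N565 = N4481 := trfs L72667 L21606 rfl
theorem L72677 : N4481 = N1129 := eqes L72676 L5569
theorem L72678 : N4481 = N1129 := eqc rfl L72677 rfl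
theorem L72685 : sm gg N565 = N2217 := trfs L72667 L21030 rfl
theorem L72686 : N2217 = N1056 := eqes L72685 (flp_g L5241)
theorem L72687 : N2217 = N1056 := eqc rfl L72686 rfl
theorem L72694 : sm gc N1056 = N1084 := trfs L72687 (flp_c L10705) rfl
theorem L72695 : N1084 = N532 := eqes L72694 (flp_c L5237)
theorem L72696 : N1084 = N532 := eqc rfl L72695 rfl
theorem L72697 : sm gd N1056 = N2318 := trfs L72687 L11208 rfl
theorem L72698 : N2318 = N2156 := eqes L72697 L10399
theorem L72699 : N2318 = N2156 := eqc rfl L72698 rfl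
theorem L72703 : sm gf N1056 = N4611 := trfs L72687 L22255 rfl
theorem L72704 : N4611 = N1136 := eqes L72703 L5603
theorem L72705 : N4611 = N1136 := eqc rfl L72704 rfl
theorem L72712 : sm gc N1136 = N2219 := trfs L72705 L22257 rfl
theorem L72713 : N2219 = N569 := eqes L72712 L5601
theorem L72714 : N2219 = N569 := eqc rfl L72713 rfl
theorem L72721 : sm gg N1136 = N9269 := trfs L72705 (flp_g L44980) rfl
theorem L72722 : N9269 = N568 := eqes L72721 (flp_g L5597)
theorem L72723 : N9269 = N568 := eqc rfl L72722 rfl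
theorem L72728 : sm gd N568 = N4486 := trfs L72723 L44978 rfl
theorem L72729 : N4486 = N1134 := eqes L72728 (flp_d L5591)
theorem L72730 : N4486 = N1134 := eqc rfl L72729 rfl
theorem L72732 : sm ga N1134 = N4831 := trfs L72730 (flp_a L23339) rfl
theorem L72733 : N4831 = N2320 := eqes L72732 (flp_a L11216)
theorem L72734 : N4831 = N2320 := eqc rfl L72733 rfl
theorem L72738 : sm gc N1134 = N2159 := trfs L72730 L21632 rfl
theorem L72739 : N2159 = N2327 := eqes L72738 (flp_c L11248)
theorem L72740 : N2327 = N2159 := (eqc rfl L72739 rfl).symm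
theorem L72744 : sm gf N1134 = N2157 := trfs L72730 (flp_f L21630) rfl
theorem L72745 : N2157 = N567 := eqes L72744 (flp_f L5589)
theorem L72746 : N2157 = N567 := eqc rfl L72745 rfl
theorem L72752 : sm gc N567 = N1057 := trfs L72746 (flp_c L10405) rfl
theorem L72753 : N1057 = N1132 := eqes L72752 L5583
theorem L72754 : N1132 = N1057 := (eqc rfl L72753 rfl).symm
theorem L72756 : sm ge N567 = N4485 := trfs L72746 L21624 rfl
theorem L72757 : N4485 = N1133 := eqes L72756 L5585
theorem L72758 : N4485 = N1133 := eqc rfl L72757 rfl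
theorem L72766 : sm gc N1133 = N2158 := trfs L72758 L21626 rfl
theorem L72767 : N2158 = N2326 := eqes L72766 (flp_c L11244)
theorem L72768 : N2326 = N2158 := (eqc rfl L72767 rfl).symm
theorem L72769 : sm gd N1133 = N9270 := trfs L72758 L44982 rfl
theorem L72770 : N9270 = N2271 := eqes L72769 (flp_d L10978)
theorem L72771 : N9270 = N2271 := eqc rfl L72770 rfl
theorem L72774 : sm gg N2271 = N4828 := trfs L72771 L44984 rfl
theorem L72775 : N4828 = N4440 := eqes L72774 (flp_g L21412)
theorem L72776 : N4828 = N4440 := eqc rfl L72775 rfl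
theorem L72777 : sm gb N4440 = N8463 := trfs L72776 (flp_b L71942) rfl
theorem L72778 : N8463 = N7801 := eqes L72777 (flp_b L37482)
theorem L72779 : N8463 = N7801 := eqc rfl L72778 rfl
theorem L72781 : sm gd N7801 = N4062 := trfs L72779 (flp_d L40998) rfl
theorem L72782 : N4062 = N3765 := eqes L72781 L37486
theorem L72783 : N4062 = N3765 := eqc rfl L72782 rfl
theorem L72784 : sm ga N3765 = N8452 := trfs L72783 (flp_a L40932) rfl
theorem L72785 : N8452 = N7862 := eqes L72784 (flp_a L37988)
theorem L72786 : N8452 = N7862 := eqc rfl L72785 rfl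
theorem L72788 : sm gc N3765 = N1945 := trfs L72783 L19471 rfl
theorem L72789 : N1945 = N7865 := eqes L72788 (flp_c L38006)
theorem L72790 : N7865 = N1945 := (eqc rfl L72789 rfl).symm
theorem L72791 : sm ge N3765 = N1944 := trfs L72783 (flp_e L19469) rfl
theorem L72792 : N1944 = N1814 := eqes L72791 (flp_e L18071)
theorem L72793 : N1944 = N1814 := eqc rfl L72792 rfl
theorem L72794 : sm gf N3765 = N8464 := trfs L72783 L41000 rfl
theorem L72795 : N8464 = N7867 := eqes L72794 L38014
theorem L72796 : N8464 = N7867 := eqc rfl L72795 rfl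
theorem L72798 : sm gc N7867 = N4064 := trfs L72796 L41002 rfl
theorem L72800 : sm ge N7867 = N4063 := trfs L72796 L41004 rfl
theorem L72801 : N4063 = N3766 := eqes L72800 L38016
theorem L72802 : N4063 = N3766 := eqc rfl L72801 rfl
theorem L72803 : sm ga N3766 = N8453 := trfs L72802 (flp_a L40938) rfl
theorem L72804 : N8453 = N4066 := eqes L72803 (flp_a L19489)
theorem L72805 : N8453 = N4066 := eqc rfl L72804 rfl
theorem L72809 : sm gc N3766 = N1946 := trfs L72802 L19475 rfl
theorem L72810 : N1946 = N7866 := eqes L72809 (flp_c L38012)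
theorem L72811 : N7866 = N1946 := (eqc rfl L72810 rfl).symm
theorem L72816 : sm gg N3766 = N8466 := trfs L72802 L41008 rfl
theorem L72817 : N8466 = N4058 := eqes L72816 L19451
theorem L72818 : N8466 = N4058 := eqc rfl L72817 rfl
theorem L72822 : sm gf N4058 = N7861 := trfs L72818 (flp_f L41014) rfl
theorem L72823 : N7861 = N1941 := eqes L72822 (flp_f L19445)
theorem L72824 : N7861 = N1941 := eqc rfl L72823 rfl
theorem L72828 : sm gb N1941 = N1941 := trfs L72824 L37984 L72824
theorem L72829 : N1941 = N4053 := eqes L72828 (flp_b L19429)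
theorem L72830 : N4053 = N1941 := (eqc rfl L72829 rfl).symm
theorem L72831 : sm gc N1941 = N3763 := trfs L72824 (flp_c L37976) rfl
theorem L72832 : N3763 = N4056 := eqes L72831 L19435
theorem L72833 : N4056 = N3763 := (eqc rfl L72832 rfl).symm
theorem L72834 : sm gd N1941 = N7720 := trfs L72824 (flp_d L37982) rfl
theorem L72835 : N7720 = N952 := eqes L72834 (flp_d L9373)
theorem L72836 : N7720 = N952 := eqc rfl L72835 rfl
theorem L72841 : sm gb N952 = N952 := trfs L72836 L37967 L72836
theorem L72842 : N952 = N1940 := eqes L72841 L9371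
theorem L72843 : N1940 = N952 := (eqc rfl L72842 rfl).symm
theorem L72847 : sm gg N952 = N3895 := trfs L72836 L37097 rfl
theorem L72848 : N3895 = N1813 := eqes L72847 (flp_g L8789)
theorem L72849 : N3895 = N1813 := eqc rfl L72848 rfl
theorem L72853 : sm gb N1813 = N8155 := trfs L72849 L39442 rfl
theorem L72854 : N8155 = N3762 := eqes L72853 L18059
theorem L72855 : N8155 = N3762 := eqc rfl L72854 rfl
theorem L72856 : sm gc N1813 = N1871 := trfs L72849 (flp_c L18721) rfl
theorem L72857 : N1871 = N898 := eqes L72856 (flp_c L8785)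
theorem L72858 : N1871 = N898 := eqc rfl L72857 rfl
theorem L72863 : sm gf N1813 = N8157 := trfs L72849 L39449 rfl
theorem L72864 : N8157 = N1948 := eqes L72863 L9407
theorem L72865 : N8157 = N1948 := eqc rfl L72864 rfl
theorem L72867 : sm gc N1948 = N3897 := trfs L72865 L39451 rfl
theorem L72868 : N3897 = N957 := eqes L72867 L9405
theorem L72869 : N3897 = N957 := eqc rfl L72868 rfl
theorem L72877 : sm gd N957 = N1872 := trfs L72869 L18727 rfl
theorem L72878 : N1872 = N1874 := eqes L72877 (flp_d L9089)
theorem L72879 : N1874 = N1872 := (eqc rfl L72878 rfl).symm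
theorem L72884 : sm gg N957 = N8160 := trfs L72869 L39461 rfl
theorem L72885 : N8160 = N481 := eqes L72884 (flp_g L4745)
theorem L72886 : N8160 = N481 := eqc rfl L72885 rfl
theorem L72893 : sm gf N481 = N7719 := trfs L72886 (flp_f L39467) rfl
theorem L72894 : N7719 = N241 := eqes L72893 (flp_f L2444)
theorem L72895 : N7719 = N241 := eqc rfl L72894 rfl
theorem L72901 : sm gg N241 = N3892 := trfs L72895 L37093 rfl
theorem L72902 : N3892 = N455 := eqes L72901 (flp_g L2322)
theorem L72903 : N3892 = N455 := eqc rfl L72902 rfl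
theorem L72909 : sm gd N455 = N1869 := trfs L72903 (flp_d L18705) rfl
theorem L72910 : N1869 = N885 := eqes L72909 (flp_d L4419)
theorem L72911 : N1869 = N885 := eqc rfl L72910 rfl
theorem L72912 : sm ge N455 = N8150 := trfs L72903 L39420 rfl
theorem L72913 : N8150 = N892 := eqes L72912 (flp_e L4459)
theorem L72914 : N8150 = N892 := eqc rfl L72913 rfl
theorem L72919 : sm gc N892 = N8461 := trfs L72914 (flp_c L40988) rfl
theorem L72920 : N8461 = N1801 := eqes L72919 L8735
theorem L72921 : N8461 = N1801 := eqc rfl L72920 rfl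
theorem L72923 : sm gb N1801 = N4826 := trfs L72921 L71890 rfl
theorem L72924 : N4826 = N1044 := eqes L72923 L8741
theorem L72925 : N4826 = N1044 := eqc rfl L72924 rfl
theorem L72932 : sm gg N1044 = N9268 := trfs L72925 (flp_g L44970) rfl
theorem L72933 : N9268 = N556 := eqes L72932 L5195
theorem L72934 : N9268 = N556 := eqc rfl L72933 rfl
theorem L72936 : sm gc N556 = N9028 := trfs L72934 L44968 rfl
theorem L72937 : N9028 = N281 := eqes L72936 (flp_c L2829)
theorem L72938 : N9028 = N281 := eqc rfl L72937 rfl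
theorem L72946 : sm gf N281 = N9529 := trfs L72938 L46285 rfl
theorem L72947 : N9529 = N557 := eqes L72946 L2835
theorem L72948 : N9529 = N557 := eqc rfl L72947 rfl
theorem L72954 : sm gg N557 = N4612 := trfs L72948 (flp_g L46279) rfl
theorem L72955 : N4612 = N1109 := eqes L72954 L5498
theorem L72956 : N4612 = N1109 := eqc rfl L72955 rfl
theorem L72968 : sm gf N1109 = N2218 := trfs L72956 (flp_f L22259) rfl
theorem L72969 : N2218 = N1043 := eqes L72968 (flp_f L5504)
theorem L72970 : N2218 = N1043 := eqc rfl L72969 rfl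
theorem L72972 : sm gb N1043 = N1273 := trfs L72970 L10709 rfl
theorem L72973 : N1273 = N666 := eqes L72972 L70582
theorem L72974 : N1273 = N666 := eqc rfl L72973 rfl
theorem L72976 : sm gd N1043 = N4557 := trfs L72970 (flp_d L22001) rfl
theorem L72977 : N4557 = N2116 := eqes L72976 (flp_d L10207)
theorem L72978 : N4557 = N2116 := eqc rfl L72977 rfl
theorem L72987 : sm gc N2116 = N9423 := trfs L72978 (flp_c L45809) rfl
theorem L72988 : N9423 = N4412 := eqes L72987 L21259
theorem L72989 : N9423 = N4412 := eqc rfl L72988 rfl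
theorem L72990 : sm ge N2116 = N2192 := trfs L72978 (flp_e L21997) rfl
theorem L72991 : N2192 = N4320 := eqes L72990 (flp_e L20813)
theorem L72992 : N4320 = N2192 := (eqc rfl L72991 rfl).symm
theorem L72994 : sm gg N2116 = N8981 := trfs L72978 (flp_g L43650) rfl
theorem L72995 : N8981 = N1095 := eqes L72994 L10209
theorem L72996 : N8981 = N1095 := eqc rfl L72995 rfl
theorem L72997 : sm gb N1095 = N1095 := trfs L72996 L43649 L72996
theorem L72998 : N1095 = N2242 := eqes L72997 L10829
theorem L72999 : N2242 = N1095 := (eqc rfl L72998 rfl).symm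
theorem L73001 : sm ge N1095 = N4334 := trfs L72996 (flp_e L43647) rfl
theorem L73002 : N4334 = N2180 := eqes L73001 (flp_e L10527)
theorem L73003 : N4334 = N2180 := eqc rfl L73002 rfl
theorem L73007 : sm gb N2180 = N2180 := trfs L73003 L20893 L73003
theorem L73008 : N2180 = N4528 := eqes L73007 L21843
theorem L73009 : N4528 = N2180 := (eqc rfl L73008 rfl).symm
theorem L73010 : sm gc N2180 = N8980 := trfs L73003 L43643 rfl
theorem L73011 : N8980 = N4529 := eqes L73010 L21849
theorem L73012 : N8980 = N4529 := eqc rfl L73011 rfl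
theorem L73013 : sm gd N2180 = N2081 := trfs L73003 (flp_d L20891) rfl
theorem L73014 : N2081 = N1072 := eqes L73013 L10525
theorem L73015 : N2081 = N1072 := eqc rfl L73014 rfl
theorem L73016 : sm gf N2180 = N8982 := trfs L73003 L43654 rfl
theorem L73017 : N8982 = N4530 := eqes L73016 L21855
theorem L73018 : N8982 = N4530 := eqc rfl L73017 rfl
theorem L73027 : sm gg N4530 = N9417 := trfs L73018 L45779 rfl
theorem L73028 : N9417 = N4322 := eqes L73027 (flp_g L21863)
theorem L73029 : N9417 = N4322 := eqc rfl L73028 rfl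
theorem L73030 : sm ga N4322 = N4558 := trfs L73029 L45775 rfl
theorem L73031 : N4558 = N4533 := eqes L73030 (flp_a L21875)
theorem L73032 : N4558 = N4533 := eqc rfl L73031 rfl
theorem L73033 : sm gd N4322 = N4554 := trfs L73029 L45777 rfl
theorem L73034 : N4554 = N2082 := eqes L73033 L20825
theorem L73035 : N4554 = N2082 := eqc rfl L73034 rfl
theorem L73036 : sm gf N4322 = N4553 := trfs L73029 (flp_f L45773) rfl
theorem L73037 : N4553 = N2074 := eqes L73036 (flp_f L20823)
theorem L73038 : N4553 = N2074 := eqc rfl L73037 rfl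
theorem L73044 : sm gc N2074 = N9415 := trfs L73038 L45761 rfl
theorem L73045 : N9415 = N4321 := eqes L73044 L20817
theorem L73046 : N9415 = N4321 := eqc rfl L73045 rfl
theorem L73047 : sm gd N2074 = N2190 := trfs L73038 (flp_d L21977) rfl
theorem L73048 : N2190 = N1021 := eqes L73047 L10003
theorem L73049 : N2190 = N1021 := eqc rfl L73048 rfl
theorem L73052 : sm ga N1021 = N1073 := trfs L73049 L10581 rfl
theorem L73053 : N1073 = N2080 := eqes L73052 L10040
theorem L73054 : N2080 = N1073 := (eqc rfl L73053 rfl).symm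
theorem L73060 : sm ge N1021 = N1082 := trfs L73049 L10583 rfl
theorem L73061 : N1082 = N519 := eqes L73060 L5074
theorem L73062 : N1082 = N519 := eqc rfl L73061 rfl
theorem L73064 : sm gg N1021 = N4333 := trfs L73049 (flp_g L20889) rfl
theorem L73065 : N4333 = N540 := eqes L73064 L5076
theorem L73066 : N4333 = N540 := eqc rfl L73065 rfl
theorem L73076 : sm gf N540 = N4560 := trfs L73066 L22021 rfl
theorem L73077 : N4560 = N1074 := eqes L73076 L5326
theorem L73078 : N4560 = N1074 := eqc rfl L73077 rfl
theorem L73083 : sm gc N1074 = N2194 := trfs L73078 L22017 rfl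
theorem L73084 : N2194 = N2193 := eqes L73083 (flp_c L10599)
theorem L73085 : N2194 = N2193 := eqc rfl L73084 rfl
theorem L73087 : sm ge N1074 = N2221 := trfs L73078 L22019 rfl
theorem L73088 : N2221 = N546 := eqes L73087 L5328
theorem L73089 : N2221 = N546 := eqc rfl L73088 rfl
theorem L73098 : sm gc N546 = N1086 := trfs L73089 L10723 rfl
theorem L73099 : N1086 = N1085 := eqes L73098 (flp_c L5384)
theorem L73100 : N1086 = N1085 := eqc rfl L73099 rfl
theorem L73105 : sm ga N1085 = N1029 := trfs L73100 L5388 rfl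
theorem L73106 : N1029 = N2215 := eqes L73105 (flp_a L10695)
theorem L73107 : N2215 = N1029 := (eqc rfl L73106 rfl).symm
theorem L73114 : sm gf N1085 = N1027 := trfs L73100 (flp_f L5392) rfl
theorem L73115 : N1027 = N545 := eqes L73114 (flp_f L5382)
theorem L73116 : N1027 = N545 := eqc rfl L73115 rfl
theorem L73117 : sm gg N1085 = N546 := trfs L73100 (flp_g L5386) rfl
theorem L73128 : sm gg N545 = N544 := trfs L73116 L5110 rfl
theorem L73129 : N544 = N1028 := eqes L73128 (flp_g L5114)
theorem L73130 : N1028 = N544 := (eqc rfl L73129 rfl).symm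
theorem L73132 : sm gb N544 = N544 := trfs L73130 L5116 L73130
theorem L73133 : N544 = N1081 := eqes L73132 L5362
theorem L73134 : N1081 = N544 := (eqc rfl L73133 rfl).symm
theorem L73140 : sm gg N544 = N545 := trfs L73130 L5114 rfl
theorem L73145 : sm gb N544 = N544 := trfs L73134 (flp_b L5362) rfl
theorem L73149 : sm gd N544 = N564 := trfs L73134 L5364 rfl
theorem L73150 : N564 = N285 := eqes L73149 L2773
theorem L73151 : N564 = N285 := eqc rfl L73150 rfl
theorem L73152 : sm ge N544 = N2189 := trfs L73134 (flp_e L10577) rfl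
theorem L73153 : N2189 = N1072 := eqes L73152 (flp_e L5318)
theorem L73154 : N2189 = N1072 := eqc rfl L73153 rfl
theorem L73155 : sm gf N544 = N1281 := trfs L73134 L70518 rfl
theorem L73156 : N1281 = N1083 := eqes L73155 L5370
theorem L73157 : N1281 = N1083 := eqc rfl L73156 rfl
theorem L73158 : sm gg N544 = N640 := trfs L73134 L70520 rfl
theorem L73159 : N640 = N545 := eqes L73158 L73140
theorem L73160 : N640 = N545 := eqc rfl L73159 rfl
theorem L73161 : sm ga N545 = N1276 := trfs L73160 L6274 rfl
theorem L73162 : N1276 = N1082 := eqes L73161 (flp_a L5368)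
theorem L73163 : N1276 = N519 := eqc rfl L73162 L73062
theorem L73164 : sm gb N545 = N325 := trfs L73160 (flp_b L3252) rfl
theorem L73165 : N325 = N324 := eqes L73164 L2777
theorem L73166 : N325 = N324 := eqc rfl L73165 rfl
theorem L73170 : sm gd N545 = N348 := trfs L73160 L3254 rfl
theorem L73171 : N348 = N1084 := eqes L73170 L5378
theorem L73172 : N532 = N348 := (eqc rfl L73171 L72696).symm
theorem L73173 : sm ge N545 = N1241 := trfs L73160 (flp_e L6120) rfl
theorem L73174 : N1241 = N1073 := eqes L73173 (flp_e L5322)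
theorem L73175 : N1241 = N1073 := eqc rfl L73174 rfl
theorem L73176 : sm gf N545 = N326 := trfs L73160 L3256 rfl
theorem L73177 : N326 = N1085 := eqes L73176 L5382
theorem L73178 : N1085 = N326 := (eqc rfl L73177 rfl).symm
theorem L73179 : sm ga N326 = N1029 := trfs L73178 (flp_a L10695) L73107
theorem L73180 : N1029 = N641 := eqes L73179 L3258
theorem L73181 : N1029 = N641 := eqc rfl L73180 rfl
theorem L73185 : sm gc N326 = N546 := trfs L73178 L5384 rfl
theorem L73186 : N546 = N642 := eqes L73185 L3262
theorem L73187 : N642 = N546 := (eqc rfl L73186 rfl).symm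
theorem L73188 : sm gd N326 = N569 := trfs L73178 (flp_d L10713) L72714
theorem L73189 : N569 = N175 := eqes L73188 L1667
theorem L73190 : N569 = N175 := eqc rfl L73189 rfl
theorem L73191 : sm ge N326 = N2193 := trfs L73178 (flp_e L10601) rfl
theorem L73192 : N2193 = N625 := eqes L73191 (flp_e L3184)
theorem L73193 : N2193 = N625 := eqc rfl L73192 rfl
theorem L73194 : sm gf N326 = N545 := trfs L73178 (flp_f L5382) rfl
theorem L73196 : sm gg N326 = N546 := trfs L73178 L73117 rfl
theorem L73197 : N546 = N643 := eqes L73196 L3266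
theorem L73198 : N643 = N546 := (eqc rfl L73197 rfl).symm
theorem L73200 : sm gb N546 = N543 := trfs L73198 L3270 rfl
theorem L73201 : N543 = N634 := eqes L73200 (flp_b L3226)
theorem L73202 : N634 = N543 := (eqc rfl L73201 rfl).symm
theorem L73205 : sm gd N546 = N351 := trfs L73198 L3268 rfl
theorem L73206 : N351 = N287 := eqes L73205 L2781
theorem L73207 : N351 = N287 := eqc rfl L73206 rfl
theorem L73208 : sm ge N546 = N1244 := trfs L73198 (flp_e L6136) rfl
theorem L73209 : N1244 = N1074 := eqes L73208 (flp_e L5328)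
theorem L73210 : N1244 = N1074 := eqc rfl L73209 rfl
theorem L73212 : sm gg N546 = N326 := trfs L73198 (flp_g L3266) rfl
theorem L73214 : sm ga N1074 = N2560 := trfs L73210 (flp_a L12397) rfl
theorem L73215 : N2560 = N2191 := eqes L73214 (flp_a L10587)
theorem L73216 : N2560 = N2191 := eqc rfl L73215 rfl
theorem L73217 : sm gb N1074 = N1071 := trfs L73210 L6138 rfl
theorem L73218 : N1071 = N1235 := eqes L73217 (flp_b L6088)
theorem L73219 : N1235 = N1071 := (eqc rfl L73218 rfl).symm
theorem L73223 : sm gd N1074 = N2521 := trfs L73210 (flp_d L12201) rfl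
theorem L73224 : N2521 = N2182 := eqes L73223 (flp_d L10535)
theorem L73225 : N2521 = N2182 := eqc rfl L73224 rfl
theorem L73226 : sm gf N1074 = N2563 := trfs L73210 L12413 rfl
theorem L73227 : N2563 = N540 := eqes L73226 (flp_f L5326)
theorem L73228 : N2563 = N540 := eqc rfl L73227 rfl
theorem L73231 : N2194 = N625 := L73085.trans L73193
theorem L73243 : sm gg N540 = N2555 := trfs L73228 L12419 rfl
theorem L73244 : N2555 = N1021 := eqes L73243 (flp_g L5076)
theorem L73245 : N2555 = N1021 := eqc rfl L73244 rfl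
theorem L73254 : sm gd N1021 = N5226 := trfs L73245 (flp_d L25322) rfl
theorem L73255 : N5226 = N2074 := eqes L73254 (flp_d L10003)
theorem L73256 : N5226 = N2074 := eqc rfl L73255 rfl
theorem L73258 : sm gf N1021 = N1242 := trfs L73245 L12373 rfl
theorem L73259 : N1242 = N2082 := eqes L73258 L10053
theorem L73260 : N2082 = N1242 := (eqc rfl L73259 rfl).symm
theorem L73262 : sm gb N1242 = N4336 := trfs L73260 L20902 rfl
theorem L73263 : N4336 = N2558 := eqes L73262 L12385
theorem L73264 : N4336 = N2558 := eqc rfl L73263 rfl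
theorem L73268 : sm gd N1242 = N4322 := trfs L73260 (flp_d L20825) rfl
theorem L73269 : N4322 = N2519 := eqes L73268 (flp_d L12191)
theorem L73270 : N4322 = N2519 := eqc rfl L73269 rfl
theorem L73272 : sm gf N1242 = N1021 := trfs L73260 (flp_f L10053) rfl
theorem L73276 : sm ga N2519 = N4533 := trfs L73270 (flp_a L21875) rfl
theorem L73277 : N4533 = N1226 := eqes L73276 (flp_a L12189)
theorem L73278 : N4533 = N1226 := eqc rfl L73277 rfl
theorem L73279 : sm gb N2519 = N8954 := trfs L73270 L43494 rfl
theorem L73280 : N8954 = N5229 := eqes L73279 L25340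
theorem L73281 : N8954 = N5229 := eqc rfl L73280 rfl
theorem L73282 : sm gc N2519 = N8953 := trfs L73270 (flp_c L43490) rfl
theorem L73283 : N8953 = N5230 := eqes L73282 L25346
theorem L73284 : N8953 = N5230 := eqc rfl L73283 rfl
theorem L73285 : sm ge N2519 = N2118 := trfs L73270 L20827 rfl
theorem L73286 : N2118 = N1315 := eqes L73285 L12193
theorem L73287 : N2118 = N1315 := eqc rfl L73286 rfl
theorem L73290 : sm gg N2519 = N4530 := trfs L73270 L21863 rfl
theorem L73291 : N4530 = N5231 := eqes L73290 L25352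
theorem L73292 : N5231 = N4530 := (eqc rfl L73291 rfl).symm
theorem L73295 : sm ge N4530 = N2720 := trfs L73292 L25358 rfl
theorem L73296 : N2720 = N2244 := eqes L73295 L21861
theorem L73297 : N2720 = N2244 := eqc rfl L73296 rfl
theorem L73299 : sm gg N4530 = N2519 := trfs L73292 (flp_g L25352) rfl
theorem L73301 : sm ga N2244 = N1317 := trfs L73297 L13098 rfl
theorem L73302 : N1317 = N1097 := eqes L73301 L10839
theorem L73303 : N1317 = N1097 := eqc rfl L73302 rfl
theorem L73304 : sm gb N2244 = N5650 := trfs L73297 L27289 rfl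
theorem L73305 : N5650 = N4408 := eqes L73304 (flp_b L70560)
theorem L73306 : N5650 = N4408 := eqc rfl L73305 rfl
theorem L73307 : sm gc N2244 = N5649 := trfs L73297 (flp_c L27285) rfl
theorem L73308 : N5649 = N4666 := eqes L73307 (flp_c L22503)
theorem L73309 : N5649 = N4666 := eqc rfl L73308 rfl
theorem L73310 : sm gd N2244 = N1342 := trfs L73297 L13100 rfl
theorem L73311 : N1342 = N1106 := eqes L73310 L10841
theorem L73312 : N1342 = N1106 := eqc rfl L73311 rfl
theorem L73316 : sm ga N1106 = N670 := trfs L73312 L6584 rfl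
theorem L73317 : N670 = N557 := eqes L73316 L5482
theorem L73318 : N670 = N557 := eqc rfl L73317 rfl
theorem L73319 : sm gb N1106 = N2777 := trfs L73312 L13418 rfl
theorem L73320 : N2777 = N2125 := eqes L73319 (flp_b L70555)
theorem L73321 : N2777 = N2125 := eqc rfl L73320 rfl
theorem L73322 : sm gc N1106 = N2776 := trfs L73312 (flp_c L13412) rfl
theorem L73323 : N2776 = N2268 := eqes L73322 (flp_c L10962)
theorem L73324 : N2776 = N2268 := eqc rfl L73323 rfl
theorem L73325 : sm ge N1106 = N695 := trfs L73312 L6586 rfl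
theorem L73326 : N695 = N566 := eqes L73325 L5484
theorem L73327 : N695 = N566 := eqc rfl L73326 rfl
theorem L73328 : sm gf N1106 = N1104 := trfs L73312 (flp_f L51332) rfl
theorem L73329 : N1104 = N555 := eqes L73328 (flp_f L5480)
theorem L73330 : N1104 = N555 := eqc rfl L73329 rfl
theorem L73331 : sm gg N1106 = N668 := trfs L73312 (flp_g L6582) rfl
theorem L73332 : N668 = N1045 := eqes L73331 (flp_g L5486)
theorem L73333 : N1045 = N668 := (eqc rfl L73332 rfl).symm
theorem L73337 : sm gb N668 = N2132 := trfs L73333 L10289 rfl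
theorem L73338 : N2132 = N1340 := eqes L73337 L6572
theorem L73339 : N2132 = N1340 := eqc rfl L73338 rfl
theorem L73340 : sm gc N668 = N2131 := trfs L73333 (flp_c L10285) rfl
theorem L73341 : N2131 = N1341 := eqes L73340 L6576
theorem L73342 : N2131 = N1341 := eqc rfl L73341 rfl
theorem L73344 : sm ge N668 = N534 := trfs L73333 L5199 rfl
theorem L73345 : N534 = N349 := eqes L73344 L3389
theorem L73346 : N534 = N349 := eqc rfl L73345 rfl
theorem L73347 : sm gf N668 = N526 := trfs L73333 (flp_f L5197) rfl
theorem L73348 : N526 = N1337 := eqes L73347 (flp_f L6559)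
theorem L73349 : N1337 = N526 := (eqc rfl L73348 rfl).symm
theorem L73350 : sm gg N668 = N1106 := trfs L73333 L5486 rfl
theorem L73352 : sm ga N526 = N667 := trfs L73349 (flp_a L6555) rfl
theorem L73353 : N667 = N1043 := eqes L73352 L5185
theorem L73354 : N1043 = N667 := (eqc rfl L73353 rfl).symm
theorem L73358 : sm gc N526 = N2767 := trfs L73349 L13361 rfl
theorem L73359 : N2767 = N1044 := eqes L73358 L5191
theorem L73360 : N2767 = N1044 := eqc rfl L73359 rfl
theorem L73361 : sm gd N526 = N2715 := trfs L73349 (flp_d L13076) rfl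
theorem L73362 : N2715 = N1037 := eqes L73361 (flp_d L5153)
theorem L73363 : N2715 = N1037 := eqc rfl L73362 rfl
theorem L73367 : sm gf N526 = N668 := trfs L73349 L6559 rfl
theorem L73369 : sm gg N526 = N1345 := trfs L73349 (flp_g L6606) rfl
theorem L73370 : N1345 = N281 := eqes L73369 L2695
theorem L73371 : N1345 = N281 := eqc rfl L73370 rfl
theorem L73382 : sm ge N281 = N698 := trfs L73371 L6604 rfl
theorem L73383 : N698 = N139 := eqes L73382 L1450
theorem L73384 : N698 = N139 := eqc rfl L73383 rfl
theorem L73390 : sm gc N139 = N1404 := trfs L73384 (flp_c L6832) rfl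
theorem L73391 : N1404 = N286 := eqes L73390 L1462
theorem L73392 : N1404 = N286 := eqc rfl L73391 rfl
theorem L73396 : sm ga N286 = N1125 := trfs L73392 (flp_a L67831) rfl
theorem L73397 : N1125 = N565 := eqes L73396 (flp_a L2869)
theorem L73398 : N1125 = N565 := eqc rfl L73397 rfl
theorem L73406 : sm gf N286 = N697 := trfs L73392 (flp_f L6828) rfl
theorem L73407 : N697 = N568 := eqes L73406 L2881
theorem L73408 : N697 = N568 := eqc rfl L73407 rfl
theorem L73409 : sm gg N286 = N1389 := trfs L73392 L6834 rfl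
theorem L73410 : N1389 = N533 := eqes L73409 (flp_g L2723)
theorem L73411 : N1389 = N533 := eqc rfl L73410 rfl
theorem L73412 : sm ga N533 = N691 := trfs L73411 L6773 rfl
theorem L73413 : N691 = N1056 := eqes L73412 (flp_a L5239)
theorem L73414 : N1056 = N691 := (eqc rfl L73413 rfl).symm
theorem L73419 : sm gd N533 = N2865 := trfs L73411 L13850 rfl
theorem L73420 : N2865 = N1057 := eqes L73419 L5243
theorem L73421 : N2865 = N1057 := eqc rfl L73420 rfl
theorem L73423 : sm gf N533 = N694 := trfs L73411 L6775 rfl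
theorem L73424 : N694 = N1058 := eqes L73423 L5247
theorem L73425 : N1058 = N694 := (eqc rfl L73424 rfl).symm
theorem L73433 : sm gd N694 = N2159 := trfs L73425 (flp_d L10415) rfl
theorem L73434 : N2159 = N1397 := eqes L73433 L6798
theorem L73435 : N2159 = N1397 := eqc rfl L73434 rfl
theorem L73437 : sm gf N694 = N533 := trfs L73425 (flp_f L5247) rfl
theorem L73439 : sm gg N694 = N1130 := trfs L73425 L5579 rfl
theorem L73440 : N1130 = N1398 := eqes L73439 L6802
theorem L73441 : N1398 = N1130 := (eqc rfl L73440 rfl).symm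
theorem L73447 : sm gd N1130 = N2882 := trfs L73441 (flp_d L13924) rfl
theorem L73448 : N2882 = N2320 := eqes L73447 (flp_d L11218)
theorem L73449 : N2882 = N2320 := eqc rfl L73448 rfl
theorem L73452 : sm gg N1130 = N694 := trfs L73441 (flp_g L6802) rfl
theorem L73454 : sm ga N2320 = N1402 := trfs L73449 L13922 rfl
theorem L73455 : N1402 = N1134 := eqes L73454 L11216
theorem L73456 : N1402 = N1134 := eqc rfl L73455 rfl
theorem L73466 : sm gf N2320 = N2308 := trfs L73449 (flp_f L51671) rfl
theorem L73467 : N2308 = N1129 := eqes L73466 (flp_f L11214)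
theorem L73468 : N2308 = N1129 := eqc rfl L73467 rfl
theorem L73479 : sm ge N1129 = N4792 := trfs L73468 L23159 rfl
theorem L73480 : N4792 = N2319 := eqes L73479 L11210
theorem L73481 : N4792 = N2319 := eqc rfl L73480 rfl
theorem L73482 : sm gg N1129 = N1390 := trfs L73468 (flp_g L51678) rfl
theorem L73483 : N1390 = N2156 := eqes L73482 (flp_g L10403)
theorem L73484 : N2156 = N1390 := (eqc rfl L73483 rfl).symm
theorem L73488 : sm gc N1390 = N1129 := trfs L73484 L21600 L72678
theorem L73489 : N1129 = N2866 := eqes L73488 L13856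
theorem L73490 : N2866 = N1129 := (eqc rfl L73489 rfl).symm
theorem L73492 : sm ge N1390 = N4482 := trfs L73484 L21608 rfl
theorem L73493 : N4482 = N2867 := eqes L73492 L13860
theorem L73494 : N4482 = N2867 := eqc rfl L73493 rfl
theorem L73495 : sm gf N1390 = N2330 := trfs L73484 L11266 rfl
theorem L73496 : N2330 = N696 := eqes L73495 L6780
theorem L73497 : N2330 = N696 := eqc rfl L73496 rfl
theorem L73498 : sm gg N1390 = N1129 := trfs L73484 L10403 rfl
theorem L73504 : sm gc N696 = N2320 := trfs L73497 (flp_c L23341) L72734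
theorem L73505 : N2320 = N1400 := eqes L73504 L6812
theorem L73506 : N2320 = N1400 := eqc rfl L73505 rfl
theorem L73508 : sm ge N696 = N4833 := trfs L73497 (flp_e L23355) rfl
theorem L73509 : N4833 = N1401 := eqes L73508 L6814
theorem L73510 : N4833 = N1401 := eqc rfl L73509 rfl
theorem L73513 : sm ga N1401 = N4487 := trfs L73510 L23353 rfl
theorem L73514 : N4487 = N2881 := eqes L73513 (flp_a L13918)
theorem L73515 : N4487 = N2881 := eqc rfl L73514 rfl
theorem L73516 : sm gd N1401 = N9762 := trfs L73510 (flp_d L47438) rfl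
theorem L73517 : N9762 = N2779 := eqes L73516 (flp_d L13432)
theorem L73518 : N9762 = N2779 := eqc rfl L73517 rfl
theorem L73520 : sm gg N1401 = N2328 := trfs L73510 (flp_g L23351) rfl
theorem L73521 : N2328 = N2889 := eqes L73520 L13954
theorem L73522 : N2889 = N2328 := (eqc rfl L73521 rfl).symm
theorem L73524 : sm gb N2328 = N5970 := trfs L73522 L28919 rfl
theorem L73525 : N5970 = N4832 := eqes L73524 L23345
theorem L73526 : N5970 = N4832 := eqc rfl L73525 rfl
theorem L73527 : sm gc N2328 = N5967 := trfs L73522 (flp_c L28905) rfl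
theorem L73528 : N5967 = N4829 := eqes L73527 (flp_c L23331)
theorem L73529 : N5967 = N4829 := eqc rfl L73528 rfl
theorem L73534 : sm gf N2328 = N5971 := trfs L73522 L28925 rfl
theorem L73535 : N5971 = N1133 := eqes L73534 (flp_f L11250)
theorem L73536 : N5971 = N1133 := eqc rfl L73535 rfl
theorem L73537 : sm gg N2328 = N1401 := trfs L73522 (flp_g L13954) rfl
theorem L73540 : sm gb N1133 = N4986 := trfs L73536 L72196 rfl
theorem L73541 : N4986 = N591 := eqes L73540 L5587
theorem L73542 : N4986 = N591 := eqc rfl L73541 rfl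
theorem L73552 : sm ga N591 = N2407 := trfs L73542 L24148 rfl
theorem L73553 : N2407 = N1173 := eqes L73552 (flp_a L5763)
theorem L73554 : N2407 = N1173 := eqc rfl L73553 rfl
theorem L73555 : sm ge N591 = N2403 := trfs L73542 (flp_e L24146) rfl
theorem L73556 : N2403 = N301 := eqes L73555 (flp_e L3001)
theorem L73557 : N2403 = N301 := eqc rfl L73556 rfl
theorem L73558 : sm ga N301 = N1170 := trfs L73557 L11604 rfl
theorem L73559 : N1170 = N589 := eqes L73558 (flp_a L2997)
theorem L73560 : N1170 = N589 := eqc rfl L73559 rfl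
theorem L73569 : sm gg N301 = N4988 := trfs L73557 L24156 rfl
theorem L73570 : N4988 = N494 := eqes L73569 (flp_g L2526)
theorem L73571 : N4988 = N494 := eqc rfl L73570 rfl
theorem L73581 : sm gf N494 = N4997 := trfs L73571 L24192 rfl
theorem L73582 : N4997 = N976 := eqes L73581 L4846
theorem L73583 : N4997 = N976 := eqc rfl L73582 rfl
theorem L73590 : sm gg N976 = N2408 := trfs L73583 (flp_g L24188) rfl
theorem L73591 : N2408 = N971 := eqes L73590 L4850
theorem L73592 : N2408 = N971 := eqc rfl L73591 rfl
theorem L73594 : sm gb N971 = N4039 := trfs L73592 (flp_b L19367) rfl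
theorem L73595 : N4039 = N1933 := eqes L73594 (flp_b L9349)
theorem L73596 : N4039 = N1933 := eqc rfl L73595 rfl
theorem L73597 : sm gc N971 = N4993 := trfs L73592 (flp_c L24174) rfl
theorem L73598 : N4993 = N1179 := eqes L73597 (flp_c L65522)
theorem L73599 : N4993 = N1179 := eqc rfl L73598 rfl
theorem L73600 : sm gd N971 = N1171 := trfs L73592 L11622 rfl
theorem L73601 : N1171 = N492 := eqes L73600 (flp_d L4823)
theorem L73602 : N1171 = N492 := eqc rfl L73601 rfl
theorem L73603 : sm ge N971 = N4995 := trfs L73592 (flp_e L24182) rfl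
theorem L73604 : N4995 = N1975 := eqes L73603 L9532
theorem L73605 : N4995 = N1975 := eqc rfl L73604 rfl
theorem L73607 : sm gb N1975 = N8437 := trfs L73605 (flp_b L40843) rfl
theorem L73608 : N8437 = N4038 := eqes L73607 (flp_b L19361)
theorem L73609 : N8437 = N4038 := eqc rfl L73608 rfl
theorem L73612 : sm gf N4038 = N4038 := trfs L73609 (flp_f L40839) rfl
theorem L73616 : sm gb N492 = N1934 := trfs L73602 (flp_b L9355) rfl
theorem L73617 : N1934 = N949 := eqes L73616 (flp_b L4715)
theorem L73618 : N1934 = N949 := eqc rfl L73617 rfl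
theorem L73625 : sm gf N492 = N588 := trfs L73602 (flp_f L5757) rfl
theorem L73626 : N588 = N300 := eqes L73625 L2516
theorem L73627 : N588 = N300 := eqc rfl L73626 rfl
theorem L73630 : sm gb N300 = N300 := trfs L73627 (flp_b L2993) rfl
theorem L73635 : sm ge N300 = N1147 := trfs L73627 (flp_e L5657) rfl
theorem L73636 : N1147 = N576 := eqes L73635 (flp_e L2938)
theorem L73637 : N1147 = N576 := eqc rfl L73636 rfl
theorem L73638 : sm gg N300 = N1172 := trfs L73627 L5759 rfl
theorem L73639 : N1172 = N307 := eqes L73638 L65388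
theorem L73640 : N1172 = N307 := eqc rfl L73639 rfl
theorem L73642 : sm gb N307 = N1191 := trfs L73640 (flp_b L71276) rfl
theorem L73643 : N1191 = N600 := eqes L73642 L3049
theorem L73644 : N1191 = N600 := eqc rfl L73643 rfl
theorem L73652 : sm gf N307 = N2411 := trfs L73640 L11632 rfl
theorem L73653 : N2411 = N594 := eqes L73652 L65362
theorem L73654 : N2411 = N594 := eqc rfl L73653 rfl
theorem L73663 : sm ge N594 = N4898 := trfs L73654 (flp_e L23693) rfl
theorem L73664 : N4898 = N1153 := eqes L73663 (flp_e L5683)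
theorem L73665 : N4898 = N1153 := eqc rfl L73664 rfl
theorem L73671 : sm gg N1153 = N4891 := trfs L73665 L23695 rfl
theorem L73672 : N4891 = N578 := eqes L73671 (flp_g L5677)
theorem L73673 : N4891 = N578 := eqc rfl L73672 rfl
theorem L73679 : sm gf N578 = N2355 := trfs L73673 (flp_f L23655) rfl
theorem L73680 : N2355 = N292 := eqes L73679 (flp_f L2942)
theorem L73681 : N2355 = N292 := eqc rfl L73680 rfl
theorem L73691 : sm gg N292 = N4892 := trfs L73681 L23661 rfl
theorem L73692 : N4892 = N487 := eqes L73691 (flp_g L2480)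
theorem L73693 : N4892 = N487 := eqc rfl L73692 rfl
theorem L73698 : sm gc N487 = N6899 := trfs L73693 L71982 rfl
theorem L73699 : N6899 = N245 := eqes L73698 (flp_c L2476)
theorem L73700 : N6899 = N245 := eqc rfl L73699 rfl
theorem L73709 : sm ge N245 = N3344 := trfs L73700 L33282 rfl
theorem L73710 : N3344 = N119 := eqes L73709 L1251
theorem L73711 : N3344 = N119 := eqc rfl L73710 rfl
theorem L73724 : sm gg N119 = N2397 := trfs L73711 (flp_g L71298) rfl
theorem L73725 : N2397 = N65 := eqes L73724 L588
theorem L73726 : N2397 = N65 := eqc rfl L73725 rfl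
theorem L73736 : sm gf N65 = N4973 := trfs L73726 L24087 rfl
theorem L73737 : N4973 = N147 := eqes L73736 L723
theorem L73738 : N4973 = N147 := eqc rfl L73737 rfl
theorem L73740 : sm gb N147 = N9836 := trfs L73738 (flp_b L72577) rfl
theorem L73741 : N9836 = N180 := eqes L73740 (flp_b L903)
theorem L73742 : N9836 = N180 := eqc rfl L73741 rfl
theorem L73748 : sm gf N180 = N4780 := trfs L73742 L72575 rfl
theorem L73749 : N4780 = N84 := eqes L73748 (flp_f L899)
theorem L73750 : N4780 = N84 := eqc rfl L73749 rfl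
theorem L73763 : sm ge N84 = N9709 := trfs L73750 (flp_e L47137) rfl
theorem L73764 : N9709 = N176 := eqes L73763 (flp_e L882)
theorem L73765 : N9709 = N176 := eqc rfl L73764 rfl
theorem L73770 : sm gc N176 = N4701 := trfs L73765 (flp_c L47135) rfl
theorem L73771 : N4701 = N353 := eqes L73770 L1786
theorem L73772 : N4701 = N353 := eqc rfl L73771 rfl
theorem L73777 : sm gb N353 = N2260 := trfs L73772 (flp_b L22693) rfl
theorem L73778 : N2260 = N663 := eqes L73777 (flp_b L3360)
theorem L73779 : N2260 = N663 := eqc rfl L73778 rfl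
theorem L73784 : sm gf N353 = N9707 := trfs L73772 (flp_f L47128) rfl
theorem L73785 : N9707 = N702 := eqes L73784 L3520
theorem L73786 : N9707 = N702 := eqc rfl L73785 rfl
theorem L73788 : sm gb N702 = N4700 := trfs L73786 (flp_b L47124) rfl
theorem L73789 : N4700 = N1412 := eqes L73788 L6871
theorem L73790 : N4700 = N1412 := eqc rfl L73789 rfl
theorem L73792 : sm ga N1412 = N4880 := trfs L73790 (flp_a L23587) rfl
theorem L73793 : N4880 = N2909 := eqes L73792 L14052
theorem L73794 : N4880 = N2909 := eqc rfl L73793 rfl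
theorem L73796 : sm gd N1412 = N9705 := trfs L73790 (flp_d L47117) rfl
theorem L73797 : N9705 = N2908 := eqes L73796 (flp_d L14050)
theorem L73798 : N9705 = N2908 := eqc rfl L73797 rfl
theorem L73799 : sm ge N1412 = N2301 := trfs L73790 L22691 rfl
theorem L73800 : N2301 = N713 := eqes L73799 L6873
theorem L73801 : N2301 = N713 := eqc rfl L73800 rfl
theorem L73802 : sm gf N1412 = N2259 := trfs L73790 (flp_f L22689) rfl
theorem L73803 : N2259 = N2751 := eqes L73802 (flp_f L13271)
theorem L73804 : N2751 = N2259 := (eqc rfl L73803 rfl).symm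
theorem L73805 : sm gg N1412 = N4878 := trfs L73790 L23575 rfl
theorem L73806 : N4878 = N2910 := eqes L73805 L14058
theorem L73807 : N4878 = N2910 := eqc rfl L73806 rfl
theorem L73808 : sm ga N2910 = N2351 := trfs L73807 L23571 rfl
theorem L73809 : N2351 = N5982 := eqes L73808 (flp_a L52220)
theorem L73810 : N5982 = N2351 := (eqc rfl L73809 rfl).symm
theorem L73814 : sm gc N2910 = N6044 := trfs L73807 (flp_c L29293) rfl
theorem L73815 : N6044 = N2368 := eqes L73814 L14060
theorem L73816 : N6044 = N2368 := eqc rfl L73815 rfl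
theorem L73817 : sm ge N2910 = N2392 := trfs L73807 L23573 rfl
theorem L73818 : N2392 = N1433 := eqes L73817 L14062
theorem L73819 : N2392 = N1433 := eqc rfl L73818 rfl
theorem L73820 : sm gf N2910 = N2350 := trfs L73807 (flp_f L23569) rfl
theorem L73821 : N2350 = N6013 := eqes L73820 L29129
theorem L73822 : N6013 = N2350 := (eqc rfl L73821 rfl).symm
theorem L73826 : sm gc N2350 = N4918 := trfs L73822 L29133 rfl
theorem L73827 : N4918 = N2924 := eqes L73826 (flp_c L14132)
theorem L73828 : N4918 = N2924 := eqc rfl L73827 rfl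
theorem L73832 : sm gf N2350 = N2910 := trfs L73822 (flp_f L29129) rfl
theorem L73834 : sm gg N2350 = N5710 := trfs L73822 L29137 rfl
theorem L73835 : N5710 = N4699 := eqes L73834 (flp_g L22687)
theorem L73836 : N5710 = N4699 := eqc rfl L73835 rfl
theorem L73838 : sm gc N4699 = N4730 := trfs L73836 L27644 rfl
theorem L73839 : N4730 = N5765 := eqes L73838 (flp_c L27976)
theorem L73840 : N5765 = N4730 := (eqc rfl L73839 rfl).symm
theorem L73841 : sm ge N4699 = N2837 := trfs L73836 L27646 rfl
theorem L73842 : N2837 = N2300 := eqes L73841 L22685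
theorem L73843 : N2837 = N2300 := eqc rfl L73842 rfl
theorem L73846 : sm ga N2300 = N1373 := trfs L73843 (flp_a L13714) rfl
theorem L73847 : N1373 = N1121 := eqes L73846 (flp_a L11133)
theorem L73848 : N1373 = N1121 := eqc rfl L73847 rfl
theorem L73852 : sm gc N2300 = N2331 := trfs L73843 L13716 rfl
theorem L73853 : N2331 = N2892 := eqes L73852 (flp_c L13974)
theorem L73854 : N2892 = N2331 := (eqc rfl L73853 rfl).symm
theorem L73858 : sm gf N2300 = N1432 := trfs L73843 L13718 rfl
theorem L73859 : N1432 = N2394 := eqes L73858 L11561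
theorem L73860 : N2394 = N1432 := (eqc rfl L73859 rfl).symm
theorem L73863 : sm gb N1432 = N4967 := trfs L73860 L24058 rfl
theorem L73864 : N4967 = N2952 := eqes L73863 L14239
theorem L73865 : N4967 = N2952 := eqc rfl L73864 rfl
theorem L73866 : sm gc N1432 = N2983 := trfs L73860 (flp_c L14374) rfl
theorem L73867 : N2983 = N1180 := eqes L73866 L6961
theorem L73868 : N2983 = N1180 := eqc rfl L73867 rfl
theorem L73869 : sm gd N1432 = N4960 := trfs L73860 (flp_d L24028) rfl
theorem L73870 : N4960 = N2949 := eqes L73869 (flp_d L14231)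
theorem L73871 : N4960 = N2949 := eqc rfl L73870 rfl
theorem L73873 : sm gf N1432 = N2300 := trfs L73860 (flp_f L11561) rfl
theorem L73875 : sm gg N1432 = N1165 := trfs L73860 (flp_g L11557) rfl
theorem L73876 : N1165 = N2926 := eqes L73875 L52216
theorem L73877 : N2926 = N1165 := (eqc rfl L73876 rfl).symm
theorem L73880 : sm gb N1165 = N1420 := trfs L73877 (flp_b L14142) rfl
theorem L73881 : N1420 = N2393 := eqes L73880 L11551
theorem L73882 : N2393 = N1420 := (eqc rfl L73881 rfl).symm
theorem L73883 : sm gc N1165 = N2426 := trfs L73877 (flp_c L52234) rfl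
theorem L73884 : N2426 = N1447 := eqes L73883 (flp_c L7020)
theorem L73885 : N2426 = N1447 := eqc rfl L73884 rfl
theorem L73886 : sm gd N1165 = N6047 := trfs L73877 L29311 rfl
theorem L73887 : N6047 = N2389 := eqes L73886 (flp_d L11537)
theorem L73888 : N6047 = N2389 := eqc rfl L73887 rfl
theorem L73890 : sm gf N1165 = N2838 := trfs L73877 (flp_f L52218) rfl
theorem L73891 : N2838 = N585 := eqes L73890 (flp_f L5733)
theorem L73892 : N2838 = N585 := eqc rfl L73891 rfl
theorem L73893 : sm gg N1165 = N1432 := trfs L73877 (flp_g L52216) rfl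
theorem L73899 : sm gc N585 = N2332 := trfs L73892 L13722 rfl
theorem L73900 : N2332 = N720 := eqes L73899 (flp_c L3609)
theorem L73901 : N2332 = N720 := eqc rfl L73900 rfl
theorem L73902 : sm gd N585 = N5867 := trfs L73892 (flp_d L28479) rfl
theorem L73903 : N5867 = N1162 := eqes L73902 (flp_d L5719)
theorem L73904 : N5867 = N1162 := eqc rfl L73903 rfl
theorem L73907 : sm ga N1162 = N6100 := trfs L73904 (flp_a L29528) rfl
theorem L73908 : N6100 = N2387 := eqes L73907 L11529
theorem L73909 : N6100 = N2387 := eqc rfl L73908 rfl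
theorem L73911 : sm gg N1162 = N2835 := trfs L73904 (flp_g L28477) rfl
theorem L73912 : N2835 = N2298 := eqes L73911 (flp_g L11123)
theorem L73913 : N2835 = N2298 := eqc rfl L73912 rfl
theorem L73915 : sm gb N2298 = N1372 := trfs L73913 (flp_b L13700) rfl
theorem L73916 : N1372 = N1120 := eqes L73915 (flp_b L11119)
theorem L73917 : N1372 = N1120 := eqc rfl L73916 rfl
theorem L73922 : sm ge N2298 = N5863 := trfs L73913 (flp_e L28455) rfl
theorem L73923 : N5863 = N4772 := eqes L73922 (flp_e L23068)
theorem L73924 : N5863 = N4772 := eqc rfl L73923 rfl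
theorem L73925 : sm gf N2298 = N1431 := trfs L73913 L13704 rfl
theorem L73926 : N1431 = N4776 := eqes L73925 L23090
theorem L73927 : N4776 = N1431 := (eqc rfl L73926 rfl).symm
theorem L73939 : sm gf N1431 = N2298 := trfs L73927 (flp_f L23090) rfl
theorem L73941 : sm gg N1431 = N4956 := trfs L73927 L24010 rfl
theorem L73942 : N4956 = N2951 := eqes L73941 L14235
theorem L73943 : N4956 = N2951 := eqc rfl L73942 rfl
theorem L73946 : sm gb N2951 = N9211 := trfs L73943 (flp_b L72176) rfl
theorem L73947 : N9211 = N5834 := eqes L73946 (flp_b L52187)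
theorem L73948 : N9211 = N5834 := eqc rfl L73947 rfl
theorem L73952 : sm ga N5834 = N4458 := trfs L73948 (flp_a L44741) rfl
theorem L73953 : N4458 = N2822 := eqes L73952 L28305
theorem L73954 : N4458 = N2822 := eqc rfl L73953 rfl
theorem L73955 : sm gd N5834 = N4459 := trfs L73948 L44743 rfl
theorem L73956 : N4459 = N2821 := eqes L73955 (flp_d L28303)
theorem L73957 : N4459 = N2821 := eqc rfl L73956 rfl
theorem L73966 : sm gf N2821 = N5932 := trfs L73957 (flp_f L59507) rfl
theorem L73967 : N5932 = N5835 := eqes L73966 L28307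
theorem L73968 : N5932 = N5835 := eqc rfl L73967 rfl
theorem L73969 : sm gg N2821 = N7831 := trfs L73957 (flp_g L37669) rfl
theorem L73970 : N7831 = N1426 := eqes L73969 L52179
theorem L73971 : N7831 = N1426 := eqc rfl L73970 rfl
theorem L73972 : sm ga N1426 = N3748 := trfs L73971 (flp_a L37667) rfl
theorem L73973 : N3748 = N2824 := eqes L73972 (flp_a L52135)
theorem L73974 : N3748 = N2824 := eqc rfl L73973 rfl
theorem L73978 : sm gc N1426 = N5941 := trfs L73971 L71829 rfl
theorem L73979 : N5941 = N1440 := eqes L73978 (flp_c L6993)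
theorem L73980 : N5941 = N1440 := eqc rfl L73979 rfl
theorem L73981 : sm gf N1426 = N4968 := trfs L73971 L37671 rfl
theorem L73982 : N4968 = N2934 := eqes L73981 (flp_f L14173)
theorem L73983 : N4968 = N2934 := eqc rfl L73982 rfl
theorem L73984 : sm ga N2934 = N2872 := trfs L73983 L59766 rfl
theorem L73985 : N2872 = N4490 := eqes L73984 (flp_a L67505)
theorem L73986 : N4490 = N2872 := (eqc rfl L73985 rfl).symm
theorem L73987 : sm gb N2934 = N2395 := trfs L73983 (flp_b L24060) rfl
theorem L73988 : N2395 = N1422 := eqes L73987 (flp_b L14171)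
theorem L73989 : N2395 = N1422 := eqc rfl L73988 rfl
theorem L73990 : sm gc N2934 = N2876 := trfs L73983 L59768 rfl
theorem L73991 : N2876 = N2969 := eqes L73990 (flp_c L14320)
theorem L73992 : N2969 = N2876 := (eqc rfl L73991 rfl).symm
theorem L73993 : sm gg N2934 = N4461 := trfs L73983 L24079 rfl
theorem L73994 : N4461 = N2823 := eqes L73993 (flp_g L52130)
theorem L73995 : N4461 = N2823 := eqc rfl L73994 rfl
theorem L74000 : sm gc N2823 = N5942 := trfs L73995 (flp_c L59481) rfl
theorem L74001 : N5942 = N5827 := eqes L74000 (flp_c L28277)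
theorem L74002 : N5942 = N5827 := eqc rfl L74001 rfl
theorem L74003 : sm gd N2823 = N9213 := trfs L73995 (flp_d L44749) rfl
theorem L74004 : N9213 = N5839 := eqes L74003 (flp_d L28327)
theorem L74005 : N9213 = N5839 := eqc rfl L74004 rfl
theorem L74006 : sm ge N2823 = N9157 := trfs L73995 (flp_e L44454) rfl
theorem L74007 : N9157 = N5696 := eqes L74006 (flp_e L27566)
theorem L74008 : N9157 = N5696 := eqc rfl L74007 rfl
theorem L74010 : sm gb N5696 = N9687 := trfs L74008 (flp_b L47021) rfl
theorem L74012 : sm gf N5696 = N4425 := trfs L74008 (flp_f L44452) rfl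
theorem L74013 : N4425 = N2744 := eqes L74012 (flp_f L27564)
theorem L74014 : N4425 = N2744 := eqc rfl L74013 rfl
theorem L74016 : sm gb N2744 = N2123 := trfs L74014 (flp_b L21327) rfl
theorem L74017 : N2123 = N1327 := eqes L74016 (flp_b L13227)
theorem L74018 : N2123 = N1327 := eqc rfl L74017 rfl
theorem L74019 : sm gc N2744 = N9156 := trfs L74014 L44446 rfl
theorem L74020 : N9156 = N5690 := eqes L74019 (flp_c L27536)
theorem L74021 : N9156 = N5690 := eqc rfl L74020 rfl
theorem L74026 : sm gg N2744 = N7784 := trfs L74014 (flp_g L37390) rfl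
theorem L74027 : N7784 = N5697 := eqes L74026 L27568
theorem L74028 : N7784 = N5697 := eqc rfl L74027 rfl
theorem L74029 : sm gb N5697 = N3726 := trfs L74028 (flp_b L37386) rfl
theorem L74030 : N3726 = N7805 := eqes L74029 (flp_b L37514)
theorem L74031 : N7805 = N3726 := (eqc rfl L74030 rfl).symm
theorem L74032 : sm gc N5697 = N5751 := trfs L74028 (flp_c L71831) rfl
theorem L74033 : N5751 = N6030 := eqes L74032 (flp_c L52156)
theorem L74034 : N6030 = N5751 := (eqc rfl L74033 rfl).symm
theorem L74036 : sm gf N5697 = N5745 := trfs L74028 L71835 rfl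
theorem L74037 : N5745 = N9186 := eqes L74036 (flp_f L44611)
theorem L74038 : N9186 = N5745 := (eqc rfl L74037 rfl).symm
theorem L74039 : sm ga N5745 = N5990 := trfs L74038 (flp_a L71595) rfl
theorem L74041 : sm gb N5745 = N4444 := trfs L74038 L44613 rfl
theorem L74042 : N4444 = N2771 := eqes L74041 (flp_b L27866)
theorem L74043 : N4444 = N2771 := eqc rfl L74042 rfl
theorem L74044 : sm gc N5745 = N4442 := trfs L74038 (flp_c L44607) rfl
theorem L74045 : N4442 = N2774 := eqes L74044 L27870
theorem L74046 : N4442 = N2774 := eqc rfl L74045 rfl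
theorem L74048 : sm gf N5745 = N5697 := trfs L74038 L44611 rfl
theorem L74050 : sm ga N2774 = N6031 := trfs L74046 (flp_a L67689) rfl
theorem L74051 : N6031 = N5749 := eqes L74050 L27888
theorem L74052 : N6031 = N5749 := eqc rfl L74051 rfl
theorem L74059 : sm gg N2774 = N9187 := trfs L74046 L44615 rfl
theorem L74060 : N9187 = N5752 := eqes L74059 L27900
theorem L74061 : N9187 = N5752 := eqc rfl L74060 rfl
theorem L74064 : sm ge N5752 = N4491 := trfs L74061 L44617 rfl
theorem L74065 : N4491 = N2879 := eqes L74064 L27902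
theorem L74066 : N4491 = N2879 := eqc rfl L74065 rfl
theorem L74067 : sm gf N5752 = N6023 := trfs L74061 L71430 rfl
theorem L74076 : sm gd N2879 = N9276 := trfs L74066 (flp_d L45006) rfl
theorem L74077 : N9276 = N5946 := eqes L74076 (flp_d L28801)
theorem L74078 : N9276 = N5946 := eqc rfl L74077 rfl
theorem L74084 : sm gg N5946 = N4488 := trfs L74078 (flp_g L45004) rfl
theorem L74085 : N4488 = N2877 := eqes L74084 (flp_g L28799)
theorem L74086 : N4488 = N2877 := eqc rfl L74085 rfl
theorem L74087 : sm ga N2877 = N6133 := trfs L74086 (flp_a L67691) rfl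
theorem L74088 : N6133 = N5940 := eqes L74087 (flp_a L28779)
theorem L74089 : N6133 = N5940 := eqc rfl L74088 rfl
theorem L74098 : sm gf N2877 = N6131 := trfs L74086 (flp_f L52258) rfl
theorem L74099 : N6131 = N5945 := eqes L74098 L28795
theorem L74100 : N6131 = N5945 := eqc rfl L74099 rfl
theorem L74106 : sm gd N5945 = N2968 := trfs L74100 L29646 rfl
theorem L74107 : N2968 = N2878 := eqes L74106 L28797
theorem L74108 : N2968 = N2878 := eqc rfl L74107 rfl
theorem L74109 : sm gg N5945 = N5826 := trfs L74100 L52260 rfl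
theorem L74110 : N5826 = N9217 := eqes L74109 L71821
theorem L74111 : N9217 = N5826 := (eqc rfl L74110 rfl).symm
theorem L74112 : sm gb N5826 = N4463 := trfs L74111 L44765 rfl
theorem L74113 : N4463 = N2818 := eqes L74112 L28271
theorem L74114 : N4463 = N2818 := eqc rfl L74113 rfl
theorem L74115 : sm gd N5826 = N4460 := trfs L74111 (flp_d L44763) rfl
theorem L74116 : N4460 = N2817 := eqes L74115 (flp_d L28269)
theorem L74117 : N4460 = N2817 := eqc rfl L74116 rfl
theorem L74118 : sm gg N5826 = N5945 := trfs L74111 (flp_g L71821) rfl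
theorem L74121 : sm gb N2817 = N2144 := trfs L74117 L21521 rfl
theorem L74122 : N2144 = N1363 := eqes L74121 (flp_b L13620)
theorem L74123 : N2144 = N1363 := eqc rfl L74122 rfl
theorem L74129 : sm ga N1363 = N2819 := trfs L74123 (flp_a L70382) rfl
theorem L74130 : N2819 = N2815 := eqes L74129 (flp_a L13610)
theorem L74131 : N2819 = N2815 := eqc rfl L74130 rfl
theorem L74132 : sm gc N1363 = N1051 := trfs L74123 (flp_c L10351) rfl
theorem L74133 : N1051 = N679 := eqes L74132 (flp_c L6673)
theorem L74134 : N1051 = N679 := eqc rfl L74133 rfl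
theorem L74136 : sm ge N1363 = N4427 := trfs L74123 (flp_e L21339) rfl
theorem L74137 : N4427 = N2741 := eqes L74136 (flp_e L13215)
theorem L74138 : N4427 = N2741 := eqc rfl L74137 rfl
theorem L74141 : sm gg N1363 = N1053 := trfs L74123 L10353 rfl
theorem L74142 : N1053 = N2149 := eqes L74141 (flp_g L59897)
theorem L74143 : N2149 = N1053 := (eqc rfl L74142 rfl).symm
theorem L74147 : sm gb N1053 = N1942 := trfs L74143 L59893 rfl
theorem L74148 : N1942 = N1810 := eqes L74147 (flp_b L8777)
theorem L74149 : N1942 = N1810 := eqc rfl L74148 rfl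
theorem L74150 : sm gc N1053 = N1054 := trfs L74143 L10379 rfl
theorem L74151 : N1054 = N531 := eqes L74150 (flp_c L5229)
theorem L74152 : N1054 = N531 := eqc rfl L74151 rfl
theorem L74153 : sm gd N1053 = N4470 := trfs L74143 (flp_d L21557) rfl
theorem L74154 : N4470 = N2148 := eqes L74153 L10375
theorem L74155 : N4470 = N2148 := eqc rfl L74154 rfl
theorem L74156 : sm ge N1053 = N4432 := trfs L74143 (flp_e L21369) rfl
theorem L74157 : N4432 = N2126 := eqes L74156 (flp_e L10259)
theorem L74158 : N4432 = N2126 := eqc rfl L74157 rfl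
theorem L74159 : sm gf N1053 = N1053 := trfs L74143 (flp_f L10377) rfl
theorem L74160 : sm gg N1053 = N1363 := trfs L74143 L59897 rfl
theorem L74162 : sm ga N2126 = N5757 := trfs L74158 (flp_a L27930) rfl
theorem L74163 : N5757 = N4430 := eqes L74162 (flp_a L21359)
theorem L74164 : N5757 = N4430 := eqc rfl L74163 rfl
theorem L74165 : sm gb N2126 = N3974 := trfs L74158 L70346 rfl
theorem L74166 : N3974 = N3729 := eqes L74165 (flp_b L17922)
theorem L74167 : N3974 = N3729 := eqc rfl L74166 rfl
theorem L74168 : sm gc N2126 = N2127 := trfs L74158 L21367 rfl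
theorem L74169 : N2127 = N1042 := eqes L74168 (flp_c L10257)
theorem L74170 : N2127 = N1042 := eqc rfl L74169 rfl
theorem L74171 : sm gd N2126 = N9166 := trfs L74158 (flp_d L44498) rfl
theorem L74172 : N9166 = N4431 := eqes L74171 L21363
theorem L74173 : N9166 = N4431 := eqc rfl L74172 rfl
theorem L74174 : sm gf N2126 = N2126 := trfs L74158 (flp_f L21365) rfl
theorem L74177 : sm gb N4431 = N8323 := trfs L74173 (flp_b L72152) rfl
theorem L74178 : N8323 = N7791 := eqes L74177 (flp_b L37428)
theorem L74179 : N8323 = N7791 := eqc rfl L74178 rfl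
theorem L74180 : sm gf N4431 = N4431 := trfs L74173 (flp_f L44496) rfl
theorem L74181 : sm gg N4431 = N5691 := trfs L74173 L72156 rfl
theorem L74182 : N5691 = N9159 := eqes L74181 (flp_g L44466)
theorem L74183 : N9159 = N5691 := (eqc rfl L74182 rfl).symm
theorem L74185 : sm gg N5691 = N4431 := trfs L74183 L44466 rfl
theorem L74187 : sm ga N7791 = N3978 := trfs L74179 L40217 rfl
theorem L74190 : sm gf N7791 = N3973 := trfs L74179 (flp_f L40215) rfl
theorem L74191 : N3973 = N8319 := eqes L74190 L72033
theorem L74192 : N8319 = N3973 := (eqc rfl L74191 rfl).symm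
theorem L74193 : sm gg N7791 = N7802 := trfs L74179 (flp_g L40221) rfl
theorem L74195 : sm gb N3973 = N3973 := trfs L74192 L40197 rfl
theorem L74196 : sm gd N3973 = N3972 := trfs L74192 (flp_d L40195) rfl
theorem L74197 : N3972 = N1904 := eqes L74196 (flp_d L19077)
theorem L74198 : N3972 = N1904 := eqc rfl L74197 rfl
theorem L74199 : sm gf N3973 = N7791 := trfs L74192 (flp_f L72033) rfl
theorem L74202 : sm gb N1904 = N1904 := trfs L74198 (flp_b L19073) rfl
theorem L74203 : sm gc N1904 = N3730 := trfs L74198 L67428 rfl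
theorem L74204 : N3730 = N937 := eqes L74203 (flp_c L9221)
theorem L74205 : N3730 = N937 := eqc rfl L74204 rfl
theorem L74209 : sm gg N1904 = N7795 := trfs L74198 L37452 rfl
theorem L74210 : N7795 = N3732 := eqes L74209 (flp_g L17940)
theorem L74211 : N7795 = N3732 := eqc rfl L74210 rfl
theorem L74215 : sm gc N3732 = N3731 := trfs L74211 (flp_c L37448) rfl
theorem L74216 : N3731 = N1800 := eqes L74215 (flp_c L17934)
theorem L74217 : N3731 = N1800 := eqc rfl L74216 rfl
theorem L74218 : sm ge N3732 = N3759 := trfs L74211 L37450 rfl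
theorem L74219 : N3759 = N1813 := eqes L74218 L17938
theorem L74220 : N3759 = N1813 := eqc rfl L74219 rfl
theorem L74222 : sm gb N1813 = N7853 := trfs L74220 L37773 rfl
theorem L74223 : N7853 = N3762 := eqes L74222 L18059
theorem L74224 : N7853 = N3762 := eqc rfl L74223 rfl
theorem L74225 : sm gc N1813 = N1812 := trfs L74220 (flp_c L18051) rfl
theorem L74226 : N1812 = N898 := eqes L74225 (flp_c L8785)
theorem L74227 : N1812 = N898 := eqc rfl L74226 rfl
theorem L74231 : sm gf N1813 = N7835 := trfs L74220 (flp_f L67409) rfl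
theorem L74232 : N7835 = N1948 := eqes L74231 L9407
theorem L74233 : N7835 = N1948 := eqc rfl L74232 rfl
theorem L74241 : sm gg N1948 = N3753 := trfs L74233 L37689 rfl
theorem L74242 : N3753 = N955 := eqes L74241 (flp_g L9401)
theorem L74243 : N3753 = N955 := eqc rfl L74242 rfl
theorem L74249 : sm gc N955 = N1809 := trfs L74243 (flp_c L18025) rfl
theorem L74250 : N1809 = N481 := eqes L74249 L4739
theorem L74251 : N1809 = N481 := eqc rfl L74250 rfl
theorem L74252 : sm gd N955 = N7842 := trfs L74243 L37717 rfl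
theorem L74253 : N7842 = N1946 := eqes L74252 (flp_d L9395)
theorem L74254 : N7842 = N1946 := eqc rfl L74253 rfl
theorem L74258 : sm gf N955 = N3341 := trfs L74243 (flp_f L67399) rfl
theorem L74259 : N3341 = N480 := eqes L74258 (flp_f L4737)
theorem L74260 : N3341 = N480 := eqc rfl L74259 rfl
theorem L74263 : sm gc N480 = N1620 := trfs L74260 (flp_c L16078) rfl
theorem L74264 : N1620 = N241 := eqes L74263 (flp_c L2440)
theorem L74265 : N1620 = N241 := eqc rfl L74264 rfl
theorem L74269 : sm ga N241 = N1811 := trfs L74265 (flp_a L67475) rfl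
theorem L74270 : N1811 = N479 := eqes L74269 L2438
theorem L74271 : N1811 = N479 := eqc rfl L74270 rfl
theorem L74282 : sm gg N241 = N3343 := trfs L74265 L16082 rfl
theorem L74283 : N3343 = N455 := eqes L74282 (flp_g L2322)
theorem L74284 : N3343 = N455 := eqc rfl L74283 rfl
theorem L74296 : sm gf N455 = N1808 := trfs L74284 (flp_f L67386) rfl
theorem L74297 : N1808 = N900 := eqes L74296 L4497
theorem L74298 : N1808 = N900 := eqc rfl L74297 rfl
theorem L74300 : sm gb N900 = N896 := trfs L74298 (flp_b L8769) rfl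
theorem L74301 : N896 = N1816 := eqes L74300 L8801
theorem L74302 : N1816 = N896 := (eqc rfl L74301 rfl).symm
theorem L74304 : sm gd N900 = N3692 := trfs L74298 (flp_d L17750) rfl
theorem L74305 : N3692 = N1786 := eqes L74304 (flp_d L8661)
theorem L74306 : N3692 = N1786 := eqc rfl L74305 rfl
theorem L74307 : sm ge N900 = N3727 := trfs L74298 (flp_e L17910) rfl
theorem L74308 : N3727 = N1802 := eqes L74307 (flp_e L8745)
theorem L74309 : N3727 = N1802 := eqc rfl L74308 rfl
theorem L74310 : sm gg N900 = N897 := trfs L74298 L8771 rfl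
theorem L74311 : N897 = N953 := eqes L74310 L4731
theorem L74312 : N953 = N897 := (eqc rfl L74311 rfl).symm
theorem L74319 : sm gd N897 = N1870 := trfs L74312 (flp_d L9069) rfl
theorem L74320 : N1870 = N1783 := eqes L74319 (flp_d L8647)
theorem L74321 : N1870 = N1783 := eqc rfl L74320 rfl
theorem L74322 : sm ge N897 = N1905 := trfs L74312 (flp_e L9231) rfl
theorem L74323 : N1905 = N1799 := eqes L74322 (flp_e L8727)
theorem L74324 : N1905 = N1799 := eqc rfl L74323 rfl
theorem L74327 : sm gg N897 = N900 := trfs L74312 (flp_g L4731) rfl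
theorem L74329 : sm ga N1799 = N939 := trfs L74324 L9229 rfl
theorem L74330 : N939 = N3728 := eqes L74329 L17914
theorem L74331 : N3728 = N939 := (eqc rfl L74330 rfl).symm
theorem L74336 : sm gd N1799 = N3937 := trfs L74324 (flp_d L18897) rfl
theorem L74337 : N3937 = N3718 := eqes L74336 (flp_d L17864)
theorem L74338 : N3937 = N3718 := eqc rfl L74337 rfl
theorem L74343 : sm ga N3718 = N1891 := trfs L74338 L18895 rfl
theorem L74344 : N1891 = N7764 := eqes L74343 L37289
theorem L74345 : N7764 = N1891 := (eqc rfl L74344 rfl).symm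
theorem L74349 : sm gc N3718 = N8250 := trfs L74338 (flp_c L39819) rfl
theorem L74350 : N8250 = N7765 := eqes L74349 L37293
theorem L74351 : N8250 = N7765 := eqc rfl L74350 rfl
theorem L74352 : sm ge N3718 = N8030 := trfs L74338 (flp_e L38860) rfl
theorem L74353 : N8030 = N7674 := eqes L74352 (flp_e L36875)
theorem L74354 : N8030 = N7674 := eqc rfl L74353 rfl
theorem L74355 : sm gf N3718 = N1889 := trfs L74338 (flp_f L18893) rfl
theorem L74356 : N1889 = N7766 := eqes L74355 L37295
theorem L74357 : N7766 = N1889 := (eqc rfl L74356 rfl).symm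
theorem L74358 : sm gg N3718 = N3721 := trfs L74338 (flp_g L18899) rfl
theorem L74359 : N3721 = N7763 := eqes L74358 (flp_g L37287)
theorem L74360 : N7763 = N3721 := (eqc rfl L74359 rfl).symm
theorem L74361 : sm gb N3721 = N3717 := trfs L74360 (flp_b L37283) rfl
theorem L74362 : N3717 = N7771 := eqes L74361 L37319
theorem L74363 : N7771 = N3717 := (eqc rfl L74362 rfl).symm
theorem L74365 : sm gg N3721 = N3718 := trfs L74360 L37287 rfl
theorem L74367 : sm ga N3717 = N8261 := trfs L74363 (flp_a L71789) rfl
theorem L74368 : N8261 = N3931 := eqes L74367 (flp_a L18867)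
theorem L74369 : N8261 = N3931 := eqc rfl L74368 rfl
theorem L74370 : sm gb N3717 = N3721 := trfs L74363 (flp_b L37319) rfl
theorem L74372 : sm gd N3717 = N3735 := trfs L74363 L37321 rfl
theorem L74373 : N3735 = N1798 := eqes L74372 L17860
theorem L74374 : N3735 = N1798 := eqc rfl L74373 rfl
theorem L74375 : sm gf N3717 = N3722 := trfs L74363 L37323 rfl
theorem L74376 : N3722 = N3927 := eqes L74375 (flp_f L18851)
theorem L74377 : N3927 = N3722 := (eqc rfl L74376 rfl).symm
theorem L74378 : sm ga N3722 = N1887 := trfs L74377 L18847 rfl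
theorem L74379 : N1887 = N7772 := eqes L74378 L37325
theorem L74380 : N7772 = N1887 := (eqc rfl L74379 rfl).symm
theorem L74384 : sm gc N3722 = N8227 := trfs L74377 (flp_c L39721) rfl
theorem L74385 : N8227 = N7773 := eqes L74384 L37329
theorem L74386 : N8227 = N7773 := eqc rfl L74385 rfl
theorem L74387 : sm gd N3722 = N1895 := trfs L74377 L18849 rfl
theorem L74388 : N1895 = N1803 := eqes L74387 L17882
theorem L74389 : N1895 = N1803 := eqc rfl L74388 rfl
theorem L74390 : sm ge N3722 = N8020 := trfs L74377 (flp_e L38794) rfl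
theorem L74391 : N8020 = N7678 := eqes L74390 (flp_e L36901)
theorem L74392 : N8020 = N7678 := eqc rfl L74391 rfl
theorem L74393 : sm gf N3722 = N3717 := trfs L74377 L18851 rfl
theorem L74395 : sm gg N3722 = N1885 := trfs L74377 (flp_g L18845) rfl
theorem L74396 : N1885 = N7774 := eqes L74395 L37331
theorem L74397 : N7774 = N1885 := (eqc rfl L74396 rfl).symm
theorem L74398 : sm gb N1885 = N7626 := trfs L74397 L37335 rfl
theorem L74399 : N7626 = N3925 := eqes L74398 L18837
theorem L74400 : N7626 = N3925 := eqc rfl L74399 rfl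
theorem L74401 : sm gd N1885 = N3738 := trfs L74397 L37333 rfl
theorem L74402 : N3738 = N933 := eqes L74401 L9133
theorem L74403 : N3738 = N933 := eqc rfl L74402 rfl
theorem L74404 : sm gg N1885 = N3722 := trfs L74397 (flp_g L37331) rfl
theorem L74409 : sm gb N933 = N3658 := trfs L74403 L17974 rfl
theorem L74410 : N3658 = N1893 := eqes L74409 L9159
theorem L74411 : N3658 = N1893 := eqc rfl L74410 rfl
theorem L74412 : sm gc N933 = N7811 := trfs L74403 (flp_c L37550) rfl
theorem L74413 : N7811 = N1894 := eqes L74412 L9163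
theorem L74414 : N7811 = N1894 := eqc rfl L74413 rfl
theorem L74415 : sm ge N933 = N1819 := trfs L74403 L17972 rfl
theorem L74416 : N1819 = N475 := eqes L74415 L4647
theorem L74417 : N1819 = N475 := eqc rfl L74416 rfl
theorem L74418 : sm gf N933 = N7812 := trfs L74403 L37554 rfl
theorem L74419 : N7812 = N1796 := eqes L74418 (flp_f L8711)
theorem L74420 : N7812 = N1796 := eqc rfl L74419 rfl
theorem L74430 : sm gg N1796 = N3985 := trfs L74420 L60006 rfl
theorem L74431 : N3985 = N1899 := eqes L74430 (flp_g L9199)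
theorem L74432 : N3985 = N1899 := eqc rfl L74431 rfl
theorem L74434 : sm gb N1899 = N1910 := trfs L74432 (flp_b L19143) rfl
theorem L74435 : N1910 = N3961 := eqes L74434 L19015
theorem L74436 : N3961 = N1910 := (eqc rfl L74435 rfl).symm
theorem L74441 : sm ge N1899 = N1953 := trfs L74432 L19145 rfl
theorem L74442 : N1953 = N947 := eqes L74441 L9197
theorem L74443 : N1953 = N947 := eqc rfl L74442 rfl
theorem L74444 : sm gf N1899 = N3736 := trfs L74432 L60000 rfl
theorem L74445 : N3736 = N935 := eqes L74444 (flp_f L9193)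
theorem L74446 : N3736 = N935 := eqc rfl L74445 rfl
theorem L74449 : sm gb N935 = N3967 := trfs L74446 L66387 rfl
theorem L74450 : N3967 = N1898 := eqes L74449 L9187
theorem L74451 : N3967 = N1898 := eqc rfl L74450 rfl
theorem L74452 : sm gc N935 = N7808 := trfs L74446 L37530 rfl
theorem L74453 : N7808 = N1897 := eqes L74452 (flp_c L9183)
theorem L74454 : N7808 = N1897 := eqc rfl L74453 rfl
theorem L74456 : sm ge N935 = N1817 := trfs L74446 L17962 rfl
theorem L74457 : N1817 = N477 := eqes L74456 L4657
theorem L74458 : N1817 = N477 := eqc rfl L74457 rfl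
theorem L74460 : sm ga N477 = N901 := trfs L74458 (flp_a L8805) rfl
theorem L74461 : N901 = N943 := eqes L74460 (flp_a L4689)
theorem L74462 : N943 = N901 := (eqc rfl L74461 rfl).symm
theorem L74463 : sm gb N477 = N1935 := trfs L74458 L70248 rfl
theorem L74464 : N1935 = N946 := eqes L74463 L4701
theorem L74465 : N1935 = N946 := eqc rfl L74464 rfl
theorem L74466 : sm gc N477 = N3772 := trfs L74458 L18109 rfl
theorem L74467 : N3772 = N945 := eqes L74466 (flp_c L4699)
theorem L74468 : N3772 = N945 := eqc rfl L74467 rfl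
theorem L74469 : sm gd N477 = N3701 := trfs L74458 (flp_d L17792) rfl
theorem L74470 : N3701 = N920 := eqes L74469 (flp_d L4593)
theorem L74471 : N3701 = N920 := eqc rfl L74470 rfl
theorem L74473 : sm gg N477 = N3352 := trfs L74458 L70251 rfl
theorem L74474 : N3352 = N239 := eqes L74473 (flp_g L2434)
theorem L74475 : N3352 = N239 := eqc rfl L74474 rfl
theorem L74487 : sm gf N239 = N3770 := trfs L74475 L70236 rfl
theorem L74488 : N3770 = N453 := eqes L74487 (flp_f L2312)
theorem L74489 : N3770 = N453 := eqc rfl L74488 rfl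
theorem L74497 : sm gd N453 = N7726 := trfs L74489 (flp_d L37121) rfl
theorem L74498 : N7726 = N883 := eqes L74497 (flp_d L4407)
theorem L74499 : N7726 = N883 := eqc rfl L74498 rfl
theorem L74509 : sm gg N883 = N3700 := trfs L74499 (flp_g L37119) rfl
theorem L74510 : N3700 = N1782 := eqes L74509 L8641
theorem L74511 : N3700 = N1782 := eqc rfl L74510 rfl
theorem L74512 : sm ga N1782 = N3904 := trfs L74511 L59924 rfl
theorem L74513 : N3904 = N1862 := eqes L74512 (flp_a L69509)
theorem L74514 : N3904 = N1862 := eqc rfl L74513 rfl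
theorem L74521 : sm ge N1782 = N7691 := trfs L74511 (flp_e L36969) rfl
theorem L74522 : N7691 = N3682 := eqes L74521 (flp_e L17704)
theorem L74523 : N7691 = N3682 := eqc rfl L74522 rfl
theorem L74524 : sm gf N1782 = N1787 := trfs L74511 L17788 rfl
theorem L74525 : N1787 = N1860 := eqes L74524 (flp_f L9023)
theorem L74526 : N1860 = N1787 := (eqc rfl L74525 rfl).symm
theorem L74532 : sm gc N1787 = N1782 := trfs L74526 L69382 rfl
theorem L74533 : N1782 = N3702 := eqes L74532 L17794
theorem L74534 : N3702 = N1782 := (eqc rfl L74533 rfl).symm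
theorem L74536 : sm ge N1787 = N3846 := trfs L74526 (flp_e L18497) rfl
theorem L74537 : N3846 = N3687 := eqes L74536 (flp_e L17728)
theorem L74538 : N3846 = N3687 := eqc rfl L74537 rfl
theorem L74539 : sm gf N1787 = N1782 := trfs L74526 L9023 rfl
theorem L74541 : sm gg N1787 = N918 := trfs L74526 (flp_g L9017) rfl
theorem L74542 : N918 = N3703 := eqes L74541 L17798
theorem L74543 : N3703 = N918 := (eqc rfl L74542 rfl).symm
theorem L74545 : sm gb N918 = N3647 := trfs L74543 L17802 rfl
theorem L74546 : N3647 = N1858 := eqes L74545 L9009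
theorem L74547 : N3647 = N1858 := eqc rfl L74546 rfl
theorem L74552 : sm ge N918 = N7694 := trfs L74543 (flp_e L36985) rfl
theorem L74553 : N7694 = N1850 := eqes L74552 (flp_e L8979)
theorem L74554 : N7694 = N1850 := eqc rfl L74553 rfl
theorem L74556 : sm gg N918 = N1787 := trfs L74543 (flp_g L17798) rfl
theorem L74558 : sm gb N1850 = N7603 := trfs L74554 L36987 rfl
theorem L74559 : N7603 = N3844 := eqes L74558 L18483
theorem L74560 : N7603 = N3844 := eqc rfl L74559 rfl
theorem L74564 : sm gc N3844 = N8041 := trfs L74560 (flp_c L72126) rfl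
theorem L74565 : N8041 = N3643 := eqes L74564 (flp_c L69421)
theorem L74566 : N8041 = N3643 := eqc rfl L74565 rfl
theorem L74572 : sm ge N3643 = N3867 := trfs L74566 L38922 rfl
theorem L74573 : N3867 = N1760 := eqes L74572 L17495
theorem L74574 : N3867 = N1760 := eqc rfl L74573 rfl
theorem L74576 : sm gg N3643 = N3844 := trfs L74566 (flp_g L38920) rfl
theorem L74583 : sm gd N1760 = N1916 := trfs L74574 L18603 rfl
theorem L74584 : N1916 = N878 := eqes L74583 L8535
theorem L74585 : N1916 = N878 := eqc rfl L74584 rfl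
theorem L74594 : sm ge N878 = N3948 := trfs L74585 (flp_e L18947) rfl
theorem L74595 : N3948 = N1765 := eqes L74594 (flp_e L8559)
theorem L74596 : N3948 = N1765 := eqc rfl L74595 rfl
theorem L74598 : sm gg N878 = N941 := trfs L74585 (flp_g L9281) rfl
theorem L74599 : N941 = N1769 := eqes L74598 L8577
theorem L74600 : N1769 = N941 := (eqc rfl L74599 rfl).symm
theorem L74607 : sm gg N941 = N878 := trfs L74600 (flp_g L8577) rfl
theorem L74610 : sm gb N1765 = N8270 := trfs L74596 L39915 rfl
theorem L74611 : N8270 = N876 := eqes L74610 (flp_b L8557)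
theorem L74612 : N8270 = N876 := eqc rfl L74611 rfl
theorem L74634 : sm gg N876 = N3952 := trfs L74612 L39919 rfl
theorem L74635 : N3952 = N893 := eqes L74634 (flp_g L4471)
theorem L74636 : N3952 = N893 := eqc rfl L74635 rfl
theorem L74646 : sm gf N893 = N4283 := trfs L74636 L55482 rfl
theorem L74647 : N4283 = N452 := eqes L74646 (flp_f L4463)
theorem L74648 : N4283 = N452 := eqc rfl L74647 rfl
theorem L74658 : sm gg N452 = N6764 := trfs L74648 (flp_g L68093) rfl
theorem L74659 : N6764 = N229 := eqes L74658 (flp_g L2304)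
theorem L74660 : N6764 = N229 := eqc rfl L74659 rfl
theorem L74668 : sm ge N229 = N3272 := trfs L74660 L32618 rfl
theorem L74669 : N3272 = N110 := eqes L74668 (flp_e L1172)
theorem L74670 : N3272 = N110 := eqc rfl L74669 rfl
theorem L74681 : sm gd N110 = N6729 := trfs L74670 (flp_d L32450) rfl
theorem L74682 : N6729 = N228 := eqes L74681 L1168
theorem L74683 : N6729 = N228 := eqc rfl L74682 rfl
theorem L74693 : sm gg N228 = N4298 := trfs L74683 L68100 rfl
theorem L74694 : N4298 = N449 := eqes L74693 L2290
theorem L74695 : N4298 = N449 := eqc rfl L74694 rfl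
theorem L74704 : sm ge N449 = N8907 := trfs L74695 L43230 rfl
theorem L74705 : N8907 = N882 := eqes L74704 (flp_e L4403)
theorem L74706 : N8907 = N882 := eqc rfl L74705 rfl
theorem L74711 : sm gf N882 = N8045 := trfs L74706 L71652 rfl
theorem L74712 : N8045 = N1779 := eqes L74711 L8621
theorem L74713 : N8045 = N1779 := eqc rfl L74712 rfl
theorem L74714 : sm ga N1779 = N8068 := trfs L74713 (flp_a L71660) rfl
theorem L74715 : N8068 = N1777 := eqes L74714 L8623
theorem L74716 : N8068 = N1777 := eqc rfl L74715 rfl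
theorem L74719 : sm gb N1777 = N3856 := trfs L74716 (flp_b L39058) rfl
theorem L74720 : N3856 = N3683 := eqes L74719 L17706
theorem L74721 : N3856 = N3683 := eqc rfl L74720 rfl
theorem L74722 : sm ge N1777 = N3894 := trfs L74716 L39060 rfl
theorem L74723 : N3894 = N884 := eqes L74722 L8611
theorem L74724 : N3894 = N884 := eqc rfl L74723 rfl
theorem L74728 : sm gc N884 = N8154 := trfs L74724 L39440 rfl
theorem L74729 : N8154 = N886 := eqes L74728 (flp_c L4427)
theorem L74730 : N8154 = N886 := eqc rfl L74729 rfl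
theorem L74737 : sm gf N886 = N4300 := trfs L74730 L68135 rfl
theorem L74738 : N4300 = N449 := eqes L74737 (flp_f L4423)
theorem L74739 : N4300 = N449 := eqc rfl L74738 rfl
theorem L74745 : sm gd N449 = N8910 := trfs L74739 L43244 rfl
theorem L74746 : N8910 = N231 := eqes L74745 L2292
theorem L74747 : N8910 = N231 := eqc rfl L74746 rfl
theorem L74759 : sm gc N231 = N8836 := trfs L74747 (flp_c L43248) rfl
theorem L74760 : N8836 = N131 := eqes L74759 L1184
theorem L74761 : N8836 = N131 := eqc rfl L74760 rfl
theorem L74765 : sm gd N131 = N4256 := trfs L74761 (flp_d L42862) rfl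
theorem L74766 : N4256 = N264 := eqes L74765 (flp_d L1364)
theorem L74767 : N4256 = N264 := eqc rfl L74766 rfl
theorem L74783 : sm gg N264 = N8764 := trfs L74767 (flp_g L42486) rfl
theorem L74784 : N8764 = N128 := eqes L74783 (flp_g L1361)
theorem L74785 : N8764 = N128 := eqc rfl L74784 rfl
theorem L74792 : sm gf N128 = N5378 := trfs L74785 (flp_f L68343) rfl
theorem L74793 : N5378 = N263 := eqes L74792 L1356
theorem L74794 : N5378 = N263 := eqc rfl L74793 rfl
theorem L74801 : sm gg N263 = N4259 := trfs L74794 L68345 rfl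
theorem L74802 : N4259 = N518 := eqes L74801 L2647
theorem L74803 : N4259 = N518 := eqc rfl L74802 rfl
theorem L74814 : sm ge N518 = N8823 := trfs L74803 (flp_e L42802) rfl
theorem L74815 : N8823 = N1020 := eqes L74814 (flp_e L5068)
theorem L74816 : N8823 = N1020 := eqc rfl L74815 rfl
theorem L74821 : sm gf N1020 = N4247 := trfs L74816 (flp_f L42798) rfl
theorem L74822 : N4247 = N1002 := eqes L74821 (flp_f L5070)
theorem L74823 : N4247 = N1002 := eqc rfl L74822 rfl
theorem L74825 : sm gb N1002 = N1002 := trfs L74823 L20434 L74823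
theorem L74826 : N1002 = N2037 := eqes L74825 L9839
theorem L74827 : N2037 = N1002 := (eqc rfl L74826 rfl).symm
theorem L74833 : sm gg N1002 = N8758 := trfs L74823 (flp_g L42460) rfl
theorem L74834 : N8758 = N506 := eqes L74833 (flp_g L4992)
theorem L74835 : N8758 = N506 := eqc rfl L74834 rfl
theorem L74836 : sm gc N506 = N4209 := trfs L74835 (flp_c L42456) rfl
theorem L74837 : N4209 = N506 := eqes L74836 L2590
theorem L74838 : N4209 = N506 := eqc rfl L74837 rfl
theorem L74843 : sm gb N506 = N2016 := trfs L74838 (flp_b L20181) rfl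
theorem L74844 : N2016 = N991 := eqes L74843 (flp_b L4939)
theorem L74845 : N2016 = N991 := eqc rfl L74844 rfl
theorem L74852 : sm gf N506 = N8759 := trfs L74838 L42462 rfl
theorem L74853 : N8759 = N1001 := eqes L74852 L4985
theorem L74854 : N8759 = N1001 := eqc rfl L74853 rfl
theorem L74863 : sm gg N1001 = N8821 := trfs L74854 L42793 rfl
theorem L74864 : N8821 = N1022 := eqes L74863 (flp_g L5085)
theorem L74865 : N8821 = N1022 := eqc rfl L74864 rfl
theorem L74870 : sm ge N1022 = N4257 := trfs L74865 L42791 rfl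
theorem L74871 : N4257 = N520 := eqes L74870 L5083
theorem L74872 : N4257 = N520 := eqc rfl L74871 rfl
theorem L74875 : sm gb N520 = N2638 := trfs L74872 (flp_b L51245) rfl
theorem L74876 : N2638 = N1030 := eqes L74875 L5121
theorem L74877 : N2638 = N1030 := eqc rfl L74876 rfl
theorem L74879 : sm gd N520 = N2064 := trfs L74872 L20492 rfl
theorem L74880 : N2064 = N271 := eqes L74879 L2665
theorem L74881 : N2064 = N271 := eqc rfl L74880 rfl
theorem L74887 : sm gb N271 = N1394 := trfs L74881 L68141 rfl
theorem L74888 : N1394 = N535 := eqes L74887 L2727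
theorem L74889 : N1394 = N535 := eqc rfl L74888 rfl
theorem L74895 : sm gg N271 = N2032 := trfs L74881 (flp_g L9951) rfl
theorem L74896 : N2032 = N260 := eqes L74895 L1394
theorem L74897 : N2032 = N260 := eqc rfl L74896 rfl
theorem L74905 : sm gf N260 = N999 := trfs L74897 (flp_f L9811) rfl
theorem L74906 : N999 = N127 := eqes L74905 (flp_f L1343)
theorem L74907 : N999 = N127 := eqc rfl L74906 rfl
theorem L74909 : sm gb N127 = N505 := trfs L74907 (flp_b L4975) rfl
theorem L74910 : N505 = N257 := eqes L74909 L1331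
theorem L74911 : N505 = N257 := eqc rfl L74910 rfl
theorem L74917 : sm gg N127 = N513 := trfs L74907 L4977 rfl
theorem L74918 : N513 = N261 := eqes L74917 L1347
theorem L74919 : N513 = N261 := eqc rfl L74918 rfl
theorem L74921 : sm gb N261 = N261 := trfs L74919 (flp_b L2623) rfl
theorem L74925 : sm gd N261 = N1004 := trfs L74919 (flp_d L5005) rfl
theorem L74926 : N1004 = N508 := eqes L74925 (flp_d L2603)
theorem L74927 : N1004 = N508 := eqc rfl L74926 rfl
theorem L74928 : sm ge N261 = N1009 := trfs L74919 (flp_e L5029) rfl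
theorem L74929 : N1009 = N511 := eqes L74928 (flp_e L2619)
theorem L74930 : N1009 = N511 := eqc rfl L74929 rfl
theorem L74933 : sm gb N511 = N511 := trfs L74930 (flp_b L5027) rfl
theorem L74935 : sm gd N511 = N2049 := trfs L74930 (flp_d L9891) rfl
theorem L74936 : N2049 = N1007 := eqes L74935 (flp_d L5021)
theorem L74937 : N2049 = N1007 := eqc rfl L74936 rfl
theorem L74938 : sm gf N511 = N2055 := trfs L74930 L9913 rfl
theorem L74939 : N2055 = N525 := eqes L74938 L2689
theorem L74940 : N2055 = N525 := eqc rfl L74939 rfl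
theorem L74949 : sm gg N525 = N2736 := trfs L74940 L70352 rfl
theorem L74950 : N2736 = N266 := eqes L74949 (flp_g L2685)
theorem L74951 : N2736 = N266 := eqc rfl L74950 rfl
theorem L74953 : sm gb N266 = N1323 := trfs L74951 (flp_b L13186) rfl
theorem L74954 : N1323 = N524 := eqes L74953 L2679
theorem L74955 : N1323 = N524 := eqc rfl L74954 rfl
theorem L74957 : sm gd N266 = N5596 := trfs L74951 (flp_d L27051) rfl
theorem L74958 : N5596 = N522 := eqes L74957 (flp_d L2673)
theorem L74959 : N5596 = N522 := eqc rfl L74958 rfl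
theorem L74965 : sm gb N522 = N2695 := trfs L74959 (flp_b L27049) rfl
theorem L74966 : N2695 = N1035 := eqes L74965 L5139
theorem L74967 : N2695 = N1035 := eqc rfl L74966 rfl
theorem L74968 : sm gf N522 = N8781 := trfs L74959 L68061 rfl
theorem L74969 : N8781 = N265 := eqes L74968 (flp_f L2671)
theorem L74970 : N8781 = N265 := eqc rfl L74969 rfl
theorem L74979 : sm gg N265 = N4273 := trfs L74970 L42560 rfl
theorem L74980 : N4273 = N523 := eqes L74979 L2675
theorem L74981 : N4273 = N523 := eqc rfl L74980 rfl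
theorem L74991 : sm gf N523 = N8873 := trfs L74981 L43030 rfl
theorem L74992 : N8873 = N1038 := eqes L74991 L5157
theorem L74993 : N8873 = N1038 := eqc rfl L74992 rfl
theorem L74995 : sm gb N1038 = N5645 := trfs L74993 (flp_b L59695) rfl
theorem L74996 : N5645 = N2119 := eqes L74995 L10219
theorem L74997 : N5645 = N2119 := eqc rfl L74996 rfl
theorem L75000 : sm ga N2119 = N4653 := trfs L74997 L59693 rfl
theorem L75001 : N4653 = N4416 := eqes L75000 L21279
theorem L75002 : N4653 = N4416 := eqc rfl L75001 rfl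
theorem L75006 : sm gf N2119 = N2718 := trfs L74997 (flp_f L27265) rfl
theorem L75007 : N2718 = N4415 := eqes L75006 (flp_f L21277)
theorem L75008 : N4415 = N2718 := (eqc rfl L75007 rfl).symm
theorem L75010 : sm ga N2718 = N9139 := trfs L75008 L44351 rfl
theorem L75011 : N9139 = N5643 := eqes L75010 L27257
theorem L75012 : N9139 = N5643 := eqc rfl L75011 rfl
theorem L75014 : sm gc N2718 = N9140 := trfs L75008 L44359 rfl
theorem L75015 : N9140 = N5644 := eqes L75014 L27263
theorem L75016 : N9140 = N5644 := eqc rfl L75015 rfl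
theorem L75019 : sm gf N2718 = N2119 := trfs L75008 L21277 rfl
theorem L75022 : sm gf N5644 = N4417 := trfs L75016 L44361 rfl
theorem L75024 : sm gb N5643 = N5602 := trfs L75012 (flp_b L70362) rfl
theorem L75025 : N5602 = N5600 := eqes L75024 L27261
theorem L75026 : N5602 = N5600 := eqc rfl L75025 rfl
theorem L75027 : sm gd N5643 = N4443 := trfs L75012 L44353 rfl
theorem L75028 : N4443 = N2770 := eqes L75027 L27259
theorem L75029 : N4443 = N2770 := eqc rfl L75028 rfl
theorem L75033 : sm gb N2770 = N2742 := trfs L75029 L70372 rfl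
theorem L75034 : N2742 = N2740 := eqes L75033 L13384
theorem L75035 : N2742 = N2740 := eqc rfl L75034 rfl
theorem L75036 : sm gc N2770 = N9188 := trfs L75029 L44619 rfl
theorem L75037 : N9188 = N5743 := eqes L75036 L27850
theorem L75038 : N9188 = N5743 := eqc rfl L75037 rfl
theorem L75039 : sm ge N2770 = N2161 := trfs L75029 L21426 rfl
theorem L75040 : N2161 = N1392 := eqes L75039 L13382
theorem L75041 : N2161 = N1392 := eqc rfl L75040 rfl
theorem L75042 : sm gf N2770 = N2133 := trfs L75029 L21428 rfl
theorem L75043 : N2133 = N2255 := eqes L75042 L68000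
theorem L75044 : N2255 = N2133 := (eqc rfl L75043 rfl).symm
theorem L75047 : sm gb N2133 = N1100 := trfs L75044 (flp_b L10896) rfl
theorem L75048 : N1100 = N1328 := eqes L75047 L68444
theorem L75049 : N1328 = N1100 := (eqc rfl L75048 rfl).symm
theorem L75054 : sm ge N2133 = N1117 := trfs L75044 L10898 rfl
theorem L75055 : N1117 = N1060 := eqes L75054 L10297
theorem L75056 : N1117 = N1060 := eqc rfl L75055 rfl
theorem L75057 : sm gf N2133 = N2770 := trfs L75044 (flp_f L68000) rfl
theorem L75061 : sm gb N1060 = N560 := trfs L75056 (flp_b L5531) rfl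
theorem L75062 : N560 = N681 := eqes L75061 L68435
theorem L75063 : N681 = N560 := (eqc rfl L75062 rfl).symm
theorem L75064 : sm gc N1060 = N2293 := trfs L75056 L11099 rfl
theorem L75065 : N2293 = N2165 := eqes L75064 L10443
theorem L75066 : N2293 = N2165 := eqc rfl L75065 rfl
theorem L75067 : sm gd N1060 = N2202 := trfs L75056 (flp_d L10643) rfl
theorem L75068 : N2202 = N2097 := eqes L75067 (flp_d L10126)
theorem L75069 : N2202 = N2097 := eqc rfl L75068 rfl
theorem L75074 : sm gb N2097 = N1077 := trfs L75069 (flp_b L10641) rfl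
theorem L75075 : N1077 = N1261 := eqes L75074 (flp_b L68431)
theorem L75076 : N1261 = N1077 := (eqc rfl L75075 rfl).symm
theorem L75077 : sm gc N2097 = N4579 := trfs L75069 L22111 rfl
theorem L75078 : N4579 = N4370 := eqes L75077 L21070
theorem L75079 : N4579 = N4370 := eqc rfl L75078 rfl
theorem L75080 : sm ge N2097 = N4541 := trfs L75069 (flp_e L21921) rfl
theorem L75081 : N4541 = N4337 := eqes L75080 (flp_e L20910)
theorem L75082 : N4541 = N4337 := eqc rfl L75081 rfl
theorem L75083 : sm gf N2097 = N2636 := trfs L75069 (flp_f L70457) rfl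
theorem L75084 : N2636 = N4366 := eqes L75083 (flp_f L21048)
theorem L75085 : N4366 = N2636 := (eqc rfl L75084 rfl).symm
theorem L75090 : sm gb N2636 = N2595 := trfs L75085 (flp_b L70492) rfl
theorem L75091 : N2595 = N2593 := eqes L75090 L12749
theorem L75092 : N2595 = N2593 := eqc rfl L75091 rfl
theorem L75097 : sm ge N2636 = N8984 := trfs L75085 (flp_e L43665) rfl
theorem L75098 : N8984 = N5317 := eqes L75097 (flp_e L25824)
theorem L75099 : N8984 = N5317 := eqc rfl L75098 rfl
theorem L75100 : sm gf N2636 = N2097 := trfs L75085 L21048 rfl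
theorem L75104 : sm gb N5317 = N5271 := trfs L75099 L70496 rfl
theorem L75105 : N5271 = N5269 := eqes L75104 L25826
theorem L75106 : N5271 = N5269 := eqc rfl L75105 rfl
theorem L75110 : sm ga N5269 = N4328 := trfs L75106 L48716 rfl
theorem L75111 : N4328 = N2537 := eqes L75110 (flp_a L25565)
theorem L75112 : N4328 = N2537 := eqc rfl L75111 rfl
theorem L75116 : sm gg N5269 = N4329 := trfs L75106 L48727 rfl
theorem L75117 : N4329 = N5324 := eqes L75116 (flp_g L70500)
theorem L75118 : N5324 = N4329 := (eqc rfl L75117 rfl).symm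
theorem L75119 : sm ga N4329 = N4331 := trfs L75118 (flp_a L25864) rfl
theorem L75120 : N4331 = N2079 := eqes L75119 (flp_a L20864)
theorem L75121 : N4331 = N2079 := eqc rfl L75120 rfl
theorem L75123 : sm ge N4329 = N2643 := trfs L75118 L25862 rfl
theorem L75124 : N2643 = N2089 := eqes L75123 L20866
theorem L75125 : N2643 = N2089 := eqc rfl L75124 rfl
theorem L75126 : sm gf N4329 = N4329 := trfs L75118 (flp_f L25866) rfl
theorem L75127 : sm gg N4329 = N5269 := trfs L75118 L70500 rfl
theorem L75129 : sm ga N2089 = N2091 := trfs L75125 (flp_a L12781) rfl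
theorem L75130 : N2091 = N1026 := eqes L75129 (flp_a L10086)
theorem L75131 : N2091 = N1026 := eqc rfl L75130 rfl
theorem L75133 : sm gc N2089 = N5482 := trfs L75125 L26596 rfl
theorem L75134 : N5482 = N4353 := eqes L75133 L20986
theorem L75135 : N5482 = N4353 := eqc rfl L75134 rfl
theorem L75136 : sm gd N2089 = N1399 := trfs L75125 L12779 rfl
theorem L75137 : N1399 = N1052 := eqes L75136 L10088
theorem L75138 : N1399 = N1052 := eqc rfl L75137 rfl
theorem L75139 : sm gf N2089 = N2089 := trfs L75125 (flp_f L12783) rfl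
theorem L75146 : sm gf N1052 = N1052 := trfs L75138 L10359 rfl
theorem L75147 : sm gg N1052 = N1362 := trfs L75138 L48831 rfl
theorem L75148 : N1362 = N1364 := eqes L75147 (flp_g L48857)
theorem L75149 : N1364 = N1362 := (eqc rfl L75148 rfl).symm
theorem L75157 : sm gg N1362 = N1052 := trfs L75149 L48857 rfl
theorem L75159 : sm ga N4353 = N4355 := trfs L75135 L26598 rfl
theorem L75160 : N4355 = N2090 := eqes L75159 L20988
theorem L75161 : N4355 = N2090 := eqc rfl L75160 rfl
theorem L75162 : sm gf N4353 = N4353 := trfs L75135 L26600 rfl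
theorem L75163 : sm gg N4353 = N5387 := trfs L75135 L70429 rfl
theorem L75164 : N5387 = N5391 := eqes L75163 (flp_g L70447)
theorem L75165 : N5391 = N5387 := (eqc rfl L75164 rfl).symm
theorem L75166 : sm ga N5387 = N4350 := trfs L75165 L70443 rfl
theorem L75167 : N4350 = N2594 := eqes L75166 L26175
theorem L75168 : N4350 = N2594 := eqc rfl L75167 rfl
theorem L75172 : sm gg N5387 = N4353 := trfs L75165 L70447 rfl
theorem L75174 : sm gb N2594 = N4370 := trfs L75168 (flp_b L69031) L75079
theorem L75175 : N4370 = N5389 := eqes L75174 L26187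
theorem L75176 : N5389 = N4370 := (eqc rfl L75175 rfl).symm
theorem L75177 : sm gc N2594 = N2088 := trfs L75168 (flp_c L20968) rfl
theorem L75178 : N2088 = N1259 := eqes L75177 (flp_c L12557)
theorem L75179 : N2088 = N1259 := eqc rfl L75178 rfl
theorem L75180 : sm gd N2594 = N9010 := trfs L75168 L43791 rfl
theorem L75181 : N9010 = N5390 := eqes L75180 L26191
theorem L75182 : N9010 = N5390 := eqc rfl L75181 rfl
theorem L75183 : sm ge N2594 = N8968 := trfs L75168 (flp_e L43575) rfl
theorem L75184 : N8968 = N5270 := eqes L75183 (flp_e L25571)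
theorem L75185 : N8968 = N5270 := eqc rfl L75184 rfl
theorem L75186 : sm gf N2594 = N5387 := trfs L75168 (flp_f L70419) rfl
theorem L75190 : sm gb N5270 = N9389 := trfs L75185 L72116 rfl
theorem L75193 : sm gg N5270 = N4330 := trfs L75185 L43577 rfl
theorem L75194 : N4330 = N8973 := eqes L75193 L70981
theorem L75195 : N8973 = N4330 := (eqc rfl L75194 rfl).symm
theorem L75198 : sm gf N4330 = N4330 := trfs L75195 (flp_f L43602) rfl
theorem L75199 : sm gg N4330 = N5270 := trfs L75195 (flp_g L70981) rfl
theorem L75203 : sm gg N5390 = N4354 := trfs L75182 L43793 rfl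
theorem L75204 : N4354 = N9017 := eqes L75203 L72158
theorem L75205 : N9017 = N4354 := (eqc rfl L75204 rfl).symm
theorem L75208 : sm gg N4354 = N5390 := trfs L75205 (flp_g L72158) rfl
theorem L75211 : sm gb N1259 = N1025 := trfs L75179 (flp_b L10080) rfl
theorem L75212 : N1025 = N632 := eqes L75211 (flp_b L6199)
theorem L75213 : N1025 = N632 := eqc rfl L75212 rfl
theorem L75220 : sm ga N632 = N1079 := trfs L75213 L69780 rfl
theorem L75221 : N1079 = N322 := eqes L75220 (flp_a L3216)
theorem L75222 : N1079 = N322 := eqc rfl L75221 rfl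
theorem L75223 : sm gc N632 = N1077 := trfs L75213 L69782 rfl
theorem L75224 : N1077 = N1260 := eqes L75223 L6203
theorem L75225 : N1260 = N1077 := (eqc rfl L75224 rfl).symm
theorem L75226 : sm gd N632 = N530 := trfs L75213 L5100 rfl
theorem L75227 : N530 = N343 := eqes L75226 L3218
theorem L75228 : N530 = N343 := eqc rfl L75227 rfl
theorem L75229 : sm ge N632 = N2078 := trfs L75213 (flp_e L10034) rfl
theorem L75230 : N2078 = N1233 := eqes L75229 (flp_e L6078)
theorem L75231 : N2078 = N1233 := eqc rfl L75230 rfl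
theorem L75234 : sm gg N632 = N517 := trfs L75213 (flp_g L5098) rfl
theorem L75235 : N517 = N1256 := eqes L75234 (flp_g L6189)
theorem L75236 : N1256 = N517 := (eqc rfl L75235 rfl).symm
theorem L75237 : sm ga N517 = N631 := trfs L75236 (flp_a L6185) rfl
theorem L75238 : N631 = N542 := eqes L75237 L69754
theorem L75239 : N631 = N542 := eqc rfl L75238 rfl
theorem L75244 : sm gd N517 = N676 := trfs L75236 L6187 rfl
theorem L75245 : N676 = N268 := eqes L75244 L2643
theorem L75246 : N676 = N268 := eqc rfl L75245 rfl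
theorem L75250 : sm gf N517 = N1264 := trfs L75236 L6227 rfl
theorem L75251 : N1264 = N275 := eqes L75250 L2645
theorem L75252 : N1264 = N275 := eqc rfl L75251 rfl
theorem L75253 : sm gg N517 = N632 := trfs L75236 L6189 rfl
theorem L75267 : sm ge N275 = N2542 := trfs L75252 (flp_e L12309) rfl
theorem L75268 : N2542 = N539 := eqes L75267 (flp_e L2753)
theorem L75269 : N2542 = N539 := eqc rfl L75268 rfl
theorem L75280 : sm gd N539 = N5213 := trfs L75269 (flp_d L25250) rfl
theorem L75281 : N5213 = N1067 := eqes L75280 (flp_d L5292)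
theorem L75282 : N5213 = N1067 := eqc rfl L75281 rfl
theorem L75291 : sm gf N1067 = N5205 := trfs L75282 (flp_f L25254) rfl
theorem L75292 : N5205 = N2072 := eqes L75291 (flp_f L9991)
theorem L75293 : N5205 = N2072 := eqc rfl L75292 rfl
theorem L75294 : sm gg N1067 = N2512 := trfs L75282 (flp_g L25246) rfl
theorem L75295 : N2512 = N2179 := eqes L75294 L10517
theorem L75296 : N2512 = N2179 := eqc rfl L75295 rfl
theorem L75297 : sm ga N2179 = N5210 := trfs L75296 (flp_a L25230) rfl
theorem L75298 : N5210 = N4524 := eqes L75297 (flp_a L21817)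
theorem L75299 : N5210 = N4524 := eqc rfl L75298 rfl
theorem L75302 : sm gc N2179 = N5212 := trfs L75296 (flp_c L25242) rfl
theorem L75303 : N5212 = N4526 := eqes L75302 (flp_c L21829)
theorem L75304 : N5212 = N4526 := eqc rfl L75303 rfl
theorem L75306 : sm ge N2179 = N1308 := trfs L75296 L12145 rfl
theorem L75307 : N1308 = N1094 := eqes L75306 L10521
theorem L75308 : N1308 = N1094 := eqc rfl L75307 rfl
theorem L75309 : sm gf N2179 = N1222 := trfs L75296 (flp_f L12141) rfl
theorem L75310 : N1222 = N4527 := eqes L75309 L21833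
theorem L75311 : N4527 = N1222 := (eqc rfl L75310 rfl).symm
theorem L75318 : sm gc N1222 = N9355 := trfs L75311 (flp_c L45419) rfl
theorem L75319 : N9355 = N2511 := eqes L75318 L12137
theorem L75320 : N9355 = N2511 := eqc rfl L75319 rfl
theorem L75321 : sm gd N1222 = N2187 := trfs L75311 L50359 rfl
theorem L75322 : N2187 = N621 := eqes L75321 L6014
theorem L75323 : N2187 = N621 := eqc rfl L75322 rfl
theorem L75327 : sm gf N1222 = N2179 := trfs L75311 (flp_f L21833) rfl
theorem L75329 : sm gg N1222 = N2186 := trfs L75311 (flp_g L50386) rfl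
theorem L75330 : N2186 = N2509 := eqes L75329 (flp_g L12129)
theorem L75331 : N2509 = N2186 := (eqc rfl L75330 rfl).symm
theorem L75333 : sm gb N2186 = N1221 := trfs L75331 (flp_b L12123) rfl
theorem L75334 : N1221 = N1230 := eqes L75333 L10559
theorem L75335 : N1230 = N1221 := (eqc rfl L75334 rfl).symm
theorem L75336 : sm gc N2186 = N5206 := trfs L75331 L25204 rfl
theorem L75337 : N5206 = N4542 := eqes L75336 L21923
theorem L75338 : N5206 = N4542 := eqc rfl L75337 rfl
theorem L75342 : sm ge N2186 = N1305 := trfs L75331 L12127 rfl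
theorem L75343 : N1305 = N2112 := eqes L75342 (flp_e L69673)
theorem L75344 : N2112 = N1305 := (eqc rfl L75343 rfl).symm
theorem L75346 : sm gg N2186 = N1222 := trfs L75331 L12129 rfl
theorem L75353 : sm gc N1305 = N4404 := trfs L75344 L21223 rfl
theorem L75354 : N4404 = N2696 := eqes L75353 L12991
theorem L75355 : N4404 = N2696 := eqc rfl L75354 rfl
theorem L75356 : sm gd N1305 = N1039 := trfs L75344 L10189 rfl
theorem L75357 : N1039 = N661 := eqes L75356 L6400
theorem L75358 : N1039 = N661 := eqc rfl L75357 rfl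
theorem L75359 : sm ge N1305 = N2186 := trfs L75344 L69673 rfl
theorem L75361 : sm gf N1305 = N1092 := trfs L75344 L10191 rfl
theorem L75362 : N1092 = N2697 := eqes L75361 L12995
theorem L75363 : N2697 = N1092 := (eqc rfl L75362 rfl).symm
theorem L75374 : sm gf N1092 = N1305 := trfs L75363 (flp_f L12995) rfl
theorem L75376 : sm gg N1092 = N2700 := trfs L75363 L13013 rfl
theorem L75377 : N2700 = N2238 := eqes L75376 L10807
theorem L75378 : N2700 = N2238 := eqc rfl L75377 rfl
theorem L75382 : sm gc N2238 = N5606 := trfs L75378 (flp_c L27093) rfl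
theorem L75383 : N5606 = N4652 := eqes L75382 (flp_c L22447)
theorem L75384 : N5606 = N4652 := eqc rfl L75383 rfl
theorem L75387 : sm gf N2238 = N1306 := trfs L75378 (flp_f L13007) rfl
theorem L75388 : N1306 = N2114 := eqes L75387 L10813
theorem L75389 : N2114 = N1306 := (eqc rfl L75388 rfl).symm
theorem L75391 : sm gb N1306 = N4407 := trfs L75389 L21237 rfl
theorem L75392 : N4407 = N2698 := eqes L75391 L12999
theorem L75393 : N4407 = N2698 := eqc rfl L75392 rfl
theorem L75394 : sm gc N1306 = N4406 := trfs L75389 (flp_c L21235) rfl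
theorem L75395 : N4406 = N2699 := eqes L75394 L13003
theorem L75396 : N4406 = N2699 := eqc rfl L75395 rfl
theorem L75397 : sm gd N1306 = N1041 := trfs L75389 L10199 rfl
theorem L75398 : N1041 = N662 := eqes L75397 L6406
theorem L75399 : N1041 = N662 := eqc rfl L75398 rfl
theorem L75401 : sm gf N1306 = N2238 := trfs L75389 (flp_f L10813) rfl
theorem L75405 : sm ga N662 = N1103 := trfs L75399 (flp_a L5464) rfl
theorem L75406 : N1103 = N336 := eqes L75405 (flp_a L3352)
theorem L75407 : N1103 = N336 := eqc rfl L75406 rfl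
theorem L75430 : sm ge N336 = N563 := trfs L75407 L5466 rfl
theorem L75431 : N563 = N172 := eqes L75430 L1717
theorem L75432 : N563 = N172 := eqc rfl L75431 rfl
theorem L75433 : sm gf N336 = N554 := trfs L75407 (flp_f L5462) rfl
theorem L75434 : N554 = N664 := eqes L75433 L3362
theorem L75435 : N664 = N554 := (eqc rfl L75434 rfl).symm
theorem L75447 : sm gf N554 = N336 := trfs L75435 (flp_f L3362) rfl
theorem L75449 : sm gg N554 = N1331 := trfs L75435 L6525 rfl
theorem L75450 : N1331 = N280 := eqes L75449 (flp_g L2821)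
theorem L75451 : N1331 = N280 := eqc rfl L75450 rfl
theorem L75456 : sm gc N280 = N2752 := trfs L75451 (flp_c L13277) rfl
theorem L75457 : N2752 = N553 := eqes L75456 L2815
theorem L75458 : N2752 = N553 := eqc rfl L75457 rfl
theorem L75462 : sm ga N553 = N2739 := trfs L75458 L13275 rfl
theorem L75463 : N2739 = N1099 := eqes L75462 (flp_a L5440)
theorem L75464 : N2739 = N1099 := eqc rfl L75463 rfl
theorem L75474 : sm gf N553 = N2737 := trfs L75458 (flp_f L13281) rfl
theorem L75475 : N2737 = N1040 := eqes L75474 (flp_f L5175)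
theorem L75476 : N2737 = N1040 := eqc rfl L75475 rfl
theorem L75478 : sm ga N1040 = N1324 := trfs L75476 L13192 rfl
theorem L75479 : N1324 = N2121 := eqes L75478 (flp_a L10230)
theorem L75480 : N2121 = N1324 := (eqc rfl L75479 rfl).symm
theorem L75485 : sm gd N1040 = N5683 := trfs L75476 L27490 rfl
theorem L75486 : N5683 = N2122 := eqes L75485 L10237
theorem L75487 : N5683 = N2122 := eqc rfl L75486 rfl
theorem L75488 : sm ge N1040 = N1359 := trfs L75476 L13194 rfl
theorem L75489 : N1359 = N529 := eqes L75488 L5173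
theorem L75490 : N1359 = N529 := eqc rfl L75489 rfl
theorem L75493 : sm ga N529 = N677 := trfs L75490 L6658 rfl
theorem L75494 : N677 = N1048 := eqes L75493 (flp_a L5209)
theorem L75495 : N1048 = N677 := (eqc rfl L75494 rfl).symm
theorem L75498 : sm gd N529 = N2810 := trfs L75490 L13586 rfl
theorem L75499 : N2810 = N1049 := eqes L75498 L5215
theorem L75500 : N2810 = N1049 := eqc rfl L75499 rfl
theorem L75502 : sm gg N529 = N680 := trfs L75490 L6660 rfl
theorem L75503 : N680 = N1050 := eqes L75502 L5219
theorem L75504 : N1050 = N680 := (eqc rfl L75503 rfl).symm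
theorem L75505 : sm ga N680 = N1122 := trfs L75504 (flp_a L5549) rfl
theorem L75506 : N1122 = N344 := eqes L75505 L3430
theorem L75507 : N1122 = N344 := eqc rfl L75506 rfl
theorem L75510 : sm gd N680 = N2141 := trfs L75504 (flp_d L10343) rfl
theorem L75511 : N2141 = N1367 := eqes L75510 L6681
theorem L75512 : N2141 = N1367 := eqc rfl L75511 rfl
theorem L75514 : sm gf N680 = N1116 := trfs L75504 (flp_f L5529) rfl
theorem L75515 : N1116 = N1368 := eqes L75514 L6685
theorem L75516 : N1368 = N1116 := (eqc rfl L75515 rfl).symm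
theorem L75517 : sm gg N680 = N529 := trfs L75504 (flp_g L5219) rfl
theorem L75522 : sm gb N1116 = N2828 := trfs L75516 L13670 rfl
theorem L75523 : N2828 = N2291 := eqes L75522 L11076
theorem L75524 : N2828 = N2291 := eqc rfl L75523 rfl
theorem L75532 : sm gf N1116 = N680 := trfs L75516 (flp_f L6685) rfl
theorem L75534 : sm gg N1116 = N1361 := trfs L75516 (flp_g L6691) rfl
theorem L75535 : N1361 = N559 := eqes L75534 (flp_g L5523)
theorem L75536 : N1361 = N559 := eqc rfl L75535 rfl
theorem L75541 : sm gc N559 = N678 := trfs L75536 L6669 rfl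
theorem L75542 : N678 = N282 := eqes L75541 (flp_c L2841)
theorem L75543 : N678 = N282 := eqc rfl L75542 rfl
theorem L75544 : sm gd N559 = N2813 := trfs L75536 (flp_d L13603) rfl
theorem L75545 : N2813 = N1115 := eqes L75544 L5519
theorem L75546 : N2813 = N1115 := eqc rfl L75545 rfl
theorem L75559 : sm ge N1115 = N5818 := trfs L75546 (flp_e L28237) rfl
theorem L75560 : N5818 = N2289 := eqes L75559 L11064
theorem L75561 : N5818 = N2289 := eqc rfl L75560 rfl
theorem L75562 : sm gf N1115 = N1360 := trfs L75546 (flp_f L13601) rfl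
theorem L75563 : N1360 = N2138 := eqes L75562 (flp_f L10331)
theorem L75564 : N2138 = N1360 := (eqc rfl L75563 rfl).symm
theorem L75569 : sm gc N1360 = N1115 := trfs L75564 (flp_c L69598) rfl
theorem L75570 : N1115 = N2811 := eqes L75569 L13592
theorem L75571 : N2811 = N1115 := (eqc rfl L75570 rfl).symm
theorem L75573 : sm ge N1360 = N4452 := trfs L75564 L21482 rfl
theorem L75574 : N4452 = N2812 := eqes L75573 L13596
theorem L75575 : N4452 = N2812 := eqc rfl L75574 rfl
theorem L75576 : sm gf N1360 = N1115 := trfs L75564 L10331 rfl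
theorem L75578 : sm gg N1360 = N2299 := trfs L75564 (flp_g L11131) rfl
theorem L75579 : N2299 = N682 := eqes L75578 L6665
theorem L75580 : N2299 = N682 := eqc rfl L75579 rfl
theorem L75585 : sm gc N682 = N2290 := trfs L75580 L69626 rfl
theorem L75586 : N2290 = N1370 := eqes L75585 L6695
theorem L75587 : N2290 = N1370 := eqc rfl L75586 rfl
theorem L75589 : sm ge N682 = N4773 := trfs L75580 (flp_e L23076) rfl
theorem L75590 : N4773 = N1371 := eqes L75589 L6697
theorem L75591 : N4773 = N1371 := eqc rfl L75590 rfl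
theorem L75594 : sm ga N1371 = N4457 := trfs L75591 L23074 rfl
theorem L75595 : N4457 = N2826 := eqes L75594 (flp_a L13660)
theorem L75596 : N4457 = N2826 := eqc rfl L75595 rfl
theorem L75600 : sm gc N1371 = N4759 := trfs L75591 L72118 rfl
theorem L75601 : N4759 = N2832 := eqes L75600 (flp_c L13690)
theorem L75602 : N4759 = N2832 := eqc rfl L75601 rfl
theorem L75603 : sm gd N1371 = N9702 := trfs L75591 (flp_d L47099) rfl
theorem L75604 : N9702 = N2749 := eqes L75603 (flp_d L13259)
theorem L75605 : N9702 = N2749 := eqc rfl L75604 rfl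
theorem L75606 : sm gf N1371 = N2297 := trfs L75591 (flp_f L23072) rfl
theorem L75607 : N2297 = N2834 := eqes L75606 L13696
theorem L75608 : N2834 = N2297 := (eqc rfl L75607 rfl).symm
theorem L75610 : sm ga N2297 = N5846 := trfs L75608 (flp_a L28367) rfl
theorem L75611 : N5846 = N4759 := eqes L75610 (flp_a L23006)
theorem L75612 : N5846 = N2832 := eqc rfl L75611 L75602
theorem L75614 : sm gc N2297 = N5860 := trfs L75608 (flp_c L28439) rfl
theorem L75615 : N5860 = N4457 := eqes L75614 (flp_c L69122)
theorem L75616 : N5860 = N2826 := eqc rfl L75615 L75596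
theorem L75617 : sm gd N2297 = N5707 := trfs L75608 (flp_d L27624) rfl
theorem L75618 : N5707 = N4696 := eqes L75617 (flp_d L22665)
theorem L75619 : N5707 = N4696 := eqc rfl L75618 rfl
theorem L75621 : sm gf N2297 = N1371 := trfs L75608 (flp_f L13696) rfl
theorem L75636 : sm ge N4696 = N2750 := trfs L75619 L27626 rfl
theorem L75637 : N2750 = N2258 := eqes L75636 L22667
theorem L75638 : N2750 = N2258 := eqc rfl L75637 rfl
theorem L75641 : sm ga N2258 = N5700 := trfs L75638 (flp_a L27586) rfl
theorem L75642 : N5700 = N4688 := eqes L75641 (flp_a L22623)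
theorem L75643 : N5700 = N4688 := eqc rfl L75642 rfl
theorem L75647 : sm gc N2258 = N5706 := trfs L75638 (flp_c L27620) rfl
theorem L75648 : N5706 = N4695 := eqes L75647 (flp_c L22661)
theorem L75649 : N5706 = N4695 := eqc rfl L75648 rfl
theorem L75651 : sm gf N2258 = N1329 := trfs L75638 (flp_f L13261) rfl
theorem L75652 : N1329 = N4698 := eqes L75651 L22675
theorem L75653 : N4698 = N1329 := (eqc rfl L75652 rfl).symm
theorem L75655 : sm ga N1329 = N4424 := trfs L75653 L22677 rfl
theorem L75656 : N4424 = N2745 := eqes L75655 (flp_a L13233)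
theorem L75657 : N4424 = N2745 := eqc rfl L75656 rfl
theorem L75659 : sm gc N1329 = N9700 := trfs L75653 (flp_c L47083) rfl
theorem L75660 : N9700 = N2748 := eqes L75659 L13253
theorem L75661 : N9700 = N2748 := eqc rfl L75660 rfl
theorem L75664 : sm gf N1329 = N2258 := trfs L75653 (flp_f L22675) rfl
theorem L75666 : sm gg N1329 = N4421 := trfs L75653 L22681 rfl
theorem L75667 : N4421 = N2738 := eqes L75666 (flp_g L13201)
theorem L75668 : N4421 = N2738 := eqc rfl L75667 rfl
theorem L75672 : sm gc N2738 = N9147 := trfs L75668 L44395 rfl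
theorem L75673 : N9147 = N5684 := eqes L75672 L27496
theorem L75674 : N9147 = N5684 := eqc rfl L75673 rfl
theorem L75676 : sm ge N2738 = N9148 := trfs L75668 L44403 rfl
theorem L75677 : N9148 = N5685 := eqes L75676 L27500
theorem L75678 : N9148 = N5685 := eqc rfl L75677 rfl
theorem L75679 : sm gf N2738 = N2253 := trfs L75668 L21311 rfl
theorem L75680 : N2253 = N5686 := eqes L75679 L27507
theorem L75681 : N5686 = N2253 := (eqc rfl L75680 rfl).symm
theorem L75684 : sm gf N2253 = N2738 := trfs L75681 (flp_f L27507) rfl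
theorem L75687 : sm ga N5685 = N4423 := trfs L75678 L44405 rfl
theorem L75691 : sm gf N5685 = N4687 := trfs L75678 L44408 rfl
theorem L75694 : sm ga N5684 = N4422 := trfs L75674 L44397 rfl
theorem L75696 : sm gd N5684 = N9118 := trfs L75674 (flp_d L44401) rfl
theorem L75698 : sm gf N5684 = N4686 := trfs L75674 L44399 rfl
theorem L75701 : sm ga N2748 = N9152 := trfs L75661 L47081 rfl
theorem L75702 : N9152 = N5698 := eqes L75701 (flp_a L27574)
theorem L75703 : N9152 = N5698 := eqc rfl L75702 rfl
theorem L75707 : sm gf N5698 = N9682 := trfs L75703 (flp_f L46991) rfl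
theorem L75709 : sm gg N5698 = N4422 := trfs L75703 (flp_g L44428) rfl
theorem L75713 : sm ge N2745 = N9153 := trfs L75657 (flp_e L44436) rfl
theorem L75714 : N9153 = N5699 := eqes L75713 L27578
theorem L75715 : N9153 = N5699 := eqc rfl L75714 rfl
theorem L75722 : sm gf N5699 = N9683 := trfs L75715 (flp_f L47001) rfl
theorem L75724 : sm gg N5699 = N4423 := trfs L75715 (flp_g L44432) rfl
theorem L75726 : sm gf N4695 = N2748 := trfs L75649 (flp_f L27618) rfl
theorem L75732 : sm gf N4688 = N2745 := trfs L75643 (flp_f L27584) rfl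
theorem L75734 : sm ge N2826 = N2833 := trfs L75616 L28441 rfl
theorem L75735 : N2833 = N1367 := eqes L75734 (flp_e L13658)
theorem L75736 : N2833 = N1367 := eqc rfl L75735 rfl
theorem L75754 : sm gg N1367 = N5862 := trfs L75736 L28445 rfl
theorem L75755 : N5862 = N2810 := eqes L75754 (flp_g L13590)
theorem L75756 : N5862 = N1049 := eqc rfl L75755 L75500
theorem L75762 : sm gf N1049 = N5812 := trfs L75756 (flp_f L28451) rfl
theorem L75763 : N5812 = N561 := eqes L75762 L5217
theorem L75764 : N5812 = N561 := eqc rfl L75763 rfl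
theorem L75767 : sm gd N561 = N5383 := trfs L75764 (flp_d L28206) rfl
theorem L75768 : N5383 = N283 := eqes L75767 (flp_d L2851)
theorem L75769 : N5383 = N283 := eqc rfl L75768 rfl
theorem L75777 : sm gg N283 = N2601 := trfs L75769 L26161 rfl
theorem L75778 : N2601 = N562 := eqes L75777 L2855
theorem L75779 : N2601 = N562 := eqc rfl L75778 rfl
theorem L75780 : sm ga N562 = N2831 := trfs L75779 (flp_a L13684) rfl
theorem L75781 : N2831 = N1116 := eqes L75780 (flp_a L5525)
theorem L75782 : N2831 = N1116 := eqc rfl L75781 rfl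
theorem L75793 : sm gf N562 = N5403 := trfs L75779 L26239 rfl
theorem L75794 : N5403 = N1122 := eqes L75793 L5547
theorem L75795 : N5403 = N344 := eqc rfl L75794 L75507
theorem L75797 : sm gc N344 = N2603 := trfs L75795 L26241 rfl
theorem L75798 : N2603 = N172 := eqes L75797 (flp_c L1749)
theorem L75799 : N2603 = N172 := eqc rfl L75798 rfl
theorem L75815 : sm gg N172 = N5406 := trfs L75799 L26251 rfl
theorem L75816 : N5406 = N342 := eqes L75815 (flp_g L1745)
theorem L75817 : N5406 = N342 := eqc rfl L75816 rfl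
theorem L75823 : sm gf N342 = N5382 := trfs L75817 (flp_f L26257) rfl
theorem L75824 : N5382 = N678 := eqes L75823 L3424
theorem L75825 : N5382 = N282 := eqc rfl L75824 L75543
theorem L75829 : sm gg N282 = N2598 := trfs L75825 L26157 rfl
theorem L75830 : N2598 = N560 := eqes L75829 L2845
theorem L75831 : N2598 = N560 := eqc rfl L75830 rfl
theorem L75837 : sm ge N560 = N5397 := trfs L75831 L26213 rfl
theorem L75838 : N5397 = N1100 := eqes L75837 (flp_e L5448)
theorem L75839 : N5397 = N1100 := eqc rfl L75838 rfl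
theorem L75842 : sm ga N1100 = N2602 := trfs L75839 L26215 rfl
theorem L75843 : N2602 = N554 := eqes L75842 L5446
theorem L75844 : N2602 = N554 := eqc rfl L75843 rfl
theorem L75854 : sm gd N554 = N5278 := trfs L75844 (flp_d L25613) rfl
theorem L75855 : N5278 = N1094 := eqes L75854 (flp_d L5422)
theorem L75856 : N5278 = N1094 := eqc rfl L75855 rfl
theorem L75866 : sm ge N1094 = N2540 := trfs L75856 (flp_e L25611) rfl
theorem L75867 : N2540 = N2179 := eqes L75866 (flp_e L10521)
theorem L75868 : N2540 = N2179 := eqc rfl L75867 rfl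
theorem L75884 : sm gg N2179 = N5267 := trfs L75868 (flp_g L25557) rfl
theorem L75885 : N5267 = N1067 := eqes L75884 (flp_g L10517)
theorem L75886 : N5267 = N1067 := eqc rfl L75885 rfl
theorem L75887 : sm gd N1067 = N2535 := trfs L75886 (flp_d L25555) rfl
theorem L75888 : N2535 = N539 := eqes L75887 L5292
theorem L75889 : N2535 = N539 := eqc rfl L75888 rfl
theorem L75900 : sm gf N539 = N5268 := trfs L75889 L25559 rfl
theorem L75901 : N5268 = N1019 := eqes L75900 (flp_f L5063)
theorem L75902 : N5268 = N1019 := eqc rfl L75901 rfl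
theorem L75909 : sm gg N1019 = N5275 := trfs L75902 L25599 rfl
theorem L75910 : N5275 = N2078 := eqes L75909 L10032
theorem L75911 : N5275 = N1233 := eqc rfl L75910 L75231
theorem L75912 : sm ga N1233 = N2541 := trfs L75911 L25593 rfl
theorem L75913 : N2541 = N621 := eqes L75912 (flp_a L6076)
theorem L75914 : N2541 = N621 := eqc rfl L75913 rfl
theorem L75973 : sm gb N621 = N5280 := trfs L75914 L25619 rfl
theorem L75974 : N5280 = N316 := eqes L75973 (flp_b L3164)
theorem L75975 : N5280 = N316 := eqc rfl L75974 rfl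
theorem L75991 : sm gf N316 = N5310 := trfs L75975 (flp_f L70946) rfl
theorem L75992 : N5310 = N274 := eqes L75991 (flp_f L1620)
theorem L75993 : N5310 = N274 := eqc rfl L75992 rfl
theorem L76001 : sm ge N274 = N2629 := trfs L75993 L25786 rfl
theorem L76002 : N2629 = N134 := eqes L76001 L1416
theorem L76003 : N2629 = N134 := eqc rfl L76002 rfl
theorem L76013 : sm gg N134 = N5456 := trfs L76003 L26476 rfl
theorem L76014 : N5456 = N58 := eqes L76013 (flp_g L665)
theorem L76015 : N5456 = N58 := eqc rfl L76014 rfl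
theorem L76023 : sm gf N58 = N4616 := trfs L76015 L26480 rfl
theorem L76024 : N4616 = N133 := eqes L76023 L657
theorem L76025 : N4616 = N133 := eqc rfl L76024 rfl
theorem L76033 : sm gd N133 = N9532 := trfs L76025 (flp_d L46299) rfl
theorem L76034 : N9532 = N60 := eqes L76033 L663
theorem L76035 : N9532 = N60 := eqc rfl L76034 rfl
theorem L76042 : sm gg N60 = N4613 := trfs L76035 (flp_g L46297) rfl
theorem L76043 : N4613 = N81 := eqes L76042 (flp_g L397)
theorem L76044 : N4613 = N81 := eqc rfl L76043 rfl
theorem L76055 : sm gf N81 = N2628 := trfs L76044 L22267 rfl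
theorem L76056 : N2628 = N35 := eqes L76055 (flp_f L391)
theorem L76057 : N2628 = N35 := eqc rfl L76056 rfl
theorem L76066 : sm ge N35 = N5450 := trfs L76057 (flp_e L26456) rfl
theorem L76067 : N5450 = N77 := eqes L76066 (flp_e L375)
theorem L76068 : N5450 = N77 := eqc rfl L76067 rfl
theorem L76073 : sm gb N77 = N2627 := trfs L76068 (flp_b L26454) rfl
theorem L76074 : N2627 = N168 := eqes L76073 L845
theorem L76075 : N2627 = N168 := eqc rfl L76074 rfl
theorem L76078 : sm ga N168 = N5442 := trfs L76075 (flp_a L26422) rfl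
theorem L76079 : N5442 = N337 := eqes L76078 L1719
theorem L76080 : N5442 = N337 := eqc rfl L76079 rfl
theorem L76081 : sm gc N168 = N337 := trfs L76075 (flp_c L26424) L76080
theorem L76082 : N337 = N168 := eqes L76081 L849
theorem L76083 : N337 = N168 := eqc rfl L76082 rfl
theorem L76088 : sm gf N168 = N666 := trfs L76075 (flp_f L12709) L72974
theorem L76089 : N666 = N338 := eqes L76088 L1725
theorem L76090 : N666 = N338 := eqc rfl L76089 rfl
theorem L76093 : sm ga N338 = N338 := trfs L76090 L3374 rfl
theorem L76096 : sm gd N338 = N1311 := trfs L76090 (flp_d L6429) rfl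
theorem L76097 : N1311 = N657 := eqes L76096 (flp_d L3327)
theorem L76098 : N1311 = N657 := eqc rfl L76097 rfl
theorem L76099 : sm ge N338 = N347 := trfs L76090 L3377 rfl
theorem L76100 : N347 = N174 := eqes L76099 L1728
theorem L76101 : N347 = N174 := eqc rfl L76100 rfl
theorem L76103 : sm gg N338 = N338 := trfs L76090 L3379 rfl
theorem L76104 : sm ga N174 = N174 := trfs L76101 L1761 rfl
theorem L76109 : sm gf N174 = N173 := trfs L76101 (flp_f L1759) rfl
theorem L76110 : N173 = N80 := eqes L76109 (flp_f L874)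
theorem L76111 : N173 = N80 := eqc rfl L76110 rfl
theorem L76112 : sm gg N174 = N174 := trfs L76101 L1764 rfl
theorem L76113 : sm ga N80 = N80 := trfs L76111 (flp_a L870) rfl
theorem L76118 : sm gd N80 = N323 := trfs L76111 (flp_d L1655) rfl
theorem L76119 : N323 = N161 := eqes L76118 (flp_d L808)
theorem L76120 : N323 = N161 := eqc rfl L76119 rfl
theorem L76123 : sm ga N161 = N161 := trfs L76120 (flp_a L1653) rfl
theorem L76127 : sm gc N161 = N636 := trfs L76120 L3232 rfl
theorem L76128 : N636 = N324 := eqes L76127 L1658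
theorem L76129 : N636 = N324 := eqc rfl L76128 rfl
theorem L76130 : sm ge N161 = N622 := trfs L76120 (flp_e L3170) rfl
theorem L76131 : N622 = N317 := eqes L76130 (flp_e L1624)
theorem L76132 : N622 = N317 := eqc rfl L76131 rfl
theorem L76136 : sm ga N317 = N317 := trfs L76132 (flp_a L3168) rfl
theorem L76140 : sm gc N317 = N1237 := trfs L76132 L6094 rfl
theorem L76141 : N1237 = N623 := eqes L76140 L3173
theorem L76142 : N1237 = N623 := eqc rfl L76141 rfl
theorem L76143 : sm gd N317 = N1223 := trfs L76132 (flp_d L6020) rfl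
theorem L76144 : N1223 = N616 := eqes L76143 (flp_d L3135)
theorem L76145 : N1223 = N616 := eqc rfl L76144 rfl
theorem L76146 : sm gf N317 = N1238 := trfs L76132 L6101 rfl
theorem L76147 : N1238 = N624 := eqes L76146 L3178
theorem L76148 : N1238 = N624 := eqc rfl L76147 rfl
theorem L76156 : sm gd N624 = N2515 := trfs L76148 (flp_d L12166) rfl
theorem L76157 : N2515 = N1225 := eqes L76156 (flp_d L6032)
theorem L76158 : N2515 = N1225 := eqc rfl L76157 rfl
theorem L76162 : sm ga N1225 = N1225 := trfs L76158 L12164 rfl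
theorem L76163 : sm gb N1225 = N2192 := trfs L76158 L70609 L72992
theorem L76164 : N2192 = N2518 := eqes L76163 L12181
theorem L76165 : N2518 = N2192 := (eqc rfl L76164 rfl).symm
theorem L76166 : sm gc N1225 = N5220 := trfs L76158 (flp_c L25292) rfl
theorem L76167 : N5220 = N2517 := eqes L76166 (flp_c L12177)
theorem L76168 : N5220 = N2517 := eqc rfl L76167 rfl
theorem L76171 : sm gg N1225 = N1225 := trfs L76158 L12170 rfl
theorem L76172 : sm ga N2517 = N2517 := trfs L76168 L25290 rfl
theorem L76173 : sm ge N2517 = N2710 := trfs L76168 L25294 rfl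
theorem L76174 : N2710 = N1313 := eqes L76173 L12179
theorem L76175 : N2710 = N1313 := eqc rfl L76174 rfl
theorem L76176 : sm gf N2517 = N2514 := trfs L76168 (flp_f L25288) rfl
theorem L76177 : N2514 = N1224 := eqes L76176 (flp_f L12175)
theorem L76178 : N2514 = N1224 := eqc rfl L76177 rfl
theorem L76179 : sm gg N2517 = N2517 := trfs L76168 L25296 rfl
theorem L76180 : sm ga N1224 = N1224 := trfs L76178 L12157 rfl
theorem L76185 : sm gd N1224 = N5219 := trfs L76178 L25283 rfl
theorem L76186 : N5219 = N2516 := eqes L76185 L12172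
theorem L76187 : N5219 = N2516 := eqc rfl L76186 rfl
theorem L76188 : sm ge N1224 = N1310 := trfs L76178 L12159 rfl
theorem L76189 : N1310 = N656 := eqes L76188 L6027
theorem L76190 : N1310 = N656 := eqc rfl L76189 rfl
theorem L76192 : sm ga N656 = N656 := trfs L76190 L6422 rfl
theorem L76196 : sm gc N656 = N655 := trfs L76190 (flp_c L6420) rfl
theorem L76197 : N655 = N332 := eqes L76196 (flp_c L3322)
theorem L76198 : N655 = N332 := eqc rfl L76197 rfl
theorem L76199 : sm gd N656 = N2709 := trfs L76190 L13046 rfl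
theorem L76200 : N2709 = N1312 := eqes L76199 L6433
theorem L76201 : N2709 = N1312 := eqc rfl L76200 rfl
theorem L76204 : sm ga N1312 = N1312 := trfs L76201 L13048 rfl
theorem L76208 : sm gc N1312 = N1312 := trfs L76201 (flp_c L13051) rfl
theorem L76209 : sm ge N1312 = N5628 := trfs L76201 L27192 rfl
theorem L76210 : N5628 = N2712 := eqes L76209 L13065
theorem L76211 : N5628 = N2712 := eqc rfl L76210 rfl
theorem L76212 : sm gf N1312 = N5629 := trfs L76201 L27199 rfl
theorem L76213 : N5629 = N2713 := eqes L76212 L13068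
theorem L76214 : N5629 = N2713 := eqc rfl L76213 rfl
theorem L76216 : sm ga N2713 = N2713 := trfs L76214 L27201 rfl
theorem L76217 : sm gc N2713 = N2713 := trfs L76214 L27203 rfl
theorem L76219 : sm gg N2713 = N2713 := trfs L76214 L27207 rfl
theorem L76220 : sm ga N2712 = N2712 := trfs L76211 L27194 rfl
theorem L76221 : sm gc N2712 = N2712 := trfs L76211 L27196 rfl
theorem L76224 : sm ga N332 = N332 := trfs L76198 (flp_a L3317) rfl
theorem L76225 : sm gb N332 = N1309 := trfs L76198 L6416 rfl
theorem L76226 : N1309 = N165 := eqes L76225 (flp_b L1691)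
theorem L76227 : N1309 = N165 := eqc rfl L76226 rfl
theorem L76244 : sm gf N165 = N2706 := trfs L76227 L13035 rfl
theorem L76245 : N2706 = N333 := eqes L76244 L1696
theorem L76246 : N2706 = N333 := eqc rfl L76245 rfl
theorem L76247 : sm gg N165 = N2707 := trfs L76227 L13039 rfl
theorem L76248 : N2707 = N75 := eqes L76247 (flp_g L827)
theorem L76249 : N2707 = N75 := eqc rfl L76248 rfl
theorem L76261 : sm gf N75 = N5623 := trfs L76249 L27173 rfl
theorem L76262 : N5623 = N164 := eqes L76261 L823
theorem L76263 : N5623 = N164 := eqc rfl L76262 rfl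
theorem L76273 : sm ge N164 = N5261 := trfs L76263 (flp_e L70973) rfl
theorem L76274 : N5261 = N313 := eqes L76273 (flp_e L1603)
theorem L76275 : N5261 = N313 := eqc rfl L76274 rfl
theorem L76297 : sm gb N313 = N2532 := trfs L76275 (flp_b L25525) rfl
theorem L76298 : N2532 = N614 := eqes L76297 L3118
theorem L76299 : N2532 = N614 := eqc rfl L76298 rfl
theorem L76300 : sm gd N313 = N2533 := trfs L76275 L25527 rfl
theorem L76301 : N2533 = N157 := eqes L76300 L1601
theorem L76302 : N2533 = N157 := eqc rfl L76301 rfl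
theorem L76306 : sm gb N157 = N1231 := trfs L76302 (flp_b L12259) rfl
theorem L76307 : N1231 = N315 := eqes L76306 L1611
theorem L76308 : N1231 = N315 := eqc rfl L76307 rfl
theorem L76316 : sm gg N157 = N4545 := trfs L76302 (flp_g L21939) rfl
theorem L76317 : N4545 = N316 := eqes L76316 L1616
theorem L76318 : N4545 = N316 := eqc rfl L76317 rfl
theorem L76327 : sm ge N316 = N2206 := trfs L76318 L21937 rfl
theorem L76328 : N2206 = N160 := eqes L76327 L1618
theorem L76329 : N2206 = N160 := eqc rfl L76328 rfl
theorem L76339 : sm gf N160 = N1265 := trfs L76329 L69731 rfl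
theorem L76340 : N1265 = N134 := eqes L76339 (flp_f L804)
theorem L76341 : N1265 = N134 := eqc rfl L76340 rfl
theorem L76350 : sm gg N134 = N2609 := trfs L76341 L12627 rfl
theorem L76351 : N2609 = N58 := eqes L76350 (flp_g L665)
theorem L76352 : N2609 = N58 := eqc rfl L76351 rfl
theorem L76360 : sm gd N58 = N1378 := trfs L76352 L12631 rfl
theorem L76361 : N1378 = N26 := eqes L76360 (flp_d L279)
theorem L76362 : N1378 = N26 := eqc rfl L76361 rfl
theorem L76381 : sm gf N26 = N1375 := trfs L76362 (flp_f L48315) rfl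
theorem L76382 : N1375 = N60 := eqes L76381 L291
theorem L76383 : N1375 = N60 := eqc rfl L76382 rfl
theorem L76385 : sm ga N60 = N1384 := trfs L76383 (flp_a L70719) rfl
theorem L76386 : N1384 = N34 := eqes L76385 L293
theorem L76387 : N1384 = N34 := eqc rfl L76386 rfl
theorem L76394 : sm gg N60 = N687 := trfs L76383 (flp_g L48335) rfl
theorem L76395 : N687 = N81 := eqes L76394 (flp_g L397)
theorem L76396 : N687 = N81 := eqc rfl L76395 rfl
theorem L76399 : sm gc N81 = N1380 := trfs L76396 (flp_c L6740) rfl
theorem L76400 : N1380 = N39 := eqes L76399 L395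
theorem L76401 : N1380 = N39 := eqc rfl L76400 rfl
theorem L76415 : sm gf N39 = N686 := trfs L76401 (flp_f L6738) rfl
theorem L76416 : N686 = N18 := eqes L76415 (flp_f L191)
theorem L76417 : N686 = N18 := eqc rfl L76416 rfl
theorem L76428 : sm gg N18 = N1381 := trfs L76417 L6742 rfl
theorem L76429 : N1381 = N7 := eqes L76428 (flp_g L93)
theorem L76430 : N1381 = N7 := eqc rfl L76429 rfl
theorem L76442 : sm gf N7 = N2853 := trfs L76430 L13780 rfl
theorem L76443 : N2853 = N17 := eqes L76442 L88
theorem L76444 : N2853 = N17 := eqc rfl L76443 rfl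
theorem L76451 : sm ge N17 = N5726 := trfs L76444 (flp_e L27740) rfl
theorem L76452 : N5726 = N36 := eqes L76451 (flp_e L176)
theorem L76453 : N5726 = N36 := eqc rfl L76452 rfl
theorem L76455 : sm ga N36 = N5713 := trfs L76453 L51973 rfl
theorem L76456 : N5713 = N62 := eqes L76455 (flp_a L305)
theorem L76457 : N5713 = N62 := eqc rfl L76456 rfl
theorem L76464 : sm gf N62 = N5718 := trfs L76457 L51969 rfl
theorem L76465 : N5718 = N27 := eqes L76464 (flp_f L303)
theorem L76466 : N5718 = N27 := eqc rfl L76465 rfl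
theorem L76474 : sm gg N27 = N2754 := trfs L76466 (flp_g L27690) rfl
theorem L76475 : N2754 = N63 := eqes L76474 L310
theorem L76476 : N2754 = N63 := eqc rfl L76475 rfl
theorem L76480 : sm gd N63 = N5716 := trfs L76476 L27678 rfl
theorem L76481 : N5716 = N63 := eqes L76480 L314
theorem L76482 : N5716 = N63 := eqc rfl L76481 rfl
theorem L76485 : sm ga N63 = N2757 := trfs L76482 L27680 rfl
theorem L76486 : N2757 = N37 := eqes L76485 L312
theorem L76487 : N2757 = N37 := eqc rfl L76486 rfl
theorem L76502 : sm ge N37 = N5720 := trfs L76487 L27700 rfl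
theorem L76503 : N5720 = N18 := eqes L76502 L182
theorem L76504 : N5720 = N18 := eqc rfl L76503 rfl
theorem L76510 : sm gd N18 = N2847 := trfs L76504 L27703 rfl
theorem L76511 : N2847 = N9 := eqes L76510 L95
theorem L76512 : N2847 = N9 := eqc rfl L76511 rfl
theorem L76521 : sm gf N9 = N5891 := trfs L76512 L28569 rfl
theorem L76522 : N5891 = N20 := eqes L76521 L104
theorem L76523 : N5891 = N20 := eqc rfl L76522 rfl
theorem L76528 : sm ga N20 = N9840 := trfs L76523 (flp_a L72597) rfl
theorem L76529 : N9840 = N19 := eqes L76528 L106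
theorem L76530 : N9840 = N19 := eqc rfl L76529 rfl
theorem L76532 : sm ge N19 = N4781 := trfs L76530 (flp_e L72595) rfl
theorem L76533 : N4781 = N19 := eqes L76532 L101
theorem L76534 : N4781 = N19 := eqc rfl L76533 rfl
theorem L76542 : sm gf N19 = N2843 := trfs L76534 L52029 rfl
theorem L76543 : N2843 = N14 := eqes L76542 (flp_f L102)
theorem L76544 : N2843 = N14 := eqc rfl L76543 rfl
theorem L76548 : sm gc N14 = N5880 := trfs L76544 L28521 rfl
theorem L76549 : N5880 = N14 := eqes L76548 L78
theorem L76550 : N5880 = N14 := eqc rfl L76549 rfl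
theorem L76553 : sm gg N14 = N5883 := trfs L76544 L28537 rfl
theorem L76554 : N5883 = N6 := eqes L76553 (flp_g L74)
theorem L76555 : N5883 = N6 := eqc rfl L76554 rfl
theorem L76557 : sm gb N6 = N6789 := trfs L76555 L71995 rfl
theorem L76558 : N6789 = N11 := eqes L76557 L61
theorem L76559 : N6789 = N11 := eqc rfl L76558 rfl
theorem L76576 : sm gg N11 = N3345 := trfs L76559 L32753 rfl
theorem L76577 : N3345 = N25 := eqes L76576 L127
theorem L76578 : N3345 = N25 := eqc rfl L76577 rfl
theorem L76590 : sm gf N25 = N6954 := trfs L76578 L33522 rfl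
theorem L76591 : N6954 = N56 := eqes L76590 L270
theorem L76592 : N6954 = N56 := eqc rfl L76591 rfl
theorem L76599 : sm gg N56 = N6792 := trfs L76592 (flp_g L33528) rfl
theorem L76600 : N6792 = N44 := eqes L76599 L275
theorem L76601 : N6792 = N44 := eqc rfl L76600 rfl
theorem L76603 : sm gd N44 = N3275 := trfs L76601 L32766 rfl
theorem L76604 : N3275 = N98 := eqes L76603 (flp_d L489)
theorem L76605 : N3275 = N98 := eqc rfl L76604 rfl
theorem L76619 : sm gf N98 = N1589 := trfs L76605 (flp_f L15773) rfl
theorem L76620 : N1589 = N43 := eqes L76619 (flp_f L485)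
theorem L76621 : N1589 = N43 := eqc rfl L76620 rfl
theorem L76632 : sm gg N43 = N808 := trfs L76621 L7742 rfl
theorem L76633 : N808 = N99 := eqes L76632 L491
theorem L76634 : N808 = N99 := eqc rfl L76633 rfl
theorem L76636 : sm gb N99 = N415 := trfs L76634 L4051 rfl
theorem L76637 : N415 = N210 := eqes L76636 L1067
theorem L76638 : N415 = N210 := eqc rfl L76637 rfl
theorem L76639 : sm gc N99 = N411 := trfs L76634 (flp_c L4049) rfl
theorem L76640 : N411 = N206 := eqes L76639 (flp_c L1045)
theorem L76641 : N411 = N206 := eqc rfl L76640 rfl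
theorem L76646 : sm gf N99 = N1624 := trfs L76634 L7897 rfl
theorem L76647 : N1624 = N118 := eqes L76646 L582
theorem L76648 : N1624 = N118 := eqc rfl L76647 rfl
theorem L76655 : sm ge N118 = N3325 := trfs L76648 (flp_e L16014) rfl
theorem L76656 : N3325 = N244 := eqes L76655 (flp_e L1244)
theorem L76657 : N3325 = N244 := eqc rfl L76656 rfl
theorem L76672 : sm gg N244 = N6906 := trfs L76657 L33314 rfl
theorem L76673 : N6906 = N115 := eqes L76672 (flp_g L1241)
theorem L76674 : N6906 = N115 := eqc rfl L76673 rfl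
theorem L76676 : sm gc N115 = N3326 := trfs L76674 L33318 rfl
theorem L76677 : N3326 = N237 := eqes L76676 (flp_c L1206)
theorem L76678 : N3326 = N237 := eqc rfl L76677 rfl
theorem L76685 : sm gd N237 = N6881 := trfs L76678 (flp_d L33188) rfl
theorem L76686 : N6881 = N469 := eqes L76685 (flp_d L2396)
theorem L76687 : N6881 = N469 := eqc rfl L76686 rfl
theorem L76697 : sm gg N469 = N3314 := trfs L76687 (flp_g L33184) rfl
theorem L76698 : N3314 = N930 := eqes L76697 L4627
theorem L76699 : N3314 = N930 := eqc rfl L76698 rfl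
theorem L76703 : sm gb N930 = N3934 := trfs L76699 (flp_b L18883) rfl
theorem L76704 : N3934 = N1888 := eqes L76703 L9141
theorem L76705 : N3934 = N1888 := eqc rfl L76704 rfl
theorem L76713 : sm gf N930 = N1607 := trfs L76699 (flp_f L15948) rfl
theorem L76714 : N1607 = N801 := eqes L76713 (flp_f L4631)
theorem L76715 : N1607 = N801 := eqc rfl L76714 rfl
theorem L76719 : sm gb N801 = N801 := trfs L76715 (flp_b L7823) rfl
theorem L76720 : sm gc N801 = N3313 := trfs L76715 L15946 rfl
theorem L76721 : N3313 = N1605 := eqes L76720 (flp_c L7815)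
theorem L76722 : N3313 = N1605 := eqc rfl L76721 rfl
theorem L76723 : sm gd N801 = N803 := trfs L76715 L7825 rfl
theorem L76724 : N803 = N409 := eqes L76723 L4029
theorem L76725 : N803 = N409 := eqc rfl L76724 rfl
theorem L76726 : sm ge N801 = N3285 := trfs L76715 (flp_e L15826) rfl
theorem L76727 : N3285 = N1594 := eqes L76726 (flp_e L7769)
theorem L76728 : N3285 = N1594 := eqc rfl L76727 rfl
theorem L76729 : sm gg N801 = N3254 := trfs L76715 (flp_g L15669) rfl
theorem L76730 : N3254 = N407 := eqes L76729 (flp_g L4025)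
theorem L76731 : N3254 = N407 := eqc rfl L76730 rfl
theorem L76733 : sm gb N407 = N1579 := trfs L76731 (flp_b L15665) rfl
theorem L76734 : N1579 = N787 := eqes L76733 (flp_b L3955)
theorem L76735 : N1579 = N787 := eqc rfl L76734 rfl
theorem L76742 : sm ge N407 = N6711 := trfs L76731 (flp_e L32354) rfl
theorem L76743 : N6711 = N794 := eqes L76742 (flp_e L3991)
theorem L76744 : N6711 = N794 := eqc rfl L76743 rfl
theorem L76746 : sm gb N794 = N3235 := trfs L76744 (flp_b L32350) rfl
theorem L76747 : N3235 = N1570 := eqes L76746 (flp_b L7647)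
theorem L76748 : N3235 = N1570 := eqc rfl L76747 rfl
theorem L76749 : sm gd N794 = N3238 := trfs L76744 L32352 rfl
theorem L76750 : N3238 = N404 := eqes L76749 (flp_d L3987)
theorem L76751 : N3238 = N404 := eqc rfl L76750 rfl
theorem L76756 : sm gb N404 = N1572 := trfs L76751 (flp_b L15589) rfl
theorem L76757 : N1572 = N784 := eqes L76756 (flp_b L3943)
theorem L76758 : N1572 = N784 := eqc rfl L76757 rfl
theorem L76768 : sm gg N404 = N1596 := trfs L76751 L15593 rfl
theorem L76769 : N1596 = N796 := eqes L76768 L3999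
theorem L76770 : N1596 = N796 := eqc rfl L76769 rfl
theorem L76774 : sm gb N796 = N796 := trfs L76770 (flp_b L7775) rfl
theorem L76779 : sm ge N796 = N798 := trfs L76770 L7777 rfl
theorem L76780 : N798 = N406 := eqes L76779 L4003
theorem L76781 : N798 = N406 := eqc rfl L76780 rfl
theorem L76782 : sm gf N796 = N3291 := trfs L76770 L15848 rfl
theorem L76783 : N3291 = N915 := eqes L76782 L4571
theorem L76784 : N3291 = N915 := eqc rfl L76783 rfl
theorem L76788 : sm gb N915 = N3853 := trfs L76784 (flp_b L18535) rfl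
theorem L76789 : N3853 = N1853 := eqes L76788 L8989
theorem L76790 : N3853 = N1853 := eqc rfl L76789 rfl
theorem L76798 : sm gg N915 = N6828 := trfs L76784 L32944 rfl
theorem L76799 : N6828 = N462 := eqes L76798 (flp_g L4567)
theorem L76800 : N6828 = N462 := eqc rfl L76799 rfl
theorem L76802 : sm ge N462 = N3303 := trfs L76800 L32948 rfl
theorem L76803 : N3303 = N234 := eqes L76802 L2364
theorem L76804 : N3303 = N234 := eqc rfl L76803 rfl
theorem L76810 : sm gc N234 = N6855 := trfs L76804 (flp_c L33058) rfl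
theorem L76811 : N6855 = N234 := eqes L76810 L66623
theorem L76812 : N6855 = N234 := eqc rfl L76811 rfl
theorem L76822 : sm gg N234 = N3302 := trfs L76812 (flp_g L33054) rfl
theorem L76823 : N3302 = N465 := eqes L76822 L2374
theorem L76824 : N3302 = N465 := eqc rfl L76823 rfl
theorem L76836 : sm gf N465 = N1601 := trfs L76824 (flp_f L15900) rfl
theorem L76837 : N1601 = N406 := eqes L76836 (flp_f L2378)
theorem L76838 : N1601 = N406 := eqc rfl L76837 rfl
theorem L76839 : sm ga N406 = N3299 := trfs L76838 (flp_a L15888) rfl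
theorem L76840 : N3299 = N235 := eqes L76839 L2073
theorem L76841 : N3299 = N235 := eqc rfl L76840 rfl
theorem L76845 : sm gd N406 = N3301 := trfs L76838 L15898 rfl
theorem L76846 : N3301 = N206 := eqes L76845 L2075
theorem L76847 : N3301 = N206 := eqc rfl L76846 rfl
theorem L76849 : sm gg N406 = N3245 := trfs L76838 (flp_g L15629) rfl
theorem L76850 : N3245 = N203 := eqes L76849 (flp_g L2071)
theorem L76851 : N3245 = N203 := eqc rfl L76850 rfl
theorem L76853 : sm gb N203 = N6702 := trfs L76851 (flp_b L32308) rfl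
theorem L76854 : N6702 = N400 := eqes L76853 (flp_b L2048)
theorem L76855 : N6702 = N400 := eqc rfl L76854 rfl
theorem L76866 : sm gg N400 = N400 := trfs L76855 L62805 L76855
theorem L76867 : N400 = N786 := eqes L76866 L3949
theorem L76868 : N786 = N400 := (eqc rfl L76867 rfl).symm
theorem L76871 : sm gc N400 = N1569 := trfs L76868 (flp_c L7643) rfl
theorem L76872 : N1569 = N783 := eqes L76871 L3939
theorem L76873 : N1569 = N783 := eqc rfl L76872 rfl
theorem L76874 : sm gd N400 = N403 := trfs L76868 L3951 rfl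
theorem L76875 : N403 = N202 := eqes L76874 (flp_d L2046)
theorem L76876 : N403 = N202 := eqc rfl L76875 rfl
theorem L76879 : sm gg N400 = N400 := trfs L76868 (flp_g L3949) rfl
theorem L76883 : sm ge N202 = N789 := trfs L76876 (flp_e L3965) rfl
theorem L76884 : N789 = N401 := eqes L76883 L2050
theorem L76885 : N789 = N401 := eqc rfl L76884 rfl
theorem L76887 : sm gg N202 = N202 := trfs L76876 (flp_g L2058) rfl
theorem L76893 : sm gg N401 = N401 := trfs L76885 (flp_g L3962) rfl
theorem L76896 : sm gd N783 = N3225 := trfs L76873 (flp_d L15527) rfl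
theorem L76897 : N3225 = N1566 := eqes L76896 L7631
theorem L76898 : N3225 = N1566 := eqc rfl L76897 rfl
theorem L76899 : sm ge N783 = N3228 := trfs L76873 (flp_e L15541) rfl
theorem L76900 : N3228 = N1567 := eqes L76899 L7633
theorem L76901 : N3228 = N1567 := eqc rfl L76900 rfl
theorem L76903 : sm gg N783 = N783 := trfs L76873 (flp_g L7641) rfl
theorem L76909 : sm gd N1567 = N4200 := trfs L76901 (flp_d L71714) rfl
theorem L76910 : N4200 = N2011 := eqes L76909 (flp_d L71722)
theorem L76911 : N4200 = N2011 := eqc rfl L76910 rfl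
theorem L76913 : sm gg N1567 = N1567 := trfs L76901 (flp_g L15537) rfl
theorem L76919 : sm ge N2011 = N2013 := trfs L76911 L20134 rfl
theorem L76920 : N2013 = N990 := eqes L76919 (flp_e L9707)
theorem L76921 : N2013 = N990 := eqc rfl L76920 rfl
theorem L76923 : sm gg N2011 = N2011 := trfs L76911 (flp_g L20129) rfl
theorem L76928 : sm gc N990 = N993 := trfs L76921 L9721 rfl
theorem L76929 : N993 = N502 := eqes L76928 (flp_c L4932)
theorem L76930 : N993 = N502 := eqc rfl L76929 rfl
theorem L76931 : sm gd N990 = N4197 := trfs L76921 (flp_d L20116) rfl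
theorem L76932 : N4197 = N2010 := eqes L76931 L9703
theorem L76933 : N4197 = N2010 := eqc rfl L76932 rfl
theorem L76935 : sm gg N990 = N990 := trfs L76921 (flp_g L9718) rfl
theorem L76943 : sm gg N2010 = N2010 := trfs L76933 (flp_g L20113) rfl
theorem L76958 : sm gg N502 = N502 := trfs L76930 (flp_g L4946) rfl
theorem L76981 : sm gg N1566 = N1566 := trfs L76898 (flp_g L15525) rfl
theorem L76996 : sm gc N206 = N6851 := trfs L76847 L33044 rfl
theorem L76997 : N6851 = N99 := eqes L76996 L1045
theorem L76998 : N6851 = N99 := eqc rfl L76997 rfl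
theorem L77005 : sm ga N99 = N6959 := trfs L76998 (flp_a L33544) rfl
theorem L77006 : N6959 = N52 := eqes L77005 L493
theorem L77007 : N6959 = N52 := eqc rfl L77006 rfl
theorem L77010 : sm gd N52 = N3348 := trfs L77007 (flp_d L33542) rfl
theorem L77011 : N3348 = N25 := eqes L77010 L253
theorem L77012 : N3348 = N25 := eqc rfl L77011 rfl
theorem L77018 : sm ge N25 = N6960 := trfs L77012 L33548 rfl
theorem L77019 : N6960 = N25 := eqes L77018 L129
theorem L77020 : N6960 = N25 := eqc rfl L77019 rfl
theorem L77029 : sm gc N25 = N3349 := trfs L77020 L33550 rfl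
theorem L77030 : N3349 = N45 := eqes L77029 (flp_c L65195)
theorem L77031 : N3349 = N45 := eqc rfl L77030 rfl
theorem L77036 : sm gd N45 = N6904 := trfs L77031 (flp_d L33308) rfl
theorem L77037 : N6904 = N99 := eqes L77036 (flp_d L495)
theorem L77038 : N6904 = N99 := eqc rfl L77037 rfl
theorem L77052 : sm ge N99 = N3324 := trfs L77038 (flp_e L33304) rfl
theorem L77053 : N3324 = N208 := eqes L77052 (flp_e L1059)
theorem L77054 : N3324 = N208 := eqc rfl L77053 rfl
theorem L77058 : sm gb N208 = N1627 := trfs L77054 L16008 rfl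
theorem L77059 : N1627 = N413 := eqes L77058 L2108
theorem L77060 : N1627 = N413 := eqc rfl L77059 rfl
theorem L77075 : sm gd N413 = N811 := trfs L77060 (flp_d L7911) rfl
theorem L77076 : N811 = N413 := eqes L77075 L2110
theorem L77077 : N811 = N413 := eqc rfl L77076 rfl
theorem L77079 : sm gf N413 = N2354 := trfs L77060 (flp_f L11377) rfl
theorem L77080 : N2354 = N575 := eqes L77079 (flp_f L2930)
theorem L77081 : N2354 = N575 := eqc rfl L77080 rfl
theorem L77090 : sm gd N575 = N1146 := trfs L77081 (flp_d L11374) rfl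
theorem L77091 : N1146 = N575 := eqes L77090 L2927
theorem L77092 : N1146 = N575 := eqc rfl L77091 rfl
theorem L77093 : sm ge N575 = N4888 := trfs L77081 L23639 rfl
theorem L77094 : N4888 = N299 := eqes L77093 L2928
theorem L77095 : N4888 = N299 := eqc rfl L77094 rfl
theorem L77098 : sm gd N299 = N2401 := trfs L77095 L23645 rfl
theorem L77099 : N2401 = N151 := eqes L77098 L1526
theorem L77100 : N2401 = N151 := eqc rfl L77099 rfl
theorem L77108 : sm ge N151 = N1168 := trfs L77100 (flp_e L11592) rfl
theorem L77109 : N1168 = N151 := eqes L77108 L755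
theorem L77110 : N1168 = N151 := eqc rfl L77109 rfl
theorem L77120 : sm gd N151 = N587 := trfs L77110 (flp_d L5743) rfl
theorem L77121 : N587 = N299 := eqes L77120 (flp_d L1526)
theorem L77122 : N587 = N299 := eqc rfl L77121 rfl
theorem L77127 : sm gc N299 = N299 := trfs L77122 (flp_c L2987) rfl
theorem L77155 : sm gc N575 = N575 := trfs L77092 (flp_c L5647) rfl
theorem L77172 : sm gc N413 = N413 := trfs L77077 (flp_c L4061) rfl
theorem L77199 : sm gc N235 = N1600 := trfs L76841 (flp_c L15886) rfl
theorem L77200 : N1600 = N235 := eqes L77199 L66683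
theorem L77201 : N1600 = N235 := eqc rfl L77200 rfl
theorem L77213 : sm gf N235 = N3300 := trfs L77201 L15890 rfl
theorem L77214 : N3300 = N467 := eqes L77213 L2384
theorem L77215 : N3300 = N467 := eqc rfl L77214 rfl
theorem L77222 : sm gd N467 = N1622 := trfs L77215 L15894 rfl
theorem L77223 : N1622 = N242 := eqes L77222 L2388
theorem L77224 : N1622 = N242 := eqc rfl L77223 rfl
theorem L77232 : sm ge N242 = N3323 := trfs L77224 (flp_e L16002) rfl
theorem L77233 : N3323 = N474 := eqes L77232 (flp_e L2424)
theorem L77234 : N3323 = N474 := eqc rfl L77233 rfl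
theorem L77238 : sm gb N474 = N6902 := trfs L77234 L33298 rfl
theorem L77239 : N6902 = N940 := eqes L77238 L4677
theorem L77240 : N6902 = N940 := eqc rfl L77239 rfl
theorem L77255 : sm gf N940 = N7788 := trfs L77240 (flp_f L71630) rfl
theorem L77256 : N7788 = N1908 := eqes L77255 (flp_f L9249)
theorem L77257 : N7788 = N1908 := eqc rfl L77256 rfl
theorem L77263 : sm ge N1908 = N3752 := trfs L77257 L37410 rfl
theorem L77264 : N3752 = N956 := eqes L77263 L9247
theorem L77265 : N3752 = N956 := eqc rfl L77264 rfl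
theorem L77274 : sm gd N956 = N7708 := trfs L77265 (flp_d L37043) rfl
theorem L77275 : N7708 = N1873 := eqes L77274 (flp_d L9081)
theorem L77276 : N7708 = N1873 := eqc rfl L77275 rfl
theorem L77282 : sm gb N1873 = N3693 := trfs L77276 (flp_b L37041) rfl
theorem L77283 : N3693 = N924 := eqes L77282 (flp_b L9079)
theorem L77284 : N3693 = N924 := eqc rfl L77283 rfl
theorem L77293 : sm ge N924 = N7684 := trfs L77284 (flp_e L36933) rfl
theorem L77294 : N7684 = N1856 := eqes L77293 (flp_e L9003)
theorem L77295 : N7684 = N1856 := eqc rfl L77294 rfl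
theorem L77297 : sm gg N924 = N7705 := trfs L77284 (flp_g L37031) rfl
theorem L77298 : N7705 = N1874 := eqes L77297 L9085
theorem L77299 : N7705 = N1872 := eqc rfl L77298 L72879
theorem L77300 : sm ga N1872 = N1786 := trfs L77299 (flp_a L37027) L74306
theorem L77301 : N1786 = N3893 := eqes L77300 (flp_a L18711)
theorem L77302 : N3893 = N1786 := (eqc rfl L77301 rfl).symm
theorem L77303 : sm gb N1872 = N3883 := trfs L77299 L59349 rfl
theorem L77304 : N3883 = N3898 := eqes L77303 L18729
theorem L77305 : N3898 = N3883 := (eqc rfl L77304 rfl).symm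
theorem L77309 : sm gf N1872 = N3696 := trfs L77299 L67407 rfl
theorem L77310 : N3696 = N923 := eqes L77309 (flp_f L9075)
theorem L77311 : N3696 = N923 := eqc rfl L77310 rfl
theorem L77314 : sm gb N923 = N1784 := trfs L77311 (flp_b L17766) rfl
theorem L77315 : N1784 = N923 := eqes L77314 L60443
theorem L77316 : N1784 = N923 := eqc rfl L77315 rfl
theorem L77325 : sm gg N923 = N3695 := trfs L77311 L64053 rfl
theorem L77326 : N3695 = N1785 := eqes L77325 (flp_g L8657)
theorem L77327 : N3695 = N1785 := eqc rfl L77326 rfl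
theorem L77330 : sm gb N1785 = N3650 := trfs L77327 L17764 rfl
theorem L77331 : N3650 = N3649 := eqes L77330 (flp_b L17519)
theorem L77332 : N3650 = N3649 := eqc rfl L77331 rfl
theorem L77341 : sm gf N1785 = N1783 := trfs L77327 (flp_f L17760) rfl
theorem L77342 : N1783 = N3699 := eqes L77341 L17780
theorem L77343 : N3699 = N1783 := (eqc rfl L77342 rfl).symm
theorem L77350 : sm gc N1783 = N1786 := trfs L77343 L17782 rfl
theorem L77351 : N1786 = N3694 := eqes L77350 L17758
theorem L77352 : N3694 = N1786 := (eqc rfl L77351 rfl).symm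
theorem L77355 : sm ge N1783 = N7690 := trfs L77343 (flp_e L36965) rfl
theorem L77356 : N7690 = N3683 := eqes L77355 (flp_e L17708)
theorem L77357 : N7690 = N3683 := eqc rfl L77356 rfl
theorem L77362 : sm ga N3683 = N8073 := trfs L77357 (flp_a L39078) rfl
theorem L77363 : N8073 = N7684 := eqes L77362 L36931
theorem L77364 : N8073 = N1856 := eqc rfl L77363 L77295
theorem L77365 : sm gc N3683 = N3686 := trfs L77357 L36963 rfl
theorem L77366 : N3686 = N7685 := eqes L77365 L36935
theorem L77367 : N7685 = N3686 := (eqc rfl L77366 rfl).symm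
theorem L77370 : sm gg N3683 = N8067 := trfs L77357 L39056 rfl
theorem L77371 : N8067 = N7683 := eqes L77370 (flp_g L36929)
theorem L77372 : N8067 = N7683 := eqc rfl L77371 rfl
theorem L77373 : sm ga N7683 = N3858 := trfs L77372 L39050 rfl
theorem L77375 : sm gc N7683 = N3683 := trfs L77372 L39052 L74721
theorem L77377 : N7683 = N7685 := eqes (flp_c L77375) L36935
theorem L77378 : N7683 = N3686 := eqc rfl L77377 L77367
theorem L77379 : N8067 = N3686 := L77372.trans L77378
theorem L77381 : sm gf N3686 = N3855 := trfs L77379 (flp_f L39048) rfl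
theorem L77382 : N3855 = N1778 := eqes L77381 (flp_f L17722)
theorem L77383 : N3855 = N1778 := eqc rfl L77382 rfl
theorem L77384 : sm ga N1778 = N1855 := trfs L77383 L18543 rfl
theorem L77385 : N1855 = N3684 := eqes L77384 L17710
theorem L77386 : N3684 = N1855 := (eqc rfl L77385 rfl).symm
theorem L77390 : sm gc N1778 = N1854 := trfs L77383 (flp_c L18541) rfl
theorem L77391 : N1854 = N3685 := eqes L77390 L17716
theorem L77392 : N3685 = N1854 := (eqc rfl L77391 rfl).symm
theorem L77393 : sm gd N1778 = N8066 := trfs L77383 L39044 rfl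
theorem L77394 : N8066 = N3678 := eqes L77393 (flp_d L17674)
theorem L77395 : N8066 = N3678 := eqc rfl L77394 rfl
theorem L77404 : sm ga N3678 = N3857 := trfs L77395 L39046 rfl
theorem L77405 : N3857 = N7675 := eqes L77404 L36877
theorem L77406 : N7675 = N3857 := (eqc rfl L77405 rfl).symm
theorem L77407 : sm ga N3857 = N3678 := trfs L77406 (flp_a L36877) rfl
theorem L77410 : sm ge N3857 = N3719 := trfs L77406 L36881 rfl
theorem L77411 : N3719 = N8070 := eqes L77410 L39064
theorem L77412 : N8070 = N3719 := (eqc rfl L77411 rfl).symm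
theorem L77413 : sm gf N3857 = N8034 := trfs L77406 L38888 rfl
theorem L77414 : N8034 = N8071 := eqes L77413 L39068
theorem L77415 : N8071 = N8034 := (eqc rfl L77414 rfl).symm
theorem L77416 : sm gg N3857 = N3840 := trfs L77406 L36883 rfl
theorem L77417 : N3840 = N7689 := eqes L77416 (flp_g L36959)
theorem L77418 : N7689 = N3840 := (eqc rfl L77417 rfl).symm
theorem L77420 : sm gg N3840 = N3857 := trfs L77418 L36959 rfl
theorem L77422 : sm gd N8034 = N3858 := trfs L77415 L39070 rfl
theorem L77423 : N3858 = N3860 := eqes L77422 L38884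
theorem L77424 : N3860 = N3858 := (eqc rfl L77423 rfl).symm
theorem L77425 : sm gf N8034 = N3857 := trfs L77415 (flp_f L39068) rfl
theorem L77429 : sm gb N3858 = N3851 := trfs L77424 (flp_b L59299) rfl
theorem L77430 : N3851 = N8072 := eqes L77429 L39072
theorem L77431 : N8072 = N3851 := (eqc rfl L77430 rfl).symm
theorem L77433 : sm gd N3858 = N8034 := trfs L77424 (flp_d L38884) rfl
theorem L77439 : sm gb N3851 = N3858 := trfs L77431 (flp_b L39072) rfl
theorem L77441 : sm ge N3851 = N3883 := trfs L77431 L39074 L77305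
theorem L77442 : N3883 = N1865 := eqes L77441 L18525
theorem L77443 : N3883 = N1865 := eqc rfl L77442 rfl
theorem L77444 : sm gf N3851 = N3851 := trfs L77431 L71885 L77431
theorem L77445 : N3851 = N8057 := eqes L77444 L39000
theorem L77446 : N8057 = N3851 := (eqc rfl L77445 rfl).symm
theorem L77449 : sm gf N3851 = N3851 := trfs L77446 (flp_f L39000) rfl
theorem L77450 : sm gg N3851 = N8053 := trfs L77446 (flp_g L39006) rfl
theorem L77451 : N8053 = N8051 := eqes L77450 (flp_g L38974)
theorem L77452 : N8053 = N8051 := eqc rfl L77451 rfl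
theorem L77453 : sm ga N8051 = N8060 := trfs L77452 (flp_a L39018) rfl
theorem L77454 : N8060 = N3849 := eqes L77453 (flp_a L38970)
theorem L77455 : N8060 = N3849 := eqc rfl L77454 rfl
theorem L77456 : sm ge N8051 = N3879 := trfs L77452 L38984 rfl
theorem L77457 : N3879 = N3877 := eqes L77456 L38972
theorem L77458 : N3879 = N3877 := eqc rfl L77457 rfl
theorem L77461 : sm ga N3877 = N3886 := trfs L77458 (flp_a L18683) rfl
theorem L77462 : N3886 = N1863 := eqes L77461 (flp_a L18641)
theorem L77463 : N3886 = N1863 := eqc rfl L77462 rfl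
theorem L77465 : sm gc N3877 = N8117 := trfs L77458 (flp_c L39280) rfl
theorem L77466 : N8117 = N8115 := eqes L77465 L39268
theorem L77467 : N8117 = N8115 := eqc rfl L77466 rfl
theorem L77468 : sm gd N3877 = N1928 := trfs L77458 L18653 rfl
theorem L77469 : N1928 = N1926 := eqes L77468 L18643
theorem L77470 : N1928 = N1926 := eqc rfl L77469 rfl
theorem L77484 : sm gg N1926 = N1932 := trfs L77470 L9345 rfl
theorem L77485 : N1932 = N948 := eqes L77484 L9325
theorem L77486 : N1932 = N948 := eqc rfl L77485 rfl
theorem L77487 : sm ga N948 = N950 := trfs L77486 L9343 rfl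
theorem L77488 : N950 = N478 := eqes L77487 (flp_a L4711)
theorem L77489 : N950 = N478 := eqc rfl L77488 rfl
theorem L77491 : sm gc N948 = N4035 := trfs L77486 (flp_c L19351) rfl
theorem L77492 : N4035 = N1931 := eqes L77491 L9337
theorem L77493 : N4035 = N1931 := eqc rfl L77492 rfl
theorem L77495 : sm ge N948 = N3964 := trfs L77486 (flp_e L19033) rfl
theorem L77496 : N3964 = N1900 := eqes L77495 (flp_e L9203)
theorem L77497 : N3964 = N1900 := eqc rfl L77496 rfl
theorem L77498 : sm gf N948 = N948 := trfs L77486 (flp_f L9341) rfl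
theorem L77499 : sm ga N1900 = N1902 := trfs L77497 L19031 rfl
theorem L77500 : N1902 = N936 := eqes L77499 (flp_a L9201)
theorem L77501 : N1902 = N936 := eqc rfl L77500 rfl
theorem L77505 : sm gc N1900 = N8306 := trfs L77497 (flp_c L40109) rfl
theorem L77506 : N8306 = N3963 := eqes L77505 L19023
theorem L77507 : N8306 = N3963 := eqc rfl L77506 rfl
theorem L77508 : sm gd N1900 = N8240 := trfs L77497 (flp_d L39777) rfl
theorem L77509 : N8240 = N3932 := eqes L77508 (flp_d L18875)
theorem L77510 : N8240 = N3932 := eqc rfl L77509 rfl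
theorem L77511 : sm gf N1900 = N1900 := trfs L77497 (flp_f L19029) rfl
theorem L77514 : sm gf N3932 = N3932 := trfs L77510 (flp_f L39773) rfl
theorem L77515 : sm gg N3932 = N8236 := trfs L77510 (flp_g L39779) rfl
theorem L77516 : N8236 = N8234 := eqes L77515 (flp_g L39751)
theorem L77517 : N8236 = N8234 := eqc rfl L77516 rfl
theorem L77518 : sm ga N8234 = N8243 := trfs L77517 (flp_a L39789) rfl
theorem L77519 : N8243 = N3930 := eqes L77518 (flp_a L39747)
theorem L77520 : N8243 = N3930 := eqc rfl L77519 rfl
theorem L77526 : sm gf N3930 = N8234 := trfs L77520 (flp_f L39793) rfl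
theorem L77529 : sm ga N3963 = N3966 := trfs L77507 L40107 rfl
theorem L77530 : N3966 = N1901 := eqes L77529 L19025
theorem L77531 : N3966 = N1901 := eqc rfl L77530 rfl
theorem L77533 : sm gf N3963 = N3963 := trfs L77507 (flp_f L40105) rfl
theorem L77534 : sm gg N3963 = N8295 := trfs L77507 (flp_g L40113) rfl
theorem L77535 : N8295 = N8293 := eqes L77534 (flp_g L40049)
theorem L77536 : N8295 = N8293 := eqc rfl L77535 rfl
theorem L77537 : sm ga N8293 = N8311 := trfs L77536 (flp_a L40135) rfl
theorem L77538 : N8311 = N3959 := eqes L77537 L40045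
theorem L77539 : N8311 = N3959 := eqc rfl L77538 rfl
theorem L77547 : sm ge N3959 = N4040 := trfs L77539 L40139 rfl
theorem L77548 : N4040 = N1927 := eqes L77547 L19007
theorem L77549 : N4040 = N1927 := eqc rfl L77548 rfl
theorem L77550 : sm gf N3959 = N8293 := trfs L77539 (flp_f L40141) rfl
theorem L77558 : sm gd N1927 = N8438 := trfs L77549 (flp_d L40849) rfl
theorem L77559 : N8438 = N4023 := eqes L77558 L19313
theorem L77560 : N8438 = N4023 := eqc rfl L77559 rfl
theorem L77564 : sm ga N4023 = N8406 := trfs L77560 L40847 rfl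
theorem L77565 : N8406 = N8403 := eqes L77564 (flp_a L40671)
theorem L77566 : N8406 = N8403 := eqc rfl L77565 rfl
theorem L77570 : sm gb N8403 = N4834 := trfs L77566 L71664 rfl
theorem L77571 : N4834 = N5972 := eqes L77570 L71791
theorem L77572 : N5972 = N4834 := (eqc rfl L77571 rfl).symm
theorem L77582 : sm ga N4834 = N2890 := trfs L77572 (flp_a L28933) rfl
theorem L77583 : N2890 = N2329 := eqes L77582 (flp_a L23359)
theorem L77584 : N2890 = N2329 := eqc rfl L77583 rfl
theorem L77588 : sm gf N4834 = N6161 := trfs L77572 L29778 rfl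
theorem L77589 : N6161 = N2421 := eqes L77588 L23363
theorem L77590 : N6161 = N2421 := eqc rfl L77589 rfl
theorem L77591 : sm gg N4834 = N2978 := trfs L77572 L28937 rfl
theorem L77592 : N2978 = N5027 := eqes L77591 (flp_g L24322)
theorem L77593 : N5027 = N2978 := (eqc rfl L77592 rfl).symm
theorem L77597 : sm gd N2978 = N2428 := trfs L77593 L24320 rfl
theorem L77598 : N2428 = N1446 := eqes L77597 L14352
theorem L77599 : N2428 = N1446 := eqc rfl L77598 rfl
theorem L77600 : sm gf N2978 = N2423 := trfs L77593 (flp_f L24316) rfl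
theorem L77601 : N2423 = N6158 := eqes L77600 L29758
theorem L77602 : N6158 = N2423 := (eqc rfl L77601 rfl).symm
theorem L77603 : sm gg N2978 = N4834 := trfs L77593 L24322 rfl
theorem L77605 : sm ga N2423 = N2980 := trfs L77602 L29760 rfl
theorem L77606 : N2980 = N5023 := eqes L77605 (flp_a L24298)
theorem L77607 : N5023 = N2980 := (eqc rfl L77606 rfl).symm
theorem L77611 : sm gf N2423 = N2978 := trfs L77602 (flp_f L29758) rfl
theorem L77613 : sm gg N2423 = N5974 := trfs L77602 (flp_g L29764) rfl
theorem L77614 : N5974 = N1178 := eqes L77613 (flp_g L11678)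
theorem L77615 : N5974 = N1178 := eqc rfl L77614 rfl
theorem L77618 : sm gd N1178 = N2893 := trfs L77615 L28945 rfl
theorem L77619 : N2893 = N593 := eqes L77618 L5783
theorem L77620 : N2893 = N593 := eqc rfl L77619 rfl
theorem L77626 : sm gf N593 = N1403 := trfs L77620 (flp_f L13978) rfl
theorem L77627 : N1403 = N1135 := eqes L77626 (flp_f L5595)
theorem L77628 : N1403 = N1135 := eqc rfl L77627 rfl
theorem L77635 : sm ge N1135 = N2781 := trfs L77628 (flp_e L13440) rfl
theorem L77636 : N2781 = N2273 := eqes L77635 (flp_e L10986)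
theorem L77637 : N2781 = N2273 := eqc rfl L77636 rfl
theorem L77641 : sm gb N2273 = N1344 := trfs L77637 (flp_b L13438) rfl
theorem L77642 : N1344 = N1108 := eqes L77641 (flp_b L10984)
theorem L77643 : N1344 = N1108 := eqc rfl L77642 rfl
theorem L77646 : sm gd N2273 = N5763 := trfs L77637 (flp_d L27962) rfl
theorem L77647 : N5763 = N4728 := eqes L77646 (flp_d L22848)
theorem L77648 : N5763 = N4728 := eqc rfl L77647 rfl
theorem L77650 : sm gg N2273 = N1419 := trfs L77637 L13444 rfl
theorem L77651 : N1419 = N4731 := eqes L77650 L22866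
theorem L77652 : N4731 = N1419 := (eqc rfl L77651 rfl).symm
theorem L77654 : sm gb N1419 = N9768 := trfs L77652 L47466 rfl
theorem L77655 : N9768 = N706 := eqes L77654 (flp_b L6908)
theorem L77656 : N9768 = N706 := eqc rfl L77655 rfl
theorem L77662 : sm gf N1419 = N4916 := trfs L77652 (flp_f L23777) rfl
theorem L77663 : N4916 = N2925 := eqes L77662 L14136
theorem L77664 : N4916 = N2925 := eqc rfl L77663 rfl
theorem L77665 : sm gg N1419 = N2273 := trfs L77652 (flp_g L22866) rfl
theorem L77673 : sm gg N2925 = N2367 := trfs L77664 (flp_g L23771) rfl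
theorem L77674 : N2367 = N6045 := eqes L77673 L29299
theorem L77675 : N6045 = N2367 := (eqc rfl L77674 rfl).symm
theorem L77680 : sm gg N2367 = N2925 := trfs L77675 (flp_g L29299) rfl
theorem L77687 : sm gg N706 = N4732 := trfs L77656 L47470 rfl
theorem L77688 : N4732 = N356 := eqes L77687 (flp_g L3547)
theorem L77689 : N4732 = N356 := eqc rfl L77688 rfl
theorem L77699 : sm gd N356 = N9766 := trfs L77689 (flp_d L47460) rfl
theorem L77700 : N9766 = N705 := eqes L77699 L3544
theorem L77701 : N9766 = N705 := eqc rfl L77700 rfl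
theorem L77722 : sm gb N705 = N4729 := trfs L77701 (flp_b L47458) rfl
theorem L77723 : N4729 = N1343 := eqes L77722 (flp_b L6592)
theorem L77724 : N4729 = N1343 := eqc rfl L77723 rfl
theorem L77726 : sm ga N1343 = N4441 := trfs L77724 L22854 rfl
theorem L77727 : N4441 = N2775 := eqes L77726 (flp_a L13406)
theorem L77728 : N4441 = N2775 := eqc rfl L77727 rfl
theorem L77729 : sm gc N1343 = N9760 := trfs L77724 (flp_c L47422) rfl
theorem L77730 : N9760 = N2778 := eqes L77729 L13426
theorem L77731 : N9760 = N2778 := eqc rfl L77730 rfl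
theorem L77734 : sm gf N1343 = N4438 := trfs L77724 (flp_f L22858) rfl
theorem L77735 : N4438 = N2768 := eqes L77734 (flp_f L13372)
theorem L77736 : N4438 = N2768 := eqc rfl L77735 rfl
theorem L77737 : sm gg N1343 = N2272 := trfs L77724 (flp_g L22852) rfl
theorem L77738 : N2272 = N2780 := eqes L77737 L13434
theorem L77739 : N2780 = N2272 := (eqc rfl L77738 rfl).symm
theorem L77749 : sm gf N2272 = N5764 := trfs L77739 L27966 rfl
theorem L77750 : N5764 = N1107 := eqes L77749 (flp_f L10980)
theorem L77751 : N5764 = N1107 := eqc rfl L77750 rfl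
theorem L77752 : sm gg N2272 = N1343 := trfs L77739 (flp_g L13434) rfl
theorem L77754 : sm ga N1107 = N4707 := trfs L77751 (flp_a L67809) rfl
theorem L77755 : N4707 = N2267 := eqes L77754 (flp_a L10956)
theorem L77756 : N4707 = N2267 := eqc rfl L77755 rfl
theorem L77767 : sm gb N2267 = N9717 := trfs L77756 (flp_b L47188) rfl
theorem L77768 : N9717 = N4714 := eqes L77767 (flp_b L22776)
theorem L77769 : N9717 = N4714 := eqc rfl L77768 rfl
theorem L77770 : sm gc N2267 = N9720 := trfs L77756 L47202 rfl
theorem L77771 : N9720 = N4717 := eqes L77770 L22786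
theorem L77772 : N9720 = N4717 := eqc rfl L77771 rfl
theorem L77773 : sm gd N2267 = N2263 := trfs L77756 (flp_d L22730) rfl
theorem L77774 : N2263 = N1105 := eqes L77773 (flp_d L10954)
theorem L77775 : N2263 = N1105 := eqc rfl L77774 rfl
theorem L77776 : sm ge N2267 = N9721 := trfs L77756 L47204 rfl
theorem L77777 : N9721 = N4718 := eqes L77776 L22792
theorem L77778 : N9721 = N4718 := eqc rfl L77777 rfl
theorem L77783 : sm gg N4718 = N5740 := trfs L77778 (flp_g L71038) rfl
theorem L77784 : N5740 = N9178 := eqes L77783 (flp_g L44569)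
theorem L77785 : N9178 = N5740 := (eqc rfl L77784 rfl).symm
theorem L77786 : sm ga N5740 = N4440 := trfs L77785 L44567 rfl
theorem L77792 : sm gg N5740 = N4718 := trfs L77785 L44569 rfl
theorem L77795 : sm gb N1105 = N4706 := trfs L77775 L22724 rfl
theorem L77796 : N4706 = N2266 := eqes L77795 L10950
theorem L77797 : N4706 = N2266 := eqc rfl L77796 rfl
theorem L77801 : sm gg N1105 = N1338 := trfs L77775 L67976 rfl
theorem L77802 : N1338 = N2129 := eqes L77801 (flp_g L10277)
theorem L77803 : N2129 = N1338 := (eqc rfl L77802 rfl).symm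
theorem L77811 : sm gg N1338 = N1105 := trfs L77803 L10277 rfl
theorem L77813 : sm ga N2266 = N2266 := trfs L77797 (flp_a L71309) rfl
theorem L77814 : sm gc N2266 = N2266 := trfs L77797 L22728 rfl
theorem L77817 : sm gf N2266 = N9718 := trfs L77797 L47190 rfl
theorem L77818 : N9718 = N4715 := eqes L77817 L22778
theorem L77819 : N9718 = N4715 := eqc rfl L77818 rfl
theorem L77823 : sm ge N4715 = N4789 := trfs L77819 L47194 rfl
theorem L77824 : N4789 = N2316 := eqes L77823 L22780
theorem L77825 : N4789 = N2316 := eqc rfl L77824 rfl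
theorem L77832 : sm gd N2316 = N9843 := trfs L77825 (flp_d L72617) rfl
theorem L77833 : N9843 = N4806 := eqes L77832 (flp_d L23219)
theorem L77834 : N9843 = N4806 := eqc rfl L77833 rfl
theorem L77837 : sm ga N4806 = N4806 := trfs L77834 L72615 rfl
theorem L77841 : sm gg N4717 = N5739 := trfs L77772 L72067 rfl
theorem L77842 : N5739 = N9177 := eqes L77841 (flp_g L44561)
theorem L77843 : N9177 = N5739 := (eqc rfl L77842 rfl).symm
theorem L77844 : sm ga N5739 = N4439 := trfs L77843 L44559 rfl
theorem L77847 : sm gd N5739 = N9135 := trfs L77843 (flp_d L44563) rfl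
theorem L77850 : sm gg N5739 = N4717 := trfs L77843 L44561 rfl
theorem L77852 : sm ga N4714 = N4714 := trfs L77769 L71080 rfl
theorem L77859 : sm ga N2768 = N2130 := trfs L77736 L21402 rfl
theorem L77862 : sm gg N2768 = N2267 := trfs L77736 L21404 rfl
theorem L77864 : sm ga N2778 = N9182 := trfs L77731 L47420 rfl
theorem L77865 : N9182 = N5753 := eqes L77864 (flp_a L27906)
theorem L77866 : N9182 = N5753 := eqc rfl L77865 rfl
theorem L77867 : sm gg N2778 = N4726 := trfs L77731 (flp_g L47418) rfl
theorem L77870 : sm gf N5753 = N4439 := trfs L77866 (flp_f L44589) rfl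
theorem L77872 : sm gg N5753 = N9742 := trfs L77866 L47328 rfl
theorem L77876 : sm ge N2775 = N9183 := trfs L77728 (flp_e L44597) rfl
theorem L77877 : N9183 = N5754 := eqes L77876 L27910
theorem L77878 : N9183 = N5754 := eqc rfl L77877 rfl
theorem L77879 : sm gf N2775 = N2130 := trfs L77728 (flp_f L21416) rfl
theorem L77881 : sm gg N2775 = N4719 := trfs L77728 L22804 rfl
theorem L77885 : sm gf N5754 = N4440 := trfs L77878 (flp_f L44593) rfl
theorem L77887 : sm gg N5754 = N9743 := trfs L77878 L47338 rfl
theorem L77903 : sm gg N4728 = N2923 := trfs L77648 L27964 rfl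
theorem L77909 : sm gg N1108 = N669 := trfs L77643 (flp_g L6594) rfl
theorem L77921 : sm ga N2980 = N2423 := trfs L77607 L24298 rfl
theorem L77930 : sm gb N1446 = N5038 := trfs L77599 L24356 rfl
theorem L77931 : N5038 = N2981 := eqes L77930 L14360
theorem L77932 : N5038 = N2981 := eqc rfl L77931 rfl
theorem L77935 : sm gf N1446 = N1181 := trfs L77599 (flp_f L11700) rfl
theorem L77939 : sm gf N2981 = N6115 := trfs L77932 L72235 rfl
theorem L77940 : N6115 = N6164 := eqes L77939 L29788
theorem L77941 : N6164 = N6115 := (eqc rfl L77940 rfl).symm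
theorem L77948 : sm gf N6115 = N2981 := trfs L77941 (flp_f L29788) rfl
theorem L77954 : sm gg N2421 = N2980 := trfs L77590 (flp_g L29772) rfl
theorem L77957 : sm gc N2329 = N5973 := trfs L77584 L28939 rfl
theorem L77958 : N5973 = N4835 := eqes L77957 L23365
theorem L77959 : N5973 = N4835 := eqc rfl L77958 rfl
theorem L77961 : sm gg N2329 = N1445 := trfs L77584 L13962 rfl
theorem L77963 : sm gg N4835 = N2979 := trfs L77959 L28941 rfl
theorem L77980 : sm gd N1901 = N8310 := trfs L77531 (flp_d L40129) rfl
theorem L77981 : N8310 = N3965 := eqes L77980 L19037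
theorem L77982 : N8310 = N3965 := eqc rfl L77981 rfl
theorem L77984 : sm gf N1901 = N1901 := trfs L77531 (flp_f L19041) rfl
theorem L77985 : sm gb N3965 = N4895 := trfs L77982 L40131 rfl
theorem L77986 : N4895 = N1963 := eqes L77985 L19039
theorem L77987 : N4895 = N1963 := eqc rfl L77986 rfl
theorem L77988 : sm gf N3965 = N3965 := trfs L77982 (flp_f L40127) rfl
theorem L77990 : sm gf N1963 = N2356 := trfs L77987 (flp_f L23675) rfl
theorem L77991 : N2356 = N1148 := eqes L77990 L9471
theorem L77992 : N2356 = N1148 := eqc rfl L77991 rfl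
theorem L77994 : sm gb N1148 = N1148 := trfs L77992 L11386 rfl
theorem L77999 : sm ge N1148 = N4894 := trfs L77992 L23669 rfl
theorem L78000 : N4894 = N2360 := eqes L77999 L11402
theorem L78001 : N4894 = N2360 := eqc rfl L78000 rfl
theorem L78002 : sm gg N1148 = N4896 := trfs L77992 L23679 rfl
theorem L78003 : N4896 = N1198 := eqes L78002 L65654
theorem L78004 : N4896 = N1198 := eqc rfl L78003 rfl
theorem L78005 : sm gb N1198 = N5077 := trfs L78004 (flp_b L71267) rfl
theorem L78006 : N5077 = N2455 := eqes L78005 (flp_b L11847)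
theorem L78007 : N5077 = N2455 := eqc rfl L78006 rfl
theorem L78009 : sm ga N2455 = N2455 := trfs L78007 L24571 rfl
theorem L78010 : sm gd N2455 = N2448 := trfs L78007 (flp_d L24569) rfl
theorem L78011 : N2448 = N1193 := eqes L78010 (flp_d L11845)
theorem L78012 : N2448 = N1193 := eqc rfl L78011 rfl
theorem L78013 : sm gg N2455 = N2455 := trfs L78007 L71269 rfl
theorem L78014 : sm ga N1193 = N1193 := trfs L78012 L11816 rfl
theorem L78018 : sm gf N1193 = N5078 := trfs L78012 L24573 rfl
theorem L78019 : N5078 = N2456 := eqes L78018 L11849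
theorem L78020 : N5078 = N2456 := eqc rfl L78019 rfl
theorem L78021 : sm gg N1193 = N1193 := trfs L78012 (flp_g L71272) rfl
theorem L78022 : sm ga N2456 = N2456 := trfs L78020 L24575 rfl
theorem L78024 : sm ge N2456 = N2449 := trfs L78020 L24578 rfl
theorem L78025 : N2449 = N1194 := eqes L78024 L11852
theorem L78026 : N2449 = N1194 := eqc rfl L78025 rfl
theorem L78028 : sm ga N1194 = N1194 := trfs L78026 L11821 rfl
theorem L78033 : sm gd N1194 = N5075 := trfs L78026 (flp_d L24561) rfl
theorem L78034 : N5075 = N2453 := eqes L78033 (flp_d L11839)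
theorem L78035 : N5075 = N2453 := eqc rfl L78034 rfl
theorem L78039 : sm gf N2453 = N2447 := trfs L78035 (flp_f L24557) rfl
theorem L78040 : N2447 = N1192 := eqes L78039 (flp_f L11837)
theorem L78041 : N2447 = N1192 := eqc rfl L78040 rfl
theorem L78043 : sm ga N1192 = N1192 := trfs L78041 L11812 rfl
theorem L78049 : sm ge N1192 = N5074 := trfs L78041 L24553 rfl
theorem L78050 : N5074 = N2452 := eqes L78049 L11833
theorem L78051 : N5074 = N2452 := eqc rfl L78050 rfl
theorem L78052 : sm gg N1192 = N1192 := trfs L78041 (flp_g L71243) rfl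
theorem L78053 : sm ga N2452 = N2452 := trfs L78051 L24555 rfl
theorem L78057 : sm gg N2452 = N2452 := trfs L78051 L71235 rfl
theorem L78063 : sm gb N2360 = N2360 := trfs L78001 L23671 rfl
theorem L78072 : sm gf N936 = N936 := trfs L77501 (flp_f L9211) rfl
theorem L78075 : sm gf N1931 = N1931 := trfs L77493 (flp_f L19347) rfl
theorem L78079 : sm gd N478 = N1867 := trfs L77489 (flp_d L9053) rfl
theorem L78080 : N1867 = N921 := eqes L78079 (flp_d L4597)
theorem L78081 : N1867 = N921 := eqc rfl L78080 rfl
theorem L78082 : sm gf N478 = N478 := trfs L77489 (flp_f L4717) rfl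
theorem L78086 : sm gc N921 = N3885 := trfs L78081 (flp_c L18679) rfl
theorem L78087 : N3885 = N1866 := eqes L78086 L9049
theorem L78088 : N3885 = N1866 := eqc rfl L78087 rfl
theorem L78090 : sm gf N921 = N921 := trfs L78081 (flp_f L9051) rfl
theorem L78092 : sm ga N1866 = N8128 := trfs L78088 (flp_a L39322) rfl
theorem L78093 : N8128 = N3882 := eqes L78092 (flp_a L18665)
theorem L78094 : N8128 = N3882 := eqc rfl L78093 rfl
theorem L78095 : sm gb N1866 = N8133 := trfs L78088 L39340 rfl
theorem L78096 : N8133 = N1866 := eqes L78095 L58904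
theorem L78097 : N8133 = N1866 := eqc rfl L78096 rfl
theorem L78101 : sm ge N1866 = N8059 := trfs L78088 (flp_e L39014) rfl
theorem L78102 : N8059 = N3852 := eqes L78101 (flp_e L18529)
theorem L78103 : N8059 = N3852 := eqc rfl L78102 rfl
theorem L78104 : sm gf N1866 = N1866 := trfs L78088 (flp_f L18677) rfl
theorem L78113 : sm gf N3852 = N3852 := trfs L78103 (flp_f L39010) rfl
theorem L78115 : sm ga N1866 = N8162 := trfs L78097 (flp_a L72022) rfl
theorem L78116 : N8162 = N3882 := eqes L78115 (flp_a L18665)
theorem L78117 : N8162 = N3882 := eqc rfl L78116 rfl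
theorem L78120 : sm gb N3882 = N3901 := trfs L78117 L39473 rfl
theorem L78121 : N3901 = N8126 := eqes L78120 L39314
theorem L78122 : N8126 = N3901 := (eqc rfl L78121 rfl).symm
theorem L78127 : sm gb N3901 = N3882 := trfs L78122 (flp_b L39314) rfl
theorem L78134 : sm gf N3882 = N3882 := trfs L78094 (flp_f L39320) rfl
theorem L78144 : sm gf N8115 = N3878 := trfs L77467 (flp_f L39278) rfl
theorem L78149 : sm gf N1863 = N3877 := trfs L77463 (flp_f L18687) rfl
theorem L78151 : sm gb N3849 = N7692 := trfs L77455 L72148 rfl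
theorem L78152 : N7692 = N1852 := eqes L78151 (flp_b L18509)
theorem L78153 : N7692 = N1852 := eqc rfl L78152 rfl
theorem L78154 : sm gf N3849 = N8051 := trfs L77455 (flp_f L39022) rfl
theorem L78160 : sm gf N1852 = N8078 := trfs L78153 (flp_f L71767) rfl
theorem L78161 : N8078 = N3848 := eqes L78160 L69329
theorem L78162 : N8078 = N3848 := eqc rfl L78161 rfl
theorem L78164 : sm gb N3848 = N3861 := trfs L78162 (flp_b L39106) rfl
theorem L78165 : N3861 = N8049 := eqes L78164 L38956
theorem L78166 : N8049 = N3861 := (eqc rfl L78165 rfl).symm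
theorem L78168 : sm gb N3861 = N3848 := trfs L78166 (flp_b L38956) rfl
theorem L78170 : sm ge N3861 = N3875 := trfs L78166 L38958 rfl
theorem L78171 : N3875 = N1875 := eqes L78170 L18579
theorem L78172 : N3875 = N1875 := eqc rfl L78171 rfl
theorem L78177 : sm gc N1875 = N8111 := trfs L78172 L39256 rfl
theorem L78178 : N8111 = N3905 := eqes L78177 L18761
theorem L78179 : N8111 = N3905 := eqc rfl L78178 rfl
theorem L78180 : sm gd N1875 = N1929 := trfs L78172 (flp_d L69519) rfl
theorem L78181 : N1929 = N958 := eqes L78180 L9095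
theorem L78182 : N1929 = N958 := eqc rfl L78181 rfl
theorem L78188 : sm gc N958 = N4027 := trfs L78182 L19327 rfl
theorem L78189 : N4027 = N1954 := eqes L78188 L9423
theorem L78190 : N4027 = N1954 := eqc rfl L78189 rfl
theorem L78197 : sm gb N1954 = N6103 := trfs L78190 (flp_b L71870) rfl
theorem L78198 : N6103 = N4082 := eqes L78197 L19551
theorem L78199 : N6103 = N4082 := eqc rfl L78198 rfl
theorem L78211 : sm gc N4082 = N4020 := trfs L78199 L71872 rfl
theorem L78212 : N4020 = N6101 := eqes L78211 (flp_c L71593)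
theorem L78213 : N6101 = N4020 := (eqc rfl L78212 rfl).symm
theorem L78218 : sm gb N4020 = N4079 := trfs L78213 L71591 rfl
theorem L78219 : N4079 = N1925 := eqes L78218 (flp_b L19303)
theorem L78220 : N4079 = N1925 := eqc rfl L78219 rfl
theorem L78221 : sm gc N4020 = N4082 := trfs L78213 L71593 rfl
theorem L78223 : sm ga N1925 = N3769 := trfs L78220 (flp_a L59156) rfl
theorem L78224 : N3769 = N1807 := eqes L78223 L9317
theorem L78225 : N3769 = N1807 := eqc rfl L78224 rfl
theorem L78232 : sm gg N1925 = N5809 := trfs L78220 (flp_g L59151) rfl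
theorem L78233 : N5809 = N1805 := eqes L78232 L9321
theorem L78234 : N5809 = N1805 := eqc rfl L78233 rfl
theorem L78237 : sm gf N1805 = N3775 := trfs L78234 L28186 rfl
theorem L78238 : N3775 = N942 := eqes L78237 L8757
theorem L78239 : N3775 = N942 := eqc rfl L78238 rfl
theorem L78243 : sm gd N942 = N7880 := trfs L78239 (flp_d L38080) rfl
theorem L78244 : N7880 = N1918 := eqes L78243 L9285
theorem L78245 : N7880 = N1918 := eqc rfl L78244 rfl
theorem L78247 : sm gg N942 = N1818 := trfs L78239 (flp_g L18123) rfl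
theorem L78248 : N1818 = N1919 := eqes L78247 L9289
theorem L78249 : N1919 = N1818 := (eqc rfl L78248 rfl).symm
theorem L78252 : sm gb N1818 = N2874 := trfs L78249 L66120 rfl
theorem L78253 : N2874 = N1061 := eqes L78252 L8809
theorem L78254 : N2874 = N1061 := eqc rfl L78253 rfl
theorem L78256 : sm gd N1818 = N4007 := trfs L78249 (flp_d L19247) rfl
theorem L78257 : N4007 = N3774 := eqes L78256 L18119
theorem L78258 : N4007 = N3774 := eqc rfl L78257 rfl
theorem L78259 : sm ge N1818 = N3951 := trfs L78249 (flp_e L18963) rfl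
theorem L78260 : N3951 = N3737 := eqes L78259 (flp_e L17966)
theorem L78261 : N3951 = N3737 := eqc rfl L78260 rfl
theorem L78264 : sm gg N1818 = N942 := trfs L78249 (flp_g L9289) rfl
theorem L78272 : sm gd N3737 = N8277 := trfs L78261 (flp_d L39961) rfl
theorem L78273 : N8277 = N7810 := eqes L78272 L37544
theorem L78274 : N8277 = N7810 := eqc rfl L78273 rfl
theorem L78279 : sm ga N7810 = N3955 := trfs L78274 L39959 rfl
theorem L78281 : sm gf N7810 = N7783 := trfs L78274 L39963 rfl
theorem L78283 : sm gg N7810 = N3950 := trfs L78274 (flp_g L39957) rfl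
theorem L78291 : sm ga N3774 = N1923 := trfs L78258 L19245 rfl
theorem L78292 : N1923 = N7877 := eqes L78291 (flp_a L38070)
theorem L78293 : N7877 = N1923 := (eqc rfl L78292 rfl).symm
theorem L78297 : sm gc N3774 = N4017 := trfs L78258 (flp_c L69587) rfl
theorem L78298 : N4017 = N7878 := eqes L78297 L38072
theorem L78299 : N7878 = N4017 := (eqc rfl L78298 rfl).symm
theorem L78300 : sm ge N3774 = N8371 := trfs L78258 (flp_e L40511) rfl
theorem L78301 : N8371 = N7879 := eqes L78300 L38074
theorem L78302 : N8371 = N7879 := eqc rfl L78301 rfl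
theorem L78303 : sm gf N3774 = N3747 := trfs L78258 L19249 rfl
theorem L78304 : N3747 = N7872 := eqes L78303 (flp_f L38048)
theorem L78305 : N7872 = N3747 := (eqc rfl L78304 rfl).symm
theorem L78309 : sm gb N3747 = N5840 := trfs L78305 L38046 rfl
theorem L78310 : N5840 = N7830 := eqes L78309 L37661
theorem L78311 : N7830 = N5840 := (eqc rfl L78310 rfl).symm
theorem L78313 : sm gf N3747 = N3774 := trfs L78305 L38048 rfl
theorem L78320 : sm gb N5840 = N3747 := trfs L78311 (flp_b L37661) rfl
theorem L78323 : sm gf N5840 = N5930 := trfs L78311 L71833 rfl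
theorem L78324 : N5930 = N9278 := eqes L78323 (flp_f L45014)
theorem L78325 : N9278 = N5930 := (eqc rfl L78324 rfl).symm
theorem L78329 : sm gb N5930 = N4493 := trfs L78325 L45012 rfl
theorem L78330 : N4493 = N2873 := eqes L78329 L28745
theorem L78331 : N4493 = N2873 := eqc rfl L78330 rfl
theorem L78333 : sm gf N5930 = N5840 := trfs L78325 L45014 rfl
theorem L78335 : sm ga N2873 = N9280 := trfs L78331 (flp_a L45022) rfl
theorem L78336 : N9280 = N5927 := eqes L78335 (flp_a L28729)
theorem L78337 : N9280 = N5927 := eqc rfl L78336 rfl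
theorem L78338 : sm gc N2873 = N9281 := trfs L78331 L45026 rfl
theorem L78339 : N9281 = N5933 := eqes L78338 L28755
theorem L78340 : N9281 = N5933 := eqc rfl L78339 rfl
theorem L78382 : sm gf N5933 = N4498 := trfs L78340 L45028 rfl
theorem L78384 : sm gf N5927 = N4497 := trfs L78337 L45024 rfl
theorem L78385 : N4497 = N4765 := eqes L78384 (flp_f L59586)
theorem L78386 : N4765 = N4497 := (eqc rfl L78385 rfl).symm
theorem L78388 : sm gb N4497 = N9821 := trfs L78386 (flp_b L72494) rfl
theorem L78389 : N9821 = N9288 := eqes L78388 (flp_b L45056)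
theorem L78390 : N9821 = N9288 := eqc rfl L78389 rfl
theorem L78398 : sm gf N4497 = N5927 := trfs L78386 L59586 rfl
theorem L78403 : sm ga N9288 = N9820 := trfs L78390 L72492 rfl
theorem L78405 : sm gd N9288 = N4762 := trfs L78390 (flp_d L72490) rfl
theorem L78406 : N4762 = N4496 := eqes L78405 (flp_d L45054)
theorem L78407 : N4762 = N4496 := eqc rfl L78406 rfl
theorem L78408 : sm gf N9288 = N9818 := trfs L78390 L72496 rfl
theorem L78415 : sm ge N4496 = N9686 := trfs L78407 (flp_e L47013) rfl
theorem L78416 : N9686 = N9192 := eqes L78415 (flp_e L44647)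
theorem L78417 : N9686 = N9192 := eqc rfl L78416 rfl
theorem L78421 : sm gg N4496 = N9816 := trfs L78407 (flp_g L72467) rfl
theorem L78422 : N9816 = N9290 := eqes L78421 L45060
theorem L78423 : N9816 = N9290 := eqc rfl L78422 rfl
theorem L78424 : sm ga N9290 = N9822 := trfs L78423 (flp_a L72500) rfl
theorem L78425 : N9822 = N6067 := eqes L78424 L72054
theorem L78426 : N9822 = N6067 := eqc rfl L78425 rfl
theorem L78428 : sm gc N9290 = N4755 := trfs L78423 (flp_c L72465) rfl
theorem L78429 : N4755 = N5850 := eqes L78428 L72052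
theorem L78430 : N5850 = N4755 := (eqc rfl L78429 rfl).symm
theorem L78438 : sm gf N4755 = N9290 := trfs L78430 (flp_f L72048) rfl
theorem L78445 : sm gb N6067 = N4969 := trfs L78426 L72506 rfl
theorem L78446 : N4969 = N2935 := eqes L78445 (flp_b L29394)
theorem L78447 : N4969 = N2935 := eqc rfl L78446 rfl
theorem L78457 : sm gc N2935 = N2929 := trfs L78447 L24066 rfl
theorem L78458 : N2929 = N4966 := eqes L78457 (flp_c L24056)
theorem L78459 : N4966 = N2929 := (eqc rfl L78458 rfl).symm
theorem L78462 : sm ga N2929 = N4970 := trfs L78459 (flp_a L24072) rfl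
theorem L78463 : N4970 = N1423 := eqes L78462 L14154
theorem L78464 : N4970 = N1423 := eqc rfl L78463 rfl
theorem L78465 : sm gc N2929 = N2935 := trfs L78459 L24056 rfl
theorem L78472 : sm gg N1423 = N4965 := trfs L78464 L24076 rfl
theorem L78473 : N4965 = N707 := eqes L78472 (flp_g L6922)
theorem L78474 : N4965 = N707 := eqc rfl L78473 rfl
theorem L78479 : sm gc N707 = N2928 := trfs L78474 L24050 rfl
theorem L78480 : N2928 = N1166 := eqes L78479 (flp_c L5737)
theorem L78481 : N2928 = N1166 := eqc rfl L78480 rfl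
theorem L78488 : sm gd N1166 = N6052 := trfs L78481 (flp_d L29331) rfl
theorem L78489 : N6052 = N2390 := eqes L78488 (flp_d L11541)
theorem L78490 : N6052 = N2390 := eqc rfl L78489 rfl
theorem L78491 : sm ge N1166 = N5984 := trfs L78481 (flp_e L28987) rfl
theorem L78492 : N5984 = N2352 := eqes L78491 (flp_e L11364)
theorem L78493 : N5984 = N2352 := eqc rfl L78492 rfl
theorem L78497 : sm ga N2352 = N2898 := trfs L78493 L28985 rfl
theorem L78498 : N2898 = N4881 := eqes L78497 L23593
theorem L78499 : N4881 = N2898 := (eqc rfl L78498 rfl).symm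
theorem L78500 : sm gf N2352 = N2896 := trfs L78493 (flp_f L28983) rfl
theorem L78501 : N2896 = N4879 := eqes L78500 (flp_f L23581)
theorem L78502 : N4879 = N2896 := (eqc rfl L78501 rfl).symm
theorem L78516 : sm gf N2896 = N2352 := trfs L78502 L23581 rfl
theorem L78518 : sm ga N2898 = N2352 := trfs L78499 (flp_a L23593) rfl
theorem L78520 : sm gc N2898 = N2896 := trfs L78499 L23595 rfl
theorem L78523 : sm ga N2390 = N2932 := trfs L78490 L29329 rfl
theorem L78524 : N2932 = N4961 := eqes L78523 L24032
theorem L78525 : N4961 = N2932 := (eqc rfl L78524 rfl).symm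
theorem L78526 : sm gf N2390 = N2927 := trfs L78490 (flp_f L29327) rfl
theorem L78527 : N2927 = N4959 := eqes L78526 (flp_f L24022)
theorem L78528 : N4959 = N2927 := (eqc rfl L78527 rfl).symm
theorem L78540 : sm gf N2927 = N2390 := trfs L78528 L24022 rfl
theorem L78542 : sm ga N2932 = N2390 := trfs L78525 (flp_a L24032) rfl
theorem L78570 : sm ga N9192 = N9687 := trfs L78417 L70882 rfl
theorem L78573 : sm gc N9192 = N4689 := trfs L78417 (flp_c L47011) rfl
theorem L78574 : N4689 = N5701 := eqes L78573 L72050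
theorem L78575 : N5701 = N4689 := (eqc rfl L78574 rfl).symm
theorem L78576 : sm gf N9192 = N9685 := trfs L78417 (flp_f L71426) rfl
theorem L78579 : sm gc N4689 = N9192 := trfs L78575 (flp_c L72050) rfl
theorem L78582 : sm ga N7879 = N4015 := trfs L78302 L40509 rfl
theorem L78584 : sm gc N7879 = N8388 := trfs L78302 L72120 rfl
theorem L78586 : sm gf N7879 = N7829 := trfs L78302 L40513 rfl
theorem L78588 : sm gg N7879 = N4006 := trfs L78302 (flp_g L40507) rfl
theorem L78590 : sm gc N4017 = N3774 := trfs L78299 (flp_c L38072) rfl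
theorem L78596 : sm ga N1923 = N3774 := trfs L78293 L38070 rfl
theorem L78602 : sm gf N1061 = N1393 := trfs L78254 (flp_f L13890) rfl
theorem L78606 : sm gg N1918 = N3774 := trfs L78245 (flp_g L38078) rfl
theorem L78612 : sm gf N1807 = N1818 := trfs L78225 L18095 rfl
theorem L78618 : sm gb N3905 = N3878 := trfs L78179 L39258 rfl
theorem L78619 : N3878 = N8177 := eqes L78618 L39531
theorem L78620 : N8177 = N3878 := (eqc rfl L78619 rfl).symm
theorem L78622 : sm gb N3878 = N3905 := trfs L78620 (flp_b L39531) rfl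
theorem L78624 : sm gf N1865 = N1865 := trfs L77443 (flp_f L18667) rfl
theorem L78625 : sm gb N3719 = N3719 := trfs L77412 L71887 L77412
theorem L78626 : N3719 = N7767 := eqes L78625 L37301
theorem L78627 : N7767 = N3719 := (eqc rfl L78626 rfl).symm
theorem L78629 : sm ge N3719 = N3857 := trfs L77412 (flp_e L39064) rfl
theorem L78631 : sm gb N3719 = N3719 := trfs L78627 (flp_b L37301) rfl
theorem L78634 : sm gb N1854 = N7605 := trfs L77392 (flp_b L36534) rfl
theorem L78635 : N7605 = N3854 := eqes L78634 L18537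
theorem L78636 : N7605 = N3854 := eqc rfl L78635 rfl
theorem L78637 : sm gc N1854 = N1778 := trfs L77392 (flp_c L17716) rfl
theorem L78639 : sm ge N1854 = N1785 := trfs L77392 L17718 rfl
theorem L78640 : N1785 = N922 := eqes L78639 L8995
theorem L78641 : N1785 = N922 := eqc rfl L78640 rfl
theorem L78645 : sm gb N922 = N3649 := trfs L78641 (flp_b L17519) rfl
theorem L78646 : N3649 = N1868 := eqes L78645 L9057
theorem L78647 : N3649 = N1868 := eqc rfl L78646 rfl
theorem L78657 : N3650 = N1868 := L77332.trans L78647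
theorem L78659 : sm gc N1868 = N1761 := trfs L78647 (flp_c L17517) rfl
theorem L78660 : N1761 = N3888 := eqes L78659 L18693
theorem L78661 : N3888 = N1761 := (eqc rfl L78660 rfl).symm
theorem L78666 : sm gf N1868 = N7617 := trfs L78647 L36592 rfl
theorem L78667 : N7617 = N3648 := eqes L78666 (flp_f L64083)
theorem L78668 : N7617 = N3648 := eqc rfl L78667 rfl
theorem L78674 : sm gg N3648 = N1761 := trfs L78668 L64043 L78661
theorem L78675 : N1761 = N3648 := eqes L78674 L64067
theorem L78676 : N3648 = N1761 := (eqc rfl L78675 rfl).symm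
theorem L78677 : sm ga N1761 = N1761 := trfs L78676 (flp_a L17513) rfl
theorem L78682 : sm gd N1761 = N1770 := trfs L78676 L17515 rfl
theorem L78683 : N1770 = N879 := eqes L78682 L8539
theorem L78684 : N1770 = N879 := eqc rfl L78683 rfl
theorem L78685 : sm ge N1761 = N7604 := trfs L78676 (flp_e L36528) rfl
theorem L78686 : N7604 = N3644 := eqes L78685 (flp_e L17499)
theorem L78687 : N7604 = N3644 := eqc rfl L78686 rfl
theorem L78691 : sm ga N3644 = N3644 := trfs L78687 (flp_a L36526) rfl
theorem L78693 : sm gf N3644 = N3854 := trfs L78687 L64085 rfl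
theorem L78694 : N3854 = N7606 := eqes L78693 L36536
theorem L78695 : N7606 = N3854 := (eqc rfl L78694 rfl).symm
theorem L78697 : sm ga N3854 = N3854 := trfs L78695 L67468 rfl
theorem L78701 : sm gf N3854 = N3644 := trfs L78695 (flp_f L36536) rfl
theorem L78703 : sm gg N3854 = N3854 := trfs L78695 L64041 rfl
theorem L78704 : sm ga N879 = N879 := trfs L78684 (flp_a L8579) rfl
theorem L78706 : sm gc N879 = N879 := trfs L78684 L37952 rfl
theorem L78707 : sm ge N879 = N3659 := trfs L78684 (flp_e L17569) rfl
theorem L78708 : N3659 = N1766 := eqes L78707 (flp_e L8563)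
theorem L78709 : N3659 = N1766 := eqc rfl L78708 rfl
theorem L78710 : sm gf N879 = N951 := trfs L78684 (flp_f L67481) rfl
theorem L78711 : N951 = N1772 := eqes L78710 L8585
theorem L78712 : N1772 = N951 := (eqc rfl L78711 rfl).symm
theorem L78714 : sm ga N951 = N951 := trfs L78712 (flp_a L67477) rfl
theorem L78716 : sm gc N951 = N951 := trfs L78712 L67492 rfl
theorem L78718 : sm ge N951 = N3661 := trfs L78712 (flp_e L17579) rfl
theorem L78719 : N3661 = N1903 := eqes L78718 (flp_e L9219)
theorem L78720 : N3661 = N1903 := eqc rfl L78719 rfl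
theorem L78721 : sm gf N951 = N879 := trfs L78712 (flp_f L8585) rfl
theorem L78723 : sm gg N951 = N951 := trfs L78712 L67495 rfl
theorem L78724 : sm ga N1903 = N1903 := trfs L78720 L67453 rfl
theorem L78726 : sm gc N1903 = N1903 := trfs L78720 L52449 rfl
theorem L78727 : sm gd N1903 = N7629 := trfs L78720 (flp_d L36632) rfl
theorem L78728 : N7629 = N3935 := eqes L78727 (flp_d L18887)
theorem L78729 : N7629 = N3935 := eqc rfl L78728 rfl
theorem L78732 : sm gg N1903 = N1903 := trfs L78720 (flp_g L67488) rfl
theorem L78733 : sm ga N3935 = N3935 := trfs L78729 L67458 rfl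
theorem L78735 : sm gf N3935 = N3655 := trfs L78729 (flp_f L36630) rfl
theorem L78736 : N3655 = N7627 := eqes L78735 (flp_f L52444)
theorem L78737 : N7627 = N3655 := (eqc rfl L78736 rfl).symm
theorem L78738 : sm gg N3935 = N3935 := trfs L78729 L52458 rfl
theorem L78739 : sm ga N3655 = N3655 := trfs L78737 (flp_a L36624) rfl
theorem L78744 : sm gf N3655 = N3935 := trfs L78737 L52444 rfl
theorem L78762 : sm ga N1766 = N1766 := trfs L78709 (flp_a L17567) rfl
theorem L78764 : sm gc N1766 = N1766 := trfs L78709 (flp_c L37946) rfl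
theorem L78765 : sm gf N1766 = N1903 := trfs L78709 L52426 rfl
theorem L78774 : sm gc N1761 = N1868 := trfs L78661 (flp_c L18693) rfl
theorem L78804 : sm gc N3854 = N3644 := trfs L78636 (flp_c L36530) rfl
theorem L78807 : sm ga N1855 = N1778 := trfs L77386 (flp_a L17710) rfl
theorem L78811 : sm gg N1855 = N1854 := trfs L77386 L17714 rfl
theorem L78813 : sm ga N3686 = N3858 := trfs L77378 L77373 rfl
theorem L78823 : sm gc N3686 = N3683 := trfs L77367 (flp_c L36935) rfl
theorem L78830 : sm gg N1856 = N3858 := trfs L77364 (flp_g L39076) rfl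
theorem L78837 : sm gc N1786 = N1783 := trfs L77352 (flp_c L17758) rfl
theorem L78867 : sm ga N1868 = N1868 := trfs L78657 L67460 rfl
theorem L78868 : sm gf N1868 = N1761 := trfs L78657 (flp_f L17521) rfl

end Cfsg.Agent.Helper28.SzbA
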