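import Cfsg.Agent.Helper28.SzbB8

/-! # The Suzuki group presentation, cosets of the subgroup generated by a, b, c, d, f, g: the coset enumeration, part 9 (helper28; generated) -/

set_option autoImplicit false

noncomputable section

namespace Cfsg.Agent.Helper28.SzbA

open Cfsg.Agent.Helper28.CosetTable

theorem L78870 : sm gg N1868 = N1868 := trfs L78657 (flp_g L67490) rfl
theorem L78877 : sm gg N923 = N922 := trfs L77316 L8653 rfl
theorem L78889 : sm gb N1786 = N8152 := trfs L77302 L39432 rfl
theorem L78916 : sm gd N1853 = N8027 := trfs L76790 (flp_d L38836) rfl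
theorem L78917 : N8027 = N3839 := eqes L78916 (flp_d L18457)
theorem L78918 : N8027 = N3839 := eqc rfl L78917 rfl
theorem L78919 : sm gf N1853 = N1853 := trfs L76790 (flp_f L18531) rfl
theorem L78922 : sm gf N3839 = N3839 := trfs L78918 (flp_f L38834) rfl
theorem L78925 : sm gb N406 = N406 := trfs L76781 (flp_b L4009) rfl
theorem L78947 : sm gg N784 = N784 := trfs L76758 (flp_g L7655) rfl
theorem L78950 : sm gc N1570 = N6708 := trfs L76748 (flp_c L32330) rfl
theorem L78951 : N6708 = N3233 := eqes L78950 L15561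
theorem L78952 : N6708 = N3233 := eqc rfl L78951 rfl
theorem L78955 : sm gg N1570 = N1570 := trfs L76748 (flp_g L15571) rfl
theorem L78957 : sm gd N3233 = N8749 := trfs L78952 L71923 rfl
theorem L78958 : N8749 = N4204 := eqes L78957 L71931
theorem L78959 : N8749 = N4204 := eqc rfl L78958 rfl
theorem L78960 : sm ge N3233 = N3251 := trfs L78952 L32332 rfl
theorem L78961 : N3251 = N1577 := eqes L78960 L15563
theorem L78962 : N3251 = N1577 := eqc rfl L78961 rfl
theorem L78964 : sm gg N3233 = N3233 := trfs L78952 (flp_g L32328) rfl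
theorem L78970 : sm gd N1577 = N6743 := trfs L78962 (flp_d L32508) rfl
theorem L78971 : N6743 = N3249 := eqes L78970 L15643
theorem L78972 : N6743 = N3249 := eqc rfl L78971 rfl
theorem L78974 : sm gg N1577 = N1577 := trfs L78962 (flp_g L15649) rfl
theorem L78977 : sm ge N3249 = N8773 := trfs L78972 (flp_e L72247) rfl
theorem L78978 : N8773 = N4218 := eqes L78977 (flp_e L72261)
theorem L78979 : N8773 = N4218 := eqc rfl L78978 rfl
theorem L78981 : sm gg N3249 = N3249 := trfs L78972 (flp_g L32506) rfl
theorem L78984 : sm gd N4218 = N4220 := trfs L78979 L42523 rfl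
theorem L78985 : N4220 = N2020 := eqes L78984 (flp_d L20227)
theorem L78986 : N4220 = N2020 := eqc rfl L78985 rfl
theorem L78988 : sm gg N4218 = N4218 := trfs L78979 (flp_g L42520) rfl
theorem L78993 : sm gc N2020 = N2022 := trfs L78986 L20238 rfl
theorem L78994 : N2022 = N994 := eqes L78993 (flp_c L9759)
theorem L78995 : N2022 = N994 := eqc rfl L78994 rfl
theorem L78998 : sm gg N2020 = N2020 := trfs L78986 (flp_g L20235) rfl
theorem L79001 : sm gd N994 = N996 := trfs L78995 L9770 rfl
theorem L79002 : N996 = N503 := eqes L79001 (flp_d L4951)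
theorem L79003 : N996 = N503 := eqc rfl L79002 rfl
theorem L79004 : sm ge N994 = N4206 := trfs L78995 (flp_e L20166) rfl
theorem L79005 : N4206 = N2014 := eqes L79004 (flp_e L9728)
theorem L79006 : N4206 = N2014 := eqc rfl L79005 rfl
theorem L79008 : sm gg N994 = N994 := trfs L78995 (flp_g L9767) rfl
theorem L79014 : sm gg N2014 = N2014 := trfs L79006 (flp_g L20161) rfl
theorem L79020 : sm gg N503 = N503 := trfs L79003 (flp_g L4961) rfl
theorem L79023 : sm gg N4204 = N4204 := trfs L78959 (flp_g L42394) rfl
theorem L79032 : sm gg N787 = N787 := trfs L76735 (flp_g L7691) rfl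
theorem L79033 : sm gb N1594 = N1594 := trfs L76728 (flp_b L15822) rfl
theorem L79039 : sm gb N409 = N409 := trfs L76725 (flp_b L4035) rfl
theorem L79046 : sm gb N1605 = N6868 := trfs L76722 (flp_b L33126) rfl
theorem L79047 : N6868 = N3308 := eqes L79046 L15928
theorem L79048 : N6868 = N3308 := eqc rfl L79047 rfl
theorem L79053 : sm gc N3308 = N3308 := trfs L79048 (flp_c L33124) rfl
theorem L79063 : sm gc N1888 = N8242 := trfs L76705 (flp_c L39785) rfl
theorem L79064 : N8242 = N3933 := eqes L79063 L18877
theorem L79065 : N8242 = N3933 := eqc rfl L79064 rfl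
theorem L79066 : sm gf N1888 = N1888 := trfs L76705 (flp_f L18879) rfl
theorem L79067 : sm gf N3933 = N3933 := trfs L79065 (flp_f L39783) rfl
theorem L79086 : sm gb N206 = N206 := trfs L76641 (flp_b L2099) rfl
theorem L79089 : sm gc N210 = N210 := trfs L76638 (flp_c L2119) rfl
theorem L79145 : sm gd N14 = N5420 := trfs L76550 (flp_d L28525) rfl
theorem L79146 : N5420 = N29 := eqes L79145 (flp_d L149)
theorem L79147 : N5420 = N29 := eqc rfl L79146 rfl
theorem L79152 : sm gc N29 = N2611 := trfs L79147 (flp_c L26315) rfl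
theorem L79153 : N2611 = N61 := eqes L79152 (flp_c L301)
theorem L79154 : N2611 = N61 := eqc rfl L79153 rfl
theorem L79170 : sm gg N61 = N5423 := trfs L79154 L26323 rfl
theorem L79171 : N5423 = N26 := eqes L79170 (flp_g L297)
theorem L79172 : N5423 = N26 := eqc rfl L79171 rfl
theorem L79176 : sm gf N26 = N5374 := trfs L79172 (flp_f L72081) rfl
theorem L79177 : N5374 = N60 := eqes L79176 L291
theorem L79178 : N5374 = N60 := eqc rfl L79177 rfl
theorem L79183 : sm gg N60 = N5487 := trfs L79178 (flp_g L26622) rfl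
theorem L79184 : N5487 = N81 := eqes L79183 (flp_g L397)
theorem L79185 : N5487 = N81 := eqc rfl L79184 rfl
theorem L79187 : sm gb N81 = N2646 := trfs L79185 (flp_b L26618) rfl
theorem L79188 : N2646 = N175 := eqes L79187 L877
theorem L79189 : N2646 = N175 := eqc rfl L79188 rfl
theorem L79207 : sm gg N175 = N1282 := trfs L79189 (flp_g L12791) rfl
theorem L79208 : N1282 = N351 := eqes L79207 L1776
theorem L79209 : N1282 = N287 := eqc rfl L79208 L73207
theorem L79220 : sm gf N287 = N2634 := trfs L79209 (flp_f L12739) rfl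
theorem L79221 : N2634 = N139 := eqes L79220 (flp_f L1466)
theorem L79222 : N2634 = N139 := eqc rfl L79221 rfl
theorem L79234 : sm gg N139 = N4594 := trfs L79222 L51546 rfl
theorem L79235 : N4594 = N270 := eqes L79234 (flp_g L1388)
theorem L79236 : N4594 = N270 := eqc rfl L79235 rfl
theorem L79239 : sm gb N270 = N9491 := trfs L79236 (flp_b L46119) rfl
theorem L79240 : N9491 = N131 := eqes L79239 (flp_b L1386)
theorem L79241 : N9491 = N131 := eqc rfl L79240 rfl
theorem L79242 : sm gc N270 = N9494 := trfs L79236 L46129 rfl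
theorem L79243 : N9494 = N533 := eqes L79242 L2721
theorem L79244 : N9494 = N533 := eqc rfl L79243 rfl
theorem L79258 : sm gf N533 = N5965 := trfs L79244 (flp_f L71030) rfl
theorem L79259 : N5965 = N694 := eqes L79258 (flp_f L73437)
theorem L79260 : N5965 = N694 := eqc rfl L79259 rfl
theorem L79264 : sm gd N694 = N2888 := trfs L79260 L28899 rfl
theorem L79265 : N2888 = N1397 := eqes L79264 L6798
theorem L79266 : N2888 = N1397 := eqc rfl L79265 rfl
theorem L79267 : sm gg N694 = N2886 := trfs L79260 (flp_g L28893) rfl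
theorem L79268 : N2886 = N1130 := eqes L79267 (flp_g L73452)
theorem L79269 : N2886 = N1130 := eqc rfl L79268 rfl
theorem L79271 : sm gb N1130 = N5960 := trfs L79269 (flp_b L28871) rfl
theorem L79272 : N5960 = N2321 := eqes L79271 L11222
theorem L79273 : N5960 = N2321 := eqc rfl L79272 rfl
theorem L79298 : sm gd N2321 = N2885 := trfs L79273 (flp_d L28869) rfl
theorem L79299 : N2885 = N4815 := eqes L79298 (flp_d L23269)
theorem L79300 : N4815 = N2885 := (eqc rfl L79299 rfl).symm
theorem L79302 : sm gd N2885 = N2321 := trfs L79300 L23269 rfl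
theorem L79312 : sm ge N1397 = N4829 := trfs L79266 (flp_e L28907) L73529
theorem L79313 : N4829 = N2881 := eqes L79312 L13916
theorem L79314 : N4829 = N2881 := eqc rfl L79313 rfl
theorem L79317 : sm gg N1397 = N1400 := trfs L79266 (flp_g L13950) rfl
theorem L79319 : sm gc N2881 = N2328 := trfs L79314 L23331 rfl
theorem L79320 : N2328 = N5951 := eqes L79319 (flp_c L28825)
theorem L79321 : N5951 = N2328 := (eqc rfl L79320 rfl).symm
theorem L79322 : N2327 = N1397 := L72740.trans L73435
theorem L79327 : sm ga N2328 = N2887 := trfs L79321 L28823 rfl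
theorem L79328 : N2887 = N4814 := eqes L79327 (flp_a L23261)
theorem L79329 : N4814 = N2887 := (eqc rfl L79328 rfl).symm
theorem L79330 : sm gc N2328 = N2881 := trfs L79321 L28825 rfl
theorem L79335 : sm gd N2887 = N9743 := trfs L79329 (flp_d L47334) rfl
theorem L79336 : N9743 = N5966 := eqes L79335 L28901
theorem L79337 : N9743 = N5966 := eqc rfl L79336 rfl
theorem L79339 : sm gf N2887 = N2319 := trfs L79329 (flp_f L23259) rfl
theorem L79340 : N2319 = N5920 := eqes L79339 (flp_f L28703)
theorem L79341 : N5920 = N2319 := (eqc rfl L79340 rfl).symm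
theorem L79345 : sm gc N2319 = N2867 := trfs L79341 L28701 rfl
theorem L79346 : N2867 = N4812 := eqes L79345 (flp_c L23247)
theorem L79347 : N4812 = N2867 := (eqc rfl L79346 rfl).symm
theorem L79349 : sm gf N2319 = N2887 := trfs L79341 L28703 rfl
theorem L79362 : sm gc N2867 = N2319 := trfs L79347 L23247 rfl
theorem L79364 : N2318 = N1390 := L72699.trans L73484
theorem L79368 : sm ga N5966 = N4727 := trfs L79337 L47332 rfl
theorem L79370 : sm ge N5966 = N4719 := trfs L79337 L47336 rfl
theorem L79372 : sm gf N5966 = N4718 := trfs L79337 (flp_f L47330) rfl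
theorem L79374 : sm gg N5966 = N5754 := trfs L79337 (flp_g L77887) rfl
theorem L79410 : sm gd N131 = N4593 := trfs L79241 (flp_d L46117) rfl
theorem L79411 : N4593 = N264 := eqes L79410 (flp_d L1364)
theorem L79412 : N4593 = N264 := eqc rfl L79411 rfl
theorem L79423 : sm gf N264 = N9492 := trfs L79412 L46121 rfl
theorem L79424 : N9492 = N520 := eqes L79423 L2660
theorem L79425 : N9492 = N520 := eqc rfl L79424 rfl
theorem L79427 : sm gc N520 = N4602 := trfs L79425 L46123 rfl
theorem L79428 : N4602 = N520 := eqes L79427 L2664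
theorem L79429 : N4602 = N520 := eqc rfl L79428 rfl
theorem L79443 : sm gg N520 = N9512 := trfs L79429 L46205 rfl
theorem L79444 : N9512 = N507 := eqes L79443 L2667
theorem L79445 : N9512 = N507 := eqc rfl L79444 rfl
theorem L79449 : sm gf N507 = N9506 := trfs L79445 (flp_f L46207) rfl
theorem L79450 : N9506 = N258 := eqes L79449 (flp_f L2591)
theorem L79451 : N9506 = N258 := eqc rfl L79450 rfl
theorem L79455 : sm gg N258 = N4600 := trfs L79451 (flp_g L46179) rfl
theorem L79456 : N4600 = N508 := eqes L79455 L2598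
theorem L79457 : N4600 = N508 := eqc rfl L79456 rfl
theorem L79463 : sm gd N508 = N9504 := trfs L79457 L46171 rfl
theorem L79464 : N9504 = N261 := eqes L79463 L2603
theorem L79465 : N9504 = N261 := eqc rfl L79464 rfl
theorem L79471 : sm ga N261 = N4601 := trfs L79465 L46173 rfl
theorem L79472 : N4601 = N131 := eqes L79471 L1349
theorem L79473 : N4601 = N131 := eqc rfl L79472 rfl
theorem L79474 : sm gb N131 = N2214 := trfs L79473 L22217 rfl
theorem L79475 : N2214 = N270 := eqes L79474 L1386
theorem L79476 : N2214 = N270 := eqc rfl L79475 rfl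
theorem L79488 : N1084 = N348 := L72696.trans L73172
theorem L79494 : sm gf N270 = N4605 := trfs L79476 L22227 rfl
theorem L79495 : N4605 = N534 := eqes L79494 L2725
theorem L79496 : N4605 = N349 := eqc rfl L79495 L73346
theorem L79504 : N2215 = N641 := L73107.trans L73181
theorem L79508 : sm gg N349 = N4364 := trfs L79496 (flp_g L22233) rfl
theorem L79509 : N4364 = N695 := eqes L79508 L3481
theorem L79510 : N4364 = N566 := eqc rfl L79509 L73327
theorem L79512 : sm gb N566 = N9033 := trfs L79510 L43889 rfl
theorem L79513 : N9033 = N1052 := eqes L79512 L70553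
theorem L79514 : N9033 = N1052 := eqc rfl L79513 rfl
theorem L79519 : sm gd N1052 = N4365 := trfs L79514 L43891 rfl
theorem L79520 : N4365 = N2089 := eqes L79519 (flp_d L10088)
theorem L79521 : N4365 = N2089 := eqc rfl L79520 rfl
theorem L79525 : sm gc N2089 = N9035 := trfs L79521 L43897 rfl
theorem L79526 : N9035 = N4353 := eqes L79525 L20986
theorem L79527 : N9035 = N4353 := eqc rfl L79526 rfl
theorem L79532 : sm gg N2089 = N9036 := trfs L79521 L43902 rfl
theorem L79533 : N9036 = N2595 := eqes L79532 L70504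
theorem L79534 : N9036 = N2593 := eqc rfl L79533 L75092
theorem L79535 : sm gb N2593 = N9518 := trfs L79534 (flp_b L46235) rfl
theorem L79536 : N9518 = N2636 := eqes L79535 (flp_b L12749)
theorem L79537 : N9518 = N2636 := eqc rfl L79536 rfl
theorem L79538 : sm gg N2636 = N4606 := trfs L79537 (flp_g L46233) rfl
theorem L79539 : N4606 = N1279 := eqes L79538 L70459
theorem L79540 : N4606 = N1279 := eqc rfl L79539 rfl
theorem L79545 : sm gc N1279 = N9013 := trfs L79540 (flp_c L70449) rfl
theorem L79546 : N9013 = N2637 := eqes L79545 L12751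
theorem L79547 : N9013 = N2637 := eqc rfl L79546 rfl
theorem L79554 : N4554 = N1242 := L73035.trans L73260
theorem L79556 : sm gb N2637 = N4353 := trfs L79547 (flp_b L43805) rfl
theorem L79557 : N4353 = N5471 := eqes L79556 L26556
theorem L79558 : N5471 = N4353 := (eqc rfl L79557 rfl).symm
theorem L79559 : sm gb N4353 = N2637 := trfs L79558 (flp_b L26556) rfl
theorem L79561 : sm gc N4353 = N2640 := trfs L79558 L26558 rfl
theorem L79562 : N2640 = N2089 := eqes L79561 (flp_c L20986)
theorem L79563 : N2640 = N2089 := eqc rfl L79562 rfl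
theorem L79567 : sm gb N2089 = N1280 := trfs L79563 (flp_b L12763) rfl
theorem L79568 : N1280 = N1083 := eqes L79567 (flp_b L70532)
theorem L79569 : N1280 = N1083 := eqc rfl L79568 rfl
theorem L79589 : sm gf N1083 = N2633 := trfs L79569 (flp_f L12735) rfl
theorem L79590 : N2633 = N544 := eqes L79589 (flp_f L5370)
theorem L79591 : N2633 = N544 := eqc rfl L79590 rfl
theorem L79639 : sm gg N544 = N2648 := trfs L79591 (flp_g L12807) rfl
theorem L79640 : N2648 = N545 := eqes L79639 L73140
theorem L79641 : N2648 = N545 := eqc rfl L79640 rfl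
theorem L79644 : sm gb N545 = N5491 := trfs L79641 L26642 rfl
theorem L79645 : N5491 = N324 := eqes L79644 L2777
theorem L79646 : N5491 = N324 := eqc rfl L79645 rfl
theorem L79654 : sm gc N324 = N5412 := trfs L79646 L51561 rfl
theorem L79655 : N5412 = N161 := eqes L79654 (flp_c L1658)
theorem L79656 : N5412 = N161 := eqc rfl L79655 rfl
theorem L79657 : sm gf N324 = N161 := trfs L79646 (flp_f L72170) L79656
theorem L79658 : N161 = N639 := eqes L79657 L3248
theorem L79659 : N639 = N161 := (eqc rfl L79658 rfl).symm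
theorem L79666 : sm ge N161 = N1240 := trfs L79659 (flp_e L6116) rfl
theorem L79667 : N1240 = N317 := eqes L79666 (flp_e L1624)
theorem L79668 : N1240 = N317 := eqc rfl L79667 rfl
theorem L79675 : sm gc N317 = N624 := trfs L79668 L6114 rfl
theorem L79676 : N624 = N623 := eqes L79675 L3173
theorem L79677 : N624 = N623 := eqc rfl L79676 rfl
theorem L79678 : sm gd N317 = N2553 := trfs L79668 (flp_d L12363) rfl
theorem L79679 : N2553 = N616 := eqes L79678 (flp_d L3135)
theorem L79680 : N2553 = N616 := eqc rfl L79679 rfl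
theorem L79694 : sm gf N616 = N1239 := trfs L79680 (flp_f L12361) rfl
theorem L79695 : N1239 = N1225 := eqes L79694 L6030
theorem L79696 : N1239 = N1225 := eqc rfl L79695 rfl
theorem L79703 : sm gc N1225 = N2551 := trfs L79696 L12353 rfl
theorem L79704 : N2551 = N2517 := eqes L79703 (flp_c L12177)
theorem L79705 : N2551 = N2517 := eqc rfl L79704 rfl
theorem L79711 : sm ga N2517 = N5297 := trfs L79705 (flp_a L25718) rfl
theorem L79712 : N5297 = N2517 := eqes L79711 L76172
theorem L79713 : N5297 = N2517 := eqc rfl L79712 rfl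
theorem L79714 : sm gb N2517 = N5304 := trfs L79705 L25756 rfl
theorem L79715 : N5304 = N5225 := eqes L79714 L25316
theorem L79716 : N5304 = N5225 := eqc rfl L79715 rfl
theorem L79717 : sm gd N2517 = N5305 := trfs L79705 L25758 rfl
theorem L79718 : N5305 = N5224 := eqes L79717 (flp_d L25314)
theorem L79719 : N5305 = N5224 := eqc rfl L79718 rfl
theorem L79728 : sm ga N5224 = N5222 := trfs L79719 L25760 rfl
theorem L79730 : sm gc N5224 = N2516 := trfs L79719 (flp_c L25763) L76187
theorem L79732 : N5224 = N5222 := eqes (flp_c L79730) L25304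
theorem L79733 : N5224 = N5222 := eqc rfl L79732 rfl
theorem L79736 : sm ga N5222 = N5222 := trfs L79733 L79728 rfl
theorem L79739 : sm gf N5222 = N2516 := trfs L79733 (flp_f L25312) rfl
theorem L79741 : sm gc N5225 = N9421 := trfs L79716 (flp_c L45799) rfl
theorem L79744 : sm gd N2517 = N5222 := trfs L79713 (flp_d L25721) rfl
theorem L80041 : N4558 = N1226 := L73032.trans L73278
theorem L80048 : sm gd N623 = N1225 := trfs L79677 (flp_d L6032) rfl
theorem L80051 : sm gf N623 = N317 := trfs L79677 (flp_f L3178) rfl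
theorem L80067 : sm gb N4353 = N4367 := trfs L79527 L43900 rfl
theorem L80068 : N4367 = N2637 := eqes L80067 L79559
theorem L80069 : N4367 = N2637 := eqc rfl L80068 rfl
theorem L80076 : sm ge N2637 = N8985 := trfs L80069 (flp_e L43673) rfl
theorem L80077 : N8985 = N5318 := eqes L80076 (flp_e L25830)
theorem L80078 : N8985 = N5318 := eqc rfl L80077 rfl
theorem L80079 : sm gf N2637 = N2098 := trfs L80069 L21054 rfl
theorem L80080 : N2098 = N5473 := eqes L80079 L26562
theorem L80081 : N5473 = N2098 := (eqc rfl L80080 rfl).symm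
theorem L80085 : sm gf N2098 = N2637 := trfs L80081 (flp_f L26562) rfl
theorem L80089 : sm gf N5318 = N4338 := trfs L80078 L43675 rfl
theorem L80197 : sm gb N34 = N1254 := trfs L76387 L68728 rfl
theorem L80198 : N1254 = N78 := eqes L80197 L377
theorem L80199 : N1254 = N78 := eqc rfl L80198 rfl
theorem L80206 : sm gd N78 = N630 := trfs L80199 L6181 rfl
theorem L80207 : N630 = N159 := eqes L80206 (flp_d L797)
theorem L80208 : N630 = N159 := eqc rfl L80207 rfl
theorem L80213 : sm gg N78 = N629 := trfs L80199 (flp_g L6179) rfl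
theorem L80214 : N629 = N171 := eqes L80213 L865
theorem L80215 : N629 = N171 := eqc rfl L80214 rfl
theorem L80221 : sm gd N171 = N320 := trfs L80215 (flp_d L3203) rfl
theorem L80222 : N320 = N321 := eqes L80221 (flp_d L1647)
theorem L80223 : N321 = N320 := (eqc rfl L80222 rfl).symm
theorem L80237 : sm gd N320 = N171 := trfs L80223 L1647 rfl
theorem L80271 : sm gg N159 = N320 := trfs L80208 (flp_g L3206) rfl
theorem L80314 : sm gg N315 = N619 := trfs L76308 (flp_g L6064) rfl
theorem L80317 : sm gc N614 = N5259 := trfs L76299 (flp_c L25517) rfl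
theorem L80318 : N5259 = N1220 := eqes L80317 L6001
theorem L80319 : N5259 = N1220 := eqc rfl L80318 rfl
theorem L80325 : sm gg N1220 = N2530 := trfs L80319 (flp_g L25515) rfl
theorem L80326 : N2530 = N2508 := eqes L80325 L12117
theorem L80327 : N2530 = N2508 := eqc rfl L80326 rfl
theorem L80329 : sm gb N2508 = N5256 := trfs L80327 L25501 rfl
theorem L80330 : N5256 = N5204 := eqes L80329 L25192
theorem L80331 : N5256 = N5204 := eqc rfl L80330 rfl
theorem L80333 : sm gd N2508 = N5201 := trfs L80327 (flp_d L50637) rfl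
theorem L80334 : N5201 = N5203 := eqes L80333 (flp_d L25190)
theorem L80335 : N5203 = N5201 := (eqc rfl L80334 rfl).symm
theorem L80344 : sm gd N5201 = N2508 := trfs L80335 L25190 rfl
theorem L80347 : sm gg N5201 = N2507 := trfs L80335 (flp_g L25188) rfl
theorem L80349 : sm gc N5204 = N9390 := trfs L80331 (flp_c L45623) rfl
theorem L80366 : sm gb N333 = N2247 := trfs L76246 (flp_b L70621) rfl
theorem L80367 : N2247 = N658 := eqes L80366 L3329
theorem L80368 : N2247 = N658 := eqc rfl L80367 rfl
theorem L80371 : sm gc N658 = N4672 := trfs L80368 (flp_c L22525) rfl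
theorem L80372 : N4672 = N1316 := eqes L80371 L6450
theorem L80373 : N4672 = N1316 := eqc rfl L80372 rfl
theorem L80376 : sm gf N658 = N2116 := trfs L80368 (flp_f L10857) rfl
theorem L80377 : N2116 = N1314 := eqes L80376 (flp_f L6444)
theorem L80378 : N2116 = N1314 := eqc rfl L80377 rfl
theorem L80384 : sm gc N1314 = N4412 := trfs L80378 L21259 rfl
theorem L80385 : N4412 = N2716 := eqes L80384 L13080
theorem L80386 : N4412 = N2716 := eqc rfl L80385 rfl
theorem L80392 : sm ga N2716 = N2117 := trfs L80386 L21261 rfl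
theorem L80393 : N2117 = N5640 := eqes L80392 (flp_a L27245)
theorem L80394 : N5640 = N2117 := (eqc rfl L80393 rfl).symm
theorem L80398 : sm gd N2716 = N9134 := trfs L80386 L44331 rfl
theorem L80399 : N9134 = N5641 := eqes L80398 L27249
theorem L80400 : N9134 = N5641 := eqc rfl L80399 rfl
theorem L80405 : sm gg N2716 = N2243 := trfs L80386 L21263 rfl
theorem L80406 : N2243 = N4661 := eqes L80405 L51464
theorem L80407 : N4661 = N2243 := (eqc rfl L80406 rfl).symm
theorem L80408 : sm ga N2243 = N5655 := trfs L80407 L51454 rfl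
theorem L80409 : N5655 = N1096 := eqes L80408 L10835
theorem L80410 : N5655 = N1096 := eqc rfl L80409 rfl
theorem L80411 : sm gb N2243 = N9632 := trfs L80407 L46733 rfl
theorem L80412 : N9632 = N4664 := eqes L80411 L22493
theorem L80413 : N9632 = N4664 := eqc rfl L80412 rfl
theorem L80422 : sm gg N2243 = N2716 := trfs L80407 (flp_g L51464) rfl
theorem L80429 : sm gc N4664 = N4664 := trfs L80413 L46735 rfl
theorem L80431 : sm gf N1096 = N2722 := trfs L80410 (flp_f L27309) rfl
theorem L80432 : N2722 = N2246 := eqes L80431 L10847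
theorem L80433 : N2722 = N2246 := eqc rfl L80432 rfl
theorem L80436 : sm gb N2246 = N5654 := trfs L80433 L27305 rfl
theorem L80437 : N5654 = N4671 := eqes L80436 L22519
theorem L80438 : N5654 = N4671 := eqc rfl L80437 rfl
theorem L80440 : sm gd N2246 = N5653 := trfs L80433 (flp_d L27303) rfl
theorem L80441 : N5653 = N4670 := eqes L80440 (flp_d L22517)
theorem L80442 : N5653 = N4670 := eqc rfl L80441 rfl
theorem L80443 : sm ge N2246 = N5233 := trfs L80433 (flp_e L25368) rfl
theorem L80444 : N5233 = N4532 := eqes L80443 (flp_e L21871)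
theorem L80445 : N5233 = N4532 := eqc rfl L80444 rfl
theorem L80449 : sm gg N4532 = N2520 := trfs L80445 (flp_g L25364) rfl
theorem L80450 : N2520 = N9369 := eqes L80449 L45493
theorem L80451 : N9369 = N2520 := (eqc rfl L80450 rfl).symm
theorem L80456 : sm gg N2520 = N4532 := trfs L80451 (flp_g L45493) rfl
theorem L80458 : sm gg N4670 = N2721 := trfs L80442 (flp_g L27301) rfl
theorem L80459 : N2721 = N9653 := eqes L80458 L46825
theorem L80460 : N9653 = N2721 := (eqc rfl L80459 rfl).symm
theorem L80461 : sm ga N2721 = N9137 := trfs L80460 L46827 rfl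
theorem L80462 : N9137 = N5648 := eqes L80461 (flp_a L27279)
theorem L80463 : N9137 = N5648 := eqc rfl L80462 rfl
theorem L80466 : sm gg N2721 = N4670 := trfs L80460 (flp_g L46825) rfl
theorem L80471 : sm gf N5648 = N4413 := trfs L80463 (flp_f L44345) rfl
theorem L80473 : sm gg N5648 = N9644 := trfs L80463 L46793 rfl
theorem L80485 : sm gc N4671 = N4657 := trfs L80438 L27307 rfl
theorem L80486 : N4657 = N5611 := eqes L80485 (flp_c L27115)
theorem L80487 : N5611 = N4657 := (eqc rfl L80486 rfl).symm
theorem L80488 : sm gb N4657 = N2702 := trfs L80487 (flp_b L27113) rfl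
theorem L80489 : N2702 = N2240 := eqes L80488 (flp_b L22463)
theorem L80490 : N2702 = N2240 := eqc rfl L80489 rfl
theorem L80491 : sm gc N4657 = N4671 := trfs L80487 L27115 rfl
theorem L80495 : sm gd N2240 = N5610 := trfs L80490 (flp_d L27111) rfl
theorem L80496 : N5610 = N4656 := eqes L80495 (flp_d L22461)
theorem L80497 : N5610 = N4656 := eqc rfl L80496 rfl
theorem L80499 : sm gf N2240 = N1307 := trfs L80490 (flp_f L13017) rfl
theorem L80500 : N1307 = N4658 := eqes L80499 L22465
theorem L80501 : N4658 = N1307 := (eqc rfl L80500 rfl).symm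
theorem L80520 : sm gd N1307 = N9624 := trfs L80501 (flp_d L46701) rfl
theorem L80521 : N9624 = N2701 := eqes L80520 L13015
theorem L80522 : N9624 = N2701 := eqc rfl L80521 rfl
theorem L80524 : sm gf N1307 = N2240 := trfs L80501 (flp_f L22465) rfl
theorem L80527 : sm ga N2701 = N9120 := trfs L80522 L46699 rfl
theorem L80528 : N9120 = N5605 := eqes L80527 (flp_a L27087)
theorem L80529 : N9120 = N5605 := eqc rfl L80528 rfl
theorem L80532 : sm gg N2701 = N9117 := trfs L80522 L46703 rfl
theorem L80533 : N9117 = N5598 := eqes L80532 (flp_g L27061)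
theorem L80534 : N9117 = N5598 := eqc rfl L80533 rfl
theorem L80535 : sm ga N5598 = N4405 := trfs L80534 L44254 rfl
theorem L80537 : sm gc N5598 = N9150 := trfs L80534 L44420 rfl
theorem L80540 : sm gf N5598 = N4651 := trfs L80534 L44256 rfl
theorem L80543 : sm gf N5605 = N9615 := trfs L80529 (flp_f L46665) rfl
theorem L80545 : sm gg N5605 = N4405 := trfs L80529 (flp_g L44266) rfl
theorem L80547 : sm gf N4656 = N2701 := trfs L80497 (flp_f L27109) rfl
theorem L80555 : sm ga N5641 = N4413 := trfs L80400 L44333 rfl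
theorem L80557 : sm gc N5641 = N9180 := trfs L80400 L44581 rfl
theorem L80559 : sm gg N5641 = N4665 := trfs L80400 L44335 rfl
theorem L80565 : sm ga N2117 = N2716 := trfs L80394 L27245 rfl
theorem L80568 : sm gf N2117 = N2719 := trfs L80394 L27247 rfl
theorem L80573 : sm gg N1316 = N2246 := trfs L80373 (flp_g L22521) rfl
theorem L80613 : sm ga N2516 = N2516 := trfs L76187 L25285 rfl
theorem L80615 : sm ga N1313 = N1313 := trfs L76175 L13055 rfl
theorem L80617 : sm gg N1313 = N1313 := trfs L76175 L13059 rfl
theorem L80621 : sm gb N2192 = N1225 := trfs L76165 (flp_b L12181) rfl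
theorem L80623 : sm gc N2192 = N5227 := trfs L76165 L25328 rfl
theorem L80624 : N5227 = N4556 := eqes L80623 L21995
theorem L80625 : N5227 = N4556 := eqc rfl L80624 rfl
theorem L80627 : sm ge N2192 = N1314 := trfs L76165 L12185 rfl
theorem L80638 : N9423 = N2716 := L72989.trans L80386
theorem L80639 : sm gf N4556 = N2520 := trfs L80625 L25332 rfl
theorem L80640 : N2520 = N9424 := eqes L80639 L45811
theorem L80641 : N9424 = N2520 := (eqc rfl L80640 rfl).symm
theorem L80645 : sm gf N2520 = N4556 := trfs L80641 (flp_f L45811) rfl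
theorem L80648 : sm ga N616 = N616 := trfs L76145 (flp_a L6018) rfl
theorem L80650 : sm ga N623 = N623 := trfs L76142 L6096 rfl
theorem L80655 : sm ga N324 = N324 := trfs L76129 L3234 rfl
theorem L80660 : sm ga N657 = N657 := trfs L76098 L6427 rfl
theorem L80661 : sm gg N657 = N657 := trfs L76098 L6431 rfl
theorem L80663 : sm ga N168 = N168 := trfs L76083 (flp_a L1719) rfl
theorem L80754 : sm gb N1116 = N5853 := trfs L75782 (flp_b L28405) rfl
theorem L80755 : N5853 = N2291 := eqes L80754 L11076
theorem L80756 : N5853 = N2291 := eqc rfl L80755 rfl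
theorem L80761 : sm gd N2291 = N2830 := trfs L80756 (flp_d L28403) rfl
theorem L80762 : N2830 = N4760 := eqes L80761 (flp_d L23014)
theorem L80763 : N4760 = N2830 := (eqc rfl L80762 rfl).symm
theorem L80764 : sm ga N2830 = N9818 := trfs L80763 L72476 rfl
theorem L80765 : N9818 = N5852 := eqes L80764 L28399
theorem L80766 : N9818 = N5852 := eqc rfl L80765 rfl
theorem L80771 : sm gd N2830 = N2291 := trfs L80763 L23014 rfl
theorem L80776 : sm gf N2830 = N9820 := trfs L80763 L72484 rfl
theorem L80777 : N9820 = N5855 := eqes L80776 L28413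
theorem L80778 : N9820 = N5855 := eqc rfl L80777 rfl
theorem L80779 : sm gg N2830 = N9814 := trfs L80763 (flp_g L72459) rfl
theorem L80780 : N9814 = N5856 := eqes L80779 L28417
theorem L80781 : N9814 = N5856 := eqc rfl L80780 rfl
theorem L80784 : sm gd N5856 = N4755 := trfs L80781 L72457 rfl
theorem L80786 : sm ga N5855 = N9288 := trfs L80778 (flp_a L78403) rfl
theorem L80788 : sm gb N5855 = N5839 := trfs L80778 L72488 L74005
theorem L80800 : sm gd N5852 = N4761 := trfs L80766 L72478 rfl
theorem L80802 : sm gf N5852 = N9288 := trfs L80766 (flp_f L78408) rfl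
theorem L80822 : sm gf N2832 = N2826 := trfs L75612 (flp_f L28365) rfl
theorem L80832 : sm gf N2749 = N4696 := trfs L75605 (flp_f L47095) rfl
theorem L80836 : sm gd N2832 = N9683 := trfs L75602 (flp_d L46997) rfl
theorem L80837 : N9683 = N5859 := eqes L80836 L28435
theorem L80838 : N9683 = N5859 := eqc rfl L80837 rfl
theorem L80843 : sm ga N5859 = N4696 := trfs L80838 L46995 rfl
theorem L80845 : sm ge N5859 = N4688 := trfs L80838 L46999 rfl
theorem L80847 : sm gf N5859 = N5699 := trfs L80838 (flp_f L75722) rfl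
theorem L80849 : sm gg N5859 = N4687 := trfs L80838 (flp_g L46993) rfl
theorem L80856 : sm gc N2826 = N2297 := trfs L75596 L69122 rfl
theorem L80859 : sm gg N2826 = N2140 := trfs L75596 (flp_g L21509) rfl
theorem L80864 : sm gd N1370 = N1116 := trfs L75587 L11072 rfl
theorem L80874 : sm ga N2812 = N2140 := trfs L75575 L21484 rfl
theorem L80877 : sm gc N2812 = N2289 := trfs L75575 (flp_c L69100) rfl
theorem L80884 : sm gc N1115 = N1360 := trfs L75571 (flp_c L13592) rfl
theorem L80890 : sm gf N2289 = N2812 := trfs L75561 (flp_f L28235) rfl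
theorem L80902 : sm gf N282 = N342 := trfs L75543 (flp_f L3424) rfl
theorem L80927 : sm gc N2291 = N4496 := trfs L75524 L67648 rfl
theorem L80938 : sm gc N1367 = N1120 := trfs L75512 (flp_c L69635) rfl
theorem L80945 : sm gf N344 = N562 := trfs L75507 (flp_f L5547) rfl
theorem L80948 : sm ga N1049 = N1360 := trfs L75500 L13588 rfl
theorem L80950 : sm gg N1049 = N1367 := trfs L75500 L13590 rfl
theorem L80952 : sm ga N677 = N529 := trfs L75495 L5209 rfl
theorem L80956 : sm gf N677 = N559 := trfs L75495 L5211 rfl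
theorem L80958 : sm ga N2122 = N2738 := trfs L75487 L27492 rfl
theorem L80961 : sm gg N2122 = N2745 := trfs L75487 L27494 rfl
theorem L80966 : sm ga N1324 = N1040 := trfs L75480 L10230 rfl
theorem L80975 : sm gf N1099 = N1324 := trfs L75464 (flp_f L13203) rfl
theorem L80989 : sm gf N172 = N284 := trfs L75432 (flp_f L2859) rfl
theorem L80996 : sm ge N2699 = N8945 := trfs L75396 (flp_e L43442) rfl
theorem L80997 : N8945 = N5209 := eqes L80996 (flp_e L25226)
theorem L80998 : N8945 = N5209 := eqc rfl L80997 rfl
theorem L81001 : sm gg N2699 = N2113 := trfs L75396 (flp_g L21233) rfl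
theorem L81005 : sm gf N5209 = N9349 := trfs L80998 (flp_f L45393) rfl
theorem L81007 : sm gg N5209 = N4317 := trfs L80998 (flp_g L43438) rfl
theorem L81010 : sm gc N2698 = N9123 := trfs L75393 L44278 rfl
theorem L81011 : N9123 = N5601 := eqes L81010 L27071
theorem L81012 : N9123 = N5601 := eqc rfl L81011 rfl
theorem L81013 : sm ge N2698 = N8946 := trfs L75393 (flp_e L43448) rfl
theorem L81014 : N8946 = N5208 := eqes L81013 (flp_e L25220)
theorem L81015 : N8946 = N5208 := eqc rfl L81014 rfl
theorem L81018 : sm gg N2698 = N2115 := trfs L75393 L21241 rfl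
theorem L81019 : N2115 = N4410 := eqes L81018 L70355
theorem L81020 : N4410 = N2115 := (eqc rfl L81019 rfl).symm
theorem L81023 : sm gc N2115 = N9128 := trfs L81020 (flp_c L44304) rfl
theorem L81024 : N9128 = N4409 := eqes L81023 L21247
theorem L81025 : N9128 = N4409 := eqc rfl L81024 rfl
theorem L81027 : sm ge N2115 = N8949 := trfs L81020 (flp_e L43466) rfl
theorem L81028 : N8949 = N4319 := eqes L81027 (flp_e L20807)
theorem L81029 : N8949 = N4319 := eqc rfl L81028 rfl
theorem L81030 : sm gf N2115 = N2115 := trfs L81020 (flp_f L21249) rfl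
theorem L81031 : sm gg N2115 = N2698 := trfs L81020 (flp_g L70355) rfl
theorem L81033 : sm gb N4319 = N8812 := trfs L81029 L43468 rfl
theorem L81034 : N8812 = N2073 := eqes L81033 (flp_b L20803)
theorem L81035 : N8812 = N2073 := eqc rfl L81034 rfl
theorem L81037 : sm gf N4319 = N4319 := trfs L81029 (flp_f L43462) rfl
theorem L81042 : sm gf N2073 = N4242 := trfs L81035 (flp_f L42726) rfl
theorem L81043 : N4242 = N2035 := eqes L81042 (flp_f L9999)
theorem L81044 : N4242 = N2035 := eqc rfl L81043 rfl
theorem L81046 : sm gb N2035 = N2035 := trfs L81044 (flp_b L20407) rfl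
theorem L81047 : sm gc N2035 = N8811 := trfs L81044 L42722 rfl
theorem L81048 : N8811 = N4240 := eqes L81047 (flp_c L20397)
theorem L81049 : N8811 = N4240 := eqc rfl L81048 rfl
theorem L81053 : sm ge N4240 = N4274 := trfs L81049 L42724 rfl
theorem L81054 : N4274 = N2047 := eqes L81053 L20399
theorem L81055 : N4274 = N2047 := eqc rfl L81054 rfl
theorem L81057 : sm gb N2047 = N8863 := trfs L81055 (flp_b L42978) rfl
theorem L81058 : N8863 = N4269 := eqes L81057 L20547
theorem L81059 : N8863 = N4269 := eqc rfl L81058 rfl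
theorem L81072 : sm gc N4269 = N4269 := trfs L81059 (flp_c L42976) rfl
theorem L81073 : sm gf N4409 = N4409 := trfs L81025 (flp_f L44302) rfl
theorem L81078 : sm gg N5208 = N4319 := trfs L81015 L43450 rfl
theorem L81080 : sm gg N5601 = N4409 := trfs L81012 L44280 rfl
theorem L81082 : sm gf N4652 = N2699 := trfs L75384 (flp_f L27089) rfl
theorem L81093 : sm gf N661 = N552 := trfs L75358 L5169 rfl
theorem L81095 : sm ga N2696 = N2113 := trfs L75355 L21225 rfl
theorem L81097 : sm gb N2696 = N9116 := trfs L75355 L44250 rfl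
theorem L81098 : N9116 = N5594 := eqes L81097 (flp_b L27045)
theorem L81099 : N9116 = N5594 := eqc rfl L81098 rfl
theorem L81102 : sm gf N2696 = N2237 := trfs L75355 L21227 rfl
theorem L81104 : sm ge N5594 = N9390 := trfs L81099 L72134 rfl
theorem L81114 : sm ge N4542 = N2696 := trfs L75338 L25206 rfl
theorem L81119 : sm gb N1221 = N2186 := trfs L75335 (flp_b L10559) rfl
theorem L81121 : sm gd N1221 = N619 := trfs L75335 (flp_d L6061) rfl
theorem L81127 : sm gc N621 = N1071 := trfs L75323 L10563 rfl
theorem L81132 : sm gg N621 = N1070 := trfs L75323 (flp_g L10561) rfl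
theorem L81136 : sm gg N2511 = N4542 := trfs L75320 L69701 rfl
theorem L81145 : sm gf N1094 = N654 := trfs L75308 (flp_f L6410) rfl
theorem L81148 : sm gf N4526 = N2511 := trfs L75304 (flp_f L25240) rfl
theorem L81150 : sm gb N4524 = N8955 := trfs L75299 L71013 rfl
theorem L81151 : N8955 = N9350 := eqes L81150 L45395
theorem L81152 : N9350 = N8955 := (eqc rfl L81151 rfl).symm
theorem L81153 : sm gf N4524 = N2510 := trfs L75299 (flp_f L25228) rfl
theorem L81156 : sm gb N8955 = N4524 := trfs L81152 (flp_b L45395) rfl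
theorem L81163 : sm gg N2072 = N2510 := trfs L75293 L25202 rfl
theorem L81184 : sm ga N268 = N342 := trfs L75246 (flp_a L3415) rfl
theorem L81194 : sm gd N542 = N342 := trfs L75239 L3212 rfl
theorem L81199 : sm gc N1233 = N2185 := trfs L75231 (flp_c L69770) rfl
theorem L81201 : sm gf N1233 = N2185 := trfs L75231 (flp_f L10555) rfl
theorem L81203 : sm gg N1233 = N1019 := trfs L75231 (flp_g L10032) rfl
theorem L81208 : sm gg N343 = N268 := trfs L75228 (flp_g L2713) rfl
theorem L81210 : sm gc N1077 = N632 := trfs L75225 (flp_c L6203) rfl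
theorem L81212 : sm gc N322 = N543 := trfs L75222 L5352 rfl
theorem L81216 : sm gg N322 = N542 := trfs L75222 (flp_g L5350) rfl
theorem L81218 : sm gb N4370 = N2594 := trfs L75176 (flp_b L26187) rfl
theorem L81221 : sm gf N2090 = N2090 := trfs L75161 (flp_f L20993) rfl
theorem L81222 : sm gg N2090 = N2594 := trfs L75161 L70475 rfl
theorem L81227 : sm gf N1026 = N1026 := trfs L75131 (flp_f L10093) rfl
theorem L81228 : sm gg N1026 = N1259 := trfs L75131 (flp_g L70484) rfl
theorem L81231 : sm gf N2079 = N2079 := trfs L75121 (flp_f L20873) rfl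
theorem L81234 : sm gf N2537 = N5269 := trfs L75112 (flp_f L70486) rfl
theorem L81236 : sm gg N2537 = N2079 := trfs L75112 L20862 rfl
theorem L81240 : sm gf N2593 = N1259 := trfs L75092 (flp_f L12559) rfl
theorem L81242 : sm gg N2593 = N2089 := trfs L75092 (flp_g L70504) rfl
theorem L81249 : sm gb N4337 = N2185 := trfs L75082 (flp_b L21919) rfl
theorem L81251 : sm gc N4337 = N9389 := trfs L75082 L45617 rfl
theorem L81252 : N9389 = N8988 := eqes L81251 L43691
theorem L81253 : N9389 = N8988 := eqc rfl L81252 rfl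
theorem L81254 : sm gf N4337 = N5317 := trfs L75082 L70776 rfl
theorem L81257 : sm gb N8988 = N5270 := trfs L81253 (flp_b L75190) rfl
theorem L81264 : sm gf N4370 = N5469 := trfs L75079 (flp_f L68033) rfl
theorem L81271 : sm gb N1077 = N2097 := trfs L75076 L68431 rfl
theorem L81274 : sm gf N1077 = N632 := trfs L75076 (flp_f L6207) rfl
theorem L81277 : sm gf N2165 = N2870 := trfs L75066 L59702 rfl
theorem L81280 : sm gb N560 = N1060 := trfs L75063 (flp_b L68435) rfl
theorem L81283 : sm gf N560 = N343 := trfs L75063 (flp_f L3432) rfl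
theorem L81292 : sm gb N1100 = N2133 := trfs L75049 (flp_b L68444) rfl
theorem L81294 : sm gf N1100 = N662 := trfs L75049 (flp_f L6507) rfl
theorem L81296 : sm gf N1392 = N1060 := trfs L75041 L10421 rfl
theorem L81299 : sm gf N5743 = N4447 := trfs L75038 L44625 rfl
theorem L81306 : sm gf N2740 = N1326 := trfs L75035 (flp_f L13217) rfl
theorem L81316 : sm gf N5600 = N2698 := trfs L75026 (flp_f L27073) rfl
theorem L81325 : sm gb N4416 = N2238 := trfs L75002 (flp_b L22451) rfl
theorem L81330 : sm gf N4416 = N5643 := trfs L75002 (flp_f L59676) rfl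
theorem L81340 : sm ga N1035 = N1305 := trfs L74967 (flp_a L12985) rfl
theorem L81343 : sm gg N1035 = N1306 := trfs L74967 L12989 rfl
theorem L81347 : sm ga N524 = N661 := trfs L74955 (flp_a L6480) rfl
theorem L81349 : sm gg N524 = N662 := trfs L74955 L6484 rfl
theorem L81352 : sm gb N1007 = N1007 := trfs L74937 (flp_b L9889) rfl
theorem L81354 : sm gb N508 = N508 := trfs L74927 (flp_b L5003) rfl
theorem L81370 : sm gg N257 = N257 := trfs L74911 (flp_g L2583) rfl
theorem L81381 : sm gf N535 = N693 := trfs L74889 (flp_f L6792) rfl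
theorem L81388 : sm gf N1030 = N1279 := trfs L74877 (flp_f L12753) rfl
theorem L81405 : sm gg N991 = N991 := trfs L74845 (flp_g L9735) rfl
theorem L81410 : sm gb N1002 = N1002 := trfs L74827 (flp_b L9839) rfl
theorem L81440 : sm ga N3683 = N1856 := trfs L74721 L18549 rfl
theorem L81444 : sm gf N3683 = N1854 := trfs L74721 (flp_f L18547) rfl
theorem L81446 : sm gg N3683 = N3686 := trfs L74721 (flp_g L18553) rfl
theorem L81489 : sm gg N1858 = N1760 := trfs L74547 (flp_g L17509) rfl
theorem L81491 : sm ga N3687 = N1852 := trfs L74538 L18495 rfl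
theorem L81493 : sm gc N3687 = N3682 := trfs L74538 (flp_c L69484) rfl
theorem L81498 : sm gg N3687 = N1850 := trfs L74538 (flp_g L18493) rfl
theorem L81503 : sm gc N1782 = N1787 := trfs L74534 (flp_c L17794) rfl
theorem L81515 : sm gb N3682 = N3686 := trfs L74523 (flp_b L36967) rfl
theorem L81517 : sm gf N3682 = N3687 := trfs L74523 L36971 rfl
theorem L81519 : sm gb N1862 = N1875 := trfs L74514 (flp_b L18757) rfl
theorem L81531 : sm ga N920 = N1787 := trfs L74471 (flp_a L17790) rfl
theorem L81533 : sm ga N945 = N1818 := trfs L74468 L18111 rfl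
theorem L81537 : sm gf N946 = N1926 := trfs L74465 (flp_f L9361) rfl
theorem L81539 : sm ga N901 = N477 := trfs L74462 L4689 rfl
theorem L81546 : sm ga N1897 = N3737 := trfs L74454 L37532 rfl
theorem L81549 : sm gf N1898 = N3958 := trfs L74451 (flp_f L19055) rfl
theorem L81552 : sm gb N947 = N958 := trfs L74443 (flp_b L9421) rfl
theorem L81556 : sm gb N1910 = N1899 := trfs L74436 (flp_b L19015) rfl
theorem L81569 : sm gg N475 = N901 := trfs L74417 (flp_g L8811) rfl
theorem L81572 : sm gg N1894 = N3737 := trfs L74414 (flp_g L37548) rfl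
theorem L81578 : sm gg N1893 = N1765 := trfs L74411 (flp_g L17563) rfl
theorem L81582 : sm gg N3925 = N3654 := trfs L74400 (flp_g L36620) rfl
theorem L81584 : sm ga N7678 = N3838 := trfs L74392 L38790 rfl
theorem L81586 : sm gf N7678 = N7673 := trfs L74392 L38796 rfl
theorem L81588 : sm gg N7678 = N3836 := trfs L74392 (flp_g L38788) rfl
theorem L81590 : sm ga N1803 = N935 := trfs L74389 L9171 rfl
theorem L81594 : sm gg N1803 = N933 := trfs L74389 (flp_g L9169) rfl
theorem L81596 : sm ga N7773 = N3929 := trfs L74386 L39719 rfl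
theorem L81598 : sm gf N7773 = N7762 := trfs L74386 L39723 rfl
theorem L81600 : sm gg N7773 = N3926 := trfs L74386 (flp_g L39717) rfl
theorem L81603 : sm ga N1887 = N3722 := trfs L74380 (flp_a L37325) rfl
theorem L81610 : sm gf N1798 = N1803 := trfs L74374 L17958 rfl
theorem L81612 : sm gb N3931 = N3942 := trfs L74369 (flp_b L39863) rfl
theorem L81615 : sm gf N1889 = N3718 := trfs L74357 (flp_f L37295) rfl
theorem L81617 : sm ga N7674 = N3842 := trfs L74354 L38856 rfl
theorem L81619 : sm gf N7674 = N3840 := trfs L74354 (flp_f L38854) rfl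
theorem L81621 : sm gg N7674 = N7677 := trfs L74354 (flp_g L38862) rfl
theorem L81623 : sm ga N7765 = N3939 := trfs L74351 L39817 rfl
theorem L81625 : sm gf N7765 = N3936 := trfs L74351 (flp_f L39815) rfl
theorem L81627 : sm gg N7765 = N7770 := trfs L74351 (flp_g L39821) rfl
theorem L81630 : sm ga N1891 = N3718 := trfs L74345 (flp_a L37289) rfl
theorem L81634 : sm ga N939 = N1799 := trfs L74331 (flp_a L17914) rfl
theorem L81639 : sm ga N1783 = N924 := trfs L74321 L9067 rfl
theorem L81641 : sm gf N1783 = N922 := trfs L74321 (flp_f L9065) rfl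
theorem L81645 : sm gb N1802 = N1798 := trfs L74309 (flp_b L17908) rfl
theorem L81651 : sm gg N1802 = N1799 := trfs L74309 L17912 rfl
theorem L81659 : sm gb N1786 = N1782 := trfs L74306 (flp_b L17748) rfl
theorem L81660 : N1782 = N8152 := eqes L81659 L78889
theorem L81661 : N8152 = N1782 := (eqc rfl L81660 rfl).symm
theorem L81663 : sm gg N1786 = N1783 := trfs L74306 L17752 rfl
theorem L81665 : sm gb N1782 = N1786 := trfs L81661 (flp_b L78889) rfl
theorem L81667 : sm gb N896 = N900 := trfs L74302 (flp_b L8801) rfl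
theorem L81669 : sm gf N896 = N901 := trfs L74302 L8803 rfl
theorem L81680 : sm gf N479 = N897 := trfs L74271 (flp_f L8779) rfl
theorem L81686 : sm ga N1946 = N3755 := trfs L74254 L37719 rfl
theorem L81687 : N3755 = N4058 := eqes L81686 (flp_a L19447)
theorem L81688 : N4058 = N3755 := (eqc rfl L81687 rfl).symm
theorem L81690 : sm ga N3755 = N1946 := trfs L81688 L19447 rfl
theorem L81693 : sm gc N3755 = N4066 := trfs L81688 (flp_c L40940) L72805
theorem L81694 : N4066 = N7844 := eqes L81693 L37729
theorem L81695 : N7844 = N4066 := (eqc rfl L81694 rfl).symm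
theorem L81697 : sm ge N3755 = N8454 := trfs L81688 (flp_e L40950) rfl
theorem L81698 : N8454 = N7845 := eqes L81697 L37731
theorem L81699 : N8454 = N7845 := eqc rfl L81698 rfl
theorem L81704 : sm ga N7845 = N4064 := trfs L81699 L40948 rfl
theorem L81709 : sm gf N7845 = N4057 := trfs L81699 (flp_f L40946) rfl
theorem L81710 : N4057 = N8448 := eqes L81709 L71850
theorem L81711 : N8448 = N4057 := (eqc rfl L81710 rfl).symm
theorem L81712 : sm gg N7845 = N7867 := trfs L81699 (flp_g L40952) rfl
theorem L81714 : sm gb N4057 = N4057 := trfs L81711 L40911 rfl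
theorem L81716 : sm gf N4057 = N7845 := trfs L81711 (flp_f L71850) rfl
theorem L81726 : sm gc N4066 = N3755 := trfs L81695 (flp_c L37729) rfl
theorem L81734 : sm ga N481 = N897 := trfs L74251 (flp_a L8773) rfl
theorem L81752 : sm gb N898 = N898 := trfs L74227 (flp_b L8783) rfl
theorem L81755 : sm gc N3762 = N3762 := trfs L74224 L37775 rfl
theorem L81756 : sm gg N3762 = N3762 := trfs L74224 L37777 rfl
theorem L81757 : sm gb N1800 = N1800 := trfs L74217 (flp_b L17930) rfl
theorem L81762 : sm gf N937 = N1799 := trfs L74205 (flp_f L17924) rfl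
theorem L81766 : sm gf N1042 = N1042 := trfs L74170 (flp_f L10261) rfl
theorem L81767 : sm gg N1042 = N1326 := trfs L74170 L48904 rfl
theorem L81769 : sm ga N3729 = N1907 := trfs L74167 L19083 rfl
theorem L81772 : sm gf N3729 = N1904 := trfs L74167 (flp_f L19081) rfl
theorem L81774 : sm gg N3729 = N3734 := trfs L74167 (flp_g L19089) rfl
theorem L81779 : sm gg N4430 = N5688 := trfs L74164 (flp_g L67763) rfl
theorem L81781 : sm ga N2148 = N5958 := trfs L74155 (flp_a L28861) rfl
theorem L81782 : N5958 = N4467 := eqes L81781 (flp_a L21549)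
theorem L81783 : N5958 = N4467 := eqc rfl L81782 rfl
theorem L81784 : sm gc N2148 = N9236 := trfs L74155 (flp_c L44839) rfl
theorem L81785 : N9236 = N4468 := eqes L81784 L21551
theorem L81786 : N9236 = N4468 := eqc rfl L81785 rfl
theorem L81791 : sm gg N4468 = N5828 := trfs L81786 L71862 rfl
theorem L81792 : N5828 = N9221 := eqes L81791 (flp_g L44781)
theorem L81793 : N9221 = N5828 := (eqc rfl L81792 rfl).symm
theorem L81795 : sm gg N5828 = N4468 := trfs L81793 L44781 rfl
theorem L81799 : sm gg N4467 = N5823 := trfs L81783 (flp_g L59890) rfl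
theorem L81800 : N5823 = N5830 := eqes L81799 L59876
theorem L81801 : N5830 = N5823 := (eqc rfl L81800 rfl).symm
theorem L81806 : sm gg N5823 = N4467 := trfs L81801 (flp_g L59876) rfl
theorem L81808 : sm gf N531 = N531 := trfs L74152 (flp_f L5231) rfl
theorem L81811 : sm ga N1810 = N955 := trfs L74149 L9379 rfl
theorem L81815 : sm gg N1810 = N1815 := trfs L74149 (flp_g L9383) rfl
theorem L81833 : sm gf N2741 = N5688 := trfs L74138 (flp_f L67761) rfl
theorem L81835 : sm gg N2741 = N2126 := trfs L74138 L21341 rfl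
theorem L81837 : sm gf N679 = N1362 := trfs L74134 L70468 rfl
theorem L81839 : sm gg N679 = N531 := trfs L74134 L5225 rfl
theorem L81841 : sm gf N2815 = N1363 := trfs L74131 (flp_f L13626) rfl
theorem L81843 : sm gg N2815 = N2147 := trfs L74131 (flp_g L70391) rfl
theorem L81845 : sm gf N2818 = N5823 := trfs L74114 (flp_f L59888) rfl
theorem L81847 : sm gg N2818 = N2148 := trfs L74114 L21533 rfl
theorem L81851 : sm gb N2878 = N1815 := trfs L74108 (flp_b L52262) rfl
theorem L81857 : sm gg N2878 = N2817 := trfs L74108 L52254 rfl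
theorem L81864 : sm gb N5940 = N2980 := trfs L74089 L29654 rfl
theorem L81867 : sm gf N5940 = N2967 := trfs L74089 (flp_f L29650) rfl
theorem L81872 : sm gb N5749 = N2925 := trfs L74052 L29245 rfl
theorem L81874 : sm gc N5749 = N5990 := trfs L74052 L29241 rfl
theorem L81877 : sm gf N5749 = N2918 := trfs L74052 (flp_f L29239) rfl
theorem L81880 : sm gd N2771 = N9189 := trfs L74043 L44627 rfl
theorem L81881 : N9189 = N5746 := eqes L81880 L27872
theorem L81882 : N9189 = N5746 := eqc rfl L81881 rfl
theorem L81883 : sm gf N2771 = N2134 := trfs L74043 L21436 rfl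
theorem L81885 : sm gf N5746 = N4448 := trfs L81882 L44629 rfl
theorem L81887 : sm ga N5751 = N2918 := trfs L74034 (flp_a L29233) rfl
theorem L81889 : sm gb N5751 = N3734 := trfs L74034 L52154 rfl
theorem L81891 : sm gc N5751 = N5697 := trfs L74034 L52156 rfl
theorem L81895 : sm gb N3726 = N5697 := trfs L74031 L37514 rfl
theorem L81897 : sm gf N3726 = N3737 := trfs L74031 L37512 rfl
theorem L81899 : sm gg N5690 = N5751 := trfs L74021 (flp_g L71823) rfl
theorem L81902 : sm gf N1327 = N2254 := trfs L74018 (flp_f L10894) rfl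
theorem L81904 : sm gg N1327 = N1040 := trfs L74018 (flp_g L10241) rfl
theorem L81909 : sm gb N5827 = N4067 := trfs L74002 L71815 rfl
theorem L81922 : sm gc N2876 = N2934 := trfs L73992 L14320 rfl
theorem L81928 : sm ga N1422 = N1166 := trfs L73989 (flp_a L11563) rfl
theorem L81932 : sm ga N2872 = N2934 := trfs L73986 L67505 rfl
theorem L81939 : sm ga N1440 = N2878 := trfs L73980 L28783 rfl
theorem L81941 : sm gf N1440 = N2876 := trfs L73980 (flp_f L28781) rfl
theorem L81946 : sm gb N2824 = N1807 := trfs L73974 (flp_b L18009) rfl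
theorem L81948 : sm gc N2824 = N2878 := trfs L73974 L59489 rfl
theorem L81950 : sm gf N2824 = N2872 := trfs L73974 (flp_f L59500) rfl
theorem L81953 : sm gb N5835 = N4018 := trfs L73968 L70886 rfl
theorem L81957 : sm gg N5835 = N2872 := trfs L73968 (flp_g L28751) rfl
theorem L81962 : sm gc N2822 = N9212 := trfs L73954 L44745 rfl
theorem L81963 : N9212 = N5837 := eqes L81962 L28319
theorem L81964 : N9212 = N5837 := eqc rfl L81963 rfl
theorem L81965 : sm gb N5837 = N4775 := trfs L81964 L72132 rfl
theorem L81972 : sm gf N4772 = N2948 := trfs L73924 L28457 rfl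
theorem L81976 : sm gf N1120 = N682 := trfs L73917 (flp_f L6701) rfl
theorem L81979 : sm gf N2387 = N2951 := trfs L73909 (flp_f L29526) rfl
theorem L81983 : sm gg N720 = N1135 := trfs L73901 (flp_g L11272) rfl
theorem L81987 : sm gb N2389 = N2927 := trfs L73888 L29313 rfl
theorem L81991 : sm ga N1447 = N1181 := trfs L73885 L11690 rfl
theorem L81993 : sm gb N1447 = N2876 := trfs L73885 (flp_b L71538) rfl
theorem L81997 : sm gb N1420 = N1165 := trfs L73882 (flp_b L11551) rfl
theorem L82001 : sm gf N1420 = N1166 := trfs L73882 L11553 rfl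
theorem L82005 : sm gg N2949 = N2389 := trfs L73871 (flp_g L24024) rfl
theorem L82008 : sm gg N1180 = N1447 := trfs L73868 (flp_g L14370) rfl
theorem L82010 : sm ga N2952 = N4020 := trfs L73865 L59992 rfl
theorem L82012 : sm gf N2952 = N4082 := trfs L73865 L59994 rfl
theorem L82018 : sm gc N2331 = N2300 := trfs L73854 L13974 rfl
theorem L82021 : sm gg N2331 = N1446 := trfs L73854 L13976 rfl
theorem L82023 : sm gc N1121 = N1135 := trfs L73848 L6707 rfl
theorem L82030 : sm gc N4730 = N4699 := trfs L73840 L27976 rfl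
theorem L82041 : sm gg N2924 = N4730 := trfs L73828 L23793 rfl
theorem L82045 : sm ga N1433 = N1165 := trfs L73819 L11547 rfl
theorem L82047 : sm gf N1433 = N1164 := trfs L73819 (flp_f L11545) rfl
theorem L82050 : sm ga N2368 = N2925 := trfs L73816 L29291 rfl
theorem L82052 : sm gf N2368 = N2924 := trfs L73816 (flp_f L29289) rfl
theorem L82055 : sm ga N2351 = N2910 := trfs L73810 L52220 rfl
theorem L82057 : sm gb N2351 = N2896 := trfs L73810 (flp_b L28975) rfl
theorem L82061 : sm gc N2259 = N2273 := trfs L73804 L13269 rfl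
theorem L82063 : sm gf N2259 = N1412 := trfs L73804 L13271 rfl
theorem L82066 : sm gf N713 = N1121 := trfs L73801 (flp_f L11137) rfl
theorem L82068 : sm gf N2908 = N4697 := trfs L73798 (flp_f L47115) rfl
theorem L82070 : sm gf N2909 = N4699 := trfs L73794 (flp_f L23591) rfl
theorem L82072 : sm gg N2909 = N2351 := trfs L73794 (flp_g L23585) rfl
theorem L82075 : sm gf N663 = N1102 := trfs L73779 (flp_f L10918) rfl
theorem L82099 : sm ga N600 = N600 := trfs L73644 (flp_a L5847) rfl
theorem L82101 : sm gg N600 = N600 := trfs L73644 L71279 rfl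
theorem L82102 : sm gb N576 = N576 := trfs L73637 (flp_b L5655) rfl
theorem L82106 : sm gf N949 = N949 := trfs L73618 (flp_f L9351) rfl
theorem L82109 : sm gf N1179 = N2406 := trfs L73599 (flp_f L24172) rfl
theorem L82110 : N2406 = N601 := eqes L82109 (flp_f L65542)
theorem L82111 : N2406 = N601 := eqc rfl L82110 rfl
theorem L82113 : sm gb N601 = N2451 := trfs L82111 (flp_b L11831) rfl
theorem L82114 : N2451 = N1192 := eqes L82113 (flp_b L5852)
theorem L82115 : N2451 = N1192 := eqc rfl L82114 rfl
theorem L82120 : sm ge N601 = N4992 := trfs L82111 L24168 rfl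
theorem L82121 : N4992 = N1196 := eqes L82120 L5865
theorem L82122 : N4992 = N1196 := eqc rfl L82121 rfl
theorem L82127 : sm gb N1196 = N5083 := trfs L82122 (flp_b L24597) rfl
theorem L82128 : N5083 = N2452 := eqes L82127 (flp_b L11835)
theorem L82129 : N5083 = N2452 := eqc rfl L82128 rfl
theorem L82131 : sm gc N2452 = N2452 := trfs L82129 L24599 rfl
theorem L82138 : sm gc N1192 = N1192 := trfs L82115 (flp_c L11829) rfl
theorem L82148 : sm gf N1933 = N1933 := trfs L73596 (flp_f L19363) rfl
theorem L82156 : sm gb N589 = N589 := trfs L73560 L5755 rfl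
theorem L82158 : sm gb N1173 = N1173 := trfs L73554 L11618 rfl
theorem L82164 : sm gg N4832 = N2977 := trfs L73526 L28923 rfl
theorem L82166 : sm gg N2779 = N4727 := trfs L73518 (flp_g L47434) rfl
theorem L82170 : sm gf N2881 = N2158 := trfs L73515 (flp_f L21634) rfl
theorem L82172 : sm ga N1400 = N1134 := trfs L73506 L11216 rfl
theorem L82176 : sm gd N1400 = N1130 := trfs L73506 L11218 rfl
theorem L82182 : sm ga N2867 = N2158 := trfs L73494 L21610 rfl
theorem L82193 : sm gf N1129 = N1400 := trfs L73490 L13858 rfl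
theorem L82202 : sm gg N2319 = N2867 := trfs L73481 L51684 rfl
theorem L82223 : sm gg N1134 = N696 := trfs L73456 (flp_g L6818) rfl
theorem L82235 : sm ga N1057 = N1390 := trfs L73421 L13852 rfl
theorem L82237 : sm gf N1057 = N1397 := trfs L73421 L13854 rfl
theorem L82240 : sm ga N691 = N533 := trfs L73414 L5239 rfl
theorem L82247 : sm gg N568 = N350 := trfs L73408 (flp_g L3491) rfl
theorem L82251 : sm gg N565 = N691 := trfs L73398 (flp_g L67872) rfl
theorem L82264 : sm ga N1037 = N1314 := trfs L73363 (flp_a L13074) rfl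
theorem L82269 : sm ga N1044 = N1338 := trfs L73360 L13363 rfl
theorem L82273 : sm ga N667 = N526 := trfs L73354 (flp_a L5185) rfl
theorem L82281 : sm gf N349 = N270 := trfs L73346 (flp_f L2725) rfl
theorem L82285 : sm gf N1341 = N1044 := trfs L73342 (flp_f L10283) rfl
theorem L82289 : sm gf N1340 = N1046 := trfs L73339 L10293 rfl
theorem L82294 : sm gb N555 = N555 := trfs L73330 (flp_b L5470) rfl
theorem L82297 : sm gg N555 = N667 := trfs L73330 (flp_g L51349) rfl
theorem L82302 : sm gg N566 = N349 := trfs L73327 (flp_g L3481) rfl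
theorem L82304 : sm gg N2268 = N1341 := trfs L73324 (flp_g L13408) rfl
theorem L82307 : sm gf N2125 = N2125 := trfs L73321 (flp_f L13424) rfl
theorem L82308 : sm gg N2125 = N2740 := trfs L73321 (flp_g L70402) rfl
theorem L82310 : sm gb N557 = N554 := trfs L73318 L3401 rfl
theorem L82314 : sm gg N557 = N339 := trfs L73318 (flp_g L3397) rfl
theorem L82316 : sm gg N4666 = N2719 := trfs L73309 (flp_g L27281) rfl
theorem L82318 : sm gf N4408 = N4408 := trfs L73306 (flp_f L27295) rfl
theorem L82319 : sm gg N4408 = N5600 := trfs L73306 L59691 rfl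
theorem L82321 : sm gb N1097 = N1094 := trfs L73303 L6456 rfl
theorem L82324 : sm gg N1097 = N658 := trfs L73303 (flp_g L6452) rfl
theorem L82326 : sm gf N1315 = N1037 := trfs L73287 (flp_f L10215) rfl
theorem L82328 : sm gg N1315 = N2244 := trfs L73287 L10843 rfl
theorem L82330 : sm gf N5230 = N4321 := trfs L73284 (flp_f L43488) rfl
theorem L82332 : sm gg N5230 = N9363 := trfs L73284 L45471 rfl
theorem L82335 : sm gf N5229 = N4323 := trfs L73281 L43500 rfl
theorem L82346 : sm gf N2558 = N2083 := trfs L73264 L20906 rfl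
theorem L82348 : sm gf N2074 = N2519 := trfs L73256 L25326 rfl
theorem L82357 : sm gb N2182 = N2179 := trfs L73225 L12205 rfl
theorem L82359 : sm gg N2182 = N1226 := trfs L73225 (flp_g L12199) rfl
theorem L82361 : sm gb N1071 = N1074 := trfs L73219 L6088 rfl
theorem L82364 : sm gf N1071 = N621 := trfs L73219 (flp_f L6084) rfl
theorem L82368 : sm gg N2191 = N1242 := trfs L73216 (flp_g L12395) rfl
theorem L82370 : sm gb N287 = N284 := trfs L73207 L1778 rfl
theorem L82374 : sm gb N543 = N546 := trfs L73202 L3226 rfl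
theorem L82376 : sm gf N543 = N322 := trfs L73202 (flp_f L3222) rfl
theorem L82379 : sm gc N625 = N1074 := trfs L73193 L10599 rfl
theorem L82385 : sm gg N175 = N287 := trfs L73190 (flp_g L2885) rfl
theorem L82387 : sm gc N546 = N326 := trfs L73187 (flp_c L3262) rfl
theorem L82397 : sm gf N1073 = N625 := trfs L73175 L6122 rfl
theorem L82401 : sm ga N348 = N270 := trfs L73172 (flp_a L2717) rfl
theorem L82407 : sm gd N324 = N174 := trfs L73166 L1663 rfl
theorem L82409 : sm gf N324 = N161 := trfs L73166 (flp_f L1661) rfl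
theorem L82412 : sm gf N519 = N641 := trfs L73163 L6278 rfl
theorem L82415 : sm gg N1083 = N641 := trfs L73157 (flp_g L6296) rfl
theorem L82417 : sm gb N1072 = N1072 := trfs L73154 (flp_b L10575) rfl
theorem L82419 : sm gb N285 = N285 := trfs L73151 (flp_b L2865) rfl
theorem L82420 : sm gg N285 = N348 := trfs L73151 L67970 rfl
theorem L82422 : sm gc N641 = N1083 := trfs L79504 L10697 rfl
theorem L82438 : sm gg N625 = N1074 := trfs L73231 (flp_g L10603) rfl
theorem L82442 : sm ga N519 = N545 := trfs L73062 L5368 rfl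
theorem L82444 : sm gc N519 = N544 := trfs L73062 (flp_c L5366) rfl
theorem L82447 : sm ga N1073 = N1021 := trfs L73054 (flp_a L10040) rfl
theorem L82452 : sm ga N4321 = N4556 := trfs L73046 L45763 rfl
theorem L82454 : sm gd N4321 = N9365 := trfs L73046 (flp_d L45765) rfl
theorem L82455 : N9365 = N8952 := eqes L82454 L43484
theorem L82456 : N9365 = N8952 := eqc rfl L82455 rfl
theorem L82457 : sm ga N8952 = N9422 := trfs L82456 (flp_a L45803) rfl
theorem L82459 : sm gc N8952 = N4531 := trfs L82456 (flp_c L45479) rfl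
theorem L82461 : sm gc N1242 = N2191 := trfs L79554 L21985 rfl
theorem L82466 : sm gf N1226 = N2192 := trfs L80041 (flp_f L22003) rfl
theorem L82472 : sm gc N1072 = N1021 := trfs L73015 (flp_c L10046) rfl
theorem L82474 : sm gg N1072 = N1073 := trfs L73015 L10050 rfl
theorem L82476 : sm gg N4529 = N4556 := trfs L73012 L43645 rfl
theorem L82478 : sm gb N2180 = N2180 := trfs L73009 (flp_b L21843) rfl
theorem L82480 : sm gb N1095 = N1095 := trfs L72999 (flp_b L10829) rfl
theorem L82481 : sm gg N1095 = N1314 := trfs L72999 L70572 rfl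
theorem L82483 : sm ga N2192 = N2074 := trfs L72992 (flp_a L20809) rfl
theorem L82485 : sm gg N2192 = N2180 := trfs L72992 L20815 rfl
theorem L82487 : sm ge N2716 = N4556 := trfs L80638 (flp_e L45807) rfl
theorem L82510 : sm ga N885 = N923 := trfs L72911 L9063 rfl
theorem L82512 : sm gc N885 = N922 := trfs L72911 (flp_c L9061) rfl
theorem L82524 : sm ga N1872 = N1786 := trfs L72879 L9087 rfl
theorem L82526 : sm gb N1872 = N1865 := trfs L72879 (flp_b L59303) rfl
theorem L82528 : sm gd N1872 = N957 := trfs L72879 L9089 rfl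
theorem L82530 : sm gg N1872 = N924 := trfs L72879 (flp_g L9085) rfl
theorem L82535 : sm gd N898 = N923 := trfs L72858 (flp_d L9073) rfl
theorem L82539 : sm gd N3762 = N8451 := trfs L72855 (flp_d L40927) rfl
theorem L82540 : N8451 = N7859 := eqes L82539 L37970
theorem L82541 : N8451 = N7859 := eqc rfl L82540 rfl
theorem L82544 : sm gg N7859 = N7859 := trfs L82541 L40929 L82541
theorem L82549 : sm gb N952 = N952 := trfs L72843 (flp_b L9371) rfl
theorem L82551 : sm gf N952 = N1810 := trfs L72843 (flp_f L59812) rfl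
theorem L82555 : sm gc N3763 = N1941 := trfs L72833 (flp_c L19435) rfl
theorem L82559 : sm gb N1941 = N1941 := trfs L72830 L19429 rfl
theorem L82560 : sm gf N1941 = N3755 := trfs L72830 L59838 rfl
theorem L82572 : sm gc N1946 = N3766 := trfs L72811 L38012 rfl
theorem L82581 : sm gc N1814 = N954 := trfs L72793 (flp_c L9387) rfl
theorem L82583 : sm gc N1945 = N3765 := trfs L72790 L38006 rfl
theorem L82585 : sm gc N7862 = N4057 := trfs L72786 L40934 rfl
theorem L82587 : sm gc N2158 = N1133 := trfs L72768 L11244 rfl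
theorem L82593 : sm gc N1057 = N567 := trfs L72754 (flp_c L5583) rfl
theorem L82609 : sm gc N1397 = N1134 := trfs L79322 L11248 rfl
theorem L82630 : sm gc N1390 = N1129 := trfs L79364 (flp_c L11204) rfl
theorem L82636 : sm gd N348 = N545 := trfs L79488 (flp_d L5378) rfl
theorem L82641 : sm ga N1128 = N1128 := trfs L72664 (flp_a L71315) rfl
theorem L82642 : sm gc N1128 = N1128 := trfs L72664 L11162 rfl
theorem L82646 : sm gc N2315 = N2315 := trfs L72657 (flp_c L23211) rfl
theorem L82649 : sm gc N7845 = N8468 := ded_8_2 L41024 L72798 (flp_a L81704)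
theorem L82651 : sm gf N8971 = N8971 := ded_30_8 (flp_c L43593) L48699 L10587 (flp_f L5326) L5320 L5324 L80650 L80051 L3173 (flp_b L5324) L82447 (flp_f L73272) L82461 (flp_b L48699) (flp_a L20864) L81231 L20868 L20872 (flp_a L43595)
theorem L82655 : sm gf N8309 = N8309 := ded_23_2 L40125 L73612 (flp_d L40125)
theorem L82656 : sm gf N6010 = N4873 := ded_23_2 L23551 L73832 (flp_d L29113)
theorem L82660 : sm gf N9164 = N9164 := ded_20_2 (flp_c L44490) L74180 L44490
theorem L82662 : sm gb N8322 = N8322 := ded_15_3 (flp_e L40209) L74195 L40209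
theorem L82663 : sm gg N7798 = N7798 := ded_17_4 (flp_b L37466) L17940 L74202 (flp_g L17940) L37466
theorem L82664 : sm gb N7677 = N7673 := ded_15_3 L36869 L74370 (flp_e L36895)
theorem L82666 : sm gg N8018 = N7599 := ded_24_2 L36502 L74576 (flp_d L38778)
theorem L82668 : sm gf N8947 = N8947 := ded_23_2 L43454 L75126 (flp_d L43454)
theorem L82670 : sm gf N8972 = N8972 := ded_23_2 (flp_d L43599) L75198 L43599
theorem L82671 : sm gb N5318 = N8971 := ded_30_18 L43595 L75198 (flp_c L20868) (flp_b L10036) (flp_a L5080) (flp_f L5078) L2638 L5072 (flp_a L82447) L82397 L82379 (flp_b L82361) (flp_a L10551) (flp_f L81201) L81199 (flp_b L81249) (flp_a L20908) (flp_f L82346) L25828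
theorem L82675 : sm gg N9118 = N5704 := ded_24_2 (flp_d L27608) (flp_g L27498) L75696
theorem L82677 : sm gf N9621 = N5608 := ded_23_2 L27576 L75707 L46989
theorem L82679 : sm gg N9150 = N5608 := ded_24_2 L27576 L75709 L44414
theorem L82681 : sm gf N5704 = N9696 := ded_23_2 L47067 L75726 L27608
theorem L82683 : sm gf N5705 = N9698 := ded_25_2 L47075 L75726 L27614
theorem L82685 : sm gb N5556 = N5556 := ded_13_3 (flp_c L26871) L12908 L76208 (flp_b L12908) L26871
theorem L82686 : sm ga N5634 = N5634 := ded_10_3 L27225 L76216 (flp_e L27225)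
theorem L82687 : sm gc N5634 = N5634 := ded_19_3 L27225 L76217 (flp_e L27225)
theorem L82688 : sm gg N5634 = N5634 := ded_26_2 L27225 L76219 (flp_e L27225)
theorem L82689 : sm ga N5223 = N5223 := ded_9_3 L25310 L76220 (flp_d L25310)
theorem L82690 : sm ga N7676 = N8069 := ded_8_3 (flp_c L39062) L77407 L36885
theorem L82692 : sm ga N7600 = N7600 := ded_7_5 (flp_b L36506) L17487 L17672 (flp_a L77407) L60419 L77407 (flp_b L17672) (flp_a L17487) L36506
theorem L82693 : sm gg N8069 = N8029 := ded_21_2 (flp_c L38848) L77420 L39062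
theorem L82695 : sm gg N8028 = N8028 := ded_17_4 (flp_b L38842) L77420 L60419 (flp_g L77420) L38842
theorem L82696 : sm gf N8025 = N8025 := ded_16_4 (flp_b L71777) L77425 L60419 (flp_f L77425) L71777
theorem L82697 : sm gb N8075 = N8056 := ded_13_5 (flp_c L38994) L77439 L18559 L18563 L39092
theorem L82699 : sm gf N8056 = N8056 := ded_30_0 (flp_c L38994) L77439 (flp_a L78813) (flp_f L17722) (flp_c L78637) L18537 L78697 L78701 (flp_c L78804) (flp_b L18537) (flp_a L8993) L9001 (flp_c L18559) (flp_b L77439) (flp_a L18523) L78919 L18527 L58920 (flp_a L38996)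
theorem L82700 : sm gf N8239 = N8239 := ded_20_2 (flp_c L39769) L77514 L39769
theorem L82701 : sm gf N8305 = N8305 := ded_23_2 (flp_d L40101) L77533 L40101
theorem L82707 : sm gf N6153 = N5019 := ded_25_2 L24282 L77611 (flp_e L29740)
theorem L82709 : sm gg N6042 = N4911 := ded_24_2 L23755 L77680 (flp_d L29283)
theorem L82713 : sm gf N9135 = N5759 := ded_23_2 (flp_d L27940) (flp_f L27832) L77847
theorem L82715 : sm ga N9733 = N9733 := ded_8_3 (flp_c L47274) L77852 L47274
theorem L82717 : sm gg N9756 = N5759 := ded_24_2 (flp_d L27940) L77867 (flp_d L47406)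
theorem L82719 : sm gg N9758 = N5760 := ded_26_2 (flp_e L27946) L77867 (flp_e L47414)
theorem L82721 : sm gf N9180 = N5651 := ded_23_2 L27908 L77870 L44575
theorem L82723 : sm gg N9650 = N5651 := ded_24_2 L27908 L77872 L47326
theorem L82725 : sm gg N6040 = N9763 := ded_12_2 (flp_a L47444) L77903 L29275
theorem L82727 : sm gg N6041 = N9764 := ded_21_2 (flp_c L47450) L77903 L29279
theorem L82729 : sm gg N6039 = N9761 := ded_26_2 L47430 L77903 (flp_e L29273)
theorem L82731 : sm gf N6040 = N4913 := ded_29_0 (flp_g L23759) (flp_f L22850) L77903 L29275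
theorem L82733 : sm ga N4913 = N6042 := ded_29_4 (flp_f L29281) (flp_g L77903) L22850 L23759
theorem L82745 : sm gf N8308 = N8308 := ded_20_2 (flp_c L40119) L77988 L40119
theorem L82746 : sm gc N4899 = N4899 := ded_13_4 (flp_b L23697) (flp_c L11396) L77994 L11396 L23697
theorem L82747 : sm ga N5092 = N5092 := ded_8_3 (flp_c L24643) L78009 L24643
theorem L82748 : sm ga N5086 = N5086 := ded_10_3 L24613 L78009 (flp_e L24613)
theorem L82749 : sm ga N5093 = N5093 := ded_11_3 (flp_f L24645) L78009 L24645
theorem L82750 : sm gg N5092 = N5092 := ded_21_2 (flp_c L24643) L78013 L24643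
theorem L82751 : sm gg N5086 = N5086 := ded_26_2 L24613 L78013 (flp_e L24613)
theorem L82753 : sm gf N8058 = N8058 := ded_23_2 (flp_d L39008) L78113 L39008
theorem L82757 : sm gb N8127 = N8167 := ded_14_3 (flp_d L39489) L78127 L39316
theorem L82759 : sm gb N8052 = N8079 := ded_30_2 L39112 (flp_f L39096) (flp_c L39092) (flp_b L18563) (flp_a L81440) L81444 L78637 (flp_b L8615) (flp_a L8527) L8613 (flp_c L8625) L17726 L81491 L69329 L18505 L18509 L38970 (flp_f L78154) L38976
theorem L82761 : sm gb N8024 = N8035 := ded_14_3 L38892 L78168 L69319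
theorem L82763 : sm gc N8347 = N8291 := ded_19_3 L40037 L78221 (flp_e L40349)
theorem L82767 : sm ga N8392 = N6095 := ded_7_3 (flp_b L29504) (flp_a L14229) (flp_b L6955) (flp_a L6932) L14193 (flp_a L52163) L78320 (flp_a L19291) L40631
theorem L82769 : sm gc N6078 = N9288 := ded_8_0 (flp_a L80786) L28415 (flp_a L29440)
theorem L82771 : N6327 = N1427 := coi_28_4 (flp_c L13680) L80771 L80927 L45054 (flp_a L80786) L28415 (flp_d L14388) (flp_c L14793) (flp_d L30604)
theorem L82772 : N6327 = N1427 := eqc rfl L82771 rfl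
theorem L82779 : sm gf N1427 = N3060 := trfs L82772 (flp_f L30602) rfl
theorem L82780 : N3060 = N2943 := eqes L82779 L14209
theorem L82781 : N3060 = N2943 := eqc rfl L82780 rfl
theorem L82785 : sm gb N2943 = N1486 := trfs L82781 (flp_b L14770) rfl
theorem L82786 : N1486 = N6083 := eqes L82785 L29459
theorem L82787 : N6083 = N1486 := (eqc rfl L82786 rfl).symm
theorem L82788 : sm gc N2943 = N6326 := trfs L82781 L30598 rfl
theorem L82789 : N6326 = N5855 := eqes L82788 (flp_c L28415)
theorem L82790 : N6326 = N5855 := eqc rfl L82789 rfl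
theorem L82791 : sm gd N2943 = N1489 := trfs L82781 L14772 rfl
theorem L82792 : N1489 = N2986 := eqes L82791 (flp_d L14388)
theorem L82793 : N2986 = N1489 := (eqc rfl L82792 rfl).symm
theorem L82797 : sm gg N2943 = N6310 := trfs L82781 (flp_g L30513) rfl
theorem L82798 : N6310 = N6084 := eqes L82797 L29463
theorem L82799 : N6310 = N6084 := eqc rfl L82798 rfl
theorem L82800 : sm gb N6084 = N3051 := trfs L82799 (flp_b L30509) rfl
theorem L82802 : sm gd N6084 = N3056 := trfs L82799 L30511 rfl
theorem L82803 : N3056 = N6176 := eqes L82802 (flp_d L29843)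
theorem L82804 : N6176 = N3056 := (eqc rfl L82803 rfl).symm
theorem L82813 : sm gf N3056 = N6171 := trfs L82804 (flp_f L29845) rfl
theorem L82814 : N6171 = N6320 := eqes L82813 L30567
theorem L82815 : N6320 = N6171 := (eqc rfl L82814 rfl).symm
theorem L82820 : sm gf N6171 = N3056 := trfs L82815 (flp_f L30567) rfl
theorem L82848 : sm gb N1489 = N6175 := trfs L82793 L29835 rfl
theorem L82849 : N6175 = N744 := eqes L82848 (flp_b L7257)
theorem L82850 : N6175 = N744 := eqc rfl L82849 rfl
theorem L82854 : sm ge N1489 = N6173 := trfs L82793 (flp_e L29828) rfl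
theorem L82855 : N6173 = N3063 := eqes L82854 (flp_e L14783)
theorem L82856 : N6173 = N3063 := eqc rfl L82855 rfl
theorem L82859 : sm gc N3063 = N6332 := trfs L82856 (flp_c L30626) rfl
theorem L82860 : N6332 = N2985 := eqes L82859 L14785
theorem L82861 : N6332 = N2985 := eqc rfl L82860 rfl
theorem L82865 : sm gf N2985 = N3063 := trfs L82861 (flp_f L30624) rfl
theorem L82868 : sm gf N744 = N2990 := trfs L82850 L29839 rfl
theorem L82869 : N2990 = N1477 := eqes L82868 L7194
theorem L82870 : N2990 = N1477 := eqc rfl L82869 rfl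
theorem L82877 : sm gc N1477 = N6182 := trfs L82870 L29882 rfl
theorem L82878 : N6182 = N739 := eqes L82877 L7190
theorem L82879 : N6182 = N739 := eqc rfl L82878 rfl
theorem L82880 : sm gd N1477 = N2947 := trfs L82870 L14414 rfl
theorem L82881 : N2947 = N1443 := eqes L82880 L7192
theorem L82882 : N2947 = N1443 := eqc rfl L82881 rfl
theorem L82886 : sm gg N1477 = N6183 := trfs L82870 L29886 rfl
theorem L82887 : N6183 = N737 := eqes L82886 (flp_g L7186)
theorem L82888 : N6183 = N737 := eqc rfl L82887 rfl
theorem L82892 : sm gd N737 = N6091 := trfs L82888 L29888 rfl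
theorem L82893 : N6091 = N717 := eqes L82892 (flp_d L3696)
theorem L82894 : N6091 = N717 := eqc rfl L82893 rfl
theorem L82895 : sm gb N717 = N6229 := trfs L82894 (flp_b L30107) rfl
theorem L82896 : N6229 = N1441 := eqes L82895 L6995
theorem L82897 : N6229 = N1441 := eqc rfl L82896 rfl
theorem L82900 : sm gg N1441 = N3011 := trfs L82897 (flp_g L30103) rfl
theorem L82901 : N3011 = N2973 := eqes L82900 L14333
theorem L82902 : N3011 = N2973 := eqc rfl L82901 rfl
theorem L82906 : sm gb N2973 = N1460 := trfs L82902 (flp_b L14518) rfl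
theorem L82907 : N1460 = N6145 := eqes L82906 L29709
theorem L82908 : N6145 = N1460 := (eqc rfl L82907 rfl).symm
theorem L82912 : sm gd N2973 = N1463 := trfs L82902 L14520 rfl
theorem L82913 : N1463 = N3037 := eqes L82912 (flp_d L14646)
theorem L82914 : N3037 = N1463 := (eqc rfl L82913 rfl).symm
theorem L82918 : sm gf N2973 = N6210 := trfs L82902 (flp_f L30009) rfl
theorem L82919 : N6210 = N6146 := eqes L82918 L29713
theorem L82920 : N6210 = N6146 := eqc rfl L82919 rfl
theorem L82921 : sm gb N6146 = N3001 := trfs L82920 (flp_b L30005) rfl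
theorem L82923 : sm gd N6146 = N3006 := trfs L82920 L30007 rfl
theorem L82924 : N3006 = N6278 := eqes L82923 (flp_d L30356)
theorem L82925 : N6278 = N3006 := (eqc rfl L82924 rfl).symm
theorem L82926 : sm ga N3006 = N6276 := trfs L82925 L30354 rfl
theorem L82927 : N6276 = N6219 := eqes L82926 L30058
theorem L82928 : N6276 = N6219 := eqc rfl L82927 rfl
theorem L82970 : sm gg N6219 = N3036 := trfs L82928 (flp_g L30340) rfl
theorem L82978 : sm gd N1463 = N2973 := trfs L82914 L14646 rfl
theorem L82980 : sm ge N1463 = N6275 := trfs L82914 (flp_e L30338) rfl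
theorem L82981 : N6275 = N3014 := eqes L82980 (flp_e L14531)
theorem L82982 : N6275 = N3014 := eqc rfl L82981 rfl
theorem L82985 : sm gc N3014 = N6235 := trfs L82982 (flp_c L71896) rfl
theorem L82986 : N6235 = N3035 := eqes L82985 (flp_c L61859)
theorem L82987 : N6235 = N3035 := eqc rfl L82986 rfl
theorem L82991 : sm gg N3035 = N3014 := trfs L82987 (flp_g L30129) rfl
theorem L82997 : sm gb N1460 = N2973 := trfs L82908 (flp_b L29709) rfl
theorem L82999 : sm gg N1460 = N2976 := trfs L82908 L29711 rfl
theorem L83000 : N2976 = N1429 := eqes L82999 L7097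
theorem L83001 : N2976 = N1429 := eqc rfl L83000 rfl
theorem L83007 : sm gc N1429 = N6151 := trfs L83001 L29732 rfl
theorem L83008 : N6151 = N712 := eqes L83007 L6949
theorem L83009 : N6151 = N712 := eqc rfl L83008 rfl
theorem L83011 : sm ge N1429 = N6149 := trfs L83001 (flp_e L29728) rfl
theorem L83012 : N6149 = N2946 := eqes L83011 (flp_e L14221)
theorem L83013 : N6149 = N2946 := eqc rfl L83012 rfl
theorem L83015 : sm gb N2946 = N2975 := trfs L83013 (flp_b L29726) rfl
theorem L83016 : N2975 = N6088 := eqes L83015 L29480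
theorem L83017 : N6088 = N2975 := (eqc rfl L83016 rfl).symm
theorem L83018 : sm gb N2975 = N2946 := trfs L83017 (flp_b L29480) rfl
theorem L83021 : sm gb N712 = N2979 := trfs L83009 L29734 rfl
theorem L83022 : N2979 = N1431 := eqes L83021 L6955
theorem L83023 : N2979 = N1431 := eqc rfl L83022 rfl
theorem L83024 : sm ga N1431 = N6157 := trfs L83023 (flp_a L29756) rfl
theorem L83025 : N6157 = N2949 := eqes L83024 L14229
theorem L83026 : N6157 = N2949 := eqc rfl L83025 rfl
theorem L83027 : sm gc N1431 = N1445 := trfs L83023 (flp_c L14354) rfl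
theorem L83028 : N1445 = N2950 := eqes L83027 L14233
theorem L83029 : N2950 = N1445 := (eqc rfl L83028 rfl).symm
theorem L83033 : sm ge N1431 = N6154 := trfs L83023 (flp_e L29744) rfl
theorem L83034 : N6154 = N2948 := eqes L83033 (flp_e L14227)
theorem L83035 : N6154 = N2948 := eqc rfl L83034 rfl
theorem L83036 : sm gf N1431 = N6160 := trfs L83023 L29768 rfl
theorem L83037 : N6160 = N2298 := eqes L83036 L73939
theorem L83038 : N6160 = N2298 := eqc rfl L83037 rfl
theorem L83039 : sm gg N1431 = N4835 := trfs L83023 (flp_g L77963) rfl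
theorem L83040 : N4835 = N2951 := eqes L83039 L14235
theorem L83041 : N4835 = N2951 := eqc rfl L83040 rfl
theorem L83042 : sm gc N2951 = N2329 := trfs L83041 (flp_c L23365) rfl
theorem L83043 : N2329 = N6099 := eqes L83042 (flp_c L29524)
theorem L83044 : N6099 = N2329 := (eqc rfl L83043 rfl).symm
theorem L83045 : sm gf N2951 = N2422 := trfs L83041 L23367 rfl
theorem L83046 : N2422 = N2387 := eqes L83045 (flp_f L81979)
theorem L83047 : N2422 = N2387 := eqc rfl L83046 rfl
theorem L83051 : sm gb N2387 = N4140 := trfs L83047 (flp_b L63896) rfl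
theorem L83052 : N4140 = N4954 := eqes L83051 L23994
theorem L83053 : N4954 = N4140 := (eqc rfl L83052 rfl).symm
theorem L83054 : sm gc N2387 = N1178 := trfs L83047 (flp_c L11676) rfl
theorem L83055 : N1178 = N4955 := eqes L83054 L24000
theorem L83056 : N4955 = N1178 := (eqc rfl L83055 rfl).symm
theorem L83060 : sm ge N2387 = N5018 := trfs L83047 (flp_e L24278) rfl
theorem L83061 : N5018 = N4950 := eqes L83060 (flp_e L23980)
theorem L83062 : N5018 = N4950 := eqc rfl L83061 rfl
theorem L83063 : sm gg N2387 = N5025 := trfs L83047 L24306 rfl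
theorem L83064 : N5025 = N4774 := eqes L83063 (flp_g L23084)
theorem L83065 : N5025 = N4774 := eqc rfl L83064 rfl
theorem L83067 : sm gc N4774 = N2423 := trfs L83065 L24308 rfl
theorem L83068 : N2423 = N9829 := eqes L83067 L72535
theorem L83069 : N9829 = N2423 := (eqc rfl L83068 rfl).symm
theorem L83071 : sm ga N2423 = N4775 := trfs L83069 L72537 rfl
theorem L83072 : N4775 = N2980 := eqes L83071 (flp_a L77921)
theorem L83073 : N4775 = N2980 := eqc rfl L83072 rfl
theorem L83077 : sm gb N2980 = N5837 := trfs L83073 (flp_b L81965) rfl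
theorem L83078 : N5837 = N5940 := eqes L83077 (flp_b L81864)
theorem L83079 : N5940 = N5837 := (eqc rfl L83078 rfl).symm
theorem L83085 : sm ge N2980 = N9826 := trfs L83073 (flp_e L72522) rfl
theorem L83086 : N9826 = N6155 := eqes L83085 (flp_e L29748)
theorem L83087 : N9826 = N6155 := eqc rfl L83086 rfl
theorem L83089 : sm gg N2980 = N2388 := trfs L83073 L23088 rfl
theorem L83090 : N2388 = N2421 := eqes L83089 (flp_g L77954)
theorem L83091 : N2421 = N2388 := (eqc rfl L83090 rfl).symm
theorem L83094 : sm gb N2388 = N5021 := trfs L83091 L24288 rfl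
theorem L83095 : N5021 = N4117 := eqes L83094 (flp_b L19748)
theorem L83096 : N5021 = N4117 := eqc rfl L83095 rfl
theorem L83098 : sm gd N2388 = N1180 := trfs L83091 L11674 rfl
theorem L83099 : N1180 = N4957 := eqes L83098 L24012
theorem L83100 : N4957 = N1180 := (eqc rfl L83099 rfl).symm
theorem L83101 : sm ge N2388 = N5017 := trfs L83091 (flp_e L24274) rfl
theorem L83102 : N5017 = N4951 := eqes L83101 (flp_e L23984)
theorem L83103 : N5017 = N4951 := eqc rfl L83102 rfl
theorem L83104 : sm gf N2388 = N4834 := trfs L83091 (flp_f L23363) rfl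
theorem L83105 : N4834 = N4958 := eqes L83104 L24014
theorem L83106 : N4958 = N4834 := (eqc rfl L83105 rfl).symm
theorem L83107 : sm gg N2388 = N2980 := trfs L83091 L77954 rfl
theorem L83109 : sm gc N4834 = N2389 := trfs L83106 L24016 rfl
theorem L83113 : sm ga N4951 = N2419 := trfs L83103 (flp_a L24272) rfl
theorem L83120 : sm gd N1180 = N2388 := trfs L83100 (flp_d L24012) rfl
theorem L83125 : sm ga N4117 = N8471 := trfs L83096 L71387 rfl
theorem L83126 : N8471 = N8565 := eqes L83125 (flp_a L41506)
theorem L83127 : N8565 = N8471 := (eqc rfl L83126 rfl).symm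
theorem L83128 : sm gd N4117 = N2425 := trfs L83096 L24290 rfl
theorem L83130 : sm gf N4117 = N4141 := trfs L83096 L71389 rfl
theorem L83131 : N4141 = N8568 := eqes L83130 L41520
theorem L83132 : N8568 = N4141 := (eqc rfl L83131 rfl).symm
theorem L83133 : sm gg N4117 = N8469 := trfs L83096 L71391 rfl
theorem L83134 : N8469 = N8390 := eqes L83133 (flp_g L40623)
theorem L83135 : N8469 = N8390 := eqc rfl L83134 rfl
theorem L83136 : sm ga N8390 = N4065 := trfs L83135 (flp_a L41030) rfl
theorem L83138 : sm gd N8390 = N4067 := trfs L83135 L41032 rfl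
theorem L83140 : sm gf N8390 = N4139 := trfs L83135 L41034 rfl
theorem L83142 : sm gc N4141 = N4118 := trfs L83132 L41522 rfl
theorem L83143 : N4118 = N8615 := eqes L83142 (flp_c L41729)
theorem L83144 : N8615 = N4118 := (eqc rfl L83143 rfl).symm
theorem L83147 : sm gc N4118 = N4141 := trfs L83144 L41729 rfl
theorem L83153 : sm gc N8471 = N4116 := trfs L83127 (flp_c L41504) rfl
theorem L83157 : sm gg N6155 = N4951 := trfs L83087 L72524 rfl
theorem L83159 : sm ga N5837 = N2877 := trfs L83079 L28779 rfl
theorem L83163 : sm gd N5837 = N2876 := trfs L83079 (flp_d L28777) rfl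
theorem L83165 : sm gf N5837 = N2967 := trfs L83079 L81867 rfl
theorem L83167 : sm gb N4950 = N8609 := trfs L83062 L71940 rfl
theorem L83169 : sm gc N4950 = N2419 := trfs L83062 (flp_c L24276) rfl
theorem L83176 : sm ga N1178 = N2388 := trfs L83056 L24002 rfl
theorem L83178 : sm gc N1178 = N2387 := trfs L83056 (flp_c L24000) rfl
theorem L83183 : sm gb N4140 = N2387 := trfs L83053 (flp_b L23994) rfl
theorem L83185 : sm gd N4140 = N2391 := trfs L83053 L23996 rfl
theorem L83187 : sm gf N4140 = N8389 := trfs L83053 (flp_f L40619) rfl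
theorem L83188 : N8389 = N8470 := eqes L83187 (flp_f L41038)
theorem L83189 : N8470 = N8389 := (eqc rfl L83188 rfl).symm
theorem L83192 : sm gc N8389 = N4065 := trfs L83189 (flp_c L41036) rfl
theorem L83194 : sm gf N8389 = N4140 := trfs L83189 L41038 rfl
theorem L83201 : sm gc N2329 = N2951 := trfs L83044 L29524 rfl
theorem L83204 : sm gc N2298 = N2980 := trfs L83038 L29770 rfl
theorem L83206 : sm gc N2948 = N2977 := trfs L83035 (flp_c L29742) rfl
theorem L83207 : N2977 = N6093 := eqes L83206 L29496
theorem L83208 : N6093 = N2977 := (eqc rfl L83207 rfl).symm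
theorem L83209 : sm gc N2977 = N2948 := trfs L83208 (flp_c L29496) rfl
theorem L83218 : sm gc N1445 = N1431 := trfs L83029 (flp_c L14233) rfl
theorem L83226 : sm gc N2949 = N2978 := trfs L83026 (flp_c L29754) rfl
theorem L83245 : sm gb N1443 = N1429 := trfs L82882 (flp_b L14223) rfl
theorem L83249 : sm gb N739 = N2992 := trfs L82879 L29884 rfl
theorem L83250 : N2992 = N1479 := eqes L83249 L7205
theorem L83251 : N2992 = N1479 := eqc rfl L83250 rfl
theorem L83253 : sm gc N1479 = N1452 := trfs L83251 (flp_c L14422) rfl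
theorem L83254 : N1452 = N3042 := eqes L83253 L14677
theorem L83255 : N3042 = N1452 := (eqc rfl L83254 rfl).symm
theorem L83286 : sm gc N1452 = N1479 := trfs L83255 (flp_c L14677) rfl
theorem L83296 : sm gb N5855 = N6132 := trfs L82790 L30600 rfl
theorem L83297 : N6132 = N5839 := eqes L83296 L80788
theorem L83298 : N6132 = N5839 := eqc rfl L83297 rfl
theorem L83299 : sm gc N5839 = N2967 := trfs L83298 (flp_c L29648) rfl
theorem L83301 : sm gb N1486 = N2943 := trfs L82787 (flp_b L29459) rfl
theorem L83307 : sm gc N5991 = N5985 := ded_19_3 L28993 L78465 (flp_e L29020)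
theorem L83309 : sm gf N4876 = N5983 := ded_23_2 (flp_d L28979) L78516 (flp_d L23561)
theorem L83311 : sm ga N4876 = N5988 := ded_9_3 L29005 L78518 (flp_d L23561)
theorem L83313 : sm gf N4962 = N6050 := ded_20_2 (flp_c L29319) L78540 L24036
theorem L83315 : sm gf N4953 = N6051 := ded_25_2 (flp_e L29323) L78540 (flp_e L23992)
theorem L83319 : sm ga N4953 = N6060 := ded_10_3 L29359 L78542 (flp_e L23992)
theorem L83321 : sm gc N9293 = N8392 := ded_13_4 (flp_b L40631) L78590 L18121 L21678 L45072
theorem L83325 : sm ge N8069 = N7768 := ded_19_2 (flp_c L37305) L78629 L39062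
theorem L83327 : sm ga N8028 = N8028 := ded_9_3 L38844 L78697 (flp_d L38844)
theorem L83328 : sm gf N7600 = N8028 := ded_23_2 L38844 L78701 (flp_d L36508)
theorem L83330 : sm ga N8245 = N8245 := ded_8_3 (flp_c L39799) L78733 L39799
theorem L83331 : sm gg N8245 = N8245 := ded_21_2 (flp_c L39799) L78738 L39799
theorem L83332 : sm ga N7628 = N7628 := ded_8_3 (flp_c L36628) L78739 L36628
theorem L83333 : sm gf N8245 = N7628 := ded_20_2 (flp_c L36628) L78744 L39799
theorem L83335 : sm gf N8026 = N8026 := ded_20_2 (flp_c L38830) L78922 L38830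
theorem L83336 : sm gb N6740 = N6740 := ded_17_3 (flp_g L32496) (flp_b L15639) L78974 L15639 L32496
theorem L83337 : sm gb N8770 = N8770 := ded_17_3 (flp_g L42508) (flp_b L20223) L78998 L20223 L42508
theorem L83338 : sm gc N6810 = N6810 := ded_13_4 (flp_b L32848) L15812 L79033 (flp_c L15812) L32848
theorem L83339 : sm gc N6867 = N6867 := ded_8_2 (flp_a L33120) L79053 L33120
theorem L83340 : sm gc N6869 = N6869 := ded_20_3 (flp_f L33128) L79053 L33128
theorem L83341 : sm gc N6862 = N6862 := ded_21_3 L33098 L79053 (flp_g L33098)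
theorem L83342 : sm gf N8241 = N8241 := ded_23_2 (flp_d L39781) L79067 L39781
theorem L83351 : sm gc N6140 = N9228 := ded_28_0 (flp_d L44807) L67731 (flp_d L79302) L13938 (flp_d L7177) L61741 L82978 (flp_a L29690)
theorem L83362 : sm ge N9421 = N5637 := ded_19_2 (flp_c L27233) (flp_e L25318) L79741
theorem L83364 : sm gc N9639 = N9639 := ded_8_2 (flp_a L46773) L80429 L46773
theorem L83365 : sm gc N9361 = N9361 := ded_19_3 L45457 L80429 (flp_e L45457)
theorem L83366 : sm gc N9641 = N9641 := ded_20_3 (flp_f L46779) L80429 L46779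
theorem L83367 : sm gc N9642 = N9642 := ded_21_3 (flp_g L46781) L80429 L46781
theorem L83368 : sm gg N9367 = N5232 := ded_24_2 (flp_d L25362) L80456 (flp_d L45487)
theorem L83370 : sm gg N9651 = N5652 := ded_26_2 (flp_e L27299) L80466 (flp_e L46819)
theorem L83372 : sm gc N9654 = N9625 := ded_8_2 (flp_a L46705) L80491 L46833
theorem L83374 : sm gc N9368 = N9354 := ded_19_3 L45413 L80491 (flp_e L45491)
theorem L83376 : sm gc N9598 = N9626 := ded_20_3 (flp_f L46707) L80491 (flp_f L46581)
theorem L83378 : sm gc N9655 = N9584 := ded_21_3 L46521 L80491 L46835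
theorem L83380 : sm gb N9626 = N5546 := ded_16_3 (flp_f L26837) L12888 L80524 L22463 L46707
theorem L83382 : sm gf N5609 = N9622 := ded_25_2 L46691 L80547 L27107
theorem L83384 : sm gb N9655 = N5569 := ded_17_3 (flp_g L26929) L12932 L80573 L22519 L46835
theorem L83386 : sm gb N5638 = N5638 := ded_17_3 (flp_g L27237) (flp_b L13072) L80617 L13072 L27237
theorem L83387 : sm gf N9422 = N5232 := ded_23_2 (flp_d L25362) L80645 L45801
theorem L83389 : sm gf N9701 = N6007 := ded_16_2 (flp_b L29099) (flp_f L14042) (flp_b L13257) L80832 L47087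
theorem L83391 : sm gf N8948 = N8948 := ded_20_2 (flp_c L43458) L81037 L43458
theorem L83392 : sm gc N8806 = N8806 := ded_13_4 (flp_b L42696) L20397 L81046 (flp_c L20397) L42696
theorem L83393 : sm gc N8862 = N8862 := ded_8_2 (flp_a L42974) L81072 L42974
theorem L83394 : sm gc N8864 = N8864 := ded_20_3 (flp_f L42980) L81072 L42980
theorem L83395 : sm gc N8853 = N8853 := ded_21_3 L42934 L81072 (flp_g L42934)
theorem L83396 : sm gf N9126 = N9126 := ded_11_2 L44298 L81073 (flp_a L44298)
theorem L83397 : sm gf N9127 = N9127 := ded_23_2 (flp_d L44300) L81073 L44300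
theorem L83398 : sm gg N9391 = N5211 := ded_24_2 (flp_d L25238) L81136 L45625
theorem L83400 : sm gf N5211 = N9353 := ded_23_2 L45409 L81148 L25238
theorem L83402 : sm gg N7625 = N8222 := ded_21_2 (flp_c L39701) L81582 L36618
theorem L83406 : sm gc N9233 = N8472 := ded_13_4 (flp_b L41044) L81726 L18037 L21551 L44825
theorem L83408 : sm gc N7798 = N7798 := ded_19_3 L37468 L81755 (flp_e L37468)
theorem L83415 : sm ga N6011 = N8291 := ded_7_7 (flp_b L40035) L18991 L81895 L52149 (flp_b L14027) L6851 L6871 L14052 L29115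
theorem L83417 : sm gf N6011 = N8347 := ded_30_16 L82763 (flp_b L40035) L18991 L81897 (flp_c L17964) (flp_b L8747) L4465 (flp_f L4455) L4383 L74933 L2617 L2697 (flp_c L4467) L8747 L81590 L9193 (flp_c L18993) L40035 (flp_a L83415)
theorem L83419 : sm gc N5826 = N5930 := ded_28_6 (flp_d L28743) L81932 (flp_c L81922) (flp_d L83163) (flp_c L28319) (flp_d L13644) (flp_c L13622) L28269
theorem L83421 : sm gc N6124 = N6062 := ded_28_0 L29368 (flp_c L81922) (flp_d L83163) (flp_c L28319) (flp_d L13644) (flp_c L13622) L28269 (flp_a L71607)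
theorem L83423 : N5943 = N5834 := coi_28_1 (flp_d L28303) L52170 (flp_d L29613) L83421 L29368 (flp_c L81922) (flp_d L83163) L83159 L28789
theorem L83424 : N5943 = N5834 := eqc rfl L83423 rfl
theorem L83425 : sm gc N5834 = N2877 := trfs L83424 (flp_c L28789) rfl
theorem L83433 : sm gf N4950 = N6094 := ded_29_0 (flp_g L29500) (flp_f L81972) L23070 L23978
theorem L83439 : sm gb N6051 = N4952 := ded_15_3 L23988 L81987 L29323
theorem L83441 : sm ga N8397 = N6055 := ded_12_3 L71605 L82010 L40653
theorem L83443 : sm gf N8502 = N6095 := ded_23_2 L29506 L82012 L41186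
theorem L83445 : sm ga N6010 = N4875 := ded_9_3 L23557 L82055 (flp_d L29113)
theorem L83447 : sm gb N5983 = N4875 := ded_14_3 L23557 L82057 L28979
theorem L83449 : sm gf N9703 = N6008 := ded_11_2 (flp_a L29105) L82068 L47105
theorem L83451 : sm gf N9704 = N6009 := ded_20_2 (flp_c L29109) L82068 L47111
theorem L83453 : sm gg N4875 = N6008 := ded_29_3 (flp_a L29105) L82068 L22673 L23555
theorem L83457 : sm gc N6094 = N4832 := ded_21_3 L82164 L83209 L29500
theorem L83459 : sm gb N5962 = N4806 := ded_16_3 (flp_f L23217) L11198 L82193 L13936 L28879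
theorem L83461 : sm gg N9422 = N9362 := ded_12_2 L45461 (flp_g L43486) L82457
theorem L83463 : N2941 = N6137 := coi_30_10 (flp_b L29678) (flp_a L14324) L14330 (flp_c L28881) L83459 L77837 (flp_f L23217) L82646 L11198 L5571 L5589 (flp_c L82609) (flp_b L13904) (flp_a L83159) L83165 (flp_c L83299) (flp_b L80788) L80786 (flp_f L80802) L28401
theorem L83464 : N6137 = N2941 := (eqc rfl L83463 rfl).symm
theorem L83465 : sm gb N2941 = N2970 := trfs L83464 (flp_b L29678) rfl
theorem L83466 : N2970 = N6076 := eqes L83465 L29432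
theorem L83467 : N6076 = N2970 := (eqc rfl L83466 rfl).symm
theorem L83477 : sm gb N2970 = N2941 := trfs L83467 (flp_b L29432) rfl
theorem L83482 : sm gf N8610 = N8562 := ded_31_13 L41492 (flp_g L83157) (flp_f L29746) (flp_b L14346) (flp_g L7006) L3602 (flp_b L6816) (flp_g L73537) (flp_f L11250) L5587 (flp_g L4844) L9577 L19840 L41703
theorem L83484 : N3001 = N6295 := coi_31_0 (flp_g L30521) (flp_f L30515) (flp_b L82800) (flp_g L29463) (flp_f L14209) (flp_b L6940) L3570 L6947 (flp_b L83245) (flp_g L7002) L3599 L6995 L14333 L29713 L82921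
theorem L83485 : N6295 = N3001 := (eqc rfl L83484 rfl).symm
theorem L83495 : sm gg N3001 = N6311 := trfs L83485 (flp_g L30521) rfl
theorem L83496 : N6311 = N6211 := eqes L83495 L30011
theorem L83497 : N6311 = N6211 := eqc rfl L83496 rfl
theorem L83504 : sm gf N6211 = N3051 := trfs L83497 (flp_f L30515) rfl
theorem L83505 : N3051 = N6197 := eqes L83504 (flp_f L30015)
theorem L83506 : N6197 = N3051 := (eqc rfl L83505 rfl).symm
theorem L83513 : sm gf N3051 = N6211 := trfs L83506 L30015 rfl
theorem L83515 : sm gg N3051 = N2995 := trfs L83506 (flp_g L29944) rfl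
theorem L83516 : N2995 = N1481 := eqes L83515 (flp_g L14716)
theorem L83517 : N2995 = N1481 := eqc rfl L83516 rfl
theorem L83523 : sm gc N1481 = N6194 := trfs L83517 L29930 rfl
theorem L83524 : N6194 = N3048 := eqes L83523 L14703
theorem L83525 : N6194 = N3048 := eqc rfl L83524 rfl
theorem L83526 : sm gd N1481 = N1454 := trfs L83517 (flp_d L14434) rfl
theorem L83527 : N1454 = N741 := eqes L83526 (flp_d L7215)
theorem L83528 : N1454 = N741 := eqc rfl L83527 rfl
theorem L83529 : sm ge N1481 = N6195 := trfs L83517 L29934 rfl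
theorem L83530 : N6195 = N3049 := eqes L83529 L14707
theorem L83531 : N6195 = N3049 := eqc rfl L83530 rfl
theorem L83533 : sm ga N3049 = N3000 := trfs L83531 L29936 rfl
theorem L83534 : N3000 = N6294 := eqes L83533 (flp_a L30434)
theorem L83535 : N6294 = N3000 := (eqc rfl L83534 rfl).symm
theorem L83536 : sm ga N3000 = N3049 := trfs L83535 L30434 rfl
theorem L83549 : sm gf N741 = N2997 := trfs L83528 L14443 rfl
theorem L83550 : N2997 = N1483 := eqes L83549 L7224
theorem L83551 : N2997 = N1483 := eqc rfl L83550 rfl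
theorem L83563 : sm gg N1483 = N3008 := trfs L83551 (flp_g L14499) rfl
theorem L83564 : N3008 = N3055 := eqes L83563 L14735
theorem L83565 : N3055 = N3008 := (eqc rfl L83564 rfl).symm
theorem L83575 : sm gf N3008 = N3047 := trfs L83565 (flp_f L14738) rfl
theorem L83576 : N3047 = N1458 := eqes L83575 (flp_f L14494)
theorem L83577 : N3047 = N1458 := eqc rfl L83576 rfl
theorem L83587 : sm ge N1458 = N6299 := trfs L83577 (flp_e L30464) rfl
theorem L83588 : N6299 = N3005 := eqes L83587 (flp_e L14482)
theorem L83589 : N6299 = N3005 := eqc rfl L83588 rfl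
theorem L83596 : sm gg N3005 = N3045 := trfs L83589 (flp_g L30459) rfl
theorem L83597 : N3045 = N1456 := eqes L83596 (flp_g L14479)
theorem L83598 : N3045 = N1456 := eqc rfl L83597 rfl
theorem L83605 : sm gd N1456 = N6297 := trfs L83598 L30448 rfl
theorem L83606 : N6297 = N3003 := eqes L83605 L14470
theorem L83607 : N6297 = N3003 := eqc rfl L83606 rfl
theorem L83624 : sm ga N3003 = N3052 := trfs L83607 L30450 rfl
theorem L83625 : N3052 = N6198 := eqes L83624 (flp_a L29952)
theorem L83626 : N6198 = N3052 := (eqc rfl L83625 rfl).symm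
theorem L83627 : sm ga N3052 = N3003 := trfs L83626 L29952 rfl
theorem L83694 : sm ga N3048 = N2999 := trfs L83525 L29932 rfl
theorem L83695 : N2999 = N6293 := eqes L83694 (flp_a L30430)
theorem L83696 : N6293 = N2999 := (eqc rfl L83695 rfl).symm
theorem L83697 : sm ga N2999 = N3048 := trfs L83696 L30430 rfl
theorem L83735 : sm gf N6330 = N6172 := ded_23_2 (flp_d L29820) L82865 (flp_d L30616)
theorem L83739 : sm gg N6232 = N6273 := ded_24_2 (flp_d L30325) L82991 (flp_d L30117)
theorem L83741 : sm gb N6087 = N6148 := ded_14_3 L29724 L83018 (flp_d L29478)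
theorem L83743 : sm gc N8610 = N8563 := ded_19_3 L41496 L83147 (flp_e L41705)
theorem L83747 : sm gg N8609 = N8563 := ded_31_3 (flp_f L41494) (flp_b L19738) (flp_g L9514) L4813 (flp_b L5537) L11115 L75621 L6699 L3573 L6951 L14225 L29500 (flp_f L83433) L83167
theorem L83749 : sm gc N6092 = N6153 := ded_8_2 (flp_a L29738) L83209 L29492
theorem L83755 : sm gb N5933 = N5828 := ded_13_3 (flp_c L28281) (flp_b L28271) L83419 L28745 L28755
theorem L83763 : sm ga N6303 = N6204 := ded_8_3 L29980 L83536 (flp_c L30478)
theorem L83765 : sm ga N6306 = N6207 := ded_9_3 (flp_d L29990) L83536 L30488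
theorem L83771 : sm ga N6213 = N6312 := ded_8_3 (flp_c L30523) L83627 L30025
theorem L83780 : sm ga N6302 = N6203 := ded_9_3 (flp_d L29972) L83697 L30470
theorem L83782 : sm ga N6304 = N6205 := ded_11_3 (flp_f L29982) L83697 L30480
theorem L83786 : sm gf N4805 = N9848 := rfl
theorem L83790 : sm ge N9848 = N4806 := ded_25_1 (flp_f L23217) L23213 L83786
theorem L83801 : sm ga N4832 = N9850 := rfl
theorem L83805 : sm ge N9850 = N4834 := ded_10_2 (flp_a L23359) (flp_e L23347) L83801
theorem L83807 : sm gf N9850 = N4951 := ded_11_2 L83113 (flp_f L23349) L83801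
theorem L83811 : sm ga N4861 = N9851 := rfl
theorem L83813 : sm gc N9851 = N9851 := ded_8_2 (flp_a L83811) L71670 L83811
theorem L83814 : sm gd N9851 = N4863 := ded_9_2 (flp_a L23503) (flp_d L23495) L83811
theorem L83816 : sm ge N4861 = N9852 := rfl
theorem L83818 : sm gb N9852 = N4862 := ded_15_1 (flp_e L23497) L23493 L83816
theorem L83820 : sm gc N9852 = N9852 := ded_19_1 (flp_e L83816) L71670 L83816
theorem L83821 : sm gf N4861 = N9853 := rfl
theorem L83823 : sm gc N9853 = N9853 := ded_20_1 (flp_f L83821) L71670 L83821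
theorem L83824 : sm gd N9853 = N4865 := ded_23_1 (flp_f L23509) (flp_d L23495) L83821
theorem L83826 : sm gg N4861 = N9854 := rfl
theorem L83828 : sm gc N9854 = N9854 := ded_21_1 (flp_g L83826) L71670 L83826
theorem L83829 : sm gd N9854 = N4866 := ded_24_1 (flp_g L23511) (flp_d L23495) L83826
theorem L83831 : sm gd N4862 = N9855 := rfl
theorem L83833 : sm ga N9855 = N4867 := ded_9_1 (flp_d L23513) (flp_a L23499) L83831
theorem L83835 : sm ge N9855 = N4867 := ded_22_2 (flp_d L23513) (flp_e L11328) (flp_d L11318) L23497 L83831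
theorem L83837 : sm gc N9855 = N8522 := ded_28_6 (flp_d L41278) (flp_a L24452) (flp_c L24450) (flp_d L11762) L5825 (flp_d L11324) (flp_c L23501) L83831
theorem L83839 : sm gb N4863 = N9856 := rfl
theorem L83841 : sm ge N4863 = N9857 := rfl
theorem L83843 : sm ga N9857 = N4864 := ded_10_1 (flp_e L23505) L23503 L83841
theorem L83845 : sm gf N4863 = N9858 := rfl
theorem L83847 : sm ga N9858 = N4865 := ded_11_1 (flp_f L23509) L23503 L83845
theorem L83849 : sm gg N4863 = N9859 := rfl
theorem L83851 : sm ga N9859 = N4866 := ded_12_1 (flp_g L23511) L23503 L83849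
theorem L83853 : sm gd N4864 = N9860 := rfl
theorem L83855 : sm gb N9860 = N4867 := ded_14_1 (flp_d L23513) (flp_b L23507) L83853
theorem L83857 : sm gf N4864 = N9861 := rfl
theorem L83859 : sm ge N9861 = N4865 := ded_25_1 (flp_f L23509) L23505 L83857
theorem L83861 : sm gg N4864 = N9862 := rfl
theorem L83863 : sm ge N9862 = N4866 := ded_26_1 (flp_g L23511) L23505 L83861
theorem L83865 : sm gg N4865 = N9863 := rfl
theorem L83867 : sm gf N9859 = N9863 := ded_29_0 (flp_g L83865) (flp_f L23509) L23511 (flp_a L83851)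
theorem L83869 : sm gb N4866 = N9864 := rfl
theorem L83871 : sm gg N9864 = N4869 := ded_17_2 (flp_b L23521) (flp_g L11332) L11326 L23511 L83869
theorem L83873 : sm gf N4866 = N9865 := rfl
theorem L83875 : sm ga N9865 = N9863 := ded_11_1 (flp_f L83867) L83851 L83873
theorem L83877 : sm gg N9865 = N9858 := ded_29_3 L83847 (flp_f L23509) L23511 L83873
theorem L83879 : sm gc N4867 = N9866 := rfl
theorem L83881 : sm ga N9866 = N8522 := ded_8_1 (flp_c L83837) L83833 L83879
theorem L83883 : sm ge N9866 = N8522 := ded_19_2 (flp_c L83837) L83835 L83879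
theorem L83885 : sm gf N9866 = N9855 := ded_20_2 L83837 L41280 L83879
theorem L83887 : sm gd N9866 = N5055 := ded_28_7 L24452 L19595 L9457 L4811 (flp_d L5627) (flp_c L11330) L23513 L83879
theorem L83889 : sm gg N4867 = N9867 := rfl
theorem L83891 : sm gd N9867 = N4868 := ded_24_1 (flp_g L23515) L23513 L83889
theorem L83893 : sm gb N4868 = N9868 := rfl
theorem L83895 : sm ge N9868 = N4869 := ded_15_2 (flp_b L23521) (flp_e L23519) L83893
theorem L83897 : sm gf N4868 = N9869 := rfl
theorem L83899 : sm ga N9869 = N8523 := ded_11_1 (flp_f L41480) L41476 L83897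
theorem L83901 : sm gc N9869 = N4872 := ded_20_1 (flp_f L23539) (flp_c L23517) L83897
theorem L83903 : sm ge N9869 = N4870 := ded_25_1 (flp_f L23523) (flp_e L23519) L83897
theorem L83905 : sm gg N9869 = N5055 := ded_29_3 L24452 L19597 L23515 L83897
theorem L83907 : sm ga N4869 = N9870 := rfl
theorem L83909 : sm gc N4869 = N9871 := rfl
theorem L83911 : sm gb N9871 = N4874 := ded_13_1 (flp_c L23553) (flp_b L11342) (flp_c L11334) L23521 L83909
theorem L83913 : sm gf N4869 = N9872 := rfl
theorem L83915 : sm gb N4870 = N9873 := rfl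
theorem L83917 : sm gd N9873 = N8524 := ded_14_2 (flp_b L41288) (flp_d L23529) L83915
theorem L83919 : sm ga N4871 = N9874 := rfl
theorem L83921 : sm gd N9874 = N4950 := ded_9_2 (flp_a L23978) (flp_d L23535) L83919
theorem L83923 : sm ge N9874 = N4873 := ded_10_2 (flp_a L23549) (flp_e L23537) L83919
theorem L83925 : sm gc N4871 = N9875 := rfl
theorem L83927 : sm ge N9875 = N4874 := ded_19_2 (flp_c L23553) (flp_e L23537) L83925
theorem L83929 : sm gf N4871 = N9876 := rfl
theorem L83935 : sm gb N4872 = N9877 := rfl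
theorem L83937 : sm gd N9877 = N4953 := ded_14_2 (flp_b L23990) (flp_d L23543) L83935
theorem L83939 : sm ge N9877 = N4876 := ded_15_2 (flp_b L23559) (flp_e L23545) L83935
theorem L83941 : sm gb N4873 = N9878 := rfl
theorem L83943 : sm gd N9878 = N4877 := ded_14_2 (flp_b L23563) (flp_d L23551) L83941
theorem L83945 : sm gg N9878 = N8528 := ded_31_3 (flp_f L41302) (flp_b L19609) (flp_g L9459) L4763 (flp_b L5454) L10908 (flp_f L75664) L6517 L3519 L6867 L14048 L29111 L82656 L83941
theorem L83947 : sm gc N4873 = N9879 := rfl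
theorem L83949 : sm ga N9879 = N4874 := ded_8_1 (flp_c L23553) L23549 L83947
theorem L83951 : sm gd N4874 = N9880 := rfl
theorem L83953 : sm gf N4874 = N9881 := rfl
theorem L83955 : sm gc N9881 = N4875 := ded_20_1 (flp_f L23555) L23553 L83953
theorem L83957 : sm gc N4876 = N9882 := rfl
theorem L83959 : sm gg N4876 = N9883 := rfl
theorem L83965 : sm gb N9883 = N5054 := ded_17_1 (flp_g L24445) L11754 (flp_g L11352) L23559 L83959
theorem L83967 : sm ga N4899 = N9884 := rfl
theorem L83969 : sm gc N9884 = N9884 := ded_8_2 (flp_a L83967) L82746 L83967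
theorem L83970 : sm gd N9884 = N4901 := ded_9_2 (flp_a L23707) (flp_d L23699) L83967
theorem L83972 : sm ge N4899 = N9885 := rfl
theorem L83974 : sm gb N9885 = N4900 := ded_15_1 (flp_e L23701) L23697 L83972
theorem L83976 : sm gc N9885 = N9885 := ded_19_1 (flp_e L83972) L82746 L83972
theorem L83977 : sm gf N4899 = N9886 := rfl
theorem L83979 : sm gc N9886 = N9886 := ded_20_1 (flp_f L83977) L82746 L83977
theorem L83980 : sm gd N9886 = N4903 := ded_23_1 (flp_f L23713) (flp_d L23699) L83977
theorem L83982 : sm gg N4899 = N9887 := rfl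
theorem L83984 : sm gc N9887 = N9887 := ded_21_1 (flp_g L83982) L82746 L83982
theorem L83985 : sm gd N9887 = N4904 := ded_24_1 (flp_g L23715) (flp_d L23699) L83982
theorem L83987 : sm gd N4900 = N9888 := rfl
theorem L83989 : sm ga N9888 = N4905 := ded_9_1 (flp_d L23717) (flp_a L23703) L83987
theorem L83991 : sm ge N9888 = N4905 := ded_22_2 (flp_d L23717) (flp_e L11410) (flp_d L11400) L23701 L83987
theorem L83993 : sm gc N9888 = N8549 := ded_28_6 (flp_d L41414) L65484 (flp_c L24690) (flp_d L11875) L5869 (flp_d L11406) (flp_c L23705) L83987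
theorem L83995 : sm gb N4901 = N9889 := rfl
theorem L83997 : sm ge N4901 = N9890 := rfl
theorem L83999 : sm ga N9890 = N4902 := ded_10_1 (flp_e L23709) L23707 L83997
theorem L84001 : sm gf N4901 = N9891 := rfl
theorem L84003 : sm ga N9891 = N4903 := ded_11_1 (flp_f L23713) L23707 L84001
theorem L84005 : sm gg N4901 = N9892 := rfl
theorem L84007 : sm ga N9892 = N4904 := ded_12_1 (flp_g L23715) L23707 L84005
theorem L84009 : sm gd N4902 = N9893 := rfl
theorem L84011 : sm gb N9893 = N4905 := ded_14_1 (flp_d L23717) (flp_b L23711) L84009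
theorem L84013 : sm gf N4902 = N9894 := rfl
theorem L84015 : sm ge N9894 = N4903 := ded_25_1 (flp_f L23713) L23709 L84013
theorem L84017 : sm gg N4902 = N9895 := rfl
theorem L84019 : sm ge N9895 = N4904 := ded_26_1 (flp_g L23715) L23709 L84017
theorem L84021 : sm gb N4903 = N9896 := rfl
theorem L84023 : sm gf N9896 = N4907 := ded_16_2 (flp_b L23725) (flp_f L11414) L11408 L23713 L84021
theorem L84025 : sm gg N4903 = N9897 := rfl
theorem L84027 : sm gf N9892 = N9897 := ded_29_0 (flp_g L84025) (flp_f L23713) L23715 (flp_a L84007)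
theorem L84029 : sm gf N4904 = N9898 := rfl
theorem L84031 : sm ga N9898 = N9897 := ded_11_1 (flp_f L84027) L84007 L84029
theorem L84033 : sm gg N9898 = N9891 := ded_29_3 L84003 (flp_f L23713) L23715 L84029
theorem L84035 : sm gc N4905 = N9899 := rfl
theorem L84037 : sm ga N9899 = N8549 := ded_8_1 (flp_c L83993) L83989 L84035
theorem L84039 : sm ge N9899 = N8549 := ded_19_2 (flp_c L83993) L83991 L84035
theorem L84041 : sm gg N9899 = N9888 := ded_21_2 L83993 L41416 L84035
theorem L84043 : sm gd N9899 = N5103 := ded_28_7 (flp_a L65484) L19682 L9492 L65482 (flp_d L5667) (flp_c L11412) L23717 L84035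
theorem L84045 : sm gf N4905 = N9900 := rfl
theorem L84047 : sm gd N9900 = N4906 := ded_23_1 (flp_f L23719) L23717 L84045
theorem L84049 : sm gb N4906 = N9901 := rfl
theorem L84051 : sm ge N9901 = N4907 := ded_15_2 (flp_b L23725) (flp_e L23723) L84049
theorem L84053 : sm gg N4906 = N9902 := rfl
theorem L84055 : sm ga N9902 = N8550 := ded_12_1 L41424 L41328 L84053
theorem L84057 : sm gc N9902 = N4910 := ded_21_1 (flp_g L23743) (flp_c L23721) L84053
theorem L84059 : sm ge N9902 = N4908 := ded_26_1 (flp_g L23727) (flp_e L23723) L84053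
theorem L84061 : sm gf N5103 = N9902 := ded_29_0 (flp_g L84053) (flp_f L23719) (flp_g L19684) L65484
theorem L84063 : sm ga N4907 = N9903 := rfl
theorem L84065 : sm gc N4907 = N9904 := rfl
theorem L84067 : sm gb N9904 = N4912 := ded_13_1 (flp_c L23757) (flp_b L11424) (flp_c L11416) L23725 L84065
theorem L84069 : sm gg N4907 = N9905 := rfl
theorem L84071 : sm gb N4908 = N9906 := rfl
theorem L84073 : sm gd N9906 = N8551 := ded_14_2 (flp_b L41426) (flp_d L23733) L84071
theorem L84075 : sm ga N4909 = N9907 := rfl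
theorem L84077 : sm gd N9907 = N4951 := ded_9_2 L83113 (flp_d L23739) L84075
theorem L84079 : sm ge N9907 = N4911 := ded_10_2 (flp_a L23753) (flp_e L23741) L84075
theorem L84081 : sm gc N4909 = N9908 := rfl
theorem L84083 : sm ge N9908 = N4912 := ded_19_2 (flp_c L23757) (flp_e L23741) L84081
theorem L84085 : sm gg N4909 = N9909 := rfl
theorem L84089 : sm ge N9909 = N4913 := ded_26_1 (flp_g L23759) (flp_e L23741) L84085
theorem L84091 : sm gb N4910 = N9910 := rfl
theorem L84095 : sm ge N9910 = N4914 := ded_15_2 (flp_b L23763) (flp_e L23749) L84091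
theorem L84097 : sm gb N4911 = N9911 := rfl
theorem L84099 : sm gd N9911 = N4915 := ded_14_2 (flp_b L23767) (flp_d L23755) L84097
theorem L84101 : sm gf N8555 = N9911 := ded_31_1 (flp_b L84097) (flp_g L82709) (flp_f L29281) (flp_b L14126) (flp_g L6904) L3546 (flp_b L6592) (flp_g L77752) (flp_f L10980) L5490 (flp_g L4789) L9494 L19700 L41440
theorem L84103 : sm gc N4911 = N9912 := rfl
theorem L84105 : sm ga N9912 = N4912 := ded_8_1 (flp_c L23757) L23753 L84103
theorem L84107 : sm gd N4912 = N9913 := rfl
theorem L84109 : sm gg N4912 = N9914 := rfl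
theorem L84111 : sm gc N9914 = N4913 := ded_21_1 (flp_g L23759) L23757 L84109
theorem L84113 : sm gc N4914 = N9915 := rfl
theorem L84115 : sm gf N4914 = N9916 := rfl
theorem L84119 : sm gg N6020 = N9916 := ded_29_1 (flp_f L84115) (flp_g L72229) L29145 L29167
theorem L84121 : sm gb N9916 = N5093 := ded_16_1 (flp_f L24645) L11847 L65647 L23763 L84115
theorem L84123 : sm gc N4953 = N9917 := rfl
theorem L84125 : sm ge N9917 = N4962 := ded_19_2 (flp_c L24036) (flp_e L23992) L84123
theorem L84127 : sm gb N9917 = N8510 := ded_13_1 L41226 L19571 (flp_c L11523) L23990 L84123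
theorem L84129 : sm gg N4953 = N9918 := rfl
theorem L84135 : sm gb N9918 = N5052 := ded_17_1 (flp_g L24438) L11745 (flp_g L11527) L23990 L84129
theorem L84137 : sm gd N4962 = N9919 := rfl
theorem L84141 : sm gg N4962 = N9920 := rfl
theorem L84145 : sm gf N9920 = N6059 := ded_29_2 (flp_g L29353) (flp_a L29321) (flp_f L83313) L84141
theorem L84148 : sm gc N5020 = N9921 := rfl
theorem L84150 : sm ge N9921 = N5029 := ded_19_2 (flp_c L24328) (flp_e L24286) L84148
theorem L84162 : sm gd N5029 = N9923 := rfl
theorem L84164 : sm gb N9923 = N8434 := ded_14_1 (flp_d L40825) (flp_b L65520) L84162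
theorem L84166 : sm gf N5029 = N9924 := rfl
theorem L84170 : sm gg N6119 = N9924 := ded_29_1 (flp_f L84166) (flp_g L72223) L29560 L29588
theorem L84173 : sm gc N5051 = N9925 := rfl
theorem L84175 : sm ga N9925 = N9925 := ded_8_1 (flp_c L84173) L71672 L84173
theorem L84176 : sm ge N9925 = N5053 := ded_19_2 (flp_c L24443) (flp_e L24436) L84173
theorem L84178 : sm gf N9925 = N9925 := ded_20_2 (flp_c L84173) L71675 L84173
theorem L84179 : sm gg N5051 = N9926 := rfl
theorem L84184 : sm ge N9926 = N5054 := ded_26_1 (flp_g L24445) (flp_e L24436) L84179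
theorem L84187 : sm gb N5053 = N9927 := rfl
theorem L84189 : sm gc N9927 = N5056 := ded_13_2 (flp_b L24458) (flp_c L11770) (flp_b L11754) L24443 L84187
theorem L84191 : sm gd N5053 = N9928 := rfl
theorem L84193 : sm ga N9928 = N9928 := ded_9_1 (flp_d L84191) L71671 L84191
theorem L84194 : sm gf N9928 = N9928 := ded_23_2 (flp_d L84191) L71674 L84191
theorem L84195 : sm gc N9928 = N9928 := ded_28_0 (flp_d L84191) (flp_c L24443) (flp_d L11752) L5816 L11752 L24443 L84191 L84193
theorem L84196 : sm gg N5053 = N9929 := rfl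
theorem L84198 : sm ga N9929 = N9929 := ded_12_1 (flp_g L84196) L71671 L84196
theorem L84199 : sm gc N9929 = N5054 := ded_21_1 (flp_g L24445) L24443 L84196
theorem L84201 : sm gf N9929 = N9929 := ded_29_0 (flp_g L84196) L71674 L84196 L84198
theorem L84202 : sm gb N5055 = N9930 := rfl
theorem L84204 : sm ge N9930 = N5056 := ded_15_2 (flp_b L24458) (flp_e L24454) L84202
theorem L84206 : sm ga N5056 = N9931 := rfl
theorem L84208 : sm gd N9931 = N8518 := ded_9_2 (flp_a L41266) (flp_d L24460) L84206
theorem L84210 : sm gf N5056 = N9932 := rfl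
theorem L84212 : sm gd N9932 = N8520 := ded_23_1 (flp_f L41272) (flp_d L24460) L84210
theorem L84214 : sm gb N9932 = N9853 := ded_16_1 (flp_f L83821) (flp_b L23493) (flp_f L11774) L24458 L84210
theorem L84216 : sm gg N5056 = N9933 := rfl
theorem L84218 : sm gd N9933 = N8521 := ded_24_1 (flp_g L41276) (flp_d L24460) L84216
theorem L84220 : sm gc N5086 = N9934 := rfl
theorem L84222 : sm ga N9934 = N9934 := ded_8_1 (flp_c L84220) L82748 L84220
theorem L84223 : sm ge N9934 = N5092 := ded_19_2 (flp_c L24643) (flp_e L24613) L84220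
theorem L84225 : sm gg N9934 = N9934 := ded_21_2 (flp_c L84220) L82751 L84220
theorem L84226 : sm gf N5086 = N9935 := rfl
theorem L84231 : sm ge N9935 = N5093 := ded_25_1 (flp_f L24645) (flp_e L24613) L84226
theorem L84234 : sm gb N5092 = N9936 := rfl
theorem L84236 : sm gc N9936 = N5109 := ded_13_2 (flp_b L24720) (flp_c L11893) (flp_b L11847) L24643 L84234
theorem L84238 : sm gd N5092 = N9937 := rfl
theorem L84240 : sm ga N9937 = N9937 := ded_9_1 (flp_d L84238) L82747 L84238
theorem L84241 : sm gg N9937 = N9937 := ded_24_2 (flp_d L84238) L82750 L84238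
theorem L84242 : sm gc N9937 = N9937 := ded_28_0 (flp_d L84238) (flp_c L24643) (flp_d L11845) L5858 L11845 L24643 L84238 L84240
theorem L84243 : sm gf N5092 = N9938 := rfl
theorem L84245 : sm ga N9938 = N9938 := ded_11_1 (flp_f L84243) L82747 L84243
theorem L84246 : sm gc N9938 = N5093 := ded_20_1 (flp_f L24645) L24643 L84243
theorem L84248 : sm gg N9938 = N9938 := ded_29_3 L84245 (flp_f L84243) L82750 L84243
theorem L84249 : sm gb N5103 = N9939 := rfl
theorem L84251 : sm ge N9939 = N5109 := ded_15_2 (flp_b L24720) (flp_e L24694) L84249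
theorem L84253 : sm ga N5109 = N9940 := rfl
theorem L84255 : sm gd N9940 = N8545 := ded_9_2 (flp_a L41402) (flp_d L65450) L84253
theorem L84257 : sm gf N5109 = N9941 := rfl
theorem L84259 : sm gd N9941 = N8547 := ded_23_1 (flp_f L41408) (flp_d L65450) L84257
theorem L84261 : sm gg N5109 = N9942 := rfl
theorem L84263 : sm gd N9942 = N8548 := ded_24_1 (flp_g L41410) (flp_d L65450) L84261
theorem L84265 : sm gb N9942 = N9887 := ded_17_1 (flp_g L83982) (flp_b L23697) L65461 L24720 L84261
theorem L84267 : sm gc N5140 = N9943 := rfl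
theorem L84269 : sm ga N9943 = N5141 := ded_8_1 (flp_c L24864) L24860 L84267
theorem L84271 : sm ge N9943 = N5493 := ded_19_2 (flp_c L26648) (flp_e L24862) L84267
theorem L84273 : sm gd N5140 = N9944 := rfl
theorem L84275 : sm ga N9944 = N5142 := ded_9_1 (flp_d L24869) L24860 L84273
theorem L84277 : sm gf N5140 = N9945 := rfl
theorem L84279 : sm ga N9945 = N5143 := ded_11_1 (flp_f L24873) L24860 L84277
theorem L84281 : sm ge N9945 = N5494 := ded_25_1 (flp_f L26652) (flp_e L24862) L84277
theorem L84283 : sm gg N5140 = N9946 := rfl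
theorem L84285 : sm ga N9946 = N5144 := ded_12_1 (flp_g L24877) L24860 L84283
theorem L84287 : sm ge N9946 = N5495 := ded_26_1 (flp_g L26656) (flp_e L24862) L84283
theorem L84289 : sm gd N5141 = N9947 := rfl
theorem L84291 : sm gb N9947 = N9947 := ded_14_1 (flp_d L84289) L24868 L84289
theorem L84292 : sm gf N5141 = N9948 := rfl
theorem L84294 : sm gc N9948 = N5143 := ded_20_1 (flp_f L24873) L24864 L84292
theorem L84296 : sm ge N9948 = N5497 := ded_25_1 (flp_f L26663) (flp_e L24866) L84292
theorem L84298 : sm gg N5141 = N9949 := rfl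
theorem L84300 : sm gc N9949 = N5144 := ded_21_1 (flp_g L24877) L24864 L84298
theorem L84302 : sm ge N9949 = N5498 := ded_26_1 (flp_g L26667) (flp_e L24866) L84298
theorem L84304 : sm gc N5142 = N9950 := rfl
theorem L84306 : sm gf N5142 = N9951 := rfl
theorem L84308 : sm gd N9951 = N5143 := ded_23_1 (flp_f L24873) L24869 L84306
theorem L84310 : sm gg N5142 = N9952 := rfl
theorem L84312 : sm gd N9952 = N5144 := ded_24_1 (flp_g L24877) L24869 L84310
theorem L84314 : sm gb N5143 = N9953 := rfl
theorem L84316 : sm ge N9953 = N5499 := ded_15_2 (flp_b L26671) (flp_e L24875) L84314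
theorem L84318 : sm gf N9953 = N5148 := ded_16_2 (flp_b L24897) (flp_f L11976) L11968 L24873 L84314
theorem L84320 : sm gg N5143 = N9954 := rfl
theorem L84322 : sm ge N9954 = N5500 := ded_26_1 (flp_g L26675) (flp_e L24875) L84320
theorem L84324 : sm gf N9946 = N9954 := ded_29_0 (flp_g L84320) (flp_f L24873) L24877 (flp_a L84285)
theorem L84326 : sm gb N5144 = N9955 := rfl
theorem L84328 : sm ge N9955 = N5501 := ded_15_2 (flp_b L26679) (flp_e L24879) L84326
theorem L84330 : sm gg N9955 = N5149 := ded_17_2 (flp_b L24901) (flp_g L11983) L11968 L24877 L84326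
theorem L84332 : sm gf N5144 = N9956 := rfl
theorem L84334 : sm ga N9956 = N9954 := ded_11_1 (flp_f L84324) L84285 L84332
theorem L84336 : sm ge N9956 = N5502 := ded_25_1 (flp_f L26683) (flp_e L24879) L84332
theorem L84338 : sm gg N9956 = N9945 := ded_29_3 L84279 (flp_f L24873) L24877 L84332
theorem L84340 : sm gb N5145 = N9957 := rfl
theorem L84342 : sm gd N5145 = N9958 := rfl
theorem L84344 : sm ga N9958 = N5150 := ded_9_1 (flp_d L24905) (flp_a L24883) L84342
theorem L84346 : sm ge N9958 = N9958 := ded_22_2 (flp_d L84342) (flp_e L45132) L72264 L45132 L84342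
theorem L84347 : sm gc N5150 = N9958 := ded_28_0 (flp_d L84342) (flp_c L24881) (flp_d L11972) L5941 L11972 L24881 L84342 L84344
theorem L84349 : sm gc N7661 = N9947 := ded_32_17 (flp_d L84289) (flp_c L24864) (flp_b L11968) L11972 L24881 L84342 (flp_c L84347) L24907 L72267 (flp_d L24905) (flp_c L11990) (flp_d L5944) L3102 (flp_b L3098) L3103 L3105 (flp_d L3103) (flp_c L1595) L784 (flp_d L782) (flp_c L655) L1396 L2729 L5263 L10467 L21720 L71937 (flp_c L21720) L10469 (flp_d L5267) (flp_c L2729) (flp_d L1396) L655 L353 (flp_e L351) (flp_d L157) (flp_c L80) (flp_d L40) L29 (flp_b L26) L30 L35 (flp_d L30) (flp_c L20) L16 (flp_d L13) L10 L13 L20 L26 L40 L80 L157 L283 (flp_b L640) (flp_d L638) (flp_c L546) L1168 L2262 L58500 L4345 L8511 L17471 (flp_d L72368) L71912 (flp_b L36475) (flp_d L72368) L71912 L72368 (flp_c L17471) L62414 (flp_d L8511) L4349 L4391 L8587 L17635 L36794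
theorem L84351 : N9944 = N7999 := coi_28_2 (flp_c L38680) (flp_d L18393) (flp_c L17639) L36794 L84349 (flp_d L84289) (flp_a L84269) (flp_c L84267) L84273
theorem L84352 : N9944 = N7999 := eqc rfl L84351 rfl
theorem L84353 : sm ga N7999 = N5142 := trfs L84352 L84275 rfl
theorem L84355 : sm gd N7999 = N5140 := trfs L84352 (flp_d L84273) rfl
theorem L84357 : N7996 = N9950 := coi_28_0 (flp_c L84304) (flp_d L24869) L24864 L84289 (flp_c L84349) (flp_d L36794) L17639 L18393 (flp_a L38666)
theorem L84358 : N9950 = N7996 := (eqc rfl L84357 rfl).symm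
theorem L84359 : sm gc N7996 = N5142 := trfs L84358 (flp_c L84304) rfl
theorem L84361 : sm gf N5145 = N9959 := rfl
theorem L84363 : sm ga N9959 = N5151 := ded_11_1 (flp_f L24908) (flp_a L24883) L84361
theorem L84365 : sm gc N9959 = N5146 := ded_20_1 (flp_f L24885) L24881 L84361
theorem L84367 : sm gg N5145 = N9960 := rfl
theorem L84369 : sm ga N9960 = N5152 := ded_12_1 (flp_g L24912) (flp_a L24883) L84367
theorem L84371 : sm gc N9960 = N5147 := ded_21_1 (flp_g L24891) L24881 L84367
theorem L84373 : sm gb N5146 = N9961 := rfl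
theorem L84375 : sm gd N9961 = N5148 := ded_14_2 (flp_b L24897) (flp_d L24889) L84373
theorem L84377 : sm gb N5147 = N9962 := rfl
theorem L84379 : sm gd N9962 = N5149 := ded_14_2 (flp_b L24901) (flp_d L24895) L84377
theorem L84381 : sm ga N5148 = N9963 := rfl
theorem L84383 : sm ge N9963 = N5503 := ded_10_2 (flp_a L26689) (flp_e L24899) L84381
theorem L84385 : sm gc N5148 = N9964 := rfl
theorem L84387 : sm ge N9964 = N5504 := ded_19_2 (flp_c L26691) (flp_e L24899) L84385
theorem L84389 : sm gb N9964 = N9964 := ded_13_1 (flp_c L84385) (flp_b L24897) L11980 L24897 L84385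
theorem L84390 : sm gg N5148 = N9965 := rfl
theorem L84392 : sm ge N9965 = N5505 := ded_26_1 (flp_g L26694) (flp_e L24899) L84390
theorem L84394 : sm ga N5149 = N9966 := rfl
theorem L84396 : sm ge N9966 = N5506 := ded_10_2 (flp_a L26696) (flp_e L24903) L84394
theorem L84398 : sm gc N5149 = N9967 := rfl
theorem L84400 : sm ge N9967 = N5507 := ded_19_2 (flp_c L26698) (flp_e L24903) L84398
theorem L84402 : sm gb N9967 = N9967 := ded_13_1 (flp_c L84398) (flp_b L24901) L11987 L24901 L84398
theorem L84403 : sm gf N5149 = N9968 := rfl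
theorem L84405 : sm ge N9968 = N5508 := ded_25_1 (flp_f L26701) (flp_e L24903) L84403
theorem L84407 : sm gf N5150 = N9969 := rfl
theorem L84409 : sm gd N9969 = N5151 := ded_23_1 (flp_f L24908) L24905 L84407
theorem L84411 : sm ge N9969 = N9969 := ded_25_1 (flp_f L84407) L72267 L84407
theorem L84412 : sm gg N5150 = N9970 := rfl
theorem L84414 : sm gd N9970 = N5152 := ded_24_1 (flp_g L24912) L24905 L84412
theorem L84416 : sm ge N9970 = N9970 := ded_26_1 (flp_g L84412) L72267 L84412
theorem L84417 : sm gb N5151 = N9971 := rfl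
theorem L84419 : sm gf N9971 = N9971 := ded_16_2 (flp_b L84417) (flp_f L24908) L11992 L24908 L84417
theorem L84420 : sm gg N5151 = N9972 := rfl
theorem L84422 : sm gc N9972 = N5154 := ded_21_1 (flp_g L24922) (flp_c L24910) L84420
theorem L84424 : sm gf N9960 = N9972 := ded_29_0 (flp_g L84420) (flp_f L24908) L24912 (flp_a L84369)
theorem L84426 : sm gb N5152 = N9973 := rfl
theorem L84428 : sm gg N9973 = N9973 := ded_17_2 (flp_b L84426) (flp_g L24912) L11992 L24912 L84426
theorem L84429 : sm gf N5152 = N9974 := rfl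
theorem L84431 : sm ga N9974 = N9972 := ded_11_1 (flp_f L84424) L84369 L84429
theorem L84433 : sm gc N9974 = N5156 := ded_20_1 (flp_f L24934) (flp_c L24914) L84429
theorem L84435 : sm gg N9974 = N9959 := ded_29_3 L84363 (flp_f L24908) L24912 L84429
theorem L84437 : sm ga N5153 = N9975 := rfl
theorem L84439 : sm gd N9975 = N5157 := ded_9_2 (flp_a L24942) (flp_d L24918) L84437
theorem L84441 : sm gf N9975 = N5165 := ded_11_2 (flp_a L24984) (flp_f L24920) L84437
theorem L84443 : sm gc N5153 = N9976 := rfl
theorem L84445 : sm gf N9976 = N5166 := ded_20_2 (flp_c L24988) (flp_f L24920) L84443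
theorem L84447 : sm gg N5153 = N9977 := rfl
theorem L84449 : sm gd N9977 = N5159 := ded_24_1 (flp_g L24955) (flp_d L24918) L84447
theorem L84451 : sm gb N5154 = N9978 := rfl
theorem L84453 : sm gd N9978 = N5160 := ded_14_2 (flp_b L24959) (flp_d L24924) L84451
theorem L84455 : sm ga N5155 = N9979 := rfl
theorem L84457 : sm gd N9979 = N5161 := ded_9_2 (flp_a L24963) (flp_d L24930) L84455
theorem L84459 : sm gg N9979 = N5169 := ded_12_2 (flp_a L24999) (flp_g L24932) L84455
theorem L84461 : sm gc N5155 = N9980 := rfl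
theorem L84463 : sm gg N9980 = N5170 := ded_21_2 (flp_c L25003) (flp_g L24932) L84461
theorem L84465 : sm gf N5155 = N9981 := rfl
theorem L84467 : sm gd N9981 = N5163 := ded_23_1 (flp_f L24976) (flp_d L24930) L84465
theorem L84469 : sm gb N5156 = N9982 := rfl
theorem L84471 : sm gd N9982 = N5164 := ded_14_2 (flp_b L24980) (flp_d L24938) L84469
theorem L84473 : sm gb N5157 = N9983 := rfl
theorem L84475 : sm ge N9983 = N5509 := ded_15_2 (flp_b L26703) (flp_e L24944) L84473
theorem L84477 : sm gc N5157 = N9984 := rfl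
theorem L84479 : sm ga N9984 = N5158 := ded_8_1 (flp_c L24948) L24942 L84477
theorem L84481 : sm ge N9984 = N5510 := ded_19_2 (flp_c L26705) (flp_e L24944) L84477
theorem L84483 : sm gf N9984 = N5174 := ded_20_2 (flp_c L25020) (flp_f L24946) L84477
theorem L84485 : sm gd N5158 = N9985 := rfl
theorem L84487 : sm gb N9985 = N9985 := ded_14_1 (flp_d L84485) L24954 L84485
theorem L84488 : sm gf N9985 = N5176 := ded_23_2 (flp_d L25034) (flp_f L24952) L84485
theorem L84490 : sm gg N5158 = N9986 := rfl
theorem L84492 : sm gc N9986 = N5159 := ded_21_1 (flp_g L24955) L24948 L84490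
theorem L84494 : sm ge N9986 = N5512 := ded_26_1 (flp_g L26716) (flp_e L24950) L84490
theorem L84496 : sm gb N5159 = N9987 := rfl
theorem L84498 : sm ge N9987 = N5513 := ded_15_2 (flp_b L26720) (flp_e L24957) L84496
theorem L84500 : sm gg N9987 = N5160 := ded_17_2 (flp_b L24959) (flp_g L12007) L12001 L24955 L84496
theorem L84502 : sm ga N5160 = N9988 := rfl
theorem L84504 : sm ge N9988 = N5514 := ded_10_2 (flp_a L26724) (flp_e L24961) L84502
theorem L84506 : sm gc N5160 = N9989 := rfl
theorem L84508 : sm ge N9989 = N5515 := ded_19_2 (flp_c L26726) (flp_e L24961) L84506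
theorem L84510 : sm gb N9989 = N9989 := ded_13_1 (flp_c L84506) (flp_b L24959) L12009 L24959 L84506
theorem L84511 : sm gf N5160 = N9990 := rfl
theorem L84513 : sm ge N9990 = N5516 := ded_25_1 (flp_f L26729) (flp_e L24961) L84511
theorem L84515 : sm gb N9990 = N9968 := ded_16_1 (flp_f L84403) (flp_b L24901) L12012 L24959 L84511
theorem L84517 : sm gb N5161 = N9991 := rfl
theorem L84519 : sm ge N9991 = N5517 := ded_15_2 (flp_b L26733) (flp_e L24965) L84517
theorem L84521 : sm gc N5161 = N9992 := rfl
theorem L84523 : sm ga N9992 = N5162 := ded_8_1 (flp_c L24969) L24963 L84521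
theorem L84525 : sm ge N9992 = N5518 := ded_19_2 (flp_c L26735) (flp_e L24965) L84521
theorem L84527 : sm gg N9992 = N5184 := ded_21_2 (flp_c L25078) (flp_g L24967) L84521
theorem L84529 : sm gd N5162 = N9993 := rfl
theorem L84531 : sm gb N9993 = N9993 := ded_14_1 (flp_d L84529) L24975 L84529
theorem L84532 : sm gg N9993 = N5186 := ded_24_2 (flp_d L25092) (flp_g L24973) L84529
theorem L84534 : sm gf N5162 = N9994 := rfl
theorem L84536 : sm gc N9994 = N5163 := ded_20_1 (flp_f L24976) L24969 L84534
theorem L84538 : sm ge N9994 = N5520 := ded_25_1 (flp_f L26746) (flp_e L24971) L84534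
theorem L84540 : sm gb N5163 = N9995 := rfl
theorem L84542 : sm ge N9995 = N5521 := ded_15_2 (flp_b L26750) (flp_e L24978) L84540
theorem L84544 : sm gf N9995 = N5164 := ded_16_2 (flp_b L24980) (flp_f L12020) L12014 L24976 L84540
theorem L84546 : sm ga N5164 = N9996 := rfl
theorem L84548 : sm ge N9996 = N5522 := ded_10_2 (flp_a L26754) (flp_e L24982) L84546
theorem L84550 : sm gc N5164 = N9997 := rfl
theorem L84552 : sm ge N9997 = N5523 := ded_19_2 (flp_c L26756) (flp_e L24982) L84550
theorem L84554 : sm gb N9997 = N9997 := ded_13_1 (flp_c L84550) (flp_b L24980) L12024 L24980 L84550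
theorem L84555 : sm gg N5164 = N9998 := rfl
theorem L84557 : sm ge N9998 = N5524 := ded_26_1 (flp_g L26759) (flp_e L24982) L84555
theorem L84559 : sm gb N9998 = N9965 := ded_17_1 (flp_g L84390) (flp_b L24897) (flp_g L12027) L24980 L84555
theorem L84561 : sm gb N5165 = N9999 := rfl
theorem L84563 : sm gd N9999 = N5173 := ded_14_2 (flp_b L25016) (flp_d L24986) L84561
theorem L84565 : sm gc N5165 = N10000 := rfl
theorem L84567 : sm ga N10000 = N5166 := ded_8_1 (flp_c L24988) L24984 L84565
theorem L84569 : sm gg N5165 = N10001 := rfl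
theorem L84571 : sm ga N10001 = N5167 := ded_12_1 (flp_g L24991) L24984 L84569
theorem L84573 : sm gd N10001 = N5175 := ded_24_1 (flp_g L25026) (flp_d L24986) L84569
theorem L84575 : sm gf N10001 = N9977 := ded_29_2 (flp_g L84447) L84437 L84441 L84569
theorem L84577 : sm gd N5166 = N10002 := rfl
theorem L84579 : sm gb N10002 = N10002 := ded_14_1 (flp_d L84577) L24990 L84577
theorem L84580 : sm gg N5166 = N10003 := rfl
theorem L84582 : sm gc N10003 = N5167 := ded_21_1 (flp_g L24991) L24988 L84580
theorem L84584 : sm gb N5167 = N10004 := rfl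
theorem L84586 : sm gd N10004 = N5178 := ded_14_2 (flp_b L25044) (flp_d L24993) L84584
theorem L84588 : sm gg N10004 = N5168 := ded_17_2 (flp_b L24995) (flp_g L12033) L12029 L24991 L84584
theorem L84590 : sm gf N5167 = N10005 := rfl
theorem L84592 : sm ga N10005 = N9977 := ded_11_1 (flp_f L84575) L84571 L84590
theorem L84594 : sm gd N10005 = N5179 := ded_23_1 (flp_f L25050) (flp_d L24993) L84590
theorem L84596 : sm gg N10005 = N9975 := ded_29_3 (flp_a L84437) L24920 L24991 L84590
theorem L84598 : sm ga N5168 = N10006 := rfl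
theorem L84600 : sm gd N10006 = N5180 := ded_9_2 (flp_a L25058) (flp_d L24997) L84598
theorem L84602 : sm gc N5168 = N10007 := rfl
theorem L84604 : sm gb N10007 = N10007 := ded_13_1 (flp_c L84602) (flp_b L24995) L12035 L24995 L84602
theorem L84605 : sm gf N5168 = N10008 := rfl
theorem L84607 : sm gd N10008 = N5182 := ded_23_1 (flp_f L25068) (flp_d L24997) L84605
theorem L84609 : sm gb N10008 = N9330 := ded_16_1 (flp_f L45275) (flp_b L21769) L12038 L24995 L84605
theorem L84611 : sm gb N5169 = N10009 := rfl
theorem L84613 : sm gd N10009 = N5183 := ded_14_2 (flp_b L25074) (flp_d L25001) L84611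
theorem L84615 : sm gc N5169 = N10010 := rfl
theorem L84617 : sm ga N10010 = N5170 := ded_8_1 (flp_c L25003) L24999 L84615
theorem L84619 : sm gf N5169 = N10011 := rfl
theorem L84621 : sm ga N10011 = N5171 := ded_11_1 (flp_f L25006) L24999 L84619
theorem L84623 : sm gd N10011 = N5185 := ded_23_1 (flp_f L25084) (flp_d L25001) L84619
theorem L84625 : sm gg N9981 = N10011 := ded_29_1 (flp_f L84619) (flp_g L84459) (flp_a L84455) L84465
theorem L84627 : sm gd N5170 = N10012 := rfl
theorem L84629 : sm gb N10012 = N10012 := ded_14_1 (flp_d L84627) L25005 L84627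
theorem L84630 : sm gf N5170 = N10013 := rfl
theorem L84632 : sm gc N10013 = N5171 := ded_20_1 (flp_f L25006) L25003 L84630
theorem L84634 : sm gb N5171 = N10014 := rfl
theorem L84636 : sm gd N10014 = N5188 := ded_14_2 (flp_b L25102) (flp_d L25008) L84634
theorem L84638 : sm ge N10014 = N10008 := ded_15_2 L84609 L45279 L84634
theorem L84640 : sm gf N10014 = N5172 := ded_16_2 (flp_b L25010) (flp_f L12044) L12040 L25006 L84634
theorem L84642 : sm gg N5171 = N10015 := rfl
theorem L84644 : sm ga N10015 = N9981 := ded_12_1 L84625 L84621 L84642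
theorem L84646 : sm gd N10015 = N5189 := ded_24_1 (flp_g L25108) (flp_d L25008) L84642
theorem L84648 : sm gf N9979 = N10015 := ded_29_0 (flp_g L84642) (flp_f L25006) (flp_g L24932) L84455
theorem L84650 : sm ga N5172 = N10016 := rfl
theorem L84652 : sm gd N10016 = N5190 := ded_9_2 (flp_a L25116) (flp_d L25012) L84650
theorem L84654 : sm ge N10016 = N10006 := ded_10_2 (flp_a L84598) (flp_e L25014) L84650
theorem L84656 : sm gc N5172 = N10017 := rfl
theorem L84658 : sm ge N10017 = N10007 := ded_19_2 (flp_c L84602) (flp_e L25014) L84656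
theorem L84660 : sm gb N10017 = N10017 := ded_13_1 (flp_c L84656) (flp_b L25010) L12048 L25010 L84656
theorem L84661 : sm gg N5172 = N10018 := rfl
theorem L84663 : sm gd N10018 = N5192 := ded_24_1 (flp_g L25126) (flp_d L25012) L84661
theorem L84665 : sm ge N10018 = N10004 := ded_26_1 L84588 (flp_e L25014) L84661
theorem L84667 : sm gb N10018 = N9327 := ded_17_1 (flp_g L45258) (flp_b L21763) (flp_g L12053) L25010 L84661
theorem L84669 : sm ga N5173 = N10019 := rfl
theorem L84671 : sm ge N10019 = N5525 := ded_10_2 (flp_a L26763) (flp_e L25018) L84669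
theorem L84673 : sm gc N5173 = N10020 := rfl
theorem L84675 : sm ge N10020 = N5526 := ded_19_2 (flp_c L26765) (flp_e L25018) L84673
theorem L84677 : sm gf N5173 = N10021 := rfl
theorem L84679 : sm ge N10021 = N5527 := ded_25_1 (flp_f L26767) (flp_e L25018) L84677
theorem L84681 : sm gg N5173 = N10022 := rfl
theorem L84683 : sm ge N10022 = N5528 := ded_26_1 (flp_g L26769) (flp_e L25018) L84681
theorem L84685 : sm gb N5174 = N10023 := rfl
theorem L84687 : sm ge N10023 = N5529 := ded_15_2 (flp_b L26771) (flp_e L25024) L84685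
theorem L84689 : sm gd N5174 = N10024 := rfl
theorem L84691 : sm ga N10024 = N5176 := ded_9_1 (flp_d L25034) (flp_a L25022) L84689
theorem L84693 : sm gg N5174 = N10025 := rfl
theorem L84695 : sm ga N10025 = N5177 := ded_12_1 (flp_g L25038) (flp_a L25022) L84693
theorem L84697 : sm gc N10025 = N5175 := ded_21_1 (flp_g L25026) L25020 L84693
theorem L84699 : sm ge N10025 = N5531 := ded_26_1 (flp_g L26777) (flp_e L25024) L84693
theorem L84701 : sm gf N10025 = N9986 := ded_29_2 (flp_g L84490) (flp_a L84479) L84483 L84693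
theorem L84703 : sm gb N5175 = N10026 := rfl
theorem L84705 : sm ge N10026 = N5532 := ded_15_2 (flp_b L26785) (flp_e L25030) L84703
theorem L84707 : sm gc N5176 = N10027 := rfl
theorem L84709 : sm ge N5176 = N10028 := rfl
theorem L84711 : sm gb N10028 = N5202 := ded_15_1 (flp_e L25183) (flp_b L25036) L84709
theorem L84713 : sm gd N10028 = N5534 := ded_22_1 (flp_e L26789) (flp_d L12866) (flp_e L12061) L25034 L84709
theorem L84715 : sm gg N5176 = N10029 := rfl
theorem L84717 : sm gd N10029 = N5177 := ded_24_1 (flp_g L25038) L25034 L84715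
theorem L84719 : sm gb N5177 = N10030 := rfl
theorem L84721 : sm ge N10030 = N5536 := ded_15_2 (flp_b L26797) (flp_e L25042) L84719
theorem L84723 : sm gg N10030 = N5204 := ded_17_2 (flp_b L25192) (flp_g L12117) (flp_b L12063) L25038 L84719
theorem L84725 : sm gf N5177 = N10031 := rfl
theorem L84727 : sm ga N10031 = N9986 := ded_11_1 (flp_f L84701) L84695 L84725
theorem L84729 : sm gc N10031 = N5179 := ded_20_1 (flp_f L25050) (flp_c L25040) L84725
theorem L84731 : sm ge N10031 = N5537 := ded_25_1 (flp_f L26801) (flp_e L25042) L84725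
theorem L84733 : sm gg N10031 = N9984 := ded_29_3 L84479 L24952 L25038 L84725
theorem L84735 : sm ga N5178 = N10032 := rfl
theorem L84737 : sm ge N10032 = N5538 := ded_10_2 (flp_a L26809) (flp_e L25046) L84735
theorem L84739 : sm gg N10032 = N5180 := ded_12_2 (flp_a L25058) (flp_g L25048) L84735
theorem L84741 : sm gc N5178 = N10033 := rfl
theorem L84743 : sm ge N10033 = N5539 := ded_19_2 (flp_c L26813) (flp_e L25046) L84741
theorem L84745 : sm gg N10033 = N5181 := ded_21_2 (flp_c L25062) (flp_g L25048) L84741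
theorem L84747 : sm gf N5178 = N10034 := rfl
theorem L84749 : sm ge N10034 = N5540 := ded_25_1 (flp_f L26817) (flp_e L25046) L84747
theorem L84751 : sm gb N5179 = N10035 := rfl
theorem L84753 : sm ge N10035 = N5541 := ded_15_2 (flp_b L26819) (flp_e L25054) L84751
theorem L84755 : sm gb N5180 = N10036 := rfl
theorem L84757 : sm ge N10036 = N5542 := ded_15_2 (flp_b L26821) (flp_e L25060) L84755
theorem L84759 : sm gc N5180 = N10037 := rfl
theorem L84761 : sm ga N10037 = N5181 := ded_8_1 (flp_c L25062) L25058 L84759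
theorem L84763 : sm ge N10037 = N5543 := ded_19_2 (flp_c L26823) (flp_e L25060) L84759
theorem L84765 : sm gf N5180 = N10038 := rfl
theorem L84767 : sm ga N10038 = N5182 := ded_11_1 (flp_f L25068) L25058 L84765
theorem L84769 : sm ge N10038 = N5544 := ded_25_1 (flp_f L26827) (flp_e L25060) L84765
theorem L84771 : sm gg N10034 = N10038 := ded_29_1 (flp_f L84765) (flp_g L84739) (flp_a L84735) L84747
theorem L84773 : sm gd N5181 = N10039 := rfl
theorem L84775 : sm gb N10039 = N5211 := ded_14_1 (flp_d L25238) (flp_b L25066) L84773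
theorem L84777 : sm gf N5181 = N10040 := rfl
theorem L84779 : sm gc N10040 = N5182 := ded_20_1 (flp_f L25068) L25062 L84777
theorem L84781 : sm ge N10040 = N5546 := ded_25_1 (flp_f L26837) (flp_e L25064) L84777
theorem L84783 : sm gg N5182 = N10041 := rfl
theorem L84785 : sm ga N10041 = N10034 := ded_12_1 L84771 L84767 L84783
theorem L84787 : sm ge N10041 = N5547 := ded_26_1 (flp_g L26841) (flp_e L25070) L84783
theorem L84789 : sm gf N10032 = N10041 := ded_29_0 (flp_g L84783) (flp_f L25068) (flp_g L25048) L84735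
theorem L84791 : sm ga N5183 = N10042 := rfl
theorem L84793 : sm ge N10042 = N5548 := ded_10_2 (flp_a L26847) (flp_e L25076) L84791
theorem L84795 : sm gc N5183 = N10043 := rfl
theorem L84797 : sm ge N10043 = N5549 := ded_19_2 (flp_c L26849) (flp_e L25076) L84795
theorem L84799 : sm gf N5183 = N10044 := rfl
theorem L84801 : sm ge N10044 = N5550 := ded_25_1 (flp_f L26851) (flp_e L25076) L84799
theorem L84803 : sm gg N5183 = N10045 := rfl
theorem L84805 : sm ge N10045 = N5551 := ded_26_1 (flp_g L26853) (flp_e L25076) L84803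
theorem L84807 : sm gb N5184 = N10046 := rfl
theorem L84809 : sm ge N10046 = N5552 := ded_15_2 (flp_b L26855) (flp_e L25082) L84807
theorem L84811 : sm gd N5184 = N10047 := rfl
theorem L84813 : sm ga N10047 = N5186 := ded_9_1 (flp_d L25092) (flp_a L25080) L84811
theorem L84815 : sm gf N5184 = N10048 := rfl
theorem L84817 : sm ga N10048 = N5187 := ded_11_1 (flp_f L25096) (flp_a L25080) L84815
theorem L84819 : sm gc N10048 = N5185 := ded_20_1 (flp_f L25084) L25078 L84815
theorem L84821 : sm ge N10048 = N5554 := ded_25_1 (flp_f L26861) (flp_e L25082) L84815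
theorem L84823 : sm gg N9994 = N10048 := ded_29_1 (flp_f L84815) (flp_g L84527) L84523 L84534
theorem L84825 : sm gb N5185 = N10049 := rfl
theorem L84827 : sm ge N10049 = N5555 := ded_15_2 (flp_b L26869) (flp_e L25088) L84825
theorem L84829 : sm gc N5186 = N10050 := rfl
theorem L84831 : sm ge N5186 = N10051 := rfl
theorem L84833 : sm gb N10051 = N5223 := ded_15_1 (flp_e L25307) (flp_b L25094) L84831
theorem L84835 : sm gd N10051 = N5557 := ded_22_1 (flp_e L26873) (flp_d L12906) (flp_e L12079) L25092 L84831
theorem L84837 : sm gf N5186 = N10052 := rfl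
theorem L84839 : sm gd N10052 = N5187 := ded_23_1 (flp_f L25096) L25092 L84837
theorem L84841 : sm gb N5187 = N10053 := rfl
theorem L84843 : sm ge N10053 = N5559 := ded_15_2 (flp_b L26881) (flp_e L25100) L84841
theorem L84845 : sm gf N10053 = N5225 := ded_16_2 (flp_b L25316) (flp_f L12175) (flp_b L12081) L25096 L84841
theorem L84847 : sm gg N5187 = N10054 := rfl
theorem L84849 : sm ga N10054 = N9994 := ded_12_1 L84823 L84817 L84847
theorem L84851 : sm gc N10054 = N5189 := ded_21_1 (flp_g L25108) (flp_c L25098) L84847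
theorem L84853 : sm ge N10054 = N5560 := ded_26_1 (flp_g L26885) (flp_e L25100) L84847
theorem L84855 : sm gf N9992 = N10054 := ded_29_0 (flp_g L84847) (flp_f L25096) (flp_g L24973) (flp_a L84523)
theorem L84857 : sm ga N5188 = N10055 := rfl
theorem L84859 : sm ge N10055 = N5561 := ded_10_2 (flp_a L26893) (flp_e L25104) L84857
theorem L84861 : sm gf N10055 = N5190 := ded_11_2 (flp_a L25116) (flp_f L25106) L84857
theorem L84863 : sm gc N5188 = N10056 := rfl
theorem L84865 : sm ge N10056 = N5562 := ded_19_2 (flp_c L26899) (flp_e L25104) L84863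
theorem L84867 : sm gf N10056 = N5191 := ded_20_2 (flp_c L25120) (flp_f L25106) L84863
theorem L84869 : sm gg N5188 = N10057 := rfl
theorem L84871 : sm ge N10057 = N5563 := ded_26_1 (flp_g L26903) (flp_e L25104) L84869
theorem L84873 : sm gb N5189 = N10058 := rfl
theorem L84875 : sm ge N10058 = N5564 := ded_15_2 (flp_b L26907) (flp_e L25112) L84873
theorem L84877 : sm gb N5190 = N10059 := rfl
theorem L84879 : sm ge N10059 = N5565 := ded_15_2 (flp_b L26909) (flp_e L25118) L84877
theorem L84881 : sm gc N5190 = N10060 := rfl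
theorem L84883 : sm ga N10060 = N5191 := ded_8_1 (flp_c L25120) L25116 L84881
theorem L84885 : sm ge N10060 = N5566 := ded_19_2 (flp_c L26913) (flp_e L25118) L84881
theorem L84887 : sm gg N5190 = N10061 := rfl
theorem L84889 : sm ga N10061 = N5192 := ded_12_1 (flp_g L25126) L25116 L84887
theorem L84891 : sm ge N10061 = N5567 := ded_26_1 (flp_g L26917) (flp_e L25118) L84887
theorem L84893 : sm gf N10061 = N10057 := ded_29_2 (flp_g L84869) L84857 L84861 L84887
theorem L84895 : sm gd N5191 = N10062 := rfl
theorem L84897 : sm gb N10062 = N5232 := ded_14_1 (flp_d L25362) (flp_b L25124) L84895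
theorem L84899 : sm gg N5191 = N10063 := rfl
theorem L84901 : sm gc N10063 = N5192 := ded_21_1 (flp_g L25126) L25120 L84899
theorem L84903 : sm ge N10063 = N5569 := ded_26_1 (flp_g L26929) (flp_e L25122) L84899
theorem L84905 : sm gf N5192 = N10064 := rfl
theorem L84907 : sm ga N10064 = N10057 := ded_11_1 (flp_f L84893) L84889 L84905
theorem L84909 : sm ge N10064 = N5570 := ded_25_1 (flp_f L26933) (flp_e L25128) L84905
theorem L84911 : sm gg N10064 = N10055 := ded_29_3 (flp_a L84857) L25106 L25126 L84905
theorem L84913 : sm gb N5201 = N10065 := rfl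
theorem L84915 : sm gd N10065 = N5204 := ded_14_2 (flp_b L25192) (flp_d L80344) L84913
theorem L84917 : sm ge N5201 = N10066 := rfl
theorem L84919 : sm ga N10066 = N10066 := ded_10_1 (flp_e L84917) L50633 L84917
theorem L84920 : sm gc N10066 = N5202 := ded_19_1 (flp_e L25183) L25180 L84917
theorem L84922 : sm gf N10066 = N10066 := ded_25_2 (flp_e L84917) L25182 L84917
theorem L84923 : sm gg N10066 = N5202 := ded_26_2 (flp_e L25183) (flp_g L80347) L84917
theorem L84925 : sm gd N10066 = N5591 := ded_22_1 L27035 L12981 (flp_e L12121) (flp_d L80344) L84917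
theorem L84927 : sm ga N5204 = N10067 := rfl
theorem L84929 : sm ge N10067 = N5593 := ded_10_2 (flp_a L27041) (flp_e L25194) L84927
theorem L84931 : sm gf N5204 = N10068 := rfl
theorem L84933 : sm ge N10068 = N5595 := ded_25_1 (flp_f L27047) (flp_e L25194) L84931
theorem L84935 : sm gb N10068 = N10068 := ded_16_1 (flp_f L84931) (flp_b L25192) L50666 L25192 L84931
theorem L84936 : sm ga N5208 = N10069 := rfl
theorem L84938 : sm gd N10069 = N5269 := ded_9_2 (flp_a L25565) (flp_d L25218) L84936
theorem L84940 : sm ge N10069 = N5600 := ded_10_2 (flp_a L27067) (flp_e L25220) L84936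
theorem L84942 : sm gg N10069 = N8947 := ded_12_2 (flp_a L43452) (flp_g L81078) L84936
theorem L84944 : sm gf N10069 = N5208 := ded_29_0 L81078 L81037 (flp_g L81078) L84936
theorem L84946 : sm gc N5208 = N10070 := rfl
theorem L84948 : sm ge N10070 = N5601 := ded_19_2 (flp_c L27071) (flp_e L25220) L84946
theorem L84950 : sm gg N10070 = N8948 := ded_21_2 (flp_c L43458) (flp_g L81078) L84946
theorem L84952 : sm gb N5209 = N10071 := rfl
theorem L84954 : sm ge N10071 = N5604 := ded_15_2 (flp_b L27083) (flp_e L25226) L84952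
theorem L84956 : sm gd N5209 = N10072 := rfl
theorem L84958 : sm ga N10072 = N5211 := ded_9_1 (flp_d L25238) (flp_a L25224) L84956
theorem L84960 : sm gg N10072 = N8944 := ded_24_2 (flp_d L43434) (flp_g L81007) L84956
theorem L84962 : sm gc N10072 = N9353 := ded_28_6 L45409 (flp_a L45387) L45389 L21819 (flp_c L81199) (flp_d L12133) L25222 L84956
theorem L84964 : sm gc N5211 = N10073 := rfl
theorem L84966 : sm ga N10073 = N9353 := ded_8_1 (flp_c L84962) L84958 L84964
theorem L84968 : sm gf N10073 = N10072 := ded_20_2 L84962 (flp_f L83400) L84964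
theorem L84970 : sm gg N10073 = N9348 := ded_21_2 L45629 L83398 L84964
theorem L84972 : sm gd N10073 = N9349 := ded_28_7 L45387 L21829 L10519 (flp_c L81127) (flp_d L6014) L12137 L25238 L84964
theorem L84974 : sm ge N5211 = N10074 := rfl
theorem L84976 : sm gd N10074 = N5609 := ded_22_1 (flp_e L27107) (flp_d L13015) (flp_e L12139) L25238 L84974
theorem L84978 : sm gb N5222 = N10075 := rfl
theorem L84980 : sm gd N10075 = N5225 := ded_14_2 (flp_b L25316) L79744 L84978
theorem L84982 : sm ge N5222 = N10076 := rfl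
theorem L84984 : sm ga N10076 = N10076 := ded_10_1 (flp_e L84982) L79736 L84982
theorem L84985 : sm gc N10076 = N5223 := ded_19_1 (flp_e L25307) L25304 L84982
theorem L84987 : sm gf N10076 = N5223 := ded_25_2 (flp_e L25307) (flp_f L79739) L84982
theorem L84989 : sm gg N10076 = N10076 := ded_26_2 (flp_e L84982) L25306 L84982
theorem L84990 : sm gd N10076 = N5634 := ded_22_1 L27225 L13070 (flp_e L12179) L79744 L84982
theorem L84992 : sm ga N5225 = N10077 := rfl
theorem L84994 : sm ge N10077 = N5636 := ded_10_2 (flp_a L27231) (flp_e L25318) L84992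
theorem L84996 : sm gg N5225 = N10078 := rfl
theorem L84998 : sm ge N10078 = N5638 := ded_26_1 (flp_g L27237) (flp_e L25318) L84996
theorem L85000 : sm gb N10078 = N10078 := ded_17_1 (flp_g L84996) (flp_b L25316) L76179 L25316 L84996
theorem L85001 : sm ga N5229 = N10079 := rfl
theorem L85003 : sm gd N10079 = N5317 := ded_9_2 (flp_a L25822) (flp_d L25342) L85001
theorem L85005 : sm ge N10079 = N5643 := ded_10_2 (flp_a L27257) (flp_e L25344) L85001
theorem L85007 : sm gf N10079 = N8955 := ded_11_2 (flp_a L43502) (flp_f L82335) L85001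
theorem L85009 : sm gg N10079 = N5229 := ded_29_3 L85001 L85007 L71016 (flp_f L85007)
theorem L85011 : sm gb N10079 = N10069 := ded_7_2 (flp_a L84936) (flp_b L25216) (flp_a L12131) (flp_b L6012) (flp_a L3142) L6036 L12189 L25340 L85001
theorem L85013 : sm gc N5229 = N10080 := rfl
theorem L85015 : sm ge N10080 = N5644 := ded_19_2 (flp_c L27263) (flp_e L25344) L85013
theorem L85017 : sm gf N10080 = N8956 := ded_20_2 (flp_c L43508) (flp_f L82335) L85013
theorem L85019 : sm gb N5230 = N10081 := rfl
theorem L85021 : sm ge N10081 = N5647 := ded_15_2 (flp_b L27275) (flp_e L25350) L85019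
theorem L85023 : sm gd N5230 = N10082 := rfl
theorem L85025 : sm ga N10082 = N5232 := ded_9_1 (flp_d L25362) (flp_a L25348) L85023
theorem L85027 : sm gf N10082 = N8952 := ded_23_2 (flp_d L43484) (flp_f L82330) L85023
theorem L85029 : sm gc N10082 = N9367 := ded_28_6 L45487 (flp_a L45465) L45467 L21859 (flp_c L82461) (flp_d L12191) L25346 L85023
theorem L85031 : sm gc N5232 = N10083 := rfl
theorem L85033 : sm ga N10083 = N9367 := ded_8_1 (flp_c L85029) L85025 L85031
theorem L85035 : sm gf N10083 = N9362 := ded_20_2 L45805 L83387 L85031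
theorem L85037 : sm gg N10083 = N10082 := ded_21_2 L85029 L83368 L85031
theorem L85039 : sm gd N10083 = N9363 := ded_28_7 L45465 L21869 L10535 (flp_c L82379) (flp_d L6038) L12195 L25362 L85031
theorem L85041 : sm ge N5232 = N10084 := rfl
theorem L85043 : sm gd N10084 = N5652 := ded_22_1 (flp_e L27299) (flp_d L13104) (flp_e L12197) L25362 L85041
theorem L85045 : sm gc N5269 = N10085 := rfl
theorem L85047 : sm ga N10085 = N5270 := ded_8_1 (flp_c L25569) L25565 L85045
theorem L85049 : sm ge N10085 = N5387 := ded_19_2 (flp_c L26173) (flp_e L25567) L85045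
theorem L85051 : sm gf N10085 = N5270 := ded_20_2 (flp_c L25569) L81234 L85045
theorem L85053 : sm gg N10085 = N8971 := ded_21_2 (flp_c L43593) L75127 L85045
theorem L85055 : sm gd N5270 = N10086 := rfl
theorem L85057 : sm gg N10086 = N8972 := ded_24_2 (flp_d L43599) L75199 L85055
theorem L85059 : sm gc N5317 = N10087 := rfl
theorem L85061 : sm ga N10087 = N5318 := ded_8_1 (flp_c L25828) L25822 L85059
theorem L85063 : sm ge N10087 = N5469 := ded_19_2 (flp_c L26542) (flp_e L25824) L85059
theorem L85065 : sm gf N10087 = N8988 := ded_20_2 (flp_c L43691) L81254 L85059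
theorem L85067 : sm gg N10087 = N5318 := ded_21_2 (flp_c L25828) (flp_g L70464) L85059
theorem L85069 : sm gd N5318 = N10088 := rfl
theorem L85071 : sm gf N10088 = N8989 := ded_23_2 (flp_d L43697) (flp_f L80089) L85069
theorem L85073 : sm gb N5387 = N10089 := rfl
theorem L85075 : sm ga N10089 = N10089 := ded_7_1 (flp_b L85073) L26175 (flp_b L81218) L21072 L10130 (flp_a L21072) L81218 (flp_a L26175) L85073
theorem L85076 : sm gd N5387 = N10090 := rfl
theorem L85078 : sm ga N10090 = N5390 := ded_9_1 (flp_d L26191) (flp_a L26175) L85076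
theorem L85082 : sm gg N10090 = N9014 := ded_24_2 (flp_d L43807) (flp_g L75172) L85076
theorem L85084 : sm gc N5390 = N10091 := rfl
theorem L85086 : sm gg N10091 = N9015 := ded_21_2 (flp_c L43811) L75208 L85084
theorem L85092 : sm gb N5469 = N10093 := rfl
theorem L85094 : sm gc N10093 = N10089 := ded_13_2 (flp_b L85073) (flp_c L26173) (flp_b L12749) L26542 L85092
theorem L85096 : sm gf N10093 = N10089 := ded_16_2 (flp_b L85073) (flp_f L75186) (flp_b L81218) L81264 L85092
theorem L85098 : sm gg N10093 = N10089 := ded_17_2 (flp_b L85073) L75172 L79559 (flp_g L68035) L85092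
theorem L85100 : sm ga N10093 = N10093 := ded_7_1 (flp_b L85092) L26544 (flp_b L79559) L20988 L10092 (flp_a L20988) L79559 (flp_a L26544) L85092
theorem L85101 : sm gd N5469 = N10094 := rfl
theorem L85103 : sm ga N10094 = N5472 := ded_9_1 (flp_d L26560) (flp_a L26544) L85101
theorem L85117 : sm gd N5493 = N10097 := rfl
theorem L85119 : sm ga N10097 = N5496 := ded_9_1 (flp_d L26660) (flp_a L26650) L85117
theorem L85121 : sm gf N5493 = N10098 := rfl
theorem L85123 : sm ga N10098 = N5497 := ded_11_1 (flp_f L26663) (flp_a L26650) L85121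
theorem L85125 : sm gc N10098 = N5494 := ded_20_1 (flp_f L26652) L26648 L85121
theorem L85127 : sm gg N5493 = N10099 := rfl
theorem L85129 : sm ga N10099 = N5498 := ded_12_1 (flp_g L26667) (flp_a L26650) L85127
theorem L85131 : sm gc N10099 = N5495 := ded_21_1 (flp_g L26656) L26648 L85127
theorem L85133 : sm gb N5494 = N10100 := rfl
theorem L85135 : sm gb N5495 = N10101 := rfl
theorem L85137 : sm gc N5496 = N10102 := rfl
theorem L85139 : sm ge N5496 = N10103 := rfl
theorem L85141 : sm gb N10103 = N10103 := ded_15_1 (flp_e L85139) L26662 L85139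
theorem L85142 : sm gf N5496 = N10104 := rfl
theorem L85144 : sm gd N10104 = N5497 := ded_23_1 (flp_f L26663) L26660 L85142
theorem L85146 : sm gg N5496 = N10105 := rfl
theorem L85148 : sm gd N10105 = N5498 := ded_24_1 (flp_g L26667) L26660 L85146
theorem L85150 : sm gb N5497 = N10106 := rfl
theorem L85152 : sm gf N10106 = N10106 := ded_16_2 (flp_b L85150) (flp_f L26663) L12819 L26663 L85150
theorem L85153 : sm gg N5497 = N10107 := rfl
theorem L85155 : sm gc N10107 = N5500 := ded_21_1 (flp_g L26675) (flp_c L26665) L85153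
theorem L85157 : sm gf N10099 = N10107 := ded_29_0 (flp_g L85153) (flp_f L26663) L26667 (flp_a L85129)
theorem L85159 : sm gb N5498 = N10108 := rfl
theorem L85161 : sm gg N10108 = N10108 := ded_17_2 (flp_b L85159) (flp_g L26667) L12819 L26667 L85159
theorem L85162 : sm gf N5498 = N10109 := rfl
theorem L85164 : sm ga N10109 = N10107 := ded_11_1 (flp_f L85157) L85129 L85162
theorem L85166 : sm gc N10109 = N5502 := ded_20_1 (flp_f L26683) (flp_c L26669) L85162
theorem L85168 : sm gg N10109 = N10098 := ded_29_3 L85123 (flp_f L26663) L26667 L85162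
theorem L85170 : sm ga N5499 = N10110 := rfl
theorem L85172 : sm gd N10110 = N9552 := ded_9_2 L72418 L46359 L85170
theorem L85174 : sm gf N10110 = N5503 := ded_11_2 (flp_a L26689) (flp_f L26673) L85170
theorem L85176 : sm gc N5499 = N10111 := rfl
theorem L85178 : sm gf N10111 = N5504 := ded_20_2 (flp_c L26691) (flp_f L26673) L85176
theorem L85180 : sm gg N5499 = N10112 := rfl
theorem L85182 : sm gb N5500 = N10113 := rfl
theorem L85184 : sm ga N5501 = N10114 := rfl
theorem L85186 : sm gg N10114 = N5506 := ded_12_2 (flp_a L26696) (flp_g L26681) L85184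
theorem L85188 : sm gc N5501 = N10115 := rfl
theorem L85190 : sm gg N10115 = N5507 := ded_21_2 (flp_c L26698) (flp_g L26681) L85188
theorem L85192 : sm gf N5501 = N10116 := rfl
theorem L85194 : sm gb N5502 = N10117 := rfl
theorem L85196 : sm gb N5503 = N10118 := rfl
theorem L85198 : sm gc N5503 = N10119 := rfl
theorem L85200 : sm ga N10119 = N5504 := ded_8_1 (flp_c L26691) L26689 L85198
theorem L85202 : sm gg N5503 = N10120 := rfl
theorem L85204 : sm ga N10120 = N5505 := ded_12_1 (flp_g L26694) L26689 L85202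
theorem L85206 : sm gf N10120 = N10112 := ded_29_2 (flp_g L85180) L85170 L85174 L85202
theorem L85208 : sm gd N5504 = N10121 := rfl
theorem L85210 : sm gb N10121 = N10121 := ded_14_1 (flp_d L85208) L26693 L85208
theorem L85211 : sm gg N5504 = N10122 := rfl
theorem L85213 : sm gc N10122 = N5505 := ded_21_1 (flp_g L26694) L26691 L85211
theorem L85215 : sm gf N5505 = N10123 := rfl
theorem L85217 : sm ga N10123 = N10112 := ded_11_1 (flp_f L85206) L85204 L85215
theorem L85219 : sm gg N10123 = N10110 := ded_29_3 (flp_a L85170) L26673 L26694 L85215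
theorem L85221 : sm gb N5506 = N10124 := rfl
theorem L85223 : sm gc N5506 = N10125 := rfl
theorem L85225 : sm ga N10125 = N5507 := ded_8_1 (flp_c L26698) L26696 L85223
theorem L85227 : sm gf N5506 = N10126 := rfl
theorem L85229 : sm ga N10126 = N5508 := ded_11_1 (flp_f L26701) L26696 L85227
theorem L85231 : sm gg N10116 = N10126 := ded_29_1 (flp_f L85227) (flp_g L85186) (flp_a L85184) L85192
theorem L85233 : sm gd N5507 = N10127 := rfl
theorem L85235 : sm gb N10127 = N10127 := ded_14_1 (flp_d L85233) L26700 L85233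
theorem L85236 : sm gf N5507 = N10128 := rfl
theorem L85238 : sm gc N10128 = N5508 := ded_20_1 (flp_f L26701) L26698 L85236
theorem L85240 : sm gg N5508 = N10129 := rfl
theorem L85242 : sm ga N10129 = N10116 := ded_12_1 L85231 L85229 L85240
theorem L85244 : sm gf N10114 = N10129 := ded_29_0 (flp_g L85240) (flp_f L26701) (flp_g L26681) L85184
theorem L85246 : sm ga N5509 = N10130 := rfl
theorem L85248 : sm gc N5509 = N10131 := rfl
theorem L85250 : sm gf N5509 = N10132 := rfl
theorem L85252 : sm gb N10132 = N5527 := ded_16_1 (flp_f L26767) (flp_b L12854) (flp_f L12830) L26703 L85250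
theorem L85254 : sm gg N5509 = N10133 := rfl
theorem L85256 : sm gb N5510 = N10134 := rfl
theorem L85258 : sm gd N5510 = N10135 := rfl
theorem L85260 : sm ga N10135 = N5511 := ded_9_1 (flp_d L26711) (flp_a L26707) L85258
theorem L85262 : sm gf N10135 = N5530 := ded_23_2 (flp_d L26773) (flp_f L26709) L85258
theorem L85264 : sm gc N5511 = N10136 := rfl
theorem L85266 : sm gf N10136 = N5533 := ded_20_2 (flp_c L26787) (flp_f L26714) L85264
theorem L85268 : sm ge N5511 = N10137 := rfl
theorem L85270 : sm gb N10137 = N10137 := ded_15_1 (flp_e L85268) L26713 L85268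
theorem L85271 : sm gf N10137 = N5534 := ded_25_2 (flp_e L26789) (flp_f L26714) L85268
theorem L85273 : sm gg N5511 = N10138 := rfl
theorem L85275 : sm gd N10138 = N5512 := ded_24_1 (flp_g L26716) L26711 L85273
theorem L85277 : sm gb N5512 = N10139 := rfl
theorem L85279 : sm gg N10139 = N10139 := ded_17_2 (flp_b L85277) (flp_g L26716) L12836 L26716 L85277
theorem L85280 : sm ga N5513 = N10140 := rfl
theorem L85282 : sm gg N10140 = N5514 := ded_12_2 (flp_a L26724) (flp_g L26722) L85280
theorem L85284 : sm gc N5513 = N10141 := rfl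
theorem L85286 : sm gg N10141 = N5515 := ded_21_2 (flp_c L26726) (flp_g L26722) L85284
theorem L85288 : sm gf N5513 = N10142 := rfl
theorem L85290 : sm gb N5514 = N10143 := rfl
theorem L85292 : sm gc N5514 = N10144 := rfl
theorem L85294 : sm ga N10144 = N5515 := ded_8_1 (flp_c L26726) L26724 L85292
theorem L85296 : sm gf N5514 = N10145 := rfl
theorem L85298 : sm ga N10145 = N5516 := ded_11_1 (flp_f L26729) L26724 L85296
theorem L85300 : sm gg N10142 = N10145 := ded_29_1 (flp_f L85296) (flp_g L85282) (flp_a L85280) L85288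
theorem L85302 : sm gd N5515 = N10146 := rfl
theorem L85304 : sm gb N10146 = N10146 := ded_14_1 (flp_d L85302) L26728 L85302
theorem L85305 : sm gf N5515 = N10147 := rfl
theorem L85307 : sm gc N10147 = N5516 := ded_20_1 (flp_f L26729) L26726 L85305
theorem L85309 : sm gg N5516 = N10148 := rfl
theorem L85311 : sm ga N10148 = N10142 := ded_12_1 L85300 L85298 L85309
theorem L85313 : sm gf N10140 = N10148 := ded_29_0 (flp_g L85309) (flp_f L26729) (flp_g L26722) L85280
theorem L85315 : sm ga N5517 = N10149 := rfl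
theorem L85317 : sm gc N5517 = N10150 := rfl
theorem L85319 : sm gf N5517 = N10151 := rfl
theorem L85321 : sm gg N5517 = N10152 := rfl
theorem L85323 : sm gb N10152 = N5551 := ded_17_1 (flp_g L26853) (flp_b L12894) (flp_g L12843) L26733 L85321
theorem L85325 : sm gb N5518 = N10153 := rfl
theorem L85327 : sm gd N5518 = N10154 := rfl
theorem L85329 : sm ga N10154 = N5519 := ded_9_1 (flp_d L26741) (flp_a L26737) L85327
theorem L85331 : sm gg N10154 = N5553 := ded_24_2 (flp_d L26857) (flp_g L26739) L85327
theorem L85333 : sm gc N5519 = N10155 := rfl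
theorem L85335 : sm gg N10155 = N5556 := ded_21_2 (flp_c L26871) (flp_g L26744) L85333
theorem L85337 : sm ge N5519 = N10156 := rfl
theorem L85339 : sm gb N10156 = N10156 := ded_15_1 (flp_e L85337) L26743 L85337
theorem L85340 : sm gg N10156 = N5557 := ded_26_2 (flp_e L26873) (flp_g L26744) L85337
theorem L85342 : sm gf N5519 = N10157 := rfl
theorem L85344 : sm gd N10157 = N5520 := ded_23_1 (flp_f L26746) L26741 L85342
theorem L85346 : sm gb N5520 = N10158 := rfl
theorem L85348 : sm gf N10158 = N10158 := ded_16_2 (flp_b L85346) (flp_f L26746) L12849 L26746 L85346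
theorem L85349 : sm ga N5521 = N10159 := rfl
theorem L85351 : sm gf N10159 = N5522 := ded_11_2 (flp_a L26754) (flp_f L26752) L85349
theorem L85353 : sm gc N5521 = N10160 := rfl
theorem L85355 : sm gf N10160 = N5523 := ded_20_2 (flp_c L26756) (flp_f L26752) L85353
theorem L85357 : sm gg N5521 = N10161 := rfl
theorem L85359 : sm gb N5522 = N10162 := rfl
theorem L85361 : sm gc N5522 = N10163 := rfl
theorem L85363 : sm ga N10163 = N5523 := ded_8_1 (flp_c L26756) L26754 L85361
theorem L85365 : sm gg N5522 = N10164 := rfl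
theorem L85367 : sm ga N10164 = N5524 := ded_12_1 (flp_g L26759) L26754 L85365
theorem L85369 : sm gf N10164 = N10161 := ded_29_2 (flp_g L85357) L85349 L85351 L85365
theorem L85371 : sm gd N5523 = N10165 := rfl
theorem L85373 : sm gb N10165 = N10165 := ded_14_1 (flp_d L85371) L26758 L85371
theorem L85374 : sm gg N5523 = N10166 := rfl
theorem L85376 : sm gc N10166 = N5524 := ded_21_1 (flp_g L26759) L26756 L85374
theorem L85378 : sm gf N5524 = N10167 := rfl
theorem L85380 : sm ga N10167 = N10161 := ded_11_1 (flp_f L85369) L85367 L85378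
theorem L85382 : sm gg N10167 = N10159 := ded_29_3 (flp_a L85349) L26752 L26759 L85378
theorem L85384 : sm gc N5525 = N10168 := rfl
theorem L85386 : sm ga N10168 = N5526 := ded_8_1 (flp_c L26765) L26763 L85384
theorem L85388 : sm gf N5525 = N10169 := rfl
theorem L85390 : sm ga N10169 = N5527 := ded_11_1 (flp_f L26767) L26763 L85388
theorem L85392 : sm gg N5525 = N10170 := rfl
theorem L85394 : sm ga N10170 = N5528 := ded_12_1 (flp_g L26769) L26763 L85392
theorem L85396 : sm gb N5526 = N10171 := rfl
theorem L85398 : sm gc N10171 = N5529 := ded_13_2 (flp_b L26771) (flp_c L12856) L12854 L26765 L85396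
theorem L85400 : sm gd N5526 = N10172 := rfl
theorem L85402 : sm gf N5526 = N10173 := rfl
theorem L85404 : sm gc N10173 = N5527 := ded_20_1 (flp_f L26767) L26765 L85402
theorem L85406 : sm gg N5526 = N10174 := rfl
theorem L85408 : sm gc N10174 = N5528 := ded_21_1 (flp_g L26769) L26765 L85406
theorem L85410 : sm gg N5527 = N10175 := rfl
theorem L85412 : sm gf N10170 = N10175 := ded_29_0 (flp_g L85410) (flp_f L26767) L26769 (flp_a L85394)
theorem L85414 : sm gb N5528 = N10176 := rfl
theorem L85416 : sm gg N10176 = N5532 := ded_17_2 (flp_b L26785) (flp_g L12860) L12854 L26769 L85414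
theorem L85418 : sm gf N5528 = N10177 := rfl
theorem L85420 : sm ga N10177 = N10175 := ded_11_1 (flp_f L85412) L85394 L85418
theorem L85422 : sm gg N10177 = N10169 := ded_29_3 L85390 (flp_f L26767) L26769 L85418
theorem L85424 : sm ga N5529 = N10178 := rfl
theorem L85426 : sm gb N10178 = N10178 := ded_7_2 (flp_a L85424) (flp_b L26771) L12858 L6356 L68525 (flp_b L6356) (flp_a L12858) L26771 L85424
theorem L85427 : sm gd N5529 = N10179 := rfl
theorem L85429 : sm gb N10179 = N5530 := ded_14_1 (flp_d L26773) L26771 L85427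
theorem L85431 : sm gf N5529 = N10180 := rfl
theorem L85433 : sm gg N5529 = N10181 := rfl
theorem L85435 : sm gc N5530 = N10182 := rfl
theorem L85437 : sm ga N10182 = N5533 := ded_8_1 (flp_c L26787) (flp_a L26775) L85435
theorem L85439 : sm gd N9581 = N10182 := ded_28_1 (flp_c L85435) (flp_d L26773) (flp_c L12856) (flp_d L10777) L22361 L46493 L46495 L46509
theorem L85441 : sm ge N5530 = N10183 := rfl
theorem L85443 : sm ga N10183 = N5534 := ded_10_1 (flp_e L26789) (flp_a L26775) L85441
theorem L85445 : sm gg N5530 = N10184 := rfl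
theorem L85447 : sm ga N10184 = N5535 := ded_12_1 (flp_g L26793) (flp_a L26775) L85445
theorem L85449 : sm gd N10184 = N5531 := ded_24_1 (flp_g L26777) L26773 L85445
theorem L85451 : sm gf N10184 = N10138 := ded_29_2 (flp_g L85273) (flp_a L85260) L85262 L85445
theorem L85453 : sm gb N5531 = N10185 := rfl
theorem L85455 : sm ga N5532 = N10186 := rfl
theorem L85457 : sm gc N5532 = N10187 := rfl
theorem L85459 : sm gf N5532 = N10188 := rfl
theorem L85461 : sm gb N10188 = N10142 := ded_16_1 (flp_f L85288) (flp_b L26720) (flp_f L12864) L26785 L85459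
theorem L85463 : sm gd N5533 = N10189 := rfl
theorem L85465 : sm ga N10189 = N9581 := ded_9_1 L85439 L85437 L85463
theorem L85467 : sm gb N10189 = N10189 := ded_14_1 (flp_d L85463) L71009 L85463
theorem L85468 : sm gc N9578 = N10189 := ded_28_0 (flp_d L85463) (flp_c L26787) (flp_d L12866) (flp_c L6354) (flp_d L5408) L10779 L22373 (flp_a L46495)
theorem L85470 : sm ge N5533 = N10190 := rfl
theorem L85472 : sm gb N10190 = N10190 := ded_15_1 (flp_e L85470) L71009 L85470
theorem L85473 : sm gc N10190 = N5534 := ded_19_1 (flp_e L26789) L26787 L85470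
theorem L85475 : sm gg N5533 = N10191 := rfl
theorem L85477 : sm gc N10191 = N5535 := ded_21_1 (flp_g L26793) L26787 L85475
theorem L85479 : sm gg N5534 = N10192 := rfl
theorem L85481 : sm ge N10192 = N5535 := ded_26_1 (flp_g L26793) L26789 L85479
theorem L85483 : sm gb N5535 = N10193 := rfl
theorem L85485 : sm gd N10193 = N5536 := ded_14_2 (flp_b L26797) (flp_d L26795) L85483
theorem L85487 : sm gg N10193 = N5592 := ded_17_2 (flp_b L27037) (flp_g L12979) (flp_b L12868) L26793 L85483
theorem L85489 : sm gf N5535 = N10194 := rfl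
theorem L85491 : sm ga N10194 = N10138 := ded_11_1 (flp_f L85451) L85447 L85489
theorem L85493 : sm gd N10194 = N5537 := ded_23_1 (flp_f L26801) (flp_d L26795) L85489
theorem L85495 : sm gg N10194 = N10135 := ded_29_3 L85260 L26714 L26793 L85489
theorem L85497 : sm ga N5536 = N10195 := rfl
theorem L85499 : sm gg N10195 = N5593 := ded_12_2 (flp_a L27041) (flp_g L26799) L85497
theorem L85501 : sm gc N5536 = N10196 := rfl
theorem L85503 : sm gg N10196 = N5594 := ded_21_2 (flp_c L27043) (flp_g L26799) L85501
theorem L85505 : sm gb N10196 = N5539 := ded_13_1 (flp_c L26813) (flp_b L12874) (flp_c L12872) L26797 L85501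
theorem L85507 : sm gf N5536 = N10197 := rfl
theorem L85509 : sm gb N5537 = N10198 := rfl
theorem L85511 : sm gb N5538 = N10199 := rfl
theorem L85513 : sm gc N5538 = N10200 := rfl
theorem L85515 : sm ga N10200 = N5539 := ded_8_1 (flp_c L26813) L26809 L85513
theorem L85517 : sm gg N10200 = N5543 := ded_21_2 (flp_c L26823) (flp_g L26811) L85513
theorem L85519 : sm gd N5539 = N10201 := rfl
theorem L85521 : sm gg N10201 = N5545 := ded_24_2 (flp_d L26833) (flp_g L26815) L85519
theorem L85523 : sm gf N5539 = N10202 := rfl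
theorem L85525 : sm gc N10202 = N5540 := ded_20_1 (flp_f L26817) L26813 L85523
theorem L85527 : sm gb N5540 = N10203 := rfl
theorem L85529 : sm gf N10203 = N5541 := ded_16_2 (flp_b L26819) (flp_f L12878) L12874 L26817 L85527
theorem L85531 : sm ga N5541 = N10204 := rfl
theorem L85533 : sm gc N5541 = N10205 := rfl
theorem L85535 : sm gg N5541 = N10206 := rfl
theorem L85537 : sm gb N10206 = N10133 := ded_17_1 (flp_g L85254) (flp_b L26703) (flp_g L12882) L26819 L85535
theorem L85539 : sm ga N5542 = N10207 := rfl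
theorem L85541 : sm gc N5542 = N10208 := rfl
theorem L85543 : sm gf N5542 = N10209 := rfl
theorem L85545 : sm gg N5542 = N10210 := rfl
theorem L85547 : sm gb N5543 = N10211 := rfl
theorem L85549 : sm gd N5543 = N10212 := rfl
theorem L85551 : sm ga N10212 = N5545 := ded_9_1 (flp_d L26833) (flp_a L26825) L85549
theorem L85553 : sm gf N5543 = N10213 := rfl
theorem L85555 : sm ga N10213 = N5546 := ded_11_1 (flp_f L26837) (flp_a L26825) L85553
theorem L85557 : sm gc N10213 = N5544 := ded_20_1 (flp_f L26827) L26823 L85553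
theorem L85559 : sm gg N10202 = N10213 := ded_29_1 (flp_f L85553) (flp_g L85517) L85515 L85523
theorem L85561 : sm gb N5544 = N10214 := rfl
theorem L85563 : sm gc N5545 = N10215 := rfl
theorem L85565 : sm ge N5545 = N10216 := rfl
theorem L85567 : sm gb N10216 = N5609 := ded_15_1 (flp_e L27107) (flp_b L26835) L85565
theorem L85569 : sm gf N5545 = N10217 := rfl
theorem L85571 : sm gd N10217 = N5546 := ded_23_1 (flp_f L26837) L26833 L85569
theorem L85573 : sm gg N5546 = N10218 := rfl
theorem L85575 : sm ga N10218 = N10202 := ded_12_1 L85559 L85555 L85573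
theorem L85577 : sm gc N10218 = N5547 := ded_21_1 (flp_g L26841) (flp_c L26839) L85573
theorem L85579 : sm gf N10200 = N10218 := ded_29_0 (flp_g L85573) (flp_f L26837) (flp_g L26815) (flp_a L85515)
theorem L85581 : sm gb N5547 = N10219 := rfl
theorem L85583 : sm gg N10219 = N9600 := ded_17_2 (flp_b L46591) (flp_g L22413) (flp_b L12892) L26841 L85581
theorem L85585 : sm gc N5548 = N10220 := rfl
theorem L85587 : sm ga N10220 = N5549 := ded_8_1 (flp_c L26849) L26847 L85585
theorem L85589 : sm gf N5548 = N10221 := rfl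
theorem L85591 : sm ga N10221 = N5550 := ded_11_1 (flp_f L26851) L26847 L85589
theorem L85593 : sm gg N5548 = N10222 := rfl
theorem L85595 : sm ga N10222 = N5551 := ded_12_1 (flp_g L26853) L26847 L85593
theorem L85597 : sm gb N5549 = N10223 := rfl
theorem L85599 : sm gc N10223 = N5552 := ded_13_2 (flp_b L26855) (flp_c L12896) L12894 L26849 L85597
theorem L85601 : sm gd N5549 = N10224 := rfl
theorem L85603 : sm gf N5549 = N10225 := rfl
theorem L85605 : sm gc N10225 = N5550 := ded_20_1 (flp_f L26851) L26849 L85603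
theorem L85607 : sm gg N5549 = N10226 := rfl
theorem L85609 : sm gc N10226 = N5551 := ded_21_1 (flp_g L26853) L26849 L85607
theorem L85611 : sm gb N5550 = N10227 := rfl
theorem L85613 : sm gf N10227 = N5555 := ded_16_2 (flp_b L26869) (flp_f L12900) L12894 L26851 L85611
theorem L85615 : sm gg N5550 = N10228 := rfl
theorem L85617 : sm gf N10222 = N10228 := ded_29_0 (flp_g L85615) (flp_f L26851) L26853 (flp_a L85595)
theorem L85619 : sm gf N5551 = N10229 := rfl
theorem L85621 : sm ga N10229 = N10228 := ded_11_1 (flp_f L85617) L85595 L85619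
theorem L85623 : sm gg N10229 = N10221 := ded_29_3 L85591 (flp_f L26851) L26853 L85619
theorem L85625 : sm ga N5552 = N10230 := rfl
theorem L85627 : sm gb N10230 = N10230 := ded_7_2 (flp_a L85625) (flp_b L26855) L12898 L6366 L76192 (flp_b L6366) (flp_a L12898) L26855 L85625
theorem L85628 : sm gd N5552 = N10231 := rfl
theorem L85630 : sm gb N10231 = N5553 := ded_14_1 (flp_d L26857) L26855 L85628
theorem L85632 : sm gf N5552 = N10232 := rfl
theorem L85634 : sm gg N5552 = N10233 := rfl
theorem L85636 : sm gc N5553 = N10234 := rfl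
theorem L85638 : sm ga N10234 = N5556 := ded_8_1 (flp_c L26871) (flp_a L26859) L85636
theorem L85640 : sm gd N9595 = N10234 := ded_28_1 (flp_c L85636) (flp_d L26857) (flp_c L12896) (flp_d L10789) L22393 L46553 L46555 L46569
theorem L85642 : sm ge N5553 = N10235 := rfl
theorem L85644 : sm ga N10235 = N5557 := ded_10_1 (flp_e L26873) (flp_a L26859) L85642
theorem L85646 : sm gf N5553 = N10236 := rfl
theorem L85648 : sm ga N10236 = N5558 := ded_11_1 (flp_f L26877) (flp_a L26859) L85646
theorem L85650 : sm gd N10236 = N5554 := ded_23_1 (flp_f L26861) L26857 L85646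
theorem L85652 : sm gg N10157 = N10236 := ded_29_1 (flp_f L85646) (flp_g L85331) L85329 L85342
theorem L85654 : sm gb N5554 = N10237 := rfl
theorem L85656 : sm ga N5555 = N10238 := rfl
theorem L85658 : sm gc N5555 = N10239 := rfl
theorem L85660 : sm gg N5555 = N10240 := rfl
theorem L85662 : sm gb N10240 = N10161 := ded_17_1 (flp_g L85357) (flp_b L26750) L12904 L26869 L85660
theorem L85664 : sm gd N5556 = N10241 := rfl
theorem L85666 : sm ga N10241 = N9595 := ded_9_1 L85640 L85638 L85664
theorem L85668 : sm gb N10241 = N10241 := ded_14_1 (flp_d L85664) L82685 L85664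
theorem L85669 : sm gc N9592 = N10241 := ded_28_0 (flp_d L85664) (flp_c L26871) (flp_d L12906) (flp_c L6364) (flp_d L5412) L10791 L22405 (flp_a L46555)
theorem L85671 : sm ge N5556 = N10242 := rfl
theorem L85673 : sm gb N10242 = N10242 := ded_15_1 (flp_e L85671) L82685 L85671
theorem L85674 : sm gc N10242 = N5557 := ded_19_1 (flp_e L26873) L26871 L85671
theorem L85676 : sm gf N5556 = N10243 := rfl
theorem L85678 : sm gc N10243 = N5558 := ded_20_1 (flp_f L26877) L26871 L85676
theorem L85680 : sm gf N5557 = N10244 := rfl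
theorem L85682 : sm ge N10244 = N5558 := ded_25_1 (flp_f L26877) L26873 L85680
theorem L85684 : sm gb N5558 = N10245 := rfl
theorem L85686 : sm gd N10245 = N5559 := ded_14_2 (flp_b L26881) (flp_d L26879) L85684
theorem L85688 : sm gf N10245 = N5635 := ded_16_2 (flp_b L27227) (flp_f L13068) (flp_b L12908) L26877 L85684
theorem L85690 : sm gg N5558 = N10246 := rfl
theorem L85692 : sm ga N10246 = N10157 := ded_12_1 L85652 L85648 L85690
theorem L85694 : sm gd N10246 = N5560 := ded_24_1 (flp_g L26885) (flp_d L26879) L85690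
theorem L85696 : sm gf N10154 = N10246 := ded_29_0 (flp_g L85690) (flp_f L26877) (flp_g L26744) (flp_a L85329)
theorem L85698 : sm ga N5559 = N10247 := rfl
theorem L85700 : sm gf N10247 = N5636 := ded_11_2 (flp_a L27231) (flp_f L26883) L85698
theorem L85702 : sm gc N5559 = N10248 := rfl
theorem L85704 : sm gf N10248 = N5637 := ded_20_2 (flp_c L27233) (flp_f L26883) L85702
theorem L85706 : sm gb N10248 = N5562 := ded_13_1 (flp_c L26899) (flp_b L12914) (flp_c L12912) L26881 L85702
theorem L85708 : sm gg N5559 = N10249 := rfl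
theorem L85710 : sm gb N5560 = N10250 := rfl
theorem L85712 : sm gb N5561 = N10251 := rfl
theorem L85714 : sm gd N10251 = N10214 := ded_14_2 (flp_b L85561) (flp_d L26895) L85712
theorem L85716 : sm gc N5561 = N10252 := rfl
theorem L85718 : sm ga N10252 = N5562 := ded_8_1 (flp_c L26899) L26893 L85716
theorem L85720 : sm gf N10252 = N5566 := ded_20_2 (flp_c L26913) (flp_f L26897) L85716
theorem L85722 : sm gd N5562 = N10253 := rfl
theorem L85724 : sm gf N10253 = N5568 := ded_23_2 (flp_d L26925) (flp_f L26901) L85722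
theorem L85726 : sm gg N5562 = N10254 := rfl
theorem L85728 : sm gc N10254 = N5563 := ded_21_1 (flp_g L26903) L26899 L85726
theorem L85730 : sm gb N5563 = N10255 := rfl
theorem L85732 : sm gd N10255 = N10219 := ded_14_2 (flp_b L85581) (flp_d L26905) L85730
theorem L85734 : sm gg N10255 = N5564 := ded_17_2 (flp_b L26907) (flp_g L12920) L12914 L26903 L85730
theorem L85736 : sm ga N5564 = N10256 := rfl
theorem L85738 : sm gc N5564 = N10257 := rfl
theorem L85740 : sm gf N5564 = N10258 := rfl
theorem L85742 : sm gb N10258 = N10151 := ded_16_1 (flp_f L85319) (flp_b L26733) L12924 L26907 L85740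
theorem L85744 : sm ga N5565 = N10259 := rfl
theorem L85746 : sm gd N10259 = N10207 := ded_9_2 (flp_a L85539) (flp_d L26911) L85744
theorem L85748 : sm gb N10259 = N10207 := ded_7_2 (flp_a L85539) (flp_b L26821) (flp_a L12884) (flp_b L6360) (flp_a L3293) L6370 L12926 L26909 L85744
theorem L85750 : sm gc N5565 = N10260 := rfl
theorem L85752 : sm gf N5565 = N10261 := rfl
theorem L85754 : sm gd N10261 = N10209 := ded_23_1 (flp_f L85543) (flp_d L26911) L85752
theorem L85756 : sm gg N5565 = N10262 := rfl
theorem L85758 : sm gd N10262 = N10210 := ded_24_1 (flp_g L85545) (flp_d L26911) L85756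
theorem L85760 : sm gb N5566 = N10263 := rfl
theorem L85762 : sm gd N5566 = N10264 := rfl
theorem L85764 : sm ga N10264 = N5568 := ded_9_1 (flp_d L26925) (flp_a L26915) L85762
theorem L85766 : sm gg N5566 = N10265 := rfl
theorem L85768 : sm ga N10265 = N5569 := ded_12_1 (flp_g L26929) (flp_a L26915) L85766
theorem L85770 : sm gc N10265 = N5567 := ded_21_1 (flp_g L26917) L26913 L85766
theorem L85772 : sm gf N10265 = N10254 := ded_29_2 (flp_g L85726) (flp_a L85718) L85720 L85766
theorem L85774 : sm gb N5567 = N10266 := rfl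
theorem L85776 : sm gd N10266 = N10199 := ded_14_2 (flp_b L85511) (flp_d L26921) L85774
theorem L85778 : sm gc N5568 = N10267 := rfl
theorem L85780 : sm ge N5568 = N10268 := rfl
theorem L85782 : sm gb N10268 = N5652 := ded_15_1 (flp_e L27299) (flp_b L26927) L85780
theorem L85784 : sm gg N5568 = N10269 := rfl
theorem L85786 : sm gd N10269 = N5569 := ded_24_1 (flp_g L26929) L26925 L85784
theorem L85788 : sm gf N5569 = N10270 := rfl
theorem L85790 : sm ga N10270 = N10254 := ded_11_1 (flp_f L85772) L85768 L85788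
theorem L85792 : sm gc N10270 = N5570 := ded_20_1 (flp_f L26933) (flp_c L26931) L85788
theorem L85794 : sm gg N10270 = N10252 := ded_29_3 L85718 L26901 L26929 L85788
theorem L85796 : sm gb N5570 = N10271 := rfl
theorem L85798 : sm gd N10271 = N10203 := ded_14_2 (flp_b L85527) (flp_d L26937) L85796
theorem L85800 : sm gf N10271 = N9586 := ded_16_2 (flp_b L46531) (flp_f L22381) (flp_b L12938) L26933 L85796
theorem L85802 : sm gb N5591 = N10272 := rfl
theorem L85804 : sm ge N10272 = N5592 := ded_15_2 (flp_b L27037) (flp_e L27035) L85802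
theorem L85806 : sm ga N5592 = N10273 := rfl
theorem L85808 : sm gd N10273 = N5593 := ded_9_2 (flp_a L27041) (flp_d L27039) L85806
theorem L85810 : sm gc N5592 = N10274 := rfl
theorem L85812 : sm gb N10274 = N10274 := ded_13_1 (flp_c L85810) (flp_b L27037) L50680 L27037 L85810
theorem L85813 : sm gf N5592 = N10275 := rfl
theorem L85815 : sm gd N10275 = N5595 := ded_23_1 (flp_f L27047) (flp_d L27039) L85813
theorem L85818 : sm gb N5593 = N10276 := rfl
theorem L85820 : sm gc N5593 = N10277 := rfl
theorem L85822 : sm ga N10277 = N5594 := ded_8_1 (flp_c L27043) L27041 L85820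
theorem L85824 : sm gf N5593 = N10278 := rfl
theorem L85826 : sm ga N10278 = N5595 := ded_11_1 (flp_f L27047) L27041 L85824
theorem L85828 : sm gg N10197 = N10278 := ded_29_1 (flp_f L85824) (flp_g L85499) (flp_a L85497) L85507
theorem L85830 : sm gd N5594 = N10279 := rfl
theorem L85832 : sm gb N10279 = N5598 := ded_14_1 (flp_d L27059) (flp_b L27045) L85830
theorem L85834 : sm gf N5594 = N10280 := rfl
theorem L85836 : sm gc N10280 = N5595 := ded_20_1 (flp_f L27047) L27043 L85834
theorem L85838 : sm gb N10280 = N9612 := ded_16_1 (flp_f L46651) (flp_b L22437) (flp_f L81102) (flp_b L27045) L85834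
theorem L85840 : sm gg N5595 = N10281 := rfl
theorem L85842 : sm ga N10281 = N10197 := ded_12_1 L85828 L85826 L85840
theorem L85844 : sm gf N10195 = N10281 := ded_29_0 (flp_g L85840) (flp_f L27047) (flp_g L26799) L85497
theorem L85846 : sm ge N5598 = N10282 := rfl
theorem L85848 : sm ga N10282 = N9119 := ded_10_1 (flp_e L44262) (flp_a L80535) L85846
theorem L85850 : sm gf N10282 = N9614 := ded_25_2 (flp_e L46655) (flp_f L80540) L85846
theorem L85852 : sm gg N10282 = N5609 := ded_26_2 (flp_e L27107) (flp_g L27061) L85846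
theorem L85854 : sm gc N5600 = N10283 := rfl
theorem L85856 : sm ga N10283 = N5601 := ded_8_1 (flp_c L27071) L27067 L85854
theorem L85858 : sm gf N10283 = N5601 := ded_20_2 (flp_c L27071) (flp_f L81316) L85854
theorem L85860 : sm gg N10283 = N9126 := ded_21_2 (flp_c L44296) L82319 L85854
theorem L85862 : sm gb N5601 = N10284 := rfl
theorem L85864 : sm gc N10284 = N5604 := ded_13_2 (flp_b L27083) (flp_c L13003) L12999 L27071 L85862
theorem L85866 : sm gd N5601 = N10285 := rfl
theorem L85868 : sm gg N10285 = N9127 := ded_24_2 (flp_d L44300) (flp_g L81080) L85866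
theorem L85870 : sm ga N5604 = N10286 := rfl
theorem L85872 : sm gd N5604 = N10287 := rfl
theorem L85874 : sm gb N10287 = N5605 := ded_14_1 (flp_d L27085) L27083 L85872
theorem L85876 : sm gf N5604 = N10288 := rfl
theorem L85878 : sm gg N5604 = N10289 := rfl
theorem L85880 : sm gb N10289 = N9097 := ded_17_1 (flp_g L44171) L21203 (flp_g L81001) L27083 L85878
theorem L85882 : sm ge N5605 = N10290 := rfl
theorem L85884 : sm ga N10290 = N5609 := ded_10_1 (flp_e L27107) (flp_a L27087) L85882
theorem L85886 : sm gg N10290 = N9119 := ded_26_2 (flp_e L44262) (flp_g L80545) L85882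
theorem L85888 : sm gb N5608 = N10291 := rfl
theorem L85890 : sm ge N5608 = N10292 := rfl
theorem L85892 : sm gc N10292 = N5609 := ded_19_1 (flp_e L27107) L27105 L85890
theorem L85894 : sm gb N5634 = N10293 := rfl
theorem L85896 : sm ge N10293 = N5635 := ded_15_2 (flp_b L27227) (flp_e L27225) L85894
theorem L85898 : sm ga N5635 = N10294 := rfl
theorem L85900 : sm gd N10294 = N5636 := ded_9_2 (flp_a L27231) (flp_d L27229) L85898
theorem L85902 : sm gc N5635 = N10295 := rfl
theorem L85904 : sm gb N10295 = N10295 := ded_13_1 (flp_c L85902) (flp_b L27227) L76217 L27227 L85902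
theorem L85905 : sm gg N5635 = N10296 := rfl
theorem L85907 : sm gd N10296 = N5638 := ded_24_1 (flp_g L27237) (flp_d L27229) L85905
theorem L85910 : sm gb N5636 = N10297 := rfl
theorem L85912 : sm gc N5636 = N10298 := rfl
theorem L85914 : sm ga N10298 = N5637 := ded_8_1 (flp_c L27233) L27231 L85912
theorem L85916 : sm gg N5636 = N10299 := rfl
theorem L85918 : sm ga N10299 = N5638 := ded_12_1 (flp_g L27237) L27231 L85916
theorem L85920 : sm gf N10299 = N10249 := ded_29_2 (flp_g L85708) L85698 L85700 L85916
theorem L85922 : sm gd N5637 = N10300 := rfl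
theorem L85924 : sm gb N10300 = N5641 := ded_14_1 (flp_d L27249) (flp_b L27235) L85922
theorem L85926 : sm gg N5637 = N10301 := rfl
theorem L85928 : sm gc N10301 = N5638 := ded_21_1 (flp_g L27237) L27233 L85926
theorem L85930 : sm gb N10301 = N9642 := ded_17_1 (flp_g L46781) (flp_b L22493) L80422 (flp_b L27235) L85926
theorem L85932 : sm gf N5638 = N10302 := rfl
theorem L85934 : sm ga N10302 = N10249 := ded_11_1 (flp_f L85920) L85918 L85932
theorem L85936 : sm gg N10302 = N10247 := ded_29_3 (flp_a L85698) L26883 L27237 L85932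
theorem L85938 : sm ge N5641 = N10303 := rfl
theorem L85940 : sm ga N10303 = N9136 := ded_10_1 (flp_e L44341) (flp_a L80555) L85938
theorem L85942 : sm gf N10303 = N5652 := ded_25_2 (flp_e L27299) (flp_f L27251) L85938
theorem L85944 : sm gg N10303 = N9643 := ded_26_2 (flp_e L46783) (flp_g L80559) L85938
theorem L85946 : sm gc N5643 = N10304 := rfl
theorem L85948 : sm ga N10304 = N5644 := ded_8_1 (flp_c L27263) L27257 L85946
theorem L85950 : sm gf N10304 = N9143 := ded_20_2 (flp_c L44377) L81330 L85946
theorem L85952 : sm gg N10304 = N5644 := ded_21_2 (flp_c L27263) (flp_g L59678) L85946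
theorem L85954 : sm gb N5644 = N10305 := rfl
theorem L85956 : sm gc N10305 = N5647 := ded_13_2 (flp_b L27275) (flp_c L13092) L13088 L27263 L85954
theorem L85958 : sm gd N5644 = N10306 := rfl
theorem L85960 : sm gf N10306 = N9144 := ded_23_2 (flp_d L44381) (flp_f L75022) L85958
theorem L85962 : sm ga N5647 = N10307 := rfl
theorem L85964 : sm gd N5647 = N10308 := rfl
theorem L85966 : sm gb N10308 = N5648 := ded_14_1 (flp_d L27277) L27275 L85964
theorem L85968 : sm gf N5647 = N10309 := rfl
theorem L85970 : sm gb N10309 = N9107 := ded_16_1 (flp_f L44211) L21213 L80568 L27275 L85968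
theorem L85972 : sm gg N5647 = N10310 := rfl
theorem L85974 : sm ge N5648 = N10311 := rfl
theorem L85976 : sm ga N10311 = N5652 := ded_10_1 (flp_e L27299) (flp_a L27279) L85974
theorem L85978 : sm gf N10311 = N9136 := ded_25_2 (flp_e L44341) (flp_f L80471) L85974
theorem L85980 : sm gb N5651 = N10312 := rfl
theorem L85982 : sm ge N5651 = N10313 := rfl
theorem L85984 : sm gc N10313 = N5652 := ded_19_1 (flp_e L27299) L27297 L85982
theorem L85986 : sm gb N5684 = N10314 := rfl
theorem L85988 : sm gc N10314 = N10314 := ded_13_2 (flp_b L85986) (flp_c L27496) L13200 L27496 L85986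
theorem L85989 : sm ge N5684 = N10315 := rfl
theorem L85991 : sm ga N10315 = N9151 := ded_10_1 (flp_e L44422) (flp_a L75694) L85989
theorem L85993 : sm gc N10315 = N5685 := ded_19_1 (flp_e L27500) L27496 L85989
theorem L85995 : sm gf N10315 = N9681 := ded_25_2 (flp_e L46977) (flp_f L75698) L85989
theorem L85997 : sm gg N10315 = N5705 := ded_26_2 (flp_e L27614) (flp_g L27498) L85989
theorem L85999 : sm gd N5688 = N10316 := rfl
theorem L86001 : sm ga N10316 = N5691 := ded_9_1 (flp_d L27538) (flp_a L27518) L85999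
theorem L86003 : sm gb N10316 = N8553 := ded_14_1 L41436 (flp_b L59757) L85999
theorem L86005 : sm gf N10316 = N5691 := ded_23_2 (flp_d L27538) L81833 L85999
theorem L86007 : sm gg N10316 = N9163 := ded_24_2 (flp_d L44486) L81779 L85999
theorem L86009 : sm gd N5690 = N10317 := rfl
theorem L86011 : sm gb N10317 = N5691 := ded_14_1 (flp_d L27538) L27532 L86009
theorem L86013 : sm gf N5690 = N10318 := rfl
theorem L86015 : sm ga N10318 = N5752 := ded_11_1 L74067 (flp_a L71599) L86013
theorem L86021 : sm gg N10318 = N5749 := ded_29_3 (flp_a L27888) L27896 (flp_g L81899) L86013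
theorem L86023 : sm gb N10318 = N8332 := ded_16_1 L40273 (flp_b L59757) (flp_f L81833) L27532 L86013
theorem L86025 : sm gc N5691 = N10319 := rfl
theorem L86027 : sm gg N10319 = N9164 := ded_21_2 (flp_c L44490) (flp_g L74185) L86025
theorem L86029 : sm ge N5691 = N10320 := rfl
theorem L86033 : sm gd N10320 = N5829 := ded_22_1 (flp_e L28283) (flp_d L13624) (flp_e L13215) L27538 L86029
theorem L86035 : sm gd N5694 = N10321 := rfl
theorem L86037 : sm ga N10321 = N5695 := ded_9_1 (flp_d L27560) L27556 L86035
theorem L86039 : sm gb N10321 = N6010 := ded_14_1 L29113 (flp_b L52181) L86035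
theorem L86041 : sm gg N10321 = N5997 := ded_24_2 L29065 (flp_g L52185) L86035
theorem L86043 : sm gf N5694 = N10322 := rfl
theorem L86047 : sm gc N10322 = N5752 := ded_20_1 L74067 (flp_c L52183) L86043
theorem L86051 : sm gg N10322 = N5745 := ded_29_3 L74039 L29016 (flp_g L52185) L86043
theorem L86053 : sm gb N10322 = N8289 := ded_16_1 L40027 (flp_b L23563) L73832 (flp_b L52181) L86043
theorem L86055 : sm gc N5695 = N10323 := rfl
theorem L86057 : sm ge N5695 = N10324 := rfl
theorem L86059 : sm gb N10324 = N5699 := ded_15_1 (flp_e L27578) (flp_b L27562) L86057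
theorem L86061 : sm gd N10324 = N5838 := ded_22_1 (flp_e L28321) (flp_d L13644) (flp_e L13229) L27560 L86057
theorem L86063 : sm gf N5695 = N10325 := rfl
theorem L86067 : sm gg N5695 = N10326 := rfl
theorem L86069 : sm ga N10326 = N5997 := ded_12_1 (flp_g L86041) L86037 L86067
theorem L86071 : sm gd N10326 = N5697 := ded_24_1 (flp_g L27568) L27560 L86067
theorem L86073 : sm gb N10326 = N7783 := ded_17_1 (flp_g L37382) L17898 L80961 (flp_b L27562) L86067
theorem L86075 : sm gb N5698 = N10327 := rfl
theorem L86077 : sm gd N10327 = N10291 := ded_14_2 (flp_b L85888) L27576 L86075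
theorem L86079 : sm ge N5698 = N10328 := rfl
theorem L86081 : sm ga N10328 = N5705 := ded_10_1 (flp_e L27614) (flp_a L27574) L86079
theorem L86083 : sm gc N10328 = N5699 := ded_19_1 (flp_e L27578) L27572 L86079
theorem L86085 : sm gg N10328 = N9151 := ded_26_2 (flp_e L44422) (flp_g L75709) L86079
theorem L86087 : sm ga N5703 = N10329 := rfl
theorem L86089 : sm gc N10329 = N6000 := ded_8_2 (flp_a L29077) (flp_c L27606) L86087
theorem L86091 : sm gd N5703 = N10330 := rfl
theorem L86093 : sm gb N10330 = N5704 := ded_14_1 (flp_d L27608) L27604 L86091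
theorem L86095 : sm ge N5703 = N10331 := rfl
theorem L86097 : sm gb N10331 = N5705 := ded_15_1 (flp_e L27614) L27604 L86095
theorem L86099 : sm gc N10331 = N6001 := ded_19_1 (flp_e L29079) (flp_c L27606) L86095
theorem L86101 : sm gf N5703 = N10332 := rfl
theorem L86103 : sm gc N10332 = N6002 := ded_20_1 (flp_f L29083) (flp_c L27606) L86101
theorem L86105 : sm gg N5703 = N10333 := rfl
theorem L86107 : sm gc N10333 = N6003 := ded_21_1 (flp_g L29085) (flp_c L27606) L86105
theorem L86109 : sm ge N5704 = N10334 := rfl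
theorem L86111 : sm ga N10334 = N10292 := ded_10_1 (flp_e L85890) (flp_a L27610) L86109
theorem L86113 : sm gc N10334 = N10290 := ded_19_1 (flp_e L85882) L27612 L86109
theorem L86115 : sm gd N5705 = N10335 := rfl
theorem L86117 : sm gb N5739 = N10336 := rfl
theorem L86119 : sm gc N10336 = N10336 := ded_13_2 (flp_b L86117) (flp_c L27830) L13371 L27830 L86117
theorem L86120 : sm ge N5739 = N10337 := rfl
theorem L86122 : sm ga N10337 = N9181 := ded_10_1 (flp_e L44583) (flp_a L77844) L86120
theorem L86124 : sm gc N10337 = N5740 := ded_19_1 (flp_e L27834) L27830 L86120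
theorem L86126 : sm gf N10337 = N5760 := ded_25_2 (flp_e L27946) (flp_f L27832) L86120
theorem L86128 : sm gg N10337 = N9741 := ded_26_2 (flp_e L47314) (flp_g L77850) L86120
theorem L86130 : sm gd N5743 = N10338 := rfl
theorem L86132 : sm ga N10338 = N5746 := ded_9_1 (flp_d L27872) (flp_a L27852) L86130
theorem L86134 : sm gb N10338 = N8526 := ded_14_1 L41298 (flp_b L59729) L86130
theorem L86136 : sm gf N10338 = N9193 := ded_23_2 (flp_d L44649) (flp_f L81299) L86130
theorem L86138 : sm gg N10338 = N5746 := ded_24_2 (flp_d L27872) (flp_g L59564) L86130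
theorem L86140 : sm gd N5745 = N10339 := rfl
theorem L86142 : sm gb N10339 = N5746 := ded_14_1 (flp_d L27872) L27866 L86140
theorem L86144 : sm gf N10339 = N10326 := ded_23_2 L86071 (flp_f L74048) L86140
theorem L86146 : sm gc N5746 = N10340 := rfl
theorem L86148 : sm gf N10340 = N9194 := ded_20_2 (flp_c L44653) (flp_f L81885) L86146
theorem L86150 : sm ge N5746 = N10341 := rfl
theorem L86152 : sm gf N10341 = N9195 := ded_25_2 (flp_e L44655) (flp_f L81885) L86150
theorem L86154 : sm gd N10341 = N5934 := ded_22_1 (flp_e L28757) (flp_d L13888) (flp_e L13388) L27872 L86150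
theorem L86156 : sm gd N5749 = N10342 := rfl
theorem L86158 : sm ga N10342 = N5750 := ded_9_1 (flp_d L27892) L27888 L86156
theorem L86160 : sm gb N10342 = N6042 := ded_14_1 L29283 (flp_b L81872) L86156
theorem L86162 : sm gf N10342 = N6029 := ded_23_2 L29231 (flp_f L81877) L86156
theorem L86164 : sm gc N5750 = N10343 := rfl
theorem L86166 : sm ge N5750 = N10344 := rfl
theorem L86168 : sm gb N10344 = N5754 := ded_15_1 (flp_e L27910) (flp_b L27894) L86166
theorem L86170 : sm gd N10344 = N5944 := ded_22_1 (flp_e L28791) (flp_d L13902) (flp_e L13402) L27892 L86166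
theorem L86172 : sm gf N5750 = N10345 := rfl
theorem L86174 : sm ga N10345 = N6029 := ded_11_1 (flp_f L86162) L86158 L86172
theorem L86176 : sm gd N10345 = N5751 := ded_23_1 (flp_f L27896) L27892 L86172
theorem L86178 : sm gb N10345 = N7802 := ded_16_1 (flp_f L37488) L17944 (flp_f L77879) (flp_b L27894) L86172
theorem L86180 : sm gg N10317 = N10345 := ded_24_0 L86176 (flp_g L81899) L86009
theorem L86182 : sm gg N5750 = N10346 := rfl
theorem L86184 : sm gd N10346 = N5752 := ded_24_1 (flp_g L27900) L27892 L86182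
theorem L86186 : sm gb N5753 = N10347 := rfl
theorem L86188 : sm gd N10347 = N10312 := ded_14_2 (flp_b L85980) L27908 L86186
theorem L86190 : sm ge N5753 = N10348 := rfl
theorem L86192 : sm ga N10348 = N5760 := ded_10_1 (flp_e L27946) (flp_a L27906) L86190
theorem L86194 : sm gc N10348 = N5754 := ded_19_1 (flp_e L27910) L27904 L86190
theorem L86196 : sm gf N10348 = N9181 := ded_25_2 (flp_e L44583) (flp_f L77870) L86190
theorem L86198 : sm ga N5758 = N10349 := rfl
theorem L86200 : sm gc N10349 = N6032 := ded_8_2 (flp_a L29247) (flp_c L27938) L86198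
theorem L86202 : sm gd N5758 = N10350 := rfl
theorem L86204 : sm gb N10350 = N5759 := ded_14_1 (flp_d L27940) L27936 L86202
theorem L86206 : sm ge N5758 = N10351 := rfl
theorem L86208 : sm gb N10351 = N5760 := ded_15_1 (flp_e L27946) L27936 L86206
theorem L86210 : sm gc N10351 = N6033 := ded_19_1 (flp_e L29249) (flp_c L27938) L86206
theorem L86212 : sm gf N5758 = N10352 := rfl
theorem L86214 : sm gc N10352 = N6034 := ded_20_1 (flp_f L29253) (flp_c L27938) L86212
theorem L86216 : sm gg N5758 = N10353 := rfl
theorem L86218 : sm gc N10353 = N6035 := ded_21_1 (flp_g L29256) (flp_c L27938) L86216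
theorem L86220 : sm ge N5759 = N10354 := rfl
theorem L86222 : sm ga N10354 = N10313 := ded_10_1 (flp_e L85982) (flp_a L27942) L86220
theorem L86224 : sm gc N10354 = N10311 := ded_19_1 (flp_e L85974) L27944 L86220
theorem L86226 : sm gd N5760 = N10355 := rfl
theorem L86228 : sm gc N5823 = N10356 := rfl
theorem L86230 : sm ga N10356 = N5828 := ded_8_1 (flp_c L28281) (flp_a L28253) L86228
theorem L86232 : sm gf N10356 = N5828 := ded_20_2 (flp_c L28281) L81845 L86228
theorem L86234 : sm gg N10356 = N9231 := ded_21_2 (flp_c L44815) (flp_g L81806) L86228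
theorem L86236 : sm gd N10091 = N10356 := ded_28_1 (flp_c L86228) (flp_d L28251) (flp_c L13608) (flp_d L12555) L26173 L85076 L85078 L85084
theorem L86238 : sm ge N5823 = N10357 := rfl
theorem L86240 : sm ga N10357 = N5829 := ded_10_1 (flp_e L28283) (flp_a L28253) L86238
theorem L86244 : sm gf N10357 = N5829 := ded_25_2 (flp_e L28283) L81845 L86238
theorem L86248 : sm ge N5826 = N10358 := rfl
theorem L86250 : sm gb N10358 = N5829 := ded_15_1 (flp_e L28283) (flp_b L28271) L86248
theorem L86252 : sm gf N5826 = N10359 := rfl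
theorem L86260 : sm gg N10359 = N5837 := ded_29_3 L83159 L28795 (flp_g L74118) L86252
theorem L86262 : sm gb N10359 = N8390 := ded_16_1 L83140 (flp_b L59759) (flp_f L81845) (flp_b L28271) L86252
theorem L86264 : sm gd N5828 = N10360 := rfl
theorem L86266 : sm ga N10360 = N10091 := ded_9_1 L86236 L86230 L86264
theorem L86274 : sm ge N5828 = N10361 := rfl
theorem L86276 : sm gc N10361 = N5829 := ded_19_1 (flp_e L28283) L28281 L86274
theorem L86278 : sm gg N10361 = N9235 := ded_26_2 (flp_e L44833) (flp_g L81795) L86274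
theorem L86280 : sm ge N5834 = N10362 := rfl
theorem L86288 : sm gg N10362 = N6069 := ded_26_2 L29402 (flp_g L52189) L86280
theorem L86290 : sm gf N5834 = N10363 := rfl
theorem L86294 : sm gc N10363 = N5945 := ded_20_1 (flp_f L28795) (flp_c L83425) L86290
theorem L86296 : sm gd N10363 = N5835 := ded_23_1 (flp_f L28307) L28303 L86290
theorem L86300 : sm gb N10363 = N8389 := ded_16_1 L83194 L83183 L81979 (flp_b L52187) L86290
theorem L86302 : sm ge N5837 = N10364 := rfl
theorem L86304 : sm ga N10364 = N5944 := ded_10_1 (flp_e L28791) (flp_a L83159) L86302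
theorem L86310 : sm gf N10364 = N6130 := ded_25_2 L29642 (flp_f L83165) L86302
theorem L86318 : sm gg N5838 = N10366 := rfl
theorem L86322 : sm ge N10366 = N5840 := ded_26_1 (flp_g L28329) L28321 L86318
theorem L86324 : sm gb N10366 = N7829 := ded_17_1 (flp_g L37657) L18001 (flp_g L80859) (flp_b L28323) L86318
theorem L86326 : sm ge N5852 = N10367 := rfl
theorem L86328 : sm ga N10367 = N5854 := ded_10_1 (flp_e L28407) L28399 L86326
theorem L86346 : sm gf N5854 = N10370 := rfl
theorem L86350 : sm ge N10370 = N5855 := ded_25_1 (flp_f L28413) L28407 L86346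
theorem L86354 : sm gg N5854 = N10371 := rfl
theorem L86372 : sm gf N5856 = N10373 := rfl
theorem L86376 : sm gc N10373 = N6085 := ded_20_1 (flp_f L29467) (flp_c L28419) L86372
theorem L86378 : sm gd N10373 = N9290 := ded_23_1 (flp_f L78438) (flp_d L80784) L86372
theorem L86383 : sm gc N5859 = N10374 := rfl
theorem L86385 : sm ga N10374 = N9698 := ded_8_1 L47073 (flp_a L80843) L86383
theorem L86387 : sm ge N10374 = N9682 := ded_19_2 L46987 (flp_e L80845) L86383
theorem L86389 : sm gf N10374 = N10328 := ded_20_2 L86083 (flp_f L80847) L86383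
theorem L86391 : sm gg N10374 = N9681 := ded_21_2 L46981 (flp_g L80849) L86383
theorem L86403 : sm ge N5927 = N10376 := rfl
theorem L86405 : sm ga N10376 = N5934 := ded_10_1 (flp_e L28757) (flp_a L28729) L86403
theorem L86407 : sm gb N10376 = N8561 := ded_15_1 L41486 (flp_b L59731) L86403
theorem L86413 : sm ge N5930 = N10377 := rfl
theorem L86415 : sm gb N10377 = N5934 := ded_15_1 (flp_e L28757) (flp_b L28745) L86413
theorem L86417 : sm gc N10377 = N10358 := ded_19_1 (flp_e L86248) L83419 L86413
theorem L86419 : sm gf N10377 = N10366 := ded_25_2 L86322 (flp_f L78333) L86413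
theorem L86421 : sm gd N5933 = N10378 := rfl
theorem L86425 : sm gb N10378 = N10360 := ded_14_1 (flp_d L86264) (flp_b L83755) L86421
theorem L86427 : sm gf N10378 = N9294 := ded_23_2 (flp_d L45074) (flp_f L78382) L86421
theorem L86431 : sm gc N10094 = N10378 := ded_28_0 (flp_d L86421) (flp_c L28755) (flp_d L13888) (flp_c L6790) (flp_d L6290) L12751 L26560 (flp_a L85103)
theorem L86433 : sm ge N5933 = N10379 := rfl
theorem L86435 : sm gb N10379 = N10361 := ded_15_1 (flp_e L86274) (flp_b L83755) L86433
theorem L86439 : sm gf N10379 = N9295 := ded_25_2 (flp_e L45080) (flp_f L78382) L86433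
theorem L86441 : sm gf N5944 = N10380 := rfl
theorem L86443 : sm ga N10380 = N6130 := ded_11_1 (flp_f L86310) L86304 L86441
theorem L86447 : sm gb N10380 = N7867 := ded_16_1 (flp_f L38014) L18073 (flp_f L82170) (flp_b L28793) L86441
theorem L86457 : sm ge N5959 = N10382 := rfl
theorem L86459 : sm ga N10382 = N5961 := ded_10_1 (flp_e L28873) L28865 L86457
theorem L86461 : sm gc N10382 = N6138 := ded_19_1 (flp_e L29680) (flp_c L28867) L86457
theorem L86471 : sm gd N5961 = N10384 := rfl
theorem L86475 : sm ge N10384 = N9744 := ded_22_2 L47342 L22808 (flp_d L79302) L28873 L86471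
theorem L86477 : sm gf N5961 = N10385 := rfl
theorem L86485 : sm gg N5961 = N10386 := rfl
theorem L86489 : sm ge N10386 = N5963 := ded_26_1 (flp_g L28883) L28873 L86485
theorem L86514 : sm gc N5966 = N10389 := rfl
theorem L86516 : sm ga N10389 = N9758 := ded_8_1 L47412 (flp_a L79368) L86514
theorem L86518 : sm ge N10389 = N9742 := ded_19_2 L47324 (flp_e L79370) L86514
theorem L86520 : sm gf N10389 = N9741 := ded_20_2 L47318 (flp_f L79372) L86514
theorem L86522 : sm gg N10389 = N10348 := ded_21_2 L86194 (flp_g L79374) L86514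
theorem L86524 : sm gc N5983 = N10390 := rfl
theorem L86526 : sm ga N10390 = N5986 := ded_8_1 (flp_c L28995) (flp_a L28981) L86524
theorem L86528 : sm gf N10390 = N9882 := ded_20_2 (flp_c L83957) L83309 L86524
theorem L86530 : sm ge N5983 = N10391 := rfl
theorem L86532 : sm ga N10391 = N5987 := ded_10_1 (flp_e L28997) (flp_a L28981) L86530
theorem L86536 : sm gf N10391 = N9877 := ded_25_2 L83939 L83309 L86530
theorem L86540 : sm gg N5983 = N10392 := rfl
theorem L86544 : sm gd N10392 = N5985 := ded_24_1 (flp_g L28989) L28979 L86540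
theorem L86546 : sm gb N5985 = N10393 := rfl
theorem L86548 : sm ge N10393 = N6055 := ded_15_2 (flp_b L29341) (flp_e L28993) L86546
theorem L86550 : sm gg N10393 = N6011 := ded_17_2 (flp_b L29115) L82072 L82057 L28989 L86546
theorem L86552 : sm gb N5986 = N10394 := rfl
theorem L86554 : sm gc N10394 = N5993 := ded_13_2 (flp_b L29032) (flp_c L14005) (flp_b L13994) L28995 L86552
theorem L86556 : sm gd N5986 = N10395 := rfl
theorem L86558 : sm ge N5986 = N10396 := rfl
theorem L86560 : sm gc N10396 = N5987 := ded_19_1 (flp_e L28997) L28995 L86558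
theorem L86562 : sm gf N5986 = N10397 := rfl
theorem L86564 : sm ga N10397 = N9882 := ded_11_1 (flp_f L86528) L86526 L86562
theorem L86566 : sm gc N10397 = N5988 := ded_20_1 (flp_f L29003) L28995 L86562
theorem L86568 : sm gg N5986 = N10398 := rfl
theorem L86572 : sm gf N5987 = N10399 := rfl
theorem L86578 : sm ge N10399 = N5988 := ded_25_1 (flp_f L29003) L28997 L86572
theorem L86580 : sm gg N5987 = N10400 := rfl
theorem L86586 : sm gb N10400 = N10400 := ded_17_1 (flp_g L86580) L28999 L14016 (flp_b L28999) L86580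
theorem L86587 : sm gb N5988 = N10401 := rfl
theorem L86589 : sm gd N10401 = N5990 := ded_14_2 (flp_b L29012) (flp_d L29005) L86587
theorem L86591 : sm gf N10401 = N5997 := ded_16_2 (flp_b L29063) (flp_f L14019) (flp_b L13994) L29003 L86587
theorem L86593 : sm ga N10401 = N10339 := ded_7_1 L86142 (flp_a L86132) L86134 (flp_a L41296) (flp_b L19609) (flp_a L11348) L23559 L83311 L86587
theorem L86597 : sm gg N5988 = N10402 := rfl
theorem L86605 : sm gb N5991 = N10403 := rfl
theorem L86609 : sm gg N10403 = N9687 := ded_17_2 (flp_b L74010) (flp_g L71582) (flp_b L29012) L29018 L86605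
theorem L86611 : sm ga N5993 = N10404 := rfl
theorem L86613 : sm gd N10404 = N6000 := ded_9_2 (flp_a L29077) (flp_d L29034) L86611
theorem L86615 : sm ge N5993 = N10405 := rfl
theorem L86617 : sm gb N10405 = N5994 := ded_15_1 (flp_e L29036) L29032 L86615
theorem L86619 : sm gf N5993 = N10406 := rfl
theorem L86621 : sm gd N10406 = N6002 := ded_23_1 (flp_f L29083) (flp_d L29034) L86619
theorem L86623 : sm gg N5993 = N10407 := rfl
theorem L86625 : sm gd N10407 = N6003 := ded_24_1 (flp_g L29085) (flp_d L29034) L86623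
theorem L86628 : sm gd N5994 = N10408 := rfl
theorem L86630 : sm ga N10408 = N6004 := ded_9_1 (flp_d L29088) (flp_a L29038) L86628
theorem L86635 : sm gf N5994 = N10409 := rfl
theorem L86637 : sm ga N10409 = N6005 := ded_11_1 (flp_f L29091) (flp_a L29038) L86635
theorem L86641 : sm ge N10409 = N5995 := ded_25_1 (flp_f L29043) L29036 L86635
theorem L86643 : sm gg N10409 = N6005 := ded_29_3 (flp_a L86637) (flp_f L86635) L29042 L86635
theorem L86645 : sm gb N5995 = N10410 := rfl
theorem L86647 : sm gd N10410 = N6006 := ded_14_2 (flp_b L29097) (flp_d L29049) L86645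
theorem L86649 : sm gb N5996 = N10411 := rfl
theorem L86653 : sm ge N10411 = N5997 := ded_15_2 (flp_b L29063) (flp_e L29059) L86649
theorem L86655 : sm gc N5997 = N10412 := rfl
theorem L86657 : sm gb N6000 = N10413 := rfl
theorem L86659 : sm ge N6000 = N10414 := rfl
theorem L86661 : sm ga N10414 = N6001 := ded_10_1 (flp_e L29079) L29077 L86659
theorem L86663 : sm gf N6000 = N10415 := rfl
theorem L86665 : sm ga N10415 = N6002 := ded_11_1 (flp_f L29083) L29077 L86663
theorem L86667 : sm gg N6000 = N10416 := rfl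
theorem L86669 : sm ga N10416 = N6003 := ded_12_1 (flp_g L29085) L29077 L86667
theorem L86671 : sm gd N6001 = N10417 := rfl
theorem L86675 : sm gf N6001 = N10418 := rfl
theorem L86677 : sm ge N10418 = N6002 := ded_25_1 (flp_f L29083) L29079 L86675
theorem L86679 : sm gg N6001 = N10419 := rfl
theorem L86684 : sm gb N6002 = N10420 := rfl
theorem L86686 : sm gf N10420 = N6006 := ded_16_2 (flp_b L29097) (flp_f L14038) L14031 L29083 L86684
theorem L86688 : sm gg N6002 = N10421 := rfl
theorem L86690 : sm gf N10416 = N10421 := ded_29_0 (flp_g L86688) (flp_f L29083) L29085 (flp_a L86669)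
theorem L86692 : sm gf N6003 = N10422 := rfl
theorem L86696 : sm gg N10422 = N10415 := ded_29_3 L86665 (flp_f L29083) L29085 L86692
theorem L86698 : sm gc N6004 = N10423 := rfl
theorem L86701 : sm gd N10423 = N6224 := ded_28_7 L30076 (flp_c L29473) (flp_d L14214) L6944 (flp_d L6865) (flp_c L14035) L29088 L86698
theorem L86707 : sm gb N6005 = N10425 := rfl
theorem L86709 : sm ge N10425 = N6006 := ded_15_2 (flp_b L29097) (flp_e L29095) L86707
theorem L86711 : sm ga N6006 = N10426 := rfl
theorem L86713 : sm gc N6006 = N10427 := rfl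
theorem L86715 : sm gb N10427 = N6009 := ded_13_1 (flp_c L29109) (flp_b L14048) (flp_c L14040) L29097 L86713
theorem L86717 : sm gg N6006 = N10428 := rfl
theorem L86719 : sm ga N6007 = N10429 := rfl
theorem L86721 : sm gd N10429 = N6092 := ded_9_2 (flp_a L29492) (flp_d L29101) L86719
theorem L86723 : sm ge N10429 = N6008 := ded_10_2 (flp_a L29105) (flp_e L29103) L86719
theorem L86725 : sm gg N9876 = N10429 := ded_29_3 (flp_a L86719) (flp_f L83389) L47093 L83929
theorem L86727 : sm gc N6007 = N10430 := rfl
theorem L86729 : sm ge N10430 = N6009 := ded_19_2 (flp_c L29109) (flp_e L29103) L86727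
theorem L86731 : sm gg N6007 = N10431 := rfl
theorem L86737 : sm ge N10431 = N6010 := ded_26_1 (flp_g L29111) (flp_e L29103) L86731
theorem L86739 : sm gf N9874 = N10431 := ded_29_0 (flp_g L86731) (flp_f L83389) L47093 L83919
theorem L86741 : sm gb N6008 = N10432 := rfl
theorem L86743 : sm gd N10432 = N6011 := ded_14_2 (flp_b L29115) (flp_d L29107) L86741
theorem L86745 : sm gc N6008 = N10433 := rfl
theorem L86747 : sm ga N10433 = N6009 := ded_8_1 (flp_c L29109) L29105 L86745
theorem L86749 : sm gg N10433 = N9881 := ded_21_2 L83955 L83453 L86745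
theorem L86751 : sm gd N6009 = N10434 := rfl
theorem L86753 : sm gg N6009 = N10435 := rfl
theorem L86755 : sm ga N10435 = N9881 := ded_12_1 (flp_g L86749) L86747 L86753
theorem L86757 : sm gc N10435 = N6010 := ded_21_1 (flp_g L29111) L29109 L86753
theorem L86759 : sm gf N9879 = N10435 := ded_29_0 (flp_g L86753) (flp_f L83451) L47113 (flp_a L83949)
theorem L86761 : sm gc N6011 = N10436 := rfl
theorem L86763 : sm ga N10436 = N8347 := ded_8_1 L82763 (flp_a L83415) L86761
theorem L86765 : sm ge N10436 = N6102 := ded_19_2 (flp_c L29536) (flp_e L29117) L86761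
theorem L86767 : sm gf N10436 = N8291 := ded_20_2 (flp_c L82763) (flp_f L83417) L86761
theorem L86769 : sm gb N10436 = N8290 := ded_13_1 (flp_c L71381) (flp_b L23767) (flp_c L14054) L29115 L86761
theorem L86771 : sm gc N6015 = N10437 := rfl
theorem L86773 : sm ga N10437 = N6018 := ded_8_1 (flp_c L29159) (flp_a L29145) L86771
theorem L86775 : sm gg N10437 = N9915 := ded_21_2 (flp_c L84113) (flp_g L72229) L86771
theorem L86777 : sm ge N6015 = N10438 := rfl
theorem L86779 : sm ga N10438 = N6019 := ded_10_1 (flp_e L29161) (flp_a L29145) L86777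
theorem L86783 : sm gg N10438 = N9910 := ded_26_2 L84095 (flp_g L72229) L86777
theorem L86785 : sm gd N10438 = N6112 := ded_22_1 (flp_e L29562) (flp_d L14259) (flp_e L14066) L29143 L86777
theorem L86787 : sm gf N6015 = N10439 := rfl
theorem L86791 : sm gd N10439 = N6016 := ded_23_1 (flp_f L29147) L29143 L86787
theorem L86793 : sm gb N6016 = N10440 := rfl
theorem L86795 : sm ge N10440 = N6115 := ded_15_2 (flp_b L29578) (flp_e L29151) L86793
theorem L86797 : sm gf N10440 = N6043 := ded_16_2 (flp_b L29285) (flp_f L82052) L71491 L29147 L86793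
theorem L86799 : sm gb N6018 = N10441 := rfl
theorem L86801 : sm gc N10441 = N6025 := ded_13_2 (flp_b L29198) (flp_c L14081) (flp_b L14070) L29159 L86799
theorem L86803 : sm gd N6018 = N10442 := rfl
theorem L86805 : sm ge N6018 = N10443 := rfl
theorem L86807 : sm gc N10443 = N6019 := ded_19_1 (flp_e L29161) L29159 L86805
theorem L86809 : sm gf N6018 = N10444 := rfl
theorem L86813 : sm gg N6018 = N10445 := rfl
theorem L86815 : sm ga N10445 = N9915 := ded_12_1 (flp_g L86775) L86773 L86813
theorem L86817 : sm gc N10445 = N6021 := ded_21_1 (flp_g L29172) L29159 L86813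
theorem L86819 : sm gf N6019 = N10446 := rfl
theorem L86825 : sm gb N10446 = N10446 := ded_16_1 (flp_f L86819) L29163 L14092 (flp_b L29163) L86819
theorem L86826 : sm gg N6019 = N10447 := rfl
theorem L86830 : sm gd N10447 = N6122 := ded_24_1 (flp_g L29601) (flp_d L29165) L86826
theorem L86834 : sm gb N6021 = N10448 := rfl
theorem L86836 : sm gd N10448 = N6023 := ded_14_2 (flp_b L29182) (flp_d L29174) L86834
theorem L86838 : sm gg N10448 = N6029 := ded_17_2 (flp_b L29229) (flp_g L14095) (flp_b L14070) L29172 L86834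
theorem L86840 : sm ga N10448 = N10317 := ded_7_1 L86011 (flp_a L86001) L86003 (flp_a L41434) (flp_b L19700) (flp_a L11430) L23763 (flp_a L72227) L86834
theorem L86842 : sm gf N10346 = N10448 := ded_31_1 (flp_b L86834) (flp_g L29172) L29167 L29171 L84119 (flp_f L84115) (flp_b L23763) (flp_g L11428) (flp_f L5669) (flp_b L5490) (flp_g L10281) (flp_f L77879) (flp_b L27894) L86182
theorem L86844 : sm gf N6021 = N10449 := rfl
theorem L86858 : sm ga N6025 = N10451 := rfl
theorem L86860 : sm gd N10451 = N6032 := ded_9_2 (flp_a L29247) (flp_d L29200) L86858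
theorem L86862 : sm ge N6025 = N10452 := rfl
theorem L86864 : sm gb N10452 = N6026 := ded_15_1 (flp_e L29202) L29198 L86862
theorem L86866 : sm gf N6025 = N10453 := rfl
theorem L86868 : sm gd N10453 = N6034 := ded_23_1 (flp_f L29253) (flp_d L29200) L86866
theorem L86871 : sm gg N6025 = N10454 := rfl
theorem L86873 : sm gd N10454 = N6035 := ded_24_1 (flp_g L29256) (flp_d L29200) L86871
theorem L86875 : sm gd N6026 = N10455 := rfl
theorem L86882 : sm gg N6026 = N10456 := rfl
theorem L86884 : sm ga N10456 = N6037 := ded_12_1 (flp_g L29261) (flp_a L29204) L86882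
theorem L86888 : sm ge N10456 = N6027 := ded_26_1 (flp_g L29209) L29202 L86882
theorem L86892 : sm gb N6027 = N10457 := rfl
theorem L86894 : sm gd N10457 = N6038 := ded_14_2 (flp_b L29267) (flp_d L29215) L86892
theorem L86896 : sm gb N6028 = N10458 := rfl
theorem L86900 : sm ge N10458 = N6029 := ded_15_2 (flp_b L29229) (flp_e L29225) L86896
theorem L86902 : sm gc N6029 = N10459 := rfl
theorem L86904 : sm gb N6032 = N10460 := rfl
theorem L86906 : sm ge N6032 = N10461 := rfl
theorem L86908 : sm ga N10461 = N6033 := ded_10_1 (flp_e L29249) L29247 L86906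
theorem L86910 : sm gf N6032 = N10462 := rfl
theorem L86912 : sm ga N10462 = N6034 := ded_11_1 (flp_f L29253) L29247 L86910
theorem L86914 : sm gg N6032 = N10463 := rfl
theorem L86916 : sm ga N10463 = N6035 := ded_12_1 (flp_g L29256) L29247 L86914
theorem L86918 : sm gd N6033 = N10464 := rfl
theorem L86922 : sm gf N6033 = N10465 := rfl
theorem L86924 : sm ge N10465 = N6034 := ded_25_1 (flp_f L29253) L29249 L86922
theorem L86927 : sm gg N6033 = N10466 := rfl
theorem L86929 : sm ge N10466 = N6035 := ded_26_1 (flp_g L29256) L29249 L86927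
theorem L86931 : sm gg N6034 = N10467 := rfl
theorem L86933 : sm gf N10463 = N10467 := ded_29_0 (flp_g L86931) (flp_f L29253) L29256 (flp_a L86916)
theorem L86935 : sm gb N6035 = N10468 := rfl
theorem L86937 : sm gg N10468 = N6038 := ded_17_2 (flp_b L29267) (flp_g L14116) L14109 L29256 L86935
theorem L86939 : sm gf N6035 = N10469 := rfl
theorem L86943 : sm gg N10469 = N10462 := ded_29_3 L86912 (flp_f L29253) L29256 L86939
theorem L86945 : sm gc N6036 = N10470 := rfl
theorem L86948 : sm gd N10470 = N6322 := ded_28_7 L30575 (flp_c L29719) (flp_d L14335) L6999 (flp_d L6902) (flp_c L14113) L29258 L86945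
theorem L86954 : sm gb N6037 = N10472 := rfl
theorem L86956 : sm ge N10472 = N6038 := ded_15_2 (flp_b L29267) (flp_e L29265) L86954
theorem L86958 : sm ga N6038 = N10473 := rfl
theorem L86960 : sm gc N6038 = N10474 := rfl
theorem L86962 : sm gb N10474 = N6041 := ded_13_1 (flp_c L29279) (flp_b L14126) (flp_c L14118) L29267 L86960
theorem L86964 : sm gf N6038 = N10475 := rfl
theorem L86966 : sm ga N6039 = N10476 := rfl
theorem L86968 : sm gd N10476 = N6153 := ded_9_2 (flp_a L29738) (flp_d L29271) L86966
theorem L86970 : sm ge N10476 = N6040 := ded_10_2 (flp_a L29275) (flp_e L29273) L86966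
theorem L86972 : sm gf N10476 = N9909 := ded_29_0 (flp_g L84085) (flp_f L47432) (flp_g L82729) L86966
theorem L86974 : sm gc N6039 = N10477 := rfl
theorem L86976 : sm ge N10477 = N6041 := ded_19_2 (flp_c L29279) (flp_e L29273) L86974
theorem L86978 : sm gf N6039 = N10478 := rfl
theorem L86980 : sm ga N10478 = N9909 := ded_11_1 (flp_f L86972) (flp_a L86966) L86978
theorem L86982 : sm gd N10478 = N6155 := ded_23_1 (flp_f L29746) (flp_d L29271) L86978
theorem L86984 : sm ge N10478 = N6042 := ded_25_1 (flp_f L29281) (flp_e L29273) L86978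
theorem L86986 : sm gg N10478 = N9907 := ded_29_3 (flp_a L84075) (flp_f L47432) (flp_g L82729) L86978
theorem L86988 : sm gb N6040 = N10479 := rfl
theorem L86990 : sm gd N10479 = N6043 := ded_14_2 (flp_b L29285) (flp_d L29277) L86988
theorem L86992 : sm gc N6040 = N10480 := rfl
theorem L86994 : sm ga N10480 = N6041 := ded_8_1 (flp_c L29279) L29275 L86992
theorem L86996 : sm gf N10480 = N9914 := ded_20_2 L84111 (flp_f L82731) L86992
theorem L86998 : sm gd N6041 = N10481 := rfl
theorem L87000 : sm gf N6041 = N10482 := rfl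
theorem L87002 : sm ga N10482 = N9914 := ded_11_1 (flp_f L86996) L86994 L87000
theorem L87004 : sm gc N10482 = N6042 := ded_20_1 (flp_f L29281) L29279 L87000
theorem L87006 : sm gg N10482 = N9912 := ded_29_3 L84105 (flp_f L47452) (flp_g L82727) L87000
theorem L87008 : sm gc N6043 = N10483 := rfl
theorem L87010 : sm ga N10483 = N8304 := ded_8_1 L71856 L71597 L87008
theorem L87014 : sm gg N10483 = N8334 := ded_21_2 (flp_c L71856) L71803 L87008
theorem L87016 : sm gb N10483 = N8333 := ded_13_1 L40277 (flp_b L23563) (flp_c L14132) L29285 L87008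
theorem L87028 : sm gd N6050 = N10485 := rfl
theorem L87030 : sm ga N10485 = N6056 := ded_9_1 (flp_d L29343) (flp_a L29321) L87028
theorem L87032 : sm gf N10485 = N9919 := ded_23_2 (flp_d L84137) L83313 L87028
theorem L87036 : sm ge N6050 = N10486 := rfl
theorem L87038 : sm ga N10486 = N6057 := ded_10_1 (flp_e L29345) (flp_a L29321) L87036
theorem L87042 : sm gf N10486 = N9917 := ded_25_2 L84125 L83313 L87036
theorem L87050 : sm gg N6051 = N10488 := rfl
theorem L87054 : sm ge N10488 = N6053 := ded_26_1 (flp_g L29333) L29323 L87050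
theorem L87056 : sm gb N6053 = N10489 := rfl
theorem L87060 : sm gg N10489 = N6095 := ded_17_2 (flp_b L29504) L82005 L81987 L29333 L87056
theorem L87062 : sm gc N6055 = N10490 := rfl
theorem L87066 : sm gg N10490 = N6102 := ded_21_2 (flp_c L29536) (flp_g L71605) L87062
theorem L87080 : sm ge N6056 = N10492 := rfl
theorem L87086 : sm gd N6057 = N10494 := rfl
theorem L87096 : sm gg N6057 = N10496 := rfl
theorem L87100 : sm ge N10496 = N6059 := ded_26_1 (flp_g L29353) L29345 L87096
theorem L87117 : sm gb N6060 = N10499 := rfl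
theorem L87121 : sm gf N10499 = N6069 := ded_16_2 (flp_b L29400) (flp_f L14185) (flp_b L14160) L29357 L87117
theorem L87123 : sm ga N10499 = N10377 := ded_7_1 L86415 (flp_a L86405) L86407 (flp_a L41484) (flp_b L19738) (flp_a L11521) L23990 L83319 L87117
theorem L87135 : sm gd N6077 = N10501 := rfl
theorem L87137 : sm ga N10501 = N6080 := ded_9_1 (flp_d L29446) (flp_a L29436) L87135
theorem L87151 : sm gb N6078 = N10504 := rfl
theorem L87155 : sm gb N6079 = N10505 := rfl
theorem L87157 : sm gc N6080 = N10506 := rfl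
theorem L87159 : sm gf N6080 = N10507 := rfl
theorem L87167 : sm gg N6080 = N10508 := rfl
theorem L87169 : sm gd N10508 = N6082 := ded_24_1 (flp_g L29454) L29446 L87167
theorem L87193 : sm gb N6086 = N10512 := rfl
theorem L87195 : sm gd N6086 = N10513 := rfl
theorem L87200 : sm ge N10513 = N10423 := ded_22_2 L86701 L30078 (flp_d L29862) L29859 L87195
theorem L87202 : sm gc N10408 = N10513 := ded_28_0 (flp_d L87195) (flp_c L29473) (flp_d L14214) L6944 (flp_d L6865) (flp_c L14035) L29088 (flp_a L86630)
theorem L87204 : sm gf N6086 = N10514 := rfl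
theorem L87206 : sm gc N10514 = N6087 := ded_20_1 (flp_f L29476) L29473 L87204
theorem L87208 : sm gb N6092 = N10515 := rfl
theorem L87210 : sm ge N10515 = N6095 := ded_15_2 (flp_b L29504) (flp_e L29494) L87208
theorem L87212 : sm gc N6095 = N10516 := rfl
theorem L87214 : sm ga N10516 = N9293 := ded_8_1 L83321 L82767 L87212
theorem L87216 : sm gd N6102 = N10517 := rfl
theorem L87222 : sm gf N10517 = N8392 := ded_23_2 L40633 (flp_f L71402) L87216
theorem L87234 : sm gd N6111 = N10519 := rfl
theorem L87236 : sm ga N10519 = N6117 := ded_9_1 (flp_d L29582) (flp_a L29560) L87234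
theorem L87238 : sm gg N10519 = N9923 := ded_24_2 (flp_d L84162) (flp_g L72223) L87234
theorem L87240 : sm gc N10519 = N9923 := ded_28_6 (flp_d L84162) L72231 L29594 L14284 (flp_c L71565) L14259 L29558 L87234
theorem L87242 : sm ge N6111 = N10520 := rfl
theorem L87244 : sm ga N10520 = N6118 := ded_10_1 (flp_e L29584) (flp_a L29560) L87242
theorem L87248 : sm gg N10520 = N9921 := ded_26_2 L84150 (flp_g L72223) L87242
theorem L87256 : sm gf N6112 = N10522 := rfl
theorem L87262 : sm gb N6113 = N10523 := rfl
theorem L87266 : sm gf N10523 = N6156 := ded_16_2 (flp_b L29750) (flp_f L77611) (flp_b L71516) L29566 L87262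
theorem L87268 : sm gc N6115 = N10524 := rfl
theorem L87272 : sm gf N10524 = N6163 := ded_20_2 (flp_c L29782) (flp_f L77948) L87268
theorem L87278 : sm gc N6117 = N10525 := rfl
theorem L87280 : sm ga N10525 = N9923 := ded_8_1 (flp_c L87240) L87236 L87278
theorem L87284 : sm gd N10525 = N6120 := ded_28_7 (flp_a L72231) (flp_c L24328) L11684 L5799 L6969 L14271 L29582 L87278
theorem L87286 : sm gg N6117 = N10525 := ded_12_0 L87280 (flp_g L87238) L87236
theorem L87288 : sm ge N6117 = N10526 := rfl
theorem L87294 : sm gd N6118 = N10528 := rfl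
theorem L87326 : sm gb N6122 = N10533 := rfl
theorem L87332 : sm gg N10533 = N6130 := ded_17_2 (flp_b L29640) (flp_g L14302) (flp_b L14275) L29601 L87326
theorem L87346 : sm gd N6138 = N10535 := rfl
theorem L87348 : sm ga N10535 = N6141 := ded_9_1 (flp_d L29692) (flp_a L29682) L87346
theorem L87358 : sm gg N6138 = N10537 := rfl
theorem L87360 : sm ga N10537 = N6143 := ded_12_1 (flp_g L29701) (flp_a L29682) L87358
theorem L87364 : sm gb N6139 = N10538 := rfl
theorem L87366 : sm gf N10538 = N10504 := ded_16_2 (flp_b L87151) (flp_f L29438) (flp_b L83477) L29684 L87364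
theorem L87368 : sm gb N6140 = N10539 := rfl
theorem L87372 : sm gg N10539 = N10505 := ded_17_2 (flp_b L87155) (flp_g L29442) (flp_b L83477) L29688 L87368
theorem L87374 : sm ga N10539 = N10504 := ded_7_1 (flp_b L87151) L29440 (flp_b L83301) L7240 L83245 (flp_a L7091) L82997 (flp_a L29690) L87368
theorem L87376 : sm gc N6141 = N10540 := rfl
theorem L87391 : sm gg N6142 = N10543 := rfl
theorem L87395 : sm gf N10537 = N10543 := ded_29_0 (flp_g L87391) (flp_f L29696) L29701 (flp_a L87360)
theorem L87412 : sm gb N6147 = N10546 := rfl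
theorem L87414 : sm gd N6147 = N10547 := rfl
theorem L87416 : sm ga N10547 = N10470 := ded_9_1 L86948 L30575 L87414
theorem L87419 : sm ge N10547 = N10470 := ded_22_2 L86948 L30577 (flp_d L30367) L30364 L87414
theorem L87423 : sm gg N6147 = N10548 := rfl
theorem L87425 : sm gc N10548 = N6148 := ded_21_1 (flp_g L29722) L29719 L87423
theorem L87427 : sm gb N6153 = N10549 := rfl
theorem L87429 : sm ge N10549 = N6156 := ded_15_2 (flp_b L29750) (flp_e L29740) L87427
theorem L87431 : sm gc N6156 = N10550 := rfl
theorem L87433 : sm ga N10550 = N9233 := ded_8_1 L83406 L71609 L87431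
theorem L87435 : sm gb N10550 = N10516 := ded_13_1 (flp_c L87212) (flp_b L29504) L83226 L29750 L87431
theorem L87437 : sm gd N6163 = N10551 := rfl
theorem L87439 : sm ga N10551 = N8426 := ded_9_1 (flp_d L40791) (flp_a L71409) L87437
theorem L87443 : sm gg N10551 = N8472 := ded_24_2 L41046 L29786 L87437
theorem L87445 : sm gd N6169 = N10552 := rfl
theorem L87447 : sm ga N10552 = N6172 := ded_9_1 (flp_d L29820) (flp_a L29806) L87445
theorem L87449 : sm ge N10552 = N10501 := ded_22_2 (flp_d L87135) (flp_e L29434) (flp_d L14380) L29804 L87445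
theorem L87467 : sm gc N6172 = N10555 := rfl
theorem L87469 : sm ge N10555 = N10506 := ded_19_2 (flp_c L87157) (flp_e L29824) L87467
theorem L87494 : sm gb N6178 = N10559 := rfl
theorem L87496 : sm gd N10559 = N6230 := ded_14_2 (flp_b L30109) (flp_d L29862) L87494
theorem L87498 : sm ge N10559 = N10512 := ded_15_2 (flp_b L87193) (flp_e L29859) L87494
theorem L87500 : sm gf N6178 = N10560 := rfl
theorem L87504 : sm gc N10560 = N6179 := ded_20_1 (flp_f L29864) L29855 L87500
theorem L87506 : sm gd N10560 = N6231 := ded_23_1 (flp_f L30111) (flp_d L29862) L87500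
theorem L87508 : sm ge N10560 = N10514 := ded_25_1 (flp_f L87204) (flp_e L29859) L87500
theorem L87512 : sm ge N6203 = N10561 := rfl
theorem L87514 : sm gb N10561 = N10492 := ded_15_1 (flp_e L87080) (flp_b L29974) L87512
theorem L87516 : sm gf N6203 = N10562 := rfl
theorem L87520 : sm gg N6203 = N10563 := rfl
theorem L87524 : sm gd N6204 = N10564 := rfl
theorem L87528 : sm gf N6204 = N10565 := rfl
theorem L87534 : sm gg N6204 = N10566 := rfl
theorem L87538 : sm ge N10566 = N6206 := ded_26_1 (flp_g L29986) L29976 L87534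
theorem L87553 : sm gf N6206 = N10569 := rfl
theorem L87559 : sm gg N10569 = N6304 := ded_29_3 L83782 (flp_f L29982) L29986 L87553
theorem L87562 : sm gc N6207 = N10570 := rfl
theorem L87564 : sm ge N10570 = N6213 := ded_19_2 (flp_c L30025) (flp_e L29994) L87562
theorem L87593 : sm gb N6211 = N10575 := rfl
theorem L87597 : sm gf N10575 = N10505 := ded_16_2 (flp_b L87155) L29465 L82800 L83513 L87593
theorem L87599 : sm gg N10575 = N10538 := ded_17_2 (flp_b L87364) (flp_g L29717) L82921 L30011 L87593
theorem L87609 : sm gb N6213 = N10577 := rfl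
theorem L87613 : sm gd N6213 = N10578 := rfl
theorem L87615 : sm gf N6213 = N10579 := rfl
theorem L87617 : sm gc N10579 = N6214 := ded_20_1 (flp_f L30027) L30025 L87615
theorem L87619 : sm gg N6213 = N10580 := rfl
theorem L87623 : sm gb N6214 = N10581 := rfl
theorem L87627 : sm gf N10581 = N6232 := ded_16_2 (flp_b L30115) (flp_f L14525) (flp_b L14472) L30027 L87623
theorem L87651 : sm gg N6216 = N10585 := rfl
theorem L87659 : sm gf N6270 = N10585 := ded_29_0 (flp_g L87651) L30040 (flp_g L82991) (flp_a L30311)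
theorem L87698 : sm gb N6224 = N10593 := rfl
theorem L87700 : sm ge N10593 = N6230 := ded_15_2 (flp_b L30109) (flp_e L30078) L87698
theorem L87702 : sm gf N6224 = N10594 := rfl
theorem L87708 : sm ge N10594 = N6231 := ded_25_1 (flp_f L30111) (flp_e L30078) L87702
theorem L87712 : sm ga N6230 = N10595 := rfl
theorem L87714 : sm gf N6230 = N10596 := rfl
theorem L87716 : sm gg N6230 = N10597 := rfl
theorem L87719 : sm gb N6231 = N10598 := rfl
theorem L87725 : sm gc N6232 = N10600 := rfl
theorem L87754 : sm gc N6273 = N10604 := rfl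
theorem L87756 : sm ge N10604 = N10540 := ded_19_2 (flp_c L87376) (flp_e L30329) L87754
theorem L87758 : sm gg N10604 = N10600 := ded_21_2 (flp_c L87725) L83739 L87754
theorem L87767 : sm gb N6279 = N10606 := rfl
theorem L87769 : sm gd N10606 = N6328 := ded_14_2 (flp_b L30608) (flp_d L30367) L87767
theorem L87771 : sm ge N10606 = N10546 := ded_15_2 (flp_b L87412) (flp_e L30364) L87767
theorem L87785 : sm ge N6302 = N10608 := rfl
theorem L87787 : sm ga N10608 = N10561 := ded_10_1 (flp_e L87512) (flp_a L83780) L87785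
theorem L87789 : sm gb N10608 = N10526 := ded_15_1 (flp_e L87288) (flp_b L30472) L87785
theorem L87793 : sm gf N6302 = N10609 := rfl
theorem L87799 : sm gd N10609 = N6304 := ded_23_1 (flp_f L30480) L30470 L87793
theorem L87801 : sm gg N6302 = N10610 := rfl
theorem L87803 : sm ga N10610 = N10563 := ded_12_1 (flp_g L87520) (flp_a L83780) L87801
theorem L87809 : sm gd N6303 = N10611 := rfl
theorem L87811 : sm ga N10611 = N10564 := ded_9_1 (flp_d L87524) (flp_a L83763) L87809
theorem L87839 : sm gc N6306 = N10615 := rfl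
theorem L87841 : sm ga N10615 = N10570 := ded_8_1 (flp_c L87562) (flp_a L83765) L87839
theorem L87843 : sm ge N10615 = N6312 := ded_19_2 (flp_c L30523) (flp_e L30492) L87839
theorem L87862 : sm gb N6312 = N10618 := rfl
theorem L87864 : sm gc N10618 = N6328 := ded_13_2 (flp_b L30608) (flp_c L14774) (flp_b L14722) L30523 L87862
theorem L87866 : sm gd N6312 = N10619 := rfl
theorem L87868 : sm ga N10619 = N10578 := ded_9_1 (flp_d L87613) L83771 L87866
theorem L87872 : sm gf N6312 = N10620 := rfl
theorem L87878 : sm gg N6312 = N10621 := rfl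
theorem L87880 : sm ga N10621 = N10580 := ded_12_1 (flp_g L87619) L83771 L87878
theorem L87884 : sm gb N6314 = N10622 := rfl
theorem L87888 : sm gg N10622 = N6330 := ded_17_2 (flp_b L30614) (flp_g L14777) (flp_b L14722) L30530 L87884
theorem L87890 : sm gb N6322 = N10623 := rfl
theorem L87892 : sm ge N10623 = N6328 := ded_15_2 (flp_b L30608) (flp_e L30577) L87890
theorem L87894 : sm gg N6322 = N10624 := rfl
theorem L87900 : sm ge N10624 = N6329 := ded_26_1 (flp_g L30610) (flp_e L30577) L87894
theorem L87904 : sm ga N6328 = N10625 := rfl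
theorem L87906 : sm gf N6328 = N10626 := rfl
theorem L87909 : sm gg N6328 = N10627 := rfl
theorem L87911 : sm gb N6329 = N10628 := rfl
theorem L87913 : sm ga N6330 = N10629 := rfl
theorem L87917 : sm gf N10629 = N10552 := ded_11_2 L87447 (flp_f L83735) L87913
theorem L87939 : sm ga N6705 = N10633 := rfl
theorem L87941 : sm gc N10633 = N6803 := ded_8_2 (flp_a L32810) (flp_c L32318) L87939
theorem L87943 : sm ge N10633 = N6737 := ded_10_2 (flp_a L32484) (flp_e L32316) L87939
theorem L87945 : sm gf N6705 = N10634 := rfl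
theorem L87947 : sm gc N10634 = N6805 := ded_20_1 (flp_f L32820) (flp_c L32318) L87945
theorem L87949 : sm ge N10634 = N6739 := ded_25_1 (flp_f L32492) (flp_e L32316) L87945
theorem L87951 : sm gb N10634 = N10634 := ded_16_1 (flp_f L87945) (flp_b L32314) L65910 L32314 L87945
theorem L87952 : sm gg N6705 = N10635 := rfl
theorem L87954 : sm gc N10635 = N6806 := ded_21_1 (flp_g L32824) (flp_c L32318) L87952
theorem L87956 : sm ge N10635 = N6740 := ded_26_1 (flp_g L32496) (flp_e L32316) L87952
theorem L87958 : sm gb N10635 = N10635 := ded_17_1 (flp_g L87952) (flp_b L32314) L78964 L32314 L87952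
theorem L87959 : sm gb N6737 = N10636 := rfl
theorem L87961 : sm gd N6737 = N10637 := rfl
theorem L87963 : sm ga N10637 = N6738 := ded_9_1 (flp_d L32488) L32484 L87961
theorem L87965 : sm gf N6737 = N10638 := rfl
theorem L87967 : sm ga N10638 = N6739 := ded_11_1 (flp_f L32492) L32484 L87965
theorem L87969 : sm gc N10638 = N6858 := ded_20_1 (flp_f L33070) (flp_c L32486) L87965
theorem L87971 : sm gg N6737 = N10639 := rfl
theorem L87973 : sm ga N10639 = N6740 := ded_12_1 (flp_g L32496) L32484 L87971
theorem L87975 : sm gc N10639 = N6859 := ded_21_1 (flp_g L33076) (flp_c L32486) L87971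
theorem L87977 : sm gc N6738 = N10640 := rfl
theorem L87979 : sm gb N10640 = N10640 := ded_13_1 (flp_c L87977) L32490 L65922 (flp_b L32490) L87977
theorem L87980 : sm gf N6738 = N10641 := rfl
theorem L87982 : sm gd N10641 = N6739 := ded_23_1 (flp_f L32492) L32488 L87980
theorem L87984 : sm gb N10641 = N10641 := ded_16_1 (flp_f L87980) L32490 L65923 (flp_b L32490) L87980
theorem L87985 : sm gg N6738 = N10642 := rfl
theorem L87987 : sm gd N10642 = N6740 := ded_24_1 (flp_g L32496) L32488 L87985
theorem L87989 : sm gb N10642 = N10642 := ded_17_1 (flp_g L87985) L32490 L78981 (flp_b L32490) L87985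
theorem L87990 : sm gg N6739 = N10643 := rfl
theorem L87992 : sm gc N10643 = N6861 := ded_21_1 (flp_g L33088) (flp_c L32494) L87990
theorem L87994 : sm gf N10639 = N10643 := ded_29_0 (flp_g L87990) (flp_f L32492) L32496 (flp_a L87973)
theorem L87996 : sm gf N6740 = N10644 := rfl
theorem L87998 : sm ga N10644 = N10643 := ded_11_1 (flp_f L87994) L87973 L87996
theorem L88000 : sm gc N10644 = N6863 := ded_20_1 (flp_f L33100) (flp_c L32498) L87996
theorem L88002 : sm gg N10644 = N10638 := ded_29_3 L87967 (flp_f L32492) L32496 L87996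
theorem L88004 : sm gb N6803 = N10645 := rfl
theorem L88006 : sm ge N10645 = N6857 := ded_15_2 (flp_b L33066) (flp_e L32812) L88004
theorem L88008 : sm gd N6803 = N10646 := rfl
theorem L88010 : sm ga N10646 = N6804 := ded_9_1 (flp_d L32814) L32810 L88008
theorem L88012 : sm ge N10646 = N7996 := ded_22_2 (flp_d L38664) L18391 (flp_d L15914) (flp_e L32812) L88008
theorem L88014 : sm gc N10646 = N9302 := ded_28_2 (flp_d L45114) (flp_c L72442) (flp_d L42656) (flp_c L42382) L72249 L87939 L87941 L88008
theorem L88016 : sm gf N6803 = N10647 := rfl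
theorem L88018 : sm ga N10647 = N6805 := ded_11_1 (flp_f L32820) L32810 L88016
theorem L88020 : sm ge N10647 = N6858 := ded_25_1 (flp_f L33070) (flp_e L32812) L88016
theorem L88022 : sm gg N6803 = N10648 := rfl
theorem L88024 : sm ga N10648 = N6806 := ded_12_1 (flp_g L32824) L32810 L88022
theorem L88026 : sm ge N10648 = N6859 := ded_26_1 (flp_g L33076) (flp_e L32812) L88022
theorem L88028 : sm gc N6804 = N10649 := rfl
theorem L88030 : sm ga N10649 = N9302 := ded_8_1 (flp_c L88014) L88010 L88028
theorem L88032 : sm ge N10649 = N7999 := ded_19_2 (flp_c L38680) (flp_e L32818) L88028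
theorem L88034 : sm gb N10649 = N7999 := ded_13_1 (flp_c L38680) L18395 (flp_c L65839) (flp_b L32816) L88028
theorem L88036 : sm gd N10649 = N9300 := ded_28_7 (flp_a L45104) (flp_c L72442) (flp_d L42656) (flp_c L42382) L72249 L32318 L32814 L88028
theorem L88038 : sm gf N6804 = N10650 := rfl
theorem L88040 : sm gd N10650 = N6805 := ded_23_1 (flp_f L32820) L32814 L88038
theorem L88042 : sm ge N10650 = N8000 := ded_25_1 (flp_f L38682) (flp_e L32818) L88038
theorem L88044 : sm gg N6804 = N10651 := rfl
theorem L88046 : sm gd N10651 = N6806 := ded_24_1 (flp_g L32824) L32814 L88044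
theorem L88048 : sm ge N10651 = N8001 := ded_26_1 (flp_g L38686) (flp_e L32818) L88044
theorem L88050 : sm gb N6805 = N10652 := rfl
theorem L88052 : sm ge N10652 = N6860 := ded_15_2 (flp_b L33082) (flp_e L32822) L88050
theorem L88054 : sm gc N10652 = N10652 := ded_13_2 (flp_b L88050) (flp_c L87947) L87951 L87947 L88050
theorem L88055 : sm gf N10652 = N6809 := ded_16_2 (flp_b L32844) (flp_f L15800) L15790 L32820 L88050
theorem L88057 : sm gg N6805 = N10653 := rfl
theorem L88059 : sm ge N10653 = N6861 := ded_26_1 (flp_g L33088) (flp_e L32822) L88057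
theorem L88061 : sm gf N10648 = N10653 := ded_29_0 (flp_g L88057) (flp_f L32820) L32824 (flp_a L88024)
theorem L88063 : sm gb N6806 = N10654 := rfl
theorem L88065 : sm ge N10654 = N6862 := ded_15_2 (flp_b L33094) (flp_e L32826) L88063
theorem L88067 : sm gc N10654 = N10654 := ded_13_2 (flp_b L88063) (flp_c L87954) L87958 L87954 L88063
theorem L88068 : sm gg N10654 = N6810 := ded_17_2 (flp_b L32848) (flp_g L15808) L15790 L32824 L88063
theorem L88070 : sm gf N6806 = N10655 := rfl
theorem L88072 : sm ga N10655 = N10653 := ded_11_1 (flp_f L88061) L88024 L88070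
theorem L88074 : sm ge N10655 = N6863 := ded_25_1 (flp_f L33100) (flp_e L32826) L88070
theorem L88076 : sm gg N10655 = N10647 := ded_29_3 L88018 (flp_f L32820) L32824 L88070
theorem L88078 : sm gb N6807 = N10656 := rfl
theorem L88080 : sm gd N10656 = N6809 := ded_14_2 (flp_b L32844) (flp_d L32832) L88078
theorem L88082 : sm ge N10656 = N8006 := ded_15_2 (flp_b L38716) (flp_e L32834) L88078
theorem L88084 : sm gb N6808 = N10657 := rfl
theorem L88086 : sm gd N10657 = N6810 := ded_14_2 (flp_b L32848) (flp_d L32840) L88084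
theorem L88088 : sm ge N10657 = N8008 := ded_15_2 (flp_b L38726) (flp_e L32842) L88084
theorem L88090 : sm ga N6809 = N10658 := rfl
theorem L88092 : sm gc N10658 = N10658 := ded_8_2 (flp_a L88090) L72008 L88090
theorem L88093 : sm ge N10658 = N6864 := ded_10_2 (flp_a L33108) (flp_e L32846) L88090
theorem L88095 : sm gg N6809 = N10659 := rfl
theorem L88097 : sm gc N10659 = N10659 := ded_21_1 (flp_g L88095) L72008 L88095
theorem L88098 : sm ge N10659 = N6866 := ded_26_1 (flp_g L33116) (flp_e L32846) L88095
theorem L88100 : sm ga N6810 = N10660 := rfl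
theorem L88102 : sm gc N10660 = N10660 := ded_8_2 (flp_a L88100) L83338 L88100
theorem L88103 : sm ge N10660 = N6867 := ded_10_2 (flp_a L33120) (flp_e L32850) L88100
theorem L88105 : sm gf N6810 = N10661 := rfl
theorem L88107 : sm gc N10661 = N10661 := ded_20_1 (flp_f L88105) L83338 L88105
theorem L88108 : sm ge N10661 = N6869 := ded_25_1 (flp_f L33128) (flp_e L32850) L88105
theorem L88110 : sm ga N6857 = N10662 := rfl
theorem L88112 : sm gd N10662 = N8187 := ded_9_2 (flp_a L39575) (flp_d L33068) L88110
theorem L88114 : sm gb N10662 = N8187 := ded_7_2 (flp_a L39575) (flp_b L18787) (flp_a L9105) (flp_b L4613) (flp_a L4015) L7799 L15912 L33066 L88110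
theorem L88116 : sm gc N6857 = N10663 := rfl
theorem L88118 : sm gf N6857 = N10664 := rfl
theorem L88120 : sm gd N10664 = N8189 := ded_23_1 (flp_f L39579) (flp_d L33068) L88118
theorem L88122 : sm gg N6857 = N10665 := rfl
theorem L88124 : sm gd N10665 = N8190 := ded_24_1 (flp_g L39581) (flp_d L33068) L88122
theorem L88126 : sm gb N6858 = N10666 := rfl
theorem L88128 : sm gd N10666 = N8191 := ded_14_2 (flp_b L39583) (flp_d L33074) L88126
theorem L88130 : sm gb N6859 = N10667 := rfl
theorem L88132 : sm gd N10667 = N8192 := ded_14_2 (flp_b L39585) (flp_d L33080) L88130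
theorem L88134 : sm ga N6860 = N10668 := rfl
theorem L88136 : sm gc N10668 = N10668 := ded_8_2 (flp_a L88134) L72010 L88134
theorem L88137 : sm gd N10668 = N8193 := ded_9_2 (flp_a L39587) (flp_d L33084) L88134
theorem L88139 : sm gf N10668 = N6864 := ded_11_2 (flp_a L33108) (flp_f L33086) L88134
theorem L88141 : sm gg N6860 = N10669 := rfl
theorem L88143 : sm gc N10669 = N10669 := ded_21_1 (flp_g L88141) L72010 L88141
theorem L88144 : sm gd N10669 = N8195 := ded_24_1 (flp_g L39595) (flp_d L33084) L88141
theorem L88146 : sm gb N6861 = N10670 := rfl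
theorem L88148 : sm gd N10670 = N8196 := ded_14_2 (flp_b L39597) (flp_d L33090) L88146
theorem L88150 : sm ga N6862 = N10671 := rfl
theorem L88152 : sm gc N10671 = N10671 := ded_8_2 (flp_a L88150) L83341 L88150
theorem L88153 : sm gd N10671 = N8197 := ded_9_2 (flp_a L39599) (flp_d L33096) L88150
theorem L88155 : sm gg N10671 = N6867 := ded_12_2 (flp_a L33120) (flp_g L33098) L88150
theorem L88157 : sm gf N6862 = N10672 := rfl
theorem L88159 : sm gc N10672 = N10672 := ded_20_1 (flp_f L88157) L83341 L88157
theorem L88160 : sm gd N10672 = N8199 := ded_23_1 (flp_f L39607) (flp_d L33096) L88157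
theorem L88162 : sm gb N6863 = N10673 := rfl
theorem L88164 : sm gd N10673 = N8200 := ded_14_2 (flp_b L39609) (flp_d L33104) L88162
theorem L88166 : sm gb N6864 = N10674 := rfl
theorem L88168 : sm gd N10674 = N8201 := ded_14_2 (flp_b L39611) (flp_d L33110) L88166
theorem L88170 : sm gg N6864 = N10675 := rfl
theorem L88172 : sm ga N10675 = N6866 := ded_12_1 (flp_g L33116) L33108 L88170
theorem L88174 : sm gc N10675 = N10675 := ded_21_1 (flp_g L88170) L72009 L88170
theorem L88175 : sm gd N10675 = N8203 := ded_24_1 (flp_g L39617) (flp_d L33110) L88170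
theorem L88177 : sm gf N10675 = N10669 := ded_29_2 (flp_g L88141) L88134 L88139 L88170
theorem L88179 : sm gf N6866 = N10676 := rfl
theorem L88181 : sm ga N10676 = N10669 := ded_11_1 (flp_f L88177) L88172 L88179
theorem L88183 : sm gc N10676 = N10676 := ded_20_1 (flp_f L88179) L72011 L88179
theorem L88184 : sm gd N10676 = N8207 := ded_23_1 (flp_f L39635) (flp_d L33118) L88179
theorem L88186 : sm gg N10676 = N10668 := ded_29_3 (flp_a L88134) L33086 L33116 L88179
theorem L88188 : sm gb N6867 = N10677 := rfl
theorem L88190 : sm gd N10677 = N8211 := ded_14_2 (flp_b L39651) (flp_d L33122) L88188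
theorem L88192 : sm gf N6867 = N10678 := rfl
theorem L88194 : sm ga N10678 = N6869 := ded_11_1 (flp_f L33128) L33120 L88192
theorem L88196 : sm gc N10678 = N10678 := ded_20_1 (flp_f L88192) L83339 L88192
theorem L88197 : sm gd N10678 = N8213 := ded_23_1 (flp_f L39657) (flp_d L33122) L88192
theorem L88199 : sm gg N10672 = N10678 := ded_29_1 (flp_f L88192) (flp_g L88155) (flp_a L88150) L88157
theorem L88201 : sm gg N6869 = N10679 := rfl
theorem L88203 : sm ga N10679 = N10672 := ded_12_1 L88199 L88194 L88201
theorem L88205 : sm gc N10679 = N10679 := ded_21_1 (flp_g L88201) L83340 L88201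
theorem L88206 : sm gd N10679 = N8217 := ded_24_1 (flp_g L39677) (flp_d L33130) L88201
theorem L88208 : sm gf N10671 = N10679 := ded_29_0 (flp_g L88201) (flp_f L33128) (flp_g L33098) L88150
theorem L88210 : sm gf N7595 = N10680 := rfl
theorem L88212 : sm ga N10680 = N7665 := ded_11_1 (flp_f L36815) (flp_a L72365) L88210
theorem L88214 : sm gc N10680 = N10680 := ded_20_1 (flp_f L88210) L71912 L88210
theorem L88215 : sm gd N10680 = N7597 := ded_23_1 (flp_f L36484) (flp_d L72368) L88210
theorem L88217 : sm ge N10680 = N7620 := ded_25_1 (flp_f L36606) (flp_e L36477) L88210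
theorem L88219 : sm gg N7595 = N10681 := rfl
theorem L88221 : sm ga N10681 = N7666 := ded_12_1 (flp_g L36820) (flp_a L72365) L88219
theorem L88223 : sm gc N10681 = N10681 := ded_21_1 (flp_g L88219) L71912 L88219
theorem L88224 : sm gd N10681 = N7598 := ded_24_1 (flp_g L36492) (flp_d L72368) L88219
theorem L88226 : sm ge N10681 = N7621 := ded_26_1 (flp_g L36608) (flp_e L36477) L88219
theorem L88228 : sm gb N7597 = N10682 := rfl
theorem L88230 : sm ge N10682 = N7622 := ded_15_2 (flp_b L36610) (flp_e L36490) L88228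
theorem L88232 : sm gb N7598 = N10683 := rfl
theorem L88234 : sm ge N10683 = N7623 := ded_15_2 (flp_b L36612) (flp_e L36498) L88232
theorem L88236 : sm gc N7599 = N10684 := rfl
theorem L88238 : sm ga N10684 = N10684 := ded_8_1 (flp_c L88236) L71683 L88236
theorem L88239 : sm ge N10684 = N7625 := ded_19_2 (flp_c L36618) (flp_e L36504) L88236
theorem L88241 : sm gf N10684 = N10684 := ded_20_2 (flp_c L88236) L71680 L88236
theorem L88242 : sm gc N7600 = N10685 := rfl
theorem L88244 : sm ga N10685 = N10685 := ded_8_1 (flp_c L88242) L82692 L88242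
theorem L88245 : sm ge N10685 = N7628 := ded_19_2 (flp_c L36628) (flp_e L36510) L88242
theorem L88247 : sm gg N10685 = N10685 := ded_21_2 (flp_c L88242) L71913 L88242
theorem L88248 : sm gb N7619 = N10686 := rfl
theorem L88250 : sm gd N10686 = N7738 := ded_14_2 L37179 L72379 L88248
theorem L88252 : sm ge N10686 = N7661 := ded_15_2 L36796 (flp_e L72373) L88248
theorem L88254 : sm gf N7619 = N10687 := rfl
theorem L88256 : sm ga N10687 = N7620 := ded_11_1 (flp_f L36606) L36604 L88254
theorem L88258 : sm gc N10687 = N10687 := ded_20_1 (flp_f L88254) L71914 L88254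
theorem L88259 : sm gd N10687 = N7745 := ded_23_1 (flp_f L37211) L72379 L88254
theorem L88261 : sm ge N10687 = N7665 := ded_25_1 (flp_f L36815) (flp_e L72373) L88254
theorem L88263 : sm gg N7619 = N10688 := rfl
theorem L88265 : sm ga N10688 = N7621 := ded_12_1 (flp_g L36608) L36604 L88263
theorem L88267 : sm gc N10688 = N10688 := ded_21_1 (flp_g L88263) L71914 L88263
theorem L88268 : sm gd N10688 = N7746 := ded_24_1 (flp_g L37215) L72379 L88263
theorem L88270 : sm ge N10688 = N7666 := ded_26_1 (flp_g L36820) (flp_e L72373) L88263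
theorem L88272 : sm gb N7620 = N10689 := rfl
theorem L88274 : sm gf N10689 = N7622 := ded_16_2 (flp_b L36610) (flp_f L17527) L17525 L36606 L88272
theorem L88276 : sm gg N7620 = N10690 := rfl
theorem L88278 : sm gc N10690 = N10690 := ded_21_1 (flp_g L88276) L71915 L88276
theorem L88279 : sm gf N10688 = N10690 := ded_29_0 (flp_g L88276) (flp_f L36606) L36608 (flp_a L88265)
theorem L88281 : sm gb N7621 = N10691 := rfl
theorem L88283 : sm gg N10691 = N7623 := ded_17_2 (flp_b L36612) (flp_g L17533) L17525 L36608 L88281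
theorem L88285 : sm gf N7621 = N10692 := rfl
theorem L88287 : sm ga N10692 = N10690 := ded_11_1 (flp_f L88279) L88265 L88285
theorem L88289 : sm gc N10692 = N10692 := ded_20_1 (flp_f L88285) L71916 L88285
theorem L88290 : sm gg N10692 = N10687 := ded_29_3 L88256 (flp_f L36606) L36608 L88285
theorem L88292 : sm ga N7622 = N10693 := rfl
theorem L88294 : sm gc N7622 = N10694 := rfl
theorem L88296 : sm gb N10694 = N7625 := ded_13_1 (flp_c L36618) (flp_b L17539) (flp_c L17531) L36610 L88294
theorem L88298 : sm gg N7622 = N10695 := rfl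
theorem L88300 : sm ga N7623 = N10696 := rfl
theorem L88302 : sm gc N7623 = N10697 := rfl
theorem L88304 : sm gb N10697 = N7628 := ded_13_1 (flp_c L36628) (flp_b L17543) (flp_c L17537) L36612 L88302
theorem L88306 : sm gf N7623 = N10698 := rfl
theorem L88308 : sm gd N7625 = N10699 := rfl
theorem L88310 : sm ga N10699 = N10699 := ded_9_1 (flp_d L88308) L71682 L88308
theorem L88311 : sm gf N10699 = N10699 := ded_23_2 (flp_d L88308) L71679 L88308
theorem L88312 : sm gc N10699 = N10699 := ded_28_0 (flp_d L88308) (flp_c L36618) L17541 L70306 (flp_d L17541) L36618 L88308 L88310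
theorem L88313 : sm gd N7628 = N10700 := rfl
theorem L88315 : sm ga N10700 = N10700 := ded_9_1 (flp_d L88313) L83332 L88313
theorem L88316 : sm gg N10700 = N10700 := ded_24_2 (flp_d L88313) L72035 L88313
theorem L88317 : sm gc N10700 = N10700 := ded_28_0 (flp_d L88313) (flp_c L36628) L17545 L78764 (flp_d L17545) L36628 L88313 L88315
theorem L88318 : sm gb N7660 = N10701 := rfl
theorem L88320 : sm ge N10701 = N7733 := ded_15_2 (flp_b L37157) (flp_e L36792) L88318
theorem L88322 : sm gd N7660 = N10702 := rfl
theorem L88324 : sm ga N10702 = N7661 := ded_9_1 (flp_d L36794) L36788 L88322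
theorem L88326 : sm gf N7660 = N10703 := rfl
theorem L88328 : sm ga N10703 = N7662 := ded_11_1 (flp_f L36798) L36788 L88326
theorem L88330 : sm gc N10703 = N7997 := ded_20_1 (flp_f L38668) (flp_c L36790) L88326
theorem L88332 : sm ge N10703 = N7735 := ded_25_1 (flp_f L37163) (flp_e L36792) L88326
theorem L88334 : sm gg N7660 = N10704 := rfl
theorem L88336 : sm ga N10704 = N7663 := ded_12_1 (flp_g L36804) L36788 L88334
theorem L88338 : sm gc N10704 = N7998 := ded_21_1 (flp_g L38674) (flp_c L36790) L88334
theorem L88340 : sm ge N10704 = N7736 := ded_26_1 (flp_g L37169) (flp_e L36792) L88334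
theorem L88342 : sm gf N7661 = N10705 := rfl
theorem L88344 : sm gd N10705 = N7662 := ded_23_1 (flp_f L36798) L36794 L88342
theorem L88346 : sm gg N7661 = N10706 := rfl
theorem L88348 : sm gd N10706 = N7663 := ded_24_1 (flp_g L36804) L36794 L88346
theorem L88350 : sm gb N7662 = N10707 := rfl
theorem L88352 : sm ge N10707 = N7741 := ded_15_2 (flp_b L37189) (flp_e L36802) L88350
theorem L88354 : sm gf N10707 = N7667 := ded_16_2 (flp_b L36825) (flp_f L17644) L17635 L36798 L88350
theorem L88356 : sm gg N7662 = N10708 := rfl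
theorem L88358 : sm gc N10708 = N8003 := ded_21_1 (flp_g L38696) (flp_c L36800) L88356
theorem L88360 : sm ge N10708 = N7742 := ded_26_1 (flp_g L37193) (flp_e L36802) L88356
theorem L88362 : sm gf N10704 = N10708 := ded_29_0 (flp_g L88356) (flp_f L36798) L36804 (flp_a L88336)
theorem L88364 : sm gb N7663 = N10709 := rfl
theorem L88366 : sm ge N10709 = N7743 := ded_15_2 (flp_b L37199) (flp_e L36808) L88364
theorem L88368 : sm gg N10709 = N7669 := ded_17_2 (flp_b L36837) (flp_g L17650) L17635 L36804 L88364
theorem L88370 : sm gf N7663 = N10710 := rfl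
theorem L88372 : sm ga N10710 = N10708 := ded_11_1 (flp_f L88362) L88336 L88370
theorem L88374 : sm gc N10710 = N8005 := ded_20_1 (flp_f L38708) (flp_c L36806) L88370
theorem L88376 : sm ge N10710 = N7744 := ded_25_1 (flp_f L37203) (flp_e L36808) L88370
theorem L88378 : sm gg N10710 = N10703 := ded_29_3 L88328 (flp_f L36798) L36804 L88370
theorem L88380 : sm gb N7665 = N10711 := rfl
theorem L88382 : sm gd N10711 = N7667 := ded_14_2 (flp_b L36825) (flp_d L36818) L88380
theorem L88384 : sm gg N7665 = N10712 := rfl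
theorem L88386 : sm gc N10712 = N10712 := ded_21_1 (flp_g L88384) L36817 L88384
theorem L88387 : sm gd N10712 = N7668 := ded_24_1 (flp_g L36829) (flp_d L36818) L88384
theorem L88389 : sm ge N10712 = N10692 := ded_26_1 L88290 L88261 L88384
theorem L88391 : sm gf N10681 = N10712 := ded_29_0 (flp_g L88384) (flp_f L36815) L36820 (flp_a L88221)
theorem L88393 : sm gb N7666 = N10713 := rfl
theorem L88395 : sm gd N10713 = N7669 := ded_14_2 (flp_b L36837) (flp_d L36823) L88393
theorem L88397 : sm gf N7666 = N10714 := rfl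
theorem L88399 : sm ga N10714 = N10712 := ded_11_1 (flp_f L88391) L88221 L88397
theorem L88401 : sm gc N10714 = N10714 := ded_20_1 (flp_f L88397) L36822 L88397
theorem L88402 : sm gd N10714 = N7670 := ded_23_1 (flp_f L36841) (flp_d L36823) L88397
theorem L88404 : sm ge N10714 = N10690 := ded_25_1 (flp_f L88279) L88270 L88397
theorem L88406 : sm gg N10714 = N10680 := ded_29_3 L88212 (flp_f L36815) L36820 L88397
theorem L88408 : sm ga N7667 = N10715 := rfl
theorem L88410 : sm ge N10715 = N7751 := ded_10_2 (flp_a L37245) (flp_e L36827) L88408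
theorem L88412 : sm gc N7667 = N10716 := rfl
theorem L88414 : sm ge N10716 = N7752 := ded_19_2 (flp_c L37247) (flp_e L36827) L88412
theorem L88416 : sm gb N10716 = N7672 := ded_13_1 (flp_c L36859) (flp_b L17656) (flp_c L17646) L36825 L88412
theorem L88418 : sm gg N7667 = N10717 := rfl
theorem L88420 : sm ge N10717 = N7753 := ded_26_1 (flp_g L37251) (flp_e L36827) L88418
theorem L88422 : sm gb N7668 = N10718 := rfl
theorem L88424 : sm ge N10718 = N7754 := ded_15_2 (flp_b L37253) (flp_e L36833) L88422
theorem L88426 : sm ga N7669 = N10719 := rfl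
theorem L88428 : sm ge N10719 = N7755 := ded_10_2 (flp_a L37255) (flp_e L36839) L88426
theorem L88430 : sm gc N7669 = N10720 := rfl
theorem L88432 : sm ge N10720 = N7756 := ded_19_2 (flp_c L37257) (flp_e L36839) L88430
theorem L88434 : sm gb N10720 = N7676 := ded_13_1 (flp_c L36885) (flp_b L17672) (flp_c L17652) L36837 L88430
theorem L88436 : sm gf N7669 = N10721 := rfl
theorem L88438 : sm ge N10721 = N7757 := ded_25_1 (flp_f L37261) (flp_e L36839) L88436
theorem L88440 : sm gb N7670 = N10722 := rfl
theorem L88442 : sm ge N10722 = N7758 := ded_15_2 (flp_b L37263) (flp_e L36847) L88440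
theorem L88444 : sm gd N7672 = N10723 := rfl
theorem L88446 : sm gf N10723 = N8021 := ded_23_2 (flp_d L38798) (flp_f L36863) L88444
theorem L88448 : sm gc N10723 = N8021 := ded_28_6 (flp_d L38798) (flp_a L38784) (flp_c L38782) L18441 L69451 (flp_d L17658) L36859 L88444
theorem L88450 : sm gg N7672 = N10724 := rfl
theorem L88452 : sm gc N10724 = N7673 := ded_21_1 (flp_g L36865) L36859 L88450
theorem L88454 : sm ge N10724 = N7762 := ded_26_1 (flp_g L37279) (flp_e L36861) L88450
theorem L88456 : sm gc N7674 = N10725 := rfl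
theorem L88458 : sm ga N10725 = N8032 := ded_8_1 L38868 (flp_a L81617) L88456
theorem L88460 : sm ge N10725 = N7765 := ded_19_2 (flp_c L37293) (flp_e L36875) L88456
theorem L88462 : sm gf N10725 = N8029 := ded_20_2 (flp_c L38848) (flp_f L81619) L88456
theorem L88464 : sm gd N7676 = N10726 := rfl
theorem L88466 : sm gg N10726 = N8031 := ded_24_2 (flp_d L38864) (flp_g L36889) L88464
theorem L88468 : sm gc N10726 = N8031 := ded_28_6 (flp_d L38864) (flp_a L38850) (flp_c L38848) L18463 L78637 (flp_d L17674) L36885 L88464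
theorem L88470 : sm gf N7676 = N10727 := rfl
theorem L88472 : sm gc N10727 = N7677 := ded_20_1 (flp_f L36891) L36885 L88470
theorem L88474 : sm ge N10727 = N7770 := ded_25_1 (flp_f L37315) (flp_e L36887) L88470
theorem L88476 : sm gg N10727 = N10725 := ded_29_3 L88458 (flp_f L38866) (flp_g L36889) L88470
theorem L88478 : sm gc N7678 = N10728 := rfl
theorem L88480 : sm ga N10728 = N8022 := ded_8_1 L38802 (flp_a L81584) L88478
theorem L88482 : sm ge N10728 = N7773 := ded_19_2 (flp_c L37329) (flp_e L36901) L88478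
theorem L88484 : sm gf N10728 = N10724 := ded_20_2 L88452 (flp_f L81586) L88478
theorem L88486 : sm gg N10728 = N8019 := ded_21_2 (flp_c L38782) (flp_g L81588) L88478
theorem L88488 : sm ga N7733 = N10729 := rfl
theorem L88490 : sm gc N7733 = N10730 := rfl
theorem L88492 : sm gb N10730 = N8188 := ded_13_1 (flp_c L39577) (flp_b L18787) (flp_c L17806) L37157 L88490
theorem L88494 : sm gd N7733 = N10731 := rfl
theorem L88496 : sm gb N10731 = N7734 := ded_14_1 (flp_d L37159) L37157 L88494
theorem L88498 : sm gf N7733 = N10732 := rfl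
theorem L88500 : sm gg N7733 = N10733 := rfl
theorem L88502 : sm gc N7734 = N10734 := rfl
theorem L88504 : sm ga N10734 = N7737 := ded_8_1 (flp_c L37175) (flp_a L37161) L88502
theorem L88506 : sm gd N10640 = N10734 := ded_28_1 (flp_c L88502) (flp_d L37159) L17806 (flp_d L15914) (flp_c L32486) L87961 L87963 L87977
theorem L88508 : sm gd N10730 = N8188 := ded_32_23 (flp_c L39577) (flp_b L18787) (flp_e L18391) L38664 L84359 (flp_d L24869) L24864 L24868 L84289 (flp_c L84349) (flp_d L36794) L17639 (flp_b L8929) L8933 (flp_c L65839) (flp_d L15794) (flp_c L7749) (flp_b L7647) (flp_d L7645) (flp_c L7635) (flp_d L71722) L9711 L4939 L4979 L9813 L20379 (flp_c L20383) L72398 L20727 L21091 (flp_c L21095) (flp_d L10141) L5127 (flp_b L2783) L1430 (flp_c L821) (flp_d L362) L163 L85 L60 L57 L60 L57 (flp_b L85) L87 (flp_c L163) L362 L821 L1669 (flp_d L2785) (flp_c L5127) L10141 L21095 (flp_b L72321) (flp_e L10159) (flp_d L5129) (flp_c L2669) (flp_d L1366) (flp_c L1176) L1174 L1202 L2392 (flp_d L4017) (flp_c L4013) (flp_b L3955) (flp_d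 L3953) L2054 L3953 L7685 L15639 L32488 L87977 L88506 (flp_c L88502) (flp_b L88496) (flp_d L88494) L88490
theorem L88510 : sm gb N10734 = N10734 := ded_14_1 (flp_d L88506) L87979 L88506
theorem L88511 : sm gc N10731 = N10731 := ded_13_4 L88496 L88502 L88510 (flp_c L88502) (flp_b L88496)
theorem L88512 : N10729 = N10663 := coi_28_0 (flp_c L88116) L33068 L39577 (flp_d L88508) (flp_c L88490) L88494 L88511 (flp_d L88494) L88488
theorem L88513 : N10729 = N10663 := eqc rfl L88512 rfl
theorem L88514 : sm ga N10663 = N7733 := trfs L88513 (flp_a L88488) rfl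
theorem L88516 : N10662 = N10730 := coi_28_0 (flp_c L88490) L88494 L88511 (flp_d L88494) L88490 L88508 (flp_c L39577) (flp_d L33068) L88110
theorem L88517 : N10730 = N10662 := (eqc rfl L88516 rfl).symm
theorem L88518 : sm gb N10662 = N8188 := trfs L88517 L88492 rfl
theorem L88519 : N8188 = N8187 := eqes L88518 L88114
theorem L88520 : N8188 = N8187 := eqc rfl L88519 rfl
theorem L88521 : sm gc N10662 = N7733 := trfs L88517 (flp_c L88490) rfl
theorem L88524 : sm gc N8187 = N3910 := trfs L88520 (flp_c L39577) rfl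
theorem L88526 : sm ge N7734 = N10735 := rfl
theorem L88528 : sm ga N10735 = N7738 := ded_10_1 (flp_e L37177) (flp_a L37161) L88526
theorem L88530 : sm gf N7734 = N10736 := rfl
theorem L88532 : sm ga N10736 = N7739 := ded_11_1 (flp_f L37181) (flp_a L37161) L88530
theorem L88534 : sm gd N10736 = N7735 := ded_23_1 (flp_f L37163) L37159 L88530
theorem L88536 : sm gg N7734 = N10737 := rfl
theorem L88538 : sm ga N10737 = N7740 := ded_12_1 (flp_g L37185) (flp_a L37161) L88536
theorem L88540 : sm gd N10737 = N7736 := ded_24_1 (flp_g L37169) L37159 L88536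
theorem L88542 : sm gb N7735 = N10738 := rfl
theorem L88544 : sm gb N7736 = N10739 := rfl
theorem L88546 : sm gd N7737 = N10740 := rfl
theorem L88548 : sm ga N10740 = N10640 := ded_9_1 L88506 L88504 L88546
theorem L88550 : sm gc N10637 = N10740 := ded_28_0 (flp_d L88546) (flp_c L37175) (flp_d L17808) L8669 (flp_d L7801) (flp_c L15641) L32488 (flp_a L87963)
theorem L88552 : sm ge N7737 = N10741 := rfl
theorem L88554 : sm gc N10741 = N7738 := ded_19_1 (flp_e L37177) L37175 L88552
theorem L88556 : sm gf N7737 = N10742 := rfl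
theorem L88558 : sm gc N10742 = N7739 := ded_20_1 (flp_f L37181) L37175 L88556
theorem L88560 : sm gg N7737 = N10743 := rfl
theorem L88562 : sm gc N10743 = N7740 := ded_21_1 (flp_g L37185) L37175 L88560
theorem L88564 : sm gf N7738 = N10744 := rfl
theorem L88566 : sm ge N10744 = N7739 := ded_25_1 (flp_f L37181) L37177 L88564
theorem L88568 : sm gg N7738 = N10745 := rfl
theorem L88570 : sm ge N10745 = N7740 := ded_26_1 (flp_g L37185) L37177 L88568
theorem L88572 : sm gb N7739 = N10746 := rfl
theorem L88574 : sm gd N10746 = N7741 := ded_14_2 (flp_b L37189) (flp_d L37183) L88572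
theorem L88576 : sm gf N10746 = N7747 := ded_16_2 (flp_b L37219) (flp_f L17822) (flp_b L17810) L37181 L88572
theorem L88578 : sm gg N7739 = N10747 := rfl
theorem L88580 : sm gd N10747 = N7742 := ded_24_1 (flp_g L37193) (flp_d L37183) L88578
theorem L88582 : sm gf N10737 = N10747 := ded_29_0 (flp_g L88578) (flp_f L37181) L37185 (flp_a L88538)
theorem L88584 : sm gb N7740 = N10748 := rfl
theorem L88586 : sm gd N10748 = N7743 := ded_14_2 (flp_b L37199) (flp_d L37187) L88584
theorem L88588 : sm gg N10748 = N7749 := ded_17_2 (flp_b L37231) (flp_g L17826) (flp_b L17810) L37185 L88584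
theorem L88590 : sm gf N7740 = N10749 := rfl
theorem L88592 : sm ga N10749 = N10747 := ded_11_1 (flp_f L88582) L88538 L88590
theorem L88594 : sm gd N10749 = N7744 := ded_23_1 (flp_f L37203) (flp_d L37187) L88590
theorem L88596 : sm gg N10749 = N10736 := ded_29_3 L88532 (flp_f L37181) L37185 L88590
theorem L88598 : sm ga N7741 = N10750 := rfl
theorem L88600 : sm gf N10750 = N7751 := ded_11_2 (flp_a L37245) (flp_f L37191) L88598
theorem L88602 : sm gc N7741 = N10751 := rfl
theorem L88604 : sm gf N10751 = N7752 := ded_20_2 (flp_c L37247) (flp_f L37191) L88602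
theorem L88606 : sm gb N10751 = N8194 := ded_13_1 (flp_c L39591) (flp_b L18797) (flp_c L17814) L37189 L88602
theorem L88608 : sm gg N7741 = N10752 := rfl
theorem L88610 : sm gb N7742 = N10753 := rfl
theorem L88612 : sm ga N7743 = N10754 := rfl
theorem L88614 : sm gg N10754 = N7755 := ded_12_2 (flp_a L37255) (flp_g L37201) L88612
theorem L88616 : sm gc N7743 = N10755 := rfl
theorem L88618 : sm gg N10755 = N7756 := ded_21_2 (flp_c L37257) (flp_g L37201) L88616
theorem L88620 : sm gb N10755 = N8198 := ded_13_1 (flp_c L39603) (flp_b L18805) (flp_c L17818) L37199 L88616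
theorem L88622 : sm gf N7743 = N10756 := rfl
theorem L88624 : sm gb N7744 = N10757 := rfl
theorem L88626 : sm gb N7745 = N10758 := rfl
theorem L88628 : sm ge N10758 = N7747 := ded_15_2 (flp_b L37219) (flp_e L37213) L88626
theorem L88630 : sm gg N7745 = N10759 := rfl
theorem L88632 : sm gc N10759 = N9084 := ded_21_1 L44125 L42946 L88630
theorem L88634 : sm gd N10759 = N10692 := ded_24_1 L88290 L88259 L88630
theorem L88636 : sm ge N10759 = N7748 := ded_26_1 (flp_g L37223) (flp_e L37213) L88630
theorem L88638 : sm gf N9075 = N10759 := ded_29_0 (flp_g L88630) (flp_f L37211) L37215 (flp_a L72346)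
theorem L88640 : sm gb N7746 = N10760 := rfl
theorem L88642 : sm ge N10760 = N7749 := ded_15_2 (flp_b L37231) (flp_e L37217) L88640
theorem L88644 : sm gf N7746 = N10761 := rfl
theorem L88646 : sm ga N10761 = N10759 := ded_11_1 (flp_f L88638) L72346 L88644
theorem L88648 : sm gc N10761 = N9082 := ded_20_1 (flp_f L44113) L42954 L88644
theorem L88650 : sm gd N10761 = N10690 := ded_23_1 (flp_f L88279) L88268 L88644
theorem L88652 : sm ge N10761 = N7750 := ded_25_1 (flp_f L37235) (flp_e L37217) L88644
theorem L88654 : sm gg N10761 = N9074 := ded_29_3 L72352 (flp_f L37211) L37215 L88644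
theorem L88656 : sm ga N7747 = N10762 := rfl
theorem L88658 : sm gd N10762 = N7751 := ded_9_2 (flp_a L37245) (flp_d L37221) L88656
theorem L88660 : sm gc N7747 = N10763 := rfl
theorem L88662 : sm gg N7747 = N10764 := rfl
theorem L88664 : sm gd N10764 = N7753 := ded_24_1 (flp_g L37251) (flp_d L37221) L88662
theorem L88666 : sm gb N7748 = N10765 := rfl
theorem L88668 : sm gd N10765 = N7754 := ded_14_2 (flp_b L37253) (flp_d L37227) L88666
theorem L88670 : sm ga N7749 = N10766 := rfl
theorem L88672 : sm gd N10766 = N7755 := ded_9_2 (flp_a L37255) (flp_d L37233) L88670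
theorem L88674 : sm gc N7749 = N10767 := rfl
theorem L88676 : sm gf N7749 = N10768 := rfl
theorem L88678 : sm gd N10768 = N7757 := ded_23_1 (flp_f L37261) (flp_d L37233) L88676
theorem L88680 : sm gb N7750 = N10769 := rfl
theorem L88682 : sm gd N10769 = N7758 := ded_14_2 (flp_b L37263) (flp_d L37241) L88680
theorem L88684 : sm gb N7751 = N10770 := rfl
theorem L88686 : sm gc N7751 = N10771 := rfl
theorem L88688 : sm ga N10771 = N7752 := ded_8_1 (flp_c L37247) L37245 L88686
theorem L88690 : sm gg N7751 = N10772 := rfl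
theorem L88692 : sm ga N10772 = N7753 := ded_12_1 (flp_g L37251) L37245 L88690
theorem L88694 : sm gf N10772 = N10752 := ded_29_2 (flp_g L88608) L88598 L88600 L88690
theorem L88696 : sm gd N7752 = N10773 := rfl
theorem L88698 : sm gb N10773 = N7761 := ded_14_1 (flp_d L37275) (flp_b L37249) L88696
theorem L88700 : sm gg N7752 = N10774 := rfl
theorem L88702 : sm gc N10774 = N7753 := ded_21_1 (flp_g L37251) L37247 L88700
theorem L88704 : sm gb N7753 = N10775 := rfl
theorem L88706 : sm gg N10775 = N7754 := ded_17_2 (flp_b L37253) (flp_g L17832) L17830 L37251 L88704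
theorem L88708 : sm gf N7753 = N10776 := rfl
theorem L88710 : sm ga N10776 = N10752 := ded_11_1 (flp_f L88694) L88692 L88708
theorem L88712 : sm gg N10776 = N10750 := ded_29_3 (flp_a L88598) L37191 L37251 L88708
theorem L88714 : sm ga N7754 = N10777 := rfl
theorem L88716 : sm gc N7754 = N10778 := rfl
theorem L88718 : sm gb N10778 = N7765 := ded_13_1 (flp_c L37293) (flp_b L17862) (flp_c L17834) L37253 L88716
theorem L88720 : sm gf N7754 = N10779 := rfl
theorem L88722 : sm gb N10779 = N10698 := ded_16_1 (flp_f L88306) (flp_b L36612) L17836 L37253 L88720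
theorem L88724 : sm gb N7755 = N10780 := rfl
theorem L88726 : sm gc N7755 = N10781 := rfl
theorem L88728 : sm ga N10781 = N7756 := ded_8_1 (flp_c L37257) L37255 L88726
theorem L88730 : sm gf N7755 = N10782 := rfl
theorem L88732 : sm ga N10782 = N7757 := ded_11_1 (flp_f L37261) L37255 L88730
theorem L88734 : sm gg N10756 = N10782 := ded_29_1 (flp_f L88730) (flp_g L88614) (flp_a L88612) L88622
theorem L88736 : sm gd N7756 = N10783 := rfl
theorem L88738 : sm gb N10783 = N7769 := ded_14_1 (flp_d L37311) (flp_b L37259) L88736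
theorem L88740 : sm gf N7756 = N10784 := rfl
theorem L88742 : sm gc N10784 = N7757 := ded_20_1 (flp_f L37261) L37257 L88740
theorem L88744 : sm gb N7757 = N10785 := rfl
theorem L88746 : sm gf N10785 = N7758 := ded_16_2 (flp_b L37263) (flp_f L17840) L17838 L37261 L88744
theorem L88748 : sm gg N7757 = N10786 := rfl
theorem L88750 : sm ga N10786 = N10756 := ded_12_1 L88734 L88732 L88748
theorem L88752 : sm gf N10754 = N10786 := ded_29_0 (flp_g L88748) (flp_f L37261) (flp_g L37201) L88612
theorem L88754 : sm ga N7758 = N10787 := rfl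
theorem L88756 : sm gc N7758 = N10788 := rfl
theorem L88758 : sm gb N10788 = N7773 := ded_13_1 (flp_c L37329) (flp_b L17880) (flp_c L17844) L37263 L88756
theorem L88760 : sm gg N7758 = N10789 := rfl
theorem L88762 : sm gb N10789 = N10695 := ded_17_1 (flp_g L88298) (flp_b L36610) (flp_g L17846) L37263 L88760
theorem L88764 : sm gb N7760 = N10790 := rfl
theorem L88766 : sm gc N10790 = N10790 := ded_13_2 (flp_b L88764) (flp_c L37269) L64764 L37269 L88764
theorem L88767 : sm gd N7760 = N10791 := rfl
theorem L88769 : sm ga N10791 = N7761 := ded_9_1 (flp_d L37275) (flp_a L37271) L88767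
theorem L88771 : sm gf N10791 = N8226 := ded_23_2 (flp_d L39713) (flp_f L37273) L88767
theorem L88773 : sm gc N7761 = N10792 := rfl
theorem L88775 : sm gf N10792 = N8229 := ded_20_2 (flp_c L39729) (flp_f L37277) L88773
theorem L88777 : sm ge N7761 = N10793 := rfl
theorem L88779 : sm gf N10793 = N8230 := ded_25_2 (flp_e L39731) (flp_f L37277) L88777
theorem L88781 : sm gg N7761 = N10794 := rfl
theorem L88783 : sm gd N10794 = N7762 := ded_24_1 (flp_g L37279) L37275 L88781
theorem L88785 : sm gb N7762 = N10795 := rfl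
theorem L88787 : sm gd N7765 = N10796 := rfl
theorem L88789 : sm ga N10796 = N8254 := ded_9_1 L39833 (flp_a L81623) L88787
theorem L88791 : sm gf N10796 = N8249 := ded_23_2 (flp_d L39811) (flp_f L81625) L88787
theorem L88793 : sm gb N7768 = N10797 := rfl
theorem L88795 : sm gc N10797 = N10797 := ded_13_2 (flp_b L88793) (flp_c L37305) L78631 L37305 L88793
theorem L88796 : sm gd N7768 = N10798 := rfl
theorem L88798 : sm ga N10798 = N7769 := ded_9_1 (flp_d L37311) (flp_a L37307) L88796
theorem L88800 : sm gg N10798 = N8249 := ded_24_2 (flp_d L39811) (flp_g L37309) L88796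
theorem L88802 : sm gc N7769 = N10799 := rfl
theorem L88804 : sm gg N10799 = N8252 := ded_21_2 (flp_c L39827) (flp_g L37313) L88802
theorem L88806 : sm ge N7769 = N10800 := rfl
theorem L88808 : sm gg N10800 = N8253 := ded_26_2 (flp_e L39829) (flp_g L37313) L88806
theorem L88810 : sm gf N7769 = N10801 := rfl
theorem L88812 : sm gd N10801 = N7770 := ded_23_1 (flp_f L37315) L37311 L88810
theorem L88814 : sm gg N10801 = N10796 := ded_29_3 L88789 (flp_f L39831) (flp_g L37313) L88810
theorem L88816 : sm gb N7770 = N10802 := rfl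
theorem L88818 : sm gc N10802 = N10795 := ded_13_2 (flp_b L88785) L37281 L74370 (flp_c L37317) L88816
theorem L88820 : sm gd N7773 = N10803 := rfl
theorem L88822 : sm ga N10803 = N8231 := ded_9_1 L39735 (flp_a L81596) L88820
theorem L88824 : sm gf N10803 = N10794 := ded_23_2 L88783 (flp_f L81598) L88820
theorem L88826 : sm gg N10803 = N8226 := ded_24_2 (flp_d L39713) (flp_g L81600) L88820
theorem L88828 : sm gd N7779 = N10804 := rfl
theorem L88830 : sm ga N10804 = N10804 := ded_9_1 (flp_d L88828) L37363 L88828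
theorem L88831 : sm gb N10804 = N7780 := ded_14_1 (flp_d L37364) L37359 L88828
theorem L88833 : sm gf N10804 = N10804 := ded_23_2 (flp_d L88828) L71677 L88828
theorem L88834 : sm gg N7779 = N10805 := rfl
theorem L88836 : sm ga N10805 = N10805 := ded_12_1 (flp_g L88834) L37363 L88834
theorem L88837 : sm gc N10805 = N10805 := ded_21_1 (flp_g L88834) L71678 L88834
theorem L88838 : sm ge N10805 = N7822 := ded_26_1 (flp_g L37616) (flp_e L37361) L88834
theorem L88840 : sm gf N10805 = N10805 := ded_29_0 (flp_g L88834) L71677 L88834 L88836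
theorem L88841 : sm gc N7780 = N10806 := rfl
theorem L88843 : sm ga N10806 = N7781 := ded_8_1 (flp_c L37370) (flp_a L37366) L88841
theorem L88845 : sm gf N10806 = N8275 := ded_20_2 (flp_c L39945) (flp_f L37368) L88841
theorem L88847 : sm gd N10792 = N10806 := ded_28_1 (flp_c L88841) (flp_d L37364) (flp_c L17888) (flp_d L17850) L37269 L88767 L88769 L88773
theorem L88849 : sm ge N7780 = N10807 := rfl
theorem L88851 : sm ga N10807 = N7782 := ded_10_1 (flp_e L37374) (flp_a L37366) L88849
theorem L88853 : sm gf N10807 = N8276 := ded_25_2 (flp_e L39951) (flp_f L37368) L88849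
theorem L88855 : sm gd N10807 = N7824 := ded_22_1 (flp_e L37627) (flp_d L17989) (flp_e L17892) L37364 L88849
theorem L88857 : sm gb N7781 = N10808 := rfl
theorem L88859 : sm gc N10808 = N9149 := ded_13_2 (flp_b L44412) (flp_c L21313) (flp_b L17898) L37370 L88857
theorem L88861 : sm gd N7781 = N10809 := rfl
theorem L88863 : sm ga N10809 = N10792 := ded_9_1 L88847 L88843 L88861
theorem L88865 : sm gf N10809 = N8283 := ded_23_2 (flp_d L39987) (flp_f L37372) L88861
theorem L88867 : sm gc N10791 = N10809 := ded_28_0 (flp_d L88861) (flp_c L37370) (flp_d L17896) (flp_c L8713) (flp_d L8683) L17854 L37275 (flp_a L88769)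
theorem L88869 : sm ge N7781 = N10810 := rfl
theorem L88871 : sm gc N10810 = N7782 := ded_19_1 (flp_e L37374) L37370 L88869
theorem L88873 : sm gf N10810 = N8284 := ded_25_2 (flp_e L39993) (flp_f L37372) L88869
theorem L88875 : sm gg N7781 = N10811 := rfl
theorem L88877 : sm gc N10811 = N7783 := ded_21_1 (flp_g L37382) L37370 L88875
theorem L88879 : sm gg N7782 = N10812 := rfl
theorem L88883 : sm ge N10812 = N7783 := ded_26_1 (flp_g L37382) L37374 L88879
theorem L88885 : sm gc N7791 = N10813 := rfl
theorem L88887 : sm ga N10813 = N8328 := ded_8_1 L40247 (flp_a L74187) L88885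
theorem L88889 : sm gf N10813 = N8321 := ded_20_2 (flp_c L40203) L74199 L88885
theorem L88891 : sm ge N7791 = N10814 := rfl
theorem L88893 : sm ga N10814 = N8329 := ded_10_1 L40253 (flp_a L74187) L88891
theorem L88895 : sm gb N10814 = N9165 := ded_15_1 (flp_e L44492) (flp_b L37428) L88891
theorem L88897 : sm gf N10814 = N8322 := ded_25_2 (flp_e L40209) L74199 L88891
theorem L88899 : sm gd N10814 = N7845 := ded_22_1 (flp_e L37731) (flp_d L18035) (flp_e L17920) L37426 L88891
theorem L88901 : sm gd N7798 = N10815 := rfl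
theorem L88903 : sm ga N10815 = N10815 := ded_9_1 (flp_d L88901) L71324 L88901
theorem L88904 : sm gb N10815 = N7799 := ded_14_1 (flp_d L37470) L37466 L88901
theorem L88906 : sm gg N10815 = N10815 := ded_24_2 (flp_d L88901) L82663 L88901
theorem L88907 : sm gf N7798 = N10816 := rfl
theorem L88909 : sm ga N10816 = N10816 := ded_11_1 (flp_f L88907) L71324 L88907
theorem L88910 : sm gc N10816 = N10816 := ded_20_1 (flp_f L88907) L83408 L88907
theorem L88911 : sm ge N10816 = N7860 := ded_25_1 (flp_f L37974) (flp_e L37468) L88907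
theorem L88913 : sm gg N10816 = N10816 := ded_29_3 L88909 (flp_f L88907) L82663 L88907
theorem L88914 : sm gc N7799 = N10817 := rfl
theorem L88916 : sm ga N10817 = N7800 := ded_8_1 (flp_c L37476) (flp_a L37472) L88914
theorem L88918 : sm gg N10817 = N8321 := ded_21_2 (flp_c L40203) (flp_g L37474) L88914
theorem L88920 : sm gd N10799 = N10817 := ded_28_1 (flp_c L88914) (flp_d L37470) (flp_c L17934) (flp_d L17868) L37305 L88796 L88798 L88802
theorem L88922 : sm ge N7799 = N10818 := rfl
theorem L88924 : sm ga N10818 = N7801 := ded_10_1 (flp_e L37480) (flp_a L37472) L88922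
theorem L88926 : sm gg N10818 = N8322 := ded_26_2 (flp_e L40209) (flp_g L37474) L88922
theorem L88928 : sm gd N10818 = N7862 := ded_22_1 (flp_e L37986) (flp_d L18061) (flp_e L17938) L37470 L88922
theorem L88930 : sm gb N7800 = N10819 := rfl
theorem L88932 : sm gc N10819 = N9179 := ded_13_2 (flp_b L44573) (flp_c L21406) (flp_b L17944) L37476 L88930
theorem L88934 : sm gd N7800 = N10820 := rfl
theorem L88936 : sm ga N10820 = N10799 := ded_9_1 L88920 L88916 L88934
theorem L88938 : sm gg N10820 = N8326 := ded_24_2 (flp_d L40235) (flp_g L37478) L88934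
theorem L88940 : sm gc N10798 = N10820 := ded_28_0 (flp_d L88934) (flp_c L37476) (flp_d L17942) (flp_c L8735) (flp_d L8695) L17872 L37311 (flp_a L88798)
theorem L88942 : sm ge N7800 = N10821 := rfl
theorem L88944 : sm gc N10821 = N7801 := ded_19_1 (flp_e L37480) L37476 L88942
theorem L88946 : sm gg N10821 = N8327 := ded_26_2 (flp_e L40241) (flp_g L37478) L88942
theorem L88948 : sm gf N7800 = N10822 := rfl
theorem L88950 : sm gc N10822 = N7802 := ded_20_1 (flp_f L37488) L37476 L88948
theorem L88952 : sm gg N10822 = N10813 := ded_29_3 L88887 (flp_f L40245) (flp_g L37478) L88948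
theorem L88954 : sm gf N7801 = N10823 := rfl
theorem L88960 : sm gg N10823 = N10814 := ded_29_3 L88893 (flp_f L40249) (flp_g L37484) L88954
theorem L88962 : sm gc N7810 = N10824 := rfl
theorem L88964 : sm ga N10824 = N8285 := ded_8_1 L39999 (flp_a L78279) L88962
theorem L88966 : sm gf N10824 = N10811 := ded_20_2 L88877 (flp_f L78281) L88962
theorem L88968 : sm gg N10824 = N8275 := ded_21_2 (flp_c L39945) (flp_g L78283) L88962
theorem L88970 : sm ge N7810 = N10825 := rfl
theorem L88972 : sm ga N10825 = N8286 := ded_10_1 L40005 (flp_a L78279) L88970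
theorem L88974 : sm gb N10825 = N9195 := ded_15_1 (flp_e L44655) (flp_b L37546) L88970
theorem L88976 : sm gf N10825 = N10812 := ded_25_2 L88883 (flp_f L78281) L88970
theorem L88978 : sm gg N10825 = N8276 := ded_26_2 (flp_e L39951) (flp_g L78283) L88970
theorem L88980 : sm gd N10825 = N7879 := ded_22_1 (flp_e L38074) (flp_d L18119) (flp_e L17966) L37544 L88970
theorem L88982 : sm ge N7821 = N10826 := rfl
theorem L88985 : sm gb N10826 = N7824 := ded_15_1 (flp_e L37627) (flp_b L37614) L88982
theorem L88989 : sm gg N7821 = N10827 := rfl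
theorem L88996 : sm ge N7859 = N10828 := rfl
theorem L88999 : sm gb N10828 = N7862 := ded_15_1 (flp_e L37986) (flp_b L37972) L88996
theorem L89003 : sm gf N7859 = N10829 := rfl
theorem L89010 : sm ga N7995 = N10830 := rfl
theorem L89012 : sm ge N10830 = N8187 := ded_10_2 (flp_a L39575) (flp_e L38662) L89010
theorem L89014 : sm gc N7995 = N10830 := ded_19_3 L89012 L88524 (flp_e L38662)
theorem L89016 : sm gd N7995 = N10831 := rfl
theorem L89018 : sm gb N10831 = N7996 := ded_14_1 (flp_d L38664) L38660 L89016
theorem L89020 : sm gc N9957 = N10831 := ded_13_0 L89018 L84359 L24871 L24881 L84340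
theorem L89022 : sm gf N7995 = N10832 := rfl
theorem L89024 : sm ge N10832 = N8189 := ded_25_1 (flp_f L39579) (flp_e L38662) L89022
theorem L89026 : sm gg N7995 = N10833 := rfl
theorem L89028 : sm ge N10833 = N8190 := ded_26_1 (flp_g L39581) (flp_e L38662) L89026
theorem L89030 : sm gf N7996 = N10834 := rfl
theorem L89032 : sm ga N10834 = N8000 := ded_11_1 (flp_f L38682) (flp_a L38666) L89030
theorem L89034 : sm gc N10834 = N9951 := ded_20_1 (flp_f L84306) (flp_c L84359) L89030
theorem L89036 : sm gd N10834 = N7997 := ded_23_1 (flp_f L38668) L38664 L89030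
theorem L89038 : sm gg N7996 = N10835 := rfl
theorem L89040 : sm ga N10835 = N8001 := ded_12_1 (flp_g L38686) (flp_a L38666) L89038
theorem L89042 : sm gc N10835 = N9952 := ded_21_1 (flp_g L84310) (flp_c L84359) L89038
theorem L89044 : sm gd N10835 = N7998 := ded_24_1 (flp_g L38674) L38664 L89038
theorem L89046 : sm gb N7997 = N10836 := rfl
theorem L89048 : sm ge N10836 = N8191 := ded_15_2 (flp_b L39583) (flp_e L38672) L89046
theorem L89050 : sm gb N7998 = N10837 := rfl
theorem L89052 : sm ge N10837 = N8192 := ded_15_2 (flp_b L39585) (flp_e L38678) L89050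
theorem L89054 : sm gf N7999 = N10838 := rfl
theorem L89056 : sm ga N10838 = N9951 := ded_11_1 (flp_f L84306) (flp_a L84353) L89054
theorem L89058 : sm gc N10838 = N8000 := ded_20_1 (flp_f L38682) L38680 L89054
theorem L89060 : sm gd N10838 = N9945 := ded_23_1 (flp_f L84277) (flp_d L84355) L89054
theorem L89062 : sm gg N7999 = N10839 := rfl
theorem L89064 : sm ga N10839 = N9952 := ded_12_1 (flp_g L84310) (flp_a L84353) L89062
theorem L89066 : sm gc N10839 = N8001 := ded_21_1 (flp_g L38686) L38680 L89062
theorem L89068 : sm gd N10839 = N9946 := ded_24_1 (flp_g L84283) (flp_d L84355) L89062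
theorem L89070 : sm gb N8000 = N10840 := rfl
theorem L89072 : sm gd N10840 = N8002 := ded_14_2 (flp_b L38690) (flp_d L38684) L89070
theorem L89074 : sm gf N10840 = N8006 := ded_16_2 (flp_b L38716) (flp_f L18405) (flp_b L18395) L38682 L89070
theorem L89076 : sm gg N8000 = N10841 := rfl
theorem L89078 : sm gd N10841 = N8003 := ded_24_1 (flp_g L38696) (flp_d L38684) L89076
theorem L89080 : sm gf N10835 = N10841 := ded_29_0 (flp_g L89076) (flp_f L38682) L38686 (flp_a L89040)
theorem L89082 : sm gb N8001 = N10842 := rfl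
theorem L89084 : sm gd N10842 = N8004 := ded_14_2 (flp_b L38702) (flp_d L38688) L89082
theorem L89086 : sm gg N10842 = N8008 := ded_17_2 (flp_b L38726) (flp_g L18409) (flp_b L18395) L38686 L89082
theorem L89088 : sm gf N8001 = N10843 := rfl
theorem L89090 : sm ga N10843 = N10841 := ded_11_1 (flp_f L89080) L89040 L89088
theorem L89092 : sm gd N10843 = N8005 := ded_23_1 (flp_f L38708) (flp_d L38688) L89088
theorem L89094 : sm gg N10843 = N10834 := ded_29_3 L89032 (flp_f L38682) L38686 L89088
theorem L89096 : sm ga N8002 = N10844 := rfl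
theorem L89098 : sm ge N10844 = N8193 := ded_10_2 (flp_a L39587) (flp_e L38692) L89096
theorem L89100 : sm gf N10844 = N8010 := ded_11_2 (flp_a L38740) (flp_f L38694) L89096
theorem L89102 : sm gc N8002 = N10845 := rfl
theorem L89104 : sm ge N10845 = N8194 := ded_19_2 (flp_c L39591) (flp_e L38692) L89102
theorem L89106 : sm gf N10845 = N8011 := ded_20_2 (flp_c L38744) (flp_f L38694) L89102
theorem L89108 : sm gg N8002 = N10846 := rfl
theorem L89110 : sm ge N10846 = N8195 := ded_26_1 (flp_g L39595) (flp_e L38692) L89108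
theorem L89112 : sm gb N8003 = N10847 := rfl
theorem L89114 : sm ge N10847 = N8196 := ded_15_2 (flp_b L39597) (flp_e L38698) L89112
theorem L89116 : sm ga N8004 = N10848 := rfl
theorem L89118 : sm ge N10848 = N8197 := ded_10_2 (flp_a L39599) (flp_e L38704) L89116
theorem L89120 : sm gg N10848 = N8014 := ded_12_2 (flp_a L38758) (flp_g L38706) L89116
theorem L89122 : sm gc N8004 = N10849 := rfl
theorem L89124 : sm ge N10849 = N8198 := ded_19_2 (flp_c L39603) (flp_e L38704) L89122
theorem L89126 : sm gg N10849 = N8015 := ded_21_2 (flp_c L38762) (flp_g L38706) L89122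
theorem L89128 : sm gf N8004 = N10850 := rfl
theorem L89130 : sm ge N10850 = N8199 := ded_25_1 (flp_f L39607) (flp_e L38704) L89128
theorem L89132 : sm gb N8005 = N10851 := rfl
theorem L89134 : sm ge N10851 = N8200 := ded_15_2 (flp_b L39609) (flp_e L38712) L89132
theorem L89136 : sm ga N8006 = N10852 := rfl
theorem L89138 : sm gd N10852 = N8010 := ded_9_2 (flp_a L38740) (flp_d L38718) L89136
theorem L89140 : sm gc N8006 = N10853 := rfl
theorem L89142 : sm gg N8006 = N10854 := rfl
theorem L89144 : sm gd N10854 = N8012 := ded_24_1 (flp_g L38750) (flp_d L38718) L89142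
theorem L89146 : sm gb N8007 = N10855 := rfl
theorem L89148 : sm gd N10855 = N8013 := ded_14_2 (flp_b L38754) (flp_d L38722) L89146
theorem L89150 : sm ga N8008 = N10856 := rfl
theorem L89152 : sm gd N10856 = N8014 := ded_9_2 (flp_a L38758) (flp_d L38728) L89150
theorem L89154 : sm gc N8008 = N10857 := rfl
theorem L89156 : sm gf N8008 = N10858 := rfl
theorem L89158 : sm gd N10858 = N8016 := ded_23_1 (flp_f L38768) (flp_d L38728) L89156
theorem L89160 : sm gb N8009 = N10859 := rfl
theorem L89162 : sm gd N10859 = N8017 := ded_14_2 (flp_b L38772) (flp_d L38734) L89160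
theorem L89164 : sm ge N10859 = N10855 := ded_15_2 (flp_b L89146) (flp_e L38736) L89160
theorem L89166 : sm gb N8010 = N10860 := rfl
theorem L89168 : sm ge N10860 = N8201 := ded_15_2 (flp_b L39611) (flp_e L38742) L89166
theorem L89170 : sm gc N8010 = N10861 := rfl
theorem L89172 : sm ga N10861 = N8011 := ded_8_1 (flp_c L38744) L38740 L89170
theorem L89174 : sm ge N10861 = N8202 := ded_19_2 (flp_c L39613) (flp_e L38742) L89170
theorem L89176 : sm gg N8010 = N10862 := rfl
theorem L89178 : sm ga N10862 = N8012 := ded_12_1 (flp_g L38750) L38740 L89176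
theorem L89180 : sm ge N10862 = N8203 := ded_26_1 (flp_g L39617) (flp_e L38742) L89176
theorem L89182 : sm gf N10862 = N10846 := ded_29_2 (flp_g L89108) L89096 L89100 L89176
theorem L89184 : sm gd N8011 = N10863 := rfl
theorem L89186 : sm gb N10863 = N8021 := ded_14_1 (flp_d L38798) (flp_b L38748) L89184
theorem L89188 : sm gg N8011 = N10864 := rfl
theorem L89190 : sm gc N10864 = N8012 := ded_21_1 (flp_g L38750) L38744 L89188
theorem L89192 : sm ge N10864 = N8205 := ded_26_1 (flp_g L39627) (flp_e L38746) L89188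
theorem L89194 : sm gb N8012 = N10865 := rfl
theorem L89196 : sm ge N10865 = N8206 := ded_15_2 (flp_b L39631) (flp_e L38752) L89194
theorem L89198 : sm gg N10865 = N8013 := ded_17_2 (flp_b L38754) (flp_g L18417) L18413 L38750 L89194
theorem L89200 : sm gf N8012 = N10866 := rfl
theorem L89202 : sm ga N10866 = N10846 := ded_11_1 (flp_f L89182) L89178 L89200
theorem L89204 : sm ge N10866 = N8207 := ded_25_1 (flp_f L39635) (flp_e L38752) L89200
theorem L89206 : sm gg N10866 = N10844 := ded_29_3 (flp_a L89096) L38694 L38750 L89200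
theorem L89208 : sm ga N8013 = N10867 := rfl
theorem L89210 : sm ge N10867 = N8208 := ded_10_2 (flp_a L39641) (flp_e L38756) L89208
theorem L89212 : sm gc N8013 = N10868 := rfl
theorem L89214 : sm ge N10868 = N8209 := ded_19_2 (flp_c L39643) (flp_e L38756) L89212
theorem L89216 : sm gb N10868 = N8026 := ded_13_1 (flp_c L38830) (flp_b L18455) (flp_c L18419) L38754 L89212
theorem L89218 : sm gf N8013 = N10869 := rfl
theorem L89220 : sm ge N10869 = N8210 := ded_25_1 (flp_f L39647) (flp_e L38756) L89218
theorem L89222 : sm gb N10869 = N10661 := ded_16_1 (flp_f L88105) (flp_b L32848) L18423 L38754 L89218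
theorem L89224 : sm gb N8014 = N10870 := rfl
theorem L89226 : sm ge N10870 = N8211 := ded_15_2 (flp_b L39651) (flp_e L38760) L89224
theorem L89228 : sm gc N8014 = N10871 := rfl
theorem L89230 : sm ga N10871 = N8015 := ded_8_1 (flp_c L38762) L38758 L89228
theorem L89232 : sm ge N10871 = N8212 := ded_19_2 (flp_c L39653) (flp_e L38760) L89228
theorem L89234 : sm gf N8014 = N10872 := rfl
theorem L89236 : sm ga N10872 = N8016 := ded_11_1 (flp_f L38768) L38758 L89234
theorem L89238 : sm ge N10872 = N8213 := ded_25_1 (flp_f L39657) (flp_e L38760) L89234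
theorem L89240 : sm gg N10850 = N10872 := ded_29_1 (flp_f L89234) (flp_g L89120) (flp_a L89116) L89128
theorem L89242 : sm gd N8015 = N10873 := rfl
theorem L89244 : sm gb N10873 = N8031 := ded_14_1 (flp_d L38864) (flp_b L38766) L89242
theorem L89246 : sm gf N8015 = N10874 := rfl
theorem L89248 : sm gc N10874 = N8016 := ded_20_1 (flp_f L38768) L38762 L89246
theorem L89250 : sm ge N10874 = N8215 := ded_25_1 (flp_f L39667) (flp_e L38764) L89246
theorem L89252 : sm gb N8016 = N10875 := rfl
theorem L89254 : sm ge N10875 = N8216 := ded_15_2 (flp_b L39671) (flp_e L38770) L89252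
theorem L89256 : sm gf N10875 = N8017 := ded_16_2 (flp_b L38772) (flp_f L18429) L18425 L38768 L89252
theorem L89258 : sm gg N8016 = N10876 := rfl
theorem L89260 : sm ga N10876 = N10850 := ded_12_1 L89240 L89236 L89258
theorem L89262 : sm ge N10876 = N8217 := ded_26_1 (flp_g L39677) (flp_e L38770) L89258
theorem L89264 : sm gf N10848 = N10876 := ded_29_0 (flp_g L89258) (flp_f L38768) (flp_g L38706) L89116
theorem L89266 : sm ga N8017 = N10877 := rfl
theorem L89268 : sm ge N10877 = N8218 := ded_10_2 (flp_a L39683) (flp_e L38774) L89266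
theorem L89270 : sm gc N8017 = N10878 := rfl
theorem L89272 : sm ge N10878 = N8219 := ded_19_2 (flp_c L39687) (flp_e L38774) L89270
theorem L89274 : sm gb N10878 = N8036 := ded_13_1 (flp_c L38896) (flp_b L18477) (flp_c L18433) L38772 L89270
theorem L89276 : sm gg N8017 = N10879 := rfl
theorem L89278 : sm ge N10879 = N8220 := ded_26_1 (flp_g L39691) (flp_e L38774) L89276
theorem L89280 : sm gb N10879 = N10659 := ded_17_1 (flp_g L88095) (flp_b L32844) (flp_g L18437) L38772 L89276
theorem L89282 : sm gc N8018 = N10880 := rfl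
theorem L89284 : sm ga N10880 = N10880 := ded_8_1 (flp_c L89282) L71992 L89282
theorem L89285 : sm ge N10880 = N8222 := ded_19_2 (flp_c L39701) (flp_e L38780) L89282
theorem L89287 : sm gf N10880 = N10880 := ded_20_2 (flp_c L89282) L71953 L89282
theorem L89288 : sm gg N10880 = N10684 := ded_21_2 (flp_c L88236) (flp_g L82666) L89282
theorem L89290 : sm gb N8019 = N10881 := rfl
theorem L89292 : sm ge N10881 = N8225 := ded_15_2 (flp_b L39711) (flp_e L38786) L89290
theorem L89294 : sm gd N8019 = N10882 := rfl
theorem L89296 : sm ga N10882 = N8021 := ded_9_1 (flp_d L38798) (flp_a L38784) L89294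
theorem L89298 : sm ge N8021 = N10883 := rfl
theorem L89300 : sm gd N10883 = N8230 := ded_22_1 (flp_e L39731) (flp_d L18853) (flp_e L18447) L38798 L89298
theorem L89302 : sm gg N8021 = N10884 := rfl
theorem L89304 : sm gd N10884 = N8022 := ded_24_1 (flp_g L38800) L38798 L89302
theorem L89306 : sm gb N8022 = N10885 := rfl
theorem L89308 : sm ge N10885 = N8232 := ded_15_2 (flp_b L39737) (flp_e L38804) L89306
theorem L89310 : sm gf N8022 = N10886 := rfl
theorem L89312 : sm ga N10886 = N10724 := ded_11_1 (flp_f L88484) L88480 L89310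
theorem L89314 : sm gc N10886 = N8024 := ded_20_1 (flp_f L38814) (flp_c L38802) L89310
theorem L89316 : sm ge N10886 = N8233 := ded_25_1 (flp_f L39739) (flp_e L38804) L89310
theorem L89318 : sm gg N10886 = N8046 := ded_29_3 L72130 L36863 L38800 L89310
theorem L89320 : sm ga N8023 = N10887 := rfl
theorem L89322 : sm gd N10887 = N8051 := ded_9_2 (flp_a L38970) (flp_d L38808) L89320
theorem L89324 : sm ge N10887 = N8234 := ded_10_2 (flp_a L39747) (flp_e L38810) L89320
theorem L89326 : sm gg N10887 = N8025 := ded_12_2 (flp_a L38824) (flp_g L38812) L89320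
theorem L89328 : sm gf N10887 = N8023 := ded_29_0 L38812 L78922 (flp_g L38812) L89320
theorem L89330 : sm gc N8023 = N10888 := rfl
theorem L89332 : sm ge N10888 = N8235 := ded_19_2 (flp_c L39753) (flp_e L38810) L89330
theorem L89334 : sm gg N10888 = N8026 := ded_21_2 (flp_c L38830) (flp_g L38812) L89330
theorem L89336 : sm gc N8025 = N10889 := rfl
theorem L89338 : sm ga N10889 = N8026 := ded_8_1 (flp_c L38830) L38824 L89336
theorem L89340 : sm ge N10889 = N8239 := ded_19_2 (flp_c L39769) (flp_e L38828) L89336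
theorem L89342 : sm gf N10889 = N10889 := ded_20_2 (flp_c L89336) L82696 L89336
theorem L89343 : sm gd N8026 = N10890 := rfl
theorem L89345 : sm gf N10890 = N10890 := ded_23_2 (flp_d L89343) L83335 L89343
theorem L89346 : sm gc N8028 = N10891 := rfl
theorem L89348 : sm ga N10891 = N10891 := ded_8_1 (flp_c L89346) L83327 L89346
theorem L89349 : sm ge N10891 = N8245 := ded_19_2 (flp_c L39799) (flp_e L38846) L89346
theorem L89351 : sm gf N10891 = N10685 := ded_20_2 (flp_c L88242) L83328 L89346
theorem L89353 : sm gg N10891 = N10891 := ded_21_2 (flp_c L89346) L82695 L89346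
theorem L89354 : sm gb N8029 = N10892 := rfl
theorem L89356 : sm ge N10892 = N8248 := ded_15_2 (flp_b L39809) (flp_e L38852) L89354
theorem L89358 : sm gd N8029 = N10893 := rfl
theorem L89360 : sm ga N10893 = N8031 := ded_9_1 (flp_d L38864) (flp_a L38850) L89358
theorem L89362 : sm ge N8031 = N10894 := rfl
theorem L89364 : sm gd N10894 = N8253 := ded_22_1 (flp_e L39829) (flp_d L18901) (flp_e L18469) L38864 L89362
theorem L89366 : sm gf N8031 = N10895 := rfl
theorem L89368 : sm gd N10895 = N8032 := ded_23_1 (flp_f L38866) L38864 L89366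
theorem L89370 : sm gb N8032 = N10896 := rfl
theorem L89372 : sm ge N10896 = N8255 := ded_15_2 (flp_b L39835) (flp_e L38870) L89370
theorem L89374 : sm gg N8032 = N10897 := rfl
theorem L89376 : sm ga N10897 = N10727 := ded_12_1 L88476 L88458 L89374
theorem L89378 : sm gc N10897 = N8034 := ded_21_1 (flp_g L38880) (flp_c L38868) L89374
theorem L89380 : sm ge N10897 = N8256 := ded_26_1 (flp_g L39837) (flp_e L38870) L89374
theorem L89382 : sm gf N8069 = N10897 := ded_29_0 (flp_g L89374) (flp_f L38866) (flp_g L36889) L82690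
theorem L89384 : sm ga N8033 = N10898 := rfl
theorem L89386 : sm gd N10898 = N8074 := ded_9_2 (flp_a L39086) (flp_d L38874) L89384
theorem L89388 : sm ge N10898 = N8257 := ded_10_2 (flp_a L39845) (flp_e L38876) L89384
theorem L89390 : sm gf N10898 = N8035 := ded_11_2 (flp_a L38890) (flp_f L38878) L89384
theorem L89392 : sm gg N10898 = N8033 := ded_29_3 L89384 L89390 L71760 (flp_f L89390)
theorem L89394 : sm gb N10898 = N10887 := ded_7_2 (flp_a L89320) (flp_b L38806) (flp_a L81584) (flp_b L36897) L17682 L36871 L81617 L38872 L89384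
theorem L89396 : sm gc N8033 = N10899 := rfl
theorem L89398 : sm ge N10899 = N8258 := ded_19_2 (flp_c L39851) (flp_e L38876) L89396
theorem L89400 : sm gf N10899 = N8036 := ded_20_2 (flp_c L38896) (flp_f L38878) L89396
theorem L89402 : sm gc N8035 = N10900 := rfl
theorem L89404 : sm ga N10900 = N8036 := ded_8_1 (flp_c L38896) L38890 L89402
theorem L89406 : sm ge N10900 = N8262 := ded_19_2 (flp_c L39867) (flp_e L38894) L89402
theorem L89408 : sm gg N10900 = N10900 := ded_21_2 (flp_c L89402) L71760 L89402
theorem L89409 : sm gd N8036 = N10901 := rfl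
theorem L89411 : sm gg N10901 = N10901 := ded_24_2 (flp_d L89409) L72006 L89409
theorem L89412 : sm gb N8046 = N10902 := rfl
theorem L89414 : sm ge N10902 = N10790 := ded_15_2 (flp_b L88764) L72122 L89412
theorem L89416 : sm gc N10902 = N10902 := ded_13_2 (flp_b L89412) (flp_c L38946) L64690 L38946 L89412
theorem L89417 : sm gd N8046 = N10903 := rfl
theorem L89419 : sm ga N10903 = N10723 := ded_9_1 (flp_d L88444) (flp_a L72130) L89417
theorem L89421 : sm gf N10903 = N10882 := ded_23_2 (flp_d L89294) (flp_f L72128) L89417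
theorem L89423 : sm gc N10882 = N10903 := ded_28_0 (flp_d L89417) (flp_c L38946) (flp_d L18501) (flp_c L8981) (flp_d L8949) L18445 L38798 (flp_a L89296)
theorem L89425 : sm gc N8051 = N10904 := rfl
theorem L89427 : sm ga N10904 = N8052 := ded_8_1 (flp_c L38976) L38970 L89425
theorem L89429 : sm ge N10904 = N8115 := ded_19_2 (flp_c L39268) (flp_e L38972) L89425
theorem L89431 : sm gf N10904 = N8052 := ded_20_2 (flp_c L38976) L78154 L89425
theorem L89433 : sm gg N10904 = N8056 := ded_21_2 (flp_c L38994) (flp_g L38974) L89425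
theorem L89435 : sm gd N8052 = N10905 := rfl
theorem L89437 : sm gg N10905 = N8058 := ded_24_2 (flp_d L39008) (flp_g L38980) L89435
theorem L89439 : sm gd N8056 = N10906 := rfl
theorem L89441 : sm ga N10906 = N8058 := ded_9_1 (flp_d L39008) (flp_a L38996) L89439
theorem L89443 : sm gf N10906 = N10906 := ded_23_2 (flp_d L89439) L82699 L89439
theorem L89444 : sm gc N8058 = N10907 := rfl
theorem L89446 : sm gf N10907 = N10907 := ded_20_2 (flp_c L89444) L82753 L89444
theorem L89447 : sm ge N8058 = N10908 := rfl
theorem L89453 : sm gb N8069 = N10909 := rfl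
theorem L89455 : sm ge N10909 = N10797 := ded_15_2 (flp_b L88793) (flp_e L83325) L89453
theorem L89457 : sm gc N10909 = N10909 := ded_13_2 (flp_b L89453) (flp_c L39062) L60419 L39062 L89453
theorem L89458 : sm gd N8069 = N10910 := rfl
theorem L89460 : sm ga N10910 = N10726 := ded_9_1 (flp_d L88464) L82690 L89458
theorem L89462 : sm gg N10910 = N10893 := ded_24_2 (flp_d L89358) (flp_g L82693) L89458
theorem L89464 : sm gc N10893 = N10910 := ded_28_0 (flp_d L89458) (flp_c L39062) (flp_d L18555) (flp_c L8997) (flp_d L8963) L18467 L38864 (flp_a L89360)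
theorem L89466 : sm gc N8074 = N10911 := rfl
theorem L89468 : sm ga N10911 = N8075 := ded_8_1 (flp_c L39092) L39086 L89466
theorem L89470 : sm ge N10911 = N8166 := ded_19_2 (flp_c L39483) (flp_e L39088) L89466
theorem L89472 : sm gf N10911 = N8079 := ded_20_2 (flp_c L39110) (flp_f L39090) L89466
theorem L89474 : sm gg N10911 = N8075 := ded_21_2 (flp_c L39092) L59946 L89466
theorem L89476 : sm gd N8075 = N10912 := rfl
theorem L89478 : sm gb N10912 = N10906 := ded_14_1 (flp_d L89439) (flp_b L82697) L89476
theorem L89480 : sm gf N10912 = N8081 := ded_23_2 (flp_d L39124) (flp_f L39096) L89476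
theorem L89482 : sm gd N8079 = N10913 := rfl
theorem L89484 : sm ga N10913 = N8081 := ded_9_1 (flp_d L39124) (flp_a L39112) L89482
theorem L89486 : sm gb N10913 = N10905 := ded_14_1 (flp_d L89435) L82759 L89482
theorem L89488 : sm gg N10913 = N10913 := ded_24_2 (flp_d L89482) L71759 L89482
theorem L89489 : sm gc N8081 = N10914 := rfl
theorem L89491 : sm gg N10914 = N10914 := ded_21_2 (flp_c L89489) L71762 L89489
theorem L89492 : sm ge N8081 = N10915 := rfl
theorem L89498 : sm gb N8115 = N10916 := rfl
theorem L89500 : sm ga N10916 = N10916 := ded_7_1 (flp_b L89498) L39270 L78622 L18763 L64290 (flp_a L18763) (flp_b L78622) (flp_a L39270) L89498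
theorem L89501 : sm gd N8115 = N10917 := rfl
theorem L89503 : sm ga N10917 = N8116 := ded_9_1 (flp_d L39274) (flp_a L39270) L89501
theorem L89507 : sm gg N10917 = N8127 := ded_24_2 (flp_d L39316) (flp_g L39272) L89501
theorem L89534 : sm gb N8166 = N10923 := rfl
theorem L89536 : sm gc N10923 = N10916 := ded_13_2 (flp_b L89498) (flp_c L39268) (flp_b L59319) L39483 L89534
theorem L89538 : sm gf N10923 = N10916 := ded_16_2 (flp_b L89498) L78144 L78622 (flp_f L39487) L89534
theorem L89540 : sm gg N10923 = N10916 := ded_17_2 (flp_b L89498) L39272 (flp_b L78127) (flp_g L59948) L89534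
theorem L89542 : sm ga N10923 = N10923 := ded_7_1 (flp_b L89534) L39485 L78127 L18665 L58904 (flp_a L18665) (flp_b L78127) (flp_a L39485) L89534
theorem L89543 : sm gd N8166 = N10924 := rfl
theorem L89551 : sm gc N8167 = N10925 := rfl
theorem L89553 : sm gf N10925 = N8181 := ded_20_2 (flp_c L39549) (flp_f L39491) L89551
theorem L89555 : sm gb N10925 = N10519 := ded_13_1 L87240 L84164 (flp_c L40829) L82757 L89551
theorem L89582 : sm gf N8187 = N10930 := rfl
theorem L89584 : sm ga N10930 = N8189 := ded_11_1 (flp_f L39579) L39575 L89582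
theorem L89586 : sm gc N10930 = N8189 := ded_20_1 (flp_f L39579) (flp_c L88524) L89582
theorem L89588 : sm gg N8187 = N10931 := rfl
theorem L89590 : sm ga N10931 = N8190 := ded_12_1 (flp_g L39581) L39575 L89588
theorem L89592 : sm gc N10931 = N8190 := ded_21_1 (flp_g L39581) (flp_c L88524) L89588
theorem L89594 : sm gb N8189 = N10932 := rfl
theorem L89596 : sm gf N10932 = N8191 := ded_16_2 (flp_b L39583) (flp_f L18789) L18787 L39579 L89594
theorem L89598 : sm gg N8189 = N10933 := rfl
theorem L89600 : sm gf N10931 = N10933 := ded_29_0 (flp_g L89598) (flp_f L39579) L39581 (flp_a L89590)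
theorem L89602 : sm gb N8190 = N10934 := rfl
theorem L89604 : sm gg N10934 = N8192 := ded_17_2 (flp_b L39585) (flp_g L18793) L18787 L39581 L89602
theorem L89606 : sm gf N8190 = N10935 := rfl
theorem L89608 : sm ga N10935 = N10933 := ded_11_1 (flp_f L89600) L89590 L89606
theorem L89610 : sm gc N10935 = N10933 := ded_20_1 (flp_f L89600) L89592 L89606
theorem L89612 : sm gg N10935 = N10930 := ded_29_3 L89584 (flp_f L39579) L39581 L89606
theorem L89614 : sm ga N8191 = N10936 := rfl
theorem L89616 : sm gc N8191 = N10937 := rfl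
theorem L89618 : sm gg N8191 = N10938 := rfl
theorem L89620 : sm ga N8192 = N10939 := rfl
theorem L89622 : sm gc N8192 = N10940 := rfl
theorem L89624 : sm gf N8192 = N10941 := rfl
theorem L89626 : sm gb N8193 = N10942 := rfl
theorem L89628 : sm gc N8193 = N10943 := rfl
theorem L89630 : sm ga N10943 = N8194 := ded_8_1 (flp_c L39591) L39587 L89628
theorem L89632 : sm gf N10943 = N8202 := ded_20_2 (flp_c L39613) (flp_f L39589) L89628
theorem L89634 : sm gd N8194 = N10944 := rfl
theorem L89636 : sm gf N10944 = N8204 := ded_23_2 (flp_d L39623) (flp_f L39593) L89634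
theorem L89638 : sm gg N8194 = N10945 := rfl
theorem L89640 : sm gc N10945 = N8195 := ded_21_1 (flp_g L39595) L39591 L89638
theorem L89642 : sm gb N8195 = N10946 := rfl
theorem L89644 : sm gg N10946 = N8196 := ded_17_2 (flp_b L39597) (flp_g L18801) L18797 L39595 L89642
theorem L89646 : sm ga N8196 = N10947 := rfl
theorem L89648 : sm gc N8196 = N10948 := rfl
theorem L89650 : sm gf N8196 = N10949 := rfl
theorem L89652 : sm gb N10949 = N10941 := ded_16_1 (flp_f L89624) (flp_b L39585) L18803 L39597 L89650
theorem L89654 : sm gb N8197 = N10950 := rfl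
theorem L89656 : sm gc N8197 = N10951 := rfl
theorem L89658 : sm ga N10951 = N8198 := ded_8_1 (flp_c L39603) L39599 L89656
theorem L89660 : sm gg N10951 = N8212 := ded_21_2 (flp_c L39653) (flp_g L39601) L89656
theorem L89662 : sm gd N8198 = N10952 := rfl
theorem L89664 : sm gg N10952 = N8214 := ded_24_2 (flp_d L39663) (flp_g L39605) L89662
theorem L89666 : sm gf N8198 = N10953 := rfl
theorem L89668 : sm gc N10953 = N8199 := ded_20_1 (flp_f L39607) L39603 L89666
theorem L89670 : sm gb N8199 = N10954 := rfl
theorem L89672 : sm gf N10954 = N8200 := ded_16_2 (flp_b L39609) (flp_f L18809) L18805 L39607 L89670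
theorem L89674 : sm ga N8200 = N10955 := rfl
theorem L89676 : sm gc N8200 = N10956 := rfl
theorem L89678 : sm gg N8200 = N10957 := rfl
theorem L89680 : sm gb N10957 = N10938 := ded_17_1 (flp_g L89618) (flp_b L39583) (flp_g L18813) L39609 L89678
theorem L89682 : sm ga N8201 = N10958 := rfl
theorem L89684 : sm gc N8201 = N10959 := rfl
theorem L89686 : sm gf N8201 = N10960 := rfl
theorem L89688 : sm gg N8201 = N10961 := rfl
theorem L89690 : sm gb N8202 = N10962 := rfl
theorem L89692 : sm gd N8202 = N10963 := rfl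
theorem L89694 : sm ga N10963 = N8204 := ded_9_1 (flp_d L39623) (flp_a L39615) L89692
theorem L89696 : sm gc N8204 = N10963 := ded_28_0 (flp_d L89692) (flp_c L39613) (flp_d L33110) L72009 L33110 L39613 L89692 L89694
theorem L89698 : sm gg N8202 = N10964 := rfl
theorem L89700 : sm ga N10964 = N8205 := ded_12_1 (flp_g L39627) (flp_a L39615) L89698
theorem L89702 : sm gc N10964 = N8203 := ded_21_1 (flp_g L39617) L39613 L89698
theorem L89704 : sm gf N10964 = N10945 := ded_29_2 (flp_g L89638) (flp_a L89630) L89632 L89698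
theorem L89706 : sm gb N8203 = N10965 := rfl
theorem L89708 : sm ge N8204 = N10966 := rfl
theorem L89710 : sm gb N10966 = N8230 := ded_15_1 (flp_e L39731) (flp_b L39625) L89708
theorem L89712 : sm gg N8204 = N10967 := rfl
theorem L89714 : sm gd N10967 = N8205 := ded_24_1 (flp_g L39627) L39623 L89712
theorem L89716 : sm gb N8205 = N10968 := rfl
theorem L89718 : sm gg N10968 = N8232 := ded_17_2 (flp_b L39737) (flp_g L18855) (flp_b L18819) L39627 L89716
theorem L89720 : sm gf N8205 = N10969 := rfl
theorem L89722 : sm ga N10969 = N10945 := ded_11_1 (flp_f L89704) L89700 L89720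
theorem L89724 : sm gc N10969 = N8207 := ded_20_1 (flp_f L39635) (flp_c L39629) L89720
theorem L89726 : sm gg N10969 = N10943 := ded_29_3 L89630 L39593 L39627 L89720
theorem L89728 : sm ga N8206 = N10970 := rfl
theorem L89730 : sm gg N10970 = N8208 := ded_12_2 (flp_a L39641) (flp_g L39633) L89728
theorem L89732 : sm gc N8206 = N10971 := rfl
theorem L89734 : sm gg N10971 = N8209 := ded_21_2 (flp_c L39643) (flp_g L39633) L89732
theorem L89736 : sm gf N8206 = N10972 := rfl
theorem L89738 : sm gb N8207 = N10973 := rfl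
theorem L89740 : sm gb N8208 = N10974 := rfl
theorem L89742 : sm gc N8208 = N10975 := rfl
theorem L89744 : sm ga N10975 = N8209 := ded_8_1 (flp_c L39643) L39641 L89742
theorem L89746 : sm gf N8208 = N10976 := rfl
theorem L89748 : sm ga N10976 = N8210 := ded_11_1 (flp_f L39647) L39641 L89746
theorem L89750 : sm gg N10972 = N10976 := ded_29_1 (flp_f L89746) (flp_g L89730) (flp_a L89728) L89736
theorem L89752 : sm gd N8209 = N10977 := rfl
theorem L89754 : sm gb N10977 = N8241 := ded_14_1 (flp_d L39781) (flp_b L39645) L89752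
theorem L89756 : sm gf N8209 = N10978 := rfl
theorem L89758 : sm gc N10978 = N8210 := ded_20_1 (flp_f L39647) L39643 L89756
theorem L89760 : sm gb N10978 = N10978 := ded_16_1 (flp_f L89756) L39645 L79067 (flp_b L39645) L89756
theorem L89761 : sm gg N8210 = N10979 := rfl
theorem L89763 : sm ga N10979 = N10972 := ded_12_1 L89750 L89748 L89761
theorem L89765 : sm gf N10970 = N10979 := ded_29_0 (flp_g L89761) (flp_f L39647) (flp_g L39633) L89728
theorem L89767 : sm ga N8211 = N10980 := rfl
theorem L89769 : sm gc N8211 = N10981 := rfl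
theorem L89771 : sm gf N8211 = N10982 := rfl
theorem L89773 : sm gg N8211 = N10983 := rfl
theorem L89775 : sm gb N8212 = N10984 := rfl
theorem L89777 : sm gd N8212 = N10985 := rfl
theorem L89779 : sm ga N10985 = N8214 := ded_9_1 (flp_d L39663) (flp_a L39655) L89777
theorem L89781 : sm gc N8214 = N10985 := ded_28_0 (flp_d L89777) (flp_c L39653) (flp_d L33122) L83339 L33122 L39653 L89777 L89779
theorem L89783 : sm gf N8212 = N10986 := rfl
theorem L89785 : sm ga N10986 = N8215 := ded_11_1 (flp_f L39667) (flp_a L39655) L89783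
theorem L89787 : sm gc N10986 = N8213 := ded_20_1 (flp_f L39657) L39653 L89783
theorem L89789 : sm gg N10953 = N10986 := ded_29_1 (flp_f L89783) (flp_g L89660) L89658 L89666
theorem L89791 : sm gb N8213 = N10987 := rfl
theorem L89793 : sm ge N8214 = N10988 := rfl
theorem L89795 : sm gb N10988 = N8253 := ded_15_1 (flp_e L39829) (flp_b L39665) L89793
theorem L89797 : sm gf N8214 = N10989 := rfl
theorem L89799 : sm gd N10989 = N8215 := ded_23_1 (flp_f L39667) L39663 L89797
theorem L89801 : sm gb N8215 = N10990 := rfl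
theorem L89803 : sm gf N10990 = N8255 := ded_16_2 (flp_b L39835) (flp_f L18903) (flp_b L18829) L39667 L89801
theorem L89805 : sm gg N8215 = N10991 := rfl
theorem L89807 : sm ga N10991 = N10953 := ded_12_1 L89789 L89785 L89805
theorem L89809 : sm gc N10991 = N8217 := ded_21_1 (flp_g L39677) (flp_c L39669) L89805
theorem L89811 : sm gf N10951 = N10991 := ded_29_0 (flp_g L89805) (flp_f L39667) (flp_g L39605) (flp_a L89658)
theorem L89813 : sm ga N8216 = N10992 := rfl
theorem L89815 : sm gd N10992 = N10976 := ded_9_2 L89748 (flp_d L39673) L89813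
theorem L89817 : sm gf N10992 = N8218 := ded_11_2 (flp_a L39683) (flp_f L39675) L89813
theorem L89819 : sm gc N8216 = N10993 := rfl
theorem L89821 : sm gf N10993 = N8219 := ded_20_2 (flp_c L39687) (flp_f L39675) L89819
theorem L89823 : sm gg N8216 = N10994 := rfl
theorem L89825 : sm gd N10994 = N10979 := ded_24_1 (flp_g L89761) (flp_d L39673) L89823
theorem L89827 : sm gb N8217 = N10995 := rfl
theorem L89829 : sm gb N8218 = N10996 := rfl
theorem L89831 : sm gd N10996 = N10974 := ded_14_2 (flp_b L89740) (flp_d L39685) L89829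
theorem L89833 : sm gc N8218 = N10997 := rfl
theorem L89835 : sm ga N10997 = N8219 := ded_8_1 (flp_c L39687) L39683 L89833
theorem L89837 : sm gg N8218 = N10998 := rfl
theorem L89839 : sm ga N10998 = N8220 := ded_12_1 (flp_g L39691) L39683 L89837
theorem L89841 : sm gd N10998 = N10970 := ded_24_1 L89730 (flp_d L39685) L89837
theorem L89843 : sm gf N10998 = N10994 := ded_29_2 (flp_g L89823) L89813 L89817 L89837
theorem L89845 : sm gd N8219 = N10999 := rfl
theorem L89847 : sm gb N10999 = N8264 := ded_14_1 (flp_d L39879) (flp_b L39689) L89845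
theorem L89849 : sm gg N8219 = N11000 := rfl
theorem L89851 : sm gc N11000 = N8220 := ded_21_1 (flp_g L39691) L39687 L89849
theorem L89853 : sm gb N11000 = N11000 := ded_17_1 (flp_g L89849) L39689 L67099 (flp_b L39689) L89849
theorem L89854 : sm gf N8220 = N11001 := rfl
theorem L89856 : sm ga N11001 = N10994 := ded_11_1 (flp_f L89843) L89839 L89854
theorem L89858 : sm gd N11001 = N10972 := ded_23_1 (flp_f L89736) (flp_d L39693) L89854
theorem L89860 : sm gg N11001 = N10992 := ded_29_3 (flp_a L89813) L39675 L39691 L89854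
theorem L89862 : sm gb N8222 = N11002 := rfl
theorem L89864 : sm gc N11002 = N8225 := ded_13_2 (flp_b L39711) (flp_c L18841) L18837 L39701 L89862
theorem L89866 : sm gd N8222 = N11003 := rfl
theorem L89868 : sm ga N11003 = N11003 := ded_9_1 (flp_d L89866) L71994 L89866
theorem L89869 : sm gf N11003 = N11003 := ded_23_2 (flp_d L89866) L71952 L89866
theorem L89870 : sm gg N11003 = N10699 := ded_24_2 (flp_d L88308) L83402 L89866
theorem L89872 : sm gc N11003 = N11003 := ded_28_0 (flp_d L89866) (flp_c L39701) L18839 L64652 (flp_d L18839) L39701 L89866 L89868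
theorem L89873 : sm ga N8225 = N11004 := rfl
theorem L89875 : sm gd N8225 = N11005 := rfl
theorem L89877 : sm gb N11005 = N8226 := ded_14_1 (flp_d L39713) L39711 L89875
theorem L89879 : sm gf N8225 = N11006 := rfl
theorem L89881 : sm gg N8225 = N11007 := rfl
theorem L89883 : sm ge N8226 = N11008 := rfl
theorem L89885 : sm ga N11008 = N8230 := ded_10_1 (flp_e L39731) (flp_a L39715) L89883
theorem L89887 : sm gb N8229 = N11009 := rfl
theorem L89889 : sm ge N8229 = N11010 := rfl
theorem L89891 : sm gc N11010 = N8230 := ded_19_1 (flp_e L39731) L39729 L89889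
theorem L89893 : sm gg N8229 = N11011 := rfl
theorem L89895 : sm gc N11011 = N8231 := ded_21_1 (flp_g L39733) L39729 L89893
theorem L89897 : sm gd N11011 = N10824 := ded_24_1 L88968 (flp_d L39949) L89893
theorem L89899 : sm gg N8230 = N11012 := rfl
theorem L89901 : sm ge N11012 = N8231 := ded_26_1 (flp_g L39733) L39731 L89899
theorem L89903 : sm gb N8231 = N11013 := rfl
theorem L89905 : sm gd N11013 = N8232 := ded_14_2 (flp_b L39737) (flp_d L39735) L89903
theorem L89907 : sm gf N8231 = N11014 := rfl
theorem L89909 : sm ga N11014 = N10794 := ded_11_1 (flp_f L88824) L88822 L89907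
theorem L89911 : sm gd N11014 = N8233 := ded_23_1 (flp_f L39739) (flp_d L39735) L89907
theorem L89913 : sm gg N11014 = N10791 := ded_29_3 L88769 L37277 L39733 L89907
theorem L89915 : sm ga N8232 = N11015 := rfl
theorem L89917 : sm gc N8232 = N11016 := rfl
theorem L89919 : sm gb N11016 = N8235 := ded_13_1 (flp_c L39753) (flp_b L18859) (flp_c L18857) L39737 L89917
theorem L89921 : sm gf N8232 = N11017 := rfl
theorem L89923 : sm gb N8233 = N11018 := rfl
theorem L89925 : sm gc N8234 = N11019 := rfl
theorem L89927 : sm ga N11019 = N8235 := ded_8_1 (flp_c L39753) L39747 L89925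
theorem L89929 : sm gf N11019 = N8235 := ded_20_2 (flp_c L39753) L77526 L89925
theorem L89931 : sm gg N11019 = N8239 := ded_21_2 (flp_c L39769) (flp_g L39751) L89925
theorem L89933 : sm gd N8235 = N11020 := rfl
theorem L89935 : sm gg N11020 = N8241 := ded_24_2 (flp_d L39781) (flp_g L39755) L89933
theorem L89937 : sm gb N8239 = N11021 := rfl
theorem L89939 : sm gd N8239 = N11022 := rfl
theorem L89941 : sm ga N11022 = N8241 := ded_9_1 (flp_d L39781) (flp_a L39771) L89939
theorem L89943 : sm gf N11022 = N11022 := ded_23_2 (flp_d L89939) L82700 L89939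
theorem L89944 : sm gc N8241 = N11023 := rfl
theorem L89946 : sm gf N11023 = N11023 := ded_20_2 (flp_c L89944) L83342 L89944
theorem L89947 : sm ge N8241 = N11024 := rfl
theorem L89949 : sm gf N11024 = N11024 := ded_25_2 (flp_e L89947) L83342 L89947
theorem L89950 : sm gb N8245 = N11025 := rfl
theorem L89952 : sm gc N11025 = N8248 := ded_13_2 (flp_b L39809) (flp_c L18889) L18885 L39799 L89950
theorem L89954 : sm gd N8245 = N11026 := rfl
theorem L89956 : sm ga N11026 = N11026 := ded_9_1 (flp_d L89954) L83330 L89954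
theorem L89957 : sm gf N11026 = N10700 := ded_23_2 (flp_d L88313) (flp_f L83333) L89954
theorem L89959 : sm gg N11026 = N11026 := ded_24_2 (flp_d L89954) L83331 L89954
theorem L89960 : sm gc N11026 = N11026 := ded_28_0 (flp_d L89954) (flp_c L39799) L18887 L78726 (flp_d L18887) L39799 L89954 L89956
theorem L89961 : sm ga N8248 = N11027 := rfl
theorem L89963 : sm gd N8248 = N11028 := rfl
theorem L89965 : sm gb N11028 = N8249 := ded_14_1 (flp_d L39811) L39809 L89963
theorem L89967 : sm gf N8248 = N11029 := rfl
theorem L89969 : sm gg N8248 = N11030 := rfl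
theorem L89971 : sm ge N8249 = N11031 := rfl
theorem L89973 : sm ga N11031 = N8253 := ded_10_1 (flp_e L39829) (flp_a L39813) L89971
theorem L89975 : sm gb N8252 = N11032 := rfl
theorem L89977 : sm ge N8252 = N11033 := rfl
theorem L89979 : sm gc N11033 = N8253 := ded_19_1 (flp_e L39829) L39827 L89977
theorem L89981 : sm gf N8252 = N11034 := rfl
theorem L89983 : sm gc N11034 = N8254 := ded_20_1 (flp_f L39831) L39827 L89981
theorem L89985 : sm gd N11034 = N10813 := ded_23_1 L88889 (flp_d L40207) L89981
theorem L89987 : sm gf N8253 = N11035 := rfl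
theorem L89989 : sm ge N11035 = N8254 := ded_25_1 (flp_f L39831) L39829 L89987
theorem L89991 : sm gb N8254 = N11036 := rfl
theorem L89993 : sm gd N11036 = N8255 := ded_14_2 (flp_b L39835) (flp_d L39833) L89991
theorem L89995 : sm gg N8254 = N11037 := rfl
theorem L89997 : sm ga N11037 = N10801 := ded_12_1 L88814 L88789 L89995
theorem L89999 : sm gd N11037 = N8256 := ded_24_1 (flp_g L39837) (flp_d L39833) L89995
theorem L90001 : sm gf N10798 = N11037 := ded_29_0 (flp_g L89995) (flp_f L39831) (flp_g L37313) (flp_a L88798)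
theorem L90003 : sm ga N8255 = N11038 := rfl
theorem L90005 : sm gc N8255 = N11039 := rfl
theorem L90007 : sm gb N11039 = N8258 := ded_13_1 (flp_c L39851) (flp_b L18907) (flp_c L18905) L39835 L90005
theorem L90009 : sm gg N8255 = N11040 := rfl
theorem L90011 : sm gb N8256 = N11041 := rfl
theorem L90013 : sm gc N11041 = N11021 := ded_13_2 (flp_b L89937) (flp_c L39769) (flp_b L59391) (flp_c L39841) L90011
theorem L90015 : sm gc N8257 = N11042 := rfl
theorem L90017 : sm ga N11042 = N8258 := ded_8_1 (flp_c L39851) L39845 L90015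
theorem L90019 : sm gf N11042 = N8262 := ded_20_2 (flp_c L39867) (flp_f L39849) L90015
theorem L90021 : sm gg N11042 = N8258 := ded_21_2 (flp_c L39851) L59974 L90015
theorem L90023 : sm gd N8258 = N11043 := rfl
theorem L90025 : sm gf N11043 = N8264 := ded_23_2 (flp_d L39879) (flp_f L39853) L90023
theorem L90027 : sm gb N8262 = N11044 := rfl
theorem L90029 : sm gc N11044 = N11018 := ded_13_2 (flp_b L89923) L39743 L81612 L39867 L90027
theorem L90031 : sm gd N8262 = N11045 := rfl
theorem L90033 : sm ga N11045 = N8264 := ded_9_1 (flp_d L39879) (flp_a L39869) L90031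
theorem L90035 : sm gg N11045 = N11045 := ded_24_2 (flp_d L90031) L71879 L90031
theorem L90036 : sm gc N8264 = N11046 := rfl
theorem L90038 : sm gg N11046 = N11046 := ded_21_2 (flp_c L90036) L72007 L90036
theorem L90039 : sm ge N8264 = N11047 := rfl
theorem L90041 : sm gg N11047 = N11047 := ded_26_2 (flp_e L90039) L72007 L90039
theorem L90042 : sm gb N8275 = N11048 := rfl
theorem L90044 : sm gd N11048 = N11009 := ded_14_2 (flp_b L89887) L39949 L90042
theorem L90046 : sm gc N11048 = N11048 := ded_13_2 (flp_b L90042) (flp_c L39945) L64893 L39945 L90042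
theorem L90047 : sm ge N8275 = N11049 := rfl
theorem L90049 : sm ga N11049 = N8284 := ded_10_1 (flp_e L39993) (flp_a L39947) L90047
theorem L90051 : sm gc N11049 = N8276 := ded_19_1 (flp_e L39951) L39945 L90047
theorem L90053 : sm ga N8282 = N11050 := rfl
theorem L90055 : sm gc N11050 = N8518 := ded_8_2 (flp_a L41266) (flp_c L39985) L90053
theorem L90057 : sm gd N8282 = N11051 := rfl
theorem L90059 : sm gb N11051 = N8283 := ded_14_1 (flp_d L39987) L39983 L90057
theorem L90061 : sm ge N8282 = N11052 := rfl
theorem L90063 : sm gb N11052 = N8284 := ded_15_1 (flp_e L39993) L39983 L90061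
theorem L90065 : sm gc N11052 = N8519 := ded_19_1 (flp_e L41268) (flp_c L39985) L90061
theorem L90067 : sm gf N8282 = N11053 := rfl
theorem L90069 : sm gc N11053 = N8520 := ded_20_1 (flp_f L41272) (flp_c L39985) L90067
theorem L90071 : sm gg N8282 = N11054 := rfl
theorem L90073 : sm gc N11054 = N8521 := ded_21_1 (flp_g L41276) (flp_c L39985) L90071
theorem L90075 : sm ge N8283 = N11055 := rfl
theorem L90077 : sm ga N11055 = N11010 := ded_10_1 (flp_e L89889) (flp_a L39989) L90075
theorem L90079 : sm gc N11055 = N11008 := ded_19_1 (flp_e L89883) L39991 L90075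
theorem L90081 : sm gg N8283 = N11056 := rfl
theorem L90083 : sm ga N11056 = N11011 := ded_12_1 (flp_g L89893) (flp_a L39989) L90081
theorem L90085 : sm gc N11056 = N10803 := ded_21_1 L88826 L39991 L90081
theorem L90087 : sm gd N11056 = N8285 := ded_24_1 (flp_g L39997) L39987 L90081
theorem L90089 : sm gd N8284 = N11057 := rfl
theorem L90091 : sm gg N8284 = N11058 := rfl
theorem L90093 : sm gc N11058 = N8286 := ded_21_1 (flp_g L40001) (flp_c L39995) L90091
theorem L90095 : sm ge N11058 = N8285 := ded_26_1 (flp_g L39997) L39993 L90091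
theorem L90097 : sm gb N8285 = N11059 := rfl
theorem L90099 : sm gf N8285 = N11060 := rfl
theorem L90101 : sm ga N11060 = N10811 := ded_11_1 (flp_f L88966) L88964 L90099
theorem L90103 : sm gc N11060 = N8288 := ded_20_1 (flp_f L40013) (flp_c L39999) L90099
theorem L90105 : sm gg N11060 = N10806 := ded_29_3 L88843 L37372 L39997 L90099
theorem L90107 : sm gb N8286 = N11061 := rfl
theorem L90109 : sm gd N11061 = N8387 := ded_14_2 (flp_b L40599) (flp_d L40003) L90107
theorem L90111 : sm ge N11061 = N8287 := ded_15_2 (flp_b L40007) (flp_e L40005) L90107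
theorem L90113 : sm gg N11061 = N8525 := ded_17_2 (flp_b L41290) (flp_g L19603) (flp_b L18975) L40001 L90107
theorem L90115 : sm gf N8286 = N11062 := rfl
theorem L90117 : sm ga N11062 = N10812 := ded_11_1 (flp_f L88976) L88972 L90115
theorem L90119 : sm gd N11062 = N8388 := ded_23_1 (flp_f L40605) (flp_d L40003) L90115
theorem L90121 : sm ge N11062 = N8288 := ded_25_1 (flp_f L40013) (flp_e L40005) L90115
theorem L90123 : sm gg N11062 = N10807 := ded_29_3 L88851 L37378 L40001 L90115
theorem L90125 : sm ga N8287 = N11063 := rfl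
theorem L90127 : sm gd N11063 = N8289 := ded_9_2 (flp_a L40021) (flp_d L40009) L90125
theorem L90129 : sm gg N11063 = N8526 := ded_12_2 (flp_a L41296) (flp_g L40011) L90125
theorem L90131 : sm gf N11063 = N9878 := ded_29_0 L83945 (flp_f L41302) (flp_g L40011) L90125
theorem L90133 : sm gc N8287 = N11064 := rfl
theorem L90135 : sm gg N11064 = N8527 := ded_21_2 (flp_c L41300) (flp_g L40011) L90133
theorem L90137 : sm gf N8287 = N11065 := rfl
theorem L90139 : sm ga N11065 = N9878 := ded_11_1 (flp_f L90131) (flp_a L90125) L90137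
theorem L90141 : sm gd N11065 = N8290 := ded_23_1 (flp_f L40029) (flp_d L40009) L90137
theorem L90143 : sm gb N8288 = N11066 := rfl
theorem L90145 : sm gd N11066 = N8291 := ded_14_2 (flp_b L40035) (flp_d L40017) L90143
theorem L90147 : sm ga N11066 = N10432 := ded_7_1 (flp_b L86741) (flp_a L29105) (flp_b L14048) (flp_a L14021) L29063 (flp_a L86069) L86073 (flp_a L40015) L90143
theorem L90149 : sm gg N8291 = N11067 := rfl
theorem L90151 : sm ga N11067 = N10393 := ded_12_1 L86550 L83415 L90149
theorem L90155 : sm gb N11067 = N10805 := ded_17_1 (flp_g L88834) (flp_b L37359) (flp_g L18997) L40035 L90149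
theorem L90157 : sm gd N8293 = N11068 := rfl
theorem L90159 : sm ga N11068 = N8294 := ded_9_1 (flp_d L40051) (flp_a L40045) L90157
theorem L90163 : sm gf N11068 = N8294 := ded_23_2 (flp_d L40051) L77550 L90157
theorem L90165 : sm gg N11068 = N8305 := ded_24_2 (flp_d L40101) (flp_g L40049) L90157
theorem L90167 : sm gc N8294 = N11069 := rfl
theorem L90169 : sm gg N11069 = N8308 := ded_21_2 (flp_c L40119) (flp_g L40053) L90167
theorem L90171 : sm ge N8294 = N11070 := rfl
theorem L90173 : sm gg N11070 = N8309 := ded_26_2 (flp_e L40121) (flp_g L40053) L90171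
theorem L90177 : sm gd N8304 = N11071 := rfl
theorem L90181 : sm gg N11071 = N10479 := ded_24_2 L86990 (flp_g L71803) L90177
theorem L90183 : sm gf N8304 = N11072 := rfl
theorem L90188 : sm gc N8305 = N11073 := rfl
theorem L90190 : sm ga N11073 = N8308 := ded_8_1 (flp_c L40119) (flp_a L40103) L90188
theorem L90192 : sm gf N11073 = N11073 := ded_20_2 (flp_c L90188) L82701 L90188
theorem L90193 : sm gd N11023 = N11073 := ded_28_1 (flp_c L90188) (flp_d L40101) (flp_c L19023) (flp_d L18875) L39769 L89939 L89941 L89944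
theorem L90195 : sm ge N8305 = N11074 := rfl
theorem L90197 : sm ga N11074 = N8309 := ded_10_1 (flp_e L40121) (flp_a L40103) L90195
theorem L90202 : sm gb N8308 = N11075 := rfl
theorem L90204 : sm gc N11075 = N8531 := ded_13_2 (flp_b L41322) (flp_c L19625) (flp_b L19039) L40119 L90202
theorem L90206 : sm gd N8308 = N11076 := rfl
theorem L90208 : sm ga N11076 = N11023 := ded_9_1 L90193 L90190 L90206
theorem L90210 : sm gf N11076 = N11076 := ded_23_2 (flp_d L90206) L82745 L90206
theorem L90211 : sm gc N11022 = N11076 := ded_28_0 (flp_d L90206) (flp_c L40119) (flp_d L19037) (flp_c L9205) (flp_d L9143) L18877 L39781 (flp_a L89941)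
theorem L90213 : sm ge N8308 = N11077 := rfl
theorem L90215 : sm gc N11077 = N8309 := ded_19_1 (flp_e L40121) L40119 L90213
theorem L90217 : sm gf N11077 = N11077 := ded_25_2 (flp_e L90213) L82745 L90213
theorem L90218 : sm gb N8321 = N11078 := rfl
theorem L90220 : sm gd N11078 = N11032 := ded_14_2 (flp_b L89975) L40207 L90218
theorem L90222 : sm gc N11078 = N11078 := ded_13_2 (flp_b L90218) (flp_c L40203) L74195 L40203 L90218
theorem L90223 : sm ge N8321 = N11079 := rfl
theorem L90225 : sm ga N11079 = N8327 := ded_10_1 (flp_e L40241) (flp_a L40205) L90223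
theorem L90227 : sm gc N11079 = N8322 := ded_19_1 (flp_e L40209) L40203 L90223
theorem L90229 : sm ga N8325 = N11080 := rfl
theorem L90231 : sm gc N11080 = N8545 := ded_8_2 (flp_a L41402) (flp_c L40233) L90229
theorem L90233 : sm gd N8325 = N11081 := rfl
theorem L90235 : sm gb N11081 = N8326 := ded_14_1 (flp_d L40235) L40231 L90233
theorem L90237 : sm ge N8325 = N11082 := rfl
theorem L90239 : sm gb N11082 = N8327 := ded_15_1 (flp_e L40241) L40231 L90237
theorem L90241 : sm gc N11082 = N8546 := ded_19_1 (flp_e L41404) (flp_c L40233) L90237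
theorem L90243 : sm gf N8325 = N11083 := rfl
theorem L90245 : sm gc N11083 = N8547 := ded_20_1 (flp_f L41408) (flp_c L40233) L90243
theorem L90247 : sm gg N8325 = N11084 := rfl
theorem L90249 : sm gc N11084 = N8548 := ded_21_1 (flp_g L41410) (flp_c L40233) L90247
theorem L90251 : sm ge N8326 = N11085 := rfl
theorem L90253 : sm ga N11085 = N11033 := ded_10_1 (flp_e L89977) (flp_a L40237) L90251
theorem L90255 : sm gc N11085 = N11031 := ded_19_1 (flp_e L89971) L40239 L90251
theorem L90257 : sm gf N8326 = N11086 := rfl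
theorem L90259 : sm ga N11086 = N11034 := ded_11_1 (flp_f L89981) (flp_a L40237) L90257
theorem L90261 : sm gc N11086 = N10796 := ded_20_1 L88791 L40239 L90257
theorem L90263 : sm gd N11086 = N8328 := ded_23_1 (flp_f L40245) L40235 L90257
theorem L90265 : sm gd N8327 = N11087 := rfl
theorem L90267 : sm gf N8327 = N11088 := rfl
theorem L90269 : sm gc N11088 = N8329 := ded_20_1 (flp_f L40249) (flp_c L40243) L90267
theorem L90271 : sm ge N11088 = N8328 := ded_25_1 (flp_f L40245) L40241 L90267
theorem L90273 : sm gb N8328 = N11089 := rfl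
theorem L90275 : sm gg N8328 = N11090 := rfl
theorem L90277 : sm ga N11090 = N10822 := ded_12_1 L88952 L88887 L90275
theorem L90279 : sm gc N11090 = N8331 := ded_21_1 (flp_g L40261) (flp_c L40247) L90275
theorem L90281 : sm gf N10817 = N11090 := ded_29_0 (flp_g L90275) (flp_f L40245) (flp_g L37478) (flp_a L88916)
theorem L90283 : sm gb N8329 = N11091 := rfl
theorem L90285 : sm gd N11091 = N8467 := ded_14_2 (flp_b L41016) (flp_d L40251) L90283
theorem L90287 : sm ge N11091 = N8330 := ded_15_2 (flp_b L40255) (flp_e L40253) L90283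
theorem L90289 : sm gf N11091 = N8552 := ded_16_2 (flp_b L41428) (flp_f L19692) (flp_b L19099) L40249 L90283
theorem L90291 : sm gg N8329 = N11092 := rfl
theorem L90293 : sm ga N11092 = N10823 := ded_12_1 L88960 L88893 L90291
theorem L90295 : sm gd N11092 = N8468 := ded_24_1 (flp_g L41022) (flp_d L40251) L90291
theorem L90297 : sm ge N11092 = N8331 := ded_26_1 (flp_g L40261) (flp_e L40253) L90291
theorem L90299 : sm gf N10818 = N11092 := ded_29_0 (flp_g L90291) (flp_f L40249) (flp_g L37484) (flp_a L88924)
theorem L90301 : sm ga N8330 = N11093 := rfl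
theorem L90303 : sm gd N11093 = N8332 := ded_9_2 (flp_a L40269) (flp_d L40257) L90301
theorem L90305 : sm gf N11093 = N8553 := ded_11_2 (flp_a L41434) (flp_f L40259) L90301
theorem L90307 : sm gg N9911 = N11093 := ded_29_3 (flp_a L90301) L40259 L41440 L84101
theorem L90309 : sm gc N8330 = N11094 := rfl
theorem L90311 : sm gf N11094 = N8554 := ded_20_2 (flp_c L41438) (flp_f L40259) L90309
theorem L90313 : sm gg N8330 = N11095 := rfl
theorem L90315 : sm ga N11095 = N9911 := ded_12_1 L90307 (flp_a L90301) L90313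
theorem L90317 : sm gd N11095 = N8333 := ded_24_1 (flp_g L40275) (flp_d L40257) L90313
theorem L90319 : sm gb N8331 = N11096 := rfl
theorem L90321 : sm gd N11096 = N8334 := ded_14_2 (flp_b L40281) (flp_d L40265) L90319
theorem L90323 : sm ga N11096 = N10479 := ded_7_1 (flp_b L86988) (flp_a L29275) (flp_b L14126) (flp_a L14097) L29229 (flp_a L86174) L86178 (flp_a L40263) L90319
theorem L90325 : sm gf N8334 = N11097 := rfl
theorem L90327 : sm ga N11097 = N10440 := ded_11_1 L86797 (flp_a L71597) L90325
theorem L90329 : sm gc N11097 = N11072 := ded_20_1 (flp_f L90183) L71856 L90325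
theorem L90333 : sm gg N11072 = N11097 := ded_29_1 (flp_f L90325) (flp_g L87014) L87010 L90183
theorem L90335 : sm gb N11097 = N10816 := ded_16_1 (flp_f L88907) (flp_b L37466) L19121 L40281 L90325
theorem L90337 : sm gd N8336 = N11098 := rfl
theorem L90339 : sm ga N11098 = N8337 := ded_9_1 (flp_d L40297) (flp_a L40291) L90337
theorem L90341 : sm gb N11098 = N9703 := ded_14_1 L47107 (flp_b L64979) L90337
theorem L90343 : sm gf N11098 = N8348 := ded_23_2 (flp_d L40351) (flp_f L40295) L90337
theorem L90345 : sm gg N11098 = N8337 := ded_24_2 (flp_d L40297) (flp_g L64982) L90337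
theorem L90347 : sm gc N8337 = N11099 := rfl
theorem L90349 : sm gf N11099 = N8351 := ded_20_2 (flp_c L40369) (flp_f L40299) L90347
theorem L90351 : sm ge N8337 = N11100 := rfl
theorem L90355 : sm gd N11100 = N8483 := ded_22_1 (flp_e L41078) (flp_d L19511) (flp_e L19131) L40297 L90351
theorem L90357 : sm gd N8347 = N11101 := rfl
theorem L90361 : sm gf N11101 = N10432 := ded_23_2 L86743 L83417 L90357
theorem L90363 : sm gg N8347 = N11102 := rfl
theorem L90365 : sm gc N11102 = N11067 := ded_21_1 (flp_g L90149) (flp_c L82763) L90363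
theorem L90369 : sm gf N11067 = N11102 := ded_29_0 (flp_g L90363) (flp_f L83417) (flp_g L86550) (flp_a L90151)
theorem L90371 : sm gb N11102 = N11102 := ded_17_1 (flp_g L90363) (flp_b L40347) L64990 L40347 L90363
theorem L90372 : sm gc N8348 = N11103 := rfl
theorem L90374 : sm ga N11103 = N8351 := ded_8_1 (flp_c L40369) (flp_a L40353) L90372
theorem L90376 : sm gg N11103 = N11103 := ded_21_2 (flp_c L90372) L71976 L90372
theorem L90377 : sm gd N11046 = N11103 := ded_28_1 (flp_c L90372) (flp_d L40351) (flp_c L19147) (flp_d L18923) L39867 L90031 L90033 L90036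
theorem L90379 : sm ge N8348 = N11104 := rfl
theorem L90386 : sm gb N8351 = N11105 := rfl
theorem L90388 : sm gc N11105 = N8559 := ded_13_2 (flp_b L41470) (flp_c L19718) (flp_b L19163) L40369 L90386
theorem L90390 : sm gd N8351 = N11106 := rfl
theorem L90392 : sm ga N11106 = N11046 := ded_9_1 L90377 L90374 L90390
theorem L90394 : sm gg N11106 = N11106 := ded_24_2 (flp_d L90390) L71977 L90390
theorem L90395 : sm gc N11045 = N11106 := ded_28_0 (flp_d L90390) (flp_c L40369) (flp_d L19161) (flp_c L9263) (flp_d L9157) L18925 L39879 (flp_a L90033)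
theorem L90397 : sm ge N8351 = N11107 := rfl
theorem L90399 : sm gc N11107 = N8352 := ded_19_1 (flp_e L40371) L40369 L90397
theorem L90401 : sm gg N11107 = N11107 := ded_26_2 (flp_e L90397) L71977 L90397
theorem L90402 : sm ga N8387 = N11108 := rfl
theorem L90404 : sm ge N11108 = N8389 := ded_10_2 (flp_a L40613) (flp_e L40601) L90402
theorem L90406 : sm gg N11108 = N8561 := ded_12_2 (flp_a L41484) (flp_g L40603) L90402
theorem L90410 : sm gc N8467 = N11108 := ded_19_3 L90404 L83192 (flp_e L41018)
theorem L90412 : sm gc N8387 = N11109 := rfl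
theorem L90414 : sm ga N11109 = N8467 := ded_8_1 L90410 (flp_a L90402) L90412
theorem L90418 : sm gg N11109 = N8562 := ded_21_2 (flp_c L41488) (flp_g L40603) L90412
theorem L90430 : sm gb N8388 = N11111 := rfl
theorem L90432 : sm ge N11111 = N8392 := ded_15_2 (flp_b L40631) (flp_e L40609) L90430
theorem L90436 : sm gg N8392 = N11112 := rfl
theorem L90438 : sm ga N11112 = N10489 := ded_12_1 L87060 (flp_a L82767) L90436
theorem L90454 : sm gd N8404 = N11114 := rfl
theorem L90460 : sm gg N11114 = N8434 := ded_24_2 (flp_d L40825) (flp_g L40677) L90454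
theorem L90462 : sm gc N10917 = N11114 := ded_28_0 (flp_d L90454) (flp_c L40675) (flp_d L19313) (flp_c L9327) (flp_d L9033) L18647 L39274 (flp_a L89503)
theorem L90464 : sm ge N8404 = N11115 := rfl
theorem L90468 : sm gg N11115 = N8435 := ded_26_2 (flp_e L40831) (flp_g L40677) L90464
theorem L90474 : sm ge N8426 = N11117 := rfl
theorem L90478 : sm gg N11117 = N10549 := ded_26_2 L87429 (flp_g L71801) L90474
theorem L90480 : sm gf N8426 = N11118 := rfl
theorem L90496 : sm ge N8434 = N11121 := rfl
theorem L90503 : sm gd N8435 = N11122 := rfl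
theorem L90506 : sm gg N8467 = N11123 := rfl
theorem L90508 : sm ga N11123 = N8562 := ded_12_1 (flp_g L90418) L90414 L90506
theorem L90510 : sm gc N11123 = N8561 := ded_21_1 (flp_g L90406) (flp_c L90410) L90506
theorem L90512 : sm ge N11123 = N8471 := ded_26_1 (flp_g L41040) (flp_e L41018) L90506
theorem L90514 : sm gb N8468 = N11124 := rfl
theorem L90516 : sm ge N11124 = N8472 := ded_15_2 (flp_b L41044) (flp_e L41026) L90514
theorem L90518 : sm ga N11124 = N10549 := ded_7_1 (flp_b L87427) (flp_a L29738) (flp_b L14346) (flp_a L14304) L29640 (flp_a L86443) L86447 (flp_a L41024) L90514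
theorem L90520 : sm gf N8472 = N11125 := rfl
theorem L90522 : sm ga N11125 = N10523 := ded_11_1 L87266 (flp_a L71609) L90520
theorem L90526 : sm gg N11118 = N11125 := ded_29_1 (flp_f L90520) (flp_g L87443) L87439 L90480
theorem L90528 : sm gb N11125 = N10829 := ded_16_1 (flp_f L89003) L37972 L19493 L41044 L90520
theorem L90560 : sm gc N8502 = N11129 := rfl
theorem L90562 : sm gf N11129 = N10516 := ded_20_2 (flp_c L87212) (flp_f L83443) L90560
theorem L90597 : sm gd N8510 = N11135 := rfl
theorem L90600 : sm gb N8518 = N11136 := rfl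
theorem L90602 : sm ge N8518 = N11137 := rfl
theorem L90604 : sm ga N11137 = N8519 := ded_10_1 (flp_e L41268) L41266 L90602
theorem L90606 : sm gf N8518 = N11138 := rfl
theorem L90608 : sm ga N11138 = N8520 := ded_11_1 (flp_f L41272) L41266 L90606
theorem L90610 : sm gg N8518 = N11139 := rfl
theorem L90612 : sm ga N11139 = N8521 := ded_12_1 (flp_g L41276) L41266 L90610
theorem L90614 : sm gd N8519 = N11140 := rfl
theorem L90616 : sm gb N11140 = N8522 := ded_14_1 (flp_d L41278) (flp_b L41270) L90614
theorem L90618 : sm gf N8519 = N11141 := rfl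
theorem L90620 : sm ge N11141 = N8520 := ded_25_1 (flp_f L41272) L41268 L90618
theorem L90622 : sm gb N11141 = N9861 := ded_16_1 (flp_f L83857) L23507 (flp_f L19597) (flp_b L41270) L90618
theorem L90624 : sm gg N8519 = N11142 := rfl
theorem L90626 : sm ge N11142 = N8521 := ded_26_1 (flp_g L41276) L41268 L90624
theorem L90628 : sm gg N8520 = N11143 := rfl
theorem L90630 : sm gf N11139 = N11143 := ded_29_0 (flp_g L90628) (flp_f L41272) L41276 (flp_a L90612)
theorem L90632 : sm gb N8521 = N11144 := rfl
theorem L90634 : sm gg N11144 = N8524 := ded_17_2 (flp_b L41288) (flp_g L19599) L19591 L41276 L90632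
theorem L90636 : sm gf N8521 = N11145 := rfl
theorem L90638 : sm ga N11145 = N11143 := ded_11_1 (flp_f L90630) L90612 L90636
theorem L90640 : sm gg N11145 = N11138 := ded_29_3 L90608 (flp_f L41272) L41276 L90636
theorem L90642 : sm gg N8522 = N11146 := rfl
theorem L90644 : sm gd N11146 = N8523 := ded_24_1 (flp_g L41282) L41278 L90642
theorem L90646 : sm gb N8523 = N11147 := rfl
theorem L90648 : sm ge N11147 = N8524 := ded_15_2 (flp_b L41288) (flp_e L41286) L90646
theorem L90650 : sm ga N8524 = N11148 := rfl
theorem L90652 : sm gc N8524 = N11149 := rfl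
theorem L90654 : sm gb N11149 = N8527 := ded_13_1 (flp_c L41300) (flp_b L19609) (flp_c L19601) L41288 L90652
theorem L90656 : sm gf N8524 = N11150 := rfl
theorem L90658 : sm ga N8525 = N11151 := rfl
theorem L90662 : sm ge N11151 = N8526 := ded_10_2 (flp_a L41296) (flp_e L41294) L90658
theorem L90664 : sm gc N8525 = N11152 := rfl
theorem L90666 : sm ge N11152 = N8527 := ded_19_2 (flp_c L41300) (flp_e L41294) L90664
theorem L90668 : sm gf N8525 = N11153 := rfl
theorem L90670 : sm gd N11153 = N8563 := ded_23_1 (flp_f L41494) (flp_d L41292) L90668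
theorem L90676 : sm gc N8526 = N11154 := rfl
theorem L90678 : sm ga N11154 = N8527 := ded_8_1 (flp_c L41300) L41296 L90676
theorem L90680 : sm gf N8526 = N11155 := rfl
theorem L90682 : sm ga N11155 = N8528 := ded_11_1 (flp_f L41302) L41296 L90680
theorem L90688 : sm gd N8527 = N11156 := rfl
theorem L90690 : sm gf N8527 = N11157 := rfl
theorem L90692 : sm gc N11157 = N8528 := ded_20_1 (flp_f L41302) L41300 L90690
theorem L90694 : sm ga N8531 = N11158 := rfl
theorem L90696 : sm gd N11158 = N9903 := ded_9_2 (flp_a L84063) (flp_d L41324) L90694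
theorem L90698 : sm ge N8531 = N11159 := rfl
theorem L90700 : sm gb N11159 = N8532 := ded_15_1 (flp_e L41326) L41322 L90698
theorem L90702 : sm gf N8531 = N11160 := rfl
theorem L90704 : sm gd N11160 = N9896 := ded_23_1 L84023 (flp_d L41324) L90702
theorem L90706 : sm gb N11160 = N9886 := ded_16_1 (flp_f L83977) (flp_b L23697) (flp_f L19629) L41322 L90702
theorem L90708 : sm gg N8531 = N11161 := rfl
theorem L90710 : sm gd N11161 = N9905 := ded_24_1 (flp_g L84069) (flp_d L41324) L90708
theorem L90712 : sm gd N8532 = N11162 := rfl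
theorem L90714 : sm ga N11162 = N9900 := ded_9_1 L84047 (flp_a L41328) L90712
theorem L90716 : sm gf N11162 = N9888 := ded_23_2 (flp_d L83987) (flp_f L41332) L90712
theorem L90718 : sm ge N11162 = N9900 := ded_22_2 L84047 L23723 (flp_d L19631) L41326 L90712
theorem L90720 : sm gb N8545 = N11163 := rfl
theorem L90722 : sm ge N8545 = N11164 := rfl
theorem L90724 : sm ga N11164 = N8546 := ded_10_1 (flp_e L41404) L41402 L90722
theorem L90726 : sm gf N8545 = N11165 := rfl
theorem L90728 : sm ga N11165 = N8547 := ded_11_1 (flp_f L41408) L41402 L90726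
theorem L90730 : sm gg N8545 = N11166 := rfl
theorem L90732 : sm ga N11166 = N8548 := ded_12_1 (flp_g L41410) L41402 L90730
theorem L90734 : sm gd N8546 = N11167 := rfl
theorem L90736 : sm gb N11167 = N8549 := ded_14_1 (flp_d L41414) (flp_b L41406) L90734
theorem L90738 : sm gf N8546 = N11168 := rfl
theorem L90740 : sm ge N11168 = N8547 := ded_25_1 (flp_f L41408) L41404 L90738
theorem L90742 : sm gg N8546 = N11169 := rfl
theorem L90744 : sm ge N11169 = N8548 := ded_26_1 (flp_g L41410) L41404 L90742
theorem L90746 : sm gb N11169 = N9895 := ded_17_1 (flp_g L84017) L23711 (flp_g L19684) (flp_b L41406) L90742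
theorem L90748 : sm gb N8547 = N11170 := rfl
theorem L90750 : sm gf N11170 = N8551 := ded_16_2 (flp_b L41426) (flp_f L19686) L19678 L41408 L90748
theorem L90752 : sm gg N8547 = N11171 := rfl
theorem L90754 : sm gf N11166 = N11171 := ded_29_0 (flp_g L90752) (flp_f L41408) L41410 (flp_a L90732)
theorem L90756 : sm gf N8548 = N11172 := rfl
theorem L90758 : sm ga N11172 = N11171 := ded_11_1 (flp_f L90754) L90732 L90756
theorem L90760 : sm gg N11172 = N11165 := ded_29_3 L90728 (flp_f L41408) L41410 L90756
theorem L90762 : sm gf N8549 = N11173 := rfl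
theorem L90764 : sm gc N11173 = N11162 := ded_20_1 L90716 L83993 L90762
theorem L90766 : sm gd N11173 = N8550 := ded_23_1 (flp_f L41418) L41414 L90762
theorem L90768 : sm gg N11173 = N11162 := ded_29_3 L90714 (flp_f L84045) (flp_g L41416) L90762
theorem L90770 : sm gb N8550 = N11174 := rfl
theorem L90772 : sm ge N11174 = N8551 := ded_15_2 (flp_b L41426) (flp_e L41422) L90770
theorem L90774 : sm ga N8551 = N11175 := rfl
theorem L90776 : sm gc N8551 = N11176 := rfl
theorem L90778 : sm gb N11176 = N8554 := ded_13_1 (flp_c L41438) (flp_b L19700) (flp_c L19688) L41426 L90776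
theorem L90780 : sm gg N8551 = N11177 := rfl
theorem L90782 : sm gb N11177 = N11161 := ded_17_1 (flp_g L90708) (flp_b L41322) (flp_g L19690) L41426 L90780
theorem L90784 : sm ga N8552 = N11178 := rfl
theorem L90788 : sm ge N11178 = N8553 := ded_10_2 (flp_a L41434) (flp_e L41432) L90784
theorem L90790 : sm gc N8552 = N11179 := rfl
theorem L90792 : sm ge N11179 = N8554 := ded_19_2 (flp_c L41438) (flp_e L41432) L90790
theorem L90794 : sm gg N8552 = N11180 := rfl
theorem L90796 : sm gd N11180 = N8610 := ded_24_1 (flp_g L41703) (flp_d L41430) L90794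
theorem L90798 : sm ge N11180 = N8555 := ded_26_1 (flp_g L41440) (flp_e L41432) L90794
theorem L90800 : sm gb N11180 = N11070 := ded_17_1 L90173 L40123 (flp_g L19698) L41428 L90794
theorem L90802 : sm gc N8553 = N11181 := rfl
theorem L90804 : sm ga N11181 = N8554 := ded_8_1 (flp_c L41438) L41434 L90802
theorem L90806 : sm gg N8553 = N11182 := rfl
theorem L90808 : sm ga N11182 = N8555 := ded_12_1 (flp_g L41440) L41434 L90806
theorem L90810 : sm gd N11182 = N8557 := ded_24_1 (flp_g L41450) (flp_d L41436) L90806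
theorem L90814 : sm gd N8554 = N11183 := rfl
theorem L90816 : sm gg N8554 = N11184 := rfl
theorem L90818 : sm gc N11184 = N8555 := ded_21_1 (flp_g L41440) L41438 L90816
theorem L90820 : sm ga N8559 = N11185 := rfl
theorem L90822 : sm gd N11185 = N9870 := ded_9_2 (flp_a L83907) (flp_d L41472) L90820
theorem L90824 : sm ge N8559 = N11186 := rfl
theorem L90826 : sm gb N11186 = N8560 := ded_15_1 (flp_e L41474) L41470 L90824
theorem L90828 : sm gf N8559 = N11187 := rfl
theorem L90830 : sm gd N11187 = N9872 := ded_23_1 (flp_f L83913) (flp_d L41472) L90828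
theorem L90832 : sm gb N11187 = N11150 := ded_16_1 (flp_f L90656) (flp_b L41288) (flp_f L19722) L41470 L90828
theorem L90834 : sm gg N8559 = N11188 := rfl
theorem L90836 : sm gd N11188 = N9864 := ded_24_1 L83871 (flp_d L41472) L90834
theorem L90838 : sm gb N11188 = N9854 := ded_17_1 (flp_g L83826) (flp_b L23493) (flp_g L19724) L41470 L90834
theorem L90840 : sm gd N8560 = N11189 := rfl
theorem L90842 : sm ga N11189 = N9867 := ded_9_1 L83891 (flp_a L41476) L90840
theorem L90844 : sm gf N11189 = N11146 := ded_23_2 L90644 (flp_f L41480) L90840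
theorem L90846 : sm gg N11189 = N9855 := ded_24_2 (flp_d L83831) (flp_g L41482) L90840
theorem L90848 : sm ge N11189 = N9867 := ded_22_2 L83891 L23519 (flp_d L19726) L41474 L90840
theorem L90850 : sm gc N11189 = N11146 := ded_28_6 L90644 (flp_a L83899) L83901 L23543 L11523 (flp_d L19736) (flp_c L41478) L90840
theorem L90862 : sm gd N8562 = N11191 := rfl
theorem L90864 : sm gb N11191 = N9907 := ded_14_1 L84077 (flp_b L41492) L90862
theorem L90866 : sm gf N11191 = N11180 := ded_23_2 L90796 L83482 L90862
theorem L90868 : sm ge N11191 = N9911 := ded_22_2 L84099 L23769 (flp_d L83128) (flp_e L41490) L90862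
theorem L90882 : sm gd N8609 = N11193 := rfl
theorem L90884 : sm gb N11193 = N9874 := ded_14_1 L83921 L83167 L90882
theorem L90886 : sm gg N11193 = N11153 := ded_24_2 L90670 (flp_g L83747) L90882
theorem L90888 : sm ge N11193 = N9878 := ded_22_2 L83943 L23565 (flp_d L83185) (flp_e L41701) L90882
theorem L90890 : sm ga N8746 = N11194 := rfl
theorem L90892 : sm gc N11194 = N8798 := ded_8_2 (flp_a L42652) (flp_c L42382) L90890
theorem L90894 : sm gd N11194 = N10633 := ded_9_2 (flp_a L87939) (flp_d L72249) L90890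
theorem L90896 : sm ge N11194 = N8767 := ded_10_2 (flp_a L42496) (flp_e L42380) L90890
theorem L90898 : sm gb N9943 = N11194 := ded_32_15 L90894 L87941 L88008 L88014 L45116 (flp_d L21702) (flp_c L20725) L72281 L9969 (flp_b L5263) L2733 L1430 (flp_c L821) (flp_d L362) L163 L85 L60 L57 L60 L57 (flp_b L85) L87 (flp_c L163) L362 L821 L1669 (flp_d L2785) (flp_c L5127) L10141 L21095 (flp_b L72321) (flp_d L20747) (flp_c L42672) L42674 L20527 (flp_b L37179) (flp_e L37177) (flp_d L17808) L8669 (flp_d L7801) (flp_c L15641) (flp_b L15639) L15643 L65922 (flp_d L15643) (flp_c L7685) L3955 (flp_d L2077) L1033 L484 (flp_c L1033) (flp_b L2052) L3953 L7685 L15643 L65922 (flp_b L32490) (flp_d L32488) L15641 L7801 (flp_c L8669) (flp_b L8667) (flp_e L8589) L17641 L17643 (flp_d L17641) (flp_c L8587) L4393 (flp_d L2358) L66634 L2358 L4547 L8929 L18393 L38680 L84355 L84267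
theorem L90900 : sm gf N8746 = N11195 := rfl
theorem L90902 : sm gc N11195 = N8800 := ded_20_1 (flp_f L42660) (flp_c L42382) L90900
theorem L90904 : sm gd N11195 = N10634 := ded_23_1 (flp_f L87945) (flp_d L72249) L90900
theorem L90906 : sm ge N11195 = N8769 := ded_25_1 (flp_f L42504) (flp_e L42380) L90900
theorem L90908 : sm gb N11195 = N11195 := ded_16_1 (flp_f L90900) (flp_b L42378) L49783 L42378 L90900
theorem L90909 : sm gg N8746 = N11196 := rfl
theorem L90911 : sm gc N11196 = N8801 := ded_21_1 (flp_g L42664) (flp_c L42382) L90909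
theorem L90913 : sm gd N11196 = N10635 := ded_24_1 (flp_g L87952) (flp_d L72249) L90909
theorem L90915 : sm ge N11196 = N8770 := ded_26_1 (flp_g L42508) (flp_e L42380) L90909
theorem L90917 : sm gb N11196 = N11196 := ded_17_1 (flp_g L90909) (flp_b L42378) L79023 L42378 L90909
theorem L90918 : sm gd N8767 = N11197 := rfl
theorem L90920 : sm ga N11197 = N8768 := ded_9_1 (flp_d L42500) L42496 L90918
theorem L90922 : sm gb N11197 = N10097 := ded_14_1 (flp_d L85117) L72428 L90918
theorem L90924 : sm ge N11197 = N10637 := ded_22_2 (flp_d L87961) (flp_e L87943) (flp_d L90894) L90896 L90918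
theorem L90926 : sm gf N8767 = N11198 := rfl
theorem L90928 : sm ga N11198 = N8769 := ded_11_1 (flp_f L42504) L42496 L90926
theorem L90930 : sm gc N11198 = N8845 := ded_20_1 (flp_f L42900) (flp_c L42498) L90926
theorem L90932 : sm gg N8767 = N11199 := rfl
theorem L90934 : sm ga N11199 = N8770 := ded_12_1 (flp_g L42508) L42496 L90932
theorem L90936 : sm gc N11199 = N8846 := ded_21_1 (flp_g L42904) (flp_c L42498) L90932
theorem L90938 : sm gc N8768 = N11200 := rfl
theorem L90940 : sm ge N11200 = N10640 := ded_19_2 (flp_c L87977) L72430 L90938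
theorem L90942 : sm gb N11200 = N11200 := ded_13_1 (flp_c L90938) L42502 L70114 (flp_b L42502) L90938
theorem L90943 : sm gf N8768 = N11201 := rfl
theorem L90945 : sm gd N11201 = N8769 := ded_23_1 (flp_f L42504) L42500 L90943
theorem L90947 : sm ge N11201 = N10641 := ded_25_1 (flp_f L87980) L72430 L90943
theorem L90949 : sm gb N11201 = N11201 := ded_16_1 (flp_f L90943) L42502 L49781 (flp_b L42502) L90943
theorem L90950 : sm gg N8768 = N11202 := rfl
theorem L90952 : sm gd N11202 = N8770 := ded_24_1 (flp_g L42508) L42500 L90950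
theorem L90954 : sm ge N11202 = N10642 := ded_26_1 (flp_g L87985) L72430 L90950
theorem L90956 : sm gb N11202 = N11202 := ded_17_1 (flp_g L90950) L42502 L78988 (flp_b L42502) L90950
theorem L90957 : sm gg N8769 = N11203 := rfl
theorem L90959 : sm gc N11203 = N8852 := ded_21_1 (flp_g L42928) (flp_c L42506) L90957
theorem L90961 : sm gf N11199 = N11203 := ded_29_0 (flp_g L90957) (flp_f L42504) L42508 (flp_a L90934)
theorem L90963 : sm gf N8770 = N11204 := rfl
theorem L90965 : sm ga N11204 = N11203 := ded_11_1 (flp_f L90961) L90934 L90963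
theorem L90967 : sm gc N11204 = N8854 := ded_20_1 (flp_f L42936) (flp_c L42510) L90963
theorem L90969 : sm gg N11204 = N11198 := ded_29_3 L90928 (flp_f L42504) L42508 L90963
theorem L90971 : sm gb N8798 = N11205 := rfl
theorem L90973 : sm ge N11205 = N8843 := ded_15_2 (flp_b L42894) (flp_e L42654) L90971
theorem L90975 : sm gc N11205 = N9300 := ded_13_2 L45108 L84267 L90898 L90892 L90971
theorem L90977 : sm ga N11205 = N8799 := ded_7_1 L42658 L20381 L72398 (flp_a L20723) (flp_b L9965) (flp_a L9815) L20375 L42652 L90971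
theorem L90979 : sm gd N8798 = N11205 := ded_32_16 L90975 (flp_d L88036) (flp_c L88028) L32816 (flp_d L15794) (flp_c L7749) (flp_d L3987) L54664 (flp_b L3943) (flp_e L3941) (flp_d L2046) L1024 L2046 L3939 L66611 L7631 L62705 (flp_d L7631) (flp_c L3939) L2048 (flp_d L1025) (flp_c L475) (flp_d L212) (flp_c L65207) (flp_b L61) L64 L130 L279 (flp_c L283) L159 (flp_d L157) (flp_c L80) (flp_d L40) L29 (flp_b L26) L23 L30 L35 (flp_d L30) (flp_c L20) L16 (flp_d L13) L10 L13 L20 L26 L40 L80 L157 L283 (flp_b L640) (flp_d L638) (flp_c L546) L1168 L2262 L58500 (flp_d L2258) L1166 L1334 L1338 (flp_b L2573) L4936 L9723 L20149 (flp_d L71931) (flp_c L15561) L7647 (flp_d L3987) L54664 L3987 L7749 L15790 L32814 L88028 L88036 (flp_c L90975) (flp_b L90971)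
theorem L90981 : sm gf N8798 = N11206 := rfl
theorem L90983 : sm ga N11206 = N8800 := ded_11_1 (flp_f L42660) L42652 L90981
theorem L90985 : sm ge N11206 = N8845 := ded_25_1 (flp_f L42900) (flp_e L42654) L90981
theorem L90987 : sm gg N8798 = N11207 := rfl
theorem L90989 : sm ga N11207 = N8801 := ded_12_1 (flp_g L42664) L42652 L90987
theorem L90991 : sm ge N11207 = N8846 := ded_26_1 (flp_g L42904) (flp_e L42654) L90987
theorem L90993 : sm gf N8799 = N11208 := rfl
theorem L90995 : sm gc N11208 = N9303 := ded_20_1 (flp_f L45120) (flp_c L72442) L90993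
theorem L90997 : sm gd N11208 = N8800 := ded_23_1 (flp_f L42660) L42656 L90993
theorem L90999 : sm ge N11208 = N9545 := ded_25_1 (flp_f L46349) (flp_e L72444) L90993
theorem L91001 : sm gg N8799 = N11209 := rfl
theorem L91003 : sm gc N11209 = N9304 := ded_21_1 (flp_g L45124) (flp_c L72442) L91001
theorem L91005 : sm gd N11209 = N8801 := ded_24_1 (flp_g L42664) L42656 L91001
theorem L91007 : sm ge N11209 = N9546 := ded_26_1 (flp_g L46353) (flp_e L72444) L91001
theorem L91009 : sm gb N8800 = N11210 := rfl
theorem L91011 : sm ge N11210 = N8851 := ded_15_2 (flp_b L42924) (flp_e L42662) L91009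
theorem L91013 : sm gc N11210 = N11210 := ded_13_2 (flp_b L91009) (flp_c L90902) L90908 L90902 L91009
theorem L91014 : sm gf N11210 = N8805 := ded_16_2 (flp_b L42692) (flp_f L20385) L20375 L42660 L91009
theorem L91016 : sm gg N8800 = N11211 := rfl
theorem L91018 : sm ge N11211 = N8852 := ded_26_1 (flp_g L42928) (flp_e L42662) L91016
theorem L91020 : sm gf N11207 = N11211 := ded_29_0 (flp_g L91016) (flp_f L42660) L42664 (flp_a L90989)
theorem L91022 : sm gb N8801 = N11212 := rfl
theorem L91024 : sm ge N11212 = N8853 := ded_15_2 (flp_b L42932) (flp_e L42666) L91022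
theorem L91026 : sm gc N11212 = N11212 := ded_13_2 (flp_b L91022) (flp_c L90911) L90917 L90911 L91022
theorem L91027 : sm gg N11212 = N8806 := ded_17_2 (flp_b L42696) (flp_g L20393) L20375 L42664 L91022
theorem L91029 : sm gf N8801 = N11213 := rfl
theorem L91031 : sm ga N11213 = N11211 := ded_11_1 (flp_f L91020) L90989 L91029
theorem L91033 : sm ge N11213 = N8854 := ded_25_1 (flp_f L42936) (flp_e L42666) L91029
theorem L91035 : sm gg N11213 = N11206 := ded_29_3 L90983 (flp_f L42660) L42664 L91029
theorem L91037 : sm gf N8802 = N11214 := rfl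
theorem L91039 : sm ga N11214 = N8928 := ded_11_1 (flp_f L43348) (flp_a L42670) L91037
theorem L91041 : sm gc N11214 = N8928 := ded_20_1 (flp_f L43348) (flp_c L42672) L91037
theorem L91043 : sm gd N11214 = N8855 := ded_23_1 (flp_f L42942) (flp_d L42674) L91037
theorem L91045 : sm ge N11214 = N8803 := ded_25_1 (flp_f L42676) L42668 L91037
theorem L91047 : sm gg N8802 = N11215 := rfl
theorem L91049 : sm ga N11215 = N8929 := ded_12_1 (flp_g L43354) (flp_a L42670) L91047
theorem L91051 : sm gc N11215 = N8929 := ded_21_1 (flp_g L43354) (flp_c L42672) L91047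
theorem L91053 : sm gd N11215 = N8856 := ded_24_1 (flp_g L42950) (flp_d L42674) L91047
theorem L91055 : sm ge N11215 = N8804 := ded_26_1 (flp_g L42684) L42668 L91047
theorem L91057 : sm gb N8803 = N11216 := rfl
theorem L91059 : sm gd N11216 = N8805 := ded_14_2 (flp_b L42692) (flp_d L42682) L91057
theorem L91061 : sm gb N8804 = N11217 := rfl
theorem L91063 : sm gd N11217 = N8806 := ded_14_2 (flp_b L42696) (flp_d L42690) L91061
theorem L91065 : sm ga N8805 = N11218 := rfl
theorem L91067 : sm gc N11218 = N11218 := ded_8_2 (flp_a L91065) L70998 L91065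
theorem L91068 : sm ge N11218 = N8859 := ded_10_2 (flp_a L42966) (flp_e L42694) L91065
theorem L91070 : sm gg N8805 = N11219 := rfl
theorem L91072 : sm gc N11219 = N11219 := ded_21_1 (flp_g L91070) L70998 L91070
theorem L91073 : sm ge N11219 = N8861 := ded_26_1 (flp_g L42972) (flp_e L42694) L91070
theorem L91075 : sm ga N8806 = N11220 := rfl
theorem L91077 : sm gc N11220 = N11220 := ded_8_2 (flp_a L91075) L83392 L91075
theorem L91078 : sm ge N11220 = N8862 := ded_10_2 (flp_a L42974) (flp_e L42698) L91075
theorem L91080 : sm gf N8806 = N11221 := rfl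
theorem L91082 : sm gc N11221 = N11221 := ded_20_1 (flp_f L91080) L83392 L91080
theorem L91083 : sm ge N11221 = N8864 := ded_25_1 (flp_f L42980) (flp_e L42698) L91080
theorem L91085 : sm gd N8843 = N11222 := rfl
theorem L91087 : sm ga N11222 = N8848 := ded_9_1 L72438 (flp_a L72243) L91085
theorem L91089 : sm gb N11222 = N8844 := ded_14_1 (flp_d L42896) L42894 L91085
theorem L91091 : sm ge N11222 = N8844 := ded_22_2 (flp_d L42896) (flp_e L42654) L90979 L90973 L91085
theorem L91093 : sm gf N8843 = N11223 := rfl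
theorem L91095 : sm ga N11223 = N9545 := ded_11_1 (flp_f L46349) (flp_a L72243) L91093
theorem L91097 : sm gc N11223 = N9542 := ded_20_1 (flp_f L46335) (flp_c L72245) L91093
theorem L91099 : sm gg N8843 = N11224 := rfl
theorem L91101 : sm ga N11224 = N9546 := ded_12_1 (flp_g L46353) (flp_a L72243) L91099
theorem L91103 : sm gc N11224 = N9543 := ded_21_1 (flp_g L46341) (flp_c L72245) L91099
theorem L91105 : sm gc N8844 = N11225 := rfl
theorem L91107 : sm ga N11225 = N8847 := ded_8_1 (flp_c L42908) (flp_a L42898) L91105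
theorem L91109 : sm gf N8844 = N11226 := rfl
theorem L91111 : sm ga N11226 = N8849 := ded_11_1 (flp_f L42916) (flp_a L42898) L91109
theorem L91113 : sm gd N11226 = N8845 := ded_23_1 (flp_f L42900) L42896 L91109
theorem L91115 : sm gg N8844 = N11227 := rfl
theorem L91117 : sm ga N11227 = N8850 := ded_12_1 (flp_g L42920) (flp_a L42898) L91115
theorem L91119 : sm gd N11227 = N8846 := ded_24_1 (flp_g L42904) L42896 L91115
theorem L91121 : sm gb N8845 = N11228 := rfl
theorem L91123 : sm gb N8846 = N11229 := rfl
theorem L91125 : sm gd N8847 = N11230 := rfl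
theorem L91127 : sm gb N11230 = N10740 := ded_14_1 (flp_d L88546) (flp_b L42910) L91125
theorem L91129 : sm ge N8847 = N11231 := rfl
theorem L91131 : sm gb N11231 = N10741 := ded_15_1 (flp_e L88552) (flp_b L42910) L91129
theorem L91133 : sm gc N11231 = N8848 := ded_19_1 (flp_e L42912) L42908 L91129
theorem L91135 : sm gf N8847 = N11232 := rfl
theorem L91137 : sm gc N11232 = N8849 := ded_20_1 (flp_f L42916) L42908 L91135
theorem L91139 : sm gg N8847 = N11233 := rfl
theorem L91141 : sm gc N11233 = N8850 := ded_21_1 (flp_g L42920) L42908 L91139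
theorem L91143 : sm gf N8848 = N11234 := rfl
theorem L91145 : sm gd N11234 = N9545 := ded_23_1 (flp_f L46349) (flp_d L72438) L91143
theorem L91147 : sm ge N11234 = N8849 := ded_25_1 (flp_f L42916) L42912 L91143
theorem L91149 : sm gg N8848 = N11235 := rfl
theorem L91151 : sm gd N11235 = N9546 := ded_24_1 (flp_g L46353) (flp_d L72438) L91149
theorem L91153 : sm ge N11235 = N8850 := ded_26_1 (flp_g L42920) L42912 L91149
theorem L91155 : sm gb N8849 = N11236 := rfl
theorem L91157 : sm gd N11236 = N8851 := ded_14_2 (flp_b L42924) (flp_d L42918) L91155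
theorem L91159 : sm gf N11236 = N8857 := ded_16_2 (flp_b L42958) (flp_f L20529) (flp_b L20517) L42916 L91155
theorem L91161 : sm gg N8849 = N11237 := rfl
theorem L91163 : sm gd N11237 = N8852 := ded_24_1 (flp_g L42928) (flp_d L42918) L91161
theorem L91165 : sm gf N11227 = N11237 := ded_29_0 (flp_g L91161) (flp_f L42916) L42920 (flp_a L91117)
theorem L91167 : sm gb N8850 = N11238 := rfl
theorem L91169 : sm gd N11238 = N8853 := ded_14_2 (flp_b L42932) (flp_d L42922) L91167
theorem L91171 : sm gg N11238 = N8858 := ded_17_2 (flp_b L42962) (flp_g L20537) (flp_b L20517) L42920 L91167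
theorem L91173 : sm gf N8850 = N11239 := rfl
theorem L91175 : sm ga N11239 = N11237 := ded_11_1 (flp_f L91165) L91117 L91173
theorem L91177 : sm gd N11239 = N8854 := ded_23_1 (flp_f L42936) (flp_d L42922) L91173
theorem L91179 : sm gg N11239 = N11226 := ded_29_3 L91111 (flp_f L42916) L42920 L91173
theorem L91181 : sm ga N8851 = N11240 := rfl
theorem L91183 : sm gc N11240 = N11240 := ded_8_2 (flp_a L91181) L72139 L91181
theorem L91184 : sm gf N11240 = N8859 := ded_11_2 (flp_a L42966) (flp_f L42926) L91181
theorem L91186 : sm gg N8851 = N11241 := rfl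
theorem L91188 : sm gc N11241 = N11241 := ded_21_1 (flp_g L91186) L72139 L91186
theorem L91189 : sm gb N8852 = N11242 := rfl
theorem L91191 : sm ga N8853 = N11243 := rfl
theorem L91193 : sm gc N11243 = N11243 := ded_8_2 (flp_a L91191) L83395 L91191
theorem L91194 : sm gg N11243 = N8862 := ded_12_2 (flp_a L42974) (flp_g L42934) L91191
theorem L91196 : sm gf N8853 = N11244 := rfl
theorem L91198 : sm gc N11244 = N11244 := ded_20_1 (flp_f L91196) L83395 L91196
theorem L91199 : sm gb N8854 = N11245 := rfl
theorem L91201 : sm gb N8855 = N11246 := rfl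
theorem L91203 : sm ge N11246 = N8857 := ded_15_2 (flp_b L42958) (flp_e L42948) L91201
theorem L91205 : sm gb N8856 = N11247 := rfl
theorem L91207 : sm ge N11247 = N8858 := ded_15_2 (flp_b L42962) (flp_e L42956) L91205
theorem L91209 : sm ga N8857 = N11248 := rfl
theorem L91211 : sm gd N11248 = N8859 := ded_9_2 (flp_a L42966) (flp_d L42960) L91209
theorem L91213 : sm gc N8857 = N11249 := rfl
theorem L91215 : sm gb N11249 = N10763 := ded_13_1 (flp_c L88660) (flp_b L37219) (flp_c L20533) L42958 L91213
theorem L91217 : sm gg N8857 = N11250 := rfl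
theorem L91219 : sm gd N11250 = N8861 := ded_24_1 (flp_g L42972) (flp_d L42960) L91217
theorem L91221 : sm ga N8858 = N11251 := rfl
theorem L91223 : sm gd N11251 = N8862 := ded_9_2 (flp_a L42974) (flp_d L42964) L91221
theorem L91225 : sm gc N8858 = N11252 := rfl
theorem L91227 : sm gb N11252 = N10767 := ded_13_1 (flp_c L88674) (flp_b L37231) (flp_c L20541) L42962 L91225
theorem L91229 : sm gf N8858 = N11253 := rfl
theorem L91231 : sm gd N11253 = N8864 := ded_23_1 (flp_f L42980) (flp_d L42964) L91229
theorem L91233 : sm gb N8859 = N11254 := rfl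
theorem L91235 : sm gg N8859 = N11255 := rfl
theorem L91237 : sm ga N11255 = N8861 := ded_12_1 (flp_g L42972) L42966 L91235
theorem L91239 : sm gc N11255 = N11255 := ded_21_1 (flp_g L91235) L72138 L91235
theorem L91240 : sm gf N11255 = N11241 := ded_29_2 (flp_g L91186) L91181 L91184 L91235
theorem L91242 : sm gf N8861 = N11256 := rfl
theorem L91244 : sm ga N11256 = N11241 := ded_11_1 (flp_f L91240) L91237 L91242
theorem L91246 : sm gc N11256 = N11256 := ded_20_1 (flp_f L91242) L72140 L91242
theorem L91247 : sm gg N11256 = N11240 := ded_29_3 (flp_a L91181) L42926 L42972 L91242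
theorem L91249 : sm gb N8862 = N11257 := rfl
theorem L91251 : sm gf N8862 = N11258 := rfl
theorem L91253 : sm ga N11258 = N8864 := ded_11_1 (flp_f L42980) L42974 L91251
theorem L91255 : sm gc N11258 = N11258 := ded_20_1 (flp_f L91251) L83393 L91251
theorem L91256 : sm gg N11244 = N11258 := ded_29_1 (flp_f L91251) (flp_g L91194) (flp_a L91191) L91196
theorem L91258 : sm gg N8864 = N11259 := rfl
theorem L91260 : sm ga N11259 = N11244 := ded_12_1 L91256 L91253 L91258
theorem L91262 : sm gc N11259 = N11259 := ded_21_1 (flp_g L91258) L83394 L91258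
theorem L91263 : sm gf N11243 = N11259 := ded_29_0 (flp_g L91258) (flp_f L42980) (flp_g L42934) L91191
theorem L91265 : sm gb N8918 = N11260 := rfl
theorem L91267 : sm gd N11260 = N8924 := ded_14_2 (flp_b L43318) (flp_d L72294) L91265
theorem L91269 : sm ge N11260 = N9056 := ded_15_2 (flp_b L43990) (flp_e L43292) L91265
theorem L91271 : sm gf N11260 = N8930 := ded_16_2 (flp_b L43360) (flp_f L20749) L72398 L43286 L91265
theorem L91273 : sm gb N8919 = N11261 := rfl
theorem L91275 : sm gd N11261 = N8926 := ded_14_2 (flp_b L43332) (flp_d L72292) L91273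
theorem L91277 : sm ge N11261 = N9057 := ded_15_2 (flp_b L43992) (flp_e L43300) L91273
theorem L91279 : sm gg N11261 = N8932 := ded_17_2 (flp_b L43370) (flp_g L20753) L72398 L43294 L91273
theorem L91281 : sm ga N8924 = N11262 := rfl
theorem L91283 : sm ge N11262 = N9064 := ded_10_2 (flp_a L44030) (flp_e L43320) L91281
theorem L91285 : sm gf N11262 = N8934 := ded_11_2 (flp_a L43384) (flp_f L43322) L91281
theorem L91287 : sm gc N8924 = N11263 := rfl
theorem L91289 : sm ge N11263 = N9065 := ded_19_2 (flp_c L44034) (flp_e L43320) L91287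
theorem L91291 : sm gf N11263 = N8935 := ded_20_2 (flp_c L43388) (flp_f L43322) L91287
theorem L91293 : sm gb N11263 = N9318 := ded_13_1 (flp_c L45213) (flp_b L21737) (flp_c L20735) L43318 L91287
theorem L91295 : sm gg N8924 = N11264 := rfl
theorem L91297 : sm ge N11264 = N9066 := ded_26_1 (flp_g L44040) (flp_e L43320) L91295
theorem L91299 : sm gb N8925 = N11265 := rfl
theorem L91301 : sm ge N11265 = N9067 := ded_15_2 (flp_b L44042) (flp_e L43328) L91299
theorem L91303 : sm ga N8926 = N11266 := rfl
theorem L91305 : sm ge N11266 = N9068 := ded_10_2 (flp_a L44044) (flp_e L43334) L91303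
theorem L91307 : sm gg N11266 = N8938 := ded_12_2 (flp_a L43402) (flp_g L43336) L91303
theorem L91309 : sm gc N8926 = N11267 := rfl
theorem L91311 : sm ge N11267 = N9069 := ded_19_2 (flp_c L44048) (flp_e L43334) L91309
theorem L91313 : sm gg N11267 = N8939 := ded_21_2 (flp_c L43406) (flp_g L43336) L91309
theorem L91315 : sm gb N11267 = N9322 := ded_13_1 (flp_c L45233) (flp_b L21749) (flp_c L20741) L43332 L91309
theorem L91317 : sm gf N8926 = N11268 := rfl
theorem L91319 : sm ge N11268 = N9070 := ded_25_1 (flp_f L44054) (flp_e L43334) L91317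
theorem L91321 : sm gb N8927 = N11269 := rfl
theorem L91323 : sm gd N11269 = N11265 := ded_14_2 (flp_b L91299) (flp_d L72432) L91321
theorem L91325 : sm ge N11269 = N9071 := ded_15_2 (flp_b L44056) (flp_e L43344) L91321
theorem L91327 : sm gb N8928 = N11270 := rfl
theorem L91329 : sm gd N11270 = N9081 := ded_14_2 (flp_b L44105) (flp_d L43350) L91327
theorem L91331 : sm ge N11270 = N8930 := ded_15_2 (flp_b L43360) (flp_e L43352) L91327
theorem L91333 : sm gf N11270 = N9056 := ded_16_2 (flp_b L43990) (flp_f L21097) (flp_b L72386) L43348 L91327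
theorem L91335 : sm gg N8928 = N11271 := rfl
theorem L91337 : sm gd N11271 = N9082 := ded_24_1 (flp_g L44109) (flp_d L43350) L91335
theorem L91339 : sm ge N11271 = N8931 := ded_26_1 (flp_g L43364) (flp_e L43352) L91335
theorem L91341 : sm gf N11215 = N11271 := ded_29_0 (flp_g L91335) (flp_f L43348) L43354 (flp_a L91049)
theorem L91343 : sm gb N8929 = N11272 := rfl
theorem L91345 : sm gd N11272 = N9083 := ded_14_2 (flp_b L44115) (flp_d L43356) L91343
theorem L91347 : sm ge N11272 = N8932 := ded_15_2 (flp_b L43370) (flp_e L43358) L91343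
theorem L91349 : sm gg N11272 = N9057 := ded_17_2 (flp_b L43992) (flp_g L21103) (flp_b L72386) L43354 L91343
theorem L91351 : sm gf N8929 = N11273 := rfl
theorem L91353 : sm ga N11273 = N11271 := ded_11_1 (flp_f L91341) L91049 L91351
theorem L91355 : sm gc N11273 = N11271 := ded_20_1 (flp_f L91341) L91051 L91351
theorem L91357 : sm gd N11273 = N9084 := ded_23_1 (flp_f L44119) (flp_d L43356) L91351
theorem L91359 : sm ge N11273 = N8933 := ded_25_1 (flp_f L43374) (flp_e L43358) L91351
theorem L91361 : sm gg N11273 = N11214 := ded_29_3 L91039 (flp_f L43348) L43354 L91351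
theorem L91363 : sm ga N8930 = N11274 := rfl
theorem L91365 : sm gd N11274 = N8934 := ded_9_2 (flp_a L43384) (flp_d L43362) L91363
theorem L91367 : sm gc N8930 = N11275 := rfl
theorem L91369 : sm gg N8930 = N11276 := rfl
theorem L91371 : sm gd N11276 = N8936 := ded_24_1 (flp_g L43394) (flp_d L43362) L91369
theorem L91373 : sm gb N8931 = N11277 := rfl
theorem L91375 : sm gd N11277 = N8937 := ded_14_2 (flp_b L43398) (flp_d L43366) L91373
theorem L91377 : sm ga N8932 = N11278 := rfl
theorem L91379 : sm gd N11278 = N8938 := ded_9_2 (flp_a L43402) (flp_d L43372) L91377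
theorem L91381 : sm gc N8932 = N11279 := rfl
theorem L91383 : sm gf N8932 = N11280 := rfl
theorem L91385 : sm gd N11280 = N8940 := ded_23_1 (flp_f L43412) (flp_d L43372) L91383
theorem L91387 : sm gb N8933 = N11281 := rfl
theorem L91389 : sm gd N11281 = N8941 := ded_14_2 (flp_b L43416) (flp_d L43380) L91387
theorem L91391 : sm gb N8934 = N11282 := rfl
theorem L91393 : sm ge N11282 = N9093 := ded_15_2 (flp_b L44155) (flp_e L43386) L91391
theorem L91395 : sm gc N8934 = N11283 := rfl
theorem L91397 : sm ga N11283 = N8935 := ded_8_1 (flp_c L43388) L43384 L91395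
theorem L91399 : sm ge N11283 = N9094 := ded_19_2 (flp_c L44157) (flp_e L43386) L91395
theorem L91401 : sm gg N8934 = N11284 := rfl
theorem L91403 : sm ga N11284 = N8936 := ded_12_1 (flp_g L43394) L43384 L91401
theorem L91405 : sm ge N11284 = N9095 := ded_26_1 (flp_g L44161) (flp_e L43386) L91401
theorem L91407 : sm gf N11284 = N11264 := ded_29_2 (flp_g L91295) L91281 L91285 L91401
theorem L91409 : sm gd N8935 = N11285 := rfl
theorem L91411 : sm gb N11285 = N8944 := ded_14_1 (flp_d L43434) (flp_b L43392) L91409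
theorem L91413 : sm gg N8935 = N11286 := rfl
theorem L91415 : sm gc N11286 = N8936 := ded_21_1 (flp_g L43394) L43388 L91413
theorem L91417 : sm ge N11286 = N9097 := ded_26_1 (flp_g L44171) (flp_e L43390) L91413
theorem L91419 : sm gb N8936 = N11287 := rfl
theorem L91421 : sm ge N11287 = N9098 := ded_15_2 (flp_b L44175) (flp_e L43396) L91419
theorem L91423 : sm gg N11287 = N8937 := ded_17_2 (flp_b L43398) (flp_g L20761) L20757 L43394 L91419
theorem L91425 : sm gf N8936 = N11288 := rfl
theorem L91427 : sm ga N11288 = N11264 := ded_11_1 (flp_f L91407) L91403 L91425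
theorem L91429 : sm ge N11288 = N9099 := ded_25_1 (flp_f L44179) (flp_e L43396) L91425
theorem L91431 : sm gg N11288 = N11262 := ded_29_3 (flp_a L91281) L43322 L43394 L91425
theorem L91433 : sm ga N8937 = N11289 := rfl
theorem L91435 : sm ge N11289 = N9100 := ded_10_2 (flp_a L44185) (flp_e L43400) L91433
theorem L91437 : sm gc N8937 = N11290 := rfl
theorem L91439 : sm ge N11290 = N9101 := ded_19_2 (flp_c L44187) (flp_e L43400) L91437
theorem L91441 : sm gb N11290 = N8948 := ded_13_1 (flp_c L43458) (flp_b L20803) (flp_c L20763) L43398 L91437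
theorem L91443 : sm gf N8937 = N11291 := rfl
theorem L91445 : sm ge N11291 = N9102 := ded_25_1 (flp_f L44191) (flp_e L43400) L91443
theorem L91447 : sm gb N11291 = N11221 := ded_16_1 (flp_f L91080) (flp_b L42696) L20767 L43398 L91443
theorem L91449 : sm gb N8938 = N11292 := rfl
theorem L91451 : sm ge N11292 = N9103 := ded_15_2 (flp_b L44195) (flp_e L43404) L91449
theorem L91453 : sm gc N8938 = N11293 := rfl
theorem L91455 : sm ga N11293 = N8939 := ded_8_1 (flp_c L43406) L43402 L91453
theorem L91457 : sm ge N11293 = N9104 := ded_19_2 (flp_c L44197) (flp_e L43404) L91453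
theorem L91459 : sm gf N8938 = N11294 := rfl
theorem L91461 : sm ga N11294 = N8940 := ded_11_1 (flp_f L43412) L43402 L91459
theorem L91463 : sm ge N11294 = N9105 := ded_25_1 (flp_f L44201) (flp_e L43404) L91459
theorem L91465 : sm gg N11268 = N11294 := ded_29_1 (flp_f L91459) (flp_g L91307) (flp_a L91303) L91317
theorem L91467 : sm gd N8939 = N11295 := rfl
theorem L91469 : sm gb N11295 = N8952 := ded_14_1 (flp_d L43484) (flp_b L43410) L91467
theorem L91471 : sm gf N8939 = N11296 := rfl
theorem L91473 : sm gc N11296 = N8940 := ded_20_1 (flp_f L43412) L43406 L91471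
theorem L91475 : sm ge N11296 = N9107 := ded_25_1 (flp_f L44211) (flp_e L43408) L91471
theorem L91477 : sm gb N8940 = N11297 := rfl
theorem L91479 : sm ge N11297 = N9108 := ded_15_2 (flp_b L44215) (flp_e L43414) L91477
theorem L91481 : sm gf N11297 = N8941 := ded_16_2 (flp_b L43416) (flp_f L20773) L20769 L43412 L91477
theorem L91483 : sm gg N8940 = N11298 := rfl
theorem L91485 : sm ga N11298 = N11268 := ded_12_1 L91465 L91461 L91483
theorem L91487 : sm ge N11298 = N9109 := ded_26_1 (flp_g L44219) (flp_e L43414) L91483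
theorem L91489 : sm gf N11266 = N11298 := ded_29_0 (flp_g L91483) (flp_f L43412) (flp_g L43336) L91303
theorem L91491 : sm ga N8941 = N11299 := rfl
theorem L91493 : sm ge N11299 = N9110 := ded_10_2 (flp_a L44225) (flp_e L43418) L91491
theorem L91495 : sm gc N8941 = N11300 := rfl
theorem L91497 : sm ge N11300 = N9111 := ded_19_2 (flp_c L44227) (flp_e L43418) L91495
theorem L91499 : sm gb N11300 = N8956 := ded_13_1 (flp_c L43508) (flp_b L20829) (flp_c L20777) L43416 L91495
theorem L91501 : sm gg N8941 = N11301 := rfl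
theorem L91503 : sm ge N11301 = N9112 := ded_26_1 (flp_g L44231) (flp_e L43418) L91501
theorem L91505 : sm gb N11301 = N11219 := ded_17_1 (flp_g L91070) (flp_b L42692) (flp_g L20781) L43416 L91501
theorem L91507 : sm ge N8944 = N11302 := rfl
theorem L91509 : sm gc N11302 = N9352 := ded_19_1 (flp_e L45403) (flp_c L69695) L91507
theorem L91511 : sm gf N11302 = N9352 := ded_25_2 (flp_e L45403) (flp_f L43436) L91507
theorem L91513 : sm gd N11302 = N9119 := ded_22_1 (flp_e L44262) (flp_d L21229) (flp_e L20793) L43434 L91507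
theorem L91515 : sm gc N8947 = N11303 := rfl
theorem L91517 : sm ga N11303 = N8948 := ded_8_1 (flp_c L43458) L43452 L91515
theorem L91519 : sm ge N11303 = N9126 := ded_19_2 (flp_c L44296) (flp_e L43456) L91515
theorem L91521 : sm gf N11303 = N11303 := ded_20_2 (flp_c L91515) L82668 L91515
theorem L91522 : sm gd N8948 = N11304 := rfl
theorem L91524 : sm gf N11304 = N11304 := ded_23_2 (flp_d L91522) L83391 L91522
theorem L91525 : sm ge N8952 = N11305 := rfl
theorem L91527 : sm gc N11305 = N9366 := ded_19_1 (flp_e L45481) (flp_c L82459) L91525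
theorem L91529 : sm gg N11305 = N9366 := ded_26_2 (flp_e L45481) (flp_g L43486) L91525
theorem L91531 : sm gd N11305 = N9136 := ded_22_1 (flp_e L44341) (flp_d L21265) (flp_e L20819) L43484 L91525
theorem L91533 : sm gc N8955 = N11306 := rfl
theorem L91535 : sm ga N11306 = N8956 := ded_8_1 (flp_c L43508) L43502 L91533
theorem L91537 : sm ge N11306 = N9143 := ded_19_2 (flp_c L44377) (flp_e L43506) L91533
theorem L91539 : sm gg N11306 = N11306 := ded_21_2 (flp_c L91533) L71016 L91533
theorem L91540 : sm gd N8956 = N11307 := rfl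
theorem L91542 : sm gg N11307 = N11307 := ded_24_2 (flp_d L91540) L72041 L91540
theorem L91543 : sm gd N8971 = N11308 := rfl
theorem L91545 : sm ga N11308 = N8972 := ded_9_1 (flp_d L43599) (flp_a L43595) L91543
theorem L91547 : sm gb N11308 = N10088 := ded_14_1 (flp_d L85069) L82671 L91543
theorem L91549 : sm gf N11308 = N11308 := ded_23_2 (flp_d L91543) L82651 L91543
theorem L91550 : sm gc N8972 = N11309 := rfl
theorem L91552 : sm gf N11309 = N11309 := ded_20_2 (flp_c L91550) L82670 L91550
theorem L91553 : sm ge N8972 = N11310 := rfl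
theorem L91559 : sm gd N8988 = N11311 := rfl
theorem L91561 : sm ga N11311 = N8989 := ded_9_1 (flp_d L43697) (flp_a L43693) L91559
theorem L91563 : sm gb N11311 = N10086 := ded_14_1 (flp_d L85055) (flp_b L81257) L91559
theorem L91565 : sm gg N11311 = N11311 := ded_24_2 (flp_d L91559) L71015 L91559
theorem L91566 : sm gc N8989 = N11312 := rfl
theorem L91568 : sm gg N11312 = N11312 := ded_21_2 (flp_c L91566) L71017 L91566
theorem L91569 : sm ge N8989 = N11313 := rfl
theorem L91573 : sm gd N11313 = N9044 := ded_22_1 (flp_e L43932) (flp_d L21074) (flp_e L20914) L43697 L91569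
theorem L91575 : sm ge N9014 = N11314 := rfl
theorem L91582 : sm gb N9015 = N11315 := rfl
theorem L91585 : sm ge N9015 = N11316 := rfl
theorem L91597 : sm gb N9043 = N11318 := rfl
theorem L91605 : sm gb N9054 = N11320 := rfl
theorem L91607 : sm gd N11320 = N9056 := ded_14_2 (flp_b L43990) (flp_d L43980) L91605
theorem L91609 : sm ge N11320 = N9060 := ded_15_2 (flp_b L44002) (flp_e L72319) L91605
theorem L91611 : sm gf N11320 = N9081 := ded_16_2 (flp_b L44105) (flp_f L21169) L72321 L43974 L91605
theorem L91613 : sm gb N9055 = N11321 := rfl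
theorem L91615 : sm gd N11321 = N9057 := ded_14_2 (flp_b L43992) (flp_d L43988) L91613
theorem L91617 : sm ge N11321 = N9062 := ded_15_2 (flp_b L44014) (flp_e L72317) L91613
theorem L91619 : sm gg N11321 = N9083 := ded_17_2 (flp_b L44115) (flp_g L21173) L72321 L43982 L91613
theorem L91621 : sm ga N9056 = N11322 := rfl
theorem L91623 : sm gf N11322 = N10131 := ded_30_4 (flp_c L85248) (flp_b L26703) (flp_a L12828) L6334 L6354 L6356 L68525 L3308 (flp_c L3306) (flp_b L1680) (flp_a L1434) (flp_f L1432) L1426 L2783 L5394 L10737 (flp_c L21101) L43990 L91621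
theorem L91625 : sm ga N11270 = N10131 := ded_11_3 (flp_f L91623) (flp_a L91621) (flp_f L91333)
theorem L91627 : sm gc N10132 = N11322 := ded_20_3 L91623 (flp_c L85248) L85250
theorem L91629 : N10168 = N9577 := coi_30_6 (flp_b L46491) L22363 (flp_f L22329) (flp_c L22327) (flp_b L10749) (flp_a L10739) (flp_f L10737) (flp_c L10139) (flp_b L72386) (flp_a L42670) L91037 L91041 L91327 L91625 (flp_f L91623) (flp_c L91627) L85252 (flp_a L85390) (flp_f L85388) L85384
theorem L91630 : N10168 = N9577 := eqc rfl L91629 rfl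
theorem L91631 : sm ga N9577 = N5526 := trfs L91630 L85386 rfl
theorem L91633 : sm gc N9577 = N5525 := trfs L91630 (flp_c L85384) rfl
theorem L91635 : sm gc N10130 = N11270 := ded_8_0 L91625 (flp_c L85248) L85246
theorem L91637 : sm ge N10131 = N11274 := ded_10_2 (flp_a L91363) (flp_e L91331) L91625
theorem L91639 : N9573 = N9574 := coi_13_2 (flp_c L46481) (flp_b L22357) L22361 L46491 L91633 (flp_b L46479)
theorem L91640 : N9574 = N9573 := (eqc rfl L91639 rfl).symm
theorem L91641 : sm gc N9573 = N4634 := trfs L91640 (flp_c L46481) rfl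
theorem L91643 : sm gc N10172 = N10172 := ded_28_6 (flp_d L85400) (flp_a L91631) L91633 (flp_d L46477) L91641 L22359 L26765 L85400
theorem L91644 : sm ge N11275 = N10130 := ded_19_0 L91635 L91331 L91367
theorem L91646 : sm gc N11274 = N9983 := ded_19_1 L84475 L85248 L91637
theorem L91648 : sm ga N9983 = N11275 := ded_10_3 L91644 (flp_a L85246) (flp_e L84475)
theorem L91650 : sm gc N9056 = N11323 := rfl
theorem L91652 : sm ga N11323 = N10132 := ded_8_1 L91627 (flp_a L91621) L91650
theorem L91654 : sm gf N11323 = N10130 := ded_20_2 L91635 L91333 L91650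
theorem L91656 : sm gb N11323 = N9552 := ded_13_1 (flp_c L46387) (flp_b L22313) (flp_c L21101) L43990 L91650
theorem L91658 : sm gg N9056 = N11324 := rfl
theorem L91660 : sm ga N9057 = N11325 := rfl
theorem L91662 : sm gc N9057 = N11326 := rfl
theorem L91664 : sm gb N11326 = N9555 := ded_13_1 (flp_c L46397) (flp_b L22317) (flp_c L21107) L43992 L91662
theorem L91666 : sm gf N9057 = N11327 := rfl
theorem L91668 : sm ga N9060 = N11328 := rfl
theorem L91670 : sm gd N11328 = N9064 := ded_9_2 (flp_a L44030) (flp_d L44004) L91668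
theorem L91672 : sm gf N11328 = N9085 := ded_11_2 (flp_a L44127) (flp_f L44006) L91668
theorem L91674 : sm gc N9060 = N11329 := rfl
theorem L91676 : sm gf N11329 = N9086 := ded_20_2 (flp_c L44131) (flp_f L44006) L91674
theorem L91678 : sm gg N9060 = N11330 := rfl
theorem L91680 : sm gd N11330 = N9066 := ded_24_1 (flp_g L44040) (flp_d L44004) L91678
theorem L91682 : sm gb N9061 = N11331 := rfl
theorem L91684 : sm gd N11331 = N9067 := ded_14_2 (flp_b L44042) (flp_d L44010) L91682
theorem L91686 : sm ga N9062 = N11332 := rfl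
theorem L91688 : sm gd N11332 = N9068 := ded_9_2 (flp_a L44044) (flp_d L44016) L91686
theorem L91690 : sm gg N11332 = N9089 := ded_12_2 (flp_a L44141) (flp_g L44018) L91686
theorem L91692 : sm gc N9062 = N11333 := rfl
theorem L91694 : sm gg N11333 = N9090 := ded_21_2 (flp_c L44145) (flp_g L44018) L91692
theorem L91696 : sm gf N9062 = N11334 := rfl
theorem L91698 : sm gd N11334 = N9070 := ded_23_1 (flp_f L44054) (flp_d L44016) L91696
theorem L91700 : sm gb N9063 = N11335 := rfl
theorem L91702 : sm gd N11335 = N9071 := ded_14_2 (flp_b L44056) (flp_d L44026) L91700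
theorem L91704 : sm ge N11335 = N11331 := ded_15_2 (flp_b L91682) (flp_e L72434) L91700
theorem L91706 : sm gb N9064 = N11336 := rfl
theorem L91708 : sm gc N9064 = N11337 := rfl
theorem L91710 : sm ga N11337 = N9065 := ded_8_1 (flp_c L44034) L44030 L91708
theorem L91712 : sm gf N11337 = N9094 := ded_20_2 (flp_c L44157) (flp_f L44032) L91708
theorem L91714 : sm gd N9065 = N11338 := rfl
theorem L91716 : sm gb N11338 = N9559 := ded_14_1 (flp_d L46413) (flp_b L44038) L91714
theorem L91718 : sm gf N11338 = N9096 := ded_23_2 (flp_d L44167) (flp_f L44036) L91714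
theorem L91720 : sm gg N9065 = N11339 := rfl
theorem L91722 : sm gc N11339 = N9066 := ded_21_1 (flp_g L44040) L44034 L91720
theorem L91724 : sm gb N9066 = N11340 := rfl
theorem L91726 : sm gg N11340 = N9067 := ded_17_2 (flp_b L44042) (flp_g L21125) L21121 L44040 L91724
theorem L91728 : sm ga N9067 = N11341 := rfl
theorem L91730 : sm gc N9067 = N11342 := rfl
theorem L91732 : sm gb N11342 = N9563 := ded_13_1 (flp_c L46431) (flp_b L22335) (flp_c L21127) L44042 L91730
theorem L91734 : sm gf N9067 = N11343 := rfl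
theorem L91736 : sm gb N11343 = N11327 := ded_16_1 (flp_f L91666) (flp_b L43992) L21129 L44042 L91734
theorem L91738 : sm gb N9068 = N11344 := rfl
theorem L91740 : sm gc N9068 = N11345 := rfl
theorem L91742 : sm ga N11345 = N9069 := ded_8_1 (flp_c L44048) L44044 L91740
theorem L91744 : sm gg N11345 = N9104 := ded_21_2 (flp_c L44197) (flp_g L44046) L91740
theorem L91746 : sm gd N9069 = N11346 := rfl
theorem L91748 : sm gb N11346 = N9567 := ded_14_1 (flp_d L46449) (flp_b L44052) L91746
theorem L91750 : sm gg N11346 = N9106 := ded_24_2 (flp_d L44207) (flp_g L44050) L91746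
theorem L91752 : sm gf N9069 = N11347 := rfl
theorem L91754 : sm gc N11347 = N9070 := ded_20_1 (flp_f L44054) L44048 L91752
theorem L91756 : sm gb N9070 = N11348 := rfl
theorem L91758 : sm gf N11348 = N9071 := ded_16_2 (flp_b L44056) (flp_f L21135) L21131 L44054 L91756
theorem L91760 : sm ga N9071 = N11349 := rfl
theorem L91762 : sm gc N9071 = N11350 := rfl
theorem L91764 : sm gb N11350 = N9571 := ded_13_1 (flp_c L46467) (flp_b L22353) (flp_c L21139) L44056 L91762
theorem L91766 : sm gg N9071 = N11351 := rfl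
theorem L91768 : sm gb N11351 = N11324 := ded_17_1 (flp_g L91658) (flp_b L43990) (flp_g L21141) L44056 L91766
theorem L91770 : sm gb N9074 = N11352 := rfl
theorem L91772 : sm gd N11352 = N10689 := ded_14_2 (flp_b L88272) (flp_d L44068) L91770
theorem L91774 : sm ge N11352 = N9079 := ded_15_2 (flp_b L44097) (flp_e L72356) L91770
theorem L91776 : sm gf N11352 = N9079 := ded_16_2 (flp_b L44097) (flp_f L21153) L21143 L44066 L91770
theorem L91778 : sm gb N9075 = N11353 := rfl
theorem L91780 : sm gd N11353 = N10691 := ded_14_2 (flp_b L88281) (flp_d L44072) L91778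
theorem L91782 : sm ge N11353 = N9080 := ded_15_2 (flp_b L44101) (flp_e L72350) L91778
theorem L91784 : sm gg N11353 = N9080 := ded_17_2 (flp_b L44101) (flp_g L21161) L21143 L44070 L91778
theorem L91786 : sm ga N9079 = N11354 := rfl
theorem L91788 : sm gd N11354 = N10693 := ded_9_2 (flp_a L88292) (flp_d L44099) L91786
theorem L91790 : sm gc N9079 = N11355 := rfl
theorem L91792 : sm gb N11355 = N9086 := ded_13_1 (flp_c L44131) (flp_b L21177) (flp_c L21157) L44097 L91790
theorem L91794 : sm gg N9079 = N11356 := rfl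
theorem L91796 : sm gd N11356 = N10695 := ded_24_1 (flp_g L88298) (flp_d L44099) L91794
theorem L91798 : sm ga N9080 = N11357 := rfl
theorem L91800 : sm gd N11357 = N10696 := ded_9_2 (flp_a L88300) (flp_d L44103) L91798
theorem L91802 : sm gc N9080 = N11358 := rfl
theorem L91804 : sm gb N11358 = N9090 := ded_13_1 (flp_c L44145) (flp_b L21187) (flp_c L21165) L44101 L91802
theorem L91806 : sm gf N9080 = N11359 := rfl
theorem L91808 : sm gd N11359 = N10698 := ded_23_1 (flp_f L88306) (flp_d L44103) L91806
theorem L91810 : sm ga N9081 = N11360 := rfl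
theorem L91812 : sm gd N11360 = N10131 := ded_9_2 (flp_a L91625) L91329 L91810
theorem L91814 : sm ge N11360 = N9085 := ded_10_2 (flp_a L44127) (flp_e L44107) L91810
theorem L91816 : sm gc N9081 = N11361 := rfl
theorem L91818 : sm ge N11361 = N9086 := ded_19_2 (flp_c L44131) (flp_e L44107) L91816
theorem L91820 : sm gg N9081 = N11362 := rfl
theorem L91822 : sm ge N11362 = N9087 := ded_26_1 (flp_g L44133) (flp_e L44107) L91820
theorem L91824 : sm gb N9082 = N11363 := rfl
theorem L91826 : sm ge N11363 = N9088 := ded_15_2 (flp_b L44137) (flp_e L44111) L91824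
theorem L91828 : sm ga N9083 = N11364 := rfl
theorem L91830 : sm ge N11364 = N9089 := ded_10_2 (flp_a L44141) (flp_e L44117) L91828
theorem L91832 : sm gc N9083 = N11365 := rfl
theorem L91834 : sm ge N11365 = N9090 := ded_19_2 (flp_c L44145) (flp_e L44117) L91832
theorem L91836 : sm gf N9083 = N11366 := rfl
theorem L91838 : sm ge N11366 = N9091 := ded_25_1 (flp_f L44147) (flp_e L44117) L91836
theorem L91840 : sm gb N9084 = N11367 := rfl
theorem L91842 : sm ge N11367 = N9092 := ded_15_2 (flp_b L44151) (flp_e L44123) L91840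
theorem L91844 : sm gb N9085 = N11368 := rfl
theorem L91846 : sm gd N11368 = N9093 := ded_14_2 (flp_b L44155) (flp_d L44129) L91844
theorem L91848 : sm gc N9085 = N11369 := rfl
theorem L91850 : sm ga N11369 = N9086 := ded_8_1 (flp_c L44131) L44127 L91848
theorem L91852 : sm gg N9085 = N11370 := rfl
theorem L91854 : sm ga N11370 = N9087 := ded_12_1 (flp_g L44133) L44127 L91852
theorem L91856 : sm gd N11370 = N9095 := ded_24_1 (flp_g L44161) (flp_d L44129) L91852
theorem L91858 : sm gf N11370 = N11330 := ded_29_2 (flp_g L91678) L91668 L91672 L91852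
theorem L91860 : sm gd N9086 = N11371 := rfl
theorem L91862 : sm gg N9086 = N11372 := rfl
theorem L91864 : sm gc N11372 = N9087 := ded_21_1 (flp_g L44133) L44131 L91862
theorem L91866 : sm gb N9087 = N11373 := rfl
theorem L91868 : sm gd N11373 = N9098 := ded_14_2 (flp_b L44175) (flp_d L44135) L91866
theorem L91870 : sm gg N11373 = N9088 := ded_17_2 (flp_b L44137) (flp_g L21181) L21177 L44133 L91866
theorem L91872 : sm gf N9087 = N11374 := rfl
theorem L91874 : sm ga N11374 = N11330 := ded_11_1 (flp_f L91858) L91854 L91872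
theorem L91876 : sm gd N11374 = N9099 := ded_23_1 (flp_f L44179) (flp_d L44135) L91872
theorem L91878 : sm gg N11374 = N11328 := ded_29_3 (flp_a L91668) L44006 L44133 L91872
theorem L91880 : sm ga N9088 = N11375 := rfl
theorem L91882 : sm gd N11375 = N9100 := ded_9_2 (flp_a L44185) (flp_d L44139) L91880
theorem L91884 : sm gc N9088 = N11376 := rfl
theorem L91886 : sm gf N9088 = N11377 := rfl
theorem L91888 : sm gd N11377 = N9102 := ded_23_1 (flp_f L44191) (flp_d L44139) L91886
theorem L91890 : sm gb N11377 = N11253 := ded_16_1 (flp_f L91229) (flp_b L42962) L21185 L44137 L91886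
theorem L91892 : sm gb N9089 = N11378 := rfl
theorem L91894 : sm gd N11378 = N9103 := ded_14_2 (flp_b L44195) (flp_d L44143) L91892
theorem L91896 : sm gc N9089 = N11379 := rfl
theorem L91898 : sm ga N11379 = N9090 := ded_8_1 (flp_c L44145) L44141 L91896
theorem L91900 : sm gf N9089 = N11380 := rfl
theorem L91902 : sm ga N11380 = N9091 := ded_11_1 (flp_f L44147) L44141 L91900
theorem L91904 : sm gd N11380 = N9105 := ded_23_1 (flp_f L44201) (flp_d L44143) L91900
theorem L91906 : sm gg N11334 = N11380 := ded_29_1 (flp_f L91900) (flp_g L91690) (flp_a L91686) L91696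
theorem L91908 : sm gd N9090 = N11381 := rfl
theorem L91910 : sm gf N9090 = N11382 := rfl
theorem L91912 : sm gc N11382 = N9091 := ded_20_1 (flp_f L44147) L44145 L91910
theorem L91914 : sm gb N9091 = N11383 := rfl
theorem L91916 : sm gd N11383 = N9108 := ded_14_2 (flp_b L44215) (flp_d L44149) L91914
theorem L91918 : sm gf N11383 = N9092 := ded_16_2 (flp_b L44151) (flp_f L21191) L21187 L44147 L91914
theorem L91920 : sm gg N9091 = N11384 := rfl
theorem L91922 : sm ga N11384 = N11334 := ded_12_1 L91906 L91902 L91920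
theorem L91924 : sm gd N11384 = N9109 := ded_24_1 (flp_g L44219) (flp_d L44149) L91920
theorem L91926 : sm gf N11332 = N11384 := ded_29_0 (flp_g L91920) (flp_f L44147) (flp_g L44018) L91686
theorem L91928 : sm ga N9092 = N11385 := rfl
theorem L91930 : sm gd N11385 = N9110 := ded_9_2 (flp_a L44225) (flp_d L44153) L91928
theorem L91932 : sm gc N9092 = N11386 := rfl
theorem L91934 : sm gg N9092 = N11387 := rfl
theorem L91936 : sm gd N11387 = N9112 := ded_24_1 (flp_g L44231) (flp_d L44153) L91934
theorem L91938 : sm gb N11387 = N11250 := ded_17_1 (flp_g L91217) (flp_b L42958) (flp_g L21197) L44151 L91934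
theorem L91940 : sm ga N9093 = N11388 := rfl
theorem L91942 : sm gc N9093 = N11389 := rfl
theorem L91944 : sm gf N9093 = N11390 := rfl
theorem L91946 : sm gg N9093 = N11391 := rfl
theorem L91948 : sm gb N9094 = N11392 := rfl
theorem L91950 : sm gd N9094 = N11393 := rfl
theorem L91952 : sm ga N11393 = N9096 := ded_9_1 (flp_d L44167) (flp_a L44159) L91950
theorem L91954 : sm gg N9094 = N11394 := rfl
theorem L91956 : sm ga N11394 = N9097 := ded_12_1 (flp_g L44171) (flp_a L44159) L91954
theorem L91958 : sm gc N11394 = N9095 := ded_21_1 (flp_g L44161) L44157 L91954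
theorem L91960 : sm gf N11394 = N11339 := ded_29_2 (flp_g L91720) (flp_a L91710) L91712 L91954
theorem L91962 : sm gb N9095 = N11395 := rfl
theorem L91964 : sm gc N9096 = N11396 := rfl
theorem L91966 : sm ge N9096 = N11397 := rfl
theorem L91968 : sm gb N11397 = N9119 := ded_15_1 (flp_e L44262) (flp_b L44169) L91966
theorem L91970 : sm gg N9096 = N11398 := rfl
theorem L91972 : sm gd N11398 = N9097 := ded_24_1 (flp_g L44171) L44167 L91970
theorem L91974 : sm gf N9097 = N11399 := rfl
theorem L91976 : sm ga N11399 = N11339 := ded_11_1 (flp_f L91960) L91956 L91974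
theorem L91978 : sm gc N11399 = N9099 := ded_20_1 (flp_f L44179) (flp_c L44173) L91974
theorem L91980 : sm gg N11399 = N11337 := ded_29_3 L91710 L44036 L44171 L91974
theorem L91982 : sm ga N9098 = N11400 := rfl
theorem L91984 : sm gg N11400 = N9100 := ded_12_2 (flp_a L44185) (flp_g L44177) L91982
theorem L91986 : sm gc N9098 = N11401 := rfl
theorem L91988 : sm gg N11401 = N9101 := ded_21_2 (flp_c L44187) (flp_g L44177) L91986
theorem L91990 : sm gf N9098 = N11402 := rfl
theorem L91992 : sm gb N9099 = N11403 := rfl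
theorem L91994 : sm gb N9100 = N11404 := rfl
theorem L91996 : sm gc N9100 = N11405 := rfl
theorem L91998 : sm ga N11405 = N9101 := ded_8_1 (flp_c L44187) L44185 L91996
theorem L92000 : sm gf N9100 = N11406 := rfl
theorem L92002 : sm ga N11406 = N9102 := ded_11_1 (flp_f L44191) L44185 L92000
theorem L92004 : sm gg N11402 = N11406 := ded_29_1 (flp_f L92000) (flp_g L91984) (flp_a L91982) L91990
theorem L92006 : sm gd N9101 = N11407 := rfl
theorem L92008 : sm gb N11407 = N9127 := ded_14_1 (flp_d L44300) (flp_b L44189) L92006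
theorem L92010 : sm gf N9101 = N11408 := rfl
theorem L92012 : sm gc N11408 = N9102 := ded_20_1 (flp_f L44191) L44187 L92010
theorem L92014 : sm gb N11408 = N11408 := ded_16_1 (flp_f L92010) L44189 L81073 (flp_b L44189) L92010
theorem L92015 : sm gg N9102 = N11409 := rfl
theorem L92017 : sm ga N11409 = N11402 := ded_12_1 L92004 L92002 L92015
theorem L92019 : sm gf N11400 = N11409 := ded_29_0 (flp_g L92015) (flp_f L44191) (flp_g L44177) L91982
theorem L92021 : sm ga N9103 = N11410 := rfl
theorem L92023 : sm gc N9103 = N11411 := rfl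
theorem L92025 : sm gf N9103 = N11412 := rfl
theorem L92027 : sm gg N9103 = N11413 := rfl
theorem L92029 : sm gb N9104 = N11414 := rfl
theorem L92031 : sm gd N9104 = N11415 := rfl
theorem L92033 : sm ga N11415 = N9106 := ded_9_1 (flp_d L44207) (flp_a L44199) L92031
theorem L92035 : sm gf N9104 = N11416 := rfl
theorem L92037 : sm ga N11416 = N9107 := ded_11_1 (flp_f L44211) (flp_a L44199) L92035
theorem L92039 : sm gc N11416 = N9105 := ded_20_1 (flp_f L44201) L44197 L92035
theorem L92041 : sm gg N11347 = N11416 := ded_29_1 (flp_f L92035) (flp_g L91744) L91742 L91752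
theorem L92043 : sm gb N9105 = N11417 := rfl
theorem L92045 : sm gc N9106 = N11418 := rfl
theorem L92047 : sm ge N9106 = N11419 := rfl
theorem L92049 : sm gb N11419 = N9136 := ded_15_1 (flp_e L44341) (flp_b L44209) L92047
theorem L92051 : sm gf N9106 = N11420 := rfl
theorem L92053 : sm gd N11420 = N9107 := ded_23_1 (flp_f L44211) L44207 L92051
theorem L92055 : sm gg N9107 = N11421 := rfl
theorem L92057 : sm ga N11421 = N11347 := ded_12_1 L92041 L92037 L92055
theorem L92059 : sm gc N11421 = N9109 := ded_21_1 (flp_g L44219) (flp_c L44213) L92055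
theorem L92061 : sm gf N11345 = N11421 := ded_29_0 (flp_g L92055) (flp_f L44211) (flp_g L44050) (flp_a L91742)
theorem L92063 : sm ga N9108 = N11422 := rfl
theorem L92065 : sm gf N11422 = N9110 := ded_11_2 (flp_a L44225) (flp_f L44217) L92063
theorem L92067 : sm gc N9108 = N11423 := rfl
theorem L92069 : sm gf N11423 = N9111 := ded_20_2 (flp_c L44227) (flp_f L44217) L92067
theorem L92071 : sm gg N9108 = N11424 := rfl
theorem L92073 : sm gb N9109 = N11425 := rfl
theorem L92075 : sm gb N9110 = N11426 := rfl
theorem L92077 : sm gc N9110 = N11427 := rfl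
theorem L92079 : sm ga N11427 = N9111 := ded_8_1 (flp_c L44227) L44225 L92077
theorem L92081 : sm gg N9110 = N11428 := rfl
theorem L92083 : sm ga N11428 = N9112 := ded_12_1 (flp_g L44231) L44225 L92081
theorem L92085 : sm gf N11428 = N11424 := ded_29_2 (flp_g L92071) L92063 L92065 L92081
theorem L92087 : sm gd N9111 = N11429 := rfl
theorem L92089 : sm gb N11429 = N9144 := ded_14_1 (flp_d L44381) (flp_b L44229) L92087
theorem L92091 : sm gg N9111 = N11430 := rfl
theorem L92093 : sm gc N11430 = N9112 := ded_21_1 (flp_g L44231) L44227 L92091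
theorem L92095 : sm gb N11430 = N11430 := ded_17_1 (flp_g L92091) L44229 L67586 (flp_b L44229) L92091
theorem L92096 : sm gf N9112 = N11431 := rfl
theorem L92098 : sm ga N11431 = N11424 := ded_11_1 (flp_f L92085) L92083 L92096
theorem L92100 : sm gg N11431 = N11422 := ded_29_3 (flp_a L92063) L44217 L44231 L92096
theorem L92102 : sm gb N9118 = N11432 := rfl
theorem L92104 : sm gd N11432 = N10314 := ded_14_2 (flp_b L85986) L75696 L92102
theorem L92106 : sm ge N9118 = N11433 := rfl
theorem L92108 : sm gc N11433 = N9119 := ded_19_1 (flp_e L44262) L44258 L92106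
theorem L92110 : sm gf N11433 = N9620 := ded_25_2 (flp_e L46681) (flp_f L44260) L92106
theorem L92112 : sm gg N11433 = N10334 := ded_26_2 (flp_e L86109) (flp_g L82675) L92106
theorem L92114 : sm gb N9126 = N11434 := rfl
theorem L92116 : sm gc N11434 = N9645 := ded_13_2 (flp_b L46795) L22503 (flp_b L70560) L44296 L92114
theorem L92118 : sm gd N9126 = N11435 := rfl
theorem L92120 : sm ga N11435 = N9127 := ded_9_1 (flp_d L44300) (flp_a L44298) L92118
theorem L92122 : sm gf N11435 = N11435 := ded_23_2 (flp_d L92118) L83396 L92118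
theorem L92123 : sm gc N9127 = N11436 := rfl
theorem L92125 : sm gf N11436 = N11436 := ded_20_2 (flp_c L92123) L83397 L92123
theorem L92126 : sm ge N9127 = N11437 := rfl
theorem L92128 : sm gf N11437 = N11437 := ded_25_2 (flp_e L92126) L83397 L92126
theorem L92129 : sm gb N9135 = N11438 := rfl
theorem L92131 : sm gd N11438 = N10336 := ded_14_2 (flp_b L86117) L77847 L92129
theorem L92133 : sm ge N9135 = N11439 := rfl
theorem L92135 : sm gc N11439 = N9136 := ded_19_1 (flp_e L44341) L44337 L92133
theorem L92137 : sm gf N11439 = N10354 := ded_25_2 (flp_e L86220) (flp_f L82713) L92133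
theorem L92139 : sm gg N11439 = N9649 := ded_26_2 (flp_e L46809) (flp_g L44339) L92133
theorem L92141 : sm gb N9143 = N11440 := rfl
theorem L92143 : sm gc N11440 = N9616 := ded_13_2 (flp_b L46667) L22447 (flp_b L81325) L44377 L92141
theorem L92145 : sm gd N9143 = N11441 := rfl
theorem L92147 : sm ga N11441 = N9144 := ded_9_1 (flp_d L44381) (flp_a L44379) L92145
theorem L92149 : sm gg N11441 = N11441 := ded_24_2 (flp_d L92145) L72039 L92145
theorem L92150 : sm gc N9144 = N11442 := rfl
theorem L92152 : sm gg N11442 = N11442 := ded_21_2 (flp_c L92150) L72040 L92150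
theorem L92153 : sm ge N9144 = N11443 := rfl
theorem L92155 : sm gg N11443 = N11443 := ded_26_2 (flp_e L92153) L72040 L92153
theorem L92156 : sm ga N9149 = N11444 := rfl
theorem L92158 : sm gd N9149 = N11445 := rfl
theorem L92160 : sm gb N11445 = N9150 := ded_14_1 (flp_d L44414) L44412 L92158
theorem L92162 : sm ge N9149 = N11446 := rfl
theorem L92164 : sm gb N11446 = N9151 := ded_15_1 (flp_e L44422) L44412 L92162
theorem L92166 : sm gf N9149 = N11447 := rfl
theorem L92168 : sm gb N11447 = N9693 := ded_16_1 (flp_f L47047) (flp_b L22645) (flp_f L21315) L44412 L92166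
theorem L92170 : sm gg N9149 = N11448 := rfl
theorem L92172 : sm ge N9150 = N11449 := rfl
theorem L92174 : sm ga N11449 = N11433 := ded_10_1 (flp_e L92106) (flp_a L44416) L92172
theorem L92176 : sm gc N11449 = N10282 := ded_19_1 (flp_e L85846) L80537 L92172
theorem L92178 : sm gf N11449 = N9695 := ded_25_2 (flp_e L47055) (flp_f L44418) L92172
theorem L92180 : sm gg N11449 = N10292 := ded_26_2 (flp_e L85890) (flp_g L82679) L92172
theorem L92182 : sm gd N9151 = N11450 := rfl
theorem L92184 : sm gf N11450 = N9697 := ded_23_2 (flp_d L47069) (flp_f L44426) L92182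
theorem L92186 : sm gd N9162 = N11451 := rfl
theorem L92201 : sm gc N9163 = N11453 := rfl
theorem L92203 : sm ga N11453 = N9164 := ded_8_1 (flp_c L44490) (flp_a L44488) L92201
theorem L92206 : sm gd N11436 = N11453 := ded_28_1 (flp_c L92201) (flp_d L44486) (flp_c L21357) (flp_d L21245) L44296 L92118 L92120 L92123
theorem L92208 : sm ge N9163 = N11454 := rfl
theorem L92210 : sm ga N11454 = N9165 := ded_10_1 (flp_e L44492) (flp_a L44488) L92208
theorem L92215 : sm gb N9164 = N11455 := rfl
theorem L92217 : sm gd N9164 = N11456 := rfl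
theorem L92219 : sm ga N11456 = N11436 := ded_9_1 L92206 L92203 L92217
theorem L92221 : sm gf N11456 = N11456 := ded_23_2 (flp_d L92217) L82660 L92217
theorem L92222 : sm gc N11435 = N11456 := ded_28_0 (flp_d L92217) (flp_c L44490) (flp_d L21363) (flp_c L10257) (flp_d L10203) L21247 L44300 (flp_a L92120)
theorem L92224 : sm ge N9164 = N11457 := rfl
theorem L92229 : sm ga N9179 = N11458 := rfl
theorem L92231 : sm gd N9179 = N11459 := rfl
theorem L92233 : sm gb N11459 = N9180 := ded_14_1 (flp_d L44575) L44573 L92231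
theorem L92235 : sm ge N9179 = N11460 := rfl
theorem L92237 : sm gb N11460 = N9181 := ded_15_1 (flp_e L44583) L44573 L92235
theorem L92239 : sm gf N9179 = N11461 := rfl
theorem L92241 : sm gg N9179 = N11462 := rfl
theorem L92243 : sm gb N11462 = N9754 := ded_17_1 (flp_g L47390) (flp_b L22822) (flp_g L21408) L44573 L92241
theorem L92245 : sm ge N9180 = N11463 := rfl
theorem L92247 : sm ga N11463 = N11439 := ded_10_1 (flp_e L92133) (flp_a L44577) L92245
theorem L92249 : sm gc N11463 = N10303 := ded_19_1 (flp_e L85938) L80557 L92245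
theorem L92251 : sm gf N11463 = N10313 := ded_25_2 (flp_e L85982) (flp_f L82721) L92245
theorem L92253 : sm gg N11463 = N9755 := ded_26_2 (flp_e L47394) (flp_g L44579) L92245
theorem L92255 : sm gd N9181 = N11464 := rfl
theorem L92257 : sm gg N11464 = N9757 := ded_24_2 (flp_d L47408) (flp_g L44587) L92255
theorem L92259 : sm gd N9192 = N11465 := rfl
theorem L92263 : sm gg N9192 = N11466 := rfl
theorem L92265 : sm ga N11466 = N10403 := ded_12_1 L86609 (flp_a L78570) L92263
theorem L92267 : sm gc N11466 = N9679 := ded_21_1 L46971 L78579 L92263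
theorem L92271 : sm gf N11466 = N9679 := ded_29_2 L46971 L47007 (flp_f L78576) L92263
theorem L92274 : sm gc N9193 = N11467 := rfl
theorem L92276 : sm ga N11467 = N9194 := ded_8_1 (flp_c L44653) (flp_a L44651) L92274
theorem L92279 : sm gd N11442 = N11467 := ded_28_1 (flp_c L92274) (flp_d L44649) (flp_c L21452) (flp_d L21281) L44377 L92145 L92147 L92150
theorem L92281 : sm ge N9193 = N11468 := rfl
theorem L92283 : sm ga N11468 = N9195 := ded_10_1 (flp_e L44655) (flp_a L44651) L92281
theorem L92286 : sm gd N11468 = N9292 := ded_22_1 (flp_e L45068) (flp_d L21674) (flp_e L21456) L44649 L92281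
theorem L92288 : sm gb N9194 = N11469 := rfl
theorem L92290 : sm gd N9194 = N11470 := rfl
theorem L92292 : sm ga N11470 = N11442 := ded_9_1 L92279 L92276 L92290
theorem L92294 : sm gg N11470 = N11470 := ded_24_2 (flp_d L92290) L72037 L92290
theorem L92295 : sm gc N11441 = N11470 := ded_28_0 (flp_d L92290) (flp_c L44653) (flp_d L21458) (flp_c L10299) (flp_d L10221) L21283 L44381 (flp_a L92147)
theorem L92297 : sm ge N9194 = N11471 := rfl
theorem L92312 : sm gb N9231 = N11473 := rfl
theorem L92314 : sm gd N11473 = N11315 := ded_14_2 (flp_b L91582) L44819 L92312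
theorem L92316 : sm gc N11473 = N10539 := ded_13_2 (flp_b L87368) L83351 L44809 L44815 L92312
theorem L92318 : sm ge N9231 = N11474 := rfl
theorem L92329 : sm ge N9233 = N11476 := rfl
theorem L92331 : sm gb N11476 = N9235 := ded_15_1 (flp_e L44833) L44825 L92329
theorem L92333 : sm gc N11476 = N11124 := ded_19_1 L90516 (flp_c L83406) L92329
theorem L92335 : sm gf N9233 = N11477 := rfl
theorem L92337 : sm gc N11477 = N11125 := ded_20_1 (flp_f L90520) (flp_c L83406) L92335
theorem L92340 : sm gg N9233 = N11478 := rfl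
theorem L92355 : sm gd N9235 = N11480 := rfl
theorem L92368 : sm gb N9291 = N11482 := rfl
theorem L92370 : sm gd N11482 = N11318 := ded_14_2 (flp_b L91597) L45066 L92368
theorem L92372 : sm gc N11482 = N10504 := ded_13_2 (flp_b L87151) L82769 L45056 L45062 L92368
theorem L92374 : sm ga N11482 = N11473 := ded_7_1 (flp_b L92312) L44817 L44825 (flp_a L87433) L87435 L87214 (flp_b L45072) (flp_a L45064) L92368
theorem L92376 : sm ga N11318 = N11315 := ded_9_1 (flp_d L92314) (flp_a L92374) L92370
theorem L92385 : sm gd N9293 = N11484 := rfl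
theorem L92389 : sm ge N9293 = N11485 := rfl
theorem L92391 : sm gb N11485 = N9295 := ded_15_1 (flp_e L45080) L45072 L92389
theorem L92393 : sm gc N11485 = N11111 := ded_19_1 L90432 (flp_c L83321) L92389
theorem L92403 : sm gg N9293 = N11487 := rfl
theorem L92405 : sm gc N11487 = N11112 := ded_21_1 (flp_g L90436) (flp_c L83321) L92403
theorem L92408 : sm ge N9294 = N11488 := rfl
theorem L92415 : sm gd N9295 = N11489 := rfl
theorem L92418 : sm gf N9300 = N11490 := rfl
theorem L92420 : sm ga N11490 = N9303 := ded_11_1 (flp_f L45120) L45104 L92418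
theorem L92422 : sm ge N11490 = N9542 := ded_25_1 (flp_f L46335) (flp_e L45106) L92418
theorem L92424 : sm gg N9300 = N11491 := rfl
theorem L92426 : sm ga N11491 = N9304 := ded_12_1 (flp_g L45124) L45104 L92424
theorem L92428 : sm ge N11491 = N9543 := ded_26_1 (flp_g L46341) (flp_e L45106) L92424
theorem L92430 : sm gf N9302 = N11492 := rfl
theorem L92432 : sm gd N11492 = N9303 := ded_23_1 (flp_f L45120) L45114 L92430
theorem L92434 : sm ge N11492 = N9951 := ded_25_1 (flp_f L84306) (flp_e L45118) L92430
theorem L92436 : sm gg N9302 = N11493 := rfl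
theorem L92438 : sm gd N11493 = N9304 := ded_24_1 (flp_g L45124) L45114 L92436
theorem L92440 : sm ge N11493 = N9952 := ded_26_1 (flp_g L84310) (flp_e L45118) L92436
theorem L92442 : sm gb N9303 = N11494 := rfl
theorem L92444 : sm ge N11494 = N9547 := ded_15_2 (flp_b L46357) (flp_e L45122) L92442
theorem L92446 : sm gf N11494 = N9308 := ded_16_2 (flp_b L45150) (flp_f L21708) L21698 L45120 L92442
theorem L92448 : sm gg N9303 = N11495 := rfl
theorem L92450 : sm ge N11495 = N9548 := ded_26_1 (flp_g L46363) (flp_e L45122) L92448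
theorem L92452 : sm gf N11491 = N11495 := ded_29_0 (flp_g L92448) (flp_f L45120) L45124 (flp_a L92426)
theorem L92454 : sm gb N9304 = N11496 := rfl
theorem L92456 : sm ge N11496 = N9549 := ded_15_2 (flp_b L46369) (flp_e L45126) L92454
theorem L92458 : sm gg N11496 = N9309 := ded_17_2 (flp_b L45154) (flp_g L21714) L21698 L45124 L92454
theorem L92460 : sm gf N9304 = N11497 := rfl
theorem L92462 : sm ga N11497 = N11495 := ded_11_1 (flp_f L92452) L92426 L92460
theorem L92464 : sm ge N11497 = N9550 := ded_25_1 (flp_f L46375) (flp_e L45126) L92460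
theorem L92466 : sm gg N11497 = N11490 := ded_29_3 L92420 (flp_f L45120) L45124 L92460
theorem L92468 : sm gb N9305 = N11498 := rfl
theorem L92470 : sm gd N11498 = N11498 := ded_14_2 (flp_b L92468) L72264 L92468
theorem L92471 : sm ge N11498 = N9957 := ded_15_2 (flp_b L84340) (flp_e L45132) L92468
theorem L92473 : sm gf N9305 = N11499 := rfl
theorem L92475 : sm ga N11499 = N9311 := ded_11_1 (flp_f L45161) (flp_a L45130) L92473
theorem L92477 : sm gc N11499 = N9306 := ded_20_1 (flp_f L45134) L45128 L92473
theorem L92479 : sm gd N11499 = N11499 := ded_23_1 (flp_f L92473) L72264 L92473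
theorem L92480 : sm ge N11499 = N9959 := ded_25_1 (flp_f L84361) (flp_e L45132) L92473
theorem L92482 : sm gg N9305 = N11500 := rfl
theorem L92484 : sm ga N11500 = N9312 := ded_12_1 (flp_g L45167) (flp_a L45130) L92482
theorem L92486 : sm gc N11500 = N9307 := ded_21_1 (flp_g L45142) L45128 L92482
theorem L92488 : sm gd N11500 = N11500 := ded_24_1 (flp_g L92482) L72264 L92482
theorem L92489 : sm ge N11500 = N9960 := ded_26_1 (flp_g L84367) (flp_e L45132) L92482
theorem L92491 : sm gb N9306 = N11501 := rfl
theorem L92493 : sm gd N11501 = N9308 := ded_14_2 (flp_b L45150) (flp_d L45138) L92491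
theorem L92495 : sm ge N11501 = N9961 := ded_15_2 (flp_b L84373) (flp_e L45140) L92491
theorem L92497 : sm gb N9307 = N11502 := rfl
theorem L92499 : sm gd N11502 = N9309 := ded_14_2 (flp_b L45154) (flp_d L45146) L92497
theorem L92501 : sm ge N11502 = N9962 := ded_15_2 (flp_b L84377) (flp_e L45148) L92497
theorem L92503 : sm ga N9308 = N11503 := rfl
theorem L92505 : sm ge N11503 = N9551 := ded_10_2 (flp_a L46383) (flp_e L45152) L92503
theorem L92507 : sm gc N11494 = N11503 := ded_19_3 L92505 (flp_c L72420) (flp_e L92444)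
theorem L92509 : sm gc N9308 = N11504 := rfl
theorem L92511 : sm ga N11504 = N11494 := ded_8_1 L92507 (flp_a L92503) L92509
theorem L92513 : sm ge N11504 = N9552 := ded_19_2 (flp_c L46387) (flp_e L45152) L92509
theorem L92515 : sm gf N11504 = N11503 := ded_20_2 (flp_c L92507) L92446 L92509
theorem L92517 : sm gg N9308 = N11505 := rfl
theorem L92519 : sm ge N11505 = N9553 := ded_26_1 (flp_g L46389) (flp_e L45152) L92517
theorem L92521 : sm ga N9309 = N11506 := rfl
theorem L92523 : sm ge N11506 = N9554 := ded_10_2 (flp_a L46393) (flp_e L45156) L92521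
theorem L92525 : sm gc N9309 = N11507 := rfl
theorem L92527 : sm ge N11507 = N9555 := ded_19_2 (flp_c L46397) (flp_e L45156) L92525
theorem L92529 : sm gf N9309 = N11508 := rfl
theorem L92531 : sm ge N11508 = N9556 := ded_25_1 (flp_f L46399) (flp_e L45156) L92529
theorem L92533 : sm gb N9311 = N11509 := rfl
theorem L92535 : sm gd N11509 = N11509 := ded_14_2 (flp_b L92533) L72265 L92533
theorem L92536 : sm ge N11509 = N9971 := ded_15_2 (flp_b L84417) (flp_e L45165) L92533
theorem L92538 : sm gf N11509 = N11509 := ded_16_2 (flp_b L92533) (flp_f L45161) L21724 L45161 L92533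
theorem L92539 : sm gg N9311 = N11510 := rfl
theorem L92541 : sm gc N11510 = N9314 := ded_21_1 (flp_g L45181) (flp_c L45163) L92539
theorem L92543 : sm gd N11510 = N11510 := ded_24_1 (flp_g L92539) L72265 L92539
theorem L92544 : sm ge N11510 = N9972 := ded_26_1 (flp_g L84420) (flp_e L45165) L92539
theorem L92546 : sm gf N11500 = N11510 := ded_29_0 (flp_g L92539) (flp_f L45161) L45167 (flp_a L92484)
theorem L92548 : sm gb N9312 = N11511 := rfl
theorem L92550 : sm gd N11511 = N11511 := ded_14_2 (flp_b L92548) L72266 L92548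
theorem L92551 : sm ge N11511 = N9973 := ded_15_2 (flp_b L84426) (flp_e L45171) L92548
theorem L92553 : sm gg N11511 = N11511 := ded_17_2 (flp_b L92548) (flp_g L45167) L21724 L45167 L92548
theorem L92554 : sm gf N9312 = N11512 := rfl
theorem L92556 : sm ga N11512 = N11510 := ded_11_1 (flp_f L92546) L92484 L92554
theorem L92558 : sm gc N11512 = N9316 := ded_20_1 (flp_f L45197) (flp_c L45169) L92554
theorem L92560 : sm gd N11512 = N11512 := ded_23_1 (flp_f L92554) L72266 L92554
theorem L92561 : sm ge N11512 = N9974 := ded_25_1 (flp_f L84429) (flp_e L45171) L92554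
theorem L92563 : sm gg N11512 = N11499 := ded_29_3 L92475 (flp_f L45161) L45167 L92554
theorem L92565 : sm ga N9313 = N11513 := rfl
theorem L92567 : sm gd N11513 = N9317 := ded_9_2 (flp_a L45207) (flp_d L45175) L92565
theorem L92569 : sm ge N11513 = N9975 := ded_10_2 (flp_a L84437) (flp_e L45177) L92565
theorem L92571 : sm gf N11513 = N9325 := ded_11_2 (flp_a L45247) (flp_f L45179) L92565
theorem L92573 : sm gc N9313 = N11514 := rfl
theorem L92575 : sm ge N11514 = N9976 := ded_19_2 (flp_c L84443) (flp_e L45177) L92573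
theorem L92577 : sm gf N11514 = N9326 := ded_20_2 (flp_c L45253) (flp_f L45179) L92573
theorem L92579 : sm gg N9313 = N11515 := rfl
theorem L92581 : sm gd N11515 = N9319 := ded_24_1 (flp_g L45219) (flp_d L45175) L92579
theorem L92583 : sm ge N11515 = N9977 := ded_26_1 (flp_g L84447) (flp_e L45177) L92579
theorem L92585 : sm gb N9314 = N11516 := rfl
theorem L92587 : sm gd N11516 = N9320 := ded_14_2 (flp_b L45223) (flp_d L45183) L92585
theorem L92589 : sm ge N11516 = N9978 := ded_15_2 (flp_b L84451) (flp_e L45185) L92585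
theorem L92591 : sm ga N9315 = N11517 := rfl
theorem L92593 : sm gd N11517 = N9321 := ded_9_2 (flp_a L45227) (flp_d L45191) L92591
theorem L92595 : sm ge N11517 = N9979 := ded_10_2 (flp_a L84455) (flp_e L45193) L92591
theorem L92597 : sm gg N11517 = N9328 := ded_12_2 (flp_a L45264) (flp_g L45195) L92591
theorem L92599 : sm gc N9315 = N11518 := rfl
theorem L92601 : sm ge N11518 = N9980 := ded_19_2 (flp_c L84461) (flp_e L45193) L92599
theorem L92603 : sm gg N11518 = N9329 := ded_21_2 (flp_c L45270) (flp_g L45195) L92599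
theorem L92605 : sm gf N9315 = N11519 := rfl
theorem L92607 : sm gd N11519 = N9323 := ded_23_1 (flp_f L45239) (flp_d L45191) L92605
theorem L92609 : sm ge N11519 = N9981 := ded_25_1 (flp_f L84465) (flp_e L45193) L92605
theorem L92611 : sm gb N9316 = N11520 := rfl
theorem L92613 : sm gd N11520 = N9324 := ded_14_2 (flp_b L45243) (flp_d L45201) L92611
theorem L92615 : sm ge N11520 = N9982 := ded_15_2 (flp_b L84469) (flp_e L45203) L92611
theorem L92617 : sm gb N9317 = N11521 := rfl
theorem L92619 : sm ge N11521 = N9557 := ded_15_2 (flp_b L46403) (flp_e L45209) L92617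
theorem L92621 : sm gc N9317 = N11522 := rfl
theorem L92623 : sm ga N11522 = N9318 := ded_8_1 (flp_c L45213) L45207 L92621
theorem L92625 : sm ge N11522 = N9558 := ded_19_2 (flp_c L46407) (flp_e L45209) L92621
theorem L92627 : sm gf N11522 = N9332 := ded_20_2 (flp_c L45285) (flp_f L45211) L92621
theorem L92629 : sm gd N9318 = N11523 := rfl
theorem L92631 : sm gf N11523 = N9334 := ded_23_2 (flp_d L45299) (flp_f L45217) L92629
theorem L92633 : sm gg N9318 = N11524 := rfl
theorem L92635 : sm gc N11524 = N9319 := ded_21_1 (flp_g L45219) L45213 L92633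
theorem L92637 : sm ge N11524 = N9560 := ded_26_1 (flp_g L46417) (flp_e L45215) L92633
theorem L92639 : sm gb N9319 = N11525 := rfl
theorem L92641 : sm ge N11525 = N9561 := ded_15_2 (flp_b L46421) (flp_e L45221) L92639
theorem L92643 : sm gg N11525 = N9320 := ded_17_2 (flp_b L45223) (flp_g L21743) L21737 L45219 L92639
theorem L92645 : sm ga N9320 = N11526 := rfl
theorem L92647 : sm ge N11526 = N9562 := ded_10_2 (flp_a L46427) (flp_e L45225) L92645
theorem L92649 : sm gc N9320 = N11527 := rfl
theorem L92651 : sm ge N11527 = N9563 := ded_19_2 (flp_c L46431) (flp_e L45225) L92649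
theorem L92653 : sm gf N9320 = N11528 := rfl
theorem L92655 : sm ge N11528 = N9564 := ded_25_1 (flp_f L46433) (flp_e L45225) L92653
theorem L92657 : sm gb N11528 = N11508 := ded_16_1 (flp_f L92529) (flp_b L45154) L21747 L45223 L92653
theorem L92659 : sm gb N9321 = N11529 := rfl
theorem L92661 : sm ge N11529 = N9565 := ded_15_2 (flp_b L46439) (flp_e L45229) L92659
theorem L92663 : sm gc N9321 = N11530 := rfl
theorem L92665 : sm ga N11530 = N9322 := ded_8_1 (flp_c L45233) L45227 L92663
theorem L92667 : sm ge N11530 = N9566 := ded_19_2 (flp_c L46443) (flp_e L45229) L92663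
theorem L92669 : sm gg N11530 = N9338 := ded_21_2 (flp_c L45321) (flp_g L45231) L92663
theorem L92671 : sm gd N9322 = N11531 := rfl
theorem L92673 : sm gg N11531 = N9340 := ded_24_2 (flp_d L45335) (flp_g L45237) L92671
theorem L92675 : sm gf N9322 = N11532 := rfl
theorem L92677 : sm gc N11532 = N9323 := ded_20_1 (flp_f L45239) L45233 L92675
theorem L92679 : sm ge N11532 = N9568 := ded_25_1 (flp_f L46453) (flp_e L45235) L92675
theorem L92681 : sm gb N9323 = N11533 := rfl
theorem L92683 : sm ge N11533 = N9569 := ded_15_2 (flp_b L46457) (flp_e L45241) L92681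
theorem L92685 : sm gf N11533 = N9324 := ded_16_2 (flp_b L45243) (flp_f L21755) L21749 L45239 L92681
theorem L92687 : sm ga N9324 = N11534 := rfl
theorem L92689 : sm ge N11534 = N9570 := ded_10_2 (flp_a L46463) (flp_e L45245) L92687
theorem L92691 : sm gc N9324 = N11535 := rfl
theorem L92693 : sm ge N11535 = N9571 := ded_19_2 (flp_c L46467) (flp_e L45245) L92691
theorem L92695 : sm gg N9324 = N11536 := rfl
theorem L92697 : sm ge N11536 = N9572 := ded_26_1 (flp_g L46469) (flp_e L45245) L92695
theorem L92699 : sm gb N11536 = N11505 := ded_17_1 (flp_g L92517) (flp_b L45150) (flp_g L21761) L45243 L92695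
theorem L92701 : sm gb N9325 = N11537 := rfl
theorem L92703 : sm gd N11537 = N9331 := ded_14_2 (flp_b L45281) (flp_d L45249) L92701
theorem L92705 : sm ge N11537 = N9999 := ded_15_2 (flp_b L84561) (flp_e L45251) L92701
theorem L92707 : sm gc N9325 = N11538 := rfl
theorem L92709 : sm ga N11538 = N9326 := ded_8_1 (flp_c L45253) L45247 L92707
theorem L92711 : sm ge N11538 = N10000 := ded_19_2 (flp_c L84565) (flp_e L45251) L92707
theorem L92713 : sm gg N9325 = N11539 := rfl
theorem L92715 : sm ga N11539 = N9327 := ded_12_1 (flp_g L45258) L45247 L92713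
theorem L92717 : sm gd N11539 = N9333 := ded_24_1 (flp_g L45291) (flp_d L45249) L92713
theorem L92719 : sm ge N11539 = N10001 := ded_26_1 (flp_g L84569) (flp_e L45251) L92713
theorem L92721 : sm gf N11539 = N11515 := ded_29_2 (flp_g L92579) L92565 L92571 L92713
theorem L92723 : sm gd N9326 = N11540 := rfl
theorem L92725 : sm gb N11540 = N11540 := ded_14_1 (flp_d L92723) L45257 L92723
theorem L92726 : sm gg N9326 = N11541 := rfl
theorem L92728 : sm gc N11541 = N9327 := ded_21_1 (flp_g L45258) L45253 L92726
theorem L92730 : sm ge N11541 = N10003 := ded_26_1 (flp_g L84580) (flp_e L45255) L92726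
theorem L92732 : sm gf N9327 = N11542 := rfl
theorem L92734 : sm ga N11542 = N11515 := ded_11_1 (flp_f L92721) L92715 L92732
theorem L92736 : sm gd N11542 = N9336 := ded_23_1 (flp_f L45309) (flp_d L45260) L92732
theorem L92738 : sm ge N11542 = N10005 := ded_25_1 (flp_f L84590) (flp_e L45262) L92732
theorem L92740 : sm gg N11542 = N11513 := ded_29_3 (flp_a L92565) L45179 L45258 L92732
theorem L92742 : sm gb N9328 = N11543 := rfl
theorem L92744 : sm gd N11543 = N9337 := ded_14_2 (flp_b L45317) (flp_d L45266) L92742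
theorem L92746 : sm ge N11543 = N10009 := ded_15_2 (flp_b L84611) (flp_e L45268) L92742
theorem L92748 : sm gc N9328 = N11544 := rfl
theorem L92750 : sm ga N11544 = N9329 := ded_8_1 (flp_c L45270) L45264 L92748
theorem L92752 : sm ge N11544 = N10010 := ded_19_2 (flp_c L84615) (flp_e L45268) L92748
theorem L92754 : sm gf N9328 = N11545 := rfl
theorem L92756 : sm ga N11545 = N9330 := ded_11_1 (flp_f L45275) L45264 L92754
theorem L92758 : sm gd N11545 = N9339 := ded_23_1 (flp_f L45327) (flp_d L45266) L92754
theorem L92760 : sm ge N11545 = N10011 := ded_25_1 (flp_f L84619) (flp_e L45268) L92754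
theorem L92762 : sm gg N11519 = N11545 := ded_29_1 (flp_f L92754) (flp_g L92597) (flp_a L92591) L92605
theorem L92764 : sm gd N9329 = N11546 := rfl
theorem L92766 : sm gb N11546 = N11546 := ded_14_1 (flp_d L92764) L45274 L92764
theorem L92767 : sm gf N9329 = N11547 := rfl
theorem L92769 : sm gc N11547 = N9330 := ded_20_1 (flp_f L45275) L45270 L92767
theorem L92771 : sm ge N11547 = N10013 := ded_25_1 (flp_f L84630) (flp_e L45272) L92767
theorem L92773 : sm gg N9330 = N11548 := rfl
theorem L92775 : sm ga N11548 = N11519 := ded_12_1 L92762 L92756 L92773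
theorem L92777 : sm gd N11548 = N9342 := ded_24_1 (flp_g L45345) (flp_d L45277) L92773
theorem L92779 : sm ge N11548 = N10015 := ded_26_1 (flp_g L84642) (flp_e L45279) L92773
theorem L92781 : sm gf N11517 = N11548 := ded_29_0 (flp_g L92773) (flp_f L45275) (flp_g L45195) L92591
theorem L92783 : sm ga N9331 = N11549 := rfl
theorem L92785 : sm ge N11549 = N9573 := ded_10_2 (flp_a L46475) (flp_e L45283) L92783
theorem L92787 : sm gb N11549 = N10019 := ded_7_2 (flp_a L84669) (flp_b L25016) (flp_a L12055) (flp_b L5968) (flp_a L5276) L10499 L21775 L45281 L92783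
theorem L92789 : sm gc N9331 = N11549 := ded_19_3 L92785 L91641 (flp_e L45283)
theorem L92791 : sm gf N9331 = N11550 := rfl
theorem L92793 : sm ge N11550 = N9575 := ded_25_1 (flp_f L46483) (flp_e L45283) L92791
theorem L92795 : sm gg N9331 = N11551 := rfl
theorem L92797 : sm ge N11551 = N9576 := ded_26_1 (flp_g L46487) (flp_e L45283) L92795
theorem L92799 : sm gb N9332 = N11552 := rfl
theorem L92801 : sm ge N11552 = N9577 := ded_15_2 (flp_b L46491) (flp_e L45289) L92799
theorem L92803 : sm gc N11552 = N10019 := ded_13_2 (flp_b L92787) (flp_c L92789) (flp_b L45281) L45285 L92799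
theorem L92805 : sm ga N10020 = N11552 := ded_10_3 L92801 L91631 (flp_e L84675)
theorem L92807 : sm gd N9332 = N11553 := rfl
theorem L92809 : sm ga N11553 = N9334 := ded_9_1 (flp_d L45299) (flp_a L45287) L92807
theorem L92811 : sm gg N9332 = N11554 := rfl
theorem L92813 : sm ga N11554 = N9335 := ded_12_1 (flp_g L45303) (flp_a L45287) L92811
theorem L92815 : sm gc N11554 = N9333 := ded_21_1 (flp_g L45291) L45285 L92811
theorem L92817 : sm ge N11554 = N9579 := ded_26_1 (flp_g L46497) (flp_e L45289) L92811
theorem L92819 : sm gf N11554 = N11524 := ded_29_2 (flp_g L92633) (flp_a L92623) L92627 L92811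
theorem L92821 : sm gb N9333 = N11555 := rfl
theorem L92823 : sm ge N11555 = N9580 := ded_15_2 (flp_b L46505) (flp_e L45295) L92821
theorem L92825 : sm gc N9334 = N11556 := rfl
theorem L92827 : sm ge N9334 = N11557 := rfl
theorem L92829 : sm gb N11557 = N9352 := ded_15_1 (flp_e L45403) (flp_b L45301) L92827
theorem L92831 : sm gd N11557 = N9582 := ded_22_1 (flp_e L46511) (flp_d L22373) (flp_e L21781) L45299 L92827
theorem L92833 : sm gg N9334 = N11558 := rfl
theorem L92835 : sm gd N11558 = N9335 := ded_24_1 (flp_g L45303) L45299 L92833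
theorem L92837 : sm gb N9335 = N11559 := rfl
theorem L92839 : sm ge N11559 = N9584 := ded_15_2 (flp_b L46519) (flp_e L45307) L92837
theorem L92841 : sm gg N11559 = N9354 := ded_17_2 (flp_b L45411) (flp_g L21827) (flp_b L21783) L45303 L92837
theorem L92843 : sm gf N9335 = N11560 := rfl
theorem L92845 : sm ga N11560 = N11524 := ded_11_1 (flp_f L92819) L92813 L92843
theorem L92847 : sm gc N11560 = N9336 := ded_20_1 (flp_f L45309) (flp_c L45305) L92843
theorem L92849 : sm ge N11560 = N9585 := ded_25_1 (flp_f L46523) (flp_e L45307) L92843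
theorem L92851 : sm gg N11560 = N11522 := ded_29_3 L92623 L45217 L45303 L92843
theorem L92853 : sm gb N9336 = N11561 := rfl
theorem L92855 : sm ge N11561 = N9586 := ded_15_2 (flp_b L46531) (flp_e L45313) L92853
theorem L92857 : sm ga N9337 = N11562 := rfl
theorem L92859 : sm ge N11562 = N9587 := ded_10_2 (flp_a L46535) (flp_e L45319) L92857
theorem L92861 : sm gb N11562 = N10042 := ded_7_2 (flp_a L84791) (flp_b L25074) (flp_a L12073) (flp_b L5980) (flp_a L5284) L10503 L21789 L45317 L92857
theorem L92863 : sm gc N9337 = N11563 := rfl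
theorem L92865 : sm ge N11563 = N9588 := ded_19_2 (flp_c L46541) (flp_e L45319) L92863
theorem L92867 : sm gf N9337 = N11564 := rfl
theorem L92869 : sm ge N11564 = N9589 := ded_25_1 (flp_f L46543) (flp_e L45319) L92867
theorem L92871 : sm gg N9337 = N11565 := rfl
theorem L92873 : sm ge N11565 = N9590 := ded_26_1 (flp_g L46547) (flp_e L45319) L92871
theorem L92875 : sm gb N9338 = N11566 := rfl
theorem L92877 : sm ge N11566 = N9591 := ded_15_2 (flp_b L46551) (flp_e L45325) L92875
theorem L92879 : sm gd N9338 = N11567 := rfl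
theorem L92881 : sm ga N11567 = N9340 := ded_9_1 (flp_d L45335) (flp_a L45323) L92879
theorem L92883 : sm gf N9338 = N11568 := rfl
theorem L92885 : sm ga N11568 = N9341 := ded_11_1 (flp_f L45339) (flp_a L45323) L92883
theorem L92887 : sm gc N11568 = N9339 := ded_20_1 (flp_f L45327) L45321 L92883
theorem L92889 : sm ge N11568 = N9593 := ded_25_1 (flp_f L46557) (flp_e L45325) L92883
theorem L92891 : sm gg N11532 = N11568 := ded_29_1 (flp_f L92883) (flp_g L92669) L92665 L92675
theorem L92893 : sm gb N9339 = N11569 := rfl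
theorem L92895 : sm ge N11569 = N9594 := ded_15_2 (flp_b L46565) (flp_e L45331) L92893
theorem L92897 : sm gc N9340 = N11570 := rfl
theorem L92899 : sm ge N9340 = N11571 := rfl
theorem L92901 : sm gb N11571 = N9366 := ded_15_1 (flp_e L45481) (flp_b L45337) L92899
theorem L92903 : sm gd N11571 = N9596 := ded_22_1 (flp_e L46571) (flp_d L22405) (flp_e L21795) L45335 L92899
theorem L92905 : sm gf N9340 = N11572 := rfl
theorem L92907 : sm gd N11572 = N9341 := ded_23_1 (flp_f L45339) L45335 L92905
theorem L92909 : sm gb N9341 = N11573 := rfl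
theorem L92911 : sm ge N11573 = N9598 := ded_15_2 (flp_b L46579) (flp_e L45343) L92909
theorem L92913 : sm gf N11573 = N9368 := ded_16_2 (flp_b L45489) (flp_f L21867) (flp_b L21797) L45339 L92909
theorem L92915 : sm gg N9341 = N11574 := rfl
theorem L92917 : sm ga N11574 = N11532 := ded_12_1 L92891 L92885 L92915
theorem L92919 : sm gc N11574 = N9342 := ded_21_1 (flp_g L45345) (flp_c L45341) L92915
theorem L92921 : sm ge N11574 = N9599 := ded_26_1 (flp_g L46583) (flp_e L45343) L92915
theorem L92923 : sm gf N11530 = N11574 := ded_29_0 (flp_g L92915) (flp_f L45339) (flp_g L45237) (flp_a L92665)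
theorem L92925 : sm gb N9342 = N11575 := rfl
theorem L92927 : sm ge N11575 = N9600 := ded_15_2 (flp_b L46591) (flp_e L45349) L92925
theorem L92929 : sm ga N9347 = N11576 := rfl
theorem L92931 : sm gc N11576 = N11576 := ded_8_2 (flp_a L92929) L70899 L92929
theorem L92932 : sm ge N11576 = N9610 := ded_10_2 (flp_a L46645) (flp_e L45379) L92929
theorem L92934 : sm gd N9347 = N11577 := rfl
theorem L92936 : sm gb N11577 = N9348 := ded_14_1 (flp_d L45381) L45377 L92934
theorem L92938 : sm gf N9347 = N11578 := rfl
theorem L92940 : sm gc N11578 = N11578 := ded_20_1 (flp_f L92938) L70899 L92938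
theorem L92941 : sm ge N11578 = N9612 := ded_25_1 (flp_f L46651) (flp_e L45379) L92938
theorem L92943 : sm gg N9347 = N11579 := rfl
theorem L92945 : sm gc N11579 = N11579 := ded_21_1 (flp_g L92943) L70899 L92943
theorem L92946 : sm ge N11579 = N9613 := ded_26_1 (flp_g L46653) (flp_e L45379) L92943
theorem L92948 : sm ge N9348 = N11580 := rfl
theorem L92950 : sm ga N11580 = N9352 := ded_10_1 (flp_e L45403) (flp_a L45383) L92948
theorem L92952 : sm gd N11580 = N9614 := ded_22_1 (flp_e L46655) (flp_d L22439) (flp_e L21813) L45381 L92948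
theorem L92954 : sm gb N9349 = N11581 := rfl
theorem L92956 : sm ge N11581 = N9616 := ded_15_2 (flp_b L46667) (flp_e L45391) L92954
theorem L92958 : sm gg N9352 = N11582 := rfl
theorem L92960 : sm gd N11582 = N9622 := ded_24_1 (flp_g L46689) (flp_d L45405) L92958
theorem L92962 : sm ge N11582 = N9353 := ded_26_1 (flp_g L45407) L45403 L92958
theorem L92964 : sm gf N10074 = N11582 := ded_23_0 L92960 (flp_f L83382) (flp_d L84976)
theorem L92966 : sm gb N9353 = N11583 := rfl
theorem L92968 : sm gd N11583 = N9354 := ded_14_2 (flp_b L45411) (flp_d L45409) L92966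
theorem L92970 : sm ga N9354 = N11584 := rfl
theorem L92972 : sm ge N11584 = N9625 := ded_10_2 (flp_a L46705) (flp_e L45413) L92970
theorem L92974 : sm gf N9354 = N11585 := rfl
theorem L92976 : sm gc N11585 = N11573 := ded_20_1 L92913 L83374 L92974
theorem L92978 : sm ge N11585 = N9626 := ded_25_1 (flp_f L46707) (flp_e L45413) L92974
theorem L92980 : sm gb N11585 = N10040 := ded_16_1 (flp_f L84777) L25066 (flp_f L81148) L45411 L92974
theorem L92982 : sm ga N9361 = N11586 := rfl
theorem L92984 : sm gc N11586 = N11586 := ded_8_2 (flp_a L92982) L83365 L92982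
theorem L92985 : sm ge N11586 = N9639 := ded_10_2 (flp_a L46773) (flp_e L45457) L92982
theorem L92987 : sm gd N9361 = N11587 := rfl
theorem L92989 : sm gb N11587 = N9362 := ded_14_1 (flp_d L45459) L45455 L92987
theorem L92991 : sm gf N9361 = N11588 := rfl
theorem L92993 : sm gc N11588 = N11588 := ded_20_1 (flp_f L92991) L83365 L92991
theorem L92994 : sm ge N11588 = N9641 := ded_25_1 (flp_f L46779) (flp_e L45457) L92991
theorem L92996 : sm gg N9361 = N11589 := rfl
theorem L92998 : sm gc N11589 = N11589 := ded_21_1 (flp_g L92996) L83365 L92996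
theorem L92999 : sm ge N11589 = N9642 := ded_26_1 (flp_g L46781) (flp_e L45457) L92996
theorem L93001 : sm ge N9362 = N11590 := rfl
theorem L93003 : sm ga N11590 = N9366 := ded_10_1 (flp_e L45481) (flp_a L45461) L93001
theorem L93005 : sm gd N11590 = N9643 := ded_22_1 (flp_e L46783) (flp_d L22495) (flp_e L21853) L45459 L93001
theorem L93007 : sm gb N9363 = N11591 := rfl
theorem L93009 : sm ge N11591 = N9645 := ded_15_2 (flp_b L46795) (flp_e L45469) L93007
theorem L93011 : sm gf N9366 = N11592 := rfl
theorem L93013 : sm gd N11592 = N9651 := ded_23_1 (flp_f L46817) (flp_d L45483) L93011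
theorem L93015 : sm ge N11592 = N9367 := ded_25_1 (flp_f L45485) L45481 L93011
theorem L93017 : sm gg N10084 = N11592 := ded_24_0 L93013 L83370 (flp_d L85043)
theorem L93019 : sm gb N9367 = N11593 := rfl
theorem L93021 : sm gd N11593 = N9368 := ded_14_2 (flp_b L45489) (flp_d L45487) L93019
theorem L93023 : sm ga N9368 = N11594 := rfl
theorem L93025 : sm gc N11594 = N11584 := ded_8_2 (flp_a L92970) (flp_c L83374) L93023
theorem L93027 : sm ge N11594 = N9654 := ded_10_2 (flp_a L46833) (flp_e L45491) L93023
theorem L93029 : sm gg N9368 = N11595 := rfl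
theorem L93031 : sm gc N11595 = N11559 := ded_21_1 L92841 (flp_c L83374) L93029
theorem L93033 : sm ge N11595 = N9655 := ded_26_1 (flp_g L46835) (flp_e L45491) L93029
theorem L93035 : sm gb N11595 = N10063 := ded_17_1 (flp_g L84899) L25124 L80456 L45489 L93029
theorem L93037 : sm ga N9390 = N11596 := rfl
theorem L93039 : sm gc N11596 = N10067 := ded_8_2 (flp_a L84927) L80349 L93037
theorem L93041 : sm ge N11596 = N10277 := ded_10_2 L85822 L81104 L93037
theorem L93043 : sm gd N9390 = N11597 := rfl
theorem L93045 : sm gb N11597 = N9391 := ded_14_1 (flp_d L45625) L45621 L93043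
theorem L93047 : sm gf N9390 = N11598 := rfl
theorem L93049 : sm gc N11598 = N10068 := ded_20_1 (flp_f L84931) L80349 L93047
theorem L93051 : sm ge N11598 = N10280 := ded_25_1 (flp_f L85834) L81104 L93047
theorem L93053 : sm gb N11598 = N11578 := ded_16_1 (flp_f L92938) (flp_b L45377) (flp_f L69683) L45621 L93047
theorem L93055 : sm gg N9390 = N11599 := rfl
theorem L93057 : sm gc N11599 = N10030 := ded_21_1 L84723 L80349 L93055
theorem L93059 : sm ge N11599 = N10196 := ded_26_1 L85503 L81104 L93055
theorem L93061 : sm gb N11599 = N10033 := ded_17_1 L84745 L25066 L81136 L45621 L93055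
theorem L93063 : sm ge N9391 = N11600 := rfl
theorem L93065 : sm ga N11600 = N11302 := ded_10_1 (flp_e L91507) L69693 L93063
theorem L93067 : sm gc N11600 = N11580 := ded_19_1 (flp_e L92948) L45629 L93063
theorem L93069 : sm gf N11600 = N11580 := ded_25_2 (flp_e L92948) L72136 L93063
theorem L93071 : sm gg N11600 = N10074 := ded_26_2 (flp_e L84974) (flp_g L83398) L93063
theorem L93073 : sm gd N11600 = N10282 := ded_22_1 (flp_e L85846) (flp_d L27059) (flp_e L81114) L45625 L93063
theorem L93075 : sm ga N9421 = N11601 := rfl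
theorem L93077 : sm gc N11601 = N10077 := ded_8_2 (flp_a L84992) L79741 L93075
theorem L93079 : sm ge N11601 = N10298 := ded_10_2 L85914 (flp_e L83362) L93075
theorem L93081 : sm gd N9421 = N11602 := rfl
theorem L93083 : sm gb N11602 = N9422 := ded_14_1 (flp_d L45801) L45797 L93081
theorem L93085 : sm gf N9421 = N11603 := rfl
theorem L93087 : sm gc N11603 = N10053 := ded_20_1 L84845 L79741 L93085
theorem L93089 : sm ge N11603 = N10248 := ded_25_1 L85704 (flp_e L83362) L93085
theorem L93091 : sm gb N11603 = N10056 := ded_16_1 L84867 L25124 L80645 L45797 L93085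
theorem L93093 : sm gg N9421 = N11604 := rfl
theorem L93095 : sm gc N11604 = N10078 := ded_21_1 (flp_g L84996) L79741 L93093
theorem L93097 : sm ge N11604 = N10301 := ded_26_1 (flp_g L85926) (flp_e L83362) L93093
theorem L93099 : sm gb N11604 = N11589 := ded_17_1 (flp_g L92996) (flp_b L45455) L82476 L45797 L93093
theorem L93101 : sm ge N9422 = N11605 := rfl
theorem L93103 : sm ga N11605 = N11305 := ded_10_1 (flp_e L91525) L82457 L93101
theorem L93105 : sm gc N11605 = N11590 := ded_19_1 (flp_e L93001) L45805 L93101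
theorem L93107 : sm gf N11605 = N10084 := ded_25_2 (flp_e L85041) (flp_f L83387) L93101
theorem L93109 : sm gg N11605 = N11590 := ded_26_2 (flp_e L93001) (flp_g L83461) L93101
theorem L93111 : sm gd N11605 = N10303 := ded_22_1 (flp_e L85938) (flp_d L27249) L82487 L45801 L93101
theorem L93113 : sm gb N9542 = N11606 := rfl
theorem L93115 : sm gd N11606 = N10100 := ded_14_2 (flp_b L85133) (flp_d L46339) L93113
theorem L93117 : sm gf N11606 = N10100 := ded_16_2 (flp_b L85133) (flp_f L26652) (flp_b L22301) L46335 L93113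
theorem L93119 : sm gb N9543 = N11607 := rfl
theorem L93121 : sm gd N11607 = N10101 := ded_14_2 (flp_b L85135) (flp_d L46345) L93119
theorem L93123 : sm gg N11607 = N10101 := ded_17_2 (flp_b L85135) (flp_g L26656) (flp_b L22301) L46341 L93119
theorem L93125 : sm gb N9545 = N11608 := rfl
theorem L93127 : sm gg N9545 = N11609 := rfl
theorem L93129 : sm gc N11609 = N9548 := ded_21_1 (flp_g L46363) (flp_c L46351) L93127
theorem L93131 : sm gf N11224 = N11609 := ded_29_0 (flp_g L93127) (flp_f L46349) L46353 (flp_a L91101)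
theorem L93133 : sm gb N9546 = N11610 := rfl
theorem L93135 : sm gf N9546 = N11611 := rfl
theorem L93137 : sm ga N11611 = N11609 := ded_11_1 (flp_f L93131) L91101 L93135
theorem L93139 : sm gc N11611 = N9550 := ded_20_1 (flp_f L46375) (flp_c L46355) L93135
theorem L93141 : sm gg N11611 = N11223 := ded_29_3 L91095 (flp_f L46349) L46353 L93135
theorem L93143 : sm gg N9547 = N11612 := rfl
theorem L93145 : sm gd N11612 = N10112 := ded_24_1 (flp_g L85180) (flp_d L46359) L93143
theorem L93147 : sm gb N9548 = N11613 := rfl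
theorem L93149 : sm gd N11613 = N10113 := ded_14_2 (flp_b L85182) (flp_d L46365) L93147
theorem L93151 : sm ga N9549 = N11614 := rfl
theorem L93153 : sm gd N11614 = N10114 := ded_9_2 (flp_a L85184) (flp_d L46371) L93151
theorem L93155 : sm gg N11614 = N9554 := ded_12_2 (flp_a L46393) (flp_g L46373) L93151
theorem L93157 : sm gc N9549 = N11615 := rfl
theorem L93161 : sm gf N9549 = N11616 := rfl
theorem L93163 : sm gd N11616 = N10116 := ded_23_1 (flp_f L85192) (flp_d L46371) L93161
theorem L93165 : sm gb N9550 = N11617 := rfl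
theorem L93167 : sm gd N11617 = N10117 := ded_14_2 (flp_b L85194) (flp_d L46379) L93165
theorem L93169 : sm gb N9551 = N11618 := rfl
theorem L93171 : sm gd N11618 = N10118 := ded_14_2 (flp_b L85196) (flp_d L46385) L93169
theorem L93173 : sm gc N11618 = N11608 := ded_13_2 (flp_b L93125) L46351 L46357 L72420 L93169
theorem L93175 : sm gg N9551 = N11619 := rfl
theorem L93177 : sm ga N11619 = N9553 := ded_12_1 (flp_g L46389) L46383 L93175
theorem L93179 : sm gc N11619 = N11612 := ded_21_1 (flp_g L93143) L72420 L93175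
theorem L93181 : sm gd N11619 = N10120 := ded_24_1 (flp_g L85202) (flp_d L46385) L93175
theorem L93183 : sm gf N11619 = N11612 := ded_29_2 (flp_g L93143) (flp_a L72418) (flp_f L72150) L93175
theorem L93185 : sm gg N9552 = N11620 := rfl
theorem L93187 : sm ga N11620 = N11612 := ded_12_1 (flp_g L93143) (flp_a L72418) L93185
theorem L93189 : sm gc N11620 = N9553 := ded_21_1 (flp_g L46389) L46387 L93185
theorem L93191 : sm gd N11620 = N10123 := ded_24_1 L85219 L85172 L93185
theorem L93193 : sm gf N9553 = N11620 := ded_29_0 (flp_g L93185) (flp_f L72150) L93175 L93177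
theorem L93195 : sm gb N9554 = N11621 := rfl
theorem L93197 : sm gd N11621 = N10124 := ded_14_2 (flp_b L85221) (flp_d L46395) L93195
theorem L93199 : sm gc N9554 = N11622 := rfl
theorem L93201 : sm ga N11622 = N9555 := ded_8_1 (flp_c L46397) L46393 L93199
theorem L93203 : sm gf N9554 = N11623 := rfl
theorem L93205 : sm ga N11623 = N9556 := ded_11_1 (flp_f L46399) L46393 L93203
theorem L93207 : sm gd N11623 = N10126 := ded_23_1 (flp_f L85227) (flp_d L46395) L93203
theorem L93209 : sm gg N11616 = N11623 := ded_29_1 (flp_f L93203) (flp_g L93155) (flp_a L93151) L93161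
theorem L93211 : sm gd N9555 = N11624 := rfl
theorem L93213 : sm gf N9555 = N11625 := rfl
theorem L93215 : sm gc N11625 = N9556 := ded_20_1 (flp_f L46399) L46397 L93213
theorem L93217 : sm gg N9556 = N11626 := rfl
theorem L93219 : sm ga N11626 = N11616 := ded_12_1 L93209 L93205 L93217
theorem L93221 : sm gd N11626 = N10129 := ded_24_1 (flp_g L85240) (flp_d L46401) L93217
theorem L93223 : sm gf N11614 = N11626 := ded_29_0 (flp_g L93217) (flp_f L46399) (flp_g L46373) L93151
theorem L93225 : sm ga N9557 = N11627 := rfl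
theorem L93227 : sm gd N11627 = N10130 := ded_9_2 (flp_a L85246) (flp_d L46405) L93225
theorem L93229 : sm gc N9557 = N11628 := rfl
theorem L93231 : sm gf N9557 = N11629 := rfl
theorem L93233 : sm gd N11629 = N10132 := ded_23_1 (flp_f L85250) (flp_d L46405) L93231
theorem L93235 : sm gb N11629 = N9575 := ded_16_1 (flp_f L46483) (flp_b L22357) (flp_f L22325) L46403 L93231
theorem L93237 : sm gg N9557 = N11630 := rfl
theorem L93239 : sm gd N11630 = N10133 := ded_24_1 (flp_g L85254) (flp_d L46405) L93237
theorem L93241 : sm gb N9558 = N11631 := rfl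
theorem L93243 : sm gd N9558 = N11632 := rfl
theorem L93245 : sm ga N11632 = N9559 := ded_9_1 (flp_d L46413) (flp_a L46409) L93243
theorem L93247 : sm gf N11632 = N9578 := ded_23_2 (flp_d L46493) (flp_f L46411) L93243
theorem L93249 : sm gc N9559 = N11633 := rfl
theorem L93251 : sm gf N11633 = N9581 := ded_20_2 (flp_c L46509) (flp_f L46415) L93249
theorem L93253 : sm ge N9559 = N11634 := rfl
theorem L93255 : sm gf N11634 = N9582 := ded_25_2 (flp_e L46511) (flp_f L46415) L93253
theorem L93257 : sm gg N9559 = N11635 := rfl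
theorem L93259 : sm gd N11635 = N9560 := ded_24_1 (flp_g L46417) L46413 L93257
theorem L93261 : sm gb N9560 = N11636 := rfl
theorem L93263 : sm ga N9561 = N11637 := rfl
theorem L93265 : sm gd N11637 = N10140 := ded_9_2 (flp_a L85280) (flp_d L46423) L93263
theorem L93267 : sm gg N11637 = N9562 := ded_12_2 (flp_a L46427) (flp_g L46425) L93263
theorem L93269 : sm gc N9561 = N11638 := rfl
theorem L93271 : sm gg N11638 = N9563 := ded_21_2 (flp_c L46431) (flp_g L46425) L93269
theorem L93273 : sm gf N9561 = N11639 := rfl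
theorem L93275 : sm gd N11639 = N10142 := ded_23_1 (flp_f L85288) (flp_d L46423) L93273
theorem L93277 : sm gb N9562 = N11640 := rfl
theorem L93279 : sm gd N11640 = N10143 := ded_14_2 (flp_b L85290) (flp_d L46429) L93277
theorem L93281 : sm gc N9562 = N11641 := rfl
theorem L93283 : sm ga N11641 = N9563 := ded_8_1 (flp_c L46431) L46427 L93281
theorem L93285 : sm gf N9562 = N11642 := rfl
theorem L93287 : sm ga N11642 = N9564 := ded_11_1 (flp_f L46433) L46427 L93285
theorem L93289 : sm gd N11642 = N10145 := ded_23_1 (flp_f L85296) (flp_d L46429) L93285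
theorem L93291 : sm gg N11639 = N11642 := ded_29_1 (flp_f L93285) (flp_g L93267) (flp_a L93263) L93273
theorem L93293 : sm gb N10164 = N11642 := ded_31_14 (flp_g L93291) (flp_f L93273) (flp_b L46421) (flp_g L22331) L10753 (flp_b L5406) (flp_g L3299) (flp_f L3291) L3289 (flp_g L6343) L12850 L26750 L85357 (flp_f L85369)
theorem L93295 : sm gf N11640 = N10240 := ded_16_4 L85662 (flp_f L85369) L93293 (flp_f L93285) L93277
theorem L93297 : sm gd N9563 = N11643 := rfl
theorem L93299 : sm gf N9563 = N11644 := rfl
theorem L93301 : sm gc N11644 = N9564 := ded_20_1 (flp_f L46433) L46431 L93299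
theorem L93303 : sm gg N9564 = N11645 := rfl
theorem L93305 : sm ga N11645 = N11639 := ded_12_1 L93291 L93287 L93303
theorem L93307 : sm gd N11645 = N10148 := ded_24_1 (flp_g L85309) (flp_d L46435) L93303
theorem L93309 : sm gf N11637 = N11645 := ded_29_0 (flp_g L93303) (flp_f L46433) (flp_g L46425) L93263
theorem L93311 : sm ga N9565 = N11646 := rfl
theorem L93313 : sm gd N11646 = N10149 := ded_9_2 (flp_a L85315) (flp_d L46441) L93311
theorem L93315 : sm gc N9565 = N11647 := rfl
theorem L93317 : sm gf N9565 = N11648 := rfl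
theorem L93319 : sm gd N11648 = N10151 := ded_23_1 (flp_f L85319) (flp_d L46441) L93317
theorem L93321 : sm gg N9565 = N11649 := rfl
theorem L93323 : sm gd N11649 = N10152 := ded_24_1 (flp_g L85321) (flp_d L46441) L93321
theorem L93325 : sm gb N11649 = N9590 := ded_17_1 (flp_g L46547) (flp_b L22389) (flp_g L22343) L46439 L93321
theorem L93327 : sm gb N9566 = N11650 := rfl
theorem L93329 : sm gd N9566 = N11651 := rfl
theorem L93331 : sm ga N11651 = N9567 := ded_9_1 (flp_d L46449) (flp_a L46445) L93329
theorem L93333 : sm gg N11651 = N9592 := ded_24_2 (flp_d L46553) (flp_g L46447) L93329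
theorem L93335 : sm gc N9567 = N11652 := rfl
theorem L93337 : sm gg N11652 = N9595 := ded_21_2 (flp_c L46569) (flp_g L46451) L93335
theorem L93339 : sm ge N9567 = N11653 := rfl
theorem L93341 : sm gg N11653 = N9596 := ded_26_2 (flp_e L46571) (flp_g L46451) L93339
theorem L93343 : sm gf N9567 = N11654 := rfl
theorem L93345 : sm gd N11654 = N9568 := ded_23_1 (flp_f L46453) L46449 L93343
theorem L93347 : sm gb N9568 = N11655 := rfl
theorem L93349 : sm ga N9569 = N11656 := rfl
theorem L93351 : sm gd N11656 = N10159 := ded_9_2 (flp_a L85349) (flp_d L46459) L93349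
theorem L93353 : sm gf N11656 = N9570 := ded_11_2 (flp_a L46463) (flp_f L46461) L93349
theorem L93355 : sm gc N9569 = N11657 := rfl
theorem L93357 : sm gf N11657 = N9571 := ded_20_2 (flp_c L46467) (flp_f L46461) L93355
theorem L93359 : sm gg N9569 = N11658 := rfl
theorem L93361 : sm gd N11658 = N10161 := ded_24_1 (flp_g L85357) (flp_d L46459) L93359
theorem L93363 : sm gb N9570 = N11659 := rfl
theorem L93365 : sm gd N11659 = N10162 := ded_14_2 (flp_b L85359) (flp_d L46465) L93363
theorem L93367 : sm gc N9570 = N11660 := rfl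
theorem L93369 : sm ga N11660 = N9571 := ded_8_1 (flp_c L46467) L46463 L93367
theorem L93371 : sm gg N9570 = N11661 := rfl
theorem L93373 : sm ga N11661 = N9572 := ded_12_1 (flp_g L46469) L46463 L93371
theorem L93375 : sm gd N11661 = N10164 := ded_24_1 (flp_g L85365) (flp_d L46465) L93371
theorem L93377 : sm gf N11661 = N11658 := ded_29_2 (flp_g L93359) L93349 L93353 L93371
theorem L93379 : sm gb N10145 = N11661 := ded_14_3 L93375 L93293 L93289
theorem L93381 : sm gg N11659 = N10188 := ded_17_4 L85461 L85300 L93379 (flp_g L93371) L93363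
theorem L93383 : sm gd N9571 = N11662 := rfl
theorem L93385 : sm gg N9571 = N11663 := rfl
theorem L93387 : sm gc N11663 = N9572 := ded_21_1 (flp_g L46469) L46467 L93385
theorem L93389 : sm gf N9572 = N11664 := rfl
theorem L93391 : sm ga N11664 = N11658 := ded_11_1 (flp_f L93377) L93373 L93389
theorem L93393 : sm gd N11664 = N10167 := ded_23_1 (flp_f L85378) (flp_d L46471) L93389
theorem L93395 : sm gg N11664 = N11656 := ded_29_3 (flp_a L93349) L46461 L46469 L93389
theorem L93397 : sm gf N9573 = N11665 := rfl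
theorem L93399 : sm ga N11665 = N9575 := ded_11_1 (flp_f L46483) L46475 L93397
theorem L93401 : sm gc N11665 = N9575 := ded_20_1 (flp_f L46483) (flp_c L91641) L93397
theorem L93403 : sm gd N11665 = N10169 := ded_23_1 (flp_f L85388) (flp_d L46477) L93397
theorem L93405 : sm gg N9573 = N11666 := rfl
theorem L93407 : sm ga N11666 = N9576 := ded_12_1 (flp_g L46487) L46475 L93405
theorem L93409 : sm gc N11666 = N9576 := ded_21_1 (flp_g L46487) (flp_c L91641) L93405
theorem L93411 : sm gd N11666 = N10170 := ded_24_1 (flp_g L85392) (flp_d L46477) L93405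
theorem L93413 : sm gg N9575 = N11667 := rfl
theorem L93415 : sm gd N11667 = N10175 := ded_24_1 (flp_g L85410) (flp_d L46485) L93413
theorem L93417 : sm gf N11666 = N11667 := ded_29_0 (flp_g L93413) (flp_f L46483) L46487 (flp_a L93407)
theorem L93419 : sm gb N9576 = N11668 := rfl
theorem L93421 : sm gd N11668 = N10176 := ded_14_2 (flp_b L85414) (flp_d L46489) L93419
theorem L93423 : sm gg N11668 = N9580 := ded_17_2 (flp_b L46505) (flp_g L22365) L22357 L46487 L93419
theorem L93425 : sm gf N9576 = N11669 := rfl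
theorem L93427 : sm ga N11669 = N11667 := ded_11_1 (flp_f L93417) L93407 L93425
theorem L93429 : sm gc N11669 = N11667 := ded_20_1 (flp_f L93417) L93409 L93425
theorem L93431 : sm gd N11669 = N10177 := ded_23_1 (flp_f L85418) (flp_d L46489) L93425
theorem L93433 : sm gg N11669 = N11665 := ded_29_3 L93399 (flp_f L46483) L46487 L93425
theorem L93435 : sm gd N9577 = N11670 := rfl
theorem L93437 : sm ga N11670 = N10172 := ded_9_1 (flp_d L85400) (flp_a L91631) L93435
theorem L93439 : sm gb N11670 = N9578 := ded_14_1 (flp_d L46493) L46491 L93435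
theorem L93441 : sm gc N11670 = N11670 := ded_28_0 (flp_d L93435) L91633 (flp_d L46477) L91641 L22359 L26765 L85400 (flp_a L93437)
theorem L93442 : sm gf N9577 = N11671 := rfl
theorem L93444 : sm ga N11671 = N10173 := ded_11_1 (flp_f L85402) (flp_a L91631) L93442
theorem L93446 : sm gc N11671 = N10169 := ded_20_1 (flp_f L85388) (flp_c L91633) L93442
theorem L93448 : sm gg N9577 = N11672 := rfl
theorem L93450 : sm ga N11672 = N10174 := ded_12_1 (flp_g L85406) (flp_a L91631) L93448
theorem L93452 : sm gc N11672 = N10170 := ded_21_1 (flp_g L85392) (flp_c L91633) L93448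
theorem L93454 : sm ge N9578 = N11673 := rfl
theorem L93456 : sm ga N11673 = N9582 := ded_10_1 (flp_e L46511) (flp_a L46495) L93454
theorem L93458 : sm gg N9578 = N11674 := rfl
theorem L93460 : sm ga N11674 = N9583 := ded_12_1 (flp_g L46515) (flp_a L46495) L93458
theorem L93462 : sm gd N11674 = N9579 := ded_24_1 (flp_g L46497) L46493 L93458
theorem L93464 : sm gf N11674 = N11635 := ded_29_2 (flp_g L93257) (flp_a L93245) L93247 L93458
theorem L93466 : sm gb N9579 = N11675 := rfl
theorem L93468 : sm ga N9580 = N11676 := rfl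
theorem L93470 : sm gd N11676 = N10186 := ded_9_2 (flp_a L85455) (flp_d L46507) L93468
theorem L93472 : sm gc N9580 = N11677 := rfl
theorem L93474 : sm gf N9580 = N11678 := rfl
theorem L93476 : sm gd N11678 = N10188 := ded_23_1 (flp_f L85459) (flp_d L46507) L93474
theorem L93478 : sm gb N11678 = N11639 := ded_16_1 (flp_f L93273) (flp_b L46421) (flp_f L22371) L46505 L93474
theorem L93480 : sm gg N10162 = N11678 := ded_24_0 L93476 (flp_g L93381) L93365
theorem L93482 : sm gb N9581 = N11679 := rfl
theorem L93484 : sm gc N11679 = N9619 := ded_13_2 (flp_b L46679) (flp_c L22455) (flp_b L22375) L46509 L93482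
theorem L93486 : sm ge N9581 = N11680 := rfl
theorem L93488 : sm gc N11680 = N9582 := ded_19_1 (flp_e L46511) L46509 L93486
theorem L93490 : sm gg N9581 = N11681 := rfl
theorem L93492 : sm gc N11681 = N9583 := ded_21_1 (flp_g L46515) L46509 L93490
theorem L93494 : sm gg N9582 = N11682 := rfl
theorem L93496 : sm ge N11682 = N9583 := ded_26_1 (flp_g L46515) L46511 L93494
theorem L93498 : sm gb N9583 = N11683 := rfl
theorem L93500 : sm gd N11683 = N9584 := ded_14_2 (flp_b L46519) (flp_d L46517) L93498
theorem L93502 : sm gg N11683 = N9623 := ded_17_2 (flp_b L46693) (flp_g L22459) (flp_b L22375) L46515 L93498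
theorem L93504 : sm gf N9583 = N11684 := rfl
theorem L93506 : sm ga N11684 = N11635 := ded_11_1 (flp_f L93464) L93460 L93504
theorem L93508 : sm gd N11684 = N9585 := ded_23_1 (flp_f L46523) (flp_d L46517) L93504
theorem L93510 : sm gg N11684 = N11632 := ded_29_3 L93245 L46415 L46515 L93504
theorem L93512 : sm ga N9584 = N11685 := rfl
theorem L93514 : sm gg N11685 = N9625 := ded_12_2 (flp_a L46705) (flp_g L46521) L93512
theorem L93516 : sm gf N9584 = N11686 := rfl
theorem L93518 : sm gb N9585 = N11687 := rfl
theorem L93520 : sm ga N9586 = N11688 := rfl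
theorem L93522 : sm gd N11688 = N10204 := ded_9_2 (flp_a L85531) (flp_d L46533) L93520
theorem L93524 : sm gc N9586 = N11689 := rfl
theorem L93526 : sm gg N9586 = N11690 := rfl
theorem L93528 : sm gd N11690 = N10206 := ded_24_1 (flp_g L85535) (flp_d L46533) L93526
theorem L93530 : sm gb N11690 = N11630 := ded_17_1 (flp_g L93237) (flp_b L46403) (flp_g L22387) L46531 L93526
theorem L93532 : sm gc N9587 = N11691 := rfl
theorem L93534 : sm ga N11691 = N9588 := ded_8_1 (flp_c L46541) L46535 L93532
theorem L93536 : sm gf N9587 = N11692 := rfl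
theorem L93538 : sm ga N11692 = N9589 := ded_11_1 (flp_f L46543) L46535 L93536
theorem L93540 : sm gd N11692 = N10221 := ded_23_1 (flp_f L85589) (flp_d L46537) L93536
theorem L93542 : sm gg N9587 = N11693 := rfl
theorem L93544 : sm ga N11693 = N9590 := ded_12_1 (flp_g L46547) L46535 L93542
theorem L93546 : sm gd N11693 = N10222 := ded_24_1 (flp_g L85593) (flp_d L46537) L93542
theorem L93548 : sm gb N9588 = N11694 := rfl
theorem L93550 : sm gc N11694 = N9591 := ded_13_2 (flp_b L46551) (flp_c L22393) L22389 L46541 L93548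
theorem L93554 : sm gf N9588 = N11696 := rfl
theorem L93556 : sm gc N11696 = N9589 := ded_20_1 (flp_f L46543) L46541 L93554
theorem L93558 : sm gg N9588 = N11697 := rfl
theorem L93560 : sm gc N11697 = N9590 := ded_21_1 (flp_g L46547) L46541 L93558
theorem L93562 : sm gb N9589 = N11698 := rfl
theorem L93564 : sm gd N11698 = N10227 := ded_14_2 (flp_b L85611) (flp_d L46545) L93562
theorem L93566 : sm gf N11698 = N9594 := ded_16_2 (flp_b L46565) (flp_f L22397) L22389 L46543 L93562
theorem L93568 : sm gg N9589 = N11699 := rfl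
theorem L93570 : sm gd N11699 = N10228 := ded_24_1 (flp_g L85615) (flp_d L46545) L93568
theorem L93572 : sm gf N11693 = N11699 := ded_29_0 (flp_g L93568) (flp_f L46543) L46547 (flp_a L93544)
theorem L93574 : sm gf N9590 = N11700 := rfl
theorem L93576 : sm ga N11700 = N11699 := ded_11_1 (flp_f L93572) L93544 L93574
theorem L93578 : sm gd N11700 = N10229 := ded_23_1 (flp_f L85619) (flp_d L46549) L93574
theorem L93580 : sm gg N11700 = N11692 := ded_29_3 L93538 (flp_f L46543) L46547 L93574
theorem L93582 : sm ga N9591 = N11701 := rfl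
theorem L93584 : sm gd N9591 = N11702 := rfl
theorem L93586 : sm gb N11702 = N9592 := ded_14_1 (flp_d L46553) L46551 L93584
theorem L93588 : sm gc N11702 = N11702 := ded_13_0 L93586 L85669 L85668 (flp_c L85669) (flp_b L93586)
theorem L93589 : sm gf N9591 = N11703 := rfl
theorem L93591 : sm gg N9591 = N11704 := rfl
theorem L93593 : sm ge N9592 = N11705 := rfl
theorem L93595 : sm ga N11705 = N9596 := ded_10_1 (flp_e L46571) (flp_a L46555) L93593
theorem L93597 : sm gf N9592 = N11706 := rfl
theorem L93599 : sm ga N11706 = N9597 := ded_11_1 (flp_f L46575) (flp_a L46555) L93597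
theorem L93601 : sm gd N11706 = N9593 := ded_23_1 (flp_f L46557) L46553 L93597
theorem L93603 : sm gg N11654 = N11706 := ded_29_1 (flp_f L93597) (flp_g L93333) L93331 L93343
theorem L93605 : sm gb N9593 = N11707 := rfl
theorem L93607 : sm ga N9594 = N11708 := rfl
theorem L93609 : sm gd N11708 = N10238 := ded_9_2 (flp_a L85656) (flp_d L46567) L93607
theorem L93611 : sm gc N9594 = N11709 := rfl
theorem L93613 : sm gg N9594 = N11710 := rfl
theorem L93615 : sm gd N11710 = N10240 := ded_24_1 (flp_g L85660) (flp_d L46567) L93613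
theorem L93617 : sm gb N11710 = N11658 := ded_17_1 (flp_g L93359) (flp_b L46457) L22403 L46565 L93613
theorem L93619 : sm gf N10143 = N11710 := ded_23_0 L93615 (flp_f L93295) L93279
theorem L93621 : sm gb N9595 = N11711 := rfl
theorem L93623 : sm gc N11711 = N9648 := ded_13_2 (flp_b L46807) (flp_c L22511) (flp_b L22407) L46569 L93621
theorem L93625 : sm ge N9595 = N11712 := rfl
theorem L93627 : sm gc N11712 = N9596 := ded_19_1 (flp_e L46571) L46569 L93625
theorem L93629 : sm gf N9595 = N11713 := rfl
theorem L93631 : sm gc N11713 = N9597 := ded_20_1 (flp_f L46575) L46569 L93629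
theorem L93633 : sm gf N9596 = N11714 := rfl
theorem L93635 : sm ge N11714 = N9597 := ded_25_1 (flp_f L46575) L46571 L93633
theorem L93637 : sm gb N9597 = N11715 := rfl
theorem L93639 : sm gd N11715 = N9598 := ded_14_2 (flp_b L46579) (flp_d L46577) L93637
theorem L93641 : sm gf N11715 = N9652 := ded_16_2 (flp_b L46821) (flp_f L22515) (flp_b L22407) L46575 L93637
theorem L93643 : sm gg N9597 = N11716 := rfl
theorem L93645 : sm ga N11716 = N11654 := ded_12_1 L93603 L93599 L93643
theorem L93647 : sm gd N11716 = N9599 := ded_24_1 (flp_g L46583) (flp_d L46577) L93643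
theorem L93649 : sm gf N11651 = N11716 := ded_29_0 (flp_g L93643) (flp_f L46575) (flp_g L46451) (flp_a L93331)
theorem L93651 : sm ga N9598 = N11717 := rfl
theorem L93653 : sm gf N11717 = N9654 := ded_11_2 (flp_a L46833) (flp_f L46581) L93651
theorem L93655 : sm gg N9598 = N11718 := rfl
theorem L93657 : sm gb N9599 = N11719 := rfl
theorem L93659 : sm ga N9600 = N11720 := rfl
theorem L93661 : sm gd N11720 = N10256 := ded_9_2 (flp_a L85736) (flp_d L46593) L93659
theorem L93663 : sm gc N9600 = N11721 := rfl
theorem L93665 : sm gf N9600 = N11722 := rfl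
theorem L93667 : sm gd N11722 = N10258 := ded_23_1 (flp_f L85740) (flp_d L46593) L93665
theorem L93669 : sm gb N11722 = N11648 := ded_16_1 (flp_f L93317) (flp_b L46439) L22419 L46591 L93665
theorem L93671 : sm gb N9610 = N11723 := rfl
theorem L93673 : sm ga N11723 = N10171 := ded_7_1 (flp_b L85396) (flp_a L91631) (flp_b L46491) L22363 L10781 (flp_a L10805) L22437 L46645 L93671
theorem L93675 : sm gc N10178 = N11723 := ded_8_0 L93673 L85398 L85424
theorem L93677 : sm gd N9610 = N11724 := rfl
theorem L93679 : sm ga N11724 = N9611 := ded_9_1 (flp_d L46647) L46645 L93677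
theorem L93681 : sm gf N9610 = N11725 := rfl
theorem L93683 : sm ga N11725 = N9612 := ded_11_1 (flp_f L46651) L46645 L93681
theorem L93685 : sm gc N11725 = N11725 := ded_20_1 (flp_f L93681) L70898 L93681
theorem L93686 : sm gg N9610 = N11726 := rfl
theorem L93688 : sm ga N11726 = N9613 := ded_12_1 (flp_g L46653) L46645 L93686
theorem L93690 : sm gc N11726 = N11726 := ded_21_1 (flp_g L93686) L70898 L93686
theorem L93691 : sm gc N9611 = N11727 := rfl
theorem L93693 : sm ge N9611 = N11728 := rfl
theorem L93695 : sm gb N11728 = N9614 := ded_15_1 (flp_e L46655) (flp_b L46649) L93693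
theorem L93697 : sm gf N9611 = N11729 := rfl
theorem L93699 : sm gd N11729 = N9612 := ded_23_1 (flp_f L46651) L46647 L93697
theorem L93701 : sm gg N9611 = N11730 := rfl
theorem L93703 : sm gd N11730 = N9613 := ded_24_1 (flp_g L46653) L46647 L93701
theorem L93705 : sm gg N9612 = N11731 := rfl
theorem L93707 : sm gc N11731 = N11731 := ded_21_1 (flp_g L93705) L70900 L93705
theorem L93708 : sm gf N11726 = N11731 := ded_29_0 (flp_g L93705) (flp_f L46651) L46653 (flp_a L93688)
theorem L93710 : sm gb N9613 = N11732 := rfl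
theorem L93712 : sm gg N11732 = N9616 := ded_17_2 (flp_b L46667) (flp_g L22443) L22437 L46653 L93710
theorem L93714 : sm gf N9613 = N11733 := rfl
theorem L93716 : sm ga N11733 = N11731 := ded_11_1 (flp_f L93708) L93688 L93714
theorem L93718 : sm gc N11733 = N11733 := ded_20_1 (flp_f L93714) L70901 L93714
theorem L93719 : sm gg N11733 = N11725 := ded_29_3 L93683 (flp_f L46651) L46653 L93714
theorem L93721 : sm gg N9614 = N11734 := rfl
theorem L93723 : sm ga N11734 = N9622 := ded_12_1 (flp_g L46689) (flp_a L46657) L93721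
theorem L93725 : sm ge N11734 = N9615 := ded_26_1 (flp_g L46659) L46655 L93721
theorem L93727 : sm gf N10290 = N11734 := ded_29_0 (flp_g L93721) (flp_f L85850) L85852 (flp_a L85884)
theorem L93729 : sm gb N9615 = N11735 := rfl
theorem L93731 : sm gd N11735 = N9616 := ded_14_2 (flp_b L46667) (flp_d L46663) L93729
theorem L93733 : sm ga N9616 = N11736 := rfl
theorem L93735 : sm gf N9616 = N11737 := rfl
theorem L93737 : sm gb N11737 = N10288 := ded_16_1 (flp_f L85876) (flp_b L27083) (flp_f L81082) L46667 L93735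
theorem L93739 : sm ga N9619 = N11738 := rfl
theorem L93741 : sm ge N9619 = N11739 := rfl
theorem L93743 : sm gb N11739 = N9620 := ded_15_1 (flp_e L46681) L46679 L93741
theorem L93745 : sm gf N9619 = N11740 := rfl
theorem L93747 : sm gg N9619 = N11741 := rfl
theorem L93749 : sm gd N9620 = N11742 := rfl
theorem L93751 : sm gg N9620 = N11743 := rfl
theorem L93753 : sm gc N11743 = N9622 := ded_21_1 (flp_g L46689) (flp_c L46683) L93751
theorem L93755 : sm ge N11743 = N9621 := ded_26_1 (flp_g L46685) L46681 L93751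
theorem L93757 : sm gf N10292 = N11743 := ded_29_0 (flp_g L93751) (flp_f L92110) L92112 L86111
theorem L93759 : sm gb N9621 = N11744 := rfl
theorem L93761 : sm gb N9622 = N11745 := rfl
theorem L93763 : sm ge N11745 = N9623 := ded_15_2 (flp_b L46693) (flp_e L46691) L93761
theorem L93765 : sm ga N9623 = N11746 := rfl
theorem L93767 : sm gd N11746 = N9625 := ded_9_2 (flp_a L46705) (flp_d L46695) L93765
theorem L93769 : sm gc N9623 = N11747 := rfl
theorem L93771 : sm gf N9623 = N11748 := rfl
theorem L93773 : sm gd N11748 = N9626 := ded_23_1 (flp_f L46707) (flp_d L46695) L93771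
theorem L93775 : sm gb N11748 = N10217 := ded_16_1 (flp_f L85569) L26835 (flp_f L80547) L46693 L93771
theorem L93777 : sm gb N9625 = N11749 := rfl
theorem L93779 : sm gf N9625 = N11750 := rfl
theorem L93781 : sm ga N11750 = N9626 := ded_11_1 (flp_f L46707) L46705 L93779
theorem L93783 : sm gc N11750 = N11717 := ded_20_1 L93653 L83372 L93779
theorem L93785 : sm gg N11686 = N11750 := ded_29_1 (flp_f L93779) (flp_g L93514) (flp_a L93512) L93516
theorem L93787 : sm gg N9626 = N11751 := rfl
theorem L93789 : sm ga N11751 = N11686 := ded_12_1 L93785 L93781 L93787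
theorem L93791 : sm gc N11751 = N11718 := ded_21_1 (flp_g L93655) L83376 L93787
theorem L93793 : sm gf N11685 = N11751 := ded_29_0 (flp_g L93787) (flp_f L46707) (flp_g L46521) L93512
theorem L93795 : sm gb N9639 = N11752 := rfl
theorem L93797 : sm gd N9639 = N11753 := rfl
theorem L93799 : sm ga N11753 = N9640 := ded_9_1 (flp_d L46775) L46773 L93797
theorem L93801 : sm gf N9639 = N11754 := rfl
theorem L93803 : sm ga N11754 = N9641 := ded_11_1 (flp_f L46779) L46773 L93801
theorem L93805 : sm gc N11754 = N11754 := ded_20_1 (flp_f L93801) L83364 L93801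
theorem L93806 : sm gg N9639 = N11755 := rfl
theorem L93808 : sm ga N11755 = N9642 := ded_12_1 (flp_g L46781) L46773 L93806
theorem L93810 : sm gc N11755 = N11755 := ded_21_1 (flp_g L93806) L83364 L93806
theorem L93811 : sm gc N9640 = N11756 := rfl
theorem L93813 : sm ge N9640 = N11757 := rfl
theorem L93815 : sm gb N11757 = N9643 := ded_15_1 (flp_e L46783) (flp_b L46777) L93813
theorem L93817 : sm gf N9640 = N11758 := rfl
theorem L93819 : sm gd N11758 = N9641 := ded_23_1 (flp_f L46779) L46775 L93817
theorem L93821 : sm gg N9640 = N11759 := rfl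
theorem L93823 : sm gd N11759 = N9642 := ded_24_1 (flp_g L46781) L46775 L93821
theorem L93825 : sm gb N9641 = N11760 := rfl
theorem L93827 : sm gf N11760 = N9645 := ded_16_2 (flp_b L46795) (flp_f L22499) L22493 L46779 L93825
theorem L93829 : sm gg N9641 = N11761 := rfl
theorem L93831 : sm gc N11761 = N11761 := ded_21_1 (flp_g L93829) L83366 L93829
theorem L93832 : sm gf N11755 = N11761 := ded_29_0 (flp_g L93829) (flp_f L46779) L46781 (flp_a L93808)
theorem L93834 : sm gf N9642 = N11762 := rfl
theorem L93836 : sm ga N11762 = N11761 := ded_11_1 (flp_f L93832) L93808 L93834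
theorem L93838 : sm gc N11762 = N11762 := ded_20_1 (flp_f L93834) L83367 L93834
theorem L93839 : sm gg N11762 = N11754 := ded_29_3 L93803 (flp_f L46779) L46781 L93834
theorem L93841 : sm gf N9643 = N11763 := rfl
theorem L93843 : sm ga N11763 = N9651 := ded_11_1 (flp_f L46817) (flp_a L46785) L93841
theorem L93845 : sm ge N11763 = N9644 := ded_25_1 (flp_f L46787) L46783 L93841
theorem L93847 : sm gg N11763 = N10311 := ded_29_3 L85976 (flp_f L85942) L85944 L93841
theorem L93849 : sm gb N9644 = N11764 := rfl
theorem L93851 : sm gd N11764 = N9645 := ded_14_2 (flp_b L46795) (flp_d L46791) L93849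
theorem L93853 : sm ga N9645 = N11765 := rfl
theorem L93855 : sm gg N9645 = N11766 := rfl
theorem L93857 : sm gb N11766 = N10310 := ded_17_1 (flp_g L85972) (flp_b L27275) (flp_g L82316) L46795 L93855
theorem L93859 : sm ga N9648 = N11767 := rfl
theorem L93861 : sm ge N9648 = N11768 := rfl
theorem L93863 : sm gb N11768 = N9649 := ded_15_1 (flp_e L46809) L46807 L93861
theorem L93865 : sm gf N9648 = N11769 := rfl
theorem L93867 : sm gg N9648 = N11770 := rfl
theorem L93869 : sm gd N9649 = N11771 := rfl
theorem L93871 : sm gf N9649 = N11772 := rfl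
theorem L93873 : sm gc N11772 = N9651 := ded_20_1 (flp_f L46817) (flp_c L46811) L93871
theorem L93875 : sm ge N11772 = N9650 := ded_25_1 (flp_f L46813) L46809 L93871
theorem L93877 : sm gg N11772 = N10313 := ded_29_3 (flp_a L86222) (flp_f L92137) L92139 L93871
theorem L93879 : sm gb N9650 = N11773 := rfl
theorem L93881 : sm gb N9651 = N11774 := rfl
theorem L93883 : sm ge N11774 = N9652 := ded_15_2 (flp_b L46821) (flp_e L46819) L93881
theorem L93885 : sm ga N9652 = N11775 := rfl
theorem L93887 : sm gd N11775 = N9654 := ded_9_2 (flp_a L46833) (flp_d L46823) L93885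
theorem L93889 : sm gc N9652 = N11776 := rfl
theorem L93891 : sm gg N9652 = N11777 := rfl
theorem L93893 : sm gd N11777 = N9655 := ded_24_1 (flp_g L46835) (flp_d L46823) L93891
theorem L93895 : sm gb N11777 = N10269 := ded_17_1 (flp_g L85784) L26927 L80466 L46821 L93891
theorem L93897 : sm gb N9654 = N11778 := rfl
theorem L93899 : sm gg N9654 = N11779 := rfl
theorem L93901 : sm ga N11779 = N9655 := ded_12_1 (flp_g L46835) L46833 L93899
theorem L93903 : sm gc N11779 = N11685 := ded_21_1 L93514 (flp_c L83372) L93899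
theorem L93905 : sm gf N11779 = N11718 := ded_29_2 (flp_g L93655) L93651 L93653 L93899
theorem L93907 : sm gf N9655 = N11780 := rfl
theorem L93909 : sm ga N11780 = N11718 := ded_11_1 (flp_f L93905) L93901 L93907
theorem L93911 : sm gc N11780 = N11686 := ded_20_1 (flp_f L93516) (flp_c L83378) L93907
theorem L93913 : sm gg N11780 = N11717 := ded_29_3 (flp_a L93651) L46581 L46835 L93907
theorem L93915 : sm gb N9676 = N11781 := rfl
theorem L93917 : sm gc N11781 = N9680 := ded_13_2 (flp_b L46973) (flp_c L22609) (flp_b L22602) L46953 L93915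
theorem L93919 : sm gd N9676 = N11782 := rfl
theorem L93921 : sm ga N11782 = N11782 := ded_9_1 (flp_d L93919) L71966 L93919
theorem L93922 : sm gf N11782 = N11782 := ded_23_2 (flp_d L93919) L46955 L93919
theorem L93923 : sm gc N11782 = N11782 := ded_28_0 (flp_d L93919) (flp_c L46953) (flp_d L22600) L70858 L22600 L46953 L93919 L93921
theorem L93924 : sm ge N9676 = N11783 := rfl
theorem L93927 : sm gc N11783 = N9677 := ded_19_1 (flp_e L46956) L46953 L93924
theorem L93930 : sm gg N9676 = N11784 := rfl
theorem L93936 : sm gg N9677 = N11785 := rfl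
theorem L93944 : sm gb N9678 = N11786 := rfl
theorem L93948 : sm gg N11786 = N9684 := ded_17_2 (flp_b L47003) (flp_g L22621) (flp_b L22602) L46963 L93944
theorem L93950 : sm ga N9679 = N11787 := rfl
theorem L93952 : sm gc N11787 = N10403 := ded_8_2 (flp_a L92265) L92267 L93950
theorem L93956 : sm gf N11787 = N10403 := ded_11_2 (flp_a L92265) L92271 L93950
theorem L93960 : sm ga N9680 = N11788 := rfl
theorem L93962 : sm gd N11788 = N11738 := ded_9_2 (flp_a L93739) (flp_d L46975) L93960
theorem L93964 : sm ge N9680 = N11789 := rfl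
theorem L93966 : sm gb N11789 = N9681 := ded_15_1 (flp_e L46977) L46973 L93964
theorem L93968 : sm gf N9680 = N11790 := rfl
theorem L93972 : sm gg N9680 = N11791 := rfl
theorem L93974 : sm gd N11791 = N11741 := ded_24_1 (flp_g L93747) (flp_d L46975) L93972
theorem L93976 : sm gd N9681 = N11792 := rfl
theorem L93978 : sm ga N11792 = N9697 := ded_9_1 (flp_d L47069) (flp_a L46979) L93976
theorem L93980 : sm ge N11792 = N11742 := ded_22_2 (flp_d L93749) (flp_e L46681) L22613 L46977 L93976
theorem L93982 : sm gc N11792 = N11450 := ded_28_6 (flp_d L92182) (flp_a L85991) L85993 L27505 L80877 (flp_d L22619) (flp_c L46981) L93976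
theorem L93984 : sm gb N9682 = N11793 := rfl
theorem L93986 : sm gd N11793 = N11744 := ded_14_2 (flp_b L93759) (flp_d L46989) L93984
theorem L93988 : sm ga N9684 = N11794 := rfl
theorem L93990 : sm gd N11794 = N9685 := ded_9_2 (flp_a L47007) (flp_d L47005) L93988
theorem L93992 : sm gb N11794 = N11155 := ded_7_2 L90682 L41306 (flp_a L90339) L90341 (flp_a L47105) (flp_b L22669) (flp_a L22623) L47003 L93988
theorem L93994 : sm gf N11465 = N11794 := ded_23_0 L93990 (flp_f L78576) L92259
theorem L93996 : sm gc N9684 = N11795 := rfl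
theorem L94006 : sm gb N9690 = N11797 := rfl
theorem L94008 : sm gd N9690 = N11798 := rfl
theorem L94010 : sm ga N11798 = N9691 := ded_9_1 (flp_d L47037) L47033 L94008
theorem L94012 : sm gc N9691 = N11798 := ded_28_0 (flp_d L94008) L47035 (flp_d L83814) L83813 L83814 (flp_c L47035) L94008 L94010
theorem L94014 : sm gb N11798 = N11727 := ded_13_1 (flp_c L93691) L46649 L22653 (flp_b L47039) L94012
theorem L94016 : sm gd N11727 = N11797 := ded_14_2 (flp_b L94006) L94008 L94014
theorem L94018 : sm ge N9690 = N11799 := rfl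
theorem L94020 : sm ga N11799 = N9692 := ded_10_1 (flp_e L47041) L47033 L94018
theorem L94022 : sm gc N11799 = N9857 := ded_19_1 (flp_e L83841) (flp_c L47035) L94018
theorem L94024 : sm gf N9690 = N11800 := rfl
theorem L94026 : sm ga N11800 = N9693 := ded_11_1 (flp_f L47047) L47033 L94024
theorem L94028 : sm gc N11800 = N9858 := ded_20_1 (flp_f L83845) (flp_c L47035) L94024
theorem L94030 : sm gg N9690 = N11801 := rfl
theorem L94032 : sm ga N11801 = N9694 := ded_12_1 (flp_g L47051) L47033 L94030
theorem L94034 : sm gc N11801 = N9859 := ded_21_1 (flp_g L83849) (flp_c L47035) L94030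
theorem L94036 : sm ge N9691 = N11802 := rfl
theorem L94038 : sm gb N11802 = N9695 := ded_15_1 (flp_e L47055) (flp_b L47039) L94036
theorem L94040 : sm gf N9691 = N11803 := rfl
theorem L94042 : sm gd N11803 = N9693 := ded_23_1 (flp_f L47047) L47037 L94040
theorem L94044 : sm gg N9691 = N11804 := rfl
theorem L94046 : sm gd N11804 = N9694 := ded_24_1 (flp_g L47051) L47037 L94044
theorem L94048 : sm gd N9692 = N11805 := rfl
theorem L94050 : sm gb N11805 = N9697 := ded_14_1 (flp_d L47069) (flp_b L47043) L94048
theorem L94052 : sm gf N9692 = N11806 := rfl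
theorem L94054 : sm gc N11806 = N9861 := ded_20_1 (flp_f L83857) (flp_c L47045) L94052
theorem L94056 : sm ge N11806 = N9693 := ded_25_1 (flp_f L47047) L47041 L94052
theorem L94058 : sm gg N9692 = N11807 := rfl
theorem L94060 : sm gc N11807 = N9862 := ded_21_1 (flp_g L83861) (flp_c L47045) L94058
theorem L94062 : sm ge N11807 = N9694 := ded_26_1 (flp_g L47051) L47041 L94058
theorem L94064 : sm gg N9693 = N11808 := rfl
theorem L94066 : sm gc N11808 = N9863 := ded_21_1 (flp_g L83865) (flp_c L47049) L94064
theorem L94068 : sm gf N11801 = N11808 := ded_29_0 (flp_g L94064) (flp_f L47047) L47051 (flp_a L94032)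
theorem L94070 : sm gb N9694 = N11809 := rfl
theorem L94072 : sm gg N11809 = N9699 := ded_17_2 (flp_b L47077) (flp_g L22659) L22645 L47051 L94070
theorem L94074 : sm gf N9694 = N11810 := rfl
theorem L94076 : sm ga N11810 = N11808 := ded_11_1 (flp_f L94068) L94032 L94074
theorem L94078 : sm gc N11810 = N9865 := ded_20_1 (flp_f L83873) (flp_c L47053) L94074
theorem L94080 : sm gg N11810 = N11800 := ded_29_3 L94026 (flp_f L47047) L47051 L94074
theorem L94082 : sm gd N9695 = N11811 := rfl
theorem L94084 : sm ga N11811 = N11742 := ded_9_1 (flp_d L93749) (flp_a L47057) L94082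
theorem L94086 : sm ge N11811 = N9697 := ded_22_2 (flp_d L47069) (flp_e L22655) L22649 L47055 L94082
theorem L94088 : sm gg N9695 = N11812 := rfl
theorem L94090 : sm ga N11812 = N11743 := ded_12_1 (flp_g L93751) (flp_a L47057) L94088
theorem L94092 : sm gc N11812 = N11734 := ded_21_1 (flp_g L93721) (flp_c L47059) L94088
theorem L94094 : sm ge N11812 = N9696 := ded_26_1 (flp_g L47061) L47055 L94088
theorem L94096 : sm gf N10334 = N11812 := ded_29_0 (flp_g L94088) (flp_f L92178) L92180 (flp_a L86111)
theorem L94098 : sm gb N9696 = N11813 := rfl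
theorem L94100 : sm gd N11813 = N9699 := ded_14_2 (flp_b L47077) (flp_d L47067) L94098
theorem L94102 : sm gc N9697 = N11814 := rfl
theorem L94104 : sm ga N11814 = N11450 := ded_8_1 (flp_c L93982) L93978 L94102
theorem L94106 : sm gf N11814 = N11792 := ded_20_2 L93982 L92184 L94102
theorem L94108 : sm gd N11814 = N10315 := ded_28_7 L85991 L44424 L21321 L69595 (flp_d L10906) (flp_c L22657) L47069 L94102
theorem L94110 : sm gg N10335 = N11814 := ded_24_0 L94108 L85997 L86115
theorem L94112 : sm gg N9697 = N11815 := rfl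
theorem L94114 : sm gc N11815 = N10335 := ded_21_1 L94110 (flp_c L94102) L94112
theorem L94116 : sm gd N11815 = N9698 := ded_24_1 (flp_g L47071) L47069 L94112
theorem L94118 : sm gf N11815 = N10335 := ded_29_2 L94110 L94104 L92184 L94112
theorem L94120 : sm gb N9698 = N11816 := rfl
theorem L94122 : sm ge N11816 = N9699 := ded_15_2 (flp_b L47077) (flp_e L47075) L94120
theorem L94124 : sm ga N9699 = N11817 := rfl
theorem L94126 : sm gc N9699 = N11818 := rfl
theorem L94128 : sm gb N11818 = N9704 := ded_13_1 (flp_c L47111) (flp_b L22669) (flp_c L22661) L47077 L94126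
theorem L94130 : sm gf N9699 = N11819 := rfl
theorem L94132 : sm gb N11819 = N10332 := ded_16_1 (flp_f L86101) (flp_b L27604) (flp_f L75726) L47077 L94130
theorem L94134 : sm ga N9701 = N11820 := rfl
theorem L94138 : sm ge N11820 = N9703 := ded_10_2 (flp_a L47105) (flp_e L47091) L94134
theorem L94142 : sm gg N11820 = N9874 := ded_12_2 (flp_a L83919) (flp_g L47093) L94134
theorem L94144 : sm gc N9701 = N11821 := rfl
theorem L94146 : sm ge N11821 = N9704 := ded_19_2 (flp_c L47111) (flp_e L47091) L94144
theorem L94148 : sm gf N11821 = N10430 := ded_20_2 (flp_c L86727) (flp_f L83389) L94144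
theorem L94150 : sm gg N11821 = N9875 := ded_21_2 (flp_c L83925) (flp_g L47093) L94144
theorem L94152 : sm gc N9703 = N11822 := rfl
theorem L94154 : sm ga N11822 = N9704 := ded_8_1 (flp_c L47111) L47105 L94152
theorem L94156 : sm gf N11822 = N10433 := ded_20_2 (flp_c L86745) (flp_f L83449) L94152
theorem L94158 : sm gg N11822 = N9879 := ded_21_2 (flp_c L83947) (flp_g L47109) L94152
theorem L94160 : sm gd N9704 = N11823 := rfl
theorem L94162 : sm gf N11823 = N10434 := ded_23_2 (flp_d L86751) (flp_f L83451) L94160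
theorem L94164 : sm gg N11823 = N9880 := ded_24_2 (flp_d L83951) (flp_g L47113) L94160
theorem L94166 : sm gb N9733 = N11824 := rfl
theorem L94168 : sm gc N11824 = N9740 := ded_13_2 (flp_b L47310) (flp_c L22786) (flp_b L22776) L47274 L94166
theorem L94170 : sm gd N9733 = N11825 := rfl
theorem L94172 : sm ga N11825 = N11825 := ded_9_1 (flp_d L94170) L82715 L94170
theorem L94173 : sm gg N11825 = N11825 := ded_24_2 (flp_d L94170) L71322 L94170
theorem L94174 : sm gc N11825 = N11825 := ded_28_0 (flp_d L94170) (flp_c L47274) (flp_d L22774) L77814 L22774 L47274 L94170 L94172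
theorem L94175 : sm ge N9733 = N11826 := rfl
theorem L94178 : sm gc N11826 = N9734 := ded_19_1 (flp_e L47276) L47274 L94175
theorem L94181 : sm gf N9733 = N11827 := rfl
theorem L94187 : sm gf N9734 = N11828 := rfl
theorem L94190 : sm gd N11828 = N9848 := ded_23_1 (flp_f L83786) (flp_d L47280) L94187
theorem L94195 : sm gb N9735 = N11829 := rfl
theorem L94197 : sm gd N11829 = N9737 := ded_14_2 (flp_b L47290) (flp_d L47284) L94195
theorem L94199 : sm gf N11829 = N9744 := ded_16_2 (flp_b L47340) (flp_f L22798) (flp_b L22776) L47282 L94195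
theorem L94211 : sm ga N9740 = N11831 := rfl
theorem L94213 : sm gd N11831 = N11767 := ded_9_2 (flp_a L93859) (flp_d L47312) L94211
theorem L94215 : sm ge N9740 = N11832 := rfl
theorem L94217 : sm gb N11832 = N9741 := ded_15_1 (flp_e L47314) L47310 L94215
theorem L94219 : sm gf N9740 = N11833 := rfl
theorem L94221 : sm gd N11833 = N11769 := ded_23_1 (flp_f L93865) (flp_d L47312) L94219
theorem L94223 : sm gg N9740 = N11834 := rfl
theorem L94227 : sm gd N9741 = N11835 := rfl
theorem L94229 : sm ga N11835 = N9757 := ded_9_1 (flp_d L47408) (flp_a L47316) L94227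
theorem L94231 : sm ge N11835 = N11771 := ded_22_2 (flp_d L93869) (flp_e L46809) L22790 L47314 L94227
theorem L94233 : sm gc N11835 = N11464 := ded_28_6 (flp_d L92255) (flp_a L86122) L86124 L27839 L79362 (flp_d L22796) (flp_c L47318) L94227
theorem L94235 : sm gb N9742 = N11836 := rfl
theorem L94237 : sm gd N11836 = N11773 := ded_14_2 (flp_b L93879) (flp_d L47326) L94235
theorem L94239 : sm ga N9744 = N11837 := rfl
theorem L94241 : sm gd N11837 = N9745 := ded_9_2 (flp_a L47344) (flp_d L47342) L94239
theorem L94245 : sm gg N11451 = N11837 := ded_24_0 L94241 (flp_g L72425) L92186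
theorem L94247 : sm gc N9744 = N11838 := rfl
theorem L94249 : sm gg N9744 = N11839 := rfl
theorem L94251 : sm ga N11839 = N11451 := ded_12_1 L94245 (flp_a L94239) L94249
theorem L94255 : sm gb N11839 = N10346 := ded_17_1 (flp_g L86182) L27894 L77881 L47340 L94249
theorem L94257 : sm gb N9750 = N11840 := rfl
theorem L94259 : sm gd N9750 = N11841 := rfl
theorem L94261 : sm ga N11841 = N9751 := ded_9_1 (flp_d L47376) L47372 L94259
theorem L94263 : sm gc N9751 = N11841 := ded_28_0 (flp_d L94259) L47374 (flp_d L83970) L83969 L83970 (flp_c L47374) L94259 L94261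
theorem L94265 : sm gb N11841 = N11756 := ded_13_1 (flp_c L93811) L46777 L22830 (flp_b L47378) L94263
theorem L94267 : sm gd N11756 = N11840 := ded_14_2 (flp_b L94257) L94259 L94265
theorem L94269 : sm ge N9750 = N11842 := rfl
theorem L94271 : sm ga N11842 = N9752 := ded_10_1 (flp_e L47380) L47372 L94269
theorem L94273 : sm gc N11842 = N9890 := ded_19_1 (flp_e L83997) (flp_c L47374) L94269
theorem L94275 : sm gf N9750 = N11843 := rfl
theorem L94277 : sm ga N11843 = N9753 := ded_11_1 (flp_f L47386) L47372 L94275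
theorem L94279 : sm gc N11843 = N9891 := ded_20_1 (flp_f L84001) (flp_c L47374) L94275
theorem L94281 : sm gg N9750 = N11844 := rfl
theorem L94283 : sm ga N11844 = N9754 := ded_12_1 (flp_g L47390) L47372 L94281
theorem L94285 : sm gc N11844 = N9892 := ded_21_1 (flp_g L84005) (flp_c L47374) L94281
theorem L94287 : sm ge N9751 = N11845 := rfl
theorem L94289 : sm gb N11845 = N9755 := ded_15_1 (flp_e L47394) (flp_b L47378) L94287
theorem L94291 : sm gf N9751 = N11846 := rfl
theorem L94293 : sm gd N11846 = N9753 := ded_23_1 (flp_f L47386) L47376 L94291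
theorem L94295 : sm gg N9751 = N11847 := rfl
theorem L94297 : sm gd N11847 = N9754 := ded_24_1 (flp_g L47390) L47376 L94295
theorem L94299 : sm gd N9752 = N11848 := rfl
theorem L94301 : sm gb N11848 = N9757 := ded_14_1 (flp_d L47408) (flp_b L47382) L94299
theorem L94303 : sm gf N9752 = N11849 := rfl
theorem L94305 : sm gc N11849 = N9894 := ded_20_1 (flp_f L84013) (flp_c L47384) L94303
theorem L94307 : sm ge N11849 = N9753 := ded_25_1 (flp_f L47386) L47380 L94303
theorem L94309 : sm gg N9752 = N11850 := rfl
theorem L94311 : sm gc N11850 = N9895 := ded_21_1 (flp_g L84017) (flp_c L47384) L94309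
theorem L94313 : sm ge N11850 = N9754 := ded_26_1 (flp_g L47390) L47380 L94309
theorem L94315 : sm gb N9753 = N11851 := rfl
theorem L94317 : sm gf N11851 = N9759 := ded_16_2 (flp_b L47416) (flp_f L22836) L22822 L47386 L94315
theorem L94319 : sm gg N9753 = N11852 := rfl
theorem L94321 : sm gc N11852 = N9897 := ded_21_1 (flp_g L84025) (flp_c L47388) L94319
theorem L94323 : sm gf N11844 = N11852 := ded_29_0 (flp_g L94319) (flp_f L47386) L47390 (flp_a L94283)
theorem L94325 : sm gf N9754 = N11853 := rfl
theorem L94327 : sm ga N11853 = N11852 := ded_11_1 (flp_f L94323) L94283 L94325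
theorem L94329 : sm gc N11853 = N9898 := ded_20_1 (flp_f L84029) (flp_c L47392) L94325
theorem L94331 : sm gg N11853 = N11843 := ded_29_3 L94277 (flp_f L47386) L47390 L94325
theorem L94333 : sm gd N9755 = N11854 := rfl
theorem L94335 : sm ga N11854 = N11771 := ded_9_1 (flp_d L93869) (flp_a L47396) L94333
theorem L94337 : sm ge N11854 = N9757 := ded_22_2 (flp_d L47408) (flp_e L22832) L22826 L47394 L94333
theorem L94339 : sm gf N9755 = N11855 := rfl
theorem L94341 : sm ga N11855 = N11772 := ded_11_1 (flp_f L93871) (flp_a L47396) L94339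
theorem L94343 : sm gc N11855 = N11763 := ded_20_1 (flp_f L93841) (flp_c L47398) L94339
theorem L94345 : sm ge N11855 = N9756 := ded_25_1 (flp_f L47400) L47394 L94339
theorem L94347 : sm gg N11855 = N10354 := ded_29_3 L86222 (flp_f L92251) L92253 L94339
theorem L94349 : sm gb N9756 = N11856 := rfl
theorem L94351 : sm gd N11856 = N9759 := ded_14_2 (flp_b L47416) (flp_d L47406) L94349

end Cfsg.Agent.Helper28.SzbA
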