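import Cfsg.Agent.Helper28.SzbC0

/-!
# The Suzuki group presentation, cosets of the subgroup generated by a, b, c, d, f, g: the action of the generator a (helper28; generated)
-/

set_option autoImplicit false
set_option maxRecDepth 100000
set_option linter.unusedSimpArgs false
set_option linter.constructorNameAsVariable false

noncomputable section

namespace Cfsg.Agent.Helper28.SzbA

open Cfsg.Spor Cfsg.Spor.Suz Cfsg.Agent.Helper28.CosetTable

theorem ce_a_0 : ∀ r, r < 64 → sm ga (Qf (0 + r)) = Qf (tab Gen.a (0 + r)) :=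
  edges_tab (sm ga) Qf (tab Gen.a) 0 [(0, 0), (1, 1), (2, 2), (3, 3), (4, 6), (5, 5), (6, 4), (7, 12), (8, 13), (9, 14), (10, 10), (11, 21), (12, 7), (13, 8), (14, 9), (15, 25), (16, 26), (17, 27), (18, 28), (19, 20), (20, 19), (21, 11), (22, 41), (23, 42), (24, 43), (25, 15), (26, 16), (27, 17), (28, 18), (29, 61), (30, 64), (31, 53), (32, 54), (33, 55), (34, 56), (35, 57), (36, 58), (37, 38), (38, 37), (39, 81), (40, 84), (41, 22), (42, 23), (43, 24), (44, 87), (45, 88), (46, 89), (47, 90), (48, 62), (49, 51), (50, 65), (51, 49), (52, 108), (53, 31), (54, 32), (55, 33), (56, 34), (57, 35), (58, 36), (59, 123), (60, 126), (61, 29), (62, 48), (63, 107)]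
    ⟨e3 q0 L0 q0, e3 q1 L8 q1, e3 q2 L15 q2, e3 q3 L22 q3, e3 q4 L36 q6, e3 q5 L32 q5, e3 q6 (flp_a L36) q4, e3 q7 (flp_a L66) q12, e3 q8 (flp_a L70) q13, e3 q9 (flp_a L76) q14, e3 q10 L56 q10, e3 q11 L112 q21, e3 q12 L66 q7, e3 q13 L70 q8, e3 q14 L76 q9, e3 q15 (flp_a L132) q25, e3 q16 (flp_a L136) q26, e3 q17 (flp_a L141) q27, e3 q18 (flp_a L147) q28, e3 q19 (flp_a L106) q20, e3 q20 L106 q19, e3 q21 (flp_a L112) q11, e3 q22 (flp_a L214) q41, e3 q23 (flp_a L219) q42, e3 q24 (flp_a L224) q43, e3 q25 L132 q15, e3 q26 L136 q16, e3 q27 L141 q17, e3 q28 L147 q18, e3 q29 L325 q61, e3 q30 L341 q64, e3 q31 (flp_a L281) q53, e3 q32 (flp_a L287) q54, e3 q33 (flp_a L293) q55, e3 q34 (flp_a L299) q56, e3 q35 (flp_a L305) q57, e3 q36 (flp_a L312) q58, e3 q37 (flp_a L193) q38, e3 q38 L193 q37, e3 q39 L425 q81, e3 q40 L439 q84, e3 q41 L214 q22, e3 q42 L219 q23, e3 q43 L224 q24, e3 q44 (flp_a L477) q87, e3 q45 (flp_a L481) q88, e3 q46 (flp_a L487) q89, e3 q47 (flp_a L493) q90, e3 q48 (flp_a L336) q62, e3 q49 (flp_a L272) q51,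 e3 q50 (flp_a L65323) q65, e3 q51 L272 q49, e3 q52 L636 q108, e3 q53 L281 q31, e3 q54 L287 q32, e3 q55 L293 q33, e3 q56 L299 q34, e3 q57 L305 q35, e3 q58 L312 q36, e3 q59 L707 q123, e3 q60 L717 q126, e3 q61 (flp_a L325) q29, e3 q62 L336 q48, e3 q63 L632 q107, trivial⟩ (by decide +kernel)

theorem ce_a_1 : ∀ r, r < 64 → sm ga (Qf (64 + r)) = Qf (tab Gen.a (64 + r)) :=
  edges_tab (sm ga) Qf (tab Gen.a) 64 [(64, 30), (65, 50), (66, 105), (67, 113), (68, 114), (69, 115), (70, 116), (71, 117), (72, 118), (73, 73), (74, 76), (75, 75), (76, 74), (77, 78), (78, 77), (79, 155), (80, 158), (81, 39), (82, 161), (83, 162), (84, 40), (85, 164), (86, 165), (87, 44), (88, 45), (89, 46), (90, 47), (91, 91), (92, 92), (93, 176), (94, 168), (95, 169), (96, 170), (97, 171), (98, 172), (99, 173), (100, 130), (101, 103), (102, 133), (103, 101), (104, 131), (105, 66), (106, 134), (107, 63), (108, 52), (109, 202), (110, 203), (111, 204), (112, 205), (113, 67), (114, 68), (115, 69), (116, 70), (117, 71), (118, 72), (119, 226), (120, 229),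 (121, 232), (122, 235), (123, 59), (124, 239), (125, 200), (126, 60), (127, 244)]
    ⟨e3 q64 (flp_a L341) q30, e3 q65 L65323 q50, e3 q66 (flp_a L623) q105, e3 q67 (flp_a L653) q113, e3 q68 (flp_a L659) q114, e3 q69 (flp_a L667) q115, e3 q70 (flp_a L675) q116, e3 q71 (flp_a L679) q117, e3 q72 (flp_a L687) q118, e3 q73 L68470 q73, e3 q74 (flp_a L393) q76, e3 q75 L76113 q75, e3 q76 L393 q74, e3 q77 (flp_a L408) q78, e3 q78 L408 q77, e3 q79 L891 q155, e3 q80 L905 q158, e3 q81 (flp_a L425) q39, e3 q82 (flp_a L924) q161, e3 q83 (flp_a L930) q162, e3 q84 (flp_a L439) q40, e3 q85 (flp_a L953) q164, e3 q86 (flp_a L959) q165, e3 q87 L477 q44, e3 q88 L481 q45, e3 q89 L487 q46, e3 q90 L493 q47, e3 q91 L501 q91, e3 q92 L761 q92, e3 q93 L1164 q176, e3 q94 (flp_a L1027) q168, e3 q95 (flp_a L1031) q169, e3 q96 (flp_a L1037) q170, e3 q97 (flp_a L1043) q171, e3 q98 (flp_a L1049) q172, e3 q99 (flp_a L1056) q173, e3 q100 (flp_a L739) q130, e3 q101 (flp_a L592) q103, e3 q102 L65353 q133, e3 q103 L592 q101, e3 q104 (flp_a L746) q131,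 e3 q105 L623 q66, e3 q106 (flp_a L65334) q134, e3 q107 (flp_a L632) q63, e3 q108 (flp_a L636) q52, e3 q109 (flp_a L1336) q202, e3 q110 (flp_a L1341) q203, e3 q111 (flp_a L1345) q204, e3 q112 (flp_a L1349) q205, e3 q113 L653 q67, e3 q114 L659 q68, e3 q115 L667 q69, e3 q116 L675 q70, e3 q117 L679 q71, e3 q118 L687 q72, e3 q119 L1452 q226, e3 q120 L1460 q229, e3 q121 L1468 q232, e3 q122 L1482 q235, e3 q123 (flp_a L707) q59, e3 q124 (flp_a L1506) q239, e3 q125 L1305 q200, e3 q126 (flp_a L717) q60, e3 q127 (flp_a L1534) q244, trivial⟩ (by decide +kernel)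

theorem ce_a_2 : ∀ r, r < 64 → sm ga (Qf (128 + r)) = Qf (tab Gen.a (128 + r)) :=
  edges_tab (sm ga) Qf (tab Gen.a) 128 [(128, 197), (129, 129), (130, 100), (131, 104), (132, 132), (133, 102), (134, 106), (135, 216), (136, 217), (137, 218), (138, 138), (139, 141), (140, 140), (141, 139), (142, 221), (143, 222), (144, 223), (145, 145), (146, 148), (147, 147), (148, 146), (149, 149), (150, 275), (151, 151), (152, 278), (153, 280), (154, 283), (155, 79), (156, 286), (157, 287), (158, 80), (159, 289), (160, 290), (161, 82), (162, 83), (163, 292), (164, 85), (165, 86), (166, 293), (167, 167), (168, 94), (169, 95), (170, 96), (171, 97), (172, 98), (173, 99), (174, 174), (175, 175), (176, 93), (177, 304), (178, 305), (179, 306), (180, 307), (181, 296), (182, 297), (183, 298), (184, 299), (185, 300), (186, 301), (187, 332), (188, 190), (189, 336), (190, 188), (191, 249)]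
    ⟨e3 q128 L1276 q197, e3 q129 L735 q129, e3 q130 L739 q100, e3 q131 L746 q104, e3 q132 L758 q132, e3 q133 (flp_a L65353) q102, e3 q134 L65334 q106, e3 q135 (flp_a L1398) q216, e3 q136 (flp_a L1404) q217, e3 q137 (flp_a L1412) q218, e3 q138 L69913 q138, e3 q139 (flp_a L813) q141, e3 q140 L76123 q140, e3 q141 L813 q139, e3 q142 (flp_a L1428) q221, e3 q143 (flp_a L1434) q222, e3 q144 (flp_a L1440) q223, e3 q145 L68478 q145, e3 q146 (flp_a L853) q148, e3 q147 L80663 q147, e3 q148 L853 q146, e3 q149 L68462 q149, e3 q150 L1747 q275, e3 q151 L76104 q151, e3 q152 L1770 q278, e3 q153 L1780 q280, e3 q154 L1798 q283, e3 q155 (flp_a L891) q79, e3 q156 (flp_a L1818) q286, e3 q157 (flp_a L1823) q287, e3 q158 (flp_a L905) q80, e3 q159 (flp_a L1838) q289, e3 q160 (flp_a L1843) q290, e3 q161 L924 q82, e3 q162 L930 q83, e3 q163 (flp_a L1865) q292, e3 q164 L953 q85, e3 q165 L959 q86, e3 q166 (flp_a L1900) q293, e3 q167 L55074 q167, e3 q168 L1027 q94, e3 q169 L1031 q95, e3 q170 L1037 q96, e3 q171 L1043 q97, e3 q172 L1049 q98, e3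 q173 L1056 q99, e3 q174 L1066 q174, e3 q175 L1072 q175, e3 q176 (flp_a L1164) q93, e3 q177 (flp_a L2260) q304, e3 q178 (flp_a L2266) q305, e3 q179 (flp_a L2272) q306, e3 q180 (flp_a L2278) q307, e3 q181 (flp_a L2063) q296, e3 q182 (flp_a L2067) q297, e3 q183 (flp_a L2073) q298, e3 q184 (flp_a L2079) q299, e3 q185 (flp_a L2083) q300, e3 q186 (flp_a L2091) q301, e3 q187 L2428 q332, e3 q188 (flp_a L1228) q190, e3 q189 L2438 q336, e3 q190 L1228 q188, e3 q191 (flp_a L1560) q249, trivial⟩ (by decide +kernel)

theorem ce_a_3 : ∀ r, r < 64 → sm ga (Qf (192 + r)) = Qf (tab Gen.a (192 + r)) :=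
  edges_tab (sm ga) Qf (tab Gen.a) 192 [(192, 194), (193, 251), (194, 192), (195, 248), (196, 242), (197, 128), (198, 250), (199, 247), (200, 125), (201, 201), (202, 109), (203, 110), (204, 111), (205, 112), (206, 354), (207, 355), (208, 356), (209, 357), (210, 358), (211, 359), (212, 274), (213, 215), (214, 277), (215, 213), (216, 135), (217, 136), (218, 137), (219, 383), (220, 386), (221, 142), (222, 143), (223, 144), (224, 394), (225, 397), (226, 119), (227, 400), (228, 401), (229, 120), (230, 404), (231, 405), (232, 121), (233, 409), (234, 345), (235, 122), (236, 414), (237, 342), (238, 238), (239, 124), (240, 418), (241, 351), (242, 196), (243, 243), (244, 127), (245, 423), (246, 348), (247, 199), (248, 195), (249, 191), (250, 198), (251, 193), (252, 378), (253, 379), (254, 380), (255, 255)]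
    ⟨e3 q192 (flp_a L1257) q194, e3 q193 (flp_a L65315) q251, e3 q194 L1257 q192, e3 q195 (flp_a L1554) q248, e3 q196 (flp_a L1516) q242, e3 q197 (flp_a L1276) q128, e3 q198 (flp_a L65358) q250, e3 q199 (flp_a L1544) q247, e3 q200 (flp_a L1305) q125, e3 q201 L1333 q201, e3 q202 L1336 q109, e3 q203 L1341 q110, e3 q204 L1345 q111, e3 q205 L1349 q112, e3 q206 (flp_a L2588) q354, e3 q207 (flp_a L2593) q355, e3 q208 (flp_a L2600) q356, e3 q209 (flp_a L2607) q357, e3 q210 (flp_a L2611) q358, e3 q211 (flp_a L2617) q359, e3 q212 L81184 q274, e3 q213 (flp_a L1392) q215, e3 q214 (flp_a L82401) q277, e3 q215 L1392 q213, e3 q216 L1398 q135, e3 q217 L1404 q136, e3 q218 L1412 q137, e3 q219 L2759 q383, e3 q220 L2771 q386, e3 q221 L1428 q142, e3 q222 L1434 q143, e3 q223 L1440 q144, e3 q224 L2811 q394, e3 q225 L2825 q397, e3 q226 (flp_a L1452) q119, e3 q227 (flp_a L2843) q400, e3 q228 (flp_a L2847) q401, e3 q229 (flp_a L1460) q120, e3 q230 (flp_a L2869) q404, e3 q231 (flp_a L2873) q405, e3 q232 (flp_a L1468) q121, e3 q233 (flp_a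 L2902) q409, e3 q234 L2498 q345, e3 q235 (flp_a L1482) q122, e3 q236 (flp_a L2936) q414, e3 q237 L2464 q342, e3 q238 L1503 q238, e3 q239 L1506 q124, e3 q240 (flp_a L2969) q418, e3 q241 (flp_a L2536) q351, e3 q242 L1516 q196, e3 q243 L1531 q243, e3 q244 L1534 q127, e3 q245 (flp_a L2997) q423, e3 q246 (flp_a L2514) q348, e3 q247 L1544 q199, e3 q248 L1554 q195, e3 q249 L1560 q191, e3 q250 L65358 q198, e3 q251 L65315 q193, e3 q252 (flp_a L2731) q378, e3 q253 (flp_a L2737) q379, e3 q254 (flp_a L2745) q380, e3 q255 L69925 q255, trivial⟩ (by decide +kernel)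

theorem ce_a_4 : ∀ r, r < 64 → sm ga (Qf (256 + r)) = Qf (tab Gen.a (256 + r)) :=
  edges_tab (sm ga) Qf (tab Gen.a) 256 [(256, 258), (257, 257), (258, 256), (259, 259), (260, 446), (261, 261), (262, 447), (263, 448), (264, 390), (265, 391), (266, 266), (267, 269), (268, 268), (269, 267), (270, 270), (271, 462), (272, 272), (273, 465), (274, 212), (275, 150), (276, 469), (277, 214), (278, 152), (279, 473), (280, 153), (281, 475), (282, 476), (283, 154), (284, 479), (285, 480), (286, 156), (287, 157), (288, 483), (289, 159), (290, 160), (291, 485), (292, 163), (293, 166), (294, 294), (295, 295), (296, 181), (297, 182), (298, 183), (299, 184), (300, 185), (301, 186), (302, 302), (303, 303), (304, 177), (305, 178), (306, 179), (307, 180), (308, 498), (309, 499), (310, 500), (311, 501), (312, 502), (313, 503), (314, 520), (315, 317), (316, 524), (317, 315), (318, 492), (319, 493)]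
    ⟨e3 q256 (flp_a L1629) q258, e3 q257 L76136 q257, e3 q258 L1629 q256, e3 q259 L50594 q259, e3 q260 L3216 q446, e3 q261 L80655 q261, e3 q262 L3258 q447, e3 q263 L3272 q448, e3 q264 (flp_a L2789) q390, e3 q265 (flp_a L2797) q391, e3 q266 L68486 q266, e3 q267 (flp_a L1698) q269, e3 q268 L76224 q268, e3 q269 L1698 q267, e3 q270 L68503 q270, e3 q271 L3352 q462, e3 q272 L76093 q272, e3 q273 L3387 q465, e3 q274 (flp_a L81184) q212, e3 q275 (flp_a L1747) q150, e3 q276 (flp_a L3430) q469, e3 q277 L82401 q214, e3 q278 (flp_a L1770) q152, e3 q279 (flp_a L3479) q473, e3 q280 (flp_a L1780) q153, e3 q281 (flp_a L3503) q475, e3 q282 (flp_a L3510) q476, e3 q283 (flp_a L1798) q154, e3 q284 (flp_a L3528) q479, e3 q285 (flp_a L3535) q480, e3 q286 L1818 q156, e3 q287 L1823 q157, e3 q288 (flp_a L3562) q483, e3 q289 L1838 q159, e3 q290 L1843 q160, e3 q291 (flp_a L3591) q485, e3 q292 L1865 q163, e3 q293 L1900 q166, e3 q294 L67061 q294, e3 q295 L66468 q295, e3 q296 L2063 q181, e3 q297 L2067 q182, e3 q298 L2073 q183, e3 q299 L2079 q184,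 e3 q300 L2083 q185, e3 q301 L2091 q186, e3 q302 L2107 q302, e3 q303 L2114 q303, e3 q304 L2260 q177, e3 q305 L2266 q178, e3 q306 L2272 q179, e3 q307 L2278 q180, e3 q308 (flp_a L4347) q498, e3 q309 (flp_a L4353) q499, e3 q310 (flp_a L4361) q500, e3 q311 (flp_a L4369) q501, e3 q312 (flp_a L4373) q502, e3 q313 (flp_a L4381) q503, e3 q314 L4473 q520, e3 q315 (flp_a L2326) q317, e3 q316 L4487 q524, e3 q317 L2326 q315, e3 q318 (flp_a L3989) q492, e3 q319 (flp_a L3995) q493, trivial⟩ (by decide +kernel)

theorem ce_a_5 : ∀ r, r < 64 → sm ga (Qf (320 + r)) = Qf (tab Gen.a (320 + r)) :=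
  edges_tab (sm ga) Qf (tab Gen.a) 320 [(320, 494), (321, 535), (322, 324), (323, 539), (324, 322), (325, 495), (326, 496), (327, 497), (328, 550), (329, 331), (330, 554), (331, 329), (332, 187), (333, 559), (334, 527), (335, 564), (336, 189), (337, 567), (338, 523), (339, 572), (340, 430), (341, 412), (342, 237), (343, 433), (344, 417), (345, 234), (346, 429), (347, 422), (348, 246), (349, 432), (350, 427), (351, 241), (352, 352), (353, 353), (354, 206), (355, 207), (356, 208), (357, 209), (358, 210), (359, 211), (360, 591), (361, 592), (362, 593), (363, 384), (364, 366), (365, 387), (366, 364), (367, 594), (368, 595), (369, 596), (370, 461), (371, 373), (372, 464), (373, 371), (374, 467), (375, 619), (376, 471), (377, 622), (378, 252), (379, 253), (380, 254), (381, 630), (382, 633), (383, 219)]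
    ⟨e3 q320 (flp_a L4001) q494, e3 q321 L4585 q535, e3 q322 (flp_a L2386) q324, e3 q323 L4599 q539, e3 q324 L2386 q322, e3 q325 (flp_a L4015) q495, e3 q326 (flp_a L4021) q496, e3 q327 (flp_a L4027) q497, e3 q328 L4645 q550, e3 q329 (flp_a L2420) q331, e3 q330 L4663 q554, e3 q331 L2420 q329, e3 q332 (flp_a L2428) q187, e3 q333 (flp_a L4685) q559, e3 q334 (flp_a L81539) q527, e3 q335 L4711 q564, e3 q336 (flp_a L2438) q189, e3 q337 (flp_a L4725) q567, e3 q338 L81734 q523, e3 q339 L4751 q572, e3 q340 (flp_a L3030) q430, e3 q341 (flp_a L2916) q412, e3 q342 (flp_a L2464) q237, e3 q343 L65496 q433, e3 q344 (flp_a L2950) q417, e3 q345 (flp_a L2498) q234, e3 q346 (flp_a L3022) q429, e3 q347 (flp_a L2981) q422, e3 q348 L2514 q246, e3 q349 (flp_a L65540) q432, e3 q350 (flp_a L3011) q427, e3 q351 L2536 q241, e3 q352 L2572 q352, e3 q353 L2577 q353, e3 q354 L2588 q206, e3 q355 L2593 q207, e3 q356 L2600 q208, e3 q357 L2607 q209, e3 q358 L2611 q210, e3 q359 L2617 q211, e3 q360 (flp_a L4981) q591, e3 q361 (flp_a L4987) q592, e3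 q362 (flp_a L4994) q593, e3 q363 L69754 q384, e3 q364 (flp_a L2662) q366, e3 q365 L82442 q387, e3 q366 L2662 q364, e3 q367 (flp_a L5009) q594, e3 q368 (flp_a L5013) q595, e3 q369 (flp_a L5019) q596, e3 q370 L81347 q461, e3 q371 (flp_a L2699) q373, e3 q372 (flp_a L82273) q464, e3 q373 L2699 q371, e3 q374 (flp_a L80952) q467, e3 q375 L5227 q619, e3 q376 (flp_a L82240) q471, e3 q377 L5255 q622, e3 q378 L2731 q252, e3 q379 L2737 q253, e3 q380 L2745 q254, e3 q381 L5302 q630, e3 q382 L5316 q633, e3 q383 (flp_a L2759) q219, trivial⟩ (by decide +kernel)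

theorem ce_a_6 : ∀ r, r < 64 → sm ga (Qf (384 + r)) = Qf (tab Gen.a (384 + r)) :=
  edges_tab (sm ga) Qf (tab Gen.a) 384 [(384, 363), (385, 636), (386, 220), (387, 365), (388, 637), (389, 638), (390, 264), (391, 265), (392, 643), (393, 646), (394, 224), (395, 649), (396, 650), (397, 225), (398, 653), (399, 654), (400, 227), (401, 228), (402, 658), (403, 659), (404, 230), (405, 231), (406, 664), (407, 665), (408, 408), (409, 233), (410, 669), (411, 579), (412, 341), (413, 413), (414, 236), (415, 675), (416, 576), (417, 344), (418, 240), (419, 681), (420, 587), (421, 685), (422, 347), (423, 245), (424, 688), (425, 583), (426, 692), (427, 350), (428, 428), (429, 346), (430, 340), (431, 431), (432, 349), (433, 343), (434, 705), (435, 625), (436, 626), (437, 627), (438, 438), (439, 441), (440, 440), (441, 439), (442, 442), (443, 721), (444, 444), (445, 722), (446, 260), (447, 262)]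
    ⟨e3 q384 (flp_a L69754) q363, e3 q385 (flp_a L5340) q636, e3 q386 (flp_a L2771) q220, e3 q387 (flp_a L82442) q365, e3 q388 (flp_a L5372) q637, e3 q389 L5394 q638, e3 q390 L2789 q264, e3 q391 L2797 q265, e3 q392 L5414 q643, e3 q393 L5424 q646, e3 q394 (flp_a L2811) q224, e3 q395 (flp_a L5440) q649, e3 q396 (flp_a L5446) q650, e3 q397 (flp_a L2825) q225, e3 q398 (flp_a L5476) q653, e3 q399 (flp_a L5482) q654, e3 q400 L2843 q227, e3 q401 L2847 q228, e3 q402 (flp_a L5521) q658, e3 q403 (flp_a L5525) q659, e3 q404 L2869 q230, e3 q405 L2873 q231, e3 q406 (flp_a L5571) q664, e3 q407 (flp_a L5575) q665, e3 q408 L2899 q408, e3 q409 L2902 q233, e3 q410 (flp_a L5621) q669, e3 q411 (flp_a L4801) q579, e3 q412 L2916 q341, e3 q413 L2933 q413, e3 q414 L2936 q236, e3 q415 (flp_a L5661) q675, e3 q416 (flp_a L4773) q576, e3 q417 L2950 q344, e3 q418 L2969 q240, e3 q419 (flp_a L5711) q681, e3 q420 (flp_a L4858) q587, e3 q421 L5731 q685, e3 q422 L2981 q347, e3 q423 L2997 q245, e3 q424 (flp_a L5763) q688, e3 q425 (flp_a L4825) q583,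 e3 q426 L5793 q692, e3 q427 L3011 q350, e3 q428 L58161 q428, e3 q429 L3022 q346, e3 q430 L3030 q340, e3 q431 L82099 q431, e3 q432 L65540 q349, e3 q433 (flp_a L65496) q343, e3 q434 L5939 q705, e3 q435 (flp_a L5269) q625, e3 q436 (flp_a L5276) q626, e3 q437 (flp_a L5284) q627, e3 q438 L68527 q438, e3 q439 (flp_a L3142) q441, e3 q440 L80648 q440, e3 q441 L3142 q439, e3 q442 L50603 q442, e3 q443 L6076 q721, e3 q444 L80650 q444, e3 q445 L6124 q722, e3 q446 (flp_a L3216) q260, e3 q447 (flp_a L3258) q262, trivial⟩ (by decide +kernel)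

theorem ce_a_7 : ∀ r, r < 64 → sm ga (Qf (448 + r)) = Qf (tab Gen.a (448 + r)) :=
  edges_tab (sm ga) Qf (tab Gen.a) 448 [(448, 263), (449, 726), (450, 727), (451, 732), (452, 454), (453, 736), (454, 452), (455, 455), (456, 456), (457, 743), (458, 458), (459, 459), (460, 748), (461, 370), (462, 271), (463, 752), (464, 372), (465, 273), (466, 756), (467, 374), (468, 759), (469, 276), (470, 762), (471, 376), (472, 765), (473, 279), (474, 768), (475, 281), (476, 282), (477, 770), (478, 771), (479, 284), (480, 285), (481, 775), (482, 776), (483, 288), (484, 781), (485, 291), (486, 784), (487, 487), (488, 488), (489, 489), (490, 490), (491, 491), (492, 318), (493, 319), (494, 320), (495, 325), (496, 326), (497, 327), (498, 308), (499, 309), (500, 310), (501, 311), (502, 312), (503, 313), (504, 504), (505, 505), (506, 796), (507, 797), (508, 798), (509, 536), (510, 512), (511, 540)]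
    ⟨e3 q448 (flp_a L3272) q263, e3 q449 (flp_a L6324) q726, e3 q450 (flp_a L6329) q727, e3 q451 L6352 q732, e3 q452 (flp_a L3293) q454, e3 q453 L6362 q736, e3 q454 L3293 q452, e3 q455 L68525 q455, e3 q456 L68519 q456, e3 q457 L6404 q743, e3 q458 L76192 q458, e3 q459 L80660 q459, e3 q460 L6446 q748, e3 q461 (flp_a L81347) q370, e3 q462 (flp_a L3352) q271, e3 q463 (flp_a L6503) q752, e3 q464 L82273 q372, e3 q465 (flp_a L3387) q273, e3 q466 (flp_a L6578) q756, e3 q467 L80952 q374, e3 q468 L6671 q759, e3 q469 L3430 q276, e3 q470 (flp_a L6683) q762, e3 q471 L82240 q376, e3 q472 L6786 q765, e3 q473 L3479 q279, e3 q474 (flp_a L6800) q768, e3 q475 L3503 q281, e3 q476 L3510 q282, e3 q477 (flp_a L6846) q770, e3 q478 (flp_a L6851) q771, e3 q479 L3528 q284, e3 q480 L3535 q285, e3 q481 (flp_a L6883) q775, e3 q482 (flp_a L6888) q776, e3 q483 L3562 q288, e3 q484 L6959 q781, e3 q485 L3591 q291, e3 q486 L7014 q784, e3 q487 L3671 q487, e3 q488 L3719 q488, e3 q489 L62673 q489, e3 q490 L67064 q490, e3 q491 L67123 q491, e3 q492 L3989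 q318, e3 q493 L3995 q319, e3 q494 L4001 q320, e3 q495 L4015 q325, e3 q496 L4021 q326, e3 q497 L4027 q327, e3 q498 L4347 q308, e3 q499 L4353 q309, e3 q500 L4361 q310, e3 q501 L4369 q311, e3 q502 L4373 q312, e3 q503 L4381 q313, e3 q504 L58447 q504, e3 q505 L78704 q505, e3 q506 (flp_a L8513) q796, e3 q507 (flp_a L8519) q797, e3 q508 (flp_a L8527) q798, e3 q509 (flp_a L69500) q536, e3 q510 (flp_a L4425) q512, e3 q511 L82510 q540, trivial⟩ (by decide +kernel)

theorem ce_a_8 : ∀ r, r < 64 → sm ga (Qf (512 + r)) = Qf (tab Gen.a (512 + r)) :=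
  edges_tab (sm ga) Qf (tab Gen.a) 512 [(512, 510), (513, 801), (514, 802), (515, 803), (516, 825), (517, 519), (518, 829), (519, 517), (520, 314), (521, 833), (522, 563), (523, 338), (524, 316), (525, 837), (526, 571), (527, 334), (528, 790), (529, 791), (530, 792), (531, 849), (532, 534), (533, 853), (534, 532), (535, 321), (536, 509), (537, 816), (538, 860), (539, 323), (540, 511), (541, 814), (542, 865), (543, 867), (544, 794), (545, 795), (546, 874), (547, 549), (548, 878), (549, 547), (550, 328), (551, 883), (552, 832), (553, 888), (554, 330), (555, 891), (556, 828), (557, 896), (558, 558), (559, 333), (560, 898), (561, 840), (562, 903), (563, 522), (564, 335), (565, 905), (566, 566), (567, 337), (568, 907), (569, 836), (570, 912), (571, 526), (572, 339), (573, 914), (574, 699), (575, 674)]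
    ⟨e3 q512 L4425 q510, e3 q513 (flp_a L8543) q801, e3 q514 (flp_a L8547) q802, e3 q515 (flp_a L8553) q803, e3 q516 L8707 q825, e3 q517 (flp_a L4465) q519, e3 q518 L8729 q829, e3 q519 L4465 q517, e3 q520 (flp_a L4473) q314, e3 q521 (flp_a L8755) q833, e3 q522 (flp_a L4707) q563, e3 q523 (flp_a L81734) q338, e3 q524 (flp_a L4487) q316, e3 q525 (flp_a L8787) q837, e3 q526 (flp_a L4747) q571, e3 q527 L81539 q334, e3 q528 (flp_a L7751) q790, e3 q529 (flp_a L7757) q791, e3 q530 (flp_a L7765) q792, e3 q531 L8977 q849, e3 q532 (flp_a L4579) q534, e3 q533 L8993 q853, e3 q534 L4579 q532, e3 q535 (flp_a L4585) q321, e3 q536 L69500 q509, e3 q537 L81531 q816, e3 q538 L9045 q860, e3 q539 (flp_a L4599) q323, e3 q540 (flp_a L82510) q511, e3 q541 (flp_a L81639) q814, e3 q542 L9093 q865, e3 q543 L9105 q867, e3 q544 (flp_a L7805) q794, e3 q545 (flp_a L7813) q795, e3 q546 L9131 q874, e3 q547 (flp_a L4639) q549, e3 q548 L9145 q878, e3 q549 L4639 q547, e3 q550 (flp_a L4645) q328, e3 q551 (flp_a L9165) q883, e3 q552 (flp_a L81590) q832,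 e3 q553 L9201 q888, e3 q554 (flp_a L4663) q330, e3 q555 (flp_a L9223) q891, e3 q556 L81634 q828, e3 q557 L9259 q896, e3 q558 L66249 q558, e3 q559 L4685 q333, e3 q560 (flp_a L9287) q898, e3 q561 L81533 q840, e3 q562 L9323 q903, e3 q563 L4707 q522, e3 q564 (flp_a L4711) q335, e3 q565 (flp_a L9339) q905, e3 q566 L78714 q566, e3 q567 L4725 q337, e3 q568 (flp_a L9375) q907, e3 q569 (flp_a L81811) q836, e3 q570 L9409 q912, e3 q571 L4747 q526, e3 q572 (flp_a L4751) q339, e3 q573 (flp_a L9425) q914, e3 q574 (flp_a L5831) q699, e3 q575 (flp_a L5639) q674, trivial⟩ (by decide +kernel)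

theorem ce_a_9 : ∀ r, r < 64 → sm ga (Qf (576 + r)) = Qf (tab Gen.a (576 + r)) :=
  edges_tab (sm ga) Qf (tab Gen.a) 576 [(576, 416), (577, 704), (578, 680), (579, 411), (580, 698), (581, 684), (582, 928), (583, 425), (584, 703), (585, 691), (586, 933), (587, 420), (588, 588), (589, 589), (590, 590), (591, 360), (592, 361), (593, 362), (594, 367), (595, 368), (596, 369), (597, 940), (598, 941), (599, 942), (600, 631), (601, 603), (602, 634), (603, 601), (604, 957), (605, 959), (606, 961), (607, 944), (608, 945), (609, 946), (610, 742), (611, 613), (612, 747), (613, 611), (614, 750), (615, 978), (616, 754), (617, 981), (618, 758), (619, 375), (620, 906), (621, 764), (622, 377), (623, 915), (624, 985), (625, 435), (626, 436), (627, 437), (628, 993), (629, 996), (630, 381), (631, 600), (632, 999), (633, 382), (634, 602), (635, 1001), (636, 385), (637, 388), (638, 389), (639, 1004)]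
    ⟨e3 q576 L4773 q416, e3 q577 (flp_a L65645) q704, e3 q578 (flp_a L5679) q680, e3 q579 L4801 q411, e3 q580 (flp_a L5823) q698, e3 q581 (flp_a L5723) q684, e3 q582 L9524 q928, e3 q583 L4825 q425, e3 q584 L65480 q703, e3 q585 (flp_a L5787) q691, e3 q586 L9587 q933, e3 q587 L4858 q420, e3 q588 L4934 q588, e3 q589 L4938 q589, e3 q590 L4953 q590, e3 q591 L4981 q360, e3 q592 L4987 q361, e3 q593 L4994 q362, e3 q594 L5009 q367, e3 q595 L5013 q368, e3 q596 L5019 q369, e3 q597 (flp_a L9815) q940, e3 q598 (flp_a L9821) q941, e3 q599 (flp_a L9829) q942, e3 q600 (flp_a L69733) q631, e3 q601 (flp_a L5080) q603, e3 q602 (flp_a L82447) q634, e3 q603 L5080 q601, e3 q604 L10086 q957, e3 q605 L10124 q959, e3 q606 L10137 q961, e3 q607 (flp_a L9869) q944, e3 q608 (flp_a L9875) q945, e3 q609 (flp_a L9881) q946, e3 q610 L81340 q742, e3 q611 (flp_a L5159) q613, e3 q612 L82264 q747, e3 q613 L5159 q611, e3 q614 (flp_a L80966) q750, e3 q615 L10253 q978, e3 q616 L82269 q754, e3 q617 L10295 q981, e3 q618 L80948 q758, e3 q619 (flp_a L5227)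 q375, e3 q620 L141711 q906, e3 q621 L82235 q764, e3 q622 (flp_a L5255) q377, e3 q623 (flp_a L141241) q915, e3 q624 L10463 q985, e3 q625 L5269 q435, e3 q626 L5276 q436, e3 q627 L5284 q437, e3 q628 L10507 q993, e3 q629 L10523 q996, e3 q630 (flp_a L5302) q381, e3 q631 L69733 q600, e3 q632 (flp_a L10551) q999, e3 q633 (flp_a L5316) q382, e3 q634 L82447 q602, e3 q635 (flp_a L10587) q1001, e3 q636 L5340 q385, e3 q637 L5372 q388, e3 q638 (flp_a L5394) q389, e3 q639 (flp_a L10739) q1004, trivial⟩ (by decide +kernel)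

theorem ce_a_10 : ∀ r, r < 64 → sm ga (Qf (640 + r)) = Qf (tab Gen.a (640 + r)) :=
  edges_tab (sm ga) Qf (tab Gen.a) 640 [(640, 1005), (641, 1010), (642, 1013), (643, 392), (644, 1016), (645, 1017), (646, 393), (647, 1020), (648, 1021), (649, 395), (650, 396), (651, 1025), (652, 1026), (653, 398), (654, 399), (655, 1032), (656, 1033), (657, 657), (658, 402), (659, 403), (660, 1038), (661, 687), (662, 1041), (663, 663), (664, 406), (665, 407), (666, 1042), (667, 694), (668, 1045), (669, 410), (670, 1046), (671, 1047), (672, 925), (673, 1054), (674, 575), (675, 415), (676, 1057), (677, 1058), (678, 920), (679, 1065), (680, 578), (681, 419), (682, 935), (683, 1070), (684, 581), (685, 421), (686, 782), (687, 661), (688, 424), (689, 930), (690, 1071), (691, 585), (692, 426), (693, 785), (694, 667), (695, 695), (696, 696), (697, 697), (698, 580), (699, 574), (700, 700), (701, 701), (702, 702), (703, 584)]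
    ⟨e3 q640 (flp_a L10745) q1005, e3 q641 L10775 q1010, e3 q642 L10787 q1013, e3 q643 (flp_a L5414) q392, e3 q644 (flp_a L10805) q1016, e3 q645 (flp_a L10809) q1017, e3 q646 (flp_a L5424) q393, e3 q647 (flp_a L10835) q1020, e3 q648 (flp_a L10839) q1021, e3 q649 L5440 q395, e3 q650 L5446 q396, e3 q651 (flp_a L10884) q1025, e3 q652 (flp_a L10888) q1026, e3 q653 L5476 q398, e3 q654 L5482 q399, e3 q655 (flp_a L10956) q1032, e3 q656 (flp_a L10960) q1033, e3 q657 L70875 q657, e3 q658 L5521 q402, e3 q659 L5525 q403, e3 q660 (flp_a L11066) q1038, e3 q661 L142578 q687, e3 q662 L11133 q1041, e3 q663 L82641 q663, e3 q664 L5571 q406, e3 q665 L5575 q407, e3 q666 (flp_a L11212) q1042, e3 q667 (flp_a L140371) q694, e3 q668 L11268 q1045, e3 q669 L5621 q410, e3 q670 (flp_a L11316) q1046, e3 q671 (flp_a L11322) q1047, e3 q672 (flp_a L9508) q925, e3 q673 L11354 q1054, e3 q674 L5639 q575, e3 q675 L5661 q415, e3 q676 (flp_a L11398) q1057, e3 q677 (flp_a L11404) q1058, e3 q678 (flp_a L9469) q920, e3 q679 L11436 q1065, e3 q680 L5679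 q578, e3 q681 L5711 q419, e3 q682 (flp_a L9599) q935, e3 q683 L11529 q1070, e3 q684 L5723 q581, e3 q685 (flp_a L5731) q421, e3 q686 (flp_a L82045) q782, e3 q687 (flp_a L142578) q661, e3 q688 L5763 q424, e3 q689 (flp_a L9534) q930, e3 q690 L83176 q1071, e3 q691 L5787 q585, e3 q692 (flp_a L5793) q426, e3 q693 (flp_a L81991) q785, e3 q694 L140371 q667, e3 q695 L64951 q695, e3 q696 L58129 q696, e3 q697 L58144 q697, e3 q698 L5823 q580, e3 q699 L5831 q574, e3 q700 L78043 q700, e3 q701 L78014 q701, e3 q702 L78028 q702, e3 q703 (flp_a L65480) q584, trivial⟩ (by decide +kernel)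

theorem ce_a_11 : ∀ r, r < 64 → sm ga (Qf (704 + r)) = Qf (tab Gen.a (704 + r)) :=
  edges_tab (sm ga) Qf (tab Gen.a) 704 [(704, 577), (705, 434), (706, 1087), (707, 1088), (708, 1089), (709, 989), (710, 990), (711, 1101), (712, 714), (713, 1105), (714, 712), (715, 715), (716, 716), (717, 1111), (718, 718), (719, 719), (720, 1115), (721, 443), (722, 445), (723, 1119), (724, 1121), (725, 1123), (726, 449), (727, 450), (728, 1129), (729, 731), (730, 1133), (731, 729), (732, 451), (733, 1138), (734, 1139), (735, 1144), (736, 453), (737, 1148), (738, 1149), (739, 1154), (740, 740), (741, 741), (742, 610), (743, 457), (744, 1162), (745, 745), (746, 746), (747, 612), (748, 460), (749, 1169), (750, 614), (751, 1172), (752, 463), (753, 1175), (754, 616), (755, 1179), (756, 466), (757, 1182), (758, 618), (759, 468), (760, 1186), (761, 1189), (762, 470), (763, 1191), (764, 621), (765, 472), (766, 1193), (767, 1196)]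
    ⟨e3 q704 L65645 q577, e3 q705 (flp_a L5939) q434, e3 q706 (flp_a L11974) q1087, e3 q707 (flp_a L11978) q1088, e3 q708 (flp_a L11985) q1089, e3 q709 (flp_a L10483) q989, e3 q710 (flp_a L10492) q990, e3 q711 L12055 q1101, e3 q712 (flp_a L5986) q714, e3 q713 L12073 q1105, e3 q714 L5986 q712, e3 q715 L50645 q715, e3 q716 L68522 q716, e3 q717 L12131 q1111, e3 q718 L76180 q718, e3 q719 L76162 q719, e3 q720 L12189 q1115, e3 q721 (flp_a L6076) q443, e3 q722 (flp_a L6124) q445, e3 q723 L12553 q1119, e3 q724 L12745 q1121, e3 q725 L12815 q1123, e3 q726 L6324 q449, e3 q727 L6329 q450, e3 q728 L12828 q1129, e3 q729 (flp_a L6347) q731, e3 q730 L12841 q1133, e3 q731 L6347 q729, e3 q732 (flp_a L6352) q451, e3 q733 (flp_a L12858) q1138, e3 q734 (flp_a L12862) q1139, e3 q735 L12884 q1144, e3 q736 (flp_a L6362) q453, e3 q737 (flp_a L12898) q1148, e3 q738 (flp_a L12902) q1149, e3 q739 L12926 q1154, e3 q740 L50685 q740, e3 q741 L50667 q741, e3 q742 (flp_a L81340) q610, e3 q743 (flp_a L6404) q457, e3 q744 (flp_a L13005) q1162, e3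 q745 L76204 q745, e3 q746 L80615 q746, e3 q747 (flp_a L82264) q612, e3 q748 (flp_a L6446) q460, e3 q749 (flp_a L13094) q1169, e3 q750 L80966 q614, e3 q751 L13209 q1172, e3 q752 L6503 q463, e3 q753 (flp_a L13233) q1175, e3 q754 (flp_a L82269) q616, e3 q755 L13380 q1179, e3 q756 L6578 q466, e3 q757 (flp_a L13406) q1182, e3 q758 (flp_a L80948) q618, e3 q759 (flp_a L6671) q468, e3 q760 (flp_a L13610) q1186, e3 q761 L13642 q1189, e3 q762 L6683 q470, e3 q763 (flp_a L13660) q1191, e3 q764 (flp_a L82235) q621, e3 q765 (flp_a L6786) q472, e3 q766 (flp_a L13874) q1193, e3 q767 L13900 q1196, trivial⟩ (by decide +kernel)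

theorem ce_a_12 : ∀ r, r < 64 → sm ga (Qf (768 + r)) = Qf (tab Gen.a (768 + r)) :=
  edges_tab (sm ga) Qf (tab Gen.a) 768 [(768, 474), (769, 1198), (770, 477), (771, 478), (772, 1199), (773, 1200), (774, 1205), (775, 481), (776, 482), (777, 1207), (778, 1208), (779, 1213), (780, 1190), (781, 484), (782, 686), (783, 1197), (784, 486), (785, 693), (786, 786), (787, 787), (788, 788), (789, 789), (790, 528), (791, 529), (792, 530), (793, 1224), (794, 544), (795, 545), (796, 506), (797, 507), (798, 508), (799, 799), (800, 800), (801, 513), (802, 514), (803, 515), (804, 804), (805, 805), (806, 1229), (807, 1230), (808, 1231), (809, 850), (810, 812), (811, 854), (812, 810), (813, 858), (814, 541), (815, 863), (816, 537), (817, 1251), (818, 965), (819, 1235), (820, 1236), (821, 1262), (822, 824), (823, 1266), (824, 822), (825, 516), (826, 1270), (827, 887), (828, 556), (829, 518), (830, 1274), (831, 895)]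
    ⟨e3 q768 L6800 q474, e3 q769 (flp_a L13918) q1198, e3 q770 L6846 q477, e3 q771 L6851 q478, e3 q772 (flp_a L14007) q1199, e3 q773 (flp_a L14021) q1200, e3 q774 L14052 q1205, e3 q775 L6883 q481, e3 q776 L6888 q482, e3 q777 (flp_a L14083) q1207, e3 q778 (flp_a L14097) q1208, e3 q779 L14130 q1213, e3 q780 (flp_a L52135) q1190, e3 q781 (flp_a L6959) q484, e3 q782 L82045 q686, e3 q783 L81939 q1197, e3 q784 (flp_a L7014) q486, e3 q785 L81991 q693, e3 q786 L62701 q786, e3 q787 L63078 q787, e3 q788 L66546 q788, e3 q789 L65911 q789, e3 q790 L7751 q528, e3 q791 L7757 q529, e3 q792 L7765 q530, e3 q793 L15912 q1224, e3 q794 L7805 q544, e3 q795 L7813 q545, e3 q796 L8513 q506, e3 q797 L8519 q507, e3 q798 L8527 q508, e3 q799 L58455 q799, e3 q800 L78677 q800, e3 q801 L8543 q513, e3 q802 L8547 q514, e3 q803 L8553 q515, e3 q804 L58424 q804, e3 q805 L78762 q805, e3 q806 (flp_a L17473) q1229, e3 q807 (flp_a L17479) q1230, e3 q808 (flp_a L17487) q1231, e3 q809 (flp_a L69488) q850, e3 q810 (flp_a L8623) q812, e3 q811 (flp_a L78807)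 q854, e3 q812 L8623 q810, e3 q813 (flp_a L69509) q858, e3 q814 L81639 q541, e3 q815 (flp_a L82524) q863, e3 q816 (flp_a L81531) q537, e3 q817 L17804 q1251, e3 q818 (flp_a L10155) q965, e3 q819 (flp_a L17529) q1235, e3 q820 (flp_a L17535) q1236, e3 q821 L17848 q1262, e3 q822 (flp_a L8701) q824, e3 q823 L17866 q1266, e3 q824 L8701 q822, e3 q825 (flp_a L8707) q516, e3 q826 (flp_a L17890) q1270, e3 q827 (flp_a L9195) q887, e3 q828 (flp_a L81634) q556, e3 q829 (flp_a L8729) q518, e3 q830 (flp_a L17936) q1274, e3 q831 (flp_a L9253) q895, trivial⟩ (by decide +kernel)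

theorem ce_a_13 : ∀ r, r < 64 → sm ga (Qf (832 + r)) = Qf (tab Gen.a (832 + r)) :=
  edges_tab (sm ga) Qf (tab Gen.a) 832 [(832, 552), (833, 521), (834, 1279), (835, 902), (836, 569), (837, 525), (838, 1283), (839, 911), (840, 561), (841, 1286), (842, 1221), (843, 1222), (844, 1223), (845, 1296), (846, 848), (847, 1300), (848, 846), (849, 531), (850, 809), (851, 1250), (852, 1308), (853, 533), (854, 811), (855, 1248), (856, 1314), (857, 857), (858, 813), (859, 1316), (860, 538), (861, 1318), (862, 862), (863, 815), (864, 1319), (865, 542), (866, 1321), (867, 543), (868, 1323), (869, 1324), (870, 1329), (871, 873), (872, 1333), (873, 871), (874, 546), (875, 1338), (876, 1269), (877, 1343), (878, 548), (879, 1346), (880, 1265), (881, 1351), (882, 882), (883, 551), (884, 1353), (885, 1277), (886, 1359), (887, 827), (888, 553), (889, 1361), (890, 890), (891, 555), (892, 1363), (893, 1273), (894, 1369), (895, 831)]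
    ⟨e3 q832 L81590 q552, e3 q833 L8755 q521, e3 q834 (flp_a L17991) q1279, e3 q835 (flp_a L9317) q902, e3 q836 L81811 q569, e3 q837 L8787 q525, e3 q838 (flp_a L18063) q1283, e3 q839 (flp_a L9403) q911, e3 q840 (flp_a L81533) q561, e3 q841 L18389 q1286, e3 q842 (flp_a L15796) q1221, e3 q843 (flp_a L15802) q1222, e3 q844 (flp_a L15810) q1223, e3 q845 L18439 q1296, e3 q846 (flp_a L8969) q848, e3 q847 L18461 q1300, e3 q848 L8969 q846, e3 q849 (flp_a L8977) q531, e3 q850 L69488 q809, e3 q851 (flp_a L81491) q1250, e3 q852 L18523 q1308, e3 q853 (flp_a L8993) q533, e3 q854 L78807 q811, e3 q855 (flp_a L81440) q1248, e3 q856 L18577 q1314, e3 q857 L55269 q857, e3 q858 L69509 q813, e3 q859 L18641 q1316, e3 q860 (flp_a L9045) q538, e3 q861 (flp_a L18665) q1318, e3 q862 L78867 q862, e3 q863 L82524 q815, e3 q864 L18739 q1319, e3 q865 (flp_a L9093) q542, e3 q866 (flp_a L18763) q1321, e3 q867 (flp_a L9105) q543, e3 q868 (flp_a L18791) q1323, e3 q869 (flp_a L18795) q1324, e3 q870 L18815 q1329, e3 q871 (flp_a L9123) q873, e3 q872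 L18825 q1333, e3 q873 L9123 q871, e3 q874 (flp_a L9131) q546, e3 q875 (flp_a L18843) q1338, e3 q876 L81603 q1269, e3 q877 L18873 q1343, e3 q878 (flp_a L9145) q548, e3 q879 (flp_a L18891) q1346, e3 q880 L81630 q1265, e3 q881 L18921 q1351, e3 q882 L55222 q882, e3 q883 L9165 q551, e3 q884 (flp_a L18955) q1353, e3 q885 L81546 q1277, e3 q886 L18999 q1359, e3 q887 L9195 q827, e3 q888 (flp_a L9201) q553, e3 q889 (flp_a L19025) q1361, e3 q890 L78724 q890, e3 q891 L9223 q555, e3 q892 (flp_a L19079) q1363, e3 q893 (flp_a L81769) q1273, e3 q894 L19123 q1369, e3 q895 L9253 q831, trivial⟩ (by decide +kernel)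

theorem ce_a_14 : ∀ r, r < 64 → sm ga (Qf (896 + r)) = Qf (tab Gen.a (896 + r)) :=
  edges_tab (sm ga) Qf (tab Gen.a) 896 [(896, 557), (897, 1371), (898, 560), (899, 1373), (900, 1285), (901, 1377), (902, 835), (903, 562), (904, 1188), (905, 565), (906, 620), (907, 568), (908, 1379), (909, 1281), (910, 1383), (911, 839), (912, 570), (913, 1195), (914, 573), (915, 623), (916, 1080), (917, 1079), (918, 1053), (919, 1390), (920, 678), (921, 1085), (922, 1084), (923, 1064), (924, 1399), (925, 672), (926, 1069), (927, 929), (928, 582), (929, 927), (930, 689), (931, 1074), (932, 934), (933, 586), (934, 932), (935, 682), (936, 936), (937, 937), (938, 938), (939, 939), (940, 597), (941, 598), (942, 599), (943, 1412), (944, 607), (945, 608), (946, 609), (947, 1421), (948, 1409), (949, 1410), (950, 1411), (951, 1000), (952, 954), (953, 1002), (954, 952), (955, 1435), (956, 1437), (957, 604), (958, 1439), (959, 605)]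
    ⟨e3 q896 (flp_a L9259) q557, e3 q897 (flp_a L19149) q1371, e3 q898 L9287 q560, e3 q899 (flp_a L19241) q1373, e3 q900 L78596 q1285, e3 q901 L19297 q1377, e3 q902 L9317 q835, e3 q903 (flp_a L9323) q562, e3 q904 L141912 q1188, e3 q905 L9339 q565, e3 q906 (flp_a L141711) q620, e3 q907 L9375 q568, e3 q908 (flp_a L19443) q1379, e3 q909 (flp_a L81690) q1281, e3 q910 L19495 q1383, e3 q911 L9403 q839, e3 q912 (flp_a L9409) q570, e3 q913 (flp_a L141201) q1195, e3 q914 L9425 q573, e3 q915 L141241 q623, e3 q916 (flp_a L11772) q1080, e3 q917 (flp_a L11764) q1079, e3 q918 (flp_a L11348) q1053, e3 q919 L19613 q1390, e3 q920 L9469 q678, e3 q921 L65499 q1085, e3 q922 (flp_a L65488) q1084, e3 q923 (flp_a L11430) q1064, e3 q924 L19704 q1399, e3 q925 L9508 q672, e3 q926 (flp_a L11521) q1069, e3 q927 (flp_a L141893) q929, e3 q928 (flp_a L9524) q582, e3 q929 L141893 q927, e3 q930 L9534 q689, e3 q931 (flp_a L11666) q1074, e3 q932 L141918 q934, e3 q933 (flp_a L9587) q586, e3 q934 (flp_a L141918) q932, e3 q935 L9599 q682, e3 q936 L9705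 q936, e3 q937 L9709 q937, e3 q938 L9725 q938, e3 q939 L9761 q939, e3 q940 L9815 q597, e3 q941 L9821 q598, e3 q942 L9829 q599, e3 q943 L20513 q1412, e3 q944 L9869 q607, e3 q945 L9875 q608, e3 q946 L9881 q609, e3 q947 L20723 q1421, e3 q948 (flp_a L20381) q1409, e3 q949 (flp_a L20387) q1410, e3 q950 (flp_a L20395) q1411, e3 q951 L69697 q1000, e3 q952 (flp_a L10011) q954, e3 q953 (flp_a L82483) q1002, e3 q954 L10011 q952, e3 q955 L20864 q1435, e3 q956 L20908 q1437, e3 q957 (flp_a L10086) q604, e3 q958 (flp_a L20988) q1439, e3 q959 (flp_a L10124) q605, trivial⟩ (by decide +kernel)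

theorem ce_a_15 : ∀ r, r < 64 → sm ga (Qf (960 + r)) = Qf (tab Gen.a (960 + r)) :=
  edges_tab (sm ga) Qf (tab Gen.a) 960 [(960, 1440), (961, 606), (962, 1441), (963, 1442), (964, 1443), (965, 818), (966, 1416), (967, 1417), (968, 1418), (969, 1459), (970, 972), (971, 1463), (972, 970), (973, 1160), (974, 1468), (975, 1167), (976, 1471), (977, 1171), (978, 615), (979, 1378), (980, 1178), (981, 617), (982, 1384), (983, 1185), (984, 1192), (985, 624), (986, 1480), (987, 1481), (988, 1482), (989, 709), (990, 710), (991, 1492), (992, 1495), (993, 628), (994, 1498), (995, 1499), (996, 629), (997, 1502), (998, 1503), (999, 632), (1000, 951), (1001, 635), (1002, 953), (1003, 1508), (1004, 639), (1005, 640), (1006, 1514), (1007, 1009), (1008, 1518), (1009, 1007), (1010, 641), (1011, 1523), (1012, 1524), (1013, 642), (1014, 1529), (1015, 1530), (1016, 644), (1017, 645), (1018, 1535), (1019, 1536), (1020, 647), (1021, 648), (1022, 1542), (1023, 1543)]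
    ⟨e3 q960 (flp_a L21072) q1440, e3 q961 (flp_a L10137) q606, e3 q962 (flp_a L21093) q1441, e3 q963 (flp_a L21099) q1442, e3 q964 (flp_a L21105) q1443, e3 q965 L10155 q818, e3 q966 (flp_a L20525) q1416, e3 q967 (flp_a L20531) q1417, e3 q968 (flp_a L20539) q1418, e3 q969 L21199 q1459, e3 q970 (flp_a L10181) q972, e3 q971 L21209 q1463, e3 q972 L10181 q970, e3 q973 (flp_a L81095) q1160, e3 q974 L21243 q1468, e3 q975 L80565 q1167, e3 q976 L21279 q1471, e3 q977 L80958 q1171, e3 q978 (flp_a L10253) q615, e3 q979 L141724 q1378, e3 q980 (flp_a L77859) q1178, e3 q981 (flp_a L10295) q617, e3 q982 L141254 q1384, e3 q983 (flp_a L80874) q1185, e3 q984 (flp_a L82182) q1192, e3 q985 (flp_a L10463) q624, e3 q986 (flp_a L21704) q1480, e3 q987 (flp_a L21710) q1481, e3 q988 (flp_a L21716) q1482, e3 q989 L10483 q709, e3 q990 L10492 q710, e3 q991 L21775 q1492, e3 q992 L21789 q1495, e3 q993 (flp_a L10507) q628, e3 q994 (flp_a L21811) q1498, e3 q995 (flp_a L21817) q1499, e3 q996 (flp_a L10523) q629, e3 q997 (flp_a L21851) q1502, e3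 q998 (flp_a L21857) q1503, e3 q999 L10551 q632, e3 q1000 (flp_a L69697) q951, e3 q1001 L10587 q635, e3 q1002 L82483 q953, e3 q1003 L22297 q1508, e3 q1004 L10739 q639, e3 q1005 L10745 q640, e3 q1006 L22321 q1514, e3 q1007 (flp_a L10769) q1009, e3 q1008 L22339 q1518, e3 q1009 L10769 q1007, e3 q1010 (flp_a L10775) q641, e3 q1011 (flp_a L22363) q1523, e3 q1012 (flp_a L22367) q1524, e3 q1013 (flp_a L10787) q642, e3 q1014 (flp_a L22395) q1529, e3 q1015 (flp_a L22399) q1530, e3 q1016 L10805 q644, e3 q1017 L10809 q645, e3 q1018 (flp_a L22441) q1535, e3 q1019 (flp_a L22445) q1536, e3 q1020 L10835 q647, e3 q1021 L10839 q648, e3 q1022 (flp_a L22497) q1542, e3 q1023 (flp_a L22501) q1543, trivial⟩ (by decide +kernel)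

theorem ce_a_16 : ∀ r, r < 64 → sm ga (Qf (1024 + r)) = Qf (tab Gen.a (1024 + r)) :=
  edges_tab (sm ga) Qf (tab Gen.a) 1024 [(1024, 1024), (1025, 651), (1026, 652), (1027, 1549), (1028, 1550), (1029, 1551), (1030, 1558), (1031, 1031), (1032, 655), (1033, 656), (1034, 1560), (1035, 1561), (1036, 1562), (1037, 1569), (1038, 660), (1039, 1056), (1040, 1194), (1041, 662), (1042, 666), (1043, 1067), (1044, 1187), (1045, 668), (1046, 670), (1047, 671), (1048, 1574), (1049, 1573), (1050, 1401), (1051, 1402), (1052, 1584), (1053, 918), (1054, 673), (1055, 1206), (1056, 1039), (1057, 676), (1058, 677), (1059, 1591), (1060, 1590), (1061, 1392), (1062, 1393), (1063, 1601), (1064, 923), (1065, 679), (1066, 1214), (1067, 1043), (1068, 1606), (1069, 926), (1070, 683), (1071, 690), (1072, 1375), (1073, 1607), (1074, 931), (1075, 1381), (1076, 1076), (1077, 1077), (1078, 1078), (1079, 917), (1080, 916), (1081, 1081), (1082, 1082), (1083, 1083), (1084, 922), (1085, 921), (1086, 1618), (1087, 706)]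
    ⟨e3 q1024 L64799 q1024, e3 q1025 L10884 q651, e3 q1026 L10888 q652, e3 q1027 (flp_a L22611) q1549, e3 q1028 (flp_a L22617) q1550, e3 q1029 (flp_a L22623) q1551, e3 q1030 L22683 q1558, e3 q1031 L77813 q1031, e3 q1032 L10956 q655, e3 q1033 L10960 q656, e3 q1034 (flp_a L22788) q1560, e3 q1035 (flp_a L22794) q1561, e3 q1036 (flp_a L22800) q1562, e3 q1037 L22860 q1569, e3 q1038 L11066 q660, e3 q1039 L142506 q1056, e3 q1040 (flp_a L142132) q1194, e3 q1041 (flp_a L11133) q662, e3 q1042 L11212 q666, e3 q1043 L142063 q1067, e3 q1044 L142102 q1187, e3 q1045 (flp_a L11268) q668, e3 q1046 L11316 q670, e3 q1047 L11322 q671, e3 q1048 L23503 q1574, e3 q1049 (flp_a L23499) q1573, e3 q1050 (flp_a L19720) q1401, e3 q1051 (flp_a L19730) q1402, e3 q1052 L23549 q1584, e3 q1053 L11348 q918, e3 q1054 (flp_a L11354) q673, e3 q1055 L82055 q1206, e3 q1056 (flp_a L142506) q1039, e3 q1057 L11398 q676, e3 q1058 L11404 q677, e3 q1059 L23707 q1591, e3 q1060 (flp_a L23703) q1590, e3 q1061 (flp_a L19627) q1392, e3 q1062 (flp_a L19635) q1393,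 e3 q1063 L23753 q1601, e3 q1064 L11430 q923, e3 q1065 (flp_a L11436) q679, e3 q1066 L82050 q1214, e3 q1067 (flp_a L142063) q1043, e3 q1068 L23978 q1606, e3 q1069 L11521 q926, e3 q1070 (flp_a L11529) q683, e3 q1071 (flp_a L83176) q690, e3 q1072 L142176 q1375, e3 q1073 (flp_a L83113) q1607, e3 q1074 L11666 q931, e3 q1075 (flp_a L141940) q1381, e3 q1076 L64954 q1076, e3 q1077 L58126 q1077, e3 q1078 L58138 q1078, e3 q1079 L11764 q917, e3 q1080 L11772 q916, e3 q1081 L78053 q1081, e3 q1082 L78009 q1082, e3 q1083 L78022 q1083, e3 q1084 L65488 q922, e3 q1085 (flp_a L65499) q921, e3 q1086 L24860 q1618, e3 q1087 L11974 q706, trivial⟩ (by decide +kernel)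

theorem ce_a_17 : ∀ r, r < 64 → sm ga (Qf (1088 + r)) = Qf (tab Gen.a (1088 + r)) :=
  edges_tab (sm ga) Qf (tab Gen.a) 1088 [(1088, 707), (1089, 708), (1090, 1623), (1091, 1624), (1092, 1625), (1093, 1635), (1094, 1096), (1095, 1639), (1096, 1094), (1097, 1643), (1098, 1100), (1099, 1647), (1100, 1098), (1101, 711), (1102, 1652), (1103, 1653), (1104, 1658), (1105, 713), (1106, 1662), (1107, 1663), (1108, 1668), (1109, 1109), (1110, 1110), (1111, 717), (1112, 1675), (1113, 1113), (1114, 1114), (1115, 720), (1116, 1681), (1117, 1683), (1118, 1685), (1119, 723), (1120, 1687), (1121, 724), (1122, 1688), (1123, 725), (1124, 1689), (1125, 1690), (1126, 1691), (1127, 1699), (1128, 1702), (1129, 728), (1130, 1706), (1131, 1143), (1132, 1710), (1133, 730), (1134, 1714), (1135, 1153), (1136, 1718), (1137, 1721), (1138, 733), (1139, 734), (1140, 1726), (1141, 1727), (1142, 1734), (1143, 1131), (1144, 735), (1145, 1739), (1146, 1740), (1147, 1744), (1148, 737), (1149, 738), (1150, 1749), (1151, 1750)]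
    ⟨e3 q1088 L11978 q707, e3 q1089 L11985 q708, e3 q1090 (flp_a L24883) q1623, e3 q1091 (flp_a L24887) q1624, e3 q1092 (flp_a L24893) q1625, e3 q1093 L24942 q1635, e3 q1094 (flp_a L12022) q1096, e3 q1095 L24963 q1639, e3 q1096 L12022 q1094, e3 q1097 L24984 q1643, e3 q1098 (flp_a L12046) q1100, e3 q1099 L24999 q1647, e3 q1100 L12046 q1098, e3 q1101 (flp_a L12055) q711, e3 q1102 (flp_a L25022) q1652, e3 q1103 (flp_a L25028) q1653, e3 q1104 L25058 q1658, e3 q1105 (flp_a L12073) q713, e3 q1106 (flp_a L25080) q1662, e3 q1107 (flp_a L25086) q1663, e3 q1108 L25116 q1668, e3 q1109 L50640 q1109, e3 q1110 L50659 q1110, e3 q1111 (flp_a L12131) q717, e3 q1112 (flp_a L25224) q1675, e3 q1113 L80613 q1113, e3 q1114 L76172 q1114, e3 q1115 (flp_a L12189) q720, e3 q1116 (flp_a L25348) q1681, e3 q1117 L25565 q1683, e3 q1118 L25822 q1685, e3 q1119 (flp_a L12553) q723, e3 q1120 (flp_a L26175) q1687, e3 q1121 (flp_a L12745) q724, e3 q1122 (flp_a L26544) q1688, e3 q1123 (flp_a L12815) q725, e3 q1124 (flp_a L26650) q1689, e3 q1125 (flp_a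 L26654) q1690, e3 q1126 (flp_a L26658) q1691, e3 q1127 L26689 q1699, e3 q1128 L26696 q1702, e3 q1129 (flp_a L12828) q728, e3 q1130 (flp_a L26707) q1706, e3 q1131 (flp_a L12880) q1143, e3 q1132 L26724 q1710, e3 q1133 (flp_a L12841) q730, e3 q1134 (flp_a L26737) q1714, e3 q1135 (flp_a L12922) q1153, e3 q1136 L26754 q1718, e3 q1137 L26763 q1721, e3 q1138 L12858 q733, e3 q1139 L12862 q734, e3 q1140 (flp_a L26775) q1726, e3 q1141 (flp_a L26779) q1727, e3 q1142 L26809 q1734, e3 q1143 L12880 q1131, e3 q1144 (flp_a L12884) q735, e3 q1145 (flp_a L26825) q1739, e3 q1146 (flp_a L26829) q1740, e3 q1147 L26847 q1744, e3 q1148 L12898 q737, e3 q1149 L12902 q738, e3 q1150 (flp_a L26859) q1749, e3 q1151 (flp_a L26863) q1750, trivial⟩ (by decide +kernel)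

theorem ce_a_18 : ∀ r, r < 64 → sm ga (Qf (1152 + r)) = Qf (tab Gen.a (1152 + r)) :=
  edges_tab (sm ga) Qf (tab Gen.a) 1152 [(1152, 1757), (1153, 1135), (1154, 739), (1155, 1762), (1156, 1763), (1157, 1157), (1158, 1158), (1159, 1769), (1160, 973), (1161, 1773), (1162, 744), (1163, 1776), (1164, 1164), (1165, 1165), (1166, 1781), (1167, 975), (1168, 1785), (1169, 749), (1170, 1788), (1171, 977), (1172, 751), (1173, 1793), (1174, 1796), (1175, 753), (1176, 1799), (1177, 1800), (1178, 980), (1179, 755), (1180, 1806), (1181, 1809), (1182, 757), (1183, 1812), (1184, 1813), (1185, 983), (1186, 760), (1187, 1044), (1188, 904), (1189, 761), (1190, 780), (1191, 763), (1192, 984), (1193, 766), (1194, 1040), (1195, 913), (1196, 767), (1197, 783), (1198, 769), (1199, 772), (1200, 773), (1201, 1798), (1202, 1822), (1203, 1820), (1204, 1826), (1205, 774), (1206, 1055), (1207, 777), (1208, 778), (1209, 1811), (1210, 1833), (1211, 1831), (1212, 1837), (1213, 779), (1214, 1066), (1215, 1376)]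
    ⟨e3 q1152 L26893 q1757, e3 q1153 L12922 q1135, e3 q1154 (flp_a L12926) q739, e3 q1155 (flp_a L26915) q1762, e3 q1156 (flp_a L26919) q1763, e3 q1157 L50695 q1157, e3 q1158 L50679 q1158, e3 q1159 L27041 q1769, e3 q1160 L81095 q973, e3 q1161 L27067 q1773, e3 q1162 L13005 q744, e3 q1163 (flp_a L27087) q1776, e3 q1164 L76220 q1164, e3 q1165 L76216 q1165, e3 q1166 L27231 q1781, e3 q1167 (flp_a L80565) q975, e3 q1168 L27257 q1785, e3 q1169 L13094 q749, e3 q1170 (flp_a L27279) q1788, e3 q1171 (flp_a L80958) q977, e3 q1172 (flp_a L13209) q751, e3 q1173 (flp_a L27518) q1793, e3 q1174 L27556 q1796, e3 q1175 L13233 q753, e3 q1176 (flp_a L27574) q1799, e3 q1177 (flp_a L27580) q1800, e3 q1178 L77859 q980, e3 q1179 (flp_a L13380) q755, e3 q1180 (flp_a L27852) q1806, e3 q1181 L27888 q1809, e3 q1182 L13406 q757, e3 q1183 (flp_a L27906) q1812, e3 q1184 (flp_a L27912) q1813, e3 q1185 L80874 q983, e3 q1186 L13610 q760, e3 q1187 (flp_a L142102) q1044, e3 q1188 (flp_a L141912) q904, e3 q1189 (flp_a L13642) q761, e3 q1190 L52135 q780,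 e3 q1191 L13660 q763, e3 q1192 L82182 q984, e3 q1193 L13874 q766, e3 q1194 L142132 q1040, e3 q1195 L141201 q913, e3 q1196 (flp_a L13900) q767, e3 q1197 (flp_a L81939) q783, e3 q1198 L13918 q769, e3 q1199 L14007 q772, e3 q1200 L14021 q773, e3 q1201 (flp_a L52149) q1798, e3 q1202 L29077 q1822, e3 q1203 (flp_a L29045) q1820, e3 q1204 L29105 q1826, e3 q1205 (flp_a L14052) q774, e3 q1206 (flp_a L82055) q1055, e3 q1207 L14083 q777, e3 q1208 L14097 q778, e3 q1209 (flp_a L81887) q1811, e3 q1210 L29247 q1833, e3 q1211 (flp_a L29211) q1831, e3 q1212 L29275 q1837, e3 q1213 (flp_a L14130) q779, e3 q1214 (flp_a L82050) q1066, e3 q1215 L139241 q1376, trivial⟩ (by decide +kernel)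

theorem ce_a_19 : ∀ r, r < 64 → sm ga (Qf (1216 + r)) = Qf (tab Gen.a (1216 + r)) :=
  edges_tab (sm ga) Qf (tab Gen.a) 1216 [(1216, 1382), (1217, 1217), (1218, 1842), (1219, 1219), (1220, 1846), (1221, 842), (1222, 843), (1223, 844), (1224, 793), (1225, 1855), (1226, 1856), (1227, 1861), (1228, 1863), (1229, 806), (1230, 807), (1231, 808), (1232, 1232), (1233, 1233), (1234, 1870), (1235, 819), (1236, 820), (1237, 1237), (1238, 1238), (1239, 1877), (1240, 1865), (1241, 1866), (1242, 1867), (1243, 1305), (1244, 1246), (1245, 1311), (1246, 1244), (1247, 1306), (1248, 855), (1249, 1312), (1250, 851), (1251, 817), (1252, 1894), (1253, 1895), (1254, 1896), (1255, 1450), (1256, 1451), (1257, 1452), (1258, 1911), (1259, 1261), (1260, 1915), (1261, 1259), (1262, 821), (1263, 1919), (1264, 1342), (1265, 880), (1266, 823), (1267, 1923), (1268, 1350), (1269, 876), (1270, 826), (1271, 1928), (1272, 1358), (1273, 893), (1274, 830), (1275, 1934), (1276, 1368), (1277, 885), (1278, 1278), (1279, 834)]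
    ⟨e3 q1216 (flp_a L139944) q1382, e3 q1217 L65905 q1217, e3 q1218 L32484 q1842, e3 q1219 L65921 q1219, e3 q1220 L32810 q1846, e3 q1221 L15796 q842, e3 q1222 L15802 q843, e3 q1223 L15810 q844, e3 q1224 (flp_a L15912) q793, e3 q1225 (flp_a L33072) q1855, e3 q1226 (flp_a L33078) q1856, e3 q1227 L33108 q1861, e3 q1228 L33120 q1863, e3 q1229 L17473 q806, e3 q1230 L17479 q807, e3 q1231 L17487 q808, e3 q1232 L58479 q1232, e3 q1233 L78691 q1233, e3 q1234 L36604 q1870, e3 q1235 L17529 q819, e3 q1236 L17535 q820, e3 q1237 L58422 q1237, e3 q1238 L78739 q1238, e3 q1239 L36788 q1877, e3 q1240 (flp_a L72365) q1865, e3 q1241 (flp_a L36486) q1866, e3 q1242 (flp_a L36494) q1867, e3 q1243 L69494 q1305, e3 q1244 (flp_a L17682) q1246, e3 q1245 (flp_a L77407) q1311, e3 q1246 L17682 q1244, e3 q1247 L69482 q1306, e3 q1248 L81440 q855, e3 q1249 L78813 q1312, e3 q1250 L81491 q851, e3 q1251 (flp_a L17804) q817, e3 q1252 (flp_a L37161) q1894, e3 q1253 (flp_a L37165) q1895, e3 q1254 (flp_a L37171) q1896, e3 q1255 L72377 q1450, e3 q1256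 (flp_a L21155) q1451, e3 q1257 (flp_a L21163) q1452, e3 q1258 L37245 q1911, e3 q1259 (flp_a L17842) q1261, e3 q1260 L37255 q1915, e3 q1261 L17842 q1259, e3 q1262 (flp_a L17848) q821, e3 q1263 (flp_a L37271) q1919, e3 q1264 (flp_a L18867) q1342, e3 q1265 (flp_a L81630) q880, e3 q1266 (flp_a L17866) q823, e3 q1267 (flp_a L37307) q1923, e3 q1268 (flp_a L18915) q1350, e3 q1269 (flp_a L81603) q876, e3 q1270 L17890 q826, e3 q1271 (flp_a L37366) q1928, e3 q1272 (flp_a L18991) q1358, e3 q1273 L81769 q893, e3 q1274 L17936 q830, e3 q1275 (flp_a L37472) q1934, e3 q1276 (flp_a L19115) q1368, e3 q1277 (flp_a L81546) q885, e3 q1278 L17988 q1278, e3 q1279 L17991 q834, trivial⟩ (by decide +kernel)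

theorem ce_a_20 : ∀ r, r < 64 → sm ga (Qf (1280 + r)) = Qf (tab Gen.a (1280 + r)) :=
  edges_tab (sm ga) Qf (tab Gen.a) 1280 [(1280, 1940), (1281, 909), (1282, 1282), (1283, 838), (1284, 1943), (1285, 900), (1286, 841), (1287, 1946), (1288, 1947), (1289, 1948), (1290, 1850), (1291, 1851), (1292, 1960), (1293, 1295), (1294, 1964), (1295, 1293), (1296, 845), (1297, 1969), (1298, 1892), (1299, 1974), (1300, 847), (1301, 1977), (1302, 1889), (1303, 1982), (1304, 1304), (1305, 1243), (1306, 1247), (1307, 1985), (1308, 852), (1309, 1987), (1310, 1310), (1311, 1245), (1312, 1249), (1313, 1990), (1314, 856), (1315, 1992), (1316, 859), (1317, 1994), (1318, 861), (1319, 864), (1320, 1995), (1321, 866), (1322, 1996), (1323, 868), (1324, 869), (1325, 2001), (1326, 1328), (1327, 2005), (1328, 1326), (1329, 870), (1330, 2010), (1331, 2011), (1332, 2016), (1333, 872), (1334, 2020), (1335, 2021), (1336, 2026), (1337, 1337), (1338, 875), (1339, 2031), (1340, 1926), (1341, 2037), (1342, 1264), (1343, 877)]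
    ⟨e3 q1280 (flp_a L37629) q1940, e3 q1281 L81690 q909, e3 q1282 L71415 q1282, e3 q1283 L18063 q838, e3 q1284 (flp_a L37988) q1943, e3 q1285 (flp_a L78596) q900, e3 q1286 (flp_a L18389) q841, e3 q1287 (flp_a L38666) q1946, e3 q1288 (flp_a L38670) q1947, e3 q1289 (flp_a L38676) q1948, e3 q1290 (flp_a L32830) q1850, e3 q1291 (flp_a L32838) q1851, e3 q1292 L38740 q1960, e3 q1293 (flp_a L18431) q1295, e3 q1294 L38758 q1964, e3 q1295 L18431 q1293, e3 q1296 (flp_a L18439) q845, e3 q1297 (flp_a L38784) q1969, e3 q1298 (flp_a L81584) q1892, e3 q1299 L38824 q1974, e3 q1300 (flp_a L18461) q847, e3 q1301 (flp_a L38850) q1977, e3 q1302 (flp_a L81617) q1889, e3 q1303 L38890 q1982, e3 q1304 L66123 q1304, e3 q1305 (flp_a L69494) q1243, e3 q1306 (flp_a L69482) q1247, e3 q1307 L38970 q1985, e3 q1308 (flp_a L18523) q852, e3 q1309 (flp_a L38996) q1987, e3 q1310 L78697 q1310, e3 q1311 L77407 q1245, e3 q1312 (flp_a L78813) q1249, e3 q1313 L39086 q1990, e3 q1314 (flp_a L18577) q856, e3 q1315 (flp_a L39112) q1992, e3 q1316 (flp_a L18641)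 q859, e3 q1317 (flp_a L39270) q1994, e3 q1318 L18665 q861, e3 q1319 (flp_a L18739) q864, e3 q1320 (flp_a L39485) q1995, e3 q1321 L18763 q866, e3 q1322 L39575 q1996, e3 q1323 L18791 q868, e3 q1324 L18795 q869, e3 q1325 L39587 q2001, e3 q1326 (flp_a L18811) q1328, e3 q1327 L39599 q2005, e3 q1328 L18811 q1326, e3 q1329 (flp_a L18815) q870, e3 q1330 (flp_a L39615) q2010, e3 q1331 (flp_a L39619) q2011, e3 q1332 L39641 q2016, e3 q1333 (flp_a L18825) q872, e3 q1334 (flp_a L39655) q2020, e3 q1335 (flp_a L39659) q2021, e3 q1336 L39683 q2026, e3 q1337 L66149 q1337, e3 q1338 L18843 q875, e3 q1339 (flp_a L39715) q2031, e3 q1340 (flp_a L81596) q1926, e3 q1341 L39747 q2037, e3 q1342 L18867 q1264, e3 q1343 (flp_a L18873) q877, trivial⟩ (by decide +kernel)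

theorem ce_a_21 : ∀ r, r < 64 → sm ga (Qf (1344 + r)) = Qf (tab Gen.a (1344 + r)) :=
  edges_tab (sm ga) Qf (tab Gen.a) 1344 [(1344, 2039), (1345, 1345), (1346, 879), (1347, 2043), (1348, 1922), (1349, 2049), (1350, 1268), (1351, 881), (1352, 2051), (1353, 884), (1354, 2053), (1355, 2054), (1356, 1938), (1357, 2062), (1358, 1272), (1359, 886), (1360, 1817), (1361, 889), (1362, 2066), (1363, 892), (1364, 2069), (1365, 2070), (1366, 1932), (1367, 2078), (1368, 1276), (1369, 894), (1370, 1818), (1371, 897), (1372, 2082), (1373, 899), (1374, 1944), (1375, 1072), (1376, 1215), (1377, 901), (1378, 979), (1379, 908), (1380, 1941), (1381, 1075), (1382, 1216), (1383, 910), (1384, 982), (1385, 2085), (1386, 1611), (1387, 1581), (1388, 1583), (1389, 2093), (1390, 919), (1391, 1403), (1392, 1061), (1393, 1062), (1394, 2098), (1395, 1616), (1396, 1598), (1397, 1600), (1398, 2106), (1399, 924), (1400, 1404), (1401, 1050), (1402, 1051), (1403, 1391), (1404, 1400), (1405, 1405), (1406, 2112), (1407, 1407)]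
    ⟨e3 q1344 (flp_a L39771) q2039, e3 q1345 L78733 q1345, e3 q1346 L18891 q879, e3 q1347 (flp_a L39813) q2043, e3 q1348 (flp_a L81623) q1922, e3 q1349 L39845 q2049, e3 q1350 L18915 q1268, e3 q1351 (flp_a L18921) q881, e3 q1352 (flp_a L39869) q2051, e3 q1353 L18955 q884, e3 q1354 (flp_a L39947) q2053, e3 q1355 (flp_a L39953) q2054, e3 q1356 (flp_a L78279) q1938, e3 q1357 L40021 q2062, e3 q1358 L18991 q1272, e3 q1359 (flp_a L18999) q886, e3 q1360 L141808 q1817, e3 q1361 L19025 q889, e3 q1362 (flp_a L40103) q2066, e3 q1363 L19079 q892, e3 q1364 (flp_a L40205) q2069, e3 q1365 (flp_a L40211) q2070, e3 q1366 (flp_a L74187) q1932, e3 q1367 L40269 q2078, e3 q1368 L19115 q1276, e3 q1369 (flp_a L19123) q894, e3 q1370 (flp_a L142202) q1818, e3 q1371 L19149 q897, e3 q1372 (flp_a L40353) q2082, e3 q1373 L19241 q899, e3 q1374 (flp_a L78582) q1944, e3 q1375 (flp_a L142176) q1072, e3 q1376 (flp_a L139241) q1215, e3 q1377 (flp_a L19297) q901, e3 q1378 (flp_a L141724) q979, e3 q1379 L19443 q908, e3 q1380 (flp_a L81704) q1941, e3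 q1381 L141940 q1075, e3 q1382 L139944 q1216, e3 q1383 (flp_a L19495) q910, e3 q1384 (flp_a L141254) q982, e3 q1385 L41266 q2085, e3 q1386 (flp_a L24452) q1611, e3 q1387 (flp_a L23525) q1581, e3 q1388 (flp_a L23541) q1583, e3 q1389 L41296 q2093, e3 q1390 (flp_a L19613) q919, e3 q1391 L141881 q1403, e3 q1392 L19627 q1061, e3 q1393 L19635 q1062, e3 q1394 L41402 q2098, e3 q1395 L65484 q1616, e3 q1396 (flp_a L23729) q1598, e3 q1397 (flp_a L23745) q1600, e3 q1398 L41434 q2106, e3 q1399 (flp_a L19704) q924, e3 q1400 L141901 q1404, e3 q1401 L19720 q1050, e3 q1402 L19730 q1051, e3 q1403 (flp_a L141881) q1391, e3 q1404 (flp_a L141901) q1400, e3 q1405 L20151 q1405, e3 q1406 L42496 q2112, e3 q1407 L20229 q1407, trivial⟩ (by decide +kernel)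

theorem ce_a_22 : ∀ r, r < 64 → sm ga (Qf (1408 + r)) = Qf (tab Gen.a (1408 + r)) :=
  edges_tab (sm ga) Qf (tab Gen.a) 1408 [(1408, 2116), (1409, 948), (1410, 949), (1411, 950), (1412, 943), (1413, 2126), (1414, 2127), (1415, 2128), (1416, 966), (1417, 967), (1418, 968), (1419, 2141), (1420, 2143), (1421, 947), (1422, 2145), (1423, 2146), (1424, 2120), (1425, 2121), (1426, 2122), (1427, 2157), (1428, 1430), (1429, 2161), (1430, 1428), (1431, 1506), (1432, 2166), (1433, 1507), (1434, 2169), (1435, 955), (1436, 2171), (1437, 956), (1438, 2173), (1439, 958), (1440, 960), (1441, 962), (1442, 963), (1443, 964), (1444, 2175), (1445, 2176), (1446, 2183), (1447, 1449), (1448, 2187), (1449, 1447), (1450, 1255), (1451, 1256), (1452, 1257), (1453, 2137), (1454, 2138), (1455, 2199), (1456, 1458), (1457, 2203), (1458, 1456), (1459, 969), (1460, 2208), (1461, 2209), (1462, 2214), (1463, 971), (1464, 2218), (1465, 2219), (1466, 2224), (1467, 1772), (1468, 974), (1469, 2229), (1470, 1784), (1471, 976)]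
    ⟨e3 q1408 L42652 q2116, e3 q1409 L20381 q948, e3 q1410 L20387 q949, e3 q1411 L20395 q950, e3 q1412 (flp_a L20513) q943, e3 q1413 (flp_a L42898) q2126, e3 q1414 (flp_a L42902) q2127, e3 q1415 (flp_a L42906) q2128, e3 q1416 L20525 q966, e3 q1417 L20531 q967, e3 q1418 L20539 q968, e3 q1419 L42966 q2141, e3 q1420 L42974 q2143, e3 q1421 (flp_a L20723) q947, e3 q1422 (flp_a L43288) q2145, e3 q1423 (flp_a L43296) q2146, e3 q1424 (flp_a L42670) q2120, e3 q1425 (flp_a L42678) q2121, e3 q1426 (flp_a L42686) q2122, e3 q1427 L43384 q2157, e3 q1428 (flp_a L20775) q1430, e3 q1429 L43402 q2161, e3 q1430 L20775 q1428, e3 q1431 L69687 q1506, e3 q1432 L43452 q2166, e3 q1433 L82452 q1507, e3 q1434 L43502 q2169, e3 q1435 (flp_a L20864) q955, e3 q1436 (flp_a L43595) q2171, e3 q1437 (flp_a L20908) q956, e3 q1438 (flp_a L43693) q2173, e3 q1439 L20988 q958, e3 q1440 L21072 q960, e3 q1441 L21093 q962, e3 q1442 L21099 q963, e3 q1443 L21105 q964, e3 q1444 (flp_a L43976) q2175, e3 q1445 (flp_a L43984) q2176, e3 q1446 L44030 q2183, e3 q1447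 (flp_a L21137) q1449, e3 q1448 L44044 q2187, e3 q1449 L21137 q1447, e3 q1450 (flp_a L72377) q1255, e3 q1451 L21155 q1256, e3 q1452 L21163 q1257, e3 q1453 (flp_a L42944) q2137, e3 q1454 (flp_a L42952) q2138, e3 q1455 L44127 q2199, e3 q1456 (flp_a L21193) q1458, e3 q1457 L44141 q2203, e3 q1458 L21193 q1456, e3 q1459 (flp_a L21199) q969, e3 q1460 (flp_a L44159) q2208, e3 q1461 (flp_a L44163) q2209, e3 q1462 L44185 q2214, e3 q1463 (flp_a L21209) q971, e3 q1464 (flp_a L44199) q2218, e3 q1465 (flp_a L44203) q2219, e3 q1466 L44225 q2224, e3 q1467 (flp_a L80535) q1772, e3 q1468 (flp_a L21243) q974, e3 q1469 (flp_a L44298) q2229, e3 q1470 (flp_a L80555) q1784, e3 q1471 (flp_a L21279) q976, trivial⟩ (by decide +kernel)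

theorem ce_a_23 : ∀ r, r < 64 → sm ga (Qf (1472 + r)) = Qf (tab Gen.a (1472 + r)) :=
  edges_tab (sm ga) Qf (tab Gen.a) 1472 [(1472, 2233), (1473, 1791), (1474, 1792), (1475, 2068), (1476, 1804), (1477, 1805), (1478, 2084), (1479, 2243), (1480, 986), (1481, 987), (1482, 988), (1483, 2247), (1484, 2248), (1485, 2249), (1486, 2258), (1487, 1489), (1488, 2262), (1489, 1487), (1490, 2266), (1491, 2269), (1492, 991), (1493, 2273), (1494, 2274), (1495, 992), (1496, 2279), (1497, 2280), (1498, 994), (1499, 995), (1500, 2285), (1501, 2286), (1502, 997), (1503, 998), (1504, 2291), (1505, 2292), (1506, 1431), (1507, 1433), (1508, 1003), (1509, 2125), (1510, 2300), (1511, 2301), (1512, 2308), (1513, 2311), (1514, 1006), (1515, 2315), (1516, 1527), (1517, 2319), (1518, 1008), (1519, 2323), (1520, 1533), (1521, 2327), (1522, 2330), (1523, 1011), (1524, 1012), (1525, 2334), (1526, 2335), (1527, 1516), (1528, 2343), (1529, 1014), (1530, 1015), (1531, 2347), (1532, 2348), (1533, 1520), (1534, 2356), (1535, 1018)]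
    ⟨e3 q1472 (flp_a L44379) q2233, e3 q1473 (flp_a L75694) q1791, e3 q1474 (flp_a L75687) q1792, e3 q1475 L141790 q2068, e3 q1476 (flp_a L77844) q1804, e3 q1477 (flp_a L77786) q1805, e3 q1478 (flp_a L141248) q2084, e3 q1479 L45104 q2243, e3 q1480 L21704 q986, e3 q1481 L21710 q987, e3 q1482 L21716 q988, e3 q1483 (flp_a L45130) q2247, e3 q1484 (flp_a L45136) q2248, e3 q1485 (flp_a L45144) q2249, e3 q1486 L45207 q2258, e3 q1487 (flp_a L21757) q1489, e3 q1488 L45227 q2262, e3 q1489 L21757 q1487, e3 q1490 L45247 q2266, e3 q1491 L45264 q2269, e3 q1492 (flp_a L21775) q991, e3 q1493 (flp_a L45287) q2273, e3 q1494 (flp_a L45293) q2274, e3 q1495 (flp_a L21789) q992, e3 q1496 (flp_a L45323) q2279, e3 q1497 (flp_a L45329) q2280, e3 q1498 L21811 q994, e3 q1499 L21817 q995, e3 q1500 (flp_a L45383) q2285, e3 q1501 (flp_a L45387) q2286, e3 q1502 L21851 q997, e3 q1503 L21857 q998, e3 q1504 (flp_a L45461) q2291, e3 q1505 (flp_a L45465) q2292, e3 q1506 (flp_a L69687) q1431, e3 q1507 (flp_a L82452) q1433, e3 q1508 (flp_a L22297) q1003,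 e3 q1509 (flp_a L72243) q2125, e3 q1510 (flp_a L46337) q2300, e3 q1511 (flp_a L46343) q2301, e3 q1512 L46383 q2308, e3 q1513 L46393 q2311, e3 q1514 (flp_a L22321) q1006, e3 q1515 (flp_a L46409) q2315, e3 q1516 (flp_a L22383) q1527, e3 q1517 L46427 q2319, e3 q1518 (flp_a L22339) q1008, e3 q1519 (flp_a L46445) q2323, e3 q1520 (flp_a L22415) q1533, e3 q1521 L46463 q2327, e3 q1522 L46475 q2330, e3 q1523 L22363 q1011, e3 q1524 L22367 q1012, e3 q1525 (flp_a L46495) q2334, e3 q1526 (flp_a L46499) q2335, e3 q1527 L22383 q1516, e3 q1528 L46535 q2343, e3 q1529 L22395 q1014, e3 q1530 L22399 q1015, e3 q1531 (flp_a L46555) q2347, e3 q1532 (flp_a L46559) q2348, e3 q1533 L22415 q1520, e3 q1534 L46645 q2356, e3 q1535 L22441 q1018, trivial⟩ (by decide +kernel)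

theorem ce_a_24 : ∀ r, r < 64 → sm ga (Qf (1536 + r)) = Qf (tab Gen.a (1536 + r)) :=
  edges_tab (sm ga) Qf (tab Gen.a) 1536 [(1536, 1019), (1537, 1553), (1538, 2360), (1539, 2361), (1540, 2368), (1541, 2370), (1542, 1022), (1543, 1023), (1544, 1564), (1545, 2374), (1546, 2375), (1547, 2382), (1548, 1548), (1549, 1027), (1550, 1028), (1551, 1029), (1552, 2388), (1553, 1537), (1554, 2386), (1555, 2387), (1556, 1587), (1557, 2399), (1558, 1030), (1559, 1559), (1560, 1034), (1561, 1035), (1562, 1036), (1563, 2405), (1564, 1544), (1565, 2403), (1566, 2404), (1567, 1604), (1568, 2416), (1569, 1037), (1570, 1807), (1571, 1794), (1572, 2418), (1573, 1049), (1574, 1048), (1575, 2424), (1576, 2425), (1577, 2426), (1578, 2422), (1579, 2110), (1580, 2437), (1581, 1387), (1582, 2441), (1583, 1388), (1584, 1052), (1585, 2444), (1586, 1828), (1587, 1556), (1588, 2063), (1589, 2448), (1590, 1060), (1591, 1059), (1592, 2454), (1593, 2455), (1594, 2456), (1595, 2452), (1596, 2097), (1597, 2467), (1598, 1396), (1599, 2471)]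
    ⟨e3 q1536 L22445 q1019, e3 q1537 (flp_a L22651) q1553, e3 q1538 (flp_a L46657) q2360, e3 q1539 (flp_a L46661) q2361, e3 q1540 L46705 q2368, e3 q1541 L46773 q2370, e3 q1542 L22497 q1022, e3 q1543 L22501 q1023, e3 q1544 (flp_a L22828) q1564, e3 q1545 (flp_a L46785) q2374, e3 q1546 (flp_a L46789) q2375, e3 q1547 L46833 q2382, e3 q1548 L64844 q1548, e3 q1549 L22611 q1027, e3 q1550 L22617 q1028, e3 q1551 L22623 q1029, e3 q1552 L47033 q2388, e3 q1553 L22651 q1537, e3 q1554 (flp_a L46979) q2386, e3 q1555 (flp_a L46985) q2387, e3 q1556 (flp_a L142517) q1587, e3 q1557 L47105 q2399, e3 q1558 (flp_a L22683) q1030, e3 q1559 L77852 q1559, e3 q1560 L22788 q1034, e3 q1561 L22794 q1035, e3 q1562 L22800 q1036, e3 q1563 L47372 q2405, e3 q1564 L22828 q1544, e3 q1565 (flp_a L47316) q2403, e3 q1566 (flp_a L47322) q2404, e3 q1567 L137233 q1604, e3 q1568 L47444 q2416, e3 q1569 (flp_a L22860) q1037, e3 q1570 L142117 q1807, e3 q1571 (flp_a L142090) q1794, e3 q1572 L83811 q2418, e3 q1573 L23499 q1049, e3 q1574 (flp_a L23503) q1048, e3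 q1575 (flp_a L83843) q2424, e3 q1576 (flp_a L83847) q2425, e3 q1577 (flp_a L83851) q2426, e3 q1578 (flp_a L83833) q2422, e3 q1579 (flp_a L41476) q2110, e3 q1580 L83907 q2437, e3 q1581 L23525 q1387, e3 q1582 L83919 q2441, e3 q1583 L23541 q1388, e3 q1584 (flp_a L23549) q1052, e3 q1585 (flp_a L83949) q2444, e3 q1586 (flp_a L83445) q1828, e3 q1587 L142517 q1556, e3 q1588 (flp_a L40031) q2063, e3 q1589 L83967 q2448, e3 q1590 L23703 q1060, e3 q1591 (flp_a L23707) q1059, e3 q1592 (flp_a L83999) q2454, e3 q1593 (flp_a L84003) q2455, e3 q1594 (flp_a L84007) q2456, e3 q1595 (flp_a L83989) q2452, e3 q1596 (flp_a L41328) q2097, e3 q1597 L84063 q2467, e3 q1598 L23729 q1396, e3 q1599 L84075 q2471, trivial⟩ (by decide +kernel)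

theorem ce_a_25 : ∀ r, r < 64 → sm ga (Qf (1600 + r)) = Qf (tab Gen.a (1600 + r)) :=
  edges_tab (sm ga) Qf (tab Gen.a) 1600 [(1600, 1397), (1601, 1063), (1602, 2474), (1603, 1839), (1604, 1567), (1605, 2079), (1606, 1068), (1607, 1073), (1608, 1608), (1609, 1609), (1610, 1610), (1611, 1386), (1612, 2483), (1613, 1613), (1614, 1614), (1615, 1615), (1616, 1395), (1617, 2491), (1618, 1086), (1619, 2494), (1620, 1949), (1621, 2495), (1622, 2496), (1623, 1090), (1624, 1091), (1625, 1092), (1626, 2512), (1627, 2515), (1628, 2507), (1629, 2508), (1630, 2509), (1631, 2524), (1632, 1634), (1633, 2528), (1634, 1632), (1635, 1093), (1636, 2533), (1637, 1657), (1638, 2537), (1639, 1095), (1640, 2541), (1641, 1667), (1642, 2545), (1643, 1097), (1644, 2549), (1645, 2550), (1646, 2555), (1647, 1099), (1648, 2559), (1649, 2560), (1650, 2565), (1651, 2568), (1652, 1102), (1653, 1103), (1654, 2573), (1655, 2574), (1656, 2581), (1657, 1637), (1658, 1104), (1659, 2586), (1660, 2587), (1661, 2591), (1662, 1106), (1663, 1107)]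
    ⟨e3 q1600 L23745 q1397, e3 q1601 (flp_a L23753) q1063, e3 q1602 (flp_a L84105) q2474, e3 q1603 L82733 q1839, e3 q1604 (flp_a L137233) q1567, e3 q1605 L71379 q2079, e3 q1606 (flp_a L23978) q1068, e3 q1607 L83113 q1073, e3 q1608 L71672 q1608, e3 q1609 L71671 q1609, e3 q1610 L71673 q1610, e3 q1611 L24452 q1386, e3 q1612 L84206 q2483, e3 q1613 L82748 q1613, e3 q1614 L82747 q1614, e3 q1615 L82749 q1615, e3 q1616 (flp_a L65484) q1395, e3 q1617 L84253 q2491, e3 q1618 (flp_a L24860) q1086, e3 q1619 (flp_a L84269) q2494, e3 q1620 (flp_a L84353) q1949, e3 q1621 (flp_a L84279) q2495, e3 q1622 (flp_a L84285) q2496, e3 q1623 L24883 q1090, e3 q1624 L24887 q1091, e3 q1625 L24893 q1092, e3 q1626 L84381 q2512, e3 q1627 L84394 q2515, e3 q1628 (flp_a L84344) q2507, e3 q1629 (flp_a L84363) q2508, e3 q1630 (flp_a L84369) q2509, e3 q1631 L84437 q2524, e3 q1632 (flp_a L24936) q1634, e3 q1633 L84455 q2528, e3 q1634 L24936 q1632, e3 q1635 (flp_a L24942) q1093, e3 q1636 (flp_a L84479) q2533, e3 q1637 (flp_a L25052) q1657, e3 q1638 L84502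 q2537, e3 q1639 (flp_a L24963) q1095, e3 q1640 (flp_a L84523) q2541, e3 q1641 (flp_a L25110) q1667, e3 q1642 L84546 q2545, e3 q1643 (flp_a L24984) q1097, e3 q1644 (flp_a L84567) q2549, e3 q1645 (flp_a L84571) q2550, e3 q1646 L84598 q2555, e3 q1647 (flp_a L24999) q1099, e3 q1648 (flp_a L84617) q2559, e3 q1649 (flp_a L84621) q2560, e3 q1650 L84650 q2565, e3 q1651 L84669 q2568, e3 q1652 L25022 q1102, e3 q1653 L25028 q1103, e3 q1654 (flp_a L84691) q2573, e3 q1655 (flp_a L84695) q2574, e3 q1656 L84735 q2581, e3 q1657 L25052 q1637, e3 q1658 (flp_a L25058) q1104, e3 q1659 (flp_a L84761) q2586, e3 q1660 (flp_a L84767) q2587, e3 q1661 L84791 q2591, e3 q1662 L25080 q1106, e3 q1663 L25086 q1107, trivial⟩ (by decide +kernel)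

theorem ce_a_26 : ∀ r, r < 64 → sm ga (Qf (1664 + r)) = Qf (tab Gen.a (1664 + r)) :=
  edges_tab (sm ga) Qf (tab Gen.a) 1664 [(1664, 2596), (1665, 2597), (1666, 2604), (1667, 1641), (1668, 1108), (1669, 2609), (1670, 2610), (1671, 1671), (1672, 1672), (1673, 2616), (1674, 2618), (1675, 1112), (1676, 2621), (1677, 1677), (1678, 1678), (1679, 2626), (1680, 2628), (1681, 1116), (1682, 2631), (1683, 1117), (1684, 2634), (1685, 1118), (1686, 2636), (1687, 1120), (1688, 1122), (1689, 1124), (1690, 1125), (1691, 1126), (1692, 2640), (1693, 2641), (1694, 2642), (1695, 2653), (1696, 1698), (1697, 2657), (1698, 1696), (1699, 1127), (1700, 2662), (1701, 2663), (1702, 1128), (1703, 2668), (1704, 2669), (1705, 2673), (1706, 1130), (1707, 2678), (1708, 1733), (1709, 2683), (1710, 1132), (1711, 2687), (1712, 2688), (1713, 2692), (1714, 1134), (1715, 2697), (1716, 1756), (1717, 2702), (1718, 1136), (1719, 2706), (1720, 2707), (1721, 1137), (1722, 2333), (1723, 2711), (1724, 2712), (1725, 2720), (1726, 1140), (1727, 1141)]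
    ⟨e3 q1664 (flp_a L84813) q2596, e3 q1665 (flp_a L84817) q2597, e3 q1666 L84857 q2604, e3 q1667 L25110 q1641, e3 q1668 (flp_a L25116) q1108, e3 q1669 (flp_a L84883) q2609, e3 q1670 (flp_a L84889) q2610, e3 q1671 L50633 q1671, e3 q1672 L71002 q1672, e3 q1673 L84927 q2616, e3 q1674 L84936 q2618, e3 q1675 L25224 q1112, e3 q1676 (flp_a L84958) q2621, e3 q1677 L79736 q1677, e3 q1678 L82689 q1678, e3 q1679 L84992 q2626, e3 q1680 L85001 q2628, e3 q1681 L25348 q1116, e3 q1682 (flp_a L85025) q2631, e3 q1683 (flp_a L25565) q1117, e3 q1684 (flp_a L85047) q2634, e3 q1685 (flp_a L25822) q1118, e3 q1686 (flp_a L85061) q2636, e3 q1687 L26175 q1120, e3 q1688 L26544 q1122, e3 q1689 L26650 q1124, e3 q1690 L26654 q1125, e3 q1691 L26658 q1126, e3 q1692 (flp_a L85119) q2640, e3 q1693 (flp_a L85123) q2641, e3 q1694 (flp_a L85129) q2642, e3 q1695 L85170 q2653, e3 q1696 (flp_a L26685) q1698, e3 q1697 L85184 q2657, e3 q1698 L26685 q1696, e3 q1699 (flp_a L26689) q1127, e3 q1700 (flp_a L85200) q2662, e3 q1701 (flp_a L85204) q2663, e3 q1702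 (flp_a L26696) q1128, e3 q1703 (flp_a L85225) q2668, e3 q1704 (flp_a L85229) q2669, e3 q1705 L85246 q2673, e3 q1706 L26707 q1130, e3 q1707 (flp_a L85260) q2678, e3 q1708 (flp_a L26803) q1733, e3 q1709 L85280 q2683, e3 q1710 (flp_a L26724) q1132, e3 q1711 (flp_a L85294) q2687, e3 q1712 (flp_a L85298) q2688, e3 q1713 L85315 q2692, e3 q1714 L26737 q1134, e3 q1715 (flp_a L85329) q2697, e3 q1716 (flp_a L26887) q1756, e3 q1717 L85349 q2702, e3 q1718 (flp_a L26754) q1136, e3 q1719 (flp_a L85363) q2706, e3 q1720 (flp_a L85367) q2707, e3 q1721 (flp_a L26763) q1137, e3 q1722 (flp_a L91631) q2333, e3 q1723 (flp_a L85390) q2711, e3 q1724 (flp_a L85394) q2712, e3 q1725 L85424 q2720, e3 q1726 L26775 q1140, e3 q1727 L26779 q1141, trivial⟩ (by decide +kernel)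

theorem ce_a_27 : ∀ r, r < 64 → sm ga (Qf (1728 + r)) = Qf (tab Gen.a (1728 + r)) :=
  edges_tab (sm ga) Qf (tab Gen.a) 1728 [(1728, 2728), (1729, 2724), (1730, 2725), (1731, 2726), (1732, 2737), (1733, 1708), (1734, 1142), (1735, 2742), (1736, 1743), (1737, 2746), (1738, 2749), (1739, 1145), (1740, 1146), (1741, 2754), (1742, 2755), (1743, 1736), (1744, 1147), (1745, 2346), (1746, 2762), (1747, 2763), (1748, 2771), (1749, 1150), (1750, 1151), (1751, 2779), (1752, 2775), (1753, 2776), (1754, 2777), (1755, 2788), (1756, 1716), (1757, 1152), (1758, 2793), (1759, 1766), (1760, 2797), (1761, 2800), (1762, 1155), (1763, 1156), (1764, 2805), (1765, 2806), (1766, 1759), (1767, 1767), (1768, 2814), (1769, 1159), (1770, 2817), (1771, 2818), (1772, 1467), (1773, 1161), (1774, 2823), (1775, 2826), (1776, 1163), (1777, 1802), (1778, 2830), (1779, 1779), (1780, 2834), (1781, 1166), (1782, 2837), (1783, 2838), (1784, 1470), (1785, 1168), (1786, 2843), (1787, 2846), (1788, 1170), (1789, 1815), (1790, 2850), (1791, 1473)]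
    ⟨e3 q1728 L85455 q2728, e3 q1729 (flp_a L85437) q2724, e3 q1730 (flp_a L85443) q2725, e3 q1731 (flp_a L85447) q2726, e3 q1732 L85497 q2737, e3 q1733 L26803 q1708, e3 q1734 (flp_a L26809) q1142, e3 q1735 (flp_a L85515) q2742, e3 q1736 (flp_a L26843) q1743, e3 q1737 L85531 q2746, e3 q1738 L85539 q2749, e3 q1739 L26825 q1145, e3 q1740 L26829 q1146, e3 q1741 (flp_a L85551) q2754, e3 q1742 (flp_a L85555) q2755, e3 q1743 L26843 q1736, e3 q1744 (flp_a L26847) q1147, e3 q1745 L102086 q2346, e3 q1746 (flp_a L85591) q2762, e3 q1747 (flp_a L85595) q2763, e3 q1748 L85625 q2771, e3 q1749 L26859 q1150, e3 q1750 L26863 q1151, e3 q1751 L85656 q2779, e3 q1752 (flp_a L85638) q2775, e3 q1753 (flp_a L85644) q2776, e3 q1754 (flp_a L85648) q2777, e3 q1755 L85698 q2788, e3 q1756 L26887 q1716, e3 q1757 (flp_a L26893) q1152, e3 q1758 (flp_a L85718) q2793, e3 q1759 (flp_a L26935) q1766, e3 q1760 L85736 q2797, e3 q1761 L85744 q2800, e3 q1762 L26915 q1155, e3 q1763 L26919 q1156, e3 q1764 (flp_a L85764) q2805, e3 q1765 (flp_a L85768) q2806,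 e3 q1766 L26935 q1759, e3 q1767 L71006 q1767, e3 q1768 L85806 q2814, e3 q1769 (flp_a L27041) q1159, e3 q1770 (flp_a L85822) q2817, e3 q1771 (flp_a L85826) q2818, e3 q1772 L80535 q1467, e3 q1773 (flp_a L27067) q1161, e3 q1774 (flp_a L85856) q2823, e3 q1775 L85870 q2826, e3 q1776 L27087 q1163, e3 q1777 (flp_a L27610) q1802, e3 q1778 (flp_a L85884) q2830, e3 q1779 L82686 q1779, e3 q1780 L85898 q2834, e3 q1781 (flp_a L27231) q1166, e3 q1782 (flp_a L85914) q2837, e3 q1783 (flp_a L85918) q2838, e3 q1784 L80555 q1470, e3 q1785 (flp_a L27257) q1168, e3 q1786 (flp_a L85948) q2843, e3 q1787 L85962 q2846, e3 q1788 L27279 q1170, e3 q1789 (flp_a L27942) q1815, e3 q1790 (flp_a L85976) q2850, e3 q1791 L75694 q1473, trivial⟩ (by decide +kernel)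

theorem ce_a_28 : ∀ r, r < 64 → sm ga (Qf (1792 + r)) = Qf (tab Gen.a (1792 + r)) :=
  edges_tab (sm ga) Qf (tab Gen.a) 1792 [(1792, 1474), (1793, 1173), (1794, 1571), (1795, 2855), (1796, 1174), (1797, 2859), (1798, 1201), (1799, 1176), (1800, 1177), (1801, 2864), (1802, 1777), (1803, 2863), (1804, 1476), (1805, 1477), (1806, 1180), (1807, 1570), (1808, 2873), (1809, 1181), (1810, 2877), (1811, 1209), (1812, 1183), (1813, 1184), (1814, 2882), (1815, 1789), (1816, 2881), (1817, 1360), (1818, 1370), (1819, 2889), (1820, 1203), (1821, 2861), (1822, 1202), (1823, 2894), (1824, 2895), (1825, 2898), (1826, 1204), (1827, 2902), (1828, 1586), (1829, 2064), (1830, 2897), (1831, 1211), (1832, 2879), (1833, 1210), (1834, 2908), (1835, 2890), (1836, 2910), (1837, 1212), (1838, 2914), (1839, 1603), (1840, 2080), (1841, 2917), (1842, 1218), (1843, 2921), (1844, 2922), (1845, 2923), (1846, 1220), (1847, 2930), (1848, 2931), (1849, 2932), (1850, 1290), (1851, 1291), (1852, 2942), (1853, 2944), (1854, 2946), (1855, 1225)]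
    ⟨e3 q1792 L75687 q1474, e3 q1793 L27518 q1173, e3 q1794 L142090 q1571, e3 q1795 (flp_a L86001) q2855, e3 q1796 (flp_a L27556) q1174, e3 q1797 (flp_a L86037) q2859, e3 q1798 L52149 q1201, e3 q1799 L27574 q1176, e3 q1800 L27580 q1177, e3 q1801 L86087 q2864, e3 q1802 L27610 q1777, e3 q1803 (flp_a L86081) q2863, e3 q1804 L77844 q1476, e3 q1805 L77786 q1477, e3 q1806 L27852 q1180, e3 q1807 (flp_a L142117) q1570, e3 q1808 (flp_a L86132) q2873, e3 q1809 (flp_a L27888) q1181, e3 q1810 (flp_a L86158) q2877, e3 q1811 L81887 q1209, e3 q1812 L27906 q1183, e3 q1813 L27912 q1184, e3 q1814 L86198 q2882, e3 q1815 L27942 q1789, e3 q1816 (flp_a L86192) q2881, e3 q1817 (flp_a L141808) q1360, e3 q1818 L142202 q1370, e3 q1819 L86611 q2889, e3 q1820 L29045 q1203, e3 q1821 (flp_a L86069) q2861, e3 q1822 (flp_a L29077) q1202, e3 q1823 (flp_a L86665) q2894, e3 q1824 (flp_a L86669) q2895, e3 q1825 L86711 q2898, e3 q1826 (flp_a L29105) q1204, e3 q1827 (flp_a L86747) q2902, e3 q1828 L83445 q1586, e3 q1829 L83415 q2064, e3 q1830 (flp_a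 L147411) q2897, e3 q1831 L29211 q1211, e3 q1832 (flp_a L86174) q2879, e3 q1833 (flp_a L29247) q1210, e3 q1834 (flp_a L86912) q2908, e3 q1835 (flp_a L147132) q2890, e3 q1836 L86958 q2910, e3 q1837 (flp_a L29275) q1212, e3 q1838 (flp_a L86994) q2914, e3 q1839 (flp_a L82733) q1603, e3 q1840 (flp_a L71597) q2080, e3 q1841 L87939 q2917, e3 q1842 (flp_a L32484) q1218, e3 q1843 (flp_a L87963) q2921, e3 q1844 (flp_a L87967) q2922, e3 q1845 (flp_a L87973) q2923, e3 q1846 (flp_a L32810) q1220, e3 q1847 (flp_a L88010) q2930, e3 q1848 (flp_a L88018) q2931, e3 q1849 (flp_a L88024) q2932, e3 q1850 L32830 q1290, e3 q1851 L32838 q1291, e3 q1852 L88090 q2942, e3 q1853 L88100 q2944, e3 q1854 L88110 q2946, e3 q1855 L33072 q1225, trivial⟩ (by decide +kernel)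

theorem ce_a_29 : ∀ r, r < 64 → sm ga (Qf (1856 + r)) = Qf (tab Gen.a (1856 + r)) :=
  edges_tab (sm ga) Qf (tab Gen.a) 1856 [(1856, 1226), (1857, 2952), (1858, 1860), (1859, 2955), (1860, 1858), (1861, 1227), (1862, 2959), (1863, 1228), (1864, 2962), (1865, 1240), (1866, 1241), (1867, 1242), (1868, 1868), (1869, 1869), (1870, 1234), (1871, 2971), (1872, 2972), (1873, 2977), (1874, 2980), (1875, 1875), (1876, 1876), (1877, 1239), (1878, 2986), (1879, 2987), (1880, 2988), (1881, 2964), (1882, 2965), (1883, 2999), (1884, 1886), (1885, 3003), (1886, 1884), (1887, 1984), (1888, 1973), (1889, 1302), (1890, 1989), (1891, 1981), (1892, 1298), (1893, 2947), (1894, 1252), (1895, 1253), (1896, 1254), (1897, 3016), (1898, 3017), (1899, 3018), (1900, 3019), (1901, 3032), (1902, 1904), (1903, 3036), (1904, 1902), (1905, 2191), (1906, 2192), (1907, 3044), (1908, 1910), (1909, 3048), (1910, 1908), (1911, 1258), (1912, 3053), (1913, 3054), (1914, 3059), (1915, 1260), (1916, 3063), (1917, 3064), (1918, 3069), (1919, 1263)]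
    ⟨e3 q1856 L33078 q1226, e3 q1857 L88134 q2952, e3 q1858 (flp_a L33102) q1860, e3 q1859 L88150 q2955, e3 q1860 L33102 q1858, e3 q1861 (flp_a L33108) q1227, e3 q1862 (flp_a L88172) q2959, e3 q1863 (flp_a L33120) q1228, e3 q1864 (flp_a L88194) q2962, e3 q1865 L72365 q1240, e3 q1866 L36486 q1241, e3 q1867 L36494 q1242, e3 q1868 L71683 q1868, e3 q1869 L82692 q1869, e3 q1870 (flp_a L36604) q1234, e3 q1871 (flp_a L88256) q2971, e3 q1872 (flp_a L88265) q2972, e3 q1873 L88292 q2977, e3 q1874 L88300 q2980, e3 q1875 L71682 q1875, e3 q1876 L83332 q1876, e3 q1877 (flp_a L36788) q1239, e3 q1878 (flp_a L88324) q2986, e3 q1879 (flp_a L88328) q2987, e3 q1880 (flp_a L88336) q2988, e3 q1881 (flp_a L88212) q2964, e3 q1882 (flp_a L88221) q2965, e3 q1883 L88408 q2999, e3 q1884 (flp_a L36843) q1886, e3 q1885 L88426 q3003, e3 q1886 L36843 q1884, e3 q1887 (flp_a L72130) q1984, e3 q1888 (flp_a L38816) q1973, e3 q1889 L81617 q1302, e3 q1890 L82690 q1989, e3 q1891 (flp_a L38882) q1981, e3 q1892 L81584 q1298, e3 q1893 (flp_a L88514) q2947,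 e3 q1894 L37161 q1252, e3 q1895 L37165 q1253, e3 q1896 L37171 q1254, e3 q1897 (flp_a L88504) q3016, e3 q1898 (flp_a L88528) q3017, e3 q1899 (flp_a L88532) q3018, e3 q1900 (flp_a L88538) q3019, e3 q1901 L88598 q3032, e3 q1902 (flp_a L37205) q1904, e3 q1903 L88612 q3036, e3 q1904 L37205 q1902, e3 q1905 (flp_a L72352) q2191, e3 q1906 (flp_a L72346) q2192, e3 q1907 L88656 q3044, e3 q1908 (flp_a L37237) q1910, e3 q1909 L88670 q3048, e3 q1910 L37237 q1908, e3 q1911 (flp_a L37245) q1258, e3 q1912 (flp_a L88688) q3053, e3 q1913 (flp_a L88692) q3054, e3 q1914 L88714 q3059, e3 q1915 (flp_a L37255) q1260, e3 q1916 (flp_a L88728) q3063, e3 q1917 (flp_a L88732) q3064, e3 q1918 L88754 q3069, e3 q1919 L37271 q1263, trivial⟩ (by decide +kernel)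

theorem ce_a_30 : ∀ r, r < 64 → sm ga (Qf (1920 + r)) = Qf (tab Gen.a (1920 + r)) :=
  edges_tab (sm ga) Qf (tab Gen.a) 1920 [(1920, 3073), (1921, 2036), (1922, 1348), (1923, 1267), (1924, 3080), (1925, 2048), (1926, 1340), (1927, 1927), (1928, 1271), (1929, 3088), (1930, 3089), (1931, 2061), (1932, 1366), (1933, 1933), (1934, 1275), (1935, 3098), (1936, 3099), (1937, 2077), (1938, 1356), (1939, 1939), (1940, 1280), (1941, 1380), (1942, 1942), (1943, 1284), (1944, 1374), (1945, 3106), (1946, 1287), (1947, 1288), (1948, 1289), (1949, 1620), (1950, 3110), (1951, 3111), (1952, 3120), (1953, 1955), (1954, 3124), (1955, 1953), (1956, 3128), (1957, 1959), (1958, 3132), (1959, 1957), (1960, 1292), (1961, 3137), (1962, 3138), (1963, 3143), (1964, 1294), (1965, 3147), (1966, 3148), (1967, 3153), (1968, 1968), (1969, 1297), (1970, 3158), (1971, 3012), (1972, 3163), (1973, 1888), (1974, 1299), (1975, 3165), (1976, 1976), (1977, 1301), (1978, 3169), (1979, 3009), (1980, 3174), (1981, 1891), (1982, 1303), (1983, 3176)]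
    ⟨e3 q1920 (flp_a L88769) q3073, e3 q1921 (flp_a L39741) q2036, e3 q1922 L81623 q1348, e3 q1923 L37307 q1267, e3 q1924 (flp_a L88798) q3080, e3 q1925 (flp_a L39839) q2048, e3 q1926 L81596 q1340, e3 q1927 L37363 q1927, e3 q1928 L37366 q1271, e3 q1929 (flp_a L88843) q3088, e3 q1930 (flp_a L88851) q3089, e3 q1931 (flp_a L40015) q2061, e3 q1932 L74187 q1366, e3 q1933 L71324 q1933, e3 q1934 L37472 q1275, e3 q1935 (flp_a L88916) q3098, e3 q1936 (flp_a L88924) q3099, e3 q1937 (flp_a L40263) q2077, e3 q1938 L78279 q1356, e3 q1939 L37613 q1939, e3 q1940 L37629 q1280, e3 q1941 L81704 q1380, e3 q1942 L71327 q1942, e3 q1943 L37988 q1284, e3 q1944 L78582 q1374, e3 q1945 L89010 q3106, e3 q1946 L38666 q1287, e3 q1947 L38670 q1288, e3 q1948 L38676 q1289, e3 q1949 L84353 q1620, e3 q1950 (flp_a L89032) q3110, e3 q1951 (flp_a L89040) q3111, e3 q1952 L89096 q3120, e3 q1953 (flp_a L38710) q1955, e3 q1954 L89116 q3124, e3 q1955 L38710 q1953, e3 q1956 L89136 q3128, e3 q1957 (flp_a L38732) q1959, e3 q1958 L89150 q3132, e3 q1959 L38732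 q1957, e3 q1960 (flp_a L38740) q1292, e3 q1961 (flp_a L89172) q3137, e3 q1962 (flp_a L89178) q3138, e3 q1963 L89208 q3143, e3 q1964 (flp_a L38758) q1294, e3 q1965 (flp_a L89230) q3147, e3 q1966 (flp_a L89236) q3148, e3 q1967 L89266 q3153, e3 q1968 L71992 q1968, e3 q1969 L38784 q1297, e3 q1970 (flp_a L89296) q3158, e3 q1971 (flp_a L88480) q3012, e3 q1972 L89320 q3163, e3 q1973 L38816 q1888, e3 q1974 (flp_a L38824) q1299, e3 q1975 (flp_a L89338) q3165, e3 q1976 L83327 q1976, e3 q1977 L38850 q1301, e3 q1978 (flp_a L89360) q3169, e3 q1979 (flp_a L88458) q3009, e3 q1980 L89384 q3174, e3 q1981 L38882 q1891, e3 q1982 (flp_a L38890) q1303, e3 q1983 (flp_a L89404) q3176, trivial⟩ (by decide +kernel)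

theorem ce_a_31 : ∀ r, r < 64 → sm ga (Qf (1984 + r)) = Qf (tab Gen.a (1984 + r)) :=
  edges_tab (sm ga) Qf (tab Gen.a) 1984 [(1984, 1887), (1985, 1307), (1986, 3180), (1987, 1309), (1988, 3182), (1989, 1890), (1990, 1313), (1991, 3186), (1992, 1315), (1993, 3188), (1994, 1317), (1995, 1320), (1996, 1322), (1997, 3192), (1998, 3193), (1999, 3198), (2000, 3201), (2001, 1325), (2002, 3205), (2003, 2015), (2004, 3209), (2005, 1327), (2006, 3213), (2007, 2025), (2008, 3217), (2009, 3220), (2010, 1330), (2011, 1331), (2012, 3225), (2013, 3226), (2014, 3232), (2015, 2003), (2016, 1332), (2017, 3237), (2018, 3238), (2019, 3242), (2020, 1334), (2021, 1335), (2022, 3247), (2023, 3248), (2024, 3254), (2025, 2007), (2026, 1336), (2027, 3259), (2028, 3260), (2029, 2029), (2030, 3266), (2031, 1339), (2032, 2056), (2033, 3270), (2034, 3085), (2035, 3277), (2036, 1921), (2037, 1341), (2038, 3281), (2039, 1344), (2040, 3284), (2041, 2041), (2042, 3289), (2043, 1347), (2044, 2072), (2045, 3293), (2046, 3078), (2047, 3300)]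
    ⟨e3 q1984 L72130 q1887, e3 q1985 (flp_a L38970) q1307, e3 q1986 (flp_a L89427) q3180, e3 q1987 L38996 q1309, e3 q1988 (flp_a L89441) q3182, e3 q1989 (flp_a L82690) q1890, e3 q1990 (flp_a L39086) q1313, e3 q1991 (flp_a L89468) q3186, e3 q1992 L39112 q1315, e3 q1993 (flp_a L89484) q3188, e3 q1994 L39270 q1317, e3 q1995 L39485 q1320, e3 q1996 (flp_a L39575) q1322, e3 q1997 (flp_a L89584) q3192, e3 q1998 (flp_a L89590) q3193, e3 q1999 L89614 q3198, e3 q2000 L89620 q3201, e3 q2001 (flp_a L39587) q1325, e3 q2002 (flp_a L89630) q3205, e3 q2003 (flp_a L39637) q2015, e3 q2004 L89646 q3209, e3 q2005 (flp_a L39599) q1327, e3 q2006 (flp_a L89658) q3213, e3 q2007 (flp_a L39679) q2025, e3 q2008 L89674 q3217, e3 q2009 L89682 q3220, e3 q2010 L39615 q1330, e3 q2011 L39619 q1331, e3 q2012 (flp_a L89694) q3225, e3 q2013 (flp_a L89700) q3226, e3 q2014 L89728 q3232, e3 q2015 L39637 q2003, e3 q2016 (flp_a L39641) q1332, e3 q2017 (flp_a L89744) q3237, e3 q2018 (flp_a L89748) q3238, e3 q2019 L89767 q3242, e3 q2020 L39655 q1334, e3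 q2021 L39659 q1335, e3 q2022 (flp_a L89779) q3247, e3 q2023 (flp_a L89785) q3248, e3 q2024 L89813 q3254, e3 q2025 L39679 q2007, e3 q2026 (flp_a L39683) q1336, e3 q2027 (flp_a L89835) q3259, e3 q2028 (flp_a L89839) q3260, e3 q2029 L71994 q2029, e3 q2030 L89873 q3266, e3 q2031 L39715 q1339, e3 q2032 (flp_a L39989) q2056, e3 q2033 (flp_a L89885) q3270, e3 q2034 (flp_a L88822) q3085, e3 q2035 L89915 q3277, e3 q2036 L39741 q1921, e3 q2037 (flp_a L39747) q1341, e3 q2038 (flp_a L89927) q3281, e3 q2039 L39771 q1344, e3 q2040 (flp_a L89941) q3284, e3 q2041 L83330 q2041, e3 q2042 L89961 q3289, e3 q2043 L39813 q1347, e3 q2044 (flp_a L40237) q2072, e3 q2045 (flp_a L89973) q3293, e3 q2046 (flp_a L88789) q3078, e3 q2047 L90003 q3300, trivial⟩ (by decide +kernel)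

theorem ce_a_32 : ∀ r, r < 64 → sm ga (Qf (2048 + r)) = Qf (tab Gen.a (2048 + r)) :=
  edges_tab (sm ga) Qf (tab Gen.a) 2048 [(2048, 1925), (2049, 1349), (2050, 3304), (2051, 1352), (2052, 3307), (2053, 1354), (2054, 1355), (2055, 3312), (2056, 2032), (2057, 3311), (2058, 3104), (2059, 3105), (2060, 3325), (2061, 1931), (2062, 1357), (2063, 1588), (2064, 1829), (2065, 2858), (2066, 1362), (2067, 3328), (2068, 1475), (2069, 1364), (2070, 1365), (2071, 3334), (2072, 2044), (2073, 3333), (2074, 3094), (2075, 3095), (2076, 3347), (2077, 1937), (2078, 1367), (2079, 1605), (2080, 1840), (2081, 2876), (2082, 1372), (2083, 3350), (2084, 1478), (2085, 1385), (2086, 3355), (2087, 3356), (2088, 3357), (2089, 2433), (2090, 2436), (2091, 3366), (2092, 2095), (2093, 1389), (2094, 3370), (2095, 2092), (2096, 3373), (2097, 1596), (2098, 1394), (2099, 3379), (2100, 3380), (2101, 3381), (2102, 2463), (2103, 2466), (2104, 3390), (2105, 2108), (2106, 1398), (2107, 3394), (2108, 2105), (2109, 3397), (2110, 1579), (2111, 3402)]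
    ⟨e3 q2048 L39839 q1925, e3 q2049 (flp_a L39845) q1349, e3 q2050 (flp_a L90017) q3304, e3 q2051 L39869 q1352, e3 q2052 (flp_a L90033) q3307, e3 q2053 L39947 q1354, e3 q2054 L39953 q1355, e3 q2055 L90053 q3312, e3 q2056 L39989 q2032, e3 q2057 (flp_a L90049) q3311, e3 q2058 (flp_a L88964) q3104, e3 q2059 (flp_a L88972) q3105, e3 q2060 L90125 q3325, e3 q2061 L40015 q1931, e3 q2062 (flp_a L40021) q1357, e3 q2063 L40031 q1588, e3 q2064 (flp_a L83415) q1829, e3 q2065 (flp_a L141820) q2858, e3 q2066 L40103 q1362, e3 q2067 (flp_a L90190) q3328, e3 q2068 (flp_a L141790) q1475, e3 q2069 L40205 q1364, e3 q2070 L40211 q1365, e3 q2071 L90229 q3334, e3 q2072 L40237 q2044, e3 q2073 (flp_a L90225) q3333, e3 q2074 (flp_a L88887) q3094, e3 q2075 (flp_a L88893) q3095, e3 q2076 L90301 q3347, e3 q2077 L40263 q1937, e3 q2078 (flp_a L40269) q1367, e3 q2079 (flp_a L71379) q1605, e3 q2080 L71597 q1840, e3 q2081 (flp_a L141158) q2876, e3 q2082 L40353 q1372, e3 q2083 (flp_a L90374) q3350, e3 q2084 L141248 q1478, e3 q2085 (flp_a L41266)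 q1385, e3 q2086 (flp_a L90604) q3355, e3 q2087 (flp_a L90608) q3356, e3 q2088 (flp_a L90612) q3357, e3 q2089 (flp_a L83881) q2433, e3 q2090 (flp_a L83899) q2436, e3 q2091 L90650 q3366, e3 q2092 (flp_a L141153) q2095, e3 q2093 (flp_a L41296) q1389, e3 q2094 (flp_a L90678) q3370, e3 q2095 L141153 q2092, e3 q2096 L90694 q3373, e3 q2097 L41328 q1596, e3 q2098 (flp_a L41402) q1394, e3 q2099 (flp_a L90724) q3379, e3 q2100 (flp_a L90728) q3380, e3 q2101 (flp_a L90732) q3381, e3 q2102 (flp_a L84037) q2463, e3 q2103 (flp_a L84055) q2466, e3 q2104 L90774 q3390, e3 q2105 L141854 q2108, e3 q2106 (flp_a L41434) q1398, e3 q2107 (flp_a L90804) q3394, e3 q2108 (flp_a L141854) q2105, e3 q2109 L90820 q3397, e3 q2110 L41476 q1579, e3 q2111 L90890 q3402, trivial⟩ (by decide +kernel)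

theorem ce_a_33 : ∀ r, r < 64 → sm ga (Qf (2112 + r)) = Qf (tab Gen.a (2112 + r)) :=
  edges_tab (sm ga) Qf (tab Gen.a) 2112 [(2112, 1406), (2113, 3405), (2114, 3406), (2115, 3407), (2116, 1408), (2117, 3413), (2118, 3414), (2119, 3415), (2120, 1424), (2121, 1425), (2122, 1426), (2123, 3426), (2124, 3428), (2125, 1509), (2126, 1413), (2127, 1414), (2128, 1415), (2129, 3433), (2130, 3430), (2131, 3434), (2132, 3435), (2133, 3448), (2134, 2136), (2135, 3451), (2136, 2134), (2137, 1453), (2138, 1454), (2139, 3456), (2140, 3459), (2141, 1419), (2142, 3463), (2143, 1420), (2144, 3466), (2145, 1422), (2146, 1423), (2147, 3470), (2148, 2150), (2149, 3474), (2150, 2148), (2151, 3422), (2152, 3423), (2153, 3482), (2154, 2156), (2155, 3486), (2156, 2154), (2157, 1427), (2158, 3491), (2159, 3492), (2160, 3497), (2161, 1429), (2162, 3501), (2163, 3502), (2164, 3507), (2165, 2297), (2166, 1432), (2167, 3511), (2168, 2299), (2169, 1434), (2170, 3514), (2171, 1436), (2172, 3516), (2173, 1438), (2174, 3518), (2175, 1444)]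
    ⟨e3 q2112 (flp_a L42496) q1406, e3 q2113 (flp_a L90920) q3405, e3 q2114 (flp_a L90928) q3406, e3 q2115 (flp_a L90934) q3407, e3 q2116 (flp_a L42652) q1408, e3 q2117 (flp_a L90977) q3413, e3 q2118 (flp_a L90983) q3414, e3 q2119 (flp_a L90989) q3415, e3 q2120 L42670 q1424, e3 q2121 L42678 q1425, e3 q2122 L42686 q1426, e3 q2123 L91065 q3426, e3 q2124 L91075 q3428, e3 q2125 L72243 q1509, e3 q2126 L42898 q1413, e3 q2127 L42902 q1414, e3 q2128 L42906 q1415, e3 q2129 (flp_a L91107) q3433, e3 q2130 (flp_a L91087) q3430, e3 q2131 (flp_a L91111) q3434, e3 q2132 (flp_a L91117) q3435, e3 q2133 L91181 q3448, e3 q2134 (flp_a L42938) q2136, e3 q2135 L91191 q3451, e3 q2136 L42938 q2134, e3 q2137 L42944 q1453, e3 q2138 L42952 q1454, e3 q2139 L91209 q3456, e3 q2140 L91221 q3459, e3 q2141 (flp_a L42966) q1419, e3 q2142 (flp_a L91237) q3463, e3 q2143 (flp_a L42974) q1420, e3 q2144 (flp_a L91253) q3466, e3 q2145 L43288 q1422, e3 q2146 L43296 q1423, e3 q2147 L91281 q3470, e3 q2148 (flp_a L43340) q2150, e3 q2149 L91303 q3474, e3 q2150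 L43340 q2148, e3 q2151 (flp_a L91039) q3422, e3 q2152 (flp_a L91049) q3423, e3 q2153 L91363 q3482, e3 q2154 (flp_a L43376) q2156, e3 q2155 L91377 q3486, e3 q2156 L43376 q2154, e3 q2157 (flp_a L43384) q1427, e3 q2158 (flp_a L91397) q3491, e3 q2159 (flp_a L91403) q3492, e3 q2160 L91433 q3497, e3 q2161 (flp_a L43402) q1429, e3 q2162 (flp_a L91455) q3501, e3 q2163 (flp_a L91461) q3502, e3 q2164 L91491 q3507, e3 q2165 L69693 q2297, e3 q2166 (flp_a L43452) q1432, e3 q2167 (flp_a L91517) q3511, e3 q2168 L82457 q2299, e3 q2169 (flp_a L43502) q1434, e3 q2170 (flp_a L91535) q3514, e3 q2171 L43595 q1436, e3 q2172 (flp_a L91545) q3516, e3 q2173 L43693 q1438, e3 q2174 (flp_a L91561) q3518, e3 q2175 L43976 q1444, trivial⟩ (by decide +kernel)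

theorem ce_a_34 : ∀ r, r < 64 → sm ga (Qf (2176 + r)) = Qf (tab Gen.a (2176 + r)) :=
  edges_tab (sm ga) Qf (tab Gen.a) 2176 [(2176, 1445), (2177, 3522), (2178, 3525), (2179, 3528), (2180, 2182), (2181, 3532), (2182, 2180), (2183, 1446), (2184, 3537), (2185, 2213), (2186, 3541), (2187, 1448), (2188, 3545), (2189, 2223), (2190, 3549), (2191, 1905), (2192, 1906), (2193, 3554), (2194, 3557), (2195, 3560), (2196, 2198), (2197, 3564), (2198, 2196), (2199, 1455), (2200, 3569), (2201, 3570), (2202, 3575), (2203, 1457), (2204, 3579), (2205, 3580), (2206, 3585), (2207, 3588), (2208, 1460), (2209, 1461), (2210, 3593), (2211, 3594), (2212, 3600), (2213, 2185), (2214, 1462), (2215, 3605), (2216, 3606), (2217, 3610), (2218, 1464), (2219, 1465), (2220, 3615), (2221, 3616), (2222, 3622), (2223, 2189), (2224, 1466), (2225, 3627), (2226, 3628), (2227, 2236), (2228, 2822), (2229, 1469), (2230, 3635), (2231, 2240), (2232, 2842), (2233, 1472), (2234, 3641), (2235, 3644), (2236, 2227), (2237, 2854), (2238, 3331), (2239, 3653)]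
    ⟨e3 q2176 L43984 q1445, e3 q2177 L91621 q3522, e3 q2178 L91660 q3525, e3 q2179 L91668 q3528, e3 q2180 (flp_a L44022) q2182, e3 q2181 L91686 q3532, e3 q2182 L44022 q2180, e3 q2183 (flp_a L44030) q1446, e3 q2184 (flp_a L91710) q3537, e3 q2185 (flp_a L44181) q2213, e3 q2186 L91728 q3541, e3 q2187 (flp_a L44044) q1448, e3 q2188 (flp_a L91742) q3545, e3 q2189 (flp_a L44221) q2223, e3 q2190 L91760 q3549, e3 q2191 L72352 q1905, e3 q2192 L72346 q1906, e3 q2193 L91786 q3554, e3 q2194 L91798 q3557, e3 q2195 L91810 q3560, e3 q2196 (flp_a L44121) q2198, e3 q2197 L91828 q3564, e3 q2198 L44121 q2196, e3 q2199 (flp_a L44127) q1455, e3 q2200 (flp_a L91850) q3569, e3 q2201 (flp_a L91854) q3570, e3 q2202 L91880 q3575, e3 q2203 (flp_a L44141) q1457, e3 q2204 (flp_a L91898) q3579, e3 q2205 (flp_a L91902) q3580, e3 q2206 L91928 q3585, e3 q2207 L91940 q3588, e3 q2208 L44159 q1460, e3 q2209 L44163 q1461, e3 q2210 (flp_a L91952) q3593, e3 q2211 (flp_a L91956) q3594, e3 q2212 L91982 q3600, e3 q2213 L44181 q2185, e3 q2214 (flp_a L44185)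 q1462, e3 q2215 (flp_a L91998) q3605, e3 q2216 (flp_a L92002) q3606, e3 q2217 L92021 q3610, e3 q2218 L44199 q1464, e3 q2219 L44203 q1465, e3 q2220 (flp_a L92033) q3615, e3 q2221 (flp_a L92037) q3616, e3 q2222 L92063 q3622, e3 q2223 L44221 q2189, e3 q2224 (flp_a L44225) q1466, e3 q2225 (flp_a L92079) q3627, e3 q2226 (flp_a L92083) q3628, e3 q2227 (flp_a L44416) q2236, e3 q2228 (flp_a L85848) q2822, e3 q2229 L44298 q1469, e3 q2230 (flp_a L92120) q3635, e3 q2231 (flp_a L44577) q2240, e3 q2232 (flp_a L85940) q2842, e3 q2233 L44379 q1472, e3 q2234 (flp_a L92147) q3641, e3 q2235 L92156 q3644, e3 q2236 L44416 q2227, e3 q2237 (flp_a L85991) q2854, e3 q2238 L141752 q3331, e3 q2239 L92229 q3653, trivial⟩ (by decide +kernel)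

theorem ce_a_35 : ∀ r, r < 64 → sm ga (Qf (2240 + r)) = Qf (tab Gen.a (2240 + r)) :=
  edges_tab (sm ga) Qf (tab Gen.a) 2240 [(2240, 2231), (2241, 2872), (2242, 3353), (2243, 1479), (2244, 2933), (2245, 3662), (2246, 3663), (2247, 1483), (2248, 1484), (2249, 1485), (2250, 3675), (2251, 3678), (2252, 3671), (2253, 3672), (2254, 3685), (2255, 2257), (2256, 3689), (2257, 2255), (2258, 1486), (2259, 3694), (2260, 2277), (2261, 3698), (2262, 1488), (2263, 3702), (2264, 2283), (2265, 3706), (2266, 1490), (2267, 3710), (2268, 3711), (2269, 1491), (2270, 3716), (2271, 3717), (2272, 3721), (2273, 1493), (2274, 1494), (2275, 3725), (2276, 3726), (2277, 2260), (2278, 3734), (2279, 1496), (2280, 1497), (2281, 3738), (2282, 3739), (2283, 2264), (2284, 3747), (2285, 1500), (2286, 1501), (2287, 3751), (2288, 2622), (2289, 3755), (2290, 3757), (2291, 1504), (2292, 1505), (2293, 3761), (2294, 2632), (2295, 3765), (2296, 3767), (2297, 2165), (2298, 3772), (2299, 2168), (2300, 1510), (2301, 1511), (2302, 3431), (2303, 3432)]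
    ⟨e3 q2240 L44577 q2231, e3 q2241 (flp_a L86122) q2872, e3 q2242 L133431 q3353, e3 q2243 (flp_a L45104) q1479, e3 q2244 (flp_a L88030) q2933, e3 q2245 (flp_a L92420) q3662, e3 q2246 (flp_a L92426) q3663, e3 q2247 L45130 q1483, e3 q2248 L45136 q1484, e3 q2249 L45144 q1485, e3 q2250 L92503 q3675, e3 q2251 L92521 q3678, e3 q2252 (flp_a L92475) q3671, e3 q2253 (flp_a L92484) q3672, e3 q2254 L92565 q3685, e3 q2255 (flp_a L45199) q2257, e3 q2256 L92591 q3689, e3 q2257 L45199 q2255, e3 q2258 (flp_a L45207) q1486, e3 q2259 (flp_a L92623) q3694, e3 q2260 (flp_a L45311) q2277, e3 q2261 L92645 q3698, e3 q2262 (flp_a L45227) q1488, e3 q2263 (flp_a L92665) q3702, e3 q2264 (flp_a L45347) q2283, e3 q2265 L92687 q3706, e3 q2266 (flp_a L45247) q1490, e3 q2267 (flp_a L92709) q3710, e3 q2268 (flp_a L92715) q3711, e3 q2269 (flp_a L45264) q1491, e3 q2270 (flp_a L92750) q3716, e3 q2271 (flp_a L92756) q3717, e3 q2272 L92783 q3721, e3 q2273 L45287 q1493, e3 q2274 L45293 q1494, e3 q2275 (flp_a L92809) q3725, e3 q2276 (flp_a L92813) q3726,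 e3 q2277 L45311 q2260, e3 q2278 L92857 q3734, e3 q2279 L45323 q1496, e3 q2280 L45329 q1497, e3 q2281 (flp_a L92881) q3738, e3 q2282 (flp_a L92885) q3739, e3 q2283 L45347 q2264, e3 q2284 L92929 q3747, e3 q2285 L45383 q1500, e3 q2286 L45387 q1501, e3 q2287 (flp_a L92950) q3751, e3 q2288 (flp_a L84966) q2622, e3 q2289 L92970 q3755, e3 q2290 L92982 q3757, e3 q2291 L45461 q1504, e3 q2292 L45465 q1505, e3 q2293 (flp_a L93003) q3761, e3 q2294 (flp_a L85033) q2632, e3 q2295 L93023 q3765, e3 q2296 L93037 q3767, e3 q2297 (flp_a L69693) q2165, e3 q2298 L93075 q3772, e3 q2299 (flp_a L82457) q2168, e3 q2300 L46337 q1510, e3 q2301 L46343 q1511, e3 q2302 (flp_a L91095) q3431, e3 q2303 (flp_a L91101) q3432, trivial⟩ (by decide +kernel)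

theorem ce_a_36 : ∀ r, r < 64 → sm ga (Qf (2304 + r)) = Qf (tab Gen.a (2304 + r)) :=
  edges_tab (sm ga) Qf (tab Gen.a) 2304 [(2304, 2309), (2305, 2307), (2306, 2312), (2307, 2305), (2308, 1512), (2309, 2304), (2310, 3788), (2311, 1513), (2312, 2306), (2313, 3791), (2314, 3793), (2315, 1515), (2316, 3798), (2317, 2341), (2318, 3803), (2319, 1517), (2320, 3807), (2321, 3808), (2322, 3812), (2323, 1519), (2324, 3817), (2325, 2354), (2326, 3822), (2327, 1521), (2328, 3826), (2329, 3827), (2330, 1522), (2331, 3831), (2332, 3832), (2333, 1722), (2334, 1525), (2335, 1526), (2336, 3842), (2337, 2731), (2338, 3839), (2339, 3840), (2340, 3851), (2341, 2317), (2342, 3854), (2343, 1528), (2344, 3857), (2345, 3858), (2346, 1745), (2347, 1531), (2348, 1532), (2349, 3868), (2350, 2782), (2351, 3865), (2352, 3866), (2353, 3877), (2354, 2325), (2355, 3880), (2356, 1534), (2357, 3884), (2358, 3885), (2359, 3886), (2360, 1538), (2361, 1539), (2362, 3896), (2363, 3898), (2364, 2393), (2365, 2394), (2366, 3894), (2367, 3906)]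
    ⟨e3 q2304 (flp_a L72418) q2309, e3 q2305 (flp_a L46377) q2307, e3 q2306 (flp_a L150280) q2312, e3 q2307 L46377 q2305, e3 q2308 (flp_a L46383) q1512, e3 q2309 L72418 q2304, e3 q2310 (flp_a L93177) q3788, e3 q2311 (flp_a L46393) q1513, e3 q2312 L150280 q2306, e3 q2313 (flp_a L93205) q3791, e3 q2314 L93225 q3793, e3 q2315 L46409 q1515, e3 q2316 (flp_a L93245) q3798, e3 q2317 (flp_a L46525) q2341, e3 q2318 L93263 q3803, e3 q2319 (flp_a L46427) q1517, e3 q2320 (flp_a L93283) q3807, e3 q2321 (flp_a L93287) q3808, e3 q2322 L93311 q3812, e3 q2323 L46445 q1519, e3 q2324 (flp_a L93331) q3817, e3 q2325 (flp_a L46585) q2354, e3 q2326 L93349 q3822, e3 q2327 (flp_a L46463) q1521, e3 q2328 (flp_a L93369) q3826, e3 q2329 (flp_a L93373) q3827, e3 q2330 (flp_a L46475) q1522, e3 q2331 (flp_a L93399) q3831, e3 q2332 (flp_a L93407) q3832, e3 q2333 L91631 q1722, e3 q2334 L46495 q1525, e3 q2335 L46499 q1526, e3 q2336 L93468 q3842, e3 q2337 (flp_a L85465) q2731, e3 q2338 (flp_a L93456) q3839, e3 q2339 (flp_a L93460) q3840, e3 q2340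 L93512 q3851, e3 q2341 L46525 q2317, e3 q2342 L93520 q3854, e3 q2343 (flp_a L46535) q1528, e3 q2344 (flp_a L93538) q3857, e3 q2345 (flp_a L93544) q3858, e3 q2346 (flp_a L102086) q1745, e3 q2347 L46555 q1531, e3 q2348 L46559 q1532, e3 q2349 L93607 q3868, e3 q2350 (flp_a L85666) q2782, e3 q2351 (flp_a L93595) q3865, e3 q2352 (flp_a L93599) q3866, e3 q2353 L93651 q3877, e3 q2354 L46585 q2325, e3 q2355 L93659 q3880, e3 q2356 (flp_a L46645) q1534, e3 q2357 (flp_a L93679) q3884, e3 q2358 (flp_a L93683) q3885, e3 q2359 (flp_a L93688) q3886, e3 q2360 L46657 q1538, e3 q2361 L46661 q1539, e3 q2362 L93733 q3896, e3 q2363 L93739 q3898, e3 q2364 (flp_a L47057) q2393, e3 q2365 (flp_a L47063) q2394, e3 q2366 (flp_a L93723) q3894, e3 q2367 L93765 q3906, trivial⟩ (by decide +kernel)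

theorem ce_a_37 : ∀ r, r < 64 → sm ga (Qf (2368 + r)) = Qf (tab Gen.a (2368 + r)) :=
  edges_tab (sm ga) Qf (tab Gen.a) 2368 [(2368, 1540), (2369, 3910), (2370, 1541), (2371, 3913), (2372, 3914), (2373, 3915), (2374, 1545), (2375, 1546), (2376, 3925), (2377, 3927), (2378, 2410), (2379, 2411), (2380, 3923), (2381, 3934), (2382, 1547), (2383, 3938), (2384, 2384), (2385, 3026), (2386, 1554), (2387, 1555), (2388, 1552), (2389, 3945), (2390, 3946), (2391, 3947), (2392, 3948), (2393, 2364), (2394, 2365), (2395, 3020), (2396, 2447), (2397, 3964), (2398, 2874), (2399, 1557), (2400, 3968), (2401, 2401), (2402, 3027), (2403, 1565), (2404, 1566), (2405, 1563), (2406, 3975), (2407, 3976), (2408, 3977), (2409, 3978), (2410, 2378), (2411, 2379), (2412, 3021), (2413, 2477), (2414, 3994), (2415, 2856), (2416, 1568), (2417, 3998), (2418, 1572), (2419, 2420), (2420, 2419), (2421, 4001), (2422, 1578), (2423, 4004), (2424, 1575), (2425, 1576), (2426, 1577), (2427, 2428), (2428, 2427), (2429, 4009), (2430, 2432), (2431, 4016)]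
    ⟨e3 q2368 (flp_a L46705) q1540, e3 q2369 (flp_a L93781) q3910, e3 q2370 (flp_a L46773) q1541, e3 q2371 (flp_a L93799) q3913, e3 q2372 (flp_a L93803) q3914, e3 q2373 (flp_a L93808) q3915, e3 q2374 L46785 q1545, e3 q2375 L46789 q1546, e3 q2376 L93853 q3925, e3 q2377 L93859 q3927, e3 q2378 (flp_a L47396) q2410, e3 q2379 (flp_a L47402) q2411, e3 q2380 (flp_a L93843) q3923, e3 q2381 L93885 q3934, e3 q2382 (flp_a L46833) q1547, e3 q2383 (flp_a L93901) q3938, e3 q2384 L71966 q2384, e3 q2385 L119326 q3026, e3 q2386 L46979 q1554, e3 q2387 L46985 q1555, e3 q2388 (flp_a L47033) q1552, e3 q2389 (flp_a L94010) q3945, e3 q2390 (flp_a L94020) q3946, e3 q2391 (flp_a L94026) q3947, e3 q2392 (flp_a L94032) q3948, e3 q2393 L47057 q2364, e3 q2394 L47063 q2365, e3 q2395 L119278 q3020, e3 q2396 L142510 q2447, e3 q2397 L94124 q3964, e3 q2398 L142513 q2874, e3 q2399 (flp_a L47105) q1557, e3 q2400 (flp_a L94154) q3968, e3 q2401 L82715 q2401, e3 q2402 (flp_a L148357) q3027, e3 q2403 L47316 q1565, e3 q2404 L47322 q1566, e3 q2405 (flp_a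 L47372) q1563, e3 q2406 (flp_a L94261) q3975, e3 q2407 (flp_a L94271) q3976, e3 q2408 (flp_a L94277) q3977, e3 q2409 (flp_a L94283) q3978, e3 q2410 L47396 q2378, e3 q2411 L47402 q2379, e3 q2412 L148538 q3021, e3 q2413 L137349 q2477, e3 q2414 L94375 q3994, e3 q2415 L142050 q2856, e3 q2416 (flp_a L47444) q1568, e3 q2417 (flp_a L94405) q3998, e3 q2418 (flp_a L83811) q1572, e3 q2419 (flp_a L120059) q2420, e3 q2420 L120059 q2419, e3 q2421 (flp_a L94435) q4001, e3 q2422 L83833 q1578, e3 q2423 L94472 q4004, e3 q2424 L83843 q1575, e3 q2425 L83847 q1576, e3 q2426 L83851 q1577, e3 q2427 L120167 q2428, e3 q2428 (flp_a L120167) q2427, e3 q2429 (flp_a L94496) q4009, e3 q2430 (flp_a L83875) q2432, e3 q2431 L94536 q4016, trivial⟩ (by decide +kernel)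

theorem ce_a_38 : ∀ r, r < 64 → sm ga (Qf (2432 + r)) = Qf (tab Gen.a (2432 + r)) :=
  edges_tab (sm ga) Qf (tab Gen.a) 2432 [(2432, 2430), (2433, 2089), (2434, 3401), (2435, 4022), (2436, 2090), (2437, 1580), (2438, 4027), (2439, 4028), (2440, 4033), (2441, 1582), (2442, 4036), (2443, 3323), (2444, 1585), (2445, 4040), (2446, 2904), (2447, 2396), (2448, 1589), (2449, 2451), (2450, 4047), (2451, 2449), (2452, 1595), (2453, 4050), (2454, 1592), (2455, 1593), (2456, 1594), (2457, 2459), (2458, 4055), (2459, 2457), (2460, 4061), (2461, 2462), (2462, 2461), (2463, 2102), (2464, 3377), (2465, 4068), (2466, 2103), (2467, 1597), (2468, 4073), (2469, 4074), (2470, 4079), (2471, 1599), (2472, 4082), (2473, 3345), (2474, 1602), (2475, 4086), (2476, 2916), (2477, 2413), (2478, 2478), (2479, 4094), (2480, 2480), (2481, 2481), (2482, 4101), (2483, 1612), (2484, 4104), (2485, 4105), (2486, 2486), (2487, 4110), (2488, 2488), (2489, 2489), (2490, 4117), (2491, 1617), (2492, 4120), (2493, 4121), (2494, 1619), (2495, 1621)]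
    ⟨e3 q2432 L83875 q2430, e3 q2433 L83881 q2089, e3 q2434 (flp_a L90842) q3401, e3 q2435 L94570 q4022, e3 q2436 L83899 q2090, e3 q2437 (flp_a L83907) q1580, e3 q2438 (flp_a L94592) q4027, e3 q2439 (flp_a L94596) q4028, e3 q2440 L94620 q4033, e3 q2441 (flp_a L83919) q1582, e3 q2442 (flp_a L94636) q4036, e3 q2443 L139156 q3323, e3 q2444 L83949 q1585, e3 q2445 (flp_a L94670) q4040, e3 q2446 (flp_a L86755) q2904, e3 q2447 (flp_a L142510) q2396, e3 q2448 (flp_a L83967) q1589, e3 q2449 (flp_a L148375) q2451, e3 q2450 (flp_a L94707) q4047, e3 q2451 L148375 q2449, e3 q2452 L83989 q1595, e3 q2453 L94751 q4050, e3 q2454 L83999 q1592, e3 q2455 L84003 q1593, e3 q2456 L84007 q1594, e3 q2457 (flp_a L148526) q2459, e3 q2458 (flp_a L94769) q4055, e3 q2459 L148526 q2457, e3 q2460 L94813 q4061, e3 q2461 (flp_a L84031) q2462, e3 q2462 L84031 q2461, e3 q2463 L84037 q2102, e3 q2464 (flp_a L90714) q3377, e3 q2465 L94849 q4068, e3 q2466 L84055 q2103, e3 q2467 (flp_a L84063) q1597, e3 q2468 (flp_a L94871) q4073, e3 q2469 (flp_a L94875)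 q4074, e3 q2470 L94899 q4079, e3 q2471 (flp_a L84075) q1599, e3 q2472 (flp_a L94915) q4082, e3 q2473 (flp_a L141865) q3345, e3 q2474 L84105 q1602, e3 q2475 (flp_a L94951) q4086, e3 q2476 (flp_a L87002) q2916, e3 q2477 (flp_a L137349) q2413, e3 q2478 L84175 q2478, e3 q2479 L95050 q4094, e3 q2480 L84193 q2480, e3 q2481 L84198 q2481, e3 q2482 L95081 q4101, e3 q2483 (flp_a L84206) q1612, e3 q2484 (flp_a L95101) q4104, e3 q2485 (flp_a L95107) q4105, e3 q2486 L84222 q2486, e3 q2487 L95144 q4110, e3 q2488 L84240 q2488, e3 q2489 L84245 q2489, e3 q2490 L95175 q4117, e3 q2491 (flp_a L84253) q1617, e3 q2492 (flp_a L95195) q4120, e3 q2493 (flp_a L95201) q4121, e3 q2494 L84269 q1619, e3 q2495 L84279 q1621, trivial⟩ (by decide +kernel)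

theorem ce_a_39 : ∀ r, r < 64 → sm ga (Qf (2496 + r)) = Qf (tab Gen.a (2496 + r)) :=
  edges_tab (sm ga) Qf (tab Gen.a) 2496 [(2496, 1622), (2497, 4124), (2498, 4125), (2499, 4126), (2500, 3114), (2501, 3115), (2502, 4140), (2503, 2505), (2504, 4144), (2505, 2503), (2506, 4148), (2507, 1628), (2508, 1629), (2509, 1630), (2510, 4156), (2511, 4159), (2512, 1626), (2513, 4163), (2514, 4164), (2515, 1627), (2516, 4169), (2517, 4170), (2518, 4152), (2519, 4153), (2520, 2520), (2521, 2523), (2522, 2522), (2523, 2521), (2524, 1631), (2525, 4185), (2526, 2554), (2527, 4189), (2528, 1633), (2529, 4193), (2530, 2564), (2531, 4197), (2532, 3483), (2533, 1636), (2534, 4203), (2535, 2580), (2536, 4208), (2537, 1638), (2538, 4212), (2539, 4213), (2540, 3487), (2541, 1640), (2542, 4220), (2543, 2603), (2544, 4225), (2545, 1642), (2546, 4229), (2547, 4230), (2548, 3129), (2549, 1644), (2550, 1645), (2551, 4237), (2552, 4238), (2553, 4245), (2554, 2526), (2555, 1646), (2556, 4250), (2557, 4251), (2558, 3133), (2559, 1648)]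
    ⟨e3 q2496 L84285 q1622, e3 q2497 (flp_a L95221) q4124, e3 q2498 (flp_a L95231) q4125, e3 q2499 (flp_a L95239) q4126, e3 q2500 (flp_a L89056) q3114, e3 q2501 (flp_a L89064) q3115, e3 q2502 L95332 q4140, e3 q2503 (flp_a L84334) q2505, e3 q2504 L95352 q4144, e3 q2505 L84334 q2503, e3 q2506 L95372 q4148, e3 q2507 L84344 q1628, e3 q2508 L84363 q1629, e3 q2509 L84369 q1630, e3 q2510 L95406 q4156, e3 q2511 L95416 q4159, e3 q2512 (flp_a L84381) q1626, e3 q2513 (flp_a L95432) q4163, e3 q2514 (flp_a L95438) q4164, e3 q2515 (flp_a L84394) q1627, e3 q2516 (flp_a L95467) q4169, e3 q2517 (flp_a L95473) q4170, e3 q2518 (flp_a L95386) q4152, e3 q2519 (flp_a L95395) q4153, e3 q2520 L103841 q2520, e3 q2521 (flp_a L84431) q2523, e3 q2522 L150826 q2522, e3 q2523 L84431 q2521, e3 q2524 (flp_a L84437) q1631, e3 q2525 (flp_a L95556) q4185, e3 q2526 (flp_a L84592) q2554, e3 q2527 L95574 q4189, e3 q2528 (flp_a L84455) q1633, e3 q2529 (flp_a L95592) q4193, e3 q2530 (flp_a L84644) q2564, e3 q2531 L95610 q4197, e3 q2532 L91648 q3483, e3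 q2533 L84479 q1636, e3 q2534 (flp_a L95638) q4203, e3 q2535 (flp_a L84727) q2580, e3 q2536 L95662 q4208, e3 q2537 (flp_a L84502) q1638, e3 q2538 (flp_a L95684) q4212, e3 q2539 (flp_a L95690) q4213, e3 q2540 L150307 q3487, e3 q2541 L84523 q1640, e3 q2542 (flp_a L95737) q4220, e3 q2543 (flp_a L84849) q2603, e3 q2544 L95761 q4225, e3 q2545 (flp_a L84546) q1642, e3 q2546 (flp_a L95783) q4229, e3 q2547 (flp_a L95789) q4230, e3 q2548 (flp_a L96155) q3129, e3 q2549 L84567 q1644, e3 q2550 L84571 q1645, e3 q2551 (flp_a L95830) q4237, e3 q2552 (flp_a L95834) q4238, e3 q2553 L95864 q4245, e3 q2554 L84592 q2526, e3 q2555 (flp_a L84598) q1646, e3 q2556 (flp_a L95888) q4250, e3 q2557 (flp_a L95892) q4251, e3 q2558 (flp_a L96440) q3133, e3 q2559 L84617 q1648, trivial⟩ (by decide +kernel)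

theorem ce_a_40 : ∀ r, r < 64 → sm ga (Qf (2560 + r)) = Qf (tab Gen.a (2560 + r)) :=
  edges_tab (sm ga) Qf (tab Gen.a) 2560 [(2560, 1649), (2561, 4258), (2562, 4259), (2563, 4266), (2564, 2530), (2565, 1650), (2566, 4271), (2567, 4272), (2568, 1651), (2569, 3724), (2570, 4276), (2571, 4277), (2572, 4285), (2573, 1654), (2574, 1655), (2575, 4293), (2576, 4289), (2577, 4290), (2578, 4291), (2579, 4303), (2580, 2535), (2581, 1656), (2582, 4307), (2583, 2590), (2584, 4311), (2585, 4314), (2586, 1659), (2587, 1660), (2588, 4319), (2589, 4320), (2590, 2583), (2591, 1661), (2592, 3737), (2593, 4327), (2594, 4328), (2595, 4336), (2596, 1664), (2597, 1665), (2598, 4344), (2599, 4340), (2600, 4341), (2601, 4342), (2602, 4354), (2603, 2543), (2604, 1666), (2605, 4358), (2606, 2613), (2607, 4362), (2608, 4365), (2609, 1669), (2610, 1670), (2611, 4370), (2612, 4371), (2613, 2606), (2614, 4378), (2615, 2615), (2616, 1673), (2617, 4382), (2618, 1674), (2619, 4384), (2620, 4387), (2621, 1676), (2622, 2288), (2623, 4391)]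
    ⟨e3 q2560 L84621 q1649, e3 q2561 (flp_a L95931) q4258, e3 q2562 (flp_a L95935) q4259, e3 q2563 L95965 q4266, e3 q2564 L84644 q2530, e3 q2565 (flp_a L84650) q1650, e3 q2566 (flp_a L95997) q4271, e3 q2567 (flp_a L96003) q4272, e3 q2568 (flp_a L84669) q1651, e3 q2569 L92805 q3724, e3 q2570 (flp_a L96032) q4276, e3 q2571 (flp_a L96038) q4277, e3 q2572 L96082 q4285, e3 q2573 L84691 q1654, e3 q2574 L84695 q1655, e3 q2575 L96123 q4293, e3 q2576 (flp_a L96101) q4289, e3 q2577 (flp_a L96107) q4290, e3 q2578 (flp_a L96113) q4291, e3 q2579 L96187 q4303, e3 q2580 L84727 q2535, e3 q2581 (flp_a L84735) q1656, e3 q2582 (flp_a L96207) q4307, e3 q2583 (flp_a L84785) q2590, e3 q2584 L96229 q4311, e3 q2585 L96243 q4314, e3 q2586 L84761 q1659, e3 q2587 L84767 q1660, e3 q2588 (flp_a L96265) q4319, e3 q2589 (flp_a L96269) q4320, e3 q2590 L84785 q2583, e3 q2591 (flp_a L84791) q1661, e3 q2592 (flp_a L102080) q3737, e3 q2593 (flp_a L96317) q4327, e3 q2594 (flp_a L96323) q4328, e3 q2595 L96367 q4336, e3 q2596 L84813 q1664, e3 q2597 L84817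 q1665, e3 q2598 L96408 q4344, e3 q2599 (flp_a L96386) q4340, e3 q2600 (flp_a L96392) q4341, e3 q2601 (flp_a L96398) q4342, e3 q2602 L96472 q4354, e3 q2603 L84849 q2543, e3 q2604 (flp_a L84857) q1666, e3 q2605 (flp_a L96492) q4358, e3 q2606 (flp_a L84907) q2613, e3 q2607 L96514 q4362, e3 q2608 L96528 q4365, e3 q2609 L84883 q1669, e3 q2610 L84889 q1670, e3 q2611 (flp_a L96552) q4370, e3 q2612 (flp_a L96556) q4371, e3 q2613 L84907 q2606, e3 q2614 L96596 q4378, e3 q2615 L84919 q2615, e3 q2616 (flp_a L84927) q1673, e3 q2617 (flp_a L96617) q4382, e3 q2618 (flp_a L84936) q1674, e3 q2619 (flp_a L96633) q4384, e3 q2620 L96651 q4387, e3 q2621 L84958 q1676, e3 q2622 L84966 q2288, e3 q2623 (flp_a L96671) q4391, trivial⟩ (by decide +kernel)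

theorem ce_a_41 : ∀ r, r < 64 → sm ga (Qf (2624 + r)) = Qf (tab Gen.a (2624 + r)) :=
  edges_tab (sm ga) Qf (tab Gen.a) 2624 [(2624, 4394), (2625, 2625), (2626, 1679), (2627, 4398), (2628, 1680), (2629, 4400), (2630, 4403), (2631, 1682), (2632, 2294), (2633, 4407), (2634, 1684), (2635, 4411), (2636, 1686), (2637, 4414), (2638, 2638), (2639, 2639), (2640, 1692), (2641, 1693), (2642, 1694), (2643, 4422), (2644, 4425), (2645, 4416), (2646, 4417), (2647, 4418), (2648, 4419), (2649, 2649), (2650, 2652), (2651, 2651), (2652, 2650), (2653, 1695), (2654, 4446), (2655, 2666), (2656, 4450), (2657, 1697), (2658, 4454), (2659, 2672), (2660, 4458), (2661, 4461), (2662, 1700), (2663, 1701), (2664, 4466), (2665, 4467), (2666, 2655), (2667, 4473), (2668, 1703), (2669, 1704), (2670, 4478), (2671, 4479), (2672, 2659), (2673, 1705), (2674, 3478), (2675, 3523), (2676, 4485), (2677, 4490), (2678, 1707), (2679, 4494), (2680, 4495), (2681, 2736), (2682, 4471), (2683, 1709), (2684, 4505), (2685, 2691), (2686, 4508), (2687, 1711)]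
    ⟨e3 q2624 L96695 q4394, e3 q2625 L84984 q2625, e3 q2626 (flp_a L84992) q1679, e3 q2627 (flp_a L96716) q4398, e3 q2628 (flp_a L85001) q1680, e3 q2629 (flp_a L96732) q4400, e3 q2630 L96750 q4403, e3 q2631 L85025 q1682, e3 q2632 L85033 q2294, e3 q2633 (flp_a L96770) q4407, e3 q2634 L85047 q1684, e3 q2635 (flp_a L96801) q4411, e3 q2636 L85061 q1686, e3 q2637 (flp_a L96830) q4414, e3 q2638 L85075 q2638, e3 q2639 L85100 q2639, e3 q2640 L85119 q1692, e3 q2641 L85123 q1693, e3 q2642 L85129 q1694, e3 q2643 L96936 q4422, e3 q2644 L96942 q4425, e3 q2645 (flp_a L96908) q4416, e3 q2646 (flp_a L96914) q4417, e3 q2647 (flp_a L96922) q4418, e3 q2648 (flp_a L96928) q4419, e3 q2649 L97048 q2649, e3 q2650 (flp_a L85164) q2652, e3 q2651 L120674 q2651, e3 q2652 L85164 q2650, e3 q2653 (flp_a L85170) q1695, e3 q2654 (flp_a L97039) q4446, e3 q2655 (flp_a L85217) q2666, e3 q2656 L97068 q4450, e3 q2657 (flp_a L85184) q1697, e3 q2658 (flp_a L97080) q4454, e3 q2659 (flp_a L85242) q2672, e3 q2660 L97096 q4458, e3 q2661 L97104 q4461, e3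 q2662 L85200 q1700, e3 q2663 L85204 q1701, e3 q2664 (flp_a L97128) q4466, e3 q2665 (flp_a L97132) q4467, e3 q2666 L85217 q2655, e3 q2667 L97160 q4473, e3 q2668 L85225 q1703, e3 q2669 L85229 q1704, e3 q2670 (flp_a L97174) q4478, e3 q2671 (flp_a L97178) q4479, e3 q2672 L85242 q2659, e3 q2673 (flp_a L85246) q1705, e3 q2674 (flp_a L91625) q3478, e3 q2675 (flp_a L91652) q3523, e3 q2676 (flp_a L97210) q4485, e3 q2677 L97236 q4490, e3 q2678 L85260 q1707, e3 q2679 (flp_a L97250) q4494, e3 q2680 (flp_a L97258) q4495, e3 q2681 (flp_a L85491) q2736, e3 q2682 (flp_a L120922) q4471, e3 q2683 (flp_a L85280) q1709, e3 q2684 (flp_a L97307) q4505, e3 q2685 (flp_a L85311) q2691, e3 q2686 L97319 q4508, e3 q2687 L85294 q1711, trivial⟩ (by decide +kernel)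

theorem ce_a_42 : ∀ r, r < 64 → sm ga (Qf (2688 + r)) = Qf (tab Gen.a (2688 + r)) :=
  edges_tab (sm ga) Qf (tab Gen.a) 2688 [(2688, 1712), (2689, 4512), (2690, 4513), (2691, 2685), (2692, 1713), (2693, 3480), (2694, 4520), (2695, 3526), (2696, 4525), (2697, 1715), (2698, 4529), (2699, 4530), (2700, 2787), (2701, 4483), (2702, 1717), (2703, 4540), (2704, 2710), (2705, 4543), (2706, 1719), (2707, 1720), (2708, 4547), (2709, 4548), (2710, 2704), (2711, 1723), (2712, 1724), (2713, 3883), (2714, 3836), (2715, 3837), (2716, 3838), (2717, 2719), (2718, 4564), (2719, 2717), (2720, 1725), (2721, 4568), (2722, 4569), (2723, 4570), (2724, 1729), (2725, 1730), (2726, 1731), (2727, 4583), (2728, 1728), (2729, 4587), (2730, 4588), (2731, 2337), (2732, 4579), (2733, 4580), (2734, 4581), (2735, 4599), (2736, 2681), (2737, 1732), (2738, 4604), (2739, 2821), (2740, 4608), (2741, 4611), (2742, 1735), (2743, 4616), (2744, 2760), (2745, 4621), (2746, 1737), (2747, 4624), (2748, 4625), (2749, 1738), (2750, 4629), (2751, 4630)]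
    ⟨e3 q2688 L85298 q1712, e3 q2689 (flp_a L97335) q4512, e3 q2690 (flp_a L97339) q4513, e3 q2691 L85311 q2685, e3 q2692 (flp_a L85315) q1713, e3 q2693 L150448 q3480, e3 q2694 (flp_a L97377) q4520, e3 q2695 (flp_a L150374) q3526, e3 q2696 L97407 q4525, e3 q2697 L85329 q1715, e3 q2698 (flp_a L97421) q4529, e3 q2699 (flp_a L97429) q4530, e3 q2700 (flp_a L85692) q2787, e3 q2701 L150729 q4483, e3 q2702 (flp_a L85349) q1717, e3 q2703 (flp_a L97478) q4540, e3 q2704 (flp_a L85380) q2710, e3 q2705 L97490 q4543, e3 q2706 L85363 q1719, e3 q2707 L85367 q1720, e3 q2708 (flp_a L97508) q4547, e3 q2709 (flp_a L97512) q4548, e3 q2710 L85380 q2704, e3 q2711 L85390 q1723, e3 q2712 L85394 q1724, e3 q2713 (flp_a L93673) q3883, e3 q2714 (flp_a L93437) q3836, e3 q2715 (flp_a L93444) q3837, e3 q2716 (flp_a L93450) q3838, e3 q2717 (flp_a L85420) q2719, e3 q2718 L97599 q4564, e3 q2719 L85420 q2717, e3 q2720 (flp_a L85424) q1725, e3 q2721 (flp_a L97621) q4568, e3 q2722 (flp_a L97626) q4569, e3 q2723 (flp_a L97630) q4570, e3 q2724 L85437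 q1729, e3 q2725 L85443 q1730, e3 q2726 L85447 q1731, e3 q2727 L97692 q4583, e3 q2728 (flp_a L85455) q1728, e3 q2729 (flp_a L97706) q4587, e3 q2730 (flp_a L97710) q4588, e3 q2731 L85465 q2337, e3 q2732 (flp_a L97666) q4579, e3 q2733 (flp_a L97672) q4580, e3 q2734 (flp_a L97682) q4581, e3 q2735 L97771 q4599, e3 q2736 L85491 q2681, e3 q2737 (flp_a L85497) q1732, e3 q2738 (flp_a L97793) q4604, e3 q2739 (flp_a L85842) q2821, e3 q2740 L97811 q4608, e3 q2741 L97821 q4611, e3 q2742 L85515 q1735, e3 q2743 (flp_a L97835) q4616, e3 q2744 (flp_a L85575) q2760, e3 q2745 L97853 q4621, e3 q2746 (flp_a L85531) q1737, e3 q2747 (flp_a L97867) q4624, e3 q2748 (flp_a L97871) q4625, e3 q2749 (flp_a L85539) q1738, e3 q2750 (flp_a L97935) q4629, e3 q2751 (flp_a L97939) q4630, trivial⟩ (by decide +kernel)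

theorem ce_a_43 : ∀ r, r < 64 → sm ga (Qf (2752 + r)) = Qf (tab Gen.a (2752 + r)) :=
  edges_tab (sm ga) Qf (tab Gen.a) 2752 [(2752, 4631), (2753, 4638), (2754, 1741), (2755, 1742), (2756, 4460), (2757, 4642), (2758, 4643), (2759, 4644), (2760, 2744), (2761, 4654), (2762, 1746), (2763, 1747), (2764, 3912), (2765, 3862), (2766, 3863), (2767, 3864), (2768, 4665), (2769, 2770), (2770, 2769), (2771, 1748), (2772, 4669), (2773, 4670), (2774, 4671), (2775, 1752), (2776, 1753), (2777, 1754), (2778, 4684), (2779, 1751), (2780, 4688), (2781, 4567), (2782, 2350), (2783, 4680), (2784, 4681), (2785, 4682), (2786, 4699), (2787, 2700), (2788, 1755), (2789, 4704), (2790, 2841), (2791, 4708), (2792, 4711), (2793, 1758), (2794, 4716), (2795, 2811), (2796, 4721), (2797, 1760), (2798, 4724), (2799, 4725), (2800, 1761), (2801, 4729), (2802, 4730), (2803, 4731), (2804, 4738), (2805, 1764), (2806, 1765), (2807, 4452), (2808, 4648), (2809, 4742), (2810, 4743), (2811, 2795), (2812, 4752), (2813, 4755), (2814, 1768), (2815, 4758)]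
    ⟨e3 q2752 (flp_a L97943) q4631, e3 q2753 L97989 q4638, e3 q2754 L85551 q1741, e3 q2755 L85555 q1742, e3 q2756 (flp_a L97967) q4460, e3 q2757 (flp_a L98001) q4642, e3 q2758 (flp_a L98007) q4643, e3 q2759 (flp_a L98011) q4644, e3 q2760 L85575 q2744, e3 q2761 L98053 q4654, e3 q2762 L85591 q1746, e3 q2763 L85595 q1747, e3 q2764 (flp_a L102099) q3912, e3 q2765 (flp_a L102084) q3862, e3 q2766 (flp_a L102074) q3863, e3 q2767 (flp_a L102068) q3864, e3 q2768 L98163 q4665, e3 q2769 (flp_a L85621) q2770, e3 q2770 L85621 q2769, e3 q2771 (flp_a L85625) q1748, e3 q2772 (flp_a L98195) q4669, e3 q2773 (flp_a L98200) q4670, e3 q2774 (flp_a L98204) q4671, e3 q2775 L85638 q1752, e3 q2776 L85644 q1753, e3 q2777 L85648 q1754, e3 q2778 L98266 q4684, e3 q2779 (flp_a L85656) q1751, e3 q2780 (flp_a L98284) q4688, e3 q2781 (flp_a L98079) q4567, e3 q2782 L85666 q2350, e3 q2783 (flp_a L98240) q4680, e3 q2784 (flp_a L98246) q4681, e3 q2785 (flp_a L98256) q4682, e3 q2786 L98341 q4699, e3 q2787 L85692 q2700, e3 q2788 (flp_a L85698) q1755,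 e3 q2789 (flp_a L98363) q4704, e3 q2790 (flp_a L85934) q2841, e3 q2791 L98381 q4708, e3 q2792 L98391 q4711, e3 q2793 L85718 q1758, e3 q2794 (flp_a L98415) q4716, e3 q2795 (flp_a L85790) q2811, e3 q2796 L98433 q4721, e3 q2797 (flp_a L85736) q1760, e3 q2798 (flp_a L98451) q4724, e3 q2799 (flp_a L98457) q4725, e3 q2800 (flp_a L85744) q1761, e3 q2801 (flp_a L98495) q4729, e3 q2802 (flp_a L98499) q4730, e3 q2803 (flp_a L98509) q4731, e3 q2804 L98545 q4738, e3 q2805 L85764 q1764, e3 q2806 L85768 q1765, e3 q2807 L98487 q4452, e3 q2808 (flp_a L98027) q4648, e3 q2809 (flp_a L98557) q4742, e3 q2810 (flp_a L98561) q4743, e3 q2811 L85790 q2795, e3 q2812 L98597 q4752, e3 q2813 L98617 q4755, e3 q2814 (flp_a L85806) q1768, e3 q2815 (flp_a L98637) q4758, trivial⟩ (by decide +kernel)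

theorem ce_a_44 : ∀ r, r < 64 → sm ga (Qf (2816 + r)) = Qf (tab Gen.a (2816 + r)) :=
  edges_tab (sm ga) Qf (tab Gen.a) 2816 [(2816, 4759), (2817, 1770), (2818, 1771), (2819, 4763), (2820, 4764), (2821, 2739), (2822, 2228), (2823, 1774), (2824, 4772), (2825, 4771), (2826, 1775), (2827, 4779), (2828, 4780), (2829, 4781), (2830, 1778), (2831, 4788), (2832, 2869), (2833, 4793), (2834, 1780), (2835, 4796), (2836, 4797), (2837, 1782), (2838, 1783), (2839, 4801), (2840, 4802), (2841, 2790), (2842, 2232), (2843, 1786), (2844, 4810), (2845, 4809), (2846, 1787), (2847, 4817), (2848, 4818), (2849, 4819), (2850, 1790), (2851, 4826), (2852, 2887), (2853, 4831), (2854, 2237), (2855, 1795), (2856, 2415), (2857, 4834), (2858, 2065), (2859, 1797), (2860, 4839), (2861, 1821), (2862, 4843), (2863, 1803), (2864, 1801), (2865, 4849), (2866, 4850), (2867, 4851), (2868, 4852), (2869, 2832), (2870, 4847), (2871, 4861), (2872, 2241), (2873, 1808), (2874, 2398), (2875, 4863), (2876, 2081), (2877, 1810), (2878, 4868), (2879, 1832)]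
    ⟨e3 q2816 L98662 q4759, e3 q2817 L85822 q1770, e3 q2818 L85826 q1771, e3 q2819 (flp_a L98673) q4763, e3 q2820 (flp_a L98677) q4764, e3 q2821 L85842 q2739, e3 q2822 L85848 q2228, e3 q2823 L85856 q1774, e3 q2824 L98716 q4772, e3 q2825 (flp_a L98710) q4771, e3 q2826 (flp_a L85870) q1775, e3 q2827 (flp_a L98746) q4779, e3 q2828 (flp_a L98750) q4780, e3 q2829 (flp_a L98754) q4781, e3 q2830 L85884 q1778, e3 q2831 L98782 q4788, e3 q2832 (flp_a L86111) q2869, e3 q2833 L98794 q4793, e3 q2834 (flp_a L85898) q1780, e3 q2835 (flp_a L98814) q4796, e3 q2836 L98839 q4797, e3 q2837 L85914 q1782, e3 q2838 L85918 q1783, e3 q2839 (flp_a L98852) q4801, e3 q2840 (flp_a L98856) q4802, e3 q2841 L85934 q2790, e3 q2842 L85940 q2232, e3 q2843 L85948 q1786, e3 q2844 L98899 q4810, e3 q2845 (flp_a L98893) q4809, e3 q2846 (flp_a L85962) q1787, e3 q2847 (flp_a L98929) q4817, e3 q2848 (flp_a L98933) q4818, e3 q2849 (flp_a L98937) q4819, e3 q2850 L85976 q1790, e3 q2851 L98965 q4826, e3 q2852 (flp_a L86222) q2887, e3 q2853 L98977 q4831, e3 q2854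 L85991 q2237, e3 q2855 L86001 q1795, e3 q2856 (flp_a L142050) q2415, e3 q2857 (flp_a L98997) q4834, e3 q2858 L141820 q2065, e3 q2859 L86037 q1797, e3 q2860 (flp_a L99055) q4839, e3 q2861 L86069 q1821, e3 q2862 L99115 q4843, e3 q2863 L86081 q1803, e3 q2864 (flp_a L86087) q1801, e3 q2865 (flp_a L99145) q4849, e3 q2866 (flp_a L99149) q4850, e3 q2867 (flp_a L99155) q4851, e3 q2868 (flp_a L99161) q4852, e3 q2869 L86111 q2832, e3 q2870 (flp_a L99135) q4847, e3 q2871 L99217 q4861, e3 q2872 L86122 q2241, e3 q2873 L86132 q1808, e3 q2874 (flp_a L142513) q2398, e3 q2875 (flp_a L99237) q4863, e3 q2876 L141158 q2081, e3 q2877 L86158 q1810, e3 q2878 (flp_a L99289) q4868, e3 q2879 L86174 q1832, trivial⟩ (by decide +kernel)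

theorem ce_a_45 : ∀ r, r < 64 → sm ga (Qf (2880 + r)) = Qf (tab Gen.a (2880 + r)) :=
  edges_tab (sm ga) Qf (tab Gen.a) 2880 [(2880, 4872), (2881, 1816), (2882, 1814), (2883, 4878), (2884, 4859), (2885, 4879), (2886, 4858), (2887, 2852), (2888, 4876), (2889, 1819), (2890, 1835), (2891, 4888), (2892, 4842), (2893, 2900), (2894, 1823), (2895, 1824), (2896, 4896), (2897, 1830), (2898, 1825), (2899, 4900), (2900, 2893), (2901, 3324), (2902, 1827), (2903, 4087), (2904, 2446), (2905, 4909), (2906, 4871), (2907, 2912), (2908, 1834), (2909, 4916), (2910, 1836), (2911, 4919), (2912, 2907), (2913, 3346), (2914, 1838), (2915, 4041), (2916, 2476), (2917, 1841), (2918, 4928), (2919, 4929), (2920, 4129), (2921, 1843), (2922, 1844), (2923, 1845), (2924, 3022), (2925, 4932), (2926, 4933), (2927, 2928), (2928, 2927), (2929, 4940), (2930, 1847), (2931, 1848), (2932, 1849), (2933, 2244), (2934, 4945), (2935, 4946), (2936, 4955), (2937, 2939), (2938, 4958), (2939, 2937), (2940, 4961), (2941, 4964), (2942, 1852), (2943, 4967)]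
    ⟨e3 q2880 L99343 q4872, e3 q2881 L86192 q1816, e3 q2882 (flp_a L86198) q1814, e3 q2883 (flp_a L99373) q4878, e3 q2884 L147450 q4859, e3 q2885 (flp_a L99383) q4879, e3 q2886 (flp_a L147420) q4858, e3 q2887 L86222 q2852, e3 q2888 (flp_a L99363) q4876, e3 q2889 (flp_a L86611) q1819, e3 q2890 L147132 q1835, e3 q2891 L99901 q4888, e3 q2892 (flp_a L99095) q4842, e3 q2893 L148821 q2900, e3 q2894 L86665 q1823, e3 q2895 L86669 q1824, e3 q2896 L99984 q4896, e3 q2897 L147411 q1830, e3 q2898 (flp_a L86711) q1825, e3 q2899 (flp_a L100031) q4900, e3 q2900 (flp_a L148821) q2893, e3 q2901 L139051 q3324, e3 q2902 L86747 q1827, e3 q2903 (flp_a L94957) q4087, e3 q2904 L86755 q2446, e3 q2905 L100325 q4909, e3 q2906 (flp_a L99315) q4871, e3 q2907 (flp_a L148784) q2912, e3 q2908 L86912 q1834, e3 q2909 L100411 q4916, e3 q2910 (flp_a L86958) q1836, e3 q2911 (flp_a L100455) q4919, e3 q2912 L148784 q2907, e3 q2913 L141986 q3346, e3 q2914 L86994 q1838, e3 q2915 (flp_a L94676) q4041, e3 q2916 L87002 q2476, e3 q2917 (flp_a L87939) q1841,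 e3 q2918 (flp_a L101747) q4928, e3 q2919 (flp_a L101755) q4929, e3 q2920 (flp_a L95255) q4129, e3 q2921 L87963 q1843, e3 q2922 L87967 q1844, e3 q2923 L87973 q1845, e3 q2924 (flp_a L88548) q3022, e3 q2925 (flp_a L101795) q4932, e3 q2926 (flp_a L101801) q4933, e3 q2927 (flp_a L87998) q2928, e3 q2928 L87998 q2927, e3 q2929 L101837 q4940, e3 q2930 L88010 q1847, e3 q2931 L88018 q1848, e3 q2932 L88024 q1849, e3 q2933 L88030 q2244, e3 q2934 (flp_a L101873) q4945, e3 q2935 (flp_a L101883) q4946, e3 q2936 L101953 q4955, e3 q2937 (flp_a L88072) q2939, e3 q2938 L101969 q4958, e3 q2939 L88072 q2937, e3 q2940 L101985 q4961, e3 q2941 L102009 q4964, e3 q2942 (flp_a L88090) q1852, e3 q2943 (flp_a L102126) q4967, trivial⟩ (by decide +kernel)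

theorem ce_a_46 : ∀ r, r < 64 → sm ga (Qf (2944 + r)) = Qf (tab Gen.a (2944 + r)) :=
  edges_tab (sm ga) Qf (tab Gen.a) 2944 [(2944, 1853), (2945, 4969), (2946, 1854), (2947, 1893), (2948, 4971), (2949, 4972), (2950, 4975), (2951, 4977), (2952, 1857), (2953, 2960), (2954, 4981), (2955, 1859), (2956, 2963), (2957, 4986), (2958, 4989), (2959, 1862), (2960, 2953), (2961, 4993), (2962, 1864), (2963, 2956), (2964, 1881), (2965, 1882), (2966, 4999), (2967, 5002), (2968, 2968), (2969, 2969), (2970, 3900), (2971, 1871), (2972, 1872), (2973, 5009), (2974, 2976), (2975, 5012), (2976, 2974), (2977, 1873), (2978, 5016), (2979, 5017), (2980, 1874), (2981, 5022), (2982, 5023), (2983, 2983), (2984, 2984), (2985, 4941), (2986, 1878), (2987, 1879), (2988, 1880), (2989, 3899), (2990, 3928), (2991, 5035), (2992, 2994), (2993, 5039), (2994, 2992), (2995, 5043), (2996, 2998), (2997, 5047), (2998, 2996), (2999, 1883), (3000, 5052), (3001, 5053), (3002, 5058), (3003, 1885), (3004, 5062), (3005, 5063), (3006, 5068), (3007, 3179)]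
    ⟨e3 q2944 (flp_a L88100) q1853, e3 q2945 (flp_a L102148) q4969, e3 q2946 (flp_a L88110) q1854, e3 q2947 L88514 q1893, e3 q2948 (flp_a L102166) q4971, e3 q2949 (flp_a L102174) q4972, e3 q2950 L102227 q4975, e3 q2951 L102237 q4977, e3 q2952 (flp_a L88134) q1857, e3 q2953 (flp_a L88181) q2960, e3 q2954 L102257 q4981, e3 q2955 (flp_a L88150) q1859, e3 q2956 (flp_a L88203) q2963, e3 q2957 L102279 q4986, e3 q2958 L102291 q4989, e3 q2959 L88172 q1862, e3 q2960 L88181 q2953, e3 q2961 L102316 q4993, e3 q2962 L88194 q1864, e3 q2963 L88203 q2956, e3 q2964 L88212 q1881, e3 q2965 L88221 q1882, e3 q2966 L102357 q4999, e3 q2967 L102371 q5002, e3 q2968 L88238 q2968, e3 q2969 L88244 q2969, e3 q2970 (flp_a L119335) q3900, e3 q2971 L88256 q1871, e3 q2972 L88265 q1872, e3 q2973 L102417 q5009, e3 q2974 (flp_a L88287) q2976, e3 q2975 L102430 q5012, e3 q2976 L88287 q2974, e3 q2977 (flp_a L88292) q1873, e3 q2978 (flp_a L102447) q5016, e3 q2979 (flp_a L102451) q5017, e3 q2980 (flp_a L88300) q1874, e3 q2981 (flp_a L102473) q5022, e3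 q2982 (flp_a L102477) q5023, e3 q2983 L88310 q2983, e3 q2984 L88315 q2984, e3 q2985 (flp_a L101847) q4941, e3 q2986 L88324 q1878, e3 q2987 L88328 q1879, e3 q2988 L88336 q1880, e3 q2989 L119220 q3899, e3 q2990 L148321 q3928, e3 q2991 L102559 q5035, e3 q2992 (flp_a L88372) q2994, e3 q2993 L102581 q5039, e3 q2994 L88372 q2992, e3 q2995 L102603 q5043, e3 q2996 (flp_a L88399) q2998, e3 q2997 L102620 q5047, e3 q2998 L88399 q2996, e3 q2999 (flp_a L88408) q1883, e3 q3000 (flp_a L102643) q5052, e3 q3001 (flp_a L102649) q5053, e3 q3002 L102679 q5058, e3 q3003 (flp_a L88426) q1885, e3 q3004 (flp_a L102701) q5062, e3 q3005 (flp_a L102707) q5063, e3 q3006 L102737 q5068, e3 q3007 (flp_a L89419) q3179, trivial⟩ (by decide +kernel)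

theorem ce_a_47 : ∀ r, r < 64 → sm ga (Qf (3008 + r)) = Qf (tab Gen.a (3008 + r)) :=
  edges_tab (sm ga) Qf (tab Gen.a) 3008 [(3008, 3162), (3009, 1979), (3010, 3185), (3011, 3173), (3012, 1971), (3013, 4832), (3014, 3632), (3015, 3638), (3016, 1897), (3017, 1898), (3018, 1899), (3019, 1900), (3020, 2395), (3021, 2412), (3022, 2924), (3023, 5081), (3024, 4100), (3025, 4116), (3026, 2385), (3027, 2402), (3028, 5094), (3029, 3031), (3030, 5098), (3031, 3029), (3032, 1901), (3033, 5103), (3034, 3058), (3035, 5106), (3036, 1903), (3037, 5110), (3038, 3068), (3039, 5113), (3040, 5116), (3041, 3043), (3042, 5120), (3043, 3041), (3044, 1907), (3045, 3358), (3046, 5124), (3047, 5128), (3048, 1909), (3049, 3382), (3050, 5131), (3051, 5135), (3052, 3950), (3053, 1912), (3054, 1913), (3055, 5140), (3056, 5141), (3057, 5147), (3058, 3034), (3059, 1914), (3060, 5152), (3061, 5153), (3062, 3981), (3063, 1916), (3064, 1917), (3065, 5159), (3066, 5160), (3067, 5166), (3068, 3038), (3069, 1918), (3070, 5171), (3071, 5172)]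
    ⟨e3 q3008 (flp_a L89312) q3162, e3 q3009 L88458 q1979, e3 q3010 (flp_a L89460) q3185, e3 q3011 (flp_a L89376) q3173, e3 q3012 L88480 q1971, e3 q3013 (flp_a L119067) q4832, e3 q3014 L119345 q3632, e3 q3015 L148199 q3638, e3 q3016 L88504 q1897, e3 q3017 L88528 q1898, e3 q3018 L88532 q1899, e3 q3019 L88538 q1900, e3 q3020 (flp_a L119278) q2395, e3 q3021 (flp_a L148538) q2412, e3 q3022 L88548 q2924, e3 q3023 (flp_a L102841) q5081, e3 q3024 L142684 q4100, e3 q3025 (flp_a L148235) q4116, e3 q3026 (flp_a L119326) q2385, e3 q3027 L148357 q2402, e3 q3028 L102986 q5094, e3 q3029 (flp_a L88592) q3031, e3 q3030 L103004 q5098, e3 q3031 L88592 q3029, e3 q3032 (flp_a L88598) q1901, e3 q3033 (flp_a L103026) q5103, e3 q3034 (flp_a L88710) q3058, e3 q3035 L103044 q5106, e3 q3036 (flp_a L88612) q1903, e3 q3037 (flp_a L103058) q5110, e3 q3038 (flp_a L88750) q3068, e3 q3039 L103076 q5113, e3 q3040 L103086 q5116, e3 q3041 (flp_a L88646) q3043, e3 q3042 L103104 q5120, e3 q3043 L88646 q3041, e3 q3044 (flp_a L88656) q1907, e3 q3045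 L120223 q3358, e3 q3046 (flp_a L103132) q5124, e3 q3047 L103158 q5128, e3 q3048 (flp_a L88670) q1909, e3 q3049 (flp_a L129559) q3382, e3 q3050 (flp_a L103182) q5131, e3 q3051 L103208 q5135, e3 q3052 (flp_a L120102) q3950, e3 q3053 L88688 q1912, e3 q3054 L88692 q1913, e3 q3055 (flp_a L103234) q5140, e3 q3056 (flp_a L103238) q5141, e3 q3057 L103268 q5147, e3 q3058 L88710 q3034, e3 q3059 (flp_a L88714) q1914, e3 q3060 (flp_a L103284) q5152, e3 q3061 (flp_a L103288) q5153, e3 q3062 L148508 q3981, e3 q3063 L88728 q1916, e3 q3064 L88732 q1917, e3 q3065 (flp_a L103320) q5159, e3 q3066 (flp_a L103324) q5160, e3 q3067 L103354 q5166, e3 q3068 L88750 q3038, e3 q3069 (flp_a L88754) q1918, e3 q3070 (flp_a L103370) q5171, e3 q3071 (flp_a L103374) q5172, trivial⟩ (by decide +kernel)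

theorem ce_a_48 : ∀ r, r < 64 → sm ga (Qf (3072 + r)) = Qf (tab Gen.a (3072 + r)) :=
  edges_tab (sm ga) Qf (tab Gen.a) 3072 [(3072, 5176), (3073, 1920), (3074, 3091), (3075, 5178), (3076, 3276), (3077, 5184), (3078, 2046), (3079, 5187), (3080, 1924), (3081, 3101), (3082, 5189), (3083, 3299), (3084, 5195), (3085, 2034), (3086, 3086), (3087, 3087), (3088, 1929), (3089, 1930), (3090, 3520), (3091, 3074), (3092, 5199), (3093, 3322), (3094, 2074), (3095, 2075), (3096, 3096), (3097, 3097), (3098, 1935), (3099, 1936), (3100, 3521), (3101, 3081), (3102, 5207), (3103, 3344), (3104, 2058), (3105, 2059), (3106, 1945), (3107, 5214), (3108, 5215), (3109, 5216), (3110, 1950), (3111, 1951), (3112, 5225), (3113, 5228), (3114, 2500), (3115, 2501), (3116, 5233), (3117, 3119), (3118, 5237), (3119, 3117), (3120, 1952), (3121, 5242), (3122, 3142), (3123, 5246), (3124, 1954), (3125, 5250), (3126, 3152), (3127, 5254), (3128, 1956), (3129, 2548), (3130, 5258), (3131, 5262), (3132, 1958), (3133, 2558), (3134, 5266), (3135, 5270)]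
    ⟨e3 q3072 L103394 q5176, e3 q3073 L88769 q1920, e3 q3074 (flp_a L88863) q3091, e3 q3075 (flp_a L103411) q5178, e3 q3076 (flp_a L89909) q3276, e3 q3077 L103439 q5184, e3 q3078 L88789 q2046, e3 q3079 L103453 q5187, e3 q3080 L88798 q1924, e3 q3081 (flp_a L88936) q3101, e3 q3082 (flp_a L103470) q5189, e3 q3083 (flp_a L89997) q3299, e3 q3084 L103500 q5195, e3 q3085 L88822 q2034, e3 q3086 L88830 q3086, e3 q3087 L88836 q3087, e3 q3088 L88843 q1929, e3 q3089 L88851 q1930, e3 q3090 (flp_a L119678) q3520, e3 q3091 L88863 q3074, e3 q3092 (flp_a L119866) q5199, e3 q3093 (flp_a L90101) q3322, e3 q3094 L88887 q2074, e3 q3095 L88893 q2075, e3 q3096 L88903 q3096, e3 q3097 L88909 q3097, e3 q3098 L88916 q1935, e3 q3099 L88924 q1936, e3 q3100 L148088 q3521, e3 q3101 L88936 q3081, e3 q3102 (flp_a L129617) q5207, e3 q3103 (flp_a L90277) q3344, e3 q3104 L88964 q2058, e3 q3105 L88972 q2059, e3 q3106 (flp_a L89010) q1945, e3 q3107 (flp_a L103730) q5214, e3 q3108 (flp_a L103736) q5215, e3 q3109 (flp_a L103744) q5216, e3 q3110 L89032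 q1950, e3 q3111 L89040 q1951, e3 q3112 L103798 q5225, e3 q3113 L103810 q5228, e3 q3114 L89056 q2500, e3 q3115 L89064 q2501, e3 q3116 L103830 q5233, e3 q3117 (flp_a L89090) q3119, e3 q3118 L103863 q5237, e3 q3119 L89090 q3117, e3 q3120 (flp_a L89096) q1952, e3 q3121 (flp_a L103893) q5242, e3 q3122 (flp_a L89202) q3142, e3 q3123 L103915 q5246, e3 q3124 (flp_a L89116) q1954, e3 q3125 (flp_a L103935) q5250, e3 q3126 (flp_a L89260) q3152, e3 q3127 L103957 q5254, e3 q3128 (flp_a L89136) q1956, e3 q3129 L96155 q2548, e3 q3130 (flp_a L103979) q5258, e3 q3131 L104009 q5262, e3 q3132 (flp_a L89150) q1958, e3 q3133 L96440 q2558, e3 q3134 (flp_a L104029) q5266, e3 q3135 L104061 q5270, trivial⟩ (by decide +kernel)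

theorem ce_a_49 : ∀ r, r < 64 → sm ga (Qf (3136 + r)) = Qf (tab Gen.a (3136 + r)) :=
  edges_tab (sm ga) Qf (tab Gen.a) 3136 [(3136, 5273), (3137, 1961), (3138, 1962), (3139, 5278), (3140, 5279), (3141, 5285), (3142, 3122), (3143, 1963), (3144, 5290), (3145, 5291), (3146, 5295), (3147, 1965), (3148, 1966), (3149, 5300), (3150, 5301), (3151, 5307), (3152, 3126), (3153, 1967), (3154, 5312), (3155, 5313), (3156, 3156), (3157, 5319), (3158, 1970), (3159, 5323), (3160, 5078), (3161, 5327), (3162, 3008), (3163, 1972), (3164, 5331), (3165, 1975), (3166, 5334), (3167, 3167), (3168, 5339), (3169, 1978), (3170, 5343), (3171, 5074), (3172, 5347), (3173, 3011), (3174, 1980), (3175, 5351), (3176, 1983), (3177, 5354), (3178, 5357), (3179, 3007), (3180, 1986), (3181, 5362), (3182, 1988), (3183, 5364), (3184, 5367), (3185, 3010), (3186, 1991), (3187, 5372), (3188, 1993), (3189, 5374), (3190, 3190), (3191, 3191), (3192, 1997), (3193, 1998), (3194, 5379), (3195, 3197), (3196, 5383), (3197, 3195), (3198, 1999), (3199, 5388)]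
    ⟨e3 q3136 L104081 q5273, e3 q3137 L89172 q1961, e3 q3138 L89178 q1962, e3 q3139 (flp_a L104103) q5278, e3 q3140 (flp_a L104107) q5279, e3 q3141 L104145 q5285, e3 q3142 L89202 q3122, e3 q3143 (flp_a L89208) q1963, e3 q3144 (flp_a L104171) q5290, e3 q3145 (flp_a L104177) q5291, e3 q3146 L104202 q5295, e3 q3147 L89230 q1965, e3 q3148 L89236 q1966, e3 q3149 (flp_a L104224) q5300, e3 q3150 (flp_a L104228) q5301, e3 q3151 L104266 q5307, e3 q3152 L89260 q3126, e3 q3153 (flp_a L89266) q1967, e3 q3154 (flp_a L104292) q5312, e3 q3155 (flp_a L104298) q5313, e3 q3156 L89284 q3156, e3 q3157 L104337 q5319, e3 q3158 L89296 q1970, e3 q3159 (flp_a L104355) q5323, e3 q3160 (flp_a L102801) q5078, e3 q3161 L104379 q5327, e3 q3162 L89312 q3008, e3 q3163 (flp_a L89320) q1972, e3 q3164 (flp_a L104399) q5331, e3 q3165 L89338 q1975, e3 q3166 (flp_a L104417) q5334, e3 q3167 L89348 q3167, e3 q3168 L104442 q5339, e3 q3169 L89360 q1978, e3 q3170 (flp_a L104460) q5343, e3 q3171 (flp_a L102773) q5074, e3 q3172 L104484 q5347, e3 q3173 L89376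 q3011, e3 q3174 (flp_a L89384) q1980, e3 q3175 (flp_a L104506) q5351, e3 q3176 L89404 q1983, e3 q3177 (flp_a L104526) q5354, e3 q3178 L104537 q5357, e3 q3179 L89419 q3007, e3 q3180 L89427 q1986, e3 q3181 (flp_a L104575) q5362, e3 q3182 L89441 q1988, e3 q3183 (flp_a L104593) q5364, e3 q3184 L104620 q5367, e3 q3185 L89460 q3010, e3 q3186 L89468 q1991, e3 q3187 (flp_a L104664) q5372, e3 q3188 L89484 q1993, e3 q3189 (flp_a L104684) q5374, e3 q3190 L89500 q3190, e3 q3191 L89542 q3191, e3 q3192 L89584 q1997, e3 q3193 L89590 q1998, e3 q3194 L104809 q5379, e3 q3195 (flp_a L89608) q3197, e3 q3196 L104821 q5383, e3 q3197 L89608 q3195, e3 q3198 (flp_a L89614) q1999, e3 q3199 (flp_a L104837) q5388, trivial⟩ (by decide +kernel)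

theorem ce_a_50 : ∀ r, r < 64 → sm ga (Qf (3200 + r)) = Qf (tab Gen.a (3200 + r)) :=
  edges_tab (sm ga) Qf (tab Gen.a) 3200 [(3200, 5389), (3201, 2000), (3202, 5393), (3203, 5394), (3204, 5397), (3205, 2002), (3206, 3592), (3207, 3231), (3208, 5404), (3209, 2004), (3210, 5408), (3211, 5409), (3212, 5413), (3213, 2006), (3214, 3614), (3215, 3253), (3216, 5420), (3217, 2008), (3218, 5424), (3219, 5425), (3220, 2009), (3221, 5429), (3222, 5430), (3223, 5431), (3224, 5432), (3225, 2012), (3226, 2013), (3227, 5445), (3228, 5442), (3229, 5443), (3230, 5451), (3231, 3207), (3232, 2014), (3233, 5456), (3234, 3241), (3235, 5460), (3236, 5463), (3237, 2017), (3238, 2018), (3239, 5468), (3240, 5469), (3241, 3234), (3242, 2019), (3243, 5473), (3244, 5474), (3245, 5475), (3246, 5476), (3247, 2022), (3248, 2023), (3249, 5489), (3250, 5486), (3251, 5487), (3252, 5495), (3253, 3215), (3254, 2024), (3255, 5457), (3256, 3263), (3257, 5501), (3258, 5504), (3259, 2027), (3260, 2028), (3261, 5458), (3262, 5509), (3263, 3256)]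
    ⟨e3 q3200 (flp_a L104841) q5389, e3 q3201 (flp_a L89620) q2000, e3 q3202 (flp_a L104861) q5393, e3 q3203 (flp_a L104865) q5394, e3 q3204 L104881 q5397, e3 q3205 L89630 q2002, e3 q3206 L119396 q3592, e3 q3207 (flp_a L89722) q3231, e3 q3208 L104917 q5404, e3 q3209 (flp_a L89646) q2004, e3 q3210 (flp_a L104931) q5408, e3 q3211 (flp_a L104935) q5409, e3 q3212 L104951 q5413, e3 q3213 L89658 q2006, e3 q3214 (flp_a L147988) q3614, e3 q3215 (flp_a L89807) q3253, e3 q3216 L104981 q5420, e3 q3217 (flp_a L89674) q2008, e3 q3218 (flp_a L104995) q5424, e3 q3219 (flp_a L104999) q5425, e3 q3220 (flp_a L89682) q2009, e3 q3221 (flp_a L105017) q5429, e3 q3222 (flp_a L105021) q5430, e3 q3223 (flp_a L105025) q5431, e3 q3224 (flp_a L105065) q5432, e3 q3225 L89694 q2012, e3 q3226 L89700 q2013, e3 q3227 L105091 q5445, e3 q3228 (flp_a L105075) q5442, e3 q3229 (flp_a L105081) q5443, e3 q3230 L105119 q5451, e3 q3231 L89722 q3207, e3 q3232 (flp_a L89728) q2014, e3 q3233 (flp_a L105137) q5456, e3 q3234 (flp_a L89763) q3241, e3 q3235 L105153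 q5460, e3 q3236 L105161 q5463, e3 q3237 L89744 q2017, e3 q3238 L89748 q2018, e3 q3239 (flp_a L105173) q5468, e3 q3240 (flp_a L105177) q5469, e3 q3241 L89763 q3234, e3 q3242 (flp_a L89767) q2019, e3 q3243 (flp_a L105210) q5473, e3 q3244 (flp_a L105214) q5474, e3 q3245 (flp_a L105218) q5475, e3 q3246 (flp_a L105258) q5476, e3 q3247 L89779 q2022, e3 q3248 L89785 q2023, e3 q3249 L105284 q5489, e3 q3250 (flp_a L105268) q5486, e3 q3251 (flp_a L105274) q5487, e3 q3252 L105312 q5495, e3 q3253 L89807 q3215, e3 q3254 (flp_a L89813) q2024, e3 q3255 (flp_a L151518) q5457, e3 q3256 (flp_a L89856) q3263, e3 q3257 L105350 q5501, e3 q3258 L105358 q5504, e3 q3259 L89835 q2027, e3 q3260 L89839 q2028, e3 q3261 (flp_a L151494) q5458, e3 q3262 (flp_a L105382) q5509, e3 q3263 L89856 q3256, trivial⟩ (by decide +kernel)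

theorem ce_a_51 : ∀ r, r < 64 → sm ga (Qf (3264 + r)) = Qf (tab Gen.a (3264 + r)) :=
  edges_tab (sm ga) Qf (tab Gen.a) 3264 [(3264, 5513), (3265, 3265), (3266, 2030), (3267, 5518), (3268, 5519), (3269, 5520), (3270, 2033), (3271, 3436), (3272, 3317), (3273, 3318), (3274, 5197), (3275, 5533), (3276, 3076), (3277, 2035), (3278, 5538), (3279, 5539), (3280, 5544), (3281, 2038), (3282, 5547), (3283, 5550), (3284, 2040), (3285, 3330), (3286, 5554), (3287, 5557), (3288, 3288), (3289, 2042), (3290, 5562), (3291, 5563), (3292, 5564), (3293, 2045), (3294, 3437), (3295, 3339), (3296, 3340), (3297, 5186), (3298, 5577), (3299, 3083), (3300, 2047), (3301, 5582), (3302, 5583), (3303, 5588), (3304, 2050), (3305, 5591), (3306, 5594), (3307, 2052), (3308, 3352), (3309, 5598), (3310, 5601), (3311, 2057), (3312, 2055), (3313, 5606), (3314, 5607), (3315, 5608), (3316, 5609), (3317, 3272), (3318, 3273), (3319, 5604), (3320, 5213), (3321, 5622), (3322, 3093), (3323, 2443), (3324, 2901), (3325, 2060), (3326, 5627), (3327, 4838)]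
    ⟨e3 q3264 L105417 q5513, e3 q3265 L89868 q3265, e3 q3266 (flp_a L89873) q2030, e3 q3267 (flp_a L105445) q5518, e3 q3268 (flp_a L105449) q5519, e3 q3269 (flp_a L105453) q5520, e3 q3270 L89885 q2033, e3 q3271 L120392 q3436, e3 q3272 (flp_a L90077) q3317, e3 q3273 (flp_a L90083) q3318, e3 q3274 (flp_a L103512) q5197, e3 q3275 L105513 q5533, e3 q3276 L89909 q3076, e3 q3277 (flp_a L89915) q2035, e3 q3278 (flp_a L105531) q5538, e3 q3279 (flp_a L105535) q5539, e3 q3280 L105557 q5544, e3 q3281 L89927 q2038, e3 q3282 (flp_a L105567) q5547, e3 q3283 L105581 q5550, e3 q3284 L89941 q2040, e3 q3285 (flp_a L90208) q3330, e3 q3286 (flp_a L105594) q5554, e3 q3287 L105604 q5557, e3 q3288 L89956 q3288, e3 q3289 (flp_a L89961) q2042, e3 q3290 (flp_a L105632) q5562, e3 q3291 (flp_a L105636) q5563, e3 q3292 (flp_a L105640) q5564, e3 q3293 L89973 q2045, e3 q3294 L151079 q3437, e3 q3295 (flp_a L90253) q3339, e3 q3296 (flp_a L90259) q3340, e3 q3297 (flp_a L103449) q5186, e3 q3298 L105700 q5577, e3 q3299 L89997 q3083, e3 q3300 (flp_a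 L90003) q2047, e3 q3301 (flp_a L105718) q5582, e3 q3302 (flp_a L105722) q5583, e3 q3303 L105746 q5588, e3 q3304 L90017 q2050, e3 q3305 (flp_a L105762) q5591, e3 q3306 L105776 q5594, e3 q3307 L90033 q2052, e3 q3308 (flp_a L90392) q3352, e3 q3309 (flp_a L105795) q5598, e3 q3310 L105805 q5601, e3 q3311 L90049 q2057, e3 q3312 (flp_a L90053) q2055, e3 q3313 (flp_a L105837) q5606, e3 q3314 (flp_a L105841) q5607, e3 q3315 (flp_a L105847) q5608, e3 q3316 (flp_a L105853) q5609, e3 q3317 L90077 q3272, e3 q3318 L90083 q3273, e3 q3319 (flp_a L105827) q5604, e3 q3320 (flp_a L103706) q5213, e3 q3321 L105951 q5622, e3 q3322 L90101 q3093, e3 q3323 (flp_a L139156) q2443, e3 q3324 (flp_a L139051) q2901, e3 q3325 (flp_a L90125) q2060, e3 q3326 (flp_a L105995) q5627, e3 q3327 L141814 q4838, trivial⟩ (by decide +kernel)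

theorem ce_a_52 : ∀ r, r < 64 → sm ga (Qf (3328 + r)) = Qf (tab Gen.a (3328 + r)) :=
  edges_tab (sm ga) Qf (tab Gen.a) 3328 [(3328, 2067), (3329, 5632), (3330, 3285), (3331, 2238), (3332, 5638), (3333, 2073), (3334, 2071), (3335, 5643), (3336, 5644), (3337, 5645), (3338, 5646), (3339, 3295), (3340, 3296), (3341, 5641), (3342, 5205), (3343, 5655), (3344, 3103), (3345, 2473), (3346, 2913), (3347, 2076), (3348, 5660), (3349, 4867), (3350, 2083), (3351, 5665), (3352, 3308), (3353, 2242), (3354, 5671), (3355, 2086), (3356, 2087), (3357, 2088), (3358, 3045), (3359, 5674), (3360, 5675), (3361, 3363), (3362, 5681), (3363, 3361), (3364, 4020), (3365, 5685), (3366, 2091), (3367, 5689), (3368, 5690), (3369, 3372), (3370, 2094), (3371, 5696), (3372, 3369), (3373, 2096), (3374, 5702), (3375, 5703), (3376, 5704), (3377, 2464), (3378, 5710), (3379, 2099), (3380, 2100), (3381, 2101), (3382, 3049), (3383, 5713), (3384, 5714), (3385, 5718), (3386, 3387), (3387, 3386), (3388, 4066), (3389, 5721), (3390, 2104), (3391, 5724)]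
    ⟨e3 q3328 L90190 q2067, e3 q3329 L106091 q5632, e3 q3330 L90208 q3285, e3 q3331 (flp_a L141752) q2238, e3 q3332 L106124 q5638, e3 q3333 L90225 q2073, e3 q3334 (flp_a L90229) q2071, e3 q3335 (flp_a L106156) q5643, e3 q3336 (flp_a L106160) q5644, e3 q3337 (flp_a L106166) q5645, e3 q3338 (flp_a L106172) q5646, e3 q3339 L90253 q3295, e3 q3340 L90259 q3296, e3 q3341 (flp_a L106146) q5641, e3 q3342 (flp_a L103608) q5205, e3 q3343 L106270 q5655, e3 q3344 L90277 q3103, e3 q3345 L141865 q2473, e3 q3346 (flp_a L141986) q2913, e3 q3347 (flp_a L90301) q2076, e3 q3348 (flp_a L106314) q5660, e3 q3349 (flp_a L141144) q4867, e3 q3350 L90374 q2083, e3 q3351 L106414 q5665, e3 q3352 L90392 q3308, e3 q3353 (flp_a L133431) q2242, e3 q3354 L106617 q5671, e3 q3355 L90604 q2086, e3 q3356 L90608 q2087, e3 q3357 L90612 q2088, e3 q3358 (flp_a L120223) q3045, e3 q3359 (flp_a L106635) q5674, e3 q3360 (flp_a L106641) q5675, e3 q3361 (flp_a L90638) q3363, e3 q3362 L106685 q5681, e3 q3363 L90638 q3361, e3 q3364 (flp_a L94556) q4020, e3 q3365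 L106701 q5685, e3 q3366 (flp_a L90650) q2091, e3 q3367 (flp_a L106719) q5689, e3 q3368 (flp_a L106723) q5690, e3 q3369 (flp_a L139151) q3372, e3 q3370 L90678 q2094, e3 q3371 (flp_a L106771) q5696, e3 q3372 L139151 q3369, e3 q3373 (flp_a L90694) q2096, e3 q3374 (flp_a L106805) q5702, e3 q3375 (flp_a L106809) q5703, e3 q3376 (flp_a L106815) q5704, e3 q3377 L90714 q2464, e3 q3378 L106849 q5710, e3 q3379 L90724 q2099, e3 q3380 L90728 q2100, e3 q3381 L90732 q2101, e3 q3382 L129559 q3049, e3 q3383 (flp_a L106867) q5713, e3 q3384 (flp_a L106873) q5714, e3 q3385 L106913 q5718, e3 q3386 (flp_a L90758) q3387, e3 q3387 L90758 q3386, e3 q3388 (flp_a L94835) q4066, e3 q3389 L106933 q5721, e3 q3390 (flp_a L90774) q2104, e3 q3391 (flp_a L106953) q5724, trivial⟩ (by decide +kernel)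

theorem ce_a_53 : ∀ r, r < 64 → sm ga (Qf (3392 + r)) = Qf (tab Gen.a (3392 + r)) :=
  edges_tab (sm ga) Qf (tab Gen.a) 3392 [(3392, 5725), (3393, 3396), (3394, 2107), (3395, 5697), (3396, 3393), (3397, 2109), (3398, 5735), (3399, 5736), (3400, 5737), (3401, 2434), (3402, 2111), (3403, 5743), (3404, 5744), (3405, 2113), (3406, 2114), (3407, 2115), (3408, 5082), (3409, 5747), (3410, 5748), (3411, 3412), (3412, 3411), (3413, 2117), (3414, 2118), (3415, 2119), (3416, 5758), (3417, 5759), (3418, 5766), (3419, 3421), (3420, 5769), (3421, 3419), (3422, 2151), (3423, 2152), (3424, 5774), (3425, 5777), (3426, 2123), (3427, 5781), (3428, 2124), (3429, 5784), (3430, 2130), (3431, 2302), (3432, 2303), (3433, 2129), (3434, 2131), (3435, 2132), (3436, 3271), (3437, 3294), (3438, 5791), (3439, 4429), (3440, 5792), (3441, 5793), (3442, 5786), (3443, 5787), (3444, 5605), (3445, 3447), (3446, 5642), (3447, 3445), (3448, 2133), (3449, 3464), (3450, 5815), (3451, 2135), (3452, 3467), (3453, 5819), (3454, 5822), (3455, 5825)]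
    ⟨e3 q3392 (flp_a L106957) q5725, e3 q3393 L132199 q3396, e3 q3394 L90804 q2107, e3 q3395 (flp_a L106785) q5697, e3 q3396 (flp_a L132199) q3393, e3 q3397 (flp_a L90820) q2109, e3 q3398 (flp_a L107027) q5735, e3 q3399 (flp_a L107031) q5736, e3 q3400 (flp_a L107037) q5737, e3 q3401 L90842 q2434, e3 q3402 (flp_a L90890) q2111, e3 q3403 (flp_a L107087) q5743, e3 q3404 (flp_a L107097) q5744, e3 q3405 L90920 q2113, e3 q3406 L90928 q2114, e3 q3407 L90934 q2115, e3 q3408 (flp_a L102906) q5082, e3 q3409 (flp_a L107129) q5747, e3 q3410 (flp_a L107137) q5748, e3 q3411 (flp_a L90965) q3412, e3 q3412 L90965 q3411, e3 q3413 L90977 q2117, e3 q3414 L90983 q2118, e3 q3415 L90989 q2119, e3 q3416 (flp_a L107192) q5758, e3 q3417 (flp_a L107202) q5759, e3 q3418 L107256 q5766, e3 q3419 (flp_a L91031) q3421, e3 q3420 L107272 q5769, e3 q3421 L91031 q3419, e3 q3422 L91039 q2151, e3 q3423 L91049 q2152, e3 q3424 L107308 q5774, e3 q3425 L107328 q5777, e3 q3426 (flp_a L91065) q2123, e3 q3427 (flp_a L107346) q5781, e3 q3428 (flp_a L91075)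 q2124, e3 q3429 (flp_a L107368) q5784, e3 q3430 L91087 q2130, e3 q3431 L91095 q2302, e3 q3432 L91101 q2303, e3 q3433 L91107 q2129, e3 q3434 L91111 q2131, e3 q3435 L91117 q2132, e3 q3436 (flp_a L120392) q3271, e3 q3437 (flp_a L151079) q3294, e3 q3438 (flp_a L107413) q5791, e3 q3439 (flp_a L96953) q4429, e3 q3440 (flp_a L107419) q5792, e3 q3441 (flp_a L107425) q5793, e3 q3442 (flp_a L107386) q5786, e3 q3443 (flp_a L107394) q5787, e3 q3444 (flp_a L120489) q5605, e3 q3445 (flp_a L91175) q3447, e3 q3446 (flp_a L150600) q5642, e3 q3447 L91175 q3445, e3 q3448 (flp_a L91181) q2133, e3 q3449 (flp_a L91244) q3464, e3 q3450 L107581 q5815, e3 q3451 (flp_a L91191) q2135, e3 q3452 (flp_a L91260) q3467, e3 q3453 L107595 q5819, e3 q3454 L107603 q5822, e3 q3455 L107619 q5825, trivial⟩ (by decide +kernel)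

theorem ce_a_54 : ∀ r, r < 64 → sm ga (Qf (3456 + r)) = Qf (tab Gen.a (3456 + r)) :=
  edges_tab (sm ga) Qf (tab Gen.a) 3456 [(3456, 2139), (3457, 5829), (3458, 5830), (3459, 2140), (3460, 5834), (3461, 5835), (3462, 4760), (3463, 2142), (3464, 3449), (3465, 4798), (3466, 2144), (3467, 3452), (3468, 5846), (3469, 5849), (3470, 2147), (3471, 5853), (3472, 3496), (3473, 5857), (3474, 2149), (3475, 5861), (3476, 3506), (3477, 5865), (3478, 2674), (3479, 3481), (3480, 2693), (3481, 3479), (3482, 2153), (3483, 2532), (3484, 5873), (3485, 5878), (3486, 2155), (3487, 2540), (3488, 5882), (3489, 5887), (3490, 5890), (3491, 2158), (3492, 2159), (3493, 5895), (3494, 5896), (3495, 5902), (3496, 3472), (3497, 2160), (3498, 5907), (3499, 5908), (3500, 5912), (3501, 2162), (3502, 2163), (3503, 5917), (3504, 5918), (3505, 5924), (3506, 3476), (3507, 2164), (3508, 5929), (3509, 5930), (3510, 3771), (3511, 2167), (3512, 5935), (3513, 3776), (3514, 2170), (3515, 5939), (3516, 2172), (3517, 5942), (3518, 2174), (3519, 5945)]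
    ⟨e3 q3456 (flp_a L91209) q2139, e3 q3457 (flp_a L107639) q5829, e3 q3458 (flp_a L107643) q5830, e3 q3459 (flp_a L91221) q2140, e3 q3460 (flp_a L107671) q5834, e3 q3461 (flp_a L107675) q5835, e3 q3462 (flp_a L120412) q4760, e3 q3463 L91237 q2142, e3 q3464 L91244 q3449, e3 q3465 (flp_a L112149) q4798, e3 q3466 L91253 q2144, e3 q3467 L91260 q3452, e3 q3468 L107727 q5846, e3 q3469 L107753 q5849, e3 q3470 (flp_a L91281) q2147, e3 q3471 (flp_a L107781) q5853, e3 q3472 (flp_a L91427) q3496, e3 q3473 L107805 q5857, e3 q3474 (flp_a L91303) q2149, e3 q3475 (flp_a L107827) q5861, e3 q3476 (flp_a L91485) q3506, e3 q3477 L107853 q5865, e3 q3478 L91625 q2674, e3 q3479 (flp_a L91353) q3481, e3 q3480 (flp_a L150448) q2693, e3 q3481 L91353 q3479, e3 q3482 (flp_a L91363) q2153, e3 q3483 (flp_a L91648) q2532, e3 q3484 (flp_a L107925) q5873, e3 q3485 L107961 q5878, e3 q3486 (flp_a L91377) q2155, e3 q3487 (flp_a L150307) q2540, e3 q3488 (flp_a L107983) q5882, e3 q3489 L108009 q5887, e3 q3490 L108023 q5890, e3 q3491 L91397 q2158,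 e3 q3492 L91403 q2159, e3 q3493 (flp_a L108045) q5895, e3 q3494 (flp_a L108049) q5896, e3 q3495 L108085 q5902, e3 q3496 L91427 q3472, e3 q3497 (flp_a L91433) q2160, e3 q3498 (flp_a L108111) q5907, e3 q3499 (flp_a L108117) q5908, e3 q3500 L108142 q5912, e3 q3501 L91455 q2162, e3 q3502 L91461 q2163, e3 q3503 (flp_a L108164) q5917, e3 q3504 (flp_a L108168) q5918, e3 q3505 L108204 q5924, e3 q3506 L91485 q3476, e3 q3507 (flp_a L91491) q2164, e3 q3508 (flp_a L108230) q5929, e3 q3509 (flp_a L108236) q5930, e3 q3510 (flp_a L93065) q3771, e3 q3511 L91517 q2167, e3 q3512 (flp_a L108269) q5935, e3 q3513 (flp_a L93103) q3776, e3 q3514 L91535 q2170, e3 q3515 (flp_a L108288) q5939, e3 q3516 L91545 q2172, e3 q3517 (flp_a L108301) q5942, e3 q3518 L91561 q2174, e3 q3519 (flp_a L108332) q5945, trivial⟩ (by decide +kernel)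

theorem ce_a_55 : ∀ r, r < 64 → sm ga (Qf (3520 + r)) = Qf (tab Gen.a (3520 + r)) :=
  edges_tab (sm ga) Qf (tab Gen.a) 3520 [(3520, 3090), (3521, 3100), (3522, 2177), (3523, 2675), (3524, 5950), (3525, 2178), (3526, 2695), (3527, 5951), (3528, 2179), (3529, 3646), (3530, 3574), (3531, 5954), (3532, 2181), (3533, 3655), (3534, 3584), (3535, 5959), (3536, 5179), (3537, 2184), (3538, 5964), (3539, 3599), (3540, 5968), (3541, 2186), (3542, 5972), (3543, 5973), (3544, 5190), (3545, 2188), (3546, 5979), (3547, 3621), (3548, 5983), (3549, 2190), (3550, 5987), (3551, 5988), (3552, 3555), (3553, 3558), (3554, 2193), (3555, 3552), (3556, 5994), (3557, 2194), (3558, 3553), (3559, 5996), (3560, 2195), (3561, 3647), (3562, 5998), (3563, 6001), (3564, 2197), (3565, 3657), (3566, 6004), (3567, 6007), (3568, 5657), (3569, 2200), (3570, 2201), (3571, 5380), (3572, 6010), (3573, 6016), (3574, 3530), (3575, 2202), (3576, 6021), (3577, 6022), (3578, 5624), (3579, 2204), (3580, 2205), (3581, 5384), (3582, 6026), (3583, 6032)]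
    ⟨e3 q3520 L119678 q3090, e3 q3521 (flp_a L148088) q3100, e3 q3522 (flp_a L91621) q2177, e3 q3523 L91652 q2675, e3 q3524 (flp_a L108451) q5950, e3 q3525 (flp_a L91660) q2178, e3 q3526 L150374 q2695, e3 q3527 (flp_a L108467) q5951, e3 q3528 (flp_a L91668) q2179, e3 q3529 (flp_a L119684) q3646, e3 q3530 (flp_a L91874) q3574, e3 q3531 L108513 q5954, e3 q3532 (flp_a L91686) q2181, e3 q3533 L148109 q3655, e3 q3534 (flp_a L91922) q3584, e3 q3535 L108551 q5959, e3 q3536 (flp_a L119857) q5179, e3 q3537 L91710 q2184, e3 q3538 (flp_a L108591) q5964, e3 q3539 (flp_a L91976) q3599, e3 q3540 L108613 q5968, e3 q3541 (flp_a L91728) q2186, e3 q3542 (flp_a L108627) q5972, e3 q3543 (flp_a L108631) q5973, e3 q3544 (flp_a L148073) q5190, e3 q3545 L91742 q2188, e3 q3546 (flp_a L108663) q5979, e3 q3547 (flp_a L92057) q3621, e3 q3548 L108685 q5983, e3 q3549 (flp_a L91760) q2190, e3 q3550 (flp_a L108699) q5987, e3 q3551 (flp_a L108703) q5988, e3 q3552 (flp_a L118978) q3555, e3 q3553 L148185 q3558, e3 q3554 (flp_a L91786) q2193, e3 q3555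 L118978 q3552, e3 q3556 (flp_a L108775) q5994, e3 q3557 (flp_a L91798) q2194, e3 q3558 (flp_a L148185) q3553, e3 q3559 (flp_a L108809) q5996, e3 q3560 (flp_a L91810) q2195, e3 q3561 (flp_a L119473) q3647, e3 q3562 (flp_a L108847) q5998, e3 q3563 L108879 q6001, e3 q3564 (flp_a L91828) q2197, e3 q3565 (flp_a L148124) q3657, e3 q3566 (flp_a L108905) q6004, e3 q3567 L108937 q6007, e3 q3568 (flp_a L150540) q5657, e3 q3569 L91850 q2200, e3 q3570 L91854 q2201, e3 q3571 (flp_a L119359) q5380, e3 q3572 (flp_a L108973) q6010, e3 q3573 L109001 q6016, e3 q3574 L91874 q3530, e3 q3575 (flp_a L91880) q2202, e3 q3576 (flp_a L109025) q6021, e3 q3577 (flp_a L109029) q6022, e3 q3578 (flp_a L120475) q5624, e3 q3579 L91898 q2204, e3 q3580 L91902 q2205, e3 q3581 L148132 q5384, e3 q3582 (flp_a L109071) q6026, e3 q3583 L109099 q6032, trivial⟩ (by decide +kernel)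

theorem ce_a_56 : ∀ r, r < 64 → sm ga (Qf (3584 + r)) = Qf (tab Gen.a (3584 + r)) :=
  edges_tab (sm ga) Qf (tab Gen.a) 3584 [(3584, 3534), (3585, 2206), (3586, 6037), (3587, 6038), (3588, 2207), (3589, 4762), (3590, 6042), (3591, 5652), (3592, 3206), (3593, 2210), (3594, 2211), (3595, 6051), (3596, 6047), (3597, 6048), (3598, 6049), (3599, 3539), (3600, 2212), (3601, 6060), (3602, 3609), (3603, 6064), (3604, 6067), (3605, 2215), (3606, 2216), (3607, 6072), (3608, 6073), (3609, 3602), (3610, 2217), (3611, 4800), (3612, 5618), (3613, 6080), (3614, 3214), (3615, 2220), (3616, 2221), (3617, 6089), (3618, 6085), (3619, 6086), (3620, 6087), (3621, 3547), (3622, 2222), (3623, 6098), (3624, 3631), (3625, 6102), (3626, 6105), (3627, 2225), (3628, 2226), (3629, 6110), (3630, 6111), (3631, 3624), (3632, 3014), (3633, 3649), (3634, 6120), (3635, 2230), (3636, 3652), (3637, 6124), (3638, 3015), (3639, 3658), (3640, 6129), (3641, 2234), (3642, 3661), (3643, 6133), (3644, 2235), (3645, 6136), (3646, 3529), (3647, 3561)]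
    ⟨e3 q3584 L91922 q3534, e3 q3585 (flp_a L91928) q2206, e3 q3586 (flp_a L109123) q6037, e3 q3587 (flp_a L109127) q6038, e3 q3588 (flp_a L91940) q2207, e3 q3589 (flp_a L119837) q4762, e3 q3590 (flp_a L109153) q6042, e3 q3591 (flp_a L150492) q5652, e3 q3592 (flp_a L119396) q3206, e3 q3593 L91952 q2210, e3 q3594 L91956 q2211, e3 q3595 L109217 q6051, e3 q3596 (flp_a L109199) q6047, e3 q3597 (flp_a L109205) q6048, e3 q3598 (flp_a L109209) q6049, e3 q3599 L91976 q3539, e3 q3600 (flp_a L91982) q2212, e3 q3601 (flp_a L109261) q6060, e3 q3602 (flp_a L92017) q3609, e3 q3603 L109277 q6064, e3 q3604 L109285 q6067, e3 q3605 L91998 q2215, e3 q3606 L92002 q2216, e3 q3607 (flp_a L109297) q6072, e3 q3608 (flp_a L109301) q6073, e3 q3609 L92017 q3602, e3 q3610 (flp_a L92021) q2217, e3 q3611 (flp_a L112133) q4800, e3 q3612 (flp_a L120481) q5618, e3 q3613 (flp_a L109346) q6080, e3 q3614 L147988 q3214, e3 q3615 L92033 q2220, e3 q3616 L92037 q2221, e3 q3617 L109406 q6089, e3 q3618 (flp_a L109388) q6085, e3 q3619 (flp_a L109394) q6086,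 e3 q3620 (flp_a L109398) q6087, e3 q3621 L92057 q3547, e3 q3622 (flp_a L92063) q2222, e3 q3623 (flp_a L109450) q6098, e3 q3624 (flp_a L92098) q3631, e3 q3625 L109466 q6102, e3 q3626 L109474 q6105, e3 q3627 L92079 q2225, e3 q3628 L92083 q2226, e3 q3629 (flp_a L109488) q6110, e3 q3630 (flp_a L109492) q6111, e3 q3631 L92098 q3624, e3 q3632 (flp_a L119345) q3014, e3 q3633 (flp_a L92174) q3649, e3 q3634 L109553 q6120, e3 q3635 L92120 q2230, e3 q3636 (flp_a L92219) q3652, e3 q3637 (flp_a L109572) q6124, e3 q3638 (flp_a L148199) q3015, e3 q3639 (flp_a L92247) q3658, e3 q3640 L109612 q6129, e3 q3641 L92147 q2234, e3 q3642 (flp_a L92292) q3661, e3 q3643 (flp_a L109631) q6133, e3 q3644 (flp_a L92156) q2235, e3 q3645 (flp_a L109645) q6136, e3 q3646 L119684 q3529, e3 q3647 L119473 q3561, trivial⟩ (by decide +kernel)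

theorem ce_a_57 : ∀ r, r < 64 → sm ga (Qf (3648 + r)) = Qf (tab Gen.a (3648 + r)) :=
  edges_tab (sm ga) Qf (tab Gen.a) 3648 [(3648, 6137), (3649, 3633), (3650, 3961), (3651, 6144), (3652, 3636), (3653, 2239), (3654, 6149), (3655, 3533), (3656, 6150), (3657, 3565), (3658, 3639), (3659, 3991), (3660, 6157), (3661, 3642), (3662, 2245), (3663, 2246), (3664, 4949), (3665, 4950), (3666, 3676), (3667, 3669), (3668, 3679), (3669, 3667), (3670, 6172), (3671, 2252), (3672, 2253), (3673, 6177), (3674, 6180), (3675, 2250), (3676, 3666), (3677, 6184), (3678, 2251), (3679, 3668), (3680, 6188), (3681, 3681), (3682, 3684), (3683, 3683), (3684, 3682), (3685, 2254), (3686, 6198), (3687, 3714), (3688, 6202), (3689, 2256), (3690, 6206), (3691, 3720), (3692, 6210), (3693, 6213), (3694, 2259), (3695, 6218), (3696, 3732), (3697, 6223), (3698, 2261), (3699, 6227), (3700, 6228), (3701, 6232), (3702, 2263), (3703, 6237), (3704, 3745), (3705, 6242), (3706, 2265), (3707, 6246), (3708, 6247), (3709, 4962), (3710, 2267), (3711, 2268)]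
    ⟨e3 q3648 (flp_a L109657) q6137, e3 q3649 L92174 q3633, e3 q3650 (flp_a L94104) q3961, e3 q3651 L109747 q6144, e3 q3652 L92219 q3636, e3 q3653 (flp_a L92229) q2239, e3 q3654 (flp_a L109776) q6149, e3 q3655 (flp_a L148109) q3533, e3 q3656 (flp_a L109784) q6150, e3 q3657 L148124 q3565, e3 q3658 L92247 q3639, e3 q3659 (flp_a L94355) q3991, e3 q3660 L109878 q6157, e3 q3661 L92292 q3642, e3 q3662 L92420 q2245, e3 q3663 L92426 q2246, e3 q3664 (flp_a L101901) q4949, e3 q3665 (flp_a L101911) q4950, e3 q3666 (flp_a L92511) q3676, e3 q3667 (flp_a L92462) q3669, e3 q3668 L150287 q3679, e3 q3669 L92462 q3667, e3 q3670 L110127 q6172, e3 q3671 L92475 q2252, e3 q3672 L92484 q2253, e3 q3673 L110152 q6177, e3 q3674 L110168 q6180, e3 q3675 (flp_a L92503) q2250, e3 q3676 L92511 q3666, e3 q3677 (flp_a L110194) q6184, e3 q3678 (flp_a L92521) q2251, e3 q3679 (flp_a L150287) q3668, e3 q3680 (flp_a L110232) q6188, e3 q3681 L103844 q3681, e3 q3682 (flp_a L92556) q3684, e3 q3683 L150842 q3683, e3 q3684 L92556 q3682, e3 q3685 (flp_a L92565)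 q2254, e3 q3686 (flp_a L110307) q6198, e3 q3687 (flp_a L92734) q3714, e3 q3688 L110331 q6202, e3 q3689 (flp_a L92591) q2256, e3 q3690 (flp_a L110357) q6206, e3 q3691 (flp_a L92775) q3720, e3 q3692 L110381 q6210, e3 q3693 L110399 q6213, e3 q3694 L92623 q2259, e3 q3695 (flp_a L110423) q6218, e3 q3696 (flp_a L92845) q3732, e3 q3697 L110445 q6223, e3 q3698 (flp_a L92645) q2261, e3 q3699 (flp_a L110469) q6227, e3 q3700 (flp_a L110475) q6228, e3 q3701 L110499 q6232, e3 q3702 L92665 q2263, e3 q3703 (flp_a L110523) q6237, e3 q3704 (flp_a L92917) q3745, e3 q3705 L110545 q6242, e3 q3706 (flp_a L92687) q2265, e3 q3707 (flp_a L110569) q6246, e3 q3708 (flp_a L110575) q6247, e3 q3709 (flp_a L101995) q4962, e3 q3710 L92709 q2267, e3 q3711 L92715 q2268, trivial⟩ (by decide +kernel)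

theorem ce_a_58 : ∀ r, r < 64 → sm ga (Qf (3712 + r)) = Qf (tab Gen.a (3712 + r)) :=
  edges_tab (sm ga) Qf (tab Gen.a) 3712 [(3712, 6254), (3713, 6255), (3714, 3687), (3715, 4965), (3716, 2270), (3717, 2271), (3718, 6266), (3719, 6267), (3720, 3691), (3721, 2272), (3722, 6275), (3723, 6276), (3724, 2569), (3725, 2275), (3726, 2276), (3727, 6287), (3728, 6283), (3729, 6284), (3730, 6285), (3731, 6296), (3732, 3696), (3733, 6299), (3734, 2278), (3735, 6302), (3736, 6303), (3737, 2592), (3738, 2281), (3739, 2282), (3740, 6314), (3741, 6310), (3742, 6311), (3743, 6312), (3744, 6323), (3745, 3704), (3746, 6326), (3747, 2284), (3748, 6330), (3749, 6331), (3750, 6332), (3751, 2287), (3752, 6340), (3753, 4393), (3754, 6343), (3755, 2289), (3756, 6347), (3757, 2290), (3758, 6350), (3759, 6351), (3760, 6352), (3761, 2293), (3762, 6360), (3763, 4409), (3764, 6363), (3765, 2295), (3766, 6367), (3767, 2296), (3768, 6370), (3769, 6371), (3770, 6372), (3771, 3510), (3772, 2298), (3773, 6380), (3774, 6381), (3775, 6382)]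
    ⟨e3 q3712 (flp_a L110617) q6254, e3 q3713 (flp_a L110621) q6255, e3 q3714 L92734 q3687, e3 q3715 (flp_a L102106) q4965, e3 q3716 L92750 q2270, e3 q3717 L92756 q2271, e3 q3718 (flp_a L110685) q6266, e3 q3719 (flp_a L110689) q6267, e3 q3720 L92775 q3691, e3 q3721 (flp_a L92783) q2272, e3 q3722 (flp_a L110737) q6275, e3 q3723 (flp_a L110745) q6276, e3 q3724 (flp_a L92805) q2569, e3 q3725 L92809 q2275, e3 q3726 L92813 q2276, e3 q3727 L110821 q6287, e3 q3728 (flp_a L110799) q6283, e3 q3729 (flp_a L110805) q6284, e3 q3730 (flp_a L110811) q6285, e3 q3731 L110871 q6296, e3 q3732 L92845 q3696, e3 q3733 L110885 q6299, e3 q3734 (flp_a L92857) q2278, e3 q3735 (flp_a L110903) q6302, e3 q3736 (flp_a L110911) q6303, e3 q3737 L102080 q2592, e3 q3738 L92881 q2281, e3 q3739 L92885 q2282, e3 q3740 L110989 q6314, e3 q3741 (flp_a L110967) q6310, e3 q3742 (flp_a L110973) q6311, e3 q3743 (flp_a L110979) q6312, e3 q3744 L111039 q6323, e3 q3745 L92917 q3704, e3 q3746 L111053 q6326, e3 q3747 (flp_a L92929) q2284, e3 q3748 (flp_a L111079)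 q6330, e3 q3749 (flp_a L111083) q6331, e3 q3750 (flp_a L111090) q6332, e3 q3751 L92950 q2287, e3 q3752 L111133 q6340, e3 q3753 (flp_a L96685) q4393, e3 q3754 L111149 q6343, e3 q3755 (flp_a L92970) q2289, e3 q3756 (flp_a L111167) q6347, e3 q3757 (flp_a L92982) q2290, e3 q3758 (flp_a L111195) q6350, e3 q3759 (flp_a L111199) q6351, e3 q3760 (flp_a L111206) q6352, e3 q3761 L93003 q2293, e3 q3762 L111249 q6360, e3 q3763 (flp_a L96784) q4409, e3 q3764 L111265 q6363, e3 q3765 (flp_a L93023) q2295, e3 q3766 (flp_a L111283) q6367, e3 q3767 (flp_a L93037) q2296, e3 q3768 (flp_a L111307) q6370, e3 q3769 (flp_a L111311) q6371, e3 q3770 (flp_a L111319) q6372, e3 q3771 L93065 q3510, e3 q3772 (flp_a L93075) q2298, e3 q3773 (flp_a L111371) q6380, e3 q3774 (flp_a L111375) q6381, e3 q3775 (flp_a L111383) q6382, trivial⟩ (by decide +kernel)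

theorem ce_a_59 : ∀ r, r < 64 → sm ga (Qf (3776 + r)) = Qf (tab Gen.a (3776 + r)) :=
  edges_tab (sm ga) Qf (tab Gen.a) 3776 [(3776, 3513), (3777, 4555), (3778, 4658), (3779, 6393), (3780, 3782), (3781, 6396), (3782, 3780), (3783, 3789), (3784, 4613), (3785, 3792), (3786, 4714), (3787, 4463), (3788, 2310), (3789, 3783), (3790, 4476), (3791, 2313), (3792, 3785), (3793, 2314), (3794, 6405), (3795, 4445), (3796, 4668), (3797, 6412), (3798, 2316), (3799, 4497), (3800, 6416), (3801, 3850), (3802, 6421), (3803, 2318), (3804, 6425), (3805, 3811), (3806, 4667), (3807, 2320), (3808, 2321), (3809, 6430), (3810, 6431), (3811, 3805), (3812, 2322), (3813, 6436), (3814, 4563), (3815, 4453), (3816, 6443), (3817, 2324), (3818, 4532), (3819, 6447), (3820, 3876), (3821, 6452), (3822, 2326), (3823, 6456), (3824, 3830), (3825, 4566), (3826, 2328), (3827, 2329), (3828, 6461), (3829, 6462), (3830, 3824), (3831, 2331), (3832, 2332), (3833, 3835), (3834, 4545), (3835, 3833), (3836, 2714), (3837, 2715), (3838, 2716), (3839, 2338)]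
    ⟨e3 q3776 L93103 q3513, e3 q3777 (flp_a L97550) q4555, e3 q3778 (flp_a L98111) q4658, e3 q3779 L111453 q6393, e3 q3780 (flp_a L93137) q3782, e3 q3781 L111463 q6396, e3 q3782 L93137 q3780, e3 q3783 (flp_a L93187) q3789, e3 q3784 (flp_a L98485) q4613, e3 q3785 (flp_a L150147) q3792, e3 q3786 (flp_a L98407) q4714, e3 q3787 (flp_a L97114) q4463, e3 q3788 L93177 q2310, e3 q3789 L93187 q3783, e3 q3790 (flp_a L97905) q4476, e3 q3791 L93205 q2313, e3 q3792 L150147 q3785, e3 q3793 (flp_a L93225) q2314, e3 q3794 (flp_a L111569) q6405, e3 q3795 L97031 q4445, e3 q3796 (flp_a L98191) q4668, e3 q3797 L111605 q6412, e3 q3798 L93245 q2316, e3 q3799 (flp_a L97268) q4497, e3 q3800 (flp_a L111625) q6416, e3 q3801 (flp_a L93506) q3850, e3 q3802 L111653 q6421, e3 q3803 (flp_a L93263) q2318, e3 q3804 (flp_a L111671) q6425, e3 q3805 (flp_a L93305) q3811, e3 q3806 (flp_a L98177) q4667, e3 q3807 L93283 q2320, e3 q3808 L93287 q2321, e3 q3809 (flp_a L111691) q6430, e3 q3810 (flp_a L111695) q6431, e3 q3811 L93305 q3805, e3 q3812 (flp_a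 L93311) q2322, e3 q3813 (flp_a L111723) q6436, e3 q3814 L97917 q4563, e3 q3815 L97901 q4453, e3 q3816 L111757 q6443, e3 q3817 L93331 q2324, e3 q3818 (flp_a L97439) q4532, e3 q3819 (flp_a L111771) q6447, e3 q3820 (flp_a L93645) q3876, e3 q3821 L111799 q6452, e3 q3822 (flp_a L93349) q2326, e3 q3823 (flp_a L111817) q6456, e3 q3824 (flp_a L93391) q3830, e3 q3825 (flp_a L97613) q4566, e3 q3826 L93369 q2328, e3 q3827 L93373 q2329, e3 q3828 (flp_a L111837) q6461, e3 q3829 (flp_a L111841) q6462, e3 q3830 L93391 q3824, e3 q3831 L93399 q2331, e3 q3832 L93407 q2332, e3 q3833 (flp_a L93427) q3835, e3 q3834 (flp_a L97500) q4545, e3 q3835 L93427 q3833, e3 q3836 L93437 q2714, e3 q3837 L93444 q2715, e3 q3838 L93450 q2716, e3 q3839 L93456 q2338, trivial⟩ (by decide +kernel)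

theorem ce_a_60 : ∀ r, r < 64 → sm ga (Qf (3840 + r)) = Qf (tab Gen.a (3840 + r)) :=
  edges_tab (sm ga) Qf (tab Gen.a) 3840 [(3840, 2339), (3841, 6475), (3842, 2336), (3843, 6479), (3844, 6480), (3845, 6483), (3846, 4591), (3847, 4592), (3848, 6473), (3849, 6491), (3850, 3801), (3851, 2340), (3852, 3911), (3853, 6495), (3854, 2342), (3855, 6498), (3856, 4519), (3857, 2344), (3858, 2345), (3859, 4510), (3860, 3861), (3861, 3860), (3862, 2765), (3863, 2766), (3864, 2767), (3865, 2351), (3866, 2352), (3867, 6509), (3868, 2349), (3869, 6513), (3870, 6469), (3871, 6516), (3872, 4691), (3873, 4692), (3874, 6507), (3875, 6524), (3876, 3820), (3877, 2353), (3878, 3939), (3879, 6528), (3880, 2355), (3881, 6531), (3882, 4554), (3883, 2713), (3884, 2357), (3885, 2358), (3886, 2359), (3887, 6536), (3888, 6537), (3889, 6538), (3890, 6539), (3891, 3893), (3892, 6550), (3893, 3891), (3894, 2366), (3895, 6554), (3896, 2362), (3897, 6556), (3898, 2363), (3899, 2989), (3900, 2970), (3901, 3929), (3902, 3958), (3903, 3959)]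
    ⟨e3 q3840 L93460 q2339, e3 q3841 L111924 q6475, e3 q3842 (flp_a L93468) q2336, e3 q3843 (flp_a L111946) q6479, e3 q3844 (flp_a L111950) q6480, e3 q3845 L111966 q6483, e3 q3846 (flp_a L97724) q4591, e3 q3847 (flp_a L97731) q4592, e3 q3848 (flp_a L111914) q6473, e3 q3849 L112018 q6491, e3 q3850 L93506 q3801, e3 q3851 (flp_a L93512) q2340, e3 q3852 (flp_a L93789) q3911, e3 q3853 L112042 q6495, e3 q3854 (flp_a L93520) q2342, e3 q3855 (flp_a L112054) q6498, e3 q3856 L97885 q4519, e3 q3857 L93538 q2344, e3 q3858 L93544 q2345, e3 q3859 (flp_a L97327) q4510, e3 q3860 (flp_a L93576) q3861, e3 q3861 L93576 q3860, e3 q3862 L102084 q2765, e3 q3863 L102074 q2766, e3 q3864 L102068 q2767, e3 q3865 L93595 q2351, e3 q3866 L93599 q2352, e3 q3867 L112123 q6509, e3 q3868 (flp_a L93607) q2349, e3 q3869 (flp_a L112182) q6513, e3 q3870 (flp_a L111883) q6469, e3 q3871 L112196 q6516, e3 q3872 (flp_a L98294) q4691, e3 q3873 (flp_a L98301) q4692, e3 q3874 (flp_a L112113) q6507, e3 q3875 L112248 q6524, e3 q3876 L93645 q3820, e3 q3877 (flp_a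 L93651) q2353, e3 q3878 (flp_a L93909) q3939, e3 q3879 L112272 q6528, e3 q3880 (flp_a L93659) q2355, e3 q3881 (flp_a L112284) q6531, e3 q3882 (flp_a L98073) q4554, e3 q3883 L93673 q2713, e3 q3884 L93679 q2357, e3 q3885 L93683 q2358, e3 q3886 L93688 q2359, e3 q3887 (flp_a L112322) q6536, e3 q3888 (flp_a L112326) q6537, e3 q3889 (flp_a L112330) q6538, e3 q3890 (flp_a L112336) q6539, e3 q3891 (flp_a L93716) q3893, e3 q3892 L112386 q6550, e3 q3893 L93716 q3891, e3 q3894 L93723 q2366, e3 q3895 L112398 q6554, e3 q3896 (flp_a L93733) q2362, e3 q3897 (flp_a L112414) q6556, e3 q3898 (flp_a L93739) q2363, e3 q3899 (flp_a L119220) q2989, e3 q3900 L119335 q2970, e3 q3901 L148317 q3929, e3 q3902 (flp_a L94084) q3958, e3 q3903 (flp_a L94090) q3959, trivial⟩ (by decide +kernel)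

theorem ce_a_61 : ∀ r, r < 64 → sm ga (Qf (3904 + r)) = Qf (tab Gen.a (3904 + r)) :=
  edges_tab (sm ga) Qf (tab Gen.a) 3904 [(3904, 6562), (3905, 6565), (3906, 2367), (3907, 6569), (3908, 5537), (3909, 6068), (3910, 2369), (3911, 3852), (3912, 2764), (3913, 2371), (3914, 2372), (3915, 2373), (3916, 6575), (3917, 6576), (3918, 6577), (3919, 6578), (3920, 6588), (3921, 3922), (3922, 3921), (3923, 2380), (3924, 6593), (3925, 2376), (3926, 6595), (3927, 2377), (3928, 2990), (3929, 3901), (3930, 3988), (3931, 3989), (3932, 6601), (3933, 6604), (3934, 2381), (3935, 6570), (3936, 5581), (3937, 6106), (3938, 2383), (3939, 3878), (3940, 5086), (3941, 3941), (3942, 3972), (3943, 6615), (3944, 6617), (3945, 2389), (3946, 2390), (3947, 2391), (3948, 2392), (3949, 6621), (3950, 3052), (3951, 6622), (3952, 6623), (3953, 4011), (3954, 6624), (3955, 3957), (3956, 6637), (3957, 3955), (3958, 3902), (3959, 3903), (3960, 5161), (3961, 3650), (3962, 4045), (3963, 6646), (3964, 2397), (3965, 6649), (3966, 6650), (3967, 4864)]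
    ⟨e3 q3904 L112478 q6562, e3 q3905 L112488 q6565, e3 q3906 (flp_a L93765) q2367, e3 q3907 (flp_a L112508) q6569, e3 q3908 (flp_a L120585) q5537, e3 q3909 (flp_a L120563) q6068, e3 q3910 L93781 q2369, e3 q3911 L93789 q3852, e3 q3912 L102099 q2764, e3 q3913 L93799 q2371, e3 q3914 L93803 q2372, e3 q3915 L93808 q2373, e3 q3916 (flp_a L112566) q6575, e3 q3917 (flp_a L112570) q6576, e3 q3918 (flp_a L112574) q6577, e3 q3919 (flp_a L112580) q6578, e3 q3920 L112628 q6588, e3 q3921 (flp_a L93836) q3922, e3 q3922 L93836 q3921, e3 q3923 L93843 q2380, e3 q3924 L112642 q6593, e3 q3925 (flp_a L93853) q2376, e3 q3926 (flp_a L112658) q6595, e3 q3927 (flp_a L93859) q2377, e3 q3928 (flp_a L148321) q2990, e3 q3929 (flp_a L148317) q3901, e3 q3930 (flp_a L94335) q3988, e3 q3931 (flp_a L94341) q3989, e3 q3932 L112722 q6601, e3 q3933 L112732 q6604, e3 q3934 (flp_a L93885) q2381, e3 q3935 (flp_a L149102) q6570, e3 q3936 (flp_a L151407) q5581, e3 q3937 (flp_a L120567) q6106, e3 q3938 L93901 q2383, e3 q3939 L93909 q3878, e3 q3940 (flp_a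 L119308) q5086, e3 q3941 L93921 q3941, e3 q3942 (flp_a L148293) q3972, e3 q3943 L112908 q6615, e3 q3944 L112936 q6617, e3 q3945 L94010 q2389, e3 q3946 L94020 q2390, e3 q3947 L94026 q2391, e3 q3948 L94032 q2392, e3 q3949 (flp_a L112962) q6621, e3 q3950 L120102 q3052, e3 q3951 (flp_a L112978) q6622, e3 q3952 (flp_a L112986) q6623, e3 q3953 L120165 q4011, e3 q3954 (flp_a L112998) q6624, e3 q3955 (flp_a L94076) q3957, e3 q3956 L113080 q6637, e3 q3957 L94076 q3955, e3 q3958 L94084 q3902, e3 q3959 L94090 q3903, e3 q3960 (flp_a L143423) q5161, e3 q3961 L94104 q3650, e3 q3962 (flp_a L140991) q4045, e3 q3963 L113132 q6646, e3 q3964 (flp_a L94124) q2397, e3 q3965 (flp_a L113152) q6649, e3 q3966 (flp_a L113156) q6650, e3 q3967 (flp_a L141138) q4864, trivial⟩ (by decide +kernel)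

theorem ce_a_62 : ∀ r, r < 64 → sm ga (Qf (3968 + r)) = Qf (tab Gen.a (3968 + r)) :=
  edges_tab (sm ga) Qf (tab Gen.a) 3968 [(3968, 2400), (3969, 6656), (3970, 5087), (3971, 3971), (3972, 3942), (3973, 6663), (3974, 6665), (3975, 2406), (3976, 2407), (3977, 2408), (3978, 2409), (3979, 6669), (3980, 6670), (3981, 3062), (3982, 6671), (3983, 6672), (3984, 4057), (3985, 6683), (3986, 3987), (3987, 3986), (3988, 3930), (3989, 3931), (3990, 5142), (3991, 3659), (3992, 4091), (3993, 6691), (3994, 2414), (3995, 6694), (3996, 6640), (3997, 4835), (3998, 2417), (3999, 6657), (4000, 6701), (4001, 2421), (4002, 4003), (4003, 4002), (4004, 2423), (4005, 5092), (4006, 5095), (4007, 5117), (4008, 6706), (4009, 2429), (4010, 6714), (4011, 3953), (4012, 4013), (4013, 4012), (4014, 6719), (4015, 6722), (4016, 2431), (4017, 6726), (4018, 4032), (4019, 6730), (4020, 3364), (4021, 6733), (4022, 2435), (4023, 6737), (4024, 6738), (4025, 6742), (4026, 6744), (4027, 2438), (4028, 2439), (4029, 6749), (4030, 6750), (4031, 6754)]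
    ⟨e3 q3968 L94154 q2400, e3 q3969 (flp_a L113196) q6656, e3 q3970 (flp_a L146733) q5087, e3 q3971 L94172 q3971, e3 q3972 L148293 q3942, e3 q3973 L113336 q6663, e3 q3974 L113364 q6665, e3 q3975 L94261 q2406, e3 q3976 L94271 q2407, e3 q3977 L94277 q2408, e3 q3978 L94283 q2409, e3 q3979 (flp_a L113390) q6669, e3 q3980 (flp_a L113398) q6670, e3 q3981 (flp_a L148508) q3062, e3 q3982 (flp_a L113414) q6671, e3 q3983 (flp_a L113418) q6672, e3 q3984 (flp_a L148530) q4057, e3 q3985 L113506 q6683, e3 q3986 (flp_a L94327) q3987, e3 q3987 L94327 q3986, e3 q3988 L94335 q3930, e3 q3989 L94341 q3931, e3 q3990 (flp_a L149607) q5142, e3 q3991 L94355 q3659, e3 q3992 (flp_a L137026) q4091, e3 q3993 L113560 q6691, e3 q3994 (flp_a L94375) q2414, e3 q3995 (flp_a L113580) q6694, e3 q3996 (flp_a L149620) q6640, e3 q3997 (flp_a L142013) q4835, e3 q3998 L94405 q2417, e3 q3999 (flp_a L113206) q6657, e3 q4000 L113628 q6701, e3 q4001 L94435 q2421, e3 q4002 L120130 q4003, e3 q4003 (flp_a L120130) q4002, e3 q4004 (flp_a L94472) q2423, e3 q4005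 (flp_a L119310) q5092, e3 q4006 (flp_a L119795) q5095, e3 q4007 (flp_a L119801) q5117, e3 q4008 (flp_a L113729) q6706, e3 q4009 L94496 q2429, e3 q4010 L113815 q6714, e3 q4011 (flp_a L120165) q3953, e3 q4012 L119975 q4013, e3 q4013 (flp_a L119975) q4012, e3 q4014 L113861 q6719, e3 q4015 L113881 q6722, e3 q4016 (flp_a L94536) q2431, e3 q4017 (flp_a L113893) q6726, e3 q4018 (flp_a L94616) q4032, e3 q4019 L113909 q6730, e3 q4020 L94556 q3364, e3 q4021 L113943 q6733, e3 q4022 (flp_a L94570) q2435, e3 q4023 (flp_a L113959) q6737, e3 q4024 (flp_a L113965) q6738, e3 q4025 L113995 q6742, e3 q4026 L114011 q6744, e3 q4027 L94592 q2438, e3 q4028 L94596 q2439, e3 q4029 (flp_a L114023) q6749, e3 q4030 (flp_a L114027) q6750, e3 q4031 L114057 q6754, trivial⟩ (by decide +kernel)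

theorem ce_a_63 : ∀ r, r < 64 → sm ga (Qf (4032 + r)) = Qf (tab Gen.a (4032 + r)) :=
  edges_tab (sm ga) Qf (tab Gen.a) 4032 [(4032, 4018), (4033, 2440), (4034, 6758), (4035, 6759), (4036, 2442), (4037, 6762), (4038, 5626), (4039, 6766), (4040, 2445), (4041, 2915), (4042, 6770), (4043, 4907), (4044, 6775), (4045, 3962), (4046, 6777), (4047, 2450), (4048, 4049), (4049, 4048), (4050, 2453), (4051, 5093), (4052, 5099), (4053, 6782), (4054, 5121), (4055, 2458), (4056, 6790), (4057, 3984), (4058, 4060), (4059, 6794), (4060, 4058), (4061, 2460), (4062, 6798), (4063, 4078), (4064, 6802), (4065, 6804), (4066, 3388), (4067, 6807), (4068, 2465), (4069, 6811), (4070, 6812), (4071, 6816), (4072, 6818), (4073, 2468), (4074, 2469), (4075, 6823), (4076, 6824), (4077, 6828), (4078, 4063), (4079, 2470), (4080, 6832), (4081, 6833), (4082, 2472), (4083, 6836), (4084, 5659), (4085, 6840), (4086, 2475), (4087, 2903), (4088, 6844), (4089, 4926), (4090, 6849), (4091, 3992), (4092, 6851), (4093, 4093), (4094, 2479), (4095, 6855)]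
    ⟨e3 q4032 L94616 q4018, e3 q4033 (flp_a L94620) q2440, e3 q4034 (flp_a L114079) q6758, e3 q4035 (flp_a L114083) q6759, e3 q4036 L94636 q2442, e3 q4037 (flp_a L114111) q6762, e3 q4038 (flp_a L139116) q5626, e3 q4039 L114145 q6766, e3 q4040 L94670 q2445, e3 q4041 L94676 q2915, e3 q4042 (flp_a L114157) q6770, e3 q4043 (flp_a L100087) q4907, e3 q4044 L114179 q6775, e3 q4045 L140991 q3962, e3 q4046 L114195 q6777, e3 q4047 L94707 q2450, e3 q4048 (flp_a L146403) q4049, e3 q4049 L146403 q4048, e3 q4050 (flp_a L94751) q2453, e3 q4051 (flp_a L146501) q5093, e3 q4052 L148416 q5099, e3 q4053 (flp_a L114292) q6782, e3 q4054 (flp_a L148361) q5121, e3 q4055 L94769 q2458, e3 q4056 L114370 q6790, e3 q4057 L148530 q3984, e3 q4058 (flp_a L148454) q4060, e3 q4059 L114418 q6794, e3 q4060 L148454 q4058, e3 q4061 (flp_a L94813) q2460, e3 q4062 (flp_a L114446) q6798, e3 q4063 (flp_a L94895) q4078, e3 q4064 L114462 q6802, e3 q4065 L114470 q6804, e3 q4066 L94835 q3388, e3 q4067 L114504 q6807, e3 q4068 (flp_a L94849) q2465, e3 q4069 (flp_a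 L114520) q6811, e3 q4070 (flp_a L114526) q6812, e3 q4071 L114556 q6816, e3 q4072 L114572 q6818, e3 q4073 L94871 q2468, e3 q4074 L94875 q2469, e3 q4075 (flp_a L114584) q6823, e3 q4076 (flp_a L114588) q6824, e3 q4077 L114618 q6828, e3 q4078 L94895 q4063, e3 q4079 (flp_a L94899) q2470, e3 q4080 (flp_a L114640) q6832, e3 q4081 (flp_a L114644) q6833, e3 q4082 L94915 q2472, e3 q4083 (flp_a L114672) q6836, e3 q4084 (flp_a L132207) q5659, e3 q4085 L114712 q6840, e3 q4086 L94951 q2475, e3 q4087 L94957 q2903, e3 q4088 (flp_a L114724) q6844, e3 q4089 (flp_a L100511) q4926, e3 q4090 L114752 q6849, e3 q4091 L137026 q3992, e3 q4092 L114812 q6851, e3 q4093 L95039 q4093, e3 q4094 (flp_a L95050) q2479, e3 q4095 (flp_a L114857) q6855, trivial⟩ (by decide +kernel)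

theorem ce_a_64 : ∀ r, r < 64 → sm ga (Qf (4096 + r)) = Qf (tab Gen.a (4096 + r)) :=
  edges_tab (sm ga) Qf (tab Gen.a) 4096 [(4096, 5088), (4097, 6856), (4098, 4098), (4099, 4099), (4100, 3024), (4101, 2482), (4102, 6865), (4103, 6867), (4104, 2484), (4105, 2485), (4106, 4107), (4107, 4106), (4108, 6872), (4109, 4109), (4110, 2487), (4111, 6876), (4112, 6877), (4113, 5090), (4114, 4114), (4115, 4115), (4116, 3025), (4117, 2490), (4118, 6886), (4119, 6888), (4120, 2492), (4121, 2493), (4122, 4123), (4123, 4122), (4124, 2497), (4125, 2498), (4126, 2499), (4127, 6893), (4128, 6896), (4129, 2920), (4130, 6484), (4131, 6517), (4132, 4132), (4133, 4135), (4134, 4134), (4135, 4133), (4136, 6909), (4137, 4139), (4138, 6913), (4139, 4137), (4140, 2502), (4141, 6918), (4142, 4167), (4143, 6922), (4144, 2504), (4145, 6926), (4146, 4173), (4147, 6930), (4148, 2506), (4149, 6934), (4150, 6935), (4151, 6936), (4152, 2518), (4153, 2519), (4154, 6945), (4155, 6948), (4156, 2510), (4157, 6952), (4158, 6953), (4159, 2511)]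
    ⟨e3 q4096 (flp_a L119707) q5088, e3 q4097 (flp_a L114867) q6856, e3 q4098 L95069 q4098, e3 q4099 L95074 q4099, e3 q4100 (flp_a L142684) q3024, e3 q4101 (flp_a L95081) q2482, e3 q4102 (flp_a L114933) q6865, e3 q4103 L114951 q6867, e3 q4104 L95101 q2484, e3 q4105 L95107 q2485, e3 q4106 (flp_a L95119) q4107, e3 q4107 L95119 q4106, e3 q4108 L114985 q6872, e3 q4109 L95133 q4109, e3 q4110 (flp_a L95144) q2487, e3 q4111 (flp_a L115030) q6876, e3 q4112 (flp_a L115034) q6877, e3 q4113 L146731 q5090, e3 q4114 L95163 q4114, e3 q4115 L95168 q4115, e3 q4116 L148235 q3025, e3 q4117 (flp_a L95175) q2490, e3 q4118 (flp_a L115100) q6886, e3 q4119 L115124 q6888, e3 q4120 L95195 q2492, e3 q4121 L95201 q2493, e3 q4122 (flp_a L95213) q4123, e3 q4123 L95213 q4122, e3 q4124 L95221 q2497, e3 q4125 L95231 q2498, e3 q4126 L95239 q2499, e3 q4127 L115186 q6893, e3 q4128 L115200 q6896, e3 q4129 L95255 q2920, e3 q4130 (flp_a L119181) q6484, e3 q4131 (flp_a L148285) q6517, e3 q4132 L97051 q4132, e3 q4133 (flp_a L95294) q4135, e3 q4134 L120688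 q4134, e3 q4135 L95294 q4133, e3 q4136 L115301 q6909, e3 q4137 (flp_a L95324) q4139, e3 q4138 L115321 q6913, e3 q4139 L95324 q4137, e3 q4140 (flp_a L95332) q2502, e3 q4141 (flp_a L115349) q6918, e3 q4142 (flp_a L95455) q4167, e3 q4143 L115373 q6922, e3 q4144 (flp_a L95352) q2504, e3 q4145 (flp_a L115401) q6926, e3 q4146 (flp_a L95490) q4173, e3 q4147 L115423 q6930, e3 q4148 (flp_a L95372) q2506, e3 q4149 (flp_a L115446) q6934, e3 q4150 (flp_a L115452) q6935, e3 q4151 (flp_a L115456) q6936, e3 q4152 L95386 q2518, e3 q4153 L95395 q2519, e3 q4154 L115498 q6945, e3 q4155 L115507 q6948, e3 q4156 (flp_a L95406) q2510, e3 q4157 (flp_a L115521) q6952, e3 q4158 (flp_a L115525) q6953, e3 q4159 (flp_a L95416) q2511, trivial⟩ (by decide +kernel)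

theorem ce_a_65 : ∀ r, r < 64 → sm ga (Qf (4160 + r)) = Qf (tab Gen.a (4160 + r)) :=
  edges_tab (sm ga) Qf (tab Gen.a) 4160 [(4160, 6958), (4161, 6959), (4162, 5775), (4163, 2513), (4164, 2514), (4165, 6966), (4166, 6967), (4167, 4142), (4168, 5778), (4169, 2516), (4170, 2517), (4171, 6977), (4172, 6978), (4173, 4146), (4174, 4174), (4175, 4177), (4176, 4176), (4177, 4175), (4178, 4178), (4179, 4179), (4180, 6992), (4181, 4181), (4182, 4182), (4183, 6997), (4184, 5874), (4185, 2525), (4186, 6253), (4187, 4244), (4188, 7006), (4189, 2527), (4190, 7010), (4191, 7011), (4192, 5883), (4193, 2529), (4194, 6265), (4195, 4265), (4196, 7022), (4197, 2531), (4198, 7026), (4199, 7027), (4200, 5847), (4201, 5875), (4202, 7033), (4203, 2534), (4204, 7037), (4205, 7038), (4206, 4302), (4207, 6972), (4208, 2536), (4209, 7046), (4210, 4216), (4211, 5888), (4212, 2538), (4213, 2539), (4214, 7051), (4215, 7052), (4216, 4210), (4217, 5884), (4218, 5850), (4219, 7061), (4220, 2542), (4221, 7065), (4222, 7066), (4223, 4353)]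
    ⟨e3 q4160 (flp_a L115551) q6958, e3 q4161 (flp_a L115555) q6959, e3 q4162 (flp_a L107318) q5775, e3 q4163 L95432 q2513, e3 q4164 L95438 q2514, e3 q4165 (flp_a L115595) q6966, e3 q4166 (flp_a L115599) q6967, e3 q4167 L95455 q4142, e3 q4168 (flp_a L150301) q5778, e3 q4169 L95467 q2516, e3 q4170 L95473 q2517, e3 q4171 (flp_a L115669) q6977, e3 q4172 (flp_a L115673) q6978, e3 q4173 L95490 q4146, e3 q4174 L103843 q4174, e3 q4175 (flp_a L95517) q4177, e3 q4176 L150845 q4176, e3 q4177 L95517 q4175, e3 q4178 L103836 q4178, e3 q4179 L103845 q4179, e3 q4180 L115766 q6992, e3 q4181 L150821 q4181, e3 q4182 L150840 q4182, e3 q4183 L115802 q6997, e3 q4184 (flp_a L107937) q5874, e3 q4185 L95556 q2525, e3 q4186 (flp_a L115822) q6253, e3 q4187 (flp_a L95858) q4244, e3 q4188 L115852 q7006, e3 q4189 (flp_a L95574) q2527, e3 q4190 (flp_a L115872) q7010, e3 q4191 (flp_a L115876) q7011, e3 q4192 (flp_a L150299) q5883, e3 q4193 L95592 q2529, e3 q4194 (flp_a L148988) q6265, e3 q4195 (flp_a L95959) q4265, e3 q4196 L115934 q7022, e3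 q4197 (flp_a L95610) q2531, e3 q4198 (flp_a L115954) q7026, e3 q4199 (flp_a L115958) q7027, e3 q4200 (flp_a L107739) q5847, e3 q4201 (flp_a L107941) q5875, e3 q4202 L115996 q7033, e3 q4203 L95638 q2534, e3 q4204 (flp_a L116016) q7037, e3 q4205 (flp_a L116024) q7038, e3 q4206 (flp_a L96181) q4302, e3 q4207 (flp_a L120928) q6972, e3 q4208 (flp_a L95662) q2536, e3 q4209 (flp_a L116125) q7046, e3 q4210 (flp_a L95707) q4216, e3 q4211 (flp_a L151205) q5888, e3 q4212 L95684 q2538, e3 q4213 L95690 q2539, e3 q4214 (flp_a L116165) q7051, e3 q4215 (flp_a L116169) q7052, e3 q4216 L95707 q4210, e3 q4217 (flp_a L150291) q5884, e3 q4218 (flp_a L150090) q5850, e3 q4219 L116269 q7061, e3 q4220 L95737 q2542, e3 q4221 (flp_a L116289) q7065, e3 q4222 (flp_a L116297) q7066, e3 q4223 (flp_a L96466) q4353, trivial⟩ (by decide +kernel)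

theorem ce_a_66 : ∀ r, r < 64 → sm ga (Qf (4224 + r)) = Qf (tab Gen.a (4224 + r)) :=
  edges_tab (sm ga) Qf (tab Gen.a) 4224 [(4224, 6983), (4225, 2544), (4226, 7074), (4227, 4233), (4228, 5879), (4229, 2546), (4230, 2547), (4231, 7079), (4232, 7080), (4233, 4227), (4234, 5234), (4235, 5259), (4236, 7003), (4237, 2551), (4238, 2552), (4239, 7095), (4240, 4297), (4241, 7091), (4242, 7093), (4243, 6260), (4244, 4187), (4245, 2553), (4246, 7108), (4247, 4254), (4248, 7112), (4249, 5271), (4250, 2556), (4251, 2557), (4252, 7118), (4253, 7119), (4254, 4247), (4255, 5267), (4256, 5238), (4257, 7019), (4258, 2561), (4259, 2562), (4260, 7135), (4261, 4348), (4262, 7132), (4263, 7133), (4264, 6272), (4265, 4195), (4266, 2563), (4267, 7148), (4268, 4275), (4269, 7152), (4270, 5263), (4271, 2566), (4272, 2567), (4273, 7158), (4274, 7159), (4275, 4268), (4276, 2570), (4277, 2571), (4278, 6329), (4279, 6280), (4280, 6281), (4281, 6282), (4282, 4284), (4283, 7178), (4284, 4282), (4285, 2572), (4286, 5044), (4287, 7182)]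
    ⟨e3 q4224 (flp_a L150715) q6983, e3 q4225 (flp_a L95761) q2544, e3 q4226 (flp_a L116357) q7074, e3 q4227 (flp_a L95806) q4233, e3 q4228 (flp_a L151214) q5879, e3 q4229 L95783 q2546, e3 q4230 L95789 q2547, e3 q4231 (flp_a L116399) q7079, e3 q4232 (flp_a L116403) q7080, e3 q4233 L95806 q4227, e3 q4234 (flp_a L103849) q5234, e3 q4235 (flp_a L103989) q5259, e3 q4236 (flp_a L115842) q7003, e3 q4237 L95830 q2551, e3 q4238 L95834 q2552, e3 q4239 L116493 q7095, e3 q4240 (flp_a L96143) q4297, e3 q4241 (flp_a L116477) q7091, e3 q4242 (flp_a L116485) q7093, e3 q4243 L168067 q6260, e3 q4244 L95858 q4187, e3 q4245 (flp_a L95864) q2553, e3 q4246 (flp_a L116555) q7108, e3 q4247 (flp_a L95907) q4254, e3 q4248 L116573 q7112, e3 q4249 (flp_a L156816) q5271, e3 q4250 L95888 q2556, e3 q4251 L95892 q2557, e3 q4252 (flp_a L116603) q7118, e3 q4253 (flp_a L116607) q7119, e3 q4254 L95907 q4247, e3 q4255 (flp_a L104039) q5267, e3 q4256 (flp_a L103873) q5238, e3 q4257 (flp_a L149737) q7019, e3 q4258 L95931 q2561, e3 q4259 L95935 q2562,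 e3 q4260 L116693 q7135, e3 q4261 (flp_a L96428) q4348, e3 q4262 (flp_a L149701) q7132, e3 q4263 (flp_a L116685) q7133, e3 q4264 (flp_a L156854) q6272, e3 q4265 L95959 q4195, e3 q4266 (flp_a L95965) q2563, e3 q4267 (flp_a L116755) q7148, e3 q4268 (flp_a L96022) q4275, e3 q4269 L116779 q7152, e3 q4270 (flp_a L156832) q5263, e3 q4271 L95997 q2566, e3 q4272 L96003 q2567, e3 q4273 (flp_a L116821) q7158, e3 q4274 (flp_a L116825) q7159, e3 q4275 L96022 q4268, e3 q4276 L96032 q2570, e3 q4277 L96038 q2571, e3 q4278 (flp_a L111073) q6329, e3 q4279 (flp_a L110775) q6280, e3 q4280 (flp_a L110783) q6281, e3 q4281 (flp_a L110791) q6282, e3 q4282 (flp_a L96076) q4284, e3 q4283 L116965 q7178, e3 q4284 L96076 q4282, e3 q4285 (flp_a L96082) q2572, e3 q4286 L116897 q5044, e3 q4287 (flp_a L116995) q7182, trivial⟩ (by decide +kernel)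

theorem ce_a_67 : ∀ r, r < 64 → sm ga (Qf (4288 + r)) = Qf (tab Gen.a (4288 + r)) :=
  edges_tab (sm ga) Qf (tab Gen.a) 4288 [(4288, 7183), (4289, 2576), (4290, 2577), (4291, 2578), (4292, 7195), (4293, 2575), (4294, 7199), (4295, 7200), (4296, 7203), (4297, 4240), (4298, 7191), (4299, 7192), (4300, 7193), (4301, 7215), (4302, 4206), (4303, 2579), (4304, 4383), (4305, 7220), (4306, 7223), (4307, 2582), (4308, 7228), (4309, 4325), (4310, 7233), (4311, 2584), (4312, 7236), (4313, 7237), (4314, 2585), (4315, 7241), (4316, 7242), (4317, 7243), (4318, 7250), (4319, 2588), (4320, 2589), (4321, 6932), (4322, 7254), (4323, 7255), (4324, 7256), (4325, 4309), (4326, 7266), (4327, 2593), (4328, 2594), (4329, 6349), (4330, 6307), (4331, 6308), (4332, 6309), (4333, 7279), (4334, 4335), (4335, 4334), (4336, 2595), (4337, 5048), (4338, 7283), (4339, 7284), (4340, 2599), (4341, 2600), (4342, 2601), (4343, 7296), (4344, 2598), (4345, 7300), (4346, 7181), (4347, 7303), (4348, 4261), (4349, 7292), (4350, 7293), (4351, 7294)]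
    ⟨e3 q4288 (flp_a L117001) q7183, e3 q4289 L96101 q2576, e3 q4290 L96107 q2577, e3 q4291 L96113 q2578, e3 q4292 L117077 q7195, e3 q4293 (flp_a L96123) q2575, e3 q4294 (flp_a L117101) q7199, e3 q4295 (flp_a L117107) q7200, e3 q4296 L117123 q7203, e3 q4297 L96143 q4240, e3 q4298 (flp_a L117045) q7191, e3 q4299 (flp_a L117055) q7192, e3 q4300 (flp_a L117065) q7193, e3 q4301 L117207 q7215, e3 q4302 L96181 q4206, e3 q4303 (flp_a L96187) q2579, e3 q4304 (flp_a L96625) q4383, e3 q4305 L117231 q7220, e3 q4306 L117247 q7223, e3 q4307 L96207 q2582, e3 q4308 (flp_a L117277) q7228, e3 q4309 (flp_a L96295) q4325, e3 q4310 L117299 q7233, e3 q4311 (flp_a L96229) q2584, e3 q4312 (flp_a L117321) q7236, e3 q4313 (flp_a L117327) q7237, e3 q4314 (flp_a L96243) q2585, e3 q4315 (flp_a L117353) q7241, e3 q4316 (flp_a L117359) q7242, e3 q4317 (flp_a L117365) q7243, e3 q4318 L117411 q7250, e3 q4319 L96265 q2588, e3 q4320 L96269 q2589, e3 q4321 (flp_a L115435) q6932, e3 q4322 (flp_a L117429) q7254, e3 q4323 (flp_a L117435) q7255, e3 q4324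 (flp_a L117441) q7256, e3 q4325 L96295 q4309, e3 q4326 L117491 q7266, e3 q4327 L96317 q2593, e3 q4328 L96323 q2594, e3 q4329 (flp_a L111189) q6349, e3 q4330 (flp_a L110943) q6307, e3 q4331 (flp_a L110951) q6308, e3 q4332 (flp_a L110959) q6309, e3 q4333 L117595 q7279, e3 q4334 (flp_a L96361) q4335, e3 q4335 L96361 q4334, e3 q4336 (flp_a L96367) q2595, e3 q4337 L117535 q5048, e3 q4338 (flp_a L117629) q7283, e3 q4339 (flp_a L117635) q7284, e3 q4340 L96386 q2599, e3 q4341 L96392 q2600, e3 q4342 L96398 q2601, e3 q4343 L117707 q7296, e3 q4344 (flp_a L96408) q2598, e3 q4345 (flp_a L117733) q7300, e3 q4346 (flp_a L116989) q7181, e3 q4347 L117745 q7303, e3 q4348 L96428 q4261, e3 q4349 (flp_a L117679) q7292, e3 q4350 (flp_a L117685) q7293, e3 q4351 (flp_a L117695) q7294, trivial⟩ (by decide +kernel)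

theorem ce_a_68 : ∀ r, r < 64 → sm ga (Qf (4352 + r)) = Qf (tab Gen.a (4352 + r)) :=
  edges_tab (sm ga) Qf (tab Gen.a) 4352 [(4352, 7315), (4353, 4223), (4354, 2602), (4355, 4399), (4356, 7320), (4357, 7323), (4358, 2605), (4359, 7328), (4360, 4376), (4361, 7333), (4362, 2607), (4363, 7336), (4364, 7337), (4365, 2608), (4366, 7341), (4367, 7342), (4368, 7343), (4369, 7350), (4370, 2611), (4371, 2612), (4372, 6924), (4373, 7354), (4374, 7355), (4375, 7356), (4376, 4360), (4377, 7366), (4378, 2614), (4379, 7370), (4380, 7371), (4381, 7374), (4382, 2617), (4383, 4304), (4384, 2619), (4385, 7380), (4386, 7379), (4387, 2620), (4388, 7387), (4389, 7388), (4390, 7389), (4391, 2623), (4392, 7396), (4393, 3753), (4394, 2624), (4395, 7401), (4396, 7402), (4397, 7405), (4398, 2627), (4399, 4355), (4400, 2629), (4401, 7411), (4402, 7410), (4403, 2630), (4404, 7418), (4405, 7419), (4406, 7420), (4407, 2633), (4408, 7427), (4409, 3763), (4410, 4410), (4411, 2635), (4412, 7432), (4413, 4413), (4414, 2637), (4415, 7436)]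
    ⟨e3 q4352 L117817 q7315, e3 q4353 L96466 q4223, e3 q4354 (flp_a L96472) q2602, e3 q4355 (flp_a L96724) q4399, e3 q4356 L117841 q7320, e3 q4357 L117857 q7323, e3 q4358 L96492 q2605, e3 q4359 (flp_a L117887) q7328, e3 q4360 (flp_a L96582) q4376, e3 q4361 L117909 q7333, e3 q4362 (flp_a L96514) q2607, e3 q4363 (flp_a L117931) q7336, e3 q4364 (flp_a L117939) q7337, e3 q4365 (flp_a L96528) q2608, e3 q4366 (flp_a L117967) q7341, e3 q4367 (flp_a L117973) q7342, e3 q4368 (flp_a L117983) q7343, e3 q4369 L118025 q7350, e3 q4370 L96552 q2611, e3 q4371 L96556 q2612, e3 q4372 (flp_a L115385) q6924, e3 q4373 (flp_a L118043) q7354, e3 q4374 (flp_a L118049) q7355, e3 q4375 (flp_a L118055) q7356, e3 q4376 L96582 q4360, e3 q4377 L118105 q7366, e3 q4378 (flp_a L96596) q2614, e3 q4379 (flp_a L118131) q7370, e3 q4380 (flp_a L118137) q7371, e3 q4381 L118212 q7374, e3 q4382 L96617 q2617, e3 q4383 L96625 q4304, e3 q4384 L96633 q2619, e3 q4385 L118242 q7380, e3 q4386 (flp_a L118236) q7379, e3 q4387 (flp_a L96651) q2620, e3 q4388 (flp_a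 L118282) q7387, e3 q4389 (flp_a L118286) q7388, e3 q4390 (flp_a L118292) q7389, e3 q4391 L96671 q2623, e3 q4392 L118330 q7396, e3 q4393 L96685 q3753, e3 q4394 (flp_a L96695) q2624, e3 q4395 (flp_a L118358) q7401, e3 q4396 (flp_a L118364) q7402, e3 q4397 L118385 q7405, e3 q4398 L96716 q2627, e3 q4399 L96724 q4355, e3 q4400 L96732 q2629, e3 q4401 L118431 q7411, e3 q4402 (flp_a L118425) q7410, e3 q4403 (flp_a L96750) q2630, e3 q4404 (flp_a L118471) q7418, e3 q4405 (flp_a L118475) q7419, e3 q4406 (flp_a L118481) q7420, e3 q4407 L96770 q2633, e3 q4408 L118519 q7427, e3 q4409 L96784 q3763, e3 q4410 L96798 q4410, e3 q4411 L96801 q2635, e3 q4412 (flp_a L118548) q7432, e3 q4413 L96827 q4413, e3 q4414 L96830 q2637, e3 q4415 (flp_a L118595) q7436, trivial⟩ (by decide +kernel)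

theorem ce_a_69 : ∀ r, r < 64 → sm ga (Qf (4416 + r)) = Qf (tab Gen.a (4416 + r)) :=
  edges_tab (sm ga) Qf (tab Gen.a) 4416 [(4416, 2645), (4417, 2646), (4418, 2647), (4419, 2648), (4420, 4593), (4421, 4693), (4422, 2643), (4423, 7446), (4424, 6512), (4425, 2644), (4426, 7449), (4427, 6478), (4428, 4428), (4429, 3439), (4430, 7439), (4431, 7440), (4432, 7441), (4433, 4578), (4434, 4679), (4435, 4435), (4436, 4438), (4437, 4437), (4438, 4436), (4439, 4439), (4440, 4440), (4441, 7472), (4442, 4442), (4443, 4443), (4444, 7477), (4445, 3795), (4446, 2654), (4447, 7480), (4448, 4472), (4449, 6455), (4450, 2656), (4451, 7484), (4452, 2807), (4453, 3815), (4454, 2658), (4455, 7489), (4456, 4484), (4457, 6424), (4458, 2660), (4459, 7493), (4460, 2756), (4461, 2661), (4462, 5772), (4463, 3787), (4464, 6502), (4465, 7499), (4466, 2664), (4467, 2665), (4468, 4736), (4469, 7502), (4470, 7503), (4471, 2682), (4472, 4448), (4473, 2667), (4474, 5773), (4475, 6467), (4476, 3790), (4477, 7513), (4478, 2670), (4479, 2671)]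
    ⟨e3 q4416 L96908 q2645, e3 q4417 L96914 q2646, e3 q4418 L96922 q2647, e3 q4419 L96928 q2648, e3 q4420 (flp_a L120349) q4593, e3 q4421 (flp_a L147673) q4693, e3 q4422 (flp_a L96936) q2643, e3 q4423 (flp_a L118762) q7446, e3 q4424 (flp_a L112176) q6512, e3 q4425 (flp_a L96942) q2644, e3 q4426 (flp_a L118774) q7449, e3 q4427 (flp_a L111938) q6478, e3 q4428 L118798 q4428, e3 q4429 L96953 q3439, e3 q4430 (flp_a L118689) q7439, e3 q4431 (flp_a L118699) q7440, e3 q4432 (flp_a L118707) q7441, e3 q4433 (flp_a L119205) q4578, e3 q4434 L147683 q4679, e3 q4435 L97050 q4435, e3 q4436 (flp_a L96997) q4438, e3 q4437 L120690 q4437, e3 q4438 L96997 q4436, e3 q4439 L97045 q4439, e3 q4440 L97052 q4440, e3 q4441 L120633 q7472, e3 q4442 L120692 q4442, e3 q4443 L120669 q4443, e3 q4444 L120710 q7477, e3 q4445 (flp_a L97031) q3795, e3 q4446 L97039 q2654, e3 q4447 (flp_a L120730) q7480, e3 q4448 (flp_a L97152) q4472, e3 q4449 (flp_a L111813) q6455, e3 q4450 (flp_a L97068) q2656, e3 q4451 (flp_a L120758) q7484, e3 q4452 (flp_a L98487)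 q2807, e3 q4453 (flp_a L97901) q3815, e3 q4454 L97080 q2658, e3 q4455 (flp_a L120788) q7489, e3 q4456 (flp_a L97200) q4484, e3 q4457 (flp_a L111667) q6424, e3 q4458 (flp_a L97096) q2660, e3 q4459 (flp_a L120812) q7493, e3 q4460 L97967 q2756, e3 q4461 (flp_a L97104) q2661, e3 q4462 L107298 q5772, e3 q4463 L97114 q3787, e3 q4464 L112078 q6502, e3 q4465 L120846 q7499, e3 q4466 L97128 q2664, e3 q4467 L97132 q2665, e3 q4468 (flp_a L98529) q4736, e3 q4469 (flp_a L120864) q7502, e3 q4470 (flp_a L120868) q7503, e3 q4471 L120922 q2682, e3 q4472 L97152 q4448, e3 q4473 (flp_a L97160) q2667, e3 q4474 (flp_a L150263) q5773, e3 q4475 L111871 q6467, e3 q4476 L97905 q3790, e3 q4477 L120965 q7513, e3 q4478 L97174 q2670, e3 q4479 L97178 q2671, trivial⟩ (by decide +kernel)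

theorem ce_a_70 : ∀ r, r < 64 → sm ga (Qf (4480 + r)) = Qf (tab Gen.a (4480 + r)) :=
  edges_tab (sm ga) Qf (tab Gen.a) 4480 [(4480, 4637), (4481, 7516), (4482, 7517), (4483, 2701), (4484, 4456), (4485, 2676), (4486, 7525), (4487, 5868), (4488, 4489), (4489, 4488), (4490, 2677), (4491, 7529), (4492, 7530), (4493, 7531), (4494, 2679), (4495, 2680), (4496, 4496), (4497, 3799), (4498, 7538), (4499, 4596), (4500, 4598), (4501, 7507), (4502, 4552), (4503, 7509), (4504, 6401), (4505, 2684), (4506, 7549), (4507, 4518), (4508, 2686), (4509, 5871), (4510, 3859), (4511, 7555), (4512, 2689), (4513, 2690), (4514, 7559), (4515, 7560), (4516, 7561), (4517, 4537), (4518, 4507), (4519, 3856), (4520, 2694), (4521, 7570), (4522, 5870), (4523, 4524), (4524, 4523), (4525, 2696), (4526, 7574), (4527, 7575), (4528, 7576), (4529, 2698), (4530, 2699), (4531, 4531), (4532, 3818), (4533, 7583), (4534, 4696), (4535, 4698), (4536, 7521), (4537, 4517), (4538, 7523), (4539, 6399), (4540, 2703), (4541, 7594), (4542, 4553), (4543, 2705)]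
    ⟨e3 q4480 (flp_a L97979) q4637, e3 q4481 (flp_a L120983) q7516, e3 q4482 (flp_a L120987) q7517, e3 q4483 (flp_a L150729) q2701, e3 q4484 L97200 q4456, e3 q4485 L97210 q2676, e3 q4486 L121040 q7525, e3 q4487 (flp_a L107875) q5868, e3 q4488 (flp_a L97230) q4489, e3 q4489 L97230 q4488, e3 q4490 (flp_a L97236) q2677, e3 q4491 (flp_a L121068) q7529, e3 q4492 (flp_a L121080) q7530, e3 q4493 (flp_a L121089) q7531, e3 q4494 L97250 q2679, e3 q4495 L97258 q2680, e3 q4496 L120354 q4496, e3 q4497 L97268 q3799, e3 q4498 (flp_a L121137) q7538, e3 q4499 (flp_a L97751) q4596, e3 q4500 (flp_a L97765) q4598, e3 q4501 L120935 q7507, e3 q4502 L120933 q4552, e3 q4503 L120931 q7509, e3 q4504 (flp_a L111507) q6401, e3 q4505 L97307 q2684, e3 q4506 (flp_a L121198) q7549, e3 q4507 (flp_a L97361) q4518, e3 q4508 (flp_a L97319) q2686, e3 q4509 (flp_a L150966) q5871, e3 q4510 L97327 q3859, e3 q4511 L121230 q7555, e3 q4512 L97335 q2689, e3 q4513 L97339 q2690, e3 q4514 (flp_a L121246) q7559, e3 q4515 (flp_a L121252) q7560, e3 q4516 (flp_a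 L121256) q7561, e3 q4517 (flp_a L150725) q4537, e3 q4518 L97361 q4507, e3 q4519 (flp_a L97885) q3856, e3 q4520 L97377 q2694, e3 q4521 L121333 q7570, e3 q4522 L150351 q5870, e3 q4523 (flp_a L97403) q4524, e3 q4524 L97403 q4523, e3 q4525 (flp_a L97407) q2696, e3 q4526 (flp_a L121386) q7574, e3 q4527 (flp_a L121390) q7575, e3 q4528 (flp_a L121394) q7576, e3 q4529 L97421 q2698, e3 q4530 L97429 q2699, e3 q4531 L149200 q4531, e3 q4532 L97439 q3818, e3 q4533 (flp_a L121428) q7583, e3 q4534 (flp_a L98321) q4696, e3 q4535 (flp_a L98335) q4698, e3 q4536 (flp_a L150718) q7521, e3 q4537 L150725 q4517, e3 q4538 (flp_a L150709) q7523, e3 q4539 (flp_a L111481) q6399, e3 q4540 L97478 q2703, e3 q4541 (flp_a L121527) q7594, e3 q4542 (flp_a L97534) q4553, e3 q4543 (flp_a L97490) q2705, trivial⟩ (by decide +kernel)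

theorem ce_a_71 : ∀ r, r < 64 → sm ga (Qf (4544 + r)) = Qf (tab Gen.a (4544 + r)) :=
  edges_tab (sm ga) Qf (tab Gen.a) 4544 [(4544, 5869), (4545, 3834), (4546, 7600), (4547, 2708), (4548, 2709), (4549, 7604), (4550, 7605), (4551, 7606), (4552, 4502), (4553, 4542), (4554, 3882), (4555, 3777), (4556, 6404), (4557, 6535), (4558, 6470), (4559, 6471), (4560, 4562), (4561, 7623), (4562, 4560), (4563, 3814), (4564, 2718), (4565, 7628), (4566, 3825), (4567, 2781), (4568, 2721), (4569, 2722), (4570, 2723), (4571, 7632), (4572, 7633), (4573, 7634), (4574, 7635), (4575, 4577), (4576, 7648), (4577, 4575), (4578, 4433), (4579, 2732), (4580, 2733), (4581, 2734), (4582, 7652), (4583, 2727), (4584, 7655), (4585, 7656), (4586, 6392), (4587, 2729), (4588, 2730), (4589, 7662), (4590, 7663), (4591, 3846), (4592, 3847), (4593, 4420), (4594, 7650), (4595, 7674), (4596, 4499), (4597, 7678), (4598, 4500), (4599, 2735), (4600, 4601), (4601, 4600), (4602, 7684), (4603, 7687), (4604, 2738), (4605, 7692), (4606, 4768), (4607, 7696)]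
    ⟨e3 q4544 (flp_a L151222) q5869, e3 q4545 L97500 q3834, e3 q4546 L121565 q7600, e3 q4547 L97508 q2708, e3 q4548 L97512 q2709, e3 q4549 (flp_a L121577) q7604, e3 q4550 (flp_a L121583) q7605, e3 q4551 (flp_a L121587) q7606, e3 q4552 (flp_a L120933) q4502, e3 q4553 L97534 q4542, e3 q4554 L98073 q3882, e3 q4555 L97550 q3777, e3 q4556 (flp_a L111527) q6404, e3 q4557 (flp_a L112316) q6535, e3 q4558 (flp_a L111889) q6470, e3 q4559 (flp_a L111903) q6471, e3 q4560 (flp_a L97591) q4562, e3 q4561 L121699 q7623, e3 q4562 L97591 q4560, e3 q4563 (flp_a L97917) q3814, e3 q4564 (flp_a L97599) q2718, e3 q4565 (flp_a L121717) q7628, e3 q4566 L97613 q3825, e3 q4567 L98079 q2781, e3 q4568 L97621 q2721, e3 q4569 L97626 q2722, e3 q4570 L97630 q2723, e3 q4571 (flp_a L121741) q7632, e3 q4572 (flp_a L121751) q7633, e3 q4573 (flp_a L121758) q7634, e3 q4574 (flp_a L121764) q7635, e3 q4575 (flp_a L97656) q4577, e3 q4576 L121837 q7648, e3 q4577 L97656 q4575, e3 q4578 L119205 q4433, e3 q4579 L97666 q2732, e3 q4580 L97672 q2733, e3 q4581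 L97682 q2734, e3 q4582 L121865 q7652, e3 q4583 (flp_a L97692) q2727, e3 q4584 (flp_a L121881) q7655, e3 q4585 (flp_a L121885) q7656, e3 q4586 (flp_a L111447) q6392, e3 q4587 L97706 q2729, e3 q4588 L97710 q2730, e3 q4589 (flp_a L121915) q7662, e3 q4590 (flp_a L121919) q7663, e3 q4591 L97724 q3846, e3 q4592 L97731 q3847, e3 q4593 L120349 q4420, e3 q4594 (flp_a L121847) q7650, e3 q4595 L121982 q7674, e3 q4596 L97751 q4499, e3 q4597 L121996 q7678, e3 q4598 L97765 q4500, e3 q4599 (flp_a L97771) q2735, e3 q4600 L118177 q4601, e3 q4601 (flp_a L118177) q4600, e3 q4602 L122058 q7684, e3 q4603 L122070 q7687, e3 q4604 L97793 q2738, e3 q4605 (flp_a L122084) q7692, e3 q4606 (flp_a L98697) q4768, e3 q4607 L122106 q7696, trivial⟩ (by decide +kernel)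

theorem ce_a_72 : ∀ r, r < 64 → sm ga (Qf (4608 + r)) = Qf (tab Gen.a (4608 + r)) :=
  edges_tab (sm ga) Qf (tab Gen.a) 4608 [(4608, 2740), (4609, 7698), (4610, 7699), (4611, 2741), (4612, 7703), (4613, 3784), (4614, 7592), (4615, 7708), (4616, 2743), (4617, 7712), (4618, 7713), (4619, 4652), (4620, 7720), (4621, 2745), (4622, 7723), (4623, 4628), (4624, 2747), (4625, 2748), (4626, 7726), (4627, 7727), (4628, 4623), (4629, 2750), (4630, 2751), (4631, 2752), (4632, 7736), (4633, 7505), (4634, 7734), (4635, 7735), (4636, 7496), (4637, 4480), (4638, 2753), (4639, 7746), (4640, 7747), (4641, 7748), (4642, 2757), (4643, 2758), (4644, 2759), (4645, 5173), (4646, 7495), (4647, 7763), (4648, 2808), (4649, 7757), (4650, 7758), (4651, 7759), (4652, 4619), (4653, 7775), (4654, 2761), (4655, 7778), (4656, 6534), (4657, 6403), (4658, 3778), (4659, 6574), (4660, 6504), (4661, 6505), (4662, 7788), (4663, 4664), (4664, 4663), (4665, 2768), (4666, 7793), (4667, 3806), (4668, 3796), (4669, 2772), (4670, 2773), (4671, 2774)]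
    ⟨e3 q4608 (flp_a L97811) q2740, e3 q4609 (flp_a L122116) q7698, e3 q4610 (flp_a L122120) q7699, e3 q4611 (flp_a L97821) q2741, e3 q4612 (flp_a L122142) q7703, e3 q4613 L98485 q3784, e3 q4614 (flp_a L121515) q7592, e3 q4615 L122164 q7708, e3 q4616 L97835 q2743, e3 q4617 (flp_a L122178) q7712, e3 q4618 (flp_a L122186) q7713, e3 q4619 (flp_a L98045) q4652, e3 q4620 L122218 q7720, e3 q4621 (flp_a L97853) q2745, e3 q4622 (flp_a L122228) q7723, e3 q4623 (flp_a L97929) q4628, e3 q4624 L97867 q2747, e3 q4625 L97871 q2748, e3 q4626 (flp_a L122244) q7726, e3 q4627 (flp_a L122248) q7727, e3 q4628 L97929 q4623, e3 q4629 L97935 q2750, e3 q4630 L97939 q2751, e3 q4631 L97943 q2752, e3 q4632 L122294 q7736, e3 q4633 (flp_a L163941) q7505, e3 q4634 (flp_a L122282) q7734, e3 q4635 (flp_a L122288) q7735, e3 q4636 (flp_a L120826) q7496, e3 q4637 L97979 q4480, e3 q4638 (flp_a L97989) q2753, e3 q4639 (flp_a L122346) q7746, e3 q4640 (flp_a L122350) q7747, e3 q4641 (flp_a L122354) q7748, e3 q4642 L98001 q2757, e3 q4643 L98007 q2758,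 e3 q4644 L98011 q2759, e3 q4645 L120593 q5173, e3 q4646 (flp_a L120820) q7495, e3 q4647 L122422 q7763, e3 q4648 L98027 q2808, e3 q4649 (flp_a L122390) q7757, e3 q4650 (flp_a L122396) q7758, e3 q4651 (flp_a L122406) q7759, e3 q4652 L98045 q4619, e3 q4653 L122488 q7775, e3 q4654 (flp_a L98053) q2761, e3 q4655 (flp_a L122500) q7778, e3 q4656 (flp_a L112294) q6534, e3 q4657 (flp_a L111513) q6403, e3 q4658 L98111 q3778, e3 q4659 (flp_a L112554) q6574, e3 q4660 (flp_a L112088) q6504, e3 q4661 (flp_a L112095) q6505, e3 q4662 L122601 q7788, e3 q4663 (flp_a L98157) q4664, e3 q4664 L98157 q4663, e3 q4665 (flp_a L98163) q2768, e3 q4666 (flp_a L122619) q7793, e3 q4667 L98177 q3806, e3 q4668 L98191 q3796, e3 q4669 L98195 q2772, e3 q4670 L98200 q2773, e3 q4671 L98204 q2774, trivial⟩ (by decide +kernel)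

theorem ce_a_73 : ∀ r, r < 64 → sm ga (Qf (4672 + r)) = Qf (tab Gen.a (4672 + r)) :=
  edges_tab (sm ga) Qf (tab Gen.a) 4672 [(4672, 7797), (4673, 7798), (4674, 7799), (4675, 7800), (4676, 7812), (4677, 4678), (4678, 4677), (4679, 4434), (4680, 2783), (4681, 2784), (4682, 2785), (4683, 7817), (4684, 2778), (4685, 7820), (4686, 7821), (4687, 6390), (4688, 2780), (4689, 7827), (4690, 7631), (4691, 3872), (4692, 3873), (4693, 4421), (4694, 7815), (4695, 7838), (4696, 4534), (4697, 7842), (4698, 4535), (4699, 2786), (4700, 4701), (4701, 4700), (4702, 7848), (4703, 7851), (4704, 2789), (4705, 7856), (4706, 4806), (4707, 7860), (4708, 2791), (4709, 7862), (4710, 7863), (4711, 2792), (4712, 7867), (4713, 7547), (4714, 3786), (4715, 7872), (4716, 2794), (4717, 7769), (4718, 7876), (4719, 4750), (4720, 7882), (4721, 2796), (4722, 7885), (4723, 4728), (4724, 2798), (4725, 2799), (4726, 7888), (4727, 7889), (4728, 4723), (4729, 2801), (4730, 2802), (4731, 2803), (4732, 7897), (4733, 7519), (4734, 7896), (4735, 7741)]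
    ⟨e3 q4672 (flp_a L122645) q7797, e3 q4673 (flp_a L122655) q7798, e3 q4674 (flp_a L122662) q7799, e3 q4675 (flp_a L122668) q7800, e3 q4676 L122732 q7812, e3 q4677 (flp_a L98230) q4678, e3 q4678 L98230 q4677, e3 q4679 (flp_a L147683) q4434, e3 q4680 L98240 q2783, e3 q4681 L98246 q2784, e3 q4682 L98256 q2785, e3 q4683 L122786 q7817, e3 q4684 (flp_a L98266) q2778, e3 q4685 (flp_a L122802) q7820, e3 q4686 (flp_a L122806) q7821, e3 q4687 (flp_a L111435) q6390, e3 q4688 L98284 q2780, e3 q4689 (flp_a L122842) q7827, e3 q4690 (flp_a L121735) q7631, e3 q4691 L98294 q3872, e3 q4692 L98301 q3873, e3 q4693 L147673 q4421, e3 q4694 (flp_a L122770) q7815, e3 q4695 L122897 q7838, e3 q4696 L98321 q4534, e3 q4697 L122909 q7842, e3 q4698 L98335 q4535, e3 q4699 (flp_a L98341) q2786, e3 q4700 L149435 q4701, e3 q4701 (flp_a L149435) q4700, e3 q4702 L122953 q7848, e3 q4703 L122965 q7851, e3 q4704 L98363 q2789, e3 q4705 (flp_a L122979) q7856, e3 q4706 (flp_a L98878) q4806, e3 q4707 L123001 q7860, e3 q4708 (flp_a L98381) q2791, e3 q4709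 (flp_a L123015) q7862, e3 q4710 (flp_a L123019) q7863, e3 q4711 (flp_a L98391) q2792, e3 q4712 (flp_a L123045) q7867, e3 q4713 (flp_a L121186) q7547, e3 q4714 L98407 q3786, e3 q4715 L123067 q7872, e3 q4716 L98415 q2794, e3 q4717 (flp_a L122452) q7769, e3 q4718 (flp_a L123081) q7876, e3 q4719 (flp_a L98589) q4750, e3 q4720 L123109 q7882, e3 q4721 (flp_a L98433) q2796, e3 q4722 (flp_a L123119) q7885, e3 q4723 (flp_a L98473) q4728, e3 q4724 L98451 q2798, e3 q4725 L98457 q2799, e3 q4726 (flp_a L123135) q7888, e3 q4727 (flp_a L123141) q7889, e3 q4728 L98473 q4723, e3 q4729 L98495 q2801, e3 q4730 L98499 q2802, e3 q4731 L98509 q2803, e3 q4732 L123189 q7897, e3 q4733 (flp_a L163947) q7519, e3 q4734 (flp_a L123177) q7896, e3 q4735 (flp_a L163925) q7741, trivial⟩ (by decide +kernel)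

theorem ce_a_74 : ∀ r, r < 64 → sm ga (Qf (4736 + r)) = Qf (tab Gen.a (4736 + r)) :=
  edges_tab (sm ga) Qf (tab Gen.a) 4736 [(4736, 4468), (4737, 7487), (4738, 2804), (4739, 7906), (4740, 7907), (4741, 7908), (4742, 2809), (4743, 2810), (4744, 5154), (4745, 7486), (4746, 7920), (4747, 7768), (4748, 7715), (4749, 7916), (4750, 4719), (4751, 7929), (4752, 2812), (4753, 7932), (4754, 6501), (4755, 2813), (4756, 7936), (4757, 7937), (4758, 2815), (4759, 2816), (4760, 3462), (4761, 7939), (4762, 3589), (4763, 2819), (4764, 2820), (4765, 4767), (4766, 7944), (4767, 4765), (4768, 4606), (4769, 7949), (4770, 7895), (4771, 2825), (4772, 2824), (4773, 7956), (4774, 7957), (4775, 7958), (4776, 4837), (4777, 7955), (4778, 7745), (4779, 2827), (4780, 2828), (4781, 2829), (4782, 7970), (4783, 7971), (4784, 7972), (4785, 7973), (4786, 4787), (4787, 4786), (4788, 2831), (4789, 7985), (4790, 7986), (4791, 7987), (4792, 4860), (4793, 2833), (4794, 7994), (4795, 7995), (4796, 2835), (4797, 2836), (4798, 3465), (4799, 7997)]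
    ⟨e3 q4736 L98529 q4468, e3 q4737 (flp_a L120772) q7487, e3 q4738 (flp_a L98545) q2804, e3 q4739 (flp_a L123241) q7906, e3 q4740 (flp_a L123245) q7907, e3 q4741 (flp_a L123249) q7908, e3 q4742 L98557 q2809, e3 q4743 L98561 q2810, e3 q4744 L151346 q5154, e3 q4745 (flp_a L120766) q7486, e3 q4746 L123303 q7920, e3 q4747 (flp_a L122446) q7768, e3 q4748 (flp_a L122194) q7715, e3 q4749 (flp_a L123281) q7916, e3 q4750 L98589 q4719, e3 q4751 L123353 q7929, e3 q4752 (flp_a L98597) q2812, e3 q4753 (flp_a L123365) q7932, e3 q4754 (flp_a L112064) q6501, e3 q4755 (flp_a L98617) q2813, e3 q4756 (flp_a L123385) q7936, e3 q4757 L123393 q7937, e3 q4758 L98637 q2815, e3 q4759 (flp_a L98662) q2816, e3 q4760 L120412 q3462, e3 q4761 (flp_a L123404) q7939, e3 q4762 L119837 q3589, e3 q4763 L98673 q2819, e3 q4764 L98677 q2820, e3 q4765 (flp_a L118198) q4767, e3 q4766 (flp_a L123442) q7944, e3 q4767 L118198 q4765, e3 q4768 L98697 q4606, e3 q4769 L123474 q7949, e3 q4770 (flp_a L123971) q7895, e3 q4771 L98710 q2825, e3 q4772 (flp_a L98716)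 q2824, e3 q4773 (flp_a L123510) q7956, e3 q4774 (flp_a L123514) q7957, e3 q4775 (flp_a L123520) q7958, e3 q4776 (flp_a L99039) q4837, e3 q4777 (flp_a L123500) q7955, e3 q4778 (flp_a L122342) q7745, e3 q4779 L98746 q2827, e3 q4780 L98750 q2828, e3 q4781 L98754 q2829, e3 q4782 (flp_a L123574) q7970, e3 q4783 (flp_a L123578) q7971, e3 q4784 (flp_a L123582) q7972, e3 q4785 (flp_a L123588) q7973, e3 q4786 (flp_a L98778) q4787, e3 q4787 L98778 q4786, e3 q4788 (flp_a L98782) q2831, e3 q4789 (flp_a L123644) q7985, e3 q4790 (flp_a L123648) q7986, e3 q4791 (flp_a L123652) q7987, e3 q4792 (flp_a L99213) q4860, e3 q4793 (flp_a L98794) q2833, e3 q4794 (flp_a L123682) q7994, e3 q4795 L123711 q7995, e3 q4796 L98814 q2835, e3 q4797 (flp_a L98839) q2836, e3 q4798 L112149 q3465, e3 q4799 (flp_a L123772) q7997, trivial⟩ (by decide +kernel)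

theorem ce_a_75 : ∀ r, r < 64 → sm ga (Qf (4800 + r)) = Qf (tab Gen.a (4800 + r)) :=
  edges_tab (sm ga) Qf (tab Gen.a) 4800 [(4800, 3611), (4801, 2839), (4802, 2840), (4803, 4805), (4804, 8002), (4805, 4803), (4806, 4706), (4807, 8007), (4808, 7733), (4809, 2845), (4810, 2844), (4811, 8014), (4812, 8015), (4813, 8016), (4814, 4866), (4815, 8013), (4816, 7905), (4817, 2847), (4818, 2848), (4819, 2849), (4820, 8028), (4821, 8029), (4822, 8030), (4823, 8031), (4824, 4825), (4825, 4824), (4826, 2851), (4827, 8043), (4828, 8044), (4829, 8045), (4830, 4885), (4831, 2853), (4832, 3013), (4833, 4862), (4834, 2857), (4835, 3997), (4836, 7864), (4837, 4776), (4838, 3327), (4839, 2860), (4840, 8060), (4841, 8059), (4842, 2892), (4843, 2862), (4844, 8067), (4845, 8068), (4846, 8069), (4847, 2870), (4848, 5130), (4849, 2865), (4850, 2866), (4851, 2867), (4852, 2868), (4853, 8078), (4854, 8079), (4855, 8080), (4856, 8081), (4857, 8082), (4858, 2886), (4859, 2884), (4860, 4792), (4861, 2871), (4862, 4833), (4863, 2875)]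
    ⟨e3 q4800 L112133 q3611, e3 q4801 L98852 q2839, e3 q4802 L98856 q2840, e3 q4803 (flp_a L149474) q4805, e3 q4804 (flp_a L123852) q8002, e3 q4805 L149474 q4803, e3 q4806 L98878 q4706, e3 q4807 L123906 q8007, e3 q4808 (flp_a L123966) q7733, e3 q4809 L98893 q2845, e3 q4810 (flp_a L98899) q2844, e3 q4811 (flp_a L123948) q8014, e3 q4812 (flp_a L123952) q8015, e3 q4813 (flp_a L123983) q8016, e3 q4814 (flp_a L99273) q4866, e3 q4815 (flp_a L123938) q8013, e3 q4816 (flp_a L123237) q7905, e3 q4817 L98929 q2847, e3 q4818 L98933 q2848, e3 q4819 L98937 q2849, e3 q4820 (flp_a L124035) q8028, e3 q4821 (flp_a L124039) q8029, e3 q4822 (flp_a L124043) q8030, e3 q4823 (flp_a L124049) q8031, e3 q4824 (flp_a L98961) q4825, e3 q4825 L98961 q4824, e3 q4826 (flp_a L98965) q2851, e3 q4827 (flp_a L124113) q8043, e3 q4828 (flp_a L124117) q8044, e3 q4829 (flp_a L124121) q8045, e3 q4830 (flp_a L99441) q4885, e3 q4831 (flp_a L98977) q2853, e3 q4832 L119067 q3013, e3 q4833 L147477 q4862, e3 q4834 L98997 q2857, e3 q4835 L142013 q3997, e3 q4836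 (flp_a L163860) q7864, e3 q4837 L99039 q4776, e3 q4838 (flp_a L141814) q3327, e3 q4839 L99055 q2860, e3 q4840 L124283 q8060, e3 q4841 (flp_a L124249) q8059, e3 q4842 L99095 q2892, e3 q4843 (flp_a L99115) q2862, e3 q4844 (flp_a L124355) q8067, e3 q4845 (flp_a L124359) q8068, e3 q4846 (flp_a L124365) q8069, e3 q4847 L99135 q2870, e3 q4848 (flp_a L130488) q5130, e3 q4849 L99145 q2865, e3 q4850 L99149 q2866, e3 q4851 L99155 q2867, e3 q4852 L99161 q2868, e3 q4853 (flp_a L124419) q8078, e3 q4854 (flp_a L124423) q8079, e3 q4855 (flp_a L124427) q8080, e3 q4856 (flp_a L124433) q8081, e3 q4857 (flp_a L124439) q8082, e3 q4858 L147420 q2886, e3 q4859 (flp_a L147450) q2884, e3 q4860 L99213 q4792, e3 q4861 (flp_a L99217) q2871, e3 q4862 (flp_a L147477) q4833, e3 q4863 L99237 q2875, trivial⟩ (by decide +kernel)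

theorem ce_a_76 : ∀ r, r < 64 → sm ga (Qf (4864 + r)) = Qf (tab Gen.a (4864 + r)) :=
  edges_tab (sm ga) Qf (tab Gen.a) 4864 [(4864, 3967), (4865, 7700), (4866, 4814), (4867, 3349), (4868, 2878), (4869, 8104), (4870, 8103), (4871, 2906), (4872, 2880), (4873, 8111), (4874, 8112), (4875, 8113), (4876, 2888), (4877, 5137), (4878, 2883), (4879, 2885), (4880, 8121), (4881, 8122), (4882, 8123), (4883, 8093), (4884, 8091), (4885, 4830), (4886, 4890), (4887, 8135), (4888, 2891), (4889, 8138), (4890, 4886), (4891, 8065), (4892, 4902), (4893, 4903), (4894, 8146), (4895, 8148), (4896, 2896), (4897, 8152), (4898, 4911), (4899, 8155), (4900, 2899), (4901, 8159), (4902, 4892), (4903, 4893), (4904, 5621), (4905, 8167), (4906, 6846), (4907, 4043), (4908, 8163), (4909, 2905), (4910, 8173), (4911, 4898), (4912, 8109), (4913, 4921), (4914, 4922), (4915, 8180), (4916, 2909), (4917, 8183), (4918, 8185), (4919, 2911), (4920, 8189), (4921, 4913), (4922, 4914), (4923, 5654), (4924, 8197), (4925, 6772), (4926, 4089), (4927, 8193)]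
    ⟨e3 q4864 L141138 q3967, e3 q4865 (flp_a L163850) q7700, e3 q4866 L99273 q4814, e3 q4867 L141144 q3349, e3 q4868 L99289 q2878, e3 q4869 L124664 q8104, e3 q4870 (flp_a L124650) q8103, e3 q4871 L99315 q2906, e3 q4872 (flp_a L99343) q2880, e3 q4873 (flp_a L124748) q8111, e3 q4874 (flp_a L124752) q8112, e3 q4875 (flp_a L124758) q8113, e3 q4876 L99363 q2888, e3 q4877 (flp_a L147251) q5137, e3 q4878 L99373 q2883, e3 q4879 L99383 q2885, e3 q4880 (flp_a L124812) q8121, e3 q4881 (flp_a L124816) q8122, e3 q4882 (flp_a L124820) q8123, e3 q4883 (flp_a L147158) q8093, e3 q4884 L147260 q8091, e3 q4885 L99441 q4830, e3 q4886 (flp_a L148819) q4890, e3 q4887 L125481 q8135, e3 q4888 (flp_a L99901) q2891, e3 q4889 (flp_a L125532) q8138, e3 q4890 L148819 q4886, e3 q4891 (flp_a L124321) q8065, e3 q4892 (flp_a L148817) q4902, e3 q4893 L148648 q4903, e3 q4894 L125646 q8146, e3 q4895 L125652 q8148, e3 q4896 (flp_a L99984) q2896, e3 q4897 (flp_a L125721) q8152, e3 q4898 (flp_a L148770) q4911, e3 q4899 L125818 q8155, e3 q4900 L100031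 q2899, e3 q4901 (flp_a L125830) q8159, e3 q4902 L148817 q4892, e3 q4903 (flp_a L148648) q4893, e3 q4904 L139010 q5621, e3 q4905 L125912 q8167, e3 q4906 (flp_a L114734) q6846, e3 q4907 L100087 q4043, e3 q4908 (flp_a L149674) q8163, e3 q4909 (flp_a L100325) q2905, e3 q4910 (flp_a L126344) q8173, e3 q4911 L148770 q4898, e3 q4912 (flp_a L124700) q8109, e3 q4913 (flp_a L148781) q4921, e3 q4914 (flp_a L148793) q4922, e3 q4915 L126458 q8180, e3 q4916 (flp_a L100411) q2909, e3 q4917 (flp_a L126543) q8183, e3 q4918 L126630 q8185, e3 q4919 L100455 q2911, e3 q4920 (flp_a L126642) q8189, e3 q4921 L148781 q4913, e3 q4922 L148793 q4914, e3 q4923 L139744 q5654, e3 q4924 L126708 q8197, e3 q4925 (flp_a L114167) q6772, e3 q4926 L100511 q4089, e3 q4927 (flp_a L142764) q8193, trivial⟩ (by decide +kernel)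

theorem ce_a_77 : ∀ r, r < 64 → sm ga (Qf (4928 + r)) = Qf (tab Gen.a (4928 + r)) :=
  edges_tab (sm ga) Qf (tab Gen.a) 4928 [(4928, 2918), (4929, 2919), (4930, 4931), (4931, 4930), (4932, 2925), (4933, 2926), (4934, 5083), (4935, 5084), (4936, 4937), (4937, 4936), (4938, 7670), (4939, 7834), (4940, 2929), (4941, 2985), (4942, 8211), (4943, 8212), (4944, 8213), (4945, 2934), (4946, 2935), (4947, 8220), (4948, 8222), (4949, 3664), (4950, 3665), (4951, 8226), (4952, 4954), (4953, 8230), (4954, 4952), (4955, 2936), (4956, 4968), (4957, 8235), (4958, 2938), (4959, 4970), (4960, 8239), (4961, 2940), (4962, 3709), (4963, 8242), (4964, 2941), (4965, 3715), (4966, 8245), (4967, 2943), (4968, 4956), (4969, 2945), (4970, 4959), (4971, 2948), (4972, 2949), (4973, 4974), (4974, 4973), (4975, 2950), (4976, 8255), (4977, 2951), (4978, 8258), (4979, 8260), (4980, 8262), (4981, 2954), (4982, 8266), (4983, 8267), (4984, 8271), (4985, 8273), (4986, 2957), (4987, 8277), (4988, 8278), (4989, 2958), (4990, 8282), (4991, 8285)]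
    ⟨e3 q4928 L101747 q2918, e3 q4929 L101755 q2919, e3 q4930 (flp_a L101771) q4931, e3 q4931 L101771 q4930, e3 q4932 L101795 q2925, e3 q4933 L101801 q2926, e3 q4934 (flp_a L102912) q5083, e3 q4935 (flp_a L102920) q5084, e3 q4936 (flp_a L101825) q4937, e3 q4937 L101825 q4936, e3 q4938 (flp_a L150865) q7670, e3 q4939 (flp_a L151177) q7834, e3 q4940 (flp_a L101837) q2929, e3 q4941 L101847 q2985, e3 q4942 (flp_a L128661) q8211, e3 q4943 (flp_a L128671) q8212, e3 q4944 (flp_a L128679) q8213, e3 q4945 L101873 q2934, e3 q4946 L101883 q2935, e3 q4947 L128743 q8220, e3 q4948 L128751 q8222, e3 q4949 L101901 q3664, e3 q4950 L101911 q3665, e3 q4951 L128779 q8226, e3 q4952 (flp_a L101945) q4954, e3 q4953 L128811 q8230, e3 q4954 L101945 q4952, e3 q4955 (flp_a L101953) q2936, e3 q4956 (flp_a L102135) q4968, e3 q4957 L128849 q8235, e3 q4958 (flp_a L101969) q2938, e3 q4959 (flp_a L102157) q4970, e3 q4960 L128873 q8239, e3 q4961 (flp_a L101985) q2940, e3 q4962 L101995 q3709, e3 q4963 (flp_a L128889) q8242, e3 q4964 (flp_a L102009)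 q2941, e3 q4965 L102106 q3715, e3 q4966 (flp_a L128929) q8245, e3 q4967 L102126 q2943, e3 q4968 L102135 q4956, e3 q4969 L102148 q2945, e3 q4970 L102157 q4959, e3 q4971 L102166 q2948, e3 q4972 L102174 q2949, e3 q4973 (flp_a L102221) q4974, e3 q4974 L102221 q4973, e3 q4975 (flp_a L102227) q2950, e3 q4976 (flp_a L129030) q8255, e3 q4977 (flp_a L102237) q2951, e3 q4978 (flp_a L129058) q8258, e3 q4979 L129078 q8260, e3 q4980 L129086 q8262, e3 q4981 (flp_a L102257) q2954, e3 q4982 (flp_a L129107) q8266, e3 q4983 (flp_a L129111) q8267, e3 q4984 L129135 q8271, e3 q4985 L129152 q8273, e3 q4986 (flp_a L102279) q2957, e3 q4987 (flp_a L129173) q8277, e3 q4988 (flp_a L129177) q8278, e3 q4989 (flp_a L102291) q2958, e3 q4990 (flp_a L129203) q8282, e3 q4991 L129231 q8285, trivial⟩ (by decide +kernel)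

theorem ce_a_78 : ∀ r, r < 64 → sm ga (Qf (4992 + r)) = Qf (tab Gen.a (4992 + r)) :=
  edges_tab (sm ga) Qf (tab Gen.a) 4992 [(4992, 8288), (4993, 2961), (4994, 8291), (4995, 8294), (4996, 8297), (4997, 8300), (4998, 8303), (4999, 2966), (5000, 8307), (5001, 8308), (5002, 2967), (5003, 8313), (5004, 8314), (5005, 5005), (5006, 5006), (5007, 8320), (5008, 8323), (5009, 2973), (5010, 8326), (5011, 5020), (5012, 2975), (5013, 8329), (5014, 5026), (5015, 6140), (5016, 2978), (5017, 2979), (5018, 8334), (5019, 8335), (5020, 5011), (5021, 6154), (5022, 2981), (5023, 2982), (5024, 8342), (5025, 8343), (5026, 5014), (5027, 5027), (5028, 5028), (5029, 6118), (5030, 6127), (5031, 8350), (5032, 5034), (5033, 8354), (5034, 5032), (5035, 2991), (5036, 8359), (5037, 5057), (5038, 8363), (5039, 2993), (5040, 8367), (5041, 5067), (5042, 8371), (5043, 2995), (5044, 4286), (5045, 8375), (5046, 8379), (5047, 2997), (5048, 4337), (5049, 8382), (5050, 8386), (5051, 6626), (5052, 3000), (5053, 3001), (5054, 8390), (5055, 8391)]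
    ⟨e3 q4992 L129246 q8288, e3 q4993 (flp_a L102316) q2961, e3 q4994 (flp_a L129267) q8291, e3 q4995 L129308 q8294, e3 q4996 L129323 q8297, e3 q4997 L129336 q8300, e3 q4998 L129365 q8303, e3 q4999 (flp_a L102357) q2966, e3 q5000 (flp_a L129394) q8307, e3 q5001 (flp_a L129406) q8308, e3 q5002 (flp_a L102371) q2967, e3 q5003 (flp_a L129444) q8313, e3 q5004 (flp_a L129450) q8314, e3 q5005 L102387 q5005, e3 q5006 L102391 q5006, e3 q5007 L129502 q8320, e3 q5008 L129529 q8323, e3 q5009 (flp_a L102417) q2973, e3 q5010 (flp_a L129663) q8326, e3 q5011 (flp_a L102465) q5020, e3 q5012 (flp_a L102430) q2975, e3 q5013 (flp_a L129705) q8329, e3 q5014 (flp_a L102491) q5026, e3 q5015 L120253 q6140, e3 q5016 L102447 q2978, e3 q5017 L102451 q2979, e3 q5018 (flp_a L129747) q8334, e3 q5019 (flp_a L129759) q8335, e3 q5020 L102465 q5011, e3 q5021 (flp_a L148504) q6154, e3 q5022 L102473 q2981, e3 q5023 L102477 q2982, e3 q5024 (flp_a L129811) q8342, e3 q5025 (flp_a L129815) q8343, e3 q5026 L102491 q5014, e3 q5027 L102497 q5027, e3 q5028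 L102502 q5028, e3 q5029 (flp_a L119809) q6118, e3 q5030 (flp_a L147515) q6127, e3 q5031 L129890 q8350, e3 q5032 (flp_a L102553) q5034, e3 q5033 L129916 q8354, e3 q5034 L102553 q5032, e3 q5035 (flp_a L102559) q2991, e3 q5036 (flp_a L129954) q8359, e3 q5037 (flp_a L102673) q5057, e3 q5038 L129980 q8363, e3 q5039 (flp_a L102581) q2993, e3 q5040 (flp_a L130002) q8367, e3 q5041 (flp_a L102731) q5067, e3 q5042 L130026 q8371, e3 q5043 (flp_a L102603) q2995, e3 q5044 (flp_a L116897) q4286, e3 q5045 (flp_a L130054) q8375, e3 q5046 L130086 q8379, e3 q5047 (flp_a L102620) q2997, e3 q5048 (flp_a L117535) q4337, e3 q5049 (flp_a L130115) q8382, e3 q5050 L130147 q8386, e3 q5051 L120453 q6626, e3 q5052 L102643 q3000, e3 q5053 L102649 q3001, e3 q5054 (flp_a L130178) q8390, e3 q5055 (flp_a L130182) q8391, trivial⟩ (by decide +kernel)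

theorem ce_a_79 : ∀ r, r < 64 → sm ga (Qf (5056 + r)) = Qf (tab Gen.a (5056 + r)) :=
  edges_tab (sm ga) Qf (tab Gen.a) 5056 [(5056, 8397), (5057, 5037), (5058, 3002), (5059, 8402), (5060, 8403), (5061, 6675), (5062, 3004), (5063, 3005), (5064, 8409), (5065, 8410), (5066, 8416), (5067, 5041), (5068, 3006), (5069, 8421), (5070, 8422), (5071, 5360), (5072, 5326), (5073, 8428), (5074, 3171), (5075, 5370), (5076, 5346), (5077, 8433), (5078, 3160), (5079, 5080), (5080, 5079), (5081, 3023), (5082, 3408), (5083, 4934), (5084, 4935), (5085, 8436), (5086, 3940), (5087, 3970), (5088, 4096), (5089, 5091), (5090, 4113), (5091, 5089), (5092, 4005), (5093, 4051), (5094, 3028), (5095, 4006), (5096, 5127), (5097, 8447), (5098, 3030), (5099, 4052), (5100, 5134), (5101, 8450), (5102, 8451), (5103, 3033), (5104, 5146), (5105, 8454), (5106, 3035), (5107, 8457), (5108, 8458), (5109, 8462), (5110, 3037), (5111, 5165), (5112, 8465), (5113, 3039), (5114, 8468), (5115, 8469), (5116, 3040), (5117, 4007), (5118, 8473), (5119, 6463)]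
    ⟨e3 q5056 L130220 q8397, e3 q5057 L102673 q5037, e3 q5058 (flp_a L102679) q3002, e3 q5059 (flp_a L130246) q8402, e3 q5060 (flp_a L130252) q8403, e3 q5061 (flp_a L148500) q6675, e3 q5062 L102701 q3004, e3 q5063 L102707 q3005, e3 q5064 (flp_a L130298) q8409, e3 q5065 (flp_a L130302) q8410, e3 q5066 L130340 q8416, e3 q5067 L102731 q5041, e3 q5068 (flp_a L102737) q3006, e3 q5069 (flp_a L130366) q8421, e3 q5070 (flp_a L130374) q8422, e3 q5071 (flp_a L104560) q5360, e3 q5072 (flp_a L104371) q5326, e3 q5073 L130412 q8428, e3 q5074 L102773 q3171, e3 q5075 (flp_a L104643) q5370, e3 q5076 (flp_a L104476) q5346, e3 q5077 L130446 q8433, e3 q5078 L102801 q3160, e3 q5079 (flp_a L102833) q5080, e3 q5080 L102833 q5079, e3 q5081 L102841 q3023, e3 q5082 L102906 q3408, e3 q5083 L102912 q4934, e3 q5084 L102920 q4935, e3 q5085 (flp_a L130536) q8436, e3 q5086 L119308 q3940, e3 q5087 L146733 q3970, e3 q5088 L119707 q4096, e3 q5089 (flp_a L102954) q5091, e3 q5090 (flp_a L146731) q4113, e3 q5091 L102954 q5089, e3 q5092 L119310 q4005,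 e3 q5093 L146501 q4051, e3 q5094 (flp_a L102986) q3028, e3 q5095 L119795 q4006, e3 q5096 (flp_a L103152) q5127, e3 q5097 L142869 q8447, e3 q5098 (flp_a L103004) q3030, e3 q5099 (flp_a L148416) q4052, e3 q5100 (flp_a L103202) q5134, e3 q5101 L142901 q8450, e3 q5102 L142909 q8451, e3 q5103 L103026 q3033, e3 q5104 (flp_a L103262) q5146, e3 q5105 L142927 q8454, e3 q5106 (flp_a L103044) q3035, e3 q5107 (flp_a L142941) q8457, e3 q5108 (flp_a L142945) q8458, e3 q5109 L142963 q8462, e3 q5110 L103058 q3037, e3 q5111 (flp_a L103348) q5165, e3 q5112 L143001 q8465, e3 q5113 (flp_a L103076) q3039, e3 q5114 (flp_a L143015) q8468, e3 q5115 (flp_a L143019) q8469, e3 q5116 (flp_a L103086) q3040, e3 q5117 L119801 q4007, e3 q5118 (flp_a L143043) q8473, e3 q5119 L163397 q6463, trivial⟩ (by decide +kernel)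

theorem ce_a_80 : ∀ r, r < 64 → sm ga (Qf (5120 + r)) = Qf (tab Gen.a (5120 + r)) :=
  edges_tab (sm ga) Qf (tab Gen.a) 5120 [(5120, 3042), (5121, 4054), (5122, 8476), (5123, 6432), (5124, 3046), (5125, 5677), (5126, 8480), (5127, 5096), (5128, 3047), (5129, 6464), (5130, 4848), (5131, 3050), (5132, 5716), (5133, 8488), (5134, 5100), (5135, 3051), (5136, 6433), (5137, 4877), (5138, 6628), (5139, 6407), (5140, 3055), (5141, 3056), (5142, 3990), (5143, 8497), (5144, 8498), (5145, 8504), (5146, 5104), (5147, 3057), (5148, 8507), (5149, 5156), (5150, 8511), (5151, 8514), (5152, 3060), (5153, 3061), (5154, 4744), (5155, 8518), (5156, 5149), (5157, 6677), (5158, 6438), (5159, 3065), (5160, 3066), (5161, 3960), (5162, 8526), (5163, 8527), (5164, 8533), (5165, 5111), (5166, 3067), (5167, 8536), (5168, 5175), (5169, 8540), (5170, 8543), (5171, 3070), (5172, 3071), (5173, 4645), (5174, 8547), (5175, 5168), (5176, 3072), (5177, 7621), (5178, 3075), (5179, 3536), (5180, 5201), (5181, 5202), (5182, 5532), (5183, 8558)]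
    ⟨e3 q5120 (flp_a L103104) q3042, e3 q5121 L148361 q4054, e3 q5122 (flp_a L143085) q8476, e3 q5123 L163200 q6432, e3 q5124 L103132 q3046, e3 q5125 (flp_a L120420) q5677, e3 q5126 L143147 q8480, e3 q5127 L103152 q5096, e3 q5128 (flp_a L103158) q3047, e3 q5129 (flp_a L163314) q6464, e3 q5130 L130488 q4848, e3 q5131 L103182 q3050, e3 q5132 L129592 q5716, e3 q5133 L143231 q8488, e3 q5134 L103202 q5100, e3 q5135 (flp_a L103208) q3051, e3 q5136 L163172 q6433, e3 q5137 L147251 q4877, e3 q5138 L120090 q6628, e3 q5139 L120463 q6407, e3 q5140 L103234 q3055, e3 q5141 L103238 q3056, e3 q5142 L149607 q3990, e3 q5143 (flp_a L143307) q8497, e3 q5144 (flp_a L143313) q8498, e3 q5145 L143347 q8504, e3 q5146 L103262 q5104, e3 q5147 (flp_a L103268) q3057, e3 q5148 (flp_a L143359) q8507, e3 q5149 (flp_a L103304) q5156, e3 q5150 L143375 q8511, e3 q5151 L143383 q8514, e3 q5152 L103284 q3060, e3 q5153 L103288 q3061, e3 q5154 (flp_a L151346) q4744, e3 q5155 (flp_a L143403) q8518, e3 q5156 L103304 q5149, e3 q5157 (flp_a L148496) q6677,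 e3 q5158 (flp_a L150930) q6438, e3 q5159 L103320 q3065, e3 q5160 L103324 q3066, e3 q5161 L143423 q3960, e3 q5162 (flp_a L143531) q8526, e3 q5163 (flp_a L143535) q8527, e3 q5164 L143587 q8533, e3 q5165 L103348 q5111, e3 q5166 (flp_a L103354) q3067, e3 q5167 (flp_a L143597) q8536, e3 q5168 (flp_a L103390) q5175, e3 q5169 L143623 q8540, e3 q5170 L143631 q8543, e3 q5171 L103370 q3070, e3 q5172 L103374 q3071, e3 q5173 (flp_a L120593) q4645, e3 q5174 (flp_a L143653) q8547, e3 q5175 L103390 q5168, e3 q5176 (flp_a L103394) q3072, e3 q5177 (flp_a L121686) q7621, e3 q5178 L103411 q3075, e3 q5179 L119857 q3536, e3 q5180 (flp_a L103574) q5201, e3 q5181 (flp_a L103582) q5202, e3 q5182 (flp_a L105507) q5532, e3 q5183 L143741 q8558, trivial⟩ (by decide +kernel)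

theorem ce_a_81 : ∀ r, r < 64 → sm ga (Qf (5184 + r)) = Qf (tab Gen.a (5184 + r)) :=
  edges_tab (sm ga) Qf (tab Gen.a) 5184 [(5184, 3077), (5185, 8560), (5186, 3297), (5187, 3079), (5188, 7787), (5189, 3082), (5190, 3544), (5191, 5209), (5192, 5210), (5193, 5576), (5194, 8567), (5195, 3084), (5196, 8569), (5197, 3274), (5198, 5198), (5199, 3092), (5200, 5948), (5201, 5180), (5202, 5181), (5203, 8574), (5204, 8576), (5205, 3342), (5206, 5206), (5207, 3102), (5208, 5949), (5209, 5191), (5210, 5192), (5211, 8583), (5212, 8585), (5213, 3320), (5214, 3107), (5215, 3108), (5216, 3109), (5217, 8589), (5218, 8590), (5219, 8597), (5220, 5222), (5221, 8601), (5222, 5220), (5223, 8605), (5224, 8608), (5225, 3112), (5226, 8612), (5227, 8613), (5228, 3113), (5229, 8617), (5230, 8618), (5231, 8621), (5232, 8624), (5233, 3116), (5234, 4234), (5235, 5261), (5236, 8629), (5237, 3118), (5238, 4256), (5239, 5269), (5240, 8634), (5241, 8637), (5242, 3121), (5243, 8641), (5244, 5284), (5245, 8645), (5246, 3123), (5247, 8649)]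
    ⟨e3 q5184 (flp_a L103439) q3077, e3 q5185 (flp_a L143749) q8560, e3 q5186 L103449 q3297, e3 q5187 (flp_a L103453) q3079, e3 q5188 (flp_a L149973) q7787, e3 q5189 L103470 q3082, e3 q5190 L148073 q3544, e3 q5191 (flp_a L103670) q5209, e3 q5192 (flp_a L103678) q5210, e3 q5193 (flp_a L105694) q5576, e3 q5194 L143843 q8567, e3 q5195 (flp_a L103500) q3084, e3 q5196 (flp_a L143859) q8569, e3 q5197 L103512 q3274, e3 q5198 L103520 q5198, e3 q5199 L119866 q3092, e3 q5200 L119511 q5948, e3 q5201 L103574 q5180, e3 q5202 L103582 q5181, e3 q5203 L143899 q8574, e3 q5204 L143911 q8576, e3 q5205 L103608 q3342, e3 q5206 L103616 q5206, e3 q5207 L129617 q3102, e3 q5208 (flp_a L148098) q5949, e3 q5209 L103670 q5191, e3 q5210 L103678 q5192, e3 q5211 L144043 q8583, e3 q5212 L144049 q8585, e3 q5213 L103706 q3320, e3 q5214 L103730 q3107, e3 q5215 L103736 q3108, e3 q5216 L103744 q3109, e3 q5217 (flp_a L144091) q8589, e3 q5218 (flp_a L144099) q8590, e3 q5219 L144143 q8597, e3 q5220 (flp_a L103782) q5222, e3 q5221 L144171 q8601, e3 q5222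 L103782 q5220, e3 q5223 L144191 q8605, e3 q5224 L144203 q8608, e3 q5225 (flp_a L103798) q3112, e3 q5226 (flp_a L144221) q8612, e3 q5227 (flp_a L144229) q8613, e3 q5228 (flp_a L103810) q3113, e3 q5229 (flp_a L144255) q8617, e3 q5230 (flp_a L144261) q8618, e3 q5231 L144283 q8621, e3 q5232 L144309 q8624, e3 q5233 (flp_a L103830) q3116, e3 q5234 L103849 q4234, e3 q5235 (flp_a L104003) q5261, e3 q5236 L144343 q8629, e3 q5237 (flp_a L103863) q3118, e3 q5238 L103873 q4256, e3 q5239 (flp_a L104055) q5269, e3 q5240 L144365 q8634, e3 q5241 L144377 q8637, e3 q5242 L103893 q3121, e3 q5243 (flp_a L144403) q8641, e3 q5244 (flp_a L104137) q5284, e3 q5245 L144423 q8645, e3 q5246 (flp_a L103915) q3123, e3 q5247 (flp_a L144445) q8649, trivial⟩ (by decide +kernel)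

theorem ce_a_82 : ∀ r, r < 64 → sm ga (Qf (5248 + r)) = Qf (tab Gen.a (5248 + r)) :=
  edges_tab (sm ga) Qf (tab Gen.a) 5248 [(5248, 8650), (5249, 8653), (5250, 3125), (5251, 8657), (5252, 5306), (5253, 8661), (5254, 3127), (5255, 8665), (5256, 8666), (5257, 8669), (5258, 3130), (5259, 4235), (5260, 8673), (5261, 5235), (5262, 3131), (5263, 4270), (5264, 8678), (5265, 8681), (5266, 3134), (5267, 4255), (5268, 8685), (5269, 5239), (5270, 3135), (5271, 4249), (5272, 8690), (5273, 3136), (5274, 8693), (5275, 8694), (5276, 8695), (5277, 8696), (5278, 3139), (5279, 3140), (5280, 8709), (5281, 8706), (5282, 8707), (5283, 8715), (5284, 5244), (5285, 3141), (5286, 8720), (5287, 5294), (5288, 8724), (5289, 8727), (5290, 3144), (5291, 3145), (5292, 8732), (5293, 8733), (5294, 5287), (5295, 3146), (5296, 8738), (5297, 8739), (5298, 8740), (5299, 8741), (5300, 3149), (5301, 3150), (5302, 8754), (5303, 8751), (5304, 8752), (5305, 8760), (5306, 5252), (5307, 3151), (5308, 8765), (5309, 5316), (5310, 8769), (5311, 8772)]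
    ⟨e3 q5248 (flp_a L144451) q8650, e3 q5249 L144473 q8653, e3 q5250 L103935 q3125, e3 q5251 (flp_a L144497) q8657, e3 q5252 (flp_a L104258) q5306, e3 q5253 L144515 q8661, e3 q5254 (flp_a L103957) q3127, e3 q5255 (flp_a L144537) q8665, e3 q5256 (flp_a L144543) q8666, e3 q5257 L144565 q8669, e3 q5258 L103979 q3130, e3 q5259 L103989 q4235, e3 q5260 L144591 q8673, e3 q5261 L104003 q5235, e3 q5262 (flp_a L104009) q3131, e3 q5263 L156832 q4270, e3 q5264 (flp_a L144619) q8678, e3 q5265 L144639 q8681, e3 q5266 L104029 q3134, e3 q5267 L104039 q4255, e3 q5268 L144665 q8685, e3 q5269 L104055 q5239, e3 q5270 (flp_a L104061) q3135, e3 q5271 L156816 q4249, e3 q5272 (flp_a L144703) q8690, e3 q5273 (flp_a L104081) q3136, e3 q5274 (flp_a L144733) q8693, e3 q5275 (flp_a L144741) q8694, e3 q5276 (flp_a L144749) q8695, e3 q5277 (flp_a L144759) q8696, e3 q5278 L104103 q3139, e3 q5279 L104107 q3140, e3 q5280 L144825 q8709, e3 q5281 (flp_a L144809) q8706, e3 q5282 (flp_a L144815) q8707, e3 q5283 L144859 q8715, e3 q5284 L104137 q5244,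 e3 q5285 (flp_a L104145) q3141, e3 q5286 (flp_a L144887) q8720, e3 q5287 (flp_a L104196) q5294, e3 q5288 L144909 q8724, e3 q5289 L144923 q8727, e3 q5290 L104171 q3144, e3 q5291 L104177 q3145, e3 q5292 (flp_a L144955) q8732, e3 q5293 (flp_a L144959) q8733, e3 q5294 L104196 q5287, e3 q5295 (flp_a L104202) q3146, e3 q5296 (flp_a L145002) q8738, e3 q5297 (flp_a L145010) q8739, e3 q5298 (flp_a L145016) q8740, e3 q5299 (flp_a L145026) q8741, e3 q5300 L104224 q3149, e3 q5301 L104228 q3150, e3 q5302 L145092 q8754, e3 q5303 (flp_a L145076) q8751, e3 q5304 (flp_a L145082) q8752, e3 q5305 L145126 q8760, e3 q5306 L104258 q5252, e3 q5307 (flp_a L104266) q3151, e3 q5308 (flp_a L145154) q8765, e3 q5309 (flp_a L104317) q5316, e3 q5310 L145176 q8769, e3 q5311 L145190 q8772, trivial⟩ (by decide +kernel)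

theorem ce_a_83 : ∀ r, r < 64 → sm ga (Qf (5312 + r)) = Qf (tab Gen.a (5312 + r)) :=
  edges_tab (sm ga) Qf (tab Gen.a) 5312 [(5312, 3154), (5313, 3155), (5314, 8777), (5315, 8778), (5316, 5309), (5317, 7034), (5318, 5318), (5319, 3157), (5320, 8785), (5321, 8786), (5322, 8787), (5323, 3159), (5324, 8435), (5325, 8796), (5326, 5072), (5327, 3161), (5328, 8801), (5329, 8802), (5330, 8807), (5331, 3164), (5332, 8810), (5333, 8813), (5334, 3166), (5335, 5366), (5336, 8817), (5337, 7062), (5338, 5338), (5339, 3168), (5340, 8822), (5341, 8823), (5342, 8824), (5343, 3170), (5344, 8430), (5345, 8833), (5346, 5076), (5347, 3172), (5348, 8838), (5349, 8839), (5350, 8844), (5351, 3175), (5352, 8847), (5353, 8850), (5354, 3177), (5355, 5376), (5356, 8854), (5357, 3178), (5358, 8857), (5359, 8858), (5360, 5071), (5361, 5361), (5362, 3181), (5363, 8862), (5364, 3183), (5365, 8866), (5366, 5335), (5367, 3184), (5368, 8871), (5369, 8872), (5370, 5075), (5371, 5371), (5372, 3187), (5373, 8876), (5374, 3189), (5375, 8880)]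
    ⟨e3 q5312 L104292 q3154, e3 q5313 L104298 q3155, e3 q5314 (flp_a L145214) q8777, e3 q5315 (flp_a L145218) q8778, e3 q5316 L104317 q5309, e3 q5317 L116076 q7034, e3 q5318 L104331 q5318, e3 q5319 (flp_a L104337) q3157, e3 q5320 (flp_a L145276) q8785, e3 q5321 (flp_a L145280) q8786, e3 q5322 (flp_a L145288) q8787, e3 q5323 L104355 q3159, e3 q5324 (flp_a L130462) q8435, e3 q5325 L145358 q8796, e3 q5326 L104371 q5072, e3 q5327 (flp_a L104379) q3161, e3 q5328 (flp_a L145382) q8801, e3 q5329 (flp_a L145388) q8802, e3 q5330 L145418 q8807, e3 q5331 L104399 q3164, e3 q5332 (flp_a L145434) q8810, e3 q5333 L145450 q8813, e3 q5334 L104417 q3166, e3 q5335 (flp_a L104610) q5366, e3 q5336 (flp_a L145469) q8817, e3 q5337 (flp_a L149725) q7062, e3 q5338 L104436 q5338, e3 q5339 (flp_a L104442) q3168, e3 q5340 (flp_a L145518) q8822, e3 q5341 (flp_a L145522) q8823, e3 q5342 (flp_a L145528) q8824, e3 q5343 L104460 q3170, e3 q5344 (flp_a L130426) q8430, e3 q5345 L145580 q8833, e3 q5346 L104476 q5076, e3 q5347 (flp_a L104484) q3172,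 e3 q5348 (flp_a L145600) q8838, e3 q5349 (flp_a L145606) q8839, e3 q5350 L145638 q8844, e3 q5351 L104506 q3175, e3 q5352 (flp_a L145660) q8847, e3 q5353 L145676 q8850, e3 q5354 L104526 q3177, e3 q5355 (flp_a L104703) q5376, e3 q5356 (flp_a L145701) q8854, e3 q5357 (flp_a L104537) q3178, e3 q5358 (flp_a L145719) q8857, e3 q5359 (flp_a L145723) q8858, e3 q5360 L104560 q5071, e3 q5361 L104572 q5361, e3 q5362 L104575 q3181, e3 q5363 (flp_a L145752) q8862, e3 q5364 L104593 q3183, e3 q5365 L145780 q8866, e3 q5366 L104610 q5335, e3 q5367 (flp_a L104620) q3184, e3 q5368 (flp_a L145807) q8871, e3 q5369 (flp_a L145811) q8872, e3 q5370 L104643 q5075, e3 q5371 L104661 q5371, e3 q5372 L104664 q3187, e3 q5373 (flp_a L145872) q8876, e3 q5374 L104684 q3189, e3 q5375 L145904 q8880, trivial⟩ (by decide +kernel)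

theorem ce_a_84 : ∀ r, r < 64 → sm ga (Qf (5376 + r)) = Qf (tab Gen.a (5376 + r)) :=
  edges_tab (sm ga) Qf (tab Gen.a) 5376 [(5376, 5355), (5377, 8884), (5378, 8886), (5379, 3194), (5380, 3571), (5381, 5391), (5382, 8891), (5383, 3196), (5384, 3581), (5385, 5396), (5386, 8897), (5387, 8900), (5388, 3199), (5389, 3200), (5390, 8904), (5391, 5381), (5392, 8907), (5393, 3202), (5394, 3203), (5395, 8911), (5396, 5385), (5397, 3204), (5398, 5399), (5399, 5398), (5400, 8914), (5401, 5894), (5402, 5450), (5403, 8919), (5404, 3208), (5405, 6799), (5406, 5412), (5407, 8923), (5408, 3210), (5409, 3211), (5410, 6800), (5411, 8927), (5412, 5406), (5413, 3212), (5414, 5416), (5415, 8930), (5416, 5414), (5417, 5916), (5418, 5494), (5419, 8935), (5420, 3216), (5421, 6727), (5422, 5428), (5423, 8939), (5424, 3218), (5425, 3219), (5426, 6728), (5427, 8943), (5428, 5422), (5429, 3221), (5430, 3222), (5431, 3223), (5432, 3224), (5433, 8946), (5434, 8947), (5435, 8948), (5436, 5438), (5437, 8959), (5438, 5436), (5439, 5794)]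
    ⟨e3 q5376 L104703 q5355, e3 q5377 L145925 q8884, e3 q5378 L145935 q8886, e3 q5379 (flp_a L104809) q3194, e3 q5380 L119359 q3571, e3 q5381 (flp_a L104853) q5391, e3 q5382 L145969 q8891, e3 q5383 (flp_a L104821) q3196, e3 q5384 (flp_a L148132) q3581, e3 q5385 (flp_a L104877) q5396, e3 q5386 L146046 q8897, e3 q5387 L146096 q8900, e3 q5388 L104837 q3199, e3 q5389 L104841 q3200, e3 q5390 (flp_a L146122) q8904, e3 q5391 L104853 q5381, e3 q5392 L146142 q8907, e3 q5393 L104861 q3202, e3 q5394 L104865 q3203, e3 q5395 (flp_a L146160) q8911, e3 q5396 L104877 q5385, e3 q5397 (flp_a L104881) q3204, e3 q5398 (flp_a L104889) q5399, e3 q5399 L104889 q5398, e3 q5400 (flp_a L151588) q8914, e3 q5401 (flp_a L119833) q5894, e3 q5402 (flp_a L105111) q5450, e3 q5403 L151620 q8919, e3 q5404 (flp_a L104917) q3208, e3 q5405 (flp_a L153014) q6799, e3 q5406 (flp_a L104947) q5412, e3 q5407 L151644 q8923, e3 q5408 L104931 q3210, e3 q5409 L104935 q3211, e3 q5410 (flp_a L153010) q6800, e3 q5411 (flp_a L151664) q8927, e3 q5412 L104947 q5406,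 e3 q5413 (flp_a L104951) q3212, e3 q5414 (flp_a L149707) q5416, e3 q5415 (flp_a L151696) q8930, e3 q5416 L149707 q5414, e3 q5417 L149309 q5916, e3 q5418 (flp_a L105304) q5494, e3 q5419 L151728 q8935, e3 q5420 (flp_a L104981) q3216, e3 q5421 (flp_a L153420) q6727, e3 q5422 (flp_a L105011) q5428, e3 q5423 L151752 q8939, e3 q5424 L104995 q3218, e3 q5425 L104999 q3219, e3 q5426 (flp_a L153453) q6728, e3 q5427 (flp_a L151774) q8943, e3 q5428 L105011 q5422, e3 q5429 L105017 q3221, e3 q5430 L105021 q3222, e3 q5431 L105025 q3223, e3 q5432 L105065 q3224, e3 q5433 (flp_a L151806) q8946, e3 q5434 (flp_a L151836) q8947, e3 q5435 (flp_a L151846) q8948, e3 q5436 (flp_a L105051) q5438, e3 q5437 L151914 q8959, e3 q5438 L105051 q5436, e3 q5439 L120521 q5794, trivial⟩ (by decide +kernel)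

theorem ce_a_85 : ∀ r, r < 64 → sm ga (Qf (5440 + r)) = Qf (tab Gen.a (5440 + r)) :=
  edges_tab (sm ga) Qf (tab Gen.a) 5440 [(5440, 8951), (5441, 8952), (5442, 3228), (5443, 3229), (5444, 8970), (5445, 3227), (5446, 8974), (5447, 8975), (5448, 8968), (5449, 8980), (5450, 5402), (5451, 3230), (5452, 8984), (5453, 5543), (5454, 8988), (5455, 8991), (5456, 3233), (5457, 3255), (5458, 3261), (5459, 8997), (5460, 3235), (5461, 9000), (5462, 9001), (5463, 3236), (5464, 8559), (5465, 9004), (5466, 9005), (5467, 9008), (5468, 3239), (5469, 3240), (5470, 8899), (5471, 8767), (5472, 9011), (5473, 3243), (5474, 3244), (5475, 3245), (5476, 3246), (5477, 9013), (5478, 9014), (5479, 9015), (5480, 9025), (5481, 5482), (5482, 5481), (5483, 5796), (5484, 9018), (5485, 9019), (5486, 3250), (5487, 3251), (5488, 9036), (5489, 3249), (5490, 9040), (5491, 8962), (5492, 9034), (5493, 9045), (5494, 5418), (5495, 3252), (5496, 9049), (5497, 5587), (5498, 9052), (5499, 9055), (5500, 9059), (5501, 3257), (5502, 9062), (5503, 9063)]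
    ⟨e3 q5440 (flp_a L151868) q8951, e3 q5441 (flp_a L151874) q8952, e3 q5442 L105075 q3228, e3 q5443 L105081 q3229, e3 q5444 L151982 q8970, e3 q5445 (flp_a L105091) q3227, e3 q5446 (flp_a L151998) q8974, e3 q5447 (flp_a L152006) q8975, e3 q5448 (flp_a L151970) q8968, e3 q5449 L152034 q8980, e3 q5450 L105111 q5402, e3 q5451 (flp_a L105119) q3230, e3 q5452 (flp_a L152062) q8984, e3 q5453 (flp_a L105553) q5543, e3 q5454 L152082 q8988, e3 q5455 L152094 q8991, e3 q5456 L105137 q3233, e3 q5457 L151518 q3255, e3 q5458 L151494 q3261, e3 q5459 L152126 q8997, e3 q5460 (flp_a L105153) q3235, e3 q5461 (flp_a L152142) q9000, e3 q5462 (flp_a L152146) q9001, e3 q5463 (flp_a L105161) q3236, e3 q5464 (flp_a L146076) q8559, e3 q5465 (flp_a L152182) q9004, e3 q5466 (flp_a L152188) q9005, e3 q5467 L152220 q9008, e3 q5468 L105173 q3239, e3 q5469 L105177 q3240, e3 q5470 (flp_a L146068) q8899, e3 q5471 L151526 q8767, e3 q5472 L152236 q9011, e3 q5473 L105210 q3243, e3 q5474 L105214 q3244, e3 q5475 L105218 q3245, e3 q5476 L105258 q3246,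 e3 q5477 (flp_a L152264) q9013, e3 q5478 (flp_a L152276) q9014, e3 q5479 (flp_a L152286) q9015, e3 q5480 L152348 q9025, e3 q5481 (flp_a L105244) q5482, e3 q5482 L105244 q5481, e3 q5483 L151180 q5796, e3 q5484 (flp_a L152312) q9018, e3 q5485 (flp_a L152318) q9019, e3 q5486 L105268 q3250, e3 q5487 L105274 q3251, e3 q5488 L152426 q9036, e3 q5489 (flp_a L105284) q3249, e3 q5490 (flp_a L152444) q9040, e3 q5491 (flp_a L152258) q8962, e3 q5492 (flp_a L152414) q9034, e3 q5493 L152472 q9045, e3 q5494 L105304 q5418, e3 q5495 (flp_a L105312) q3252, e3 q5496 (flp_a L152500) q9049, e3 q5497 (flp_a L105742) q5587, e3 q5498 L152514 q9052, e3 q5499 L152526 q9055, e3 q5500 L152546 q9059, e3 q5501 (flp_a L105350) q3257, e3 q5502 (flp_a L152566) q9062, e3 q5503 (flp_a L152570) q9063, trivial⟩ (by decide +kernel)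

theorem ce_a_86 : ∀ r, r < 64 → sm ga (Qf (5504 + r)) = Qf (tab Gen.a (5504 + r)) :=
  edges_tab (sm ga) Qf (tab Gen.a) 5504 [(5504, 3258), (5505, 8568), (5506, 9066), (5507, 9067), (5508, 9070), (5509, 3262), (5510, 8893), (5511, 8722), (5512, 9072), (5513, 3264), (5514, 7533), (5515, 9074), (5516, 9075), (5517, 5517), (5518, 3267), (5519, 3268), (5520, 3269), (5521, 9081), (5522, 7618), (5523, 5524), (5524, 5523), (5525, 5760), (5526, 5788), (5527, 5795), (5528, 5616), (5529, 5617), (5530, 6069), (5531, 9093), (5532, 5182), (5533, 3275), (5534, 5535), (5535, 5534), (5536, 7974), (5537, 3908), (5538, 3278), (5539, 3279), (5540, 9100), (5541, 9101), (5542, 9107), (5543, 5453), (5544, 3280), (5545, 9110), (5546, 9112), (5547, 3282), (5548, 5630), (5549, 9115), (5550, 3283), (5551, 9119), (5552, 9120), (5553, 9121), (5554, 3286), (5555, 9125), (5556, 5637), (5557, 3287), (5558, 7578), (5559, 9128), (5560, 9129), (5561, 5561), (5562, 3290), (5563, 3291), (5564, 3292), (5565, 9135), (5566, 7784), (5567, 5568)]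
    ⟨e3 q5504 (flp_a L105358) q3258, e3 q5505 L146092 q8568, e3 q5506 (flp_a L152594) q9066, e3 q5507 (flp_a L152604) q9067, e3 q5508 L152626 q9070, e3 q5509 L105382 q3262, e3 q5510 L151129 q8893, e3 q5511 L151484 q8722, e3 q5512 L152636 q9072, e3 q5513 (flp_a L105417) q3264, e3 q5514 (flp_a L121103) q7533, e3 q5515 (flp_a L152654) q9074, e3 q5516 (flp_a L152660) q9075, e3 q5517 L105438 q5517, e3 q5518 L105445 q3267, e3 q5519 L105449 q3268, e3 q5520 L105453 q3269, e3 q5521 (flp_a L152702) q9081, e3 q5522 (flp_a L121665) q7618, e3 q5523 (flp_a L105475) q5524, e3 q5524 L105475 q5523, e3 q5525 (flp_a L120523) q5760, e3 q5526 (flp_a L119817) q5788, e3 q5527 (flp_a L120525) q5795, e3 q5528 (flp_a L105909) q5616, e3 q5529 (flp_a L105915) q5617, e3 q5530 (flp_a L120536) q6069, e3 q5531 L152768 q9093, e3 q5532 L105507 q5182, e3 q5533 (flp_a L105513) q3275, e3 q5534 (flp_a L120595) q5535, e3 q5535 L120595 q5534, e3 q5536 (flp_a L146094) q7974, e3 q5537 L120585 q3908, e3 q5538 L105531 q3278, e3 q5539 L105535 q3279, e3 q5540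 (flp_a L152818) q9100, e3 q5541 (flp_a L152824) q9101, e3 q5542 L152858 q9107, e3 q5543 L105553 q5453, e3 q5544 (flp_a L105557) q3280, e3 q5545 (flp_a L152868) q9110, e3 q5546 L152878 q9112, e3 q5547 L105567 q3282, e3 q5548 (flp_a L106049) q5630, e3 q5549 (flp_a L152890) q9115, e3 q5550 (flp_a L105581) q3283, e3 q5551 (flp_a L152912) q9119, e3 q5552 (flp_a L152916) q9120, e3 q5553 (flp_a L152920) q9121, e3 q5554 L105594 q3286, e3 q5555 L152947 q9125, e3 q5556 (flp_a L106116) q5637, e3 q5557 (flp_a L105604) q3287, e3 q5558 (flp_a L150811) q7578, e3 q5559 (flp_a L153069) q9128, e3 q5560 (flp_a L153075) q9129, e3 q5561 L105625 q5561, e3 q5562 L105632 q3290, e3 q5563 L105636 q3291, e3 q5564 L105640 q3292, e3 q5565 (flp_a L153117) q9135, e3 q5566 L150426 q7784, e3 q5567 (flp_a L105662) q5568, trivial⟩ (by decide +kernel)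

theorem ce_a_87 : ∀ r, r < 64 → sm ga (Qf (5568 + r)) = Qf (tab Gen.a (5568 + r)) :=
  edges_tab (sm ga) Qf (tab Gen.a) 5568 [(5568, 5567), (5569, 5761), (5570, 5797), (5571, 5789), (5572, 5650), (5573, 5651), (5574, 6108), (5575, 9147), (5576, 5193), (5577, 3298), (5578, 5579), (5579, 5578), (5580, 8033), (5581, 3936), (5582, 3301), (5583, 3302), (5584, 9154), (5585, 9155), (5586, 9161), (5587, 5497), (5588, 3303), (5589, 9164), (5590, 9166), (5591, 3305), (5592, 5663), (5593, 9169), (5594, 3306), (5595, 9173), (5596, 9174), (5597, 9175), (5598, 3309), (5599, 9179), (5600, 5670), (5601, 3310), (5602, 9182), (5603, 9183), (5604, 3319), (5605, 3444), (5606, 3313), (5607, 3314), (5608, 3315), (5609, 3316), (5610, 9187), (5611, 9188), (5612, 9189), (5613, 5615), (5614, 9195), (5615, 5613), (5616, 5528), (5617, 5529), (5618, 3612), (5619, 8588), (5620, 5649), (5621, 4904), (5622, 3321), (5623, 5717), (5624, 3578), (5625, 9201), (5626, 4038), (5627, 3326), (5628, 9203), (5629, 9205), (5630, 5548), (5631, 9210)]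
    ⟨e3 q5568 L105662 q5567, e3 q5569 (flp_a L151246) q5761, e3 q5570 (flp_a L151248) q5797, e3 q5571 (flp_a L151183) q5789, e3 q5572 (flp_a L106228) q5650, e3 q5573 (flp_a L106234) q5651, e3 q5574 (flp_a L150994) q6108, e3 q5575 L153183 q9147, e3 q5576 L105694 q5193, e3 q5577 (flp_a L105700) q3298, e3 q5578 L151439 q5579, e3 q5579 (flp_a L151439) q5578, e3 q5580 (flp_a L151564) q8033, e3 q5581 L151407 q3936, e3 q5582 L105718 q3301, e3 q5583 L105722 q3302, e3 q5584 (flp_a L153233) q9154, e3 q5585 (flp_a L153239) q9155, e3 q5586 L153275 q9161, e3 q5587 L105742 q5497, e3 q5588 (flp_a L105746) q3303, e3 q5589 (flp_a L153289) q9164, e3 q5590 L153303 q9166, e3 q5591 L105762 q3305, e3 q5592 (flp_a L106370) q5663, e3 q5593 (flp_a L153319) q9169, e3 q5594 (flp_a L105776) q3306, e3 q5595 (flp_a L153341) q9173, e3 q5596 (flp_a L153345) q9174, e3 q5597 (flp_a L153351) q9175, e3 q5598 L105795 q3309, e3 q5599 L153384 q9179, e3 q5600 (flp_a L106439) q5670, e3 q5601 (flp_a L105805) q3310, e3 q5602 (flp_a L153506) q9182, e3 q5603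 (flp_a L153517) q9183, e3 q5604 L105827 q3319, e3 q5605 L120489 q3444, e3 q5606 L105837 q3313, e3 q5607 L105841 q3314, e3 q5608 L105847 q3315, e3 q5609 L105853 q3316, e3 q5610 (flp_a L153554) q9187, e3 q5611 (flp_a L153560) q9188, e3 q5612 (flp_a L153570) q9189, e3 q5613 (flp_a L105901) q5615, e3 q5614 L153610 q9195, e3 q5615 L105901 q5613, e3 q5616 L105909 q5528, e3 q5617 L105915 q5529, e3 q5618 L120481 q3612, e3 q5619 (flp_a L144081) q8588, e3 q5620 L149289 q5649, e3 q5621 (flp_a L139010) q4904, e3 q5622 (flp_a L105951) q3321, e3 q5623 L149267 q5717, e3 q5624 L120475 q3578, e3 q5625 L153666 q9201, e3 q5626 L139116 q4038, e3 q5627 L105995 q3326, e3 q5628 (flp_a L153680) q9203, e3 q5629 L153694 q9205, e3 q5630 L106049 q5548, e3 q5631 L153718 q9210, trivial⟩ (by decide +kernel)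

theorem ce_a_88 : ∀ r, r < 64 → sm ga (Qf (5632 + r)) = Qf (tab Gen.a (5632 + r)) :=
  edges_tab (sm ga) Qf (tab Gen.a) 5632 [(5632, 3329), (5633, 9213), (5634, 9214), (5635, 9215), (5636, 9216), (5637, 5556), (5638, 3332), (5639, 9222), (5640, 9223), (5641, 3341), (5642, 3446), (5643, 3335), (5644, 3336), (5645, 3337), (5646, 3338), (5647, 9227), (5648, 9228), (5649, 5620), (5650, 5572), (5651, 5573), (5652, 3591), (5653, 8579), (5654, 4923), (5655, 3343), (5656, 5678), (5657, 3568), (5658, 9237), (5659, 4084), (5660, 3348), (5661, 9239), (5662, 9241), (5663, 5592), (5664, 9246), (5665, 3351), (5666, 9249), (5667, 9250), (5668, 9251), (5669, 9252), (5670, 5600), (5671, 3354), (5672, 9258), (5673, 9259), (5674, 3359), (5675, 3360), (5676, 9264), (5677, 5125), (5678, 5656), (5679, 9269), (5680, 9270), (5681, 3362), (5682, 9274), (5683, 5693), (5684, 9276), (5685, 3365), (5686, 5728), (5687, 5727), (5688, 6721), (5689, 3367), (5690, 3368), (5691, 9280), (5692, 5722), (5693, 5683), (5694, 5699), (5695, 9288)]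
    ⟨e3 q5632 (flp_a L106091) q3329, e3 q5633 (flp_a L153751) q9213, e3 q5634 (flp_a L153759) q9214, e3 q5635 (flp_a L153765) q9215, e3 q5636 (flp_a L153771) q9216, e3 q5637 L106116 q5556, e3 q5638 (flp_a L106124) q3332, e3 q5639 (flp_a L153818) q9222, e3 q5640 (flp_a L153829) q9223, e3 q5641 L106146 q3341, e3 q5642 L150600 q3446, e3 q5643 L106156 q3335, e3 q5644 L106160 q3336, e3 q5645 L106166 q3337, e3 q5646 L106172 q3338, e3 q5647 (flp_a L153866) q9227, e3 q5648 (flp_a L153872) q9228, e3 q5649 (flp_a L149289) q5620, e3 q5650 L106228 q5572, e3 q5651 L106234 q5573, e3 q5652 L150492 q3591, e3 q5653 (flp_a L143933) q8579, e3 q5654 (flp_a L139744) q4923, e3 q5655 (flp_a L106270) q3343, e3 q5656 L150518 q5678, e3 q5657 L150540 q3568, e3 q5658 L153938 q9237, e3 q5659 L132207 q4084, e3 q5660 L106314 q3348, e3 q5661 (flp_a L153952) q9239, e3 q5662 L153966 q9241, e3 q5663 L106370 q5592, e3 q5664 L153990 q9246, e3 q5665 (flp_a L106414) q3351, e3 q5666 (flp_a L154017) q9249, e3 q5667 (flp_a L154025) q9250, e3 q5668 (flp_a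 L154031) q9251, e3 q5669 (flp_a L154043) q9252, e3 q5670 L106439 q5600, e3 q5671 (flp_a L106617) q3354, e3 q5672 (flp_a L154086) q9258, e3 q5673 (flp_a L154096) q9259, e3 q5674 L106635 q3359, e3 q5675 L106641 q3360, e3 q5676 L154128 q9264, e3 q5677 L120420 q5125, e3 q5678 (flp_a L150518) q5656, e3 q5679 L154156 q9269, e3 q5680 L154168 q9270, e3 q5681 (flp_a L106685) q3362, e3 q5682 (flp_a L154190) q9274, e3 q5683 (flp_a L106737) q5693, e3 q5684 L154208 q9276, e3 q5685 (flp_a L106701) q3365, e3 q5686 L150554 q5728, e3 q5687 (flp_a L151022) q5727, e3 q5688 L151034 q6721, e3 q5689 L106719 q3367, e3 q5690 L106723 q3368, e3 q5691 (flp_a L154224) q9280, e3 q5692 (flp_a L150594) q5722, e3 q5693 L106737 q5683, e3 q5694 L142754 q5699, e3 q5695 L154270 q9288, trivial⟩ (by decide +kernel)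

theorem ce_a_89 : ∀ r, r < 64 → sm ga (Qf (5696 + r)) = Qf (tab Gen.a (5696 + r)) :=
  edges_tab (sm ga) Qf (tab Gen.a) 5696 [(5696, 3371), (5697, 3395), (5698, 9292), (5699, 5694), (5700, 8487), (5701, 9271), (5702, 3374), (5703, 3375), (5704, 3376), (5705, 9301), (5706, 9302), (5707, 9303), (5708, 5709), (5709, 5708), (5710, 3378), (5711, 9311), (5712, 9312), (5713, 3383), (5714, 3384), (5715, 9317), (5716, 5132), (5717, 5623), (5718, 3385), (5719, 9322), (5720, 9310), (5721, 3389), (5722, 5692), (5723, 6796), (5724, 3391), (5725, 3392), (5726, 9328), (5727, 5687), (5728, 5686), (5729, 5732), (5730, 9335), (5731, 9294), (5732, 5729), (5733, 8479), (5734, 9323), (5735, 3398), (5736, 3399), (5737, 3400), (5738, 9343), (5739, 9344), (5740, 9345), (5741, 5742), (5742, 5741), (5743, 3403), (5744, 3404), (5745, 5746), (5746, 5745), (5747, 3409), (5748, 3410), (5749, 7471), (5750, 7476), (5751, 5798), (5752, 8437), (5753, 8438), (5754, 5755), (5755, 5754), (5756, 9362), (5757, 9365), (5758, 3416), (5759, 3417)]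
    ⟨e3 q5696 L106771 q3371, e3 q5697 L106785 q3395, e3 q5698 (flp_a L154286) q9292, e3 q5699 (flp_a L142754) q5694, e3 q5700 (flp_a L154462) q8487, e3 q5701 (flp_a L154496) q9271, e3 q5702 L106805 q3374, e3 q5703 L106809 q3375, e3 q5704 L106815 q3376, e3 q5705 (flp_a L154348) q9301, e3 q5706 (flp_a L154356) q9302, e3 q5707 (flp_a L154364) q9303, e3 q5708 (flp_a L106843) q5709, e3 q5709 L106843 q5708, e3 q5710 (flp_a L106849) q3378, e3 q5711 (flp_a L154416) q9311, e3 q5712 (flp_a L154426) q9312, e3 q5713 L106867 q3383, e3 q5714 L106873 q3384, e3 q5715 L154472 q9317, e3 q5716 (flp_a L129592) q5132, e3 q5717 (flp_a L149267) q5623, e3 q5718 (flp_a L106913) q3385, e3 q5719 L154536 q9322, e3 q5720 L154412 q9310, e3 q5721 (flp_a L106933) q3389, e3 q5722 L150594 q5692, e3 q5723 L150572 q6796, e3 q5724 L106953 q3391, e3 q5725 L106957 q3392, e3 q5726 (flp_a L154598) q9328, e3 q5727 L151022 q5687, e3 q5728 (flp_a L150554) q5686, e3 q5729 (flp_a L142692) q5732, e3 q5730 L154650 q9335, e3 q5731 (flp_a L154298) q9294, e3 q5732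 L142692 q5729, e3 q5733 L154258 q8479, e3 q5734 L154546 q9323, e3 q5735 L107027 q3398, e3 q5736 L107031 q3399, e3 q5737 L107037 q3400, e3 q5738 (flp_a L154712) q9343, e3 q5739 (flp_a L154720) q9344, e3 q5740 (flp_a L154726) q9345, e3 q5741 (flp_a L107067) q5742, e3 q5742 L107067 q5741, e3 q5743 L107087 q3403, e3 q5744 L107097 q3404, e3 q5745 (flp_a L107117) q5746, e3 q5746 L107117 q5745, e3 q5747 L107129 q3409, e3 q5748 L107137 q3410, e3 q5749 (flp_a L120615) q7471, e3 q5750 L120696 q7476, e3 q5751 (flp_a L107451) q5798, e3 q5752 (flp_a L130600) q8437, e3 q5753 (flp_a L130608) q8438, e3 q5754 (flp_a L107176) q5755, e3 q5755 L107176 q5754, e3 q5756 L154862 q9362, e3 q5757 L154878 q9365, e3 q5758 L107192 q3416, e3 q5759 L107202 q3417, trivial⟩ (by decide +kernel)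

theorem ce_a_90 : ∀ r, r < 64 → sm ga (Qf (5760 + r)) = Qf (tab Gen.a (5760 + r)) :=
  edges_tab (sm ga) Qf (tab Gen.a) 5760 [(5760, 5525), (5761, 5569), (5762, 9374), (5763, 5765), (5764, 9377), (5765, 5763), (5766, 3418), (5767, 5782), (5768, 9381), (5769, 3420), (5770, 5785), (5771, 9385), (5772, 4462), (5773, 4474), (5774, 3424), (5775, 4162), (5776, 9391), (5777, 3425), (5778, 4168), (5779, 9396), (5780, 7375), (5781, 3427), (5782, 5767), (5783, 7406), (5784, 3429), (5785, 5770), (5786, 3442), (5787, 3443), (5788, 5526), (5789, 5571), (5790, 5790), (5791, 3438), (5792, 3440), (5793, 3441), (5794, 5439), (5795, 5527), (5796, 5483), (5797, 5570), (5798, 5751), (5799, 7456), (5800, 9411), (5801, 9412), (5802, 7454), (5803, 7455), (5804, 5805), (5805, 5804), (5806, 9186), (5807, 5809), (5808, 9226), (5809, 5807), (5810, 5832), (5811, 9430), (5812, 5837), (5813, 9434), (5814, 9437), (5815, 3450), (5816, 9441), (5817, 9442), (5818, 9446), (5819, 3453), (5820, 9450), (5821, 9451), (5822, 3454), (5823, 9456)]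
    ⟨e3 q5760 L120523 q5525, e3 q5761 L151246 q5569, e3 q5762 L154942 q9374, e3 q5763 (flp_a L107246) q5765, e3 q5764 L154964 q9377, e3 q5765 L107246 q5763, e3 q5766 (flp_a L107256) q3418, e3 q5767 (flp_a L107355) q5782, e3 q5768 L154992 q9381, e3 q5769 (flp_a L107272) q3420, e3 q5770 (flp_a L107377) q5785, e3 q5771 L155012 q9385, e3 q5772 (flp_a L107298) q4462, e3 q5773 L150263 q4474, e3 q5774 (flp_a L107308) q3424, e3 q5775 L107318 q4162, e3 q5776 (flp_a L155066) q9391, e3 q5777 (flp_a L107328) q3425, e3 q5778 L150301 q4168, e3 q5779 (flp_a L155120) q9396, e3 q5780 L120534 q7375, e3 q5781 L107346 q3427, e3 q5782 L107355 q5767, e3 q5783 (flp_a L118394) q7406, e3 q5784 L107368 q3429, e3 q5785 L107377 q5770, e3 q5786 L107386 q3442, e3 q5787 L107394 q3443, e3 q5788 L119817 q5526, e3 q5789 L151183 q5571, e3 q5790 L107410 q5790, e3 q5791 L107413 q3438, e3 q5792 L107419 q3440, e3 q5793 L107425 q3441, e3 q5794 (flp_a L120521) q5439, e3 q5795 L120525 q5527, e3 q5796 (flp_a L151180) q5483, e3 q5797 L151248 q5570, e3 q5798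 L107451 q5751, e3 q5799 (flp_a L118836) q7456, e3 q5800 (flp_a L155236) q9411, e3 q5801 (flp_a L155245) q9412, e3 q5802 (flp_a L118816) q7454, e3 q5803 (flp_a L118826) q7455, e3 q5804 (flp_a L107499) q5805, e3 q5805 L107499 q5804, e3 q5806 (flp_a L153544) q9186, e3 q5807 (flp_a L107531) q5809, e3 q5808 (flp_a L153856) q9226, e3 q5809 L107531 q5807, e3 q5810 (flp_a L107659) q5832, e3 q5811 L155384 q9430, e3 q5812 (flp_a L107691) q5837, e3 q5813 L155402 q9434, e3 q5814 L155414 q9437, e3 q5815 (flp_a L107581) q3450, e3 q5816 (flp_a L155429) q9441, e3 q5817 (flp_a L155433) q9442, e3 q5818 L155459 q9446, e3 q5819 (flp_a L107595) q3453, e3 q5820 (flp_a L155474) q9450, e3 q5821 (flp_a L155478) q9451, e3 q5822 (flp_a L107603) q3454, e3 q5823 (flp_a L155556) q9456, trivial⟩ (by decide +kernel)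

theorem ce_a_91 : ∀ r, r < 64 → sm ga (Qf (5824 + r)) = Qf (tab Gen.a (5824 + r)) :=
  edges_tab (sm ga) Qf (tab Gen.a) 5824 [(5824, 9457), (5825, 3455), (5826, 9461), (5827, 9462), (5828, 7940), (5829, 3457), (5830, 3458), (5831, 9465), (5832, 5810), (5833, 7998), (5834, 3460), (5835, 3461), (5836, 9470), (5837, 5812), (5838, 7497), (5839, 7941), (5840, 9478), (5841, 7572), (5842, 7999), (5843, 7511), (5844, 9486), (5845, 7527), (5846, 3468), (5847, 4200), (5848, 5877), (5849, 3469), (5850, 4218), (5851, 5886), (5852, 8554), (5853, 3471), (5854, 9495), (5855, 5901), (5856, 9500), (5857, 3473), (5858, 9504), (5859, 9505), (5860, 8563), (5861, 3475), (5862, 9511), (5863, 5923), (5864, 9516), (5865, 3477), (5866, 9520), (5867, 9521), (5868, 4487), (5869, 4544), (5870, 4522), (5871, 4509), (5872, 9527), (5873, 3484), (5874, 4184), (5875, 4201), (5876, 9533), (5877, 5848), (5878, 3485), (5879, 4228), (5880, 9538), (5881, 9540), (5882, 3488), (5883, 4192), (5884, 4217), (5885, 9546), (5886, 5851), (5887, 3489)]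
    ⟨e3 q5824 (flp_a L155564) q9457, e3 q5825 (flp_a L107619) q3455, e3 q5826 (flp_a L155602) q9461, e3 q5827 (flp_a L155610) q9462, e3 q5828 (flp_a L123412) q7940, e3 q5829 L107639 q3457, e3 q5830 L107643 q3458, e3 q5831 (flp_a L155636) q9465, e3 q5832 L107659 q5810, e3 q5833 (flp_a L123784) q7998, e3 q5834 L107671 q3460, e3 q5835 L107675 q3461, e3 q5836 (flp_a L155672) q9470, e3 q5837 L107691 q5812, e3 q5838 (flp_a L120838) q7497, e3 q5839 (flp_a L123418) q7941, e3 q5840 L155728 q9478, e3 q5841 (flp_a L156056) q7572, e3 q5842 (flp_a L123792) q7999, e3 q5843 (flp_a L150674) q7511, e3 q5844 L155774 q9486, e3 q5845 (flp_a L156036) q7527, e3 q5846 (flp_a L107727) q3468, e3 q5847 L107739 q4200, e3 q5848 (flp_a L107955) q5877, e3 q5849 (flp_a L107753) q3469, e3 q5850 L150090 q4218, e3 q5851 (flp_a L108003) q5886, e3 q5852 (flp_a L143709) q8554, e3 q5853 L107781 q3471, e3 q5854 (flp_a L155834) q9495, e3 q5855 (flp_a L108077) q5901, e3 q5856 L155860 q9500, e3 q5857 (flp_a L107805) q3473, e3 q5858 (flp_a L155882) q9504,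 e3 q5859 (flp_a L155888) q9505, e3 q5860 L148058 q8563, e3 q5861 L107827 q3475, e3 q5862 (flp_a L155932) q9511, e3 q5863 (flp_a L108196) q5923, e3 q5864 L155958 q9516, e3 q5865 (flp_a L107853) q3477, e3 q5866 (flp_a L155986) q9520, e3 q5867 (flp_a L155992) q9521, e3 q5868 L107875 q4487, e3 q5869 L151222 q4544, e3 q5870 (flp_a L150351) q4522, e3 q5871 L150966 q4509, e3 q5872 L156060 q9527, e3 q5873 L107925 q3484, e3 q5874 L107937 q4184, e3 q5875 L107941 q4201, e3 q5876 L156106 q9533, e3 q5877 L107955 q5848, e3 q5878 (flp_a L107961) q3485, e3 q5879 L151214 q4228, e3 q5880 (flp_a L156154) q9538, e3 q5881 L156170 q9540, e3 q5882 L107983 q3488, e3 q5883 L150299 q4192, e3 q5884 L150291 q4217, e3 q5885 L156216 q9546, e3 q5886 L108003 q5851, e3 q5887 (flp_a L108009) q3489, trivial⟩ (by decide +kernel)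

theorem ce_a_92 : ∀ r, r < 64 → sm ga (Qf (5888 + r)) = Qf (tab Gen.a (5888 + r)) :=
  edges_tab (sm ga) Qf (tab Gen.a) 5888 [(5888, 4211), (5889, 9551), (5890, 3490), (5891, 6369), (5892, 9553), (5893, 9234), (5894, 5401), (5895, 3493), (5896, 3494), (5897, 9563), (5898, 9559), (5899, 9560), (5900, 9561), (5901, 5855), (5902, 3495), (5903, 9572), (5904, 5911), (5905, 9576), (5906, 9579), (5907, 3498), (5908, 3499), (5909, 9584), (5910, 9585), (5911, 5904), (5912, 3500), (5913, 6379), (5914, 9197), (5915, 9591), (5916, 5417), (5917, 3503), (5918, 3504), (5919, 9601), (5920, 9597), (5921, 9598), (5922, 9599), (5923, 5863), (5924, 3505), (5925, 9610), (5926, 5933), (5927, 9614), (5928, 9617), (5929, 3508), (5930, 3509), (5931, 9622), (5932, 9623), (5933, 5926), (5934, 9629), (5935, 3512), (5936, 5944), (5937, 9633), (5938, 9636), (5939, 3515), (5940, 5947), (5941, 9640), (5942, 3517), (5943, 9644), (5944, 5936), (5945, 3519), (5946, 9650), (5947, 5940), (5948, 5200), (5949, 5208), (5950, 3524), (5951, 3527)]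
    ⟨e3 q5888 L151205 q4211, e3 q5889 (flp_a L156264) q9551, e3 q5890 (flp_a L108023) q3490, e3 q5891 L120406 q6369, e3 q5892 (flp_a L156284) q9553, e3 q5893 L153914 q9234, e3 q5894 L119833 q5401, e3 q5895 L108045 q3493, e3 q5896 L108049 q3494, e3 q5897 L156364 q9563, e3 q5898 (flp_a L156340) q9559, e3 q5899 (flp_a L156346) q9560, e3 q5900 (flp_a L156354) q9561, e3 q5901 L108077 q5855, e3 q5902 (flp_a L108085) q3495, e3 q5903 (flp_a L156416) q9572, e3 q5904 (flp_a L108136) q5911, e3 q5905 L156440 q9576, e3 q5906 L156454 q9579, e3 q5907 L108111 q3498, e3 q5908 L108117 q3499, e3 q5909 (flp_a L156488) q9584, e3 q5910 (flp_a L156492) q9585, e3 q5911 L108136 q5904, e3 q5912 (flp_a L108142) q3500, e3 q5913 L112139 q6379, e3 q5914 L153634 q9197, e3 q5915 (flp_a L156531) q9591, e3 q5916 (flp_a L149309) q5417, e3 q5917 L108164 q3503, e3 q5918 L108168 q3504, e3 q5919 L156611 q9601, e3 q5920 (flp_a L156587) q9597, e3 q5921 (flp_a L156593) q9598, e3 q5922 (flp_a L156601) q9599, e3 q5923 L108196 q5863, e3 q5924 (flp_a L108204)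 q3505, e3 q5925 (flp_a L156663) q9610, e3 q5926 (flp_a L108255) q5933, e3 q5927 L156689 q9614, e3 q5928 L156703 q9617, e3 q5929 L108230 q3508, e3 q5930 L108236 q3509, e3 q5931 (flp_a L156741) q9622, e3 q5932 (flp_a L156745) q9623, e3 q5933 L108255 q5926, e3 q5934 L156782 q9629, e3 q5935 L108269 q3512, e3 q5936 (flp_a L108320) q5944, e3 q5937 (flp_a L156890) q9633, e3 q5938 L156904 q9636, e3 q5939 L108288 q3515, e3 q5940 (flp_a L108351) q5947, e3 q5941 (flp_a L156929) q9640, e3 q5942 L108301 q3517, e3 q5943 L156951 q9644, e3 q5944 L108320 q5936, e3 q5945 L108332 q3519, e3 q5946 L156988 q9650, e3 q5947 L108351 q5940, e3 q5948 (flp_a L119511) q5200, e3 q5949 L148098 q5208, e3 q5950 L108451 q3524, e3 q5951 L108467 q3527, trivial⟩ (by decide +kernel)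

theorem ce_a_93 : ∀ r, r < 64 → sm ga (Qf (5952 + r)) = Qf (tab Gen.a (5952 + r)) :=
  edges_tab (sm ga) Qf (tab Gen.a) 5952 [(5952, 6015), (5953, 9656), (5954, 3531), (5955, 8083), (5956, 9659), (5957, 6031), (5958, 9663), (5959, 3535), (5960, 8124), (5961, 9666), (5962, 8555), (5963, 9408), (5964, 3538), (5965, 9671), (5966, 6057), (5967, 9674), (5968, 3540), (5969, 9678), (5970, 5976), (5971, 9681), (5972, 3542), (5973, 3543), (5974, 9685), (5975, 9686), (5976, 5970), (5977, 8564), (5978, 9409), (5979, 3546), (5980, 9693), (5981, 6095), (5982, 9696), (5983, 3548), (5984, 9700), (5985, 5991), (5986, 9703), (5987, 3550), (5988, 3551), (5989, 9707), (5990, 9708), (5991, 5985), (5992, 5995), (5993, 5997), (5994, 3556), (5995, 5992), (5996, 3559), (5997, 5993), (5998, 3562), (5999, 6142), (6000, 9715), (6001, 3563), (6002, 9719), (6003, 9720), (6004, 3566), (6005, 6155), (6006, 9723), (6007, 3567), (6008, 9727), (6009, 9728), (6010, 3572), (6011, 9730), (6012, 8598), (6013, 8889), (6014, 8116), (6015, 5952)]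
    ⟨e3 q5952 (flp_a L108995) q6015, e3 q5953 L157041 q9656, e3 q5954 (flp_a L108513) q3531, e3 q5955 (flp_a L157073) q8083, e3 q5956 (flp_a L157065) q9659, e3 q5957 (flp_a L109093) q6031, e3 q5958 L157105 q9663, e3 q5959 (flp_a L108551) q3535, e3 q5960 L157077 q8124, e3 q5961 (flp_a L157127) q9666, e3 q5962 (flp_a L143721) q8555, e3 q5963 (flp_a L155208) q9408, e3 q5964 L108591 q3538, e3 q5965 (flp_a L157165) q9671, e3 q5966 (flp_a L109249) q6057, e3 q5967 L157185 q9674, e3 q5968 (flp_a L108613) q3540, e3 q5969 (flp_a L157201) q9678, e3 q5970 (flp_a L108645) q5976, e3 q5971 L157213 q9681, e3 q5972 L108627 q3542, e3 q5973 L108631 q3543, e3 q5974 (flp_a L157231) q9685, e3 q5975 (flp_a L157235) q9686, e3 q5976 L108645 q5970, e3 q5977 L148050 q8564, e3 q5978 (flp_a L155218) q9409, e3 q5979 L108663 q3546, e3 q5980 (flp_a L157275) q9693, e3 q5981 (flp_a L109438) q6095, e3 q5982 L157295 q9696, e3 q5983 (flp_a L108685) q3548, e3 q5984 (flp_a L157311) q9700, e3 q5985 (flp_a L108717) q5991, e3 q5986 L157323 q9703, e3 q5987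 L108699 q3550, e3 q5988 L108703 q3551, e3 q5989 (flp_a L157343) q9707, e3 q5990 (flp_a L157347) q9708, e3 q5991 L108717 q5985, e3 q5992 (flp_a L118990) q5995, e3 q5993 (flp_a L148159) q5997, e3 q5994 L108775 q3556, e3 q5995 L118990 q5992, e3 q5996 L108809 q3559, e3 q5997 L148159 q5993, e3 q5998 L108847 q3562, e3 q5999 L119469 q6142, e3 q6000 L157401 q9715, e3 q6001 (flp_a L108879) q3563, e3 q6002 (flp_a L157435) q9719, e3 q6003 (flp_a L157441) q9720, e3 q6004 L108905 q3566, e3 q6005 L148081 q6155, e3 q6006 L157483 q9723, e3 q6007 (flp_a L108937) q3567, e3 q6008 (flp_a L157517) q9727, e3 q6009 (flp_a L157523) q9728, e3 q6010 L108973 q3572, e3 q6011 L157541 q9730, e3 q6012 (flp_a L144157) q8598, e3 q6013 (flp_a L145957) q8889, e3 q6014 L150850 q8116, e3 q6015 L108995 q5952, trivial⟩ (by decide +kernel)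

theorem ce_a_94 : ∀ r, r < 64 → sm ga (Qf (6016 + r)) = Qf (tab Gen.a (6016 + r)) :=
  edges_tab (sm ga) Qf (tab Gen.a) 6016 [(6016, 3573), (6017, 9737), (6018, 6025), (6019, 9741), (6020, 8584), (6021, 3576), (6022, 3577), (6023, 9744), (6024, 9745), (6025, 6018), (6026, 3582), (6027, 9750), (6028, 8602), (6029, 8895), (6030, 8071), (6031, 5957), (6032, 3583), (6033, 9757), (6034, 6041), (6035, 9761), (6036, 8575), (6037, 3586), (6038, 3587), (6039, 9764), (6040, 9765), (6041, 6034), (6042, 3590), (6043, 7943), (6044, 6046), (6045, 6476), (6046, 6044), (6047, 3596), (6048, 3597), (6049, 3598), (6050, 9775), (6051, 3595), (6052, 6472), (6053, 9778), (6054, 9773), (6055, 8256), (6056, 9774), (6057, 5966), (6058, 9786), (6059, 9789), (6060, 3601), (6061, 9794), (6062, 6078), (6063, 9799), (6064, 3603), (6065, 9800), (6066, 9801), (6067, 3604), (6068, 3909), (6069, 5530), (6070, 8582), (6071, 9808), (6072, 3607), (6073, 3608), (6074, 6503), (6075, 9812), (6076, 9813), (6077, 9814), (6078, 6062), (6079, 9822)]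
    ⟨e3 q6016 (flp_a L109001) q3573, e3 q6017 (flp_a L157593) q9737, e3 q6018 (flp_a L109043) q6025, e3 q6019 L157623 q9741, e3 q6020 (flp_a L149227) q8584, e3 q6021 L109025 q3576, e3 q6022 L109029 q3577, e3 q6023 (flp_a L157647) q9744, e3 q6024 (flp_a L157651) q9745, e3 q6025 L109043 q6018, e3 q6026 L109071 q3582, e3 q6027 L157673 q9750, e3 q6028 (flp_a L149512) q8602, e3 q6029 L149210 q8895, e3 q6030 L149496 q8071, e3 q6031 L109093 q5957, e3 q6032 (flp_a L109099) q3583, e3 q6033 (flp_a L157727) q9757, e3 q6034 (flp_a L109141) q6041, e3 q6035 L157757 q9761, e3 q6036 (flp_a L143907) q8575, e3 q6037 L109123 q3586, e3 q6038 L109127 q3587, e3 q6039 (flp_a L157781) q9764, e3 q6040 (flp_a L157785) q9765, e3 q6041 L109141 q6034, e3 q6042 L109153 q3590, e3 q6043 (flp_a L123432) q7943, e3 q6044 (flp_a L109183) q6046, e3 q6045 L155490 q6476, e3 q6046 L109183 q6044, e3 q6047 L109199 q3596, e3 q6048 L109205 q3597, e3 q6049 L109209 q3598, e3 q6050 L157841 q9775, e3 q6051 (flp_a L109217) q3595, e3 q6052 (flp_a L155504) q6472,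 e3 q6053 (flp_a L157853) q9778, e3 q6054 (flp_a L157825) q9773, e3 q6055 (flp_a L129040) q8256, e3 q6056 (flp_a L157835) q9774, e3 q6057 L109249 q5966, e3 q6058 L157903 q9786, e3 q6059 L157915 q9789, e3 q6060 L109261 q3601, e3 q6061 (flp_a L157937) q9794, e3 q6062 (flp_a L109326) q6078, e3 q6063 L157955 q9799, e3 q6064 (flp_a L109277) q3603, e3 q6065 (flp_a L157965) q9800, e3 q6066 (flp_a L157973) q9801, e3 q6067 (flp_a L109285) q3604, e3 q6068 L120563 q3909, e3 q6069 L120536 q5530, e3 q6070 (flp_a L151002) q8582, e3 q6071 L158021 q9808, e3 q6072 L109297 q3607, e3 q6073 L109301 q3608, e3 q6074 (flp_a L112082) q6503, e3 q6075 (flp_a L158035) q9812, e3 q6076 (flp_a L158041) q9813, e3 q6077 (flp_a L158045) q9814, e3 q6078 L109326 q6062, e3 q6079 L158097 q9822, trivial⟩ (by decide +kernel)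

theorem ce_a_95 : ∀ r, r < 64 → sm ga (Qf (6080 + r)) = Qf (tab Gen.a (6080 + r)) :=
  edges_tab (sm ga) Qf (tab Gen.a) 6080 [(6080, 3613), (6081, 8001), (6082, 6510), (6083, 6084), (6084, 6083), (6085, 3618), (6086, 3619), (6087, 3620), (6088, 9829), (6089, 3617), (6090, 6506), (6091, 9772), (6092, 9827), (6093, 8259), (6094, 9828), (6095, 5981), (6096, 9839), (6097, 9842), (6098, 3623), (6099, 9847), (6100, 6116), (6101, 9852), (6102, 3625), (6103, 9853), (6104, 9854), (6105, 3626), (6106, 3937), (6107, 8573), (6108, 5574), (6109, 9861), (6110, 3629), (6111, 3630), (6112, 6468), (6113, 9865), (6114, 9866), (6115, 9867), (6116, 6100), (6117, 9875), (6118, 5029), (6119, 6143), (6120, 3634), (6121, 9879), (6122, 9880), (6123, 9881), (6124, 3637), (6125, 9885), (6126, 6148), (6127, 5030), (6128, 6156), (6129, 3640), (6130, 9884), (6131, 9883), (6132, 9890), (6133, 3643), (6134, 9892), (6135, 6161), (6136, 3645), (6137, 3648), (6138, 9896), (6139, 9897), (6140, 5015), (6141, 9898), (6142, 5999), (6143, 6119)]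
    ⟨e3 q6080 L109346 q3613, e3 q6081 (flp_a L123834) q8001, e3 q6082 (flp_a L112160) q6510, e3 q6083 (flp_a L109372) q6084, e3 q6084 L109372 q6083, e3 q6085 L109388 q3618, e3 q6086 L109394 q3619, e3 q6087 L109398 q3620, e3 q6088 L158147 q9829, e3 q6089 (flp_a L109406) q3617, e3 q6090 (flp_a L112127) q6506, e3 q6091 (flp_a L157821) q9772, e3 q6092 (flp_a L158131) q9827, e3 q6093 L147701 q8259, e3 q6094 (flp_a L158141) q9828, e3 q6095 L109438 q5981, e3 q6096 L158201 q9839, e3 q6097 L158213 q9842, e3 q6098 L109450 q3623, e3 q6099 (flp_a L158235) q9847, e3 q6100 (flp_a L109513) q6116, e3 q6101 L158253 q9852, e3 q6102 (flp_a L109466) q3625, e3 q6103 (flp_a L158263) q9853, e3 q6104 (flp_a L158271) q9854, e3 q6105 (flp_a L109474) q3626, e3 q6106 L120567 q3937, e3 q6107 L143895 q8573, e3 q6108 L150994 q5574, e3 q6109 L158321 q9861, e3 q6110 L109488 q3629, e3 q6111 L109492 q3630, e3 q6112 L155510 q6468, e3 q6113 (flp_a L158335) q9865, e3 q6114 (flp_a L158341) q9866, e3 q6115 (flp_a L158345) q9867, e3 q6116 L109513 q6100,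 e3 q6117 L158397 q9875, e3 q6118 L119809 q5029, e3 q6119 (flp_a L109705) q6143, e3 q6120 (flp_a L109553) q3634, e3 q6121 (flp_a L158419) q9879, e3 q6122 (flp_a L158427) q9880, e3 q6123 (flp_a L158433) q9881, e3 q6124 L109572 q3637, e3 q6125 L158467 q9885, e3 q6126 (flp_a L109764) q6148, e3 q6127 L147515 q5030, e3 q6128 (flp_a L109836) q6156, e3 q6129 (flp_a L109612) q3640, e3 q6130 (flp_a L158459) q9884, e3 q6131 (flp_a L158449) q9883, e3 q6132 (flp_a L158490) q9890, e3 q6133 L109631 q3643, e3 q6134 L158504 q9892, e3 q6135 (flp_a L109895) q6161, e3 q6136 L109645 q3645, e3 q6137 L109657 q3648, e3 q6138 (flp_a L158525) q9896, e3 q6139 (flp_a L158535) q9897, e3 q6140 (flp_a L120253) q5015, e3 q6141 (flp_a L158545) q9898, e3 q6142 (flp_a L119469) q5999, e3 q6143 L109705 q6119, trivial⟩ (by decide +kernel)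

theorem ce_a_96 : ∀ r, r < 64 → sm ga (Qf (6144 + r)) = Qf (tab Gen.a (6144 + r)) :=
  edges_tab (sm ga) Qf (tab Gen.a) 6144 [(6144, 3651), (6145, 9906), (6146, 9907), (6147, 9762), (6148, 6126), (6149, 3654), (6150, 3656), (6151, 9913), (6152, 9914), (6153, 9915), (6154, 5021), (6155, 6005), (6156, 6128), (6157, 3660), (6158, 9923), (6159, 9742), (6160, 9924), (6161, 6135), (6162, 7167), (6163, 7270), (6164, 6185), (6165, 6167), (6166, 6189), (6167, 6165), (6168, 6186), (6169, 7225), (6170, 6190), (6171, 7326), (6172, 3670), (6173, 9945), (6174, 9946), (6175, 9951), (6176, 9954), (6177, 3673), (6178, 9958), (6179, 9959), (6180, 3674), (6181, 9964), (6182, 9965), (6183, 6963), (6184, 3677), (6185, 6164), (6186, 6168), (6187, 6975), (6188, 3680), (6189, 6166), (6190, 6170), (6191, 6191), (6192, 6192), (6193, 9975), (6194, 6194), (6195, 6195), (6196, 9979), (6197, 9531), (6198, 3686), (6199, 9985), (6200, 6261), (6201, 9989), (6202, 3688), (6203, 9993), (6204, 9994), (6205, 9544), (6206, 3690), (6207, 10002)]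
    ⟨e3 q6144 (flp_a L109747) q3651, e3 q6145 (flp_a L158603) q9906, e3 q6146 (flp_a L158607) q9907, e3 q6147 (flp_a L157773) q9762, e3 q6148 L109764 q6126, e3 q6149 L109776 q3654, e3 q6150 L109784 q3656, e3 q6151 (flp_a L158652) q9913, e3 q6152 (flp_a L158662) q9914, e3 q6153 (flp_a L158672) q9915, e3 q6154 L148504 q5021, e3 q6155 (flp_a L148081) q6005, e3 q6156 L109836 q6128, e3 q6157 (flp_a L109878) q3660, e3 q6158 (flp_a L158730) q9923, e3 q6159 (flp_a L157639) q9742, e3 q6160 (flp_a L158734) q9924, e3 q6161 L109895 q6135, e3 q6162 (flp_a L116881) q7167, e3 q6163 (flp_a L117525) q7270, e3 q6164 (flp_a L110204) q6185, e3 q6165 (flp_a L110089) q6167, e3 q6166 (flp_a L150962) q6189, e3 q6167 L110089 q6165, e3 q6168 (flp_a L110210) q6186, e3 q6169 (flp_a L117259) q7225, e3 q6170 (flp_a L150274) q6190, e3 q6171 (flp_a L117875) q7326, e3 q6172 (flp_a L110127) q3670, e3 q6173 (flp_a L158881) q9945, e3 q6174 (flp_a L158889) q9946, e3 q6175 L158925 q9951, e3 q6176 L158944 q9954, e3 q6177 (flp_a L110152) q3673, e3 q6178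 (flp_a L158975) q9958, e3 q6179 (flp_a L158981) q9959, e3 q6180 (flp_a L110168) q3674, e3 q6181 (flp_a L159019) q9964, e3 q6182 (flp_a L159025) q9965, e3 q6183 (flp_a L115577) q6963, e3 q6184 L110194 q3677, e3 q6185 L110204 q6164, e3 q6186 L110210 q6168, e3 q6187 (flp_a L115657) q6975, e3 q6188 L110232 q3680, e3 q6189 L150962 q6166, e3 q6190 L150274 q6170, e3 q6191 L110258 q6191, e3 q6192 L110266 q6192, e3 q6193 L159114 q9975, e3 q6194 L151155 q6194, e3 q6195 L151160 q6195, e3 q6196 L159152 q9979, e3 q6197 (flp_a L156096) q9531, e3 q6198 L110307 q3686, e3 q6199 (flp_a L159195) q9985, e3 q6200 (flp_a L110653) q6261, e3 q6201 L159237 q9989, e3 q6202 (flp_a L110331) q3688, e3 q6203 (flp_a L159267) q9993, e3 q6204 (flp_a L159273) q9994, e3 q6205 (flp_a L156206) q9544, e3 q6206 L110357 q3690, e3 q6207 (flp_a L159331) q10002, trivial⟩ (by decide +kernel)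

theorem ce_a_97 : ∀ r, r < 64 → sm ga (Qf (6208 + r)) = Qf (tab Gen.a (6208 + r)) :=
  edges_tab (sm ga) Qf (tab Gen.a) 6208 [(6208, 6273), (6209, 10006), (6210, 3692), (6211, 10010), (6212, 10011), (6213, 3693), (6214, 10015), (6215, 6917), (6216, 7282), (6217, 10022), (6218, 3695), (6219, 10026), (6220, 10027), (6221, 6295), (6222, 10034), (6223, 3697), (6224, 10038), (6225, 6231), (6226, 7281), (6227, 3699), (6228, 3700), (6229, 10043), (6230, 10044), (6231, 6225), (6232, 3701), (6233, 10049), (6234, 7177), (6235, 6925), (6236, 10056), (6237, 3703), (6238, 10060), (6239, 10061), (6240, 6322), (6241, 10068), (6242, 3705), (6243, 10072), (6244, 6250), (6245, 7180), (6246, 3707), (6247, 3708), (6248, 10077), (6249, 10078), (6250, 6244), (6251, 8227), (6252, 8243), (6253, 4186), (6254, 3712), (6255, 3713), (6256, 10088), (6257, 6290), (6258, 9984), (6259, 10086), (6260, 4243), (6261, 6200), (6262, 10099), (6263, 8246), (6264, 8231), (6265, 4194), (6266, 3718), (6267, 3719), (6268, 10107), (6269, 6317), (6270, 10001),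 (6271, 10105)]
    ⟨e3 q6208 (flp_a L110721) q6273, e3 q6209 L159359 q10006, e3 q6210 (flp_a L110381) q3692, e3 q6211 (flp_a L159389) q10010, e3 q6212 (flp_a L159395) q10011, e3 q6213 (flp_a L110399) q3693, e3 q6214 (flp_a L159425) q10015, e3 q6215 (flp_a L115343) q6917, e3 q6216 (flp_a L117625) q7282, e3 q6217 L159469 q10022, e3 q6218 L110423 q3695, e3 q6219 (flp_a L159495) q10026, e3 q6220 (flp_a L159503) q10027, e3 q6221 (flp_a L110865) q6295, e3 q6222 L159539 q10034, e3 q6223 (flp_a L110445) q3697, e3 q6224 (flp_a L159563) q10038, e3 q6225 (flp_a L110493) q6231, e3 q6226 (flp_a L117611) q7281, e3 q6227 L110469 q3699, e3 q6228 L110475 q3700, e3 q6229 (flp_a L159591) q10043, e3 q6230 (flp_a L159595) q10044, e3 q6231 L110493 q6225, e3 q6232 (flp_a L110499) q3701, e3 q6233 (flp_a L159625) q10049, e3 q6234 L116963 q7177, e3 q6235 (flp_a L115395) q6925, e3 q6236 L159669 q10056, e3 q6237 L110523 q3703, e3 q6238 (flp_a L159695) q10060, e3 q6239 (flp_a L159703) q10061, e3 q6240 (flp_a L111033) q6322, e3 q6241 L159739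 q10068, e3 q6242 (flp_a L110545) q3705, e3 q6243 (flp_a L159763) q10072, e3 q6244 (flp_a L110593) q6250, e3 q6245 (flp_a L116981) q7180, e3 q6246 L110569 q3707, e3 q6247 L110575 q3708, e3 q6248 (flp_a L159791) q10077, e3 q6249 (flp_a L159795) q10078, e3 q6250 L110593 q6244, e3 q6251 (flp_a L128791) q8227, e3 q6252 (flp_a L128901) q8243, e3 q6253 L115822 q4186, e3 q6254 L110617 q3712, e3 q6255 L110621 q3713, e3 q6256 L159869 q10088, e3 q6257 (flp_a L110839) q6290, e3 q6258 L159189 q9984, e3 q6259 (flp_a L159859) q10086, e3 q6260 (flp_a L168067) q4243, e3 q6261 L110653 q6200, e3 q6262 L159932 q10099, e3 q6263 (flp_a L128941) q8246, e3 q6264 (flp_a L128823) q8231, e3 q6265 L148988 q4194, e3 q6266 L110685 q3718, e3 q6267 L110689 q3719, e3 q6268 L159998 q10107, e3 q6269 (flp_a L111007) q6317, e3 q6270 L159325 q10001, e3 q6271 (flp_a L159988) q10105, trivial⟩ (by decide +kernel)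

theorem ce_a_98 : ∀ r, r < 64 → sm ga (Qf (6272 + r)) = Qf (tab Gen.a (6272 + r)) :=
  edges_tab (sm ga) Qf (tab Gen.a) 6272 [(6272, 4264), (6273, 6208), (6274, 10118), (6275, 3722), (6276, 3723), (6277, 6279), (6278, 7077), (6279, 6277), (6280, 4279), (6281, 4280), (6282, 4281), (6283, 3728), (6284, 3729), (6285, 3730), (6286, 10130), (6287, 3727), (6288, 9535), (6289, 9534), (6290, 6257), (6291, 10126), (6292, 10127), (6293, 10128), (6294, 10142), (6295, 6221), (6296, 3731), (6297, 6348), (6298, 10148), (6299, 3733), (6300, 10151), (6301, 7058), (6302, 3735), (6303, 3736), (6304, 7049), (6305, 6306), (6306, 6305), (6307, 4330), (6308, 4331), (6309, 4332), (6310, 3741), (6311, 3742), (6312, 3743), (6313, 10163), (6314, 3740), (6315, 9548), (6316, 9547), (6317, 6269), (6318, 10159), (6319, 10160), (6320, 10161), (6321, 10175), (6322, 6240), (6323, 3744), (6324, 6368), (6325, 10181), (6326, 3746), (6327, 10184), (6328, 7086), (6329, 4278), (6330, 3748), (6331, 3749), (6332, 3750), (6333, 10189), (6334, 10190), (6335,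 10191)]
    ⟨e3 q6272 L156854 q4264, e3 q6273 L110721 q6208, e3 q6274 L160062 q10118, e3 q6275 L110737 q3722, e3 q6276 L110745 q3723, e3 q6277 (flp_a L110765) q6279, e3 q6278 (flp_a L116387) q7077, e3 q6279 L110765 q6277, e3 q6280 L110775 q4279, e3 q6281 L110783 q4280, e3 q6282 L110791 q4281, e3 q6283 L110799 q3728, e3 q6284 L110805 q3729, e3 q6285 L110811 q3730, e3 q6286 L160158 q10130, e3 q6287 (flp_a L110821) q3727, e3 q6288 (flp_a L156132) q9535, e3 q6289 (flp_a L156120) q9534, e3 q6290 L110839 q6257, e3 q6291 (flp_a L160130) q10126, e3 q6292 (flp_a L160136) q10127, e3 q6293 (flp_a L160146) q10128, e3 q6294 L160246 q10142, e3 q6295 L110865 q6221, e3 q6296 (flp_a L110871) q3731, e3 q6297 (flp_a L111177) q6348, e3 q6298 L160274 q10148, e3 q6299 (flp_a L110885) q3733, e3 q6300 (flp_a L160292) q10151, e3 q6301 L116211 q7058, e3 q6302 L110903 q3735, e3 q6303 L110911 q3736, e3 q6304 (flp_a L116153) q7049, e3 q6305 (flp_a L110931) q6306, e3 q6306 L110931 q6305, e3 q6307 L110943 q4330, e3 q6308 L110951 q4331, e3 q6309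 L110959 q4332, e3 q6310 L110967 q3741, e3 q6311 L110973 q3742, e3 q6312 L110979 q3743, e3 q6313 L160388 q10163, e3 q6314 (flp_a L110989) q3740, e3 q6315 (flp_a L156242) q9548, e3 q6316 (flp_a L156230) q9547, e3 q6317 L111007 q6269, e3 q6318 (flp_a L160360) q10159, e3 q6319 (flp_a L160366) q10160, e3 q6320 (flp_a L160376) q10161, e3 q6321 L160476 q10175, e3 q6322 L111033 q6240, e3 q6323 (flp_a L111039) q3744, e3 q6324 (flp_a L111293) q6368, e3 q6325 L160504 q10181, e3 q6326 (flp_a L111053) q3746, e3 q6327 (flp_a L160522) q10184, e3 q6328 L116445 q7086, e3 q6329 L111073 q4278, e3 q6330 L111079 q3748, e3 q6331 L111083 q3749, e3 q6332 L111090 q3750, e3 q6333 (flp_a L160564) q10189, e3 q6334 (flp_a L160568) q10190, e3 q6335 (flp_a L160574) q10191, trivial⟩ (by decide +kernel)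

theorem ce_a_99 : ∀ r, r < 64 → sm ga (Qf (6336 + r)) = Qf (tab Gen.a (6336 + r)) :=
  edges_tab (sm ga) Qf (tab Gen.a) 6336 [(6336, 10192), (6337, 6339), (6338, 10204), (6339, 6337), (6340, 3752), (6341, 10208), (6342, 10210), (6343, 3754), (6344, 10214), (6345, 10215), (6346, 9580), (6347, 3756), (6348, 6297), (6349, 4329), (6350, 3758), (6351, 3759), (6352, 3760), (6353, 10224), (6354, 10225), (6355, 10226), (6356, 10227), (6357, 10238), (6358, 6359), (6359, 6358), (6360, 3762), (6361, 10243), (6362, 10245), (6363, 3764), (6364, 10249), (6365, 10250), (6366, 9618), (6367, 3766), (6368, 6324), (6369, 5891), (6370, 3768), (6371, 3769), (6372, 3770), (6373, 10259), (6374, 10260), (6375, 10261), (6376, 10262), (6377, 6378), (6378, 6377), (6379, 5913), (6380, 3773), (6381, 3774), (6382, 3775), (6383, 10277), (6384, 10278), (6385, 10279), (6386, 10280), (6387, 6388), (6388, 6387), (6389, 7615), (6390, 4687), (6391, 7782), (6392, 4586), (6393, 3779), (6394, 7781), (6395, 9845), (6396, 3781), (6397, 7616), (6398, 9791),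 (6399, 4539)]
    ⟨e3 q6336 (flp_a L160580) q10192, e3 q6337 (flp_a L111126) q6339, e3 q6338 L160638 q10204, e3 q6339 L111126 q6337, e3 q6340 (flp_a L111133) q3752, e3 q6341 (flp_a L160660) q10208, e3 q6342 L160674 q10210, e3 q6343 (flp_a L111149) q3754, e3 q6344 (flp_a L160698) q10214, e3 q6345 (flp_a L160702) q10215, e3 q6346 (flp_a L156464) q9580, e3 q6347 L111167 q3756, e3 q6348 L111177 q6297, e3 q6349 L111189 q4329, e3 q6350 L111195 q3758, e3 q6351 L111199 q3759, e3 q6352 L111206 q3760, e3 q6353 (flp_a L160760) q10224, e3 q6354 (flp_a L160764) q10225, e3 q6355 (flp_a L160770) q10226, e3 q6356 (flp_a L160776) q10227, e3 q6357 L160830 q10238, e3 q6358 (flp_a L111242) q6359, e3 q6359 L111242 q6358, e3 q6360 (flp_a L111249) q3762, e3 q6361 (flp_a L160856) q10243, e3 q6362 L160870 q10245, e3 q6363 (flp_a L111265) q3764, e3 q6364 (flp_a L160894) q10249, e3 q6365 (flp_a L160898) q10250, e3 q6366 (flp_a L156715) q9618, e3 q6367 L111283 q3766, e3 q6368 L111293 q6324, e3 q6369 (flp_a L120406) q5891, e3 q6370 L111307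 q3768, e3 q6371 L111311 q3769, e3 q6372 L111319 q3770, e3 q6373 (flp_a L160956) q10259, e3 q6374 (flp_a L160960) q10260, e3 q6375 (flp_a L160966) q10261, e3 q6376 (flp_a L160972) q10262, e3 q6377 (flp_a L111357) q6378, e3 q6378 L111357 q6377, e3 q6379 (flp_a L112139) q5913, e3 q6380 L111371 q3773, e3 q6381 L111375 q3774, e3 q6382 L111383 q3775, e3 q6383 (flp_a L161070) q10277, e3 q6384 (flp_a L161074) q10278, e3 q6385 (flp_a L161080) q10279, e3 q6386 (flp_a L161086) q10280, e3 q6387 (flp_a L111421) q6388, e3 q6388 L111421 q6387, e3 q6389 (flp_a L121649) q7615, e3 q6390 L111435 q4687, e3 q6391 (flp_a L122524) q7782, e3 q6392 L111447 q4586, e3 q6393 (flp_a L111453) q3779, e3 q6394 (flp_a L122516) q7781, e3 q6395 (flp_a L158227) q9845, e3 q6396 (flp_a L111463) q3781, e3 q6397 (flp_a L150956) q7616, e3 q6398 (flp_a L157925) q9791, e3 q6399 L111481 q4539, trivial⟩ (by decide +kernel)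

theorem ce_a_100 : ∀ r, r < 64 → sm ga (Qf (6400 + r)) = Qf (tab Gen.a (6400 + r)) :=
  edges_tab (sm ga) Qf (tab Gen.a) 6400 [(6400, 7706), (6401, 4504), (6402, 7871), (6403, 4657), (6404, 4556), (6405, 3794), (6406, 6414), (6407, 5139), (6408, 7479), (6409, 7796), (6410, 6411), (6411, 6410), (6412, 3797), (6413, 10308), (6414, 6406), (6415, 10309), (6416, 3800), (6417, 7540), (6418, 6488), (6419, 6490), (6420, 10316), (6421, 3802), (6422, 10318), (6423, 10319), (6424, 4457), (6425, 3804), (6426, 10324), (6427, 6435), (6428, 7795), (6429, 10329), (6430, 3809), (6431, 3810), (6432, 5123), (6433, 5136), (6434, 10332), (6435, 6427), (6436, 3813), (6437, 6446), (6438, 5158), (6439, 7627), (6440, 7488), (6441, 6442), (6442, 6441), (6443, 3816), (6444, 10345), (6445, 10346), (6446, 6437), (6447, 3819), (6448, 7585), (6449, 6521), (6450, 6523), (6451, 10353), (6452, 3821), (6453, 10355), (6454, 10356), (6455, 4449), (6456, 3823), (6457, 10361), (6458, 6466), (6459, 7630), (6460, 10364), (6461, 3828), (6462, 3829), (6463,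 5119)]
    ⟨e3 q6400 (flp_a L122154) q7706, e3 q6401 L111507 q4504, e3 q6402 (flp_a L123061) q7871, e3 q6403 L111513 q4657, e3 q6404 L111527 q4556, e3 q6405 L111569 q3794, e3 q6406 (flp_a L111615) q6414, e3 q6407 (flp_a L120463) q5139, e3 q6408 (flp_a L120720) q7479, e3 q6409 (flp_a L122639) q7796, e3 q6410 (flp_a L111597) q6411, e3 q6411 L111597 q6410, e3 q6412 (flp_a L111605) q3797, e3 q6413 (flp_a L161298) q10308, e3 q6414 L111615 q6406, e3 q6415 (flp_a L161304) q10309, e3 q6416 L111625 q3800, e3 q6417 (flp_a L121155) q7540, e3 q6418 (flp_a L111996) q6488, e3 q6419 (flp_a L112012) q6490, e3 q6420 L161348 q10316, e3 q6421 (flp_a L111653) q3802, e3 q6422 (flp_a L161362) q10318, e3 q6423 (flp_a L161366) q10319, e3 q6424 L111667 q4457, e3 q6425 L111671 q3804, e3 q6426 (flp_a L161406) q10324, e3 q6427 (flp_a L111715) q6435, e3 q6428 (flp_a L122631) q7795, e3 q6429 L161440 q10329, e3 q6430 L111691 q3809, e3 q6431 L111695 q3810, e3 q6432 (flp_a L163200) q5123, e3 q6433 (flp_a L163172) q5136, e3 q6434 (flp_a L161456)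 q10332, e3 q6435 L111715 q6427, e3 q6436 L111723 q3813, e3 q6437 (flp_a L150926) q6446, e3 q6438 L150930 q5158, e3 q6439 (flp_a L121711) q7627, e3 q6440 (flp_a L120780) q7488, e3 q6441 (flp_a L111749) q6442, e3 q6442 L111749 q6441, e3 q6443 (flp_a L111757) q3816, e3 q6444 (flp_a L161549) q10345, e3 q6445 (flp_a L161555) q10346, e3 q6446 L150926 q6437, e3 q6447 L111771 q3819, e3 q6448 (flp_a L121454) q7585, e3 q6449 (flp_a L112226) q6521, e3 q6450 (flp_a L112242) q6523, e3 q6451 L161599 q10353, e3 q6452 (flp_a L111799) q3821, e3 q6453 (flp_a L161613) q10355, e3 q6454 (flp_a L161617) q10356, e3 q6455 L111813 q4449, e3 q6456 L111817 q3823, e3 q6457 (flp_a L161657) q10361, e3 q6458 (flp_a L111857) q6466, e3 q6459 (flp_a L121729) q7630, e3 q6460 L161691 q10364, e3 q6461 L111837 q3828, e3 q6462 L111841 q3829, e3 q6463 (flp_a L163397) q5119, trivial⟩ (by decide +kernel)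

theorem ce_a_101 : ∀ r, r < 64 → sm ga (Qf (6464 + r)) = Qf (tab Gen.a (6464 + r)) :=
  edges_tab (sm ga) Qf (tab Gen.a) 6464 [(6464, 5129), (6465, 10367), (6466, 6458), (6467, 4475), (6468, 6112), (6469, 3870), (6470, 4558), (6471, 4559), (6472, 6052), (6473, 3848), (6474, 10376), (6475, 3841), (6476, 6045), (6477, 10380), (6478, 4427), (6479, 3843), (6480, 3844), (6481, 9717), (6482, 9525), (6483, 3845), (6484, 4130), (6485, 6518), (6486, 7668), (6487, 7669), (6488, 6418), (6489, 10388), (6490, 6419), (6491, 3849), (6492, 10391), (6493, 10393), (6494, 10395), (6495, 3853), (6496, 10399), (6497, 10400), (6498, 3855), (6499, 10405), (6500, 7569), (6501, 4754), (6502, 4464), (6503, 6074), (6504, 4660), (6505, 4661), (6506, 6090), (6507, 3874), (6508, 10410), (6509, 3867), (6510, 6082), (6511, 10414), (6512, 4424), (6513, 3869), (6514, 9725), (6515, 9526), (6516, 3871), (6517, 4131), (6518, 6485), (6519, 7832), (6520, 7833), (6521, 6449), (6522, 10422), (6523, 6450), (6524, 3875), (6525, 10425), (6526, 10427), (6527,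 10429)]
    ⟨e3 q6464 L163314 q5129, e3 q6465 (flp_a L161707) q10367, e3 q6466 L111857 q6458, e3 q6467 (flp_a L111871) q4475, e3 q6468 (flp_a L155510) q6112, e3 q6469 L111883 q3870, e3 q6470 L111889 q4558, e3 q6471 L111903 q4559, e3 q6472 L155504 q6052, e3 q6473 L111914 q3848, e3 q6474 L161760 q10376, e3 q6475 (flp_a L111924) q3841, e3 q6476 (flp_a L155490) q6045, e3 q6477 (flp_a L161780) q10380, e3 q6478 L111938 q4427, e3 q6479 L111946 q3843, e3 q6480 L111950 q3844, e3 q6481 (flp_a L157419) q9717, e3 q6482 L156032 q9525, e3 q6483 (flp_a L111966) q3845, e3 q6484 L119181 q4130, e3 q6485 (flp_a L148299) q6518, e3 q6486 (flp_a L121939) q7668, e3 q6487 (flp_a L121946) q7669, e3 q6488 L111996 q6418, e3 q6489 L161858 q10388, e3 q6490 L112012 q6419, e3 q6491 (flp_a L112018) q3849, e3 q6492 L161878 q10391, e3 q6493 L161888 q10393, e3 q6494 L161896 q10395, e3 q6495 (flp_a L112042) q3853, e3 q6496 (flp_a L161920) q10399, e3 q6497 (flp_a L161924) q10400, e3 q6498 L112054 q3855, e3 q6499 (flp_a L161950) q10405, e3 q6500 (flp_a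 L121311) q7569, e3 q6501 L112064 q4754, e3 q6502 (flp_a L112078) q4464, e3 q6503 L112082 q6074, e3 q6504 L112088 q4660, e3 q6505 L112095 q4661, e3 q6506 L112127 q6090, e3 q6507 L112113 q3874, e3 q6508 L161990 q10410, e3 q6509 (flp_a L112123) q3867, e3 q6510 L112160 q6082, e3 q6511 (flp_a L162010) q10414, e3 q6512 L112176 q4424, e3 q6513 L112182 q3869, e3 q6514 (flp_a L157501) q9725, e3 q6515 (flp_a L156052) q9526, e3 q6516 (flp_a L112196) q3871, e3 q6517 L148285 q4131, e3 q6518 L148299 q6485, e3 q6519 (flp_a L122858) q7832, e3 q6520 (flp_a L122865) q7833, e3 q6521 L112226 q6449, e3 q6522 L162090 q10422, e3 q6523 L112242 q6450, e3 q6524 (flp_a L112248) q3875, e3 q6525 L162112 q10425, e3 q6526 L162122 q10427, e3 q6527 L162130 q10429, trivial⟩ (by decide +kernel)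

theorem ce_a_102 : ∀ r, r < 64 → sm ga (Qf (6528 + r)) = Qf (tab Gen.a (6528 + r)) :=
  edges_tab (sm ga) Qf (tab Gen.a) 6528 [(6528, 3879), (6529, 10433), (6530, 10434), (6531, 3881), (6532, 10439), (6533, 7614), (6534, 4656), (6535, 4557), (6536, 3887), (6537, 3888), (6538, 3889), (6539, 3890), (6540, 7442), (6541, 10448), (6542, 10442), (6543, 10443), (6544, 10444), (6545, 10445), (6546, 6548), (6547, 10456), (6548, 6546), (6549, 10459), (6550, 3892), (6551, 6557), (6552, 10461), (6553, 10463), (6554, 3895), (6555, 9804), (6556, 3897), (6557, 6551), (6558, 6707), (6559, 10470), (6560, 6641), (6561, 10472), (6562, 3904), (6563, 10475), (6564, 10476), (6565, 3905), (6566, 10479), (6567, 8800), (6568, 9805), (6569, 3907), (6570, 3935), (6571, 9806), (6572, 9807), (6573, 10488), (6574, 4659), (6575, 3916), (6576, 3917), (6577, 3918), (6578, 3919), (6579, 10497), (6580, 7444), (6581, 10492), (6582, 10493), (6583, 10494), (6584, 10495), (6585, 10505), (6586, 6587), (6587, 6586), (6588, 3920), (6589, 6596), (6590,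 10510), (6591, 10512)]
    ⟨e3 q6528 (flp_a L112272) q3879, e3 q6529 (flp_a L162148) q10433, e3 q6530 (flp_a L162152) q10434, e3 q6531 L112284 q3881, e3 q6532 (flp_a L162178) q10439, e3 q6533 (flp_a L121643) q7614, e3 q6534 L112294 q4656, e3 q6535 L112316 q4557, e3 q6536 L112322 q3887, e3 q6537 L112326 q3888, e3 q6538 L112330 q3889, e3 q6539 L112336 q3890, e3 q6540 L120540 q7442, e3 q6541 L162250 q10448, e3 q6542 (flp_a L162208) q10442, e3 q6543 (flp_a L162218) q10443, e3 q6544 (flp_a L162226) q10444, e3 q6545 (flp_a L162232) q10445, e3 q6546 (flp_a L112378) q6548, e3 q6547 L162309 q10456, e3 q6548 L112378 q6546, e3 q6549 L162333 q10459, e3 q6550 (flp_a L112386) q3892, e3 q6551 (flp_a L112420) q6557, e3 q6552 L162344 q10461, e3 q6553 L162350 q10463, e3 q6554 (flp_a L112398) q3895, e3 q6555 (flp_a L158003) q9804, e3 q6556 L112414 q3897, e3 q6557 L112420 q6551, e3 q6558 (flp_a L113733) q6707, e3 q6559 L162378 q10470, e3 q6560 (flp_a L113096) q6641, e3 q6561 L162388 q10472, e3 q6562 (flp_a L112478) q3904, e3 q6563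 (flp_a L162410) q10475, e3 q6564 (flp_a L162418) q10476, e3 q6565 (flp_a L112488) q3905, e3 q6566 (flp_a L162438) q10479, e3 q6567 (flp_a L145376) q8800, e3 q6568 (flp_a L158007) q9805, e3 q6569 L112508 q3907, e3 q6570 L149102 q3935, e3 q6571 (flp_a L158011) q9806, e3 q6572 (flp_a L158017) q9807, e3 q6573 L162496 q10488, e3 q6574 L112554 q4659, e3 q6575 L112566 q3916, e3 q6576 L112570 q3917, e3 q6577 L112574 q3918, e3 q6578 L112580 q3919, e3 q6579 L162560 q10497, e3 q6580 L150920 q7444, e3 q6581 (flp_a L162526) q10492, e3 q6582 (flp_a L162536) q10493, e3 q6583 (flp_a L162544) q10494, e3 q6584 (flp_a L162550) q10495, e3 q6585 L162623 q10505, e3 q6586 (flp_a L112622) q6587, e3 q6587 L112622 q6586, e3 q6588 (flp_a L112628) q3920, e3 q6589 (flp_a L112664) q6596, e3 q6590 L162653 q10510, e3 q6591 L162659 q10512, trivial⟩ (by decide +kernel)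

theorem ce_a_103 : ∀ r, r < 64 → sm ga (Qf (6592 + r)) = Qf (tab Gen.a (6592 + r)) :=
  edges_tab (sm ga) Qf (tab Gen.a) 6592 [(6592, 10513), (6593, 3924), (6594, 9857), (6595, 3926), (6596, 6589), (6597, 6783), (6598, 10520), (6599, 6686), (6600, 10522), (6601, 3932), (6602, 10525), (6603, 10526), (6604, 3933), (6605, 10481), (6606, 8837), (6607, 9858), (6608, 9859), (6609, 9860), (6610, 10534), (6611, 8439), (6612, 6660), (6613, 6613), (6614, 10539), (6615, 3943), (6616, 10541), (6617, 3944), (6618, 6619), (6619, 6618), (6620, 10543), (6621, 3949), (6622, 3951), (6623, 3952), (6624, 3954), (6625, 10545), (6626, 5051), (6627, 10546), (6628, 5138), (6629, 8530), (6630, 8949), (6631, 6716), (6632, 10547), (6633, 6635), (6634, 10558), (6635, 6633), (6636, 6682), (6637, 3956), (6638, 10563), (6639, 6653), (6640, 3996), (6641, 6560), (6642, 8411), (6643, 8529), (6644, 8524), (6645, 10571), (6646, 3963), (6647, 10573), (6648, 10574), (6649, 3965), (6650, 3966), (6651, 10578), (6652, 10579), (6653, 6639), (6654, 8097),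 (6655, 10585)]
    ⟨e3 q6592 L162668 q10513, e3 q6593 (flp_a L112642) q3924, e3 q6594 (flp_a L158303) q9857, e3 q6595 L112658 q3926, e3 q6596 L112664 q6589, e3 q6597 (flp_a L114300) q6783, e3 q6598 L162698 q10520, e3 q6599 (flp_a L113524) q6686, e3 q6600 L162710 q10522, e3 q6601 (flp_a L112722) q3932, e3 q6602 (flp_a L162732) q10525, e3 q6603 (flp_a L162740) q10526, e3 q6604 (flp_a L112732) q3933, e3 q6605 (flp_a L162454) q10481, e3 q6606 L151443 q8837, e3 q6607 (flp_a L158307) q9858, e3 q6608 (flp_a L158311) q9859, e3 q6609 (flp_a L158317) q9860, e3 q6610 L162786 q10534, e3 q6611 (flp_a L130620) q8439, e3 q6612 (flp_a L146675) q6660, e3 q6613 L112817 q6613, e3 q6614 L162831 q10539, e3 q6615 (flp_a L112908) q3943, e3 q6616 (flp_a L162849) q10541, e3 q6617 (flp_a L112936) q3944, e3 q6618 L120513 q6619, e3 q6619 (flp_a L120513) q6618, e3 q6620 (flp_a L162867) q10543, e3 q6621 L112962 q3949, e3 q6622 L112978 q3951, e3 q6623 L112986 q3952, e3 q6624 L112998 q3954, e3 q6625 (flp_a L162907) q10545, e3 q6626 (flp_a L120453)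 q5051, e3 q6627 (flp_a L162917) q10546, e3 q6628 (flp_a L120090) q5138, e3 q6629 (flp_a L143549) q8530, e3 q6630 (flp_a L151862) q8949, e3 q6631 (flp_a L120459) q6716, e3 q6632 (flp_a L162925) q10547, e3 q6633 (flp_a L113070) q6635, e3 q6634 L163021 q10558, e3 q6635 L113070 q6633, e3 q6636 L149029 q6682, e3 q6637 (flp_a L113080) q3956, e3 q6638 (flp_a L163073) q10563, e3 q6639 (flp_a L113172) q6653, e3 q6640 L149620 q3996, e3 q6641 L113096 q6560, e3 q6642 L143449 q8411, e3 q6643 (flp_a L143545) q8529, e3 q6644 L143501 q8524, e3 q6645 L164009 q10571, e3 q6646 (flp_a L113132) q3963, e3 q6647 (flp_a L164021) q10573, e3 q6648 (flp_a L164027) q10574, e3 q6649 L113152 q3965, e3 q6650 L113156 q3966, e3 q6651 (flp_a L164065) q10578, e3 q6652 (flp_a L164071) q10579, e3 q6653 L113172 q6639, e3 q6654 L133651 q8097, e3 q6655 L164111 q10585, trivial⟩ (by decide +kernel)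

theorem ce_a_104 : ∀ r, r < 64 → sm ga (Qf (6656 + r)) = Qf (tab Gen.a (6656 + r)) :=
  edges_tab (sm ga) Qf (tab Gen.a) 6656 [(6656, 3969), (6657, 3999), (6658, 10589), (6659, 8440), (6660, 6612), (6661, 6661), (6662, 10594), (6663, 3973), (6664, 10596), (6665, 3974), (6666, 6668), (6667, 10598), (6668, 6666), (6669, 3979), (6670, 3980), (6671, 3982), (6672, 3983), (6673, 10600), (6674, 10601), (6675, 5061), (6676, 8501), (6677, 5157), (6678, 9017), (6679, 10602), (6680, 6792), (6681, 10611), (6682, 6636), (6683, 3985), (6684, 10615), (6685, 6697), (6686, 6599), (6687, 8392), (6688, 8500), (6689, 8495), (6690, 10622), (6691, 3993), (6692, 10624), (6693, 10561), (6694, 3995), (6695, 10628), (6696, 10566), (6697, 6685), (6698, 8053), (6699, 10634), (6700, 10591), (6701, 4000), (6702, 8441), (6703, 6866), (6704, 10640), (6705, 10643), (6706, 4008), (6707, 6558), (6708, 8443), (6709, 8445), (6710, 6712), (6711, 10651), (6712, 6710), (6713, 6746), (6714, 4010), (6715, 6736), (6716, 6631), (6717, 10655), (6718, 9341),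 (6719, 4014)]
    ⟨e3 q6656 L113196 q3969, e3 q6657 L113206 q3999, e3 q6658 (flp_a L164137) q10589, e3 q6659 L148609 q8440, e3 q6660 L146675 q6612, e3 q6661 L113245 q6661, e3 q6662 L164178 q10594, e3 q6663 (flp_a L113336) q3973, e3 q6664 (flp_a L164196) q10596, e3 q6665 (flp_a L113364) q3974, e3 q6666 (flp_a L149552) q6668, e3 q6667 (flp_a L164214) q10598, e3 q6668 L149552 q6666, e3 q6669 L113390 q3979, e3 q6670 L113398 q3980, e3 q6671 L113414 q3982, e3 q6672 L113418 q3983, e3 q6673 (flp_a L164238) q10600, e3 q6674 (flp_a L164248) q10601, e3 q6675 L148500 q5061, e3 q6676 L149628 q8501, e3 q6677 L148496 q5157, e3 q6678 (flp_a L152306) q9017, e3 q6679 (flp_a L164256) q10602, e3 q6680 L146203 q6792, e3 q6681 L164336 q10611, e3 q6682 (flp_a L149029) q6636, e3 q6683 (flp_a L113506) q3985, e3 q6684 (flp_a L164384) q10615, e3 q6685 (flp_a L113600) q6697, e3 q6686 L113524 q6599, e3 q6687 L150774 q8392, e3 q6688 L150772 q8500, e3 q6689 L149600 q8495, e3 q6690 L164434 q10622, e3 q6691 (flp_a L113560) q3993, e3 q6692 (flp_a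 L164446) q10624, e3 q6693 (flp_a L163055) q10561, e3 q6694 L113580 q3995, e3 q6695 (flp_a L164476) q10628, e3 q6696 (flp_a L163089) q10566, e3 q6697 L113600 q6685, e3 q6698 L141023 q8053, e3 q6699 L164514 q10634, e3 q6700 (flp_a L164151) q10591, e3 q6701 (flp_a L113628) q4000, e3 q6702 (flp_a L130636) q8441, e3 q6703 L120191 q6866, e3 q6704 L164553 q10640, e3 q6705 L164570 q10643, e3 q6706 L113729 q4008, e3 q6707 L113733 q6558, e3 q6708 (flp_a L142819) q8443, e3 q6709 (flp_a L142853) q8445, e3 q6710 (flp_a L113775) q6712, e3 q6711 L164651 q10651, e3 q6712 L113775 q6710, e3 q6713 L154560 q6746, e3 q6714 (flp_a L113815) q4010, e3 q6715 L154562 q6736, e3 q6716 L120459 q6631, e3 q6717 L164673 q10655, e3 q6718 (flp_a L154694) q9341, e3 q6719 (flp_a L113861) q4014, trivial⟩ (by decide +kernel)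

theorem ce_a_105 : ∀ r, r < 64 → sm ga (Qf (6720 + r)) = Qf (tab Gen.a (6720 + r)) :=
  edges_tab (sm ga) Qf (tab Gen.a) 6720 [(6720, 7933), (6721, 5688), (6722, 4015), (6723, 9300), (6724, 9340), (6725, 10659), (6726, 4017), (6727, 5421), (6728, 5426), (6729, 10664), (6730, 4019), (6731, 10667), (6732, 10669), (6733, 4021), (6734, 10673), (6735, 10674), (6736, 6715), (6737, 4023), (6738, 4024), (6739, 7934), (6740, 10676), (6741, 10679), (6742, 4025), (6743, 10680), (6744, 4026), (6745, 9232), (6746, 6713), (6747, 10682), (6748, 9759), (6749, 4029), (6750, 4030), (6751, 10689), (6752, 10687), (6753, 9754), (6754, 4031), (6755, 10562), (6756, 6760), (6757, 7728), (6758, 4034), (6759, 4035), (6760, 6756), (6761, 10696), (6762, 4037), (6763, 10700), (6764, 10701), (6765, 6891), (6766, 4039), (6767, 10707), (6768, 10708), (6769, 10709), (6770, 4042), (6771, 10714), (6772, 4925), (6773, 8170), (6774, 10719), (6775, 4044), (6776, 10722), (6777, 4046), (6778, 8442), (6779, 6887), (6780, 10727), (6781, 10728), (6782,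 4053), (6783, 6597)]
    ⟨e3 q6720 (flp_a L163497) q7933, e3 q6721 (flp_a L151034) q5688, e3 q6722 (flp_a L113881) q4015, e3 q6723 (flp_a L154492) q9300, e3 q6724 (flp_a L154684) q9340, e3 q6725 L164703 q10659, e3 q6726 L113893 q4017, e3 q6727 L153420 q5421, e3 q6728 L153453 q5426, e3 q6729 L164735 q10664, e3 q6730 (flp_a L113909) q4019, e3 q6731 (flp_a L164759) q10667, e3 q6732 L164763 q10669, e3 q6733 (flp_a L113943) q4021, e3 q6734 (flp_a L164797) q10673, e3 q6735 (flp_a L164805) q10674, e3 q6736 (flp_a L154562) q6715, e3 q6737 L113959 q4023, e3 q6738 L113965 q4024, e3 q6739 L163592 q7934, e3 q6740 (flp_a L164827) q10676, e3 q6741 L164853 q10679, e3 q6742 (flp_a L113995) q4025, e3 q6743 (flp_a L164863) q10680, e3 q6744 (flp_a L114011) q4026, e3 q6745 (flp_a L154564) q9232, e3 q6746 (flp_a L154560) q6713, e3 q6747 (flp_a L164891) q10682, e3 q6748 (flp_a L157739) q9759, e3 q6749 L114023 q4029, e3 q6750 L114027 q4030, e3 q6751 L164943 q10689, e3 q6752 (flp_a L164927) q10687, e3 q6753 (flp_a L157707) q9754, e3 q6754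 (flp_a L114057) q4031, e3 q6755 (flp_a L163065) q10562, e3 q6756 (flp_a L114099) q6760, e3 q6757 (flp_a L163521) q7728, e3 q6758 L114079 q4034, e3 q6759 L114083 q4035, e3 q6760 L114099 q6756, e3 q6761 L164991 q10696, e3 q6762 L114111 q4037, e3 q6763 (flp_a L165009) q10700, e3 q6764 L165013 q10701, e3 q6765 L149640 q6891, e3 q6766 (flp_a L114145) q4039, e3 q6767 (flp_a L165045) q10707, e3 q6768 (flp_a L165049) q10708, e3 q6769 (flp_a L165053) q10709, e3 q6770 L114157 q4042, e3 q6771 L165076 q10714, e3 q6772 L114167 q4925, e3 q6773 (flp_a L125922) q8170, e3 q6774 L165112 q10719, e3 q6775 (flp_a L114179) q4044, e3 q6776 (flp_a L165132) q10722, e3 q6777 (flp_a L114195) q4046, e3 q6778 (flp_a L148607) q8442, e3 q6779 L148398 q6887, e3 q6780 L165169 q10727, e3 q6781 L165177 q10728, e3 q6782 L114292 q4053, e3 q6783 L114300 q6597, trivial⟩ (by decide +kernel)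

theorem ce_a_106 : ∀ r, r < 64 → sm ga (Qf (6784 + r)) = Qf (tab Gen.a (6784 + r)) :=
  edges_tab (sm ga) Qf (tab Gen.a) 6784 [(6784, 8444), (6785, 8448), (6786, 10735), (6787, 6788), (6788, 6787), (6789, 6821), (6790, 4056), (6791, 6810), (6792, 6680), (6793, 10739), (6794, 4059), (6795, 7779), (6796, 5723), (6797, 10741), (6798, 4062), (6799, 5405), (6800, 5410), (6801, 10746), (6802, 4064), (6803, 10749), (6804, 4065), (6805, 9298), (6806, 10753), (6807, 4067), (6808, 10757), (6809, 10758), (6810, 6791), (6811, 4069), (6812, 4070), (6813, 7780), (6814, 10760), (6815, 10763), (6816, 4071), (6817, 10764), (6818, 4072), (6819, 9194), (6820, 10766), (6821, 6789), (6822, 9739), (6823, 4075), (6824, 4076), (6825, 10773), (6826, 10771), (6827, 9734), (6828, 4077), (6829, 10614), (6830, 6834), (6831, 7890), (6832, 4080), (6833, 4081), (6834, 6830), (6835, 10780), (6836, 4083), (6837, 10784), (6838, 10785), (6839, 6871), (6840, 4085), (6841, 10789), (6842, 10790), (6843, 10791), (6844, 4088), (6845, 10795), (6846, 4906),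 (6847, 8200)]
    ⟨e3 q6784 L146491 q8444, e3 q6785 L148428 q8448, e3 q6786 L165250 q10735, e3 q6787 (flp_a L114342) q6788, e3 q6788 L114342 q6787, e3 q6789 L154504 q6821, e3 q6790 (flp_a L114370) q4056, e3 q6791 L154524 q6810, e3 q6792 (flp_a L146203) q6680, e3 q6793 L165282 q10739, e3 q6794 (flp_a L114418) q4059, e3 q6795 (flp_a L163772) q7779, e3 q6796 (flp_a L150572) q5723, e3 q6797 L165298 q10741, e3 q6798 L114446 q4062, e3 q6799 L153014 q5405, e3 q6800 L153010 q5410, e3 q6801 L165330 q10746, e3 q6802 (flp_a L114462) q4064, e3 q6803 (flp_a L165354) q10749, e3 q6804 (flp_a L114470) q4065, e3 q6805 (flp_a L154512) q9298, e3 q6806 L165372 q10753, e3 q6807 (flp_a L114504) q4067, e3 q6808 (flp_a L165410) q10757, e3 q6809 (flp_a L165418) q10758, e3 q6810 (flp_a L154524) q6791, e3 q6811 L114520 q4069, e3 q6812 L114526 q4070, e3 q6813 L163665 q7780, e3 q6814 (flp_a L165440) q10760, e3 q6815 L165466 q10763, e3 q6816 (flp_a L114556) q4071, e3 q6817 (flp_a L165476) q10764, e3 q6818 (flp_a L114572) q4072, e3 q6819 (flp_a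 L154526) q9194, e3 q6820 (flp_a L165504) q10766, e3 q6821 (flp_a L154504) q6789, e3 q6822 (flp_a L157605) q9739, e3 q6823 L114584 q4075, e3 q6824 L114588 q4076, e3 q6825 L165564 q10773, e3 q6826 (flp_a L165548) q10771, e3 q6827 (flp_a L157575) q9734, e3 q6828 (flp_a L114618) q4077, e3 q6829 (flp_a L164378) q10614, e3 q6830 (flp_a L114660) q6834, e3 q6831 (flp_a L163695) q7890, e3 q6832 L114640 q4080, e3 q6833 L114644 q4081, e3 q6834 L114660 q6830, e3 q6835 L165612 q10780, e3 q6836 L114672 q4083, e3 q6837 (flp_a L165634) q10784, e3 q6838 L165640 q10785, e3 q6839 L149638 q6871, e3 q6840 (flp_a L114712) q4085, e3 q6841 (flp_a L165674) q10789, e3 q6842 (flp_a L165678) q10790, e3 q6843 (flp_a L165686) q10791, e3 q6844 L114724 q4088, e3 q6845 L165706 q10795, e3 q6846 L114734 q4906, e3 q6847 (flp_a L126718) q8200, trivial⟩ (by decide +kernel)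

theorem ce_a_107 : ∀ r, r < 64 → sm ga (Qf (6848 + r)) = Qf (tab Gen.a (6848 + r)) :=
  edges_tab (sm ga) Qf (tab Gen.a) 6848 [(6848, 10800), (6849, 4090), (6850, 10803), (6851, 4092), (6852, 7639), (6853, 10805), (6854, 6854), (6855, 4095), (6856, 4097), (6857, 7534), (6858, 7638), (6859, 7532), (6860, 10808), (6861, 6862), (6862, 6861), (6863, 6863), (6864, 10815), (6865, 4102), (6866, 6703), (6867, 4103), (6868, 9468), (6869, 10820), (6870, 10823), (6871, 6839), (6872, 4108), (6873, 7804), (6874, 10826), (6875, 6875), (6876, 4111), (6877, 4112), (6878, 7580), (6879, 7803), (6880, 10829), (6881, 7577), (6882, 6883), (6883, 6882), (6884, 6884), (6885, 10836), (6886, 4118), (6887, 6779), (6888, 4119), (6889, 9473), (6890, 10841), (6891, 6765), (6892, 10844), (6893, 4127), (6894, 10847), (6895, 10166), (6896, 4128), (6897, 10850), (6898, 10133), (6899, 6899), (6900, 6902), (6901, 6901), (6902, 6900), (6903, 6903), (6904, 6904), (6905, 10860), (6906, 6906), (6907, 6907), (6908, 10865), (6909, 4136), (6910, 10868),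 (6911, 6956)]
    ⟨e3 q6848 L165744 q10800, e3 q6849 (flp_a L114752) q4090, e3 q6850 (flp_a L165768) q10803, e3 q6851 (flp_a L114812) q4092, e3 q6852 (flp_a L121789) q7639, e3 q6853 (flp_a L165782) q10805, e3 q6854 L114837 q6854, e3 q6855 L114857 q4095, e3 q6856 L114867 q4097, e3 q6857 (flp_a L121111) q7534, e3 q6858 (flp_a L121783) q7638, e3 q6859 (flp_a L121093) q7532, e3 q6860 (flp_a L165808) q10808, e3 q6861 (flp_a L114899) q6862, e3 q6862 L114899 q6861, e3 q6863 L114907 q6863, e3 q6864 L165849 q10815, e3 q6865 L114933 q4102, e3 q6866 (flp_a L120191) q6703, e3 q6867 (flp_a L114951) q4103, e3 q6868 (flp_a L155656) q9468, e3 q6869 L165895 q10820, e3 q6870 L165911 q10823, e3 q6871 (flp_a L149638) q6839, e3 q6872 (flp_a L114985) q4108, e3 q6873 (flp_a L122690) q7804, e3 q6874 (flp_a L165951) q10826, e3 q6875 L115010 q6875, e3 q6876 L115030 q4111, e3 q6877 L115034 q4112, e3 q6878 (flp_a L150880) q7580, e3 q6879 (flp_a L122684) q7803, e3 q6880 (flp_a L165979) q10829, e3 q6881 (flp_a L149188) q7577, e3 q6882 (flp_a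 L115072) q6883, e3 q6883 L115072 q6882, e3 q6884 L115080 q6884, e3 q6885 L166032 q10836, e3 q6886 L115100 q4118, e3 q6887 (flp_a L148398) q6779, e3 q6888 (flp_a L115124) q4119, e3 q6889 (flp_a L155692) q9473, e3 q6890 L166080 q10841, e3 q6891 (flp_a L149640) q6765, e3 q6892 L166096 q10844, e3 q6893 (flp_a L115186) q4127, e3 q6894 (flp_a L166136) q10847, e3 q6895 (flp_a L160420) q10166, e3 q6896 (flp_a L115200) q4128, e3 q6897 (flp_a L166152) q10850, e3 q6898 (flp_a L160190) q10133, e3 q6899 L115239 q6899, e3 q6900 (flp_a L115255) q6902, e3 q6901 L120706 q6901, e3 q6902 L115255 q6900, e3 q6903 L115265 q6903, e3 q6904 L115273 q6904, e3 q6905 L166232 q10860, e3 q6906 L120705 q6906, e3 q6907 L120700 q6907, e3 q6908 L166280 q10865, e3 q6909 (flp_a L115301) q4136, e3 q6910 (flp_a L166306) q10868, e3 q6911 (flp_a L115539) q6956, trivial⟩ (by decide +kernel)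

theorem ce_a_108 : ∀ r, r < 64 → sm ga (Qf (6912 + r)) = Qf (tab Gen.a (6912 + r)) :=
  edges_tab (sm ga) Qf (tab Gen.a) 6912 [(6912, 10872), (6913, 4138), (6914, 10876), (6915, 6962), (6916, 10880), (6917, 6215), (6918, 4141), (6919, 10883), (6920, 6973), (6921, 10071), (6922, 4143), (6923, 10886), (6924, 4372), (6925, 6235), (6926, 4145), (6927, 10890), (6928, 6984), (6929, 10037), (6930, 4147), (6931, 10893), (6932, 4321), (6933, 6933), (6934, 4149), (6935, 4150), (6936, 4151), (6937, 10898), (6938, 10899), (6939, 6991), (6940, 6942), (6941, 6996), (6942, 6940), (6943, 10908), (6944, 10911), (6945, 4154), (6946, 10914), (6947, 10915), (6948, 4155), (6949, 10918), (6950, 10919), (6951, 9392), (6952, 4157), (6953, 4158), (6954, 10924), (6955, 10925), (6956, 6911), (6957, 9397), (6958, 4160), (6959, 4161), (6960, 10934), (6961, 10935), (6962, 6915), (6963, 6183), (6964, 9393), (6965, 8309), (6966, 4165), (6967, 4166), (6968, 7348), (6969, 10943), (6970, 8333), (6971, 10944), (6972, 4207), (6973, 6920), (6974, 9398),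 (6975, 6187)]
    ⟨e3 q6912 L166326 q10872, e3 q6913 (flp_a L115321) q4138, e3 q6914 (flp_a L166356) q10876, e3 q6915 (flp_a L115569) q6962, e3 q6916 L166376 q10880, e3 q6917 L115343 q6215, e3 q6918 L115349 q4141, e3 q6919 (flp_a L166396) q10883, e3 q6920 (flp_a L115631) q6973, e3 q6921 (flp_a L159759) q10071, e3 q6922 (flp_a L115373) q4143, e3 q6923 (flp_a L166414) q10886, e3 q6924 L115385 q4372, e3 q6925 L115395 q6235, e3 q6926 L115401 q4145, e3 q6927 (flp_a L166442) q10890, e3 q6928 (flp_a L115705) q6984, e3 q6929 (flp_a L159559) q10037, e3 q6930 (flp_a L115423) q4147, e3 q6931 (flp_a L166460) q10893, e3 q6932 L115435 q4321, e3 q6933 L115443 q6933, e3 q6934 L115446 q4149, e3 q6935 L115452 q4150, e3 q6936 L115456 q4151, e3 q6937 (flp_a L166496) q10898, e3 q6938 (flp_a L166505) q10899, e3 q6939 (flp_a L151286) q6991, e3 q6940 (flp_a L115484) q6942, e3 q6941 L151293 q6996, e3 q6942 L115484 q6940, e3 q6943 L166558 q10908, e3 q6944 L166597 q10911, e3 q6945 (flp_a L115498) q4154, e3 q6946 (flp_a L166640) q10914, e3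 q6947 (flp_a L166644) q10915, e3 q6948 (flp_a L115507) q4155, e3 q6949 (flp_a L166660) q10918, e3 q6950 (flp_a L166664) q10919, e3 q6951 (flp_a L155078) q9392, e3 q6952 L115521 q4157, e3 q6953 L115525 q4158, e3 q6954 (flp_a L166700) q10924, e3 q6955 (flp_a L166706) q10925, e3 q6956 L115539 q6911, e3 q6957 (flp_a L155132) q9397, e3 q6958 L115551 q4160, e3 q6959 L115555 q4161, e3 q6960 (flp_a L166762) q10934, e3 q6961 (flp_a L166768) q10935, e3 q6962 L115569 q6915, e3 q6963 L115577 q6183, e3 q6964 (flp_a L155086) q9393, e3 q6965 (flp_a L129414) q8309, e3 q6966 L115595 q4165, e3 q6967 L115599 q4166, e3 q6968 (flp_a L118009) q7348, e3 q6969 (flp_a L166808) q10943, e3 q6970 L129741 q8333, e3 q6971 (flp_a L166818) q10944, e3 q6972 L120928 q4207, e3 q6973 L115631 q6920, e3 q6974 (flp_a L155140) q9398, e3 q6975 L115657 q6187, trivial⟩ (by decide +kernel)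

theorem ce_a_109 : ∀ r, r < 64 → sm ga (Qf (6976 + r)) = Qf (tab Gen.a (6976 + r)) :=
  edges_tab (sm ga) Qf (tab Gen.a) 6976 [(6976, 8315), (6977, 4171), (6978, 4172), (6979, 7249), (6980, 10955), (6981, 8341), (6982, 10956), (6983, 4224), (6984, 6928), (6985, 6985), (6986, 10966), (6987, 6987), (6988, 10967), (6989, 6989), (6990, 6990), (6991, 6939), (6992, 4180), (6993, 10971), (6994, 6994), (6995, 6995), (6996, 6941), (6997, 4183), (6998, 10976), (6999, 9530), (7000, 9491), (7001, 9532), (7002, 7039), (7003, 4236), (7004, 7103), (7005, 10984), (7006, 4188), (7007, 10988), (7008, 7014), (7009, 9552), (7010, 4190), (7011, 4191), (7012, 10994), (7013, 10995), (7014, 7008), (7015, 9543), (7016, 9545), (7017, 9492), (7018, 7067), (7019, 4257), (7020, 7143), (7021, 11008), (7022, 4196), (7023, 11012), (7024, 7030), (7025, 9539), (7026, 4198), (7027, 4199), (7028, 11018), (7029, 11019), (7030, 7024), (7031, 7032), (7032, 7031), (7033, 4202), (7034, 5317), (7035, 11026), (7036, 11027), (7037, 4204), (7038, 4205), (7039,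 7002)]
    ⟨e3 q6976 L151254 q8315, e3 q6977 L115669 q4171, e3 q6978 L115673 q4172, e3 q6979 (flp_a L117403) q7249, e3 q6980 (flp_a L166891) q10955, e3 q6981 (flp_a L151358) q8341, e3 q6982 (flp_a L166901) q10956, e3 q6983 L150715 q4224, e3 q6984 L115705 q6928, e3 q6985 L115715 q6985, e3 q6986 L166968 q10966, e3 q6987 L151174 q6987, e3 q6988 L166975 q10967, e3 q6989 L115752 q6989, e3 q6990 L115758 q6990, e3 q6991 L151286 q6939, e3 q6992 (flp_a L115766) q4180, e3 q6993 (flp_a L167008) q10971, e3 q6994 L149741 q6994, e3 q6995 L151156 q6995, e3 q6996 (flp_a L151293) q6941, e3 q6997 (flp_a L115802) q4183, e3 q6998 (flp_a L167062) q10976, e3 q6999 (flp_a L156090) q9530, e3 q7000 (flp_a L155800) q9491, e3 q7001 (flp_a L156102) q9532, e3 q7002 (flp_a L116035) q7039, e3 q7003 L115842 q4236, e3 q7004 (flp_a L116529) q7103, e3 q7005 L167114 q10984, e3 q7006 (flp_a L115852) q4188, e3 q7007 (flp_a L167142) q10988, e3 q7008 (flp_a L115890) q7014, e3 q7009 (flp_a L156278) q9552, e3 q7010 L115872 q4190, e3 q7011 L115876 q4191,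 e3 q7012 (flp_a L167170) q10994, e3 q7013 (flp_a L167174) q10995, e3 q7014 L115890 q7008, e3 q7015 (flp_a L156200) q9543, e3 q7016 (flp_a L156212) q9545, e3 q7017 (flp_a L155808) q9492, e3 q7018 (flp_a L116308) q7067, e3 q7019 L149737 q4257, e3 q7020 (flp_a L116727) q7143, e3 q7021 L167252 q11008, e3 q7022 (flp_a L115934) q4196, e3 q7023 (flp_a L167280) q11012, e3 q7024 (flp_a L115972) q7030, e3 q7025 (flp_a L156168) q9539, e3 q7026 L115954 q4198, e3 q7027 L115958 q4199, e3 q7028 (flp_a L167308) q11018, e3 q7029 (flp_a L167312) q11019, e3 q7030 L115972 q7024, e3 q7031 (flp_a L115988) q7032, e3 q7032 L115988 q7031, e3 q7033 (flp_a L115996) q4202, e3 q7034 (flp_a L116076) q5317, e3 q7035 (flp_a L167348) q11026, e3 q7036 (flp_a L167359) q11027, e3 q7037 L116016 q4204, e3 q7038 L116024 q4205, e3 q7039 L116035 q7002, trivial⟩ (by decide +kernel)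

theorem ce_a_110 : ∀ r, r < 64 → sm ga (Qf (7040 + r)) = Qf (tab Gen.a (7040 + r)) :=
  edges_tab (sm ga) Qf (tab Gen.a) 7040 [(7040, 7212), (7041, 7214), (7042, 10950), (7043, 7084), (7044, 10952), (7045, 9942), (7046, 4209), (7047, 11042), (7048, 7057), (7049, 6304), (7050, 11047), (7051, 4214), (7052, 4215), (7053, 11051), (7054, 11052), (7055, 11053), (7056, 7071), (7057, 7048), (7058, 6301), (7059, 7060), (7060, 7059), (7061, 4219), (7062, 5337), (7063, 11064), (7064, 11065), (7065, 4221), (7066, 4222), (7067, 7018), (7068, 7312), (7069, 7314), (7070, 10962), (7071, 7056), (7072, 10964), (7073, 9940), (7074, 4226), (7075, 11080), (7076, 7085), (7077, 6278), (7078, 11085), (7079, 4231), (7080, 4232), (7081, 11089), (7082, 11090), (7083, 11091), (7084, 7043), (7085, 7076), (7086, 6328), (7087, 7089), (7088, 11103), (7089, 7087), (7090, 9987), (7091, 4241), (7092, 10983), (7093, 4242), (7094, 11111), (7095, 4239), (7096, 11115), (7097, 11116), (7098, 11119), (7099, 7208), (7100, 7209), (7101, 11108), (7102, 10095),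 (7103, 7004)]
    ⟨e3 q7040 (flp_a L117183) q7212, e3 q7041 (flp_a L117199) q7214, e3 q7042 L166861 q10950, e3 q7043 L120937 q7084, e3 q7044 (flp_a L166873) q10952, e3 q7045 (flp_a L158863) q9942, e3 q7046 L116125 q4209, e3 q7047 (flp_a L167466) q11042, e3 q7048 (flp_a L116197) q7057, e3 q7049 L116153 q6304, e3 q7050 L167488 q11047, e3 q7051 L116165 q4214, e3 q7052 L116169 q4215, e3 q7053 (flp_a L167510) q11051, e3 q7054 (flp_a L167516) q11052, e3 q7055 (flp_a L167522) q11053, e3 q7056 (flp_a L151100) q7071, e3 q7057 L116197 q7048, e3 q7058 (flp_a L116211) q6301, e3 q7059 (flp_a L116263) q7060, e3 q7060 L116263 q7059, e3 q7061 (flp_a L116269) q4219, e3 q7062 L149725 q5337, e3 q7063 (flp_a L167588) q11064, e3 q7064 (flp_a L167596) q11065, e3 q7065 L116289 q4221, e3 q7066 L116297 q4222, e3 q7067 L116308 q7018, e3 q7068 (flp_a L117793) q7312, e3 q7069 (flp_a L117809) q7314, e3 q7070 L166944 q10962, e3 q7071 L151100 q7056, e3 q7072 (flp_a L166956) q10964, e3 q7073 (flp_a L158849) q9940, e3 q7074 L116357 q4226, e3 q7075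 (flp_a L167712) q11080, e3 q7076 (flp_a L116431) q7085, e3 q7077 L116387 q6278, e3 q7078 L167734 q11085, e3 q7079 L116399 q4231, e3 q7080 L116403 q4232, e3 q7081 (flp_a L167756) q11089, e3 q7082 (flp_a L167762) q11090, e3 q7083 (flp_a L167768) q11091, e3 q7084 (flp_a L120937) q7043, e3 q7085 L116431 q7076, e3 q7086 (flp_a L116445) q6328, e3 q7087 (flp_a L116463) q7089, e3 q7088 L167848 q11103, e3 q7089 L116463 q7087, e3 q7090 (flp_a L159219) q9987, e3 q7091 L116477 q4241, e3 q7092 (flp_a L167106) q10983, e3 q7093 L116485 q4242, e3 q7094 L167902 q11111, e3 q7095 (flp_a L116493) q4239, e3 q7096 (flp_a L167926) q11115, e3 q7097 (flp_a L167930) q11116, e3 q7098 L167944 q11119, e3 q7099 (flp_a L117155) q7208, e3 q7100 (flp_a L117165) q7209, e3 q7101 (flp_a L167886) q11108, e3 q7102 (flp_a L168061) q10095, e3 q7103 L116529 q7004, trivial⟩ (by decide +kernel)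

theorem ce_a_111 : ∀ r, r < 64 → sm ga (Qf (7104 + r)) = Qf (tab Gen.a (7104 + r)) :=
  edges_tab (sm ga) Qf (tab Gen.a) 7104 [(7104, 7164), (7105, 10097), (7106, 11131), (7107, 11134), (7108, 4246), (7109, 11139), (7110, 7125), (7111, 11144), (7112, 4248), (7113, 11147), (7114, 11148), (7115, 8686), (7116, 8691), (7117, 11154), (7118, 4252), (7119, 4253), (7120, 10882), (7121, 7260), (7122, 11158), (7123, 11159), (7124, 7144), (7125, 7110), (7126, 11170), (7127, 11173), (7128, 7129), (7129, 7128), (7130, 10004), (7131, 11007), (7132, 4262), (7133, 4263), (7134, 11181), (7135, 4260), (7136, 11185), (7137, 11106), (7138, 11188), (7139, 7308), (7140, 7309), (7141, 11179), (7142, 10114), (7143, 7020), (7144, 7124), (7145, 10116), (7146, 11200), (7147, 11203), (7148, 4267), (7149, 11208), (7150, 7165), (7151, 11213), (7152, 4269), (7153, 11216), (7154, 11217), (7155, 8679), (7156, 8674), (7157, 11223), (7158, 4273), (7159, 4274), (7160, 10874), (7161, 7360), (7162, 11227), (7163, 11228), (7164, 7104), (7165, 7150),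 (7166, 11239), (7167, 6162)]
    ⟨e3 q7104 (flp_a L168064) q7164, e3 q7105 (flp_a L168040) q10097, e3 q7106 L168024 q11131, e3 q7107 L168080 q11134, e3 q7108 L116555 q4246, e3 q7109 (flp_a L168110) q11139, e3 q7110 (flp_a L116633) q7125, e3 q7111 L168128 q11144, e3 q7112 (flp_a L116573) q4248, e3 q7113 (flp_a L168148) q11147, e3 q7114 (flp_a L168152) q11148, e3 q7115 L156848 q8686, e3 q7116 L156850 q8691, e3 q7117 L168198 q11154, e3 q7118 L116603 q4252, e3 q7119 L116607 q4253, e3 q7120 (flp_a L166388) q10882, e3 q7121 (flp_a L117461) q7260, e3 q7122 (flp_a L168210) q11158, e3 q7123 (flp_a L168214) q11159, e3 q7124 L156846 q7144, e3 q7125 L116633 q7110, e3 q7126 L168258 q11170, e3 q7127 L168276 q11173, e3 q7128 (flp_a L116661) q7129, e3 q7129 L116661 q7128, e3 q7130 (flp_a L159345) q10004, e3 q7131 (flp_a L167244) q11007, e3 q7132 L149701 q4262, e3 q7133 L116685 q4263, e3 q7134 L168336 q11181, e3 q7135 (flp_a L116693) q4260, e3 q7136 (flp_a L168360) q11185, e3 q7137 (flp_a L167874) q11106, e3 q7138 L168368 q11188,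 e3 q7139 (flp_a L117769) q7308, e3 q7140 (flp_a L117775) q7309, e3 q7141 (flp_a L168324) q11179, e3 q7142 L160040 q10114, e3 q7143 L116727 q7020, e3 q7144 (flp_a L156846) q7124, e3 q7145 (flp_a L160052) q10116, e3 q7146 L168438 q11200, e3 q7147 L168462 q11203, e3 q7148 L116755 q4267, e3 q7149 (flp_a L168498) q11208, e3 q7150 (flp_a L116859) q7165, e3 q7151 L168520 q11213, e3 q7152 (flp_a L116779) q4269, e3 q7153 (flp_a L168546) q11216, e3 q7154 (flp_a L168550) q11217, e3 q7155 L156867 q8679, e3 q7156 L156869 q8674, e3 q7157 L168600 q11223, e3 q7158 L116821 q4273, e3 q7159 L116825 q4274, e3 q7160 (flp_a L166338) q10874, e3 q7161 (flp_a L118075) q7360, e3 q7162 (flp_a L168618) q11227, e3 q7163 (flp_a L168624) q11228, e3 q7164 L168064 q7104, e3 q7165 L116859 q7150, e3 q7166 L168684 q11239, e3 q7167 L116881 q6162, trivial⟩ (by decide +kernel)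

theorem ce_a_112 : ∀ r, r < 64 → sm ga (Qf (7168 + r)) = Qf (tab Gen.a (7168 + r)) :=
  edges_tab (sm ga) Qf (tab Gen.a) 7168 [(7168, 9971), (7169, 10187), (7170, 10188), (7171, 10121), (7172, 10122), (7173, 10123), (7174, 7176), (7175, 11251), (7176, 7174), (7177, 6234), (7178, 4283), (7179, 11256), (7180, 6245), (7181, 4346), (7182, 4287), (7183, 4288), (7184, 8321), (7185, 8351), (7186, 8376), (7187, 7189), (7188, 11266), (7189, 7187), (7190, 8591), (7191, 4298), (7192, 4299), (7193, 4300), (7194, 11272), (7195, 4292), (7196, 11276), (7197, 11277), (7198, 9933), (7199, 4294), (7200, 4295), (7201, 11283), (7202, 11284), (7203, 4296), (7204, 11289), (7205, 8888), (7206, 11290), (7207, 11291), (7208, 7099), (7209, 7100), (7210, 8284), (7211, 8655), (7212, 7040), (7213, 11303), (7214, 7041), (7215, 4301), (7216, 7373), (7217, 11308), (7218, 11311), (7219, 11315), (7220, 4305), (7221, 11317), (7222, 11318), (7223, 4306), (7224, 11322), (7225, 6169), (7226, 11078), (7227, 11327), (7228, 4308), (7229, 11331), (7230,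 11332), (7231, 7264)]
    ⟨e3 q7168 (flp_a L159073) q9971, e3 q7169 (flp_a L160546) q10187, e3 q7170 (flp_a L160554) q10188, e3 q7171 (flp_a L160084) q10121, e3 q7172 (flp_a L160096) q10122, e3 q7173 (flp_a L160106) q10123, e3 q7174 (flp_a L116949) q7176, e3 q7175 L168780 q11251, e3 q7176 L116949 q7174, e3 q7177 (flp_a L116963) q6234, e3 q7178 (flp_a L116965) q4283, e3 q7179 (flp_a L168808) q11256, e3 q7180 L116981 q6245, e3 q7181 L116989 q4346, e3 q7182 L116995 q4287, e3 q7183 L117001 q4288, e3 q7184 (flp_a L129516) q8321, e3 q7185 (flp_a L129902) q8351, e3 q7186 (flp_a L130064) q8376, e3 q7187 (flp_a L117033) q7189, e3 q7188 L168877 q11266, e3 q7189 L117033 q7187, e3 q7190 L144153 q8591, e3 q7191 L117045 q4298, e3 q7192 L117055 q4299, e3 q7193 L117065 q4300, e3 q7194 L168915 q11272, e3 q7195 (flp_a L117077) q4292, e3 q7196 (flp_a L168933) q11276, e3 q7197 (flp_a L168939) q11277, e3 q7198 (flp_a L158799) q9933, e3 q7199 L117101 q4294, e3 q7200 L117107 q4295, e3 q7201 (flp_a L168979) q11283, e3 q7202 (flp_a L168983)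 q11284, e3 q7203 (flp_a L117123) q4296, e3 q7204 (flp_a L169009) q11289, e3 q7205 (flp_a L145951) q8888, e3 q7206 (flp_a L169015) q11290, e3 q7207 (flp_a L169023) q11291, e3 q7208 L117155 q7099, e3 q7209 L117165 q7100, e3 q7210 (flp_a L129221) q8284, e3 q7211 (flp_a L151702) q8655, e3 q7212 L117183 q7040, e3 q7213 L169113 q11303, e3 q7214 L117199 q7041, e3 q7215 (flp_a L117207) q4301, e3 q7216 (flp_a L118206) q7373, e3 q7217 L169145 q11308, e3 q7218 L169157 q11311, e3 q7219 L169179 q11315, e3 q7220 (flp_a L117231) q4305, e3 q7221 (flp_a L169193) q11317, e3 q7222 (flp_a L169201) q11318, e3 q7223 (flp_a L117247) q4306, e3 q7224 (flp_a L169229) q11322, e3 q7225 L117259 q6169, e3 q7226 (flp_a L167698) q11078, e3 q7227 L169259 q11327, e3 q7228 L117277 q4308, e3 q7229 (flp_a L169285) q11331, e3 q7230 (flp_a L169293) q11332, e3 q7231 (flp_a L117481) q7264, trivial⟩ (by decide +kernel)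

theorem ce_a_113 : ∀ r, r < 64 → sm ga (Qf (7232 + r)) = Qf (tab Gen.a (7232 + r)) :=
  edges_tab (sm ga) Qf (tab Gen.a) 7232 [(7232, 11339), (7233, 4310), (7234, 11342), (7235, 7240), (7236, 4312), (7237, 4313), (7238, 11345), (7239, 11346), (7240, 7235), (7241, 4315), (7242, 4316), (7243, 4317), (7244, 11356), (7245, 11353), (7246, 11354), (7247, 11355), (7248, 10896), (7249, 6979), (7250, 4318), (7251, 11367), (7252, 11368), (7253, 11369), (7254, 4322), (7255, 4323), (7256, 4324), (7257, 8549), (7258, 10895), (7259, 11385), (7260, 7121), (7261, 11378), (7262, 11379), (7263, 11380), (7264, 7231), (7265, 11398), (7266, 4326), (7267, 11401), (7268, 10186), (7269, 9969), (7270, 6163), (7271, 10222), (7272, 10223), (7273, 10154), (7274, 10155), (7275, 10156), (7276, 11411), (7277, 7278), (7278, 7277), (7279, 4333), (7280, 11416), (7281, 6226), (7282, 6216), (7283, 4338), (7284, 4339), (7285, 8324), (7286, 8383), (7287, 8355), (7288, 11425), (7289, 7290), (7290, 7289), (7291, 8592), (7292, 4349), (7293, 4350), (7294,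 4351), (7295, 11432)]
    ⟨e3 q7232 L169329 q11339, e3 q7233 (flp_a L117299) q4310, e3 q7234 (flp_a L169345) q11342, e3 q7235 (flp_a L117345) q7240, e3 q7236 L117321 q4312, e3 q7237 L117327 q4313, e3 q7238 (flp_a L169367) q11345, e3 q7239 (flp_a L169373) q11346, e3 q7240 L117345 q7235, e3 q7241 L117353 q4315, e3 q7242 L117359 q4316, e3 q7243 L117365 q4317, e3 q7244 L169441 q11356, e3 q7245 (flp_a L169417) q11353, e3 q7246 (flp_a L169423) q11354, e3 q7247 (flp_a L169433) q11355, e3 q7248 (flp_a L166478) q10896, e3 q7249 L117403 q6979, e3 q7250 (flp_a L117411) q4318, e3 q7251 (flp_a L169511) q11367, e3 q7252 (flp_a L169515) q11368, e3 q7253 (flp_a L169521) q11369, e3 q7254 L117429 q4322, e3 q7255 L117435 q4323, e3 q7256 L117441 q4324, e3 q7257 (flp_a L143677) q8549, e3 q7258 (flp_a L166470) q10895, e3 q7259 L169609 q11385, e3 q7260 L117461 q7121, e3 q7261 (flp_a L169567) q11378, e3 q7262 (flp_a L169573) q11379, e3 q7263 (flp_a L169583) q11380, e3 q7264 L117481 q7231, e3 q7265 L169677 q11398, e3 q7266 (flp_a L117491)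 q4326, e3 q7267 (flp_a L169695) q11401, e3 q7268 (flp_a L160536) q10186, e3 q7269 (flp_a L159055) q9969, e3 q7270 L117525 q6163, e3 q7271 (flp_a L160742) q10222, e3 q7272 (flp_a L160750) q10223, e3 q7273 (flp_a L160314) q10154, e3 q7274 (flp_a L160326) q10155, e3 q7275 (flp_a L160334) q10156, e3 q7276 L169785 q11411, e3 q7277 (flp_a L117587) q7278, e3 q7278 L117587 q7277, e3 q7279 (flp_a L117595) q4333, e3 q7280 (flp_a L169811) q11416, e3 q7281 L117611 q6226, e3 q7282 L117625 q6216, e3 q7283 L117629 q4338, e3 q7284 L117635 q4339, e3 q7285 (flp_a L129648) q8324, e3 q7286 (flp_a L130125) q8383, e3 q7287 (flp_a L129926) q8355, e3 q7288 L169878 q11425, e3 q7289 (flp_a L117667) q7290, e3 q7290 L117667 q7289, e3 q7291 L149594 q8592, e3 q7292 L117679 q4349, e3 q7293 L117685 q4350, e3 q7294 L117695 q4351, e3 q7295 L169920 q11432, trivial⟩ (by decide +kernel)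

theorem ce_a_114 : ∀ r, r < 64 → sm ga (Qf (7296 + r)) = Qf (tab Gen.a (7296 + r)) :=
  edges_tab (sm ga) Qf (tab Gen.a) 7296 [(7296, 4343), (7297, 11436), (7298, 11437), (7299, 9931), (7300, 4345), (7301, 11443), (7302, 11259), (7303, 4347), (7304, 11448), (7305, 8894), (7306, 11449), (7307, 11450), (7308, 7139), (7309, 7140), (7310, 8293), (7311, 8640), (7312, 7068), (7313, 11462), (7314, 7069), (7315, 4352), (7316, 7404), (7317, 11467), (7318, 11470), (7319, 11474), (7320, 4356), (7321, 11476), (7322, 11477), (7323, 4357), (7324, 11481), (7325, 11040), (7326, 6171), (7327, 11486), (7328, 4359), (7329, 11490), (7330, 11491), (7331, 7364), (7332, 11498), (7333, 4361), (7334, 11501), (7335, 7340), (7336, 4363), (7337, 4364), (7338, 11504), (7339, 11505), (7340, 7335), (7341, 4366), (7342, 4367), (7343, 4368), (7344, 11515), (7345, 11512), (7346, 11513), (7347, 11514), (7348, 6968), (7349, 10889), (7350, 4369), (7351, 11526), (7352, 11527), (7353, 11528), (7354, 4373), (7355, 4374), (7356, 4375), (7357, 8520), (7358,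 10888), (7359, 11544)]
    ⟨e3 q7296 (flp_a L117707) q4343, e3 q7297 (flp_a L169938) q11436, e3 q7298 (flp_a L169944) q11437, e3 q7299 (flp_a L158785) q9931, e3 q7300 L117733 q4345, e3 q7301 (flp_a L169994) q11443, e3 q7302 (flp_a L168830) q11259, e3 q7303 (flp_a L117745) q4347, e3 q7304 (flp_a L170014) q11448, e3 q7305 L149596 q8894, e3 q7306 (flp_a L170020) q11449, e3 q7307 (flp_a L170026) q11450, e3 q7308 L117769 q7139, e3 q7309 L117775 q7140, e3 q7310 L148933 q8293, e3 q7311 L151594 q8640, e3 q7312 L117793 q7068, e3 q7313 L170118 q11462, e3 q7314 L117809 q7069, e3 q7315 (flp_a L117817) q4352, e3 q7316 (flp_a L118379) q7404, e3 q7317 L170150 q11467, e3 q7318 L170162 q11470, e3 q7319 L170184 q11474, e3 q7320 (flp_a L117841) q4356, e3 q7321 (flp_a L170198) q11476, e3 q7322 (flp_a L170206) q11477, e3 q7323 (flp_a L117857) q4357, e3 q7324 (flp_a L170234) q11481, e3 q7325 (flp_a L167452) q11040, e3 q7326 L117875 q6171, e3 q7327 L170264 q11486, e3 q7328 L117887 q4359, e3 q7329 (flp_a L170284) q11490, e3 q7330 (flp_a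 L170292) q11491, e3 q7331 (flp_a L118095) q7364, e3 q7332 L170328 q11498, e3 q7333 (flp_a L117909) q4361, e3 q7334 (flp_a L170344) q11501, e3 q7335 (flp_a L117957) q7340, e3 q7336 L117931 q4363, e3 q7337 L117939 q4364, e3 q7338 (flp_a L170366) q11504, e3 q7339 (flp_a L170372) q11505, e3 q7340 L117957 q7335, e3 q7341 L117967 q4366, e3 q7342 L117973 q4367, e3 q7343 L117983 q4368, e3 q7344 L170442 q11515, e3 q7345 (flp_a L170418) q11512, e3 q7346 (flp_a L170424) q11513, e3 q7347 (flp_a L170434) q11514, e3 q7348 L118009 q6968, e3 q7349 (flp_a L166432) q10889, e3 q7350 (flp_a L118025) q4369, e3 q7351 (flp_a L170522) q11526, e3 q7352 (flp_a L170526) q11527, e3 q7353 (flp_a L170532) q11528, e3 q7354 L118043 q4373, e3 q7355 L118049 q4374, e3 q7356 L118055 q4375, e3 q7357 (flp_a L151385) q8520, e3 q7358 (flp_a L166424) q10888, e3 q7359 L170624 q11544, trivial⟩ (by decide +kernel)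

theorem ce_a_115 : ∀ r, r < 64 → sm ga (Qf (7360 + r)) = Qf (tab Gen.a (7360 + r)) :=
  edges_tab (sm ga) Qf (tab Gen.a) 7360 [(7360, 7161), (7361, 11537), (7362, 11538), (7363, 11539), (7364, 7331), (7365, 11557), (7366, 4377), (7367, 11560), (7368, 10153), (7369, 8301), (7370, 4379), (7371, 4380), (7372, 11563), (7373, 7216), (7374, 4381), (7375, 5780), (7376, 11566), (7377, 11569), (7378, 11511), (7379, 4386), (7380, 4385), (7381, 11576), (7382, 11577), (7383, 11578), (7384, 7434), (7385, 11575), (7386, 11366), (7387, 4388), (7388, 4389), (7389, 4390), (7390, 11590), (7391, 11591), (7392, 11592), (7393, 11593), (7394, 7395), (7395, 7394), (7396, 4392), (7397, 11607), (7398, 11608), (7399, 11609), (7400, 8304), (7401, 4395), (7402, 4396), (7403, 11615), (7404, 7316), (7405, 4397), (7406, 5783), (7407, 11618), (7408, 11621), (7409, 11352), (7410, 4402), (7411, 4401), (7412, 11628), (7413, 11629), (7414, 11630), (7415, 7438), (7416, 11627), (7417, 11525), (7418, 4404), (7419, 4405), (7420, 4406), (7421, 11642),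 (7422, 11643), (7423, 11644)]
    ⟨e3 q7360 L118075 q7161, e3 q7361 (flp_a L170582) q11537, e3 q7362 (flp_a L170588) q11538, e3 q7363 (flp_a L170598) q11539, e3 q7364 L118095 q7331, e3 q7365 L170692 q11557, e3 q7366 (flp_a L118105) q4377, e3 q7367 (flp_a L170710) q11560, e3 q7368 (flp_a L160306) q10153, e3 q7369 (flp_a L129350) q8301, e3 q7370 L118131 q4379, e3 q7371 L118137 q4380, e3 q7372 (flp_a L170744) q11563, e3 q7373 L118206 q7216, e3 q7374 (flp_a L118212) q4381, e3 q7375 (flp_a L120534) q5780, e3 q7376 (flp_a L170773) q11566, e3 q7377 L170803 q11569, e3 q7378 L170414 q11511, e3 q7379 L118236 q4386, e3 q7380 (flp_a L118242) q4385, e3 q7381 (flp_a L170847) q11576, e3 q7382 (flp_a L170851) q11577, e3 q7383 (flp_a L170859) q11578, e3 q7384 (flp_a L118570) q7434, e3 q7385 (flp_a L170837) q11575, e3 q7386 (flp_a L169507) q11366, e3 q7387 L118282 q4388, e3 q7388 L118286 q4389, e3 q7389 L118292 q4390, e3 q7390 (flp_a L170927) q11590, e3 q7391 (flp_a L170931) q11591, e3 q7392 (flp_a L170937) q11592, e3 q7393 (flp_a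 L170943) q11593, e3 q7394 (flp_a L118324) q7395, e3 q7395 L118324 q7394, e3 q7396 (flp_a L118330) q4392, e3 q7397 (flp_a L171025) q11607, e3 q7398 (flp_a L171031) q11608, e3 q7399 (flp_a L171037) q11609, e3 q7400 L151014 q8304, e3 q7401 L118358 q4395, e3 q7402 L118364 q4396, e3 q7403 (flp_a L171083) q11615, e3 q7404 L118379 q7316, e3 q7405 (flp_a L118385) q4397, e3 q7406 L118394 q5783, e3 q7407 (flp_a L171112) q11618, e3 q7408 L171142 q11621, e3 q7409 L169413 q11352, e3 q7410 L118425 q4402, e3 q7411 (flp_a L118431) q4401, e3 q7412 (flp_a L171190) q11628, e3 q7413 (flp_a L171194) q11629, e3 q7414 (flp_a L171204) q11630, e3 q7415 (flp_a L118617) q7438, e3 q7416 (flp_a L171180) q11627, e3 q7417 (flp_a L170518) q11525, e3 q7418 L118471 q4404, e3 q7419 L118475 q4405, e3 q7420 L118481 q4406, e3 q7421 (flp_a L171270) q11642, e3 q7422 (flp_a L171274) q11643, e3 q7423 (flp_a L171280) q11644, trivial⟩ (by decide +kernel)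

theorem ce_a_116 : ∀ r, r < 64 → sm ga (Qf (7424 + r)) = Qf (tab Gen.a (7424 + r)) :=
  edges_tab (sm ga) Qf (tab Gen.a) 7424 [(7424, 11645), (7425, 7426), (7426, 7425), (7427, 4408), (7428, 11659), (7429, 11660), (7430, 11661), (7431, 7431), (7432, 4412), (7433, 11668), (7434, 7384), (7435, 7435), (7436, 4415), (7437, 11675), (7438, 7415), (7439, 4430), (7440, 4431), (7441, 4432), (7442, 6540), (7443, 7671), (7444, 6580), (7445, 7835), (7446, 4423), (7447, 8901), (7448, 10416), (7449, 4426), (7450, 8908), (7451, 10382), (7452, 7452), (7453, 7453), (7454, 5802), (7455, 5803), (7456, 5799), (7457, 7637), (7458, 7802), (7459, 7460), (7460, 7459), (7461, 7461), (7462, 7464), (7463, 7463), (7464, 7462), (7465, 7465), (7466, 7673), (7467, 7467), (7468, 7837), (7469, 7469), (7470, 7470), (7471, 5749), (7472, 4441), (7473, 8954), (7474, 7474), (7475, 7475), (7476, 5750), (7477, 4444), (7478, 9021), (7479, 6408), (7480, 4447), (7481, 11697), (7482, 7508), (7483, 10359), (7484, 4451), (7485, 11699), (7486, 4745), (7487,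 4737)]
    ⟨e3 q7424 (flp_a L171286) q11645, e3 q7425 (flp_a L118513) q7426, e3 q7426 L118513 q7425, e3 q7427 (flp_a L118519) q4408, e3 q7428 (flp_a L171368) q11659, e3 q7429 (flp_a L171374) q11660, e3 q7430 (flp_a L171380) q11661, e3 q7431 L118543 q7431, e3 q7432 L118548 q4412, e3 q7433 L171421 q11668, e3 q7434 L118570 q7384, e3 q7435 L118586 q7435, e3 q7436 L118595 q4415, e3 q7437 L171454 q11675, e3 q7438 L118617 q7415, e3 q7439 L118689 q4430, e3 q7440 L118699 q4431, e3 q7441 L118707 q4432, e3 q7442 (flp_a L120540) q6540, e3 q7443 (flp_a L121959) q7671, e3 q7444 (flp_a L150920) q6580, e3 q7445 L149168 q7835, e3 q7446 L118762 q4423, e3 q7447 (flp_a L146106) q8901, e3 q7448 (flp_a L162030) q10416, e3 q7449 L118774 q4426, e3 q7450 (flp_a L151135) q8908, e3 q7451 (flp_a L161800) q10382, e3 q7452 L118795 q7452, e3 q7453 L118802 q7453, e3 q7454 L118816 q5802, e3 q7455 L118826 q5803, e3 q7456 L118836 q5799, e3 q7457 L121777 q7637, e3 q7458 (flp_a L149182) q7802, e3 q7459 (flp_a L118864) q7460, e3 q7460 L118864 q7459,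 e3 q7461 L118875 q7461, e3 q7462 (flp_a L118889) q7464, e3 q7463 L120708 q7463, e3 q7464 L118889 q7462, e3 q7465 L118901 q7465, e3 q7466 (flp_a L121972) q7673, e3 q7467 L120699 q7467, e3 q7468 L149150 q7837, e3 q7469 L118927 q7469, e3 q7470 L120605 q7470, e3 q7471 L120615 q5749, e3 q7472 (flp_a L120633) q4441, e3 q7473 (flp_a L151882) q8954, e3 q7474 L120709 q7474, e3 q7475 L120698 q7475, e3 q7476 (flp_a L120696) q5750, e3 q7477 (flp_a L120710) q4444, e3 q7478 (flp_a L152326) q9021, e3 q7479 L120720 q6408, e3 q7480 L120730 q4447, e3 q7481 (flp_a L171608) q11697, e3 q7482 (flp_a L120901) q7508, e3 q7483 (flp_a L161647) q10359, e3 q7484 L120758 q4451, e3 q7485 (flp_a L171624) q11699, e3 q7486 L120766 q4745, e3 q7487 L120772 q4737, trivial⟩ (by decide +kernel)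

theorem ce_a_117 : ∀ r, r < 64 → sm ga (Qf (7488 + r)) = Qf (tab Gen.a (7488 + r)) :=
  edges_tab (sm ga) Qf (tab Gen.a) 7488 [(7488, 6440), (7489, 4455), (7490, 11703), (7491, 7522), (7492, 10322), (7493, 4459), (7494, 11705), (7495, 4646), (7496, 4636), (7497, 5838), (7498, 9388), (7499, 4465), (7500, 8336), (7501, 7942), (7502, 4469), (7503, 4470), (7504, 7659), (7505, 4633), (7506, 11710), (7507, 4501), (7508, 7482), (7509, 4503), (7510, 7702), (7511, 5843), (7512, 9389), (7513, 4477), (7514, 8344), (7515, 8000), (7516, 4481), (7517, 4482), (7518, 7824), (7519, 4733), (7520, 11719), (7521, 4536), (7522, 7491), (7523, 4538), (7524, 7866), (7525, 4486), (7526, 9193), (7527, 5845), (7528, 7528), (7529, 4491), (7530, 4492), (7531, 4493), (7532, 6859), (7533, 5514), (7534, 6857), (7535, 11727), (7536, 7537), (7537, 7536), (7538, 4498), (7539, 7539), (7540, 6417), (7541, 11713), (7542, 11715), (7543, 11716), (7544, 7610), (7545, 7612), (7546, 7737), (7547, 4713), (7548, 8017), (7549, 4506), (7550, 11744), (7551,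 11745)]
    ⟨e3 q7488 L120780 q6440, e3 q7489 L120788 q4455, e3 q7490 (flp_a L171652) q11703, e3 q7491 (flp_a L121027) q7522, e3 q7492 (flp_a L161396) q10322, e3 q7493 L120812 q4459, e3 q7494 (flp_a L171668) q11705, e3 q7495 L120820 q4646, e3 q7496 L120826 q4636, e3 q7497 L120838 q5838, e3 q7498 (flp_a L155028) q9388, e3 q7499 (flp_a L120846) q4465, e3 q7500 (flp_a L129769) q8336, e3 q7501 (flp_a L123424) q7942, e3 q7502 L120864 q4469, e3 q7503 L120868 q4470, e3 q7504 (flp_a L121901) q7659, e3 q7505 L163941 q4633, e3 q7506 (flp_a L171702) q11710, e3 q7507 (flp_a L120935) q4501, e3 q7508 L120901 q7482, e3 q7509 (flp_a L120931) q4503, e3 q7510 (flp_a L122136) q7702, e3 q7511 L150674 q5843, e3 q7512 (flp_a L155042) q9389, e3 q7513 (flp_a L120965) q4477, e3 q7514 (flp_a L151111) q8344, e3 q7515 L150666 q8000, e3 q7516 L120983 q4481, e3 q7517 L120987 q4482, e3 q7518 L151083 q7824, e3 q7519 L163947 q4733, e3 q7520 (flp_a L171772) q11719, e3 q7521 L150718 q4536, e3 q7522 L121027 q7491, e3 q7523 L150709 q4538, e3 q7524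 L150732 q7866, e3 q7525 (flp_a L121040) q4486, e3 q7526 (flp_a L153598) q9193, e3 q7527 L156036 q5845, e3 q7528 L121062 q7528, e3 q7529 L121068 q4491, e3 q7530 L121080 q4492, e3 q7531 L121089 q4493, e3 q7532 L121093 q6859, e3 q7533 L121103 q5514, e3 q7534 L121111 q6857, e3 q7535 (flp_a L171836) q11727, e3 q7536 (flp_a L121131) q7537, e3 q7537 L121131 q7536, e3 q7538 L121137 q4498, e3 q7539 L121149 q7539, e3 q7540 L121155 q6417, e3 q7541 L171729 q11713, e3 q7542 (flp_a L171743) q11715, e3 q7543 (flp_a L171748) q11716, e3 q7544 L121621 q7610, e3 q7545 (flp_a L121633) q7612, e3 q7546 (flp_a L163933) q7737, e3 q7547 L121186 q4713, e3 q7548 (flp_a L163967) q8017, e3 q7549 L121198 q4506, e3 q7550 (flp_a L171970) q11744, e3 q7551 (flp_a L171980) q11745, trivial⟩ (by decide +kernel)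

theorem ce_a_118 : ∀ r, r < 64 → sm ga (Qf (7552 + r)) = Qf (tab Gen.a (7552 + r)) :=
  edges_tab (sm ga) Qf (tab Gen.a) 7552 [(7552, 7566), (7553, 11749), (7554, 9803), (7555, 4511), (7556, 11751), (7557, 9802), (7558, 11752), (7559, 4514), (7560, 4515), (7561, 4516), (7562, 11759), (7563, 11756), (7564, 11757), (7565, 7589), (7566, 7552), (7567, 7590), (7568, 11768), (7569, 6500), (7570, 4521), (7571, 9198), (7572, 5841), (7573, 7573), (7574, 4526), (7575, 4527), (7576, 4528), (7577, 6881), (7578, 5558), (7579, 11770), (7580, 6878), (7581, 7582), (7582, 7581), (7583, 4533), (7584, 7584), (7585, 6448), (7586, 11722), (7587, 11724), (7588, 11725), (7589, 7565), (7590, 7567), (7591, 7898), (7592, 4614), (7593, 7959), (7594, 4541), (7595, 11787), (7596, 11788), (7597, 7611), (7598, 11792), (7599, 9856), (7600, 4546), (7601, 11794), (7602, 11795), (7603, 9855), (7604, 4549), (7605, 4550), (7606, 4551), (7607, 11802), (7608, 11799), (7609, 11800), (7610, 7544), (7611, 7597), (7612, 7545), (7613, 11811), (7614, 6533),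 (7615, 6389)]
    ⟨e3 q7552 (flp_a L121292) q7566, e3 q7553 L171998 q11749, e3 q7554 (flp_a L157993) q9803, e3 q7555 (flp_a L121230) q4511, e3 q7556 (flp_a L172007) q11751, e3 q7557 (flp_a L157983) q9802, e3 q7558 (flp_a L172015) q11752, e3 q7559 L121246 q4514, e3 q7560 L121252 q4515, e3 q7561 L121256 q4516, e3 q7562 L172065 q11759, e3 q7563 (flp_a L172043) q11756, e3 q7564 (flp_a L172055) q11757, e3 q7565 L151102 q7589, e3 q7566 L121292 q7552, e3 q7567 (flp_a L151091) q7590, e3 q7568 L172117 q11768, e3 q7569 L121311 q6500, e3 q7570 (flp_a L121333) q4521, e3 q7571 L153646 q9198, e3 q7572 L156056 q5841, e3 q7573 L121383 q7573, e3 q7574 L121386 q4526, e3 q7575 L121390 q4527, e3 q7576 L121394 q4528, e3 q7577 L149188 q6881, e3 q7578 L150811 q5558, e3 q7579 (flp_a L172127) q11770, e3 q7580 L150880 q6878, e3 q7581 (flp_a L121418) q7582, e3 q7582 L121418 q7581, e3 q7583 L121428 q4533, e3 q7584 L149205 q7584, e3 q7585 L121454 q6448, e3 q7586 (flp_a L171799) q11722, e3 q7587 (flp_a L171813) q11724, e3 q7588 (flp_a L171818)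 q11725, e3 q7589 (flp_a L151102) q7565, e3 q7590 L151091 q7567, e3 q7591 (flp_a L163874) q7898, e3 q7592 L121515 q4614, e3 q7593 L163864 q7959, e3 q7594 L121527 q4541, e3 q7595 (flp_a L172269) q11787, e3 q7596 (flp_a L172279) q11788, e3 q7597 (flp_a L121625) q7611, e3 q7598 L172297 q11792, e3 q7599 (flp_a L158291) q9856, e3 q7600 (flp_a L121565) q4546, e3 q7601 (flp_a L172312) q11794, e3 q7602 (flp_a L172320) q11795, e3 q7603 (flp_a L158281) q9855, e3 q7604 L121577 q4549, e3 q7605 L121583 q4550, e3 q7606 L121587 q4551, e3 q7607 L172370 q11802, e3 q7608 (flp_a L172348) q11799, e3 q7609 (flp_a L172360) q11800, e3 q7610 (flp_a L121621) q7544, e3 q7611 L121625 q7597, e3 q7612 L121633 q7545, e3 q7613 L172430 q11811, e3 q7614 L121643 q6533, e3 q7615 L121649 q6389, trivial⟩ (by decide +kernel)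

theorem ce_a_119 : ∀ r, r < 64 → sm ga (Qf (7616 + r)) = Qf (tab Gen.a (7616 + r)) :=
  edges_tab (sm ga) Qf (tab Gen.a) 7616 [(7616, 6397), (7617, 11814), (7618, 5522), (7619, 8860), (7620, 11818), (7621, 5177), (7622, 11822), (7623, 4561), (7624, 11826), (7625, 11827), (7626, 7710), (7627, 6439), (7628, 4565), (7629, 11833), (7630, 6459), (7631, 4690), (7632, 4571), (7633, 4572), (7634, 4573), (7635, 4574), (7636, 11844), (7637, 7457), (7638, 6858), (7639, 6852), (7640, 11839), (7641, 11840), (7642, 11841), (7643, 11842), (7644, 7646), (7645, 11856), (7646, 7644), (7647, 7689), (7648, 4576), (7649, 11859), (7650, 4594), (7651, 11861), (7652, 4582), (7653, 11864), (7654, 11846), (7655, 4584), (7656, 4585), (7657, 11868), (7658, 11869), (7659, 7504), (7660, 10296), (7661, 7900), (7662, 4589), (7663, 4590), (7664, 11873), (7665, 11874), (7666, 11875), (7667, 11881), (7668, 6486), (7669, 6487), (7670, 4938), (7671, 7443), (7672, 9360), (7673, 7466), (7674, 4595), (7675, 11890), (7676, 7841), (7677, 7840), (7678,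 4597), (7679, 7680)]
    ⟨e3 q7616 L150956 q6397, e3 q7617 L172448 q11814, e3 q7618 L121665 q5522, e3 q7619 (flp_a L145736) q8860, e3 q7620 L172472 q11818, e3 q7621 L121686 q5177, e3 q7622 L172487 q11822, e3 q7623 (flp_a L121699) q4561, e3 q7624 (flp_a L172521) q11826, e3 q7625 (flp_a L172525) q11827, e3 q7626 L150958 q7710, e3 q7627 L121711 q6439, e3 q7628 L121717 q4565, e3 q7629 (flp_a L172557) q11833, e3 q7630 L121729 q6459, e3 q7631 L121735 q4690, e3 q7632 L121741 q4571, e3 q7633 L121751 q4572, e3 q7634 L121758 q4573, e3 q7635 L121764 q4574, e3 q7636 L172641 q11844, e3 q7637 (flp_a L121777) q7457, e3 q7638 L121783 q6858, e3 q7639 L121789 q6852, e3 q7640 (flp_a L172599) q11839, e3 q7641 (flp_a L172610) q11840, e3 q7642 (flp_a L172620) q11841, e3 q7643 (flp_a L172630) q11842, e3 q7644 (flp_a L121827) q7646, e3 q7645 L172731 q11856, e3 q7646 L121827 q7644, e3 q7647 L171896 q7689, e3 q7648 (flp_a L121837) q4576, e3 q7649 (flp_a L172755) q11859, e3 q7650 L121847 q4594, e3 q7651 L172773 q11861, e3 q7652 (flp_a L121865)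 q4582, e3 q7653 (flp_a L172789) q11864, e3 q7654 L172655 q11846, e3 q7655 L121881 q4584, e3 q7656 L121885 q4585, e3 q7657 (flp_a L172817) q11868, e3 q7658 (flp_a L172825) q11869, e3 q7659 L121901 q7504, e3 q7660 (flp_a L161188) q10296, e3 q7661 (flp_a L151828) q7900, e3 q7662 L121915 q4589, e3 q7663 L121919 q4590, e3 q7664 (flp_a L172855) q11873, e3 q7665 (flp_a L172865) q11874, e3 q7666 (flp_a L172871) q11875, e3 q7667 L172905 q11881, e3 q7668 L121939 q6486, e3 q7669 L121946 q6487, e3 q7670 L150865 q4938, e3 q7671 L121959 q7443, e3 q7672 L154851 q9360, e3 q7673 L121972 q7466, e3 q7674 (flp_a L121982) q4595, e3 q7675 (flp_a L172986) q11890, e3 q7676 L149802 q7841, e3 q7677 (flp_a L150458) q7840, e3 q7678 (flp_a L121996) q4597, e3 q7679 (flp_a L122038) q7680, trivial⟩ (by decide +kernel)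

theorem ce_a_120 : ∀ r, r < 64 → sm ga (Qf (7680 + r)) = Qf (tab Gen.a (7680 + r)) :=
  edges_tab (sm ga) Qf (tab Gen.a) 7680 [(7680, 7679), (7681, 11895), (7682, 11898), (7683, 11902), (7684, 4602), (7685, 11726), (7686, 11904), (7687, 4603), (7688, 11905), (7689, 7647), (7690, 11858), (7691, 11907), (7692, 4605), (7693, 7947), (7694, 11910), (7695, 11913), (7696, 4607), (7697, 11916), (7698, 4609), (7699, 4610), (7700, 4865), (7701, 11918), (7702, 7510), (7703, 4612), (7704, 11926), (7705, 11925), (7706, 6400), (7707, 9868), (7708, 4615), (7709, 11932), (7710, 7626), (7711, 11933), (7712, 4617), (7713, 4618), (7714, 11940), (7715, 4748), (7716, 11939), (7717, 7772), (7718, 7773), (7719, 11949), (7720, 4620), (7721, 11952), (7722, 11953), (7723, 4622), (7724, 11957), (7725, 7732), (7726, 4626), (7727, 4627), (7728, 6757), (7729, 11959), (7730, 10675), (7731, 9489), (7732, 7725), (7733, 4808), (7734, 4634), (7735, 4635), (7736, 4632), (7737, 7546), (7738, 7826), (7739, 11968), (7740, 10946), (7741, 4735), (7742,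 11974), (7743, 7743)]
    ⟨e3 q7680 L122038 q7679, e3 q7681 L173020 q11895, e3 q7682 L173034 q11898, e3 q7683 L173056 q11902, e3 q7684 (flp_a L122058) q4602, e3 q7685 L171830 q11726, e3 q7686 (flp_a L173080) q11904, e3 q7687 (flp_a L122070) q4603, e3 q7688 (flp_a L173090) q11905, e3 q7689 (flp_a L171896) q7647, e3 q7690 (flp_a L172749) q11858, e3 q7691 L173108 q11907, e3 q7692 L122084 q4605, e3 q7693 (flp_a L123462) q7947, e3 q7694 (flp_a L173128) q11910, e3 q7695 L173148 q11913, e3 q7696 (flp_a L122106) q4607, e3 q7697 (flp_a L173166) q11916, e3 q7698 L122116 q4609, e3 q7699 L122120 q4610, e3 q7700 L163850 q4865, e3 q7701 (flp_a L173182) q11918, e3 q7702 L122136 q7510, e3 q7703 L122142 q4612, e3 q7704 L173268 q11926, e3 q7705 (flp_a L173260) q11925, e3 q7706 L122154 q6400, e3 q7707 L158355 q9868, e3 q7708 (flp_a L122164) q4615, e3 q7709 (flp_a L173315) q11932, e3 q7710 (flp_a L150958) q7626, e3 q7711 (flp_a L173323) q11933, e3 q7712 L122178 q4617, e3 q7713 L122186 q4618, e3 q7714 L173357 q11940, e3 q7715 L122194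 q4748, e3 q7716 (flp_a L173351) q11939, e3 q7717 (flp_a L122470) q7772, e3 q7718 (flp_a L122478) q7773, e3 q7719 L173395 q11949, e3 q7720 (flp_a L122218) q4620, e3 q7721 (flp_a L173413) q11952, e3 q7722 (flp_a L173417) q11953, e3 q7723 L122228 q4622, e3 q7724 (flp_a L173459) q11957, e3 q7725 (flp_a L122268) q7732, e3 q7726 L122244 q4626, e3 q7727 L122248 q4627, e3 q7728 L163521 q6757, e3 q7729 (flp_a L173483) q11959, e3 q7730 (flp_a L164817) q10675, e3 q7731 (flp_a L156038) q9489, e3 q7732 L122268 q7725, e3 q7733 L123966 q4808, e3 q7734 L122282 q4634, e3 q7735 L122288 q4635, e3 q7736 (flp_a L122294) q4632, e3 q7737 L163933 q7546, e3 q7738 (flp_a L122832) q7826, e3 q7739 (flp_a L173550) q11968, e3 q7740 (flp_a L166832) q10946, e3 q7741 L163925 q4735, e3 q7742 L173601 q11974, e3 q7743 L173309 q7743, trivial⟩ (by decide +kernel)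

theorem ce_a_121 : ∀ r, r < 64 → sm ga (Qf (7744 + r)) = Qf (tab Gen.a (7744 + r)) :=
  edges_tab (sm ga) Qf (tab Gen.a) 7744 [(7744, 8032), (7745, 4778), (7746, 4639), (7747, 4640), (7748, 4641), (7749, 9136), (7750, 11980), (7751, 11706), (7752, 11981), (7753, 8537), (7754, 7755), (7755, 7754), (7756, 11992), (7757, 4649), (7758, 4650), (7759, 4651), (7760, 8548), (7761, 8550), (7762, 11708), (7763, 4647), (7764, 12002), (7765, 12003), (7766, 12004), (7767, 12005), (7768, 4747), (7769, 4717), (7770, 11996), (7771, 11997), (7772, 7717), (7773, 7718), (7774, 12022), (7775, 4653), (7776, 12024), (7777, 12025), (7778, 4655), (7779, 6795), (7780, 6813), (7781, 6394), (7782, 6391), (7783, 12031), (7784, 5566), (7785, 8874), (7786, 12033), (7787, 5188), (7788, 4662), (7789, 12038), (7790, 12039), (7791, 7875), (7792, 12044), (7793, 4666), (7794, 12047), (7795, 6428), (7796, 6409), (7797, 4672), (7798, 4673), (7799, 4674), (7800, 4675), (7801, 12057), (7802, 7458), (7803, 6879), (7804, 6873), (7805, 12052), (7806, 12053),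 (7807, 12054)]
    ⟨e3 q7744 (flp_a L124057) q8032, e3 q7745 L122342 q4778, e3 q7746 L122346 q4639, e3 q7747 L122350 q4640, e3 q7748 L122354 q4641, e3 q7749 L163965 q9136, e3 q7750 (flp_a L173639) q11980, e3 q7751 (flp_a L171680) q11706, e3 q7752 (flp_a L173643) q11981, e3 q7753 (flp_a L143607) q8537, e3 q7754 (flp_a L122380) q7755, e3 q7755 L122380 q7754, e3 q7756 L173711 q11992, e3 q7757 L122390 q4649, e3 q7758 L122396 q4650, e3 q7759 L122406 q4651, e3 q7760 (flp_a L143669) q8548, e3 q7761 (flp_a L143683) q8550, e3 q7762 (flp_a L171690) q11708, e3 q7763 (flp_a L122422) q4647, e3 q7764 (flp_a L173773) q12002, e3 q7765 (flp_a L173777) q12003, e3 q7766 (flp_a L173783) q12004, e3 q7767 (flp_a L173789) q12005, e3 q7768 L122446 q4747, e3 q7769 L122452 q4717, e3 q7770 (flp_a L173729) q11996, e3 q7771 (flp_a L173735) q11997, e3 q7772 L122470 q7717, e3 q7773 L122478 q7718, e3 q7774 L173875 q12022, e3 q7775 (flp_a L122488) q4653, e3 q7776 (flp_a L173893) q12024, e3 q7777 (flp_a L173899) q12025, e3 q7778 L122500 q4655, e3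 q7779 L163772 q6795, e3 q7780 (flp_a L163665) q6813, e3 q7781 L122516 q6394, e3 q7782 L122524 q6391, e3 q7783 L173941 q12031, e3 q7784 (flp_a L150426) q5566, e3 q7785 L150401 q8874, e3 q7786 L173951 q12033, e3 q7787 L149973 q5188, e3 q7788 (flp_a L122601) q4662, e3 q7789 (flp_a L173976) q12038, e3 q7790 (flp_a L173982) q12039, e3 q7791 L173998 q7875, e3 q7792 L174032 q12044, e3 q7793 L122619 q4666, e3 q7794 (flp_a L174058) q12047, e3 q7795 L122631 q6428, e3 q7796 L122639 q6409, e3 q7797 L122645 q4672, e3 q7798 L122655 q4673, e3 q7799 L122662 q4674, e3 q7800 L122668 q4675, e3 q7801 L174142 q12057, e3 q7802 L149182 q7458, e3 q7803 L122684 q6879, e3 q7804 L122690 q6873, e3 q7805 (flp_a L174100) q12052, e3 q7806 (flp_a L174110) q12053, e3 q7807 (flp_a L174121) q12054, trivial⟩ (by decide +kernel)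

theorem ce_a_122 : ∀ r, r < 64 → sm ga (Qf (7808 + r)) = Qf (tab Gen.a (7808 + r)) :=
  edges_tab (sm ga) Qf (tab Gen.a) 7808 [(7808, 12055), (7809, 12068), (7810, 7811), (7811, 7810), (7812, 4676), (7813, 12071), (7814, 7854), (7815, 4694), (7816, 12074), (7817, 4683), (7818, 12077), (7819, 12059), (7820, 4685), (7821, 4686), (7822, 11870), (7823, 12081), (7824, 7518), (7825, 10294), (7826, 7738), (7827, 4689), (7828, 12084), (7829, 12085), (7830, 11838), (7831, 12090), (7832, 6519), (7833, 6520), (7834, 4939), (7835, 7445), (7836, 9361), (7837, 7468), (7838, 4695), (7839, 12099), (7840, 7677), (7841, 7676), (7842, 4697), (7843, 7844), (7844, 7843), (7845, 12104), (7846, 12107), (7847, 11903), (7848, 4702), (7849, 11717), (7850, 12111), (7851, 4703), (7852, 12112), (7853, 12070), (7854, 7814), (7855, 11990), (7856, 4705), (7857, 8005), (7858, 12116), (7859, 12119), (7860, 4707), (7861, 12122), (7862, 4709), (7863, 4710), (7864, 4836), (7865, 12124), (7866, 7524), (7867, 4712), (7868, 12131), (7869, 11971), (7870,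 9815), (7871, 6402)]
    ⟨e3 q7808 (flp_a L174129) q12055, e3 q7809 L174236 q12068, e3 q7810 (flp_a L122726) q7811, e3 q7811 L122726 q7810, e3 q7812 (flp_a L122732) q4676, e3 q7813 (flp_a L174260) q12071, e3 q7814 (flp_a L172188) q7854, e3 q7815 L122770 q4694, e3 q7816 L174288 q12074, e3 q7817 (flp_a L122786) q4683, e3 q7818 (flp_a L174308) q12077, e3 q7819 (flp_a L174160) q12059, e3 q7820 L122802 q4685, e3 q7821 L122806 q4686, e3 q7822 (flp_a L172833) q11870, e3 q7823 (flp_a L174338) q12081, e3 q7824 (flp_a L151083) q7518, e3 q7825 (flp_a L161174) q10294, e3 q7826 L122832 q7738, e3 q7827 L122842 q4689, e3 q7828 (flp_a L174362) q12084, e3 q7829 (flp_a L174372) q12085, e3 q7830 (flp_a L172593) q11838, e3 q7831 L174400 q12090, e3 q7832 L122858 q6519, e3 q7833 L122865 q6520, e3 q7834 L151177 q4939, e3 q7835 (flp_a L149168) q7445, e3 q7836 (flp_a L154860) q9361, e3 q7837 (flp_a L149150) q7468, e3 q7838 (flp_a L122897) q4695, e3 q7839 (flp_a L174495) q12099, e3 q7840 L150458 q7677, e3 q7841 (flp_a L149802) q7676, e3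 q7842 (flp_a L122909) q4697, e3 q7843 L149419 q7844, e3 q7844 (flp_a L149419) q7843, e3 q7845 L174543 q12104, e3 q7846 L174563 q12107, e3 q7847 (flp_a L173068) q11903, e3 q7848 (flp_a L122953) q4702, e3 q7849 L171760 q11717, e3 q7850 (flp_a L174597) q12111, e3 q7851 (flp_a L122965) q4703, e3 q7852 (flp_a L174609) q12112, e3 q7853 (flp_a L174254) q12070, e3 q7854 L172188 q7814, e3 q7855 (flp_a L173699) q11990, e3 q7856 L122979 q4705, e3 q7857 L149335 q8005, e3 q7858 (flp_a L174643) q12116, e3 q7859 L174663 q12119, e3 q7860 (flp_a L123001) q4707, e3 q7861 (flp_a L174679) q12122, e3 q7862 L123015 q4709, e3 q7863 L123019 q4710, e3 q7864 L163860 q4836, e3 q7865 (flp_a L174699) q12124, e3 q7866 (flp_a L150732) q7524, e3 q7867 L123045 q4712, e3 q7868 L174779 q12131, e3 q7869 (flp_a L173578) q11971, e3 q7870 (flp_a L158055) q9815, e3 q7871 L123061 q6402, trivial⟩ (by decide +kernel)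

theorem ce_a_123 : ∀ r, r < 64 → sm ga (Qf (7872 + r)) = Qf (tab Gen.a (7872 + r)) :=
  edges_tab (sm ga) Qf (tab Gen.a) 7872 [(7872, 4715), (7873, 12137), (7874, 12138), (7875, 7791), (7876, 4718), (7877, 12144), (7878, 12016), (7879, 7926), (7880, 7927), (7881, 12152), (7882, 4720), (7883, 12155), (7884, 12156), (7885, 4722), (7886, 12160), (7887, 7894), (7888, 4726), (7889, 4727), (7890, 6831), (7891, 12162), (7892, 10759), (7893, 9481), (7894, 7887), (7895, 4770), (7896, 4734), (7897, 4732), (7898, 7591), (7899, 12170), (7900, 7661), (7901, 10958), (7902, 7902), (7903, 12174), (7904, 7975), (7905, 4816), (7906, 4739), (7907, 4740), (7908, 4741), (7909, 9082), (7910, 12178), (7911, 12179), (7912, 11700), (7913, 7915), (7914, 8508), (7915, 7913), (7916, 4749), (7917, 8519), (7918, 8521), (7919, 11702), (7920, 4746), (7921, 12192), (7922, 12193), (7923, 12194), (7924, 12015), (7925, 11944), (7926, 7879), (7927, 7880), (7928, 12205), (7929, 4751), (7930, 12207), (7931, 12208), (7932, 4753), (7933, 6720), (7934,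 6739), (7935, 8327)]
    ⟨e3 q7872 (flp_a L123067) q4715, e3 q7873 (flp_a L174832) q12137, e3 q7874 (flp_a L174840) q12138, e3 q7875 (flp_a L173998) q7791, e3 q7876 L123081 q4718, e3 q7877 L174866 q12144, e3 q7878 (flp_a L173847) q12016, e3 q7879 (flp_a L123333) q7926, e3 q7880 (flp_a L123343) q7927, e3 q7881 L174900 q12152, e3 q7882 (flp_a L123109) q4720, e3 q7883 (flp_a L174914) q12155, e3 q7884 (flp_a L174918) q12156, e3 q7885 L123119 q4722, e3 q7886 (flp_a L174966) q12160, e3 q7887 (flp_a L123161) q7894, e3 q7888 L123135 q4726, e3 q7889 L123141 q4727, e3 q7890 L163695 q6831, e3 q7891 (flp_a L174990) q12162, e3 q7892 (flp_a L165430) q10759, e3 q7893 (flp_a L156058) q9481, e3 q7894 L123161 q7887, e3 q7895 L123971 q4770, e3 q7896 L123177 q4734, e3 q7897 (flp_a L123189) q4732, e3 q7898 L163874 q7591, e3 q7899 (flp_a L175055) q12170, e3 q7900 L151828 q7661, e3 q7901 (flp_a L166915) q10958, e3 q7902 L173310 q7902, e3 q7903 L175096 q12174, e3 q7904 L151818 q7975, e3 q7905 L123237 q4816, e3 q7906 L123241 q4739, e3 q7907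 L123245 q4740, e3 q7908 L123249 q4741, e3 q7909 L163957 q9082, e3 q7910 (flp_a L175124) q12178, e3 q7911 (flp_a L175128) q12179, e3 q7912 (flp_a L171636) q11700, e3 q7913 (flp_a L123275) q7915, e3 q7914 (flp_a L151387) q8508, e3 q7915 L123275 q7913, e3 q7916 L123281 q4749, e3 q7917 (flp_a L151383) q8519, e3 q7918 (flp_a L151258) q8521, e3 q7919 (flp_a L171646) q11702, e3 q7920 (flp_a L123303) q4746, e3 q7921 (flp_a L175218) q12192, e3 q7922 (flp_a L175224) q12193, e3 q7923 (flp_a L175230) q12194, e3 q7924 (flp_a L173841) q12015, e3 q7925 (flp_a L173373) q11944, e3 q7926 L123333 q7879, e3 q7927 L123343 q7880, e3 q7928 L175288 q12205, e3 q7929 (flp_a L123353) q4751, e3 q7930 (flp_a L175306) q12207, e3 q7931 (flp_a L175312) q12208, e3 q7932 L123365 q4753, e3 q7933 L163497 q6720, e3 q7934 (flp_a L163592) q6739, e3 q7935 (flp_a L129675) q8327, trivial⟩ (by decide +kernel)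

theorem ce_a_124 : ∀ r, r < 64 → sm ga (Qf (7936 + r)) = Qf (tab Gen.a (7936 + r)) :=
  edges_tab (sm ga) Qf (tab Gen.a) 7936 [(7936, 4756), (7937, 4757), (7938, 12214), (7939, 4761), (7940, 5828), (7941, 5839), (7942, 7501), (7943, 6043), (7944, 4766), (7945, 7946), (7946, 7945), (7947, 7693), (7948, 12219), (7949, 4769), (7950, 12222), (7951, 11924), (7952, 11721), (7953, 12168), (7954, 12072), (7955, 4777), (7956, 4773), (7957, 4774), (7958, 4775), (7959, 7593), (7960, 12226), (7961, 9851), (7962, 12091), (7963, 7964), (7964, 7963), (7965, 10368), (7966, 8057), (7967, 11978), (7968, 11684), (7969, 11979), (7970, 4782), (7971, 4783), (7972, 4784), (7973, 4785), (7974, 5536), (7975, 7904), (7976, 12243), (7977, 12244), (7978, 12245), (7979, 12246), (7980, 12247), (7981, 7982), (7982, 7981), (7983, 10306), (7984, 12261), (7985, 4789), (7986, 4790), (7987, 4791), (7988, 12264), (7989, 12265), (7990, 12266), (7991, 7992), (7992, 7991), (7993, 8330), (7994, 4794), (7995, 4795), (7996, 12273), (7997, 4799), (7998,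 5833), (7999, 5842)]
    ⟨e3 q7936 L123385 q4756, e3 q7937 (flp_a L123393) q4757, e3 q7938 (flp_a L175352) q12214, e3 q7939 L123404 q4761, e3 q7940 L123412 q5828, e3 q7941 L123418 q5839, e3 q7942 L123424 q7501, e3 q7943 L123432 q6043, e3 q7944 L123442 q4766, e3 q7945 (flp_a L123452) q7946, e3 q7946 L123452 q7945, e3 q7947 L123462 q7693, e3 q7948 L175396 q12219, e3 q7949 (flp_a L123474) q4769, e3 q7950 (flp_a L175412) q12222, e3 q7951 (flp_a L173256) q11924, e3 q7952 (flp_a L171786) q11721, e3 q7953 (flp_a L175035) q12168, e3 q7954 (flp_a L174272) q12072, e3 q7955 L123500 q4777, e3 q7956 L123510 q4773, e3 q7957 L123514 q4774, e3 q7958 L123520 q4775, e3 q7959 (flp_a L163864) q7593, e3 q7960 (flp_a L175434) q12226, e3 q7961 L163791 q9851, e3 q7962 (flp_a L174414) q12091, e3 q7963 (flp_a L123548) q7964, e3 q7964 L123548 q7963, e3 q7965 L163856 q10368, e3 q7966 (flp_a L124231) q8057, e3 q7967 (flp_a L173627) q11978, e3 q7968 L171510 q11684, e3 q7969 (flp_a L173633) q11979, e3 q7970 L123574 q4782, e3 q7971 L123578 q4783,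 e3 q7972 L123582 q4784, e3 q7973 L123588 q4785, e3 q7974 L146094 q5536, e3 q7975 (flp_a L151818) q7904, e3 q7976 (flp_a L175577) q12243, e3 q7977 (flp_a L175583) q12244, e3 q7978 (flp_a L175589) q12245, e3 q7979 (flp_a L175597) q12246, e3 q7980 (flp_a L175605) q12247, e3 q7981 (flp_a L123628) q7982, e3 q7982 L123628 q7981, e3 q7983 L175667 q10306, e3 q7984 L175691 q12261, e3 q7985 L123644 q4789, e3 q7986 L123648 q4790, e3 q7987 L123652 q4791, e3 q7988 (flp_a L175717) q12264, e3 q7989 (flp_a L175725) q12265, e3 q7990 (flp_a L175731) q12266, e3 q7991 (flp_a L123672) q7992, e3 q7992 L123672 q7991, e3 q7993 L149525 q8330, e3 q7994 L123682 q4794, e3 q7995 (flp_a L123711) q4795, e3 q7996 (flp_a L175775) q12273, e3 q7997 L123772 q4799, e3 q7998 L123784 q5833, e3 q7999 L123792 q5842, trivial⟩ (by decide +kernel)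

theorem ce_a_125 : ∀ r, r < 64 → sm ga (Qf (8000 + r)) = Qf (tab Gen.a (8000 + r)) :=
  edges_tab (sm ga) Qf (tab Gen.a) 8000 [(8000, 7515), (8001, 6081), (8002, 4804), (8003, 8004), (8004, 8003), (8005, 7857), (8006, 12278), (8007, 4807), (8008, 12281), (8009, 12130), (8010, 11712), (8011, 11860), (8012, 11965), (8013, 4815), (8014, 4811), (8015, 4812), (8016, 4813), (8017, 7548), (8018, 12285), (8019, 11882), (8020, 9798), (8021, 8022), (8022, 8021), (8023, 10333), (8024, 8101), (8025, 12176), (8026, 12177), (8027, 11687), (8028, 4820), (8029, 4821), (8030, 4822), (8031, 4823), (8032, 7744), (8033, 5580), (8034, 12302), (8035, 12303), (8036, 12304), (8037, 12305), (8038, 12306), (8039, 8040), (8040, 8039), (8041, 12318), (8042, 10342), (8043, 4827), (8044, 4828), (8045, 4829), (8046, 12323), (8047, 12324), (8048, 12325), (8049, 8050), (8050, 8049), (8051, 12331), (8052, 12125), (8053, 6698), (8054, 12126), (8055, 12127), (8056, 12123), (8057, 7966), (8058, 12336), (8059, 4841), (8060, 4840), (8061, 10360), (8062,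 12340), (8063, 12341)]
    ⟨e3 q8000 (flp_a L150666) q7515, e3 q8001 L123834 q6081, e3 q8002 L123852 q4804, e3 q8003 L150746 q8004, e3 q8004 (flp_a L150746) q8003, e3 q8005 (flp_a L149335) q7857, e3 q8006 L175819 q12278, e3 q8007 (flp_a L123906) q4807, e3 q8008 (flp_a L175835) q12281, e3 q8009 (flp_a L174777) q12130, e3 q8010 (flp_a L171716) q11712, e3 q8011 (flp_a L172767) q11860, e3 q8012 (flp_a L173526) q11965, e3 q8013 L123938 q4815, e3 q8014 L123948 q4811, e3 q8015 L123952 q4812, e3 q8016 L123983 q4813, e3 q8017 L163967 q7548, e3 q8018 (flp_a L175865) q12285, e3 q8019 (flp_a L172919) q11882, e3 q8020 (flp_a L163822) q9798, e3 q8021 (flp_a L124011) q8022, e3 q8022 L124011 q8021, e3 q8023 L163846 q10333, e3 q8024 (flp_a L124632) q8101, e3 q8025 (flp_a L175112) q12176, e3 q8026 (flp_a L175118) q12177, e3 q8027 L171526 q11687, e3 q8028 L124035 q4820, e3 q8029 L124039 q4821, e3 q8030 L124043 q4822, e3 q8031 L124049 q4823, e3 q8032 L124057 q7744, e3 q8033 L151564 q5580, e3 q8034 (flp_a L175971) q12302, e3 q8035 (flp_a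 L175977) q12303, e3 q8036 (flp_a L175983) q12304, e3 q8037 (flp_a L175991) q12305, e3 q8038 (flp_a L175997) q12306, e3 q8039 (flp_a L124097) q8040, e3 q8040 L124097 q8039, e3 q8041 L176069 q12318, e3 q8042 L176067 q10342, e3 q8043 L124113 q4827, e3 q8044 L124117 q4828, e3 q8045 L124121 q4829, e3 q8046 (flp_a L176109) q12323, e3 q8047 (flp_a L176117) q12324, e3 q8048 (flp_a L176123) q12325, e3 q8049 (flp_a L124141) q8050, e3 q8050 L124141 q8049, e3 q8051 L176159 q12331, e3 q8052 (flp_a L174709) q12125, e3 q8053 (flp_a L141023) q6698, e3 q8054 (flp_a L174723) q12126, e3 q8055 (flp_a L174733) q12127, e3 q8056 (flp_a L174689) q12123, e3 q8057 L124231 q7966, e3 q8058 L176211 q12336, e3 q8059 L124249 q4841, e3 q8060 (flp_a L124283) q4840, e3 q8061 L163687 q10360, e3 q8062 (flp_a L176264) q12340, e3 q8063 (flp_a L176276) q12341, trivial⟩ (by decide +kernel)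

theorem ce_a_126 : ∀ r, r < 64 → sm ga (Qf (8064 + r)) = Qf (tab Gen.a (8064 + r)) :=
  edges_tab (sm ga) Qf (tab Gen.a) 8064 [(8064, 12339), (8065, 4891), (8066, 9912), (8067, 4844), (8068, 4845), (8069, 4846), (8070, 8347), (8071, 6030), (8072, 12348), (8073, 8074), (8074, 8073), (8075, 8485), (8076, 8475), (8077, 8486), (8078, 4853), (8079, 4854), (8080, 4855), (8081, 4856), (8082, 4857), (8083, 5955), (8084, 8092), (8085, 12358), (8086, 12359), (8087, 12360), (8088, 12361), (8089, 12362), (8090, 12363), (8091, 4884), (8092, 8084), (8093, 4883), (8094, 8478), (8095, 12377), (8096, 11919), (8097, 6654), (8098, 11920), (8099, 11917), (8100, 11921), (8101, 8024), (8102, 12382), (8103, 4870), (8104, 4869), (8105, 10323), (8106, 12386), (8107, 12387), (8108, 12385), (8109, 4912), (8110, 9929), (8111, 4873), (8112, 4874), (8113, 4875), (8114, 8339), (8115, 12394), (8116, 6014), (8117, 8118), (8118, 8117), (8119, 8493), (8120, 8494), (8121, 4880), (8122, 4881), (8123, 4882), (8124, 5960), (8125, 8132), (8126, 12403),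 (8127, 12367)]
    ⟨e3 q8064 (flp_a L176252) q12339, e3 q8065 L124321 q4891, e3 q8066 (flp_a L158642) q9912, e3 q8067 L124355 q4844, e3 q8068 L124359 q4845, e3 q8069 L124365 q4846, e3 q8070 L130518 q8347, e3 q8071 (flp_a L149496) q6030, e3 q8072 (flp_a L176326) q12348, e3 q8073 (flp_a L124393) q8074, e3 q8074 L124393 q8073, e3 q8075 (flp_a L143179) q8485, e3 q8076 (flp_a L143075) q8475, e3 q8077 (flp_a L143185) q8486, e3 q8078 L124419 q4853, e3 q8079 L124423 q4854, e3 q8080 L124427 q4855, e3 q8081 L124433 q4856, e3 q8082 L124439 q4857, e3 q8083 L157073 q5955, e3 q8084 (flp_a L142449) q8092, e3 q8085 (flp_a L176430) q12358, e3 q8086 (flp_a L176436) q12359, e3 q8087 (flp_a L176444) q12360, e3 q8088 (flp_a L176454) q12361, e3 q8089 (flp_a L176462) q12362, e3 q8090 (flp_a L176472) q12363, e3 q8091 (flp_a L147260) q4884, e3 q8092 L142449 q8084, e3 q8093 L147158 q4883, e3 q8094 (flp_a L143271) q8478, e3 q8095 L176580 q12377, e3 q8096 (flp_a L173192) q11919, e3 q8097 (flp_a L133651) q6654, e3 q8098 (flp_a L173204) q11920,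 e3 q8099 (flp_a L173176) q11917, e3 q8100 (flp_a L173214) q11921, e3 q8101 L124632 q8024, e3 q8102 L176632 q12382, e3 q8103 L124650 q4870, e3 q8104 (flp_a L124664) q4869, e3 q8105 L163600 q10323, e3 q8106 (flp_a L176685) q12386, e3 q8107 (flp_a L176693) q12387, e3 q8108 (flp_a L176673) q12385, e3 q8109 L124700 q4912, e3 q8110 (flp_a L158769) q9929, e3 q8111 L124748 q4873, e3 q8112 L124752 q4874, e3 q8113 L124758 q4875, e3 q8114 (flp_a L150848) q8339, e3 q8115 (flp_a L176747) q12394, e3 q8116 (flp_a L150850) q6014, e3 q8117 (flp_a L124786) q8118, e3 q8118 L124786 q8117, e3 q8119 L148874 q8493, e3 q8120 L147245 q8494, e3 q8121 L124812 q4880, e3 q8122 L124816 q4881, e3 q8123 L124820 q4882, e3 q8124 (flp_a L157077) q5960, e3 q8125 (flp_a L136988) q8132, e3 q8126 (flp_a L176843) q12403, e3 q8127 (flp_a L176500) q12367, trivial⟩ (by decide +kernel)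

theorem ce_a_127 : ∀ r, r < 64 → sm ga (Qf (8128 + r)) = Qf (tab Gen.a (8128 + r)) :=
  edges_tab (sm ga) Qf (tab Gen.a) 8128 [(8128, 12375), (8129, 12374), (8130, 12404), (8131, 12373), (8132, 8125), (8133, 8140), (8134, 8141), (8135, 4887), (8136, 12415), (8137, 12417), (8138, 4889), (8139, 10357), (8140, 8133), (8141, 8134), (8142, 10798), (8143, 8162), (8144, 8164), (8145, 8176), (8146, 4894), (8147, 12429), (8148, 4895), (8149, 12432), (8150, 12433), (8151, 12436), (8152, 4897), (8153, 12441), (8154, 8175), (8155, 4899), (8156, 12444), (8157, 12435), (8158, 12447), (8159, 4901), (8160, 12451), (8161, 12452), (8162, 8143), (8163, 4908), (8164, 8144), (8165, 12458), (8166, 12460), (8167, 4905), (8168, 12463), (8169, 9211), (8170, 6773), (8171, 12455), (8172, 12457), (8173, 4910), (8174, 10320), (8175, 8154), (8176, 8145), (8177, 10717), (8178, 8192), (8179, 8194), (8180, 4915), (8181, 12473), (8182, 12459), (8183, 4917), (8184, 12477), (8185, 4918), (8186, 12480), (8187, 12419), (8188, 12483), (8189, 4920),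 (8190, 12487), (8191, 12488)]
    ⟨e3 q8128 (flp_a L176560) q12375, e3 q8129 (flp_a L176550) q12374, e3 q8130 (flp_a L176849) q12404, e3 q8131 (flp_a L176540) q12373, e3 q8132 L136988 q8125, e3 q8133 L149670 q8140, e3 q8134 L148663 q8141, e3 q8135 (flp_a L125481) q4887, e3 q8136 (flp_a L176941) q12415, e3 q8137 L176957 q12417, e3 q8138 L125532 q4889, e3 q8139 L163639 q10357, e3 q8140 (flp_a L149670) q8133, e3 q8141 (flp_a L148663) q8134, e3 q8142 (flp_a L165732) q10798, e3 q8143 L149668 q8162, e3 q8144 L148795 q8164, e3 q8145 L147043 q8176, e3 q8146 (flp_a L125646) q4894, e3 q8147 (flp_a L177065) q12429, e3 q8148 (flp_a L125652) q4895, e3 q8149 (flp_a L177086) q12432, e3 q8150 (flp_a L177092) q12433, e3 q8151 L177124 q12436, e3 q8152 L125721 q4897, e3 q8153 (flp_a L177152) q12441, e3 q8154 (flp_a L148868) q8175, e3 q8155 (flp_a L125818) q4899, e3 q8156 (flp_a L177168) q12444, e3 q8157 (flp_a L177114) q12435, e3 q8158 L177194 q12447, e3 q8159 L125830 q4901, e3 q8160 (flp_a L177210) q12451, e3 q8161 (flp_a L177218)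 q12452, e3 q8162 (flp_a L149668) q8143, e3 q8163 L149674 q4908, e3 q8164 (flp_a L148795) q8144, e3 q8165 L177273 q12458, e3 q8166 L177287 q12460, e3 q8167 (flp_a L125912) q4905, e3 q8168 (flp_a L177316) q12463, e3 q8169 (flp_a L153728) q9211, e3 q8170 L125922 q6773, e3 q8171 L177244 q12455, e3 q8172 (flp_a L177262) q12457, e3 q8173 L126344 q4910, e3 q8174 L163505 q10320, e3 q8175 L148868 q8154, e3 q8176 (flp_a L147043) q8145, e3 q8177 (flp_a L165100) q10717, e3 q8178 L149662 q8192, e3 q8179 L148789 q8194, e3 q8180 (flp_a L126458) q4915, e3 q8181 (flp_a L177397) q12473, e3 q8182 L177281 q12459, e3 q8183 L126543 q4917, e3 q8184 (flp_a L177427) q12477, e3 q8185 (flp_a L126630) q4918, e3 q8186 (flp_a L177443) q12480, e3 q8187 (flp_a L176981) q12419, e3 q8188 L177469 q12483, e3 q8189 L126642 q4920, e3 q8190 (flp_a L177485) q12487, e3 q8191 (flp_a L177493) q12488, trivial⟩ (by decide +kernel)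

theorem ce_a_128 : ∀ r, r < 64 → sm ga (Qf (8192 + r)) = Qf (tab Gen.a (8192 + r)) :=
  edges_tab (sm ga) Qf (tab Gen.a) 8192 [(8192, 8178), (8193, 4927), (8194, 8179), (8195, 12438), (8196, 12494), (8197, 4924), (8198, 9247), (8199, 12497), (8200, 6847), (8201, 12491), (8202, 12493), (8203, 11884), (8204, 12093), (8205, 8206), (8206, 8205), (8207, 11885), (8208, 11886), (8209, 12094), (8210, 12095), (8211, 4942), (8212, 4943), (8213, 4944), (8214, 12503), (8215, 12504), (8216, 8217), (8217, 8216), (8218, 12509), (8219, 12512), (8220, 4947), (8221, 12516), (8222, 4948), (8223, 12519), (8224, 8622), (8225, 8625), (8226, 4951), (8227, 6251), (8228, 8244), (8229, 12524), (8230, 4953), (8231, 6264), (8232, 8247), (8233, 12528), (8234, 12531), (8235, 4957), (8236, 12535), (8237, 12536), (8238, 12540), (8239, 4960), (8240, 12544), (8241, 12545), (8242, 4963), (8243, 6252), (8244, 8228), (8245, 4966), (8246, 6263), (8247, 8232), (8248, 12555), (8249, 12558), (8250, 12561), (8251, 12564), (8252, 8993), (8253, 9058), (8254,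 8902), (8255, 4976)]
    ⟨e3 q8192 (flp_a L149662) q8178, e3 q8193 L142764 q4927, e3 q8194 (flp_a L148789) q8179, e3 q8195 (flp_a L177134) q12438, e3 q8196 L177548 q12494, e3 q8197 (flp_a L126708) q4924, e3 q8198 (flp_a L154000) q9247, e3 q8199 (flp_a L177579) q12497, e3 q8200 L126718 q6847, e3 q8201 L177519 q12491, e3 q8202 (flp_a L177537) q12493, e3 q8203 L172942 q11884, e3 q8204 (flp_a L174439) q12093, e3 q8205 (flp_a L128613) q8206, e3 q8206 L128613 q8205, e3 q8207 (flp_a L172946) q11885, e3 q8208 (flp_a L172957) q11886, e3 q8209 (flp_a L174443) q12094, e3 q8210 (flp_a L174454) q12095, e3 q8211 L128661 q4942, e3 q8212 L128671 q4943, e3 q8213 L128679 q4944, e3 q8214 (flp_a L177623) q12503, e3 q8215 (flp_a L177633) q12504, e3 q8216 (flp_a L128725) q8217, e3 q8217 L128725 q8216, e3 q8218 L177671 q12509, e3 q8219 L177689 q12512, e3 q8220 (flp_a L128743) q4947, e3 q8221 (flp_a L177713) q12516, e3 q8222 (flp_a L128751) q4948, e3 q8223 (flp_a L177739) q12519, e3 q8224 (flp_a L144293) q8622, e3 q8225 (flp_a L144319)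 q8625, e3 q8226 (flp_a L128779) q4951, e3 q8227 L128791 q6251, e3 q8228 (flp_a L128911) q8244, e3 q8229 L177787 q12524, e3 q8230 (flp_a L128811) q4953, e3 q8231 L128823 q6264, e3 q8232 (flp_a L128951) q8247, e3 q8233 L177813 q12528, e3 q8234 L177831 q12531, e3 q8235 (flp_a L128849) q4957, e3 q8236 (flp_a L177860) q12535, e3 q8237 (flp_a L177866) q12536, e3 q8238 L177896 q12540, e3 q8239 (flp_a L128873) q4960, e3 q8240 (flp_a L177925) q12544, e3 q8241 (flp_a L177931) q12545, e3 q8242 L128889 q4963, e3 q8243 L128901 q6252, e3 q8244 L128911 q8228, e3 q8245 L128929 q4966, e3 q8246 L128941 q6263, e3 q8247 L128951 q8232, e3 q8248 L178013 q12555, e3 q8249 L178034 q12558, e3 q8250 L178053 q12561, e3 q8251 L178074 q12564, e3 q8252 (flp_a L152104) q8993, e3 q8253 (flp_a L152542) q9058, e3 q8254 (flp_a L146112) q8902, e3 q8255 L129030 q4976, trivial⟩ (by decide +kernel)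

theorem ce_a_129 : ∀ r, r < 64 → sm ga (Qf (8256 + r)) = Qf (tab Gen.a (8256 + r)) :=
  edges_tab (sm ga) Qf (tab Gen.a) 8256 [(8256, 6055), (8257, 8910), (8258, 4978), (8259, 6093), (8260, 4979), (8261, 9028), (8262, 4980), (8263, 12571), (8264, 8270), (8265, 9027), (8266, 4982), (8267, 4983), (8268, 9221), (8269, 9218), (8270, 8264), (8271, 4984), (8272, 8958), (8273, 4985), (8274, 12577), (8275, 8281), (8276, 8961), (8277, 4987), (8278, 4988), (8279, 9257), (8280, 9254), (8281, 8275), (8282, 4990), (8283, 8941), (8284, 7210), (8285, 4991), (8286, 12585), (8287, 12586), (8288, 4992), (8289, 10797), (8290, 8929), (8291, 4994), (8292, 8925), (8293, 7310), (8294, 4995), (8295, 12591), (8296, 12583), (8297, 4996), (8298, 10716), (8299, 8945), (8300, 4997), (8301, 7369), (8302, 8311), (8303, 4998), (8304, 7400), (8305, 8317), (8306, 9902), (8307, 5000), (8308, 5001), (8309, 6965), (8310, 12596), (8311, 8302), (8312, 9920), (8313, 5003), (8314, 5004), (8315, 6976), (8316, 12598), (8317, 8305), (8318, 8318), (8319,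 8319)]
    ⟨e3 q8256 L129040 q6055, e3 q8257 L151139 q8910, e3 q8258 L129058 q4978, e3 q8259 (flp_a L147701) q6093, e3 q8260 (flp_a L129078) q4979, e3 q8261 (flp_a L152382) q9028, e3 q8262 (flp_a L129086) q4980, e3 q8263 (flp_a L178141) q12571, e3 q8264 (flp_a L129129) q8270, e3 q8265 (flp_a L152368) q9027, e3 q8266 L129107 q4982, e3 q8267 L129111 q4983, e3 q8268 (flp_a L153808) q9221, e3 q8269 (flp_a L153785) q9218, e3 q8270 L129129 q8264, e3 q8271 (flp_a L129135) q4984, e3 q8272 L151912 q8958, e3 q8273 (flp_a L129152) q4985, e3 q8274 (flp_a L178199) q12577, e3 q8275 (flp_a L129195) q8281, e3 q8276 (flp_a L151934) q8961, e3 q8277 L129173 q4987, e3 q8278 L129177 q4988, e3 q8279 (flp_a L154076) q9257, e3 q8280 (flp_a L154053) q9254, e3 q8281 L129195 q8275, e3 q8282 L129203 q4990, e3 q8283 (flp_a L151762) q8941, e3 q8284 L129221 q7210, e3 q8285 (flp_a L129231) q4991, e3 q8286 (flp_a L178291) q12585, e3 q8287 (flp_a L178299) q12586, e3 q8288 (flp_a L129246) q4992, e3 q8289 (flp_a L165720) q10797, e3 q8290 L152160 q8929,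 e3 q8291 L129267 q4994, e3 q8292 (flp_a L151652) q8925, e3 q8293 (flp_a L148933) q7310, e3 q8294 (flp_a L129308) q4995, e3 q8295 (flp_a L178355) q12591, e3 q8296 (flp_a L178257) q12583, e3 q8297 (flp_a L129323) q4996, e3 q8298 (flp_a L165090) q10716, e3 q8299 (flp_a L152252) q8945, e3 q8300 (flp_a L129336) q4997, e3 q8301 L129350 q7369, e3 q8302 (flp_a L129430) q8311, e3 q8303 (flp_a L129365) q4998, e3 q8304 (flp_a L151014) q7400, e3 q8305 (flp_a L129468) q8317, e3 q8306 (flp_a L158571) q9902, e3 q8307 L129394 q5000, e3 q8308 L129406 q5001, e3 q8309 L129414 q6965, e3 q8310 (flp_a L178403) q12596, e3 q8311 L129430 q8302, e3 q8312 (flp_a L158706) q9920, e3 q8313 L129444 q5003, e3 q8314 L129450 q5004, e3 q8315 (flp_a L151254) q6976, e3 q8316 (flp_a L178425) q12598, e3 q8317 L129468 q8305, e3 q8318 L129478 q8318, e3 q8319 L129490 q8319, trivial⟩ (by decide +kernel)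

theorem ce_a_130 : ∀ r, r < 64 → sm ga (Qf (8320 + r)) = Qf (tab Gen.a (8320 + r)) :=
  edges_tab (sm ga) Qf (tab Gen.a) 8320 [(8320, 5007), (8321, 7184), (8322, 12599), (8323, 5008), (8324, 7285), (8325, 12601), (8326, 5010), (8327, 7935), (8328, 8338), (8329, 5013), (8330, 7993), (8331, 8346), (8332, 9904), (8333, 6970), (8334, 5018), (8335, 5019), (8336, 7500), (8337, 12607), (8338, 8328), (8339, 8114), (8340, 9921), (8341, 6981), (8342, 5024), (8343, 5025), (8344, 7514), (8345, 12613), (8346, 8331), (8347, 8070), (8348, 8349), (8349, 8348), (8350, 5031), (8351, 7185), (8352, 8378), (8353, 12618), (8354, 5033), (8355, 7287), (8356, 8385), (8357, 12620), (8358, 10449), (8359, 5036), (8360, 12622), (8361, 8396), (8362, 12625), (8363, 5038), (8364, 12628), (8365, 12629), (8366, 10499), (8367, 5040), (8368, 12633), (8369, 8415), (8370, 12636), (8371, 5042), (8372, 12639), (8373, 12640), (8374, 10549), (8375, 5045), (8376, 7186), (8377, 12646), (8378, 8352), (8379, 5046), (8380, 12650), (8381, 10605), (8382, 5049),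 (8383, 7286)]
    ⟨e3 q8320 (flp_a L129502) q5007, e3 q8321 L129516 q7184, e3 q8322 (flp_a L178437) q12599, e3 q8323 (flp_a L129529) q5008, e3 q8324 L129648 q7285, e3 q8325 (flp_a L178463) q12601, e3 q8326 L129663 q5010, e3 q8327 L129675 q7935, e3 q8328 (flp_a L129785) q8338, e3 q8329 L129705 q5013, e3 q8330 (flp_a L149525) q7993, e3 q8331 (flp_a L129836) q8346, e3 q8332 (flp_a L158591) q9904, e3 q8333 (flp_a L129741) q6970, e3 q8334 L129747 q5018, e3 q8335 L129759 q5019, e3 q8336 L129769 q7500, e3 q8337 (flp_a L178529) q12607, e3 q8338 L129785 q8328, e3 q8339 L150848 q8114, e3 q8340 (flp_a L158718) q9921, e3 q8341 L151358 q6981, e3 q8342 L129811 q5024, e3 q8343 L129815 q5025, e3 q8344 L151111 q7514, e3 q8345 (flp_a L178575) q12613, e3 q8346 L129836 q8331, e3 q8347 (flp_a L130518) q8070, e3 q8348 (flp_a L129860) q8349, e3 q8349 L129860 q8348, e3 q8350 (flp_a L129890) q5031, e3 q8351 L129902 q7185, e3 q8352 (flp_a L130080) q8378, e3 q8353 L178607 q12618, e3 q8354 (flp_a L129916) q5033, e3 q8355 L129926 q7287, e3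 q8356 (flp_a L130141) q8385, e3 q8357 L178623 q12620, e3 q8358 (flp_a L162259) q10449, e3 q8359 L129954 q5036, e3 q8360 (flp_a L178639) q12622, e3 q8361 (flp_a L130212) q8396, e3 q8362 L178657 q12625, e3 q8363 (flp_a L129980) q5038, e3 q8364 (flp_a L178675) q12628, e3 q8365 (flp_a L178681) q12629, e3 q8366 (flp_a L162577) q10499, e3 q8367 L130002 q5040, e3 q8368 (flp_a L178717) q12633, e3 q8369 (flp_a L130332) q8415, e3 q8370 L178735 q12636, e3 q8371 (flp_a L130026) q5042, e3 q8372 (flp_a L178753) q12639, e3 q8373 (flp_a L178759) q12640, e3 q8374 (flp_a L162943) q10549, e3 q8375 L130054 q5045, e3 q8376 L130064 q7186, e3 q8377 L178814 q12646, e3 q8378 L130080 q8352, e3 q8379 (flp_a L130086) q5046, e3 q8380 (flp_a L178852) q12650, e3 q8381 (flp_a L164282) q10605, e3 q8382 L130115 q5049, e3 q8383 L130125 q7286, trivial⟩ (by decide +kernel)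

theorem ce_a_131 : ∀ r, r < 64 → sm ga (Qf (8384 + r)) = Qf (tab Gen.a (8384 + r)) :=
  edges_tab (sm ga) Qf (tab Gen.a) 8384 [(8384, 12655), (8385, 8356), (8386, 5050), (8387, 12659), (8388, 10551), (8389, 10303), (8390, 5054), (8391, 5055), (8392, 6687), (8393, 12664), (8394, 12665), (8395, 12672), (8396, 8361), (8397, 5056), (8398, 12674), (8399, 8406), (8400, 12657), (8401, 12679), (8402, 5059), (8403, 5060), (8404, 12683), (8405, 12684), (8406, 8399), (8407, 10607), (8408, 10340), (8409, 5064), (8410, 5065), (8411, 6642), (8412, 12693), (8413, 12694), (8414, 12701), (8415, 8369), (8416, 5066), (8417, 12703), (8418, 8425), (8419, 12648), (8420, 12708), (8421, 5069), (8422, 5070), (8423, 12712), (8424, 12713), (8425, 8418), (8426, 8795), (8427, 12720), (8428, 5073), (8429, 12724), (8430, 5344), (8431, 8832), (8432, 12727), (8433, 5077), (8434, 12731), (8435, 5324), (8436, 5085), (8437, 5752), (8438, 5753), (8439, 6611), (8440, 6659), (8441, 6702), (8442, 6778), (8443, 6708), (8444, 6784), (8445, 6709), (8446,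 10778), (8447, 5097)]
    ⟨e3 q8384 L178905 q12655, e3 q8385 L130141 q8356, e3 q8386 (flp_a L130147) q5050, e3 q8387 (flp_a L178943) q12659, e3 q8388 (flp_a L162961) q10551, e3 q8389 (flp_a L161264) q10303, e3 q8390 L130178 q5054, e3 q8391 L130182 q5055, e3 q8392 (flp_a L150774) q6687, e3 q8393 (flp_a L178987) q12664, e3 q8394 (flp_a L178995) q12665, e3 q8395 L179041 q12672, e3 q8396 L130212 q8361, e3 q8397 (flp_a L130220) q5056, e3 q8398 (flp_a L179053) q12674, e3 q8399 (flp_a L130272) q8406, e3 q8400 L178931 q12657, e3 q8401 L179083 q12679, e3 q8402 L130246 q5059, e3 q8403 L130252 q5060, e3 q8404 (flp_a L179113) q12683, e3 q8405 (flp_a L179121) q12684, e3 q8406 L130272 q8399, e3 q8407 (flp_a L164300) q10607, e3 q8408 (flp_a L161515) q10340, e3 q8409 L130298 q5064, e3 q8410 L130302 q5065, e3 q8411 (flp_a L143449) q6642, e3 q8412 (flp_a L179183) q12693, e3 q8413 (flp_a L179191) q12694, e3 q8414 L179237 q12701, e3 q8415 L130332 q8369, e3 q8416 (flp_a L130340) q5066, e3 q8417 (flp_a L179249) q12703, e3 q8418 (flp_a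 L130394) q8425, e3 q8419 (flp_a L178840) q12648, e3 q8420 L179279 q12708, e3 q8421 L130366 q5069, e3 q8422 L130374 q5070, e3 q8423 (flp_a L179311) q12712, e3 q8424 (flp_a L179319) q12713, e3 q8425 L130394 q8418, e3 q8426 (flp_a L145348) q8795, e3 q8427 L179369 q12720, e3 q8428 (flp_a L130412) q5073, e3 q8429 (flp_a L179395) q12724, e3 q8430 L130426 q5344, e3 q8431 (flp_a L145570) q8832, e3 q8432 L179419 q12727, e3 q8433 (flp_a L130446) q5077, e3 q8434 (flp_a L179445) q12731, e3 q8435 L130462 q5324, e3 q8436 L130536 q5085, e3 q8437 L130600 q5752, e3 q8438 L130608 q5753, e3 q8439 L130620 q6611, e3 q8440 (flp_a L148609) q6659, e3 q8441 L130636 q6702, e3 q8442 L148607 q6778, e3 q8443 L142819 q6708, e3 q8444 (flp_a L146491) q6784, e3 q8445 L142853 q6709, e3 q8446 (flp_a L165588) q10778, e3 q8447 (flp_a L142869) q5097, trivial⟩ (by decide +kernel)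

theorem ce_a_132 : ∀ r, r < 64 → sm ga (Qf (8448 + r)) = Qf (tab Gen.a (8448 + r)) :=
  edges_tab (sm ga) Qf (tab Gen.a) 8448 [(8448, 6785), (8449, 10694), (8450, 5101), (8451, 5102), (8452, 10451), (8453, 12733), (8454, 5105), (8455, 12736), (8456, 8461), (8457, 5107), (8458, 5108), (8459, 10627), (8460, 12739), (8461, 8456), (8462, 5109), (8463, 10501), (8464, 12742), (8465, 5112), (8466, 12745), (8467, 8472), (8468, 5114), (8469, 5115), (8470, 10577), (8471, 12748), (8472, 8467), (8473, 5118), (8474, 10369), (8475, 8076), (8476, 5122), (8477, 10334), (8478, 8094), (8479, 5733), (8480, 5126), (8481, 10370), (8482, 10733), (8483, 10613), (8484, 10080), (8485, 8075), (8486, 8077), (8487, 5700), (8488, 5133), (8489, 10335), (8490, 10648), (8491, 10560), (8492, 10046), (8493, 8119), (8494, 8120), (8495, 6689), (8496, 10304), (8497, 5143), (8498, 5144), (8499, 8960), (8500, 6688), (8501, 6676), (8502, 12760), (8503, 12764), (8504, 5145), (8505, 8561), (8506, 12188), (8507, 5148), (8508, 7914), (8509, 8522), (8510,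 12769), (8511, 5150)]
    ⟨e3 q8448 (flp_a L148428) q6785, e3 q8449 (flp_a L164967) q10694, e3 q8450 (flp_a L142901) q5101, e3 q8451 (flp_a L142909) q5102, e3 q8452 (flp_a L162275) q10451, e3 q8453 L179463 q12733, e3 q8454 (flp_a L142927) q5105, e3 q8455 (flp_a L179483) q12736, e3 q8456 (flp_a L142959) q8461, e3 q8457 L142941 q5107, e3 q8458 L142945 q5108, e3 q8459 L164468 q10627, e3 q8460 (flp_a L179505) q12739, e3 q8461 L142959 q8456, e3 q8462 (flp_a L142963) q5109, e3 q8463 (flp_a L162593) q10501, e3 q8464 L179531 q12742, e3 q8465 (flp_a L143001) q5112, e3 q8466 (flp_a L179551) q12745, e3 q8467 (flp_a L143035) q8472, e3 q8468 L143015 q5114, e3 q8469 L143019 q5115, e3 q8470 L164053 q10577, e3 q8471 (flp_a L179573) q12748, e3 q8472 L143035 q8467, e3 q8473 L143043 q5118, e3 q8474 L163475 q10369, e3 q8475 L143075 q8076, e3 q8476 L143085 q5122, e3 q8477 (flp_a L163407) q10334, e3 q8478 L143271 q8094, e3 q8479 (flp_a L154258) q5733, e3 q8480 (flp_a L143147) q5126, e3 q8481 L163457 q10370, e3 q8482 L165238 q10733, e3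 q8483 (flp_a L164358) q10613, e3 q8484 L163455 q10080, e3 q8485 L143179 q8075, e3 q8486 L143185 q8077, e3 q8487 L154462 q5700, e3 q8488 (flp_a L143231) q5133, e3 q8489 (flp_a L163268) q10335, e3 q8490 L164627 q10648, e3 q8491 (flp_a L163043) q10560, e3 q8492 (flp_a L163266) q10046, e3 q8493 (flp_a L148874) q8119, e3 q8494 (flp_a L147245) q8120, e3 q8495 (flp_a L149600) q6689, e3 q8496 (flp_a L161270) q10304, e3 q8497 L143307 q5143, e3 q8498 L143313 q5144, e3 q8499 (flp_a L151928) q8960, e3 q8500 (flp_a L150772) q6688, e3 q8501 (flp_a L149628) q6676, e3 q8502 (flp_a L179667) q12760, e3 q8503 L179703 q12764, e3 q8504 (flp_a L143347) q5145, e3 q8505 (flp_a L143757) q8561, e3 q8506 (flp_a L175194) q12188, e3 q8507 L143359 q5148, e3 q8508 L151387 q7914, e3 q8509 (flp_a L143473) q8522, e3 q8510 L179743 q12769, e3 q8511 (flp_a L143375) q5150, trivial⟩ (by decide +kernel)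

theorem ce_a_133 : ∀ r, r < 64 → sm ga (Qf (8512 + r)) = Qf (tab Gen.a (8512 + r)) :=
  edges_tab (sm ga) Qf (tab Gen.a) 8512 [(8512, 12771), (8513, 12772), (8514, 5151), (8515, 12774), (8516, 12775), (8517, 10609), (8518, 5155), (8519, 7917), (8520, 7357), (8521, 7918), (8522, 8509), (8523, 8906), (8524, 6644), (8525, 10341), (8526, 5162), (8527, 5163), (8528, 9026), (8529, 6643), (8530, 6629), (8531, 12785), (8532, 12789), (8533, 5164), (8534, 8570), (8535, 11998), (8536, 5167), (8537, 7753), (8538, 8551), (8539, 12794), (8540, 5169), (8541, 12796), (8542, 12797), (8543, 5170), (8544, 12799), (8545, 10556), (8546, 12800), (8547, 5174), (8548, 7760), (8549, 7257), (8550, 7761), (8551, 8538), (8552, 8913), (8553, 10301), (8554, 5852), (8555, 5962), (8556, 8572), (8557, 12811), (8558, 5183), (8559, 5464), (8560, 5185), (8561, 8505), (8562, 10338), (8563, 5860), (8564, 5977), (8565, 8581), (8566, 12815), (8567, 5194), (8568, 5505), (8569, 5196), (8570, 8534), (8571, 8578), (8572, 8556), (8573, 6107), (8574, 5203),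 (8575, 6036)]
    ⟨e3 q8512 (flp_a L179763) q12771, e3 q8513 (flp_a L179767) q12772, e3 q8514 (flp_a L143383) q5151, e3 q8515 (flp_a L179781) q12774, e3 q8516 (flp_a L179789) q12775, e3 q8517 (flp_a L164324) q10609, e3 q8518 L143403 q5155, e3 q8519 L151383 q7917, e3 q8520 L151385 q7357, e3 q8521 L151258 q7918, e3 q8522 L143473 q8509, e3 q8523 L146138 q8906, e3 q8524 (flp_a L143501) q6644, e3 q8525 (flp_a L161521) q10341, e3 q8526 L143531 q5162, e3 q8527 L143535 q5163, e3 q8528 (flp_a L152362) q9026, e3 q8529 L143545 q6643, e3 q8530 L143549 q6629, e3 q8531 (flp_a L179885) q12785, e3 q8532 L179921 q12789, e3 q8533 (flp_a L143587) q5164, e3 q8534 (flp_a L143867) q8570, e3 q8535 (flp_a L173745) q11998, e3 q8536 L143597 q5167, e3 q8537 L143607 q7753, e3 q8538 (flp_a L143691) q8551, e3 q8539 L179961 q12794, e3 q8540 (flp_a L143623) q5169, e3 q8541 (flp_a L179981) q12796, e3 q8542 (flp_a L179985) q12797, e3 q8543 (flp_a L143631) q5170, e3 q8544 (flp_a L179999) q12799, e3 q8545 (flp_a L163009) q10556, e3 q8546 (flp_a L180007)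 q12800, e3 q8547 L143653 q5174, e3 q8548 L143669 q7760, e3 q8549 L143677 q7257, e3 q8550 L143683 q7761, e3 q8551 L143691 q8538, e3 q8552 L151582 q8913, e3 q8553 (flp_a L161242) q10301, e3 q8554 L143709 q5852, e3 q8555 L143721 q5962, e3 q8556 (flp_a L143881) q8572, e3 q8557 L180111 q12811, e3 q8558 (flp_a L143741) q5183, e3 q8559 L146076 q5464, e3 q8560 L143749 q5185, e3 q8561 L143757 q8505, e3 q8562 (flp_a L161493) q10338, e3 q8563 (flp_a L148058) q5860, e3 q8564 (flp_a L148050) q5977, e3 q8565 (flp_a L144031) q8581, e3 q8566 L180143 q12815, e3 q8567 (flp_a L143843) q5194, e3 q8568 (flp_a L146092) q5505, e3 q8569 L143859 q5196, e3 q8570 L143867 q8534, e3 q8571 L150474 q8578, e3 q8572 L143881 q8556, e3 q8573 (flp_a L143895) q6107, e3 q8574 (flp_a L143899) q5203, e3 q8575 L143907 q6036, trivial⟩ (by decide +kernel)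

theorem ce_a_134 : ∀ r, r < 64 → sm ga (Qf (8576 + r)) = Qf (tab Gen.a (8576 + r)) :=
  edges_tab (sm ga) Qf (tab Gen.a) 8576 [(8576, 5204), (8577, 9740), (8578, 8571), (8579, 5653), (8580, 8587), (8581, 8565), (8582, 6070), (8583, 5211), (8584, 6020), (8585, 5212), (8586, 9760), (8587, 8580), (8588, 5619), (8589, 5217), (8590, 5218), (8591, 7190), (8592, 7291), (8593, 12823), (8594, 8596), (8595, 12827), (8596, 8594), (8597, 5219), (8598, 6012), (8599, 8615), (8600, 12833), (8601, 5221), (8602, 6028), (8603, 8620), (8604, 12838), (8605, 5223), (8606, 12842), (8607, 12843), (8608, 5224), (8609, 12848), (8610, 12849), (8611, 12853), (8612, 5226), (8613, 5227), (8614, 12857), (8615, 8599), (8616, 12859), (8617, 5229), (8618, 5230), (8619, 12863), (8620, 8603), (8621, 5231), (8622, 8224), (8623, 12865), (8624, 5232), (8625, 8225), (8626, 12866), (8627, 12867), (8628, 12870), (8629, 5236), (8630, 12874), (8631, 12875), (8632, 12879), (8633, 12882), (8634, 5240), (8635, 12886), (8636, 12887), (8637, 5241), (8638, 8639),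 (8639, 8638)]
    ⟨e3 q8576 (flp_a L143911) q5204, e3 q8577 (flp_a L157619) q9740, e3 q8578 (flp_a L150474) q8571, e3 q8579 L143933 q5653, e3 q8580 (flp_a L150488) q8587, e3 q8581 L144031 q8565, e3 q8582 L151002 q6070, e3 q8583 (flp_a L144043) q5211, e3 q8584 L149227 q6020, e3 q8585 (flp_a L144049) q5212, e3 q8586 (flp_a L157753) q9760, e3 q8587 L150488 q8580, e3 q8588 L144081 q5619, e3 q8589 L144091 q5217, e3 q8590 L144099 q5218, e3 q8591 (flp_a L144153) q7190, e3 q8592 (flp_a L149594) q7291, e3 q8593 L180215 q12823, e3 q8594 (flp_a L144135) q8596, e3 q8595 L180237 q12827, e3 q8596 L144135 q8594, e3 q8597 (flp_a L144143) q5219, e3 q8598 L144157 q6012, e3 q8599 (flp_a L144243) q8615, e3 q8600 L180279 q12833, e3 q8601 (flp_a L144171) q5221, e3 q8602 L149512 q6028, e3 q8603 (flp_a L144277) q8620, e3 q8604 L180331 q12838, e3 q8605 (flp_a L144191) q5223, e3 q8606 (flp_a L180371) q12842, e3 q8607 (flp_a L180375) q12843, e3 q8608 (flp_a L144203) q5224, e3 q8609 (flp_a L180403) q12848, e3 q8610 (flp_a L180407) q12849,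 e3 q8611 L180429 q12853, e3 q8612 L144221 q5226, e3 q8613 L144229 q5227, e3 q8614 (flp_a L180463) q12857, e3 q8615 L144243 q8599, e3 q8616 L180481 q12859, e3 q8617 L144255 q5229, e3 q8618 L144261 q5230, e3 q8619 (flp_a L180515) q12863, e3 q8620 L144277 q8603, e3 q8621 (flp_a L144283) q5231, e3 q8622 L144293 q8224, e3 q8623 (flp_a L180535) q12865, e3 q8624 (flp_a L144309) q5232, e3 q8625 L144319 q8225, e3 q8626 (flp_a L180549) q12866, e3 q8627 L180561 q12867, e3 q8628 L180577 q12870, e3 q8629 (flp_a L144343) q5236, e3 q8630 (flp_a L180597) q12874, e3 q8631 (flp_a L180603) q12875, e3 q8632 L180629 q12879, e3 q8633 L180645 q12882, e3 q8634 (flp_a L144365) q5240, e3 q8635 (flp_a L180665) q12886, e3 q8636 (flp_a L180671) q12887, e3 q8637 (flp_a L144377) q5241, e3 q8638 (flp_a L144389) q8639, e3 q8639 L144389 q8638, trivial⟩ (by decide +kernel)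

theorem ce_a_135 : ∀ r, r < 64 → sm ga (Qf (8640 + r)) = Qf (tab Gen.a (8640 + r)) :=
  edges_tab (sm ga) Qf (tab Gen.a) 8640 [(8640, 7311), (8641, 5243), (8642, 9558), (8643, 8714), (8644, 12895), (8645, 5245), (8646, 10745), (8647, 8652), (8648, 12899), (8649, 5247), (8650, 5248), (8651, 12903), (8652, 8647), (8653, 5249), (8654, 8656), (8655, 7211), (8656, 8654), (8657, 5251), (8658, 9596), (8659, 8759), (8660, 12910), (8661, 5253), (8662, 10663), (8663, 8668), (8664, 12914), (8665, 5255), (8666, 5256), (8667, 12918), (8668, 8663), (8669, 5257), (8670, 12921), (8671, 12923), (8672, 12926), (8673, 5260), (8674, 7156), (8675, 8680), (8676, 12929), (8677, 12932), (8678, 5264), (8679, 7155), (8680, 8675), (8681, 5265), (8682, 12937), (8683, 12939), (8684, 12942), (8685, 5268), (8686, 7115), (8687, 8692), (8688, 12945), (8689, 12948), (8690, 5272), (8691, 7116), (8692, 8687), (8693, 5274), (8694, 5275), (8695, 5276), (8696, 5277), (8697, 12953), (8698, 12954), (8699, 12955), (8700, 8702), (8701, 12967), (8702, 8700),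 (8703, 12957)]
    ⟨e3 q8640 (flp_a L151594) q7311, e3 q8641 L144403 q5243, e3 q8642 (flp_a L156328) q9558, e3 q8643 (flp_a L144853) q8714, e3 q8644 L180727 q12895, e3 q8645 (flp_a L144423) q5245, e3 q8646 (flp_a L165322) q10745, e3 q8647 (flp_a L144467) q8652, e3 q8648 L180747 q12899, e3 q8649 L144445 q5247, e3 q8650 L144451 q5248, e3 q8651 (flp_a L180775) q12903, e3 q8652 L144467 q8647, e3 q8653 (flp_a L144473) q5249, e3 q8654 L150803 q8656, e3 q8655 L151702 q7211, e3 q8656 (flp_a L150803) q8654, e3 q8657 L144497 q5251, e3 q8658 (flp_a L156575) q9596, e3 q8659 (flp_a L145120) q8759, e3 q8660 L180835 q12910, e3 q8661 (flp_a L144515) q5253, e3 q8662 (flp_a L164727) q10663, e3 q8663 (flp_a L144559) q8668, e3 q8664 L180855 q12914, e3 q8665 L144537 q5255, e3 q8666 L144543 q5256, e3 q8667 (flp_a L180885) q12918, e3 q8668 L144559 q8663, e3 q8669 (flp_a L144565) q5257, e3 q8670 (flp_a L180917) q12921, e3 q8671 L180933 q12923, e3 q8672 L180947 q12926, e3 q8673 (flp_a L144591) q5260, e3 q8674 (flp_a L156869) q7156, e3 q8675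 (flp_a L144633) q8680, e3 q8676 L180971 q12929, e3 q8677 L180983 q12932, e3 q8678 L144619 q5264, e3 q8679 (flp_a L156867) q7155, e3 q8680 L144633 q8675, e3 q8681 (flp_a L144639) q5265, e3 q8682 (flp_a L181013) q12937, e3 q8683 L181029 q12939, e3 q8684 L181043 q12942, e3 q8685 (flp_a L144665) q5268, e3 q8686 (flp_a L156848) q7115, e3 q8687 (flp_a L144723) q8692, e3 q8688 L181071 q12945, e3 q8689 L181083 q12948, e3 q8690 L144703 q5272, e3 q8691 (flp_a L156850) q7116, e3 q8692 L144723 q8687, e3 q8693 L144733 q5274, e3 q8694 L144741 q5275, e3 q8695 L144749 q5276, e3 q8696 L144759 q5277, e3 q8697 (flp_a L181125) q12953, e3 q8698 (flp_a L181131) q12954, e3 q8699 (flp_a L181141) q12955, e3 q8700 (flp_a L144789) q8702, e3 q8701 L181215 q12967, e3 q8702 L144789 q8700, e3 q8703 (flp_a L181159) q12957, trivial⟩ (by decide +kernel)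

theorem ce_a_136 : ∀ r, r < 64 → sm ga (Qf (8704 + r)) = Qf (tab Gen.a (8704 + r)) :=
  edges_tab (sm ga) Qf (tab Gen.a) 8704 [(8704, 12958), (8705, 12959), (8706, 5281), (8707, 5282), (8708, 12979), (8709, 5280), (8710, 12983), (8711, 12984), (8712, 12977), (8713, 12989), (8714, 8643), (8715, 5283), (8716, 12994), (8717, 8806), (8718, 12998), (8719, 13001), (8720, 5286), (8721, 13006), (8722, 5511), (8723, 13010), (8724, 5288), (8725, 13013), (8726, 13014), (8727, 5289), (8728, 12723), (8729, 13018), (8730, 13019), (8731, 13022), (8732, 5292), (8733, 5293), (8734, 12840), (8735, 13025), (8736, 13026), (8737, 13027), (8738, 5296), (8739, 5297), (8740, 5298), (8741, 5299), (8742, 13029), (8743, 13030), (8744, 13031), (8745, 13043), (8746, 8747), (8747, 8746), (8748, 13033), (8749, 13034), (8750, 13035), (8751, 5303), (8752, 5304), (8753, 13054), (8754, 5302), (8755, 13058), (8756, 12970), (8757, 13052), (8758, 13063), (8759, 8659), (8760, 5305), (8761, 13068), (8762, 8843), (8763, 13072), (8764, 13075), (8765, 5308),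 (8766, 13007), (8767, 5471)]
    ⟨e3 q8704 (flp_a L181165) q12958, e3 q8705 (flp_a L181173) q12959, e3 q8706 L144809 q5281, e3 q8707 L144815 q5282, e3 q8708 L181299 q12979, e3 q8709 (flp_a L144825) q5280, e3 q8710 (flp_a L181325) q12983, e3 q8711 (flp_a L181335) q12984, e3 q8712 (flp_a L181287) q12977, e3 q8713 L181369 q12989, e3 q8714 L144853 q8643, e3 q8715 (flp_a L144859) q5283, e3 q8716 (flp_a L181397) q12994, e3 q8717 (flp_a L145412) q8806, e3 q8718 L181423 q12998, e3 q8719 L181439 q13001, e3 q8720 L144887 q5286, e3 q8721 (flp_a L181471) q13006, e3 q8722 (flp_a L151484) q5511, e3 q8723 L181503 q13010, e3 q8724 (flp_a L144909) q5288, e3 q8725 (flp_a L181529) q13013, e3 q8726 (flp_a L181535) q13014, e3 q8727 (flp_a L144923) q5289, e3 q8728 (flp_a L179387) q12723, e3 q8729 (flp_a L181561) q13018, e3 q8730 (flp_a L181569) q13019, e3 q8731 L181593 q13022, e3 q8732 L144955 q5292, e3 q8733 L144959 q5293, e3 q8734 (flp_a L180355) q12840, e3 q8735 (flp_a L181615) q13025, e3 q8736 (flp_a L181623) q13026, e3 q8737 L181629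 q13027, e3 q8738 L145002 q5296, e3 q8739 L145010 q5297, e3 q8740 L145016 q5298, e3 q8741 L145026 q5299, e3 q8742 (flp_a L181647) q13029, e3 q8743 (flp_a L181653) q13030, e3 q8744 (flp_a L181663) q13031, e3 q8745 L181737 q13043, e3 q8746 (flp_a L145056) q8747, e3 q8747 L145056 q8746, e3 q8748 (flp_a L181681) q13033, e3 q8749 (flp_a L181687) q13034, e3 q8750 (flp_a L181695) q13035, e3 q8751 L145076 q5303, e3 q8752 L145082 q5304, e3 q8753 L181817 q13054, e3 q8754 (flp_a L145092) q5302, e3 q8755 (flp_a L181843) q13058, e3 q8756 (flp_a L181245) q12970, e3 q8757 (flp_a L181805) q13052, e3 q8758 L181877 q13063, e3 q8759 L145120 q8659, e3 q8760 (flp_a L145126) q5305, e3 q8761 (flp_a L181905) q13068, e3 q8762 (flp_a L145632) q8843, e3 q8763 L181931 q13072, e3 q8764 L181947 q13075, e3 q8765 L145154 q5308, e3 q8766 (flp_a L181481) q13007, e3 q8767 (flp_a L151526) q5471, trivial⟩ (by decide +kernel)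

theorem ce_a_137 : ∀ r, r < 64 → sm ga (Qf (8768 + r)) = Qf (tab Gen.a (8768 + r)) :=
  edges_tab (sm ga) Qf (tab Gen.a) 8768 [(8768, 13081), (8769, 5310), (8770, 13084), (8771, 13085), (8772, 5311), (8773, 12730), (8774, 13089), (8775, 13090), (8776, 13093), (8777, 5314), (8778, 5315), (8779, 12835), (8780, 13008), (8781, 13096), (8782, 13097), (8783, 11028), (8784, 11029), (8785, 5320), (8786, 5321), (8787, 5322), (8788, 10257), (8789, 13101), (8790, 13102), (8791, 13103), (8792, 8793), (8793, 8792), (8794, 13111), (8795, 8426), (8796, 5325), (8797, 13116), (8798, 13117), (8799, 13122), (8800, 6567), (8801, 5328), (8802, 5329), (8803, 13125), (8804, 13126), (8805, 13133), (8806, 8717), (8807, 5330), (8808, 13136), (8809, 13138), (8810, 5332), (8811, 8864), (8812, 13141), (8813, 5333), (8814, 13145), (8815, 13146), (8816, 13147), (8817, 5336), (8818, 13154), (8819, 8870), (8820, 11066), (8821, 11067), (8822, 5340), (8823, 5341), (8824, 5342), (8825, 10275), (8826, 13160), (8827, 13161), (8828, 13162), (8829, 8830),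 (8830, 8829), (8831, 13170)]
    ⟨e3 q8768 L181983 q13081, e3 q8769 (flp_a L145176) q5310, e3 q8770 (flp_a L182009) q13084, e3 q8771 (flp_a L182015) q13085, e3 q8772 (flp_a L145190) q5311, e3 q8773 (flp_a L179439) q12730, e3 q8774 (flp_a L182043) q13089, e3 q8775 (flp_a L182053) q13090, e3 q8776 L182075 q13093, e3 q8777 L145214 q5314, e3 q8778 L145218 q5315, e3 q8779 (flp_a L180301) q12835, e3 q8780 (flp_a L181491) q13008, e3 q8781 (flp_a L182097) q13096, e3 q8782 L182105 q13097, e3 q8783 (flp_a L167367) q11028, e3 q8784 (flp_a L167379) q11029, e3 q8785 L145276 q5320, e3 q8786 L145280 q5321, e3 q8787 L145288 q5322, e3 q8788 (flp_a L160938) q10257, e3 q8789 (flp_a L182145) q13101, e3 q8790 (flp_a L182155) q13102, e3 q8791 (flp_a L182167) q13103, e3 q8792 (flp_a L145334) q8793, e3 q8793 L145334 q8792, e3 q8794 L182225 q13111, e3 q8795 L145348 q8426, e3 q8796 (flp_a L145358) q5325, e3 q8797 (flp_a L182263) q13116, e3 q8798 (flp_a L182267) q13117, e3 q8799 L182293 q13122, e3 q8800 L145376 q6567, e3 q8801 L145382 q5328,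 e3 q8802 L145388 q5329, e3 q8803 (flp_a L182309) q13125, e3 q8804 (flp_a L182315) q13126, e3 q8805 L182357 q13133, e3 q8806 L145412 q8717, e3 q8807 (flp_a L145418) q5330, e3 q8808 (flp_a L182373) q13136, e3 q8809 L182387 q13138, e3 q8810 L145434 q5332, e3 q8811 (flp_a L145768) q8864, e3 q8812 (flp_a L182403) q13141, e3 q8813 (flp_a L145450) q5333, e3 q8814 (flp_a L182427) q13145, e3 q8815 (flp_a L182431) q13146, e3 q8816 (flp_a L182437) q13147, e3 q8817 L145469 q5336, e3 q8818 L182472 q13154, e3 q8819 (flp_a L145796) q8870, e3 q8820 (flp_a L167607) q11066, e3 q8821 (flp_a L167617) q11067, e3 q8822 L145518 q5340, e3 q8823 L145522 q5341, e3 q8824 L145528 q5342, e3 q8825 (flp_a L161052) q10275, e3 q8826 (flp_a L182507) q13160, e3 q8827 (flp_a L182517) q13161, e3 q8828 (flp_a L182523) q13162, e3 q8829 (flp_a L145556) q8830, e3 q8830 L145556 q8829, e3 q8831 L182587 q13170, trivial⟩ (by decide +kernel)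

theorem ce_a_138 : ∀ r, r < 64 → sm ga (Qf (8832 + r)) = Qf (tab Gen.a (8832 + r)) :=
  edges_tab (sm ga) Qf (tab Gen.a) 8832 [(8832, 8431), (8833, 5345), (8834, 13175), (8835, 13176), (8836, 13181), (8837, 6606), (8838, 5348), (8839, 5349), (8840, 13184), (8841, 13185), (8842, 13192), (8843, 8762), (8844, 5350), (8845, 13195), (8846, 13197), (8847, 5352), (8848, 8878), (8849, 13200), (8850, 5353), (8851, 13204), (8852, 13205), (8853, 13206), (8854, 5356), (8855, 13213), (8856, 8883), (8857, 5358), (8858, 5359), (8859, 13217), (8860, 7619), (8861, 8861), (8862, 5363), (8863, 13223), (8864, 8811), (8865, 13228), (8866, 5365), (8867, 13231), (8868, 13232), (8869, 8882), (8870, 8819), (8871, 5368), (8872, 5369), (8873, 13237), (8874, 7785), (8875, 8875), (8876, 5373), (8877, 13243), (8878, 8848), (8879, 13248), (8880, 5375), (8881, 13251), (8882, 8869), (8883, 8856), (8884, 5377), (8885, 12590), (8886, 5378), (8887, 12584), (8888, 7205), (8889, 6013), (8890, 12576), (8891, 5382), (8892, 10621), (8893, 5510), (8894,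 7305), (8895, 6029)]
    ⟨e3 q8832 L145570 q8431, e3 q8833 (flp_a L145580) q5345, e3 q8834 (flp_a L182625) q13175, e3 q8835 (flp_a L182629) q13176, e3 q8836 L182655 q13181, e3 q8837 (flp_a L151443) q6606, e3 q8838 L145600 q5348, e3 q8839 L145606 q5349, e3 q8840 (flp_a L182671) q13184, e3 q8841 (flp_a L182677) q13185, e3 q8842 L182721 q13192, e3 q8843 L145632 q8762, e3 q8844 (flp_a L145638) q5350, e3 q8845 (flp_a L182747) q13195, e3 q8846 L182765 q13197, e3 q8847 L145660 q5352, e3 q8848 (flp_a L145890) q8878, e3 q8849 (flp_a L182785) q13200, e3 q8850 (flp_a L145676) q5353, e3 q8851 (flp_a L182809) q13204, e3 q8852 (flp_a L182813) q13205, e3 q8853 (flp_a L182821) q13206, e3 q8854 L145701 q5356, e3 q8855 L182862 q13213, e3 q8856 (flp_a L145920) q8883, e3 q8857 L145719 q5358, e3 q8858 L145723 q5359, e3 q8859 (flp_a L182875) q13217, e3 q8860 L145736 q7619, e3 q8861 L145745 q8861, e3 q8862 L145752 q5363, e3 q8863 L182918 q13223, e3 q8864 L145768 q8811, e3 q8865 L182954 q13228, e3 q8866 (flp_a L145780) q5365, e3 q8867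 (flp_a L182971) q13231, e3 q8868 (flp_a L182975) q13232, e3 q8869 L222823 q8882, e3 q8870 L145796 q8819, e3 q8871 L145807 q5368, e3 q8872 L145811 q5369, e3 q8873 (flp_a L183014) q13237, e3 q8874 (flp_a L150401) q7785, e3 q8875 L145861 q8875, e3 q8876 L145872 q5373, e3 q8877 L183061 q13243, e3 q8878 L145890 q8848, e3 q8879 L183103 q13248, e3 q8880 (flp_a L145904) q5375, e3 q8881 (flp_a L183126) q13251, e3 q8882 (flp_a L222823) q8869, e3 q8883 L145920 q8856, e3 q8884 (flp_a L145925) q5377, e3 q8885 (flp_a L178347) q12590, e3 q8886 (flp_a L145935) q5378, e3 q8887 (flp_a L178273) q12584, e3 q8888 L145951 q7205, e3 q8889 L145957 q6013, e3 q8890 (flp_a L178193) q12576, e3 q8891 (flp_a L145969) q5382, e3 q8892 (flp_a L164424) q10621, e3 q8893 (flp_a L151129) q5510, e3 q8894 (flp_a L149596) q7305, e3 q8895 (flp_a L149210) q6029, trivial⟩ (by decide +kernel)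

theorem ce_a_139 : ∀ r, r < 64 → sm ga (Qf (8896 + r)) = Qf (tab Gen.a (8896 + r)) :=
  edges_tab (sm ga) Qf (tab Gen.a) 8896 [(8896, 12570), (8897, 5386), (8898, 10570), (8899, 5470), (8900, 5387), (8901, 7447), (8902, 8254), (8903, 12588), (8904, 5390), (8905, 9069), (8906, 8523), (8907, 5392), (8908, 7450), (8909, 12581), (8910, 8257), (8911, 5395), (8912, 9007), (8913, 8552), (8914, 5400), (8915, 8916), (8916, 8915), (8917, 8979), (8918, 11982), (8919, 5403), (8920, 13259), (8921, 13260), (8922, 9836), (8923, 5407), (8924, 13264), (8925, 8292), (8926, 10590), (8927, 5411), (8928, 12807), (8929, 8290), (8930, 5415), (8931, 8932), (8932, 8931), (8933, 9044), (8934, 12180), (8935, 5419), (8936, 13272), (8937, 13273), (8938, 9783), (8939, 5423), (8940, 13277), (8941, 8283), (8942, 10586), (8943, 5427), (8944, 12782), (8945, 8299), (8946, 5433), (8947, 5434), (8948, 5435), (8949, 6630), (8950, 12568), (8951, 5440), (8952, 5441), (8953, 13283), (8954, 7473), (8955, 8957), (8956, 10485), (8957, 8955), (8958, 8272),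 (8959, 5437)]
    ⟨e3 q8896 (flp_a L178135) q12570, e3 q8897 (flp_a L146046) q5386, e3 q8898 (flp_a L163119) q10570, e3 q8899 L146068 q5470, e3 q8900 (flp_a L146096) q5387, e3 q8901 L146106 q7447, e3 q8902 L146112 q8254, e3 q8903 L178329 q12588, e3 q8904 L146122 q5390, e3 q8905 (flp_a L152618) q9069, e3 q8906 (flp_a L146138) q8523, e3 q8907 (flp_a L146142) q5392, e3 q8908 L151135 q7450, e3 q8909 L178239 q12581, e3 q8910 (flp_a L151139) q8257, e3 q8911 L146160 q5395, e3 q8912 (flp_a L152212) q9007, e3 q8913 (flp_a L151582) q8552, e3 q8914 L151588 q5400, e3 q8915 (flp_a L151606) q8916, e3 q8916 L151606 q8915, e3 q8917 (flp_a L152026) q8979, e3 q8918 (flp_a L183217) q11982, e3 q8919 (flp_a L151620) q5403, e3 q8920 (flp_a L183203) q13259, e3 q8921 (flp_a L183207) q13260, e3 q8922 (flp_a L158187) q9836, e3 q8923 (flp_a L151644) q5407, e3 q8924 (flp_a L183241) q13264, e3 q8925 L151652 q8292, e3 q8926 (flp_a L164480) q10590, e3 q8927 L151664 q5411, e3 q8928 (flp_a L180069) q12807, e3 q8929 (flp_a L152160) q8290, e3 q8930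 L151696 q5415, e3 q8931 (flp_a L151714) q8932, e3 q8932 L151714 q8931, e3 q8933 (flp_a L152464) q9044, e3 q8934 (flp_a L175136) q12180, e3 q8935 (flp_a L151728) q5419, e3 q8936 (flp_a L183295) q13272, e3 q8937 (flp_a L183299) q13273, e3 q8938 (flp_a L157889) q9783, e3 q8939 (flp_a L151752) q5423, e3 q8940 (flp_a L183323) q13277, e3 q8941 L151762 q8283, e3 q8942 (flp_a L164119) q10586, e3 q8943 L151774 q5427, e3 q8944 (flp_a L179851) q12782, e3 q8945 L152252 q8299, e3 q8946 L151806 q5433, e3 q8947 L151836 q5434, e3 q8948 L151846 q5435, e3 q8949 L151862 q6630, e3 q8950 (flp_a L178105) q12568, e3 q8951 L151868 q5440, e3 q8952 L151874 q5441, e3 q8953 (flp_a L183365) q13283, e3 q8954 L151882 q7473, e3 q8955 (flp_a L151898) q8957, e3 q8956 (flp_a L162506) q10485, e3 q8957 L151898 q8955, e3 q8958 (flp_a L151912) q8272, e3 q8959 (flp_a L151914) q5437, trivial⟩ (by decide +kernel)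

theorem ce_a_140 : ∀ r, r < 64 → sm ga (Qf (8960 + r)) = Qf (tab Gen.a (8960 + r)) :=
  edges_tab (sm ga) Qf (tab Gen.a) 8960 [(8960, 8499), (8961, 8276), (8962, 5491), (8963, 9370), (8964, 9413), (8965, 8967), (8966, 13294), (8967, 8965), (8968, 5448), (8969, 13299), (8970, 5444), (8971, 12258), (8972, 13303), (8973, 10608), (8974, 5446), (8975, 5447), (8976, 12045), (8977, 13306), (8978, 13309), (8979, 8917), (8980, 5449), (8981, 9098), (8982, 13312), (8983, 13313), (8984, 5452), (8985, 13315), (8986, 9106), (8987, 13319), (8988, 5454), (8989, 13323), (8990, 13324), (8991, 5455), (8992, 13327), (8993, 8252), (8994, 12762), (8995, 13332), (8996, 13334), (8997, 5459), (8998, 13336), (8999, 9003), (9000, 5461), (9001, 5462), (9002, 11754), (9003, 8999), (9004, 5465), (9005, 5466), (9006, 10457), (9007, 8912), (9008, 5467), (9009, 13341), (9010, 12254), (9011, 5472), (9012, 12592), (9013, 5477), (9014, 5478), (9015, 5479), (9016, 12567), (9017, 6678), (9018, 5484), (9019, 5485), (9020, 13344), (9021, 7478), (9022,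 10484), (9023, 9024)]
    ⟨e3 q8960 L151928 q8499, e3 q8961 L151934 q8276, e3 q8962 L152258 q5491, e3 q8963 (flp_a L154916) q9370, e3 q8964 (flp_a L155254) q9413, e3 q8965 (flp_a L151962) q8967, e3 q8966 L183491 q13294, e3 q8967 L151962 q8965, e3 q8968 L151970 q5448, e3 q8969 L183515 q13299, e3 q8970 (flp_a L151982) q5444, e3 q8971 (flp_a L175699) q12258, e3 q8972 (flp_a L183561) q13303, e3 q8973 (flp_a L164310) q10608, e3 q8974 L151998 q5446, e3 q8975 L152006 q5447, e3 q8976 (flp_a L174042) q12045, e3 q8977 (flp_a L183591) q13306, e3 q8978 L183609 q13309, e3 q8979 L152026 q8917, e3 q8980 (flp_a L152034) q5449, e3 q8981 (flp_a L152802) q9098, e3 q8982 L183629 q13312, e3 q8983 L183639 q13313, e3 q8984 L152062 q5452, e3 q8985 (flp_a L183661) q13315, e3 q8986 (flp_a L152852) q9106, e3 q8987 L183693 q13319, e3 q8988 (flp_a L152082) q5454, e3 q8989 (flp_a L183715) q13323, e3 q8990 (flp_a L183719) q13324, e3 q8991 (flp_a L152094) q5455, e3 q8992 (flp_a L183741) q13327, e3 q8993 L152104 q8252, e3 q8994 (flp_a L179689)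 q12762, e3 q8995 L183771 q13332, e3 q8996 L183791 q13334, e3 q8997 (flp_a L152126) q5459, e3 q8998 (flp_a L183807) q13336, e3 q8999 (flp_a L152176) q9003, e3 q9000 L152142 q5461, e3 q9001 L152146 q5462, e3 q9002 (flp_a L172029) q11754, e3 q9003 L152176 q8999, e3 q9004 L152182 q5465, e3 q9005 L152188 q5466, e3 q9006 (flp_a L162321) q10457, e3 q9007 L152212 q8912, e3 q9008 (flp_a L152220) q5467, e3 q9009 (flp_a L183851) q13341, e3 q9010 (flp_a L175639) q12254, e3 q9011 (flp_a L152236) q5472, e3 q9012 (flp_a L178363) q12592, e3 q9013 L152264 q5477, e3 q9014 L152276 q5478, e3 q9015 L152286 q5479, e3 q9016 (flp_a L178095) q12567, e3 q9017 L152306 q6678, e3 q9018 L152312 q5484, e3 q9019 L152318 q5485, e3 q9020 (flp_a L183871) q13344, e3 q9021 L152326 q7478, e3 q9022 L162800 q10484, e3 q9023 (flp_a L152342) q9024, trivial⟩ (by decide +kernel)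

theorem ce_a_141 : ∀ r, r < 64 → sm ga (Qf (9024 + r)) = Qf (tab Gen.a (9024 + r)) :=
  edges_tab (sm ga) Qf (tab Gen.a) 9024 [(9024, 9023), (9025, 5480), (9026, 8528), (9027, 8265), (9028, 8261), (9029, 9372), (9030, 9414), (9031, 13353), (9032, 9033), (9033, 9032), (9034, 5492), (9035, 13359), (9036, 5488), (9037, 12316), (9038, 13363), (9039, 10554), (9040, 5490), (9041, 11823), (9042, 13289), (9043, 13368), (9044, 8933), (9045, 5493), (9046, 9152), (9047, 13371), (9048, 13372), (9049, 5496), (9050, 9160), (9051, 13374), (9052, 5498), (9053, 13378), (9054, 13379), (9055, 5499), (9056, 13381), (9057, 12787), (9058, 8253), (9059, 5500), (9060, 13338), (9061, 9065), (9062, 5502), (9063, 5503), (9064, 11797), (9065, 9061), (9066, 5506), (9067, 5507), (9068, 10506), (9069, 8905), (9070, 5508), (9071, 12313), (9072, 5512), (9073, 12587), (9074, 5515), (9075, 5516), (9076, 11728), (9077, 11729), (9078, 11730), (9079, 9080), (9080, 9079), (9081, 5521), (9082, 7909), (9083, 11245), (9084, 13393), (9085, 13308), (9086,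 9368), (9087, 9371)]
    ⟨e3 q9024 L152342 q9023, e3 q9025 (flp_a L152348) q5480, e3 q9026 L152362 q8528, e3 q9027 L152368 q8265, e3 q9028 L152382 q8261, e3 q9029 (flp_a L154930) q9372, e3 q9030 (flp_a L155262) q9414, e3 q9031 L183953 q13353, e3 q9032 (flp_a L152406) q9033, e3 q9033 L152406 q9032, e3 q9034 L152414 q5492, e3 q9035 L183983 q13359, e3 q9036 (flp_a L152426) q5488, e3 q9037 (flp_a L176077) q12316, e3 q9038 (flp_a L184015) q13363, e3 q9039 (flp_a L162985) q10554, e3 q9040 L152444 q5490, e3 q9041 (flp_a L172497) q11823, e3 q9042 (flp_a L183451) q13289, e3 q9043 L184051 q13368, e3 q9044 L152464 q8933, e3 q9045 (flp_a L152472) q5493, e3 q9046 (flp_a L153217) q9152, e3 q9047 L184071 q13371, e3 q9048 L184081 q13372, e3 q9049 L152500 q5496, e3 q9050 (flp_a L153269) q9160, e3 q9051 L184101 q13374, e3 q9052 (flp_a L152514) q5498, e3 q9053 (flp_a L184123) q13378, e3 q9054 (flp_a L184127) q13379, e3 q9055 (flp_a L152526) q5499, e3 q9056 (flp_a L184143) q13381, e3 q9057 (flp_a L179907) q12787, e3 q9058 L152542 q8253,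 e3 q9059 (flp_a L152546) q5500, e3 q9060 (flp_a L183831) q13338, e3 q9061 (flp_a L152586) q9065, e3 q9062 L152566 q5502, e3 q9063 L152570 q5503, e3 q9064 (flp_a L172334) q11797, e3 q9065 L152586 q9061, e3 q9066 L152594 q5506, e3 q9067 L152604 q5507, e3 q9068 (flp_a L162635) q10506, e3 q9069 L152618 q8905, e3 q9070 (flp_a L152626) q5508, e3 q9071 (flp_a L176033) q12313, e3 q9072 (flp_a L152636) q5512, e3 q9073 (flp_a L178313) q12587, e3 q9074 L152654 q5515, e3 q9075 L152660 q5516, e3 q9076 (flp_a L171846) q11728, e3 q9077 (flp_a L171858) q11729, e3 q9078 (flp_a L171870) q11730, e3 q9079 (flp_a L152694) q9080, e3 q9080 L152694 q9079, e3 q9081 L152702 q5521, e3 q9082 (flp_a L163957) q7909, e3 q9083 (flp_a L168732) q11245, e3 q9084 L184230 q13393, e3 q9085 (flp_a L183607) q13308, e3 q9086 (flp_a L154902) q9368, e3 q9087 (flp_a L154924) q9371, trivial⟩ (by decide +kernel)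

theorem ce_a_142 : ∀ r, r < 64 → sm ga (Qf (9088 + r)) = Qf (tab Gen.a (9088 + r)) :=
  edges_tab (sm ga) Qf (tab Gen.a) 9088 [(9088, 9090), (9089, 9655), (9090, 9088), (9091, 9196), (9092, 9581), (9093, 5531), (9094, 9095), (9095, 9094), (9096, 11594), (9097, 12239), (9098, 8981), (9099, 12248), (9100, 5540), (9101, 5541), (9102, 13409), (9103, 13406), (9104, 13407), (9105, 13414), (9106, 8986), (9107, 5542), (9108, 9111), (9109, 10455), (9110, 5545), (9111, 9108), (9112, 5546), (9113, 13420), (9114, 13421), (9115, 5549), (9116, 13424), (9117, 9209), (9118, 13340), (9119, 5551), (9120, 5552), (9121, 5553), (9122, 13430), (9123, 9124), (9124, 9123), (9125, 5555), (9126, 13436), (9127, 13437), (9128, 5559), (9129, 5560), (9130, 11771), (9131, 11772), (9132, 11773), (9133, 9134), (9134, 9133), (9135, 5565), (9136, 7749), (9137, 11406), (9138, 13367), (9139, 13446), (9140, 9369), (9141, 9373), (9142, 9654), (9143, 9144), (9144, 9143), (9145, 9233), (9146, 9620), (9147, 5575), (9148, 9149), (9149, 9148), (9150, 11647),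 (9151, 12299)]
    ⟨e3 q9088 (flp_a L152754) q9090, e3 q9089 (flp_a L157039) q9655, e3 q9090 L152754 q9088, e3 q9091 (flp_a L153624) q9196, e3 q9092 (flp_a L156470) q9581, e3 q9093 (flp_a L152768) q5531, e3 q9094 (flp_a L152782) q9095, e3 q9095 L152782 q9094, e3 q9096 L170951 q11594, e3 q9097 (flp_a L175553) q12239, e3 q9098 L152802 q8981, e3 q9099 (flp_a L175611) q12248, e3 q9100 L152818 q5540, e3 q9101 L152824 q5541, e3 q9102 L184366 q13409, e3 q9103 (flp_a L184344) q13406, e3 q9104 (flp_a L184356) q13407, e3 q9105 L184398 q13414, e3 q9106 L152852 q8986, e3 q9107 (flp_a L152858) q5542, e3 q9108 (flp_a L152874) q9111, e3 q9109 L183547 q10455, e3 q9110 L152868 q5545, e3 q9111 L152874 q9108, e3 q9112 (flp_a L152878) q5546, e3 q9113 (flp_a L184440) q13420, e3 q9114 (flp_a L184446) q13421, e3 q9115 L152890 q5549, e3 q9116 L184460 q13424, e3 q9117 (flp_a L153708) q9209, e3 q9118 (flp_a L183847) q13340, e3 q9119 L152912 q5551, e3 q9120 L152916 q5552, e3 q9121 L152920 q5553, e3 q9122 (flp_a L184502) q13430, e3 q9123 (flp_a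 L152943) q9124, e3 q9124 L152943 q9123, e3 q9125 (flp_a L152947) q5555, e3 q9126 (flp_a L184527) q13436, e3 q9127 (flp_a L184533) q13437, e3 q9128 L153069 q5559, e3 q9129 L153075 q5560, e3 q9130 (flp_a L172137) q11771, e3 q9131 (flp_a L172149) q11772, e3 q9132 (flp_a L172157) q11773, e3 q9133 (flp_a L153109) q9134, e3 q9134 L153109 q9133, e3 q9135 L153117 q5565, e3 q9136 (flp_a L163965) q7749, e3 q9137 (flp_a L169743) q11406, e3 q9138 L184049 q13367, e3 q9139 L184608 q13446, e3 q9140 L154912 q9369, e3 q9141 (flp_a L154938) q9373, e3 q9142 (flp_a L157027) q9654, e3 q9143 (flp_a L153169) q9144, e3 q9144 L153169 q9143, e3 q9145 (flp_a L153904) q9233, e3 q9146 (flp_a L156725) q9620, e3 q9147 (flp_a L153183) q5575, e3 q9148 (flp_a L153197) q9149, e3 q9149 L153197 q9148, e3 q9150 L171304 q11647, e3 q9151 (flp_a L175951) q12299, trivial⟩ (by decide +kernel)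

theorem ce_a_143 : ∀ r, r < 64 → sm ga (Qf (9152 + r)) = Qf (tab Gen.a (9152 + r)) :=
  edges_tab (sm ga) Qf (tab Gen.a) 9152 [(9152, 9046), (9153, 12307), (9154, 5584), (9155, 5585), (9156, 13461), (9157, 13458), (9158, 13459), (9159, 13466), (9160, 9050), (9161, 5586), (9162, 9165), (9163, 10508), (9164, 5589), (9165, 9162), (9166, 5590), (9167, 13472), (9168, 13473), (9169, 5593), (9170, 13476), (9171, 9245), (9172, 13386), (9173, 5595), (9174, 5596), (9175, 5597), (9176, 13482), (9177, 9178), (9178, 9177), (9179, 5599), (9180, 13488), (9181, 13489), (9182, 5602), (9183, 5603), (9184, 9185), (9185, 9184), (9186, 5806), (9187, 5610), (9188, 5611), (9189, 5612), (9190, 9455), (9191, 13494), (9192, 13492), (9193, 7526), (9194, 6819), (9195, 5614), (9196, 9091), (9197, 5914), (9198, 7571), (9199, 13500), (9200, 10415), (9201, 5625), (9202, 10846), (9203, 5628), (9204, 13502), (9205, 5629), (9206, 13503), (9207, 13504), (9208, 9769), (9209, 9117), (9210, 5631), (9211, 8169), (9212, 13509), (9213, 5633), (9214, 5634),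 (9215, 5635)]
    ⟨e3 q9152 L153217 q9046, e3 q9153 (flp_a L176005) q12307, e3 q9154 L153233 q5584, e3 q9155 L153239 q5585, e3 q9156 L184742 q13461, e3 q9157 (flp_a L184720) q13458, e3 q9158 (flp_a L184732) q13459, e3 q9159 L184774 q13466, e3 q9160 L153269 q9050, e3 q9161 (flp_a L153275) q5586, e3 q9162 (flp_a L153297) q9165, e3 q9163 L175842 q10508, e3 q9164 L153289 q5589, e3 q9165 L153297 q9162, e3 q9166 (flp_a L153303) q5590, e3 q9167 (flp_a L184818) q13472, e3 q9168 (flp_a L184832) q13473, e3 q9169 L153319 q5593, e3 q9170 L184850 q13476, e3 q9171 (flp_a L153980) q9245, e3 q9172 (flp_a L184177) q13386, e3 q9173 L153341 q5595, e3 q9174 L153345 q5596, e3 q9175 L153351 q5597, e3 q9176 (flp_a L184894) q13482, e3 q9177 (flp_a L153378) q9178, e3 q9178 L153378 q9177, e3 q9179 (flp_a L153384) q5599, e3 q9180 (flp_a L184927) q13488, e3 q9181 (flp_a L184933) q13489, e3 q9182 L153506 q5602, e3 q9183 L153517 q5603, e3 q9184 (flp_a L153533) q9185, e3 q9185 L153533 q9184, e3 q9186 L153544 q5806, e3 q9187 L153554 q5610, e3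 q9188 L153560 q5611, e3 q9189 L153570 q5612, e3 q9190 (flp_a L155550) q9455, e3 q9191 L184983 q13494, e3 q9192 (flp_a L184961) q13492, e3 q9193 L153598 q7526, e3 q9194 L154526 q6819, e3 q9195 (flp_a L153610) q5614, e3 q9196 L153624 q9091, e3 q9197 (flp_a L153634) q5914, e3 q9198 (flp_a L153646) q7571, e3 q9199 L185055 q13500, e3 q9200 (flp_a L162018) q10415, e3 q9201 (flp_a L153666) q5625, e3 q9202 (flp_a L166124) q10846, e3 q9203 L153680 q5628, e3 q9204 (flp_a L185079) q13502, e3 q9205 (flp_a L153694) q5629, e3 q9206 (flp_a L185091) q13503, e3 q9207 (flp_a L185097) q13504, e3 q9208 L157805 q9769, e3 q9209 L153708 q9117, e3 q9210 (flp_a L153718) q5631, e3 q9211 L153728 q8169, e3 q9212 L185133 q13509, e3 q9213 L153751 q5633, e3 q9214 L153759 q5634, e3 q9215 L153765 q5635, trivial⟩ (by decide +kernel)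

theorem ce_a_144 : ∀ r, r < 64 → sm ga (Qf (9216 + r)) = Qf (tab Gen.a (9216 + r)) :=
  edges_tab (sm ga) Qf (tab Gen.a) 9216 [(9216, 5636), (9217, 13514), (9218, 8269), (9219, 13515), (9220, 13516), (9221, 8268), (9222, 5639), (9223, 5640), (9224, 9225), (9225, 9224), (9226, 5808), (9227, 5647), (9228, 5648), (9229, 13523), (9230, 9460), (9231, 13522), (9232, 6745), (9233, 9145), (9234, 5893), (9235, 13524), (9236, 10381), (9237, 5658), (9238, 10825), (9239, 5661), (9240, 13526), (9241, 5662), (9242, 13527), (9243, 9749), (9244, 13528), (9245, 9171), (9246, 5664), (9247, 8198), (9248, 13533), (9249, 5666), (9250, 5667), (9251, 5668), (9252, 5669), (9253, 13538), (9254, 8280), (9255, 13539), (9256, 13540), (9257, 8279), (9258, 5672), (9259, 5673), (9260, 9262), (9261, 13547), (9262, 9260), (9263, 9338), (9264, 5676), (9265, 9266), (9266, 9265), (9267, 9286), (9268, 13554), (9269, 5679), (9270, 5680), (9271, 5701), (9272, 10658), (9273, 10681), (9274, 5682), (9275, 9333), (9276, 5684), (9277, 12737), (9278, 9331),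 (9279, 10737)]
    ⟨e3 q9216 L153771 q5636, e3 q9217 (flp_a L185159) q13514, e3 q9218 L153785 q8269, e3 q9219 (flp_a L185167) q13515, e3 q9220 (flp_a L185175) q13516, e3 q9221 L153808 q8268, e3 q9222 L153818 q5639, e3 q9223 L153829 q5640, e3 q9224 (flp_a L153845) q9225, e3 q9225 L153845 q9224, e3 q9226 L153856 q5808, e3 q9227 L153866 q5647, e3 q9228 L153872 q5648, e3 q9229 L185241 q13523, e3 q9230 (flp_a L155596) q9460, e3 q9231 (flp_a L185231) q13522, e3 q9232 L154564 q6745, e3 q9233 L153904 q9145, e3 q9234 (flp_a L153914) q5893, e3 q9235 L185255 q13524, e3 q9236 (flp_a L161788) q10381, e3 q9237 (flp_a L153938) q5658, e3 q9238 (flp_a L165939) q10825, e3 q9239 L153952 q5661, e3 q9240 (flp_a L185281) q13526, e3 q9241 (flp_a L153966) q5662, e3 q9242 (flp_a L185293) q13527, e3 q9243 (flp_a L157671) q9749, e3 q9244 (flp_a L185299) q13528, e3 q9245 L153980 q9171, e3 q9246 (flp_a L153990) q5664, e3 q9247 L154000 q8198, e3 q9248 L185335 q13533, e3 q9249 L154017 q5666, e3 q9250 L154025 q5667, e3 q9251 L154031 q5668, e3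 q9252 L154043 q5669, e3 q9253 (flp_a L185361) q13538, e3 q9254 L154053 q8280, e3 q9255 (flp_a L185369) q13539, e3 q9256 (flp_a L185381) q13540, e3 q9257 L154076 q8279, e3 q9258 L154086 q5672, e3 q9259 L154096 q5673, e3 q9260 (flp_a L154114) q9262, e3 q9261 L185431 q13547, e3 q9262 L154114 q9260, e3 q9263 (flp_a L154670) q9338, e3 q9264 (flp_a L154128) q5676, e3 q9265 (flp_a L154136) q9266, e3 q9266 L154136 q9265, e3 q9267 L154256 q9286, e3 q9268 L185493 q13554, e3 q9269 (flp_a L154156) q5679, e3 q9270 (flp_a L154168) q5680, e3 q9271 L154496 q5701, e3 q9272 (flp_a L164693) q10658, e3 q9273 (flp_a L164877) q10681, e3 q9274 L154190 q5682, e3 q9275 (flp_a L154638) q9333, e3 q9276 (flp_a L154208) q5684, e3 q9277 (flp_a L179491) q12737, e3 q9278 (flp_a L154612) q9331, e3 q9279 (flp_a L165278) q10737, trivial⟩ (by decide +kernel)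

theorem ce_a_145 : ∀ r, r < 64 → sm ga (Qf (9280 + r)) = Qf (tab Gen.a (9280 + r)) :=
  edges_tab (sm ga) Qf (tab Gen.a) 9280 [(9280, 5691), (9281, 13557), (9282, 12749), (9283, 10779), (9284, 9326), (9285, 9472), (9286, 9267), (9287, 9295), (9288, 5695), (9289, 10838), (9290, 13561), (9291, 13562), (9292, 5698), (9293, 10817), (9294, 5731), (9295, 9287), (9296, 9316), (9297, 10743), (9298, 6805), (9299, 13555), (9300, 6723), (9301, 5705), (9302, 5706), (9303, 5707), (9304, 13572), (9305, 13573), (9306, 13569), (9307, 10747), (9308, 9309), (9309, 9308), (9310, 5720), (9311, 5711), (9312, 5712), (9313, 9315), (9314, 13578), (9315, 9313), (9316, 9296), (9317, 5715), (9318, 9319), (9319, 9318), (9320, 13568), (9321, 10765), (9322, 5719), (9323, 5734), (9324, 10752), (9325, 12746), (9326, 9284), (9327, 10650), (9328, 5726), (9329, 12740), (9330, 10695), (9331, 9278), (9332, 9467), (9333, 9275), (9334, 9337), (9335, 5730), (9336, 13587), (9337, 9334), (9338, 9263), (9339, 10661), (9340, 6724), (9341, 6718), (9342, 13582),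 (9343, 5738)]
    ⟨e3 q9280 L154224 q5691, e3 q9281 L185527 q13557, e3 q9282 (flp_a L179583) q12749, e3 q9283 L165610 q10779, e3 q9284 (flp_a L154584) q9326, e3 q9285 L155688 q9472, e3 q9286 (flp_a L154256) q9267, e3 q9287 (flp_a L154304) q9295, e3 q9288 (flp_a L154270) q5695, e3 q9289 (flp_a L166058) q10838, e3 q9290 (flp_a L185561) q13561, e3 q9291 (flp_a L185569) q13562, e3 q9292 L154286 q5698, e3 q9293 (flp_a L165875) q10817, e3 q9294 L154298 q5731, e3 q9295 L154304 q9287, e3 q9296 (flp_a L154458) q9316, e3 q9297 (flp_a L165310) q10743, e3 q9298 L154512 q6805, e3 q9299 (flp_a L185507) q13555, e3 q9300 L154492 q6723, e3 q9301 L154348 q5705, e3 q9302 L154356 q5706, e3 q9303 L154364 q5707, e3 q9304 L185683 q13572, e3 q9305 L185689 q13573, e3 q9306 (flp_a L185655) q13569, e3 q9307 (flp_a L165344) q10747, e3 q9308 (flp_a L154400) q9309, e3 q9309 L154400 q9308, e3 q9310 (flp_a L154412) q5720, e3 q9311 L154416 q5711, e3 q9312 L154426 q5712, e3 q9313 (flp_a L154444) q9315, e3 q9314 L185731 q13578, e3 q9315 L154444 q9313,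 e3 q9316 L154458 q9296, e3 q9317 (flp_a L154472) q5715, e3 q9318 (flp_a L165536) q9319, e3 q9319 L165536 q9318, e3 q9320 (flp_a L185643) q13568, e3 q9321 (flp_a L165490) q10765, e3 q9322 (flp_a L154536) q5719, e3 q9323 (flp_a L154546) q5734, e3 q9324 (flp_a L165362) q10752, e3 q9325 (flp_a L179559) q12746, e3 q9326 L154584 q9284, e3 q9327 (flp_a L164649) q10650, e3 q9328 L154598 q5726, e3 q9329 (flp_a L179515) q12740, e3 q9330 L164989 q10695, e3 q9331 L154612 q9278, e3 q9332 L155652 q9467, e3 q9333 L154638 q9275, e3 q9334 (flp_a L154660) q9337, e3 q9335 (flp_a L154650) q5730, e3 q9336 (flp_a L185833) q13587, e3 q9337 L154660 q9334, e3 q9338 L154670 q9263, e3 q9339 (flp_a L164715) q10661, e3 q9340 L154684 q6724, e3 q9341 L154694 q6718, e3 q9342 (flp_a L185775) q13582, e3 q9343 L154712 q5738, trivial⟩ (by decide +kernel)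

theorem ce_a_146 : ∀ r, r < 64 → sm ga (Qf (9344 + r)) = Qf (tab Gen.a (9344 + r)) :=
  edges_tab (sm ga) Qf (tab Gen.a) 9344 [(9344, 5739), (9345, 5740), (9346, 13593), (9347, 13594), (9348, 13591), (9349, 10665), (9350, 9351), (9351, 9350), (9352, 10859), (9353, 10864), (9354, 13597), (9355, 13600), (9356, 9415), (9357, 9416), (9358, 9359), (9359, 9358), (9360, 7672), (9361, 7836), (9362, 5756), (9363, 13607), (9364, 13608), (9365, 5757), (9366, 13611), (9367, 13612), (9368, 9086), (9369, 9140), (9370, 8963), (9371, 9087), (9372, 9029), (9373, 9141), (9374, 5762), (9375, 9394), (9376, 13622), (9377, 5764), (9378, 9399), (9379, 13626), (9380, 13629), (9381, 5768), (9382, 13633), (9383, 13634), (9384, 13638), (9385, 5771), (9386, 13642), (9387, 13643), (9388, 7498), (9389, 7512), (9390, 9400), (9391, 5776), (9392, 6951), (9393, 6964), (9394, 9375), (9395, 9405), (9396, 5779), (9397, 6957), (9398, 6974), (9399, 9378), (9400, 9390), (9401, 11567), (9402, 13650), (9403, 9542), (9404, 11619), (9405, 9395), (9406, 13648),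 (9407, 9529)]
    ⟨e3 q9344 L154720 q5739, e3 q9345 L154726 q5740, e3 q9346 L185895 q13593, e3 q9347 L185903 q13594, e3 q9348 (flp_a L185875) q13591, e3 q9349 (flp_a L164749) q10665, e3 q9350 (flp_a L154766) q9351, e3 q9351 L154766 q9350, e3 q9352 L166228 q10859, e3 q9353 L166276 q10864, e3 q9354 L185933 q13597, e3 q9355 L185957 q13600, e3 q9356 (flp_a L155270) q9415, e3 q9357 (flp_a L155282) q9416, e3 q9358 (flp_a L154836) q9359, e3 q9359 L154836 q9358, e3 q9360 (flp_a L154851) q7672, e3 q9361 L154860 q7836, e3 q9362 (flp_a L154862) q5756, e3 q9363 (flp_a L186031) q13607, e3 q9364 (flp_a L186036) q13608, e3 q9365 (flp_a L154878) q5757, e3 q9366 (flp_a L186055) q13611, e3 q9367 (flp_a L186060) q13612, e3 q9368 L154902 q9086, e3 q9369 (flp_a L154912) q9140, e3 q9370 L154916 q8963, e3 q9371 L154924 q9087, e3 q9372 L154930 q9029, e3 q9373 L154938 q9141, e3 q9374 (flp_a L154942) q5762, e3 q9375 (flp_a L155098) q9394, e3 q9376 L186145 q13622, e3 q9377 (flp_a L154964) q5764, e3 q9378 (flp_a L155152) q9399, e3 q9379 L186177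 q13626, e3 q9380 L186199 q13629, e3 q9381 (flp_a L154992) q5768, e3 q9382 (flp_a L186232) q13633, e3 q9383 (flp_a L186238) q13634, e3 q9384 L186262 q13638, e3 q9385 (flp_a L155012) q5771, e3 q9386 (flp_a L186295) q13642, e3 q9387 (flp_a L186301) q13643, e3 q9388 L155028 q7498, e3 q9389 L155042 q7512, e3 q9390 (flp_a L155164) q9400, e3 q9391 L155066 q5776, e3 q9392 L155078 q6951, e3 q9393 L155086 q6964, e3 q9394 L155098 q9375, e3 q9395 (flp_a L155190) q9405, e3 q9396 L155120 q5779, e3 q9397 L155132 q6957, e3 q9398 L155140 q6974, e3 q9399 L155152 q9378, e3 q9400 L155164 q9390, e3 q9401 (flp_a L170783) q11567, e3 q9402 (flp_a L186363) q13650, e3 q9403 L156196 q9542, e3 q9404 (flp_a L171122) q11619, e3 q9405 L155190 q9395, e3 q9406 (flp_a L186345) q13648, e3 q9407 L156086 q9529, trivial⟩ (by decide +kernel)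

theorem ce_a_147 : ∀ r, r < 64 → sm ga (Qf (9408 + r)) = Qf (tab Gen.a (9408 + r)) :=
  edges_tab (sm ga) Qf (tab Gen.a) 9408 [(9408, 5963), (9409, 5978), (9410, 9410), (9411, 5800), (9412, 5801), (9413, 8964), (9414, 9030), (9415, 9356), (9416, 9357), (9417, 10537), (9418, 10592), (9419, 9420), (9420, 9419), (9421, 9422), (9422, 9421), (9423, 10835), (9424, 10814), (9425, 9459), (9426, 13672), (9427, 9464), (9428, 13675), (9429, 13677), (9430, 5811), (9431, 13681), (9432, 13682), (9433, 13686), (9434, 5813), (9435, 13690), (9436, 13691), (9437, 5814), (9438, 10363), (9439, 9445), (9440, 9826), (9441, 5816), (9442, 5817), (9443, 12420), (9444, 13695), (9445, 9439), (9446, 5818), (9447, 10326), (9448, 9454), (9449, 9771), (9450, 5820), (9451, 5821), (9452, 12465), (9453, 13698), (9454, 9448), (9455, 9190), (9456, 5823), (9457, 5824), (9458, 13701), (9459, 9425), (9460, 9230), (9461, 5826), (9462, 5827), (9463, 13703), (9464, 9427), (9465, 5831), (9466, 12482), (9467, 9332), (9468, 6868), (9469, 9722), (9470, 5836),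 (9471, 12446)]
    ⟨e3 q9408 L155208 q5963, e3 q9409 L155218 q5978, e3 q9410 L155228 q9410, e3 q9411 L155236 q5800, e3 q9412 L155245 q5801, e3 q9413 L155254 q8964, e3 q9414 L155262 q9030, e3 q9415 L155270 q9356, e3 q9416 L155282 q9357, e3 q9417 (flp_a L162816) q10537, e3 q9418 (flp_a L164161) q10592, e3 q9419 (flp_a L155320) q9420, e3 q9420 L155320 q9419, e3 q9421 (flp_a L155338) q9422, e3 q9422 L155338 q9421, e3 q9423 (flp_a L194301) q10835, e3 q9424 (flp_a L194306) q10814, e3 q9425 (flp_a L155580) q9459, e3 q9426 L186545 q13672, e3 q9427 (flp_a L155626) q9464, e3 q9428 L186575 q13675, e3 q9429 L186591 q13677, e3 q9430 (flp_a L155384) q5811, e3 q9431 (flp_a L186635) q13681, e3 q9432 (flp_a L186639) q13682, e3 q9433 L186676 q13686, e3 q9434 (flp_a L155402) q5813, e3 q9435 (flp_a L186720) q13690, e3 q9436 (flp_a L186724) q13691, e3 q9437 (flp_a L155414) q5814, e3 q9438 L161679 q10363, e3 q9439 (flp_a L155455) q9445, e3 q9440 (flp_a L158123) q9826, e3 q9441 L155429 q5816, e3 q9442 L155433 q5817, e3 q9443 L176997 q12420,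 e3 q9444 (flp_a L186763) q13695, e3 q9445 L155455 q9439, e3 q9446 (flp_a L155459) q5818, e3 q9447 (flp_a L161428) q10326, e3 q9448 (flp_a L155538) q9454, e3 q9449 (flp_a L157815) q9771, e3 q9450 L155474 q5820, e3 q9451 L155478 q5821, e3 q9452 L177334 q12465, e3 q9453 (flp_a L186793) q13698, e3 q9454 L155538 q9448, e3 q9455 L155550 q9190, e3 q9456 L155556 q5823, e3 q9457 L155564 q5824, e3 q9458 (flp_a L186823) q13701, e3 q9459 L155580 q9425, e3 q9460 L155596 q9230, e3 q9461 L155602 q5826, e3 q9462 L155610 q5827, e3 q9463 (flp_a L186849) q13703, e3 q9464 L155626 q9427, e3 q9465 L155636 q5831, e3 q9466 (flp_a L177459) q12482, e3 q9467 (flp_a L155652) q9332, e3 q9468 L155656 q6868, e3 q9469 L157469 q9722, e3 q9470 L155672 q5836, e3 q9471 (flp_a L177184) q12446, trivial⟩ (by decide +kernel)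

theorem ce_a_148 : ∀ r, r < 64 → sm ga (Qf (9472 + r)) = Qf (tab Gen.a (9472 + r)) :=
  edges_tab (sm ga) Qf (tab Gen.a) 9472 [(9472, 9285), (9473, 6889), (9474, 9714), (9475, 9477), (9476, 9705), (9477, 9475), (9478, 5840), (9479, 11967), (9480, 13711), (9481, 7893), (9482, 9691), (9483, 9683), (9484, 9485), (9485, 9484), (9486, 5844), (9487, 12169), (9488, 13710), (9489, 7731), (9490, 9713), (9491, 7000), (9492, 7017), (9493, 12810), (9494, 13615), (9495, 5854), (9496, 13723), (9497, 13724), (9498, 9569), (9499, 13730), (9500, 5856), (9501, 13734), (9502, 9508), (9503, 13737), (9504, 5858), (9505, 5859), (9506, 13741), (9507, 13742), (9508, 9502), (9509, 12814), (9510, 13616), (9511, 5862), (9512, 13748), (9513, 13749), (9514, 9607), (9515, 13755), (9516, 5864), (9517, 13759), (9518, 9524), (9519, 13762), (9520, 5866), (9521, 5867), (9522, 13766), (9523, 13767), (9524, 9518), (9525, 6482), (9526, 6515), (9527, 5872), (9528, 13496), (9529, 9407), (9530, 6999), (9531, 6197), (9532, 7001), (9533, 5876), (9534, 6289),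 (9535, 6288)]
    ⟨e3 q9472 (flp_a L155688) q9285, e3 q9473 L155692 q6889, e3 q9474 L157387 q9714, e3 q9475 (flp_a L155722) q9477, e3 q9476 (flp_a L157333) q9705, e3 q9477 L155722 q9475, e3 q9478 (flp_a L155728) q5840, e3 q9479 L173546 q11967, e3 q9480 (flp_a L186935) q13711, e3 q9481 L156058 q7893, e3 q9482 L157263 q9691, e3 q9483 (flp_a L157221) q9683, e3 q9484 (flp_a L155764) q9485, e3 q9485 L155764 q9484, e3 q9486 (flp_a L155774) q5844, e3 q9487 L175049 q12169, e3 q9488 (flp_a L186931) q13710, e3 q9489 L156038 q7731, e3 q9490 L157375 q9713, e3 q9491 L155800 q7000, e3 q9492 L155808 q7017, e3 q9493 (flp_a L180101) q12810, e3 q9494 (flp_a L186081) q13615, e3 q9495 L155834 q5854, e3 q9496 (flp_a L187037) q13723, e3 q9497 (flp_a L187045) q13724, e3 q9498 (flp_a L156400) q9569, e3 q9499 L187083 q13730, e3 q9500 (flp_a L155860) q5856, e3 q9501 (flp_a L187113) q13734, e3 q9502 (flp_a L155906) q9508, e3 q9503 L187133 q13737, e3 q9504 L155882 q5858, e3 q9505 L155888 q5859, e3 q9506 (flp_a L187159) q13741, e3 q9507 (flp_a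 L187167) q13742, e3 q9508 L155906 q9502, e3 q9509 (flp_a L180133) q12814, e3 q9510 (flp_a L186091) q13616, e3 q9511 L155932 q5862, e3 q9512 (flp_a L187221) q13748, e3 q9513 (flp_a L187229) q13749, e3 q9514 (flp_a L156647) q9607, e3 q9515 L187267 q13755, e3 q9516 (flp_a L155958) q5864, e3 q9517 (flp_a L187297) q13759, e3 q9518 (flp_a L156012) q9524, e3 q9519 L187317 q13762, e3 q9520 L155986 q5866, e3 q9521 L155992 q5867, e3 q9522 (flp_a L187347) q13766, e3 q9523 (flp_a L187355) q13767, e3 q9524 L156012 q9518, e3 q9525 (flp_a L156032) q6482, e3 q9526 L156052 q6515, e3 q9527 (flp_a L156060) q5872, e3 q9528 (flp_a L185007) q13496, e3 q9529 (flp_a L156086) q9407, e3 q9530 L156090 q6999, e3 q9531 L156096 q6197, e3 q9532 L156102 q7001, e3 q9533 (flp_a L156106) q5876, e3 q9534 L156120 q6289, e3 q9535 L156132 q6288, trivial⟩ (by decide +kernel)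

theorem ce_a_149 : ∀ r, r < 64 → sm ga (Qf (9536 + r)) = Qf (tab Gen.a (9536 + r)) :=
  edges_tab (sm ga) Qf (tab Gen.a) 9536 [(9536, 13450), (9537, 13776), (9538, 5880), (9539, 7025), (9540, 5881), (9541, 13499), (9542, 9403), (9543, 7015), (9544, 6205), (9545, 7016), (9546, 5885), (9547, 6316), (9548, 6315), (9549, 13398), (9550, 13784), (9551, 5889), (9552, 7009), (9553, 5892), (9554, 10258), (9555, 9557), (9556, 10131), (9557, 9555), (9558, 8642), (9559, 5898), (9560, 5899), (9561, 5900), (9562, 13794), (9563, 5897), (9564, 10124), (9565, 13797), (9566, 13790), (9567, 13791), (9568, 13792), (9569, 9498), (9570, 13806), (9571, 13625), (9572, 5903), (9573, 13812), (9574, 9589), (9575, 13452), (9576, 5905), (9577, 13817), (9578, 13785), (9579, 5906), (9580, 6346), (9581, 9092), (9582, 12819), (9583, 13118), (9584, 5909), (9585, 5910), (9586, 13826), (9587, 13827), (9588, 13828), (9589, 9574), (9590, 13771), (9591, 5915), (9592, 10276), (9593, 10164), (9594, 9595), (9595, 9594), (9596, 8658), (9597, 5920), (9598,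 5921), (9599, 5922)]
    ⟨e3 q9536 L184650 q13450, e3 q9537 L187433 q13776, e3 q9538 L156154 q5880, e3 q9539 L156168 q7025, e3 q9540 (flp_a L156170) q5881, e3 q9541 L185053 q13499, e3 q9542 (flp_a L156196) q9403, e3 q9543 L156200 q7015, e3 q9544 L156206 q6205, e3 q9545 L156212 q7016, e3 q9546 (flp_a L156216) q5885, e3 q9547 L156230 q6316, e3 q9548 L156242 q6315, e3 q9549 L184274 q13398, e3 q9550 L187505 q13784, e3 q9551 L156264 q5889, e3 q9552 L156278 q7009, e3 q9553 L156284 q5892, e3 q9554 (flp_a L160946) q10258, e3 q9555 (flp_a L156320) q9557, e3 q9556 (flp_a L160168) q10131, e3 q9557 L156320 q9555, e3 q9558 L156328 q8642, e3 q9559 L156340 q5898, e3 q9560 L156346 q5899, e3 q9561 L156354 q5900, e3 q9562 L187589 q13794, e3 q9563 (flp_a L156364) q5897, e3 q9564 L160120 q10124, e3 q9565 (flp_a L187607) q13797, e3 q9566 (flp_a L187561) q13790, e3 q9567 (flp_a L187567) q13791, e3 q9568 (flp_a L187577) q13792, e3 q9569 L156400 q9498, e3 q9570 L187663 q13806, e3 q9571 (flp_a L186175) q13625, e3 q9572 L156416 q5903, e3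 q9573 (flp_a L187699) q13812, e3 q9574 (flp_a L156515) q9589, e3 q9575 L184670 q13452, e3 q9576 (flp_a L156440) q5905, e3 q9577 (flp_a L187727) q13817, e3 q9578 (flp_a L187521) q13785, e3 q9579 (flp_a L156454) q5906, e3 q9580 L156464 q6346, e3 q9581 L156470 q9092, e3 q9582 L180189 q12819, e3 q9583 (flp_a L187817) q13118, e3 q9584 L156488 q5909, e3 q9585 L156492 q5910, e3 q9586 (flp_a L187799) q13826, e3 q9587 (flp_a L187829) q13827, e3 q9588 (flp_a L187835) q13828, e3 q9589 L156515 q9574, e3 q9590 (flp_a L187399) q13771, e3 q9591 L156531 q5915, e3 q9592 (flp_a L161060) q10276, e3 q9593 (flp_a L160398) q10164, e3 q9594 (flp_a L156561) q9595, e3 q9595 L156561 q9594, e3 q9596 L156575 q8658, e3 q9597 L156587 q5920, e3 q9598 L156593 q5921, e3 q9599 L156601 q5922, trivial⟩ (by decide +kernel)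

theorem ce_a_150 : ∀ r, r < 64 → sm ga (Qf (9600 + r)) = Qf (tab Gen.a (9600 + r)) :=
  edges_tab (sm ga) Qf (tab Gen.a) 9600 [(9600, 13844), (9601, 5919), (9602, 10157), (9603, 13789), (9604, 13840), (9605, 13841), (9606, 13842), (9607, 9514), (9608, 13855), (9609, 13621), (9610, 5925), (9611, 13861), (9612, 9627), (9613, 13400), (9614, 5927), (9615, 13866), (9616, 13777), (9617, 5928), (9618, 6366), (9619, 12817), (9620, 9146), (9621, 13177), (9622, 5931), (9623, 5932), (9624, 13875), (9625, 13876), (9626, 13877), (9627, 9612), (9628, 13779), (9629, 5934), (9630, 13888), (9631, 13889), (9632, 13890), (9633, 5937), (9634, 13896), (9635, 9648), (9636, 5938), (9637, 13901), (9638, 13902), (9639, 13903), (9640, 5941), (9641, 13909), (9642, 9653), (9643, 13913), (9644, 5943), (9645, 13916), (9646, 13917), (9647, 9652), (9648, 9635), (9649, 13922), (9650, 5946), (9651, 13925), (9652, 9647), (9653, 9642), (9654, 9142), (9655, 9089), (9656, 5953), (9657, 12356), (9658, 9662), (9659, 5956), (9660, 12364), (9661, 12365),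 (9662, 9658), (9663, 5958)]
    ⟨e3 q9600 L187947 q13844, e3 q9601 (flp_a L156611) q5919, e3 q9602 L160350 q10157, e3 q9603 (flp_a L187557) q13789, e3 q9604 (flp_a L187919) q13840, e3 q9605 (flp_a L187925) q13841, e3 q9606 (flp_a L187935) q13842, e3 q9607 L156647 q9514, e3 q9608 L188009 q13855, e3 q9609 (flp_a L186143) q13621, e3 q9610 L156663 q5925, e3 q9611 (flp_a L188045) q13861, e3 q9612 (flp_a L156768) q9627, e3 q9613 L184294 q13400, e3 q9614 (flp_a L156689) q5927, e3 q9615 (flp_a L188073) q13866, e3 q9616 (flp_a L187447) q13777, e3 q9617 (flp_a L156703) q5928, e3 q9618 L156715 q6366, e3 q9619 L180165 q12817, e3 q9620 L156725 q9146, e3 q9621 (flp_a L188163) q13177, e3 q9622 L156741 q5931, e3 q9623 L156745 q5932, e3 q9624 (flp_a L188145) q13875, e3 q9625 (flp_a L188175) q13876, e3 q9626 (flp_a L188181) q13877, e3 q9627 L156768 q9612, e3 q9628 (flp_a L187471) q13779, e3 q9629 (flp_a L156782) q5934, e3 q9630 (flp_a L188253) q13888, e3 q9631 (flp_a L188257) q13889, e3 q9632 (flp_a L188265) q13890, e3 q9633 L156890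 q5937, e3 q9634 L188300 q13896, e3 q9635 (flp_a L156973) q9648, e3 q9636 (flp_a L156904) q5938, e3 q9637 (flp_a L188319) q13901, e3 q9638 (flp_a L188323) q13902, e3 q9639 (flp_a L188333) q13903, e3 q9640 L156929 q5941, e3 q9641 L188372 q13909, e3 q9642 (flp_a L157010) q9653, e3 q9643 L188385 q13913, e3 q9644 (flp_a L156951) q5943, e3 q9645 (flp_a L188416) q13916, e3 q9646 (flp_a L188420) q13917, e3 q9647 (flp_a L222851) q9652, e3 q9648 L156973 q9635, e3 q9649 L188467 q13922, e3 q9650 (flp_a L156988) q5946, e3 q9651 (flp_a L188498) q13925, e3 q9652 L222851 q9647, e3 q9653 L157010 q9642, e3 q9654 L157027 q9142, e3 q9655 L157039 q9089, e3 q9656 (flp_a L157041) q5953, e3 q9657 (flp_a L176416) q12356, e3 q9658 (flp_a L157099) q9662, e3 q9659 L157065 q5956, e3 q9660 L176482 q12364, e3 q9661 (flp_a L176486) q12365, e3 q9662 L157099 q9658, e3 q9663 (flp_a L157105) q5958, trivial⟩ (by decide +kernel)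

theorem ce_a_151 : ∀ r, r < 64 → sm ga (Qf (9664 + r)) = Qf (tab Gen.a (9664 + r)) :=
  edges_tab (sm ga) Qf (tab Gen.a) 9664 [(9664, 12401), (9665, 9669), (9666, 5961), (9667, 12405), (9668, 12406), (9669, 9665), (9670, 13292), (9671, 5965), (9672, 9784), (9673, 12793), (9674, 5967), (9675, 13937), (9676, 10321), (9677, 10298), (9678, 5969), (9679, 13939), (9680, 9690), (9681, 5971), (9682, 13942), (9683, 9483), (9684, 13946), (9685, 5974), (9686, 5975), (9687, 13949), (9688, 13950), (9689, 13951), (9690, 9680), (9691, 9482), (9692, 13352), (9693, 5980), (9694, 9837), (9695, 12768), (9696, 5982), (9697, 13961), (9698, 10358), (9699, 10300), (9700, 5984), (9701, 13963), (9702, 9712), (9703, 5986), (9704, 13944), (9705, 9476), (9706, 13967), (9707, 5989), (9708, 5990), (9709, 13970), (9710, 13971), (9711, 13972), (9712, 9702), (9713, 9490), (9714, 9474), (9715, 6000), (9716, 13979), (9717, 6481), (9718, 12495), (9719, 6002), (9720, 6003), (9721, 13981), (9722, 9469), (9723, 6006), (9724, 13983), (9725, 6514), (9726,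 12461), (9727, 6008)]
    ⟨e3 q9664 (flp_a L176829) q12401, e3 q9665 (flp_a L157147) q9669, e3 q9666 L157127 q5961, e3 q9667 (flp_a L176863) q12405, e3 q9668 (flp_a L176867) q12406, e3 q9669 L157147 q9665, e3 q9670 (flp_a L183477) q13292, e3 q9671 L157165 q5965, e3 q9672 (flp_a L157893) q9784, e3 q9673 L179957 q12793, e3 q9674 (flp_a L157185) q5967, e3 q9675 (flp_a L188617) q13937, e3 q9676 (flp_a L161390) q10321, e3 q9677 (flp_a L161198) q10298, e3 q9678 L157201 q5969, e3 q9679 (flp_a L188635) q13939, e3 q9680 (flp_a L157253) q9690, e3 q9681 (flp_a L157213) q5971, e3 q9682 (flp_a L188661) q13942, e3 q9683 L157221 q9483, e3 q9684 L188689 q13946, e3 q9685 L157231 q5974, e3 q9686 L157235 q5975, e3 q9687 (flp_a L188699) q13949, e3 q9688 (flp_a L188705) q13950, e3 q9689 (flp_a L188711) q13951, e3 q9690 L157253 q9680, e3 q9691 (flp_a L157263) q9482, e3 q9692 (flp_a L183945) q13352, e3 q9693 L157275 q5980, e3 q9694 (flp_a L158191) q9837, e3 q9695 (flp_a L179739) q12768, e3 q9696 (flp_a L157295) q5982, e3 q9697 (flp_a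 L188781) q13961, e3 q9698 (flp_a L161641) q10358, e3 q9699 (flp_a L161210) q10300, e3 q9700 L157311 q5984, e3 q9701 (flp_a L188799) q13963, e3 q9702 (flp_a L157365) q9712, e3 q9703 (flp_a L157323) q5986, e3 q9704 (flp_a L188673) q13944, e3 q9705 L157333 q9476, e3 q9706 L188827 q13967, e3 q9707 L157343 q5989, e3 q9708 L157347 q5990, e3 q9709 (flp_a L188837) q13970, e3 q9710 (flp_a L188847) q13971, e3 q9711 (flp_a L188857) q13972, e3 q9712 L157365 q9702, e3 q9713 (flp_a L157375) q9490, e3 q9714 (flp_a L157387) q9474, e3 q9715 (flp_a L157401) q6000, e3 q9716 (flp_a L188919) q13979, e3 q9717 L157419 q6481, e3 q9718 (flp_a L177562) q12495, e3 q9719 L157435 q6002, e3 q9720 L157441 q6003, e3 q9721 (flp_a L188933) q13981, e3 q9722 (flp_a L157469) q9469, e3 q9723 (flp_a L157483) q6006, e3 q9724 (flp_a L188957) q13983, e3 q9725 L157501 q6514, e3 q9726 (flp_a L177301) q12461, e3 q9727 L157517 q6008, trivial⟩ (by decide +kernel)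

theorem ce_a_152 : ∀ r, r < 64 → sm ga (Qf (9728 + r)) = Qf (tab Gen.a (9728 + r)) :=
  edges_tab (sm ga) Qf (tab Gen.a) 9728 [(9728, 6009), (9729, 13985), (9730, 6011), (9731, 13498), (9732, 12831), (9733, 12397), (9734, 6827), (9735, 12398), (9736, 13674), (9737, 6017), (9738, 13990), (9739, 6822), (9740, 8577), (9741, 6019), (9742, 6159), (9743, 13995), (9744, 6023), (9745, 6024), (9746, 9817), (9747, 13999), (9748, 14000), (9749, 9243), (9750, 6027), (9751, 13493), (9752, 12836), (9753, 12351), (9754, 6753), (9755, 12352), (9756, 13671), (9757, 6033), (9758, 14009), (9759, 6748), (9760, 8586), (9761, 6035), (9762, 6147), (9763, 14014), (9764, 6039), (9765, 6040), (9766, 9870), (9767, 14018), (9768, 14019), (9769, 9208), (9770, 14025), (9771, 9449), (9772, 6091), (9773, 6054), (9774, 6056), (9775, 6050), (9776, 14028), (9777, 14029), (9778, 6053), (9779, 10373), (9780, 10374), (9781, 14027), (9782, 12517), (9783, 8938), (9784, 9672), (9785, 13304), (9786, 6058), (9787, 14038), (9788, 14039), (9789, 6059), (9790,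 11973), (9791, 6398)]
    ⟨e3 q9728 L157523 q6009, e3 q9729 (flp_a L188971) q13985, e3 q9730 (flp_a L157541) q6011, e3 q9731 (flp_a L185037) q13498, e3 q9732 (flp_a L180261) q12831, e3 q9733 (flp_a L176783) q12397, e3 q9734 L157575 q6827, e3 q9735 (flp_a L176793) q12398, e3 q9736 (flp_a L186571) q13674, e3 q9737 L157593 q6017, e3 q9738 (flp_a L189019) q13990, e3 q9739 L157605 q6822, e3 q9740 L157619 q8577, e3 q9741 (flp_a L157623) q6019, e3 q9742 L157639 q6159, e3 q9743 L189047 q13995, e3 q9744 L157647 q6023, e3 q9745 L157651 q6024, e3 q9746 (flp_a L158069) q9817, e3 q9747 (flp_a L189059) q13999, e3 q9748 (flp_a L189063) q14000, e3 q9749 L157671 q9243, e3 q9750 (flp_a L157673) q6027, e3 q9751 L184979 q13493, e3 q9752 (flp_a L180313) q12836, e3 q9753 (flp_a L176360) q12351, e3 q9754 L157707 q6753, e3 q9755 (flp_a L176370) q12352, e3 q9756 (flp_a L186541) q13671, e3 q9757 L157727 q6033, e3 q9758 (flp_a L189141) q14009, e3 q9759 L157739 q6748, e3 q9760 L157753 q8586, e3 q9761 (flp_a L157757) q6035, e3 q9762 L157773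 q6147, e3 q9763 L189169 q14014, e3 q9764 L157781 q6039, e3 q9765 L157785 q6040, e3 q9766 (flp_a L158369) q9870, e3 q9767 (flp_a L189181) q14018, e3 q9768 (flp_a L189185) q14019, e3 q9769 (flp_a L157805) q9208, e3 q9770 L189237 q14025, e3 q9771 L157815 q9449, e3 q9772 L157821 q6091, e3 q9773 L157825 q6054, e3 q9774 L157835 q6056, e3 q9775 (flp_a L157841) q6050, e3 q9776 (flp_a L189269) q14028, e3 q9777 (flp_a L189281) q14029, e3 q9778 L157853 q6053, e3 q9779 L161748 q10373, e3 q9780 (flp_a L161752) q10374, e3 q9781 (flp_a L189259) q14027, e3 q9782 (flp_a L177723) q12517, e3 q9783 L157889 q8938, e3 q9784 L157893 q9672, e3 q9785 (flp_a L183573) q13304, e3 q9786 (flp_a L157903) q6058, e3 q9787 (flp_a L189351) q14038, e3 q9788 (flp_a L189359) q14039, e3 q9789 (flp_a L157915) q6059, e3 q9790 L173599 q11973, e3 q9791 L157925 q6398, trivial⟩ (by decide +kernel)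

theorem ce_a_153 : ∀ r, r < 64 → sm ga (Qf (9792 + r)) = Qf (tab Gen.a (9792 + r)) :=
  edges_tab (sm ga) Qf (tab Gen.a) 9792 [(9792, 13962), (9793, 14045), (9794, 6061), (9795, 14049), (9796, 14050), (9797, 9820), (9798, 8020), (9799, 6063), (9800, 6065), (9801, 6066), (9802, 7557), (9803, 7554), (9804, 6555), (9805, 6568), (9806, 6571), (9807, 6572), (9808, 6071), (9809, 14061), (9810, 14062), (9811, 14063), (9812, 6075), (9813, 6076), (9814, 6077), (9815, 7870), (9816, 14071), (9817, 9746), (9818, 14069), (9819, 14070), (9820, 9797), (9821, 14078), (9822, 6079), (9823, 11922), (9824, 13718), (9825, 14082), (9826, 9440), (9827, 6092), (9828, 6094), (9829, 6088), (9830, 14085), (9831, 14086), (9832, 10407), (9833, 10408), (9834, 14084), (9835, 12520), (9836, 8922), (9837, 9694), (9838, 13364), (9839, 6096), (9840, 14095), (9841, 14096), (9842, 6097), (9843, 11966), (9844, 13938), (9845, 6395), (9846, 14101), (9847, 6099), (9848, 14103), (9849, 14104), (9850, 9873), (9851, 7961), (9852, 6101), (9853, 6103), (9854,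 6104), (9855, 7603)]
    ⟨e3 q9792 (flp_a L188789) q13962, e3 q9793 L189399 q14045, e3 q9794 L157937 q6061, e3 q9795 (flp_a L189427) q14049, e3 q9796 (flp_a L189439) q14050, e3 q9797 (flp_a L158088) q9820, e3 q9798 L163822 q8020, e3 q9799 (flp_a L157955) q6063, e3 q9800 L157965 q6065, e3 q9801 L157973 q6066, e3 q9802 L157983 q7557, e3 q9803 L157993 q7554, e3 q9804 L158003 q6555, e3 q9805 L158007 q6568, e3 q9806 L158011 q6571, e3 q9807 L158017 q6572, e3 q9808 (flp_a L158021) q6071, e3 q9809 (flp_a L189527) q14061, e3 q9810 (flp_a L189531) q14062, e3 q9811 (flp_a L189537) q14063, e3 q9812 L158035 q6075, e3 q9813 L158041 q6076, e3 q9814 L158045 q6077, e3 q9815 L158055 q7870, e3 q9816 L189593 q14071, e3 q9817 L158069 q9746, e3 q9818 (flp_a L189579) q14069, e3 q9819 (flp_a L189587) q14070, e3 q9820 L158088 q9797, e3 q9821 L189647 q14078, e3 q9822 (flp_a L158097) q6079, e3 q9823 L173234 q11922, e3 q9824 (flp_a L186997) q13718, e3 q9825 L189669 q14082, e3 q9826 L158123 q9440, e3 q9827 L158131 q6092, e3 q9828 L158141 q6094,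 e3 q9829 (flp_a L158147) q6088, e3 q9830 (flp_a L189701) q14085, e3 q9831 (flp_a L189713) q14086, e3 q9832 L161978 q10407, e3 q9833 (flp_a L161982) q10408, e3 q9834 (flp_a L189691) q14084, e3 q9835 (flp_a L177749) q12520, e3 q9836 L158187 q8922, e3 q9837 L158191 q9694, e3 q9838 (flp_a L184027) q13364, e3 q9839 (flp_a L158201) q6096, e3 q9840 (flp_a L189785) q14095, e3 q9841 (flp_a L189797) q14096, e3 q9842 (flp_a L158213) q6097, e3 q9843 L173540 q11966, e3 q9844 (flp_a L188625) q13938, e3 q9845 L158227 q6395, e3 q9846 L189835 q14101, e3 q9847 L158235 q6099, e3 q9848 (flp_a L189859) q14103, e3 q9849 (flp_a L189871) q14104, e3 q9850 (flp_a L158388) q9873, e3 q9851 (flp_a L163791) q7961, e3 q9852 (flp_a L158253) q6101, e3 q9853 L158263 q6103, e3 q9854 L158271 q6104, e3 q9855 L158281 q7603, trivial⟩ (by decide +kernel)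

theorem ce_a_154 : ∀ r, r < 64 → sm ga (Qf (9856 + r)) = Qf (tab Gen.a (9856 + r)) :=
  edges_tab (sm ga) Qf (tab Gen.a) 9856 [(9856, 7599), (9857, 6594), (9858, 6607), (9859, 6608), (9860, 6609), (9861, 6109), (9862, 14114), (9863, 14115), (9864, 14116), (9865, 6113), (9866, 6114), (9867, 6115), (9868, 7707), (9869, 14122), (9870, 9766), (9871, 14120), (9872, 14121), (9873, 9850), (9874, 14129), (9875, 6117), (9876, 12128), (9877, 13714), (9878, 14060), (9879, 6121), (9880, 6122), (9881, 6123), (9882, 13908), (9883, 6131), (9884, 6130), (9885, 6125), (9886, 14138), (9887, 14139), (9888, 14140), (9889, 14113), (9890, 6132), (9891, 13895), (9892, 6134), (9893, 14147), (9894, 14148), (9895, 14149), (9896, 6138), (9897, 6139), (9898, 6141), (9899, 10599), (9900, 14153), (9901, 12759), (9902, 8306), (9903, 14154), (9904, 8332), (9905, 14159), (9906, 6145), (9907, 6146), (9908, 14164), (9909, 14165), (9910, 14166), (9911, 14013), (9912, 8066), (9913, 6151), (9914, 6152), (9915, 6153), (9916, 10544), (9917, 14174), (9918,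 12784), (9919, 14175)]
    ⟨e3 q9856 L158291 q7599, e3 q9857 L158303 q6594, e3 q9858 L158307 q6607, e3 q9859 L158311 q6608, e3 q9860 L158317 q6609, e3 q9861 (flp_a L158321) q6109, e3 q9862 (flp_a L189951) q14114, e3 q9863 (flp_a L189961) q14115, e3 q9864 (flp_a L189971) q14116, e3 q9865 L158335 q6113, e3 q9866 L158341 q6114, e3 q9867 L158345 q6115, e3 q9868 (flp_a L158355) q7707, e3 q9869 L190019 q14122, e3 q9870 L158369 q9766, e3 q9871 (flp_a L190005) q14120, e3 q9872 (flp_a L190013) q14121, e3 q9873 L158388 q9850, e3 q9874 L190073 q14129, e3 q9875 (flp_a L158397) q6117, e3 q9876 L174753 q12128, e3 q9877 (flp_a L186961) q13714, e3 q9878 (flp_a L189523) q14060, e3 q9879 L158419 q6121, e3 q9880 L158427 q6122, e3 q9881 L158433 q6123, e3 q9882 (flp_a L188364) q13908, e3 q9883 L158449 q6131, e3 q9884 L158459 q6130, e3 q9885 (flp_a L158467) q6125, e3 q9886 (flp_a L190125) q14138, e3 q9887 (flp_a L190131) q14139, e3 q9888 (flp_a L190139) q14140, e3 q9889 (flp_a L189947) q14113, e3 q9890 L158490 q6132, e3 q9891 (flp_a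 L188292) q13895, e3 q9892 (flp_a L158504) q6134, e3 q9893 (flp_a L190198) q14147, e3 q9894 (flp_a L190204) q14148, e3 q9895 (flp_a L190216) q14149, e3 q9896 L158525 q6138, e3 q9897 L158535 q6139, e3 q9898 L158545 q6141, e3 q9899 (flp_a L164224) q10599, e3 q9900 (flp_a L190251) q14153, e3 q9901 (flp_a L179657) q12759, e3 q9902 L158571 q8306, e3 q9903 (flp_a L190261) q14154, e3 q9904 L158591 q8332, e3 q9905 L190299 q14159, e3 q9906 L158603 q6145, e3 q9907 L158607 q6146, e3 q9908 (flp_a L190325) q14164, e3 q9909 (flp_a L190335) q14165, e3 q9910 (flp_a L190341) q14166, e3 q9911 (flp_a L189165) q14013, e3 q9912 L158642 q8066, e3 q9913 L158652 q6151, e3 q9914 L158662 q6152, e3 q9915 L158672 q6153, e3 q9916 (flp_a L162877) q10544, e3 q9917 (flp_a L190417) q14174, e3 q9918 (flp_a L179875) q12784, e3 q9919 (flp_a L190427) q14175, trivial⟩ (by decide +kernel)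

theorem ce_a_155 : ∀ r, r < 64 → sm ga (Qf (9920 + r)) = Qf (tab Gen.a (9920 + r)) :=
  edges_tab (sm ga) Qf (tab Gen.a) 9920 [(9920, 8312), (9921, 8340), (9922, 14180), (9923, 6158), (9924, 6160), (9925, 14185), (9926, 14186), (9927, 13994), (9928, 14187), (9929, 8110), (9930, 11242), (9931, 7299), (9932, 11403), (9933, 7198), (9934, 9970), (9935, 9962), (9936, 11136), (9937, 9972), (9938, 9968), (9939, 11206), (9940, 7073), (9941, 11325), (9942, 7045), (9943, 11485), (9944, 9944), (9945, 6173), (9946, 6174), (9947, 9974), (9948, 9950), (9949, 9978), (9950, 9948), (9951, 6175), (9952, 14213), (9953, 14214), (9954, 6176), (9955, 14217), (9956, 14218), (9957, 10922), (9958, 6178), (9959, 6179), (9960, 14221), (9961, 14222), (9962, 9935), (9963, 10933), (9964, 6181), (9965, 6182), (9966, 14227), (9967, 14228), (9968, 9938), (9969, 7269), (9970, 9934), (9971, 7168), (9972, 9937), (9973, 9973), (9974, 9947), (9975, 6193), (9976, 14239), (9977, 9977), (9978, 9949), (9979, 6196), (9980, 14243), (9981, 13772), (9982,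 10867), (9983, 11176)]
    ⟨e3 q9920 L158706 q8312, e3 q9921 L158718 q8340, e3 q9922 L190465 q14180, e3 q9923 L158730 q6158, e3 q9924 L158734 q6160, e3 q9925 (flp_a L190521) q14185, e3 q9926 (flp_a L190531) q14186, e3 q9927 (flp_a L189043) q13994, e3 q9928 (flp_a L190537) q14187, e3 q9929 L158769 q8110, e3 q9930 (flp_a L168710) q11242, e3 q9931 L158785 q7299, e3 q9932 (flp_a L169719) q11403, e3 q9933 L158799 q7198, e3 q9934 (flp_a L159067) q9970, e3 q9935 (flp_a L158999) q9962, e3 q9936 (flp_a L168092) q11136, e3 q9937 (flp_a L159085) q9972, e3 q9938 (flp_a L159043) q9968, e3 q9939 (flp_a L168484) q11206, e3 q9940 L158849 q7073, e3 q9941 (flp_a L169245) q11325, e3 q9942 L158863 q7045, e3 q9943 (flp_a L170256) q11485, e3 q9944 L158876 q9944, e3 q9945 L158881 q6173, e3 q9946 L158889 q6174, e3 q9947 L159110 q9974, e3 q9948 (flp_a L158918) q9950, e3 q9949 L159148 q9978, e3 q9950 L158918 q9948, e3 q9951 (flp_a L158925) q6175, e3 q9952 (flp_a L190733) q14213, e3 q9953 (flp_a L190739) q14214, e3 q9954 (flp_a L158944) q6176,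 e3 q9955 (flp_a L190760) q14217, e3 q9956 (flp_a L190766) q14218, e3 q9957 (flp_a L166680) q10922, e3 q9958 L158975 q6178, e3 q9959 L158981 q6179, e3 q9960 (flp_a L190787) q14221, e3 q9961 (flp_a L190791) q14222, e3 q9962 L158999 q9935, e3 q9963 (flp_a L166748) q10933, e3 q9964 L159019 q6181, e3 q9965 L159025 q6182, e3 q9966 (flp_a L190823) q14227, e3 q9967 (flp_a L190827) q14228, e3 q9968 L159043 q9938, e3 q9969 L159055 q7269, e3 q9970 L159067 q9934, e3 q9971 L159073 q7168, e3 q9972 L159085 q9937, e3 q9973 L159091 q9973, e3 q9974 (flp_a L159110) q9947, e3 q9975 (flp_a L159114) q6193, e3 q9976 (flp_a L190898) q14239, e3 q9977 L159129 q9977, e3 q9978 (flp_a L159148) q9949, e3 q9979 (flp_a L159152) q6196, e3 q9980 (flp_a L190929) q14243, e3 q9981 (flp_a L187403) q13772, e3 q9982 (flp_a L166300) q10867, e3 q9983 (flp_a L168310) q11176, trivial⟩ (by decide +kernel)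

theorem ce_a_156 : ∀ r, r < 64 → sm ga (Qf (9984 + r)) = Qf (tab Gen.a (9984 + r)) :=
  edges_tab (sm ga) Qf (tab Gen.a) 9984 [(9984, 6258), (9985, 6199), (9986, 10029), (9987, 7090), (9988, 10096), (9989, 6201), (9990, 14253), (9991, 9997), (9992, 11175), (9993, 6203), (9994, 6204), (9995, 14258), (9996, 14259), (9997, 9991), (9998, 13780), (9999, 11102), (10000, 10875), (10001, 6270), (10002, 6207), (10003, 10063), (10004, 7130), (10005, 10115), (10006, 6209), (10007, 14273), (10008, 10014), (10009, 11105), (10010, 6211), (10011, 6212), (10012, 14278), (10013, 14279), (10014, 10008), (10015, 6214), (10016, 10024), (10017, 14285), (10018, 10263), (10019, 11419), (10020, 10021), (10021, 10020), (10022, 6217), (10023, 14295), (10024, 10016), (10025, 14296), (10026, 6219), (10027, 6220), (10028, 14304), (10029, 9986), (10030, 14303), (10031, 10139), (10032, 10141), (10033, 14313), (10034, 6222), (10035, 14317), (10036, 14318), (10037, 6929), (10038, 6224), (10039, 14323), (10040, 10048), (10041, 11418), (10042, 14329),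 (10043, 6229), (10044, 6230), (10045, 14332), (10046, 8492), (10047, 14333)]
    ⟨e3 q9984 (flp_a L159189) q6258, e3 q9985 L159195 q6199, e3 q9986 (flp_a L159513) q10029, e3 q9987 L159219 q7090, e3 q9988 (flp_a L159913) q10096, e3 q9989 (flp_a L159237) q6201, e3 q9990 (flp_a L191015) q14253, e3 q9991 (flp_a L159293) q9997, e3 q9992 (flp_a L168292) q11175, e3 q9993 L159267 q6203, e3 q9994 L159273 q6204, e3 q9995 (flp_a L191045) q14258, e3 q9996 (flp_a L191049) q14259, e3 q9997 L159293 q9991, e3 q9998 (flp_a L187475) q13780, e3 q9999 L167846 q11102, e3 q10000 (flp_a L166350) q10875, e3 q10001 (flp_a L159325) q6270, e3 q10002 L159331 q6207, e3 q10003 (flp_a L159713) q10063, e3 q10004 L159345 q7130, e3 q10005 (flp_a L160044) q10115, e3 q10006 (flp_a L159359) q6209, e3 q10007 (flp_a L191159) q14273, e3 q10008 (flp_a L159415) q10014, e3 q10009 (flp_a L167864) q11105, e3 q10010 L159389 q6211, e3 q10011 L159395 q6212, e3 q10012 (flp_a L191189) q14278, e3 q10013 (flp_a L191193) q14279, e3 q10014 L159415 q10008, e3 q10015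 L159425 q6214, e3 q10016 (flp_a L159481) q10024, e3 q10017 (flp_a L191229) q14285, e3 q10018 (flp_a L160984) q10263, e3 q10019 (flp_a L169835) q11419, e3 q10020 (flp_a L159461) q10021, e3 q10021 L159461 q10020, e3 q10022 (flp_a L159469) q6217, e3 q10023 (flp_a L191297) q14295, e3 q10024 L159481 q10016, e3 q10025 (flp_a L191303) q14296, e3 q10026 L159495 q6219, e3 q10027 L159503 q6220, e3 q10028 L191357 q14304, e3 q10029 L159513 q9986, e3 q10030 (flp_a L191351) q14303, e3 q10031 (flp_a L160222) q10139, e3 q10032 (flp_a L160238) q10141, e3 q10033 L191405 q14313, e3 q10034 (flp_a L159539) q6222, e3 q10035 (flp_a L191425) q14317, e3 q10036 (flp_a L191435) q14318, e3 q10037 L159559 q6929, e3 q10038 L159563 q6224, e3 q10039 (flp_a L191481) q14323, e3 q10040 (flp_a L159615) q10048, e3 q10041 (flp_a L169825) q11418, e3 q10042 L191521 q14329, e3 q10043 L159591 q6229, e3 q10044 L159595 q6230, e3 q10045 (flp_a L191545) q14332, e3 q10046 L163266 q8492, e3 q10047 (flp_a L191555) q14333, trivial⟩ (by decide +kernel)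

theorem ce_a_157 : ∀ r, r < 64 → sm ga (Qf (10048 + r)) = Qf (tab Gen.a (10048 + r)) :=
  edges_tab (sm ga) Qf (tab Gen.a) 10048 [(10048, 10040), (10049, 6233), (10050, 10059), (10051, 14340), (10052, 11255), (10053, 10282), (10054, 10055), (10055, 10054), (10056, 6236), (10057, 14350), (10058, 14351), (10059, 10050), (10060, 6238), (10061, 6239), (10062, 14359), (10063, 10003), (10064, 14358), (10065, 10172), (10066, 10174), (10067, 14368), (10068, 6241), (10069, 14372), (10070, 14373), (10071, 6921), (10072, 6243), (10073, 14378), (10074, 10082), (10075, 11258), (10076, 14384), (10077, 6248), (10078, 6249), (10079, 14387), (10080, 8484), (10081, 14388), (10082, 10074), (10083, 10085), (10084, 11016), (10085, 10083), (10086, 6259), (10087, 14396), (10088, 6256), (10089, 14398), (10090, 13774), (10091, 14401), (10092, 10134), (10093, 10135), (10094, 10986), (10095, 7102), (10096, 9988), (10097, 7105), (10098, 14413), (10099, 6262), (10100, 12888), (10101, 11001), (10102, 10992), (10103, 10104), (10104, 10103),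 (10105, 6271), (10106, 14418), (10107, 6268), (10108, 14420), (10109, 13782), (10110, 14423), (10111, 10167)]
    ⟨e3 q10048 L159615 q10040, e3 q10049 L159625 q6233, e3 q10050 (flp_a L159685) q10059, e3 q10051 (flp_a L191612) q14340, e3 q10052 (flp_a L168800) q11255, e3 q10053 L161102 q10282, e3 q10054 (flp_a L159661) q10055, e3 q10055 L159661 q10054, e3 q10056 (flp_a L159669) q6236, e3 q10057 (flp_a L191680) q14350, e3 q10058 (flp_a L191686) q14351, e3 q10059 L159685 q10050, e3 q10060 L159695 q6238, e3 q10061 L159703 q6239, e3 q10062 L191740 q14359, e3 q10063 L159713 q10003, e3 q10064 (flp_a L191734) q14358, e3 q10065 (flp_a L160452) q10172, e3 q10066 (flp_a L160468) q10174, e3 q10067 L191786 q14368, e3 q10068 (flp_a L159739) q6241, e3 q10069 (flp_a L191806) q14372, e3 q10070 (flp_a L191816) q14373, e3 q10071 L159759 q6921, e3 q10072 L159763 q6243, e3 q10073 (flp_a L191862) q14378, e3 q10074 (flp_a L159815) q10082, e3 q10075 (flp_a L168822) q11258, e3 q10076 L191902 q14384, e3 q10077 L159791 q6248, e3 q10078 L159795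 q6249, e3 q10079 (flp_a L191926) q14387, e3 q10080 (flp_a L163455) q8484, e3 q10081 (flp_a L191936) q14388, e3 q10082 L159815 q10074, e3 q10083 (flp_a L159847) q10085, e3 q10084 (flp_a L167298) q11016, e3 q10085 L159847 q10083, e3 q10086 L159859 q6259, e3 q10087 L191999 q14396, e3 q10088 (flp_a L159869) q6256, e3 q10089 (flp_a L192015) q14398, e3 q10090 (flp_a L187417) q13774, e3 q10091 L192035 q14401, e3 q10092 (flp_a L160196) q10134, e3 q10093 (flp_a L160204) q10135, e3 q10094 (flp_a L167130) q10986, e3 q10095 L168061 q7102, e3 q10096 L159913 q9988, e3 q10097 L168040 q7105, e3 q10098 L192109 q14413, e3 q10099 (flp_a L159932) q6262, e3 q10100 (flp_a L180679) q12888, e3 q10101 L167206 q11001, e3 q10102 (flp_a L167160) q10992, e3 q10103 (flp_a L159974) q10104, e3 q10104 L159974 q10103, e3 q10105 L159988 q6271, e3 q10106 L192145 q14418, e3 q10107 (flp_a L159998) q6268, e3 q10108 (flp_a L192161) q14420, e3 q10109 (flp_a L187489) q13782, e3 q10110 L192181 q14423, e3 q10111 (flp_a L160426) q10167, trivial⟩ (by decide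 +kernel)

theorem ce_a_158 : ∀ r, r < 64 → sm ga (Qf (10112 + r)) = Qf (tab Gen.a (10112 + r)) :=
  edges_tab (sm ga) Qf (tab Gen.a) 10112 [(10112, 10168), (10113, 11010), (10114, 7142), (10115, 10005), (10116, 7145), (10117, 14435), (10118, 6274), (10119, 12876), (10120, 11025), (10121, 7171), (10122, 7172), (10123, 7173), (10124, 9564), (10125, 14441), (10126, 6291), (10127, 6292), (10128, 6293), (10129, 14449), (10130, 6286), (10131, 9556), (10132, 14453), (10133, 6898), (10134, 10092), (10135, 10093), (10136, 14445), (10137, 14446), (10138, 14462), (10139, 10031), (10140, 14465), (10141, 10032), (10142, 6294), (10143, 14469), (10144, 10218), (10145, 14473), (10146, 14476), (10147, 14478), (10148, 6298), (10149, 14482), (10150, 14483), (10151, 6300), (10152, 11063), (10153, 7368), (10154, 7273), (10155, 7274), (10156, 7275), (10157, 9602), (10158, 14490), (10159, 6318), (10160, 6319), (10161, 6320), (10162, 14498), (10163, 6313), (10164, 9593), (10165, 14502), (10166, 6895), (10167, 10111), (10168, 10112), (10169,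 14494), (10170, 14495), (10171, 14511), (10172, 10065), (10173, 14514), (10174, 10066), (10175, 6321)]
    ⟨e3 q10112 (flp_a L160434) q10168, e3 q10113 (flp_a L167268) q11010, e3 q10114 (flp_a L160040) q7142, e3 q10115 L160044 q10005, e3 q10116 L160052 q7145, e3 q10117 L192255 q14435, e3 q10118 (flp_a L160062) q6274, e3 q10119 (flp_a L180611) q12876, e3 q10120 L167344 q11025, e3 q10121 L160084 q7171, e3 q10122 L160096 q7172, e3 q10123 L160106 q7173, e3 q10124 (flp_a L160120) q9564, e3 q10125 L192301 q14441, e3 q10126 L160130 q6291, e3 q10127 L160136 q6292, e3 q10128 L160146 q6293, e3 q10129 L192351 q14449, e3 q10130 (flp_a L160158) q6286, e3 q10131 L160168 q9556, e3 q10132 (flp_a L192373) q14453, e3 q10133 L160190 q6898, e3 q10134 L160196 q10092, e3 q10135 L160204 q10093, e3 q10136 (flp_a L192327) q14445, e3 q10137 (flp_a L192333) q14446, e3 q10138 L192439 q14462, e3 q10139 L160222 q10031, e3 q10140 L192447 q14465, e3 q10141 L160238 q10032, e3 q10142 (flp_a L160246) q6294, e3 q10143 (flp_a L192473) q14469, e3 q10144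 (flp_a L160716) q10218, e3 q10145 L192491 q14473, e3 q10146 L192503 q14476, e3 q10147 L192513 q14478, e3 q10148 (flp_a L160274) q6298, e3 q10149 (flp_a L192545) q14482, e3 q10150 (flp_a L192553) q14483, e3 q10151 L160292 q6300, e3 q10152 (flp_a L167580) q11063, e3 q10153 L160306 q7368, e3 q10154 L160314 q7273, e3 q10155 L160326 q7274, e3 q10156 L160334 q7275, e3 q10157 (flp_a L160350) q9602, e3 q10158 L192611 q14490, e3 q10159 L160360 q6318, e3 q10160 L160366 q6319, e3 q10161 L160376 q6320, e3 q10162 L192661 q14498, e3 q10163 (flp_a L160388) q6313, e3 q10164 L160398 q9593, e3 q10165 (flp_a L192683) q14502, e3 q10166 L160420 q6895, e3 q10167 L160426 q10111, e3 q10168 L160434 q10112, e3 q10169 (flp_a L192637) q14494, e3 q10170 (flp_a L192643) q14495, e3 q10171 L192749 q14511, e3 q10172 L160452 q10065, e3 q10173 L192757 q14514, e3 q10174 L160468 q10066, e3 q10175 (flp_a L160476) q6321, trivial⟩ (by decide +kernel)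

theorem ce_a_159 : ∀ r, r < 64 → sm ga (Qf (10176 + r)) = Qf (tab Gen.a (10176 + r)) :=
  edges_tab (sm ga) Qf (tab Gen.a) 10176 [(10176, 14518), (10177, 10253), (10178, 14522), (10179, 14525), (10180, 14527), (10181, 6325), (10182, 14531), (10183, 14532), (10184, 6327), (10185, 11101), (10186, 7268), (10187, 7169), (10188, 7170), (10189, 6333), (10190, 6334), (10191, 6335), (10192, 6336), (10193, 10385), (10194, 14548), (10195, 14540), (10196, 14541), (10197, 14542), (10198, 14543), (10199, 14544), (10200, 14545), (10201, 10202), (10202, 10201), (10203, 14560), (10204, 6338), (10205, 10209), (10206, 14562), (10207, 13820), (10208, 6341), (10209, 10205), (10210, 6342), (10211, 14568), (10212, 13115), (10213, 13821), (10214, 6344), (10215, 6345), (10216, 14576), (10217, 14577), (10218, 10144), (10219, 13822), (10220, 13823), (10221, 14585), (10222, 7271), (10223, 7272), (10224, 6353), (10225, 6354), (10226, 6355), (10227, 6356), (10228, 14598), (10229, 10419), (10230, 14591), (10231, 14592), (10232, 14593), (10233,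 14594), (10234, 14595), (10235, 14596), (10236, 10237), (10237, 10236), (10238, 6357), (10239, 10244)]
    ⟨e3 q10176 (flp_a L192787) q14518, e3 q10177 (flp_a L160912) q10253, e3 q10178 L192805 q14522, e3 q10179 L192825 q14525, e3 q10180 L192835 q14527, e3 q10181 (flp_a L160504) q6325, e3 q10182 (flp_a L192867) q14531, e3 q10183 (flp_a L192875) q14532, e3 q10184 L160522 q6327, e3 q10185 (flp_a L167832) q11101, e3 q10186 L160536 q7268, e3 q10187 L160546 q7169, e3 q10188 L160554 q7170, e3 q10189 L160564 q6333, e3 q10190 L160568 q6334, e3 q10191 L160574 q6335, e3 q10192 L160580 q6336, e3 q10193 (flp_a L161828) q10385, e3 q10194 L192995 q14548, e3 q10195 (flp_a L192943) q14540, e3 q10196 (flp_a L192949) q14541, e3 q10197 (flp_a L192955) q14542, e3 q10198 (flp_a L192961) q14543, e3 q10199 (flp_a L192967) q14544, e3 q10200 (flp_a L192975) q14545, e3 q10201 (flp_a L160628) q10202, e3 q10202 L160628 q10201, e3 q10203 L193075 q14560, e3 q10204 (flp_a L160638) q6338, e3 q10205 (flp_a L160668) q10209, e3 q10206 L193085 q14562,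 e3 q10207 (flp_a L187753) q13820, e3 q10208 L160660 q6341, e3 q10209 L160668 q10205, e3 q10210 (flp_a L160674) q6342, e3 q10211 (flp_a L193117) q14568, e3 q10212 (flp_a L182255) q13115, e3 q10213 (flp_a L187757) q13821, e3 q10214 L160698 q6344, e3 q10215 L160702 q6345, e3 q10216 (flp_a L193157) q14576, e3 q10217 (flp_a L193163) q14577, e3 q10218 L160716 q10144, e3 q10219 (flp_a L187761) q13822, e3 q10220 (flp_a L187771) q13823, e3 q10221 L193209 q14585, e3 q10222 L160742 q7271, e3 q10223 L160750 q7272, e3 q10224 L160760 q6353, e3 q10225 L160764 q6354, e3 q10226 L160770 q6355, e3 q10227 L160776 q6356, e3 q10228 L193301 q14598, e3 q10229 (flp_a L162058) q10419, e3 q10230 (flp_a L193257) q14591, e3 q10231 (flp_a L193263) q14592, e3 q10232 (flp_a L193269) q14593, e3 q10233 (flp_a L193275) q14594, e3 q10234 (flp_a L193281) q14595, e3 q10235 (flp_a L193289) q14596, e3 q10236 (flp_a L160824) q10237, e3 q10237 L160824 q10236, e3 q10238 (flp_a L160830) q6357, e3 q10239 (flp_a L160864) q10244, trivial⟩ (by decide +kernel)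

theorem ce_a_160 : ∀ r, r < 64 → sm ga (Qf (10240 + r)) = Qf (tab Gen.a (10240 + r)) :=
  edges_tab (sm ga) Qf (tab Gen.a) 10240 [(10240, 14612), (10241, 14614), (10242, 13869), (10243, 6361), (10244, 10239), (10245, 6362), (10246, 14619), (10247, 13174), (10248, 13870), (10249, 6364), (10250, 6365), (10251, 14578), (10252, 14627), (10253, 10177), (10254, 13871), (10255, 13872), (10256, 14634), (10257, 8788), (10258, 9554), (10259, 6373), (10260, 6374), (10261, 6375), (10262, 6376), (10263, 10018), (10264, 14645), (10265, 11292), (10266, 14639), (10267, 14640), (10268, 14641), (10269, 12216), (10270, 14642), (10271, 10272), (10272, 10271), (10273, 14661), (10274, 14663), (10275, 8825), (10276, 9592), (10277, 6383), (10278, 6384), (10279, 6385), (10280, 6386), (10281, 14674), (10282, 10053), (10283, 11451), (10284, 14668), (10285, 14669), (10286, 14670), (10287, 14671), (10288, 12275), (10289, 10290), (10290, 10289), (10291, 14690), (10292, 14693), (10293, 11813), (10294, 7825), (10295, 12030), (10296, 7660), (10297,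 14100), (10298, 9677), (10299, 14043), (10300, 9699), (10301, 8553), (10302, 10313), (10303, 8389)]
    ⟨e3 q10240 L193395 q14612, e3 q10241 L193405 q14614, e3 q10242 (flp_a L188099) q13869, e3 q10243 L160856 q6361, e3 q10244 L160864 q10239, e3 q10245 (flp_a L160870) q6362, e3 q10246 (flp_a L193433) q14619, e3 q10247 (flp_a L182617) q13174, e3 q10248 (flp_a L188103) q13870, e3 q10249 L160894 q6364, e3 q10250 L160898 q6365, e3 q10251 (flp_a L193171) q14578, e3 q10252 (flp_a L193473) q14627, e3 q10253 L160912 q10177, e3 q10254 (flp_a L188107) q13871, e3 q10255 (flp_a L188115) q13872, e3 q10256 L193513 q14634, e3 q10257 L160938 q8788, e3 q10258 L160946 q9554, e3 q10259 L160956 q6373, e3 q10260 L160960 q6374, e3 q10261 L160966 q6375, e3 q10262 L160972 q6376, e3 q10263 L160984 q10018, e3 q10264 L193603 q14645, e3 q10265 (flp_a L169029) q11292, e3 q10266 (flp_a L193561) q14639, e3 q10267 (flp_a L193571) q14640, e3 q10268 (flp_a L193577) q14641, e3 q10269 (flp_a L175374) q12216, e3 q10270 (flp_a L193583) q14642, e3 q10271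 (flp_a L161032) q10272, e3 q10272 L161032 q10271, e3 q10273 L193713 q14661, e3 q10274 L193725 q14663, e3 q10275 L161052 q8825, e3 q10276 L161060 q9592, e3 q10277 L161070 q6383, e3 q10278 L161074 q6384, e3 q10279 L161080 q6385, e3 q10280 L161086 q6386, e3 q10281 L193815 q14674, e3 q10282 (flp_a L161102) q10053, e3 q10283 (flp_a L170034) q11451, e3 q10284 (flp_a L193773) q14668, e3 q10285 (flp_a L193783) q14669, e3 q10286 (flp_a L193789) q14670, e3 q10287 (flp_a L193795) q14671, e3 q10288 (flp_a L175797) q12275, e3 q10289 (flp_a L161146) q10290, e3 q10290 L161146 q10289, e3 q10291 L193929 q14690, e3 q10292 L193951 q14693, e3 q10293 (flp_a L172440) q11813, e3 q10294 L161174 q7825, e3 q10295 (flp_a L173931) q12030, e3 q10296 L161188 q7660, e3 q10297 (flp_a L189827) q14100, e3 q10298 L161198 q9677, e3 q10299 (flp_a L189387) q14043, e3 q10300 L161210 q9699, e3 q10301 L161242 q8553, e3 q10302 (flp_a L161330) q10313, e3 q10303 L161264 q8389, trivial⟩ (by decide +kernel)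

theorem ce_a_161 : ∀ r, r < 64 → sm ga (Qf (10304 + r)) = Qf (tab Gen.a (10304 + r)) :=
  edges_tab (sm ga) Qf (tab Gen.a) 10304 [(10304, 8496), (10305, 10307), (10306, 7983), (10307, 10305), (10308, 6413), (10309, 6415), (10310, 12605), (10311, 14705), (10312, 14706), (10313, 10302), (10314, 10387), (10315, 14709), (10316, 6420), (10317, 12073), (10318, 6422), (10319, 6423), (10320, 8174), (10321, 9676), (10322, 7492), (10323, 8105), (10324, 6426), (10325, 10336), (10326, 9447), (10327, 11836), (10328, 12050), (10329, 6429), (10330, 11834), (10331, 14715), (10332, 6434), (10333, 8023), (10334, 8477), (10335, 8489), (10336, 10325), (10337, 10337), (10338, 8562), (10339, 10350), (10340, 8408), (10341, 8525), (10342, 8042), (10343, 10344), (10344, 10343), (10345, 6444), (10346, 6445), (10347, 12612), (10348, 14724), (10349, 14725), (10350, 10339), (10351, 10421), (10352, 14728), (10353, 6451), (10354, 11857), (10355, 6453), (10356, 6454), (10357, 8139), (10358, 9698), (10359, 7483), (10360, 8061), (10361, 6457),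 (10362, 10371), (10363, 9438), (10364, 6460), (10365, 14734), (10366, 12048), (10367, 6465)]
    ⟨e3 q10304 L161270 q8496, e3 q10305 (flp_a L161288) q10307, e3 q10306 (flp_a L175667) q7983, e3 q10307 L161288 q10305, e3 q10308 L161298 q6413, e3 q10309 L161304 q6415, e3 q10310 (flp_a L178509) q12605, e3 q10311 (flp_a L194057) q14705, e3 q10312 (flp_a L194065) q14706, e3 q10313 L161330 q10302, e3 q10314 (flp_a L161846) q10387, e3 q10315 L194089 q14709, e3 q10316 (flp_a L161348) q6420, e3 q10317 (flp_a L174282) q12073, e3 q10318 L161362 q6422, e3 q10319 L161366 q6423, e3 q10320 (flp_a L163505) q8174, e3 q10321 L161390 q9676, e3 q10322 L161396 q7492, e3 q10323 (flp_a L163600) q8105, e3 q10324 L161406 q6426, e3 q10325 (flp_a L161482) q10336, e3 q10326 L161428 q9447, e3 q10327 (flp_a L172583) q11836, e3 q10328 (flp_a L174086) q12050, e3 q10329 (flp_a L161440) q6429, e3 q10330 (flp_a L172569) q11834, e3 q10331 (flp_a L194145) q14715, e3 q10332 L161456 q6434, e3 q10333 (flp_a L163846) q8023, e3 q10334 L163407 q8477, e3 q10335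 L163268 q8489, e3 q10336 L161482 q10325, e3 q10337 L161490 q10337, e3 q10338 L161493 q8562, e3 q10339 (flp_a L161581) q10350, e3 q10340 L161515 q8408, e3 q10341 L161521 q8525, e3 q10342 (flp_a L176067) q8042, e3 q10343 (flp_a L161541) q10344, e3 q10344 L161541 q10343, e3 q10345 L161549 q6444, e3 q10346 L161555 q6445, e3 q10347 (flp_a L178563) q12612, e3 q10348 (flp_a L194219) q14724, e3 q10349 (flp_a L194227) q14725, e3 q10350 L161581 q10339, e3 q10351 (flp_a L162078) q10421, e3 q10352 L194251 q14728, e3 q10353 (flp_a L161599) q6451, e3 q10354 (flp_a L172739) q11857, e3 q10355 L161613 q6453, e3 q10356 L161617 q6454, e3 q10357 (flp_a L163639) q8139, e3 q10358 L161641 q9698, e3 q10359 L161647 q7483, e3 q10360 (flp_a L163687) q8061, e3 q10361 L161657 q6457, e3 q10362 (flp_a L161733) q10371, e3 q10363 (flp_a L161679) q9438, e3 q10364 (flp_a L161691) q6460, e3 q10365 (flp_a L194317) q14734, e3 q10366 (flp_a L174070) q12048, e3 q10367 L161707 q6465, trivial⟩ (by decide +kernel)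

theorem ce_a_162 : ∀ r, r < 64 → sm ga (Qf (10368 + r)) = Qf (tab Gen.a (10368 + r)) :=
  edges_tab (sm ga) Qf (tab Gen.a) 10368 [(10368, 7965), (10369, 8474), (10370, 8481), (10371, 10362), (10372, 10372), (10373, 9779), (10374, 9780), (10375, 14740), (10376, 6474), (10377, 14743), (10378, 14744), (10379, 14026), (10380, 6477), (10381, 9236), (10382, 7451), (10383, 11878), (10384, 10384), (10385, 10193), (10386, 11883), (10387, 10314), (10388, 6489), (10389, 14749), (10390, 12578), (10391, 6492), (10392, 13314), (10393, 6493), (10394, 12761), (10395, 6494), (10396, 12161), (10397, 10403), (10398, 12779), (10399, 6496), (10400, 6497), (10401, 14754), (10402, 14755), (10403, 10397), (10404, 12129), (10405, 6499), (10406, 12259), (10407, 9832), (10408, 9833), (10409, 14761), (10410, 6508), (10411, 14764), (10412, 14765), (10413, 14083), (10414, 6511), (10415, 9200), (10416, 7448), (10417, 12087), (10418, 10418), (10419, 10229), (10420, 12092), (10421, 10351), (10422, 6522), (10423, 14770), (10424, 12572), (10425,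 6525), (10426, 13373), (10427, 6526), (10428, 12786), (10429, 6527), (10430, 11958), (10431, 10437)]
    ⟨e3 q10368 (flp_a L163856) q7965, e3 q10369 (flp_a L163475) q8474, e3 q10370 (flp_a L163457) q8481, e3 q10371 L161733 q10362, e3 q10372 L161741 q10372, e3 q10373 (flp_a L161748) q9779, e3 q10374 L161752 q9780, e3 q10375 L194366 q14740, e3 q10376 (flp_a L161760) q6474, e3 q10377 (flp_a L194388) q14743, e3 q10378 (flp_a L194398) q14744, e3 q10379 (flp_a L189249) q14026, e3 q10380 L161780 q6477, e3 q10381 L161788 q9236, e3 q10382 L161800 q7451, e3 q10383 (flp_a L172887) q11878, e3 q10384 L161825 q10384, e3 q10385 L161828 q10193, e3 q10386 (flp_a L172929) q11883, e3 q10387 L161846 q10314, e3 q10388 (flp_a L161858) q6489, e3 q10389 L194446 q14749, e3 q10390 (flp_a L178209) q12578, e3 q10391 (flp_a L161878) q6492, e3 q10392 (flp_a L183651) q13314, e3 q10393 (flp_a L161888) q6493, e3 q10394 (flp_a L179683) q12761, e3 q10395 (flp_a L161896) q6494, e3 q10396 (flp_a L174986) q12161, e3 q10397 (flp_a L161938) q10403, e3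 q10398 (flp_a L179825) q12779, e3 q10399 L161920 q6496, e3 q10400 L161924 q6497, e3 q10401 (flp_a L194490) q14754, e3 q10402 (flp_a L194504) q14755, e3 q10403 L161938 q10397, e3 q10404 (flp_a L174759) q12129, e3 q10405 L161950 q6499, e3 q10406 (flp_a L175677) q12259, e3 q10407 (flp_a L161978) q9832, e3 q10408 L161982 q9833, e3 q10409 L194559 q14761, e3 q10410 (flp_a L161990) q6508, e3 q10411 (flp_a L194581) q14764, e3 q10412 (flp_a L194591) q14765, e3 q10413 (flp_a L189681) q14083, e3 q10414 L162010 q6511, e3 q10415 L162018 q9200, e3 q10416 L162030 q7448, e3 q10417 (flp_a L174382) q12087, e3 q10418 L162055 q10418, e3 q10419 L162058 q10229, e3 q10420 (flp_a L174426) q12092, e3 q10421 L162078 q10351, e3 q10422 (flp_a L162090) q6522, e3 q10423 L194639 q14770, e3 q10424 (flp_a L178151) q12572, e3 q10425 (flp_a L162112) q6525, e3 q10426 (flp_a L184093) q13373, e3 q10427 (flp_a L162122) q6526, e3 q10428 L179901 q12786, e3 q10429 (flp_a L162130) q6527, e3 q10430 (flp_a L173479) q11958, e3 q10431 (flp_a L162166) q10437,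 trivial⟩ (by decide +kernel)

theorem ce_a_163 : ∀ r, r < 64 → sm ga (Qf (10432 + r)) = Qf (tab Gen.a (10432 + r)) :=
  edges_tab (sm ga) Qf (tab Gen.a) 10432 [(10432, 12804), (10433, 6529), (10434, 6530), (10435, 14775), (10436, 14776), (10437, 10431), (10438, 11923), (10439, 6532), (10440, 12321), (10441, 14053), (10442, 6542), (10443, 6543), (10444, 6544), (10445, 6545), (10446, 14003), (10447, 11680), (10448, 6541), (10449, 8358), (10450, 14781), (10451, 8452), (10452, 10454), (10453, 14786), (10454, 10452), (10455, 9109), (10456, 6547), (10457, 9006), (10458, 14790), (10459, 6549), (10460, 13301), (10461, 6552), (10462, 14710), (10463, 6553), (10464, 14056), (10465, 14057), (10466, 11825), (10467, 14702), (10468, 10646), (10469, 10647), (10470, 6559), (10471, 10477), (10472, 6561), (10473, 14801), (10474, 14802), (10475, 6563), (10476, 6564), (10477, 10471), (10478, 14058), (10479, 6566), (10480, 14622), (10481, 6605), (10482, 12790), (10483, 14059), (10484, 9022), (10485, 8956), (10486, 10487), (10487, 10486),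 (10488, 6573), (10489, 14812), (10490, 12028), (10491, 14107), (10492, 6581), (10493, 6582), (10494, 6583), (10495, 6584)]
    ⟨e3 q10432 (flp_a L180043) q12804, e3 q10433 L162148 q6529, e3 q10434 L162152 q6530, e3 q10435 (flp_a L194683) q14775, e3 q10436 (flp_a L194697) q14776, e3 q10437 L162166 q10431, e3 q10438 (flp_a L173240) q11923, e3 q10439 L162178 q6532, e3 q10440 (flp_a L176093) q12321, e3 q10441 (flp_a L189465) q14053, e3 q10442 L162208 q6542, e3 q10443 L162218 q6543, e3 q10444 L162226 q6544, e3 q10445 L162232 q6545, e3 q10446 (flp_a L189091) q14003, e3 q10447 (flp_a L171478) q11680, e3 q10448 (flp_a L162250) q6541, e3 q10449 L162259 q8358, e3 q10450 (flp_a L194745) q14781, e3 q10451 L162275 q8452, e3 q10452 (flp_a L162299) q10454, e3 q10453 L194795 q14786, e3 q10454 L162299 q10452, e3 q10455 (flp_a L183547) q9109, e3 q10456 (flp_a L162309) q6547, e3 q10457 L162321 q9006, e3 q10458 L194827 q14790, e3 q10459 (flp_a L162333) q6549, e3 q10460 (flp_a L183533) q13301, e3 q10461 (flp_a L162344) q6552, e3 q10462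 (flp_a L194105) q14710, e3 q10463 (flp_a L162350) q6553, e3 q10464 (flp_a L189491) q14056, e3 q10465 (flp_a L189499) q14057, e3 q10466 L172515 q11825, e3 q10467 (flp_a L194037) q14702, e3 q10468 (flp_a L164595) q10646, e3 q10469 (flp_a L164607) q10647, e3 q10470 (flp_a L162378) q6559, e3 q10471 (flp_a L162426) q10477, e3 q10472 (flp_a L162388) q6561, e3 q10473 (flp_a L194941) q14801, e3 q10474 (flp_a L194949) q14802, e3 q10475 L162410 q6563, e3 q10476 L162418 q6564, e3 q10477 L162426 q10471, e3 q10478 (flp_a L189507) q14058, e3 q10479 L162438 q6566, e3 q10480 (flp_a L193447) q14622, e3 q10481 L162454 q6605, e3 q10482 (flp_a L183909) q12790, e3 q10483 (flp_a L189511) q14059, e3 q10484 (flp_a L162800) q9022, e3 q10485 L162506 q8956, e3 q10486 (flp_a L162488) q10487, e3 q10487 L162488 q10486, e3 q10488 (flp_a L162496) q6573, e3 q10489 (flp_a L195035) q14812, e3 q10490 (flp_a L173915) q12028, e3 q10491 (flp_a L189897) q14107, e3 q10492 L162526 q6581, e3 q10493 L162536 q6582, e3 q10494 L162544 q6583, e3 q10495 L162550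 q6584, trivial⟩ (by decide +kernel)

theorem ce_a_164 : ∀ r, r < 64 → sm ga (Qf (10496 + r)) = Qf (tab Gen.a (10496 + r)) :=
  edges_tab (sm ga) Qf (tab Gen.a) 10496 [(10496, 14022), (10497, 6579), (10498, 11681), (10499, 8366), (10500, 14815), (10501, 8463), (10502, 14819), (10503, 10504), (10504, 10503), (10505, 6585), (10506, 9068), (10507, 14823), (10508, 9163), (10509, 13361), (10510, 6590), (10511, 14729), (10512, 6591), (10513, 6592), (10514, 14109), (10515, 12037), (10516, 14110), (10517, 14721), (10518, 10731), (10519, 10732), (10520, 6598), (10521, 10527), (10522, 6600), (10523, 14833), (10524, 14834), (10525, 6602), (10526, 6603), (10527, 10521), (10528, 14111), (10529, 14571), (10530, 12765), (10531, 14112), (10532, 10533), (10533, 10532), (10534, 6610), (10535, 14840), (10536, 12211), (10537, 9417), (10538, 10593), (10539, 6614), (10540, 10542), (10541, 6616), (10542, 10540), (10543, 6620), (10544, 9916), (10545, 6625), (10546, 6627), (10547, 6632), (10548, 11268), (10549, 8374), (10550, 14843), (10551,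 8388), (10552, 12697), (10553, 10610), (10554, 9039), (10555, 10557), (10556, 8545), (10557, 10555), (10558, 6634), (10559, 14850)]
    ⟨e3 q10496 (flp_a L189213) q14022, e3 q10497 (flp_a L162560) q6579, e3 q10498 (flp_a L171488) q11681, e3 q10499 L162577 q8366, e3 q10500 (flp_a L195055) q14815, e3 q10501 L162593 q8463, e3 q10502 L195099 q14819, e3 q10503 (flp_a L162617) q10504, e3 q10504 L162617 q10503, e3 q10505 (flp_a L162623) q6585, e3 q10506 L162635 q9068, e3 q10507 L195129 q14823, e3 q10508 (flp_a L175842) q9163, e3 q10509 (flp_a L184001) q13361, e3 q10510 (flp_a L162653) q6590, e3 q10511 (flp_a L194267) q14729, e3 q10512 (flp_a L162659) q6591, e3 q10513 (flp_a L162668) q6592, e3 q10514 (flp_a L189915) q14109, e3 q10515 L173970 q12037, e3 q10516 (flp_a L189923) q14110, e3 q10517 (flp_a L194199) q14721, e3 q10518 (flp_a L165206) q10731, e3 q10519 (flp_a L165218) q10732, e3 q10520 (flp_a L162698) q6598, e3 q10521 (flp_a L162748) q10527, e3 q10522 (flp_a L162710) q6600, e3 q10523 (flp_a L195227) q14833, e3 q10524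 (flp_a L195235) q14834, e3 q10525 L162732 q6602, e3 q10526 L162740 q6603, e3 q10527 L162748 q10521, e3 q10528 (flp_a L189931) q14111, e3 q10529 (flp_a L193131) q14571, e3 q10530 (flp_a L183421) q12765, e3 q10531 (flp_a L189935) q14112, e3 q10532 (flp_a L162780) q10533, e3 q10533 L162780 q10532, e3 q10534 (flp_a L162786) q6610, e3 q10535 (flp_a L195281) q14840, e3 q10536 (flp_a L175328) q12211, e3 q10537 L162816 q9417, e3 q10538 (flp_a L164172) q10593, e3 q10539 (flp_a L162831) q6614, e3 q10540 (flp_a L162857) q10542, e3 q10541 L162849 q6616, e3 q10542 L162857 q10540, e3 q10543 L162867 q6620, e3 q10544 L162877 q9916, e3 q10545 L162907 q6625, e3 q10546 L162917 q6627, e3 q10547 L162925 q6632, e3 q10548 (flp_a L168891) q11268, e3 q10549 L162943 q8374, e3 q10550 (flp_a L195301) q14843, e3 q10551 L162961 q8388, e3 q10552 (flp_a L179209) q12697, e3 q10553 (flp_a L164330) q10610, e3 q10554 L162985 q9039, e3 q10555 (flp_a L163015) q10557, e3 q10556 L163009 q8545, e3 q10557 L163015 q10555, e3 q10558 (flp_a L163021) q6634,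 e3 q10559 (flp_a L195384) q14850, trivial⟩ (by decide +kernel)

theorem ce_a_165 : ∀ r, r < 64 → sm ga (Qf (10560 + r)) = Qf (tab Gen.a (10560 + r)) :=
  edges_tab (sm ga) Qf (tab Gen.a) 10560 [(10560, 8491), (10561, 6693), (10562, 6755), (10563, 6638), (10564, 14853), (10565, 10583), (10566, 6696), (10567, 12653), (10568, 12696), (10569, 12690), (10570, 8898), (10571, 6645), (10572, 14861), (10573, 6647), (10574, 6648), (10575, 12158), (10576, 12157), (10577, 8470), (10578, 6651), (10579, 6652), (10580, 14863), (10581, 14864), (10582, 14865), (10583, 10565), (10584, 12380), (10585, 6655), (10586, 8942), (10587, 14857), (10588, 12335), (10589, 6658), (10590, 8926), (10591, 6700), (10592, 9418), (10593, 10538), (10594, 6662), (10595, 10597), (10596, 6664), (10597, 10595), (10598, 6667), (10599, 9899), (10600, 6673), (10601, 6674), (10602, 6679), (10603, 11429), (10604, 14877), (10605, 8381), (10606, 12668), (10607, 8407), (10608, 8973), (10609, 8517), (10610, 10553), (10611, 6681), (10612, 14882), (10613, 8483),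 (10614, 6829), (10615, 6684), (10616, 14885), (10617, 10632), (10618, 12644), (10619, 12667), (10620, 12661), (10621, 8892), (10622, 6690), (10623, 14892)]
    ⟨e3 q10560 L163043 q8491, e3 q10561 L163055 q6693, e3 q10562 L163065 q6755, e3 q10563 L163073 q6638, e3 q10564 (flp_a L195414) q14853, e3 q10565 (flp_a L164093) q10583, e3 q10566 L163089 q6696, e3 q10567 L178894 q12653, e3 q10568 (flp_a L179203) q12696, e3 q10569 L179171 q12690, e3 q10570 L163119 q8898, e3 q10571 (flp_a L164009) q6645, e3 q10572 (flp_a L195474) q14861, e3 q10573 L164021 q6647, e3 q10574 L164027 q6648, e3 q10575 (flp_a L174942) q12158, e3 q10576 (flp_a L174930) q12157, e3 q10577 (flp_a L164053) q8470, e3 q10578 L164065 q6651, e3 q10579 L164071 q6652, e3 q10580 (flp_a L195486) q14863, e3 q10581 (flp_a L195496) q14864, e3 q10582 (flp_a L195502) q14865, e3 q10583 L164093 q10565, e3 q10584 (flp_a L176612) q12380, e3 q10585 (flp_a L164111) q6655, e3 q10586 L164119 q8942, e3 q10587 (flp_a L195448) q14857, e3 q10588 (flp_a L176201) q12335, e3 q10589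 L164137 q6658, e3 q10590 L164480 q8926, e3 q10591 L164151 q6700, e3 q10592 L164161 q9418, e3 q10593 L164172 q10538, e3 q10594 (flp_a L164178) q6662, e3 q10595 (flp_a L164204) q10597, e3 q10596 L164196 q6664, e3 q10597 L164204 q10595, e3 q10598 L164214 q6667, e3 q10599 L164224 q9899, e3 q10600 L164238 q6673, e3 q10601 L164248 q6674, e3 q10602 L164256 q6679, e3 q10603 (flp_a L169900) q11429, e3 q10604 (flp_a L195610) q14877, e3 q10605 L164282 q8381, e3 q10606 (flp_a L179013) q12668, e3 q10607 L164300 q8407, e3 q10608 L164310 q8973, e3 q10609 L164324 q8517, e3 q10610 L164330 q10553, e3 q10611 (flp_a L164336) q6681, e3 q10612 (flp_a L195669) q14882, e3 q10613 L164358 q8483, e3 q10614 L164378 q6829, e3 q10615 L164384 q6684, e3 q10616 (flp_a L195699) q14885, e3 q10617 (flp_a L164496) q10632, e3 q10618 L178803 q12644, e3 q10619 (flp_a L179007) q12667, e3 q10620 L178975 q12661, e3 q10621 L164424 q8892, e3 q10622 (flp_a L164434) q6690, e3 q10623 (flp_a L195753) q14892, trivial⟩ (by decide +kernel)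

theorem ce_a_166 : ∀ r, r < 64 → sm ga (Qf (10624 + r)) = Qf (tab Gen.a (10624 + r)) :=
  edges_tab (sm ga) Qf (tab Gen.a) 10624 [(10624, 6692), (10625, 11955), (10626, 11954), (10627, 8459), (10628, 6695), (10629, 14894), (10630, 14895), (10631, 14858), (10632, 10617), (10633, 12334), (10634, 6699), (10635, 12381), (10636, 14889), (10637, 11848), (10638, 10807), (10639, 10786), (10640, 6704), (10641, 10794), (10642, 10672), (10643, 6705), (10644, 11962), (10645, 13589), (10646, 10468), (10647, 10469), (10648, 8490), (10649, 10685), (10650, 9327), (10651, 6711), (10652, 10654), (10653, 10690), (10654, 10652), (10655, 6717), (10656, 13588), (10657, 14909), (10658, 9272), (10659, 6725), (10660, 10688), (10661, 9339), (10662, 14912), (10663, 8662), (10664, 6729), (10665, 9349), (10666, 14914), (10667, 6731), (10668, 14824), (10669, 6732), (10670, 14773), (10671, 13585), (10672, 10642), (10673, 6734), (10674, 6735), (10675, 7730), (10676, 6740), (10677, 13706), (10678, 11561), (10679, 6741), (10680, 6743), (10681,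 9273), (10682, 6747), (10683, 13495), (10684, 14922), (10685, 10649), (10686, 13445), (10687, 6752)]
    ⟨e3 q10624 L164446 q6692, e3 q10625 (flp_a L173441) q11955, e3 q10626 (flp_a L173429) q11954, e3 q10627 (flp_a L164468) q8459, e3 q10628 L164476 q6695, e3 q10629 (flp_a L195765) q14894, e3 q10630 (flp_a L195775) q14895, e3 q10631 (flp_a L195452) q14858, e3 q10632 L164496 q10617, e3 q10633 (flp_a L176191) q12334, e3 q10634 (flp_a L164514) q6699, e3 q10635 (flp_a L176622) q12381, e3 q10636 (flp_a L195737) q14889, e3 q10637 (flp_a L172669) q11848, e3 q10638 (flp_a L165798) q10807, e3 q10639 (flp_a L165652) q10786, e3 q10640 (flp_a L164553) q6704, e3 q10641 (flp_a L165700) q10794, e3 q10642 L164791 q10672, e3 q10643 (flp_a L164570) q6705, e3 q10644 L173514 q11962, e3 q10645 (flp_a L185851) q13589, e3 q10646 L164595 q10468, e3 q10647 L164607 q10469, e3 q10648 (flp_a L164627) q8490, e3 q10649 (flp_a L164909) q10685, e3 q10650 L164649 q9327, e3 q10651 (flp_a L164651) q6711, e3 q10652 (flp_a L164665) q10654, e3 q10653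 L164949 q10690, e3 q10654 L164665 q10652, e3 q10655 (flp_a L164673) q6717, e3 q10656 (flp_a L185843) q13588, e3 q10657 L195890 q14909, e3 q10658 L164693 q9272, e3 q10659 (flp_a L164703) q6725, e3 q10660 (flp_a L164937) q10688, e3 q10661 L164715 q9339, e3 q10662 L195916 q14912, e3 q10663 L164727 q8662, e3 q10664 (flp_a L164735) q6729, e3 q10665 L164749 q9349, e3 q10666 L195938 q14914, e3 q10667 L164759 q6731, e3 q10668 (flp_a L195141) q14824, e3 q10669 (flp_a L164763) q6732, e3 q10670 (flp_a L194667) q14773, e3 q10671 (flp_a L185803) q13585, e3 q10672 (flp_a L164791) q10642, e3 q10673 L164797 q6734, e3 q10674 L164805 q6735, e3 q10675 L164817 q7730, e3 q10676 L164827 q6740, e3 q10677 (flp_a L186895) q13706, e3 q10678 (flp_a L170722) q11561, e3 q10679 (flp_a L164853) q6741, e3 q10680 L164863 q6743, e3 q10681 L164877 q9273, e3 q10682 L164891 q6747, e3 q10683 (flp_a L184999) q13495, e3 q10684 (flp_a L196017) q14922, e3 q10685 L164909 q10649, e3 q10686 (flp_a L184602) q13445, e3 q10687 L164927 q6752, trivial⟩ (by decide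 +kernel)

theorem ce_a_167 : ∀ r, r < 64 → sm ga (Qf (10688 + r)) = Qf (tab Gen.a (10688 + r)) :=
  edges_tab (sm ga) Qf (tab Gen.a) 10688 [(10688, 10660), (10689, 6751), (10690, 10653), (10691, 13549), (10692, 10723), (10693, 14925), (10694, 8449), (10695, 9330), (10696, 6761), (10697, 14132), (10698, 14927), (10699, 10845), (10700, 6763), (10701, 6764), (10702, 10736), (10703, 10756), (10704, 10726), (10705, 10839), (10706, 14011), (10707, 6767), (10708, 6768), (10709, 6769), (10710, 14934), (10711, 14935), (10712, 10713), (10713, 10712), (10714, 6771), (10715, 14940), (10716, 8298), (10717, 8177), (10718, 14943), (10719, 6774), (10720, 12783), (10721, 14946), (10722, 6776), (10723, 10692), (10724, 12062), (10725, 10828), (10726, 10704), (10727, 6780), (10728, 6781), (10729, 12165), (10730, 13566), (10731, 10518), (10732, 10519), (10733, 8482), (10734, 10769), (10735, 6786), (10736, 10702), (10737, 9279), (10738, 10774), (10739, 6793), (10740, 13563), (10741, 6797), (10742, 10772), (10743, 9297), (10744, 14959),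 (10745, 8646), (10746, 6801), (10747, 9307), (10748, 14961), (10749, 6803), (10750, 14789), (10751, 14964)]
    ⟨e3 q10688 L164937 q10660, e3 q10689 (flp_a L164943) q6751, e3 q10690 (flp_a L164949) q10653, e3 q10691 L185827 q13549, e3 q10692 (flp_a L165138) q10723, e3 q10693 L196049 q14925, e3 q10694 L164967 q8449, e3 q10695 (flp_a L164989) q9330, e3 q10696 (flp_a L164991) q6761, e3 q10697 (flp_a L190089) q14132, e3 q10698 (flp_a L196071) q14927, e3 q10699 (flp_a L166112) q10845, e3 q10700 L165009 q6763, e3 q10701 (flp_a L165013) q6764, e3 q10702 (flp_a L165260) q10736, e3 q10703 L165402 q10756, e3 q10704 L165167 q10726, e3 q10705 (flp_a L166072) q10839, e3 q10706 (flp_a L189157) q14011, e3 q10707 L165045 q6767, e3 q10708 L165049 q6768, e3 q10709 L165053 q6769, e3 q10710 (flp_a L196121) q14934, e3 q10711 (flp_a L196125) q14935, e3 q10712 (flp_a L165072) q10713, e3 q10713 L165072 q10712, e3 q10714 (flp_a L165076) q6771, e3 q10715 (flp_a L196155) q14940, e3 q10716 L165090 q8298, e3 q10717 L165100 q8177, e3 q10718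 L196179 q14943, e3 q10719 (flp_a L165112) q6774, e3 q10720 (flp_a L179863) q12783, e3 q10721 (flp_a L196205) q14946, e3 q10722 L165132 q6776, e3 q10723 L165138 q10692, e3 q10724 (flp_a L174184) q12062, e3 q10725 (flp_a L165967) q10828, e3 q10726 (flp_a L165167) q10704, e3 q10727 (flp_a L165169) q6780, e3 q10728 (flp_a L165177) q6781, e3 q10729 (flp_a L175021) q12165, e3 q10730 (flp_a L185611) q13566, e3 q10731 L165206 q10518, e3 q10732 L165218 q10519, e3 q10733 (flp_a L165238) q8482, e3 q10734 (flp_a L165524) q10769, e3 q10735 (flp_a L165250) q6786, e3 q10736 L165260 q10702, e3 q10737 L165278 q9279, e3 q10738 L165570 q10774, e3 q10739 (flp_a L165282) q6793, e3 q10740 (flp_a L185579) q13563, e3 q10741 (flp_a L165298) q6797, e3 q10742 L165560 q10772, e3 q10743 L165310 q9297, e3 q10744 L196317 q14959, e3 q10745 L165322 q8646, e3 q10746 (flp_a L165330) q6801, e3 q10747 L165344 q9307, e3 q10748 L196339 q14961, e3 q10749 L165354 q6803, e3 q10750 (flp_a L194821) q14789, e3 q10751 L196365 q14964, trivial⟩ (by decide +kernel)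

theorem ce_a_168 : ∀ r, r < 64 → sm ga (Qf (10752 + r)) = Qf (tab Gen.a (10752 + r)) :=
  edges_tab (sm ga) Qf (tab Gen.a) 10752 [(10752, 9324), (10753, 6806), (10754, 14752), (10755, 13559), (10756, 10703), (10757, 6808), (10758, 6809), (10759, 7892), (10760, 6814), (10761, 13708), (10762, 11402), (10763, 6815), (10764, 6817), (10765, 9321), (10766, 6820), (10767, 13497), (10768, 14970), (10769, 10734), (10770, 13396), (10771, 6826), (10772, 10742), (10773, 6825), (10774, 10738), (10775, 13580), (10776, 10804), (10777, 14973), (10778, 8446), (10779, 9283), (10780, 6835), (10781, 14081), (10782, 10824), (10783, 14975), (10784, 6837), (10785, 6838), (10786, 10639), (10787, 10818), (10788, 13992), (10789, 6841), (10790, 6842), (10791, 6843), (10792, 14982), (10793, 14983), (10794, 10641), (10795, 6845), (10796, 14988), (10797, 8289), (10798, 8142), (10799, 14991), (10800, 6848), (10801, 12808), (10802, 14994), (10803, 6850), (10804, 10776), (10805, 6853), (10806, 11849), (10807, 10638), (10808, 6860), (10809, 15000),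 (10810, 11731), (10811, 11847), (10812, 10813), (10813, 10812), (10814, 9424), (10815, 6864)]
    ⟨e3 q10752 L165362 q9324, e3 q10753 (flp_a L165372) q6806, e3 q10754 (flp_a L194474) q14752, e3 q10755 (flp_a L185541) q13559, e3 q10756 (flp_a L165402) q10703, e3 q10757 L165410 q6808, e3 q10758 L165418 q6809, e3 q10759 L165430 q7892, e3 q10760 L165440 q6814, e3 q10761 L186919 q13708, e3 q10762 (flp_a L169707) q11402, e3 q10763 (flp_a L165466) q6815, e3 q10764 L165476 q6817, e3 q10765 L165490 q9321, e3 q10766 L165504 q6820, e3 q10767 (flp_a L185021) q13497, e3 q10768 (flp_a L196430) q14970, e3 q10769 L165524 q10734, e3 q10770 (flp_a L184248) q13396, e3 q10771 L165548 q6826, e3 q10772 (flp_a L165560) q10742, e3 q10773 (flp_a L165564) q6825, e3 q10774 (flp_a L165570) q10738, e3 q10775 (flp_a L185757) q13580, e3 q10776 (flp_a L165774) q10804, e3 q10777 L196462 q14973, e3 q10778 L165588 q8446, e3 q10779 (flp_a L165610) q9283, e3 q10780 (flp_a L165612) q6835, e3 q10781 (flp_a L189661) q14081, e3 q10782 (flp_a L165927) q10824,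 e3 q10783 (flp_a L196484) q14975, e3 q10784 L165634 q6837, e3 q10785 (flp_a L165640) q6838, e3 q10786 L165652 q10639, e3 q10787 (flp_a L165887) q10818, e3 q10788 (flp_a L189035) q13992, e3 q10789 L165674 q6841, e3 q10790 L165678 q6842, e3 q10791 L165686 q6843, e3 q10792 (flp_a L196542) q14982, e3 q10793 (flp_a L196546) q14983, e3 q10794 L165700 q10641, e3 q10795 (flp_a L165706) q6845, e3 q10796 (flp_a L196574) q14988, e3 q10797 L165720 q8289, e3 q10798 L165732 q8142, e3 q10799 L196600 q14991, e3 q10800 (flp_a L165744) q6848, e3 q10801 (flp_a L180081) q12808, e3 q10802 (flp_a L196630) q14994, e3 q10803 L165768 q6850, e3 q10804 L165774 q10776, e3 q10805 L165782 q6853, e3 q10806 (flp_a L172681) q11849, e3 q10807 L165798 q10638, e3 q10808 L165808 q6860, e3 q10809 L196677 q15000, e3 q10810 (flp_a L171878) q11731, e3 q10811 (flp_a L172661) q11847, e3 q10812 (flp_a L165838) q10813, e3 q10813 L165838 q10812, e3 q10814 L194306 q9424, e3 q10815 (flp_a L165849) q6864, trivial⟩ (by decide +kernel)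

theorem ce_a_169 : ∀ r, r < 64 → sm ga (Qf (10816 + r)) = Qf (tab Gen.a (10816 + r)) :=
  edges_tab (sm ga) Qf (tab Gen.a) 10816 [(10816, 13702), (10817, 9293), (10818, 10787), (10819, 14916), (10820, 6869), (10821, 15008), (10822, 13552), (10823, 6870), (10824, 10782), (10825, 9238), (10826, 6874), (10827, 12061), (10828, 10725), (10829, 6880), (10830, 15005), (10831, 11774), (10832, 12060), (10833, 10834), (10834, 10833), (10835, 9423), (10836, 6885), (10837, 13704), (10838, 9289), (10839, 10705), (10840, 14963), (10841, 6890), (10842, 15020), (10843, 13581), (10844, 6892), (10845, 10699), (10846, 9202), (10847, 6894), (10848, 15023), (10849, 14503), (10850, 6897), (10851, 15027), (10852, 14454), (10853, 10853), (10854, 10854), (10855, 10855), (10856, 10856), (10857, 10857), (10858, 10858), (10859, 9352), (10860, 6905), (10861, 13284), (10862, 10862), (10863, 10863), (10864, 9353), (10865, 6908), (10866, 13345), (10867, 9982), (10868, 6910), (10869, 15035), (10870, 10931), (10871, 14272), (10872, 6912), (10873,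 15041), (10874, 7160), (10875, 10000), (10876, 6914), (10877, 15047), (10878, 10941), (10879, 14252)]
    ⟨e3 q10816 (flp_a L186835) q13702, e3 q10817 L165875 q9293, e3 q10818 L165887 q10787, e3 q10819 (flp_a L195956) q14916, e3 q10820 (flp_a L165895) q6869, e3 q10821 (flp_a L196743) q15008, e3 q10822 (flp_a L185471) q13552, e3 q10823 (flp_a L165911) q6870, e3 q10824 L165927 q10782, e3 q10825 L165939 q9238, e3 q10826 L165951 q6874, e3 q10827 (flp_a L174174) q12061, e3 q10828 L165967 q10725, e3 q10829 L165979 q6880, e3 q10830 (flp_a L196721) q15005, e3 q10831 (flp_a L172169) q11774, e3 q10832 (flp_a L174166) q12060, e3 q10833 (flp_a L166023) q10834, e3 q10834 L166023 q10833, e3 q10835 L194301 q9423, e3 q10836 (flp_a L166032) q6885, e3 q10837 (flp_a L186861) q13704, e3 q10838 L166058 q9289, e3 q10839 L166072 q10705, e3 q10840 (flp_a L196355) q14963, e3 q10841 (flp_a L166080) q6890, e3 q10842 (flp_a L196845) q15020, e3 q10843 (flp_a L185763) q13581, e3 q10844 (flp_a L166096) q6892, e3 q10845 L166112 q10699, e3 q10846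 L166124 q9202, e3 q10847 L166136 q6894, e3 q10848 (flp_a L196869) q15023, e3 q10849 (flp_a L192693) q14503, e3 q10850 L166152 q6897, e3 q10851 (flp_a L196895) q15027, e3 q10852 (flp_a L192383) q14454, e3 q10853 L166168 q10853, e3 q10854 L166174 q10854, e3 q10855 L166184 q10855, e3 q10856 L166190 q10856, e3 q10857 L166200 q10857, e3 q10858 L166210 q10858, e3 q10859 (flp_a L166228) q9352, e3 q10860 (flp_a L166232) q6905, e3 q10861 (flp_a L183377) q13284, e3 q10862 L166248 q10862, e3 q10863 L166258 q10863, e3 q10864 (flp_a L166276) q9353, e3 q10865 (flp_a L166280) q6908, e3 q10866 (flp_a L183883) q13345, e3 q10867 L166300 q9982, e3 q10868 L166306 q6910, e3 q10869 (flp_a L196941) q15035, e3 q10870 (flp_a L166734) q10931, e3 q10871 (flp_a L191155) q14272, e3 q10872 (flp_a L166326) q6912, e3 q10873 (flp_a L196979) q15041, e3 q10874 L166338 q7160, e3 q10875 L166350 q10000, e3 q10876 L166356 q6914, e3 q10877 (flp_a L197019) q15047, e3 q10878 (flp_a L166796) q10941, e3 q10879 (flp_a L191011) q14252, trivial⟩ (by decide +kernel)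

theorem ce_a_170 : ∀ r, r < 64 → sm ga (Qf (10880 + r)) = Qf (tab Gen.a (10880 + r)) :=
  edges_tab (sm ga) Qf (tab Gen.a) 10880 [(10880, 6916), (10881, 15053), (10882, 7120), (10883, 6919), (10884, 10951), (10885, 14376), (10886, 6923), (10887, 15058), (10888, 7358), (10889, 7349), (10890, 6927), (10891, 10963), (10892, 14321), (10893, 6931), (10894, 15063), (10895, 7258), (10896, 7248), (10897, 10897), (10898, 6937), (10899, 6938), (10900, 10909), (10901, 10903), (10902, 10912), (10903, 10901), (10904, 10969), (10905, 15071), (10906, 10974), (10907, 15074), (10908, 6943), (10909, 10900), (10910, 15076), (10911, 6944), (10912, 10902), (10913, 15077), (10914, 6946), (10915, 6947), (10916, 15078), (10917, 15079), (10918, 6949), (10919, 6950), (10920, 15083), (10921, 15084), (10922, 9957), (10923, 12553), (10924, 6954), (10925, 6955), (10926, 11221), (10927, 10947), (10928, 15088), (10929, 15089), (10930, 15095), (10931, 10870), (10932, 12550), (10933, 9963), (10934, 6960), (10935, 6961), (10936, 11153), (10937,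 10959), (10938, 15098), (10939, 15099), (10940, 15105), (10941, 10878), (10942, 11568), (10943, 6969)]
    ⟨e3 q10880 (flp_a L166376) q6916, e3 q10881 (flp_a L197057) q15053, e3 q10882 L166388 q7120, e3 q10883 L166396 q6919, e3 q10884 (flp_a L166865) q10951, e3 q10885 (flp_a L191846) q14376, e3 q10886 L166414 q6923, e3 q10887 (flp_a L197089) q15058, e3 q10888 L166424 q7358, e3 q10889 L166432 q7349, e3 q10890 L166442 q6927, e3 q10891 (flp_a L166948) q10963, e3 q10892 (flp_a L191465) q14321, e3 q10893 L166460 q6931, e3 q10894 (flp_a L197111) q15063, e3 q10895 L166470 q7258, e3 q10896 L166478 q7248, e3 q10897 L166488 q10897, e3 q10898 L166496 q6937, e3 q10899 L166505 q6938, e3 q10900 (flp_a L166569) q10909, e3 q10901 (flp_a L166536) q10903, e3 q10902 L166625 q10912, e3 q10903 L166536 q10901, e3 q10904 (flp_a L166996) q10969, e3 q10905 L197153 q15071, e3 q10906 (flp_a L167050) q10974, e3 q10907 L197165 q15074, e3 q10908 (flp_a L166558) q6943, e3 q10909 L166569 q10900, e3 q10910 (flp_a L197173) q15076, e3 q10911 (flp_a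 L166597) q6944, e3 q10912 (flp_a L166625) q10902, e3 q10913 (flp_a L197184) q15077, e3 q10914 L166640 q6946, e3 q10915 L166644 q6947, e3 q10916 (flp_a L197195) q15078, e3 q10917 (flp_a L197201) q15079, e3 q10918 L166660 q6949, e3 q10919 L166664 q6950, e3 q10920 (flp_a L197228) q15083, e3 q10921 (flp_a L197234) q15084, e3 q10922 L166680 q9957, e3 q10923 L178005 q12553, e3 q10924 L166700 q6954, e3 q10925 L166706 q6955, e3 q10926 (flp_a L168578) q11221, e3 q10927 (flp_a L166840) q10947, e3 q10928 (flp_a L197263) q15088, e3 q10929 (flp_a L197273) q15089, e3 q10930 L197303 q15095, e3 q10931 L166734 q10870, e3 q10932 L177979 q12550, e3 q10933 L166748 q9963, e3 q10934 L166762 q6960, e3 q10935 L166768 q6961, e3 q10936 (flp_a L168186) q11153, e3 q10937 (flp_a L166923) q10959, e3 q10938 (flp_a L197313) q15098, e3 q10939 (flp_a L197323) q15099, e3 q10940 L197353 q15105, e3 q10941 L166796 q10878, e3 q10942 (flp_a L170793) q11568, e3 q10943 L166808 q6969, trivial⟩ (by decide +kernel)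

theorem ce_a_171 : ∀ r, r < 64 → sm ga (Qf (10944 + r)) = Qf (tab Gen.a (10944 + r)) :=
  edges_tab (sm ga) Qf (tab Gen.a) 10944 [(10944, 6971), (10945, 11280), (10946, 7740), (10947, 10927), (10948, 15108), (10949, 12606), (10950, 7042), (10951, 10884), (10952, 7044), (10953, 11321), (10954, 11620), (10955, 6980), (10956, 6982), (10957, 11440), (10958, 7901), (10959, 10937), (10960, 15120), (10961, 12611), (10962, 7070), (10963, 10891), (10964, 7072), (10965, 11480), (10966, 6986), (10967, 6988), (10968, 10968), (10969, 10904), (10970, 15135), (10971, 6993), (10972, 15138), (10973, 10973), (10974, 10906), (10975, 15142), (10976, 6998), (10977, 15145), (10978, 13719), (10979, 13773), (10980, 10981), (10981, 10980), (10982, 11032), (10983, 7092), (10984, 7005), (10985, 15153), (10986, 10094), (10987, 14205), (10988, 7007), (10989, 15158), (10990, 11000), (10991, 13786), (10992, 10102), (10993, 15165), (10994, 7012), (10995, 7013), (10996, 11055), (10997, 15169), (10998, 15170), (10999, 15178), (11000, 10990), (11001,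 10101), (11002, 13781), (11003, 13720), (11004, 11005), (11005, 11004), (11006, 11070), (11007, 7131)]
    ⟨e3 q10944 L166818 q6971, e3 q10945 (flp_a L168959) q11280, e3 q10946 L166832 q7740, e3 q10947 L166840 q10927, e3 q10948 (flp_a L197363) q15108, e3 q10949 (flp_a L178521) q12606, e3 q10950 (flp_a L166861) q7042, e3 q10951 L166865 q10884, e3 q10952 L166873 q7044, e3 q10953 (flp_a L169221) q11321, e3 q10954 (flp_a L171132) q11620, e3 q10955 L166891 q6980, e3 q10956 L166901 q6982, e3 q10957 (flp_a L169964) q11440, e3 q10958 L166915 q7901, e3 q10959 L166923 q10937, e3 q10960 (flp_a L197463) q15120, e3 q10961 (flp_a L178555) q12611, e3 q10962 (flp_a L166944) q7070, e3 q10963 L166948 q10891, e3 q10964 L166956 q7072, e3 q10965 (flp_a L170226) q11480, e3 q10966 (flp_a L166968) q6986, e3 q10967 (flp_a L166975) q6988, e3 q10968 L166984 q10968, e3 q10969 L166996 q10904, e3 q10970 L197587 q15135, e3 q10971 L167008 q6993, e3 q10972 (flp_a L197611) q15138, e3 q10973 L167018 q10973, e3 q10974 L167050 q10906, e3 q10975 L197643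 q15142, e3 q10976 L167062 q6998, e3 q10977 (flp_a L197659) q15145, e3 q10978 (flp_a L187009) q13719, e3 q10979 (flp_a L187411) q13773, e3 q10980 (flp_a L167090) q10981, e3 q10981 L167090 q10980, e3 q10982 (flp_a L167405) q11032, e3 q10983 L167106 q7092, e3 q10984 (flp_a L167114) q7005, e3 q10985 (flp_a L197717) q15153, e3 q10986 L167130 q10094, e3 q10987 (flp_a L190691) q14205, e3 q10988 L167142 q7007, e3 q10989 (flp_a L197751) q15158, e3 q10990 (flp_a L167194) q11000, e3 q10991 (flp_a L187535) q13786, e3 q10992 L167160 q10102, e3 q10993 L197785 q15165, e3 q10994 L167170 q7012, e3 q10995 L167174 q7013, e3 q10996 (flp_a L167537) q11055, e3 q10997 (flp_a L197797) q15169, e3 q10998 (flp_a L197801) q15170, e3 q10999 L197835 q15178, e3 q11000 L167194 q10990, e3 q11001 (flp_a L167206) q10101, e3 q11002 (flp_a L187483) q13781, e3 q11003 (flp_a L187015) q13720, e3 q11004 (flp_a L167228) q11005, e3 q11005 L167228 q11004, e3 q11006 (flp_a L167645) q11070, e3 q11007 L167244 q7131, trivial⟩ (by decide +kernel)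

theorem ce_a_172 : ∀ r, r < 64 → sm ga (Qf (11008 + r)) = Qf (tab Gen.a (11008 + r)) :=
  edges_tab (sm ga) Qf (tab Gen.a) 11008 [(11008, 7021), (11009, 15187), (11010, 10113), (11011, 14201), (11012, 7023), (11013, 15192), (11014, 11024), (11015, 13778), (11016, 10084), (11017, 15199), (11018, 7028), (11019, 7029), (11020, 11093), (11021, 15203), (11022, 15204), (11023, 15212), (11024, 11014), (11025, 10120), (11026, 7035), (11027, 7036), (11028, 8783), (11029, 8784), (11030, 11031), (11031, 11030), (11032, 10982), (11033, 12916), (11034, 15115), (11035, 15117), (11036, 15118), (11037, 11097), (11038, 11099), (11039, 11969), (11040, 7325), (11041, 12287), (11042, 7047), (11043, 15231), (11044, 15232), (11045, 11060), (11046, 15239), (11047, 7050), (11048, 15241), (11049, 13819), (11050, 15242), (11051, 7053), (11052, 7054), (11053, 7055), (11054, 15253), (11055, 10996), (11056, 15249), (11057, 15250), (11058, 15251), (11059, 11075), (11060, 11045), (11061, 11076), (11062, 15267), (11063, 10152), (11064, 7063),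 (11065, 7064), (11066, 8820), (11067, 8821), (11068, 11069), (11069, 11068), (11070, 11006), (11071, 12901)]
    ⟨e3 q11008 (flp_a L167252) q7021, e3 q11009 (flp_a L197897) q15187, e3 q11010 L167268 q10113, e3 q11011 (flp_a L190661) q14201, e3 q11012 L167280 q7023, e3 q11013 (flp_a L197931) q15192, e3 q11014 (flp_a L167332) q11024, e3 q11015 (flp_a L187461) q13778, e3 q11016 L167298 q10084, e3 q11017 L197965 q15199, e3 q11018 L167308 q7028, e3 q11019 L167312 q7029, e3 q11020 (flp_a L167783) q11093, e3 q11021 (flp_a L197977) q15203, e3 q11022 (flp_a L197981) q15204, e3 q11023 L198015 q15212, e3 q11024 L167332 q11014, e3 q11025 (flp_a L167344) q10120, e3 q11026 L167348 q7035, e3 q11027 L167359 q7036, e3 q11028 L167367 q8783, e3 q11029 L167379 q8784, e3 q11030 (flp_a L167397) q11031, e3 q11031 L167397 q11030, e3 q11032 L167405 q10982, e3 q11033 (flp_a L180873) q12916, e3 q11034 L197428 q15115, e3 q11035 (flp_a L197444) q15117, e3 q11036 (flp_a L197449) q15118, e3 q11037 L167806 q11097, e3 q11038 (flp_a L167818) q11099,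 e3 q11039 (flp_a L173560) q11969, e3 q11040 L167452 q7325, e3 q11041 (flp_a L175877) q12287, e3 q11042 L167466 q7047, e3 q11043 (flp_a L198135) q15231, e3 q11044 (flp_a L198143) q15232, e3 q11045 (flp_a L167562) q11060, e3 q11046 L198179 q15239, e3 q11047 (flp_a L167488) q7050, e3 q11048 (flp_a L198194) q15241, e3 q11049 (flp_a L187739) q13819, e3 q11050 (flp_a L198202) q15242, e3 q11051 L167510 q7053, e3 q11052 L167516 q7054, e3 q11053 L167522 q7055, e3 q11054 L198276 q15253, e3 q11055 L167537 q10996, e3 q11056 (flp_a L198246) q15249, e3 q11057 (flp_a L198254) q15250, e3 q11058 (flp_a L198264) q15251, e3 q11059 (flp_a L167677) q11075, e3 q11060 L167562 q11045, e3 q11061 (flp_a L167684) q11076, e3 q11062 L198384 q15267, e3 q11063 L167580 q10152, e3 q11064 L167588 q7063, e3 q11065 L167596 q7064, e3 q11066 L167607 q8820, e3 q11067 L167617 q8821, e3 q11068 (flp_a L167635) q11069, e3 q11069 L167635 q11068, e3 q11070 L167645 q11006, e3 q11071 (flp_a L180763) q12901, trivial⟩ (by decide +kernel)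

theorem ce_a_173 : ∀ r, r < 64 → sm ga (Qf (11072 + r)) = Qf (tab Gen.a (11072 + r)) :=
  edges_tab (sm ga) Qf (tab Gen.a) 11072 [(11072, 15127), (11073, 15129), (11074, 15130), (11075, 11059), (11076, 11061), (11077, 12171), (11078, 7226), (11079, 12228), (11080, 7075), (11081, 15284), (11082, 15285), (11083, 11098), (11084, 15292), (11085, 7078), (11086, 15294), (11087, 15295), (11088, 13868), (11089, 7081), (11090, 7082), (11091, 7083), (11092, 15306), (11093, 11020), (11094, 15302), (11095, 15303), (11096, 15304), (11097, 11037), (11098, 11083), (11099, 11038), (11100, 15320), (11101, 10185), (11102, 9999), (11103, 7088), (11104, 15323), (11105, 10009), (11106, 7137), (11107, 14250), (11108, 7101), (11109, 14412), (11110, 15329), (11111, 7094), (11112, 15331), (11113, 15332), (11114, 12522), (11115, 7096), (11116, 7097), (11117, 15335), (11118, 15336), (11119, 7098), (11120, 14844), (11121, 15341), (11122, 11300), (11123, 15346), (11124, 14408), (11125, 14409), (11126, 14410), (11127, 11130), (11128, 11235),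 (11129, 11237), (11130, 11127), (11131, 7106), (11132, 15359), (11133, 15360), (11134, 7107), (11135, 15363)]
    ⟨e3 q11072 L197528 q15127, e3 q11073 (flp_a L197544) q15129, e3 q11074 (flp_a L197549) q15130, e3 q11075 L167677 q11059, e3 q11076 L167684 q11061, e3 q11077 (flp_a L175067) q12171, e3 q11078 L167698 q7226, e3 q11079 (flp_a L175446) q12228, e3 q11080 L167712 q7075, e3 q11081 (flp_a L198500) q15284, e3 q11082 (flp_a L198508) q15285, e3 q11083 (flp_a L167810) q11098, e3 q11084 L198544 q15292, e3 q11085 (flp_a L167734) q7078, e3 q11086 (flp_a L198565) q15294, e3 q11087 (flp_a L198573) q15295, e3 q11088 (flp_a L188085) q13868, e3 q11089 L167756 q7081, e3 q11090 L167762 q7082, e3 q11091 L167768 q7083, e3 q11092 L198647 q15306, e3 q11093 L167783 q11020, e3 q11094 (flp_a L198617) q15302, e3 q11095 (flp_a L198625) q15303, e3 q11096 (flp_a L198635) q15304, e3 q11097 (flp_a L167806) q11037, e3 q11098 L167810 q11083, e3 q11099 L167818 q11038, e3 q11100 L198763 q15320, e3 q11101 L167832 q10185, e3 q11102 (flp_a L167846)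 q9999, e3 q11103 (flp_a L167848) q7088, e3 q11104 (flp_a L198787) q15323, e3 q11105 L167864 q10009, e3 q11106 L167874 q7137, e3 q11107 (flp_a L190979) q14250, e3 q11108 L167886 q7101, e3 q11109 (flp_a L192107) q14412, e3 q11110 L198829 q15329, e3 q11111 (flp_a L167902) q7094, e3 q11112 (flp_a L198837) q15331, e3 q11113 (flp_a L198841) q15332, e3 q11114 (flp_a L177771) q12522, e3 q11115 L167926 q7096, e3 q11116 L167930 q7097, e3 q11117 (flp_a L198857) q15335, e3 q11118 (flp_a L198861) q15336, e3 q11119 (flp_a L167944) q7098, e3 q11120 (flp_a L195313) q14844, e3 q11121 (flp_a L198883) q15341, e3 q11122 (flp_a L169099) q11300, e3 q11123 L198930 q15346, e3 q11124 L192080 q14408, e3 q11125 (flp_a L192084) q14409, e3 q11126 (flp_a L192089) q14410, e3 q11127 L168074 q11130, e3 q11128 L168660 q11235, e3 q11129 (flp_a L168672) q11237, e3 q11130 (flp_a L168074) q11127, e3 q11131 (flp_a L168024) q7106, e3 q11132 (flp_a L199000) q15359, e3 q11133 (flp_a L199006) q15360, e3 q11134 (flp_a L168080) q7107, e3 q11135 (flp_a L199030)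 q15363, trivial⟩ (by decide +kernel)

theorem ce_a_174 : ∀ r, r < 64 → sm ga (Qf (11136 + r)) = Qf (tab Gen.a (11136 + r)) :=
  edges_tab (sm ga) Qf (tab Gen.a) 11136 [(11136, 9936), (11137, 15190), (11138, 15368), (11139, 7109), (11140, 11334), (11141, 15372), (11142, 11167), (11143, 15378), (11144, 7111), (11145, 15380), (11146, 11151), (11147, 7113), (11148, 7114), (11149, 15384), (11150, 15385), (11151, 11146), (11152, 15056), (11153, 10936), (11154, 7117), (11155, 15393), (11156, 15394), (11157, 15395), (11158, 7122), (11159, 7123), (11160, 15405), (11161, 15055), (11162, 15409), (11163, 11390), (11164, 11391), (11165, 15403), (11166, 11197), (11167, 11142), (11168, 11198), (11169, 15423), (11170, 7126), (11171, 15425), (11172, 14438), (11173, 7127), (11174, 15428), (11175, 9992), (11176, 9983), (11177, 14270), (11178, 14434), (11179, 7141), (11180, 15434), (11181, 7134), (11182, 15436), (11183, 15437), (11184, 12521), (11185, 7136), (11186, 15440), (11187, 15326), (11188, 7138), (11189, 14878), (11190, 15445),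 (11191, 11459), (11192, 15450), (11193, 14430), (11194, 14431), (11195, 14432), (11196, 11199), (11197, 11166), (11198, 11168), (11199, 11196)]
    ⟨e3 q11136 L168092 q9936, e3 q11137 (flp_a L197917) q15190, e3 q11138 L199058 q15368, e3 q11139 L168110 q7109, e3 q11140 (flp_a L169303) q11334, e3 q11141 (flp_a L199072) q15372, e3 q11142 (flp_a L168246) q11167, e3 q11143 L199100 q15378, e3 q11144 (flp_a L168128) q7111, e3 q11145 (flp_a L199110) q15380, e3 q11146 (flp_a L168170) q11151, e3 q11147 L168148 q7113, e3 q11148 L168152 q7114, e3 q11149 (flp_a L199128) q15384, e3 q11150 (flp_a L199132) q15385, e3 q11151 L168170 q11146, e3 q11152 (flp_a L197075) q15056, e3 q11153 L168186 q10936, e3 q11154 (flp_a L168198) q7117, e3 q11155 (flp_a L199171) q15393, e3 q11156 (flp_a L199175) q15394, e3 q11157 (flp_a L199179) q15395, e3 q11158 L168210 q7122, e3 q11159 L168214 q7123, e3 q11160 L199221 q15405, e3 q11161 (flp_a L197067) q15055, e3 q11162 L199233 q15409, e3 q11163 (flp_a L169633) q11390, e3 q11164 (flp_a L169639) q11391,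 e3 q11165 (flp_a L199211) q15403, e3 q11166 (flp_a L168419) q11197, e3 q11167 L168246 q11142, e3 q11168 (flp_a L168426) q11198, e3 q11169 L199313 q15423, e3 q11170 (flp_a L168258) q7126, e3 q11171 (flp_a L199323) q15425, e3 q11172 (flp_a L192275) q14438, e3 q11173 (flp_a L168276) q7127, e3 q11174 (flp_a L199345) q15428, e3 q11175 L168292 q9992, e3 q11176 L168310 q9983, e3 q11177 (flp_a L191123) q14270, e3 q11178 (flp_a L192253) q14434, e3 q11179 L168324 q7141, e3 q11180 L199391 q15434, e3 q11181 (flp_a L168336) q7134, e3 q11182 (flp_a L199399) q15436, e3 q11183 (flp_a L199403) q15437, e3 q11184 (flp_a L177761) q12521, e3 q11185 L168360 q7136, e3 q11186 (flp_a L199419) q15440, e3 q11187 (flp_a L198809) q15326, e3 q11188 (flp_a L168368) q7138, e3 q11189 (flp_a L195624) q14878, e3 q11190 (flp_a L199435) q15445, e3 q11191 (flp_a L170104) q11459, e3 q11192 L199482 q15450, e3 q11193 L192226 q14430, e3 q11194 (flp_a L192230) q14431, e3 q11195 (flp_a L192235) q14432, e3 q11196 (flp_a L168456) q11199, e3 q11197 L168419 q11166,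 e3 q11198 L168426 q11168, e3 q11199 L168456 q11196, trivial⟩ (by decide +kernel)

theorem ce_a_175 : ∀ r, r < 64 → sm ga (Qf (11200 + r)) = Qf (tab Gen.a (11200 + r)) :=
  edges_tab (sm ga) Qf (tab Gen.a) 11200 [(11200, 7146), (11201, 15463), (11202, 15464), (11203, 7147), (11204, 15467), (11205, 15156), (11206, 9939), (11207, 15472), (11208, 7149), (11209, 11493), (11210, 15476), (11211, 11236), (11212, 15482), (11213, 7151), (11214, 15484), (11215, 11220), (11216, 7153), (11217, 7154), (11218, 15488), (11219, 15489), (11220, 11215), (11221, 10926), (11222, 15044), (11223, 7157), (11224, 15497), (11225, 15498), (11226, 15499), (11227, 7162), (11228, 7163), (11229, 15509), (11230, 15043), (11231, 15513), (11232, 11549), (11233, 11550), (11234, 15507), (11235, 11128), (11236, 11211), (11237, 11129), (11238, 15526), (11239, 7166), (11240, 15528), (11241, 14416), (11242, 9930), (11243, 14537), (11244, 15534), (11245, 9083), (11246, 13219), (11247, 11249), (11248, 15539), (11249, 11247), (11250, 15543), (11251, 7175),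 (11252, 15547), (11253, 15548), (11254, 11329), (11255, 10052), (11256, 7179), (11257, 15555), (11258, 10075), (11259, 7302), (11260, 15561), (11261, 12600), (11262, 11264), (11263, 15566)]
    ⟨e3 q11200 (flp_a L168438) q7146, e3 q11201 (flp_a L199566) q15463, e3 q11202 (flp_a L199572) q15464, e3 q11203 (flp_a L168462) q7147, e3 q11204 (flp_a L199596) q15467, e3 q11205 (flp_a L197737) q15156, e3 q11206 L168484 q9939, e3 q11207 L199628 q15472, e3 q11208 L168498 q7149, e3 q11209 (flp_a L170302) q11493, e3 q11210 (flp_a L199656) q15476, e3 q11211 (flp_a L168664) q11236, e3 q11212 L199688 q15482, e3 q11213 (flp_a L168520) q7151, e3 q11214 (flp_a L199702) q15484, e3 q11215 (flp_a L168568) q11220, e3 q11216 L168546 q7153, e3 q11217 L168550 q7154, e3 q11218 (flp_a L199724) q15488, e3 q11219 (flp_a L199728) q15489, e3 q11220 L168568 q11215, e3 q11221 L168578 q10926, e3 q11222 (flp_a L196997) q15044, e3 q11223 (flp_a L168600) q7157, e3 q11224 (flp_a L199773) q15497, e3 q11225 (flp_a L199777) q15498, e3 q11226 (flp_a L199787)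 q15499, e3 q11227 L168618 q7162, e3 q11228 L168624 q7163, e3 q11229 L199845 q15509, e3 q11230 (flp_a L196989) q15043, e3 q11231 L199867 q15513, e3 q11232 (flp_a L170648) q11549, e3 q11233 (flp_a L170654) q11550, e3 q11234 (flp_a L199833) q15507, e3 q11235 (flp_a L168660) q11128, e3 q11236 L168664 q11211, e3 q11237 L168672 q11129, e3 q11238 L199947 q15526, e3 q11239 (flp_a L168684) q7166, e3 q11240 (flp_a L199961) q15528, e3 q11241 (flp_a L192129) q14416, e3 q11242 L168710 q9930, e3 q11243 (flp_a L192919) q14537, e3 q11244 L200015 q15534, e3 q11245 L168732 q9083, e3 q11246 (flp_a L182891) q13219, e3 q11247 (flp_a L168766) q11249, e3 q11248 L200055 q15539, e3 q11249 L168766 q11247, e3 q11250 L200071 q15543, e3 q11251 (flp_a L168780) q7175, e3 q11252 (flp_a L200107) q15547, e3 q11253 (flp_a L200113) q15548, e3 q11254 (flp_a L169273) q11329, e3 q11255 L168800 q10052, e3 q11256 L168808 q7179, e3 q11257 (flp_a L200163) q15555, e3 q11258 L168822 q10075, e3 q11259 L168830 q7302, e3 q11260 L200195 q15561, e3 q11261 (flp_a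 L178451) q12600, e3 q11262 (flp_a L168863) q11264, e3 q11263 L200233 q15566, trivial⟩ (by decide +kernel)

theorem ce_a_176 : ∀ r, r < 64 → sm ga (Qf (11264 + r)) = Qf (tab Gen.a (11264 + r)) :=
  edges_tab (sm ga) Qf (tab Gen.a) 11264 [(11264, 11262), (11265, 11313), (11266, 7188), (11267, 15570), (11268, 10548), (11269, 12821), (11270, 12563), (11271, 15572), (11272, 7194), (11273, 15575), (11274, 15576), (11275, 15563), (11276, 7196), (11277, 7197), (11278, 15582), (11279, 15583), (11280, 10945), (11281, 14198), (11282, 11518), (11283, 7201), (11284, 7202), (11285, 15589), (11286, 15590), (11287, 15591), (11288, 15599), (11289, 7204), (11290, 7206), (11291, 7207), (11292, 10265), (11293, 12891), (11294, 15601), (11295, 15602), (11296, 12569), (11297, 11299), (11298, 12907), (11299, 11297), (11300, 11122), (11301, 12881), (11302, 12861), (11303, 7213), (11304, 11564), (11305, 15614), (11306, 15616), (11307, 15620), (11308, 7217), (11309, 15622), (11310, 15623), (11311, 7218), (11312, 15627), (11313, 11265), (11314,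 15569), (11315, 7219), (11316, 15630), (11317, 7221), (11318, 7222), (11319, 13477), (11320, 15632), (11321, 10953), (11322, 7224), (11323, 15639), (11324, 15638), (11325, 9941), (11326, 13878), (11327, 7227)]
    ⟨e3 q11264 L168863 q11262, e3 q11265 (flp_a L171900) q11313, e3 q11266 (flp_a L168877) q7188, e3 q11267 (flp_a L200263) q15570, e3 q11268 L168891 q10548, e3 q11269 (flp_a L180205) q12821, e3 q11270 L178263 q12563, e3 q11271 L200277 q15572, e3 q11272 (flp_a L168915) q7194, e3 q11273 (flp_a L200301) q15575, e3 q11274 (flp_a L200305) q15576, e3 q11275 (flp_a L200213) q15563, e3 q11276 L168933 q7196, e3 q11277 L168939 q7197, e3 q11278 (flp_a L200343) q15582, e3 q11279 (flp_a L200347) q15583, e3 q11280 L168959 q10945, e3 q11281 (flp_a L190633) q14198, e3 q11282 (flp_a L170466) q11518, e3 q11283 L168979 q7201, e3 q11284 L168983 q7202, e3 q11285 (flp_a L200377) q15589, e3 q11286 (flp_a L200383) q15590, e3 q11287 (flp_a L200389) q15591, e3 q11288 L200427 q15599, e3 q11289 L169009 q7204, e3 q11290 L169015 q7206,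 e3 q11291 L169023 q7207, e3 q11292 L169029 q10265, e3 q11293 (flp_a L180699) q12891, e3 q11294 (flp_a L200451) q15601, e3 q11295 (flp_a L200461) q15602, e3 q11296 (flp_a L178115) q12569, e3 q11297 (flp_a L169087) q11299, e3 q11298 (flp_a L180815) q12907, e3 q11299 L169087 q11297, e3 q11300 L169099 q11122, e3 q11301 (flp_a L180641) q12881, e3 q11302 (flp_a L180501) q12861, e3 q11303 (flp_a L169113) q7213, e3 q11304 (flp_a L170756) q11564, e3 q11305 L200567 q15614, e3 q11306 L200591 q15616, e3 q11307 L200617 q15620, e3 q11308 (flp_a L169145) q7217, e3 q11309 (flp_a L200633) q15622, e3 q11310 (flp_a L200643) q15623, e3 q11311 (flp_a L169157) q7218, e3 q11312 (flp_a L200677) q15627, e3 q11313 L171900 q11265, e3 q11314 (flp_a L200257) q15569, e3 q11315 (flp_a L169179) q7219, e3 q11316 (flp_a L200705) q15630, e3 q11317 L169193 q7221, e3 q11318 L169201 q7222, e3 q11319 (flp_a L184864) q13477, e3 q11320 (flp_a L200723) q15632, e3 q11321 L169221 q10953, e3 q11322 L169229 q7224, e3 q11323 L200791 q15639, e3 q11324 (flp_a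 L200787) q15638, e3 q11325 L169245 q9941, e3 q11326 L188197 q13878, e3 q11327 (flp_a L169259) q7227, trivial⟩ (by decide +kernel)

theorem ce_a_177 : ∀ r, r < 64 → sm ga (Qf (11328 + r)) = Qf (tab Gen.a (11328 + r)) :=
  edges_tab (sm ga) Qf (tab Gen.a) 11328 [(11328, 15648), (11329, 11254), (11330, 15649), (11331, 7229), (11332, 7230), (11333, 15657), (11334, 11140), (11335, 15656), (11336, 11395), (11337, 11396), (11338, 15667), (11339, 7232), (11340, 15671), (11341, 15672), (11342, 7234), (11343, 15676), (11344, 11351), (11345, 7238), (11346, 7239), (11347, 15679), (11348, 15680), (11349, 15681), (11350, 13661), (11351, 11344), (11352, 7409), (11353, 7245), (11354, 7246), (11355, 7247), (11356, 7244), (11357, 15697), (11358, 11442), (11359, 15698), (11360, 15111), (11361, 15693), (11362, 15694), (11363, 15708), (11364, 11364), (11365, 11646), (11366, 7386), (11367, 7251), (11368, 7252), (11369, 7253), (11370, 13224), (11371, 15714), (11372, 15715), (11373, 15716), (11374, 12792), (11375, 11376), (11376, 11375),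 (11377, 15728), (11378, 7261), (11379, 7262), (11380, 7263), (11381, 12715), (11382, 12803), (11383, 12805), (11384, 15066), (11385, 7259), (11386, 15742), (11387, 15743), (11388, 15744), (11389, 15745), (11390, 11163), (11391, 11164)]
    ⟨e3 q11328 (flp_a L200852) q15648, e3 q11329 L169273 q11254, e3 q11330 (flp_a L200860) q15649, e3 q11331 L169285 q7229, e3 q11332 L169293 q7230, e3 q11333 L200904 q15657, e3 q11334 L169303 q11140, e3 q11335 (flp_a L200898) q15656, e3 q11336 (flp_a L169657) q11395, e3 q11337 (flp_a L169665) q11396, e3 q11338 L200948 q15667, e3 q11339 (flp_a L169329) q7232, e3 q11340 (flp_a L200968) q15671, e3 q11341 (flp_a L200978) q15672, e3 q11342 L169345 q7234, e3 q11343 (flp_a L201020) q15676, e3 q11344 (flp_a L169401) q11351, e3 q11345 L169367 q7238, e3 q11346 L169373 q7239, e3 q11347 (flp_a L201048) q15679, e3 q11348 (flp_a L201066) q15680, e3 q11349 (flp_a L201078) q15681, e3 q11350 (flp_a L186446) q13661, e3 q11351 L169401 q11344, e3 q11352 (flp_a L169413) q7409, e3 q11353 L169417 q7245,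 e3 q11354 L169423 q7246, e3 q11355 L169433 q7247, e3 q11356 (flp_a L169441) q7244, e3 q11357 (flp_a L201201) q15697, e3 q11358 (flp_a L169988) q11442, e3 q11359 (flp_a L201211) q15698, e3 q11360 (flp_a L197391) q15111, e3 q11361 (flp_a L201161) q15693, e3 q11362 (flp_a L201173) q15694, e3 q11363 L201290 q15708, e3 q11364 L173311 q11364, e3 q11365 (flp_a L171298) q11646, e3 q11366 L169507 q7386, e3 q11367 L169511 q7251, e3 q11368 L169515 q7252, e3 q11369 L169521 q7253, e3 q11370 (flp_a L182926) q13224, e3 q11371 (flp_a L201336) q15714, e3 q11372 (flp_a L201342) q15715, e3 q11373 (flp_a L201348) q15716, e3 q11374 (flp_a L179941) q12792, e3 q11375 (flp_a L169555) q11376, e3 q11376 L169555 q11375, e3 q11377 L201412 q15728, e3 q11378 L169567 q7261, e3 q11379 L169573 q7262, e3 q11380 L169583 q7263, e3 q11381 (flp_a L179331) q12715, e3 q11382 (flp_a L180033) q12803, e3 q11383 (flp_a L180053) q12805, e3 q11384 (flp_a L197123) q15066, e3 q11385 (flp_a L169609) q7259, e3 q11386 (flp_a L201496) q15742, e3 q11387 (flp_a L201500)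 q15743, e3 q11388 (flp_a L201506) q15744, e3 q11389 (flp_a L201512) q15745, e3 q11390 L169633 q11163, e3 q11391 L169639 q11164, trivial⟩ (by decide +kernel)

theorem ce_a_178 : ∀ r, r < 64 → sm ga (Qf (11392 + r)) = Qf (tab Gen.a (11392 + r)) :=
  edges_tab (sm ga) Qf (tab Gen.a) 11392 [(11392, 15732), (11393, 15733), (11394, 15753), (11395, 11336), (11396, 11337), (11397, 15766), (11398, 7265), (11399, 15769), (11400, 15770), (11401, 7267), (11402, 10762), (11403, 9932), (11404, 14588), (11405, 15778), (11406, 9137), (11407, 13239), (11408, 15780), (11409, 11410), (11410, 11409), (11411, 7276), (11412, 15786), (11413, 15787), (11414, 11489), (11415, 15792), (11416, 7280), (11417, 15795), (11418, 10041), (11419, 10019), (11420, 15801), (11421, 12602), (11422, 15805), (11423, 11424), (11424, 11423), (11425, 7288), (11426, 15809), (11427, 11473), (11428, 12822), (11429, 10603), (11430, 12557), (11431, 15812), (11432, 7295), (11433, 15815), (11434, 15816), (11435, 15803), (11436, 7297), (11437, 7298), (11438, 15822),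 (11439, 15823), (11440, 10957), (11441, 14196), (11442, 11358), (11443, 7301), (11444, 15829), (11445, 15830), (11446, 15560), (11447, 15837), (11448, 7304), (11449, 7306), (11450, 7307), (11451, 10283), (11452, 12906), (11453, 15839), (11454, 15840), (11455, 12575)]
    ⟨e3 q11392 (flp_a L201430) q15732, e3 q11393 (flp_a L201436) q15733, e3 q11394 (flp_a L216913) q15753, e3 q11395 L169657 q11336, e3 q11396 L169665 q11337, e3 q11397 L201616 q15766, e3 q11398 (flp_a L169677) q7265, e3 q11399 (flp_a L201630) q15769, e3 q11400 (flp_a L201638) q15770, e3 q11401 L169695 q7267, e3 q11402 L169707 q10762, e3 q11403 L169719 q9932, e3 q11404 (flp_a L193233) q14588, e3 q11405 L201714 q15778, e3 q11406 L169743 q9137, e3 q11407 (flp_a L183030) q13239, e3 q11408 L201728 q15780, e3 q11409 (flp_a L169775) q11410, e3 q11410 L169775 q11409, e3 q11411 (flp_a L169785) q7276, e3 q11412 (flp_a L201764) q15786, e3 q11413 (flp_a L201772) q15787, e3 q11414 (flp_a L174000) q11489, e3 q11415 L201816 q15792, e3 q11416 L169811 q7280, e3 q11417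 (flp_a L201842) q15795, e3 q11418 L169825 q10041, e3 q11419 L169835 q10019, e3 q11420 L201878 q15801, e3 q11421 (flp_a L178477) q12602, e3 q11422 L201912 q15805, e3 q11423 (flp_a L169870) q11424, e3 q11424 L169870 q11423, e3 q11425 (flp_a L169878) q7288, e3 q11426 (flp_a L201938) q15809, e3 q11427 L172192 q11473, e3 q11428 (flp_a L180211) q12822, e3 q11429 L169900 q10603, e3 q11430 L178287 q12557, e3 q11431 L201960 q15812, e3 q11432 (flp_a L169920) q7295, e3 q11433 (flp_a L201980) q15815, e3 q11434 (flp_a L201984) q15816, e3 q11435 (flp_a L201896) q15803, e3 q11436 L169938 q7297, e3 q11437 L169944 q7298, e3 q11438 (flp_a L202026) q15822, e3 q11439 (flp_a L202030) q15823, e3 q11440 L169964 q10957, e3 q11441 (flp_a L190619) q14196, e3 q11442 L169988 q11358, e3 q11443 L169994 q7301, e3 q11444 (flp_a L202068) q15829, e3 q11445 (flp_a L202074) q15830, e3 q11446 (flp_a L200191) q15560, e3 q11447 L202104 q15837, e3 q11448 L170014 q7304, e3 q11449 L170020 q7306, e3 q11450 L170026 q7307, e3 q11451 L170034 q10283, e3 q11452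 (flp_a L180807) q12906, e3 q11453 (flp_a L202128) q15839, e3 q11454 (flp_a L202136) q15840, e3 q11455 (flp_a L178173) q12575, trivial⟩ (by decide +kernel)

theorem ce_a_179 : ∀ r, r < 64 → sm ga (Qf (11456 + r)) = Qf (tab Gen.a (11456 + r)) :=
  edges_tab (sm ga) Qf (tab Gen.a) 11456 [(11456, 12892), (11457, 11458), (11458, 11457), (11459, 11191), (11460, 12869), (11461, 12856), (11462, 7313), (11463, 11616), (11464, 15848), (11465, 15850), (11466, 15854), (11467, 7317), (11468, 15856), (11469, 15857), (11470, 7318), (11471, 15861), (11472, 15808), (11473, 11427), (11474, 7319), (11475, 15864), (11476, 7321), (11477, 7322), (11478, 13425), (11479, 15866), (11480, 10965), (11481, 7324), (11482, 15873), (11483, 15872), (11484, 13829), (11485, 9943), (11486, 7327), (11487, 15882), (11488, 15883), (11489, 11414), (11490, 7329), (11491, 7330), (11492, 15887), (11493, 11209), (11494, 15655), (11495, 11554), (11496, 11555), (11497, 15897), (11498, 7332), (11499, 15901), (11500, 15902), (11501, 7334), (11502, 15906), (11503,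 11510), (11504, 7338), (11505, 7339), (11506, 15909), (11507, 15910), (11508, 15911), (11509, 13655), (11510, 11503), (11511, 7378), (11512, 7345), (11513, 7346), (11514, 7347), (11515, 7344), (11516, 15926), (11517, 15927), (11518, 11282), (11519, 15123)]
    ⟨e3 q11456 (flp_a L180707) q12892, e3 q11457 (flp_a L170094) q11458, e3 q11458 L170094 q11457, e3 q11459 L170104 q11191, e3 q11460 (flp_a L180573) q12869, e3 q11461 (flp_a L180457) q12856, e3 q11462 (flp_a L170118) q7313, e3 q11463 (flp_a L171095) q11616, e3 q11464 L202208 q15848, e3 q11465 L202232 q15850, e3 q11466 L202258 q15854, e3 q11467 (flp_a L170150) q7317, e3 q11468 (flp_a L202274) q15856, e3 q11469 (flp_a L202284) q15857, e3 q11470 (flp_a L170162) q7318, e3 q11471 (flp_a L202318) q15861, e3 q11472 (flp_a L201932) q15808, e3 q11473 (flp_a L172192) q11427, e3 q11474 (flp_a L170184) q7319, e3 q11475 (flp_a L202346) q15864, e3 q11476 L170198 q7321, e3 q11477 L170206 q7322, e3 q11478 (flp_a L184472) q13425, e3 q11479 (flp_a L202364) q15866, e3 q11480 L170226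 q10965, e3 q11481 L170234 q7324, e3 q11482 L202432 q15873, e3 q11483 (flp_a L202428) q15872, e3 q11484 (flp_a L187851) q13829, e3 q11485 L170256 q9943, e3 q11486 (flp_a L170264) q7327, e3 q11487 (flp_a L202499) q15882, e3 q11488 (flp_a L202507) q15883, e3 q11489 L174000 q11414, e3 q11490 L170284 q7329, e3 q11491 L170292 q7330, e3 q11492 L202551 q15887, e3 q11493 L170302 q11209, e3 q11494 (flp_a L223795) q15655, e3 q11495 (flp_a L170672) q11554, e3 q11496 (flp_a L170680) q11555, e3 q11497 L202595 q15897, e3 q11498 (flp_a L170328) q7332, e3 q11499 (flp_a L202615) q15901, e3 q11500 (flp_a L202625) q15902, e3 q11501 L170344 q7334, e3 q11502 (flp_a L202667) q15906, e3 q11503 (flp_a L170400) q11510, e3 q11504 L170366 q7338, e3 q11505 L170372 q7339, e3 q11506 (flp_a L202695) q15909, e3 q11507 (flp_a L202713) q15910, e3 q11508 (flp_a L202725) q15911, e3 q11509 (flp_a L186400) q13655, e3 q11510 L170400 q11503, e3 q11511 (flp_a L170414) q7378, e3 q11512 L170418 q7345, e3 q11513 L170424 q7346, e3 q11514 L170434 q7347, e3 q11515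 (flp_a L170442) q7344, e3 q11516 (flp_a L202844) q15926, e3 q11517 (flp_a L202856) q15927, e3 q11518 L170466 q11282, e3 q11519 (flp_a L197491) q15123, trivial⟩ (by decide +kernel)

theorem ce_a_180 : ∀ r, r < 64 → sm ga (Qf (11520 + r)) = Qf (tab Gen.a (11520 + r)) :=
  edges_tab (sm ga) Qf (tab Gen.a) 11520 [(11520, 15923), (11521, 15705), (11522, 11522), (11523, 15936), (11524, 11595), (11525, 7417), (11526, 7351), (11527, 7352), (11528, 7353), (11529, 13244), (11530, 15940), (11531, 15941), (11532, 15942), (11533, 11535), (11534, 12767), (11535, 11533), (11536, 15954), (11537, 7361), (11538, 7362), (11539, 7363), (11540, 12686), (11541, 12778), (11542, 12780), (11543, 15061), (11544, 7359), (11545, 15967), (11546, 15968), (11547, 15969), (11548, 15970), (11549, 11232), (11550, 11233), (11551, 15957), (11552, 15958), (11553, 15979), (11554, 11495), (11555, 11496), (11556, 15991), (11557, 7365), (11558, 15994), (11559, 15995), (11560, 7367), (11561, 10678), (11562, 12593), (11563, 7372), (11564, 11304), (11565,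 16001), (11566, 7376), (11567, 9401), (11568, 10942), (11569, 7377), (11570, 16004), (11571, 15637), (11572, 15920), (11573, 15921), (11574, 15922), (11575, 7385), (11576, 7381), (11577, 7382), (11578, 7383), (11579, 16011), (11580, 16012), (11581, 16013), (11582, 16014), (11583, 11584)]
    ⟨e3 q11520 (flp_a L202814) q15923, e3 q11521 (flp_a L201270) q15705, e3 q11522 L173312 q11522, e3 q11523 L202939 q15936, e3 q11524 L170961 q11595, e3 q11525 L170518 q7417, e3 q11526 L170522 q7351, e3 q11527 L170526 q7352, e3 q11528 L170532 q7353, e3 q11529 (flp_a L183071) q13244, e3 q11530 (flp_a L202971) q15940, e3 q11531 (flp_a L202977) q15941, e3 q11532 (flp_a L202983) q15942, e3 q11533 (flp_a L170570) q11535, e3 q11534 (flp_a L179723) q12767, e3 q11535 L170570 q11533, e3 q11536 L203049 q15954, e3 q11537 L170582 q7361, e3 q11538 L170588 q7362, e3 q11539 L170598 q7363, e3 q11540 (flp_a L179133) q12686, e3 q11541 (flp_a L179815) q12778, e3 q11542 (flp_a L179835) q12780, e3 q11543 (flp_a L197101) q15061, e3 q11544 (flp_a L170624)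 q7359, e3 q11545 (flp_a L203133) q15967, e3 q11546 (flp_a L203137) q15968, e3 q11547 (flp_a L203143) q15969, e3 q11548 (flp_a L203149) q15970, e3 q11549 L170648 q11232, e3 q11550 L170654 q11233, e3 q11551 (flp_a L203067) q15957, e3 q11552 (flp_a L203073) q15958, e3 q11553 (flp_a L222230) q15979, e3 q11554 L170672 q11495, e3 q11555 L170680 q11496, e3 q11556 L203253 q15991, e3 q11557 (flp_a L170692) q7365, e3 q11558 (flp_a L203267) q15994, e3 q11559 (flp_a L203275) q15995, e3 q11560 L170710 q7367, e3 q11561 L170722 q10678, e3 q11562 (flp_a L178373) q12593, e3 q11563 L170744 q7372, e3 q11564 L170756 q11304, e3 q11565 L203330 q16001, e3 q11566 L170773 q7376, e3 q11567 L170783 q9401, e3 q11568 L170793 q10942, e3 q11569 (flp_a L170803) q7377, e3 q11570 (flp_a L203354) q16004, e3 q11571 (flp_a L200783) q15637, e3 q11572 (flp_a L202790) q15920, e3 q11573 (flp_a L202796) q15921, e3 q11574 (flp_a L202804) q15922, e3 q11575 L170837 q7385, e3 q11576 L170847 q7381, e3 q11577 L170851 q7382, e3 q11578 L170859 q7383, e3 q11579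 (flp_a L203405) q16011, e3 q11580 (flp_a L203409) q16012, e3 q11581 (flp_a L203417) q16013, e3 q11582 (flp_a L203423) q16014, e3 q11583 (flp_a L170895) q11584, trivial⟩ (by decide +kernel)

theorem ce_a_181 : ∀ r, r < 64 → sm ga (Qf (11584 + r)) = Qf (tab Gen.a (11584 + r)) :=
  edges_tab (sm ga) Qf (tab Gen.a) 11584 [(11584, 11583), (11585, 16024), (11586, 11672), (11587, 15712), (11588, 15026), (11589, 15713), (11590, 7390), (11591, 7391), (11592, 7392), (11593, 7393), (11594, 9096), (11595, 11524), (11596, 16036), (11597, 16037), (11598, 16038), (11599, 16039), (11600, 16040), (11601, 16041), (11602, 11603), (11603, 11602), (11604, 14293), (11605, 16062), (11606, 13128), (11607, 7397), (11608, 7398), (11609, 7399), (11610, 16068), (11611, 16069), (11612, 11613), (11613, 11612), (11614, 12594), (11615, 7403), (11616, 11463), (11617, 16077), (11618, 7407), (11619, 9404), (11620, 10954), (11621, 7408), (11622, 16080), (11623, 15871), (11624, 15690), (11625, 15691), (11626, 15692), (11627, 7416), (11628, 7412), (11629,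 7413), (11630, 7414), (11631, 16087), (11632, 16088), (11633, 16089), (11634, 16090), (11635, 11636), (11636, 11635), (11637, 16100), (11638, 11679), (11639, 15938), (11640, 15939), (11641, 15030), (11642, 7421), (11643, 7422), (11644, 7423), (11645, 7424), (11646, 11365), (11647, 9150)]
    ⟨e3 q11584 L170895 q11583, e3 q11585 L203483 q16024, e3 q11586 (flp_a L171435) q11672, e3 q11587 (flp_a L201320) q15712, e3 q11588 L196891 q15026, e3 q11589 (flp_a L201328) q15713, e3 q11590 L170927 q7390, e3 q11591 L170931 q7391, e3 q11592 L170937 q7392, e3 q11593 L170943 q7393, e3 q11594 (flp_a L170951) q9096, e3 q11595 (flp_a L170961) q11524, e3 q11596 (flp_a L203551) q16036, e3 q11597 (flp_a L203557) q16037, e3 q11598 (flp_a L203563) q16038, e3 q11599 (flp_a L203569) q16039, e3 q11600 (flp_a L203575) q16040, e3 q11601 (flp_a L203585) q16041, e3 q11602 (flp_a L171003) q11603, e3 q11603 L171003 q11602, e3 q11604 L191283 q14293, e3 q11605 L203723 q16062, e3 q11606 (flp_a L187805) q13128, e3 q11607 L171025 q7397, e3 q11608 L171031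 q7398, e3 q11609 L171037 q7399, e3 q11610 (flp_a L203761) q16068, e3 q11611 (flp_a L203771) q16069, e3 q11612 (flp_a L171065) q11613, e3 q11613 L171065 q11612, e3 q11614 (flp_a L178383) q12594, e3 q11615 L171083 q7403, e3 q11616 L171095 q11463, e3 q11617 L203830 q16077, e3 q11618 L171112 q7407, e3 q11619 L171122 q9404, e3 q11620 L171132 q10954, e3 q11621 (flp_a L171142) q7408, e3 q11622 (flp_a L203854) q16080, e3 q11623 (flp_a L202424) q15871, e3 q11624 (flp_a L201141) q15690, e3 q11625 (flp_a L201147) q15691, e3 q11626 (flp_a L201155) q15692, e3 q11627 L171180 q7416, e3 q11628 L171190 q7412, e3 q11629 L171194 q7413, e3 q11630 L171204 q7414, e3 q11631 (flp_a L203905) q16087, e3 q11632 (flp_a L203909) q16088, e3 q11633 (flp_a L203917) q16089, e3 q11634 (flp_a L203925) q16090, e3 q11635 (flp_a L171238) q11636, e3 q11636 L171238 q11635, e3 q11637 L203983 q16100, e3 q11638 (flp_a L171468) q11679, e3 q11639 (flp_a L202955) q15938, e3 q11640 (flp_a L202963) q15939, e3 q11641 L196917 q15030, e3 q11642 L171270 q7421, e3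 q11643 L171274 q7422, e3 q11644 L171280 q7423, e3 q11645 L171286 q7424, e3 q11646 L171298 q11365, e3 q11647 (flp_a L171304) q9150, trivial⟩ (by decide +kernel)

theorem ce_a_182 : ∀ r, r < 64 → sm ga (Qf (11648 + r)) = Qf (tab Gen.a (11648 + r)) :=
  edges_tab (sm ga) Qf (tab Gen.a) 11648 [(11648, 16112), (11649, 16113), (11650, 16114), (11651, 16115), (11652, 16116), (11653, 16117), (11654, 11655), (11655, 11654), (11656, 16136), (11657, 14347), (11658, 13187), (11659, 7428), (11660, 7429), (11661, 7430), (11662, 16144), (11663, 16145), (11664, 11665), (11665, 11664), (11666, 11666), (11667, 16154), (11668, 7433), (11669, 16158), (11670, 16159), (11671, 16160), (11672, 11586), (11673, 11673), (11674, 16169), (11675, 7437), (11676, 16173), (11677, 16174), (11678, 16175), (11679, 11638), (11680, 10447), (11681, 10498), (11682, 12854), (11683, 13255), (11684, 7968), (11685, 12860), (11686, 13256), (11687, 8027), (11688, 11688), (11689, 11690), (11690, 11689), (11691, 16182), (11692, 16184), (11693, 11693), (11694,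 11694), (11695, 11695), (11696, 11696), (11697, 7481), (11698, 11714), (11699, 7485), (11700, 7912), (11701, 16188), (11702, 7919), (11703, 7490), (11704, 11723), (11705, 7494), (11706, 7751), (11707, 16191), (11708, 7762), (11709, 12215), (11710, 7506), (11711, 11865)]
    ⟨e3 q11648 (flp_a L204055) q16112, e3 q11649 (flp_a L204061) q16113, e3 q11650 (flp_a L204067) q16114, e3 q11651 (flp_a L204073) q16115, e3 q11652 (flp_a L204079) q16116, e3 q11653 (flp_a L204087) q16117, e3 q11654 (flp_a L171346) q11655, e3 q11655 L171346 q11654, e3 q11656 L204209 q16136, e3 q11657 L191656 q14347, e3 q11658 (flp_a L188151) q13187, e3 q11659 L171368 q7428, e3 q11660 L171374 q7429, e3 q11661 L171380 q7430, e3 q11662 (flp_a L204265) q16144, e3 q11663 (flp_a L204273) q16145, e3 q11664 (flp_a L171408) q11665, e3 q11665 L171408 q11664, e3 q11666 L171416 q11666, e3 q11667 L204334 q16154, e3 q11668 (flp_a L171421) q7433, e3 q11669 (flp_a L204358) q16158, e3 q11670 (flp_a L204364) q16159, e3 q11671 (flp_a L204368) q16160, e3 q11672 L171435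 q11586, e3 q11673 L171445 q11673, e3 q11674 L204421 q16169, e3 q11675 (flp_a L171454) q7437, e3 q11676 (flp_a L204445) q16173, e3 q11677 (flp_a L204451) q16174, e3 q11678 (flp_a L204455) q16175, e3 q11679 L171468 q11638, e3 q11680 L171478 q10447, e3 q11681 L171488 q10498, e3 q11682 (flp_a L180443) q12854, e3 q11683 (flp_a L183169) q13255, e3 q11684 (flp_a L171510) q7968, e3 q11685 (flp_a L180495) q12860, e3 q11686 (flp_a L183177) q13256, e3 q11687 (flp_a L171526) q8027, e3 q11688 L171530 q11688, e3 q11689 (flp_a L171550) q11690, e3 q11690 L171550 q11689, e3 q11691 L204491 q16182, e3 q11692 L204512 q16184, e3 q11693 L171576 q11693, e3 q11694 L171583 q11694, e3 q11695 L171592 q11695, e3 q11696 L171599 q11696, e3 q11697 L171608 q7481, e3 q11698 (flp_a L171733) q11714, e3 q11699 L171624 q7485, e3 q11700 L171636 q7912, e3 q11701 (flp_a L204557) q16188, e3 q11702 L171646 q7919, e3 q11703 L171652 q7490, e3 q11704 (flp_a L171803) q11723, e3 q11705 L171668 q7494, e3 q11706 L171680 q7751, e3 q11707 (flp_a L204583) q16191,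 e3 q11708 L171690 q7762, e3 q11709 (flp_a L175360) q12215, e3 q11710 L171702 q7506, e3 q11711 (flp_a L172799) q11865, trivial⟩ (by decide +kernel)

theorem ce_a_183 : ∀ r, r < 64 → sm ga (Qf (11712 + r)) = Qf (tab Gen.a (11712 + r)) :=
  edges_tab (sm ga) Qf (tab Gen.a) 11712 [(11712, 8010), (11713, 7541), (11714, 11698), (11715, 7542), (11716, 7543), (11717, 7849), (11718, 12274), (11719, 7520), (11720, 12078), (11721, 7952), (11722, 7586), (11723, 11704), (11724, 7587), (11725, 7588), (11726, 7685), (11727, 7535), (11728, 9076), (11729, 9077), (11730, 9078), (11731, 10810), (11732, 11906), (11733, 11733), (11734, 16195), (11735, 16197), (11736, 16198), (11737, 11807), (11738, 11805), (11739, 11808), (11740, 11743), (11741, 12286), (11742, 12288), (11743, 11740), (11744, 7550), (11745, 7551), (11746, 11761), (11747, 11763), (11748, 16215), (11749, 7553), (11750, 11750), (11751, 7556), (11752, 7558), (11753, 16218), (11754, 9002), (11755, 11767), (11756, 7563), (11757, 7564), (11758, 16222), (11759, 7562), (11760,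 16225), (11761, 11746), (11762, 11781), (11763, 11747), (11764, 11780), (11765, 11782), (11766, 16231), (11767, 11755), (11768, 7568), (11769, 16234), (11770, 7579), (11771, 9130), (11772, 9131), (11773, 9132), (11774, 10831), (11775, 12113)]
    ⟨e3 q11712 L171716 q8010, e3 q11713 (flp_a L171729) q7541, e3 q11714 L171733 q11698, e3 q11715 L171743 q7542, e3 q11716 L171748 q7543, e3 q11717 (flp_a L171760) q7849, e3 q11718 (flp_a L175783) q12274, e3 q11719 L171772 q7520, e3 q11720 (flp_a L174320) q12078, e3 q11721 L171786 q7952, e3 q11722 L171799 q7586, e3 q11723 L171803 q11704, e3 q11724 L171813 q7587, e3 q11725 L171818 q7588, e3 q11726 (flp_a L171830) q7685, e3 q11727 L171836 q7535, e3 q11728 L171846 q9076, e3 q11729 L171858 q9077, e3 q11730 L171870 q9078, e3 q11731 L171878 q10810, e3 q11732 (flp_a L173102) q11906, e3 q11733 L171907 q11733, e3 q11734 (flp_a L204615) q16195, e3 q11735 (flp_a L204633) q16197, e3 q11736 (flp_a L204642) q16198, e3 q11737 (flp_a L172407) q11807, e3 q11738 L172395 q11805, e3 q11739 (flp_a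 L172412) q11808, e3 q11740 (flp_a L171962) q11743, e3 q11741 (flp_a L175873) q12286, e3 q11742 (flp_a L175883) q12288, e3 q11743 L171962 q11740, e3 q11744 L171970 q7550, e3 q11745 L171980 q7551, e3 q11746 (flp_a L172079) q11761, e3 q11747 (flp_a L172092) q11763, e3 q11748 L204786 q16215, e3 q11749 (flp_a L171998) q7553, e3 q11750 L172004 q11750, e3 q11751 L172007 q7556, e3 q11752 L172015 q7558, e3 q11753 (flp_a L204817) q16218, e3 q11754 L172029 q9002, e3 q11755 (flp_a L172115) q11767, e3 q11756 L172043 q7563, e3 q11757 L172055 q7564, e3 q11758 L204849 q16222, e3 q11759 (flp_a L172065) q7562, e3 q11760 (flp_a L204873) q16225, e3 q11761 L172079 q11746, e3 q11762 (flp_a L172228) q11781, e3 q11763 L172092 q11747, e3 q11764 (flp_a L172221) q11780, e3 q11765 (flp_a L172235) q11782, e3 q11766 L204910 q16231, e3 q11767 L172115 q11755, e3 q11768 (flp_a L172117) q7568, e3 q11769 (flp_a L204926) q16234, e3 q11770 L172127 q7579, e3 q11771 L172137 q9130, e3 q11772 L172149 q9131, e3 q11773 L172157 q9132, e3 q11774 L172169 q10831,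 e3 q11775 (flp_a L174621) q12113, trivial⟩ (by decide +kernel)

theorem ce_a_184 : ∀ r, r < 64 → sm ga (Qf (11776 + r)) = Qf (tab Gen.a (11776 + r)) :=
  edges_tab (sm ga) Qf (tab Gen.a) 11776 [(11776, 11776), (11777, 16200), (11778, 16202), (11779, 16203), (11780, 11764), (11781, 11762), (11782, 11765), (11783, 11785), (11784, 12227), (11785, 11783), (11786, 12229), (11787, 7595), (11788, 7596), (11789, 11804), (11790, 11806), (11791, 16245), (11792, 7598), (11793, 11793), (11794, 7601), (11795, 7602), (11796, 16248), (11797, 9064), (11798, 11810), (11799, 7608), (11800, 7609), (11801, 16252), (11802, 7607), (11803, 16255), (11804, 11789), (11805, 11738), (11806, 11790), (11807, 11737), (11808, 11739), (11809, 16260), (11810, 11798), (11811, 7613), (11812, 16263), (11813, 10293), (11814, 7617), (11815, 16265), (11816, 11830), (11817, 16267), (11818, 7620), (11819, 16271), (11820, 16272), (11821, 11936), (11822, 7622), (11823, 9041), (11824, 13405), (11825, 10466), (11826, 7624), (11827, 7625), (11828, 14699), (11829,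 12173), (11830, 11816), (11831, 11928), (11832, 11938), (11833, 7629), (11834, 10330), (11835, 16280), (11836, 10327), (11837, 16284), (11838, 7830), (11839, 7640)]
    ⟨e3 q11776 L172198 q11776, e3 q11777 (flp_a L204656) q16200, e3 q11778 (flp_a L204674) q16202, e3 q11779 (flp_a L204683) q16203, e3 q11780 L172221 q11764, e3 q11781 L172228 q11762, e3 q11782 L172235 q11765, e3 q11783 (flp_a L172257) q11785, e3 q11784 (flp_a L175442) q12227, e3 q11785 L172257 q11783, e3 q11786 (flp_a L175452) q12229, e3 q11787 L172269 q7595, e3 q11788 L172279 q7596, e3 q11789 (flp_a L172384) q11804, e3 q11790 (flp_a L172399) q11806, e3 q11791 L205028 q16245, e3 q11792 (flp_a L172297) q7598, e3 q11793 L172307 q11793, e3 q11794 L172312 q7601, e3 q11795 L172320 q7602, e3 q11796 (flp_a L205065) q16248, e3 q11797 L172334 q9064, e3 q11798 (flp_a L172428) q11810, e3 q11799 L172348 q7608, e3 q11800 L172360 q7609, e3 q11801 L205097 q16252, e3 q11802 (flp_a L172370) q7607, e3 q11803 (flp_a L205121) q16255, e3 q11804 L172384 q11789, e3 q11805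 (flp_a L172395) q11738, e3 q11806 L172399 q11790, e3 q11807 L172407 q11737, e3 q11808 L172412 q11739, e3 q11809 L205157 q16260, e3 q11810 L172428 q11798, e3 q11811 (flp_a L172430) q7613, e3 q11812 (flp_a L205173) q16263, e3 q11813 L172440 q10293, e3 q11814 (flp_a L172448) q7617, e3 q11815 (flp_a L205193) q16265, e3 q11816 (flp_a L172539) q11830, e3 q11817 L205225 q16267, e3 q11818 (flp_a L172472) q7620, e3 q11819 (flp_a L205252) q16271, e3 q11820 (flp_a L205260) q16272, e3 q11821 (flp_a L173333) q11936, e3 q11822 (flp_a L172487) q7622, e3 q11823 L172497 q9041, e3 q11824 (flp_a L184332) q13405, e3 q11825 (flp_a L172515) q10466, e3 q11826 L172521 q7624, e3 q11827 L172525 q7625, e3 q11828 (flp_a L194001) q14699, e3 q11829 (flp_a L175092) q12173, e3 q11830 L172539 q11816, e3 q11831 (flp_a L173282) q11928, e3 q11832 (flp_a L173345) q11938, e3 q11833 L172557 q7629, e3 q11834 L172569 q10330, e3 q11835 (flp_a L205330) q16280, e3 q11836 L172583 q10327, e3 q11837 L205364 q16284, e3 q11838 L172593 q7830, e3 q11839 L172599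 q7640, trivial⟩ (by decide +kernel)

theorem ce_a_185 : ∀ r, r < 64 → sm ga (Qf (11840 + r)) = Qf (tab Gen.a (11840 + r)) :=
  edges_tab (sm ga) Qf (tab Gen.a) 11840 [(11840, 7641), (11841, 7642), (11842, 7643), (11843, 16286), (11844, 7636), (11845, 16288), (11846, 7654), (11847, 10811), (11848, 10637), (11849, 10806), (11850, 11851), (11851, 11850), (11852, 11854), (11853, 16291), (11854, 11852), (11855, 11900), (11856, 7645), (11857, 10354), (11858, 7690), (11859, 7649), (11860, 8011), (11861, 7651), (11862, 16294), (11863, 16287), (11864, 7653), (11865, 11711), (11866, 16289), (11867, 16279), (11868, 7657), (11869, 7658), (11870, 7822), (11871, 16086), (11872, 14698), (11873, 7664), (11874, 7665), (11875, 7666), (11876, 12134), (11877, 16304), (11878, 10383), (11879, 15774), (11880, 16303), (11881, 7667), (11882, 8019), (11883, 10386), (11884, 8203), (11885, 8207), (11886, 8208), (11887, 13605), (11888, 12098), (11889, 12097), (11890, 7675), (11891, 12101), (11892, 12100), (11893, 16312), (11894, 16316), (11895,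 7681), (11896, 16201), (11897, 16318), (11898, 7682), (11899, 16235), (11900, 11855), (11901, 16292), (11902, 7683), (11903, 7847)]
    ⟨e3 q11840 L172610 q7641, e3 q11841 L172620 q7642, e3 q11842 L172630 q7643, e3 q11843 L205384 q16286, e3 q11844 (flp_a L172641) q7636, e3 q11845 (flp_a L205411) q16288, e3 q11846 (flp_a L172655) q7654, e3 q11847 L172661 q10811, e3 q11848 L172669 q10637, e3 q11849 L172681 q10806, e3 q11850 (flp_a L172697) q11851, e3 q11851 L172697 q11850, e3 q11852 (flp_a L172719) q11854, e3 q11853 L205438 q16291, e3 q11854 L172719 q11852, e3 q11855 (flp_a L173044) q11900, e3 q11856 (flp_a L172731) q7645, e3 q11857 L172739 q10354, e3 q11858 L172749 q7690, e3 q11859 L172755 q7649, e3 q11860 L172767 q8011, e3 q11861 (flp_a L172773) q7651, e3 q11862 (flp_a L205466) q16294, e3 q11863 (flp_a L205399) q16287, e3 q11864 L172789 q7653, e3 q11865 L172799 q11711, e3 q11866 (flp_a L205424) q16289, e3 q11867 (flp_a L205326) q16279, e3 q11868 L172817 q7657, e3 q11869 L172825 q7658, e3 q11870 L172833 q7822, e3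 q11871 (flp_a L203895) q16086, e3 q11872 (flp_a L193991) q14698, e3 q11873 L172855 q7664, e3 q11874 L172865 q7665, e3 q11875 L172871 q7666, e3 q11876 (flp_a L174805) q12134, e3 q11877 L205564 q16304, e3 q11878 L172887 q10383, e3 q11879 L201680 q15774, e3 q11880 (flp_a L205556) q16303, e3 q11881 (flp_a L172905) q7667, e3 q11882 L172919 q8019, e3 q11883 L172929 q10386, e3 q11884 (flp_a L172942) q8203, e3 q11885 L172946 q8207, e3 q11886 L172957 q8208, e3 q11887 (flp_a L186009) q13605, e3 q11888 (flp_a L174491) q12098, e3 q11889 (flp_a L174473) q12097, e3 q11890 L172986 q7675, e3 q11891 (flp_a L174523) q12101, e3 q11892 (flp_a L174513) q12100, e3 q11893 L205635 q16312, e3 q11894 L205661 q16316, e3 q11895 (flp_a L173020) q7681, e3 q11896 L204668 q16201, e3 q11897 (flp_a L205685) q16318, e3 q11898 (flp_a L173034) q7682, e3 q11899 (flp_a L204942) q16235, e3 q11900 L173044 q11855, e3 q11901 (flp_a L205454) q16292, e3 q11902 (flp_a L173056) q7683, e3 q11903 L173068 q7847, trivial⟩ (by decide +kernel)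

theorem ce_a_186 : ∀ r, r < 64 → sm ga (Qf (11904 + r)) = Qf (tab Gen.a (11904 + r)) :=
  edges_tab (sm ga) Qf (tab Gen.a) 11904 [(11904, 7686), (11905, 7688), (11906, 11732), (11907, 7691), (11908, 16321), (11909, 16322), (11910, 7694), (11911, 16324), (11912, 12217), (11913, 7695), (11914, 13941), (11915, 11956), (11916, 7697), (11917, 8099), (11918, 7701), (11919, 8096), (11920, 8098), (11921, 8100), (11922, 9823), (11923, 10438), (11924, 7951), (11925, 7705), (11926, 7704), (11927, 16326), (11928, 11831), (11929, 14145), (11930, 15933), (11931, 11931), (11932, 7709), (11933, 7711), (11934, 16330), (11935, 16331), (11936, 11821), (11937, 13322), (11938, 11832), (11939, 7716), (11940, 7714), (11941, 16338), (11942, 13484), (11943, 16339), (11944, 7925), (11945, 16337), (11946, 12019), (11947, 11947), (11948, 16350), (11949, 7719), (11950, 16352), (11951, 13291), (11952, 7721), (11953, 7722), (11954, 10626), (11955, 10625), (11956, 11915), (11957, 7724), (11958, 10430), (11959, 7729), (11960, 11960), (11961, 13596),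 (11962, 10644), (11963, 13717), (11964, 16357), (11965, 8012), (11966, 9843), (11967, 9479)]
    ⟨e3 q11904 L173080 q7686, e3 q11905 L173090 q7688, e3 q11906 L173102 q11732, e3 q11907 (flp_a L173108) q7691, e3 q11908 (flp_a L205715) q16321, e3 q11909 (flp_a L205725) q16322, e3 q11910 L173128 q7694, e3 q11911 L205739 q16324, e3 q11912 (flp_a L175382) q12217, e3 q11913 (flp_a L173148) q7695, e3 q11914 (flp_a L188657) q13941, e3 q11915 (flp_a L173451) q11956, e3 q11916 L173166 q7697, e3 q11917 L173176 q8099, e3 q11918 L173182 q7701, e3 q11919 L173192 q8096, e3 q11920 L173204 q8098, e3 q11921 L173214 q8100, e3 q11922 (flp_a L173234) q9823, e3 q11923 L173240 q10438, e3 q11924 L173256 q7951, e3 q11925 L173260 q7705, e3 q11926 (flp_a L173268) q7704, e3 q11927 (flp_a L205759) q16326, e3 q11928 L173282 q11831, e3 q11929 L190190 q14145, e3 q11930 (flp_a L202919) q15933, e3 q11931 L173308 q11931, e3 q11932 L173315 q7709, e3 q11933 L173323 q7711, e3 q11934 (flp_a L205798) q16330, e3 q11935 (flp_a L205804) q16331, e3 q11936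 L173333 q11821, e3 q11937 (flp_a L183709) q13322, e3 q11938 L173345 q11832, e3 q11939 L173351 q7716, e3 q11940 (flp_a L173357) q7714, e3 q11941 (flp_a L205856) q16338, e3 q11942 L184906 q13484, e3 q11943 (flp_a L205860) q16339, e3 q11944 L173373 q7925, e3 q11945 (flp_a L205848) q16337, e3 q11946 (flp_a L173861) q12019, e3 q11947 L205300 q11947, e3 q11948 L205927 q16350, e3 q11949 (flp_a L173395) q7719, e3 q11950 (flp_a L205939) q16352, e3 q11951 (flp_a L183473) q13291, e3 q11952 L173413 q7721, e3 q11953 L173417 q7722, e3 q11954 L173429 q10626, e3 q11955 L173441 q10625, e3 q11956 L173451 q11915, e3 q11957 L173459 q7724, e3 q11958 L173479 q10430, e3 q11959 L173483 q7729, e3 q11960 L173497 q11960, e3 q11961 (flp_a L185925) q13596, e3 q11962 (flp_a L173514) q10644, e3 q11963 (flp_a L186985) q13717, e3 q11964 L205984 q16357, e3 q11965 L173526 q8012, e3 q11966 (flp_a L173540) q9843, e3 q11967 (flp_a L173546) q9479, trivial⟩ (by decide +kernel)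

theorem ce_a_187 : ∀ r, r < 64 → sm ga (Qf (11968 + r)) = Qf (tab Gen.a (11968 + r)) :=
  edges_tab (sm ga) Qf (tab Gen.a) 11968 [(11968, 7739), (11969, 11039), (11970, 12041), (11971, 7869), (11972, 11972), (11973, 9790), (11974, 7742), (11975, 12042), (11976, 16360), (11977, 11985), (11978, 7967), (11979, 7969), (11980, 7750), (11981, 7752), (11982, 8918), (11983, 16364), (11984, 13163), (11985, 11977), (11986, 16192), (11987, 16363), (11988, 11989), (11989, 11988), (11990, 7855), (11991, 11999), (11992, 7756), (11993, 16374), (11994, 16375), (11995, 16376), (11996, 7770), (11997, 7771), (11998, 8535), (11999, 11991), (12000, 16193), (12001, 16384), (12002, 7764), (12003, 7765), (12004, 7766), (12005, 7767), (12006, 16389), (12007, 16390), (12008, 16391), (12009, 16392), (12010, 16393), (12011, 16394), (12012, 16395), (12013, 12014), (12014, 12013), (12015, 7924), (12016, 7878), (12017, 16382), (12018, 16383), (12019, 11946), (12020, 16276), (12021, 16413), (12022, 7774), (12023, 16415), (12024, 7776), (12025,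 7777), (12026, 16416), (12027, 16417), (12028, 10490), (12029, 16354), (12030, 10295), (12031, 7783)]
    ⟨e3 q11968 L173550 q7739, e3 q11969 L173560 q11039, e3 q11970 (flp_a L174008) q12041, e3 q11971 L173578 q7869, e3 q11972 L173590 q11972, e3 q11973 (flp_a L173599) q9790, e3 q11974 (flp_a L173601) q7742, e3 q11975 (flp_a L174016) q12042, e3 q11976 (flp_a L206012) q16360, e3 q11977 (flp_a L173661) q11985, e3 q11978 L173627 q7967, e3 q11979 L173633 q7969, e3 q11980 L173639 q7750, e3 q11981 L173643 q7752, e3 q11982 L183217 q8918, e3 q11983 L206048 q16364, e3 q11984 L182539 q13163, e3 q11985 L173661 q11977, e3 q11986 (flp_a L204595) q16192, e3 q11987 (flp_a L206040) q16363, e3 q11988 (flp_a L173689) q11989, e3 q11989 L173689 q11988, e3 q11990 L173699 q7855, e3 q11991 (flp_a L173759) q11999, e3 q11992 (flp_a L173711) q7756, e3 q11993 (flp_a L206140) q16374, e3 q11994 (flp_a L206144) q16375, e3 q11995 (flp_a L206154) q16376, e3 q11996 L173729 q7770, e3 q11997 L173735 q7771, e3 q11998 L173745 q8535, e3 q11999 L173759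 q11991, e3 q12000 (flp_a L204603) q16193, e3 q12001 L206212 q16384, e3 q12002 L173773 q7764, e3 q12003 L173777 q7765, e3 q12004 L173783 q7766, e3 q12005 L173789 q7767, e3 q12006 (flp_a L206266) q16389, e3 q12007 (flp_a L206278) q16390, e3 q12008 (flp_a L206282) q16391, e3 q12009 (flp_a L206292) q16392, e3 q12010 (flp_a L206302) q16393, e3 q12011 (flp_a L206306) q16394, e3 q12012 (flp_a L206314) q16395, e3 q12013 (flp_a L173833) q12014, e3 q12014 L173833 q12013, e3 q12015 L173841 q7924, e3 q12016 L173847 q7878, e3 q12017 (flp_a L206196) q16382, e3 q12018 (flp_a L206204) q16383, e3 q12019 L173861 q11946, e3 q12020 (flp_a L205297) q16276, e3 q12021 L206456 q16413, e3 q12022 (flp_a L173875) q7774, e3 q12023 (flp_a L206474) q16415, e3 q12024 L173893 q7776, e3 q12025 L173899 q7777, e3 q12026 (flp_a L206486) q16416, e3 q12027 (flp_a L206494) q16417, e3 q12028 L173915 q10490, e3 q12029 (flp_a L205961) q16354, e3 q12030 L173931 q10295, e3 q12031 (flp_a L173941) q7783, trivial⟩ (by decide +kernel)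

theorem ce_a_188 : ∀ r, r < 64 → sm ga (Qf (12032 + r)) = Qf (tab Gen.a (12032 + r)) :=
  edges_tab (sm ga) Qf (tab Gen.a) 12032 [(12032, 16422), (12033, 7786), (12034, 16426), (12035, 16427), (12036, 12142), (12037, 10515), (12038, 7789), (12039, 7790), (12040, 14700), (12041, 11970), (12042, 11975), (12043, 12143), (12044, 7792), (12045, 8976), (12046, 13457), (12047, 7794), (12048, 10366), (12049, 16435), (12050, 10328), (12051, 16439), (12052, 7805), (12053, 7806), (12054, 7807), (12055, 7808), (12056, 16440), (12057, 7801), (12058, 16442), (12059, 7819), (12060, 10832), (12061, 10827), (12062, 10724), (12063, 12064), (12064, 12063), (12065, 16444), (12066, 12067), (12067, 12066), (12068, 7809), (12069, 12110), (12070, 7853), (12071, 7813), (12072, 7954), (12073, 10317), (12074, 7816), (12075, 16447), (12076, 16441), (12077, 7818), (12078, 11720), (12079, 16443), (12080, 16434), (12081, 7823), (12082, 16010), (12083, 14696), (12084, 7828), (12085, 7829), (12086, 16453), (12087, 10417), (12088, 15999), (12089,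 16285), (12090, 7831), (12091, 7962), (12092, 10420), (12093, 8204), (12094, 8209), (12095, 8210)]
    ⟨e3 q12032 L206544 q16422, e3 q12033 (flp_a L173951) q7786, e3 q12034 (flp_a L206571) q16426, e3 q12035 (flp_a L206579) q16427, e3 q12036 (flp_a L174856) q12142, e3 q12037 (flp_a L173970) q10515, e3 q12038 L173976 q7789, e3 q12039 L173982 q7790, e3 q12040 (flp_a L194013) q14700, e3 q12041 L174008 q11970, e3 q12042 L174016 q11975, e3 q12043 (flp_a L174862) q12143, e3 q12044 (flp_a L174032) q7792, e3 q12045 L174042 q8976, e3 q12046 (flp_a L184708) q13457, e3 q12047 L174058 q7794, e3 q12048 L174070 q10366, e3 q12049 (flp_a L206651) q16435, e3 q12050 L174086 q10328, e3 q12051 L206691 q16439, e3 q12052 L174100 q7805, e3 q12053 L174110 q7806, e3 q12054 L174121 q7807, e3 q12055 L174129 q7808, e3 q12056 L206703 q16440, e3 q12057 (flp_a L174142) q7801, e3 q12058 (flp_a L206730) q16442, e3 q12059 L174160 q7819, e3 q12060 L174166 q10832, e3 q12061 L174174 q10827, e3 q12062 L174184 q10724, e3 q12063 (flp_a L174204) q12064,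 e3 q12064 L174204 q12063, e3 q12065 L206751 q16444, e3 q12066 (flp_a L174230) q12067, e3 q12067 L174230 q12066, e3 q12068 (flp_a L174236) q7809, e3 q12069 (flp_a L174585) q12110, e3 q12070 L174254 q7853, e3 q12071 L174260 q7813, e3 q12072 L174272 q7954, e3 q12073 L174282 q10317, e3 q12074 (flp_a L174288) q7816, e3 q12075 (flp_a L206775) q16447, e3 q12076 (flp_a L206718) q16441, e3 q12077 L174308 q7818, e3 q12078 L174320 q11720, e3 q12079 (flp_a L206741) q16443, e3 q12080 (flp_a L206647) q16434, e3 q12081 L174338 q7823, e3 q12082 (flp_a L203395) q16010, e3 q12083 (flp_a L193973) q14696, e3 q12084 L174362 q7828, e3 q12085 L174372 q7829, e3 q12086 L206839 q16453, e3 q12087 L174382 q10417, e3 q12088 L203317 q15999, e3 q12089 (flp_a L205378) q16285, e3 q12090 (flp_a L174400) q7831, e3 q12091 L174414 q7962, e3 q12092 L174426 q10420, e3 q12093 L174439 q8204, e3 q12094 L174443 q8209, e3 q12095 L174454 q8210, trivial⟩ (by decide +kernel)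

theorem ce_a_189 : ∀ r, r < 64 → sm ga (Qf (12096 + r)) = Qf (tab Gen.a (12096 + r)) :=
  edges_tab (sm ga) Qf (tab Gen.a) 12096 [(12096, 13606), (12097, 11889), (12098, 11888), (12099, 7839), (12100, 11892), (12101, 11891), (12102, 16461), (12103, 16317), (12104, 7845), (12105, 16196), (12106, 16465), (12107, 7846), (12108, 16204), (12109, 16320), (12110, 12069), (12111, 7850), (12112, 7852), (12113, 11775), (12114, 16371), (12115, 16372), (12116, 7858), (12117, 16468), (12118, 12276), (12119, 7859), (12120, 13964), (12121, 12159), (12122, 7861), (12123, 8056), (12124, 7865), (12125, 8052), (12126, 8054), (12127, 8055), (12128, 9876), (12129, 10404), (12130, 8009), (12131, 7868), (12132, 16328), (12133, 14135), (12134, 11876), (12135, 15703), (12136, 12136), (12137, 7873), (12138, 7874), (12139, 16472), (12140, 16473), (12141, 13377), (12142, 12036), (12143, 12043), (12144, 7877), (12145, 16479), (12146, 16480), (12147, 13431), (12148, 16409), (12149, 12202), (12150, 12150), (12151, 16490), (12152, 7881), (12153,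 16492), (12154, 13351), (12155, 7883), (12156, 7884), (12157, 10576), (12158, 10575), (12159, 12121)]
    ⟨e3 q12096 (flp_a L186020) q13606, e3 q12097 L174473 q11889, e3 q12098 L174491 q11888, e3 q12099 L174495 q7839, e3 q12100 L174513 q11892, e3 q12101 L174523 q11891, e3 q12102 L206920 q16461, e3 q12103 (flp_a L205673) q16317, e3 q12104 (flp_a L174543) q7845, e3 q12105 L204627 q16196, e3 q12106 (flp_a L206956) q16465, e3 q12107 (flp_a L174563) q7846, e3 q12108 (flp_a L204699) q16204, e3 q12109 (flp_a L205703) q16320, e3 q12110 L174585 q12069, e3 q12111 L174597 q7850, e3 q12112 L174609 q7852, e3 q12113 L174621 q11775, e3 q12114 (flp_a L206112) q16371, e3 q12115 (flp_a L206120) q16372, e3 q12116 L174643 q7858, e3 q12117 L206980 q16468, e3 q12118 (flp_a L175805) q12276, e3 q12119 (flp_a L174663) q7859, e3 q12120 (flp_a L188811) q13964, e3 q12121 (flp_a L174952) q12159, e3 q12122 L174679 q7861, e3 q12123 L174689 q8056, e3 q12124 L174699 q7865, e3 q12125 L174709 q8052, e3 q12126 L174723 q8054, e3 q12127 L174733 q8055,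 e3 q12128 (flp_a L174753) q9876, e3 q12129 L174759 q10404, e3 q12130 L174777 q8009, e3 q12131 (flp_a L174779) q7868, e3 q12132 (flp_a L205779) q16328, e3 q12133 (flp_a L190113) q14135, e3 q12134 L174805 q11876, e3 q12135 (flp_a L201253) q15703, e3 q12136 L174829 q12136, e3 q12137 L174832 q7873, e3 q12138 L174840 q7874, e3 q12139 (flp_a L207021) q16472, e3 q12140 (flp_a L207027) q16473, e3 q12141 (flp_a L184117) q13377, e3 q12142 L174856 q12036, e3 q12143 L174862 q12043, e3 q12144 (flp_a L174866) q7877, e3 q12145 (flp_a L207071) q16479, e3 q12146 (flp_a L207075) q16480, e3 q12147 (flp_a L184510) q13431, e3 q12148 (flp_a L206428) q16409, e3 q12149 (flp_a L175272) q12202, e3 q12150 L205301 q12150, e3 q12151 L207142 q16490, e3 q12152 (flp_a L174900) q7881, e3 q12153 (flp_a L207154) q16492, e3 q12154 (flp_a L183941) q13351, e3 q12155 L174914 q7883, e3 q12156 L174918 q7884, e3 q12157 L174930 q10576, e3 q12158 L174942 q10575, e3 q12159 L174952 q12121, trivial⟩ (by decide +kernel)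

theorem ce_a_190 : ∀ r, r < 64 → sm ga (Qf (12160 + r)) = Qf (tab Gen.a (12160 + r)) :=
  edges_tab (sm ga) Qf (tab Gen.a) 12160 [(12160, 7886), (12161, 10396), (12162, 7891), (12163, 12163), (12164, 13575), (12165, 10729), (12166, 13713), (12167, 16497), (12168, 7953), (12169, 9487), (12170, 7899), (12171, 11077), (12172, 12172), (12173, 11829), (12174, 7903), (12175, 12182), (12176, 8025), (12177, 8026), (12178, 7910), (12179, 7911), (12180, 8934), (12181, 13104), (12182, 12175), (12183, 16500), (12184, 16189), (12185, 12186), (12186, 12185), (12187, 12189), (12188, 8506), (12189, 12187), (12190, 16190), (12191, 16505), (12192, 7921), (12193, 7922), (12194, 7923), (12195, 16509), (12196, 16510), (12197, 16511), (12198, 12199), (12199, 12198), (12200, 16408), (12201, 16345), (12202, 12149), (12203, 16431), (12204, 16520), (12205, 7928), (12206, 16522), (12207, 7930), (12208, 7931), (12209, 16523), (12210, 16524), (12211, 10536), (12212, 16494), (12213, 12603), (12214, 7938), (12215, 11709), (12216, 10269), (12217,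 11912), (12218, 13416), (12219, 7948), (12220, 14143), (12221, 14074), (12222, 7950), (12223, 12338)]
    ⟨e3 q12160 L174966 q7886, e3 q12161 L174986 q10396, e3 q12162 L174990 q7891, e3 q12163 L175004 q12163, e3 q12164 (flp_a L185707) q13575, e3 q12165 L175021 q10729, e3 q12166 (flp_a L186949) q13713, e3 q12167 L207201 q16497, e3 q12168 L175035 q7953, e3 q12169 (flp_a L175049) q9487, e3 q12170 L175055 q7899, e3 q12171 L175067 q11077, e3 q12172 L175083 q12172, e3 q12173 L175092 q11829, e3 q12174 (flp_a L175096) q7903, e3 q12175 (flp_a L175148) q12182, e3 q12176 L175112 q8025, e3 q12177 L175118 q8026, e3 q12178 L175124 q7910, e3 q12179 L175128 q7911, e3 q12180 L175136 q8934, e3 q12181 L182177 q13104, e3 q12182 L175148 q12175, e3 q12183 (flp_a L207223) q16500, e3 q12184 (flp_a L204569) q16189, e3 q12185 (flp_a L175176) q12186, e3 q12186 L175176 q12185, e3 q12187 (flp_a L175202) q12189, e3 q12188 L175194 q8506, e3 q12189 L175202 q12187, e3 q12190 (flp_a L204577) q16190, e3 q12191 L207267 q16505, e3 q12192 L175218 q7921,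 e3 q12193 L175224 q7922, e3 q12194 L175230 q7923, e3 q12195 (flp_a L207313) q16509, e3 q12196 (flp_a L207317) q16510, e3 q12197 (flp_a L207325) q16511, e3 q12198 (flp_a L175258) q12199, e3 q12199 L175258 q12198, e3 q12200 (flp_a L206420) q16408, e3 q12201 (flp_a L205903) q16345, e3 q12202 L175272 q12149, e3 q12203 (flp_a L206618) q16431, e3 q12204 L207393 q16520, e3 q12205 (flp_a L175288) q7928, e3 q12206 (flp_a L207411) q16522, e3 q12207 L175306 q7930, e3 q12208 L175312 q7931, e3 q12209 (flp_a L207423) q16523, e3 q12210 (flp_a L207431) q16524, e3 q12211 L175328 q10536, e3 q12212 (flp_a L207178) q16494, e3 q12213 (flp_a L178489) q12603, e3 q12214 L175352 q7938, e3 q12215 L175360 q11709, e3 q12216 L175374 q10269, e3 q12217 L175382 q11912, e3 q12218 L184414 q13416, e3 q12219 (flp_a L175396) q7948, e3 q12220 (flp_a L190168) q14143, e3 q12221 (flp_a L189623) q14074, e3 q12222 L175412 q7950, e3 q12223 (flp_a L176239) q12338, trivial⟩ (by decide +kernel)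

theorem ce_a_191 : ∀ r, r < 64 → sm ga (Qf (12224 + r)) = Qf (tab Gen.a (12224 + r)) :=
  edges_tab (sm ga) Qf (tab Gen.a) 12224 [(12224, 12337), (12225, 15122), (12226, 7960), (12227, 11784), (12228, 11079), (12229, 11786), (12230, 13865), (12231, 15838), (12232, 14389), (12233, 14736), (12234, 14735), (12235, 13439), (12236, 15859), (12237, 15849), (12238, 16362), (12239, 9097), (12240, 12241), (12241, 12240), (12242, 16540), (12243, 7976), (12244, 7977), (12245, 7978), (12246, 7979), (12247, 7980), (12248, 9099), (12249, 16544), (12250, 16545), (12251, 16546), (12252, 16547), (12253, 13276), (12254, 9010), (12255, 12256), (12256, 12255), (12257, 14704), (12258, 8971), (12259, 10406), (12260, 12342), (12261, 7984), (12262, 16557), (12263, 14041), (12264, 7988), (12265, 7989), (12266, 7990), (12267, 16559), (12268, 14006), (12269, 12689), (12270, 12271), (12271, 12270), (12272, 12604), (12273, 7996), (12274, 11718), (12275, 10288), (12276, 12118), (12277, 13468), (12278, 8006), (12279, 14152), (12280, 14125),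 (12281, 8008), (12282, 12384), (12283, 12383), (12284, 15110), (12285, 8018), (12286, 11741), (12287, 11041)]
    ⟨e3 q12224 (flp_a L176227) q12337, e3 q12225 (flp_a L197481) q15122, e3 q12226 L175434 q7960, e3 q12227 L175442 q11784, e3 q12228 L175446 q11079, e3 q12229 L175452 q11786, e3 q12230 L188067 q13865, e3 q12231 (flp_a L202118) q15838, e3 q12232 (flp_a L191950) q14389, e3 q12233 (flp_a L194341) q14736, e3 q12234 (flp_a L194337) q14735, e3 q12235 (flp_a L184559) q13439, e3 q12236 (flp_a L202300) q15859, e3 q12237 (flp_a L202220) q15849, e3 q12238 (flp_a L206030) q16362, e3 q12239 L175553 q9097, e3 q12240 (flp_a L175567) q12241, e3 q12241 L175567 q12240, e3 q12242 L207577 q16540, e3 q12243 L175577 q7976, e3 q12244 L175583 q7977, e3 q12245 L175589 q7978, e3 q12246 L175597 q7979, e3 q12247 L175605 q7980, e3 q12248 L175611 q9099, e3 q12249 (flp_a L207614) q16544, e3 q12250 (flp_a L207620) q16545, e3 q12251 (flp_a L207630) q16546, e3 q12252 (flp_a L207634) q16547, e3 q12253 (flp_a L183319) q13276, e3 q12254 L175639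 q9010, e3 q12255 (flp_a L175653) q12256, e3 q12256 L175653 q12255, e3 q12257 (flp_a L194053) q14704, e3 q12258 L175699 q8971, e3 q12259 L175677 q10406, e3 q12260 (flp_a L176284) q12342, e3 q12261 (flp_a L175691) q7984, e3 q12262 (flp_a L207702) q16557, e3 q12263 (flp_a L189373) q14041, e3 q12264 L175717 q7988, e3 q12265 L175725 q7989, e3 q12266 L175731 q7990, e3 q12267 (flp_a L207716) q16559, e3 q12268 (flp_a L189123) q14006, e3 q12269 L179163 q12689, e3 q12270 (flp_a L175759) q12271, e3 q12271 L175759 q12270, e3 q12272 (flp_a L178499) q12604, e3 q12273 L175775 q7996, e3 q12274 L175783 q11718, e3 q12275 L175797 q10288, e3 q12276 L175805 q12118, e3 q12277 L184792 q13468, e3 q12278 (flp_a L175819) q8006, e3 q12279 (flp_a L190241) q14152, e3 q12280 (flp_a L190049) q14125, e3 q12281 L175835 q8008, e3 q12282 (flp_a L176660) q12384, e3 q12283 (flp_a L176648) q12383, e3 q12284 (flp_a L197381) q15110, e3 q12285 L175865 q8018, e3 q12286 L175873 q11741, e3 q12287 L175877 q11041, trivial⟩ (by decide +kernel)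

theorem ce_a_192 : ∀ r, r < 64 → sm ga (Qf (12288 + r)) = Qf (tab Gen.a (12288 + r)) :=
  edges_tab (sm ga) Qf (tab Gen.a) 12288 [(12288, 11742), (12289, 15600), (12290, 13816), (12291, 14334), (12292, 14716), (12293, 14717), (12294, 13387), (12295, 15625), (12296, 16499), (12297, 15615), (12298, 12300), (12299, 9151), (12300, 12298), (12301, 16575), (12302, 8034), (12303, 8035), (12304, 8036), (12305, 8037), (12306, 8038), (12307, 9153), (12308, 16579), (12309, 16580), (12310, 16581), (12311, 16582), (12312, 13263), (12313, 9071), (12314, 12315), (12315, 12314), (12316, 9037), (12317, 14723), (12318, 8041), (12319, 16592), (12320, 14097), (12321, 10440), (12322, 12388), (12323, 8046), (12324, 8047), (12325, 8048), (12326, 16594), (12327, 12718), (12328, 13987), (12329, 12330), (12330, 12329), (12331, 8051), (12332, 16598), (12333, 13986), (12334, 10633), (12335, 10588), (12336, 8058), (12337, 12224), (12338, 12223), (12339, 8064), (12340, 8062), (12341, 8063), (12342, 12260), (12343, 14377), (12344, 14731), (12345,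 12346), (12346, 12345), (12347, 14172), (12348, 8072), (12349, 12355), (12350, 12616), (12351, 9753)]
    ⟨e3 q12288 L175883 q11742, e3 q12289 (flp_a L200441) q15600, e3 q12290 L187721 q13816, e3 q12291 (flp_a L191569) q14334, e3 q12292 (flp_a L194165) q14716, e3 q12293 (flp_a L194169) q14717, e3 q12294 L184189 q13387, e3 q12295 (flp_a L200659) q15625, e3 q12296 (flp_a L207213) q16499, e3 q12297 (flp_a L200579) q15615, e3 q12298 (flp_a L175959) q12300, e3 q12299 L175951 q9151, e3 q12300 L175959 q12298, e3 q12301 L207862 q16575, e3 q12302 L175971 q8034, e3 q12303 L175977 q8035, e3 q12304 L175983 q8036, e3 q12305 L175991 q8037, e3 q12306 L175997 q8038, e3 q12307 L176005 q9153, e3 q12308 (flp_a L207899) q16579, e3 q12309 (flp_a L207905) q16580, e3 q12310 (flp_a L207915) q16581, e3 q12311 (flp_a L207919) q16582, e3 q12312 (flp_a L183237) q13263, e3 q12313 L176033 q9071, e3 q12314 (flp_a L176047) q12315, e3 q12315 L176047 q12314, e3 q12316 L176077 q9037, e3 q12317 (flp_a L194215) q14723, e3 q12318 (flp_a L176069) q8041,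 e3 q12319 (flp_a L207987) q16592, e3 q12320 (flp_a L189803) q14097, e3 q12321 L176093 q10440, e3 q12322 (flp_a L176705) q12388, e3 q12323 L176109 q8046, e3 q12324 L176117 q8047, e3 q12325 L176123 q8048, e3 q12326 (flp_a L208005) q16594, e3 q12327 L179361 q12718, e3 q12328 (flp_a L189001) q13987, e3 q12329 (flp_a L176151) q12330, e3 q12330 L176151 q12329, e3 q12331 (flp_a L176159) q8051, e3 q12332 (flp_a L208045) q16598, e3 q12333 (flp_a L188991) q13986, e3 q12334 L176191 q10633, e3 q12335 L176201 q10588, e3 q12336 (flp_a L176211) q8058, e3 q12337 L176227 q12224, e3 q12338 L176239 q12223, e3 q12339 L176252 q8064, e3 q12340 L176264 q8062, e3 q12341 L176276 q8063, e3 q12342 L176284 q12260, e3 q12343 L191858 q14377, e3 q12344 (flp_a L194281) q14731, e3 q12345 (flp_a L176310) q12346, e3 q12346 L176310 q12345, e3 q12347 (flp_a L190396) q14172, e3 q12348 L176326 q8072, e3 q12349 (flp_a L176398) q12355, e3 q12350 (flp_a L178593) q12616, e3 q12351 L176360 q9753, trivial⟩ (by decide +kernel)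

theorem ce_a_193 : ∀ r, r < 64 → sm ga (Qf (12352 + r)) = Qf (tab Gen.a (12352 + r)) :=
  edges_tab (sm ga) Qf (tab Gen.a) 12352 [(12352, 9755), (12353, 12753), (12354, 12754), (12355, 12349), (12356, 9657), (12357, 16484), (12358, 8085), (12359, 8086), (12360, 8087), (12361, 8088), (12362, 8089), (12363, 8090), (12364, 9660), (12365, 9661), (12366, 12372), (12367, 8127), (12368, 16605), (12369, 16606), (12370, 16607), (12371, 13330), (12372, 12366), (12373, 8131), (12374, 8129), (12375, 8128), (12376, 12395), (12377, 8095), (12378, 13982), (12379, 16621), (12380, 10584), (12381, 10635), (12382, 8102), (12383, 12283), (12384, 12282), (12385, 8108), (12386, 8106), (12387, 8107), (12388, 12322), (12389, 14322), (12390, 14712), (12391, 12392), (12392, 12391), (12393, 14193), (12394, 8115), (12395, 12376), (12396, 12610), (12397, 9733), (12398, 9735), (12399, 12757), (12400, 12758), (12401, 9664), (12402, 16344), (12403, 8126), (12404, 8130), (12405, 9667), (12406, 9668), (12407, 12412), (12408, 16628), (12409, 16612),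 (12410, 16619), (12411, 13384), (12412, 12407), (12413, 12422), (12414, 12439), (12415, 8136)]
    ⟨e3 q12352 L176370 q9755, e3 q12353 (flp_a L179611) q12753, e3 q12354 (flp_a L179619) q12754, e3 q12355 L176398 q12349, e3 q12356 L176416 q9657, e3 q12357 (flp_a L207101) q16484, e3 q12358 L176430 q8085, e3 q12359 L176436 q8086, e3 q12360 L176444 q8087, e3 q12361 L176454 q8088, e3 q12362 L176462 q8089, e3 q12363 L176472 q8090, e3 q12364 (flp_a L176482) q9660, e3 q12365 L176486 q9661, e3 q12366 (flp_a L176534) q12372, e3 q12367 L176500 q8127, e3 q12368 (flp_a L208118) q16605, e3 q12369 (flp_a L208122) q16606, e3 q12370 (flp_a L208132) q16607, e3 q12371 (flp_a L183759) q13330, e3 q12372 L176534 q12366, e3 q12373 L176540 q8131, e3 q12374 L176550 q8129, e3 q12375 L176560 q8128, e3 q12376 (flp_a L176767) q12395, e3 q12377 (flp_a L176580) q8095, e3 q12378 (flp_a L188953) q13982, e3 q12379 (flp_a L208242) q16621, e3 q12380 L176612 q10584, e3 q12381 L176622 q10635, e3 q12382 (flp_a L176632) q8102, e3 q12383 L176648 q12283,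 e3 q12384 L176660 q12282, e3 q12385 L176673 q8108, e3 q12386 L176685 q8106, e3 q12387 L176693 q8107, e3 q12388 L176705 q12322, e3 q12389 L191477 q14322, e3 q12390 (flp_a L194119) q14712, e3 q12391 (flp_a L176731) q12392, e3 q12392 L176731 q12391, e3 q12393 (flp_a L190592) q14193, e3 q12394 L176747 q8115, e3 q12395 L176767 q12376, e3 q12396 (flp_a L178547) q12610, e3 q12397 L176783 q9733, e3 q12398 L176793 q9735, e3 q12399 (flp_a L179639) q12757, e3 q12400 (flp_a L179647) q12758, e3 q12401 L176829 q9664, e3 q12402 (flp_a L205893) q16344, e3 q12403 L176843 q8126, e3 q12404 L176849 q8130, e3 q12405 L176863 q9667, e3 q12406 L176867 q9668, e3 q12407 (flp_a L176915) q12412, e3 q12408 (flp_a L208315) q16628, e3 q12409 (flp_a L208175) q16612, e3 q12410 (flp_a L208221) q16619, e3 q12411 (flp_a L184159) q13384, e3 q12412 L176915 q12407, e3 q12413 (flp_a L177007) q12422, e3 q12414 (flp_a L177140) q12439, e3 q12415 L176941 q8136, trivial⟩ (by decide +kernel)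

theorem ce_a_194 : ∀ r, r < 64 → sm ga (Qf (12416 + r)) = Qf (tab Gen.a (12416 + r)) :=
  edges_tab (sm ga) Qf (tab Gen.a) 12416 [(12416, 14730), (12417, 8137), (12418, 16639), (12419, 8187), (12420, 9443), (12421, 14374), (12422, 12413), (12423, 16640), (12424, 12454), (12425, 12456), (12426, 14020), (12427, 12467), (12428, 12475), (12429, 8147), (12430, 14711), (12431, 12431), (12432, 8149), (12433, 8150), (12434, 16644), (12435, 8157), (12436, 8151), (12437, 13590), (12438, 8195), (12439, 12414), (12440, 16646), (12441, 8153), (12442, 13960), (12443, 16649), (12444, 8156), (12445, 12818), (12446, 9471), (12447, 8158), (12448, 13394), (12449, 14007), (12450, 16273), (12451, 8160), (12452, 8161), (12453, 16656), (12454, 12424), (12455, 8171), (12456, 12425), (12457, 8172), (12458, 8165), (12459, 8182), (12460, 8166), (12461, 9726), (12462, 16651), (12463, 8168), (12464, 16658), (12465, 9452), (12466, 14319), (12467, 12427), (12468, 16636), (12469, 12490), (12470, 12492), (12471, 14001), (12472, 12472), (12473,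 8181), (12474, 13567), (12475, 12428), (12476, 16664), (12477, 8184), (12478, 13936), (12479, 16667)]
    ⟨e3 q12416 (flp_a L194271) q14730, e3 q12417 (flp_a L176957) q8137, e3 q12418 (flp_a L208409) q16639, e3 q12419 L176981 q8187, e3 q12420 (flp_a L176997) q9443, e3 q12421 (flp_a L191826) q14374, e3 q12422 L177007 q12413, e3 q12423 L208421 q16640, e3 q12424 (flp_a L177230) q12454, e3 q12425 (flp_a L177250) q12456, e3 q12426 (flp_a L189199) q14020, e3 q12427 (flp_a L177344) q12467, e3 q12428 (flp_a L177411) q12475, e3 q12429 L177065 q8147, e3 q12430 (flp_a L194109) q14711, e3 q12431 L177083 q12431, e3 q12432 L177086 q8149, e3 q12433 L177092 q8150, e3 q12434 (flp_a L208471) q16644, e3 q12435 L177114 q8157, e3 q12436 (flp_a L177124) q8151, e3 q12437 L185871 q13590, e3 q12438 L177134 q8195, e3 q12439 L177140 q12414, e3 q12440 L208497 q16646, e3 q12441 L177152 q8153, e3 q12442 (flp_a L188769) q13960, e3 q12443 (flp_a L208535) q16649, e3 q12444 L177168 q8156, e3 q12445 (flp_a L180175) q12818, e3 q12446 L177184 q9471,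 e3 q12447 (flp_a L177194) q8158, e3 q12448 (flp_a L205207) q13394, e3 q12449 (flp_a L189127) q14007, e3 q12450 (flp_a L205268) q16273, e3 q12451 L177210 q8160, e3 q12452 L177218 q8161, e3 q12453 (flp_a L208596) q16656, e3 q12454 L177230 q12424, e3 q12455 (flp_a L177244) q8171, e3 q12456 L177250 q12425, e3 q12457 L177262 q8172, e3 q12458 (flp_a L177273) q8165, e3 q12459 (flp_a L177281) q8182, e3 q12460 (flp_a L177287) q8166, e3 q12461 L177301 q9726, e3 q12462 (flp_a L208552) q16651, e3 q12463 L177316 q8168, e3 q12464 (flp_a L208618) q16658, e3 q12465 (flp_a L177334) q9452, e3 q12466 (flp_a L191445) q14319, e3 q12467 L177344 q12427, e3 q12468 (flp_a L208371) q16636, e3 q12469 (flp_a L177505) q12490, e3 q12470 (flp_a L177525) q12492, e3 q12471 (flp_a L189077) q14001, e3 q12472 L177394 q12472, e3 q12473 L177397 q8181, e3 q12474 (flp_a L185631) q13567, e3 q12475 L177411 q12428, e3 q12476 L208670 q16664, e3 q12477 L177427 q8184, e3 q12478 (flp_a L188605) q13936, e3 q12479 (flp_a L208708) q16667, trivial⟩ (by decide +kernel)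

theorem ce_a_195 : ∀ r, r < 64 → sm ga (Qf (12480 + r)) = Qf (tab Gen.a (12480 + r)) :=
  edges_tab (sm ga) Qf (tab Gen.a) 12480 [(12480, 8186), (12481, 12820), (12482, 9466), (12483, 8188), (12484, 13447), (12485, 16428), (12486, 13988), (12487, 8190), (12488, 8191), (12489, 16674), (12490, 12469), (12491, 8201), (12492, 12470), (12493, 8202), (12494, 8196), (12495, 9718), (12496, 16669), (12497, 8199), (12498, 16676), (12499, 16308), (12500, 16309), (12501, 16457), (12502, 16458), (12503, 8214), (12504, 8215), (12505, 12506), (12506, 12505), (12507, 13003), (12508, 13078), (12509, 8218), (12510, 16683), (12511, 16684), (12512, 8219), (12513, 16689), (12514, 16690), (12515, 12855), (12516, 8221), (12517, 9782), (12518, 12862), (12519, 8223), (12520, 9835), (12521, 11184), (12522, 11114), (12523, 16696), (12524, 8229), (12525, 16700), (12526, 16701), (12527, 16705), (12528, 8233), (12529, 16709), (12530, 16710), (12531, 8234), (12532, 16715), (12533, 12539), (12534, 13045), (12535, 8236), (12536, 8237), (12537,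 16718), (12538, 13518), (12539, 12533), (12540, 8238), (12541, 16721), (12542, 12548), (12543, 12969)]
    ⟨e3 q12480 L177443 q8186, e3 q12481 (flp_a L180199) q12820, e3 q12482 L177459 q9466, e3 q12483 (flp_a L177469) q8188, e3 q12484 (flp_a L184618) q13447, e3 q12485 (flp_a L206589) q16428, e3 q12486 (flp_a L189005) q13988, e3 q12487 L177485 q8190, e3 q12488 L177493 q8191, e3 q12489 (flp_a L208769) q16674, e3 q12490 L177505 q12469, e3 q12491 (flp_a L177519) q8201, e3 q12492 L177525 q12470, e3 q12493 L177537 q8202, e3 q12494 (flp_a L177548) q8196, e3 q12495 L177562 q9718, e3 q12496 (flp_a L208725) q16669, e3 q12497 L177579 q8199, e3 q12498 (flp_a L208791) q16676, e3 q12499 (flp_a L205600) q16308, e3 q12500 (flp_a L205613) q16309, e3 q12501 (flp_a L206875) q16457, e3 q12502 (flp_a L206888) q16458, e3 q12503 L177623 q8214, e3 q12504 L177633 q8215, e3 q12505 (flp_a L177653) q12506, e3 q12506 L177653 q12505, e3 q12507 (flp_a L181451) q13003, e3 q12508 (flp_a L181965) q13078, e3 q12509 (flp_a L177671) q8218, e3 q12510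 (flp_a L208845) q16683, e3 q12511 (flp_a L208857) q16684, e3 q12512 (flp_a L177689) q8219, e3 q12513 (flp_a L208895) q16689, e3 q12514 (flp_a L208901) q16690, e3 q12515 (flp_a L180449) q12855, e3 q12516 L177713 q8221, e3 q12517 L177723 q9782, e3 q12518 (flp_a L180507) q12862, e3 q12519 L177739 q8223, e3 q12520 L177749 q9835, e3 q12521 L177761 q11184, e3 q12522 L177771 q11114, e3 q12523 L208951 q16696, e3 q12524 (flp_a L177787) q8229, e3 q12525 (flp_a L208983) q16700, e3 q12526 (flp_a L208991) q16701, e3 q12527 L209023 q16705, e3 q12528 (flp_a L177813) q8233, e3 q12529 (flp_a L209055) q16709, e3 q12530 (flp_a L209063) q16710, e3 q12531 (flp_a L177831) q8234, e3 q12532 (flp_a L209109) q16715, e3 q12533 (flp_a L177890) q12539, e3 q12534 (flp_a L181759) q13045, e3 q12535 L177860 q8236, e3 q12536 L177866 q8237, e3 q12537 (flp_a L209133) q16718, e3 q12538 (flp_a L185197) q13518, e3 q12539 L177890 q12533, e3 q12540 (flp_a L177896) q8238, e3 q12541 (flp_a L209167) q16721, e3 q12542 (flp_a L177955) q12548, e3 q12543 (flp_a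 L181237) q12969, trivial⟩ (by decide +kernel)

theorem ce_a_196 : ∀ r, r < 64 → sm ga (Qf (12544 + r)) = Qf (tab Gen.a (12544 + r)) :=
  edges_tab (sm ga) Qf (tab Gen.a) 12544 [(12544, 8240), (12545, 8241), (12546, 16724), (12547, 13542), (12548, 12542), (12549, 15447), (12550, 10932), (12551, 16727), (12552, 15343), (12553, 10923), (12554, 16731), (12555, 8248), (12556, 16734), (12557, 11430), (12558, 8249), (12559, 14990), (12560, 12905), (12561, 8250), (12562, 16737), (12563, 11270), (12564, 8251), (12565, 14942), (12566, 12920), (12567, 9016), (12568, 8950), (12569, 11296), (12570, 8896), (12571, 8263), (12572, 10424), (12573, 16740), (12574, 13519), (12575, 11455), (12576, 8890), (12577, 8274), (12578, 10390), (12579, 16742), (12580, 13543), (12581, 8909), (12582, 13279), (12583, 8296), (12584, 8887), (12585, 8286), (12586, 8287), (12587, 9073), (12588, 8903), (12589, 13266), (12590, 8885), (12591, 8295), (12592, 9012), (12593, 11562), (12594, 11614), (12595, 14158), (12596, 8310), (12597, 14179), (12598, 8316),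 (12599, 8322), (12600, 11261), (12601, 8325), (12602, 11421), (12603, 12213), (12604, 12272), (12605, 10310), (12606, 10949), (12607, 8337)]
    ⟨e3 q12544 L177925 q8240, e3 q12545 L177931 q8241, e3 q12546 (flp_a L209191) q16724, e3 q12547 (flp_a L185399) q13542, e3 q12548 L177955 q12542, e3 q12549 L199459 q15447, e3 q12550 (flp_a L177979) q10932, e3 q12551 L209217 q16727, e3 q12552 L198907 q15343, e3 q12553 (flp_a L178005) q10923, e3 q12554 L209247 q16731, e3 q12555 (flp_a L178013) q8248, e3 q12556 (flp_a L209273) q16734, e3 q12557 (flp_a L178287) q11430, e3 q12558 (flp_a L178034) q8249, e3 q12559 (flp_a L196590) q14990, e3 q12560 L180803 q12905, e3 q12561 (flp_a L178053) q8250, e3 q12562 (flp_a L209296) q16737, e3 q12563 (flp_a L178263) q11270, e3 q12564 (flp_a L178074) q8251, e3 q12565 (flp_a L196171) q14942, e3 q12566 L180913 q12920, e3 q12567 L178095 q9016, e3 q12568 L178105 q8950, e3 q12569 L178115 q11296, e3 q12570 L178135 q8896, e3 q12571 L178141 q8263, e3 q12572 L178151 q10424, e3 q12573 L209319 q16740,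 e3 q12574 (flp_a L185207) q13519, e3 q12575 L178173 q11455, e3 q12576 L178193 q8890, e3 q12577 L178199 q8274, e3 q12578 L178209 q10390, e3 q12579 L209337 q16742, e3 q12580 (flp_a L185409) q13543, e3 q12581 (flp_a L178239) q8909, e3 q12582 (flp_a L183341) q13279, e3 q12583 L178257 q8296, e3 q12584 L178273 q8887, e3 q12585 L178291 q8286, e3 q12586 L178299 q8287, e3 q12587 L178313 q9073, e3 q12588 (flp_a L178329) q8903, e3 q12589 (flp_a L183259) q13266, e3 q12590 L178347 q8885, e3 q12591 L178355 q8295, e3 q12592 L178363 q9012, e3 q12593 L178373 q11562, e3 q12594 L178383 q11614, e3 q12595 (flp_a L190289) q14158, e3 q12596 L178403 q8310, e3 q12597 (flp_a L190455) q14179, e3 q12598 L178425 q8316, e3 q12599 L178437 q8322, e3 q12600 L178451 q11261, e3 q12601 L178463 q8325, e3 q12602 L178477 q11421, e3 q12603 L178489 q12213, e3 q12604 L178499 q12272, e3 q12605 L178509 q10310, e3 q12606 L178521 q10949, e3 q12607 L178529 q8337, trivial⟩ (by decide +kernel)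

theorem ce_a_197 : ∀ r, r < 64 → sm ga (Qf (12608 + r)) = Qf (tab Gen.a (12608 + r)) :=
  edges_tab (sm ga) Qf (tab Gen.a) 12608 [(12608, 15573), (12609, 16747), (12610, 12396), (12611, 10961), (12612, 10347), (12613, 8345), (12614, 15813), (12615, 16750), (12616, 12350), (12617, 14836), (12618, 8353), (12619, 14804), (12620, 8357), (12621, 14784), (12622, 8360), (12623, 12671), (12624, 16753), (12625, 8362), (12626, 16756), (12627, 12631), (12628, 8364), (12629, 8365), (12630, 16758), (12631, 12627), (12632, 14818), (12633, 8368), (12634, 12700), (12635, 16761), (12636, 8370), (12637, 16764), (12638, 12642), (12639, 8372), (12640, 8373), (12641, 16766), (12642, 12638), (12643, 14846), (12644, 10618), (12645, 16208), (12646, 8377), (12647, 12651), (12648, 8419), (12649, 12834), (12650, 8380), (12651, 12647), (12652, 14848), (12653, 10567), (12654, 16238), (12655, 8384), (12656, 12660), (12657, 8400), (12658, 12839), (12659, 8387), (12660, 12656), (12661, 10620), (12662, 14289), (12663, 14703), (12664, 8393), (12665,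 8394), (12666, 12968), (12667, 10619), (12668, 10606), (12669, 16780), (12670, 16784), (12671, 12623)]
    ⟨e3 q12608 (flp_a L200287) q15573, e3 q12609 L209391 q16747, e3 q12610 L178547 q12396, e3 q12611 L178555 q10961, e3 q12612 L178563 q10347, e3 q12613 L178575 q8345, e3 q12614 L201994 q15813, e3 q12615 L209413 q16750, e3 q12616 L178593 q12350, e3 q12617 (flp_a L195255) q14836, e3 q12618 (flp_a L178607) q8353, e3 q12619 (flp_a L194969) q14804, e3 q12620 (flp_a L178623) q8357, e3 q12621 (flp_a L194777) q14784, e3 q12622 L178639 q8360, e3 q12623 (flp_a L179035) q12671, e3 q12624 L209429 q16753, e3 q12625 (flp_a L178657) q8362, e3 q12626 (flp_a L209457) q16756, e3 q12627 (flp_a L178699) q12631, e3 q12628 L178675 q8364, e3 q12629 L178681 q8365, e3 q12630 (flp_a L209477) q16758, e3 q12631 L178699 q12627, e3 q12632 (flp_a L195087) q14818, e3 q12633 L178717 q8368, e3 q12634 (flp_a L179231) q12700, e3 q12635 L209501 q16761, e3 q12636 (flp_a L178735) q8370, e3 q12637 (flp_a L209529) q16764, e3 q12638 (flp_a L178777) q12642,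 e3 q12639 L178753 q8372, e3 q12640 L178759 q8373, e3 q12641 (flp_a L209549) q16766, e3 q12642 L178777 q12638, e3 q12643 (flp_a L195336) q14846, e3 q12644 (flp_a L178803) q10618, e3 q12645 (flp_a L204731) q16208, e3 q12646 (flp_a L178814) q8377, e3 q12647 (flp_a L178866) q12651, e3 q12648 L178840 q8419, e3 q12649 (flp_a L180289) q12834, e3 q12650 L178852 q8380, e3 q12651 L178866 q12647, e3 q12652 (flp_a L195370) q14848, e3 q12653 (flp_a L178894) q10567, e3 q12654 (flp_a L204965) q16238, e3 q12655 (flp_a L178905) q8384, e3 q12656 (flp_a L178957) q12660, e3 q12657 (flp_a L178931) q8400, e3 q12658 (flp_a L180341) q12839, e3 q12659 L178943 q8387, e3 q12660 L178957 q12656, e3 q12661 (flp_a L178975) q10620, e3 q12662 (flp_a L191255) q14289, e3 q12663 (flp_a L194041) q14703, e3 q12664 L178987 q8393, e3 q12665 L178995 q8394, e3 q12666 (flp_a L181229) q12968, e3 q12667 L179007 q10619, e3 q12668 L179013 q10606, e3 q12669 (flp_a L209701) q16780, e3 q12670 L209727 q16784, e3 q12671 L179035 q12623, trivial⟩ (by decide +kernel)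

theorem ce_a_198 : ∀ r, r < 64 → sm ga (Qf (12672 + r)) = Qf (tab Gen.a (12672 + r)) :=
  edges_tab (sm ga) Qf (tab Gen.a) 12672 [(12672, 8395), (12673, 12725), (12674, 8398), (12675, 16788), (12676, 12688), (12677, 16777), (12678, 16776), (12679, 8401), (12680, 16793), (12681, 16768), (12682, 14880), (12683, 8404), (12684, 8405), (12685, 15310), (12686, 11540), (12687, 16797), (12688, 12676), (12689, 12269), (12690, 10569), (12691, 14344), (12692, 14722), (12693, 8412), (12694, 8413), (12695, 13044), (12696, 10568), (12697, 10552), (12698, 16806), (12699, 16810), (12700, 12634), (12701, 8414), (12702, 12732), (12703, 8417), (12704, 16814), (12705, 12717), (12706, 16772), (12707, 16771), (12708, 8420), (12709, 16819), (12710, 14847), (12711, 16773), (12712, 8423), (12713, 8424), (12714, 15257), (12715, 11381), (12716, 16823), (12717, 12705), (12718, 12327), (12719, 16070), (12720, 8427), (12721, 16831), (12722, 16832), (12723, 8728), (12724, 8429), (12725, 12673), (12726, 16147), (12727, 8432), (12728, 16838),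 (12729, 16839), (12730, 8773), (12731, 8434), (12732, 12702), (12733, 8453), (12734, 16844), (12735, 13262)]
    ⟨e3 q12672 (flp_a L179041) q8395, e3 q12673 (flp_a L179405) q12725, e3 q12674 L179053 q8398, e3 q12675 (flp_a L209751) q16788, e3 q12676 (flp_a L179147) q12688, e3 q12677 (flp_a L209673) q16777, e3 q12678 (flp_a L209669) q16776, e3 q12679 (flp_a L179083) q8401, e3 q12680 (flp_a L209791) q16793, e3 q12681 (flp_a L209577) q16768, e3 q12682 (flp_a L195653) q14880, e3 q12683 L179113 q8404, e3 q12684 L179121 q8405, e3 q12685 (flp_a L198697) q15310, e3 q12686 L179133 q11540, e3 q12687 (flp_a L209823) q16797, e3 q12688 L179147 q12676, e3 q12689 (flp_a L179163) q12269, e3 q12690 (flp_a L179171) q10569, e3 q12691 (flp_a L191638) q14344, e3 q12692 (flp_a L194203) q14722, e3 q12693 L179183 q8412, e3 q12694 L179191 q8413, e3 q12695 (flp_a L181751) q13044, e3 q12696 L179203 q10568, e3 q12697 L179209 q10552, e3 q12698 (flp_a L209903) q16806, e3 q12699 L209929 q16810, e3 q12700 L179231 q12634, e3 q12701 (flp_a L179237)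 q8414, e3 q12702 (flp_a L179455) q12732, e3 q12703 L179249 q8417, e3 q12704 (flp_a L209953) q16814, e3 q12705 (flp_a L179345) q12717, e3 q12706 (flp_a L209615) q16772, e3 q12707 (flp_a L209611) q16771, e3 q12708 (flp_a L179279) q8420, e3 q12709 (flp_a L209993) q16819, e3 q12710 (flp_a L195356) q14847, e3 q12711 (flp_a L209635) q16773, e3 q12712 L179311 q8423, e3 q12713 L179319 q8424, e3 q12714 (flp_a L198326) q15257, e3 q12715 L179331 q11381, e3 q12716 (flp_a L210025) q16823, e3 q12717 L179345 q12705, e3 q12718 (flp_a L179361) q12327, e3 q12719 (flp_a L203783) q16070, e3 q12720 (flp_a L179369) q8427, e3 q12721 (flp_a L210095) q16831, e3 q12722 (flp_a L210103) q16832, e3 q12723 L179387 q8728, e3 q12724 L179395 q8429, e3 q12725 L179405 q12673, e3 q12726 (flp_a L204291) q16147, e3 q12727 (flp_a L179419) q8432, e3 q12728 (flp_a L210145) q16838, e3 q12729 (flp_a L210153) q16839, e3 q12730 L179439 q8773, e3 q12731 L179445 q8434, e3 q12732 L179455 q12702, e3 q12733 (flp_a L179463) q8453, e3 q12734 (flp_a L210189) q16844,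 e3 q12735 (flp_a L183227) q13262, trivial⟩ (by decide +kernel)

theorem ce_a_199 : ∀ r, r < 64 → sm ga (Qf (12736 + r)) = Qf (tab Gen.a (12736 + r)) :=
  edges_tab (sm ga) Qf (tab Gen.a) 12736 [(12736, 8455), (12737, 9277), (12738, 12741), (12739, 8460), (12740, 9329), (12741, 12738), (12742, 8464), (12743, 16846), (12744, 13275), (12745, 8466), (12746, 9325), (12747, 12750), (12748, 8471), (12749, 9282), (12750, 12747), (12751, 14392), (12752, 14883), (12753, 12353), (12754, 12354), (12755, 14337), (12756, 14851), (12757, 12399), (12758, 12400), (12759, 9901), (12760, 8502), (12761, 10394), (12762, 8994), (12763, 16854), (12764, 8503), (12765, 10530), (12766, 14751), (12767, 11534), (12768, 9695), (12769, 8510), (12770, 16856), (12771, 8512), (12772, 8513), (12773, 16858), (12774, 8515), (12775, 8516), (12776, 16745), (12777, 14881), (12778, 11541), (12779, 10398), (12780, 11542), (12781, 14105), (12782, 8944), (12783, 10720), (12784, 9918), (12785, 8531), (12786, 10428), (12787, 9057), (12788, 16863), (12789,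 8532), (12790, 10482), (12791, 14772), (12792, 11374), (12793, 9673), (12794, 8539), (12795, 16865), (12796, 8541), (12797, 8542), (12798, 16867), (12799, 8544)]
    ⟨e3 q12736 L179483 q8455, e3 q12737 L179491 q9277, e3 q12738 (flp_a L179525) q12741, e3 q12739 L179505 q8460, e3 q12740 L179515 q9329, e3 q12741 L179525 q12738, e3 q12742 (flp_a L179531) q8464, e3 q12743 (flp_a L210200) q16846, e3 q12744 (flp_a L183309) q13275, e3 q12745 L179551 q8466, e3 q12746 L179559 q9325, e3 q12747 (flp_a L179593) q12750, e3 q12748 L179573 q8471, e3 q12749 L179583 q9282, e3 q12750 L179593 q12747, e3 q12751 (flp_a L191970) q14392, e3 q12752 (flp_a L195679) q14883, e3 q12753 L179611 q12353, e3 q12754 L179619 q12354, e3 q12755 (flp_a L191589) q14337, e3 q12756 (flp_a L195394) q14851, e3 q12757 L179639 q12399, e3 q12758 L179647 q12400, e3 q12759 L179657 q9901, e3 q12760 L179667 q8502, e3 q12761 L179683 q10394, e3 q12762 L179689 q8994, e3 q12763 L210273 q16854, e3 q12764 (flp_a L179703) q8503, e3 q12765 L183421 q10530, e3 q12766 (flp_a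 L194470) q14751, e3 q12767 L179723 q11534, e3 q12768 L179739 q9695, e3 q12769 (flp_a L179743) q8510, e3 q12770 (flp_a L210295) q16856, e3 q12771 L179763 q8512, e3 q12772 L179767 q8513, e3 q12773 (flp_a L210309) q16858, e3 q12774 L179781 q8515, e3 q12775 L179789 q8516, e3 q12776 (flp_a L209377) q16745, e3 q12777 (flp_a L195659) q14881, e3 q12778 L179815 q11541, e3 q12779 L179825 q10398, e3 q12780 L179835 q11542, e3 q12781 (flp_a L189877) q14105, e3 q12782 L179851 q8944, e3 q12783 L179863 q10720, e3 q12784 L179875 q9918, e3 q12785 L179885 q8531, e3 q12786 (flp_a L179901) q10428, e3 q12787 L179907 q9057, e3 q12788 L210361 q16863, e3 q12789 (flp_a L179921) q8532, e3 q12790 L183909 q10482, e3 q12791 (flp_a L194663) q14772, e3 q12792 L179941 q11374, e3 q12793 (flp_a L179957) q9673, e3 q12794 (flp_a L179961) q8539, e3 q12795 (flp_a L210383) q16865, e3 q12796 L179981 q8541, e3 q12797 L179985 q8542, e3 q12798 (flp_a L210397) q16867, e3 q12799 L179999 q8544, trivial⟩ (by decide +kernel)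

theorem ce_a_200 : ∀ r, r < 64 → sm ga (Qf (12800 + r)) = Qf (tab Gen.a (12800 + r)) :=
  edges_tab (sm ga) Qf (tab Gen.a) 12800 [(12800, 8546), (12801, 14849), (12802, 16744), (12803, 11382), (12804, 10432), (12805, 11383), (12806, 14051), (12807, 8928), (12808, 10801), (12809, 14701), (12810, 9493), (12811, 8557), (12812, 14794), (12813, 14720), (12814, 9509), (12815, 8566), (12816, 14826), (12817, 9619), (12818, 12445), (12819, 9582), (12820, 12481), (12821, 11269), (12822, 11428), (12823, 8593), (12824, 16872), (12825, 12846), (12826, 16876), (12827, 8595), (12828, 16879), (12829, 12852), (12830, 16883), (12831, 9732), (12832, 16720), (12833, 8600), (12834, 12649), (12835, 8779), (12836, 9752), (12837, 16714), (12838, 8604), (12839, 12658), (12840, 8734), (12841, 16886), (12842, 8606), (12843, 8607), (12844, 16889), (12845, 16890), (12846, 12825), (12847, 16897), (12848, 8609), (12849, 8610), (12850, 16900), (12851, 16901), (12852, 12829), (12853, 8611), (12854, 11682), (12855, 12515), (12856, 11461), (12857,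 8614), (12858, 13092), (12859, 8616), (12860, 11685), (12861, 11302), (12862, 12518), (12863, 8619)]
    ⟨e3 q12800 L180007 q8546, e3 q12801 (flp_a L195374) q14849, e3 q12802 (flp_a L209365) q16744, e3 q12803 L180033 q11382, e3 q12804 L180043 q10432, e3 q12805 L180053 q11383, e3 q12806 (flp_a L189445) q14051, e3 q12807 L180069 q8928, e3 q12808 L180081 q10801, e3 q12809 (flp_a L194025) q14701, e3 q12810 L180101 q9493, e3 q12811 (flp_a L180111) q8557, e3 q12812 (flp_a L194867) q14794, e3 q12813 (flp_a L194187) q14720, e3 q12814 L180133 q9509, e3 q12815 (flp_a L180143) q8566, e3 q12816 (flp_a L195153) q14826, e3 q12817 (flp_a L180165) q9619, e3 q12818 L180175 q12445, e3 q12819 (flp_a L180189) q9582, e3 q12820 L180199 q12481, e3 q12821 L180205 q11269, e3 q12822 L180211 q11428, e3 q12823 (flp_a L180215) q8593, e3 q12824 (flp_a L210453) q16872, e3 q12825 (flp_a L180391) q12846, e3 q12826 L210485 q16876, e3 q12827 (flp_a L180237) q8595, e3 q12828 (flp_a L210507) q16879, e3 q12829 (flp_a L180423) q12852, e3 q12830 L210539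 q16883, e3 q12831 L180261 q9732, e3 q12832 (flp_a L209161) q16720, e3 q12833 (flp_a L180279) q8600, e3 q12834 L180289 q12649, e3 q12835 L180301 q8779, e3 q12836 L180313 q9752, e3 q12837 (flp_a L209103) q16714, e3 q12838 (flp_a L180331) q8604, e3 q12839 L180341 q12658, e3 q12840 L180355 q8734, e3 q12841 L210559 q16886, e3 q12842 L180371 q8606, e3 q12843 L180375 q8607, e3 q12844 (flp_a L210589) q16889, e3 q12845 (flp_a L210597) q16890, e3 q12846 L180391 q12825, e3 q12847 L210645 q16897, e3 q12848 L180403 q8609, e3 q12849 L180407 q8610, e3 q12850 (flp_a L210685) q16900, e3 q12851 (flp_a L210693) q16901, e3 q12852 L180423 q12829, e3 q12853 (flp_a L180429) q8611, e3 q12854 L180443 q11682, e3 q12855 L180449 q12515, e3 q12856 L180457 q11461, e3 q12857 L180463 q8614, e3 q12858 (flp_a L182067) q13092, e3 q12859 (flp_a L180481) q8616, e3 q12860 L180495 q11685, e3 q12861 L180501 q11302, e3 q12862 L180507 q12518, e3 q12863 L180515 q8619, trivial⟩ (by decide +kernel)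

theorem ce_a_201 : ∀ r, r < 64 → sm ga (Qf (12864 + r)) = Qf (tab Gen.a (12864 + r)) :=
  edges_tab (sm ga) Qf (tab Gen.a) 12864 [(12864, 13021), (12865, 8623), (12866, 8626), (12867, 8627), (12868, 16912), (12869, 11460), (12870, 8628), (12871, 15426), (12872, 12878), (12873, 15348), (12874, 8630), (12875, 8631), (12876, 10119), (12877, 16920), (12878, 12872), (12879, 8632), (12880, 16924), (12881, 11301), (12882, 8633), (12883, 15529), (12884, 12890), (12885, 15452), (12886, 8635), (12887, 8636), (12888, 10100), (12889, 16932), (12890, 12884), (12891, 11293), (12892, 11456), (12893, 12988), (12894, 16937), (12895, 8644), (12896, 16940), (12897, 16941), (12898, 14093), (12899, 8648), (12900, 16945), (12901, 11071), (12902, 14875), (12903, 8651), (12904, 16829), (12905, 12560), (12906, 11452), (12907, 11298), (12908, 13062), (12909, 16952), (12910, 8660), (12911, 16955), (12912, 16956), (12913, 14036), (12914, 8664), (12915, 16960), (12916, 11033), (12917, 14873), (12918, 8667), (12919, 16803), (12920, 12566),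 (12921, 8670), (12922, 16967), (12923, 8671), (12924, 16970), (12925, 15449), (12926, 8672), (12927, 16973)]
    ⟨e3 q12864 (flp_a L181585) q13021, e3 q12865 L180535 q8623, e3 q12866 L180549 q8626, e3 q12867 (flp_a L180561) q8627, e3 q12868 (flp_a L210775) q16912, e3 q12869 L180573 q11460, e3 q12870 (flp_a L180577) q8628, e3 q12871 (flp_a L199331) q15426, e3 q12872 (flp_a L180623) q12878, e3 q12873 (flp_a L198946) q15348, e3 q12874 L180597 q8630, e3 q12875 L180603 q8631, e3 q12876 L180611 q10119, e3 q12877 (flp_a L210827) q16920, e3 q12878 L180623 q12872, e3 q12879 (flp_a L180629) q8632, e3 q12880 (flp_a L210859) q16924, e3 q12881 L180641 q11301, e3 q12882 (flp_a L180645) q8633, e3 q12883 (flp_a L199971) q15529, e3 q12884 (flp_a L180691) q12890, e3 q12885 (flp_a L199498) q15452, e3 q12886 L180665 q8635, e3 q12887 L180671 q8636, e3 q12888 L180679 q10100, e3 q12889 (flp_a L210911) q16932, e3 q12890 L180691 q12884, e3 q12891 L180699 q11293, e3 q12892 L180707 q11456, e3 q12893 (flp_a L181361) q12988, e3 q12894 L210947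 q16937, e3 q12895 (flp_a L180727) q8644, e3 q12896 (flp_a L210959) q16940, e3 q12897 (flp_a L210967) q16941, e3 q12898 (flp_a L189775) q14093, e3 q12899 (flp_a L180747) q8648, e3 q12900 (flp_a L210999) q16945, e3 q12901 L180763 q11071, e3 q12902 (flp_a L195592) q14875, e3 q12903 L180775 q8651, e3 q12904 (flp_a L210075) q16829, e3 q12905 (flp_a L180803) q12560, e3 q12906 L180807 q11452, e3 q12907 L180815 q11298, e3 q12908 (flp_a L181869) q13062, e3 q12909 L211055 q16952, e3 q12910 (flp_a L180835) q8660, e3 q12911 (flp_a L211067) q16955, e3 q12912 (flp_a L211075) q16956, e3 q12913 (flp_a L189343) q14036, e3 q12914 (flp_a L180855) q8664, e3 q12915 (flp_a L211107) q16960, e3 q12916 L180873 q11033, e3 q12917 (flp_a L195574) q14873, e3 q12918 L180885 q8667, e3 q12919 (flp_a L209873) q16803, e3 q12920 (flp_a L180913) q12566, e3 q12921 L180917 q8670, e3 q12922 L211169 q16967, e3 q12923 (flp_a L180933) q8671, e3 q12924 (flp_a L211199) q16970, e3 q12925 (flp_a L199480) q15449, e3 q12926 (flp_a L180947) q8672, e3 q12927 L211210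 q16973, trivial⟩ (by decide +kernel)

theorem ce_a_202 : ∀ r, r < 64 → sm ga (Qf (12928 + r)) = Qf (tab Gen.a (12928 + r)) :=
  edges_tab (sm ga) Qf (tab Gen.a) 12928 [(12928, 16977), (12929, 8676), (12930, 16980), (12931, 16981), (12932, 8677), (12933, 16985), (12934, 16986), (12935, 16885), (12936, 16989), (12937, 8682), (12938, 16992), (12939, 8683), (12940, 16995), (12941, 15345), (12942, 8684), (12943, 16998), (12944, 17002), (12945, 8688), (12946, 17005), (12947, 17006), (12948, 8689), (12949, 17010), (12950, 17011), (12951, 16878), (12952, 17014), (12953, 8697), (12954, 8698), (12955, 8699), (12956, 16695), (12957, 8703), (12958, 8704), (12959, 8705), (12960, 14638), (12961, 17016), (12962, 17017), (12963, 17018), (12964, 12966), (12965, 14809), (12966, 12964), (12967, 8701), (12968, 12666), (12969, 12543), (12970, 8756), (12971, 13617), (12972, 17019), (12973, 17020), (12974, 12976), (12975, 17036), (12976, 12974), (12977, 8712), (12978, 17041), (12979, 8708), (12980, 16556), (12981, 17045), (12982, 14879),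 (12983, 8710), (12984, 8711), (12985, 17049), (12986, 17050), (12987, 17055), (12988, 12893), (12989, 8713), (12990, 17060), (12991, 13121)]
    ⟨e3 q12928 L211242 q16977, e3 q12929 (flp_a L180971) q8676, e3 q12930 (flp_a L211266) q16980, e3 q12931 (flp_a L211270) q16981, e3 q12932 (flp_a L180983) q8677, e3 q12933 (flp_a L211296) q16985, e3 q12934 (flp_a L211304) q16986, e3 q12935 (flp_a L210551) q16885, e3 q12936 L211332 q16989, e3 q12937 L181013 q8682, e3 q12938 L211360 q16992, e3 q12939 (flp_a L181029) q8683, e3 q12940 (flp_a L211392) q16995, e3 q12941 L198928 q15345, e3 q12942 (flp_a L181043) q8684, e3 q12943 L211403 q16998, e3 q12944 L211437 q17002, e3 q12945 (flp_a L181071) q8688, e3 q12946 (flp_a L211465) q17005, e3 q12947 (flp_a L211469) q17006, e3 q12948 (flp_a L181083) q8689, e3 q12949 (flp_a L211497) q17010, e3 q12950 (flp_a L211511) q17011, e3 q12951 (flp_a L210497) q16878, e3 q12952 L211539 q17014, e3 q12953 L181125 q8697, e3 q12954 L181131 q8698, e3 q12955 L181141 q8699, e3 q12956 (flp_a L208943) q16695,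 e3 q12957 L181159 q8703, e3 q12958 L181165 q8704, e3 q12959 L181173 q8705, e3 q12960 L193553 q14638, e3 q12961 (flp_a L211561) q17016, e3 q12962 (flp_a L211575) q17017, e3 q12963 (flp_a L211587) q17018, e3 q12964 (flp_a L181207) q12966, e3 q12965 L195007 q14809, e3 q12966 L181207 q12964, e3 q12967 (flp_a L181215) q8701, e3 q12968 L181229 q12666, e3 q12969 L181237 q12543, e3 q12970 L181245 q8756, e3 q12971 (flp_a L186101) q13617, e3 q12972 (flp_a L211597) q17019, e3 q12973 (flp_a L211603) q17020, e3 q12974 (flp_a L181277) q12976, e3 q12975 L211723 q17036, e3 q12976 L181277 q12974, e3 q12977 L181287 q8712, e3 q12978 L211755 q17041, e3 q12979 (flp_a L181299) q8708, e3 q12980 L207696 q16556, e3 q12981 (flp_a L211773) q17045, e3 q12982 (flp_a L195635) q14879, e3 q12983 L181325 q8710, e3 q12984 L181335 q8711, e3 q12985 (flp_a L211807) q17049, e3 q12986 (flp_a L211815) q17050, e3 q12987 L211843 q17055, e3 q12988 L181361 q12893, e3 q12989 (flp_a L181369) q8713, e3 q12990 (flp_a L211881) q17060, e3 q12991 (flp_a L182287)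 q13121, trivial⟩ (by decide +kernel)

theorem ce_a_203 : ∀ r, r < 64 → sm ga (Qf (12992 + r)) = Qf (tab Gen.a (12992 + r)) :=
  edges_tab (sm ga) Qf (tab Gen.a) 12992 [(12992, 17064), (12993, 17067), (12994, 8716), (12995, 17069), (12996, 13132), (12997, 17074), (12998, 8718), (12999, 17078), (13000, 17079), (13001, 8719), (13002, 17083), (13003, 12507), (13004, 16853), (13005, 17088), (13006, 8721), (13007, 8766), (13008, 8780), (13009, 17092), (13010, 8723), (13011, 17094), (13012, 13017), (13013, 8725), (13014, 8726), (13015, 17097), (13016, 16219), (13017, 13012), (13018, 8729), (13019, 8730), (13020, 14787), (13021, 12864), (13022, 8731), (13023, 17103), (13024, 16554), (13025, 8735), (13026, 8736), (13027, 8737), (13028, 16739), (13029, 8742), (13030, 8743), (13031, 8744), (13032, 16694), (13033, 8748), (13034, 8749), (13035, 8750), (13036, 14667), (13037, 17107), (13038, 17108), (13039, 17109), (13040, 14807), (13041, 13042), (13042, 13041), (13043, 8745), (13044, 12695), (13045, 12534), (13046, 13619), (13047,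 17110), (13048, 17111), (13049, 17125), (13050, 13051), (13051, 13050), (13052, 8757), (13053, 17131), (13054, 8753), (13055, 16590)]
    ⟨e3 q12992 L211915 q17064, e3 q12993 L211929 q17067, e3 q12994 L181397 q8716, e3 q12995 (flp_a L211951) q17069, e3 q12996 (flp_a L182349) q13132, e3 q12997 L211987 q17074, e3 q12998 (flp_a L181423) q8718, e3 q12999 (flp_a L212013) q17078, e3 q13000 (flp_a L212019) q17079, e3 q13001 (flp_a L181439) q8719, e3 q13002 (flp_a L212047) q17083, e3 q13003 L181451 q12507, e3 q13004 (flp_a L210265) q16853, e3 q13005 L212081 q17088, e3 q13006 L181471 q8721, e3 q13007 L181481 q8766, e3 q13008 L181491 q8780, e3 q13009 L212117 q17092, e3 q13010 (flp_a L181503) q8723, e3 q13011 (flp_a L212135) q17094, e3 q13012 (flp_a L181553) q13017, e3 q13013 L181529 q8725, e3 q13014 L181535 q8726, e3 q13015 (flp_a L212163) q17097, e3 q13016 (flp_a L204829) q16219, e3 q13017 L181553 q13012, e3 q13018 L181561 q8729, e3 q13019 L181569 q8730, e3 q13020 (flp_a L194807) q14787, e3 q13021 L181585 q12864, e3 q13022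 (flp_a L181593) q8731, e3 q13023 (flp_a L212207) q17103, e3 q13024 (flp_a L207674) q16554, e3 q13025 L181615 q8735, e3 q13026 L181623 q8736, e3 q13027 (flp_a L181629) q8737, e3 q13028 (flp_a L209311) q16739, e3 q13029 L181647 q8742, e3 q13030 L181653 q8743, e3 q13031 L181663 q8744, e3 q13032 (flp_a L208933) q16694, e3 q13033 L181681 q8748, e3 q13034 L181687 q8749, e3 q13035 L181695 q8750, e3 q13036 L193765 q14667, e3 q13037 (flp_a L212229) q17107, e3 q13038 (flp_a L212243) q17108, e3 q13039 (flp_a L212253) q17109, e3 q13040 L194993 q14807, e3 q13041 (flp_a L181729) q13042, e3 q13042 L181729 q13041, e3 q13043 (flp_a L181737) q8745, e3 q13044 L181751 q12695, e3 q13045 L181759 q12534, e3 q13046 (flp_a L186119) q13619, e3 q13047 (flp_a L212265) q17110, e3 q13048 (flp_a L212271) q17111, e3 q13049 L212373 q17125, e3 q13050 (flp_a L181795) q13051, e3 q13051 L181795 q13050, e3 q13052 L181805 q8757, e3 q13053 L212411 q17131, e3 q13054 (flp_a L181817) q8753, e3 q13055 L207973 q16590, trivial⟩ (by decide +kernel)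

theorem ce_a_204 : ∀ r, r < 64 → sm ga (Qf (13056 + r)) = Qf (tab Gen.a (13056 + r)) :=
  edges_tab (sm ga) Qf (tab Gen.a) 13056 [(13056, 17135), (13057, 14845), (13058, 8755), (13059, 17139), (13060, 17030), (13061, 17144), (13062, 12908), (13063, 8758), (13064, 17149), (13065, 13180), (13066, 17065), (13067, 17154), (13068, 8761), (13069, 17156), (13070, 13191), (13071, 17160), (13072, 8763), (13073, 17164), (13074, 17165), (13075, 8764), (13076, 17168), (13077, 16862), (13078, 12508), (13079, 17173), (13080, 17175), (13081, 8768), (13082, 17100), (13083, 13088), (13084, 8770), (13085, 8771), (13086, 17178), (13087, 16249), (13088, 13083), (13089, 8774), (13090, 8775), (13091, 14820), (13092, 12858), (13093, 8776), (13094, 17183), (13095, 16589), (13096, 8781), (13097, 8782), (13098, 16736), (13099, 13100), (13100, 13099), (13101, 8789), (13102, 8790), (13103, 8791), (13104, 12181), (13105, 14637), (13106, 15533), (13107, 13108), (13108, 13107), (13109, 17191), (13110, 17054), (13111, 8794), (13112, 17193), (13113,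 13401), (13114, 16042), (13115, 10212), (13116, 8797), (13117, 8798), (13118, 9583), (13119, 17200)]
    ⟨e3 q13056 (flp_a L212429) q17135, e3 q13057 (flp_a L195324) q14845, e3 q13058 L181843 q8755, e3 q13059 (flp_a L212463) q17139, e3 q13060 (flp_a L211681) q17030, e3 q13061 L212487 q17144, e3 q13062 L181869 q12908, e3 q13063 (flp_a L181877) q8758, e3 q13064 (flp_a L212525) q17149, e3 q13065 (flp_a L182649) q13180, e3 q13066 (flp_a L222547) q17065, e3 q13067 L212573 q17154, e3 q13068 L181905 q8761, e3 q13069 (flp_a L212595) q17156, e3 q13070 (flp_a L182713) q13191, e3 q13071 L212623 q17160, e3 q13072 (flp_a L181931) q8763, e3 q13073 (flp_a L212649) q17164, e3 q13074 (flp_a L212655) q17165, e3 q13075 (flp_a L181947) q8764, e3 q13076 (flp_a L212675) q17168, e3 q13077 (flp_a L210353) q16862, e3 q13078 L181965 q12508, e3 q13079 L212709 q17173, e3 q13080 L212729 q17175, e3 q13081 (flp_a L181983) q8768, e3 q13082 (flp_a L212187) q17100, e3 q13083 (flp_a L182033) q13088, e3 q13084 L182009 q8770, e3 q13085 L182015 q8771,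 e3 q13086 (flp_a L212755) q17178, e3 q13087 (flp_a L205077) q16249, e3 q13088 L182033 q13083, e3 q13089 L182043 q8774, e3 q13090 L182053 q8775, e3 q13091 (flp_a L195111) q14820, e3 q13092 L182067 q12858, e3 q13093 (flp_a L182075) q8776, e3 q13094 (flp_a L212787) q17183, e3 q13095 (flp_a L207959) q16589, e3 q13096 L182097 q8781, e3 q13097 (flp_a L182105) q8782, e3 q13098 (flp_a L209288) q16736, e3 q13099 (flp_a L182133) q13100, e3 q13100 L182133 q13099, e3 q13101 L182145 q8789, e3 q13102 L182155 q8790, e3 q13103 L182167 q8791, e3 q13104 (flp_a L182177) q12181, e3 q13105 (flp_a L193537) q14637, e3 q13106 (flp_a L200003) q15533, e3 q13107 (flp_a L182209) q13108, e3 q13108 L182209 q13107, e3 q13109 L212839 q17191, e3 q13110 (flp_a L211841) q17054, e3 q13111 (flp_a L182225) q8794, e3 q13112 (flp_a L212855) q17193, e3 q13113 (flp_a L184298) q13401, e3 q13114 L203597 q16042, e3 q13115 L182255 q10212, e3 q13116 L182263 q8797, e3 q13117 L182267 q8798, e3 q13118 L187817 q9583, e3 q13119 (flp_a L212913) q17200, trivial⟩ (by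 decide +kernel)

theorem ce_a_205 : ∀ r, r < 64 → sm ga (Qf (13120 + r)) = Qf (tab Gen.a (13120 + r)) :=
  edges_tab (sm ga) Qf (tab Gen.a) 13120 [(13120, 17205), (13121, 12991), (13122, 8799), (13123, 17209), (13124, 17210), (13125, 8803), (13126, 8804), (13127, 17217), (13128, 11606), (13129, 17214), (13130, 17215), (13131, 17225), (13132, 12996), (13133, 8805), (13134, 13137), (13135, 14785), (13136, 8808), (13137, 13134), (13138, 8809), (13139, 16028), (13140, 17231), (13141, 8812), (13142, 14572), (13143, 13227), (13144, 17102), (13145, 8814), (13146, 8815), (13147, 8816), (13148, 17241), (13149, 17242), (13150, 17243), (13151, 17244), (13152, 13153), (13153, 13152), (13154, 8818), (13155, 17255), (13156, 17256), (13157, 17257), (13158, 13159), (13159, 13158), (13160, 8826), (13161, 8827), (13162, 8828), (13163, 11984), (13164, 14666), (13165, 15777), (13166, 13167), (13167, 13166), (13168, 17143), (13169, 17267), (13170, 8831), (13171, 17269), (13172, 13453), (13173, 16119), (13174, 10247), (13175, 8834),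 (13176, 8835), (13177, 9621), (13178, 17276), (13179, 17281), (13180, 13065), (13181, 8836), (13182, 17285), (13183, 17286)]
    ⟨e3 q13120 L212951 q17205, e3 q13121 L182287 q12991, e3 q13122 (flp_a L182293) q8799, e3 q13123 (flp_a L212975) q17209, e3 q13124 (flp_a L212979) q17210, e3 q13125 L182309 q8803, e3 q13126 L182315 q8804, e3 q13127 L213029 q17217, e3 q13128 L187805 q11606, e3 q13129 (flp_a L213005) q17214, e3 q13130 (flp_a L213015) q17215, e3 q13131 L213081 q17225, e3 q13132 L182349 q12996, e3 q13133 (flp_a L182357) q8805, e3 q13134 (flp_a L182381) q13137, e3 q13135 L194793 q14785, e3 q13136 L182373 q8808, e3 q13137 L182381 q13134, e3 q13138 (flp_a L182387) q8809, e3 q13139 (flp_a L203497) q16028, e3 q13140 (flp_a L213125) q17231, e3 q13141 L182403 q8812, e3 q13142 (flp_a L193141) q14572, e3 q13143 (flp_a L182944) q13227, e3 q13144 (flp_a L212203) q17102, e3 q13145 L182427 q8814, e3 q13146 L182431 q8815, e3 q13147 L182437 q8816, e3 q13148 (flp_a L213181) q17241, e3 q13149 (flp_a L213185) q17242, e3 q13150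 (flp_a L213193) q17243, e3 q13151 (flp_a L213199) q17244, e3 q13152 (flp_a L182466) q13153, e3 q13153 L182466 q13152, e3 q13154 (flp_a L182472) q8818, e3 q13155 (flp_a L213258) q17255, e3 q13156 (flp_a L213264) q17256, e3 q13157 (flp_a L213268) q17257, e3 q13158 (flp_a L182495) q13159, e3 q13159 L182495 q13158, e3 q13160 L182507 q8826, e3 q13161 L182517 q8827, e3 q13162 L182523 q8828, e3 q13163 (flp_a L182539) q11984, e3 q13164 (flp_a L193749) q14666, e3 q13165 (flp_a L201702) q15777, e3 q13166 (flp_a L182567) q13167, e3 q13167 L182567 q13166, e3 q13168 L212485 q17143, e3 q13169 L213341 q17267, e3 q13170 (flp_a L182587) q8831, e3 q13171 (flp_a L213357) q17269, e3 q13172 (flp_a L184674) q13453, e3 q13173 L204109 q16119, e3 q13174 L182617 q10247, e3 q13175 L182625 q8834, e3 q13176 L182629 q8835, e3 q13177 L188163 q9621, e3 q13178 (flp_a L213415) q17276, e3 q13179 L213453 q17281, e3 q13180 L182649 q13065, e3 q13181 (flp_a L182655) q8836, e3 q13182 (flp_a L213477) q17285, e3 q13183 (flp_a L213481) q17286, trivial⟩ (by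 decide +kernel)

theorem ce_a_206 : ∀ r, r < 64 → sm ga (Qf (13184 + r)) = Qf (tab Gen.a (13184 + r)) :=
  edges_tab (sm ga) Qf (tab Gen.a) 13184 [(13184, 8840), (13185, 8841), (13186, 17293), (13187, 11658), (13188, 17290), (13189, 17291), (13190, 17301), (13191, 13070), (13192, 8842), (13193, 13196), (13194, 14822), (13195, 8845), (13196, 13193), (13197, 8846), (13198, 16104), (13199, 17307), (13200, 8849), (13201, 14623), (13202, 13247), (13203, 17182), (13204, 8851), (13205, 8852), (13206, 8853), (13207, 17317), (13208, 17318), (13209, 17319), (13210, 17320), (13211, 13212), (13212, 13211), (13213, 8855), (13214, 17331), (13215, 17332), (13216, 17333), (13217, 8859), (13218, 16334), (13219, 11246), (13220, 14032), (13221, 13221), (13222, 15296), (13223, 8863), (13224, 11370), (13225, 17345), (13226, 17346), (13227, 13143), (13228, 8865), (13229, 17352), (13230, 17353), (13231, 8867), (13232, 8868), (13233, 17356), (13234, 17357), (13235, 17358), (13236, 13254), (13237, 8873), (13238, 16477), (13239, 11407),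 (13240, 14089), (13241, 13241), (13242, 15243), (13243, 8877), (13244, 11529), (13245, 17373), (13246, 17374), (13247, 13202)]
    ⟨e3 q13184 L182671 q8840, e3 q13185 L182677 q8841, e3 q13186 L213531 q17293, e3 q13187 L188151 q11658, e3 q13188 (flp_a L213507) q17290, e3 q13189 (flp_a L213517) q17291, e3 q13190 L213583 q17301, e3 q13191 L182713 q13070, e3 q13192 (flp_a L182721) q8842, e3 q13193 (flp_a L182757) q13196, e3 q13194 L195127 q14822, e3 q13195 L182747 q8845, e3 q13196 L182757 q13193, e3 q13197 (flp_a L182765) q8846, e3 q13198 (flp_a L203997) q16104, e3 q13199 (flp_a L213631) q17307, e3 q13200 L182785 q8849, e3 q13201 (flp_a L193457) q14623, e3 q13202 (flp_a L183093) q13247, e3 q13203 (flp_a L212783) q17182, e3 q13204 L182809 q8851, e3 q13205 L182813 q8852, e3 q13206 L182821 q8853, e3 q13207 (flp_a L213691) q17317, e3 q13208 (flp_a L213695) q17318, e3 q13209 (flp_a L213703) q17319, e3 q13210 (flp_a L213709) q17320, e3 q13211 (flp_a L182854) q13212, e3 q13212 L182854 q13211, e3 q13213 (flp_a L182862) q8855,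 e3 q13214 (flp_a L213768) q17331, e3 q13215 (flp_a L213774) q17332, e3 q13216 (flp_a L213780) q17333, e3 q13217 L182875 q8859, e3 q13218 (flp_a L205822) q16334, e3 q13219 L182891 q11246, e3 q13220 (flp_a L189311) q14032, e3 q13221 L182909 q13221, e3 q13222 (flp_a L198585) q15296, e3 q13223 (flp_a L182918) q8863, e3 q13224 L182926 q11370, e3 q13225 (flp_a L213869) q17345, e3 q13226 (flp_a L213877) q17346, e3 q13227 L182944 q13143, e3 q13228 (flp_a L182954) q8865, e3 q13229 (flp_a L213933) q17352, e3 q13230 (flp_a L213939) q17353, e3 q13231 L182971 q8867, e3 q13232 L182975 q8868, e3 q13233 (flp_a L213972) q17356, e3 q13234 (flp_a L213976) q17357, e3 q13235 (flp_a L213980) q17358, e3 q13236 (flp_a L222765) q13254, e3 q13237 L183014 q8873, e3 q13238 (flp_a L207053) q16477, e3 q13239 L183030 q11407, e3 q13240 (flp_a L189743) q14089, e3 q13241 L183048 q13241, e3 q13242 (flp_a L198214) q15243, e3 q13243 (flp_a L183061) q8877, e3 q13244 L183071 q11529, e3 q13245 (flp_a L214174) q17373, e3 q13246 (flp_a L214184) q17374,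 e3 q13247 L183093 q13202, trivial⟩ (by decide +kernel)

theorem ce_a_207 : ∀ r, r < 64 → sm ga (Qf (13248 + r)) = Qf (tab Gen.a (13248 + r)) :=
  edges_tab (sm ga) Qf (tab Gen.a) 13248 [(13248, 8879), (13249, 17380), (13250, 17381), (13251, 8881), (13252, 17384), (13253, 17385), (13254, 13236), (13255, 11683), (13256, 11686), (13257, 15717), (13258, 14783), (13259, 8920), (13260, 8921), (13261, 16743), (13262, 12735), (13263, 12312), (13264, 8924), (13265, 14866), (13266, 12589), (13267, 14876), (13268, 13478), (13269, 14958), (13270, 15943), (13271, 14817), (13272, 8936), (13273, 8937), (13274, 16741), (13275, 12744), (13276, 12253), (13277, 8940), (13278, 14872), (13279, 12582), (13280, 13426), (13281, 14874), (13282, 14911), (13283, 8953), (13284, 10861), (13285, 16539), (13286, 13287), (13287, 13286), (13288, 16673), (13289, 9042), (13290, 13618), (13291, 11951), (13292, 9670), (13293, 17400), (13294, 8966), (13295, 13418), (13296, 13305), (13297, 16870), (13298, 17401), (13299, 8969), (13300, 14030), (13301,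 10460), (13302, 16397), (13303, 8972), (13304, 9785), (13305, 13296), (13306, 8977), (13307, 15793), (13308, 9085), (13309, 8978), (13310, 13403), (13311, 17404)]
    ⟨e3 q13248 (flp_a L183103) q8879, e3 q13249 (flp_a L214246) q17380, e3 q13250 (flp_a L214254) q17381, e3 q13251 L183126 q8881, e3 q13252 (flp_a L214293) q17384, e3 q13253 (flp_a L214297) q17385, e3 q13254 L222765 q13236, e3 q13255 L183169 q11683, e3 q13256 L183177 q11686, e3 q13257 L201356 q15717, e3 q13258 (flp_a L194773) q14783, e3 q13259 L183203 q8920, e3 q13260 L183207 q8921, e3 q13261 (flp_a L209345) q16743, e3 q13262 L183227 q12735, e3 q13263 L183237 q12312, e3 q13264 L183241 q8924, e3 q13265 L195518 q14866, e3 q13266 L183259 q12589, e3 q13267 (flp_a L195598) q14876, e3 q13268 (flp_a L184872) q13478, e3 q13269 (flp_a L196311) q14958, e3 q13270 (flp_a L202993) q15943, e3 q13271 (flp_a L195083) q14817, e3 q13272 L183295 q8936, e3 q13273 L183299 q8937, e3 q13274 (flp_a L209327) q16741, e3 q13275 L183309 q12744, e3 q13276 L183319 q12253, e3 q13277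 L183323 q8940, e3 q13278 (flp_a L195564) q14872, e3 q13279 L183341 q12582, e3 q13280 (flp_a L184480) q13426, e3 q13281 (flp_a L195580) q14874, e3 q13282 (flp_a L195910) q14911, e3 q13283 L183365 q8953, e3 q13284 L183377 q10861, e3 q13285 (flp_a L207569) q16539, e3 q13286 (flp_a L183399) q13287, e3 q13287 L183399 q13286, e3 q13288 (flp_a L208765) q16673, e3 q13289 L183451 q9042, e3 q13290 (flp_a L186109) q13618, e3 q13291 L183473 q11951, e3 q13292 L183477 q9670, e3 q13293 L214529 q17400, e3 q13294 (flp_a L183491) q8966, e3 q13295 L184428 q13418, e3 q13296 (flp_a L183581) q13305, e3 q13297 (flp_a L210429) q16870, e3 q13298 L214539 q17401, e3 q13299 (flp_a L183515) q8969, e3 q13300 (flp_a L189293) q14030, e3 q13301 L183533 q10460, e3 q13302 (flp_a L206328) q16397, e3 q13303 L183561 q8972, e3 q13304 L183573 q9785, e3 q13305 L183581 q13296, e3 q13306 L183591 q8977, e3 q13307 (flp_a L201826) q15793, e3 q13308 L183607 q9085, e3 q13309 (flp_a L183609) q8978, e3 q13310 (flp_a L184314) q13403, e3 q13311 L214567 q17404, trivial⟩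 (by decide +kernel)

theorem ce_a_208 : ∀ r, r < 64 → sm ga (Qf (13312 + r)) = Qf (tab Gen.a (13312 + r)) :=
  edges_tab (sm ga) Qf (tab Gen.a) 13312 [(13312, 8982), (13313, 8983), (13314, 10392), (13315, 8985), (13316, 13317), (13317, 13316), (13318, 16216), (13319, 8987), (13320, 17405), (13321, 13326), (13322, 11937), (13323, 8989), (13324, 8990), (13325, 17408), (13326, 13321), (13327, 8992), (13328, 13333), (13329, 14898), (13330, 12371), (13331, 14896), (13332, 8995), (13333, 13328), (13334, 8996), (13335, 16211), (13336, 8998), (13337, 17412), (13338, 9060), (13339, 17414), (13340, 9118), (13341, 9009), (13342, 16241), (13343, 16246), (13344, 9020), (13345, 10866), (13346, 13347), (13347, 13346), (13348, 16655), (13349, 16574), (13350, 13620), (13351, 12154), (13352, 9692), (13353, 9031), (13354, 13470), (13355, 13365), (13356, 16871), (13357, 17418), (13358, 17419), (13359, 9035), (13360, 14087), (13361, 10509), (13362, 16366), (13363, 9038), (13364, 9838), (13365, 13355), (13366, 15544), (13367, 9138),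 (13368, 9043), (13369, 13455), (13370, 17422), (13371, 9047), (13372, 9048), (13373, 10426), (13374, 9051), (13375, 17423)]
    ⟨e3 q13312 (flp_a L183629) q8982, e3 q13313 (flp_a L183639) q8983, e3 q13314 L183651 q10392, e3 q13315 L183661 q8985, e3 q13316 (flp_a L183679) q13317, e3 q13317 L183679 q13316, e3 q13318 (flp_a L204798) q16216, e3 q13319 (flp_a L183693) q8987, e3 q13320 (flp_a L214579) q17405, e3 q13321 (flp_a L183733) q13326, e3 q13322 L183709 q11937, e3 q13323 L183715 q8989, e3 q13324 L183719 q8990, e3 q13325 (flp_a L214605) q17408, e3 q13326 L183733 q13321, e3 q13327 L183741 q8992, e3 q13328 (flp_a L183783) q13333, e3 q13329 (flp_a L195797) q14898, e3 q13330 L183759 q12371, e3 q13331 (flp_a L195781) q14896, e3 q13332 (flp_a L183771) q8995, e3 q13333 L183783 q13328, e3 q13334 (flp_a L183791) q8996, e3 q13335 L204764 q16211, e3 q13336 L183807 q8998, e3 q13337 L214647 q17412, e3 q13338 L183831 q9060, e3 q13339 L214661 q17414, e3 q13340 L183847 q9118, e3 q13341 L183851 q9009, e3 q13342 (flp_a L205006) q16241,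 e3 q13343 (flp_a L205040) q16246, e3 q13344 L183871 q9020, e3 q13345 L183883 q10866, e3 q13346 (flp_a L183899) q13347, e3 q13347 L183899 q13346, e3 q13348 (flp_a L208592) q16655, e3 q13349 (flp_a L207854) q16574, e3 q13350 (flp_a L186127) q13620, e3 q13351 L183941 q12154, e3 q13352 L183945 q9692, e3 q13353 (flp_a L183953) q9031, e3 q13354 (flp_a L184808) q13470, e3 q13355 (flp_a L184035) q13365, e3 q13356 (flp_a L210441) q16871, e3 q13357 L214701 q17418, e3 q13358 L214711 q17419, e3 q13359 (flp_a L183983) q9035, e3 q13360 (flp_a L189725) q14087, e3 q13361 L184001 q10509, e3 q13362 (flp_a L206066) q16366, e3 q13363 L184015 q9038, e3 q13364 L184027 q9838, e3 q13365 L184035 q13355, e3 q13366 (flp_a L200081) q15544, e3 q13367 (flp_a L184049) q9138, e3 q13368 (flp_a L184051) q9043, e3 q13369 (flp_a L184690) q13455, e3 q13370 L214739 q17422, e3 q13371 (flp_a L184071) q9047, e3 q13372 (flp_a L184081) q9048, e3 q13373 L184093 q10426, e3 q13374 (flp_a L184101) q9051, e3 q13375 (flp_a L214751) q17423, trivial⟩ (by decide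 +kernel)

theorem ce_a_209 : ∀ r, r < 64 → sm ga (Qf (13376 + r)) = Qf (tab Gen.a (13376 + r)) :=
  edges_tab (sm ga) Qf (tab Gen.a) 13376 [(13376, 13380), (13377, 12141), (13378, 9053), (13379, 9054), (13380, 13376), (13381, 9056), (13382, 14869), (13383, 14867), (13384, 12411), (13385, 17428), (13386, 9172), (13387, 12294), (13388, 15002), (13389, 13390), (13390, 13389), (13391, 16000), (13392, 17433), (13393, 9084), (13394, 12448), (13395, 16275), (13396, 10770), (13397, 13399), (13398, 9549), (13399, 13397), (13400, 9613), (13401, 13113), (13402, 16032), (13403, 13310), (13404, 16044), (13405, 11824), (13406, 9103), (13407, 9104), (13408, 17440), (13409, 9102), (13410, 14188), (13411, 14811), (13412, 13485), (13413, 17439), (13414, 9105), (13415, 13423), (13416, 12218), (13417, 14072), (13418, 13295), (13419, 14033), (13420, 9113), (13421, 9114), (13422, 17443), (13423, 13415), (13424, 9116), (13425, 11478), (13426, 13280), (13427, 16388), (13428, 17415), (13429, 16385), (13430, 9122), (13431, 12147), (13432,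 16508), (13433, 17448), (13434, 13464), (13435, 17451), (13436, 9126), (13437, 9127), (13438, 17453), (13439, 12235)]
    ⟨e3 q13376 (flp_a L184135) q13380, e3 q13377 L184117 q12141, e3 q13378 L184123 q9053, e3 q13379 L184127 q9054, e3 q13380 L184135 q13376, e3 q13381 L184143 q9056, e3 q13382 (flp_a L195540) q14869, e3 q13383 (flp_a L195524) q14867, e3 q13384 L184159 q12411, e3 q13385 L214809 q17428, e3 q13386 L184177 q9172, e3 q13387 (flp_a L184189) q12294, e3 q13388 (flp_a L196691) q15002, e3 q13389 (flp_a L184213) q13390, e3 q13390 L184213 q13389, e3 q13391 L203328 q16000, e3 q13392 L214860 q17433, e3 q13393 (flp_a L184230) q9084, e3 q13394 L205207 q12448, e3 q13395 (flp_a L205287) q16275, e3 q13396 L184248 q10770, e3 q13397 (flp_a L184278) q13399, e3 q13398 (flp_a L184274) q9549, e3 q13399 L184278 q13397, e3 q13400 (flp_a L184294) q9613, e3 q13401 L184298 q13113, e3 q13402 (flp_a L203523) q16032, e3 q13403 L184314 q13310, e3 q13404 (flp_a L203609) q16044, e3 q13405 L184332 q11824, e3 q13406 L184344 q9103, e3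 q13407 L184356 q9104, e3 q13408 L214928 q17440, e3 q13409 (flp_a L184366) q9102, e3 q13410 (flp_a L190549) q14188, e3 q13411 (flp_a L195023) q14811, e3 q13412 L184918 q13485, e3 q13413 (flp_a L214918) q17439, e3 q13414 (flp_a L184398) q9105, e3 q13415 (flp_a L184456) q13423, e3 q13416 (flp_a L184414) q12218, e3 q13417 (flp_a L189607) q14072, e3 q13418 (flp_a L184428) q13295, e3 q13419 (flp_a L189315) q14033, e3 q13420 L184440 q9113, e3 q13421 L184446 q9114, e3 q13422 (flp_a L214966) q17443, e3 q13423 L184456 q13415, e3 q13424 (flp_a L184460) q9116, e3 q13425 L184472 q11478, e3 q13426 L184480 q13280, e3 q13427 (flp_a L206254) q16388, e3 q13428 (flp_a L214675) q17415, e3 q13429 (flp_a L206228) q16385, e3 q13430 L184502 q9122, e3 q13431 L184510 q12147, e3 q13432 (flp_a L207305) q16508, e3 q13433 L215016 q17448, e3 q13434 (flp_a L184824) q13464, e3 q13435 L215042 q17451, e3 q13436 L184527 q9126, e3 q13437 L184533 q9127, e3 q13438 (flp_a L215054) q17453, e3 q13439 L184559 q12235, trivial⟩ (by decide +kernel)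

theorem ce_a_210 : ∀ r, r < 64 → sm ga (Qf (13440 + r)) = Qf (tab Gen.a (13440 + r)) :=
  edges_tab (sm ga) Qf (tab Gen.a) 13440 [(13440, 15015), (13441, 13442), (13442, 13441), (13443, 17456), (13444, 16076), (13445, 10686), (13446, 9139), (13447, 12484), (13448, 16430), (13449, 13451), (13450, 9536), (13451, 13449), (13452, 9575), (13453, 13172), (13454, 16109), (13455, 13369), (13456, 16120), (13457, 12046), (13458, 9157), (13459, 9158), (13460, 17465), (13461, 9156), (13462, 14167), (13463, 14791), (13464, 13434), (13465, 17464), (13466, 9159), (13467, 13475), (13468, 12277), (13469, 14123), (13470, 13354), (13471, 14090), (13472, 9167), (13473, 9168), (13474, 17468), (13475, 13467), (13476, 9170), (13477, 11319), (13478, 13268), (13479, 16507), (13480, 16373), (13481, 17429), (13482, 9176), (13483, 16387), (13484, 11942), (13485, 13412), (13486, 17473), (13487, 17476), (13488, 9180), (13489, 9181), (13490, 17478), (13491, 13932), (13492, 9192), (13493, 9751), (13494, 9191), (13495, 10683), (13496, 9528), (13497,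 10767), (13498, 9731), (13499, 9541), (13500, 9199), (13501, 13680), (13502, 9204), (13503, 9206)]
    ⟨e3 q13440 (flp_a L196799) q15015, e3 q13441 (flp_a L184583) q13442, e3 q13442 L184583 q13441, e3 q13443 L215080 q17456, e3 q13444 L203828 q16076, e3 q13445 L184602 q10686, e3 q13446 (flp_a L184608) q9139, e3 q13447 L184618 q12484, e3 q13448 (flp_a L206608) q16430, e3 q13449 (flp_a L184654) q13451, e3 q13450 (flp_a L184650) q9536, e3 q13451 L184654 q13449, e3 q13452 (flp_a L184670) q9575, e3 q13453 L184674 q13172, e3 q13454 (flp_a L204033) q16109, e3 q13455 L184690 q13369, e3 q13456 (flp_a L204113) q16120, e3 q13457 L184708 q12046, e3 q13458 L184720 q9157, e3 q13459 L184732 q9158, e3 q13460 L215167 q17465, e3 q13461 (flp_a L184742) q9156, e3 q13462 (flp_a L190353) q14167, e3 q13463 (flp_a L194839) q14791, e3 q13464 L184824 q13434, e3 q13465 (flp_a L215157) q17464, e3 q13466 (flp_a L184774) q9159, e3 q13467 (flp_a L184844) q13475, e3 q13468 (flp_a L184792) q12277, e3 q13469 (flp_a L190033) q14123, e3 q13470 L184808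 q13354, e3 q13471 (flp_a L189747) q14090, e3 q13472 L184818 q9167, e3 q13473 L184832 q9168, e3 q13474 (flp_a L215205) q17468, e3 q13475 L184844 q13467, e3 q13476 (flp_a L184850) q9170, e3 q13477 L184864 q11319, e3 q13478 L184872 q13268, e3 q13479 (flp_a L207293) q16507, e3 q13480 (flp_a L206132) q16373, e3 q13481 (flp_a L214823) q17429, e3 q13482 L184894 q9176, e3 q13483 (flp_a L206248) q16387, e3 q13484 (flp_a L184906) q11942, e3 q13485 (flp_a L184918) q13412, e3 q13486 L215259 q17473, e3 q13487 L215285 q17476, e3 q13488 L184927 q9180, e3 q13489 L184933 q9181, e3 q13490 (flp_a L215301) q17478, e3 q13491 (flp_a L188583) q13932, e3 q13492 L184961 q9192, e3 q13493 (flp_a L184979) q9751, e3 q13494 (flp_a L184983) q9191, e3 q13495 L184999 q10683, e3 q13496 L185007 q9528, e3 q13497 L185021 q10767, e3 q13498 L185037 q9731, e3 q13499 (flp_a L185053) q9541, e3 q13500 (flp_a L185055) q9199, e3 q13501 L186627 q13680, e3 q13502 L185079 q9204, e3 q13503 L185091 q9206, trivial⟩ (by decide +kernel)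

theorem ce_a_211 : ∀ r, r < 64 → sm ga (Qf (13504 + r)) = Qf (tab Gen.a (13504 + r)) :=
  edges_tab (sm ga) Qf (tab Gen.a) 13504 [(13504, 9207), (13505, 17480), (13506, 17481), (13507, 14024), (13508, 14978), (13509, 9212), (13510, 14977), (13511, 17484), (13512, 15010), (13513, 15006), (13514, 9217), (13515, 9219), (13516, 9220), (13517, 13583), (13518, 12538), (13519, 12574), (13520, 17488), (13521, 13929), (13522, 9231), (13523, 9229), (13524, 9235), (13525, 13689), (13526, 9240), (13527, 9242), (13528, 9244), (13529, 17489), (13530, 17490), (13531, 14005), (13532, 14930), (13533, 9248), (13534, 14929), (13535, 17493), (13536, 15022), (13537, 15018), (13538, 9253), (13539, 9255), (13540, 9256), (13541, 13556), (13542, 12547), (13543, 12580), (13544, 17497), (13545, 14919), (13546, 13586), (13547, 9261), (13548, 13553), (13549, 10691), (13550, 13551), (13551, 13550), (13552, 10822), (13553, 13548), (13554, 9268), (13555, 9299), (13556, 13541), (13557, 9281), (13558, 14756), (13559, 10755), (13560, 13577), (13561,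 9290), (13562, 9291), (13563, 10740), (13564, 13565), (13565, 13564), (13566, 10730), (13567, 12474)]
    ⟨e3 q13504 L185097 q9207, e3 q13505 (flp_a L215317) q17480, e3 q13506 (flp_a L215327) q17481, e3 q13507 L189235 q14024, e3 q13508 (flp_a L196516) q14978, e3 q13509 (flp_a L185133) q9212, e3 q13510 (flp_a L196510) q14977, e3 q13511 (flp_a L215357) q17484, e3 q13512 (flp_a L196755) q15010, e3 q13513 (flp_a L196729) q15006, e3 q13514 L185159 q9217, e3 q13515 L185167 q9219, e3 q13516 L185175 q9220, e3 q13517 (flp_a L185789) q13583, e3 q13518 L185197 q12538, e3 q13519 L185207 q12574, e3 q13520 L215395 q17488, e3 q13521 (flp_a L188561) q13929, e3 q13522 L185231 q9231, e3 q13523 (flp_a L185241) q9229, e3 q13524 (flp_a L185255) q9235, e3 q13525 (flp_a L186712) q13689, e3 q13526 L185281 q9240, e3 q13527 L185293 q9242, e3 q13528 L185299 q9244, e3 q13529 (flp_a L215405) q17489, e3 q13530 (flp_a L215415) q17490, e3 q13531 L189113 q14005, e3 q13532 (flp_a L196101) q14930, e3 q13533 (flp_a L185335) q9248, e3 q13534 (flp_a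 L196095) q14929, e3 q13535 (flp_a L215445) q17493, e3 q13536 (flp_a L196857) q15022, e3 q13537 (flp_a L196831) q15018, e3 q13538 L185361 q9253, e3 q13539 L185369 q9255, e3 q13540 L185381 q9256, e3 q13541 (flp_a L185519) q13556, e3 q13542 L185399 q12547, e3 q13543 L185409 q12580, e3 q13544 L215483 q17497, e3 q13545 (flp_a L195992) q14919, e3 q13546 L185825 q13586, e3 q13547 (flp_a L185431) q9261, e3 q13548 (flp_a L185481) q13553, e3 q13549 (flp_a L185827) q10691, e3 q13550 (flp_a L185457) q13551, e3 q13551 L185457 q13550, e3 q13552 L185471 q10822, e3 q13553 L185481 q13548, e3 q13554 (flp_a L185493) q9268, e3 q13555 L185507 q9299, e3 q13556 L185519 q13541, e3 q13557 (flp_a L185527) q9281, e3 q13558 (flp_a L194514) q14756, e3 q13559 L185541 q10755, e3 q13560 (flp_a L185727) q13577, e3 q13561 L185561 q9290, e3 q13562 L185569 q9291, e3 q13563 L185579 q10740, e3 q13564 (flp_a L185599) q13565, e3 q13565 L185599 q13564, e3 q13566 L185611 q10730, e3 q13567 L185631 q12474, trivial⟩ (by decide +kernel)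

theorem ce_a_212 : ∀ r, r < 64 → sm ga (Qf (13568 + r)) = Qf (tab Gen.a (13568 + r)) :=
  edges_tab (sm ga) Qf (tab Gen.a) 13568 [(13568, 9320), (13569, 9306), (13570, 13579), (13571, 13707), (13572, 9304), (13573, 9305), (13574, 17500), (13575, 12164), (13576, 14967), (13577, 13560), (13578, 9314), (13579, 13570), (13580, 10775), (13581, 10843), (13582, 9342), (13583, 13517), (13584, 14777), (13585, 10671), (13586, 13546), (13587, 9336), (13588, 10656), (13589, 10645), (13590, 12437), (13591, 9348), (13592, 13705), (13593, 9346), (13594, 9347), (13595, 17505), (13596, 11961), (13597, 9354), (13598, 17508), (13599, 17509), (13600, 9355), (13601, 17512), (13602, 17513), (13603, 13604), (13604, 13603), (13605, 11887), (13606, 12096), (13607, 9363), (13608, 9364), (13609, 14173), (13610, 17516), (13611, 9366), (13612, 9367), (13613, 14194), (13614, 17518), (13615, 9494), (13616, 9510), (13617, 12971), (13618, 13290), (13619, 13046), (13620, 13350), (13621, 9609), (13622, 9376), (13623, 17527), (13624, 13733), (13625,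 9571), (13626, 9379), (13627, 17531), (13628, 13758), (13629, 9380), (13630, 14381), (13631, 13637)]
    ⟨e3 q13568 L185643 q9320, e3 q13569 L185655 q9306, e3 q13570 (flp_a L185745) q13579, e3 q13571 (flp_a L186905) q13707, e3 q13572 (flp_a L185683) q9304, e3 q13573 (flp_a L185689) q9305, e3 q13574 (flp_a L215508) q17500, e3 q13575 L185707 q12164, e3 q13576 (flp_a L196405) q14967, e3 q13577 L185727 q13560, e3 q13578 (flp_a L185731) q9314, e3 q13579 L185745 q13570, e3 q13580 L185757 q10775, e3 q13581 L185763 q10843, e3 q13582 L185775 q9342, e3 q13583 L185789 q13517, e3 q13584 (flp_a L194707) q14777, e3 q13585 L185803 q10671, e3 q13586 (flp_a L185825) q13546, e3 q13587 L185833 q9336, e3 q13588 L185843 q10656, e3 q13589 L185851 q10645, e3 q13590 (flp_a L185871) q12437, e3 q13591 L185875 q9348, e3 q13592 (flp_a L186881) q13705, e3 q13593 (flp_a L185895) q9346, e3 q13594 (flp_a L185903) q9347, e3 q13595 (flp_a L215558) q17505, e3 q13596 L185925 q11961, e3 q13597 (flp_a L185933) q9354, e3 q13598 (flp_a L215593) q17508,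 e3 q13599 (flp_a L215602) q17509, e3 q13600 (flp_a L185957) q9355, e3 q13601 (flp_a L215629) q17512, e3 q13602 (flp_a L215638) q17513, e3 q13603 (flp_a L185995) q13604, e3 q13604 L185995 q13603, e3 q13605 L186009 q11887, e3 q13606 L186020 q12096, e3 q13607 L186031 q9363, e3 q13608 L186036 q9364, e3 q13609 (flp_a L190413) q14173, e3 q13610 (flp_a L215667) q17516, e3 q13611 L186055 q9366, e3 q13612 L186060 q9367, e3 q13613 (flp_a L190609) q14194, e3 q13614 (flp_a L215683) q17518, e3 q13615 L186081 q9494, e3 q13616 L186091 q9510, e3 q13617 L186101 q12971, e3 q13618 L186109 q13290, e3 q13619 L186119 q13046, e3 q13620 L186127 q13350, e3 q13621 L186143 q9609, e3 q13622 (flp_a L186145) q9376, e3 q13623 (flp_a L215763) q17527, e3 q13624 (flp_a L187107) q13733, e3 q13625 L186175 q9571, e3 q13626 (flp_a L186177) q9379, e3 q13627 (flp_a L215797) q17531, e3 q13628 (flp_a L187291) q13758, e3 q13629 (flp_a L186199) q9380, e3 q13630 L191888 q14381, e3 q13631 (flp_a L186256) q13637, trivial⟩ (by decide +kernel)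

theorem ce_a_213 : ∀ r, r < 64 → sm ga (Qf (13632 + r)) = Qf (tab Gen.a (13632 + r)) :=
  edges_tab (sm ga) Qf (tab Gen.a) 13632 [(13632, 13839), (13633, 9382), (13634, 9383), (13635, 16652), (13636, 17535), (13637, 13631), (13638, 9384), (13639, 14326), (13640, 13646), (13641, 13788), (13642, 9386), (13643, 9387), (13644, 16670), (13645, 17539), (13646, 13640), (13647, 13651), (13648, 9406), (13649, 13658), (13650, 9402), (13651, 13647), (13652, 13764), (13653, 15696), (13654, 17543), (13655, 11509), (13656, 13745), (13657, 13739), (13658, 13649), (13659, 15924), (13660, 17542), (13661, 11350), (13662, 13770), (13663, 13664), (13664, 13663), (13665, 15016), (13666, 15003), (13667, 14950), (13668, 14902), (13669, 15017), (13670, 15004), (13671, 9756), (13672, 9426), (13673, 16654), (13674, 9736), (13675, 9428), (13676, 16672), (13677, 9429), (13678, 13696), (13679, 13685), (13680, 13501), (13681, 9431), (13682, 9432), (13683, 13697), (13684, 14732), (13685, 13679), (13686, 9433), (13687, 13699), (13688, 13694),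 (13689, 13525), (13690, 9435), (13691, 9436), (13692, 13700), (13693, 14713), (13694, 13688), (13695, 9444)]
    ⟨e3 q13632 (flp_a L187909) q13839, e3 q13633 L186232 q9382, e3 q13634 L186238 q9383, e3 q13635 (flp_a L208556) q16652, e3 q13636 (flp_a L215825) q17535, e3 q13637 L186256 q13631, e3 q13638 (flp_a L186262) q9384, e3 q13639 (flp_a L191507) q14326, e3 q13640 (flp_a L186323) q13646, e3 q13641 (flp_a L187545) q13788, e3 q13642 L186295 q9386, e3 q13643 L186301 q9387, e3 q13644 (flp_a L208729) q16670, e3 q13645 (flp_a L215861) q17539, e3 q13646 L186323 q13640, e3 q13647 (flp_a L186367) q13651, e3 q13648 L186345 q9406, e3 q13649 (flp_a L186419) q13658, e3 q13650 L186363 q9402, e3 q13651 L186367 q13647, e3 q13652 (flp_a L187333) q13764, e3 q13653 L201197 q15696, e3 q13654 (flp_a L215911) q17543, e3 q13655 L186400 q11509, e3 q13656 L187201 q13745, e3 q13657 (flp_a L187145) q13739, e3 q13658 L186419 q13649, e3 q13659 L202830 q15924, e3 q13660 (flp_a L215899) q17542, e3 q13661 L186446 q11350, e3 q13662 L187389 q13770,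 e3 q13663 (flp_a L186471) q13664, e3 q13664 L186471 q13663, e3 q13665 (flp_a L196816) q15016, e3 q13666 L196706 q15003, e3 q13667 (flp_a L196243) q14950, e3 q13668 L195834 q14902, e3 q13669 (flp_a L196820) q15017, e3 q13670 (flp_a L196710) q15004, e3 q13671 L186541 q9756, e3 q13672 (flp_a L186545) q9426, e3 q13673 (flp_a L208572) q16654, e3 q13674 L186571 q9736, e3 q13675 (flp_a L186575) q9428, e3 q13676 (flp_a L208745) q16672, e3 q13677 (flp_a L186591) q9429, e3 q13678 (flp_a L186773) q13696, e3 q13679 (flp_a L186664) q13685, e3 q13680 (flp_a L186627) q13501, e3 q13681 L186635 q9431, e3 q13682 L186639 q9432, e3 q13683 (flp_a L186783) q13697, e3 q13684 (flp_a L194295) q14732, e3 q13685 L186664 q13679, e3 q13686 (flp_a L186676) q9433, e3 q13687 (flp_a L186803) q13699, e3 q13688 (flp_a L186749) q13694, e3 q13689 L186712 q13525, e3 q13690 L186720 q9435, e3 q13691 L186724 q9436, e3 q13692 (flp_a L186813) q13700, e3 q13693 (flp_a L194133) q14713, e3 q13694 L186749 q13688, e3 q13695 L186763 q9444, trivial⟩ (by decide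 +kernel)

theorem ce_a_214 : ∀ r, r < 64 → sm ga (Qf (13696 + r)) = Qf (tab Gen.a (13696 + r)) :=
  edges_tab (sm ga) Qf (tab Gen.a) 13696 [(13696, 13678), (13697, 13683), (13698, 9453), (13699, 13687), (13700, 13692), (13701, 9458), (13702, 10816), (13703, 9463), (13704, 10837), (13705, 13592), (13706, 10677), (13707, 13571), (13708, 10761), (13709, 13966), (13710, 9488), (13711, 9480), (13712, 16358), (13713, 12166), (13714, 9877), (13715, 13945), (13716, 16300), (13717, 11963), (13718, 9824), (13719, 10978), (13720, 11003), (13721, 17520), (13722, 17399), (13723, 9496), (13724, 9497), (13725, 14653), (13726, 17565), (13727, 13803), (13728, 13804), (13729, 17572), (13730, 9499), (13731, 17575), (13732, 14320), (13733, 13624), (13734, 9501), (13735, 17576), (13736, 13744), (13737, 9503), (13738, 17579), (13739, 13657), (13740, 17583), (13741, 9506), (13742, 9507), (13743, 17586), (13744, 13736), (13745, 13656), (13746, 17521), (13747, 17417), (13748, 9512), (13749, 9513), (13750, 14684), (13751, 17593), (13752,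 13852), (13753, 13853), (13754, 17600), (13755, 9515), (13756, 17603), (13757, 14375), (13758, 13628), (13759, 9517)]
    ⟨e3 q13696 L186773 q13678, e3 q13697 L186783 q13683, e3 q13698 L186793 q9453, e3 q13699 L186803 q13687, e3 q13700 L186813 q13692, e3 q13701 L186823 q9458, e3 q13702 L186835 q10816, e3 q13703 L186849 q9463, e3 q13704 L186861 q10837, e3 q13705 L186881 q13592, e3 q13706 L186895 q10677, e3 q13707 L186905 q13571, e3 q13708 (flp_a L186919) q10761, e3 q13709 (flp_a L188819) q13966, e3 q13710 L186931 q9488, e3 q13711 L186935 q9480, e3 q13712 (flp_a L205988) q16358, e3 q13713 L186949 q12166, e3 q13714 L186961 q9877, e3 q13715 (flp_a L188681) q13945, e3 q13716 (flp_a L205534) q16300, e3 q13717 L186985 q11963, e3 q13718 L186997 q9824, e3 q13719 L187009 q10978, e3 q13720 L187015 q11003, e3 q13721 (flp_a L215699) q17520, e3 q13722 (flp_a L214521) q17399, e3 q13723 L187037 q9496, e3 q13724 L187045 q9497, e3 q13725 (flp_a L193661) q14653, e3 q13726 (flp_a L216089) q17565, e3 q13727 (flp_a L187643) q13803, e3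 q13728 (flp_a L187651) q13804, e3 q13729 L216133 q17572, e3 q13730 (flp_a L187083) q9499, e3 q13731 (flp_a L216149) q17575, e3 q13732 (flp_a L191457) q14320, e3 q13733 L187107 q13624, e3 q13734 L187113 q9501, e3 q13735 (flp_a L216161) q17576, e3 q13736 (flp_a L187185) q13744, e3 q13737 (flp_a L187133) q9503, e3 q13738 (flp_a L216189) q17579, e3 q13739 L187145 q13657, e3 q13740 L216215 q17583, e3 q13741 L187159 q9506, e3 q13742 L187167 q9507, e3 q13743 (flp_a L216233) q17586, e3 q13744 L187185 q13736, e3 q13745 (flp_a L187201) q13656, e3 q13746 (flp_a L215709) q17521, e3 q13747 (flp_a L214693) q17417, e3 q13748 L187221 q9512, e3 q13749 L187229 q9513, e3 q13750 L193889 q14684, e3 q13751 (flp_a L216287) q17593, e3 q13752 (flp_a L187989) q13852, e3 q13753 (flp_a L187997) q13853, e3 q13754 L216331 q17600, e3 q13755 (flp_a L187267) q9515, e3 q13756 (flp_a L216347) q17603, e3 q13757 (flp_a L191838) q14375, e3 q13758 L187291 q13628, e3 q13759 L187297 q9517, trivial⟩ (by decide +kernel)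

theorem ce_a_215 : ∀ r, r < 64 → sm ga (Qf (13760 + r)) = Qf (tab Gen.a (13760 + r)) :=
  edges_tab (sm ga) Qf (tab Gen.a) 13760 [(13760, 17604), (13761, 13769), (13762, 9519), (13763, 17607), (13764, 13652), (13765, 17611), (13766, 9522), (13767, 9523), (13768, 17614), (13769, 13761), (13770, 13662), (13771, 9590), (13772, 9981), (13773, 10979), (13774, 10090), (13775, 14633), (13776, 9537), (13777, 9616), (13778, 11015), (13779, 9628), (13780, 9998), (13781, 11002), (13782, 10109), (13783, 14584), (13784, 9550), (13785, 9578), (13786, 10991), (13787, 17626), (13788, 13641), (13789, 9603), (13790, 9566), (13791, 9567), (13792, 9568), (13793, 17631), (13794, 9562), (13795, 17634), (13796, 17635), (13797, 9565), (13798, 14439), (13799, 14440), (13800, 17628), (13801, 17629), (13802, 17644), (13803, 13727), (13804, 13728), (13805, 17648), (13806, 9570), (13807, 17651), (13808, 17652), (13809, 15925), (13810, 17530), (13811, 17659), (13812, 9573), (13813, 17663), (13814, 17664), (13815, 13834), (13816, 12290), (13817,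 9577), (13818, 17670), (13819, 11049), (13820, 10207), (13821, 10213), (13822, 10219), (13823, 10220)]
    ⟨e3 q13760 (flp_a L216359) q17604, e3 q13761 (flp_a L187373) q13769, e3 q13762 (flp_a L187317) q9519, e3 q13763 (flp_a L216387) q17607, e3 q13764 L187333 q13652, e3 q13765 L216413 q17611, e3 q13766 L187347 q9522, e3 q13767 L187355 q9523, e3 q13768 (flp_a L216431) q17614, e3 q13769 L187373 q13761, e3 q13770 (flp_a L187389) q13662, e3 q13771 L187399 q9590, e3 q13772 L187403 q9981, e3 q13773 L187411 q10979, e3 q13774 L187417 q10090, e3 q13775 (flp_a L193505) q14633, e3 q13776 (flp_a L187433) q9537, e3 q13777 L187447 q9616, e3 q13778 L187461 q11015, e3 q13779 L187471 q9628, e3 q13780 L187475 q9998, e3 q13781 L187483 q11002, e3 q13782 L187489 q10109, e3 q13783 (flp_a L193201) q14584, e3 q13784 (flp_a L187505) q9550, e3 q13785 L187521 q9578, e3 q13786 L187535 q10991, e3 q13787 L216517 q17626, e3 q13788 L187545 q13641, e3 q13789 L187557 q9603, e3 q13790 L187561 q9566, e3 q13791 L187567 q9567, e3 q13792 L187577 q9568,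 e3 q13793 L216557 q17631, e3 q13794 (flp_a L187589) q9562, e3 q13795 (flp_a L216571) q17634, e3 q13796 (flp_a L216583) q17635, e3 q13797 L187607 q9565, e3 q13798 L192291 q14439, e3 q13799 (flp_a L192295) q14440, e3 q13800 (flp_a L216539) q17628, e3 q13801 (flp_a L216545) q17629, e3 q13802 L216669 q17644, e3 q13803 L187643 q13727, e3 q13804 L187651 q13728, e3 q13805 L216683 q17648, e3 q13806 (flp_a L187663) q9570, e3 q13807 (flp_a L216697) q17651, e3 q13808 (flp_a L216705) q17652, e3 q13809 L202840 q15925, e3 q13810 (flp_a L215785) q17530, e3 q13811 L216761 q17659, e3 q13812 L187699 q9573, e3 q13813 (flp_a L216803) q17663, e3 q13814 (flp_a L216811) q17664, e3 q13815 (flp_a L187874) q13834, e3 q13816 (flp_a L187721) q12290, e3 q13817 L187727 q9577, e3 q13818 (flp_a L216855) q17670, e3 q13819 L187739 q11049, e3 q13820 L187753 q10207, e3 q13821 L187757 q10213, e3 q13822 L187761 q10219, e3 q13823 L187771 q10220, trivial⟩ (by decide +kernel)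

theorem ce_a_216 : ∀ r, r < 64 → sm ga (Qf (13824 + r)) = Qf (tab Gen.a (13824 + r)) :=
  edges_tab (sm ga) Qf (tab Gen.a) 13824 [(13824, 17202), (13825, 17061), (13826, 9586), (13827, 9587), (13828, 9588), (13829, 11484), (13830, 17683), (13831, 17679), (13832, 17680), (13833, 17681), (13834, 13815), (13835, 17693), (13836, 15635), (13837, 17553), (13838, 17698), (13839, 13632), (13840, 9604), (13841, 9605), (13842, 9606), (13843, 17703), (13844, 9600), (13845, 17706), (13846, 17707), (13847, 14488), (13848, 14489), (13849, 17700), (13850, 17701), (13851, 17716), (13852, 13752), (13853, 13753), (13854, 17649), (13855, 9608), (13856, 17721), (13857, 17722), (13858, 15695), (13859, 17526), (13860, 17728), (13861, 9611), (13862, 17732), (13863, 17733), (13864, 13883), (13865, 12230), (13866, 9615), (13867, 17738), (13868, 11088), (13869, 10242), (13870, 10248), (13871, 10254), (13872, 10255), (13873, 17150), (13874, 17278), (13875, 9624), (13876, 9625), (13877, 9626), (13878, 11326), (13879, 17751), (13880, 17747),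 (13881, 17748), (13882, 17749), (13883, 13864), (13884, 17761), (13885, 15869), (13886, 17548), (13887, 16833)]
    ⟨e3 q13824 (flp_a L212933) q17202, e3 q13825 (flp_a L211889) q17061, e3 q13826 L187799 q9586, e3 q13827 L187829 q9587, e3 q13828 L187835 q9588, e3 q13829 L187851 q11484, e3 q13830 L216986 q17683, e3 q13831 (flp_a L216950) q17679, e3 q13832 (flp_a L216958) q17680, e3 q13833 (flp_a L216968) q17681, e3 q13834 L187874 q13815, e3 q13835 L217046 q17693, e3 q13836 L200759 q15635, e3 q13837 (flp_a L215991) q17553, e3 q13838 L217090 q17698, e3 q13839 L187909 q13632, e3 q13840 L187919 q9604, e3 q13841 L187925 q9605, e3 q13842 L187935 q9606, e3 q13843 L217130 q17703, e3 q13844 (flp_a L187947) q9600, e3 q13845 (flp_a L217144) q17706, e3 q13846 (flp_a L217156) q17707, e3 q13847 L192601 q14488, e3 q13848 (flp_a L192605) q14489, e3 q13849 (flp_a L217112) q17700, e3 q13850 (flp_a L217118) q17701, e3 q13851 L217242 q17716, e3 q13852 L187989 q13752, e3 q13853 L187997 q13753, e3 q13854 (flp_a L222529) q17649, e3 q13855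 (flp_a L188009) q9608, e3 q13856 (flp_a L217270) q17721, e3 q13857 (flp_a L217278) q17722, e3 q13858 L201189 q15695, e3 q13859 (flp_a L215751) q17526, e3 q13860 L217326 q17728, e3 q13861 L188045 q9611, e3 q13862 (flp_a L217368) q17732, e3 q13863 (flp_a L217376) q17733, e3 q13864 (flp_a L188220) q13883, e3 q13865 (flp_a L188067) q12230, e3 q13866 L188073 q9615, e3 q13867 (flp_a L217418) q17738, e3 q13868 L188085 q11088, e3 q13869 L188099 q10242, e3 q13870 L188103 q10248, e3 q13871 L188107 q10254, e3 q13872 L188115 q10255, e3 q13873 (flp_a L212533) q17150, e3 q13874 (flp_a L213435) q17278, e3 q13875 L188145 q9624, e3 q13876 L188175 q9625, e3 q13877 L188181 q9626, e3 q13878 (flp_a L188197) q11326, e3 q13879 L217542 q17751, e3 q13880 (flp_a L217506) q17747, e3 q13881 (flp_a L217514) q17748, e3 q13882 (flp_a L217524) q17749, e3 q13883 L188220 q13864, e3 q13884 L217602 q17761, e3 q13885 L202400 q15869, e3 q13886 (flp_a L215946) q17548, e3 q13887 (flp_a L210111) q16833, trivial⟩ (by decide +kernel)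

theorem ce_a_217 : ∀ r, r < 64 → sm ga (Qf (13888 + r)) = Qf (tab Gen.a (13888 + r)) :=
  edges_tab (sm ga) Qf (tab Gen.a) 13888 [(13888, 9630), (13889, 9631), (13890, 9632), (13891, 17767), (13892, 17768), (13893, 17769), (13894, 17770), (13895, 9891), (13896, 9634), (13897, 17779), (13898, 17780), (13899, 17781), (13900, 16840), (13901, 9637), (13902, 9638), (13903, 9639), (13904, 17787), (13905, 17777), (13906, 17776), (13907, 17788), (13908, 9882), (13909, 9641), (13910, 17795), (13911, 17796), (13912, 17797), (13913, 9643), (13914, 17803), (13915, 17804), (13916, 9645), (13917, 9646), (13918, 17807), (13919, 17808), (13920, 17809), (13921, 13928), (13922, 9649), (13923, 17818), (13924, 17819), (13925, 9651), (13926, 17822), (13927, 17823), (13928, 13921), (13929, 13521), (13930, 13953), (13931, 16610), (13932, 13491), (13933, 13974), (13934, 16629), (13935, 16818), (13936, 12478), (13937, 9675), (13938, 9844), (13939, 9679), (13940, 13957), (13941, 11914), (13942, 9682), (13943, 16438), (13944, 9704), (13945,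 13715), (13946, 9684), (13947, 14183), (13948, 14182), (13949, 9687), (13950, 9688), (13951, 9689)]
    ⟨e3 q13888 L188253 q9630, e3 q13889 L188257 q9631, e3 q13890 L188265 q9632, e3 q13891 (flp_a L217656) q17767, e3 q13892 (flp_a L217662) q17768, e3 q13893 (flp_a L217670) q17769, e3 q13894 (flp_a L217676) q17770, e3 q13895 L188292 q9891, e3 q13896 (flp_a L188300) q9634, e3 q13897 (flp_a L217738) q17779, e3 q13898 (flp_a L217744) q17780, e3 q13899 (flp_a L217748) q17781, e3 q13900 (flp_a L210161) q16840, e3 q13901 L188319 q9637, e3 q13902 L188323 q9638, e3 q13903 L188333 q9639, e3 q13904 (flp_a L217783) q17787, e3 q13905 (flp_a L217724) q17777, e3 q13906 (flp_a L217714) q17776, e3 q13907 (flp_a L217789) q17788, e3 q13908 L188364 q9882, e3 q13909 (flp_a L188372) q9641, e3 q13910 (flp_a L217839) q17795, e3 q13911 (flp_a L217845) q17796, e3 q13912 (flp_a L217849) q17797, e3 q13913 (flp_a L188385) q9643, e3 q13914 (flp_a L217886) q17803, e3 q13915 (flp_a L217896) q17804, e3 q13916 L188416 q9645, e3 q13917 L188420 q9646,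 e3 q13918 (flp_a L217928) q17807, e3 q13919 (flp_a L217936) q17808, e3 q13920 (flp_a L217946) q17809, e3 q13921 L222846 q13928, e3 q13922 (flp_a L188467) q9649, e3 q13923 (flp_a L218032) q17818, e3 q13924 (flp_a L218042) q17819, e3 q13925 L188498 q9651, e3 q13926 (flp_a L218074) q17822, e3 q13927 (flp_a L218082) q17823, e3 q13928 (flp_a L222846) q13921, e3 q13929 L188561 q13521, e3 q13930 (flp_a L188721) q13953, e3 q13931 L208165 q16610, e3 q13932 L188583 q13491, e3 q13933 (flp_a L188871) q13974, e3 q13934 (flp_a L208325) q16629, e3 q13935 L209989 q16818, e3 q13936 L188605 q12478, e3 q13937 L188617 q9675, e3 q13938 L188625 q9844, e3 q13939 L188635 q9679, e3 q13940 (flp_a L188751) q13957, e3 q13941 L188657 q11914, e3 q13942 L188661 q9682, e3 q13943 (flp_a L206687) q16438, e3 q13944 L188673 q9704, e3 q13945 L188681 q13715, e3 q13946 (flp_a L188689) q9684, e3 q13947 L190499 q14183, e3 q13948 (flp_a L190509) q14182, e3 q13949 L188699 q9687, e3 q13950 L188705 q9688, e3 q13951 L188711 q9689, trivial⟩ (by decide +kernel)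

theorem ce_a_218 : ∀ r, r < 64 → sm ga (Qf (13952 + r)) = Qf (tab Gen.a (13952 + r)) :=
  edges_tab (sm ga) Qf (tab Gen.a) 13952 [(13952, 17836), (13953, 13930), (13954, 13977), (13955, 13976), (13956, 13975), (13957, 13940), (13958, 17839), (13959, 16792), (13960, 12442), (13961, 9697), (13962, 9792), (13963, 9701), (13964, 12120), (13965, 16283), (13966, 13709), (13967, 9706), (13968, 14163), (13969, 14161), (13970, 9709), (13971, 9710), (13972, 9711), (13973, 17846), (13974, 13933), (13975, 13956), (13976, 13955), (13977, 13954), (13978, 17849), (13979, 9716), (13980, 17850), (13981, 9721), (13982, 12378), (13983, 9724), (13984, 17852), (13985, 9729), (13986, 12333), (13987, 12328), (13988, 12486), (13989, 14957), (13990, 9738), (13991, 17854), (13992, 10788), (13993, 17838), (13994, 9927), (13995, 9743), (13996, 17857), (13997, 16679), (13998, 14985), (13999, 9747), (14000, 9748), (14001, 12471), (14002, 14075), (14003, 10446), (14004, 17862), (14005, 13531), (14006, 12268), (14007, 12449), (14008, 14910),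 (14009, 9758), (14010, 17866), (14011, 10706), (14012, 17848), (14013, 9911), (14014, 9763), (14015, 17869)]
    ⟨e3 q13952 L218244 q17836, e3 q13953 L188721 q13930, e3 q13954 (flp_a L188903) q13977, e3 q13955 (flp_a L188889) q13976, e3 q13956 (flp_a L188879) q13975, e3 q13957 L188751 q13940, e3 q13958 L218276 q17839, e3 q13959 (flp_a L209787) q16792, e3 q13960 L188769 q12442, e3 q13961 L188781 q9697, e3 q13962 L188789 q9792, e3 q13963 L188799 q9701, e3 q13964 L188811 q12120, e3 q13965 L205372 q16283, e3 q13966 L188819 q13709, e3 q13967 (flp_a L188827) q9706, e3 q13968 (flp_a L190481) q14163, e3 q13969 L190487 q14161, e3 q13970 L188837 q9709, e3 q13971 L188847 q9710, e3 q13972 L188857 q9711, e3 q13973 L218346 q17846, e3 q13974 L188871 q13933, e3 q13975 L188879 q13956, e3 q13976 L188889 q13955, e3 q13977 L188903 q13954, e3 q13978 L218378 q17849, e3 q13979 L188919 q9716, e3 q13980 L218388 q17850, e3 q13981 L188933 q9721, e3 q13982 L188953 q12378, e3 q13983 L188957 q9724, e3 q13984 L218404 q17852, e3 q13985 L188971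 q9729, e3 q13986 L188991 q12333, e3 q13987 L189001 q12328, e3 q13988 L189005 q12486, e3 q13989 (flp_a L196307) q14957, e3 q13990 L189019 q9738, e3 q13991 (flp_a L218422) q17854, e3 q13992 L189035 q10788, e3 q13993 (flp_a L218272) q17838, e3 q13994 L189043 q9927, e3 q13995 (flp_a L189047) q9743, e3 q13996 (flp_a L218450) q17857, e3 q13997 (flp_a L208815) q16679, e3 q13998 L208823 q14985, e3 q13999 L189059 q9747, e3 q14000 L189063 q9748, e3 q14001 L189077 q12471, e3 q14002 (flp_a L189633) q14075, e3 q14003 L189091 q10446, e3 q14004 (flp_a L218488) q17862, e3 q14005 (flp_a L189113) q13531, e3 q14006 L189123 q12268, e3 q14007 L189127 q12449, e3 q14008 (flp_a L195906) q14910, e3 q14009 L189141 q9758, e3 q14010 (flp_a L218526) q17866, e3 q14011 L189157 q10706, e3 q14012 (flp_a L218376) q17848, e3 q14013 L189165 q9911, e3 q14014 (flp_a L189169) q9763, e3 q14015 (flp_a L218554) q17869, trivial⟩ (by decide +kernel)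

theorem ce_a_219 : ∀ r, r < 64 → sm ga (Qf (14016 + r)) = Qf (tab Gen.a (14016 + r)) :=
  edges_tab (sm ga) Qf (tab Gen.a) 14016 [(14016, 14936), (14017, 16661), (14018, 9767), (14019, 9768), (14020, 12426), (14021, 14126), (14022, 10496), (14023, 17874), (14024, 13507), (14025, 9770), (14026, 10379), (14027, 9781), (14028, 9776), (14029, 9777), (14030, 13300), (14031, 14739), (14032, 13220), (14033, 13419), (14034, 17878), (14035, 16687), (14036, 12913), (14037, 17047), (14038, 9787), (14039, 9788), (14040, 17883), (14041, 12263), (14042, 14048), (14043, 10299), (14044, 16359), (14045, 9793), (14046, 14119), (14047, 14117), (14048, 14042), (14049, 9795), (14050, 9796), (14051, 12806), (14052, 17885), (14053, 10441), (14054, 14077), (14055, 17889), (14056, 10464), (14057, 10465), (14058, 10478), (14059, 10483), (14060, 9878), (14061, 9809), (14062, 9810), (14063, 9811), (14064, 14102), (14065, 17194), (14066, 14098), (14067, 14068), (14068, 14067), (14069, 9818), (14070, 9819), (14071, 9816), (14072, 13417), (14073,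 17895), (14074, 12221), (14075, 14002), (14076, 17894), (14077, 14054), (14078, 9821), (14079, 17557)]
    ⟨e3 q14016 (flp_a L196135) q14936, e3 q14017 (flp_a L208644) q16661, e3 q14018 L189181 q9767, e3 q14019 L189185 q9768, e3 q14020 L189199 q12426, e3 q14021 (flp_a L190059) q14126, e3 q14022 L189213 q10496, e3 q14023 (flp_a L218592) q17874, e3 q14024 (flp_a L189235) q13507, e3 q14025 (flp_a L189237) q9770, e3 q14026 L189249 q10379, e3 q14027 L189259 q9781, e3 q14028 L189269 q9776, e3 q14029 L189281 q9777, e3 q14030 L189293 q13300, e3 q14031 (flp_a L194359) q14739, e3 q14032 L189311 q13220, e3 q14033 L189315 q13419, e3 q14034 (flp_a L218630) q17878, e3 q14035 (flp_a L208877) q16687, e3 q14036 L189343 q12913, e3 q14037 (flp_a L211789) q17047, e3 q14038 L189351 q9787, e3 q14039 L189359 q9788, e3 q14040 (flp_a L218678) q17883, e3 q14041 L189373 q12263, e3 q14042 (flp_a L189421) q14048, e3 q14043 L189387 q10299, e3 q14044 (flp_a L206000) q16359, e3 q14045 (flp_a L189399) q9793, e3 q14046 (flp_a L189997) q14119, e3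 q14047 (flp_a L189981) q14117, e3 q14048 L189421 q14042, e3 q14049 L189427 q9795, e3 q14050 L189439 q9796, e3 q14051 L189445 q12806, e3 q14052 (flp_a L218700) q17885, e3 q14053 L189465 q10441, e3 q14054 (flp_a L189641) q14077, e3 q14055 L218740 q17889, e3 q14056 L189491 q10464, e3 q14057 L189499 q10465, e3 q14058 L189507 q10478, e3 q14059 L189511 q10483, e3 q14060 L189523 q9878, e3 q14061 L189527 q9809, e3 q14062 L189531 q9810, e3 q14063 L189537 q9811, e3 q14064 (flp_a L189849) q14102, e3 q14065 (flp_a L212865) q17194, e3 q14066 L189817 q14098, e3 q14067 (flp_a L189569) q14068, e3 q14068 L189569 q14067, e3 q14069 L189579 q9818, e3 q14070 L189587 q9819, e3 q14071 (flp_a L189593) q9816, e3 q14072 L189607 q13417, e3 q14073 (flp_a L218806) q17895, e3 q14074 L189623 q12221, e3 q14075 L189633 q14002, e3 q14076 (flp_a L218798) q17894, e3 q14077 L189641 q14054, e3 q14078 (flp_a L189647) q9821, e3 q14079 (flp_a L216032) q17557, trivial⟩ (by decide +kernel)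

theorem ce_a_220 : ∀ r, r < 64 → sm ga (Qf (14080 + r)) = Qf (tab Gen.a (14080 + r)) :=
  edges_tab (sm ga) Qf (tab Gen.a) 14080 [(14080, 16298), (14081, 10781), (14082, 9825), (14083, 10413), (14084, 9834), (14085, 9830), (14086, 9831), (14087, 13360), (14088, 14760), (14089, 13240), (14090, 13471), (14091, 17902), (14092, 16693), (14093, 12898), (14094, 17137), (14095, 9840), (14096, 9841), (14097, 12320), (14098, 14066), (14099, 16266), (14100, 10297), (14101, 9846), (14102, 14064), (14103, 9848), (14104, 9849), (14105, 12781), (14106, 17908), (14107, 10491), (14108, 14128), (14109, 10514), (14110, 10516), (14111, 10528), (14112, 10531), (14113, 9889), (14114, 9862), (14115, 9863), (14116, 9864), (14117, 14047), (14118, 17270), (14119, 14046), (14120, 9871), (14121, 9872), (14122, 9869), (14123, 13469), (14124, 17917), (14125, 12280), (14126, 14021), (14127, 17916), (14128, 14108), (14129, 9874), (14130, 17556), (14131, 16451), (14132, 10697), (14133, 17892), (14134, 16450), (14135, 12133), (14136, 17914), (14137,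 17844), (14138, 9886), (14139, 9887), (14140, 9888), (14141, 17928), (14142, 16719), (14143, 12220)]
    ⟨e3 q14080 (flp_a L205508) q16298, e3 q14081 L189661 q10781, e3 q14082 (flp_a L189669) q9825, e3 q14083 L189681 q10413, e3 q14084 L189691 q9834, e3 q14085 L189701 q9830, e3 q14086 L189713 q9831, e3 q14087 L189725 q13360, e3 q14088 (flp_a L194552) q14760, e3 q14089 L189743 q13240, e3 q14090 L189747 q13471, e3 q14091 (flp_a L218862) q17902, e3 q14092 (flp_a L208921) q16693, e3 q14093 L189775 q12898, e3 q14094 (flp_a L212445) q17137, e3 q14095 L189785 q9840, e3 q14096 L189797 q9841, e3 q14097 L189803 q12320, e3 q14098 (flp_a L189817) q14066, e3 q14099 (flp_a L205215) q16266, e3 q14100 L189827 q10297, e3 q14101 (flp_a L189835) q9846, e3 q14102 L189849 q14064, e3 q14103 L189859 q9848, e3 q14104 L189871 q9849, e3 q14105 L189877 q12781, e3 q14106 (flp_a L218922) q17908, e3 q14107 L189897 q10491, e3 q14108 (flp_a L190067) q14128, e3 q14109 L189915 q10514, e3 q14110 L189923 q10516, e3 q14111 L189931 q10528, e3 q14112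 L189935 q10531, e3 q14113 L189947 q9889, e3 q14114 L189951 q9862, e3 q14115 L189961 q9863, e3 q14116 L189971 q9864, e3 q14117 L189981 q14047, e3 q14118 (flp_a L213367) q17270, e3 q14119 L189997 q14046, e3 q14120 L190005 q9871, e3 q14121 L190013 q9872, e3 q14122 (flp_a L190019) q9869, e3 q14123 L190033 q13469, e3 q14124 (flp_a L219018) q17917, e3 q14125 L190049 q12280, e3 q14126 L190059 q14021, e3 q14127 (flp_a L219010) q17916, e3 q14128 L190067 q14108, e3 q14129 (flp_a L190073) q9874, e3 q14130 (flp_a L216023) q17556, e3 q14131 (flp_a L206823) q16451, e3 q14132 L190089 q10697, e3 q14133 (flp_a L218774) q17892, e3 q14134 (flp_a L206819) q16450, e3 q14135 L190113 q12133, e3 q14136 (flp_a L218984) q17914, e3 q14137 (flp_a L218334) q17844, e3 q14138 L190125 q9886, e3 q14139 L190131 q9887, e3 q14140 L190139 q9888, e3 q14141 (flp_a L219116) q17928, e3 q14142 (flp_a L209143) q16719, e3 q14143 L190168 q12220, trivial⟩ (by decide +kernel)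

theorem ce_a_221 : ∀ r, r < 64 → sm ga (Qf (14144 + r)) = Qf (tab Gen.a (14144 + r)) :=
  edges_tab (sm ga) Qf (tab Gen.a) 14144 [(14144, 16297), (14145, 11929), (14146, 17834), (14147, 9893), (14148, 9894), (14149, 9895), (14150, 16725), (14151, 17931), (14152, 12279), (14153, 9900), (14154, 9903), (14155, 16892), (14156, 16779), (14157, 16353), (14158, 12595), (14159, 9905), (14160, 14974), (14161, 13969), (14162, 17934), (14163, 13968), (14164, 9908), (14165, 9909), (14166, 9910), (14167, 13462), (14168, 17936), (14169, 14792), (14170, 17937), (14171, 17868), (14172, 12347), (14173, 13609), (14174, 9917), (14175, 9919), (14176, 16903), (14177, 16805), (14178, 16493), (14179, 12597), (14180, 9922), (14181, 14926), (14182, 13948), (14183, 13947), (14184, 17944), (14185, 9925), (14186, 9926), (14187, 9928), (14188, 13410), (14189, 17946), (14190, 14810), (14191, 17856), (14192, 17947), (14193, 12393), (14194, 13613), (14195, 15531), (14196, 11441), (14197, 15775), (14198, 11281), (14199, 14234), (14200, 14226),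 (14201, 11011), (14202, 15366), (14203, 14236), (14204, 14232), (14205, 10987), (14206, 15471), (14207, 15645)]
    ⟨e3 q14144 (flp_a L205504) q16297, e3 q14145 (flp_a L190190) q11929, e3 q14146 (flp_a L218232) q17834, e3 q14147 L190198 q9893, e3 q14148 L190204 q9894, e3 q14149 L190216 q9895, e3 q14150 (flp_a L209201) q16725, e3 q14151 (flp_a L219146) q17931, e3 q14152 L190241 q12279, e3 q14153 L190251 q9900, e3 q14154 L190261 q9903, e3 q14155 (flp_a L210613) q16892, e3 q14156 (flp_a L209691) q16779, e3 q14157 (flp_a L205949) q16353, e3 q14158 L190289 q12595, e3 q14159 (flp_a L190299) q9905, e3 q14160 (flp_a L196476) q14974, e3 q14161 (flp_a L190487) q13969, e3 q14162 (flp_a L219170) q17934, e3 q14163 L190481 q13968, e3 q14164 L190325 q9908, e3 q14165 L190335 q9909, e3 q14166 L190341 q9910, e3 q14167 L190353 q13462, e3 q14168 (flp_a L219190) q17936, e3 q14169 (flp_a L194851) q14792, e3 q14170 (flp_a L219200) q17937, e3 q14171 (flp_a L218546) q17868, e3 q14172 L190396 q12347, e3 q14173 L190413 q13609, e3 q14174 L190417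 q9917, e3 q14175 L190427 q9919, e3 q14176 (flp_a L210709) q16903, e3 q14177 (flp_a L209893) q16805, e3 q14178 (flp_a L207166) q16493, e3 q14179 L190455 q12597, e3 q14180 (flp_a L190465) q9922, e3 q14181 (flp_a L196063) q14926, e3 q14182 L190509 q13948, e3 q14183 (flp_a L190499) q13947, e3 q14184 (flp_a L219272) q17944, e3 q14185 L190521 q9925, e3 q14186 L190531 q9926, e3 q14187 L190537 q9928, e3 q14188 L190549 q13410, e3 q14189 (flp_a L219294) q17946, e3 q14190 (flp_a L195011) q14810, e3 q14191 (flp_a L218442) q17856, e3 q14192 (flp_a L219304) q17947, e3 q14193 L190592 q12393, e3 q14194 L190609 q13613, e3 q14195 (flp_a L199987) q15531, e3 q14196 L190619 q11441, e3 q14197 (flp_a L201684) q15775, e3 q14198 L190633 q11281, e3 q14199 (flp_a L190861) q14234, e3 q14200 (flp_a L190813) q14226, e3 q14201 L190661 q11011, e3 q14202 (flp_a L199046) q15366, e3 q14203 (flp_a L190871) q14236, e3 q14204 (flp_a L190849) q14232, e3 q14205 L190691 q10987, e3 q14206 (flp_a L199620) q15471, e3 q14207 (flp_a L200827) q15645, trivial⟩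 (by decide +kernel)

theorem ce_a_222 : ∀ r, r < 64 → sm ga (Qf (14208 + r)) = Qf (tab Gen.a (14208 + r)) :=
  edges_tab (sm ga) Qf (tab Gen.a) 14208 [(14208, 15880), (14209, 14237), (14210, 17967), (14211, 14241), (14212, 17970), (14213, 9952), (14214, 9953), (14215, 17972), (14216, 17973), (14217, 9955), (14218, 9956), (14219, 17978), (14220, 17979), (14221, 9960), (14222, 9961), (14223, 17984), (14224, 17985), (14225, 17989), (14226, 14200), (14227, 9966), (14228, 9967), (14229, 17992), (14230, 17993), (14231, 17997), (14232, 14204), (14233, 15034), (14234, 14199), (14235, 15046), (14236, 14203), (14237, 14209), (14238, 18008), (14239, 9976), (14240, 18011), (14241, 14211), (14242, 18014), (14243, 9980), (14244, 18017), (14245, 17618), (14246, 15033), (14247, 15431), (14248, 14249), (14249, 14248), (14250, 11107), (14251, 14308), (14252, 10879), (14253, 9990), (14254, 18028), (14255, 14264), (14256, 15430), (14257, 18035), (14258, 9995), (14259, 9996), (14260, 14335), (14261, 18039), (14262, 18040), (14263, 18046),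 (14264, 14255), (14265, 17622), (14266, 15322), (14267, 15045), (14268, 14269), (14269, 14268), (14270, 11177), (14271, 14363)]
    ⟨e3 q14208 (flp_a L202478) q15880, e3 q14209 (flp_a L190879) q14237, e3 q14210 L219474 q17967, e3 q14211 (flp_a L190910) q14241, e3 q14212 L219495 q17970, e3 q14213 L190733 q9952, e3 q14214 L190739 q9953, e3 q14215 (flp_a L219510) q17972, e3 q14216 (flp_a L219518) q17973, e3 q14217 L190760 q9955, e3 q14218 L190766 q9956, e3 q14219 (flp_a L219550) q17978, e3 q14220 (flp_a L219558) q17979, e3 q14221 L190787 q9960, e3 q14222 L190791 q9961, e3 q14223 (flp_a L219592) q17984, e3 q14224 (flp_a L219600) q17985, e3 q14225 L219626 q17989, e3 q14226 L190813 q14200, e3 q14227 L190823 q9966, e3 q14228 L190827 q9967, e3 q14229 (flp_a L219660) q17992, e3 q14230 (flp_a L219668) q17993, e3 q14231 L219694 q17997, e3 q14232 L190849 q14204, e3 q14233 L208853 q15034, e3 q14234 L190861 q14199, e3 q14235 L210681 q15046, e3 q14236 L190871 q14203, e3 q14237 L190879 q14209, e3 q14238 L219760 q18008, e3 q14239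 L190898 q9976, e3 q14240 (flp_a L219781) q18011, e3 q14241 L190910 q14211, e3 q14242 L219793 q18014, e3 q14243 L190929 q9980, e3 q14244 (flp_a L219816) q18017, e3 q14245 (flp_a L216465) q17618, e3 q14246 (flp_a L196929) q15033, e3 q14247 (flp_a L199369) q15431, e3 q14248 (flp_a L190967) q14249, e3 q14249 L190967 q14248, e3 q14250 L190979 q11107, e3 q14251 (flp_a L191379) q14308, e3 q14252 L191011 q10879, e3 q14253 L191015 q9990, e3 q14254 (flp_a L219882) q18028, e3 q14255 (flp_a L191075) q14264, e3 q14256 (flp_a L199359) q15430, e3 q14257 L219932 q18035, e3 q14258 L191045 q9995, e3 q14259 L191049 q9996, e3 q14260 (flp_a L191573) q14335, e3 q14261 (flp_a L219962) q18039, e3 q14262 (flp_a L219970) q18040, e3 q14263 L220004 q18046, e3 q14264 L191075 q14255, e3 q14265 (flp_a L216491) q17622, e3 q14266 (flp_a L198777) q15322, e3 q14267 (flp_a L197007) q15045, e3 q14268 (flp_a L191111) q14269, e3 q14269 L191111 q14268, e3 q14270 L191123 q11177, e3 q14271 (flp_a L191760) q14363, trivial⟩ (by decide +kernel)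

theorem ce_a_223 : ∀ r, r < 64 → sm ga (Qf (14272 + r)) = Qf (tab Gen.a (14272 + r)) :=
  edges_tab (sm ga) Qf (tab Gen.a) 14272 [(14272, 10871), (14273, 10007), (14274, 18057), (14275, 14284), (14276, 15325), (14277, 18064), (14278, 10012), (14279, 10013), (14280, 14390), (14281, 18068), (14282, 18069), (14283, 18075), (14284, 14275), (14285, 10017), (14286, 14299), (14287, 14301), (14288, 18078), (14289, 12662), (14290, 14643), (14291, 15800), (14292, 14294), (14293, 11604), (14294, 14292), (14295, 10023), (14296, 10025), (14297, 15037), (14298, 15036), (14299, 14286), (14300, 18088), (14301, 14287), (14302, 17966), (14303, 10030), (14304, 10028), (14305, 14647), (14306, 14650), (14307, 18094), (14308, 14251), (14309, 17021), (14310, 14461), (14311, 18102), (14312, 18105), (14313, 10033), (14314, 18108), (14315, 18109), (14316, 15811), (14317, 10035), (14318, 10036), (14319, 12466), (14320, 13732), (14321, 10892), (14322, 12389), (14323, 10039), (14324, 18116), (14325, 14338), (14326, 13639), (14327, 16282),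 (14328, 15798), (14329, 10042), (14330, 16281), (14331, 18124), (14332, 10045), (14333, 10047), (14334, 12291), (14335, 14260)]
    ⟨e3 q14272 L191155 q10871, e3 q14273 L191159 q10007, e3 q14274 (flp_a L220098) q18057, e3 q14275 (flp_a L191219) q14284, e3 q14276 (flp_a L198801) q15325, e3 q14277 L220148 q18064, e3 q14278 L191189 q10012, e3 q14279 L191193 q10013, e3 q14280 (flp_a L191954) q14390, e3 q14281 (flp_a L220178) q18068, e3 q14282 (flp_a L220186) q18069, e3 q14283 L220220 q18075, e3 q14284 L191219 q14275, e3 q14285 L191229 q10017, e3 q14286 (flp_a L191321) q14299, e3 q14287 (flp_a L191335) q14301, e3 q14288 (flp_a L220244) q18078, e3 q14289 L191255 q12662, e3 q14290 L193597 q14643, e3 q14291 (flp_a L201874) q15800, e3 q14292 (flp_a L191287) q14294, e3 q14293 (flp_a L191283) q11604, e3 q14294 L191287 q14292, e3 q14295 L191297 q10023, e3 q14296 L191303 q10025, e3 q14297 (flp_a L196961) q15037, e3 q14298 (flp_a L196951) q15036, e3 q14299 L191321 q14286, e3 q14300 (flp_a L220328) q18088, e3 q14301 L191335 q14287,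 e3 q14302 (flp_a L219468) q17966, e3 q14303 L191351 q10030, e3 q14304 (flp_a L191357) q10028, e3 q14305 (flp_a L193619) q14647, e3 q14306 (flp_a L193637) q14650, e3 q14307 (flp_a L220376) q18094, e3 q14308 L191379 q14251, e3 q14309 (flp_a L211609) q17021, e3 q14310 (flp_a L192431) q14461, e3 q14311 L220422 q18102, e3 q14312 L220430 q18105, e3 q14313 (flp_a L191405) q10033, e3 q14314 (flp_a L220454) q18108, e3 q14315 (flp_a L220458) q18109, e3 q14316 (flp_a L201954) q15811, e3 q14317 L191425 q10035, e3 q14318 L191435 q10036, e3 q14319 L191445 q12466, e3 q14320 L191457 q13732, e3 q14321 L191465 q10892, e3 q14322 (flp_a L191477) q12389, e3 q14323 L191481 q10039, e3 q14324 (flp_a L220522) q18116, e3 q14325 (flp_a L191599) q14338, e3 q14326 L191507 q13639, e3 q14327 (flp_a L205354) q16282, e3 q14328 (flp_a L201860) q15798, e3 q14329 (flp_a L191521) q10042, e3 q14330 (flp_a L205342) q16281, e3 q14331 (flp_a L220590) q18124, e3 q14332 L191545 q10045, e3 q14333 L191555 q10047, e3 q14334 L191569 q12291, e3 q14335 L191573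 q14260, trivial⟩ (by decide +kernel)

theorem ce_a_224 : ∀ r, r < 64 → sm ga (Qf (14336 + r)) = Qf (tab Gen.a (14336 + r)) :=
  edges_tab (sm ga) Qf (tab Gen.a) 14336 [(14336, 18126), (14337, 12755), (14338, 14325), (14339, 14339), (14340, 10051), (14341, 14355), (14342, 14356), (14343, 18132), (14344, 12691), (14345, 15554), (14346, 14673), (14347, 11657), (14348, 14349), (14349, 14348), (14350, 10057), (14351, 10058), (14352, 15049), (14353, 15048), (14354, 18142), (14355, 14341), (14356, 14342), (14357, 17969), (14358, 10064), (14359, 10062), (14360, 14676), (14361, 14679), (14362, 18148), (14363, 14271), (14364, 17112), (14365, 14510), (14366, 18156), (14367, 18159), (14368, 10067), (14369, 18162), (14370, 18163), (14371, 15568), (14372, 10069), (14373, 10070), (14374, 12421), (14375, 13757), (14376, 10885), (14377, 12343), (14378, 10073), (14379, 18170), (14380, 14393), (14381, 13630), (14382, 16437), (14383, 15558), (14384, 10076), (14385, 18176), (14386, 16436), (14387, 10079), (14388, 10081), (14389, 12232),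 (14390, 14280), (14391, 18178), (14392, 12751), (14393, 14380), (14394, 14394), (14395, 15198), (14396, 10087), (14397, 18184), (14398, 10089), (14399, 17690)]
    ⟨e3 q14336 (flp_a L220618) q18126, e3 q14337 L191589 q12755, e3 q14338 L191599 q14325, e3 q14339 L191609 q14339, e3 q14340 L191612 q10051, e3 q14341 (flp_a L191708) q14355, e3 q14342 (flp_a L191718) q14356, e3 q14343 (flp_a L220674) q18132, e3 q14344 L191638 q12691, e3 q14345 (flp_a L200157) q15554, e3 q14346 L193813 q14673, e3 q14347 (flp_a L191656) q11657, e3 q14348 (flp_a L191668) q14349, e3 q14349 L191668 q14348, e3 q14350 L191680 q10057, e3 q14351 L191686 q10058, e3 q14352 (flp_a L197039) q15049, e3 q14353 (flp_a L197029) q15048, e3 q14354 (flp_a L220758) q18142, e3 q14355 L191708 q14341, e3 q14356 L191718 q14342, e3 q14357 (flp_a L219489) q17969, e3 q14358 L191734 q10064, e3 q14359 (flp_a L191740) q10062, e3 q14360 (flp_a L193831) q14676, e3 q14361 (flp_a L193853) q14679, e3 q14362 (flp_a L220806) q18148, e3 q14363 L191760 q14271, e3 q14364 (flp_a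 L212277) q17112, e3 q14365 (flp_a L192741) q14510, e3 q14366 L220852 q18156, e3 q14367 L220860 q18159, e3 q14368 (flp_a L191786) q10067, e3 q14369 (flp_a L220884) q18162, e3 q14370 (flp_a L220888) q18163, e3 q14371 (flp_a L200245) q15568, e3 q14372 L191806 q10069, e3 q14373 L191816 q10070, e3 q14374 L191826 q12421, e3 q14375 L191838 q13757, e3 q14376 L191846 q10885, e3 q14377 (flp_a L191858) q12343, e3 q14378 L191862 q10073, e3 q14379 (flp_a L220952) q18170, e3 q14380 (flp_a L191980) q14393, e3 q14381 (flp_a L191888) q13630, e3 q14382 (flp_a L206675) q16437, e3 q14383 (flp_a L200181) q15558, e3 q14384 (flp_a L191902) q10076, e3 q14385 (flp_a L221004) q18176, e3 q14386 (flp_a L206663) q16436, e3 q14387 L191926 q10079, e3 q14388 L191936 q10081, e3 q14389 L191950 q12232, e3 q14390 L191954 q14280, e3 q14391 (flp_a L221032) q18178, e3 q14392 L191970 q12751, e3 q14393 L191980 q14380, e3 q14394 L191990 q14394, e3 q14395 (flp_a L197957) q15198, e3 q14396 (flp_a L191999) q10087, e3 q14397 (flp_a L221088) q18184, e3 q14398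 L192015 q10089, e3 q14399 (flp_a L217023) q17690, trivial⟩ (by decide +kernel)

theorem ce_a_225 : ∀ r, r < 64 → sm ga (Qf (14400 + r)) = Qf (tab Gen.a (14400 + r)) :=
  edges_tab (sm ga) Qf (tab Gen.a) 14400 [(14400, 17619), (14401, 10091), (14402, 14403), (14403, 14402), (14404, 18188), (14405, 14455), (14406, 14456), (14407, 18195), (14408, 11124), (14409, 11125), (14410, 11126), (14411, 18203), (14412, 11109), (14413, 10098), (14414, 18206), (14415, 15181), (14416, 11241), (14417, 15164), (14418, 10106), (14419, 18209), (14420, 10108), (14421, 17758), (14422, 17623), (14423, 10110), (14424, 14426), (14425, 18213), (14426, 14424), (14427, 14504), (14428, 14505), (14429, 18220), (14430, 11193), (14431, 11194), (14432, 11195), (14433, 18228), (14434, 11178), (14435, 10117), (14436, 18231), (14437, 15215), (14438, 11172), (14439, 13798), (14440, 13799), (14441, 10125), (14442, 17522), (14443, 18189), (14444, 18235), (14445, 10136), (14446, 10137), (14447, 18243), (14448, 18246), (14449, 10129), (14450, 18249), (14451,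 18250), (14452, 17627), (14453, 10132), (14454, 10852), (14455, 14405), (14456, 14406), (14457, 18255), (14458, 14746), (14459, 18241), (14460, 18260), (14461, 14310), (14462, 10138), (14463, 18264)]
    ⟨e3 q14400 (flp_a L216471) q17619, e3 q14401 (flp_a L192035) q10091, e3 q14402 (flp_a L192049) q14403, e3 q14403 L192049 q14402, e3 q14404 (flp_a L221116) q18188, e3 q14405 (flp_a L192395) q14455, e3 q14406 (flp_a L192403) q14456, e3 q14407 L221159 q18195, e3 q14408 (flp_a L192080) q11124, e3 q14409 L192084 q11125, e3 q14410 L192089 q11126, e3 q14411 L221207 q18203, e3 q14412 L192107 q11109, e3 q14413 (flp_a L192109) q10098, e3 q14414 (flp_a L221231) q18206, e3 q14415 (flp_a L197853) q15181, e3 q14416 L192129 q11241, e3 q14417 (flp_a L197777) q15164, e3 q14418 (flp_a L192145) q10106, e3 q14419 (flp_a L221257) q18209, e3 q14420 L192161 q10108, e3 q14421 (flp_a L217579) q17758, e3 q14422 (flp_a L216497) q17623, e3 q14423 (flp_a L192181) q10110, e3 q14424 (flp_a L192198) q14426, e3 q14425 (flp_a L221285) q18213, e3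 q14426 L192198 q14424, e3 q14427 (flp_a L192705) q14504, e3 q14428 (flp_a L192713) q14505, e3 q14429 L221328 q18220, e3 q14430 (flp_a L192226) q11193, e3 q14431 L192230 q11194, e3 q14432 L192235 q11195, e3 q14433 L221376 q18228, e3 q14434 L192253 q11178, e3 q14435 (flp_a L192255) q10117, e3 q14436 (flp_a L221400) q18231, e3 q14437 (flp_a L198033) q15215, e3 q14438 L192275 q11172, e3 q14439 (flp_a L192291) q13798, e3 q14440 L192295 q13799, e3 q14441 (flp_a L192301) q10125, e3 q14442 (flp_a L215719) q17522, e3 q14443 (flp_a L221121) q18189, e3 q14444 (flp_a L221432) q18235, e3 q14445 L192327 q10136, e3 q14446 L192333 q10137, e3 q14447 L221494 q18243, e3 q14448 L221508 q18246, e3 q14449 (flp_a L192351) q10129, e3 q14450 (flp_a L221534) q18249, e3 q14451 (flp_a L221544) q18250, e3 q14452 (flp_a L216529) q17627, e3 q14453 L192373 q10132, e3 q14454 L192383 q10852, e3 q14455 L192395 q14405, e3 q14456 L192403 q14406, e3 q14457 L221594 q18255, e3 q14458 (flp_a L194418) q14746, e3 q14459 (flp_a L221482) q18241, e3 q14460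 L221634 q18260, e3 q14461 L192431 q14310, e3 q14462 (flp_a L192439) q10138, e3 q14463 (flp_a L221652) q18264, trivial⟩ (by decide +kernel)

theorem ce_a_226 : ∀ r, r < 64 → sm ga (Qf (14464 + r)) = Qf (tab Gen.a (14464 + r)) :=
  edges_tab (sm ga) Qf (tab Gen.a) 14464 [(14464, 18265), (14465, 10140), (14466, 18270), (14467, 14523), (14468, 18273), (14469, 10143), (14470, 18277), (14471, 14582), (14472, 18282), (14473, 10145), (14474, 14516), (14475, 18286), (14476, 10146), (14477, 16852), (14478, 10147), (14479, 15908), (14480, 14485), (14481, 16860), (14482, 10149), (14483, 10150), (14484, 18290), (14485, 14480), (14486, 15870), (14487, 16060), (14488, 13847), (14489, 13848), (14490, 10158), (14491, 17524), (14492, 18294), (14493, 18214), (14494, 10169), (14495, 10170), (14496, 18302), (14497, 18305), (14498, 10162), (14499, 18307), (14500, 18308), (14501, 17699), (14502, 10165), (14503, 10849), (14504, 14427), (14505, 14428), (14506, 18312), (14507, 14767), (14508, 18300), (14509, 18317), (14510, 14365), (14511,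 10171), (14512, 18321), (14513, 18322), (14514, 10173), (14515, 18327), (14516, 14474), (14517, 18330), (14518, 10176), (14519, 18334), (14520, 14631), (14521, 18339), (14522, 10178), (14523, 14467), (14524, 18343), (14525, 10179), (14526, 16861), (14527, 10180)]
    ⟨e3 q14464 (flp_a L221656) q18265, e3 q14465 (flp_a L192447) q10140, e3 q14466 (flp_a L221704) q18270, e3 q14467 (flp_a L192815) q14523, e3 q14468 L221722 q18273, e3 q14469 L192473 q10143, e3 q14470 (flp_a L221740) q18277, e3 q14471 (flp_a L193187) q14582, e3 q14472 L221770 q18282, e3 q14473 (flp_a L192491) q10145, e3 q14474 (flp_a L192779) q14516, e3 q14475 (flp_a L221808) q18286, e3 q14476 (flp_a L192503) q10146, e3 q14477 (flp_a L210259) q16852, e3 q14478 (flp_a L192513) q10147, e3 q14479 (flp_a L202691) q15908, e3 q14480 (flp_a L192569) q14485, e3 q14481 (flp_a L210331) q16860, e3 q14482 L192545 q10149, e3 q14483 L192553 q10150, e3 q14484 (flp_a L221844) q18290, e3 q14485 L192569 q14480, e3 q14486 (flp_a L202404) q15870, e3 q14487 (flp_a L203707)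 q16060, e3 q14488 (flp_a L192601) q13847, e3 q14489 L192605 q13848, e3 q14490 (flp_a L192611) q10158, e3 q14491 (flp_a L215735) q17524, e3 q14492 (flp_a L221888) q18294, e3 q14493 (flp_a L221290) q18214, e3 q14494 L192637 q10169, e3 q14495 L192643 q10170, e3 q14496 L221950 q18302, e3 q14497 L221964 q18305, e3 q14498 (flp_a L192661) q10162, e3 q14499 (flp_a L221980) q18307, e3 q14500 (flp_a L221992) q18308, e3 q14501 (flp_a L217102) q17699, e3 q14502 L192683 q10165, e3 q14503 L192693 q10849, e3 q14504 L192705 q14427, e3 q14505 L192713 q14428, e3 q14506 L222030 q18312, e3 q14507 (flp_a L194611) q14767, e3 q14508 (flp_a L221938) q18300, e3 q14509 L222070 q18317, e3 q14510 L192741 q14365, e3 q14511 (flp_a L192749) q10171, e3 q14512 (flp_a L222092) q18321, e3 q14513 (flp_a L222100) q18322, e3 q14514 (flp_a L192757) q10173, e3 q14515 (flp_a L222134) q18327, e3 q14516 L192779 q14474, e3 q14517 L222156 q18330, e3 q14518 L192787 q10176, e3 q14519 (flp_a L222174) q18334, e3 q14520 (flp_a L193491) q14631, e3 q14521 L222243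 q18339, e3 q14522 (flp_a L192805) q10178, e3 q14523 L192815 q14467, e3 q14524 (flp_a L222289) q18343, e3 q14525 (flp_a L192825) q10179, e3 q14526 L210347 q16861, e3 q14527 (flp_a L192835) q10180, trivial⟩ (by decide +kernel)

theorem ce_a_227 : ∀ r, r < 64 → sm ga (Qf (14528 + r)) = Qf (tab Gen.a (14528 + r)) :=
  edges_tab (sm ga) Qf (tab Gen.a) 14528 [(14528, 15678), (14529, 14534), (14530, 16869), (14531, 10182), (14532, 10183), (14533, 18347), (14534, 14529), (14535, 15636), (14536, 16139), (14537, 11243), (14538, 17888), (14539, 16873), (14540, 10195), (14541, 10196), (14542, 10197), (14543, 10198), (14544, 10199), (14545, 10200), (14546, 18358), (14547, 14747), (14548, 10194), (14549, 18352), (14550, 18353), (14551, 18354), (14552, 18355), (14553, 14555), (14554, 18368), (14555, 14553), (14556, 14557), (14557, 14556), (14558, 18373), (14559, 18375), (14560, 10203), (14561, 17403), (14562, 10206), (14563, 18112), (14564, 17673), (14565, 15546), (14566, 18080), (14567, 17674), (14568, 10211), (14569, 18386),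 (14570, 17199), (14571, 10529), (14572, 13142), (14573, 17675), (14574, 17676), (14575, 18397), (14576, 10216), (14577, 10217), (14578, 10251), (14579, 18401), (14580, 18335), (14581, 16052), (14582, 14471), (14583, 18407), (14584, 13783), (14585, 10221), (14586, 18410), (14587, 15772), (14588, 11404), (14589, 17911), (14590, 16880), (14591, 10230)]
    ⟨e3 q14528 L201044 q15678, e3 q14529 (flp_a L192891) q14534, e3 q14530 (flp_a L210419) q16869, e3 q14531 L192867 q10182, e3 q14532 L192875 q10183, e3 q14533 (flp_a L222329) q18347, e3 q14534 L192891 q14529, e3 q14535 (flp_a L200763) q15636, e3 q14536 (flp_a L204233) q16139, e3 q14537 L192919 q11243, e3 q14538 (flp_a L218730) q17888, e3 q14539 (flp_a L210463) q16873, e3 q14540 L192943 q10195, e3 q14541 L192949 q10196, e3 q14542 L192955 q10197, e3 q14543 L192961 q10198, e3 q14544 L192967 q10199, e3 q14545 L192975 q10200, e3 q14546 L222429 q18358, e3 q14547 (flp_a L194430) q14747, e3 q14548 (flp_a L192995) q10194, e3 q14549 (flp_a L222379) q18352, e3 q14550 (flp_a L222391)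 q18353, e3 q14551 (flp_a L222399) q18354, e3 q14552 (flp_a L222411) q18355, e3 q14553 (flp_a L193043) q14555, e3 q14554 L222503 q18368, e3 q14555 L193043 q14553, e3 q14556 (flp_a L193059) q14557, e3 q14557 L193059 q14556, e3 q14558 L222914 q18373, e3 q14559 L222928 q18375, e3 q14560 (flp_a L193075) q10203, e3 q14561 (flp_a L214557) q17403, e3 q14562 (flp_a L193085) q10206, e3 q14563 (flp_a L220486) q18112, e3 q14564 (flp_a L216881) q17673, e3 q14565 L200101 q15546, e3 q14566 (flp_a L220270) q18080, e3 q14567 (flp_a L216893) q17674, e3 q14568 L193117 q10211, e3 q14569 (flp_a L223020) q18386, e3 q14570 (flp_a L212901) q17199, e3 q14571 L193131 q10529, e3 q14572 L193141 q13142, e3 q14573 (flp_a L216903) q17675, e3 q14574 (flp_a L216920) q17676, e3 q14575 L223086 q18397, e3 q14576 L193157 q10216, e3 q14577 L193163 q10217, e3 q14578 L193171 q10251, e3 q14579 (flp_a L223098) q18401, e3 q14580 (flp_a L222182) q18335, e3 q14581 L216915 q16052, e3 q14582 L193187 q14471, e3 q14583 L223135 q18407, e3 q14584 L193201 q13783,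 e3 q14585 (flp_a L193209) q10221, e3 q14586 (flp_a L223157) q18410, e3 q14587 (flp_a L201652) q15772, e3 q14588 L193233 q11404, e3 q14589 (flp_a L218952) q17911, e3 q14590 (flp_a L210517) q16880, e3 q14591 L193257 q10230, trivial⟩ (by decide +kernel)

theorem ce_a_228 : ∀ r, r < 64 → sm ga (Qf (14592 + r)) = Qf (tab Gen.a (14592 + r)) :=
  edges_tab (sm ga) Qf (tab Gen.a) 14592 [(14592, 10231), (14593, 10232), (14594, 10233), (14595, 10234), (14596, 10235), (14597, 18420), (14598, 10228), (14599, 14768), (14600, 18414), (14601, 18415), (14602, 18416), (14603, 18417), (14604, 18429), (14605, 14606), (14606, 14605), (14607, 14608), (14608, 14607), (14609, 18435), (14610, 18438), (14611, 17421), (14612, 10240), (14613, 18166), (14614, 10241), (14615, 15785), (14616, 17741), (14617, 18134), (14618, 17742), (14619, 10246), (14620, 18448), (14621, 17275), (14622, 10480), (14623, 13201), (14624, 17743), (14625, 17744), (14626, 18459), (14627, 10252), (14628, 18403), (14629, 18278), (14630, 16130), (14631, 14520), (14632,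 18465), (14633, 13775), (14634, 10256), (14635, 18468), (14636, 15997), (14637, 13105), (14638, 12960), (14639, 10266), (14640, 10267), (14641, 10268), (14642, 10270), (14643, 14290), (14644, 18474), (14645, 10264), (14646, 18477), (14647, 14305), (14648, 15603), (14649, 15604), (14650, 14306), (14651, 16528), (14652, 18471), (14653, 13725), (14654, 14656), (14655, 18488)]
    ⟨e3 q14592 L193263 q10231, e3 q14593 L193269 q10232, e3 q14594 L193275 q10233, e3 q14595 L193281 q10234, e3 q14596 L193289 q10235, e3 q14597 L223243 q18420, e3 q14598 (flp_a L193301) q10228, e3 q14599 (flp_a L194623) q14768, e3 q14600 (flp_a L223193) q18414, e3 q14601 (flp_a L223205) q18415, e3 q14602 (flp_a L223213) q18416, e3 q14603 (flp_a L223225) q18417, e3 q14604 L223315 q18429, e3 q14605 (flp_a L193359) q14606, e3 q14606 L193359 q14605, e3 q14607 (flp_a L193375) q14608, e3 q14608 L193375 q14607, e3 q14609 L223341 q18435, e3 q14610 L223359 q18438, e3 q14611 (flp_a L214729) q17421, e3 q14612 (flp_a L193395) q10240, e3 q14613 (flp_a L220916)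 q18166, e3 q14614 (flp_a L193405) q10241, e3 q14615 L201758 q15785, e3 q14616 (flp_a L217444) q17741, e3 q14617 (flp_a L220700) q18134, e3 q14618 (flp_a L217456) q17742, e3 q14619 L193433 q10246, e3 q14620 (flp_a L223447) q18448, e3 q14621 (flp_a L213403) q17275, e3 q14622 L193447 q10480, e3 q14623 L193457 q13201, e3 q14624 (flp_a L217466) q17743, e3 q14625 (flp_a L217474) q17744, e3 q14626 L223523 q18459, e3 q14627 L193473 q10252, e3 q14628 (flp_a L223108) q18403, e3 q14629 (flp_a L221748) q18278, e3 q14630 L222220 q16130, e3 q14631 L193491 q14520, e3 q14632 L223545 q18465, e3 q14633 L193505 q13775, e3 q14634 (flp_a L193513) q10256, e3 q14635 (flp_a L223567) q18468, e3 q14636 (flp_a L203289) q15997, e3 q14637 L193537 q13105, e3 q14638 (flp_a L193553) q12960, e3 q14639 L193561 q10266, e3 q14640 L193571 q10267, e3 q14641 L193577 q10268, e3 q14642 L193583 q10270, e3 q14643 (flp_a L193597) q14290, e3 q14644 L223617 q18474, e3 q14645 (flp_a L193603) q10264, e3 q14646 (flp_a L223643) q18477, e3 q14647 L193619 q14305,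 e3 q14648 (flp_a L200469) q15603, e3 q14649 (flp_a L200481) q15604, e3 q14650 L193637 q14306, e3 q14651 (flp_a L207471) q16528, e3 q14652 (flp_a L223599) q18471, e3 q14653 L193661 q13725, e3 q14654 (flp_a L193677) q14656, e3 q14655 L223741 q18488, trivial⟩ (by decide +kernel)

theorem ce_a_229 : ∀ r, r < 64 → sm ga (Qf (14656 + r)) = Qf (tab Gen.a (14656 + r)) :=
  edges_tab (sm ga) Qf (tab Gen.a) 14656 [(14656, 14654), (14657, 14658), (14658, 14657), (14659, 18492), (14660, 18494), (14661, 10273), (14662, 17898), (14663, 10274), (14664, 17578), (14665, 15675), (14666, 13164), (14667, 13036), (14668, 10284), (14669, 10285), (14670, 10286), (14671, 10287), (14672, 18501), (14673, 14346), (14674, 10281), (14675, 18505), (14676, 14360), (14677, 15841), (14678, 15842), (14679, 14361), (14680, 18499), (14681, 16563), (14682, 18515), (14683, 14685), (14684, 13750), (14685, 14683), (14686, 14687), (14687, 14686), (14688, 18520), (14689, 18523), (14690, 10291), (14691, 17606), (14692, 15905), (14693, 10292), (14694, 17920),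 (14695, 16264), (14696, 12083), (14697, 16421), (14698, 11872), (14699, 11828), (14700, 12040), (14701, 12809), (14702, 10467), (14703, 12663), (14704, 12257), (14705, 10311), (14706, 10312), (14707, 15116), (14708, 15114), (14709, 10315), (14710, 10462), (14711, 12430), (14712, 12390), (14713, 13693), (14714, 17832), (14715, 10331), (14716, 12292), (14717, 12293), (14718, 14718), (14719, 14719)]
    ⟨e3 q14656 L193677 q14654, e3 q14657 (flp_a L193693) q14658, e3 q14658 L193693 q14657, e3 q14659 L223765 q18492, e3 q14660 L223781 q18494, e3 q14661 (flp_a L193713) q10273, e3 q14662 (flp_a L218836) q17898, e3 q14663 (flp_a L193725) q10274, e3 q14664 (flp_a L216185) q17578, e3 q14665 (flp_a L201010) q15675, e3 q14666 L193749 q13164, e3 q14667 (flp_a L193765) q13036, e3 q14668 L193773 q10284, e3 q14669 L193783 q10285, e3 q14670 L193789 q10286, e3 q14671 L193795 q10287, e3 q14672 L223891 q18501, e3 q14673 (flp_a L193813) q14346, e3 q14674 (flp_a L193815) q10281, e3 q14675 (flp_a L223925) q18505, e3 q14676 L193831 q14360,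 e3 q14677 (flp_a L202148) q15841, e3 q14678 (flp_a L202156) q15842, e3 q14679 L193853 q14361, e3 q14680 (flp_a L223881) q18499, e3 q14681 (flp_a L207756) q16563, e3 q14682 L224021 q18515, e3 q14683 (flp_a L193893) q14685, e3 q14684 (flp_a L193889) q13750, e3 q14685 L193893 q14683, e3 q14686 (flp_a L193909) q14687, e3 q14687 L193909 q14686, e3 q14688 L224047 q18520, e3 q14689 L224073 q18523, e3 q14690 (flp_a L193929) q10291, e3 q14691 (flp_a L216383) q17606, e3 q14692 (flp_a L202657) q15905, e3 q14693 (flp_a L193951) q10292, e3 q14694 (flp_a L219048) q17920, e3 q14695 (flp_a L205183) q16264, e3 q14696 L193973 q12083, e3 q14697 (flp_a L206534) q16421, e3 q14698 L193991 q11872, e3 q14699 L194001 q11828, e3 q14700 L194013 q12040, e3 q14701 L194025 q12809, e3 q14702 L194037 q10467, e3 q14703 L194041 q12663, e3 q14704 L194053 q12257, e3 q14705 L194057 q10311, e3 q14706 L194065 q10312, e3 q14707 (flp_a L197432) q15116, e3 q14708 (flp_a L197413) q15114, e3 q14709 (flp_a L194089) q10315, e3 q14710 L194105 q10462, e3 q14711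 L194109 q12430, e3 q14712 L194119 q12390, e3 q14713 L194133 q13693, e3 q14714 (flp_a L218210) q17832, e3 q14715 L194145 q10331, e3 q14716 L194165 q12292, e3 q14717 L194169 q12293, e3 q14718 L194179 q14718, e3 q14719 L194182 q14719, trivial⟩ (by decide +kernel)

theorem ce_a_230 : ∀ r, r < 64 → sm ga (Qf (14720 + r)) = Qf (tab Gen.a (14720 + r)) :=
  edges_tab (sm ga) Qf (tab Gen.a) 14720 [(14720, 12813), (14721, 10517), (14722, 12692), (14723, 12317), (14724, 10348), (14725, 10349), (14726, 15128), (14727, 15126), (14728, 10352), (14729, 10511), (14730, 12416), (14731, 12344), (14732, 13684), (14733, 17842), (14734, 10365), (14735, 12234), (14736, 12233), (14737, 14737), (14738, 14738), (14739, 14031), (14740, 10375), (14741, 18532), (14742, 18533), (14743, 10377), (14744, 10378), (14745, 14745), (14746, 14458), (14747, 14547), (14748, 16722), (14749, 10389), (14750, 17068), (14751, 12766), (14752, 10754), (14753, 14758), (14754, 10401), (14755, 10402), (14756, 13558), (14757, 14798), (14758, 14753), (14759, 14799),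 (14760, 14088), (14761, 10409), (14762, 18536), (14763, 18537), (14764, 10411), (14765, 10412), (14766, 14766), (14767, 14507), (14768, 14599), (14769, 16716), (14770, 10423), (14771, 17155), (14772, 12791), (14773, 10670), (14774, 14779), (14775, 10435), (14776, 10436), (14777, 13584), (14778, 14830), (14779, 14774), (14780, 14831), (14781, 10450), (14782, 17864), (14783, 13258)]
    ⟨e3 q14720 L194187 q12813, e3 q14721 L194199 q10517, e3 q14722 L194203 q12692, e3 q14723 L194215 q12317, e3 q14724 L194219 q10348, e3 q14725 L194227 q10349, e3 q14726 (flp_a L197532) q15128, e3 q14727 (flp_a L197513) q15126, e3 q14728 (flp_a L194251) q10352, e3 q14729 L194267 q10511, e3 q14730 L194271 q12416, e3 q14731 L194281 q12344, e3 q14732 L194295 q13684, e3 q14733 (flp_a L218312) q17842, e3 q14734 L194317 q10365, e3 q14735 L194337 q12234, e3 q14736 L194341 q12233, e3 q14737 L194351 q14737, e3 q14738 L194354 q14738, e3 q14739 L194359 q14031, e3 q14740 (flp_a L194366) q10375, e3 q14741 (flp_a L224157) q18532, e3 q14742 (flp_a L224169)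 q18533, e3 q14743 L194388 q10377, e3 q14744 L194398 q10378, e3 q14745 L194408 q14745, e3 q14746 L194418 q14458, e3 q14747 L194430 q14547, e3 q14748 (flp_a L209177) q16722, e3 q14749 (flp_a L194446) q10389, e3 q14750 (flp_a L211941) q17068, e3 q14751 L194470 q12766, e3 q14752 L194474 q10754, e3 q14753 (flp_a L194536) q14758, e3 q14754 L194490 q10401, e3 q14755 L194504 q10402, e3 q14756 L194514 q13558, e3 q14757 (flp_a L194907) q14798, e3 q14758 L194536 q14753, e3 q14759 (flp_a L194917) q14799, e3 q14760 L194552 q14088, e3 q14761 (flp_a L194559) q10409, e3 q14762 (flp_a L224203) q18536, e3 q14763 (flp_a L224215) q18537, e3 q14764 L194581 q10411, e3 q14765 L194591 q10412, e3 q14766 L194601 q14766, e3 q14767 L194611 q14507, e3 q14768 L194623 q14599, e3 q14769 (flp_a L209119) q16716, e3 q14770 (flp_a L194639) q10423, e3 q14771 (flp_a L212585) q17155, e3 q14772 L194663 q12791, e3 q14773 L194667 q10670, e3 q14774 (flp_a L194729) q14779, e3 q14775 L194683 q10435, e3 q14776 L194697 q10436, e3 q14777 L194707 q13584, e3 q14778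 (flp_a L195193) q14830, e3 q14779 L194729 q14774, e3 q14780 (flp_a L195203) q14831, e3 q14781 L194745 q10450, e3 q14782 (flp_a L218504) q17864, e3 q14783 L194773 q13258, trivial⟩ (by decide +kernel)

theorem ce_a_231 : ∀ r, r < 64 → sm ga (Qf (14784 + r)) = Qf (tab Gen.a (14784 + r)) :=
  edges_tab (sm ga) Qf (tab Gen.a) 14784 [(14784, 12621), (14785, 13135), (14786, 10453), (14787, 13020), (14788, 18540), (14789, 10750), (14790, 10458), (14791, 13463), (14792, 14169), (14793, 17890), (14794, 12812), (14795, 16270), (14796, 14797), (14797, 14796), (14798, 14757), (14799, 14759), (14800, 14905), (14801, 10473), (14802, 10474), (14803, 18287), (14804, 12619), (14805, 16813), (14806, 17891), (14807, 13040), (14808, 18453), (14809, 12965), (14810, 14190), (14811, 13411), (14812, 10489), (14813, 18548), (14814, 16420), (14815, 10500), (14816, 17876), (14817, 13271), (14818, 12632), (14819, 10502), (14820, 13091), (14821, 18549), (14822, 13194), (14823, 10507), (14824, 10668), (14825, 17912), (14826, 12816), (14827, 16425),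 (14828, 14829), (14829, 14828), (14830, 14778), (14831, 14780), (14832, 14953), (14833, 10523), (14834, 10524), (14835, 18344), (14836, 12617), (14837, 16787), (14838, 17913), (14839, 18391), (14840, 10535), (14841, 18555), (14842, 16527), (14843, 10550), (14844, 11120), (14845, 13057), (14846, 12643), (14847, 12710)]
    ⟨e3 q14784 L194777 q12621, e3 q14785 (flp_a L194793) q13135, e3 q14786 (flp_a L194795) q10453, e3 q14787 L194807 q13020, e3 q14788 L224247 q18540, e3 q14789 L194821 q10750, e3 q14790 (flp_a L194827) q10458, e3 q14791 L194839 q13463, e3 q14792 L194851 q14169, e3 q14793 (flp_a L218754) q17890, e3 q14794 L194867 q12812, e3 q14795 (flp_a L205248) q16270, e3 q14796 (flp_a L194895) q14797, e3 q14797 L194895 q14796, e3 q14798 L194907 q14757, e3 q14799 L194917 q14759, e3 q14800 (flp_a L195854) q14905, e3 q14801 L194941 q10473, e3 q14802 L194949 q10474, e3 q14803 (flp_a L221818) q18287, e3 q14804 L194969 q12619, e3 q14805 L209947 q16813, e3 q14806 (flp_a L218764) q17891, e3 q14807 (flp_a L194993) q13040,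 e3 q14808 (flp_a L223479) q18453, e3 q14809 (flp_a L195007) q12965, e3 q14810 L195011 q14190, e3 q14811 L195023 q13411, e3 q14812 L195035 q10489, e3 q14813 (flp_a L224321) q18548, e3 q14814 (flp_a L206526) q16420, e3 q14815 L195055 q10500, e3 q14816 (flp_a L218608) q17876, e3 q14817 L195083 q13271, e3 q14818 L195087 q12632, e3 q14819 (flp_a L195099) q10502, e3 q14820 L195111 q13091, e3 q14821 L224327 q18549, e3 q14822 (flp_a L195127) q13194, e3 q14823 (flp_a L195129) q10507, e3 q14824 L195141 q10668, e3 q14825 (flp_a L218964) q17912, e3 q14826 L195153 q12816, e3 q14827 (flp_a L206567) q16425, e3 q14828 (flp_a L195185) q14829, e3 q14829 L195185 q14828, e3 q14830 L195193 q14778, e3 q14831 L195203 q14780, e3 q14832 (flp_a L196263) q14953, e3 q14833 L195227 q10523, e3 q14834 L195235 q10524, e3 q14835 (flp_a L222301) q18344, e3 q14836 L195255 q12617, e3 q14837 L209745 q16787, e3 q14838 (flp_a L218974) q17913, e3 q14839 (flp_a L223044) q18391, e3 q14840 L195281 q10535, e3 q14841 (flp_a L224377) q18555, e3 q14842 (flp_a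 L207463) q16527, e3 q14843 L195301 q10550, e3 q14844 L195313 q11120, e3 q14845 L195324 q13057, e3 q14846 L195336 q12643, e3 q14847 L195356 q12710, trivial⟩ (by decide +kernel)

theorem ce_a_232 : ∀ r, r < 64 → sm ga (Qf (14848 + r)) = Qf (tab Gen.a (14848 + r)) :=
  edges_tab (sm ga) Qf (tab Gen.a) 14848 [(14848, 12652), (14849, 12801), (14850, 10559), (14851, 12756), (14852, 16648), (14853, 10564), (14854, 16585), (14855, 18559), (14856, 14871), (14857, 10587), (14858, 10631), (14859, 16774), (14860, 16808), (14861, 10572), (14862, 15904), (14863, 10580), (14864, 10581), (14865, 10582), (14866, 13265), (14867, 13383), (14868, 18563), (14869, 13382), (14870, 15903), (14871, 14856), (14872, 13278), (14873, 12917), (14874, 13281), (14875, 12902), (14876, 13267), (14877, 10604), (14878, 11189), (14879, 12982), (14880, 12682), (14881, 12777), (14882, 10612), (14883, 12752), (14884, 16666), (14885, 10616), (14886, 16550), (14887, 18573), (14888, 14900), (14889, 10636), (14890, 16769), (14891, 16782), (14892, 10623),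 (14893, 15674), (14894, 10629), (14895, 10630), (14896, 13331), (14897, 18577), (14898, 13329), (14899, 15673), (14900, 14888), (14901, 14998), (14902, 13668), (14903, 14906), (14904, 14923), (14905, 14800), (14906, 14903), (14907, 16645), (14908, 14921), (14909, 10657), (14910, 14008), (14911, 13282)]
    ⟨e3 q14848 L195370 q12652, e3 q14849 L195374 q12801, e3 q14850 L195384 q10559, e3 q14851 L195394 q12756, e3 q14852 (flp_a L208523) q16648, e3 q14853 L195414 q10564, e3 q14854 L207941 q16585, e3 q14855 (flp_a L224421) q18559, e3 q14856 (flp_a L195554) q14871, e3 q14857 L195448 q10587, e3 q14858 L195452 q10631, e3 q14859 (flp_a L209639) q16774, e3 q14860 (flp_a L209919) q16808, e3 q14861 L195474 q10572, e3 q14862 (flp_a L202645) q15904, e3 q14863 L195486 q10580, e3 q14864 L195496 q10581, e3 q14865 L195502 q10582, e3 q14866 (flp_a L195518) q13265, e3 q14867 L195524 q13383, e3 q14868 (flp_a L224443) q18563, e3 q14869 L195540 q13382, e3 q14870 (flp_a L202635) q15903, e3 q14871 L195554 q14856, e3 q14872 L195564 q13278,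 e3 q14873 L195574 q12917, e3 q14874 L195580 q13281, e3 q14875 L195592 q12902, e3 q14876 L195598 q13267, e3 q14877 L195610 q10604, e3 q14878 L195624 q11189, e3 q14879 L195635 q12982, e3 q14880 L195653 q12682, e3 q14881 L195659 q12777, e3 q14882 L195669 q10612, e3 q14883 L195679 q12752, e3 q14884 (flp_a L208696) q16666, e3 q14885 L195699 q10616, e3 q14886 (flp_a L207656) q16550, e3 q14887 (flp_a L224543) q18573, e3 q14888 (flp_a L195811) q14900, e3 q14889 L195737 q10636, e3 q14890 (flp_a L209581) q16769, e3 q14891 (flp_a L209717) q16782, e3 q14892 L195753 q10623, e3 q14893 (flp_a L200998) q15674, e3 q14894 L195765 q10629, e3 q14895 L195775 q10630, e3 q14896 L195781 q13331, e3 q14897 (flp_a L224565) q18577, e3 q14898 L195797 q13329, e3 q14899 (flp_a L200988) q15673, e3 q14900 L195811 q14888, e3 q14901 (flp_a L196661) q14998, e3 q14902 (flp_a L195834) q13668, e3 q14903 (flp_a L195866) q14906, e3 q14904 (flp_a L196031) q14923, e3 q14905 L195854 q14800, e3 q14906 L195866 q14903, e3 q14907 (flp_a L208495) q16645, e3 q14908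 (flp_a L196011) q14921, e3 q14909 (flp_a L195890) q10657, e3 q14910 L195906 q14008, e3 q14911 L195910 q13282, trivial⟩ (by decide +kernel)

theorem ce_a_233 : ∀ r, r < 64 → sm ga (Qf (14912 + r)) = Qf (tab Gen.a (14912 + r)) :=
  edges_tab (sm ga) Qf (tab Gen.a) 14912 [(14912, 10662), (14913, 18584), (14914, 10666), (14915, 16637), (14916, 10819), (14917, 17495), (14918, 17855), (14919, 13545), (14920, 14920), (14921, 14908), (14922, 10684), (14923, 14904), (14924, 16456), (14925, 10693), (14926, 14181), (14927, 10698), (14928, 17765), (14929, 13534), (14930, 13532), (14931, 17457), (14932, 17843), (14933, 14948), (14934, 10710), (14935, 10711), (14936, 14016), (14937, 17554), (14938, 17764), (14939, 17459), (14940, 10715), (14941, 17950), (14942, 12565), (14943, 10718), (14944, 16562), (14945, 16561), (14946, 10721), (14947, 14947), (14948, 14933), (14949, 15012), (14950, 13667), (14951, 14954), (14952, 14971), (14953, 14832), (14954, 14951), (14955, 16663), (14956, 14969), (14957, 13989), (14958, 13269), (14959,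 10744), (14960, 18595), (14961, 10748), (14962, 16642), (14963, 10840), (14964, 10751), (14965, 17486), (14966, 17867), (14967, 13576), (14968, 14968), (14969, 14956), (14970, 10768), (14971, 14952), (14972, 16307), (14973, 10777), (14974, 14160), (14975, 10783)]
    ⟨e3 q14912 (flp_a L195916) q10662, e3 q14913 (flp_a L224625) q18584, e3 q14914 (flp_a L195938) q10666, e3 q14915 (flp_a L208393) q16637, e3 q14916 L195956 q10819, e3 q14917 (flp_a L215469) q17495, e3 q14918 (flp_a L218432) q17855, e3 q14919 L195992 q13545, e3 q14920 L196000 q14920, e3 q14921 L196011 q14908, e3 q14922 L196017 q10684, e3 q14923 L196031 q14904, e3 q14924 (flp_a L206865) q16456, e3 q14925 (flp_a L196049) q10693, e3 q14926 L196063 q14181, e3 q14927 L196071 q10698, e3 q14928 (flp_a L217636) q17765, e3 q14929 L196095 q13534, e3 q14930 L196101 q13532, e3 q14931 (flp_a L215090) q17457, e3 q14932 (flp_a L218316) q17843, e3 q14933 L196224 q14948, e3 q14934 L196121 q10710, e3 q14935 L196125 q10711, e3 q14936 L196135 q14016, e3 q14937 (flp_a L216005)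 q17554, e3 q14938 (flp_a L217624) q17764, e3 q14939 (flp_a L215116) q17459, e3 q14940 L196155 q10715, e3 q14941 (flp_a L219338) q17950, e3 q14942 L196171 q12565, e3 q14943 (flp_a L196179) q10718, e3 q14944 (flp_a L207742) q16562, e3 q14945 (flp_a L207732) q16561, e3 q14946 L196205 q10721, e3 q14947 L196215 q14947, e3 q14948 (flp_a L196224) q14933, e3 q14949 (flp_a L196773) q15012, e3 q14950 L196243 q13667, e3 q14951 (flp_a L196275) q14954, e3 q14952 (flp_a L196444) q14971, e3 q14953 L196263 q14832, e3 q14954 L196275 q14951, e3 q14955 (flp_a L208668) q16663, e3 q14956 L196426 q14969, e3 q14957 L196307 q13989, e3 q14958 L196311 q13269, e3 q14959 (flp_a L196317) q10744, e3 q14960 (flp_a L224729) q18595, e3 q14961 (flp_a L196339) q10748, e3 q14962 (flp_a L208455) q16642, e3 q14963 L196355 q10840, e3 q14964 (flp_a L196365) q10751, e3 q14965 (flp_a L215381) q17486, e3 q14966 (flp_a L218536) q17867, e3 q14967 L196405 q13576, e3 q14968 L196413 q14968, e3 q14969 (flp_a L196426) q14956, e3 q14970 L196430 q10768, e3 q14971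 L196444 q14952, e3 q14972 (flp_a L205590) q16307, e3 q14973 (flp_a L196462) q10777, e3 q14974 L196476 q14160, e3 q14975 L196484 q10783, trivial⟩ (by decide +kernel)

theorem ce_a_234 : ∀ r, r < 64 → sm ga (Qf (14976 + r)) = Qf (tab Gen.a (14976 + r)) :=
  edges_tab (sm ga) Qf (tab Gen.a) 14976 [(14976, 17697), (14977, 13510), (14978, 13508), (14979, 17434), (14980, 14996), (14981, 17833), (14982, 10792), (14983, 10793), (14984, 17555), (14985, 13998), (14986, 17696), (14987, 17431), (14988, 10796), (14989, 17940), (14990, 12559), (14991, 10799), (14992, 16597), (14993, 16596), (14994, 10802), (14995, 14995), (14996, 14980), (14997, 18593), (14998, 14901), (14999, 16449), (15000, 10809), (15001, 18603), (15002, 13388), (15003, 13666), (15004, 13670), (15005, 10830), (15006, 13513), (15007, 18557), (15008, 10821), (15009, 17926), (15010, 13512), (15011, 18582), (15012, 14949), (15013, 16296), (15014, 18605), (15015, 13440), (15016, 13665), (15017, 13669), (15018, 13537), (15019, 18571), (15020, 10842), (15021, 17929),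 (15022, 13536), (15023, 10848), (15024, 16908), (15025, 18309), (15026, 11588), (15027, 10851), (15028, 16910), (15029, 18252), (15030, 11641), (15031, 17022), (15032, 17113), (15033, 14246), (15034, 14233), (15035, 10869), (15036, 14298), (15037, 14297), (15038, 15094), (15039, 18623)]
    ⟨e3 q14976 (flp_a L217080) q17697, e3 q14977 L196510 q13510, e3 q14978 L196516 q13508, e3 q14979 (flp_a L214870) q17434, e3 q14980 (flp_a L196651) q14996, e3 q14981 (flp_a L218214) q17833, e3 q14982 L196542 q10792, e3 q14983 L196546 q10793, e3 q14984 (flp_a L216014) q17555, e3 q14985 (flp_a L208823) q13998, e3 q14986 (flp_a L217068) q17696, e3 q14987 (flp_a L214847) q17431, e3 q14988 L196574 q10796, e3 q14989 (flp_a L219234) q17940, e3 q14990 L196590 q12559, e3 q14991 (flp_a L196600) q10799, e3 q14992 (flp_a L208031) q16597, e3 q14993 (flp_a L208021) q16596, e3 q14994 L196630 q10802, e3 q14995 L196640 q14995, e3 q14996 L196651 q14980, e3 q14997 (flp_a L224709) q18593, e3 q14998 L196661 q14901, e3 q14999 (flp_a L206801) q16449,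 e3 q15000 (flp_a L196677) q10809, e3 q15001 (flp_a L224799) q18603, e3 q15002 L196691 q13388, e3 q15003 (flp_a L196706) q13666, e3 q15004 L196710 q13670, e3 q15005 L196721 q10830, e3 q15006 L196729 q13513, e3 q15007 (flp_a L224407) q18557, e3 q15008 L196743 q10821, e3 q15009 (flp_a L219098) q17926, e3 q15010 L196755 q13512, e3 q15011 (flp_a L224609) q18582, e3 q15012 L196773 q14949, e3 q15013 (flp_a L205490) q16296, e3 q15014 (flp_a L224825) q18605, e3 q15015 L196799 q13440, e3 q15016 L196816 q13665, e3 q15017 L196820 q13669, e3 q15018 L196831 q13537, e3 q15019 (flp_a L224529) q18571, e3 q15020 L196845 q10842, e3 q15021 (flp_a L219128) q17929, e3 q15022 L196857 q13536, e3 q15023 L196869 q10848, e3 q15024 (flp_a L210743) q16908, e3 q15025 (flp_a L222000) q18309, e3 q15026 (flp_a L196891) q11588, e3 q15027 L196895 q10851, e3 q15028 (flp_a L210759) q16910, e3 q15029 (flp_a L221564) q18252, e3 q15030 (flp_a L196917) q11641, e3 q15031 (flp_a L211619) q17022, e3 q15032 (flp_a L212287) q17113, e3 q15033 L196929 q14246,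 e3 q15034 (flp_a L208853) q14233, e3 q15035 L196941 q10869, e3 q15036 L196951 q14298, e3 q15037 L196961 q14297, e3 q15038 (flp_a L197297) q15094, e3 q15039 L224981 q18623, trivial⟩ (by decide +kernel)

theorem ce_a_235 : ∀ r, r < 64 → sm ga (Qf (15040 + r)) = Qf (tab Gen.a (15040 + r)) :=
  edges_tab (sm ga) Qf (tab Gen.a) 15040 [(15040, 18055), (15041, 10873), (15042, 18628), (15043, 11230), (15044, 11222), (15045, 14267), (15046, 14235), (15047, 10877), (15048, 14353), (15049, 14352), (15050, 15104), (15051, 18638), (15052, 18026), (15053, 10881), (15054, 18643), (15055, 11161), (15056, 11152), (15057, 18168), (15058, 10887), (15059, 18646), (15060, 18647), (15061, 11543), (15062, 18114), (15063, 10894), (15064, 18652), (15065, 18653), (15066, 11384), (15067, 15067), (15068, 18658), (15069, 18660), (15070, 15134), (15071, 10905), (15072, 18662), (15073, 15141), (15074, 10907), (15075, 18664), (15076, 10910), (15077, 10913), (15078, 10916), (15079, 10917), (15080, 18666), (15081, 15139), (15082, 18670), (15083,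 10920), (15084, 10921), (15085, 18671), (15086, 15146), (15087, 18675), (15088, 10928), (15089, 10929), (15090, 18678), (15091, 15112), (15092, 18676), (15093, 18682), (15094, 15038), (15095, 10930), (15096, 15179), (15097, 18037), (15098, 10938), (15099, 10939), (15100, 18689), (15101, 15124), (15102, 18687), (15103, 18693)]
    ⟨e3 q15040 (flp_a L220086) q18055, e3 q15041 L196979 q10873, e3 q15042 (flp_a L225005) q18628, e3 q15043 L196989 q11230, e3 q15044 L196997 q11222, e3 q15045 L197007 q14267, e3 q15046 (flp_a L210681) q14235, e3 q15047 L197019 q10877, e3 q15048 L197029 q14353, e3 q15049 L197039 q14352, e3 q15050 (flp_a L197347) q15104, e3 q15051 L225089 q18638, e3 q15052 (flp_a L219870) q18026, e3 q15053 L197057 q10881, e3 q15054 (flp_a L225113) q18643, e3 q15055 L197067 q11161, e3 q15056 L197075 q11152, e3 q15057 (flp_a L220932) q18168, e3 q15058 L197089 q10887, e3 q15059 (flp_a L225139) q18646, e3 q15060 (flp_a L225149) q18647, e3 q15061 L197101 q11543, e3 q15062 (flp_a L220502) q18114, e3 q15063 L197111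 q10894, e3 q15064 (flp_a L225181) q18652, e3 q15065 (flp_a L225191) q18653, e3 q15066 L197123 q11384, e3 q15067 L197129 q15067, e3 q15068 L225221 q18658, e3 q15069 L225234 q18660, e3 q15070 (flp_a L197577) q15134, e3 q15071 (flp_a L197153) q10905, e3 q15072 (flp_a L225249) q18662, e3 q15073 (flp_a L197633) q15141, e3 q15074 (flp_a L197165) q10907, e3 q15075 (flp_a L225257) q18664, e3 q15076 L197173 q10910, e3 q15077 L197184 q10913, e3 q15078 L197195 q10916, e3 q15079 L197201 q10917, e3 q15080 (flp_a L225265) q18666, e3 q15081 (flp_a L197619) q15139, e3 q15082 L225285 q18670, e3 q15083 L197228 q10920, e3 q15084 L197234 q10921, e3 q15085 (flp_a L225293) q18671, e3 q15086 (flp_a L197667) q15146, e3 q15087 L225313 q18675, e3 q15088 L197263 q10928, e3 q15089 L197273 q10929, e3 q15090 L225337 q18678, e3 q15091 (flp_a L197401) q15112, e3 q15092 (flp_a L225323) q18676, e3 q15093 L225353 q18682, e3 q15094 L197297 q15038, e3 q15095 (flp_a L197303) q10930, e3 q15096 (flp_a L197843) q15179, e3 q15097 (flp_a L219950) q18037,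 e3 q15098 L197313 q10938, e3 q15099 L197323 q10939, e3 q15100 L225391 q18689, e3 q15101 (flp_a L197501) q15124, e3 q15102 (flp_a L225377) q18687, e3 q15103 L225407 q18693, trivial⟩ (by decide +kernel)

theorem ce_a_236 : ∀ r, r < 64 → sm ga (Qf (15104 + r)) = Qf (tab Gen.a (15104 + r)) :=
  edges_tab (sm ga) Qf (tab Gen.a) 15104 [(15104, 15050), (15105, 10940), (15106, 15213), (15107, 18067), (15108, 10948), (15109, 15579), (15110, 12284), (15111, 11360), (15112, 15091), (15113, 18702), (15114, 14708), (15115, 11034), (15116, 14707), (15117, 11035), (15118, 11036), (15119, 15626), (15120, 10960), (15121, 15819), (15122, 12225), (15123, 11519), (15124, 15101), (15125, 18709), (15126, 14727), (15127, 11072), (15128, 14726), (15129, 11073), (15130, 11074), (15131, 15860), (15132, 18712), (15133, 18714), (15134, 15070), (15135, 10970), (15136, 18717), (15137, 18720), (15138, 10972), (15139, 15081), (15140, 18724), (15141, 15073), (15142, 10975), (15143, 18728), (15144, 18731), (15145, 10977), (15146, 15086), (15147,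 18735), (15148, 15150), (15149, 18739), (15150, 15148), (15151, 16898), (15152, 18202), (15153, 10985), (15154, 18470), (15155, 17964), (15156, 11205), (15157, 18745), (15158, 10989), (15159, 15234), (15160, 18749), (15161, 15177), (15162, 18755), (15163, 18757), (15164, 14417), (15165, 10993), (15166, 16161), (15167, 17991)]
    ⟨e3 q15104 L197347 q15050, e3 q15105 (flp_a L197353) q10940, e3 q15106 (flp_a L198023) q15213, e3 q15107 (flp_a L220170) q18067, e3 q15108 L197363 q10948, e3 q15109 (flp_a L200323) q15579, e3 q15110 L197381 q12284, e3 q15111 L197391 q11360, e3 q15112 L197401 q15091, e3 q15113 L225465 q18702, e3 q15114 L197413 q14708, e3 q15115 (flp_a L197428) q11034, e3 q15116 L197432 q14707, e3 q15117 L197444 q11035, e3 q15118 L197449 q11036, e3 q15119 (flp_a L200669) q15626, e3 q15120 L197463 q10960, e3 q15121 (flp_a L202006) q15819, e3 q15122 L197481 q12225, e3 q15123 L197491 q11519, e3 q15124 L197501 q15101, e3 q15125 L225528 q18709, e3 q15126 L197513 q14727, e3 q15127 (flp_a L197528) q11072, e3 q15128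 L197532 q14726, e3 q15129 L197544 q11073, e3 q15130 L197549 q11074, e3 q15131 (flp_a L202310) q15860, e3 q15132 L225555 q18712, e3 q15133 L225569 q18714, e3 q15134 L197577 q15070, e3 q15135 (flp_a L197587) q10970, e3 q15136 (flp_a L225601) q18717, e3 q15137 L225615 q18720, e3 q15138 L197611 q10972, e3 q15139 L197619 q15081, e3 q15140 (flp_a L225659) q18724, e3 q15141 L197633 q15073, e3 q15142 (flp_a L197643) q10975, e3 q15143 (flp_a L225697) q18728, e3 q15144 L225731 q18731, e3 q15145 L197659 q10977, e3 q15146 L197667 q15086, e3 q15147 (flp_a L225759) q18735, e3 q15148 (flp_a L197695) q15150, e3 q15149 L225785 q18739, e3 q15150 L197695 q15148, e3 q15151 (flp_a L210659) q16898, e3 q15152 (flp_a L221205) q18202, e3 q15153 L197717 q10985, e3 q15154 (flp_a L223587) q18470, e3 q15155 (flp_a L219454) q17964, e3 q15156 L197737 q11205, e3 q15157 L225821 q18745, e3 q15158 L197751 q10989, e3 q15159 (flp_a L198153) q15234, e3 q15160 (flp_a L225847) q18749, e3 q15161 (flp_a L197829) q15177, e3 q15162 L225877 q18755, e3 q15163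 L225881 q18757, e3 q15164 L197777 q14417, e3 q15165 (flp_a L197785) q10993, e3 q15166 (flp_a L204372) q16161, e3 q15167 (flp_a L219640) q17991, trivial⟩ (by decide +kernel)

theorem ce_a_237 : ∀ r, r < 64 → sm ga (Qf (15168 + r)) = Qf (tab Gen.a (15168 + r)) :=
  edges_tab (sm ga) Qf (tab Gen.a) 15168 [(15168, 18761), (15169, 10997), (15170, 10998), (15171, 18770), (15172, 17254), (15173, 15255), (15174, 15256), (15175, 18768), (15176, 18780), (15177, 15161), (15178, 10999), (15179, 15096), (15180, 18786), (15181, 14415), (15182, 18789), (15183, 15184), (15184, 15183), (15185, 16888), (15186, 18227), (15187, 11009), (15188, 18498), (15189, 17959), (15190, 11137), (15191, 18796), (15192, 11013), (15193, 15287), (15194, 18800), (15195, 15211), (15196, 18806), (15197, 18808), (15198, 14395), (15199, 11017), (15200, 16176), (15201, 18812), (15202, 17999), (15203, 11021), (15204, 11022), (15205, 18821), (15206, 17330), (15207, 15308), (15208, 15309), (15209, 18819), (15210, 18831), (15211, 15195), (15212, 11023), (15213,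 15106), (15214, 18837), (15215, 14437), (15216, 15629), (15217, 16930), (15218, 16963), (15219, 16578), (15220, 16571), (15221, 18704), (15222, 16577), (15223, 15316), (15224, 15314), (15225, 15317), (15226, 15230), (15227, 15699), (15228, 16567), (15229, 16568), (15230, 15226), (15231, 11043)]
    ⟨e3 q15168 (flp_a L225913) q18761, e3 q15169 L197797 q10997, e3 q15170 L197801 q10998, e3 q15171 L225959 q18770, e3 q15172 (flp_a L214068) q17254, e3 q15173 (flp_a L198312) q15255, e3 q15174 (flp_a L198318) q15256, e3 q15175 (flp_a L225947) q18768, e3 q15176 L226005 q18780, e3 q15177 L197829 q15161, e3 q15178 (flp_a L197835) q10999, e3 q15179 L197843 q15096, e3 q15180 L226035 q18786, e3 q15181 L197853 q14415, e3 q15182 L226053 q18789, e3 q15183 (flp_a L197875) q15184, e3 q15184 L197875 q15183, e3 q15185 (flp_a L210583) q16888, e3 q15186 (flp_a L221374) q18227, e3 q15187 L197897 q11009, e3 q15188 (flp_a L223869) q18498, e3 q15189 (flp_a L219422) q17959, e3 q15190 L197917 q11137, e3 q15191 L226093 q18796, e3 q15192 L197931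 q11013, e3 q15193 (flp_a L198518) q15287, e3 q15194 (flp_a L226119) q18800, e3 q15195 (flp_a L198009) q15211, e3 q15196 L226149 q18806, e3 q15197 L226153 q18808, e3 q15198 L197957 q14395, e3 q15199 (flp_a L197965) q11017, e3 q15200 (flp_a L204459) q16176, e3 q15201 (flp_a L226185) q18812, e3 q15202 L220032 q17999, e3 q15203 L197977 q11021, e3 q15204 L197981 q11022, e3 q15205 L226231 q18821, e3 q15206 (flp_a L214389) q17330, e3 q15207 (flp_a L198683) q15308, e3 q15208 (flp_a L198689) q15309, e3 q15209 (flp_a L226219) q18819, e3 q15210 L226291 q18831, e3 q15211 L198009 q15195, e3 q15212 (flp_a L198015) q11023, e3 q15213 L198023 q15106, e3 q15214 L226321 q18837, e3 q15215 L198033 q14437, e3 q15216 (flp_a L200695) q15629, e3 q15217 (flp_a L210899) q16930, e3 q15218 (flp_a L211131) q16963, e3 q15219 (flp_a L207890) q16578, e3 q15220 (flp_a L207822) q16571, e3 q15221 (flp_a L225489) q18704, e3 q15222 (flp_a L207878) q16577, e3 q15223 (flp_a L198738) q15316, e3 q15224 L198724 q15314, e3 q15225 (flp_a L198743) q15317, e3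 q15226 (flp_a L198125) q15230, e3 q15227 (flp_a L201221) q15699, e3 q15228 (flp_a L207786) q16567, e3 q15229 (flp_a L207790) q16568, e3 q15230 L198125 q15226, e3 q15231 L198135 q11043, trivial⟩ (by decide +kernel)

theorem ce_a_238 : ∀ r, r < 64 → sm ga (Qf (15232 + r)) = Qf (tab Gen.a (15232 + r)) :=
  edges_tab (sm ga) Qf (tab Gen.a) 15232 [(15232, 11044), (15233, 17378), (15234, 15159), (15235, 18856), (15236, 15260), (15237, 15262), (15238, 18863), (15239, 11046), (15240, 15240), (15241, 11048), (15242, 11050), (15243, 13242), (15244, 16167), (15245, 17672), (15246, 18865), (15247, 15266), (15248, 17351), (15249, 11056), (15250, 11057), (15251, 11058), (15252, 18876), (15253, 11054), (15254, 18879), (15255, 15173), (15256, 15174), (15257, 12714), (15258, 18873), (15259, 18885), (15260, 15236), (15261, 15277), (15262, 15237), (15263, 15276), (15264, 15278), (15265, 18893), (15266, 15247), (15267, 11062), (15268, 18895), (15269, 15863), (15270, 16918), (15271, 16948), (15272, 16543), (15273, 16536), (15274, 18711),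 (15275, 16542), (15276, 15263), (15277, 15261), (15278, 15264), (15279, 15282), (15280, 15928), (15281, 16532), (15282, 15279), (15283, 16533), (15284, 11081), (15285, 11082), (15286, 17350), (15287, 15193), (15288, 18911), (15289, 15313), (15290, 15315), (15291, 18918), (15292, 11084), (15293, 15293), (15294, 11086), (15295, 11087)]
    ⟨e3 q15232 L198143 q11044, e3 q15233 L222775 q17378, e3 q15234 L198153 q15159, e3 q15235 (flp_a L226443) q18856, e3 q15236 (flp_a L198340) q15260, e3 q15237 (flp_a L198355) q15262, e3 q15238 L226491 q18863, e3 q15239 (flp_a L198179) q11046, e3 q15240 L198189 q15240, e3 q15241 L198194 q11048, e3 q15242 L198202 q11050, e3 q15243 L198214 q13242, e3 q15244 L204410 q16167, e3 q15245 (flp_a L216869) q17672, e3 q15246 (flp_a L226501) q18865, e3 q15247 L198380 q15266, e3 q15248 (flp_a L214064) q17351, e3 q15249 L198246 q11056, e3 q15250 L198254 q11057, e3 q15251 L198264 q11058, e3 q15252 L226585 q18876, e3 q15253 (flp_a L198276) q11054, e3 q15254 (flp_a L226621) q18879, e3 q15255 L198312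 q15173, e3 q15256 L198318 q15174, e3 q15257 L198326 q12714, e3 q15258 (flp_a L226565) q18873, e3 q15259 L226665 q18885, e3 q15260 L198340 q15236, e3 q15261 (flp_a L198451) q15277, e3 q15262 L198355 q15237, e3 q15263 (flp_a L198446) q15276, e3 q15264 (flp_a L198460) q15278, e3 q15265 L226711 q18893, e3 q15266 (flp_a L198380) q15247, e3 q15267 (flp_a L198384) q11062, e3 q15268 (flp_a L226727) q18895, e3 q15269 (flp_a L202336) q15863, e3 q15270 (flp_a L210815) q16918, e3 q15271 (flp_a L211023) q16948, e3 q15272 (flp_a L207605) q16543, e3 q15273 (flp_a L207537) q16536, e3 q15274 (flp_a L225552) q18711, e3 q15275 (flp_a L207593) q16542, e3 q15276 L198446 q15263, e3 q15277 L198451 q15261, e3 q15278 L198460 q15264, e3 q15279 (flp_a L198484) q15282, e3 q15280 (flp_a L202866) q15928, e3 q15281 (flp_a L207501) q16532, e3 q15282 L198484 q15279, e3 q15283 (flp_a L207505) q16533, e3 q15284 L198500 q11081, e3 q15285 L198508 q11082, e3 q15286 L222836 q17350, e3 q15287 L198518 q15193, e3 q15288 (flp_a L226854) q18911, e3 q15289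 (flp_a L198711) q15313, e3 q15290 (flp_a L198728) q15315, e3 q15291 L226902 q18918, e3 q15292 (flp_a L198544) q11084, e3 q15293 L198558 q15293, e3 q15294 L198565 q11086, e3 q15295 L198573 q11087, trivial⟩ (by decide +kernel)

theorem ce_a_239 : ∀ r, r < 64 → sm ga (Qf (15296 + r)) = Qf (tab Gen.a (15296 + r)) :=
  edges_tab (sm ga) Qf (tab Gen.a) 15296 [(15296, 13222), (15297, 16152), (15298, 18920), (15299, 17740), (15300, 15319), (15301, 17379), (15302, 11094), (15303, 11095), (15304, 11096), (15305, 18931), (15306, 11092), (15307, 18934), (15308, 15207), (15309, 15208), (15310, 12685), (15311, 18928), (15312, 18940), (15313, 15289), (15314, 15224), (15315, 15290), (15316, 15223), (15317, 15225), (15318, 18947), (15319, 15300), (15320, 11100), (15321, 18949), (15322, 14266), (15323, 11104), (15324, 18952), (15325, 14276), (15326, 11187), (15327, 18958), (15328, 18205), (15329, 11110), (15330, 18961), (15331, 11112), (15332, 11113), (15333, 18964), (15334, 18965), (15335, 11117), (15336, 11118), (15337, 15594),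 (15338, 18970), (15339, 18971), (15340, 18977), (15341, 11121), (15342, 15344), (15343, 12552), (15344, 15342), (15345, 12941), (15346, 11123), (15347, 18981), (15348, 12873), (15349, 18198), (15350, 18199), (15351, 18200), (15352, 18201), (15353, 15358), (15354, 15522), (15355, 15520), (15356, 15523), (15357, 15371), (15358, 15353), (15359, 11132)]
    ⟨e3 q15296 L198585 q13222, e3 q15297 L204329 q16152, e3 q15298 (flp_a L226912) q18920, e3 q15299 (flp_a L217432) q17740, e3 q15300 (flp_a L198761) q15319, e3 q15301 (flp_a L214385) q17379, e3 q15302 L198617 q11094, e3 q15303 L198625 q11095, e3 q15304 L198635 q11096, e3 q15305 L227014 q18931, e3 q15306 (flp_a L198647) q11092, e3 q15307 (flp_a L227046) q18934, e3 q15308 L198683 q15207, e3 q15309 L198689 q15208, e3 q15310 L198697 q12685, e3 q15311 (flp_a L226976) q18928, e3 q15312 L227090 q18940, e3 q15313 L198711 q15289, e3 q15314 (flp_a L198724) q15224, e3 q15315 L198728 q15290, e3 q15316 L198738 q15223, e3 q15317 L198743 q15225, e3 q15318 L227143 q18947, e3 q15319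 L198761 q15300, e3 q15320 (flp_a L198763) q11100, e3 q15321 (flp_a L227159) q18949, e3 q15322 L198777 q14266, e3 q15323 L198787 q11104, e3 q15324 (flp_a L227186) q18952, e3 q15325 L198801 q14276, e3 q15326 L198809 q11187, e3 q15327 L227218 q18958, e3 q15328 (flp_a L221221) q18205, e3 q15329 (flp_a L198829) q11110, e3 q15330 (flp_a L227248) q18961, e3 q15331 L198837 q11112, e3 q15332 L198841 q11113, e3 q15333 (flp_a L227260) q18964, e3 q15334 (flp_a L227264) q18965, e3 q15335 L198857 q11117, e3 q15336 L198861 q11118, e3 q15337 (flp_a L200405) q15594, e3 q15338 (flp_a L227294) q18970, e3 q15339 (flp_a L227298) q18971, e3 q15340 L227338 q18977, e3 q15341 L198883 q11121, e3 q15342 (flp_a L198911) q15344, e3 q15343 (flp_a L198907) q12552, e3 q15344 L198911 q15342, e3 q15345 (flp_a L198928) q12941, e3 q15346 (flp_a L198930) q11123, e3 q15347 (flp_a L227373) q18981, e3 q15348 L198946 q12873, e3 q15349 (flp_a L221169) q18198, e3 q15350 (flp_a L221176) q18199, e3 q15351 (flp_a L221186) q18200, e3 q15352 (flp_a L221191) q18201,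 e3 q15353 (flp_a L198994) q15358, e3 q15354 (flp_a L199922) q15522, e3 q15355 L199908 q15520, e3 q15356 (flp_a L199927) q15523, e3 q15357 (flp_a L199309) q15371, e3 q15358 L198994 q15353, e3 q15359 L199000 q11132, trivial⟩ (by decide +kernel)

theorem ce_a_240 : ∀ r, r < 64 → sm ga (Qf (15360 + r)) = Qf (tab Gen.a (15360 + r)) :=
  edges_tab (sm ga) Qf (tab Gen.a) 15360 [(15360, 11133), (15361, 18276), (15362, 18996), (15363, 11135), (15364, 19001), (15365, 19000), (15366, 14202), (15367, 18795), (15368, 11138), (15369, 19010), (15370, 19011), (15371, 15357), (15372, 11141), (15373, 15893), (15374, 15662), (15375, 15416), (15376, 15418), (15377, 19022), (15378, 11143), (15379, 19025), (15380, 11145), (15381, 19028), (15382, 15390), (15383, 18810), (15384, 11149), (15385, 11150), (15386, 15683), (15387, 16711), (15388, 19033), (15389, 19037), (15390, 15382), (15391, 18645), (15392, 15392), (15393, 11155), (15394, 11156), (15395, 11157), (15396, 19040), (15397, 19041), (15398, 19042), (15399, 19043), (15400, 15422),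 (15401, 15402), (15402, 15401), (15403, 11165), (15404, 19057), (15405, 11160), (15406, 19060), (15407, 19061), (15408, 18644), (15409, 11162), (15410, 19067), (15411, 19068), (15412, 15515), (15413, 15756), (15414, 15757), (15415, 19077), (15416, 15375), (15417, 15459), (15418, 15376), (15419, 15458), (15420, 15460), (15421, 19084), (15422, 15400), (15423, 11169)]
    ⟨e3 q15360 L199006 q11133, e3 q15361 L222222 q18276, e3 q15362 (flp_a L227536) q18996, e3 q15363 L199030 q11135, e3 q15364 L227570 q19001, e3 q15365 (flp_a L227564) q19000, e3 q15366 L199046 q14202, e3 q15367 (flp_a L226085) q18795, e3 q15368 (flp_a L199058) q11138, e3 q15369 (flp_a L227628) q19010, e3 q15370 (flp_a L227634) q19011, e3 q15371 L199309 q15357, e3 q15372 L199072 q11141, e3 q15373 (flp_a L223805) q15893, e3 q15374 (flp_a L200924) q15662, e3 q15375 (flp_a L199259) q15416, e3 q15376 (flp_a L199274) q15418, e3 q15377 L227698 q19022, e3 q15378 (flp_a L199100) q11143, e3 q15379 (flp_a L227710) q19025, e3 q15380 L199110 q11145, e3 q15381 (flp_a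 L227730) q19028, e3 q15382 (flp_a L199154) q15390, e3 q15383 (flp_a L226171) q18810, e3 q15384 L199128 q11149, e3 q15385 L199132 q11150, e3 q15386 (flp_a L201095) q15683, e3 q15387 (flp_a L209075) q16711, e3 q15388 (flp_a L227772) q19033, e3 q15389 L227798 q19037, e3 q15390 L199154 q15382, e3 q15391 (flp_a L225131) q18645, e3 q15392 L199168 q15392, e3 q15393 L199171 q11155, e3 q15394 L199175 q11156, e3 q15395 L199179 q11157, e3 q15396 (flp_a L227815) q19040, e3 q15397 (flp_a L227823) q19041, e3 q15398 (flp_a L227827) q19042, e3 q15399 (flp_a L227833) q19043, e3 q15400 (flp_a L199299) q15422, e3 q15401 (flp_a L199205) q15402, e3 q15402 L199205 q15401, e3 q15403 L199211 q11165, e3 q15404 L227909 q19057, e3 q15405 (flp_a L199221) q11160, e3 q15406 (flp_a L227939) q19060, e3 q15407 (flp_a L227943) q19061, e3 q15408 (flp_a L225123) q18644, e3 q15409 (flp_a L199233) q11162, e3 q15410 (flp_a L227977) q19067, e3 q15411 (flp_a L227982) q19068, e3 q15412 L230875 q15515, e3 q15413 (flp_a L201568) q15756, e3 q15414 (flp_a L201574)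 q15757, e3 q15415 L228044 q19077, e3 q15416 L199259 q15375, e3 q15417 (flp_a L199537) q15459, e3 q15418 L199274 q15376, e3 q15419 (flp_a L199532) q15458, e3 q15420 (flp_a L199546) q15460, e3 q15421 L228083 q19084, e3 q15422 L199299 q15400, e3 q15423 (flp_a L199313) q11169, trivial⟩ (by decide +kernel)

theorem ce_a_241 : ∀ r, r < 64 → sm ga (Qf (15424 + r)) = Qf (tab Gen.a (15424 + r)) :=
  edges_tab (sm ga) Qf (tab Gen.a) 15424 [(15424, 19087), (15425, 11171), (15426, 12871), (15427, 18233), (15428, 11174), (15429, 19092), (15430, 14256), (15431, 14247), (15432, 18230), (15433, 19099), (15434, 11180), (15435, 19101), (15436, 11182), (15437, 11183), (15438, 19104), (15439, 19105), (15440, 11186), (15441, 15832), (15442, 19110), (15443, 18957), (15444, 19116), (15445, 11190), (15446, 15448), (15447, 12549), (15448, 15446), (15449, 12925), (15450, 11192), (15451, 19120), (15452, 12885), (15453, 18223), (15454, 18224), (15455, 18225), (15456, 18226), (15457, 15462), (15458, 15419), (15459, 15417), (15460, 15420), (15461,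 15474), (15462, 15457), (15463, 11201), (15464, 11202), (15465, 18333), (15466, 19135), (15467, 11204), (15468, 19140), (15469, 19139), (15470, 18744), (15471, 14206), (15472, 11207), (15473, 19149), (15474, 15461), (15475, 19150), (15476, 11210), (15477, 15663), (15478, 15892), (15479, 15519), (15480, 15521), (15481, 19159), (15482, 11212), (15483, 19162), (15484, 11214), (15485, 19165), (15486, 15494), (15487, 18758)]
    ⟨e3 q15424 (flp_a L228105) q19087, e3 q15425 L199323 q11171, e3 q15426 L199331 q12871, e3 q15427 (flp_a L221414) q18233, e3 q15428 L199345 q11174, e3 q15429 (flp_a L228134) q19092, e3 q15430 L199359 q14256, e3 q15431 L199369 q14247, e3 q15432 (flp_a L221390) q18230, e3 q15433 L228174 q19099, e3 q15434 (flp_a L199391) q11180, e3 q15435 (flp_a L228200) q19101, e3 q15436 L199399 q11182, e3 q15437 L199403 q11183, e3 q15438 (flp_a L228212) q19104, e3 q15439 (flp_a L228216) q19105, e3 q15440 L199419 q11186, e3 q15441 (flp_a L202082) q15832, e3 q15442 (flp_a L228246) q19110, e3 q15443 (flp_a L227212)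 q18957, e3 q15444 L228280 q19116, e3 q15445 L199435 q11190, e3 q15446 (flp_a L199463) q15448, e3 q15447 (flp_a L199459) q12549, e3 q15448 L199463 q15446, e3 q15449 L199480 q12925, e3 q15450 (flp_a L199482) q11192, e3 q15451 (flp_a L228313) q19120, e3 q15452 L199498 q12885, e3 q15453 (flp_a L221338) q18223, e3 q15454 (flp_a L221345) q18224, e3 q15455 (flp_a L221355) q18225, e3 q15456 (flp_a L221360) q18226, e3 q15457 (flp_a L199560) q15462, e3 q15458 L199532 q15419, e3 q15459 L199537 q15417, e3 q15460 L199546 q15420, e3 q15461 (flp_a L199642) q15474, e3 q15462 L199560 q15457, e3 q15463 L199566 q11201, e3 q15464 L199572 q11202, e3 q15465 (flp_a L227417) q18333, e3 q15466 (flp_a L228451) q19135, e3 q15467 L199596 q11204, e3 q15468 L228485 q19140, e3 q15469 (flp_a L228479) q19139, e3 q15470 (flp_a L225813) q18744, e3 q15471 L199620 q14206, e3 q15472 (flp_a L199628) q11207, e3 q15473 (flp_a L228551) q19149, e3 q15474 L199642 q15461, e3 q15475 (flp_a L228559) q19150, e3 q15476 L199656 q11210, e3 q15477 L223835 q15663,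 e3 q15478 (flp_a L202571) q15892, e3 q15479 (flp_a L199893) q15519, e3 q15480 (flp_a L199912) q15521, e3 q15481 L228613 q19159, e3 q15482 (flp_a L199688) q11212, e3 q15483 (flp_a L228627) q19162, e3 q15484 L199702 q11214, e3 q15485 (flp_a L228649) q19165, e3 q15486 (flp_a L199750) q15494, e3 q15487 (flp_a L225893) q18758, trivial⟩ (by decide +kernel)

theorem ce_a_242 : ∀ r, r < 64 → sm ga (Qf (15488 + r)) = Qf (tab Gen.a (15488 + r)) :=
  edges_tab (sm ga) Qf (tab Gen.a) 15488 [(15488, 11218), (15489, 11219), (15490, 15913), (15491, 16702), (15492, 19170), (15493, 19174), (15494, 15486), (15495, 18630), (15496, 15496), (15497, 11224), (15498, 11225), (15499, 11226), (15500, 19177), (15501, 19178), (15502, 19179), (15503, 19180), (15504, 15506), (15505, 15525), (15506, 15504), (15507, 11234), (15508, 19194), (15509, 11229), (15510, 19197), (15511, 19198), (15512, 18629), (15513, 11231), (15514, 19204), (15515, 15412), (15516, 15981), (15517, 15982), (15518, 19211), (15519, 15479), (15520, 15355), (15521, 15480),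 (15522, 15354), (15523, 15356), (15524, 19218), (15525, 15505), (15526, 11238), (15527, 19221), (15528, 11240), (15529, 12883), (15530, 18208), (15531, 14195), (15532, 19225), (15533, 13106), (15534, 11244), (15535, 19228), (15536, 15551), (15537, 19230), (15538, 19232), (15539, 11248), (15540, 15935), (15541, 19235), (15542, 15652), (15543, 11250), (15544, 13366), (15545, 17437), (15546, 14565), (15547, 11252), (15548, 11253), (15549, 19241), (15550, 15932), (15551, 15536)]
    ⟨e3 q15488 L199724 q11218, e3 q15489 L199728 q11219, e3 q15490 (flp_a L202742) q15913, e3 q15491 (flp_a L209003) q16702, e3 q15492 (flp_a L228695) q19170, e3 q15493 L228721 q19174, e3 q15494 L199750 q15486, e3 q15495 (flp_a L225023) q18630, e3 q15496 L199770 q15496, e3 q15497 L199773 q11224, e3 q15498 L199777 q11225, e3 q15499 L199787 q11226, e3 q15500 (flp_a L228742) q19177, e3 q15501 (flp_a L228750) q19178, e3 q15502 (flp_a L228756) q19179, e3 q15503 (flp_a L228766) q19180, e3 q15504 (flp_a L199825) q15506, e3 q15505 (flp_a L199945) q15525,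 e3 q15506 L199825 q15504, e3 q15507 L199833 q11234, e3 q15508 L228858 q19194, e3 q15509 (flp_a L199845) q11229, e3 q15510 (flp_a L228890) q19197, e3 q15511 (flp_a L228896) q19198, e3 q15512 (flp_a L225015) q18629, e3 q15513 (flp_a L199867) q11231, e3 q15514 (flp_a L228938) q19204, e3 q15515 (flp_a L230875) q15412, e3 q15516 (flp_a L203205) q15981, e3 q15517 (flp_a L203211) q15982, e3 q15518 L229003 q19211, e3 q15519 L199893 q15479, e3 q15520 (flp_a L199908) q15355, e3 q15521 L199912 q15480, e3 q15522 L199922 q15354, e3 q15523 L199927 q15356, e3 q15524 L229052 q19218, e3 q15525 L199945 q15505, e3 q15526 (flp_a L199947) q11238, e3 q15527 (flp_a L229078) q19221, e3 q15528 L199961 q11240, e3 q15529 L199971 q12883, e3 q15530 (flp_a L221245) q18208, e3 q15531 L199987 q14195, e3 q15532 L229104 q19225, e3 q15533 L200003 q13106, e3 q15534 (flp_a L200015) q11244, e3 q15535 (flp_a L229132) q19228, e3 q15536 (flp_a L200133) q15551, e3 q15537 L229150 q19230, e3 q15538 L229162 q19232, e3 q15539 (flp_a L200055) q11248, e3 q15540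 L211901 q15935, e3 q15541 (flp_a L229188) q19235, e3 q15542 (flp_a L200874) q15652, e3 q15543 (flp_a L200071) q11250, e3 q15544 L200081 q13366, e3 q15545 (flp_a L214900) q17437, e3 q15546 (flp_a L200101) q14565, e3 q15547 L200107 q11252, e3 q15548 L200113 q11253, e3 q15549 (flp_a L229244) q19241, e3 q15550 (flp_a L202913) q15932, e3 q15551 L200133 q15536, trivial⟩ (by decide +kernel)

theorem ce_a_243 : ∀ r, r < 64 → sm ga (Qf (15552 + r)) = Qf (tab Gen.a (15552 + r)) :=
  edges_tab (sm ga) Qf (tab Gen.a) 15552 [(15552, 15641), (15553, 15654), (15554, 14345), (15555, 11257), (15556, 19246), (15557, 19247), (15558, 14383), (15559, 19254), (15560, 11446), (15561, 11260), (15562, 19257), (15563, 11275), (15564, 19260), (15565, 15618), (15566, 11263), (15567, 19262), (15568, 14371), (15569, 11314), (15570, 11267), (15571, 19265), (15572, 11271), (15573, 12608), (15574, 16770), (15575, 11273), (15576, 11274), (15577, 19268), (15578, 16506), (15579, 15109), (15580, 19259), (15581, 19243), (15582, 11278), (15583, 11279),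 (15584, 19274), (15585, 19275), (15586, 19276), (15587, 17955), (15588, 15930), (15589, 11285), (15590, 11286), (15591, 11287), (15592, 15876), (15593, 19288), (15594, 15337), (15595, 19284), (15596, 19285), (15597, 19286), (15598, 19298), (15599, 11288), (15600, 12289), (15601, 11294), (15602, 11295), (15603, 14648), (15604, 14649), (15605, 16914), (15606, 15608), (15607, 16926), (15608, 15606), (15609, 15843), (15610, 16925), (15611, 16911), (15612, 19302), (15613, 19304), (15614, 11305), (15615, 12297)]
    ⟨e3 q15552 (flp_a L200805) q15641, e3 q15553 (flp_a L200886) q15654, e3 q15554 L200157 q14345, e3 q15555 L200163 q11257, e3 q15556 (flp_a L229284) q19246, e3 q15557 (flp_a L229294) q19247, e3 q15558 L200181 q14383, e3 q15559 L229358 q19254, e3 q15560 L200191 q11446, e3 q15561 (flp_a L200195) q11260, e3 q15562 (flp_a L229384) q19257, e3 q15563 L200213 q11275, e3 q15564 L229416 q19260, e3 q15565 (flp_a L200605) q15618, e3 q15566 (flp_a L200233) q11263, e3 q15567 (flp_a L229442) q19262, e3 q15568 L200245 q14371,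 e3 q15569 L200257 q11314, e3 q15570 L200263 q11267, e3 q15571 (flp_a L229464) q19265, e3 q15572 (flp_a L200277) q11271, e3 q15573 L200287 q12608, e3 q15574 (flp_a L209589) q16770, e3 q15575 L200301 q11273, e3 q15576 L200305 q11274, e3 q15577 (flp_a L229498) q19268, e3 q15578 (flp_a L207283) q16506, e3 q15579 L200323 q15109, e3 q15580 (flp_a L229404) q19259, e3 q15581 (flp_a L229268) q19243, e3 q15582 L200343 q11278, e3 q15583 L200347 q11279, e3 q15584 (flp_a L229538) q19274, e3 q15585 (flp_a L229544) q19275, e3 q15586 (flp_a L229552) q19276, e3 q15587 (flp_a L219394) q17955, e3 q15588 (flp_a L202890) q15930, e3 q15589 L200377 q11285, e3 q15590 L200383 q11286, e3 q15591 L200389 q11287, e3 q15592 (flp_a L202452) q15876, e3 q15593 L229660 q19288, e3 q15594 L200405 q15337, e3 q15595 (flp_a L229632) q19284, e3 q15596 (flp_a L229638) q19285, e3 q15597 (flp_a L229648) q19286, e3 q15598 L229748 q19298, e3 q15599 (flp_a L200427) q11288, e3 q15600 L200441 q12289, e3 q15601 L200451 q11294, e3 q15602 L200461 q11295, e3 q15603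 L200469 q14648, e3 q15604 L200481 q14649, e3 q15605 (flp_a L210795) q16914, e3 q15606 (flp_a L200517) q15608, e3 q15607 (flp_a L210879) q16926, e3 q15608 L200517 q15606, e3 q15609 (flp_a L202168) q15843, e3 q15610 (flp_a L210873) q16925, e3 q15611 (flp_a L210767) q16911, e3 q15612 L229798 q19302, e3 q15613 L229824 q19304, e3 q15614 (flp_a L200567) q11305, e3 q15615 L200579 q12297, trivial⟩ (by decide +kernel)

theorem ce_a_244 : ∀ r, r < 64 → sm ga (Qf (15616 + r)) = Qf (tab Gen.a (15616 + r)) :=
  edges_tab (sm ga) Qf (tab Gen.a) 15616 [(15616, 11306), (15617, 19305), (15618, 15565), (15619, 19261), (15620, 11307), (15621, 19309), (15622, 11309), (15623, 11310), (15624, 19311), (15625, 12295), (15626, 15119), (15627, 11312), (15628, 19316), (15629, 15216), (15630, 11316), (15631, 17469), (15632, 11320), (15633, 17466), (15634, 16949), (15635, 13836), (15636, 14535), (15637, 11571), (15638, 11324), (15639, 11323), (15640, 19322), (15641, 15552), (15642, 17789), (15643, 19320), (15644, 19321), (15645, 14207), (15646,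 17750), (15647, 15647), (15648, 11328), (15649, 11330), (15650, 19333), (15651, 19334), (15652, 15542), (15653, 19335), (15654, 15553), (15655, 11494), (15656, 11335), (15657, 11333), (15658, 19341), (15659, 19342), (15660, 19343), (15661, 19344), (15662, 15374), (15663, 15477), (15664, 15762), (15665, 19358), (15666, 19361), (15667, 11338), (15668, 19365), (15669, 19366), (15670, 17398), (15671, 11340), (15672, 11341), (15673, 14899), (15674, 14893), (15675, 14665), (15676, 11343), (15677, 15687), (15678, 14528), (15679, 11347)]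
    ⟨e3 q15616 (flp_a L200591) q11306, e3 q15617 (flp_a L229840) q19305, e3 q15618 L200605 q15565, e3 q15619 (flp_a L229438) q19261, e3 q15620 (flp_a L200617) q11307, e3 q15621 (flp_a L229884) q19309, e3 q15622 L200633 q11309, e3 q15623 L200643 q11310, e3 q15624 (flp_a L229900) q19311, e3 q15625 L200659 q12295, e3 q15626 L200669 q15119, e3 q15627 L200677 q11312, e3 q15628 (flp_a L229956) q19316, e3 q15629 L200695 q15216, e3 q15630 L200705 q11316, e3 q15631 (flp_a L215215) q17469, e3 q15632 L200723 q11320, e3 q15633 (flp_a L215181) q17466, e3 q15634 (flp_a L211033) q16949, e3 q15635 (flp_a L200759) q13836, e3 q15636 L200763 q14535, e3 q15637 L200783 q11571, e3 q15638 L200787 q11324, e3 q15639 (flp_a L200791) q11323, e3 q15640 (flp_a L230014) q19322, e3 q15641 L200805 q15552, e3 q15642 L217805 q17789, e3 q15643 (flp_a L229992) q19320, e3 q15644 (flp_a L230002) q19321, e3 q15645 L200827 q14207, e3 q15646 L217540 q17750, e3 q15647 L200849 q15647, e3 q15648 L200852 q11328, e3 q15649 L200860 q11330, e3 q15650 (flp_a L230098)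 q19333, e3 q15651 (flp_a L230110) q19334, e3 q15652 L200874 q15542, e3 q15653 (flp_a L230122) q19335, e3 q15654 L200886 q15553, e3 q15655 L223795 q11494, e3 q15656 L200898 q11335, e3 q15657 (flp_a L200904) q11333, e3 q15658 (flp_a L230188) q19341, e3 q15659 (flp_a L230192) q19342, e3 q15660 (flp_a L230196) q19343, e3 q15661 (flp_a L230200) q19344, e3 q15662 L200924 q15374, e3 q15663 (flp_a L223835) q15477, e3 q15664 (flp_a L201596) q15762, e3 q15665 L230282 q19358, e3 q15666 L230292 q19361, e3 q15667 (flp_a L200948) q11338, e3 q15668 (flp_a L230326) q19365, e3 q15669 (flp_a L230336) q19366, e3 q15670 (flp_a L214517) q17398, e3 q15671 L200968 q11340, e3 q15672 L200978 q11341, e3 q15673 L200988 q14899, e3 q15674 L200998 q14893, e3 q15675 L201010 q14665, e3 q15676 L201020 q11343, e3 q15677 (flp_a L201123) q15687, e3 q15678 (flp_a L201044) q14528, e3 q15679 L201048 q11347, trivial⟩ (by decide +kernel)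

theorem ce_a_245 : ∀ r, r < 64 → sm ga (Qf (15680 + r)) = Qf (tab Gen.a (15680 + r)) :=
  edges_tab (sm ga) Qf (tab Gen.a) 15680 [(15680, 11348), (15681, 11349), (15682, 15682), (15683, 15386), (15684, 19371), (15685, 17506), (15686, 17369), (15687, 15677), (15688, 17552), (15689, 19378), (15690, 11624), (15691, 11625), (15692, 11626), (15693, 11361), (15694, 11362), (15695, 13858), (15696, 13653), (15697, 11357), (15698, 11359), (15699, 15227), (15700, 15828), (15701, 19385), (15702, 15789), (15703, 12135), (15704, 15704), (15705, 11521), (15706, 15781), (15707, 15707), (15708, 11363), (15709, 15790), (15710, 19391), (15711, 16118), (15712, 11587), (15713, 11589), (15714, 11371), (15715, 11372), (15716, 11373), (15717, 13257), (15718, 19400), (15719, 17347), (15720, 17348), (15721, 17349), (15722, 19397), (15723, 19398), (15724, 16816), (15725, 15726), (15726, 15725), (15727, 15738), (15728, 11377), (15729, 19415), (15730, 19416), (15731, 15956), (15732, 11392), (15733, 11393), (15734, 17812), (15735, 16824),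 (15736, 16826), (15737, 16868), (15738, 15727), (15739, 18656), (15740, 18657), (15741, 19426), (15742, 11386), (15743, 11387)]
    ⟨e3 q15680 L201066 q11348, e3 q15681 L201078 q11349, e3 q15682 L201092 q15682, e3 q15683 L201095 q15386, e3 q15684 (flp_a L230372) q19371, e3 q15685 (flp_a L215570) q17506, e3 q15686 (flp_a L214141) q17369, e3 q15687 L201123 q15677, e3 q15688 (flp_a L215977) q17552, e3 q15689 L230440 q19378, e3 q15690 L201141 q11624, e3 q15691 L201147 q11625, e3 q15692 L201155 q11626, e3 q15693 L201161 q11361, e3 q15694 L201173 q11362, e3 q15695 (flp_a L201189) q13858, e3 q15696 (flp_a L201197) q13653, e3 q15697 L201201 q11357, e3 q15698 L201211 q11359, e3 q15699 L201221 q15227, e3 q15700 (flp_a L202060) q15828, e3 q15701 (flp_a L230508) q19385, e3 q15702 (flp_a L201788) q15789, e3 q15703 L201253 q12135, e3 q15704 L201267 q15704, e3 q15705 L201270 q11521, e3 q15706 L212545 q15781, e3 q15707 L201289 q15707, e3 q15708 (flp_a L201290) q11363, e3 q15709 (flp_a L201798) q15790, e3 q15710 (flp_a L230568)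 q19391, e3 q15711 L204101 q16118, e3 q15712 L201320 q11587, e3 q15713 L201328 q11589, e3 q15714 L201336 q11371, e3 q15715 L201342 q11372, e3 q15716 L201348 q11373, e3 q15717 (flp_a L201356) q13257, e3 q15718 L230650 q19400, e3 q15719 (flp_a L213885) q17347, e3 q15720 (flp_a L213895) q17348, e3 q15721 (flp_a L213905) q17349, e3 q15722 (flp_a L230626) q19397, e3 q15723 (flp_a L230634) q19398, e3 q15724 (flp_a L209967) q16816, e3 q15725 (flp_a L201400) q15726, e3 q15726 L201400 q15725, e3 q15727 (flp_a L201470) q15738, e3 q15728 (flp_a L201412) q11377, e3 q15729 (flp_a L230747) q19415, e3 q15730 (flp_a L230751) q19416, e3 q15731 (flp_a L230870) q15956, e3 q15732 L201430 q11392, e3 q15733 L201436 q11393, e3 q15734 (flp_a L217970) q17812, e3 q15735 (flp_a L210035) q16824, e3 q15736 (flp_a L210047) q16826, e3 q15737 (flp_a L210409) q16868, e3 q15738 L201470 q15727, e3 q15739 (flp_a L225209) q18656, e3 q15740 (flp_a L225215) q18657, e3 q15741 L231006 q19426, e3 q15742 L201496 q11386, e3 q15743 L201500 q11387, trivial⟩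 (by decide +kernel)

theorem ce_a_246 : ∀ r, r < 64 → sm ga (Qf (15744 + r)) = Qf (tab Gen.a (15744 + r)) :=
  edges_tab (sm ga) Qf (tab Gen.a) 15744 [(15744, 11388), (15745, 11389), (15746, 17790), (15747, 19430), (15748, 19431), (15749, 19432), (15750, 19183), (15751, 19181), (15752, 19433), (15753, 11394), (15754, 15755), (15755, 15754), (15756, 15413), (15757, 15414), (15758, 19130), (15759, 16410), (15760, 19420), (15761, 19444), (15762, 15664), (15763, 19128), (15764, 15989), (15765, 19455), (15766, 11397), (15767, 19458), (15768, 19459), (15769, 11399), (15770, 11400), (15771, 19463), (15772, 14587), (15773, 19370), (15774, 11879), (15775, 14197), (15776, 19465), (15777, 13165), (15778, 11405), (15779, 19467), (15780, 11408), (15781, 15706), (15782, 19469), (15783, 15885), (15784, 19474), (15785, 14615), (15786, 11412), (15787, 11413), (15788, 19477), (15789, 15702), (15790, 15709), (15791, 15886), (15792, 11415), (15793, 13307), (15794, 17462), (15795, 11417), (15796, 19481), (15797, 19482), (15798, 14328),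 (15799, 19488), (15800, 14291), (15801, 11420), (15802, 19490), (15803, 11435), (15804, 19493), (15805, 11422), (15806, 19495), (15807, 15853)]
    ⟨e3 q15744 L201506 q11388, e3 q15745 L201512 q11389, e3 q15746 (flp_a L217809) q17790, e3 q15747 (flp_a L231038) q19430, e3 q15748 (flp_a L231042) q19431, e3 q15749 (flp_a L231048) q19432, e3 q15750 (flp_a L228790) q19183, e3 q15751 (flp_a L228774) q19181, e3 q15752 (flp_a L231054) q19433, e3 q15753 L216913 q11394, e3 q15754 (flp_a L201560) q15755, e3 q15755 L201560 q15754, e3 q15756 L201568 q15413, e3 q15757 L201574 q15414, e3 q15758 (flp_a L228409) q19130, e3 q15759 (flp_a L206436) q16410, e3 q15760 (flp_a L230796) q19420, e3 q15761 (flp_a L231130) q19444, e3 q15762 L201596 q15664, e3 q15763 (flp_a L228391) q19128, e3 q15764 (flp_a L230911) q15989, e3 q15765 L231206 q19455, e3 q15766 (flp_a L201616) q11397, e3 q15767 (flp_a L231230) q19458, e3 q15768 (flp_a L231236) q19459, e3 q15769 L201630 q11399, e3 q15770 L201638 q11400, e3 q15771 (flp_a L231262) q19463, e3 q15772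 L201652 q14587, e3 q15773 (flp_a L230360) q19370, e3 q15774 (flp_a L201680) q11879, e3 q15775 L201684 q14197, e3 q15776 L231282 q19465, e3 q15777 L201702 q13165, e3 q15778 (flp_a L201714) q11405, e3 q15779 L231304 q19467, e3 q15780 (flp_a L201728) q11408, e3 q15781 (flp_a L212545) q15706, e3 q15782 (flp_a L231322) q19469, e3 q15783 (flp_a L202527) q15885, e3 q15784 L231372 q19474, e3 q15785 (flp_a L201758) q14615, e3 q15786 L201764 q11412, e3 q15787 L201772 q11413, e3 q15788 (flp_a L231398) q19477, e3 q15789 L201788 q15702, e3 q15790 L201798 q15709, e3 q15791 (flp_a L202533) q15886, e3 q15792 (flp_a L201816) q11415, e3 q15793 L201826 q13307, e3 q15794 (flp_a L215139) q17462, e3 q15795 L201842 q11417, e3 q15796 (flp_a L231438) q19481, e3 q15797 (flp_a L231448) q19482, e3 q15798 L201860 q14328, e3 q15799 L231508 q19488, e3 q15800 L201874 q14291, e3 q15801 (flp_a L201878) q11420, e3 q15802 (flp_a L231530) q19490, e3 q15803 L201896 q11435, e3 q15804 L231562 q19493, e3 q15805 (flp_a L201912) q11422, e3 q15806 (flp_a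 L231588) q19495, e3 q15807 (flp_a L202254) q15853, trivial⟩ (by decide +kernel)

theorem ce_a_247 : ∀ r, r < 64 → sm ga (Qf (15808 + r)) = Qf (tab Gen.a (15808 + r)) :=
  edges_tab (sm ga) Qf (tab Gen.a) 15808 [(15808, 11472), (15809, 11426), (15810, 19497), (15811, 14316), (15812, 11431), (15813, 12614), (15814, 16775), (15815, 11433), (15816, 11434), (15817, 19501), (15818, 16386), (15819, 15121), (15820, 19492), (15821, 19479), (15822, 11438), (15823, 11439), (15824, 19507), (15825, 19508), (15826, 19509), (15827, 17953), (15828, 15700), (15829, 11444), (15830, 11445), (15831, 19517), (15832, 15441), (15833, 19516), (15834, 19255), (15835, 19256), (15836, 19526), (15837, 11447), (15838, 12231), (15839, 11453), (15840, 11454), (15841, 14677), (15842, 14678), (15843, 15609), (15844, 16913), (15845, 16909), (15846, 19530), (15847, 19532), (15848, 11464), (15849, 12237), (15850, 11465), (15851, 19533), (15852, 19494), (15853, 15807), (15854, 11466), (15855, 19537), (15856, 11468), (15857, 11469), (15858, 19539),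 (15859, 12236), (15860, 15131), (15861, 11471), (15862, 19543), (15863, 15269), (15864, 11475), (15865, 17444), (15866, 11479), (15867, 17441), (15868, 16964), (15869, 13885), (15870, 14486), (15871, 11623)]
    ⟨e3 q15808 L201932 q11472, e3 q15809 L201938 q11426, e3 q15810 (flp_a L231602) q19497, e3 q15811 L201954 q14316, e3 q15812 (flp_a L201960) q11431, e3 q15813 (flp_a L201994) q12614, e3 q15814 (flp_a L209647) q16775, e3 q15815 L201980 q11433, e3 q15816 L201984 q11434, e3 q15817 (flp_a L231644) q19501, e3 q15818 (flp_a L206238) q16386, e3 q15819 L202006 q15121, e3 q15820 (flp_a L231550) q19492, e3 q15821 (flp_a L231424) q19479, e3 q15822 L202026 q11438, e3 q15823 L202030 q11439, e3 q15824 (flp_a L231686) q19507, e3 q15825 (flp_a L231692) q19508, e3 q15826 (flp_a L231700) q19509, e3 q15827 (flp_a L219374) q17953, e3 q15828 L202060 q15700, e3 q15829 L202068 q11444, e3 q15830 L202074 q11445, e3 q15831 L231774 q19517, e3 q15832 L202082 q15441, e3 q15833 (flp_a L231770) q19516, e3 q15834 (flp_a L229368) q19255,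 e3 q15835 (flp_a L229376) q19256, e3 q15836 L231850 q19526, e3 q15837 (flp_a L202104) q11447, e3 q15838 L202118 q12231, e3 q15839 L202128 q11453, e3 q15840 L202136 q11454, e3 q15841 L202148 q14677, e3 q15842 L202156 q14678, e3 q15843 L202168 q15609, e3 q15844 (flp_a L210789) q16913, e3 q15845 (flp_a L210751) q16909, e3 q15846 L231888 q19530, e3 q15847 L231914 q19532, e3 q15848 (flp_a L202208) q11464, e3 q15849 L202220 q12237, e3 q15850 (flp_a L202232) q11465, e3 q15851 (flp_a L231930) q19533, e3 q15852 (flp_a L231584) q19494, e3 q15853 L202254 q15807, e3 q15854 (flp_a L202258) q11466, e3 q15855 (flp_a L231974) q19537, e3 q15856 L202274 q11468, e3 q15857 L202284 q11469, e3 q15858 (flp_a L231990) q19539, e3 q15859 L202300 q12236, e3 q15860 L202310 q15131, e3 q15861 L202318 q11471, e3 q15862 (flp_a L232034) q19543, e3 q15863 L202336 q15269, e3 q15864 L202346 q11475, e3 q15865 (flp_a L214976) q17444, e3 q15866 L202364 q11479, e3 q15867 (flp_a L214942) q17441, e3 q15868 (flp_a L211141) q16964, e3 q15869 (flp_a L202400)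 q13885, e3 q15870 L202404 q14486, e3 q15871 L202424 q11623, trivial⟩ (by decide +kernel)

theorem ce_a_248 : ∀ r, r < 64 → sm ga (Qf (15872 + r)) = Qf (tab Gen.a (15872 + r)) :=
  edges_tab (sm ga) Qf (tab Gen.a) 15872 [(15872, 11483), (15873, 11482), (15874, 19548), (15875, 17771), (15876, 15592), (15877, 19547), (15878, 19387), (15879, 17682), (15880, 14208), (15881, 15881), (15882, 11487), (15883, 11488), (15884, 19559), (15885, 15783), (15886, 15791), (15887, 11492), (15888, 19561), (15889, 19562), (15890, 19563), (15891, 19447), (15892, 15478), (15893, 15373), (15894, 15987), (15895, 19573), (15896, 19576), (15897, 11497), (15898, 19580), (15899, 19581), (15900, 17416), (15901, 11499), (15902, 11500), (15903, 14870), (15904, 14862), (15905, 14692), (15906, 11502), (15907, 15917), (15908, 14479), (15909, 11506), (15910, 11507), (15911, 11508), (15912, 15912), (15913, 15490), (15914, 19586), (15915, 17501), (15916, 17341), (15917, 15907), (15918, 17547), (15919, 19593), (15920, 11572), (15921, 11573), (15922,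 11574), (15923, 11520), (15924, 13659), (15925, 13809), (15926, 11516), (15927, 11517), (15928, 15280), (15929, 19598), (15930, 15588), (15931, 15931), (15932, 15550), (15933, 11930), (15934, 15934), (15935, 15540)]
    ⟨e3 q15872 L202428 q11483, e3 q15873 (flp_a L202432) q11482, e3 q15874 (flp_a L232080) q19548, e3 q15875 (flp_a L217692) q17771, e3 q15876 L202452 q15592, e3 q15877 (flp_a L232070) q19547, e3 q15878 (flp_a L230528) q19387, e3 q15879 L216984 q17682, e3 q15880 L202478 q14208, e3 q15881 L202496 q15881, e3 q15882 L202499 q11487, e3 q15883 L202507 q11488, e3 q15884 (flp_a L232172) q19559, e3 q15885 L202527 q15783, e3 q15886 L202533 q15791, e3 q15887 (flp_a L202551) q11492, e3 q15888 (flp_a L232192) q19561, e3 q15889 (flp_a L232196) q19562, e3 q15890 (flp_a L232202) q19563, e3 q15891 L231158 q19447, e3 q15892 L202571 q15478, e3 q15893 L223805 q15373, e3 q15894 (flp_a L203233) q15987, e3 q15895 L232284 q19573, e3 q15896 L232306 q19576, e3 q15897 (flp_a L202595) q11497, e3 q15898 (flp_a L232340) q19580,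 e3 q15899 (flp_a L232350) q19581, e3 q15900 (flp_a L214689) q17416, e3 q15901 L202615 q11499, e3 q15902 L202625 q11500, e3 q15903 L202635 q14870, e3 q15904 L202645 q14862, e3 q15905 L202657 q14692, e3 q15906 L202667 q11502, e3 q15907 (flp_a L202770) q15917, e3 q15908 L202691 q14479, e3 q15909 L202695 q11506, e3 q15910 L202713 q11507, e3 q15911 L202725 q11508, e3 q15912 L202739 q15912, e3 q15913 L202742 q15490, e3 q15914 (flp_a L232386) q19586, e3 q15915 (flp_a L215520) q17501, e3 q15916 (flp_a L213836) q17341, e3 q15917 L202770 q15907, e3 q15918 (flp_a L215932) q17547, e3 q15919 L232454 q19593, e3 q15920 L202790 q11572, e3 q15921 L202796 q11573, e3 q15922 L202804 q11574, e3 q15923 L202814 q11520, e3 q15924 (flp_a L202830) q13659, e3 q15925 (flp_a L202840) q13809, e3 q15926 L202844 q11516, e3 q15927 L202856 q11517, e3 q15928 L202866 q15280, e3 q15929 (flp_a L232502) q19598, e3 q15930 L202890 q15588, e3 q15931 L202904 q15931, e3 q15932 L202913 q15550, e3 q15933 L202919 q11930, e3 q15934 L202934 q15934, e3 q15935 (flp_a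 L211901) q15540, trivial⟩ (by decide +kernel)

theorem ce_a_249 : ∀ r, r < 64 → sm ga (Qf (15936 + r)) = Qf (tab Gen.a (15936 + r)) :=
  edges_tab (sm ga) Qf (tab Gen.a) 15936 [(15936, 11523), (15937, 16043), (15938, 11639), (15939, 11640), (15940, 11530), (15941, 11531), (15942, 11532), (15943, 13270), (15944, 19606), (15945, 17375), (15946, 17376), (15947, 17377), (15948, 19603), (15949, 19604), (15950, 15952), (15951, 16790), (15952, 15950), (15953, 15963), (15954, 11536), (15955, 19620), (15956, 15731), (15957, 11551), (15958, 11552), (15959, 17825), (15960, 16798), (15961, 16800), (15962, 16859), (15963, 15953), (15964, 18650), (15965, 18651), (15966, 19627), (15967, 11545), (15968, 11546), (15969, 11547), (15970, 11548), (15971, 17772), (15972, 19631), (15973, 19632), (15974, 19633), (15975, 19047), (15976, 19634), (15977, 19044), (15978, 15980), (15979, 11553), (15980, 15978), (15981, 15516), (15982, 15517), (15983, 18991), (15984, 16517), (15985, 19622), (15986, 19646), (15987, 15894), (15988, 18989), (15989,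 15764), (15990, 19655), (15991, 11556), (15992, 19658), (15993, 19659), (15994, 11558), (15995, 11559), (15996, 19663), (15997, 14636), (15998, 19585), (15999, 12088)]
    ⟨e3 q15936 (flp_a L202939) q11523, e3 q15937 L203605 q16043, e3 q15938 L202955 q11639, e3 q15939 L202963 q11640, e3 q15940 L202971 q11530, e3 q15941 L202977 q11531, e3 q15942 L202983 q11532, e3 q15943 L202993 q13270, e3 q15944 L232582 q19606, e3 q15945 (flp_a L214194) q17375, e3 q15946 (flp_a L214204) q17376, e3 q15947 (flp_a L214214) q17377, e3 q15948 (flp_a L232556) q19603, e3 q15949 (flp_a L232566) q19604, e3 q15950 (flp_a L203037) q15952, e3 q15951 (flp_a L209765) q16790, e3 q15952 L203037 q15950, e3 q15953 (flp_a L203107) q15963, e3 q15954 (flp_a L203049) q11536, e3 q15955 (flp_a L232701) q19620, e3 q15956 L230870 q15731, e3 q15957 L203067 q11551, e3 q15958 L203073 q11552, e3 q15959 (flp_a L218116) q17825, e3 q15960 (flp_a L209833) q16798, e3 q15961 (flp_a L209845) q16800, e3 q15962 (flp_a L210321) q16859, e3 q15963 L203107 q15953, e3 q15964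 (flp_a L225167) q18650, e3 q15965 (flp_a L225173) q18651, e3 q15966 L232773 q19627, e3 q15967 L203133 q11545, e3 q15968 L203137 q11546, e3 q15969 L203143 q11547, e3 q15970 L203149 q11548, e3 q15971 (flp_a L217696) q17772, e3 q15972 (flp_a L232817) q19631, e3 q15973 (flp_a L232821) q19632, e3 q15974 (flp_a L232829) q19633, e3 q15975 (flp_a L227861) q19047, e3 q15976 (flp_a L232835) q19634, e3 q15977 (flp_a L227841) q19044, e3 q15978 (flp_a L203197) q15980, e3 q15979 L222230 q11553, e3 q15980 L203197 q15978, e3 q15981 L203205 q15516, e3 q15982 L203211 q15517, e3 q15983 (flp_a L227502) q18991, e3 q15984 (flp_a L207371) q16517, e3 q15985 (flp_a L232723) q19622, e3 q15986 (flp_a L232923) q19646, e3 q15987 L203233 q15894, e3 q15988 (flp_a L227486) q18989, e3 q15989 L230911 q15764, e3 q15990 L232997 q19655, e3 q15991 (flp_a L203253) q11556, e3 q15992 (flp_a L233027) q19658, e3 q15993 (flp_a L233033) q19659, e3 q15994 L203267 q11558, e3 q15995 L203275 q11559, e3 q15996 (flp_a L233063) q19663, e3 q15997 L203289 q14636, e3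 q15998 (flp_a L232374) q19585, e3 q15999 (flp_a L203317) q12088, trivial⟩ (by decide +kernel)

theorem ce_a_250 : ∀ r, r < 64 → sm ga (Qf (16000 + r)) = Qf (tab Gen.a (16000 + r)) :=
  edges_tab (sm ga) Qf (tab Gen.a) 16000 [(16000, 13391), (16001, 11565), (16002, 17510), (16003, 19315), (16004, 11570), (16005, 16599), (16006, 19594), (16007, 18707), (16008, 19595), (16009, 19499), (16010, 12082), (16011, 11579), (16012, 11580), (16013, 11581), (16014, 11582), (16015, 19674), (16016, 16045), (16017, 19671), (16018, 19672), (16019, 19673), (16020, 17737), (16021, 19528), (16022, 16023), (16023, 16022), (16024, 11585), (16025, 19684), (16026, 19685), (16027, 19686), (16028, 13139), (16029, 19395), (16030, 18613), (16031, 19396), (16032, 13402), (16033, 16034), (16034, 16033), (16035, 19699), (16036, 11596), (16037, 11597), (16038, 11598), (16039, 11599), (16040, 11600), (16041, 11601), (16042, 13114), (16043, 15937), (16044, 13404), (16045, 16016), (16046, 19704), (16047, 19705), (16048, 19706), (16049, 19707), (16050,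 19708), (16051, 19709), (16052, 14581), (16053, 16055), (16054, 17665), (16055, 16053), (16056, 16057), (16057, 16056), (16058, 18086), (16059, 19736), (16060, 14487), (16061, 16601), (16062, 11605), (16063, 19739)]
    ⟨e3 q16000 (flp_a L203328) q13391, e3 q16001 (flp_a L203330) q11565, e3 q16002 (flp_a L215612) q17510, e3 q16003 (flp_a L229952) q19315, e3 q16004 L203354 q11570, e3 q16005 (flp_a L208059) q16599, e3 q16006 (flp_a L232462) q19594, e3 q16007 (flp_a L225514) q18707, e3 q16008 (flp_a L232472) q19595, e3 q16009 (flp_a L231624) q19499, e3 q16010 L203395 q12082, e3 q16011 L203405 q11579, e3 q16012 L203409 q11580, e3 q16013 L203417 q11581, e3 q16014 L203423 q11582, e3 q16015 L233153 q19674, e3 q16016 (flp_a L203619) q16045, e3 q16017 (flp_a L233137) q19671, e3 q16018 (flp_a L233143) q19672, e3 q16019 (flp_a L233149) q19673, e3 q16020 L217412 q17737, e3 q16021 (flp_a L231866) q19528, e3 q16022 (flp_a L203477) q16023, e3 q16023 L203477 q16022, e3 q16024 (flp_a L203483) q11585, e3 q16025 (flp_a L233223) q19684,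 e3 q16026 (flp_a L233229) q19685, e3 q16027 (flp_a L233233) q19686, e3 q16028 L203497 q13139, e3 q16029 (flp_a L230606) q19395, e3 q16030 L224899 q18613, e3 q16031 (flp_a L230618) q19396, e3 q16032 L203523 q13402, e3 q16033 (flp_a L203539) q16034, e3 q16034 L203539 q16033, e3 q16035 L233337 q19699, e3 q16036 L203551 q11596, e3 q16037 L203557 q11597, e3 q16038 L203563 q11598, e3 q16039 L203569 q11599, e3 q16040 L203575 q11600, e3 q16041 L203585 q11601, e3 q16042 (flp_a L203597) q13114, e3 q16043 (flp_a L203605) q15937, e3 q16044 L203609 q13404, e3 q16045 L203619 q16016, e3 q16046 (flp_a L233369) q19704, e3 q16047 (flp_a L233377) q19705, e3 q16048 (flp_a L233389) q19706, e3 q16049 (flp_a L233397) q19707, e3 q16050 (flp_a L233401) q19708, e3 q16051 (flp_a L233411) q19709, e3 q16052 (flp_a L216915) q14581, e3 q16053 (flp_a L203671) q16055, e3 q16054 (flp_a L221672) q17665, e3 q16055 L203671 q16053, e3 q16056 (flp_a L203687) q16057, e3 q16057 L203687 q16056, e3 q16058 L220314 q18086, e3 q16059 L233627 q19736, e3 q16060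 L203707 q14487, e3 q16061 (flp_a L208084) q16601, e3 q16062 (flp_a L203723) q11605, e3 q16063 (flp_a L233655) q19739, trivial⟩ (by decide +kernel)

theorem ce_a_251 : ∀ r, r < 64 → sm ga (Qf (16064 + r)) = Qf (tab Gen.a (16064 + r)) :=
  edges_tab (sm ga) Qf (tab Gen.a) 16064 [(16064, 17655), (16065, 17220), (16066, 17221), (16067, 17070), (16068, 11610), (16069, 11611), (16070, 12719), (16071, 19750), (16072, 16073), (16073, 16072), (16074, 19754), (16075, 19756), (16076, 13444), (16077, 11617), (16078, 17514), (16079, 19542), (16080, 11622), (16081, 16622), (16082, 19379), (16083, 18700), (16084, 19267), (16085, 19380), (16086, 11871), (16087, 11631), (16088, 11632), (16089, 11633), (16090, 11634), (16091, 19768), (16092, 16121), (16093, 19765), (16094, 19766), (16095, 19767), (16096, 19300), (16097, 17668), (16098, 16099), (16099, 16098), (16100, 11637), (16101, 19778), (16102, 19779), (16103, 19780), (16104, 13198), (16105, 19313), (16106, 19602), (16107, 18615), (16108, 16110), (16109, 13454), (16110, 16108),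 (16111, 19793), (16112, 11648), (16113, 11649), (16114, 11650), (16115, 11651), (16116, 11652), (16117, 11653), (16118, 15711), (16119, 13173), (16120, 13456), (16121, 16092), (16122, 19798), (16123, 19799), (16124, 19800), (16125, 19801), (16126, 19802), (16127, 19803)]
    ⟨e3 q16064 (flp_a L216727) q17655, e3 q16065 (flp_a L213051) q17220, e3 q16066 (flp_a L213057) q17221, e3 q16067 (flp_a L211961) q17070, e3 q16068 L203761 q11610, e3 q16069 L203771 q11611, e3 q16070 L203783 q12719, e3 q16071 L233747 q19750, e3 q16072 (flp_a L203799) q16073, e3 q16073 L203799 q16072, e3 q16074 L233787 q19754, e3 q16075 L233807 q19756, e3 q16076 (flp_a L203828) q13444, e3 q16077 (flp_a L203830) q11617, e3 q16078 (flp_a L215650) q17514, e3 q16079 (flp_a L232030) q19542, e3 q16080 L203854 q11622, e3 q16081 (flp_a L208256) q16622, e3 q16082 (flp_a L230446) q19379, e3 q16083 (flp_a L225451) q18700, e3 q16084 (flp_a L229486) q19267, e3 q16085 (flp_a L230456) q19380, e3 q16086 L203895 q11871, e3 q16087 L203905 q11631, e3 q16088 L203909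 q11632, e3 q16089 L203917 q11633, e3 q16090 L203925 q11634, e3 q16091 L233901 q19768, e3 q16092 (flp_a L204123) q16121, e3 q16093 (flp_a L233885) q19765, e3 q16094 (flp_a L233891) q19766, e3 q16095 (flp_a L233897) q19767, e3 q16096 (flp_a L229764) q19300, e3 q16097 L216841 q17668, e3 q16098 (flp_a L203973) q16099, e3 q16099 L203973 q16098, e3 q16100 (flp_a L203983) q11637, e3 q16101 (flp_a L233971) q19778, e3 q16102 (flp_a L233977) q19779, e3 q16103 (flp_a L233981) q19780, e3 q16104 L203997 q13198, e3 q16105 (flp_a L229920) q19313, e3 q16106 (flp_a L232548) q19602, e3 q16107 L224919 q18615, e3 q16108 (flp_a L204041) q16110, e3 q16109 L204033 q13454, e3 q16110 L204041 q16108, e3 q16111 L234091 q19793, e3 q16112 L204055 q11648, e3 q16113 L204061 q11649, e3 q16114 L204067 q11650, e3 q16115 L204073 q11651, e3 q16116 L204079 q11652, e3 q16117 L204087 q11653, e3 q16118 (flp_a L204101) q15711, e3 q16119 (flp_a L204109) q13173, e3 q16120 L204113 q13456, e3 q16121 L204123 q16092, e3 q16122 (flp_a L234123) q19798, e3 q16123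 (flp_a L234131) q19799, e3 q16124 (flp_a L234139) q19800, e3 q16125 (flp_a L234151) q19801, e3 q16126 (flp_a L234155) q19802, e3 q16127 (flp_a L234163) q19803, trivial⟩ (by decide +kernel)

theorem ce_a_252 : ∀ r, r < 64 → sm ga (Qf (16128 + r)) = Qf (tab Gen.a (16128 + r)) :=
  edges_tab (sm ga) Qf (tab Gen.a) 16128 [(16128, 17734), (16129, 16131), (16130, 14630), (16131, 16129), (16132, 16133), (16133, 16132), (16134, 19829), (16135, 18139), (16136, 11656), (16137, 19833), (16138, 17724), (16139, 14536), (16140, 16624), (16141, 17296), (16142, 17157), (16143, 17297), (16144, 11662), (16145, 11663), (16146, 19842), (16147, 12726), (16148, 16149), (16149, 16148), (16150, 19848), (16151, 19851), (16152, 15297), (16153, 16153), (16154, 11667), (16155, 19855), (16156, 19856), (16157, 17360), (16158, 11669), (16159, 11670), (16160, 11671), (16161, 15166), (16162, 19404), (16163, 19860), (16164, 19861), (16165, 16166), (16166, 16165), (16167, 15244), (16168, 16168), (16169, 11674), (16170, 19874), (16171, 19875), (16172,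 17386), (16173, 11676), (16174, 11677), (16175, 11678), (16176, 15200), (16177, 19609), (16178, 19878), (16179, 19879), (16180, 16181), (16181, 16180), (16182, 11691), (16183, 19890), (16184, 11692), (16185, 19891), (16186, 16186), (16187, 16187), (16188, 11701), (16189, 12184), (16190, 12190), (16191, 11707)]
    ⟨e3 q16128 (flp_a L217386) q17734, e3 q16129 (flp_a L204175) q16131, e3 q16130 (flp_a L222220) q14630, e3 q16131 L204175 q16129, e3 q16132 (flp_a L204191) q16133, e3 q16133 L204191 q16132, e3 q16134 L234375 q19829, e3 q16135 L220736 q18139, e3 q16136 (flp_a L204209) q11656, e3 q16137 (flp_a L234415) q19833, e3 q16138 (flp_a L217292) q17724, e3 q16139 L204233 q14536, e3 q16140 (flp_a L208281) q16624, e3 q16141 (flp_a L213553) q17296, e3 q16142 (flp_a L212605) q17157, e3 q16143 (flp_a L213559) q17297, e3 q16144 L204265 q11662, e3 q16145 L204273 q11663, e3 q16146 L234495 q19842, e3 q16147 L204291 q12726, e3 q16148 (flp_a L204303) q16149, e3 q16149 L204303 q16148, e3 q16150 L234559 q19848, e3 q16151 L234583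 q19851, e3 q16152 (flp_a L204329) q15297, e3 q16153 L204333 q16153, e3 q16154 (flp_a L204334) q11667, e3 q16155 (flp_a L234629) q19855, e3 q16156 (flp_a L234643) q19856, e3 q16157 (flp_a L214002) q17360, e3 q16158 L204358 q11669, e3 q16159 L204364 q11670, e3 q16160 L204368 q11671, e3 q16161 L204372 q15166, e3 q16162 (flp_a L230670) q19404, e3 q16163 (flp_a L234673) q19860, e3 q16164 (flp_a L234681) q19861, e3 q16165 (flp_a L204400) q16166, e3 q16166 L204400 q16165, e3 q16167 (flp_a L204410) q15244, e3 q16168 L204414 q16168, e3 q16169 (flp_a L204421) q11674, e3 q16170 (flp_a L234775) q19874, e3 q16171 (flp_a L234785) q19875, e3 q16172 (flp_a L214323) q17386, e3 q16173 L204445 q11676, e3 q16174 L204451 q11677, e3 q16175 L204455 q11678, e3 q16176 L204459 q15200, e3 q16177 (flp_a L232610) q19609, e3 q16178 (flp_a L234819) q19878, e3 q16179 (flp_a L234827) q19879, e3 q16180 (flp_a L204487) q16181, e3 q16181 L204487 q16180, e3 q16182 (flp_a L204491) q11691, e3 q16183 (flp_a L234897) q19890, e3 q16184 (flp_a L204512) q11692,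 e3 q16185 (flp_a L234909) q19891, e3 q16186 L204535 q16186, e3 q16187 L204546 q16187, e3 q16188 L204557 q11701, e3 q16189 L204569 q12184, e3 q16190 L204577 q12190, e3 q16191 L204583 q11707, trivial⟩ (by decide +kernel)

theorem ce_a_253 : ∀ r, r < 64 → sm ga (Qf (16192 + r)) = Qf (tab Gen.a (16192 + r)) :=
  edges_tab (sm ga) Qf (tab Gen.a) 16192 [(16192, 11986), (16193, 12000), (16194, 16295), (16195, 11734), (16196, 12105), (16197, 11735), (16198, 11736), (16199, 16448), (16200, 11777), (16201, 11896), (16202, 11778), (16203, 11779), (16204, 12108), (16205, 16207), (16206, 19892), (16207, 16205), (16208, 12645), (16209, 16258), (16210, 16256), (16211, 13335), (16212, 16565), (16213, 16566), (16214, 19897), (16215, 11748), (16216, 13318), (16217, 16217), (16218, 11753), (16219, 13016), (16220, 16230), (16221, 19900), (16222, 11758), (16223, 18606), (16224, 19903), (16225, 11760), (16226, 16240), (16227, 19905), (16228, 16237), (16229, 16239), (16230, 16220), (16231, 11766), (16232, 16647), (16233, 16593), (16234,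 11769), (16235, 11899), (16236, 19893), (16237, 16228), (16238, 12654), (16239, 16229), (16240, 16226), (16241, 13342), (16242, 16530), (16243, 16531), (16244, 19910), (16245, 11791), (16246, 13343), (16247, 16247), (16248, 11796), (16249, 13087), (16250, 16259), (16251, 19913), (16252, 11801), (16253, 18610), (16254, 19916), (16255, 11803)]
    ⟨e3 q16192 L204595 q11986, e3 q16193 L204603 q12000, e3 q16194 (flp_a L205478) q16295, e3 q16195 L204615 q11734, e3 q16196 (flp_a L204627) q12105, e3 q16197 L204633 q11735, e3 q16198 L204642 q11736, e3 q16199 (flp_a L206789) q16448, e3 q16200 L204656 q11777, e3 q16201 (flp_a L204668) q11896, e3 q16202 L204674 q11778, e3 q16203 L204683 q11779, e3 q16204 L204699 q12108, e3 q16205 (flp_a L204722) q16207, e3 q16206 (flp_a L234923) q19892, e3 q16207 L204722 q16205, e3 q16208 L204731 q12645, e3 q16209 (flp_a L205141) q16258, e3 q16210 (flp_a L205129) q16256, e3 q16211 (flp_a L204764) q13335, e3 q16212 (flp_a L207772) q16565, e3 q16213 (flp_a L207776) q16566, e3 q16214 L234981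 q19897, e3 q16215 (flp_a L204786) q11748, e3 q16216 L204798 q13318, e3 q16217 L204810 q16217, e3 q16218 L204817 q11753, e3 q16219 L204829 q13016, e3 q16220 L204906 q16230, e3 q16221 L235011 q19900, e3 q16222 (flp_a L204849) q11758, e3 q16223 (flp_a L224839) q18606, e3 q16224 (flp_a L235035) q19903, e3 q16225 L204873 q11760, e3 q16226 (flp_a L204990) q16240, e3 q16227 L235053 q19905, e3 q16228 (flp_a L204956) q16237, e3 q16229 (flp_a L204978) q16239, e3 q16230 (flp_a L204906) q16220, e3 q16231 (flp_a L204910) q11766, e3 q16232 (flp_a L208513) q16647, e3 q16233 (flp_a L207997) q16593, e3 q16234 L204926 q11769, e3 q16235 L204942 q11899, e3 q16236 (flp_a L234935) q19893, e3 q16237 L204956 q16228, e3 q16238 L204965 q12654, e3 q16239 L204978 q16229, e3 q16240 L204990 q16226, e3 q16241 L205006 q13342, e3 q16242 (flp_a L207487) q16530, e3 q16243 (flp_a L207491) q16531, e3 q16244 L235101 q19910, e3 q16245 (flp_a L205028) q11791, e3 q16246 L205040 q13343, e3 q16247 L205052 q16247, e3 q16248 L205065 q11796, e3 q16249 L205077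 q13087, e3 q16250 (flp_a L205155) q16259, e3 q16251 L235131 q19913, e3 q16252 (flp_a L205097) q11801, e3 q16253 (flp_a L224873) q18610, e3 q16254 (flp_a L235155) q19916, e3 q16255 L205121 q11803, trivial⟩ (by decide +kernel)

theorem ce_a_254 : ∀ r, r < 64 → sm ga (Qf (16256 + r)) = Qf (tab Gen.a (16256 + r)) :=
  edges_tab (sm ga) Qf (tab Gen.a) 16256 [(16256, 16210), (16257, 19918), (16258, 16209), (16259, 16250), (16260, 11809), (16261, 16665), (16262, 16558), (16263, 11812), (16264, 14695), (16265, 11815), (16266, 14099), (16267, 11817), (16268, 18173), (16269, 19921), (16270, 14795), (16271, 11819), (16272, 11820), (16273, 12450), (16274, 19924), (16275, 13395), (16276, 12020), (16277, 16336), (16278, 17529), (16279, 11867), (16280, 11835), (16281, 14330), (16282, 14327), (16283, 13965), (16284, 11837), (16285, 12089), (16286, 11843), (16287, 11863), (16288, 11845), (16289, 11866), (16290, 16314), (16291, 11853), (16292, 11901), (16293, 19894), (16294, 11862), (16295, 16194), (16296, 15013), (16297, 14144),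 (16298, 14080), (16299, 17907), (16300, 13716), (16301, 17884), (16302, 18527), (16303, 11880), (16304, 11877), (16305, 19929), (16306, 17835), (16307, 14972), (16308, 12499), (16309, 12500), (16310, 16460), (16311, 16459), (16312, 11893), (16313, 17455), (16314, 16290), (16315, 19927), (16316, 11894), (16317, 12103), (16318, 11897), (16319, 16537)]
    ⟨e3 q16256 L205129 q16210, e3 q16257 L235173 q19918, e3 q16258 L205141 q16209, e3 q16259 L205155 q16250, e3 q16260 (flp_a L205157) q11809, e3 q16261 (flp_a L208686) q16665, e3 q16262 (flp_a L207710) q16558, e3 q16263 L205173 q11812, e3 q16264 L205183 q14695, e3 q16265 L205193 q11815, e3 q16266 L205215 q14099, e3 q16267 (flp_a L205225) q11817, e3 q16268 L220986 q18173, e3 q16269 (flp_a L235197) q19921, e3 q16270 L205248 q14795, e3 q16271 L205252 q11819, e3 q16272 L205260 q11820, e3 q16273 L205268 q12450, e3 q16274 (flp_a L235225) q19924, e3 q16275 L205287 q13395, e3 q16276 L205297 q12020, e3 q16277 (flp_a L205836) q16336, e3 q16278 (flp_a L215777) q17529, e3 q16279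 L205326 q11867, e3 q16280 L205330 q11835, e3 q16281 L205342 q14330, e3 q16282 L205354 q14327, e3 q16283 (flp_a L205372) q13965, e3 q16284 (flp_a L205364) q11837, e3 q16285 L205378 q12089, e3 q16286 (flp_a L205384) q11843, e3 q16287 L205399 q11863, e3 q16288 L205411 q11845, e3 q16289 L205424 q11866, e3 q16290 (flp_a L205647) q16314, e3 q16291 (flp_a L205438) q11853, e3 q16292 L205454 q11901, e3 q16293 (flp_a L234949) q19894, e3 q16294 L205466 q11862, e3 q16295 L205478 q16194, e3 q16296 L205490 q15013, e3 q16297 L205504 q14144, e3 q16298 L205508 q14080, e3 q16299 (flp_a L218918) q17907, e3 q16300 L205534 q13716, e3 q16301 (flp_a L218696) q17884, e3 q16302 (flp_a L224111) q18527, e3 q16303 L205556 q11880, e3 q16304 (flp_a L205564) q11877, e3 q16305 (flp_a L235276) q19929, e3 q16306 (flp_a L218240) q17835, e3 q16307 L205590 q14972, e3 q16308 L205600 q12499, e3 q16309 L205613 q12500, e3 q16310 (flp_a L206910) q16460, e3 q16311 (flp_a L206900) q16459, e3 q16312 (flp_a L205635) q11893, e3 q16313 (flp_a L215076) q17455,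 e3 q16314 L205647 q16290, e3 q16315 (flp_a L235264) q19927, e3 q16316 (flp_a L205661) q11894, e3 q16317 L205673 q12103, e3 q16318 L205685 q11897, e3 q16319 (flp_a L207545) q16537, trivial⟩ (by decide +kernel)

theorem ce_a_255 : ∀ r, r < 64 → sm ga (Qf (16320 + r)) = Qf (tab Gen.a (16320 + r)) :=
  edges_tab (sm ga) Qf (tab Gen.a) 16320 [(16320, 12109), (16321, 11908), (16322, 11909), (16323, 16855), (16324, 11911), (16325, 19933), (16326, 11927), (16327, 19554), (16328, 12132), (16329, 16329), (16330, 11934), (16331, 11935), (16332, 19934), (16333, 17407), (16334, 13218), (16335, 17077), (16336, 16277), (16337, 11945), (16338, 11941), (16339, 11943), (16340, 19937), (16341, 17322), (16342, 19938), (16343, 16343), (16344, 12402), (16345, 12201), (16346, 19428), (16347, 16411), (16348, 16348), (16349, 16349), (16350, 11948), (16351, 19947), (16352, 11950), (16353, 14157), (16354, 12029), (16355, 16355), (16356, 18529), (16357, 11964), (16358, 13712), (16359, 14044), (16360, 11976), (16361, 16368), (16362, 12238),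 (16363, 11987), (16364, 11983), (16365, 19949), (16366, 13362), (16367, 17263), (16368, 16361), (16369, 16370), (16370, 16369), (16371, 12114), (16372, 12115), (16373, 13480), (16374, 11993), (16375, 11994), (16376, 11995), (16377, 19954), (16378, 19955), (16379, 19956), (16380, 16381), (16381, 16380), (16382, 12017), (16383, 12018)]
    ⟨e3 q16320 L205703 q12109, e3 q16321 L205715 q11908, e3 q16322 L205725 q11909, e3 q16323 (flp_a L210285) q16855, e3 q16324 (flp_a L205739) q11911, e3 q16325 (flp_a L235326) q19933, e3 q16326 L205759 q11927, e3 q16327 (flp_a L232127) q19554, e3 q16328 L205779 q12132, e3 q16329 L205795 q16329, e3 q16330 L205798 q11934, e3 q16331 L205804 q11935, e3 q16332 (flp_a L235338) q19934, e3 q16333 (flp_a L214593) q17407, e3 q16334 L205822 q13218, e3 q16335 (flp_a L212007) q17077, e3 q16336 L205836 q16277, e3 q16337 L205848 q11945, e3 q16338 L205856 q11941, e3 q16339 L205860 q11943, e3 q16340 (flp_a L235364) q19937, e3 q16341 L213727 q17322, e3 q16342 (flp_a L235374) q19938, e3 q16343 L205890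 q16343, e3 q16344 L205893 q12402, e3 q16345 L205903 q12201, e3 q16346 (flp_a L231022) q19428, e3 q16347 (flp_a L206442) q16411, e3 q16348 L205921 q16348, e3 q16349 L205924 q16349, e3 q16350 (flp_a L205927) q11948, e3 q16351 (flp_a L235449) q19947, e3 q16352 L205939 q11950, e3 q16353 L205949 q14157, e3 q16354 L205961 q12029, e3 q16355 L205971 q16355, e3 q16356 (flp_a L224127) q18529, e3 q16357 (flp_a L205984) q11964, e3 q16358 L205988 q13712, e3 q16359 L206000 q14044, e3 q16360 L206012 q11976, e3 q16361 (flp_a L206078) q16368, e3 q16362 L206030 q12238, e3 q16363 L206040 q11987, e3 q16364 (flp_a L206048) q11983, e3 q16365 (flp_a L235471) q19949, e3 q16366 L206066 q13362, e3 q16367 L213319 q17263, e3 q16368 L206078 q16361, e3 q16369 (flp_a L206100) q16370, e3 q16370 L206100 q16369, e3 q16371 L206112 q12114, e3 q16372 L206120 q12115, e3 q16373 L206132 q13480, e3 q16374 L206140 q11993, e3 q16375 L206144 q11994, e3 q16376 L206154 q11995, e3 q16377 (flp_a L235517) q19954, e3 q16378 (flp_a L235527) q19955, e3 q16379 (flp_a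 L235537) q19956, e3 q16380 (flp_a L206184) q16381, e3 q16381 L206184 q16380, e3 q16382 L206196 q12017, e3 q16383 L206204 q12018, trivial⟩ (by decide +kernel)

theorem ce_a_256 : ∀ r, r < 64 → sm ga (Qf (16384 + r)) = Qf (tab Gen.a (16384 + r)) :=
  edges_tab (sm ga) Qf (tab Gen.a) 16384 [(16384, 12001), (16385, 13429), (16386, 15818), (16387, 13483), (16388, 13427), (16389, 12006), (16390, 12007), (16391, 12008), (16392, 12009), (16393, 12010), (16394, 12011), (16395, 12012), (16396, 19963), (16397, 13302), (16398, 19964), (16399, 19965), (16400, 19966), (16401, 16402), (16402, 16401), (16403, 19967), (16404, 19968), (16405, 16406), (16406, 16405), (16407, 17396), (16408, 12200), (16409, 12148), (16410, 15759), (16411, 16347), (16412, 17339), (16413, 12021), (16414, 19979), (16415, 12023), (16416, 12026), (16417, 12027), (16418, 16419), (16419, 16418), (16420, 14814), (16421, 14697), (16422, 12032), (16423, 18119), (16424, 19982), (16425, 14827), (16426, 12034), (16427, 12035), (16428, 12485), (16429, 19985), (16430,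 13448), (16431, 12203), (16432, 16478), (16433, 17533), (16434, 12080), (16435, 12049), (16436, 14386), (16437, 14382), (16438, 13943), (16439, 12051), (16440, 12056), (16441, 12076), (16442, 12058), (16443, 12079), (16444, 12065), (16445, 16464), (16446, 19907), (16447, 12075)]
    ⟨e3 q16384 (flp_a L206212) q12001, e3 q16385 L206228 q13429, e3 q16386 L206238 q15818, e3 q16387 L206248 q13483, e3 q16388 L206254 q13427, e3 q16389 L206266 q12006, e3 q16390 L206278 q12007, e3 q16391 L206282 q12008, e3 q16392 L206292 q12009, e3 q16393 L206302 q12010, e3 q16394 L206306 q12011, e3 q16395 L206314 q12012, e3 q16396 (flp_a L235607) q19963, e3 q16397 L206328 q13302, e3 q16398 (flp_a L235619) q19964, e3 q16399 (flp_a L235629) q19965, e3 q16400 (flp_a L235639) q19966, e3 q16401 (flp_a L206362) q16402, e3 q16402 L206362 q16401, e3 q16403 (flp_a L235649) q19967, e3 q16404 (flp_a L235655) q19968, e3 q16405 (flp_a L206404) q16406, e3 q16406 L206404 q16405, e3 q16407 (flp_a L214499) q17396, e3 q16408 L206420 q12200, e3 q16409 L206428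 q12148, e3 q16410 L206436 q15759, e3 q16411 L206442 q16347, e3 q16412 (flp_a L213819) q17339, e3 q16413 (flp_a L206456) q12021, e3 q16414 (flp_a L235749) q19979, e3 q16415 L206474 q12023, e3 q16416 L206486 q12026, e3 q16417 L206494 q12027, e3 q16418 (flp_a L206514) q16419, e3 q16419 L206514 q16418, e3 q16420 L206526 q14814, e3 q16421 L206534 q14697, e3 q16422 (flp_a L206544) q12032, e3 q16423 (flp_a L220556) q18119, e3 q16424 (flp_a L235783) q19982, e3 q16425 L206567 q14827, e3 q16426 L206571 q12034, e3 q16427 L206579 q12035, e3 q16428 L206589 q12485, e3 q16429 (flp_a L235811) q19985, e3 q16430 L206608 q13448, e3 q16431 L206618 q12203, e3 q16432 (flp_a L207059) q16478, e3 q16433 (flp_a L215811) q17533, e3 q16434 L206647 q12080, e3 q16435 L206651 q12049, e3 q16436 L206663 q14386, e3 q16437 L206675 q14382, e3 q16438 L206687 q13943, e3 q16439 (flp_a L206691) q12051, e3 q16440 (flp_a L206703) q12056, e3 q16441 L206718 q12076, e3 q16442 L206730 q12058, e3 q16443 L206741 q12079, e3 q16444 (flp_a L206751) q12065, e3 q16445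 (flp_a L206944) q16464, e3 q16446 (flp_a L235069) q19907, e3 q16447 L206775 q12075, trivial⟩ (by decide +kernel)

theorem ce_a_257 : ∀ r, r < 64 → sm ga (Qf (16448 + r)) = Qf (tab Gen.a (16448 + r)) :=
  edges_tab (sm ga) Qf (tab Gen.a) 16448 [(16448, 16199), (16449, 14999), (16450, 14134), (16451, 14131), (16452, 18526), (16453, 12086), (16454, 19989), (16455, 17845), (16456, 14924), (16457, 12501), (16458, 12502), (16459, 16311), (16460, 16310), (16461, 12102), (16462, 17430), (16463, 19932), (16464, 16445), (16465, 12106), (16466, 16572), (16467, 16864), (16468, 12117), (16469, 19992), (16470, 19327), (16471, 16471), (16472, 12139), (16473, 12140), (16474, 19993), (16475, 17425), (16476, 17163), (16477, 13238), (16478, 16432), (16479, 12145), (16480, 12146), (16481, 19996), (16482, 19997), (16483, 17245), (16484, 12357), (16485, 16485), (16486, 19629), (16487, 16518), (16488, 16488), (16489, 16489), (16490, 12151), (16491, 20006), (16492, 12153), (16493, 14178), (16494, 12212), (16495, 16495), (16496, 18531),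 (16497, 12167), (16498, 16502), (16499, 12296), (16500, 12183), (16501, 17187), (16502, 16498), (16503, 16504), (16504, 16503), (16505, 12191), (16506, 15578), (16507, 13479), (16508, 13432), (16509, 12195), (16510, 12196), (16511, 12197)]
    ⟨e3 q16448 L206789 q16199, e3 q16449 L206801 q14999, e3 q16450 L206819 q14134, e3 q16451 L206823 q14131, e3 q16452 (flp_a L224101) q18526, e3 q16453 (flp_a L206839) q12086, e3 q16454 (flp_a L235848) q19989, e3 q16455 (flp_a L218342) q17845, e3 q16456 L206865 q14924, e3 q16457 L206875 q12501, e3 q16458 L206888 q12502, e3 q16459 L206900 q16311, e3 q16460 L206910 q16310, e3 q16461 (flp_a L206920) q12102, e3 q16462 (flp_a L214841) q17430, e3 q16463 (flp_a L235312) q19932, e3 q16464 L206944 q16445, e3 q16465 L206956 q12106, e3 q16466 (flp_a L207830) q16572, e3 q16467 (flp_a L210373) q16864, e3 q16468 (flp_a L206980) q12117, e3 q16469 (flp_a L235884) q19992, e3 q16470 (flp_a L230044) q19327, e3 q16471 L207018 q16471, e3 q16472 L207021 q12139, e3 q16473 L207027 q12140, e3 q16474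 (flp_a L235896) q19993, e3 q16475 (flp_a L214775) q17425, e3 q16476 (flp_a L212643) q17163, e3 q16477 L207053 q13238, e3 q16478 L207059 q16432, e3 q16479 L207071 q12145, e3 q16480 L207075 q12146, e3 q16481 (flp_a L235922) q19996, e3 q16482 (flp_a L235932) q19997, e3 q16483 (flp_a L213207) q17245, e3 q16484 L207101 q12357, e3 q16485 L207117 q16485, e3 q16486 (flp_a L232795) q19629, e3 q16487 (flp_a L207377) q16518, e3 q16488 L207134 q16488, e3 q16489 L207137 q16489, e3 q16490 (flp_a L207142) q12151, e3 q16491 (flp_a L236011) q20006, e3 q16492 L207154 q12153, e3 q16493 L207166 q14178, e3 q16494 L207178 q12212, e3 q16495 L207188 q16495, e3 q16496 (flp_a L224145) q18531, e3 q16497 (flp_a L207201) q12167, e3 q16498 (flp_a L207235) q16502, e3 q16499 L207213 q12296, e3 q16500 L207223 q12183, e3 q16501 L212817 q17187, e3 q16502 L207235 q16498, e3 q16503 (flp_a L207257) q16504, e3 q16504 L207257 q16503, e3 q16505 (flp_a L207267) q12191, e3 q16506 L207283 q15578, e3 q16507 L207293 q13479, e3 q16508 L207305 q13432, e3 q16509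 L207313 q12195, e3 q16510 L207317 q12196, e3 q16511 L207325 q12197, trivial⟩ (by decide +kernel)

theorem ce_a_258 : ∀ r, r < 64 → sm ga (Qf (16512 + r)) = Qf (tab Gen.a (16512 + r)) :=
  edges_tab (sm ga) Qf (tab Gen.a) 16512 [(16512, 20010), (16513, 20011), (16514, 16515), (16515, 16514), (16516, 17392), (16517, 15984), (16518, 16487), (16519, 17367), (16520, 12204), (16521, 20016), (16522, 12206), (16523, 12209), (16524, 12210), (16525, 16526), (16526, 16525), (16527, 14842), (16528, 14651), (16529, 17442), (16530, 16242), (16531, 16243), (16532, 15281), (16533, 15283), (16534, 18179), (16535, 18177), (16536, 15273), (16537, 16319), (16538, 19541), (16539, 13285), (16540, 12242), (16541, 17475), (16542, 15275), (16543, 15272), (16544, 12249), (16545, 12250), (16546, 12251), (16547, 12252), (16548, 20025), (16549, 20026), (16550, 14886), (16551, 20027), (16552, 20028), (16553, 16959), (16554, 13024), (16555, 18528), (16556, 12980), (16557, 12262), (16558, 16262), (16559, 12267), (16560, 18381), (16561, 14945),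 (16562, 14944), (16563, 14681), (16564, 17467), (16565, 16212), (16566, 16213), (16567, 15228), (16568, 15229), (16569, 18125), (16570, 18127), (16571, 15220), (16572, 16466), (16573, 19314), (16574, 13349), (16575, 12301)]
    ⟨e3 q16512 (flp_a L236051) q20010, e3 q16513 (flp_a L236059) q20011, e3 q16514 (flp_a L207351) q16515, e3 q16515 L207351 q16514, e3 q16516 (flp_a L214461) q17392, e3 q16517 L207371 q15984, e3 q16518 L207377 q16487, e3 q16519 (flp_a L214124) q17367, e3 q16520 (flp_a L207393) q12204, e3 q16521 (flp_a L236099) q20016, e3 q16522 L207411 q12206, e3 q16523 L207423 q12209, e3 q16524 L207431 q12210, e3 q16525 (flp_a L207451) q16526, e3 q16526 L207451 q16525, e3 q16527 L207463 q14842, e3 q16528 L207471 q14651, e3 q16529 (flp_a L214952) q17442, e3 q16530 L207487 q16242, e3 q16531 L207491 q16243, e3 q16532 L207501 q15281, e3 q16533 L207505 q15283, e3 q16534 (flp_a L221044) q18179, e3 q16535 (flp_a L221028) q18177, e3 q16536 L207537 q15273, e3 q16537 L207545 q16319, e3 q16538 (flp_a L232010) q19541,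 e3 q16539 L207569 q13285, e3 q16540 (flp_a L207577) q12242, e3 q16541 (flp_a L215277) q17475, e3 q16542 L207593 q15275, e3 q16543 L207605 q15272, e3 q16544 L207614 q12249, e3 q16545 L207620 q12250, e3 q16546 L207630 q12251, e3 q16547 L207634 q12252, e3 q16548 (flp_a L236177) q20025, e3 q16549 (flp_a L236183) q20026, e3 q16550 L207656 q14886, e3 q16551 (flp_a L236193) q20027, e3 q16552 (flp_a L236201) q20028, e3 q16553 (flp_a L211101) q16959, e3 q16554 L207674 q13024, e3 q16555 (flp_a L224123) q18528, e3 q16556 (flp_a L207696) q12980, e3 q16557 L207702 q12262, e3 q16558 L207710 q16262, e3 q16559 L207716 q12267, e3 q16560 (flp_a L222980) q18381, e3 q16561 L207732 q14945, e3 q16562 L207742 q14944, e3 q16563 L207756 q14681, e3 q16564 (flp_a L215191) q17467, e3 q16565 L207772 q16212, e3 q16566 L207776 q16213, e3 q16567 L207786 q15228, e3 q16568 L207790 q15229, e3 q16569 (flp_a L220614) q18125, e3 q16570 (flp_a L220630) q18127, e3 q16571 L207822 q15220, e3 q16572 L207830 q16466, e3 q16573 (flp_a L229932) q19314, e3 q16574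 L207854 q13349, e3 q16575 (flp_a L207862) q12301, trivial⟩ (by decide +kernel)

theorem ce_a_259 : ∀ r, r < 64 → sm ga (Qf (16576 + r)) = Qf (tab Gen.a (16576 + r)) :=
  edges_tab (sm ga) Qf (tab Gen.a) 16576 [(16576, 17450), (16577, 15222), (16578, 15219), (16579, 12308), (16580, 12309), (16581, 12310), (16582, 12311), (16583, 20045), (16584, 20046), (16585, 14854), (16586, 20047), (16587, 20048), (16588, 16944), (16589, 13095), (16590, 13055), (16591, 18530), (16592, 12319), (16593, 16233), (16594, 12326), (16595, 18443), (16596, 14993), (16597, 14992), (16598, 12332), (16599, 16005), (16600, 16600), (16601, 16061), (16602, 18169), (16603, 16848), (16604, 20001), (16605, 12368), (16606, 12369), (16607, 12370), (16608, 16608), (16609, 17426), (16610, 13931), (16611, 16618), (16612, 12409), (16613, 17410), (16614, 20060), (16615, 20061), (16616, 20062), (16617, 17086), (16618, 16611), (16619, 12410), (16620, 16620), (16621, 12379), (16622, 16081), (16623, 16623), (16624, 16140), (16625, 18115), (16626, 16850), (16627,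 19943), (16628, 12408), (16629, 13934), (16630, 16635), (16631, 20077), (16632, 20066), (16633, 20073), (16634, 17172), (16635, 16630), (16636, 12468), (16637, 14915), (16638, 18167), (16639, 12418)]
    ⟨e3 q16576 (flp_a L215034) q17450, e3 q16577 L207878 q15222, e3 q16578 L207890 q15219, e3 q16579 L207899 q12308, e3 q16580 L207905 q12309, e3 q16581 L207915 q12310, e3 q16582 L207919 q12311, e3 q16583 (flp_a L236316) q20045, e3 q16584 (flp_a L236322) q20046, e3 q16585 (flp_a L207941) q14854, e3 q16586 (flp_a L236332) q20047, e3 q16587 (flp_a L236340) q20048, e3 q16588 (flp_a L210993) q16944, e3 q16589 L207959 q13095, e3 q16590 (flp_a L207973) q13055, e3 q16591 (flp_a L224141) q18530, e3 q16592 L207987 q12319, e3 q16593 L207997 q16233, e3 q16594 L208005 q12326, e3 q16595 (flp_a L223407) q18443, e3 q16596 L208021 q14993, e3 q16597 L208031 q14992, e3 q16598 L208045 q12332, e3 q16599 L208059 q16005, e3 q16600 L208081 q16600, e3 q16601 L208084 q16061, e3 q16602 (flp_a L220942) q18169, e3 q16603 (flp_a L210211) q16848,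 e3 q16604 (flp_a L235966) q20001, e3 q16605 L208118 q12368, e3 q16606 L208122 q12369, e3 q16607 L208132 q12370, e3 q16608 L208148 q16608, e3 q16609 (flp_a L214787) q17426, e3 q16610 (flp_a L208165) q13931, e3 q16611 (flp_a L208215) q16618, e3 q16612 L208175 q12409, e3 q16613 (flp_a L214625) q17410, e3 q16614 (flp_a L236423) q20060, e3 q16615 (flp_a L236427) q20061, e3 q16616 (flp_a L236435) q20062, e3 q16617 (flp_a L212065) q17086, e3 q16618 L208215 q16611, e3 q16619 L208221 q12410, e3 q16620 L208239 q16620, e3 q16621 L208242 q12379, e3 q16622 L208256 q16081, e3 q16623 L208278 q16623, e3 q16624 L208281 q16140, e3 q16625 (flp_a L220512) q18115, e3 q16626 (flp_a L210232) q16850, e3 q16627 (flp_a L235417) q19943, e3 q16628 L208315 q12408, e3 q16629 L208325 q13934, e3 q16630 (flp_a L208363) q16635, e3 q16631 (flp_a L236559) q20077, e3 q16632 (flp_a L236472) q20066, e3 q16633 (flp_a L236518) q20073, e3 q16634 (flp_a L212701) q17172, e3 q16635 L208363 q16630, e3 q16636 L208371 q12468, e3 q16637 L208393 q14915, e3 q16638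 (flp_a L220920) q18167, e3 q16639 L208409 q12418, trivial⟩ (by decide +kernel)

theorem ce_a_260 : ∀ r, r < 64 → sm ga (Qf (16640 + r)) = Qf (tab Gen.a (16640 + r)) :=
  edges_tab (sm ga) Qf (tab Gen.a) 16640 [(16640, 12423), (16641, 16659), (16642, 14962), (16643, 18113), (16644, 12434), (16645, 14907), (16646, 12440), (16647, 16232), (16648, 14852), (16649, 12443), (16650, 17840), (16651, 12462), (16652, 13635), (16653, 17395), (16654, 13673), (16655, 13348), (16656, 12453), (16657, 20090), (16658, 12464), (16659, 16641), (16660, 20087), (16661, 14017), (16662, 16677), (16663, 14955), (16664, 12476), (16665, 16261), (16666, 14884), (16667, 12479), (16668, 17830), (16669, 12496), (16670, 13644), (16671, 17391), (16672, 13676), (16673, 13288), (16674, 12489), (16675, 20098), (16676, 12498), (16677, 16662), (16678, 20095), (16679, 13997), (16680, 16975), (16681, 17001), (16682, 16887), (16683, 12510), (16684, 12511), (16685, 20103), (16686, 20104), (16687, 14035), (16688, 16899), (16689, 12513), (16690, 12514), (16691,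 20111), (16692, 20112), (16693, 14092), (16694, 13032), (16695, 12956), (16696, 12523), (16697, 19089), (16698, 16704), (16699, 16994), (16700, 12525), (16701, 12526), (16702, 15491), (16703, 20123)]
    ⟨e3 q16640 (flp_a L208421) q12423, e3 q16641 (flp_a L208624) q16659, e3 q16642 L208455 q14962, e3 q16643 (flp_a L220490) q18113, e3 q16644 L208471 q12434, e3 q16645 L208495 q14907, e3 q16646 (flp_a L208497) q12440, e3 q16647 L208513 q16232, e3 q16648 L208523 q14852, e3 q16649 L208535 q12443, e3 q16650 (flp_a L218288) q17840, e3 q16651 L208552 q12462, e3 q16652 L208556 q13635, e3 q16653 (flp_a L214487) q17395, e3 q16654 L208572 q13673, e3 q16655 L208592 q13348, e3 q16656 L208596 q12453, e3 q16657 (flp_a L236671) q20090, e3 q16658 L208618 q12464, e3 q16659 L208624 q16641, e3 q16660 (flp_a L236635) q20087, e3 q16661 L208644 q14017, e3 q16662 (flp_a L208797) q16677, e3 q16663 L208668 q14955, e3 q16664 (flp_a L208670) q12476, e3 q16665 L208686 q16261, e3 q16666 L208696 q14884, e3 q16667 L208708 q12479, e3 q16668 (flp_a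 L218186) q17830, e3 q16669 L208725 q12496, e3 q16670 L208729 q13644, e3 q16671 (flp_a L214451) q17391, e3 q16672 L208745 q13676, e3 q16673 L208765 q13288, e3 q16674 L208769 q12489, e3 q16675 (flp_a L236753) q20098, e3 q16676 L208791 q12498, e3 q16677 L208797 q16662, e3 q16678 (flp_a L236717) q20095, e3 q16679 L208815 q13997, e3 q16680 (flp_a L211226) q16975, e3 q16681 (flp_a L211429) q17001, e3 q16682 (flp_a L210571) q16887, e3 q16683 L208845 q12510, e3 q16684 L208857 q12511, e3 q16685 (flp_a L236797) q20103, e3 q16686 (flp_a L236807) q20104, e3 q16687 L208877 q14035, e3 q16688 (flp_a L210665) q16899, e3 q16689 L208895 q12513, e3 q16690 L208901 q12514, e3 q16691 (flp_a L236881) q20111, e3 q16692 (flp_a L236891) q20112, e3 q16693 L208921 q14092, e3 q16694 L208933 q13032, e3 q16695 L208943 q12956, e3 q16696 (flp_a L208951) q12523, e3 q16697 (flp_a L228115) q19089, e3 q16698 (flp_a L209015) q16704, e3 q16699 (flp_a L211380) q16994, e3 q16700 L208983 q12525, e3 q16701 L208991 q12526, e3 q16702 L209003 q15491, e3 q16703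 (flp_a L236999) q20123, trivial⟩ (by decide +kernel)

theorem ce_a_261 : ∀ r, r < 64 → sm ga (Qf (16704 + r)) = Qf (tab Gen.a (16704 + r)) :=
  edges_tab (sm ga) Qf (tab Gen.a) 16704 [(16704, 16698), (16705, 12527), (16706, 19223), (16707, 16713), (16708, 16969), (16709, 12529), (16710, 12530), (16711, 15387), (16712, 20130), (16713, 16707), (16714, 12837), (16715, 12532), (16716, 14769), (16717, 20133), (16718, 12537), (16719, 14142), (16720, 12832), (16721, 12541), (16722, 14748), (16723, 20136), (16724, 12546), (16725, 14150), (16726, 19118), (16727, 12551), (16728, 20139), (16729, 16923), (16730, 18979), (16731, 12554), (16732, 20143), (16733, 16935), (16734, 12556), (16735, 20147), (16736, 13098), (16737, 12562), (16738, 20150), (16739, 13028), (16740, 12573), (16741, 13274), (16742, 12579), (16743, 13261), (16744, 12802), (16745, 12776), (16746, 17446), (16747, 12609), (16748, 18598), (16749, 17471), (16750, 12615), (16751, 18589), (16752, 20152), (16753, 12624), (16754, 20155), (16755, 16943), (16756, 12626),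 (16757, 16759), (16758, 12630), (16759, 16757), (16760, 20157), (16761, 12635), (16762, 20160), (16763, 16958), (16764, 12637), (16765, 16767), (16766, 12641), (16767, 16765)]
    ⟨e3 q16704 L209015 q16698, e3 q16705 (flp_a L209023) q12527, e3 q16706 (flp_a L229090) q19223, e3 q16707 (flp_a L209087) q16713, e3 q16708 (flp_a L211189) q16969, e3 q16709 L209055 q12529, e3 q16710 L209063 q12530, e3 q16711 L209075 q15387, e3 q16712 (flp_a L237069) q20130, e3 q16713 L209087 q16707, e3 q16714 L209103 q12837, e3 q16715 L209109 q12532, e3 q16716 L209119 q14769, e3 q16717 L237099 q20133, e3 q16718 L209133 q12537, e3 q16719 L209143 q14142, e3 q16720 L209161 q12832, e3 q16721 L209167 q12541, e3 q16722 L209177 q14748, e3 q16723 L237133 q20136, e3 q16724 L209191 q12546, e3 q16725 L209201 q14150, e3 q16726 (flp_a L228294) q19118, e3 q16727 (flp_a L209217) q12551, e3 q16728 (flp_a L237167) q20139, e3 q16729 (flp_a L210855) q16923, e3 q16730 (flp_a L227352) q18979, e3 q16731 (flp_a L209247) q12554, e3 q16732 (flp_a L237201) q20143,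 e3 q16733 (flp_a L210939) q16935, e3 q16734 L209273 q12556, e3 q16735 (flp_a L237241) q20147, e3 q16736 L209288 q13098, e3 q16737 L209296 q12562, e3 q16738 (flp_a L237267) q20150, e3 q16739 L209311 q13028, e3 q16740 (flp_a L209319) q12573, e3 q16741 L209327 q13274, e3 q16742 (flp_a L209337) q12579, e3 q16743 L209345 q13261, e3 q16744 L209365 q12802, e3 q16745 L209377 q12776, e3 q16746 (flp_a L215000) q17446, e3 q16747 (flp_a L209391) q12609, e3 q16748 (flp_a L224758) q18598, e3 q16749 (flp_a L215241) q17471, e3 q16750 (flp_a L209413) q12615, e3 q16751 (flp_a L224682) q18589, e3 q16752 L237279 q20152, e3 q16753 (flp_a L209429) q12624, e3 q16754 (flp_a L237297) q20155, e3 q16755 (flp_a L210983) q16943, e3 q16756 L209457 q12626, e3 q16757 (flp_a L209487) q16759, e3 q16758 L209477 q12630, e3 q16759 L209487 q16757, e3 q16760 L237320 q20157, e3 q16761 (flp_a L209501) q12635, e3 q16762 (flp_a L237338) q20160, e3 q16763 (flp_a L211091) q16958, e3 q16764 L209529 q12637, e3 q16765 (flp_a L209559) q16767, e3 q16766 L209549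 q12641, e3 q16767 L209559 q16765, trivial⟩ (by decide +kernel)

theorem ce_a_262 : ∀ r, r < 64 → sm ga (Qf (16768 + r)) = Qf (tab Gen.a (16768 + r)) :=
  edges_tab (sm ga) Qf (tab Gen.a) 16768 [(16768, 12681), (16769, 14890), (16770, 15574), (16771, 12707), (16772, 12706), (16773, 12711), (16774, 14859), (16775, 15814), (16776, 12678), (16777, 12677), (16778, 18084), (16779, 14156), (16780, 12669), (16781, 17029), (16782, 14891), (16783, 19749), (16784, 12670), (16785, 19273), (16786, 16835), (16787, 14837), (16788, 12675), (16789, 18937), (16790, 15951), (16791, 16801), (16792, 13959), (16793, 12680), (16794, 19691), (16795, 20149), (16796, 18570), (16797, 12687), (16798, 15960), (16799, 18914), (16800, 15961), (16801, 16791), (16802, 17909), (16803, 12919), (16804, 18138), (16805, 14177), (16806, 12698), (16807, 17120), (16808, 14860), (16809, 19845), (16810, 12699), (16811, 19506), (16812, 16842), (16813, 14805), (16814, 12704), (16815, 18882), (16816, 15724), (16817, 16827), (16818, 13935), (16819, 12709), (16820,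 19785), (16821, 18556), (16822, 20146), (16823, 12716), (16824, 15735), (16825, 18859), (16826, 15736), (16827, 16817), (16828, 17886), (16829, 12904), (16830, 19748), (16831, 12721)]
    ⟨e3 q16768 L209577 q12681, e3 q16769 L209581 q14890, e3 q16770 L209589 q15574, e3 q16771 L209611 q12707, e3 q16772 L209615 q12706, e3 q16773 L209635 q12711, e3 q16774 L209639 q14859, e3 q16775 L209647 q15814, e3 q16776 L209669 q12678, e3 q16777 L209673 q12677, e3 q16778 (flp_a L220294) q18084, e3 q16779 L209691 q14156, e3 q16780 L209701 q12669, e3 q16781 (flp_a L211675) q17029, e3 q16782 L209717 q14891, e3 q16783 (flp_a L233739) q19749, e3 q16784 (flp_a L209727) q12670, e3 q16785 (flp_a L229528) q19273, e3 q16786 (flp_a L210125) q16835, e3 q16787 (flp_a L209745) q14837, e3 q16788 L209751 q12675, e3 q16789 (flp_a L227068) q18937, e3 q16790 L209765 q15951, e3 q16791 (flp_a L209855) q16801, e3 q16792 L209787 q13959, e3 q16793 L209791 q12680, e3 q16794 (flp_a L233265) q19691, e3 q16795 (flp_a L237263) q20149, e3 q16796 (flp_a L224507)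 q18570, e3 q16797 L209823 q12687, e3 q16798 L209833 q15960, e3 q16799 (flp_a L226882) q18914, e3 q16800 L209845 q15961, e3 q16801 L209855 q16791, e3 q16802 (flp_a L218934) q17909, e3 q16803 L209873 q12919, e3 q16804 (flp_a L220724) q18138, e3 q16805 L209893 q14177, e3 q16806 L209903 q12698, e3 q16807 (flp_a L212343) q17120, e3 q16808 L209919 q14860, e3 q16809 (flp_a L234531) q19845, e3 q16810 (flp_a L209929) q12699, e3 q16811 (flp_a L231676) q19506, e3 q16812 (flp_a L210175) q16842, e3 q16813 (flp_a L209947) q14805, e3 q16814 L209953 q12704, e3 q16815 (flp_a L226643) q18882, e3 q16816 L209967 q15724, e3 q16817 (flp_a L210057) q16827, e3 q16818 (flp_a L209989) q13935, e3 q16819 L209993 q12709, e3 q16820 (flp_a L234019) q19785, e3 q16821 (flp_a L224385) q18556, e3 q16822 (flp_a L237237) q20146, e3 q16823 L210025 q12716, e3 q16824 L210035 q15735, e3 q16825 (flp_a L226471) q18859, e3 q16826 L210047 q15736, e3 q16827 L210057 q16817, e3 q16828 (flp_a L218712) q17886, e3 q16829 L210075 q12904, e3 q16830 (flp_a L233729)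 q19748, e3 q16831 L210095 q12721, trivial⟩ (by decide +kernel)

theorem ce_a_263 : ∀ r, r < 64 → sm ga (Qf (16832 + r)) = Qf (tab Gen.a (16832 + r)) :=
  edges_tab (sm ga) Qf (tab Gen.a) 16832 [(16832, 12722), (16833, 13887), (16834, 20199), (16835, 16786), (16836, 18542), (16837, 19844), (16838, 12728), (16839, 12729), (16840, 13900), (16841, 20203), (16842, 16812), (16843, 18550), (16844, 12734), (16845, 16845), (16846, 12743), (16847, 16847), (16848, 16603), (16849, 16849), (16850, 16626), (16851, 16851), (16852, 14477), (16853, 13004), (16854, 12763), (16855, 16323), (16856, 12770), (16857, 17452), (16858, 12773), (16859, 15962), (16860, 14481), (16861, 14526), (16862, 13077), (16863, 12788), (16864, 16467), (16865, 12795), (16866, 17477), (16867, 12798), (16868, 15737), (16869, 14530), (16870, 13297), (16871, 13356), (16872, 12824), (16873, 14539), (16874, 16896), (16875, 20125), (16876, 12826), (16877, 19700), (16878, 12951), (16879, 12828), (16880, 14590), (16881, 16907), (16882, 20118), (16883, 12830), (16884,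 19794), (16885, 12935), (16886, 12841), (16887, 16682), (16888, 15185), (16889, 12844), (16890, 12845), (16891, 17012), (16892, 14155), (16893, 18473), (16894, 20220), (16895, 20224)]
    ⟨e3 q16832 L210103 q12722, e3 q16833 L210111 q13887, e3 q16834 (flp_a L237675) q20199, e3 q16835 L210125 q16786, e3 q16836 (flp_a L224271) q18542, e3 q16837 (flp_a L234521) q19844, e3 q16838 L210145 q12728, e3 q16839 L210153 q12729, e3 q16840 L210161 q13900, e3 q16841 (flp_a L237717) q20203, e3 q16842 L210175 q16812, e3 q16843 (flp_a L224339) q18550, e3 q16844 L210189 q12734, e3 q16845 L210197 q16845, e3 q16846 L210200 q12743, e3 q16847 L210208 q16847, e3 q16848 L210211 q16603, e3 q16849 L210229 q16849, e3 q16850 L210232 q16626, e3 q16851 L210250 q16851, e3 q16852 L210259 q14477, e3 q16853 L210265 q13004, e3 q16854 (flp_a L210273) q12763, e3 q16855 L210285 q16323, e3 q16856 L210295 q12770, e3 q16857 (flp_a L215100) q17452, e3 q16858 L210309 q12773, e3 q16859 L210321 q15962, e3 q16860 L210331 q14481, e3 q16861 (flp_a L210347) q14526,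 e3 q16862 L210353 q13077, e3 q16863 (flp_a L210361) q12788, e3 q16864 L210373 q16467, e3 q16865 L210383 q12795, e3 q16866 (flp_a L215293) q17477, e3 q16867 L210397 q12798, e3 q16868 L210409 q15737, e3 q16869 L210419 q14530, e3 q16870 L210429 q13297, e3 q16871 L210441 q13356, e3 q16872 L210453 q12824, e3 q16873 L210463 q14539, e3 q16874 (flp_a L210639) q16896, e3 q16875 (flp_a L237029) q20125, e3 q16876 (flp_a L210485) q12826, e3 q16877 (flp_a L233347) q19700, e3 q16878 L210497 q12951, e3 q16879 L210507 q12828, e3 q16880 L210517 q14590, e3 q16881 (flp_a L210735) q16907, e3 q16882 (flp_a L236959) q20118, e3 q16883 (flp_a L210539) q12830, e3 q16884 (flp_a L234101) q19794, e3 q16885 L210551 q12935, e3 q16886 (flp_a L210559) q12841, e3 q16887 L210571 q16682, e3 q16888 L210583 q15185, e3 q16889 L210589 q12844, e3 q16890 L210597 q12845, e3 q16891 (flp_a L211521) q17012, e3 q16892 L210613 q14155, e3 q16893 (flp_a L223611) q18473, e3 q16894 (flp_a L237889) q20220, e3 q16895 L237915 q20224, trivial⟩ (by decide +kernel)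

theorem ce_a_264 : ∀ r, r < 64 → sm ga (Qf (16896 + r)) = Qf (tab Gen.a (16896 + r)) :=
  edges_tab (sm ga) Qf (tab Gen.a) 16896 [(16896, 16874), (16897, 12847), (16898, 15151), (16899, 16688), (16900, 12850), (16901, 12851), (16902, 16987), (16903, 14176), (16904, 18504), (16905, 20227), (16906, 20231), (16907, 16881), (16908, 15024), (16909, 15845), (16910, 15028), (16911, 15611), (16912, 12868), (16913, 15844), (16914, 15605), (16915, 17906), (16916, 16922), (16917, 18983), (16918, 15270), (16919, 20242), (16920, 12877), (16921, 20245), (16922, 16916), (16923, 16729), (16924, 12880), (16925, 15610), (16926, 15607), (16927, 17882), (16928, 16934), (16929, 19122), (16930, 15217), (16931, 20254), (16932, 12889), (16933, 20257), (16934, 16928), (16935, 16733), (16936, 19399), (16937, 12894), (16938, 19460), (16939, 20262), (16940, 12896), (16941, 12897), (16942, 20137), (16943, 16755), (16944, 16588), (16945, 12900), (16946, 18564), (16947, 20267), (16948, 15271), (16949, 15634), (16950, 18594), (16951, 19605),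 (16952, 12909), (16953, 19660), (16954, 20273), (16955, 12911), (16956, 12912), (16957, 20134), (16958, 16763), (16959, 16553)]
    ⟨e3 q16896 L210639 q16874, e3 q16897 (flp_a L210645) q12847, e3 q16898 L210659 q15151, e3 q16899 L210665 q16688, e3 q16900 L210685 q12850, e3 q16901 L210693 q12851, e3 q16902 (flp_a L211316) q16987, e3 q16903 L210709 q14176, e3 q16904 (flp_a L223917) q18504, e3 q16905 (flp_a L237931) q20227, e3 q16906 L237957 q20231, e3 q16907 L210735 q16881, e3 q16908 L210743 q15024, e3 q16909 L210751 q15845, e3 q16910 L210759 q15028, e3 q16911 L210767 q15611, e3 q16912 L210775 q12868, e3 q16913 L210789 q15844, e3 q16914 L210795 q15605, e3 q16915 (flp_a L218906) q17906, e3 q16916 (flp_a L210841) q16922, e3 q16917 (flp_a L227397) q18983, e3 q16918 L210815 q15270, e3 q16919 L238023 q20242, e3 q16920 L210827 q12877, e3 q16921 L238041 q20245, e3 q16922 L210841 q16916, e3 q16923 L210855 q16729, e3 q16924 L210859 q12880, e3 q16925 L210873 q15610, e3 q16926 L210879 q15607, e3 q16927 (flp_a L218674) q17882,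 e3 q16928 (flp_a L210925) q16934, e3 q16929 (flp_a L228337) q19122, e3 q16930 L210899 q15217, e3 q16931 L238097 q20254, e3 q16932 L210911 q12889, e3 q16933 L238121 q20257, e3 q16934 L210925 q16928, e3 q16935 L210939 q16733, e3 q16936 L230648 q19399, e3 q16937 (flp_a L210947) q12894, e3 q16938 (flp_a L231244) q19460, e3 q16939 (flp_a L238165) q20262, e3 q16940 L210959 q12896, e3 q16941 L210967 q12897, e3 q16942 (flp_a L237145) q20137, e3 q16943 L210983 q16755, e3 q16944 L210993 q16588, e3 q16945 L210999 q12900, e3 q16946 (flp_a L224453) q18564, e3 q16947 (flp_a L238203) q20267, e3 q16948 L211023 q15271, e3 q16949 L211033 q15634, e3 q16950 (flp_a L224721) q18594, e3 q16951 L232580 q19605, e3 q16952 (flp_a L211055) q12909, e3 q16953 (flp_a L233041) q19660, e3 q16954 (flp_a L238257) q20273, e3 q16955 L211067 q12911, e3 q16956 L211075 q12912, e3 q16957 (flp_a L237111) q20134, e3 q16958 L211091 q16763, e3 q16959 L211101 q16553, trivial⟩ (by decide +kernel)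

theorem ce_a_265 : ∀ r, r < 64 → sm ga (Qf (16960 + r)) = Qf (tab Gen.a (16960 + r)) :=
  edges_tab (sm ga) Qf (tab Gen.a) 16960 [(16960, 12915), (16961, 18569), (16962, 20278), (16963, 15218), (16964, 15868), (16965, 18583), (16966, 20110), (16967, 12922), (16968, 20282), (16969, 16708), (16970, 12924), (16971, 20285), (16972, 19119), (16973, 12927), (16974, 20290), (16975, 16680), (16976, 20168), (16977, 12928), (16978, 20294), (16979, 16984), (16980, 12930), (16981, 12931), (16982, 20296), (16983, 20297), (16984, 16979), (16985, 12933), (16986, 12934), (16987, 16902), (16988, 20219), (16989, 12936), (16990, 20145), (16991, 20102), (16992, 12938), (16993, 20302), (16994, 16699), (16995, 12940), (16996, 20305), (16997, 18980), (16998, 12943), (16999, 20310), (17000, 20185), (17001, 16681), (17002, 12944), (17003, 20314), (17004, 17009), (17005, 12946), (17006, 12947), (17007, 20316), (17008, 20317), (17009, 17004), (17010, 12949), (17011, 12950), (17012, 16891), (17013, 20216), (17014, 12952), (17015, 20141),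 (17016, 12961), (17017, 12962), (17018, 12963), (17019, 12972), (17020, 12973), (17021, 14309), (17022, 15031), (17023, 17025)]
    ⟨e3 q16960 L211107 q12915, e3 q16961 (flp_a L224497) q18569, e3 q16962 (flp_a L238299) q20278, e3 q16963 L211131 q15218, e3 q16964 L211141 q15868, e3 q16965 (flp_a L224617) q18583, e3 q16966 (flp_a L236867) q20110, e3 q16967 (flp_a L211169) q12922, e3 q16968 (flp_a L238335) q20282, e3 q16969 L211189 q16708, e3 q16970 L211199 q12924, e3 q16971 (flp_a L238361) q20285, e3 q16972 (flp_a L228303) q19119, e3 q16973 (flp_a L211210) q12927, e3 q16974 (flp_a L238396) q20290, e3 q16975 L211226 q16680, e3 q16976 (flp_a L237405) q20168, e3 q16977 (flp_a L211242) q12928, e3 q16978 (flp_a L238429) q20294, e3 q16979 (flp_a L211288) q16984, e3 q16980 L211266 q12930, e3 q16981 L211270 q12931, e3 q16982 (flp_a L238439) q20296, e3 q16983 (flp_a L238447) q20297, e3 q16984 L211288 q16979, e3 q16985 L211296 q12933, e3 q16986 L211304 q12934, e3 q16987 L211316 q16902, e3 q16988 (flp_a L237880) q20219, e3 q16989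 (flp_a L211332) q12936, e3 q16990 (flp_a L237217) q20145, e3 q16991 (flp_a L236783) q20102, e3 q16992 (flp_a L211360) q12938, e3 q16993 (flp_a L238491) q20302, e3 q16994 L211380 q16699, e3 q16995 L211392 q12940, e3 q16996 (flp_a L238517) q20305, e3 q16997 (flp_a L227363) q18980, e3 q16998 (flp_a L211403) q12943, e3 q16999 (flp_a L238552) q20310, e3 q17000 (flp_a L237551) q20185, e3 q17001 L211429 q16681, e3 q17002 (flp_a L211437) q12944, e3 q17003 (flp_a L238585) q20314, e3 q17004 (flp_a L211487) q17009, e3 q17005 L211465 q12946, e3 q17006 L211469 q12947, e3 q17007 (flp_a L238595) q20316, e3 q17008 (flp_a L238603) q20317, e3 q17009 L211487 q17004, e3 q17010 L211497 q12949, e3 q17011 L211511 q12950, e3 q17012 L211521 q16891, e3 q17013 (flp_a L237855) q20216, e3 q17014 (flp_a L211539) q12952, e3 q17015 (flp_a L237183) q20141, e3 q17016 L211561 q12961, e3 q17017 L211575 q12962, e3 q17018 L211587 q12963, e3 q17019 L211597 q12972, e3 q17020 L211603 q12973, e3 q17021 L211609 q14309, e3 q17022 L211619 q15031, e3 q17023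 (flp_a L211637) q17025, trivial⟩ (by decide +kernel)

theorem ce_a_266 : ∀ r, r < 64 → sm ga (Qf (17024 + r)) = Qf (tab Gen.a (17024 + r)) :=
  edges_tab (sm ga) Qf (tab Gen.a) 17024 [(17024, 18392), (17025, 17023), (17026, 17027), (17027, 17026), (17028, 20097), (17029, 16781), (17030, 13060), (17031, 17523), (17032, 17034), (17033, 20330), (17034, 17032), (17035, 19590), (17036, 12975), (17037, 17229), (17038, 17048), (17039, 20201), (17040, 19751), (17041, 12978), (17042, 20336), (17043, 19747), (17044, 19970), (17045, 12981), (17046, 19734), (17047, 14037), (17048, 17038), (17049, 12985), (17050, 12986), (17051, 20339), (17052, 19480), (17053, 20340), (17054, 13110), (17055, 12987), (17056, 20345), (17057, 17197), (17058, 20348), (17059, 20350), (17060, 12990), (17061, 13825), (17062, 17204), (17063, 20353), (17064, 12992), (17065, 13066), (17066, 20356), (17067, 12993), (17068, 14750), (17069, 12995), (17070, 16067), (17071, 20359), (17072, 17224), (17073, 19898), (17074, 12997), (17075, 20363), (17076, 17082),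 (17077, 16335), (17078, 12999), (17079, 13000), (17080, 20367), (17081, 20368), (17082, 17076), (17083, 13002), (17084, 17090), (17085, 20371), (17086, 16617), (17087, 18578)]
    ⟨e3 q17024 L223060 q18392, e3 q17025 L211637 q17023, e3 q17026 (flp_a L211653) q17027, e3 q17027 L211653 q17026, e3 q17028 (flp_a L236741) q20097, e3 q17029 L211675 q16781, e3 q17030 L211681 q13060, e3 q17031 (flp_a L215725) q17523, e3 q17032 (flp_a L211711) q17034, e3 q17033 L238731 q20330, e3 q17034 L211711 q17032, e3 q17035 L232436 q19590, e3 q17036 (flp_a L211723) q12975, e3 q17037 L213113 q17229, e3 q17038 (flp_a L211797) q17048, e3 q17039 (flp_a L237697) q20201, e3 q17040 (flp_a L233759) q19751, e3 q17041 (flp_a L211755) q12978, e3 q17042 (flp_a L238799) q20336, e3 q17043 L233723 q19747, e3 q17044 (flp_a L235671) q19970, e3 q17045 L211773 q12981, e3 q17046 L233619 q19734, e3 q17047 L211789 q14037, e3 q17048 L211797 q17038, e3 q17049 L211807 q12985, e3 q17050 L211815 q12986, e3 q17051 (flp_a L238835) q20339, e3 q17052 (flp_a L231428)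 q19480, e3 q17053 (flp_a L238843) q20340, e3 q17054 L211841 q13110, e3 q17055 (flp_a L211843) q12987, e3 q17056 (flp_a L238879) q20345, e3 q17057 (flp_a L212885) q17197, e3 q17058 L238917 q20348, e3 q17059 L238945 q20350, e3 q17060 L211881 q12990, e3 q17061 L211889 q13825, e3 q17062 (flp_a L212945) q17204, e3 q17063 L238981 q20353, e3 q17064 (flp_a L211915) q12992, e3 q17065 L222547 q13066, e3 q17066 (flp_a L239007) q20356, e3 q17067 (flp_a L211929) q12993, e3 q17068 L211941 q14750, e3 q17069 L211951 q12995, e3 q17070 L211961 q16067, e3 q17071 (flp_a L239039) q20359, e3 q17072 (flp_a L213075) q17224, e3 q17073 (flp_a L234993) q19898, e3 q17074 (flp_a L211987) q12997, e3 q17075 (flp_a L239079) q20363, e3 q17076 (flp_a L212039) q17082, e3 q17077 L212007 q16335, e3 q17078 L212013 q12999, e3 q17079 L212019 q13000, e3 q17080 (flp_a L239111) q20367, e3 q17081 (flp_a L239115) q20368, e3 q17082 L212039 q17076, e3 q17083 L212047 q13002, e3 q17084 (flp_a L212101) q17090, e3 q17085 (flp_a L239143) q20371, e3 q17086 L212065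 q16617, e3 q17087 (flp_a L224575) q18578, trivial⟩ (by decide +kernel)

theorem ce_a_267 : ∀ r, r < 64 → sm ga (Qf (17088 + r)) = Qf (tab Gen.a (17088 + r)) :=
  edges_tab (sm ga) Qf (tab Gen.a) 17088 [(17088, 13005), (17089, 20378), (17090, 17084), (17091, 20381), (17092, 13009), (17093, 19895), (17094, 13011), (17095, 19872), (17096, 20384), (17097, 13015), (17098, 19876), (17099, 18869), (17100, 13082), (17101, 18698), (17102, 13144), (17103, 13023), (17104, 18721), (17105, 20388), (17106, 20036), (17107, 13037), (17108, 13038), (17109, 13039), (17110, 13047), (17111, 13048), (17112, 14364), (17113, 15032), (17114, 18454), (17115, 17116), (17116, 17115), (17117, 17118), (17118, 17117), (17119, 20089), (17120, 16807), (17121, 17525), (17122, 20331), (17123, 17124), (17124, 17123), (17125, 13049), (17126, 17305), (17127, 17138), (17128, 20205), (17129, 19375), (17130, 19843), (17131, 13053), (17132, 20332), (17133, 19841), (17134, 19951), (17135, 13056), (17136, 19827), (17137, 14094), (17138, 17127), (17139, 13059),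 (17140, 20402), (17141, 19240), (17142, 20326), (17143, 13168), (17144, 13061), (17145, 20351), (17146, 17273), (17147, 20349), (17148, 20409), (17149, 13064), (17150, 13873), (17151, 17280)]
    ⟨e3 q17088 (flp_a L212081) q13005, e3 q17089 (flp_a L239191) q20378, e3 q17090 L212101 q17084, e3 q17091 L239225 q20381, e3 q17092 (flp_a L212117) q13009, e3 q17093 L234969 q19895, e3 q17094 L212135 q13011, e3 q17095 (flp_a L234751) q19872, e3 q17096 L239251 q20384, e3 q17097 L212163 q13015, e3 q17098 (flp_a L234799) q19876, e3 q17099 (flp_a L226541) q18869, e3 q17100 L212187 q13082, e3 q17101 L225437 q18698, e3 q17102 L212203 q13144, e3 q17103 L212207 q13023, e3 q17104 (flp_a L225629) q18721, e3 q17105 (flp_a L239291) q20388, e3 q17106 (flp_a L236247) q20036, e3 q17107 L212229 q13037, e3 q17108 L212243 q13038, e3 q17109 L212253 q13039, e3 q17110 L212265 q13047, e3 q17111 L212271 q13048, e3 q17112 L212277 q14364, e3 q17113 L212287 q15032, e3 q17114 L223497 q18454, e3 q17115 (flp_a L212305) q17116, e3 q17116 L212305 q17115,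 e3 q17117 (flp_a L212321) q17118, e3 q17118 L212321 q17117, e3 q17119 (flp_a L236659) q20089, e3 q17120 L212343 q16807, e3 q17121 (flp_a L215741) q17525, e3 q17122 (flp_a L238747) q20331, e3 q17123 (flp_a L212367) q17124, e3 q17124 L212367 q17123, e3 q17125 (flp_a L212373) q13049, e3 q17126 (flp_a L213621) q17305, e3 q17127 (flp_a L212453) q17138, e3 q17128 (flp_a L237739) q20205, e3 q17129 (flp_a L230422) q19375, e3 q17130 (flp_a L234509) q19843, e3 q17131 (flp_a L212411) q13053, e3 q17132 (flp_a L238761) q20332, e3 q17133 (flp_a L234491) q19841, e3 q17134 (flp_a L235489) q19951, e3 q17135 L212429 q13056, e3 q17136 L234367 q19827, e3 q17137 L212445 q14094, e3 q17138 L212453 q17127, e3 q17139 L212463 q13059, e3 q17140 (flp_a L239425) q20402, e3 q17141 (flp_a L229234) q19240, e3 q17142 (flp_a L238683) q20326, e3 q17143 (flp_a L212485) q13168, e3 q17144 (flp_a L212487) q13061, e3 q17145 (flp_a L238969) q20351, e3 q17146 (flp_a L213387) q17273, e3 q17147 (flp_a L238933) q20349, e3 q17148 L239481 q20409, e3 q17149 L212525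 q13064, e3 q17150 L212533 q13873, e3 q17151 (flp_a L213447) q17280, trivial⟩ (by decide +kernel)

theorem ce_a_268 : ∀ r, r < 64 → sm ga (Qf (17152 + r)) = Qf (tab Gen.a (17152 + r)) :=
  edges_tab (sm ga) Qf (tab Gen.a) 17152 [(17152, 20357), (17153, 20354), (17154, 13067), (17155, 14771), (17156, 13069), (17157, 16142), (17158, 17300), (17159, 19911), (17160, 13071), (17161, 20413), (17162, 17167), (17163, 16476), (17164, 13073), (17165, 13074), (17166, 20417), (17167, 17162), (17168, 13076), (17169, 17174), (17170, 20418), (17171, 18565), (17172, 16634), (17173, 13079), (17174, 17169), (17175, 13080), (17176, 19908), (17177, 19853), (17178, 13086), (17179, 19857), (17180, 18924), (17181, 18705), (17182, 13203), (17183, 13094), (17184, 18732), (17185, 20056), (17186, 19308), (17187, 16501), (17188, 20429), (17189, 20431), (17190, 20344), (17191, 13109), (17192, 19923), (17193, 13112), (17194, 14065), (17195, 17436), (17196, 19696), (17197, 17057), (17198, 19713), (17199, 14570), (17200, 13119), (17201, 20438),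 (17202, 13824), (17203, 19505), (17204, 17062), (17205, 13120), (17206, 20442), (17207, 17213), (17208, 18371), (17209, 13123), (17210, 13124), (17211, 17802), (17212, 20446), (17213, 17207), (17214, 13129), (17215, 13130)]
    ⟨e3 q17152 (flp_a L239019) q20357, e3 q17153 (flp_a L238993) q20354, e3 q17154 (flp_a L212573) q13067, e3 q17155 L212585 q14771, e3 q17156 L212595 q13069, e3 q17157 L212605 q16142, e3 q17158 (flp_a L213577) q17300, e3 q17159 (flp_a L235113) q19911, e3 q17160 (flp_a L212623) q13071, e3 q17161 (flp_a L239525) q20413, e3 q17162 (flp_a L212667) q17167, e3 q17163 L212643 q16476, e3 q17164 L212649 q13073, e3 q17165 L212655 q13074, e3 q17166 (flp_a L239569) q20417, e3 q17167 L212667 q17162, e3 q17168 L212675 q13076, e3 q17169 (flp_a L212721) q17174, e3 q17170 (flp_a L239575) q20418, e3 q17171 (flp_a L224463) q18565, e3 q17172 L212701 q16634, e3 q17173 (flp_a L212709) q13079, e3 q17174 L212721 q17169, e3 q17175 (flp_a L212729) q13080, e3 q17176 (flp_a L235091) q19908, e3 q17177 (flp_a L234605) q19853,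 e3 q17178 L212755 q13086, e3 q17179 (flp_a L234653) q19857, e3 q17180 (flp_a L226952) q18924, e3 q17181 L225500 q18705, e3 q17182 L212783 q13203, e3 q17183 L212787 q13094, e3 q17184 (flp_a L225741) q18732, e3 q17185 (flp_a L236386) q20056, e3 q17186 (flp_a L229870) q19308, e3 q17187 (flp_a L212817) q16501, e3 q17188 L239673 q20429, e3 q17189 L239695 q20431, e3 q17190 L238873 q20344, e3 q17191 (flp_a L212839) q13109, e3 q17192 (flp_a L235215) q19923, e3 q17193 L212855 q13112, e3 q17194 L212865 q14065, e3 q17195 (flp_a L214892) q17436, e3 q17196 (flp_a L233313) q19696, e3 q17197 L212885 q17057, e3 q17198 (flp_a L233447) q19713, e3 q17199 L212901 q14570, e3 q17200 L212913 q13119, e3 q17201 L239761 q20438, e3 q17202 L212933 q13824, e3 q17203 (flp_a L231668) q19505, e3 q17204 L212945 q17062, e3 q17205 (flp_a L212951) q13120, e3 q17206 (flp_a L239797) q20442, e3 q17207 (flp_a L212997) q17213, e3 q17208 L222519 q18371, e3 q17209 L212975 q13123, e3 q17210 L212979 q13124, e3 q17211 (flp_a L217882) q17802, e3 q17212 (flp_a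 L239825) q20446, e3 q17213 L212997 q17207, e3 q17214 L213005 q13129, e3 q17215 L213015 q13130, trivial⟩ (by decide +kernel)

theorem ce_a_269 : ∀ r, r < 64 → sm ga (Qf (17216 + r)) = Qf (tab Gen.a (17216 + r)) :=
  edges_tab (sm ga) Qf (tab Gen.a) 17216 [(17216, 18710), (17217, 13127), (17218, 17948), (17219, 18545), (17220, 16065), (17221, 16066), (17222, 20450), (17223, 19693), (17224, 17072), (17225, 13131), (17226, 17234), (17227, 18567), (17228, 17896), (17229, 17037), (17230, 17879), (17231, 13140), (17232, 19692), (17233, 19694), (17234, 17226), (17235, 18383), (17236, 18394), (17237, 18395), (17238, 20387), (17239, 18900), (17240, 19961), (17241, 13148), (17242, 13149), (17243, 13150), (17244, 13151), (17245, 16483), (17246, 18699), (17247, 19854), (17248, 20464), (17249, 20465), (17250, 20466), (17251, 17252), (17252, 17251), (17253, 20477), (17254, 15172), (17255, 13155), (17256, 13156), (17257, 13157), (17258, 20483), (17259, 19331), (17260, 17261), (17261, 17260), (17262, 19536), (17263, 16367), (17264,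 20487), (17265, 20406), (17266, 20490), (17267, 13169), (17268, 19984), (17269, 13171), (17270, 14118), (17271, 17461), (17272, 19791), (17273, 17146), (17274, 19808), (17275, 14621), (17276, 13178), (17277, 20496), (17278, 13874), (17279, 19272)]
    ⟨e3 q17216 (flp_a L225542) q18710, e3 q17217 (flp_a L213029) q13127, e3 q17218 (flp_a L219318) q17948, e3 q17219 (flp_a L224295) q18545, e3 q17220 L213051 q16065, e3 q17221 L213057 q16066, e3 q17222 (flp_a L239857) q20450, e3 q17223 (flp_a L233279) q19693, e3 q17224 L213075 q17072, e3 q17225 (flp_a L213081) q13131, e3 q17226 (flp_a L213145) q17234, e3 q17227 (flp_a L224477) q18567, e3 q17228 (flp_a L218818) q17896, e3 q17229 (flp_a L213113) q17037, e3 q17230 (flp_a L218640) q17879, e3 q17231 L213125 q13140, e3 q17232 (flp_a L233269) q19692, e3 q17233 (flp_a L233289) q19694, e3 q17234 L213145 q17226, e3 q17235 (flp_a L223004) q18383, e3 q17236 (flp_a L223068) q18394, e3 q17237 (flp_a L223074) q18395, e3 q17238 (flp_a L239277) q20387, e3 q17239 L226778 q18900, e3 q17240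 (flp_a L235583) q19961, e3 q17241 L213181 q13148, e3 q17242 L213185 q13149, e3 q17243 L213193 q13150, e3 q17244 L213199 q13151, e3 q17245 L213207 q16483, e3 q17246 (flp_a L225441) q18699, e3 q17247 (flp_a L234625) q19854, e3 q17248 (flp_a L239999) q20464, e3 q17249 (flp_a L240007) q20465, e3 q17250 (flp_a L240015) q20466, e3 q17251 (flp_a L213243) q17252, e3 q17252 L213243 q17251, e3 q17253 L240075 q20477, e3 q17254 L214068 q15172, e3 q17255 L213258 q13155, e3 q17256 L213264 q13156, e3 q17257 L213268 q13157, e3 q17258 (flp_a L240121) q20483, e3 q17259 (flp_a L230080) q19331, e3 q17260 (flp_a L213297) q17261, e3 q17261 L213297 q17260, e3 q17262 (flp_a L231960) q19536, e3 q17263 (flp_a L213319) q16367, e3 q17264 L240151 q20487, e3 q17265 L239451 q20406, e3 q17266 L240179 q20490, e3 q17267 (flp_a L213341) q13169, e3 q17268 (flp_a L235801) q19984, e3 q17269 L213357 q13171, e3 q17270 L213367 q14118, e3 q17271 (flp_a L215131) q17461, e3 q17272 (flp_a L234077) q19791, e3 q17273 L213387 q17146, e3 q17274 (flp_a L234207)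 q19808, e3 q17275 L213403 q14621, e3 q17276 L213415 q13178, e3 q17277 L240239 q20496, e3 q17278 L213435 q13874, e3 q17279 (flp_a L229520) q19272, trivial⟩ (by decide +kernel)

theorem ce_a_270 : ∀ r, r < 64 → sm ga (Qf (17280 + r)) = Qf (tab Gen.a (17280 + r)) :=
  edges_tab (sm ga) Qf (tab Gen.a) 17280 [(17280, 17151), (17281, 13179), (17282, 20500), (17283, 17289), (17284, 18434), (17285, 13182), (17286, 13183), (17287, 17817), (17288, 20504), (17289, 17283), (17290, 13188), (17291, 13189), (17292, 18703), (17293, 13186), (17294, 17938), (17295, 18541), (17296, 16141), (17297, 16143), (17298, 20508), (17299, 19788), (17300, 17158), (17301, 13190), (17302, 17310), (17303, 18580), (17304, 17918), (17305, 17126), (17306, 17903), (17307, 13199), (17308, 19786), (17309, 19787), (17310, 17302), (17311, 18445), (17312, 18456), (17313, 18457), (17314, 20426), (17315, 19953), (17316, 18845), (17317, 13207), (17318, 13208), (17319, 13209), (17320, 13210), (17321, 18706), (17322, 16341), (17323, 19873), (17324, 20522), (17325,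 20523), (17326, 20524), (17327, 17328), (17328, 17327), (17329, 20535), (17330, 15206), (17331, 13214), (17332, 13215), (17333, 13216), (17334, 19557), (17335, 20541), (17336, 17337), (17337, 17336), (17338, 19338), (17339, 16412), (17340, 17638), (17341, 15916), (17342, 18922), (17343, 18923)]
    ⟨e3 q17280 L213447 q17151, e3 q17281 (flp_a L213453) q13179, e3 q17282 (flp_a L240275) q20500, e3 q17283 (flp_a L213499) q17289, e3 q17284 L223337 q18434, e3 q17285 L213477 q13182, e3 q17286 L213481 q13183, e3 q17287 (flp_a L218028) q17817, e3 q17288 (flp_a L240305) q20504, e3 q17289 L213499 q17283, e3 q17290 L213507 q13188, e3 q17291 L213517 q13189, e3 q17292 (flp_a L225479) q18703, e3 q17293 (flp_a L213531) q13186, e3 q17294 (flp_a L219214) q17938, e3 q17295 (flp_a L224259) q18541, e3 q17296 L213553 q16141, e3 q17297 L213559 q16143, e3 q17298 (flp_a L240341) q20508, e3 q17299 (flp_a L234041) q19788, e3 q17300 L213577 q17158, e3 q17301 (flp_a L213583) q13190, e3 q17302 (flp_a L213653) q17310, e3 q17303 (flp_a L224589)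 q18580, e3 q17304 (flp_a L219030) q17918, e3 q17305 L213621 q17126, e3 q17306 (flp_a L218872) q17903, e3 q17307 L213631 q13199, e3 q17308 (flp_a L234023) q19786, e3 q17309 (flp_a L234033) q19787, e3 q17310 L213653 q17302, e3 q17311 (flp_a L223431) q18445, e3 q17312 (flp_a L223505) q18456, e3 q17313 (flp_a L223511) q18457, e3 q17314 (flp_a L239641) q20426, e3 q17315 (flp_a L235505) q19953, e3 q17316 L226379 q18845, e3 q17317 L213691 q13207, e3 q17318 L213695 q13208, e3 q17319 L213703 q13209, e3 q17320 L213709 q13210, e3 q17321 (flp_a L225504) q18706, e3 q17322 (flp_a L213727) q16341, e3 q17323 (flp_a L234771) q19873, e3 q17324 (flp_a L240485) q20522, e3 q17325 (flp_a L240493) q20523, e3 q17326 (flp_a L240499) q20524, e3 q17327 (flp_a L213753) q17328, e3 q17328 L213753 q17327, e3 q17329 L240563 q20535, e3 q17330 L214389 q15206, e3 q17331 L213768 q13214, e3 q17332 L213774 q13215, e3 q17333 L213780 q13216, e3 q17334 (flp_a L232152) q19557, e3 q17335 (flp_a L240615) q20541, e3 q17336 (flp_a L213803) q17337, e3 q17337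 L213803 q17336, e3 q17338 (flp_a L230154) q19338, e3 q17339 L213819 q16412, e3 q17340 (flp_a L216625) q17638, e3 q17341 L213836 q15916, e3 q17342 (flp_a L226930) q18922, e3 q17343 (flp_a L226944) q18923, trivial⟩ (by decide +kernel)

theorem ce_a_271 : ∀ r, r < 64 → sm ga (Qf (17344 + r)) = Qf (tab Gen.a (17344 + r)) :=
  edges_tab (sm ga) Qf (tab Gen.a) 17344 [(17344, 20546), (17345, 13225), (17346, 13226), (17347, 15719), (17348, 15720), (17349, 15721), (17350, 15286), (17351, 15248), (17352, 13229), (17353, 13230), (17354, 17355), (17355, 17354), (17356, 13233), (17357, 13234), (17358, 13235), (17359, 20562), (17360, 16157), (17361, 20558), (17362, 20559), (17363, 17388), (17364, 20560), (17365, 17389), (17366, 19337), (17367, 16519), (17368, 17710), (17369, 15686), (17370, 18867), (17371, 18868), (17372, 20572), (17373, 13245), (17374, 13246), (17375, 15945), (17376, 15946), (17377, 15947), (17378, 15233), (17379, 15301), (17380, 13249), (17381, 13250), (17382, 17383), (17383, 17382), (17384, 13252), (17385,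 13253), (17386, 16172), (17387, 20583), (17388, 17363), (17389, 17365), (17390, 18360), (17391, 16671), (17392, 16516), (17393, 17411), (17394, 18422), (17395, 16653), (17396, 16407), (17397, 17427), (17398, 15670), (17399, 13722), (17400, 13293), (17401, 13298), (17402, 17637), (17403, 14561), (17404, 13311), (17405, 13320), (17406, 17409), (17407, 16333)]
    ⟨e3 q17344 L240658 q20546, e3 q17345 L213869 q13225, e3 q17346 L213877 q13226, e3 q17347 L213885 q15719, e3 q17348 L213895 q15720, e3 q17349 L213905 q15721, e3 q17350 (flp_a L222836) q15286, e3 q17351 L214064 q15248, e3 q17352 L213933 q13229, e3 q17353 L213939 q13230, e3 q17354 (flp_a L213951) q17355, e3 q17355 L213951 q17354, e3 q17356 L213972 q13233, e3 q17357 L213976 q13234, e3 q17358 L213980 q13235, e3 q17359 L240794 q20562, e3 q17360 L214002 q16157, e3 q17361 (flp_a L240760) q20558, e3 q17362 (flp_a L240770) q20559, e3 q17363 L222890 q17388, e3 q17364 (flp_a L240780) q20560, e3 q17365 L222872 q17389, e3 q17366 (flp_a L230144) q19337, e3 q17367 L214124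 q16519, e3 q17368 (flp_a L217198) q17710, e3 q17369 L214141 q15686, e3 q17370 (flp_a L226519) q18867, e3 q17371 (flp_a L226527) q18868, e3 q17372 L240888 q20572, e3 q17373 L214174 q13245, e3 q17374 L214184 q13246, e3 q17375 L214194 q15945, e3 q17376 L214204 q15946, e3 q17377 L214214 q15947, e3 q17378 (flp_a L222775) q15233, e3 q17379 L214385 q15301, e3 q17380 L214246 q13249, e3 q17381 L214254 q13250, e3 q17382 (flp_a L214270) q17383, e3 q17383 L214270 q17382, e3 q17384 L214293 q13252, e3 q17385 L214297 q13253, e3 q17386 L214323 q16172, e3 q17387 (flp_a L240996) q20583, e3 q17388 (flp_a L222890) q17363, e3 q17389 (flp_a L222872) q17365, e3 q17390 (flp_a L222449) q18360, e3 q17391 L214451 q16671, e3 q17392 L214461 q16516, e3 q17393 (flp_a L214645) q17411, e3 q17394 (flp_a L223263) q18422, e3 q17395 L214487 q16653, e3 q17396 L214499 q16407, e3 q17397 (flp_a L214807) q17427, e3 q17398 L214517 q15670, e3 q17399 L214521 q13722, e3 q17400 (flp_a L214529) q13293, e3 q17401 (flp_a L214539) q13298, e3 q17402 (flp_a L216613)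 q17637, e3 q17403 L214557 q14561, e3 q17404 (flp_a L214567) q13311, e3 q17405 L214579 q13320, e3 q17406 (flp_a L214613) q17409, e3 q17407 L214593 q16333, trivial⟩ (by decide +kernel)

theorem ce_a_272 : ∀ r, r < 64 → sm ga (Qf (17408 + r)) = Qf (tab Gen.a (17408 + r)) :=
  edges_tab (sm ga) Qf (tab Gen.a) 17408 [(17408, 13325), (17409, 17406), (17410, 16613), (17411, 17393), (17412, 13337), (17413, 17424), (17414, 13339), (17415, 13428), (17416, 15900), (17417, 13747), (17418, 13357), (17419, 13358), (17420, 17709), (17421, 14611), (17422, 13370), (17423, 13375), (17424, 17413), (17425, 16475), (17426, 16609), (17427, 17397), (17428, 13385), (17429, 13481), (17430, 16462), (17431, 14987), (17432, 19665), (17433, 13392), (17434, 14979), (17435, 19303), (17436, 17195), (17437, 15545), (17438, 19715), (17439, 13413), (17440, 13408), (17441, 15867), (17442, 16529), (17443, 13422), (17444, 15865), (17445, 17472), (17446, 16746), (17447, 17470), (17448, 13433), (17449, 19986), (17450, 16576), (17451, 13435), (17452, 16857),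 (17453, 13438), (17454, 17828), (17455, 16313), (17456, 13443), (17457, 14931), (17458, 19531), (17459, 14939), (17460, 19759), (17461, 17271), (17462, 15794), (17463, 19809), (17464, 13465), (17465, 13460), (17466, 15633), (17467, 16564), (17468, 13474), (17469, 15631), (17470, 17447), (17471, 16749)]
    ⟨e3 q17408 L214605 q13325, e3 q17409 L214613 q17406, e3 q17410 L214625 q16613, e3 q17411 L214645 q17393, e3 q17412 (flp_a L214647) q13337, e3 q17413 (flp_a L214763) q17424, e3 q17414 (flp_a L214661) q13339, e3 q17415 L214675 q13428, e3 q17416 L214689 q15900, e3 q17417 L214693 q13747, e3 q17418 (flp_a L214701) q13357, e3 q17419 (flp_a L214711) q13358, e3 q17420 (flp_a L217184) q17709, e3 q17421 L214729 q14611, e3 q17422 (flp_a L214739) q13370, e3 q17423 L214751 q13375, e3 q17424 L214763 q17413, e3 q17425 L214775 q16475, e3 q17426 L214787 q16609, e3 q17427 L214807 q17397, e3 q17428 (flp_a L214809) q13385, e3 q17429 L214823 q13481, e3 q17430 L214841 q16462, e3 q17431 L214847 q14987, e3 q17432 (flp_a L233085) q19665,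 e3 q17433 (flp_a L214860) q13392, e3 q17434 L214870 q14979, e3 q17435 (flp_a L229814) q19303, e3 q17436 L214892 q17195, e3 q17437 L214900 q15545, e3 q17438 (flp_a L233461) q19715, e3 q17439 L214918 q13413, e3 q17440 (flp_a L214928) q13408, e3 q17441 L214942 q15867, e3 q17442 L214952 q16529, e3 q17443 L214966 q13422, e3 q17444 L214976 q15865, e3 q17445 (flp_a L215253) q17472, e3 q17446 L215000 q16746, e3 q17447 (flp_a L215227) q17470, e3 q17448 (flp_a L215016) q13433, e3 q17449 (flp_a L235828) q19986, e3 q17450 L215034 q16576, e3 q17451 (flp_a L215042) q13435, e3 q17452 L215100 q16857, e3 q17453 L215054 q13438, e3 q17454 (flp_a L218172) q17828, e3 q17455 L215076 q16313, e3 q17456 (flp_a L215080) q13443, e3 q17457 L215090 q14931, e3 q17458 (flp_a L231904) q19531, e3 q17459 L215116 q14939, e3 q17460 (flp_a L233833) q19759, e3 q17461 L215131 q17271, e3 q17462 L215139 q15794, e3 q17463 (flp_a L234215) q19809, e3 q17464 L215157 q13465, e3 q17465 (flp_a L215167) q13460, e3 q17466 L215181 q15633, e3 q17467 L215191 q16564,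 e3 q17468 L215205 q13474, e3 q17469 L215215 q15631, e3 q17470 L215227 q17447, e3 q17471 L215241 q16749, trivial⟩ (by decide +kernel)

theorem ce_a_273 : ∀ r, r < 64 → sm ga (Qf (17472 + r)) = Qf (tab Gen.a (17472 + r)) :=
  edges_tab (sm ga) Qf (tab Gen.a) 17472 [(17472, 17445), (17473, 13486), (17474, 19925), (17475, 16541), (17476, 13487), (17477, 16866), (17478, 13490), (17479, 17829), (17480, 13505), (17481, 13506), (17482, 20595), (17483, 17877), (17484, 13511), (17485, 20596), (17486, 14965), (17487, 20017), (17488, 13520), (17489, 13529), (17490, 13530), (17491, 20597), (17492, 17865), (17493, 13535), (17494, 20598), (17495, 14917), (17496, 19980), (17497, 13544), (17498, 17498), (17499, 17873), (17500, 13574), (17501, 15915), (17502, 17502), (17503, 17503), (17504, 17861), (17505, 13595), (17506, 15685), (17507, 17507), (17508, 13598), (17509, 13599), (17510, 16002), (17511, 20599), (17512, 13601), (17513, 13602), (17514, 16078), (17515, 20601), (17516, 13610), (17517, 17941), (17518, 13614), (17519, 17951),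 (17520, 13721), (17521, 13746), (17522, 14442), (17523, 17031), (17524, 14491), (17525, 17121), (17526, 13859), (17527, 13623), (17528, 20432), (17529, 16278), (17530, 13810), (17531, 13627), (17532, 20491), (17533, 16433), (17534, 17537), (17535, 13636)]
    ⟨e3 q17472 L215253 q17445, e3 q17473 (flp_a L215259) q13486, e3 q17474 (flp_a L235242) q19925, e3 q17475 L215277 q16541, e3 q17476 (flp_a L215285) q13487, e3 q17477 L215293 q16866, e3 q17478 L215301 q13490, e3 q17479 (flp_a L218182) q17829, e3 q17480 L215317 q13505, e3 q17481 L215327 q13506, e3 q17482 (flp_a L241110) q20595, e3 q17483 (flp_a L218626) q17877, e3 q17484 L215357 q13511, e3 q17485 (flp_a L241122) q20596, e3 q17486 L215381 q14965, e3 q17487 (flp_a L236111) q20017, e3 q17488 (flp_a L215395) q13520, e3 q17489 L215405 q13529, e3 q17490 L215415 q13530, e3 q17491 (flp_a L241132) q20597, e3 q17492 (flp_a L218522) q17865, e3 q17493 L215445 q13535, e3 q17494 (flp_a L241144) q20598, e3 q17495 L215469 q14917, e3 q17496 (flp_a L235761) q19980, e3 q17497 (flp_a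 L215483) q13544, e3 q17498 L215497 q17498, e3 q17499 (flp_a L218580) q17873, e3 q17500 L215508 q13574, e3 q17501 L215520 q15915, e3 q17502 L215536 q17502, e3 q17503 L215547 q17503, e3 q17504 (flp_a L218476) q17861, e3 q17505 L215558 q13595, e3 q17506 L215570 q15685, e3 q17507 L215590 q17507, e3 q17508 L215593 q13598, e3 q17509 L215602 q13599, e3 q17510 L215612 q16002, e3 q17511 (flp_a L241154) q20599, e3 q17512 L215629 q13601, e3 q17513 L215638 q13602, e3 q17514 L215650 q16078, e3 q17515 (flp_a L241182) q20601, e3 q17516 L215667 q13610, e3 q17517 (flp_a L219248) q17941, e3 q17518 L215683 q13614, e3 q17519 (flp_a L219352) q17951, e3 q17520 L215699 q13721, e3 q17521 L215709 q13746, e3 q17522 L215719 q14442, e3 q17523 L215725 q17031, e3 q17524 L215735 q14491, e3 q17525 L215741 q17121, e3 q17526 L215751 q13859, e3 q17527 L215763 q13623, e3 q17528 (flp_a L239707) q20432, e3 q17529 L215777 q16278, e3 q17530 L215785 q13810, e3 q17531 L215797 q13627, e3 q17532 (flp_a L240191) q20491, e3 q17533 L215811 q16433, e3 q17534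 (flp_a L215845) q17537, e3 q17535 L215825 q13636, trivial⟩ (by decide +kernel)

theorem ce_a_274 : ∀ r, r < 64 → sm ga (Qf (17536 + r)) = Qf (tab Gen.a (17536 + r)) :=
  edges_tab (sm ga) Qf (tab Gen.a) 17536 [(17536, 20088), (17537, 17534), (17538, 17541), (17539, 13645), (17540, 20096), (17541, 17538), (17542, 13660), (17543, 13654), (17544, 17610), (17545, 19383), (17546, 19384), (17547, 15918), (17548, 13886), (17549, 17582), (17550, 19597), (17551, 19277), (17552, 15688), (17553, 13837), (17554, 14937), (17555, 14984), (17556, 14130), (17557, 14079), (17558, 17847), (17559, 17837), (17560, 18001), (17561, 18006), (17562, 18236), (17563, 20328), (17564, 19520), (17565, 13726), (17566, 18482), (17567, 18098), (17568, 20105), (17569, 17643), (17570, 20628), (17571, 20191), (17572, 13729), (17573, 20633), (17574, 18111), (17575, 13731), (17576, 13735), (17577, 17588), (17578, 14664), (17579, 13738), (17580, 19987), (17581, 20635), (17582, 17549), (17583, 13740), (17584, 19306), (17585, 17945), (17586, 13743), (17587,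 20644), (17588, 17577), (17589, 20647), (17590, 18295), (17591, 20397), (17592, 19291), (17593, 13751), (17594, 18510), (17595, 18152), (17596, 20113), (17597, 17715), (17598, 20655), (17599, 20174)]
    ⟨e3 q17536 (flp_a L236647) q20088, e3 q17537 L215845 q17534, e3 q17538 (flp_a L215881) q17541, e3 q17539 L215861 q13645, e3 q17540 (flp_a L236729) q20096, e3 q17541 L215881 q17538, e3 q17542 L215899 q13660, e3 q17543 L215911 q13654, e3 q17544 (flp_a L216403) q17610, e3 q17545 L230492 q19383, e3 q17546 (flp_a L230496) q19384, e3 q17547 L215932 q15918, e3 q17548 L215946 q13886, e3 q17549 (flp_a L216205) q17582, e3 q17550 L232498 q19597, e3 q17551 (flp_a L229568) q19277, e3 q17552 L215977 q15688, e3 q17553 L215991 q13837, e3 q17554 L216005 q14937, e3 q17555 L216014 q14984, e3 q17556 L216023 q14130, e3 q17557 L216032 q14079, e3 q17558 (flp_a L218358) q17847, e3 q17559 (flp_a L218256) q17837, e3 q17560 (flp_a L219714) q18001, e3 q17561 (flp_a L219742) q18006, e3 q17562 (flp_a L221440) q18236, e3 q17563 (flp_a L238709)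 q20328, e3 q17564 (flp_a L231800) q19520, e3 q17565 L216089 q13726, e3 q17566 (flp_a L223695) q18482, e3 q17567 (flp_a L220400) q18098, e3 q17568 (flp_a L236817) q20105, e3 q17569 (flp_a L216661) q17643, e3 q17570 L241434 q20628, e3 q17571 L237609 q20191, e3 q17572 (flp_a L216133) q13729, e3 q17573 (flp_a L241464) q20633, e3 q17574 (flp_a L220470) q18111, e3 q17575 L216149 q13731, e3 q17576 L216161 q13735, e3 q17577 (flp_a L216249) q17588, e3 q17578 L216185 q14664, e3 q17579 L216189 q13738, e3 q17580 (flp_a L235834) q19987, e3 q17581 (flp_a L241474) q20635, e3 q17582 L216205 q17549, e3 q17583 (flp_a L216215) q13740, e3 q17584 (flp_a L229850) q19306, e3 q17585 (flp_a L219284) q17945, e3 q17586 L216233 q13743, e3 q17587 L241562 q20644, e3 q17588 L216249 q17577, e3 q17589 L241596 q20647, e3 q17590 (flp_a L221896) q18295, e3 q17591 (flp_a L239373) q20397, e3 q17592 L229692 q19291, e3 q17593 L216287 q13751, e3 q17594 (flp_a L223977) q18510, e3 q17595 (flp_a L220830) q18152, e3 q17596 (flp_a L236901) q20113, e3 q17597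 (flp_a L217234) q17715, e3 q17598 L241668 q20655, e3 q17599 L237463 q20174, trivial⟩ (by decide +kernel)

theorem ce_a_275 : ∀ r, r < 64 → sm ga (Qf (17600 + r)) = Qf (tab Gen.a (17600 + r)) :=
  edges_tab (sm ga) Qf (tab Gen.a) 17600 [(17600, 13754), (17601, 20660), (17602, 18165), (17603, 13756), (17604, 13760), (17605, 17616), (17606, 14691), (17607, 13763), (17608, 19926), (17609, 20639), (17610, 17544), (17611, 13765), (17612, 19535), (17613, 17935), (17614, 13768), (17615, 20669), (17616, 17605), (17617, 20672), (17618, 14245), (17619, 14400), (17620, 18458), (17621, 18389), (17622, 14265), (17623, 14422), (17624, 18396), (17625, 18451), (17626, 13787), (17627, 14452), (17628, 13800), (17629, 13801), (17630, 18436), (17631, 13793), (17632, 20408), (17633, 20678), (17634, 13795), (17635, 13796), (17636, 19745), (17637, 17402), (17638, 17340), (17639, 18234), (17640, 17880), (17641, 20675), (17642, 20682), (17643, 17569), (17644, 13802), (17645, 18268), (17646, 20685), (17647, 20338), (17648, 13805), (17649,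 13854), (17650, 19830), (17651, 13807), (17652, 13808), (17653, 20688), (17654, 20689), (17655, 16064), (17656, 17662), (17657, 19389), (17658, 19596), (17659, 13811), (17660, 20407), (17661, 17915), (17662, 17656), (17663, 13813)]
    ⟨e3 q17600 (flp_a L216331) q13754, e3 q17601 (flp_a L241698) q20660, e3 q17602 (flp_a L220900) q18165, e3 q17603 L216347 q13756, e3 q17604 L216359 q13760, e3 q17605 (flp_a L216447) q17616, e3 q17606 L216383 q14691, e3 q17607 L216387 q13763, e3 q17608 (flp_a L235248) q19926, e3 q17609 (flp_a L241510) q20639, e3 q17610 L216403 q17544, e3 q17611 (flp_a L216413) q13765, e3 q17612 (flp_a L231948) q19535, e3 q17613 (flp_a L219180) q17935, e3 q17614 L216431 q13768, e3 q17615 L241778 q20669, e3 q17616 L216447 q17605, e3 q17617 L241814 q20672, e3 q17618 L216465 q14245, e3 q17619 L216471 q14400, e3 q17620 (flp_a L223517) q18458, e3 q17621 (flp_a L223032) q18389, e3 q17622 L216491 q14265, e3 q17623 L216497 q14422, e3 q17624 (flp_a L223080) q18396, e3 q17625 (flp_a L223463) q18451, e3 q17626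 (flp_a L216517) q13787, e3 q17627 L216529 q14452, e3 q17628 L216539 q13800, e3 q17629 L216545 q13801, e3 q17630 (flp_a L223351) q18436, e3 q17631 (flp_a L216557) q13793, e3 q17632 (flp_a L239479) q20408, e3 q17633 (flp_a L241876) q20678, e3 q17634 L216571 q13795, e3 q17635 L216583 q13796, e3 q17636 (flp_a L233705) q19745, e3 q17637 L216613 q17402, e3 q17638 L216625 q17340, e3 q17639 (flp_a L221426) q18234, e3 q17640 (flp_a L218652) q17880, e3 q17641 (flp_a L241852) q20675, e3 q17642 L241914 q20682, e3 q17643 L216661 q17569, e3 q17644 (flp_a L216669) q13802, e3 q17645 (flp_a L221690) q18268, e3 q17646 L241934 q20685, e3 q17647 (flp_a L238825) q20338, e3 q17648 (flp_a L216683) q13805, e3 q17649 L222529 q13854, e3 q17650 (flp_a L234389) q19830, e3 q17651 L216697 q13807, e3 q17652 L216705 q13808, e3 q17653 (flp_a L241962) q20688, e3 q17654 (flp_a L241970) q20689, e3 q17655 L216727 q16064, e3 q17656 (flp_a L216791) q17662, e3 q17657 L230556 q19389, e3 q17658 (flp_a L232490) q19596, e3 q17659 (flp_a L216761) q13811, e3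 q17660 (flp_a L239457) q20407, e3 q17661 (flp_a L218996) q17915, e3 q17662 L216791 q17656, e3 q17663 L216803 q13813, trivial⟩ (by decide +kernel)

theorem ce_a_276 : ∀ r, r < 64 → sm ga (Qf (17664 + r)) = Qf (tab Gen.a (17664 + r)) :=
  edges_tab (sm ga) Qf (tab Gen.a) 17664 [(17664, 13814), (17665, 16054), (17666, 20692), (17667, 17691), (17668, 16097), (17669, 20696), (17670, 13818), (17671, 20571), (17672, 15245), (17673, 14564), (17674, 14567), (17675, 14573), (17676, 14574), (17677, 17678), (17678, 17677), (17679, 13831), (17680, 13832), (17681, 13833), (17682, 15879), (17683, 13830), (17684, 19710), (17685, 20701), (17686, 19031), (17687, 20699), (17688, 20700), (17689, 17689), (17690, 14399), (17691, 17667), (17692, 20709), (17693, 13835), (17694, 20610), (17695, 19928), (17696, 14986), (17697, 14976), (17698, 13838), (17699, 14501), (17700, 13849), (17701, 13850), (17702, 18376), (17703, 13843), (17704, 20347), (17705, 20715), (17706, 13845), (17707, 13846), (17708, 19838), (17709, 17420), (17710, 17368),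 (17711, 18293), (17712, 17904), (17713, 20712), (17714, 20719), (17715, 17597), (17716, 13851), (17717, 18325), (17718, 20722), (17719, 20401), (17720, 19737), (17721, 13856), (17722, 13857), (17723, 20725), (17724, 16138), (17725, 17730), (17726, 19382), (17727, 19381)]
    ⟨e3 q17664 L216811 q13814, e3 q17665 L221672 q16054, e3 q17666 (flp_a L242004) q20692, e3 q17667 (flp_a L217033) q17691, e3 q17668 (flp_a L216841) q16097, e3 q17669 L242042 q20696, e3 q17670 L216855 q13818, e3 q17671 (flp_a L240878) q20571, e3 q17672 L216869 q15245, e3 q17673 L216881 q14564, e3 q17674 L216893 q14567, e3 q17675 L216903 q14573, e3 q17676 L216920 q14574, e3 q17677 (flp_a L216938) q17678, e3 q17678 L216938 q17677, e3 q17679 L216950 q13831, e3 q17680 L216958 q13832, e3 q17681 L216968 q13833, e3 q17682 (flp_a L216984) q15879, e3 q17683 (flp_a L216986) q13830, e3 q17684 (flp_a L233425) q19710, e3 q17685 (flp_a L242108) q20701, e3 q17686 (flp_a L227750) q19031, e3 q17687 (flp_a L242080) q20699, e3 q17688 (flp_a L242094) q20700, e3 q17689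 L227183 q17689, e3 q17690 L217023 q14399, e3 q17691 L217033 q17667, e3 q17692 L242190 q20709, e3 q17693 (flp_a L217046) q13835, e3 q17694 (flp_a L241290) q20610, e3 q17695 (flp_a L235268) q19928, e3 q17696 L217068 q14986, e3 q17697 L217080 q14976, e3 q17698 (flp_a L217090) q13838, e3 q17699 L217102 q14501, e3 q17700 L217112 q13849, e3 q17701 L217118 q13850, e3 q17702 (flp_a L222938) q18376, e3 q17703 (flp_a L217130) q13843, e3 q17704 (flp_a L238915) q20347, e3 q17705 (flp_a L242238) q20715, e3 q17706 L217144 q13845, e3 q17707 L217156 q13846, e3 q17708 (flp_a L234463) q19838, e3 q17709 L217184 q17420, e3 q17710 L217198 q17368, e3 q17711 (flp_a L221878) q18293, e3 q17712 (flp_a L218884) q17904, e3 q17713 (flp_a L242214) q20712, e3 q17714 L242278 q20719, e3 q17715 L217234 q17597, e3 q17716 (flp_a L217242) q13851, e3 q17717 (flp_a L222120) q18325, e3 q17718 L242298 q20722, e3 q17719 (flp_a L239415) q20401, e3 q17720 (flp_a L233641) q19737, e3 q17721 L217270 q13856, e3 q17722 L217278 q13857, e3 q17723 (flp_a L242328)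 q20725, e3 q17724 L217292 q16138, e3 q17725 (flp_a L217346) q17730, e3 q17726 L230484 q19382, e3 q17727 (flp_a L230474) q19381, trivial⟩ (by decide +kernel)

theorem ce_a_277 : ∀ r, r < 64 → sm ga (Qf (17728 + r)) = Qf (tab Gen.a (17728 + r)) :=
  edges_tab (sm ga) Qf (tab Gen.a) 17728 [(17728, 13860), (17729, 20346), (17730, 17725), (17731, 17893), (17732, 13862), (17733, 13863), (17734, 16128), (17735, 20727), (17736, 17759), (17737, 16020), (17738, 13867), (17739, 20545), (17740, 15299), (17741, 14616), (17742, 14618), (17743, 14624), (17744, 14625), (17745, 17746), (17746, 17745), (17747, 13880), (17748, 13881), (17749, 13882), (17750, 15646), (17751, 13879), (17752, 19805), (17753, 19168), (17754, 20734), (17755, 20732), (17756, 20733), (17757, 17757), (17758, 14421), (17759, 17736), (17760, 20742), (17761, 13884), (17762, 20607), (17763, 19988), (17764, 14938), (17765, 14928), (17766, 19504), (17767, 13891), (17768, 13892), (17769, 13893), (17770, 13894), (17771, 15875), (17772, 15971), (17773, 19434), (17774,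 20745), (17775, 20746), (17776, 13906), (17777, 13905), (17778, 20202), (17779, 13897), (17780, 13898), (17781, 13899), (17782, 20755), (17783, 20756), (17784, 17785), (17785, 17784), (17786, 19271), (17787, 13904), (17788, 13907), (17789, 15642), (17790, 15746), (17791, 19635)]
    ⟨e3 q17728 (flp_a L217326) q13860, e3 q17729 (flp_a L238893) q20346, e3 q17730 L217346 q17725, e3 q17731 (flp_a L218784) q17893, e3 q17732 L217368 q13862, e3 q17733 L217376 q13863, e3 q17734 L217386 q16128, e3 q17735 (flp_a L242350) q20727, e3 q17736 (flp_a L217589) q17759, e3 q17737 (flp_a L217412) q16020, e3 q17738 L217418 q13867, e3 q17739 (flp_a L240648) q20545, e3 q17740 L217432 q15299, e3 q17741 L217444 q14616, e3 q17742 L217456 q14618, e3 q17743 L217466 q14624, e3 q17744 L217474 q14625, e3 q17745 (flp_a L217494) q17746, e3 q17746 L217494 q17745, e3 q17747 L217506 q13880, e3 q17748 L217514 q13881, e3 q17749 L217524 q13882, e3 q17750 (flp_a L217540) q15646, e3 q17751 (flp_a L217542) q13879, e3 q17752 (flp_a L234181) q19805, e3 q17753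 (flp_a L228671) q19168, e3 q17754 (flp_a L242432) q20734, e3 q17755 (flp_a L242404) q20732, e3 q17756 (flp_a L242418) q20733, e3 q17757 L227360 q17757, e3 q17758 L217579 q14421, e3 q17759 L217589 q17736, e3 q17760 L242514 q20742, e3 q17761 (flp_a L217602) q13884, e3 q17762 (flp_a L241259) q20607, e3 q17763 (flp_a L235840) q19988, e3 q17764 L217624 q14938, e3 q17765 L217636 q14928, e3 q17766 (flp_a L231662) q19504, e3 q17767 L217656 q13891, e3 q17768 L217662 q13892, e3 q17769 L217670 q13893, e3 q17770 L217676 q13894, e3 q17771 L217692 q15875, e3 q17772 L217696 q15971, e3 q17773 (flp_a L231064) q19434, e3 q17774 (flp_a L242538) q20745, e3 q17775 (flp_a L242550) q20746, e3 q17776 L217714 q13906, e3 q17777 L217724 q13905, e3 q17778 (flp_a L237709) q20202, e3 q17779 L217738 q13897, e3 q17780 L217744 q13898, e3 q17781 L217748 q13899, e3 q17782 (flp_a L242636) q20755, e3 q17783 (flp_a L242648) q20756, e3 q17784 (flp_a L217769) q17785, e3 q17785 L217769 q17784, e3 q17786 (flp_a L229514) q19271, e3 q17787 L217783 q13904,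 e3 q17788 L217789 q13907, e3 q17789 (flp_a L217805) q15642, e3 q17790 L217809 q15746, e3 q17791 (flp_a L232849) q19635, trivial⟩ (by decide +kernel)

theorem ce_a_278 : ∀ r, r < 64 → sm ga (Qf (17792 + r)) = Qf (tab Gen.a (17792 + r)) :=
  edges_tab (sm ga) Qf (tab Gen.a) 17792 [(17792, 20752), (17793, 20758), (17794, 20198), (17795, 13910), (17796, 13911), (17797, 13912), (17798, 20766), (17799, 20767), (17800, 17801), (17801, 17800), (17802, 17211), (17803, 13914), (17804, 13915), (17805, 17806), (17806, 17805), (17807, 13918), (17808, 13919), (17809, 13920), (17810, 20777), (17811, 20773), (17812, 15734), (17813, 20774), (17814, 17826), (17815, 20775), (17816, 17827), (17817, 17287), (17818, 13923), (17819, 13924), (17820, 17821), (17821, 17820), (17822, 13926), (17823, 13927), (17824, 20788), (17825, 15959), (17826, 17814), (17827, 17816), (17828, 17454), (17829, 17479), (17830, 16668), (17831, 17925), (17832, 14714), (17833, 14981), (17834, 14146), (17835, 16306), (17836, 13952), (17837, 17559), (17838, 13993),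 (17839, 13958), (17840, 16650), (17841, 17924), (17842, 14733), (17843, 14932), (17844, 14137), (17845, 16455), (17846, 13973), (17847, 17558), (17848, 14012), (17849, 13978), (17850, 13980), (17851, 18586), (17852, 13984), (17853, 18587), (17854, 13991), (17855, 14918)]
    ⟨e3 q17792 (flp_a L242606) q20752, e3 q17793 (flp_a L242671) q20758, e3 q17794 (flp_a L237667) q20198, e3 q17795 L217839 q13910, e3 q17796 L217845 q13911, e3 q17797 L217849 q13912, e3 q17798 (flp_a L242751) q20766, e3 q17799 (flp_a L242763) q20767, e3 q17800 (flp_a L217870) q17801, e3 q17801 L217870 q17800, e3 q17802 L217882 q17211, e3 q17803 L217886 q13914, e3 q17804 L217896 q13915, e3 q17805 (flp_a L217916) q17806, e3 q17806 L217916 q17805, e3 q17807 L217928 q13918, e3 q17808 L217936 q13919, e3 q17809 L217946 q13920, e3 q17810 L242860 q20777, e3 q17811 (flp_a L242826) q20773, e3 q17812 L217970 q15734, e3 q17813 (flp_a L242834) q20774, e3 q17814 L222886 q17826, e3 q17815 (flp_a L242846) q20775, e3 q17816 L222878 q17827, e3 q17817 L218028 q17287,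 e3 q17818 L218032 q13923, e3 q17819 L218042 q13924, e3 q17820 (flp_a L218062) q17821, e3 q17821 L218062 q17820, e3 q17822 L218074 q13926, e3 q17823 L218082 q13927, e3 q17824 (flp_a L242949) q20788, e3 q17825 L218116 q15959, e3 q17826 (flp_a L222886) q17814, e3 q17827 (flp_a L222878) q17816, e3 q17828 L218172 q17454, e3 q17829 L218182 q17479, e3 q17830 L218186 q16668, e3 q17831 (flp_a L219086) q17925, e3 q17832 L218210 q14714, e3 q17833 L218214 q14981, e3 q17834 L218232 q14146, e3 q17835 L218240 q16306, e3 q17836 (flp_a L218244) q13952, e3 q17837 L218256 q17559, e3 q17838 L218272 q13993, e3 q17839 (flp_a L218276) q13958, e3 q17840 L218288 q16650, e3 q17841 (flp_a L219074) q17924, e3 q17842 L218312 q14733, e3 q17843 L218316 q14932, e3 q17844 L218334 q14137, e3 q17845 L218342 q16455, e3 q17846 (flp_a L218346) q13973, e3 q17847 L218358 q17558, e3 q17848 L218376 q14012, e3 q17849 (flp_a L218378) q13978, e3 q17850 (flp_a L218388) q13980, e3 q17851 (flp_a L224650) q18586, e3 q17852 (flp_a L218404) q13984, e3 q17853 (flp_a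 L224674) q18587, e3 q17854 L218422 q13991, e3 q17855 L218432 q14918, trivial⟩ (by decide +kernel)

theorem ce_a_279 : ∀ r, r < 64 → sm ga (Qf (17856 + r)) = Qf (tab Gen.a (17856 + r)) :=
  edges_tab (sm ga) Qf (tab Gen.a) 17856 [(17856, 14191), (17857, 13996), (17858, 20590), (17859, 20791), (17860, 18538), (17861, 17504), (17862, 14004), (17863, 17899), (17864, 14782), (17865, 17492), (17866, 14010), (17867, 14966), (17868, 14171), (17869, 14015), (17870, 20594), (17871, 20795), (17872, 18534), (17873, 17499), (17874, 14023), (17875, 17921), (17876, 14816), (17877, 17483), (17878, 14034), (17879, 17230), (17880, 17640), (17881, 20109), (17882, 16927), (17883, 14040), (17884, 16301), (17885, 14052), (17886, 16828), (17887, 20801), (17888, 14538), (17889, 14055), (17890, 14793), (17891, 14806), (17892, 14133), (17893, 17731), (17894, 14076), (17895, 14073), (17896, 17228), (17897, 20804), (17898, 14662), (17899, 17863), (17900, 18797), (17901, 18609), (17902, 14091), (17903, 17306), (17904, 17712), (17905, 20117),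 (17906, 16915), (17907, 16299), (17908, 14106), (17909, 16802), (17910, 20811), (17911, 14589), (17912, 14825), (17913, 14838), (17914, 14136), (17915, 17661), (17916, 14127), (17917, 14124), (17918, 17304), (17919, 20814)]
    ⟨e3 q17856 L218442 q14191, e3 q17857 L218450 q13996, e3 q17858 (flp_a L241064) q20590, e3 q17859 (flp_a L242973) q20791, e3 q17860 (flp_a L224233) q18538, e3 q17861 L218476 q17504, e3 q17862 L218488 q14004, e3 q17863 (flp_a L218848) q17899, e3 q17864 L218504 q14782, e3 q17865 L218522 q17492, e3 q17866 L218526 q14010, e3 q17867 L218536 q14966, e3 q17868 L218546 q14171, e3 q17869 L218554 q14015, e3 q17870 (flp_a L241098) q20594, e3 q17871 (flp_a L243007) q20795, e3 q17872 (flp_a L224187) q18534, e3 q17873 L218580 q17499, e3 q17874 L218592 q14023, e3 q17875 (flp_a L219060) q17921, e3 q17876 L218608 q14816, e3 q17877 L218626 q17483, e3 q17878 L218630 q14034, e3 q17879 L218640 q17230, e3 q17880 L218652 q17640, e3 q17881 (flp_a L236857) q20109, e3 q17882 L218674 q16927, e3 q17883 L218678 q14040,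 e3 q17884 L218696 q16301, e3 q17885 L218700 q14052, e3 q17886 L218712 q16828, e3 q17887 (flp_a L243059) q20801, e3 q17888 L218730 q14538, e3 q17889 (flp_a L218740) q14055, e3 q17890 L218754 q14793, e3 q17891 L218764 q14806, e3 q17892 L218774 q14133, e3 q17893 L218784 q17731, e3 q17894 L218798 q14076, e3 q17895 L218806 q14073, e3 q17896 L218818 q17228, e3 q17897 (flp_a L243101) q20804, e3 q17898 L218836 q14662, e3 q17899 L218848 q17863, e3 q17900 (flp_a L226103) q18797, e3 q17901 (flp_a L224861) q18609, e3 q17902 L218862 q14091, e3 q17903 L218872 q17306, e3 q17904 L218884 q17712, e3 q17905 (flp_a L236941) q20117, e3 q17906 L218906 q16915, e3 q17907 L218918 q16299, e3 q17908 L218922 q14106, e3 q17909 L218934 q16802, e3 q17910 (flp_a L243185) q20811, e3 q17911 L218952 q14589, e3 q17912 L218964 q14825, e3 q17913 L218974 q14838, e3 q17914 L218984 q14136, e3 q17915 L218996 q17661, e3 q17916 L219010 q14127, e3 q17917 L219018 q14124, e3 q17918 L219030 q17304, e3 q17919 (flp_a L243227) q20814, trivial⟩ (by decide +kernel)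

theorem ce_a_280 : ∀ r, r < 64 → sm ga (Qf (17920 + r)) = Qf (tab Gen.a (17920 + r)) :=
  edges_tab (sm ga) Qf (tab Gen.a) 17920 [(17920, 14694), (17921, 17875), (17922, 18746), (17923, 18604), (17924, 17841), (17925, 17831), (17926, 15009), (17927, 20667), (17928, 14141), (17929, 15021), (17930, 20642), (17931, 14151), (17932, 20164), (17933, 19948), (17934, 14162), (17935, 17613), (17936, 14168), (17937, 14170), (17938, 17294), (17939, 18378), (17940, 14989), (17941, 17517), (17942, 20181), (17943, 20007), (17944, 14184), (17945, 17585), (17946, 14189), (17947, 14192), (17948, 17218), (17949, 18440), (17950, 14941), (17951, 17519), (17952, 18619), (17953, 15827), (17954, 18634), (17955, 15587), (17956, 18003), (17957, 17988), (17958, 19718), (17959, 15189), (17960, 19007), (17961, 18007), (17962, 17996), (17963, 19813), (17964, 15155), (17965, 19147), (17966, 14302), (17967, 14210), (17968, 19123), (17969, 14357), (17970, 14212), (17971, 18984), (17972, 14215), (17973, 14216), (17974, 20623), (17975, 20621),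 (17976, 20831), (17977, 20833), (17978, 14219), (17979, 14220), (17980, 20650), (17981, 20648), (17982, 20834), (17983, 20836)]
    ⟨e3 q17920 L219048 q14694, e3 q17921 L219060 q17875, e3 q17922 (flp_a L225831) q18746, e3 q17923 (flp_a L224813) q18604, e3 q17924 L219074 q17841, e3 q17925 L219086 q17831, e3 q17926 L219098 q15009, e3 q17927 (flp_a L241762) q20667, e3 q17928 L219116 q14141, e3 q17929 L219128 q15021, e3 q17930 (flp_a L241546) q20642, e3 q17931 L219146 q14151, e3 q17932 (flp_a L237375) q20164, e3 q17933 (flp_a L235459) q19948, e3 q17934 L219170 q14162, e3 q17935 L219180 q17613, e3 q17936 L219190 q14168, e3 q17937 L219200 q14170, e3 q17938 L219214 q17294, e3 q17939 (flp_a L222948) q18378, e3 q17940 L219234 q14989, e3 q17941 L219248 q17517, e3 q17942 (flp_a L237521) q20181, e3 q17943 (flp_a L236023) q20007, e3 q17944 L219272 q14184, e3 q17945 L219284 q17585, e3 q17946 L219294 q14189, e3 q17947 L219304 q14192, e3 q17948 L219318 q17218, e3 q17949 (flp_a L223375) q18440, e3 q17950 L219338 q14941, e3 q17951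 L219352 q17519, e3 q17952 (flp_a L224955) q18619, e3 q17953 L219374 q15827, e3 q17954 (flp_a L225063) q18634, e3 q17955 L219394 q15587, e3 q17956 (flp_a L219726) q18003, e3 q17957 (flp_a L219618) q17988, e3 q17958 (flp_a L233487) q19718, e3 q17959 L219422 q15189, e3 q17960 (flp_a L227600) q19007, e3 q17961 (flp_a L219752) q18007, e3 q17962 (flp_a L219686) q17996, e3 q17963 (flp_a L234249) q19813, e3 q17964 L219454 q15155, e3 q17965 (flp_a L228535) q19147, e3 q17966 L219468 q14302, e3 q17967 (flp_a L219474) q14210, e3 q17968 (flp_a L228349) q19123, e3 q17969 L219489 q14357, e3 q17970 (flp_a L219495) q14212, e3 q17971 (flp_a L227444) q18984, e3 q17972 L219510 q14215, e3 q17973 L219518 q14216, e3 q17974 (flp_a L241400) q20623, e3 q17975 (flp_a L241384) q20621, e3 q17976 (flp_a L243433) q20831, e3 q17977 L243449 q20833, e3 q17978 L219550 q14219, e3 q17979 L219558 q14220, e3 q17980 (flp_a L241634) q20650, e3 q17981 (flp_a L241618) q20648, e3 q17982 (flp_a L243459) q20834, e3 q17983 L243475 q20836, trivial⟩ (by decide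 +kernel)

theorem ce_a_281 : ∀ r, r < 64 → sm ga (Qf (17984 + r)) = Qf (tab Gen.a (17984 + r)) :=
  edges_tab (sm ga) Qf (tab Gen.a) 17984 [(17984, 14223), (17985, 14224), (17986, 20837), (17987, 20839), (17988, 17957), (17989, 14225), (17990, 18047), (17991, 15167), (17992, 14229), (17993, 14230), (17994, 20841), (17995, 20843), (17996, 17962), (17997, 14231), (17998, 18076), (17999, 15202), (18000, 18617), (18001, 17560), (18002, 18618), (18003, 17956), (18004, 18632), (18005, 18633), (18006, 17561), (18007, 17961), (18008, 14238), (18009, 20847), (18010, 18785), (18011, 14240), (18012, 20852), (18013, 20853), (18014, 14242), (18015, 20854), (18016, 18836), (18017, 14244), (18018, 20859), (18019, 20860), (18020, 18082), (18021, 18616), (18022, 19097), (18023, 18025), (18024, 20866), (18025, 18023), (18026, 15052), (18027, 20868), (18028, 14254), (18029, 18117), (18030, 20869), (18031, 18045), (18032, 20872), (18033, 18641), (18034, 19095), (18035, 14257), (18036, 20875), (18037, 15097), (18038, 20876), (18039,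 14261), (18040, 14262), (18041, 19301), (18042, 18128), (18043, 18502), (18044, 19668), (18045, 18031), (18046, 14263), (18047, 17990)]
    ⟨e3 q17984 L219592 q14223, e3 q17985 L219600 q14224, e3 q17986 (flp_a L243487) q20837, e3 q17987 L243507 q20839, e3 q17988 L219618 q17957, e3 q17989 (flp_a L219626) q14225, e3 q17990 (flp_a L220014) q18047, e3 q17991 L219640 q15167, e3 q17992 L219660 q14229, e3 q17993 L219668 q14230, e3 q17994 (flp_a L243521) q20841, e3 q17995 L243541 q20843, e3 q17996 L219686 q17962, e3 q17997 (flp_a L219694) q14231, e3 q17998 (flp_a L220230) q18076, e3 q17999 (flp_a L220032) q15202, e3 q18000 (flp_a L224929) q18617, e3 q18001 L219714 q17560, e3 q18002 (flp_a L224941) q18618, e3 q18003 L219726 q17956, e3 q18004 (flp_a L225037) q18632, e3 q18005 (flp_a L225049) q18633, e3 q18006 L219742 q17561, e3 q18007 L219752 q17961, e3 q18008 (flp_a L219760) q14238, e3 q18009 (flp_a L243571) q20847, e3 q18010 (flp_a L226033) q18785, e3 q18011 L219781 q14240, e3 q18012 (flp_a L243619) q20852, e3 q18013 (flp_a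 L243629) q20853, e3 q18014 (flp_a L219793) q14242, e3 q18015 (flp_a L243639) q20854, e3 q18016 (flp_a L226319) q18836, e3 q18017 L219816 q14244, e3 q18018 (flp_a L243687) q20859, e3 q18019 (flp_a L243697) q20860, e3 q18020 (flp_a L220282) q18082, e3 q18021 (flp_a L224923) q18616, e3 q18022 (flp_a L228164) q19097, e3 q18023 (flp_a L219860) q18025, e3 q18024 L243749 q20866, e3 q18025 L219860 q18023, e3 q18026 L219870 q15052, e3 q18027 L243763 q20868, e3 q18028 L219882 q14254, e3 q18029 (flp_a L220534) q18117, e3 q18030 (flp_a L243779) q20869, e3 q18031 (flp_a L219998) q18045, e3 q18032 L243811 q20872, e3 q18033 (flp_a L225103) q18641, e3 q18034 (flp_a L228150) q19095, e3 q18035 (flp_a L219932) q14257, e3 q18036 (flp_a L243847) q20875, e3 q18037 L219950 q15097, e3 q18038 (flp_a L243861) q20876, e3 q18039 L219962 q14261, e3 q18040 L219970 q14262, e3 q18041 L229780 q19301, e3 q18042 (flp_a L220640) q18128, e3 q18043 (flp_a L223903) q18502, e3 q18044 (flp_a L233111) q19668, e3 q18045 L219998 q18031, e3 q18046 (flp_a L220004)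 q14263, e3 q18047 L220014 q17990, trivial⟩ (by decide +kernel)

theorem ce_a_282 : ∀ r, r < 64 → sm ga (Qf (18048 + r)) = Qf (tab Gen.a (18048 + r)) :=
  edges_tab (sm ga) Qf (tab Gen.a) 18048 [(18048, 18723), (18049, 18136), (18050, 18950), (18051, 18631), (18052, 20889), (18053, 18054), (18054, 18053), (18055, 15040), (18056, 20892), (18057, 14274), (18058, 18171), (18059, 20893), (18060, 18074), (18061, 20896), (18062, 18626), (18063, 18955), (18064, 14277), (18065, 20899), (18066, 20900), (18067, 15107), (18068, 14281), (18069, 14282), (18070, 19529), (18071, 18180), (18072, 18475), (18073, 19762), (18074, 18060), (18075, 14283), (18076, 17998), (18077, 18733), (18078, 14288), (18079, 18092), (18080, 14566), (18081, 18716), (18082, 18020), (18083, 19489), (18084, 16778), (18085, 18087), (18086, 16058), (18087, 18085), (18088, 14300), (18089, 20827), (18090, 18621), (18091, 18620), (18092, 18079), (18093, 20828), (18094, 14307), (18095, 18478), (18096, 18483), (18097, 18769), (18098, 17567), (18099, 18771), (18100,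 18259), (18101, 20922), (18102, 14311), (18103, 20926), (18104, 20927), (18105, 14312), (18106, 20930), (18107, 19500), (18108, 14314), (18109, 14315), (18110, 20931), (18111, 17574)]
    ⟨e3 q18048 (flp_a L225653) q18723, e3 q18049 (flp_a L220712) q18136, e3 q18050 (flp_a L227171) q18950, e3 q18051 (flp_a L225031) q18631, e3 q18052 L243985 q20889, e3 q18053 (flp_a L220076) q18054, e3 q18054 L220076 q18053, e3 q18055 L220086 q15040, e3 q18056 L244007 q20892, e3 q18057 L220098 q14274, e3 q18058 (flp_a L220964) q18171, e3 q18059 (flp_a L244023) q20893, e3 q18060 (flp_a L220214) q18074, e3 q18061 L244055 q20896, e3 q18062 (flp_a L224995) q18626, e3 q18063 (flp_a L227202) q18955, e3 q18064 (flp_a L220148) q14277, e3 q18065 (flp_a L244091) q20899, e3 q18066 (flp_a L244105) q20900, e3 q18067 L220170 q15107, e3 q18068 L220178 q14281, e3 q18069 L220186 q14282, e3 q18070 L231886 q19529, e3 q18071 (flp_a L221054) q18180, e3 q18072 (flp_a L223629) q18475, e3 q18073 (flp_a L233859) q19762, e3 q18074 L220214 q18060, e3 q18075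 (flp_a L220220) q14283, e3 q18076 L220230 q17998, e3 q18077 (flp_a L225749) q18733, e3 q18078 L220244 q14288, e3 q18079 (flp_a L220360) q18092, e3 q18080 L220270 q14566, e3 q18081 (flp_a L225587) q18716, e3 q18082 L220282 q18020, e3 q18083 (flp_a L231522) q19489, e3 q18084 L220294 q16778, e3 q18085 (flp_a L220318) q18087, e3 q18086 (flp_a L220314) q16058, e3 q18087 L220318 q18085, e3 q18088 L220328 q14300, e3 q18089 (flp_a L243385) q20827, e3 q18090 (flp_a L224971) q18621, e3 q18091 (flp_a L224959) q18620, e3 q18092 L220360 q18079, e3 q18093 (flp_a L243397) q20828, e3 q18094 L220376 q14307, e3 q18095 (flp_a L223655) q18478, e3 q18096 (flp_a L223707) q18483, e3 q18097 (flp_a L229792) q18769, e3 q18098 L220400 q17567, e3 q18099 L229790 q18771, e3 q18100 (flp_a L221622) q18259, e3 q18101 L244287 q20922, e3 q18102 (flp_a L220422) q14311, e3 q18103 (flp_a L244311) q20926, e3 q18104 (flp_a L244315) q20927, e3 q18105 (flp_a L220430) q14312, e3 q18106 (flp_a L244335) q20930, e3 q18107 (flp_a L231636) q19500, e3 q18108 L220454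 q14314, e3 q18109 L220458 q14315, e3 q18110 (flp_a L244343) q20931, e3 q18111 L220470 q17574, trivial⟩ (by decide +kernel)

theorem ce_a_283 : ∀ r, r < 64 → sm ga (Qf (18112 + r)) = Qf (tab Gen.a (18112 + r)) :=
  edges_tab (sm ga) Qf (tab Gen.a) 18112 [(18112, 14563), (18113, 16643), (18114, 15062), (18115, 16625), (18116, 14324), (18117, 18029), (18118, 18129), (18119, 16423), (18120, 19252), (18121, 19485), (18122, 19486), (18123, 20641), (18124, 14331), (18125, 16569), (18126, 14336), (18127, 16570), (18128, 18042), (18129, 18118), (18130, 18130), (18131, 18131), (18132, 14343), (18133, 18146), (18134, 14617), (18135, 18727), (18136, 18049), (18137, 19245), (18138, 16804), (18139, 16135), (18140, 18141), (18141, 18140), (18142, 14354), (18143, 20829), (18144, 18636), (18145, 18635), (18146, 18133), (18147, 20830), (18148, 14362), (18149, 18506), (18150, 18511), (18151, 18820), (18152, 17595), (18153, 18822), (18154, 18316), (18155, 20951), (18156, 14366), (18157, 20955), (18158, 20956), (18159, 14367), (18160,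 20959), (18161, 19264), (18162, 14369), (18163, 14370), (18164, 20960), (18165, 17602), (18166, 14613), (18167, 16638), (18168, 15057), (18169, 16602), (18170, 14379), (18171, 18058), (18172, 18181), (18173, 16268), (18174, 19251), (18175, 20666)]
    ⟨e3 q18112 L220486 q14563, e3 q18113 L220490 q16643, e3 q18114 L220502 q15062, e3 q18115 L220512 q16625, e3 q18116 L220522 q14324, e3 q18117 L220534 q18029, e3 q18118 (flp_a L220652) q18129, e3 q18119 L220556 q16423, e3 q18120 (flp_a L229344) q19252, e3 q18121 (flp_a L231480) q19485, e3 q18122 (flp_a L231492) q19486, e3 q18123 (flp_a L241536) q20641, e3 q18124 L220590 q14331, e3 q18125 L220614 q16569, e3 q18126 L220618 q14336, e3 q18127 L220630 q16570, e3 q18128 L220640 q18042, e3 q18129 L220652 q18118, e3 q18130 L220664 q18130, e3 q18131 L220667 q18131, e3 q18132 L220674 q14343, e3 q18133 (flp_a L220790) q18146, e3 q18134 L220700 q14617, e3 q18135 (flp_a L225683) q18727, e3 q18136 L220712 q18049, e3 q18137 (flp_a L229276) q19245, e3 q18138 L220724 q16804, e3 q18139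 (flp_a L220736) q16135, e3 q18140 (flp_a L220748) q18141, e3 q18141 L220748 q18140, e3 q18142 L220758 q14354, e3 q18143 (flp_a L243409) q20829, e3 q18144 (flp_a L225079) q18636, e3 q18145 (flp_a L225067) q18635, e3 q18146 L220790 q18133, e3 q18147 (flp_a L243421) q20830, e3 q18148 L220806 q14362, e3 q18149 (flp_a L223937) q18506, e3 q18150 (flp_a L223989) q18511, e3 q18151 (flp_a L226249) q18820, e3 q18152 L220830 q17595, e3 q18153 L226237 q18822, e3 q18154 (flp_a L222058) q18316, e3 q18155 L244501 q20951, e3 q18156 (flp_a L220852) q14366, e3 q18157 (flp_a L244525) q20955, e3 q18158 (flp_a L244529) q20956, e3 q18159 (flp_a L220860) q14367, e3 q18160 (flp_a L244549) q20959, e3 q18161 (flp_a L229456) q19264, e3 q18162 L220884 q14369, e3 q18163 L220888 q14370, e3 q18164 (flp_a L244557) q20960, e3 q18165 L220900 q17602, e3 q18166 L220916 q14613, e3 q18167 L220920 q16638, e3 q18168 L220932 q15057, e3 q18169 L220942 q16602, e3 q18170 L220952 q14379, e3 q18171 L220964 q18058, e3 q18172 (flp_a L221066) q18181, e3 q18173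 (flp_a L220986) q16268, e3 q18174 (flp_a L229334) q19251, e3 q18175 (flp_a L241752) q20666, trivial⟩ (by decide +kernel)

theorem ce_a_284 : ∀ r, r < 64 → sm ga (Qf (18176 + r)) = Qf (tab Gen.a (18176 + r)) :=
  edges_tab (sm ga) Qf (tab Gen.a) 18176 [(18176, 14385), (18177, 16535), (18178, 14391), (18179, 16534), (18180, 18071), (18181, 18172), (18182, 18182), (18183, 18183), (18184, 14397), (18185, 20966), (18186, 20707), (18187, 19724), (18188, 14404), (18189, 14443), (18190, 18191), (18191, 18190), (18192, 20972), (18193, 18253), (18194, 20976), (18195, 14407), (18196, 20980), (18197, 20981), (18198, 15349), (18199, 15350), (18200, 15351), (18201, 15352), (18202, 15152), (18203, 14411), (18204, 20985), (18205, 15328), (18206, 14414), (18207, 20988), (18208, 15530), (18209, 14419), (18210, 20992), (18211, 20740), (18212, 19817), (18213, 14425), (18214, 14493), (18215, 18217), (18216, 20998), (18217, 18215), (18218, 18310), (18219, 21002), (18220, 14429), (18221, 21006), (18222, 21007), (18223, 15453), (18224,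 15454), (18225, 15455), (18226, 15456), (18227, 15186), (18228, 14433), (18229, 21011), (18230, 15432), (18231, 14436), (18232, 21014), (18233, 15427), (18234, 17639), (18235, 14444), (18236, 17562), (18237, 20603), (18238, 18240), (18239, 19577)]
    ⟨e3 q18176 L221004 q14385, e3 q18177 L221028 q16535, e3 q18178 L221032 q14391, e3 q18179 L221044 q16534, e3 q18180 L221054 q18071, e3 q18181 L221066 q18172, e3 q18182 L221078 q18182, e3 q18183 L221081 q18183, e3 q18184 L221088 q14397, e3 q18185 (flp_a L244613) q20966, e3 q18186 (flp_a L242166) q20707, e3 q18187 L233535 q19724, e3 q18188 L221116 q14404, e3 q18189 L221121 q14443, e3 q18190 (flp_a L221138) q18191, e3 q18191 L221138 q18190, e3 q18192 L244655 q20972, e3 q18193 (flp_a L221576) q18253, e3 q18194 L244676 q20976, e3 q18195 (flp_a L221159) q14407, e3 q18196 (flp_a L244698) q20980, e3 q18197 (flp_a L244706) q20981, e3 q18198 L221169 q15349, e3 q18199 L221176 q15350, e3 q18200 L221186 q15351, e3 q18201 L221191 q15352, e3 q18202 L221205 q15152, e3 q18203 (flp_a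 L221207) q14411, e3 q18204 (flp_a L244738) q20985, e3 q18205 L221221 q15328, e3 q18206 L221231 q14414, e3 q18207 L244760 q20988, e3 q18208 L221245 q15530, e3 q18209 L221257 q14419, e3 q18210 (flp_a L244798) q20992, e3 q18211 (flp_a L242492) q20740, e3 q18212 L234283 q19817, e3 q18213 L221285 q14425, e3 q18214 L221290 q14493, e3 q18215 (flp_a L221311) q18217, e3 q18216 L244840 q20998, e3 q18217 L221311 q18215, e3 q18218 (flp_a L222012) q18310, e3 q18219 L244861 q21002, e3 q18220 (flp_a L221328) q14429, e3 q18221 (flp_a L244883) q21006, e3 q18222 (flp_a L244891) q21007, e3 q18223 L221338 q15453, e3 q18224 L221345 q15454, e3 q18225 L221355 q15455, e3 q18226 L221360 q15456, e3 q18227 L221374 q15186, e3 q18228 (flp_a L221376) q14433, e3 q18229 (flp_a L244923) q21011, e3 q18230 L221390 q15432, e3 q18231 L221400 q14436, e3 q18232 L244945 q21014, e3 q18233 L221414 q15427, e3 q18234 L221426 q17639, e3 q18235 L221432 q14444, e3 q18236 L221440 q17562, e3 q18237 (flp_a L241210) q20603, e3 q18238 (flp_a L221472) q18240, e3 q18239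 (flp_a L232318) q19577, trivial⟩ (by decide +kernel)

theorem ce_a_285 : ∀ r, r < 64 → sm ga (Qf (18240 + r)) = Qf (tab Gen.a (18240 + r)) :=
  edges_tab (sm ga) Qf (tab Gen.a) 18240 [(18240, 18238), (18241, 14459), (18242, 18521), (18243, 14447), (18244, 18519), (18245, 21023), (18246, 14448), (18247, 21026), (18248, 20430), (18249, 14450), (18250, 14451), (18251, 21028), (18252, 15029), (18253, 18193), (18254, 21030), (18255, 14457), (18256, 21031), (18257, 18535), (18258, 21032), (18259, 18100), (18260, 14460), (18261, 21036), (18262, 21037), (18263, 20319), (18264, 14463), (18265, 14464), (18266, 20969), (18267, 21041), (18268, 17645), (18269, 20135), (18270, 14466), (18271, 21046), (18272, 18340), (18273, 14468), (18274, 21049), (18275, 20165), (18276, 15361), (18277, 14470), (18278, 14629), (18279, 20987), (18280, 18405), (18281, 19029), (18282, 14472), (18283, 18329), (18284, 18288), (18285, 20212), (18286, 14475), (18287, 14803), (18288, 18284), (18289, 18291), (18290, 14484), (18291, 18289), (18292, 18382),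 (18293, 17711), (18294, 14492), (18295, 17590), (18296, 20604), (18297, 19362), (18298, 18299), (18299, 18298), (18300, 14508), (18301, 18495), (18302, 14496), (18303, 18491)]
    ⟨e3 q18240 L221472 q18238, e3 q18241 L221482 q14459, e3 q18242 (flp_a L224061) q18521, e3 q18243 (flp_a L221494) q14447, e3 q18244 (flp_a L224043) q18519, e3 q18245 (flp_a L245023) q21023, e3 q18246 (flp_a L221508) q14448, e3 q18247 (flp_a L245059) q21026, e3 q18248 (flp_a L239687) q20430, e3 q18249 L221534 q14450, e3 q18250 L221544 q14451, e3 q18251 (flp_a L245077) q21028, e3 q18252 L221564 q15029, e3 q18253 L221576 q18193, e3 q18254 L245097 q21030, e3 q18255 (flp_a L221594) q14457, e3 q18256 (flp_a L245111) q21031, e3 q18257 (flp_a L224191) q18535, e3 q18258 L245123 q21032, e3 q18259 L221622 q18100, e3 q18260 (flp_a L221634) q14460, e3 q18261 (flp_a L245147) q21036, e3 q18262 (flp_a L245159) q21037, e3 q18263 (flp_a L238619) q20319, e3 q18264 L221652 q14463, e3 q18265 L221656 q14464, e3 q18266 (flp_a L244629) q20969, e3 q18267 (flp_a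 L245189) q21041, e3 q18268 L221690 q17645, e3 q18269 (flp_a L237125) q20135, e3 q18270 L221704 q14466, e3 q18271 (flp_a L245219) q21046, e3 q18272 (flp_a L222257) q18340, e3 q18273 (flp_a L221722) q14468, e3 q18274 (flp_a L245247) q21049, e3 q18275 L237393 q20165, e3 q18276 (flp_a L222222) q15361, e3 q18277 L221740 q14470, e3 q18278 L221748 q14629, e3 q18279 L244756 q20987, e3 q18280 (flp_a L223122) q18405, e3 q18281 (flp_a L227740) q19029, e3 q18282 (flp_a L221770) q14472, e3 q18283 (flp_a L222146) q18329, e3 q18284 (flp_a L221826) q18288, e3 q18285 (flp_a L237819) q20212, e3 q18286 L221808 q14475, e3 q18287 L221818 q14803, e3 q18288 L221826 q18284, e3 q18289 (flp_a L221856) q18291, e3 q18290 L221844 q14484, e3 q18291 L221856 q18289, e3 q18292 (flp_a L222992) q18382, e3 q18293 L221878 q17711, e3 q18294 L221888 q14492, e3 q18295 L221896 q17590, e3 q18296 (flp_a L241218) q20604, e3 q18297 (flp_a L230304) q19362, e3 q18298 (flp_a L221928) q18299, e3 q18299 L221928 q18298, e3 q18300 L221938 q14508, e3 q18301 (flp_a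 L223845) q18495, e3 q18302 (flp_a L221950) q14496, e3 q18303 (flp_a L223761) q18491, trivial⟩ (by decide +kernel)

theorem ce_a_286 : ∀ r, r < 64 → sm ga (Qf (18304 + r)) = Qf (tab Gen.a (18304 + r)) :=
  edges_tab (sm ga) Qf (tab Gen.a) 18304 [(18304, 21062), (18305, 14497), (18306, 20488), (18307, 14499), (18308, 14500), (18309, 15025), (18310, 18218), (18311, 21067), (18312, 14506), (18313, 21068), (18314, 18539), (18315, 21069), (18316, 18154), (18317, 14509), (18318, 21073), (18319, 21074), (18320, 20299), (18321, 14512), (18322, 14513), (18323, 20995), (18324, 21078), (18325, 17717), (18326, 20132), (18327, 14515), (18328, 21047), (18329, 18283), (18330, 14517), (18331, 21084), (18332, 20182), (18333, 15465), (18334, 14519), (18335, 14580), (18336, 21013), (18337, 18463), (18338, 19166), (18339, 14521), (18340, 18272), (18341, 18345), (18342, 20213), (18343, 14524), (18344, 14835), (18345, 18341), (18346, 18348), (18347, 14533), (18348, 18346), (18349, 18444), (18350, 20803), (18351, 20214), (18352, 14549),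 (18353, 14550), (18354, 14551), (18355, 14552), (18356, 21095), (18357, 20794), (18358, 14546), (18359, 21100), (18360, 17390), (18361, 18363), (18362, 21103), (18363, 18361), (18364, 18366), (18365, 21107), (18366, 18364), (18367, 21110)]
    ⟨e3 q18304 (flp_a L245347) q21062, e3 q18305 (flp_a L221964) q14497, e3 q18306 (flp_a L240165) q20488, e3 q18307 L221980 q14499, e3 q18308 L221992 q14500, e3 q18309 L222000 q15025, e3 q18310 L222012 q18218, e3 q18311 L245401 q21067, e3 q18312 (flp_a L222030) q14506, e3 q18313 (flp_a L245417) q21068, e3 q18314 (flp_a L224237) q18539, e3 q18315 L245429 q21069, e3 q18316 L222058 q18154, e3 q18317 (flp_a L222070) q14509, e3 q18318 (flp_a L245463) q21073, e3 q18319 (flp_a L245475) q21074, e3 q18320 (flp_a L238463) q20299, e3 q18321 L222092 q14512, e3 q18322 L222100 q14513, e3 q18323 (flp_a L244814) q20995, e3 q18324 (flp_a L245505) q21078, e3 q18325 L222120 q17717, e3 q18326 (flp_a L237091) q20132, e3 q18327 L222134 q14515, e3 q18328 (flp_a L245229) q21047, e3 q18329 L222146 q18283,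 e3 q18330 (flp_a L222156) q14517, e3 q18331 (flp_a L245543) q21084, e3 q18332 L237539 q20182, e3 q18333 L227417 q15465, e3 q18334 L222174 q14519, e3 q18335 L222182 q14580, e3 q18336 L244941 q21013, e3 q18337 (flp_a L223535) q18463, e3 q18338 (flp_a L228659) q19166, e3 q18339 (flp_a L222243) q14521, e3 q18340 L222257 q18272, e3 q18341 (flp_a L222311) q18345, e3 q18342 (flp_a L237829) q20213, e3 q18343 L222289 q14524, e3 q18344 L222301 q14835, e3 q18345 L222311 q18341, e3 q18346 (flp_a L222341) q18348, e3 q18347 L222329 q14533, e3 q18348 L222341 q18346, e3 q18349 (flp_a L223419) q18444, e3 q18350 (flp_a L243087) q20803, e3 q18351 (flp_a L237839) q20214, e3 q18352 L222379 q14549, e3 q18353 L222391 q14550, e3 q18354 L222399 q14551, e3 q18355 L222411 q14552, e3 q18356 L245627 q21095, e3 q18357 (flp_a L242995) q20794, e3 q18358 (flp_a L222429) q14546, e3 q18359 (flp_a L245661) q21100, e3 q18360 L222449 q17390, e3 q18361 (flp_a L222465) q18363, e3 q18362 L245699 q21103, e3 q18363 L222465 q18361, e3 q18364 (flp_a L222491)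 q18366, e3 q18365 L245727 q21107, e3 q18366 L222491 q18364, e3 q18367 L245749 q21110, trivial⟩ (by decide +kernel)

theorem ce_a_287 : ∀ r, r < 64 → sm ga (Qf (18368 + r)) = Qf (tab Gen.a (18368 + r)) :=
  edges_tab (sm ga) Qf (tab Gen.a) 18368 [(18368, 14554), (18369, 21113), (18370, 21116), (18371, 17208), (18372, 21119), (18373, 14558), (18374, 20119), (18375, 14559), (18376, 17702), (18377, 20932), (18378, 17939), (18379, 18380), (18380, 18379), (18381, 16560), (18382, 18292), (18383, 17235), (18384, 20698), (18385, 19121), (18386, 14569), (18387, 18547), (18388, 20289), (18389, 17621), (18390, 18719), (18391, 14839), (18392, 17024), (18393, 21130), (18394, 17236), (18395, 17237), (18396, 17624), (18397, 14575), (18398, 21133), (18399, 21134), (18400, 21128), (18401, 14579), (18402, 21138), (18403, 14628), (18404, 21089), (18405, 18280), (18406, 20252), (18407, 14583), (18408, 21143), (18409, 19462), (18410, 14586), (18411, 19464), (18412, 20813), (18413, 20217), (18414, 14600), (18415, 14601), (18416, 14602),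 (18417, 14603), (18418, 21096), (18419, 20798), (18420, 14597), (18421, 21153), (18422, 17394), (18423, 18425), (18424, 21156), (18425, 18423), (18426, 18428), (18427, 21160), (18428, 18426), (18429, 14604), (18430, 21163), (18431, 21166)]
    ⟨e3 q18368 (flp_a L222503) q14554, e3 q18369 (flp_a L245769) q21113, e3 q18370 L245793 q21116, e3 q18371 (flp_a L222519) q17208, e3 q18372 L245805 q21119, e3 q18373 (flp_a L222914) q14558, e3 q18374 (flp_a L236963) q20119, e3 q18375 (flp_a L222928) q14559, e3 q18376 L222938 q17702, e3 q18377 (flp_a L244357) q20932, e3 q18378 L222948 q17939, e3 q18379 (flp_a L222968) q18380, e3 q18380 L222968 q18379, e3 q18381 L222980 q16560, e3 q18382 L222992 q18292, e3 q18383 L223004 q17235, e3 q18384 (flp_a L242066) q20698, e3 q18385 (flp_a L228327) q19121, e3 q18386 L223020 q14569, e3 q18387 (flp_a L224311) q18547, e3 q18388 L238392 q20289, e3 q18389 L223032 q17621, e3 q18390 L225643 q18719, e3 q18391 L223044 q14839, e3 q18392 (flp_a L223060) q17024, e3 q18393 L245897 q21130, e3 q18394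 L223068 q17236, e3 q18395 L223074 q17237, e3 q18396 L223080 q17624, e3 q18397 (flp_a L223086) q14575, e3 q18398 (flp_a L245917) q21133, e3 q18399 (flp_a L245925) q21134, e3 q18400 (flp_a L245887) q21128, e3 q18401 L223098 q14579, e3 q18402 L245944 q21138, e3 q18403 L223108 q14628, e3 q18404 (flp_a L245573) q21089, e3 q18405 L223122 q18280, e3 q18406 (flp_a L238083) q20252, e3 q18407 (flp_a L223135) q14583, e3 q18408 (flp_a L245992) q21143, e3 q18409 (flp_a L231254) q19462, e3 q18410 L223157 q14586, e3 q18411 (flp_a L231274) q19464, e3 q18412 (flp_a L243213) q20813, e3 q18413 (flp_a L237864) q20217, e3 q18414 L223193 q14600, e3 q18415 L223205 q14601, e3 q18416 L223213 q14602, e3 q18417 L223225 q14603, e3 q18418 (flp_a L245671) q21096, e3 q18419 (flp_a L243029) q20798, e3 q18420 (flp_a L223243) q14597, e3 q18421 (flp_a L246076) q21153, e3 q18422 L223263 q17394, e3 q18423 (flp_a L223279) q18425, e3 q18424 L246104 q21156, e3 q18425 L223279 q18423, e3 q18426 (flp_a L223305) q18428, e3 q18427 L246132 q21160, e3 q18428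 L223305 q18426, e3 q18429 (flp_a L223315) q14604, e3 q18430 (flp_a L246156) q21163, e3 q18431 L246184 q21166, trivial⟩ (by decide +kernel)

theorem ce_a_288 : ∀ r, r < 64 → sm ga (Qf (18432 + r)) = Qf (tab Gen.a (18432 + r)) :=
  edges_tab (sm ga) Qf (tab Gen.a) 18432 [(18432, 21169), (18433, 21172), (18434, 17284), (18435, 14609), (18436, 17630), (18437, 20961), (18438, 14610), (18439, 20126), (18440, 17949), (18441, 18442), (18442, 18441), (18443, 16595), (18444, 18349), (18445, 17311), (18446, 20731), (18447, 18982), (18448, 14620), (18449, 18554), (18450, 20309), (18451, 17625), (18452, 18730), (18453, 14808), (18454, 17114), (18455, 21183), (18456, 17312), (18457, 17313), (18458, 17620), (18459, 14626), (18460, 21181), (18461, 21186), (18462, 21054), (18463, 18337), (18464, 20240), (18465, 14632), (18466, 21192), (18467, 19662), (18468, 14635), (18469, 19664), (18470, 15154), (18471, 14652), (18472, 20878), (18473, 16893), (18474, 14644), (18475, 18072), (18476, 21199), (18477, 14646), (18478, 18095), (18479,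 18481), (18480, 20883), (18481, 18479), (18482, 17566), (18483, 18096), (18484, 18486), (18485, 21205), (18486, 18484), (18487, 21208), (18488, 14655), (18489, 21115), (18490, 21210), (18491, 18303), (18492, 14659), (18493, 20807), (18494, 14660), (18495, 18301)]
    ⟨e3 q18432 L246196 q21169, e3 q18433 L246216 q21172, e3 q18434 (flp_a L223337) q17284, e3 q18435 (flp_a L223341) q14609, e3 q18436 L223351 q17630, e3 q18437 (flp_a L244571) q20961, e3 q18438 (flp_a L223359) q14610, e3 q18439 (flp_a L237033) q20126, e3 q18440 L223375 q17949, e3 q18441 (flp_a L223397) q18442, e3 q18442 L223397 q18441, e3 q18443 L223407 q16595, e3 q18444 L223419 q18349, e3 q18445 L223431 q17311, e3 q18446 (flp_a L242390) q20731, e3 q18447 (flp_a L227387) q18982, e3 q18448 L223447 q14620, e3 q18449 (flp_a L224367) q18554, e3 q18450 L238548 q20309, e3 q18451 L223463 q17625, e3 q18452 (flp_a L225717) q18730, e3 q18453 L223479 q14808, e3 q18454 (flp_a L223497) q17114, e3 q18455 L246324 q21183, e3 q18456 L223505 q17312, e3 q18457 L223511 q17313,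 e3 q18458 L223517 q17620, e3 q18459 (flp_a L223523) q14626, e3 q18460 (flp_a L246314) q21181, e3 q18461 (flp_a L246344) q21186, e3 q18462 (flp_a L245277) q21054, e3 q18463 L223535 q18337, e3 q18464 (flp_a L238009) q20240, e3 q18465 (flp_a L223545) q14632, e3 q18466 (flp_a L246391) q21192, e3 q18467 (flp_a L233055) q19662, e3 q18468 L223567 q14635, e3 q18469 (flp_a L233075) q19664, e3 q18470 L223587 q15154, e3 q18471 L223599 q14652, e3 q18472 (flp_a L243887) q20878, e3 q18473 L223611 q16893, e3 q18474 (flp_a L223617) q14644, e3 q18475 L223629 q18072, e3 q18476 (flp_a L246453) q21199, e3 q18477 L223643 q14646, e3 q18478 L223655 q18095, e3 q18479 (flp_a L223683) q18481, e3 q18480 (flp_a L243937) q20883, e3 q18481 L223683 q18479, e3 q18482 L223695 q17566, e3 q18483 L223707 q18096, e3 q18484 (flp_a L223731) q18486, e3 q18485 L246515 q21205, e3 q18486 L223731 q18484, e3 q18487 L246537 q21208, e3 q18488 (flp_a L223741) q14655, e3 q18489 (flp_a L245785) q21115, e3 q18490 L246551 q21210, e3 q18491 L223761 q18303, e3 q18492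 (flp_a L223765) q14659, e3 q18493 (flp_a L243143) q20807, e3 q18494 (flp_a L223781) q14660, e3 q18495 L223845 q18301, trivial⟩ (by decide +kernel)

theorem ce_a_289 : ∀ r, r < 64 → sm ga (Qf (18496 + r)) = Qf (tab Gen.a (18496 + r)) :=
  edges_tab (sm ga) Qf (tab Gen.a) 18496 [(18496, 19369), (18497, 18581), (18498, 15188), (18499, 14680), (18500, 20902), (18501, 14672), (18502, 18043), (18503, 21219), (18504, 16904), (18505, 14675), (18506, 18149), (18507, 20907), (18508, 18509), (18509, 18508), (18510, 17594), (18511, 18150), (18512, 21225), (18513, 18514), (18514, 18513), (18515, 14682), (18516, 21165), (18517, 21229), (18518, 21232), (18519, 18244), (18520, 14688), (18521, 18242), (18522, 19584), (18523, 14689), (18524, 20817), (18525, 18568), (18526, 16452), (18527, 16302), (18528, 16555), (18529, 16356), (18530, 16591), (18531, 16496), (18532, 14741), (18533, 14742), (18534, 17872), (18535, 18257), (18536, 14762), (18537, 14763), (18538, 17860), (18539, 18314), (18540, 14788), (18541, 17295), (18542, 16836),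 (18543, 19920), (18544, 20187), (18545, 17219), (18546, 20806), (18547, 18387), (18548, 14813), (18549, 14821), (18550, 16843), (18551, 19981), (18552, 20170), (18553, 20816), (18554, 18449), (18555, 14841), (18556, 16821), (18557, 15007), (18558, 20085), (18559, 14855)]
    ⟨e3 q18496 (flp_a L230350) q19369, e3 q18497 (flp_a L224597) q18581, e3 q18498 L223869 q15188, e3 q18499 L223881 q14680, e3 q18500 (flp_a L244131) q20902, e3 q18501 (flp_a L223891) q14672, e3 q18502 L223903 q18043, e3 q18503 (flp_a L246619) q21219, e3 q18504 L223917 q16904, e3 q18505 L223925 q14675, e3 q18506 L223937 q18149, e3 q18507 (flp_a L244181) q20907, e3 q18508 (flp_a L223965) q18509, e3 q18509 L223965 q18508, e3 q18510 L223977 q17594, e3 q18511 L223989 q18150, e3 q18512 L246681 q21225, e3 q18513 (flp_a L224013) q18514, e3 q18514 L224013 q18513, e3 q18515 (flp_a L224021) q14682, e3 q18516 (flp_a L246176) q21165, e3 q18517 L246709 q21229, e3 q18518 L246723 q21232, e3 q18519 L224043 q18244, e3 q18520 (flp_a L224047) q14688, e3 q18521 L224061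 q18242, e3 q18522 (flp_a L232364) q19584, e3 q18523 (flp_a L224073) q14689, e3 q18524 (flp_a L243269) q20817, e3 q18525 (flp_a L224485) q18568, e3 q18526 L224101 q16452, e3 q18527 L224111 q16302, e3 q18528 L224123 q16555, e3 q18529 L224127 q16356, e3 q18530 L224141 q16591, e3 q18531 L224145 q16496, e3 q18532 L224157 q14741, e3 q18533 L224169 q14742, e3 q18534 L224187 q17872, e3 q18535 L224191 q18257, e3 q18536 L224203 q14762, e3 q18537 L224215 q14763, e3 q18538 L224233 q17860, e3 q18539 L224237 q18314, e3 q18540 (flp_a L224247) q14788, e3 q18541 L224259 q17295, e3 q18542 L224271 q16836, e3 q18543 (flp_a L235193) q19920, e3 q18544 L237575 q20187, e3 q18545 L224295 q17219, e3 q18546 (flp_a L243129) q20806, e3 q18547 L224311 q18387, e3 q18548 L224321 q14813, e3 q18549 (flp_a L224327) q14821, e3 q18550 L224339 q16843, e3 q18551 (flp_a L235779) q19981, e3 q18552 L237429 q20170, e3 q18553 (flp_a L243255) q20816, e3 q18554 L224367 q18449, e3 q18555 L224377 q14841, e3 q18556 L224385 q16821, e3 q18557 L224407 q15007, e3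 q18558 (flp_a L236617) q20085, e3 q18559 L224421 q14855, trivial⟩ (by decide +kernel)

theorem ce_a_290 : ∀ r, r < 64 → sm ga (Qf (18560 + r)) = Qf (tab Gen.a (18560 + r)) :=
  edges_tab (sm ga) Qf (tab Gen.a) 18560 [(18560, 20051), (18561, 20163), (18562, 20184), (18563, 14868), (18564, 16946), (18565, 17171), (18566, 21244), (18567, 17227), (18568, 18525), (18569, 16961), (18570, 16796), (18571, 15019), (18572, 20093), (18573, 14887), (18574, 20031), (18575, 20162), (18576, 20167), (18577, 14897), (18578, 17087), (18579, 21255), (18580, 17303), (18581, 18497), (18582, 15011), (18583, 16965), (18584, 14913), (18585, 18585), (18586, 17851), (18587, 17853), (18588, 19990), (18589, 16751), (18590, 18602), (18591, 20206), (18592, 18592), (18593, 14997), (18594, 16950), (18595, 14960), (18596, 18596), (18597, 19930), (18598, 16748), (18599, 18608), (18600, 20208), (18601, 18601), (18602, 18590), (18603, 15001), (18604, 17923), (18605, 15014), (18606, 16223), (18607, 20819), (18608, 18599), (18609, 17901), (18610, 16253),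 (18611, 20820), (18612, 20234), (18613, 16030), (18614, 20235), (18615, 16107), (18616, 18021), (18617, 18000), (18618, 18002), (18619, 17952), (18620, 18091), (18621, 18090), (18622, 21266), (18623, 15039)]
    ⟨e3 q18560 L236362 q20051, e3 q18561 (flp_a L237369) q20163, e3 q18562 (flp_a L237547) q20184, e3 q18563 L224443 q14868, e3 q18564 L224453 q16946, e3 q18565 L224463 q17171, e3 q18566 (flp_a L246833) q21244, e3 q18567 L224477 q17227, e3 q18568 L224485 q18525, e3 q18569 L224497 q16961, e3 q18570 L224507 q16796, e3 q18571 L224529 q15019, e3 q18572 (flp_a L236699) q20093, e3 q18573 L224543 q14887, e3 q18574 (flp_a L236223) q20031, e3 q18575 (flp_a L237363) q20162, e3 q18576 (flp_a L237401) q20167, e3 q18577 L224565 q14897, e3 q18578 L224575 q17087, e3 q18579 (flp_a L246941) q21255, e3 q18580 L224589 q17303, e3 q18581 L224597 q18497, e3 q18582 L224609 q15011, e3 q18583 L224617 q16965, e3 q18584 L224625 q14913, e3 q18585 L224647 q18585, e3 q18586 L224650 q17851, e3 q18587 L224674 q17853, e3 q18588 (flp_a L235858)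 q19990, e3 q18589 L224682 q16751, e3 q18590 (flp_a L224787) q18602, e3 q18591 (flp_a L237759) q20206, e3 q18592 L224706 q18592, e3 q18593 L224709 q14997, e3 q18594 L224721 q16950, e3 q18595 L224729 q14960, e3 q18596 L224751 q18596, e3 q18597 (flp_a L235286) q19930, e3 q18598 L224758 q16748, e3 q18599 (flp_a L224849) q18608, e3 q18600 (flp_a L237780) q20208, e3 q18601 L224784 q18601, e3 q18602 L224787 q18590, e3 q18603 L224799 q15001, e3 q18604 L224813 q17923, e3 q18605 L224825 q15014, e3 q18606 L224839 q16223, e3 q18607 (flp_a L243293) q20819, e3 q18608 L224849 q18599, e3 q18609 L224861 q17901, e3 q18610 L224873 q16253, e3 q18611 (flp_a L243307) q20820, e3 q18612 (flp_a L237973) q20234, e3 q18613 (flp_a L224899) q16030, e3 q18614 (flp_a L237983) q20235, e3 q18615 (flp_a L224919) q16107, e3 q18616 L224923 q18021, e3 q18617 L224929 q18000, e3 q18618 L224941 q18002, e3 q18619 L224955 q17952, e3 q18620 L224959 q18091, e3 q18621 L224971 q18090, e3 q18622 L247053 q21266, e3 q18623 (flp_a L224981) q15039, trivial⟩ (by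 decide +kernel)

theorem ce_a_291 : ∀ r, r < 64 → sm ga (Qf (18624 + r)) = Qf (tab Gen.a (18624 + r)) :=
  edges_tab (sm ga) Qf (tab Gen.a) 18624 [(18624, 19721), (18625, 19717), (18626, 18062), (18627, 21271), (18628, 15042), (18629, 15512), (18630, 15495), (18631, 18051), (18632, 18004), (18633, 18005), (18634, 17954), (18635, 18145), (18636, 18144), (18637, 21275), (18638, 15051), (18639, 19816), (18640, 19811), (18641, 18033), (18642, 21280), (18643, 15054), (18644, 15408), (18645, 15391), (18646, 15059), (18647, 15060), (18648, 21218), (18649, 20942), (18650, 15964), (18651, 15965), (18652, 15064), (18653, 15065), (18654, 21198), (18655, 20913), (18656, 15739), (18657, 15740), (18658, 15068), (18659, 21293), (18660, 15069), (18661, 21295), (18662, 15072), (18663, 19125), (18664, 15075), (18665, 18986), (18666, 15080), (18667, 19716), (18668, 18726), (18669, 20461), (18670, 15082), (18671, 15085), (18672, 19810), (18673, 18737), (18674, 20519), (18675, 15087), (18676, 15092), (18677, 19849), (18678, 15090),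 (18679, 21303), (18680, 19752), (18681, 21305), (18682, 15093), (18683, 20463), (18684, 18782), (18685, 21309), (18686, 19064), (18687, 15102)]
    ⟨e3 q18624 (flp_a L233511) q19721, e3 q18625 (flp_a L233479) q19717, e3 q18626 L224995 q18062, e3 q18627 L247085 q21271, e3 q18628 L225005 q15042, e3 q18629 L225015 q15512, e3 q18630 L225023 q15495, e3 q18631 L225031 q18051, e3 q18632 L225037 q18004, e3 q18633 L225049 q18005, e3 q18634 L225063 q17954, e3 q18635 L225067 q18145, e3 q18636 L225079 q18144, e3 q18637 L247120 q21275, e3 q18638 (flp_a L225089) q15051, e3 q18639 (flp_a L234271) q19816, e3 q18640 (flp_a L234233) q19811, e3 q18641 L225103 q18033, e3 q18642 L247152 q21280, e3 q18643 L225113 q15054, e3 q18644 L225123 q15408, e3 q18645 L225131 q15391, e3 q18646 L225139 q15059, e3 q18647 L225149 q15060, e3 q18648 (flp_a L246611) q21218, e3 q18649 L244447 q20942, e3 q18650 L225167 q15964, e3 q18651 L225173 q15965, e3 q18652 L225181 q15064, e3 q18653 L225191 q15065, e3 q18654 (flp_a L246445) q21198, e3 q18655 L244233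 q20913, e3 q18656 L225209 q15739, e3 q18657 L225215 q15740, e3 q18658 (flp_a L225221) q15068, e3 q18659 (flp_a L247249) q21293, e3 q18660 (flp_a L225234) q15069, e3 q18661 (flp_a L247263) q21295, e3 q18662 L225249 q15072, e3 q18663 (flp_a L228366) q19125, e3 q18664 L225257 q15075, e3 q18665 (flp_a L227461) q18986, e3 q18666 L225265 q15080, e3 q18667 L233475 q19716, e3 q18668 (flp_a L225673) q18726, e3 q18669 (flp_a L239963) q20461, e3 q18670 (flp_a L225285) q15082, e3 q18671 L225293 q15085, e3 q18672 L234229 q19810, e3 q18673 (flp_a L225773) q18737, e3 q18674 (flp_a L240449) q20519, e3 q18675 (flp_a L225313) q15087, e3 q18676 L225323 q15092, e3 q18677 (flp_a L234571) q19849, e3 q18678 (flp_a L225337) q15090, e3 q18679 (flp_a L247337) q21303, e3 q18680 L233777 q19752, e3 q18681 L247359 q21305, e3 q18682 (flp_a L225353) q15093, e3 q18683 (flp_a L239987) q20463, e3 q18684 (flp_a L226015) q18782, e3 q18685 L247393 q21309, e3 q18686 (flp_a L227959) q19064, e3 q18687 L225377 q15102, trivial⟩ (by decide +kernel)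

theorem ce_a_292 : ∀ r, r < 64 → sm ga (Qf (18688 + r)) = Qf (tab Gen.a (18688 + r)) :=
  edges_tab (sm ga) Qf (tab Gen.a) 18688 [(18688, 19757), (18689, 15100), (18690, 21314), (18691, 19847), (18692, 21316), (18693, 15103), (18694, 20520), (18695, 18833), (18696, 21320), (18697, 19201), (18698, 17101), (18699, 17246), (18700, 16083), (18701, 21325), (18702, 15113), (18703, 17292), (18704, 15221), (18705, 17181), (18706, 17321), (18707, 16007), (18708, 21330), (18709, 15125), (18710, 17216), (18711, 15274), (18712, 15132), (18713, 21333), (18714, 15133), (18715, 21335), (18716, 18081), (18717, 15136), (18718, 21337), (18719, 18390), (18720, 15137), (18721, 17104), (18722, 20033), (18723, 18048), (18724, 15140), (18725, 19670), (18726, 18668), (18727, 18135), (18728, 15143), (18729, 21345), (18730, 18452), (18731, 15144), (18732, 17184), (18733, 18077), (18734, 20053), (18735, 15147), (18736, 19764), (18737, 18673), (18738, 21353), (18739, 15149), (18740, 20873), (18741, 18747), (18742, 20984), (18743, 20879),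 (18744, 15470), (18745, 15157), (18746, 17922), (18747, 18741), (18748, 21154), (18749, 15160), (18750, 21129), (18751, 18858)]
    ⟨e3 q18688 (flp_a L233819) q19757, e3 q18689 (flp_a L225391) q15100, e3 q18690 (flp_a L247441) q21314, e3 q18691 L234557 q19847, e3 q18692 L247463 q21316, e3 q18693 (flp_a L225407) q15103, e3 q18694 (flp_a L240463) q20520, e3 q18695 (flp_a L226301) q18833, e3 q18696 L247497 q21320, e3 q18697 (flp_a L228916) q19201, e3 q18698 (flp_a L225437) q17101, e3 q18699 L225441 q17246, e3 q18700 L225451 q16083, e3 q18701 L247547 q21325, e3 q18702 (flp_a L225465) q15113, e3 q18703 L225479 q17292, e3 q18704 L225489 q15221, e3 q18705 (flp_a L225500) q17181, e3 q18706 L225504 q17321, e3 q18707 L225514 q16007, e3 q18708 L247606 q21330, e3 q18709 (flp_a L225528) q15125, e3 q18710 L225542 q17216, e3 q18711 L225552 q15274, e3 q18712 (flp_a L225555) q15132, e3 q18713 (flp_a L247645) q21333, e3 q18714 (flp_a L225569) q15133, e3 q18715 (flp_a L247660) q21335, e3 q18716 L225587 q18081, e3 q18717 L225601 q15136,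 e3 q18718 L247673 q21337, e3 q18719 (flp_a L225643) q18390, e3 q18720 (flp_a L225615) q15137, e3 q18721 L225629 q17104, e3 q18722 (flp_a L236231) q20033, e3 q18723 L225653 q18048, e3 q18724 L225659 q15140, e3 q18725 L233133 q19670, e3 q18726 L225673 q18668, e3 q18727 L225683 q18135, e3 q18728 L225697 q15143, e3 q18729 L247757 q21345, e3 q18730 L225717 q18452, e3 q18731 (flp_a L225731) q15144, e3 q18732 L225741 q17184, e3 q18733 L225749 q18077, e3 q18734 (flp_a L236370) q20053, e3 q18735 L225759 q15147, e3 q18736 L233881 q19764, e3 q18737 L225773 q18673, e3 q18738 L247841 q21353, e3 q18739 (flp_a L225785) q15149, e3 q18740 (flp_a L243825) q20873, e3 q18741 (flp_a L225839) q18747, e3 q18742 (flp_a L244728) q20984, e3 q18743 (flp_a L243891) q20879, e3 q18744 L225813 q15470, e3 q18745 (flp_a L225821) q15157, e3 q18746 L225831 q17922, e3 q18747 L225839 q18741, e3 q18748 (flp_a L246088) q21154, e3 q18749 L225847 q15160, e3 q18750 (flp_a L245891) q21129, e3 q18751 (flp_a L226463) q18858, trivial⟩ (by decide +kernel)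

theorem ce_a_293 : ∀ r, r < 64 → sm ga (Qf (18752 + r)) = Qf (tab Gen.a (18752 + r)) :=
  edges_tab (sm ga) Qf (tab Gen.a) 18752 [(18752, 18777), (18753, 18779), (18754, 21363), (18755, 15162), (18756, 20867), (18757, 15163), (18758, 15487), (18759, 21366), (18760, 18760), (18761, 15168), (18762, 19864), (18763, 19865), (18764, 19866), (18765, 21371), (18766, 18767), (18767, 18766), (18768, 15175), (18769, 18097), (18770, 15171), (18771, 18099), (18772, 20480), (18773, 20481), (18774, 20482), (18775, 18880), (18776, 21377), (18777, 18752), (18778, 21382), (18779, 18753), (18780, 15176), (18781, 20462), (18782, 18684), (18783, 21389), (18784, 21200), (18785, 18010), (18786, 15180), (18787, 21396), (18788, 21397), (18789, 15182), (18790, 20897), (18791, 18799), (18792, 21399), (18793, 21010), (18794, 20903), (18795, 15367), (18796, 15191), (18797, 17900), (18798, 21101), (18799, 18791), (18800, 15194), (18801, 21182), (18802, 18913), (18803, 18828), (18804, 18830), (18805, 21408), (18806, 15196), (18807, 20890),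 (18808, 15197), (18809, 21411), (18810, 15383), (18811, 18811), (18812, 15201), (18813, 19882), (18814, 19883), (18815, 19884)]
    ⟨e3 q18752 (flp_a L225985) q18777, e3 q18753 (flp_a L225999) q18779, e3 q18754 L247924 q21363, e3 q18755 (flp_a L225877) q15162, e3 q18756 (flp_a L243757) q20867, e3 q18757 (flp_a L225881) q15163, e3 q18758 L225893 q15487, e3 q18759 (flp_a L247946) q21366, e3 q18760 L227359 q18760, e3 q18761 L225913 q15168, e3 q18762 (flp_a L234693) q19864, e3 q18763 (flp_a L234701) q19865, e3 q18764 (flp_a L234711) q19866, e3 q18765 L247989 q21371, e3 q18766 (flp_a L225937) q18767, e3 q18767 L225937 q18766, e3 q18768 L225947 q15175, e3 q18769 L229792 q18097, e3 q18770 (flp_a L225959) q15171, e3 q18771 (flp_a L229790) q18099, e3 q18772 (flp_a L240105) q20480, e3 q18773 (flp_a L240113) q20481, e3 q18774 (flp_a L240117) q20482, e3 q18775 (flp_a L226631) q18880, e3 q18776 (flp_a L248051) q21377, e3 q18777 L225985 q18752, e3 q18778 L248079 q21382, e3 q18779 L225999 q18753, e3 q18780 (flp_a L226005) q15176,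 e3 q18781 (flp_a L239977) q20462, e3 q18782 L226015 q18684, e3 q18783 L248147 q21389, e3 q18784 (flp_a L246473) q21200, e3 q18785 L226033 q18010, e3 q18786 (flp_a L226035) q15180, e3 q18787 (flp_a L248201) q21396, e3 q18788 (flp_a L248213) q21397, e3 q18789 (flp_a L226053) q15182, e3 q18790 (flp_a L244069) q20897, e3 q18791 (flp_a L226115) q18799, e3 q18792 L248229 q21399, e3 q18793 (flp_a L244913) q21010, e3 q18794 (flp_a L244135) q20903, e3 q18795 L226085 q15367, e3 q18796 (flp_a L226093) q15191, e3 q18797 L226103 q17900, e3 q18798 (flp_a L245683) q21101, e3 q18799 L226115 q18791, e3 q18800 L226119 q15194, e3 q18801 (flp_a L246318) q21182, e3 q18802 (flp_a L226874) q18913, e3 q18803 (flp_a L226271) q18828, e3 q18804 (flp_a L226285) q18830, e3 q18805 L248302 q21408, e3 q18806 (flp_a L226149) q15196, e3 q18807 (flp_a L243993) q20890, e3 q18808 (flp_a L226153) q15197, e3 q18809 (flp_a L248324) q21411, e3 q18810 L226171 q15383, e3 q18811 L227182 q18811, e3 q18812 L226185 q15201, e3 q18813 (flp_a L234839) q19882, e3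 q18814 (flp_a L234847) q19883, e3 q18815 (flp_a L234857) q19884, trivial⟩ (by decide +kernel)

theorem ce_a_294 : ∀ r, r < 64 → sm ga (Qf (18816 + r)) = Qf (tab Gen.a (18816 + r)) :=
  edges_tab (sm ga) Qf (tab Gen.a) 18816 [(18816, 18818), (18817, 21355), (18818, 18816), (18819, 15209), (18820, 18151), (18821, 15205), (18822, 18153), (18823, 20538), (18824, 20539), (18825, 20540), (18826, 18935), (18827, 21422), (18828, 18803), (18829, 21426), (18830, 18804), (18831, 15210), (18832, 20521), (18833, 18695), (18834, 21433), (18835, 21220), (18836, 18016), (18837, 15214), (18838, 21440), (18839, 21441), (18840, 20253), (18841, 20281), (18842, 18846), (18843, 21327), (18844, 20044), (18845, 17316), (18846, 18842), (18847, 18944), (18848, 18929), (18849, 18945), (18850, 18854), (18851, 20040), (18852, 20038), (18853, 20041), (18854, 18850), (18855, 21454), (18856, 15235), (18857, 19613), (18858, 18751), (18859, 16825), (18860, 18884), (18861, 18916), (18862, 21459), (18863, 15238), (18864, 21461), (18865, 15246), (18866,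 20527), (18867, 17370), (18868, 17371), (18869, 17099), (18870, 18877), (18871, 20554), (18872, 20555), (18873, 15258), (18874, 18903), (18875, 21467), (18876, 15252), (18877, 18870), (18878, 21470), (18879, 15254)]
    ⟨e3 q18816 (flp_a L226213) q18818, e3 q18817 (flp_a L247865) q21355, e3 q18818 L226213 q18816, e3 q18819 L226219 q15209, e3 q18820 L226249 q18151, e3 q18821 (flp_a L226231) q15205, e3 q18822 (flp_a L226237) q18153, e3 q18823 (flp_a L240593) q20538, e3 q18824 (flp_a L240601) q20539, e3 q18825 (flp_a L240611) q20540, e3 q18826 (flp_a L227056) q18935, e3 q18827 L248425 q21422, e3 q18828 L226271 q18803, e3 q18829 L248449 q21426, e3 q18830 L226285 q18804, e3 q18831 (flp_a L226291) q15210, e3 q18832 (flp_a L240475) q20521, e3 q18833 L226301 q18695, e3 q18834 L248517 q21433, e3 q18835 (flp_a L246639) q21220, e3 q18836 L226319 q18016, e3 q18837 (flp_a L226321) q15214, e3 q18838 (flp_a L248571) q21440, e3 q18839 (flp_a L248583) q21441, e3 q18840 (flp_a L238091) q20253, e3 q18841 (flp_a L238323) q20281, e3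 q18842 (flp_a L226383) q18846, e3 q18843 (flp_a L247575) q21327, e3 q18844 (flp_a L236306) q20044, e3 q18845 (flp_a L226379) q17316, e3 q18846 L226383 q18842, e3 q18847 (flp_a L227122) q18944, e3 q18848 (flp_a L226998) q18929, e3 q18849 (flp_a L227129) q18945, e3 q18850 (flp_a L226431) q18854, e3 q18851 (flp_a L236280) q20040, e3 q18852 (flp_a L236264) q20038, e3 q18853 (flp_a L236286) q20041, e3 q18854 L226431 q18850, e3 q18855 L248696 q21454, e3 q18856 L226443 q15235, e3 q18857 (flp_a L232640) q19613, e3 q18858 L226463 q18751, e3 q18859 L226471 q16825, e3 q18860 (flp_a L226657) q18884, e3 q18861 L227108 q18916, e3 q18862 L248730 q21459, e3 q18863 (flp_a L226491) q15238, e3 q18864 (flp_a L248746) q21461, e3 q18865 L226501 q15246, e3 q18866 (flp_a L240521) q20527, e3 q18867 L226519 q17370, e3 q18868 L226527 q17371, e3 q18869 L226541 q17099, e3 q18870 (flp_a L226595) q18877, e3 q18871 (flp_a L240734) q20554, e3 q18872 (flp_a L240740) q20555, e3 q18873 L226565 q15258, e3 q18874 (flp_a L226800) q18903, e3 q18875 L248788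 q21467, e3 q18876 (flp_a L226585) q15252, e3 q18877 L226595 q18870, e3 q18878 (flp_a L248826) q21470, e3 q18879 L226621 q15254, trivial⟩ (by decide +kernel)

theorem ce_a_295 : ∀ r, r < 64 → sm ga (Qf (18880 + r)) = Qf (tab Gen.a (18880 + r)) :=
  edges_tab (sm ga) Qf (tab Gen.a) 18880 [(18880, 18775), (18881, 21472), (18882, 16815), (18883, 21476), (18884, 18860), (18885, 15259), (18886, 20549), (18887, 18942), (18888, 21482), (18889, 18902), (18890, 18904), (18891, 21484), (18892, 18901), (18893, 15265), (18894, 19835), (18895, 15268), (18896, 20241), (18897, 20270), (18898, 21332), (18899, 20024), (18900, 17239), (18901, 18892), (18902, 18889), (18903, 18874), (18904, 18890), (18905, 18908), (18906, 20020), (18907, 20018), (18908, 18905), (18909, 20021), (18910, 21496), (18911, 15288), (18912, 19409), (18913, 18802), (18914, 16799), (18915, 18939), (18916, 18861), (18917, 21501), (18918, 15291), (18919, 21503), (18920, 15298), (18921, 20469), (18922, 17342), (18923, 17343), (18924, 17180), (18925, 18932), (18926,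 20579), (18927, 20580), (18928, 15311), (18929, 18848), (18930, 21509), (18931, 15305), (18932, 18925), (18933, 21512), (18934, 15307), (18935, 18826), (18936, 21514), (18937, 16789), (18938, 21518), (18939, 18915), (18940, 15312), (18941, 20575), (18942, 18887), (18943, 21523)]
    ⟨e3 q18880 L226631 q18775, e3 q18881 L248838 q21472, e3 q18882 L226643 q16815, e3 q18883 L248858 q21476, e3 q18884 L226657 q18860, e3 q18885 (flp_a L226665) q15259, e3 q18886 (flp_a L240690) q20549, e3 q18887 (flp_a L227102) q18942, e3 q18888 L248910 q21482, e3 q18889 (flp_a L226791) q18902, e3 q18890 (flp_a L226810) q18904, e3 q18891 L248925 q21484, e3 q18892 (flp_a L226782) q18901, e3 q18893 (flp_a L226711) q15265, e3 q18894 (flp_a L234433) q19835, e3 q18895 L226727 q15268, e3 q18896 (flp_a L238017) q20241, e3 q18897 (flp_a L238227) q20270, e3 q18898 (flp_a L247634) q21332, e3 q18899 (flp_a L236167) q20024, e3 q18900 (flp_a L226778) q17239, e3 q18901 L226782 q18892, e3 q18902 L226791 q18889, e3 q18903 L226800 q18874, e3 q18904 L226810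 q18890, e3 q18905 (flp_a L226836) q18908, e3 q18906 (flp_a L236141) q20020, e3 q18907 (flp_a L236125) q20018, e3 q18908 L226836 q18905, e3 q18909 (flp_a L236147) q20021, e3 q18910 L249034 q21496, e3 q18911 L226854 q15288, e3 q18912 (flp_a L230694) q19409, e3 q18913 L226874 q18802, e3 q18914 L226882 q16799, e3 q18915 (flp_a L227082) q18939, e3 q18916 (flp_a L227108) q18861, e3 q18917 L249070 q21501, e3 q18918 (flp_a L226902) q15291, e3 q18919 (flp_a L249086) q21503, e3 q18920 L226912 q15298, e3 q18921 (flp_a L240035) q20469, e3 q18922 L226930 q17342, e3 q18923 L226944 q17343, e3 q18924 L226952 q17180, e3 q18925 (flp_a L227024) q18932, e3 q18926 (flp_a L240964) q20579, e3 q18927 (flp_a L240974) q20580, e3 q18928 L226976 q15311, e3 q18929 L226998 q18848, e3 q18930 L249134 q21509, e3 q18931 (flp_a L227014) q15305, e3 q18932 L227024 q18925, e3 q18933 (flp_a L249172) q21512, e3 q18934 L227046 q15307, e3 q18935 L227056 q18826, e3 q18936 L249184 q21514, e3 q18937 L227068 q16789, e3 q18938 L249210 q21518, e3 q18939 L227082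 q18915, e3 q18940 (flp_a L227090) q15312, e3 q18941 (flp_a L240926) q20575, e3 q18942 L227102 q18887, e3 q18943 L249260 q21523, trivial⟩ (by decide +kernel)

theorem ce_a_296 : ∀ r, r < 64 → sm ga (Qf (18944 + r)) = Qf (tab Gen.a (18944 + r)) :=
  edges_tab (sm ga) Qf (tab Gen.a) 18944 [(18944, 18847), (18945, 18849), (18946, 21525), (18947, 15318), (18948, 19741), (18949, 15321), (18950, 18050), (18951, 18951), (18952, 15324), (18953, 19249), (18954, 20705), (18955, 18063), (18956, 21127), (18957, 15443), (18958, 15327), (18959, 21530), (18960, 20255), (18961, 15330), (18962, 21532), (18963, 21535), (18964, 15333), (18965, 15334), (18966, 21538), (18967, 21539), (18968, 21540), (18969, 20258), (18970, 15338), (18971, 15339), (18972, 21547), (18973, 19293), (18974, 19294), (18975, 19027), (18976, 21551), (18977, 15340), (18978, 20989), (18979, 16730), (18980, 16997), (18981, 15347), (18982, 18447), (18983, 16917), (18984, 17971), (18985, 20856), (18986, 18665), (18987, 18995), (18988, 19571), (18989, 15988), (18990,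 19215), (18991, 15983), (18992, 19216), (18993, 19015), (18994, 19004), (18995, 18987), (18996, 15362), (18997, 21050), (18998, 21045), (18999, 21053), (19000, 15365), (19001, 15364), (19002, 21566), (19003, 21567), (19004, 18994), (19005, 19330), (19006, 20704), (19007, 17960)]
    ⟨e3 q18944 L227122 q18847, e3 q18945 L227129 q18849, e3 q18946 L249277 q21525, e3 q18947 (flp_a L227143) q15318, e3 q18948 (flp_a L233671) q19741, e3 q18949 L227159 q15321, e3 q18950 L227171 q18050, e3 q18951 L227181 q18951, e3 q18952 L227186 q15324, e3 q18953 (flp_a L229314) q19249, e3 q18954 (flp_a L242148) q20705, e3 q18955 L227202 q18063, e3 q18956 (flp_a L245873) q21127, e3 q18957 L227212 q15443, e3 q18958 (flp_a L227218) q15327, e3 q18959 (flp_a L249321) q21530, e3 q18960 (flp_a L238111) q20255, e3 q18961 L227248 q15330, e3 q18962 (flp_a L249341) q21532, e3 q18963 L249361 q21535, e3 q18964 L227260 q15333, e3 q18965 L227264 q15334, e3 q18966 (flp_a L249376) q21538, e3 q18967 (flp_a L249386) q21539, e3 q18968 (flp_a L249396) q21540,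 e3 q18969 (flp_a L238135) q20258, e3 q18970 L227294 q15338, e3 q18971 L227298 q15339, e3 q18972 L249478 q21547, e3 q18973 (flp_a L229712) q19293, e3 q18974 (flp_a L229722) q19294, e3 q18975 L227724 q19027, e3 q18976 L249512 q21551, e3 q18977 (flp_a L227338) q15340, e3 q18978 (flp_a L244772) q20989, e3 q18979 L227352 q16730, e3 q18980 L227363 q16997, e3 q18981 L227373 q15347, e3 q18982 L227387 q18447, e3 q18983 L227397 q16917, e3 q18984 L227444 q17971, e3 q18985 (flp_a L243661) q20856, e3 q18986 L227461 q18665, e3 q18987 (flp_a L227530) q18995, e3 q18988 (flp_a L232272) q19571, e3 q18989 L227486 q15988, e3 q18990 (flp_a L229031) q19215, e3 q18991 L227502 q15983, e3 q18992 (flp_a L229038) q19216, e3 q18993 (flp_a L227652) q19015, e3 q18994 (flp_a L227588) q19004, e3 q18995 L227530 q18987, e3 q18996 L227536 q15362, e3 q18997 L245253 q21050, e3 q18998 (flp_a L245215) q21045, e3 q18999 (flp_a L245267) q21053, e3 q19000 L227564 q15365, e3 q19001 (flp_a L227570) q15364, e3 q19002 (flp_a L249653) q21566, e3 q19003 (flp_a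 L249659) q21567, e3 q19004 L227588 q18994, e3 q19005 (flp_a L230070) q19330, e3 q19006 (flp_a L242136) q20704, e3 q19007 L227600 q17960, trivial⟩ (by decide +kernel)

theorem ce_a_297 : ∀ r, r < 64 → sm ga (Qf (19008 + r)) = Qf (tab Gen.a (19008 + r)) :=
  edges_tab (sm ga) Qf (tab Gen.a) 19008 [(19008, 20702), (19009, 21038), (19010, 15369), (19011, 15370), (19012, 21574), (19013, 21575), (19014, 21576), (19015, 18993), (19016, 19570), (19017, 19572), (19018, 19354), (19019, 19076), (19020, 19157), (19021, 21585), (19022, 15377), (19023, 21588), (19024, 21589), (19025, 15379), (19026, 21593), (19027, 18975), (19028, 15381), (19029, 18281), (19030, 21595), (19031, 17686), (19032, 19202), (19033, 15388), (19034, 21338), (19035, 19374), (19036, 19732), (19037, 15389), (19038, 20874), (19039, 19039), (19040, 15396), (19041, 15397), (19042, 15398), (19043, 15399), (19044, 15977), (19045, 21601), (19046, 19451), (19047, 15975), (19048, 21602), (19049, 21603), (19050, 19058), (19051, 19052), (19052, 19051), (19053, 19085),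 (19054, 21615), (19055, 21617), (19056, 21618), (19057, 15404), (19058, 19050), (19059, 21621), (19060, 15406), (19061, 15407), (19062, 21623), (19063, 21624), (19064, 18686), (19065, 19169), (19066, 21629), (19067, 15410), (19068, 15411), (19069, 21631), (19070, 21632), (19071, 19206)]
    ⟨e3 q19008 (flp_a L242118) q20702, e3 q19009 (flp_a L245167) q21038, e3 q19010 L227628 q15369, e3 q19011 L227634 q15370, e3 q19012 (flp_a L249707) q21574, e3 q19013 (flp_a L249715) q21575, e3 q19014 (flp_a L249721) q21576, e3 q19015 L227652 q18993, e3 q19016 (flp_a L232264) q19570, e3 q19017 (flp_a L232280) q19572, e3 q19018 (flp_a L230260) q19354, e3 q19019 (flp_a L228036) q19076, e3 q19020 L230928 q19157, e3 q19021 L249783 q21585, e3 q19022 (flp_a L227698) q15377, e3 q19023 (flp_a L249799) q21588, e3 q19024 L249807 q21589, e3 q19025 L227710 q15379, e3 q19026 (flp_a L249837) q21593, e3 q19027 (flp_a L227724) q18975, e3 q19028 L227730 q15381, e3 q19029 L227740 q18281, e3 q19030 L249855 q21595, e3 q19031 L227750 q17686, e3 q19032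 (flp_a L228926) q19202, e3 q19033 L227772 q15388, e3 q19034 (flp_a L247689) q21338, e3 q19035 (flp_a L230406) q19374, e3 q19036 (flp_a L233603) q19732, e3 q19037 (flp_a L227798) q15389, e3 q19038 (flp_a L243835) q20874, e3 q19039 L227810 q19039, e3 q19040 L227815 q15396, e3 q19041 L227823 q15397, e3 q19042 L227827 q15398, e3 q19043 L227833 q15399, e3 q19044 L227841 q15977, e3 q19045 (flp_a L249899) q21601, e3 q19046 L231188 q19451, e3 q19047 L227861 q15975, e3 q19048 (flp_a L249909) q21602, e3 q19049 (flp_a L249915) q21603, e3 q19050 (flp_a L227921) q19058, e3 q19051 (flp_a L227889) q19052, e3 q19052 L227889 q19051, e3 q19053 (flp_a L228091) q19085, e3 q19054 L249999 q21615, e3 q19055 L250017 q21617, e3 q19056 L250023 q21618, e3 q19057 (flp_a L227909) q15404, e3 q19058 L227921 q19050, e3 q19059 (flp_a L250053) q21621, e3 q19060 L227939 q15406, e3 q19061 L227943 q15407, e3 q19062 (flp_a L250069) q21623, e3 q19063 (flp_a L250073) q21624, e3 q19064 L227959 q18686, e3 q19065 (flp_a L228683) q19169, e3 q19066 L250109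 q21629, e3 q19067 L227977 q15410, e3 q19068 L227982 q15411, e3 q19069 (flp_a L250125) q21631, e3 q19070 (flp_a L250137) q21632, e3 q19071 (flp_a L230921) q19206, trivial⟩ (by decide +kernel)

theorem ce_a_298 : ∀ r, r < 64 → sm ga (Qf (19072 + r)) = Qf (tab Gen.a (19072 + r)) :=
  edges_tab (sm ga) Qf (tab Gen.a) 19072 [(19072, 21637), (19073, 19448), (19074, 19449), (19075, 21633), (19076, 19019), (19077, 15415), (19078, 19417), (19079, 19213), (19080, 21645), (19081, 19129), (19082, 19131), (19083, 21646), (19084, 15421), (19085, 19053), (19086, 21649), (19087, 15424), (19088, 21653), (19089, 16697), (19090, 21656), (19091, 19091), (19092, 15429), (19093, 19483), (19094, 20738), (19095, 18034), (19096, 21180), (19097, 18022), (19098, 20243), (19099, 15433), (19100, 21661), (19101, 15435), (19102, 21663), (19103, 21622), (19104, 15438), (19105, 15439), (19106, 21668), (19107, 21669), (19108, 21670), (19109, 20246), (19110, 15442), (19111, 21676), (19112, 19521), (19113, 19522), (19114, 19164), (19115, 21657), (19116,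 15444), (19117, 21015), (19118, 16726), (19119, 16972), (19120, 15451), (19121, 18385), (19122, 16929), (19123, 17968), (19124, 20849), (19125, 18663), (19126, 19134), (19127, 19355), (19128, 15763), (19129, 19081), (19130, 15758), (19131, 19082), (19132, 19153), (19133, 19142), (19134, 19126), (19135, 15466)]
    ⟨e3 q19072 L250177 q21637, e3 q19073 (flp_a L231162) q19448, e3 q19074 (flp_a L231170) q19449, e3 q19075 (flp_a L250147) q21633, e3 q19076 L228036 q19019, e3 q19077 (flp_a L228044) q15415, e3 q19078 (flp_a L230948) q19417, e3 q19079 (flp_a L230905) q19213, e3 q19080 L250244 q21645, e3 q19081 (flp_a L228402) q19129, e3 q19082 (flp_a L228421) q19131, e3 q19083 L250254 q21646, e3 q19084 (flp_a L228083) q15421, e3 q19085 L228091 q19053, e3 q19086 L250278 q21649, e3 q19087 L228105 q15424, e3 q19088 (flp_a L250312) q21653, e3 q19089 L228115 q16697, e3 q19090 L250336 q21656, e3 q19091 L228131 q19091, e3 q19092 L228134 q15429, e3 q19093 (flp_a L231460) q19483, e3 q19094 (flp_a L242472) q20738, e3 q19095 L228150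 q18034, e3 q19096 (flp_a L246294) q21180, e3 q19097 L228164 q18022, e3 q19098 (flp_a L238031) q20243, e3 q19099 (flp_a L228174) q15433, e3 q19100 (flp_a L250400) q21661, e3 q19101 L228200 q15435, e3 q19102 (flp_a L250420) q21663, e3 q19103 (flp_a L250065) q21622, e3 q19104 L228212 q15438, e3 q19105 L228216 q15439, e3 q19106 (flp_a L250449) q21668, e3 q19107 (flp_a L250470) q21669, e3 q19108 (flp_a L250480) q21670, e3 q19109 (flp_a L238055) q20246, e3 q19110 L228246 q15442, e3 q19111 L250550 q21676, e3 q19112 (flp_a L231814) q19521, e3 q19113 (flp_a L231824) q19522, e3 q19114 (flp_a L228643) q19164, e3 q19115 (flp_a L250350) q21657, e3 q19116 (flp_a L228280) q15444, e3 q19117 (flp_a L244957) q21015, e3 q19118 L228294 q16726, e3 q19119 L228303 q16972, e3 q19120 L228313 q15451, e3 q19121 L228327 q18385, e3 q19122 L228337 q16929, e3 q19123 L228349 q17968, e3 q19124 (flp_a L243593) q20849, e3 q19125 L228366 q18663, e3 q19126 (flp_a L228445) q19134, e3 q19127 (flp_a L230268) q19355, e3 q19128 L228391 q15763, e3 q19129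 L228402 q19081, e3 q19130 L228409 q15758, e3 q19131 L228421 q19082, e3 q19132 (flp_a L228575) q19153, e3 q19133 (flp_a L228499) q19142, e3 q19134 L228445 q19126, e3 q19135 L228451 q15466, trivial⟩ (by decide +kernel)

theorem ce_a_299 : ∀ r, r < 64 → sm ga (Qf (19136 + r)) = Qf (tab Gen.a (19136 + r)) :=
  edges_tab (sm ga) Qf (tab Gen.a) 19136 [(19136, 21085), (19137, 21082), (19138, 21088), (19139, 15469), (19140, 15468), (19141, 21692), (19142, 19133), (19143, 21693), (19144, 19556), (19145, 20737), (19146, 20735), (19147, 17965), (19148, 21075), (19149, 15473), (19150, 15475), (19151, 21607), (19152, 21700), (19153, 19132), (19154, 21701), (19155, 19356), (19156, 19210), (19157, 19020), (19158, 21705), (19159, 15481), (19160, 21708), (19161, 21651), (19162, 15483), (19163, 21711), (19164, 19114), (19165, 15485), (19166, 18338), (19167, 21713), (19168, 17753), (19169, 19065), (19170, 15492), (19171, 21346), (19172, 19589), (19173, 19825), (19174, 15493), (19175, 20898), (19176, 19176), (19177, 15500), (19178,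 15501), (19179, 15502), (19180, 15503), (19181, 15751), (19182, 21718), (19183, 15750), (19184, 19651), (19185, 21719), (19186, 21720), (19187, 19189), (19188, 19195), (19189, 19187), (19190, 21577), (19191, 19219), (19192, 21625), (19193, 21732), (19194, 15508), (19195, 19188), (19196, 21735), (19197, 15510), (19198, 15511), (19199, 21736)]
    ⟨e3 q19136 L245549 q21085, e3 q19137 (flp_a L245531) q21082, e3 q19138 (flp_a L245563) q21088, e3 q19139 L228479 q15469, e3 q19140 (flp_a L228485) q15468, e3 q19141 (flp_a L250709) q21692, e3 q19142 L228499 q19133, e3 q19143 (flp_a L250715) q21693, e3 q19144 (flp_a L232142) q19556, e3 q19145 (flp_a L242460) q20737, e3 q19146 (flp_a L242442) q20735, e3 q19147 L228535 q17965, e3 q19148 (flp_a L245483) q21075, e3 q19149 L228551 q15473, e3 q19150 L228559 q15475, e3 q19151 L249949 q21607, e3 q19152 (flp_a L250767) q21700, e3 q19153 L228575 q19132, e3 q19154 (flp_a L250777) q21701, e3 q19155 (flp_a L230274) q19356, e3 q19156 (flp_a L228995) q19210, e3 q19157 (flp_a L230928) q19020,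 e3 q19158 L250805 q21705, e3 q19159 (flp_a L228613) q15481, e3 q19160 (flp_a L250823) q21708, e3 q19161 (flp_a L250294) q21651, e3 q19162 L228627 q15483, e3 q19163 (flp_a L250855) q21711, e3 q19164 L228643 q19114, e3 q19165 L228649 q15485, e3 q19166 L228659 q18338, e3 q19167 L250873 q21713, e3 q19168 L228671 q17753, e3 q19169 L228683 q19065, e3 q19170 L228695 q15492, e3 q19171 (flp_a L247773) q21346, e3 q19172 (flp_a L232420) q19589, e3 q19173 (flp_a L234355) q19825, e3 q19174 (flp_a L228721) q15493, e3 q19175 (flp_a L244079) q20898, e3 q19176 L228733 q19176, e3 q19177 L228742 q15500, e3 q19178 L228750 q15501, e3 q19179 L228756 q15502, e3 q19180 L228766 q15503, e3 q19181 L228774 q15751, e3 q19182 (flp_a L250921) q21718, e3 q19183 L228790 q15750, e3 q19184 L232969 q19651, e3 q19185 (flp_a L250931) q21719, e3 q19186 (flp_a L250943) q21720, e3 q19187 (flp_a L228826) q19189, e3 q19188 L228874 q19195, e3 q19189 L228826 q19187, e3 q19190 (flp_a L250009) q21577, e3 q19191 (flp_a L229060) q19219, e3 q19192 (flp_a L250085)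 q21625, e3 q19193 L251045 q21732, e3 q19194 (flp_a L228858) q15508, e3 q19195 (flp_a L228874) q19188, e3 q19196 (flp_a L251083) q21735, e3 q19197 L228890 q15510, e3 q19198 L228896 q15511, e3 q19199 (flp_a L251093) q21736, trivial⟩ (by decide +kernel)

theorem ce_a_300 : ∀ r, r < 64 → sm ga (Qf (19200 + r)) = Qf (tab Gen.a (19200 + r)) :=
  edges_tab (sm ga) Qf (tab Gen.a) 19200 [(19200, 21737), (19201, 18697), (19202, 19032), (19203, 21741), (19204, 15514), (19205, 21743), (19206, 19071), (19207, 19648), (19208, 19649), (19209, 21744), (19210, 19156), (19211, 15518), (19212, 19621), (19213, 19079), (19214, 21751), (19215, 18990), (19216, 18992), (19217, 21752), (19218, 15524), (19219, 19191), (19220, 21591), (19221, 15527), (19222, 21757), (19223, 16706), (19224, 21546), (19225, 15532), (19226, 19600), (19227, 19237), (19228, 15535), (19229, 19236), (19230, 15537), (19231, 20904), (19232, 15538), (19233, 21762), (19234, 20437), (19235, 15541), (19236, 19229), (19237, 19227), (19238, 19336), (19239, 19340), (19240,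 17141), (19241, 15549), (19242, 20410), (19243, 15581), (19244, 19325), (19245, 18137), (19246, 15556), (19247, 15557), (19248, 19714), (19249, 18953), (19250, 21767), (19251, 18174), (19252, 18120), (19253, 20200), (19254, 15559), (19255, 15834), (19256, 15835), (19257, 15562), (19258, 21774), (19259, 15580), (19260, 15564), (19261, 15619), (19262, 15567), (19263, 21427)]
    ⟨e3 q19200 (flp_a L251097) q21737, e3 q19201 L228916 q18697, e3 q19202 L228926 q19032, e3 q19203 L251131 q21741, e3 q19204 L228938 q15514, e3 q19205 (flp_a L251153) q21743, e3 q19206 L230921 q19071, e3 q19207 (flp_a L232941) q19648, e3 q19208 (flp_a L232949) q19649, e3 q19209 (flp_a L251165) q21744, e3 q19210 L228995 q19156, e3 q19211 (flp_a L229003) q15518, e3 q19212 (flp_a L232711) q19621, e3 q19213 L230905 q19079, e3 q19214 L251229 q21751, e3 q19215 L229031 q18990, e3 q19216 L229038 q18992, e3 q19217 L251241 q21752, e3 q19218 (flp_a L229052) q15524, e3 q19219 L229060 q19191, e3 q19220 (flp_a L249819) q21591, e3 q19221 L229078 q15527, e3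 q19222 (flp_a L251287) q21757, e3 q19223 L229090 q16706, e3 q19224 (flp_a L249476) q21546, e3 q19225 (flp_a L229104) q15532, e3 q19226 (flp_a L232534) q19600, e3 q19227 (flp_a L229208) q19237, e3 q19228 L229132 q15535, e3 q19229 (flp_a L229200) q19236, e3 q19230 (flp_a L229150) q15537, e3 q19231 (flp_a L244151) q20904, e3 q19232 (flp_a L229162) q15538, e3 q19233 (flp_a L251343) q21762, e3 q19234 (flp_a L239751) q20437, e3 q19235 L229188 q15541, e3 q19236 L229200 q19229, e3 q19237 L229208 q19227, e3 q19238 (flp_a L230130) q19336, e3 q19239 (flp_a L230176) q19340, e3 q19240 L229234 q17141, e3 q19241 L229244 q15549, e3 q19242 (flp_a L239501) q20410, e3 q19243 L229268 q15581, e3 q19244 (flp_a L230030) q19325, e3 q19245 L229276 q18137, e3 q19246 L229284 q15556, e3 q19247 L229294 q15557, e3 q19248 (flp_a L233455) q19714, e3 q19249 L229314 q18953, e3 q19250 (flp_a L251381) q21767, e3 q19251 L229334 q18174, e3 q19252 L229344 q18120, e3 q19253 (flp_a L237687) q20200, e3 q19254 (flp_a L229358) q15559, e3 q19255 L229368 q15834,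 e3 q19256 L229376 q15835, e3 q19257 L229384 q15562, e3 q19258 (flp_a L251463) q21774, e3 q19259 L229404 q15580, e3 q19260 (flp_a L229416) q15564, e3 q19261 L229438 q15619, e3 q19262 L229442 q15567, e3 q19263 (flp_a L248461) q21427, trivial⟩ (by decide +kernel)

theorem ce_a_301 : ∀ r, r < 64 → sm ga (Qf (19264 + r)) = Qf (tab Gen.a (19264 + r)) :=
  edges_tab (sm ga) Qf (tab Gen.a) 19264 [(19264, 18161), (19265, 15571), (19266, 21776), (19267, 16084), (19268, 15577), (19269, 19279), (19270, 20009), (19271, 17786), (19272, 17279), (19273, 16785), (19274, 15584), (19275, 15585), (19276, 15586), (19277, 17551), (19278, 21352), (19279, 19269), (19280, 21781), (19281, 21782), (19282, 20824), (19283, 21784), (19284, 15595), (19285, 15596), (19286, 15597), (19287, 19552), (19288, 15593), (19289, 20620), (19290, 21790), (19291, 17592), (19292, 20846), (19293, 18973), (19294, 18974), (19295, 20434), (19296, 21787), (19297, 20888), (19298, 15598), (19299, 21792), (19300, 16096), (19301, 18041), (19302, 15612), (19303, 17435),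 (19304, 15613), (19305, 15617), (19306, 17584), (19307, 21260), (19308, 17186), (19309, 15621), (19310, 21795), (19311, 15624), (19312, 19319), (19313, 16105), (19314, 16573), (19315, 16003), (19316, 15628), (19317, 21798), (19318, 20377), (19319, 19312), (19320, 15643), (19321, 15644), (19322, 15640), (19323, 19994), (19324, 21800), (19325, 19244), (19326, 20759), (19327, 16470)]
    ⟨e3 q19264 L229456 q18161, e3 q19265 L229464 q15571, e3 q19266 (flp_a L251488) q21776, e3 q19267 L229486 q16084, e3 q19268 L229498 q15577, e3 q19269 (flp_a L229584) q19279, e3 q19270 (flp_a L236039) q20009, e3 q19271 L229514 q17786, e3 q19272 L229520 q17279, e3 q19273 L229528 q16785, e3 q19274 L229538 q15584, e3 q19275 L229544 q15585, e3 q19276 L229552 q15586, e3 q19277 L229568 q17551, e3 q19278 (flp_a L247831) q21352, e3 q19279 L229584 q19269, e3 q19280 (flp_a L251544) q21781, e3 q19281 (flp_a L251556) q21782, e3 q19282 (flp_a L243351) q20824, e3 q19283 L251578 q21784, e3 q19284 L229632 q15595, e3 q19285 L229638 q15596, e3 q19286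 L229648 q15597, e3 q19287 (flp_a L232106) q19552, e3 q19288 (flp_a L229660) q15593, e3 q19289 (flp_a L241362) q20620, e3 q19290 (flp_a L251636) q21790, e3 q19291 (flp_a L229692) q17592, e3 q19292 (flp_a L243563) q20846, e3 q19293 L229712 q18973, e3 q19294 L229722 q18974, e3 q19295 (flp_a L239731) q20434, e3 q19296 (flp_a L251604) q21787, e3 q19297 (flp_a L243977) q20888, e3 q19298 (flp_a L229748) q15598, e3 q19299 (flp_a L251662) q21792, e3 q19300 L229764 q16096, e3 q19301 (flp_a L229780) q18041, e3 q19302 (flp_a L229798) q15612, e3 q19303 L229814 q17435, e3 q19304 (flp_a L229824) q15613, e3 q19305 L229840 q15617, e3 q19306 L229850 q17584, e3 q19307 (flp_a L246991) q21260, e3 q19308 L229870 q17186, e3 q19309 L229884 q15621, e3 q19310 (flp_a L251690) q21795, e3 q19311 L229900 q15624, e3 q19312 (flp_a L229984) q19319, e3 q19313 L229920 q16105, e3 q19314 L229932 q16573, e3 q19315 L229952 q16003, e3 q19316 L229956 q15628, e3 q19317 (flp_a L251726) q21798, e3 q19318 (flp_a L239187) q20377, e3 q19319 L229984 q19312, e3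 q19320 L229992 q15643, e3 q19321 L230002 q15644, e3 q19322 L230014 q15640, e3 q19323 (flp_a L235906) q19994, e3 q19324 (flp_a L251752) q21800, e3 q19325 L230030 q19244, e3 q19326 L242693 q20759, e3 q19327 L230044 q16470, trivial⟩ (by decide +kernel)

theorem ce_a_302 : ∀ r, r < 64 → sm ga (Qf (19328 + r)) = Qf (tab Gen.a (19328 + r)) :=
  edges_tab (sm ga) Qf (tab Gen.a) 19328 [(19328, 19328), (19329, 21445), (19330, 19005), (19331, 17259), (19332, 19332), (19333, 15650), (19334, 15651), (19335, 15653), (19336, 19238), (19337, 17366), (19338, 17338), (19339, 19472), (19340, 19239), (19341, 15658), (19342, 15659), (19343, 15660), (19344, 15661), (19345, 21806), (19346, 21807), (19347, 21808), (19348, 21687), (19349, 21809), (19350, 19575), (19351, 21815), (19352, 19353), (19353, 19352), (19354, 19018), (19355, 19127), (19356, 19155), (19357, 19569), (19358, 15665), (19359, 21161), (19360, 19568), (19361, 15666), (19362, 18297), (19363, 21820), (19364, 20327), (19365, 15668), (19366, 15669), (19367, 21821), (19368,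 21822), (19369, 18496), (19370, 15773), (19371, 15684), (19372, 19372), (19373, 19373), (19374, 19035), (19375, 17129), (19376, 21826), (19377, 20937), (19378, 15689), (19379, 16082), (19380, 16085), (19381, 17727), (19382, 17726), (19383, 17545), (19384, 17546), (19385, 15701), (19386, 19466), (19387, 15878), (19388, 19388), (19389, 17657), (19390, 19470), (19391, 15710)]
    ⟨e3 q19328 L230062 q19328, e3 q19329 (flp_a L248615) q21445, e3 q19330 L230070 q19005, e3 q19331 L230080 q17259, e3 q19332 L230095 q19332, e3 q19333 L230098 q15650, e3 q19334 L230110 q15651, e3 q19335 L230122 q15653, e3 q19336 L230130 q19238, e3 q19337 L230144 q17366, e3 q19338 L230154 q17338, e3 q19339 (flp_a L231352) q19472, e3 q19340 L230176 q19239, e3 q19341 L230188 q15658, e3 q19342 L230192 q15659, e3 q19343 L230196 q15660, e3 q19344 L230200 q15661, e3 q19345 (flp_a L251822) q21806, e3 q19346 (flp_a L251832) q21807, e3 q19347 (flp_a L251836) q21808, e3 q19348 (flp_a L250661) q21687, e3 q19349 (flp_a L251844) q21809, e3 q19350 (flp_a L232298)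 q19575, e3 q19351 L251900 q21815, e3 q19352 (flp_a L230250) q19353, e3 q19353 L230250 q19352, e3 q19354 L230260 q19018, e3 q19355 L230268 q19127, e3 q19356 L230274 q19155, e3 q19357 (flp_a L232252) q19569, e3 q19358 (flp_a L230282) q15665, e3 q19359 (flp_a L246142) q21161, e3 q19360 (flp_a L232240) q19568, e3 q19361 (flp_a L230292) q15666, e3 q19362 L230304 q18297, e3 q19363 (flp_a L251950) q21820, e3 q19364 (flp_a L238703) q20327, e3 q19365 L230326 q15668, e3 q19366 L230336 q15669, e3 q19367 (flp_a L251962) q21821, e3 q19368 (flp_a L251974) q21822, e3 q19369 L230350 q18496, e3 q19370 L230360 q15773, e3 q19371 L230372 q15684, e3 q19372 L230392 q19372, e3 q19373 L230395 q19373, e3 q19374 L230406 q19035, e3 q19375 L230422 q17129, e3 q19376 L252012 q21826, e3 q19377 (flp_a L244395) q20937, e3 q19378 (flp_a L230440) q15689, e3 q19379 L230446 q16082, e3 q19380 L230456 q16085, e3 q19381 L230474 q17727, e3 q19382 (flp_a L230484) q17726, e3 q19383 (flp_a L230492) q17545, e3 q19384 L230496 q17546, e3 q19385 L230508 q15701,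 e3 q19386 (flp_a L231294) q19466, e3 q19387 L230528 q15878, e3 q19388 L230547 q19388, e3 q19389 (flp_a L230556) q17657, e3 q19390 (flp_a L231334) q19470, e3 q19391 L230568 q15710, trivial⟩ (by decide +kernel)

theorem ce_a_303 : ∀ r, r < 64 → sm ga (Qf (19392 + r)) = Qf (tab Gen.a (19392 + r)) :=
  edges_tab (sm ga) Qf (tab Gen.a) 19392 [(19392, 19471), (19393, 19807), (19394, 19806), (19395, 16029), (19396, 16031), (19397, 15722), (19398, 15723), (19399, 16936), (19400, 15718), (19401, 20565), (19402, 21832), (19403, 19608), (19404, 16162), (19405, 20551), (19406, 20552), (19407, 21481), (19408, 21840), (19409, 18912), (19410, 19411), (19411, 19410), (19412, 20189), (19413, 19423), (19414, 21297), (19415, 15729), (19416, 15730), (19417, 19078), (19418, 21843), (19419, 20782), (19420, 15760), (19421, 19623), (19422, 20194), (19423, 19413), (19424, 20845), (19425, 21291), (19426, 15741), (19427, 19652), (19428, 16346), (19429, 20003), (19430, 15747), (19431, 15748), (19432, 15749), (19433, 15752), (19434, 17773),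 (19435, 20760), (19436, 20761), (19437, 20762), (19438, 21722), (19439, 21721), (19440, 21849), (19441, 19442), (19442, 19441), (19443, 21724), (19444, 15761), (19445, 19446), (19446, 19445), (19447, 15891), (19448, 19073), (19449, 19074), (19450, 21685), (19451, 19046), (19452, 19628), (19453, 21717), (19454, 19654), (19455, 15765)]
    ⟨e3 q19392 (flp_a L231342) q19471, e3 q19393 (flp_a L234201) q19807, e3 q19394 L234195 q19806, e3 q19395 L230606 q16029, e3 q19396 L230618 q16031, e3 q19397 L230626 q15722, e3 q19398 L230634 q15723, e3 q19399 (flp_a L230648) q16936, e3 q19400 (flp_a L230650) q15718, e3 q19401 (flp_a L240819) q20565, e3 q19402 (flp_a L252084) q21832, e3 q19403 (flp_a L232598) q19608, e3 q19404 L230670 q16162, e3 q19405 (flp_a L240702) q20551, e3 q19406 (flp_a L240714) q20552, e3 q19407 (flp_a L248904) q21481, e3 q19408 L252150 q21840, e3 q19409 L230694 q18912, e3 q19410 (flp_a L230714) q19411, e3 q19411 L230714 q19410, e3 q19412 (flp_a L237583) q20189, e3 q19413 (flp_a L230978) q19423, e3 q19414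 (flp_a L247277) q21297, e3 q19415 L230747 q15729, e3 q19416 L230751 q15730, e3 q19417 L230948 q19078, e3 q19418 (flp_a L252176) q21843, e3 q19419 (flp_a L242885) q20782, e3 q19420 L230796 q15760, e3 q19421 (flp_a L232735) q19623, e3 q19422 (flp_a L237631) q20194, e3 q19423 L230978 q19413, e3 q19424 (flp_a L243555) q20845, e3 q19425 (flp_a L247233) q21291, e3 q19426 (flp_a L231006) q15741, e3 q19427 (flp_a L232975) q19652, e3 q19428 L231022 q16346, e3 q19429 (flp_a L235985) q20003, e3 q19430 L231038 q15747, e3 q19431 L231042 q15748, e3 q19432 L231048 q15749, e3 q19433 L231054 q15752, e3 q19434 L231064 q17773, e3 q19435 (flp_a L242697) q20760, e3 q19436 (flp_a L242703) q20761, e3 q19437 (flp_a L242713) q20762, e3 q19438 (flp_a L250961) q21722, e3 q19439 (flp_a L250953) q21721, e3 q19440 (flp_a L252241) q21849, e3 q19441 (flp_a L231108) q19442, e3 q19442 L231108 q19441, e3 q19443 (flp_a L250977) q21724, e3 q19444 L231130 q15761, e3 q19445 (flp_a L231144) q19446, e3 q19446 L231144 q19445, e3 q19447 (flp_a L231158) q15891,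 e3 q19448 L231162 q19073, e3 q19449 L231170 q19074, e3 q19450 (flp_a L250641) q21685, e3 q19451 (flp_a L231188) q19046, e3 q19452 (flp_a L232785) q19628, e3 q19453 (flp_a L250917) q21717, e3 q19454 (flp_a L232989) q19654, e3 q19455 (flp_a L231206) q15765, trivial⟩ (by decide +kernel)

theorem ce_a_304 : ∀ r, r < 64 → sm ga (Qf (19456 + r)) = Qf (tab Gen.a (19456 + r)) :=
  edges_tab (sm ga) Qf (tab Gen.a) 19456 [(19456, 21360), (19457, 21860), (19458, 15767), (19459, 15768), (19460, 16938), (19461, 21862), (19462, 18409), (19463, 15771), (19464, 18411), (19465, 15776), (19466, 19386), (19467, 15779), (19468, 20880), (19469, 15782), (19470, 19390), (19471, 19392), (19472, 19339), (19473, 19560), (19474, 15784), (19475, 21866), (19476, 20495), (19477, 15788), (19478, 20352), (19479, 15821), (19480, 17052), (19481, 15796), (19482, 15797), (19483, 19093), (19484, 21869), (19485, 18121), (19486, 18122), (19487, 20204), (19488, 15799), (19489, 18083), (19490, 15802), (19491, 21873), (19492, 15820), (19493, 15804), (19494,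 15852), (19495, 15806), (19496, 21383), (19497, 15810), (19498, 21874), (19499, 16009), (19500, 18107), (19501, 15817), (19502, 19511), (19503, 19962), (19504, 17766), (19505, 17203), (19506, 16811), (19507, 15824), (19508, 15825), (19509, 15826), (19510, 21344), (19511, 19502), (19512, 21879), (19513, 21880), (19514, 20823), (19515, 21881), (19516, 15833), (19517, 15831), (19518, 20619), (19519, 21884)]
    ⟨e3 q19456 (flp_a L247904) q21360, e3 q19457 (flp_a L252339) q21860, e3 q19458 L231230 q15767, e3 q19459 L231236 q15768, e3 q19460 L231244 q16938, e3 q19461 (flp_a L252361) q21862, e3 q19462 L231254 q18409, e3 q19463 L231262 q15771, e3 q19464 L231274 q18411, e3 q19465 (flp_a L231282) q15776, e3 q19466 L231294 q19386, e3 q19467 (flp_a L231304) q15779, e3 q19468 (flp_a L243907) q20880, e3 q19469 L231322 q15782, e3 q19470 L231334 q19390, e3 q19471 L231342 q19392, e3 q19472 L231352 q19339, e3 q19473 (flp_a L232182) q19560, e3 q19474 (flp_a L231372) q15784, e3 q19475 (flp_a L252403) q21866, e3 q19476 (flp_a L240229)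 q20495, e3 q19477 L231398 q15788, e3 q19478 (flp_a L238979) q20352, e3 q19479 L231424 q15821, e3 q19480 L231428 q17052, e3 q19481 L231438 q15796, e3 q19482 L231448 q15797, e3 q19483 L231460 q19093, e3 q19484 (flp_a L252427) q21869, e3 q19485 L231480 q18121, e3 q19486 L231492 q18122, e3 q19487 (flp_a L237729) q20204, e3 q19488 (flp_a L231508) q15799, e3 q19489 L231522 q18083, e3 q19490 L231530 q15802, e3 q19491 (flp_a L252473) q21873, e3 q19492 L231550 q15820, e3 q19493 (flp_a L231562) q15804, e3 q19494 L231584 q15852, e3 q19495 L231588 q15806, e3 q19496 (flp_a L248091) q21383, e3 q19497 L231602 q15810, e3 q19498 (flp_a L252486) q21874, e3 q19499 L231624 q16009, e3 q19500 L231636 q18107, e3 q19501 L231644 q15817, e3 q19502 (flp_a L231720) q19511, e3 q19503 (flp_a L235595) q19962, e3 q19504 L231662 q17766, e3 q19505 L231668 q17203, e3 q19506 L231676 q16811, e3 q19507 L231686 q15824, e3 q19508 L231692 q15825, e3 q19509 L231700 q15826, e3 q19510 (flp_a L247747) q21344, e3 q19511 L231720 q19502, e3 q19512 (flp_a L252542)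 q21879, e3 q19513 (flp_a L252554) q21880, e3 q19514 (flp_a L243337) q20823, e3 q19515 L252564 q21881, e3 q19516 L231770 q15833, e3 q19517 (flp_a L231774) q15831, e3 q19518 (flp_a L241348) q20619, e3 q19519 (flp_a L252590) q21884, trivial⟩ (by decide +kernel)

theorem ce_a_305 : ∀ r, r < 64 → sm ga (Qf (19520 + r)) = Qf (tab Gen.a (19520 + r)) :=
  edges_tab (sm ga) Qf (tab Gen.a) 19520 [(19520, 17564), (19521, 19112), (19522, 19113), (19523, 20489), (19524, 21773), (19525, 20863), (19526, 15836), (19527, 21886), (19528, 16021), (19529, 18070), (19530, 15846), (19531, 17458), (19532, 15847), (19533, 15851), (19534, 21259), (19535, 17612), (19536, 17262), (19537, 15855), (19538, 21889), (19539, 15858), (19540, 19546), (19541, 16538), (19542, 16079), (19543, 15862), (19544, 21891), (19545, 20424), (19546, 19540), (19547, 15877), (19548, 15874), (19549, 19935), (19550, 21802), (19551, 20747), (19552, 19287), (19553, 19553), (19554, 16327), (19555, 21485), (19556, 19144), (19557, 17334), (19558, 19558), (19559, 15884),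 (19560, 19473), (19561, 15888), (19562, 15889), (19563, 15890), (19564, 21856), (19565, 21897), (19566, 21898), (19567, 21561), (19568, 19360), (19569, 19357), (19570, 19016), (19571, 18988), (19572, 19017), (19573, 15895), (19574, 21108), (19575, 19350), (19576, 15896), (19577, 18239), (19578, 21905), (19579, 20396), (19580, 15898), (19581, 15899), (19582, 21906), (19583, 21907)]
    ⟨e3 q19520 L231800 q17564, e3 q19521 L231814 q19112, e3 q19522 L231824 q19113, e3 q19523 (flp_a L240175) q20489, e3 q19524 (flp_a L251455) q21773, e3 q19525 (flp_a L243727) q20863, e3 q19526 (flp_a L231850) q15836, e3 q19527 (flp_a L252616) q21886, e3 q19528 L231866 q16021, e3 q19529 (flp_a L231886) q18070, e3 q19530 (flp_a L231888) q15846, e3 q19531 L231904 q17458, e3 q19532 (flp_a L231914) q15847, e3 q19533 L231930 q15851, e3 q19534 (flp_a L246979) q21259, e3 q19535 L231948 q17612, e3 q19536 L231960 q17262, e3 q19537 L231974 q15855, e3 q19538 (flp_a L252644) q21889, e3 q19539 L231990 q15858, e3 q19540 (flp_a L232062) q19546, e3 q19541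 L232010 q16538, e3 q19542 L232030 q16079, e3 q19543 L232034 q15862, e3 q19544 (flp_a L252668) q21891, e3 q19545 (flp_a L239627) q20424, e3 q19546 L232062 q19540, e3 q19547 L232070 q15877, e3 q19548 L232080 q15874, e3 q19549 (flp_a L235348) q19935, e3 q19550 (flp_a L251782) q21802, e3 q19551 L242570 q20747, e3 q19552 L232106 q19287, e3 q19553 L232124 q19553, e3 q19554 L232127 q16327, e3 q19555 (flp_a L248935) q21485, e3 q19556 L232142 q19144, e3 q19557 L232152 q17334, e3 q19558 L232169 q19558, e3 q19559 L232172 q15884, e3 q19560 L232182 q19473, e3 q19561 L232192 q15888, e3 q19562 L232196 q15889, e3 q19563 L232202 q15890, e3 q19564 (flp_a L252303) q21856, e3 q19565 (flp_a L252738) q21897, e3 q19566 (flp_a L252742) q21898, e3 q19567 (flp_a L249607) q21561, e3 q19568 L232240 q19360, e3 q19569 L232252 q19357, e3 q19570 L232264 q19016, e3 q19571 L232272 q18988, e3 q19572 L232280 q19017, e3 q19573 (flp_a L232284) q15895, e3 q19574 (flp_a L245737) q21108, e3 q19575 L232298 q19350, e3 q19576 (flp_a L232306) q15896, e3 q19577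 L232318 q18239, e3 q19578 (flp_a L252806) q21905, e3 q19579 (flp_a L239367) q20396, e3 q19580 L232340 q15898, e3 q19581 L232350 q15899, e3 q19582 (flp_a L252818) q21906, e3 q19583 (flp_a L252830) q21907, trivial⟩ (by decide +kernel)

theorem ce_a_306 : ∀ r, r < 64 → sm ga (Qf (19584 + r)) = Qf (tab Gen.a (19584 + r)) :=
  edges_tab (sm ga) Qf (tab Gen.a) 19584 [(19584, 18522), (19585, 15998), (19586, 15914), (19587, 19587), (19588, 19588), (19589, 19172), (19590, 17035), (19591, 21911), (19592, 20964), (19593, 15919), (19594, 16006), (19595, 16008), (19596, 17658), (19597, 17550), (19598, 15929), (19599, 19599), (19600, 19226), (19601, 19712), (19602, 16106), (19603, 15948), (19604, 15949), (19605, 16951), (19606, 15944), (19607, 20584), (19608, 19403), (19609, 16177), (19610, 20576), (19611, 20577), (19612, 21917), (19613, 18857), (19614, 21444), (19615, 19616), (19616, 19615), (19617, 20172), (19618, 19625), (19619, 21298), (19620, 15955), (19621, 19212), (19622, 15985), (19623, 19421), (19624, 20177), (19625,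 19618), (19626, 21286), (19627, 15966), (19628, 19452), (19629, 16486), (19630, 19944), (19631, 15972), (19632, 15973), (19633, 15974), (19634, 15976), (19635, 17791), (19636, 20748), (19637, 20749), (19638, 20750), (19639, 21606), (19640, 21924), (19641, 21604), (19642, 19643), (19643, 19642), (19644, 21608), (19645, 19647), (19646, 15986), (19647, 19645)]
    ⟨e3 q19584 L232364 q18522, e3 q19585 L232374 q15998, e3 q19586 L232386 q15914, e3 q19587 L232406 q19587, e3 q19588 L232409 q19588, e3 q19589 L232420 q19172, e3 q19590 (flp_a L232436) q17035, e3 q19591 L252870 q21911, e3 q19592 (flp_a L244593) q20964, e3 q19593 (flp_a L232454) q15919, e3 q19594 L232462 q16006, e3 q19595 L232472 q16008, e3 q19596 L232490 q17658, e3 q19597 (flp_a L232498) q17550, e3 q19598 L232502 q15929, e3 q19599 L232523 q19599, e3 q19600 L232534 q19226, e3 q19601 L233441 q19712, e3 q19602 L232548 q16106, e3 q19603 L232556 q15948, e3 q19604 L232566 q15949, e3 q19605 (flp_a L232580) q16951, e3 q19606 (flp_a L232582) q15944, e3 q19607 (flp_a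 L241008) q20584, e3 q19608 L232598 q19403, e3 q19609 L232610 q16177, e3 q19610 (flp_a L240932) q20576, e3 q19611 (flp_a L240944) q20577, e3 q19612 L252936 q21917, e3 q19613 L232640 q18857, e3 q19614 (flp_a L248611) q21444, e3 q19615 (flp_a L232662) q19616, e3 q19616 L232662 q19615, e3 q19617 (flp_a L237437) q20172, e3 q19618 (flp_a L232757) q19625, e3 q19619 (flp_a L247288) q21298, e3 q19620 L232701 q15955, e3 q19621 L232711 q19212, e3 q19622 L232723 q15985, e3 q19623 L232735 q19421, e3 q19624 (flp_a L237485) q20177, e3 q19625 L232757 q19618, e3 q19626 (flp_a L247199) q21286, e3 q19627 (flp_a L232773) q15966, e3 q19628 L232785 q19452, e3 q19629 L232795 q16486, e3 q19630 (flp_a L235427) q19944, e3 q19631 L232817 q15972, e3 q19632 L232821 q15973, e3 q19633 L232829 q15974, e3 q19634 L232835 q15976, e3 q19635 L232849 q17791, e3 q19636 (flp_a L242574) q20748, e3 q19637 (flp_a L242580) q20749, e3 q19638 (flp_a L242588) q20750, e3 q19639 (flp_a L249937) q21606, e3 q19640 (flp_a L253010) q21924, e3 q19641 (flp_a L249923)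 q21604, e3 q19642 (flp_a L232889) q19643, e3 q19643 L232889 q19642, e3 q19644 (flp_a L249953) q21608, e3 q19645 (flp_a L232927) q19647, e3 q19646 L232923 q15986, e3 q19647 L232927 q19645, trivial⟩ (by decide +kernel)

theorem ce_a_307 : ∀ r, r < 64 → sm ga (Qf (19648 + r)) = Qf (tab Gen.a (19648 + r)) :=
  edges_tab (sm ga) Qf (tab Gen.a) 19648 [(19648, 19207), (19649, 19208), (19650, 21559), (19651, 19184), (19652, 19427), (19653, 21600), (19654, 19454), (19655, 15990), (19656, 21404), (19657, 21934), (19658, 15992), (19659, 15993), (19660, 16953), (19661, 21936), (19662, 18467), (19663, 15996), (19664, 18469), (19665, 17432), (19666, 20600), (19667, 21329), (19668, 18044), (19669, 20606), (19670, 18725), (19671, 16017), (19672, 16018), (19673, 16019), (19674, 16015), (19675, 20321), (19676, 21875), (19677, 21944), (19678, 19719), (19679, 21941), (19680, 20730), (19681, 21888), (19682, 19683), (19683, 19682), (19684, 16025), (19685, 16026), (19686, 16027), (19687, 21699), (19688, 21949), (19689, 19690), (19690,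 19689), (19691, 16794), (19692, 17232), (19693, 17223), (19694, 17233), (19695, 21831), (19696, 17196), (19697, 19698), (19698, 19697), (19699, 16035), (19700, 16877), (19701, 19939), (19702, 21956), (19703, 21957), (19704, 16046), (19705, 16047), (19706, 16048), (19707, 16049), (19708, 16050), (19709, 16051), (19710, 17684), (19711, 21170)]
    ⟨e3 q19648 L232941 q19207, e3 q19649 L232949 q19208, e3 q19650 (flp_a L249589) q21559, e3 q19651 (flp_a L232969) q19184, e3 q19652 L232975 q19427, e3 q19653 (flp_a L249895) q21600, e3 q19654 L232989 q19454, e3 q19655 (flp_a L232997) q15990, e3 q19656 (flp_a L248276) q21404, e3 q19657 (flp_a L253114) q21934, e3 q19658 L233027 q15992, e3 q19659 L233033 q15993, e3 q19660 L233041 q16953, e3 q19661 (flp_a L253138) q21936, e3 q19662 L233055 q18467, e3 q19663 L233063 q15996, e3 q19664 L233075 q18469, e3 q19665 L233085 q17432, e3 q19666 (flp_a L241168) q20600, e3 q19667 (flp_a L247598) q21329, e3 q19668 L233111 q18044, e3 q19669 (flp_a L241250) q20606, e3 q19670 (flp_a L233133)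 q18725, e3 q19671 L233137 q16017, e3 q19672 L233143 q16018, e3 q19673 L233149 q16019, e3 q19674 (flp_a L233153) q16015, e3 q19675 (flp_a L238633) q20321, e3 q19676 L252504 q21875, e3 q19677 (flp_a L253232) q21944, e3 q19678 (flp_a L233497) q19719, e3 q19679 (flp_a L253202) q21941, e3 q19680 (flp_a L242382) q20730, e3 q19681 (flp_a L252634) q21888, e3 q19682 (flp_a L233215) q19683, e3 q19683 L233215 q19682, e3 q19684 L233223 q16025, e3 q19685 L233229 q16026, e3 q19686 L233233 q16027, e3 q19687 (flp_a L250761) q21699, e3 q19688 (flp_a L253282) q21949, e3 q19689 (flp_a L233253) q19690, e3 q19690 L233253 q19689, e3 q19691 L233265 q16794, e3 q19692 L233269 q17232, e3 q19693 L233279 q17223, e3 q19694 L233289 q17233, e3 q19695 (flp_a L252072) q21831, e3 q19696 L233313 q17196, e3 q19697 (flp_a L233327) q19698, e3 q19698 L233327 q19697, e3 q19699 (flp_a L233337) q16035, e3 q19700 L233347 q16877, e3 q19701 (flp_a L235384) q19939, e3 q19702 (flp_a L253334) q21956, e3 q19703 (flp_a L253345) q21957, e3 q19704 L233369 q16046,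 e3 q19705 L233377 q16047, e3 q19706 L233389 q16048, e3 q19707 L233397 q16049, e3 q19708 L233401 q16050, e3 q19709 L233411 q16051, e3 q19710 L233425 q17684, e3 q19711 L246204 q21170, trivial⟩ (by decide +kernel)

theorem ce_a_308 : ∀ r, r < 64 → sm ga (Qf (19712 + r)) = Qf (tab Gen.a (19712 + r)) :=
  edges_tab (sm ga) Qf (tab Gen.a) 19712 [(19712, 19601), (19713, 17198), (19714, 19248), (19715, 17438), (19716, 18667), (19717, 18625), (19718, 17958), (19719, 19678), (19720, 21962), (19721, 18624), (19722, 21963), (19723, 19725), (19724, 18187), (19725, 19723), (19726, 21592), (19727, 19729), (19728, 20693), (19729, 19727), (19730, 21960), (19731, 20694), (19732, 19036), (19733, 20912), (19734, 17046), (19735, 20058), (19736, 16059), (19737, 17720), (19738, 20687), (19739, 16063), (19740, 21972), (19741, 18948), (19742, 20453), (19743, 20360), (19744, 19746), (19745, 17636), (19746, 19744), (19747, 17043), (19748, 16830), (19749, 16783), (19750, 16071), (19751, 17040), (19752, 18680), (19753, 20510), (19754, 16074),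 (19755, 21055), (19756, 16075), (19757, 18688), (19758, 21122), (19759, 17460), (19760, 20602), (19761, 21324), (19762, 18073), (19763, 20605), (19764, 18736), (19765, 16093), (19766, 16094), (19767, 16095), (19768, 16091), (19769, 20301), (19770, 21777), (19771, 21982), (19772, 19812), (19773, 21979), (19774, 21794), (19775, 20695)]
    ⟨e3 q19712 (flp_a L233441) q19601, e3 q19713 L233447 q17198, e3 q19714 L233455 q19248, e3 q19715 L233461 q17438, e3 q19716 (flp_a L233475) q18667, e3 q19717 L233479 q18625, e3 q19718 L233487 q17958, e3 q19719 L233497 q19678, e3 q19720 (flp_a L253389) q21962, e3 q19721 L233511 q18624, e3 q19722 (flp_a L253401) q21963, e3 q19723 (flp_a L233543) q19725, e3 q19724 (flp_a L233535) q18187, e3 q19725 L233543 q19723, e3 q19726 (flp_a L249831) q21592, e3 q19727 (flp_a L233575) q19729, e3 q19728 (flp_a L242016) q20693, e3 q19729 L233575 q19727, e3 q19730 (flp_a L253379) q21960, e3 q19731 (flp_a L242024) q20694, e3 q19732 L233603 q19036, e3 q19733 (flp_a L244223) q20912, e3 q19734 (flp_a L233619)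 q17046, e3 q19735 (flp_a L236403) q20058, e3 q19736 (flp_a L233627) q16059, e3 q19737 L233641 q17720, e3 q19738 (flp_a L241950) q20687, e3 q19739 L233655 q16063, e3 q19740 (flp_a L253487) q21972, e3 q19741 L233671 q18948, e3 q19742 (flp_a L239887) q20453, e3 q19743 (flp_a L239051) q20360, e3 q19744 (flp_a L233709) q19746, e3 q19745 L233705 q17636, e3 q19746 L233709 q19744, e3 q19747 (flp_a L233723) q17043, e3 q19748 L233729 q16830, e3 q19749 L233739 q16783, e3 q19750 (flp_a L233747) q16071, e3 q19751 L233759 q17040, e3 q19752 (flp_a L233777) q18680, e3 q19753 (flp_a L240363) q20510, e3 q19754 (flp_a L233787) q16074, e3 q19755 (flp_a L245297) q21055, e3 q19756 (flp_a L233807) q16075, e3 q19757 L233819 q18688, e3 q19758 (flp_a L245835) q21122, e3 q19759 L233833 q17460, e3 q19760 (flp_a L241196) q20602, e3 q19761 (flp_a L247539) q21324, e3 q19762 L233859 q18073, e3 q19763 (flp_a L241236) q20605, e3 q19764 (flp_a L233881) q18736, e3 q19765 L233885 q16093, e3 q19766 L233891 q16094, e3 q19767 L233897 q16095, e3 q19768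 (flp_a L233901) q16091, e3 q19769 (flp_a L238477) q20301, e3 q19770 (flp_a L251506) q21777, e3 q19771 (flp_a L253597) q21982, e3 q19772 (flp_a L234241) q19812, e3 q19773 (flp_a L253567) q21979, e3 q19774 (flp_a L251680) q21794, e3 q19775 (flp_a L242036) q20695, trivial⟩ (by decide +kernel)

theorem ce_a_309 : ∀ r, r < 64 → sm ga (Qf (19776 + r)) = Qf (tab Gen.a (19776 + r)) :=
  edges_tab (sm ga) Qf (tab Gen.a) 19776 [(19776, 19777), (19777, 19776), (19778, 16101), (19779, 16102), (19780, 16103), (19781, 21987), (19782, 21573), (19783, 19784), (19784, 19783), (19785, 16820), (19786, 17308), (19787, 17309), (19788, 17299), (19789, 21797), (19790, 19792), (19791, 17272), (19792, 19790), (19793, 16111), (19794, 16884), (19795, 19998), (19796, 21994), (19797, 21995), (19798, 16122), (19799, 16123), (19800, 16124), (19801, 16125), (19802, 16126), (19803, 16127), (19804, 21111), (19805, 17752), (19806, 19394), (19807, 19393), (19808, 17274), (19809, 17463), (19810, 18672), (19811, 18640), (19812, 19772), (19813, 17963),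 (19814, 22000), (19815, 22001), (19816, 18639), (19817, 18212), (19818, 19819), (19819, 19818), (19820, 21710), (19821, 20728), (19822, 19823), (19823, 19822), (19824, 20729), (19825, 19173), (19826, 21997), (19827, 17136), (19828, 20941), (19829, 16134), (19830, 17650), (19831, 20724), (19832, 20075), (19833, 16137), (19834, 22010), (19835, 18894), (19836, 20379), (19837, 20511), (19838, 17708), (19839, 19840)]
    ⟨e3 q19776 (flp_a L233961) q19777, e3 q19777 L233961 q19776, e3 q19778 L233971 q16101, e3 q19779 L233977 q16102, e3 q19780 L233981 q16103, e3 q19781 (flp_a L253647) q21987, e3 q19782 L249701 q21573, e3 q19783 (flp_a L234007) q19784, e3 q19784 L234007 q19783, e3 q19785 L234019 q16820, e3 q19786 L234023 q17308, e3 q19787 L234033 q17309, e3 q19788 L234041 q17299, e3 q19789 (flp_a L251712) q21797, e3 q19790 (flp_a L234083) q19792, e3 q19791 L234077 q17272, e3 q19792 L234083 q19790, e3 q19793 (flp_a L234091) q16111, e3 q19794 L234101 q16884, e3 q19795 (flp_a L235942) q19998, e3 q19796 (flp_a L253701) q21994,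 e3 q19797 (flp_a L253715) q21995, e3 q19798 L234123 q16122, e3 q19799 L234131 q16123, e3 q19800 L234139 q16124, e3 q19801 L234151 q16125, e3 q19802 L234155 q16126, e3 q19803 L234163 q16127, e3 q19804 L245757 q21111, e3 q19805 L234181 q17752, e3 q19806 (flp_a L234195) q19394, e3 q19807 L234201 q19393, e3 q19808 L234207 q17274, e3 q19809 L234215 q17463, e3 q19810 (flp_a L234229) q18672, e3 q19811 L234233 q18640, e3 q19812 L234241 q19772, e3 q19813 L234249 q17963, e3 q19814 (flp_a L253756) q22000, e3 q19815 (flp_a L253768) q22001, e3 q19816 L234271 q18639, e3 q19817 (flp_a L234283) q18212, e3 q19818 (flp_a L234301) q19819, e3 q19819 L234301 q19818, e3 q19820 (flp_a L250847) q21710, e3 q19821 (flp_a L242362) q20728, e3 q19822 (flp_a L234335) q19823, e3 q19823 L234335 q19822, e3 q19824 (flp_a L242370) q20729, e3 q19825 L234355 q19173, e3 q19826 (flp_a L253738) q21997, e3 q19827 (flp_a L234367) q17136, e3 q19828 (flp_a L244437) q20941, e3 q19829 (flp_a L234375) q16134, e3 q19830 L234389 q17650, e3 q19831 (flp_a L242314)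 q20724, e3 q19832 (flp_a L236539) q20075, e3 q19833 L234415 q16137, e3 q19834 (flp_a L253854) q22010, e3 q19835 L234433 q18894, e3 q19836 (flp_a L239205) q20379, e3 q19837 (flp_a L240371) q20511, e3 q19838 L234463 q17708, e3 q19839 (flp_a L234475) q19840, trivial⟩ (by decide +kernel)

theorem ce_a_310 : ∀ r, r < 64 → sm ga (Qf (19840 + r)) = Qf (tab Gen.a (19840 + r)) :=
  edges_tab (sm ga) Qf (tab Gen.a) 19840 [(19840, 19839), (19841, 17133), (19842, 16146), (19843, 17130), (19844, 16837), (19845, 16809), (19846, 20452), (19847, 18691), (19848, 16150), (19849, 18677), (19850, 21175), (19851, 16151), (19852, 21090), (19853, 17177), (19854, 17247), (19855, 16155), (19856, 16156), (19857, 17179), (19858, 20564), (19859, 19877), (19860, 16163), (19861, 16164), (19862, 21477), (19863, 22022), (19864, 18762), (19865, 18763), (19866, 18764), (19867, 21835), (19868, 21836), (19869, 19870), (19870, 19869), (19871, 22029), (19872, 17095), (19873, 17323), (19874, 16170), (19875, 16171), (19876, 17098), (19877, 19859), (19878,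 16178), (19879, 16179), (19880, 22036), (19881, 21519), (19882, 18813), (19883, 18814), (19884, 18815), (19885, 21913), (19886, 21914), (19887, 19888), (19888, 19887), (19889, 22043), (19890, 16183), (19891, 16185), (19892, 16206), (19893, 16236), (19894, 16293), (19895, 17093), (19896, 20039), (19897, 16214), (19898, 17073), (19899, 19904), (19900, 16221), (19901, 21262), (19902, 22045), (19903, 16224)]
    ⟨e3 q19840 L234475 q19839, e3 q19841 L234491 q17133, e3 q19842 (flp_a L234495) q16146, e3 q19843 L234509 q17130, e3 q19844 L234521 q16837, e3 q19845 L234531 q16809, e3 q19846 (flp_a L239879) q20452, e3 q19847 (flp_a L234557) q18691, e3 q19848 (flp_a L234559) q16150, e3 q19849 L234571 q18677, e3 q19850 (flp_a L246246) q21175, e3 q19851 (flp_a L234583) q16151, e3 q19852 (flp_a L245593) q21090, e3 q19853 L234605 q17177, e3 q19854 L234625 q17247, e3 q19855 L234629 q16155, e3 q19856 L234643 q16156, e3 q19857 L234653 q17179, e3 q19858 (flp_a L240809) q20564, e3 q19859 (flp_a L234809) q19877, e3 q19860 L234673 q16163,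 e3 q19861 L234681 q16164, e3 q19862 (flp_a L248868) q21477, e3 q19863 L253974 q22022, e3 q19864 L234693 q18762, e3 q19865 L234701 q18763, e3 q19866 L234711 q18764, e3 q19867 (flp_a L252106) q21835, e3 q19868 (flp_a L252116) q21836, e3 q19869 (flp_a L234739) q19870, e3 q19870 L234739 q19869, e3 q19871 L254048 q22029, e3 q19872 L234751 q17095, e3 q19873 L234771 q17323, e3 q19874 L234775 q16170, e3 q19875 L234785 q16171, e3 q19876 L234799 q17098, e3 q19877 L234809 q19859, e3 q19878 L234819 q16178, e3 q19879 L234827 q16179, e3 q19880 L254114 q22036, e3 q19881 (flp_a L249222) q21519, e3 q19882 L234839 q18813, e3 q19883 L234847 q18814, e3 q19884 L234857 q18815, e3 q19885 (flp_a L252896) q21913, e3 q19886 (flp_a L252908) q21914, e3 q19887 (flp_a L234887) q19888, e3 q19888 L234887 q19887, e3 q19889 L254190 q22043, e3 q19890 L234897 q16183, e3 q19891 L234909 q16185, e3 q19892 L234923 q16206, e3 q19893 L234935 q16236, e3 q19894 L234949 q16293, e3 q19895 (flp_a L234969) q17093, e3 q19896 (flp_a L236270) q20039, e3 q19897 (flp_a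 L234981) q16214, e3 q19898 L234993 q17073, e3 q19899 L235049 q19904, e3 q19900 (flp_a L235011) q16221, e3 q19901 (flp_a L247015) q21262, e3 q19902 (flp_a L254218) q22045, e3 q19903 L235035 q16224, trivial⟩ (by decide +kernel)

theorem ce_a_311 : ∀ r, r < 64 → sm ga (Qf (19904 + r)) = Qf (tab Gen.a (19904 + r)) :=
  edges_tab (sm ga) Qf (tab Gen.a) 19904 [(19904, 19899), (19905, 16227), (19906, 20084), (19907, 16446), (19908, 17176), (19909, 20019), (19910, 16244), (19911, 17159), (19912, 19917), (19913, 16251), (19914, 21264), (19915, 22047), (19916, 16254), (19917, 19912), (19918, 16257), (19919, 20092), (19920, 18543), (19921, 16269), (19922, 20609), (19923, 17192), (19924, 16274), (19925, 17474), (19926, 17608), (19927, 16315), (19928, 17695), (19929, 16305), (19930, 18597), (19931, 20643), (19932, 16463), (19933, 16325), (19934, 16332), (19935, 19549), (19936, 20366), (19937, 16340), (19938, 16342), (19939, 19701), (19940, 20526), (19941, 22049), (19942, 19942), (19943, 16627), (19944, 19630), (19945, 19945),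 (19946, 19946), (19947, 16351), (19948, 17933), (19949, 16365), (19950, 22054), (19951, 17134), (19952, 20486), (19953, 17315), (19954, 16377), (19955, 16378), (19956, 16379), (19957, 22056), (19958, 22057), (19959, 19960), (19960, 19959), (19961, 17240), (19962, 19503), (19963, 16396), (19964, 16398), (19965, 16399), (19966, 16400), (19967, 16403)]
    ⟨e3 q19904 (flp_a L235049) q19899, e3 q19905 (flp_a L235053) q16227, e3 q19906 (flp_a L236607) q20084, e3 q19907 L235069 q16446, e3 q19908 L235091 q17176, e3 q19909 (flp_a L236131) q20019, e3 q19910 (flp_a L235101) q16244, e3 q19911 L235113 q17159, e3 q19912 (flp_a L235171) q19917, e3 q19913 (flp_a L235131) q16251, e3 q19914 (flp_a L247037) q21264, e3 q19915 (flp_a L254242) q22047, e3 q19916 L235155 q16254, e3 q19917 L235171 q19912, e3 q19918 (flp_a L235173) q16257, e3 q19919 (flp_a L236689) q20092, e3 q19920 L235193 q18543, e3 q19921 L235197 q16269, e3 q19922 (flp_a L241271) q20609, e3 q19923 L235215 q17192, e3 q19924 L235225 q16274, e3 q19925 L235242 q17474, e3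 q19926 L235248 q17608, e3 q19927 L235264 q16315, e3 q19928 L235268 q17695, e3 q19929 L235276 q16305, e3 q19930 L235286 q18597, e3 q19931 (flp_a L241554) q20643, e3 q19932 L235312 q16463, e3 q19933 L235326 q16325, e3 q19934 L235338 q16332, e3 q19935 L235348 q19549, e3 q19936 (flp_a L239099) q20366, e3 q19937 L235364 q16340, e3 q19938 L235374 q16342, e3 q19939 L235384 q19701, e3 q19940 L240517 q20526, e3 q19941 (flp_a L254263) q22049, e3 q19942 L235414 q19942, e3 q19943 L235417 q16627, e3 q19944 L235427 q19630, e3 q19945 L235439 q19945, e3 q19946 L235442 q19946, e3 q19947 L235449 q16351, e3 q19948 L235459 q17933, e3 q19949 L235471 q16365, e3 q19950 (flp_a L254318) q22054, e3 q19951 L235489 q17134, e3 q19952 (flp_a L240141) q20486, e3 q19953 L235505 q17315, e3 q19954 L235517 q16377, e3 q19955 L235527 q16378, e3 q19956 L235537 q16379, e3 q19957 (flp_a L254340) q22056, e3 q19958 (flp_a L254352) q22057, e3 q19959 (flp_a L235571) q19960, e3 q19960 L235571 q19959, e3 q19961 L235583 q17240, e3 q19962 L235595 q19503, e3 q19963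 L235607 q16396, e3 q19964 L235619 q16398, e3 q19965 L235629 q16399, e3 q19966 L235639 q16400, e3 q19967 L235649 q16403, trivial⟩ (by decide +kernel)

theorem ce_a_312 : ∀ r, r < 64 → sm ga (Qf (19968 + r)) = Qf (tab Gen.a (19968 + r)) :=
  edges_tab (sm ga) Qf (tab Gen.a) 19968 [(19968, 16404), (19969, 22059), (19970, 17044), (19971, 22060), (19972, 22061), (19973, 19974), (19974, 19973), (19975, 19976), (19976, 19975), (19977, 20277), (19978, 20544), (19979, 16414), (19980, 17496), (19981, 18551), (19982, 16424), (19983, 20612), (19984, 17268), (19985, 16429), (19986, 17449), (19987, 17580), (19988, 17763), (19989, 16454), (19990, 18588), (19991, 20668), (19992, 16469), (19993, 16474), (19994, 19323), (19995, 20416), (19996, 16481), (19997, 16482), (19998, 19795), (19999, 22065), (20000, 20467), (20001, 16604), (20002, 20002), (20003, 19429), (20004, 20004), (20005, 20005), (20006, 16491), (20007, 17943), (20008, 20428), (20009, 19270), (20010, 16512), (20011, 16513), (20012, 20013), (20013, 20012), (20014, 20266),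 (20015, 20570), (20016, 16521), (20017, 17487), (20018, 18907), (20019, 19909), (20020, 18906), (20021, 18909), (20022, 20592), (20023, 20537), (20024, 18899), (20025, 16548), (20026, 16549), (20027, 16551), (20028, 16552), (20029, 22073), (20030, 22074), (20031, 18574)]
    ⟨e3 q19968 L235655 q16404, e3 q19969 (flp_a L254380) q22059, e3 q19970 L235671 q17044, e3 q19971 (flp_a L254392) q22060, e3 q19972 (flp_a L254404) q22061, e3 q19973 (flp_a L235707) q19974, e3 q19974 L235707 q19973, e3 q19975 (flp_a L235725) q19976, e3 q19976 L235725 q19975, e3 q19977 (flp_a L238295) q20277, e3 q19978 (flp_a L240639) q20544, e3 q19979 L235749 q16414, e3 q19980 L235761 q17496, e3 q19981 L235779 q18551, e3 q19982 L235783 q16424, e3 q19983 (flp_a L241302) q20612, e3 q19984 L235801 q17268, e3 q19985 L235811 q16429, e3 q19986 L235828 q17449, e3 q19987 L235834 q17580, e3 q19988 L235840 q17763, e3 q19989 L235848 q16454, e3 q19990 L235858 q18588, e3 q19991 (flp_a L241770) q20668, e3 q19992 L235884 q16469, e3 q19993 L235896 q16474, e3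 q19994 L235906 q19323, e3 q19995 (flp_a L239557) q20416, e3 q19996 L235922 q16481, e3 q19997 L235932 q16482, e3 q19998 L235942 q19795, e3 q19999 (flp_a L254453) q22065, e3 q20000 L240025 q20467, e3 q20001 L235966 q16604, e3 q20002 L235982 q20002, e3 q20003 L235985 q19429, e3 q20004 L236001 q20004, e3 q20005 L236004 q20005, e3 q20006 L236011 q16491, e3 q20007 L236023 q17943, e3 q20008 (flp_a L239663) q20428, e3 q20009 L236039 q19270, e3 q20010 L236051 q16512, e3 q20011 L236059 q16513, e3 q20012 (flp_a L236073) q20013, e3 q20013 L236073 q20012, e3 q20014 (flp_a L238199) q20266, e3 q20015 (flp_a L240867) q20570, e3 q20016 L236099 q16521, e3 q20017 L236111 q17487, e3 q20018 L236125 q18907, e3 q20019 L236131 q19909, e3 q20020 L236141 q18906, e3 q20021 L236147 q18909, e3 q20022 (flp_a L241080) q20592, e3 q20023 (flp_a L240583) q20537, e3 q20024 L236167 q18899, e3 q20025 L236177 q16548, e3 q20026 L236183 q16549, e3 q20027 L236193 q16551, e3 q20028 L236201 q16552, e3 q20029 (flp_a L254548) q22073, e3 q20030 (flp_a L254556)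 q22074, e3 q20031 L236223 q18574, trivial⟩ (by decide +kernel)

theorem ce_a_313 : ∀ r, r < 64 → sm ga (Qf (20032 + r)) = Qf (tab Gen.a (20032 + r)) :=
  edges_tab (sm ga) Qf (tab Gen.a) 20032 [(20032, 20625), (20033, 18722), (20034, 21772), (20035, 20276), (20036, 17106), (20037, 20037), (20038, 18852), (20039, 19896), (20040, 18851), (20041, 18853), (20042, 20588), (20043, 20479), (20044, 18844), (20045, 16583), (20046, 16584), (20047, 16586), (20048, 16587), (20049, 22086), (20050, 22087), (20051, 18560), (20052, 20652), (20053, 18734), (20054, 21788), (20055, 20265), (20056, 17185), (20057, 20057), (20058, 19735), (20059, 22067), (20060, 16614), (20061, 16615), (20062, 16616), (20063, 20063), (20064, 20455), (20065, 20072), (20066, 16632), (20067, 20513), (20068, 22105), (20069, 22098), (20070, 22099), (20071, 20375), (20072, 20065), (20073, 16633), (20074, 20074), (20075, 19832), (20076, 22052), (20077, 16631), (20078, 20083), (20079, 22116), (20080, 22103), (20081, 22111), (20082, 20423), (20083, 20078), (20084,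 19906), (20085, 18558), (20086, 20659), (20087, 16660), (20088, 17536), (20089, 17119), (20090, 16657), (20091, 22125), (20092, 19919), (20093, 18572), (20094, 20632), (20095, 16678)]
    ⟨e3 q20032 L253196 q20625, e3 q20033 L236231 q18722, e3 q20034 L251451 q21772, e3 q20035 (flp_a L238283) q20276, e3 q20036 L236247 q17106, e3 q20037 L236261 q20037, e3 q20038 L236264 q18852, e3 q20039 L236270 q19896, e3 q20040 L236280 q18851, e3 q20041 L236286 q18853, e3 q20042 (flp_a L241048) q20588, e3 q20043 (flp_a L240095) q20479, e3 q20044 L236306 q18844, e3 q20045 L236316 q16583, e3 q20046 L236322 q16584, e3 q20047 L236332 q16586, e3 q20048 L236340 q16587, e3 q20049 (flp_a L254658) q22086, e3 q20050 (flp_a L254666) q22087, e3 q20051 (flp_a L236362) q18560, e3 q20052 L251764 q20652, e3 q20053 L236370 q18734, e3 q20054 L251620 q21788, e3 q20055 (flp_a L238189) q20265, e3 q20056 L236386 q17185, e3 q20057 L236400 q20057, e3 q20058 L236403 q19735, e3 q20059 (flp_a L254478) q22067, e3 q20060 L236423 q16614, e3 q20061 L236427 q16615,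 e3 q20062 L236435 q16616, e3 q20063 L236453 q20063, e3 q20064 (flp_a L239915) q20455, e3 q20065 (flp_a L236510) q20072, e3 q20066 L236472 q16632, e3 q20067 (flp_a L240399) q20513, e3 q20068 L254818 q22105, e3 q20069 (flp_a L254744) q22098, e3 q20070 (flp_a L254754) q22099, e3 q20071 (flp_a L239165) q20375, e3 q20072 L236510 q20065, e3 q20073 L236518 q16633, e3 q20074 L236536 q20074, e3 q20075 L236539 q19832, e3 q20076 (flp_a L254296) q22052, e3 q20077 L236559 q16631, e3 q20078 (flp_a L236597) q20083, e3 q20079 L254903 q22116, e3 q20080 (flp_a L254796) q22103, e3 q20081 (flp_a L254859) q22111, e3 q20082 (flp_a L239611) q20423, e3 q20083 L236597 q20078, e3 q20084 L236607 q19906, e3 q20085 L236617 q18558, e3 q20086 (flp_a L241686) q20659, e3 q20087 L236635 q16660, e3 q20088 L236647 q17536, e3 q20089 L236659 q17119, e3 q20090 L236671 q16657, e3 q20091 (flp_a L254980) q22125, e3 q20092 L236689 q19919, e3 q20093 L236699 q18572, e3 q20094 (flp_a L241452) q20632, e3 q20095 L236717 q16678, trivial⟩ (by decide +kernel)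

theorem ce_a_314 : ∀ r, r < 64 → sm ga (Qf (20096 + r)) = Qf (tab Gen.a (20096 + r)) :=
  edges_tab (sm ga) Qf (tab Gen.a) 20096 [(20096, 17540), (20097, 17028), (20098, 16675), (20099, 22129), (20100, 20292), (20101, 20313), (20102, 16991), (20103, 16685), (20104, 16686), (20105, 17568), (20106, 20861), (20107, 22130), (20108, 21946), (20109, 17881), (20110, 16966), (20111, 16691), (20112, 16692), (20113, 17596), (20114, 20886), (20115, 22132), (20116, 21984), (20117, 17905), (20118, 16882), (20119, 18374), (20120, 20124), (20121, 20304), (20122, 21674), (20123, 16703), (20124, 20120), (20125, 16875), (20126, 18439), (20127, 20131), (20128, 20284), (20129, 21544), (20130, 16712), (20131, 20127), (20132, 18326), (20133, 16717), (20134, 16957), (20135, 18269), (20136, 16723), (20137, 16942), (20138, 21680), (20139, 16728), (20140, 20247), (20141, 17015), (20142, 21553), (20143, 16732), (20144, 20259), (20145, 16990), (20146, 16822), (20147, 16735), (20148, 22142), (20149, 16795), (20150, 16738), (20151, 22145),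 (20152, 16752), (20153, 21144), (20154, 20264), (20155, 16754), (20156, 20156), (20157, 16760), (20158, 21193), (20159, 20275)]
    ⟨e3 q20096 L236729 q17540, e3 q20097 L236741 q17028, e3 q20098 L236753 q16675, e3 q20099 (flp_a L255026) q22129, e3 q20100 (flp_a L238409) q20292, e3 q20101 (flp_a L238573) q20313, e3 q20102 L236783 q16991, e3 q20103 L236797 q16685, e3 q20104 L236807 q16686, e3 q20105 L236817 q17568, e3 q20106 (flp_a L243707) q20861, e3 q20107 (flp_a L255036) q22130, e3 q20108 (flp_a L253254) q21946, e3 q20109 L236857 q17881, e3 q20110 L236867 q16966, e3 q20111 L236881 q16691, e3 q20112 L236891 q16692, e3 q20113 L236901 q17596, e3 q20114 (flp_a L243959) q20886, e3 q20115 (flp_a L255060) q22132, e3 q20116 (flp_a L253619) q21984, e3 q20117 L236941 q17905, e3 q20118 L236959 q16882, e3 q20119 L236963 q18374, e3 q20120 (flp_a L237011) q20124, e3 q20121 (flp_a L238507) q20304, e3 q20122 (flp_a L250528) q21674, e3 q20123 L236999 q16703, e3 q20124 L237011 q20120, e3 q20125 L237029 q16875, e3 q20126 L237033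 q18439, e3 q20127 (flp_a L237081) q20131, e3 q20128 (flp_a L238351) q20284, e3 q20129 (flp_a L249444) q21544, e3 q20130 L237069 q16712, e3 q20131 L237081 q20127, e3 q20132 L237091 q18326, e3 q20133 (flp_a L237099) q16717, e3 q20134 L237111 q16957, e3 q20135 L237125 q18269, e3 q20136 (flp_a L237133) q16723, e3 q20137 L237145 q16942, e3 q20138 (flp_a L250590) q21680, e3 q20139 L237167 q16728, e3 q20140 (flp_a L238059) q20247, e3 q20141 L237183 q17015, e3 q20142 (flp_a L249534) q21553, e3 q20143 L237201 q16732, e3 q20144 (flp_a L238139) q20259, e3 q20145 L237217 q16990, e3 q20146 L237237 q16822, e3 q20147 L237241 q16735, e3 q20148 (flp_a L255172) q22142, e3 q20149 L237263 q16795, e3 q20150 L237267 q16738, e3 q20151 (flp_a L255198) q22145, e3 q20152 (flp_a L237279) q16752, e3 q20153 (flp_a L246004) q21144, e3 q20154 (flp_a L238177) q20264, e3 q20155 L237297 q16754, e3 q20156 L237319 q20156, e3 q20157 (flp_a L237320) q16760, e3 q20158 (flp_a L246403) q21193, e3 q20159 (flp_a L238271) q20275, trivial⟩ (by decide +kernel)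

theorem ce_a_315 : ∀ r, r < 64 → sm ga (Qf (20160 + r)) = Qf (tab Gen.a (20160 + r)) :=
  edges_tab (sm ga) Qf (tab Gen.a) 20160 [(20160, 16762), (20161, 20161), (20162, 18575), (20163, 18561), (20164, 17932), (20165, 18275), (20166, 20325), (20167, 18576), (20168, 16976), (20169, 21779), (20170, 18552), (20171, 20499), (20172, 19617), (20173, 20179), (20174, 17599), (20175, 21954), (20176, 21250), (20177, 19624), (20178, 20531), (20179, 20173), (20180, 20812), (20181, 17942), (20182, 18332), (20183, 20395), (20184, 18562), (20185, 17000), (20186, 21877), (20187, 18544), (20188, 20441), (20189, 19412), (20190, 20196), (20191, 17571), (20192, 21239), (20193, 21992), (20194, 19422), (20195, 20475), (20196, 20190), (20197, 20802), (20198, 17794), (20199, 16834), (20200, 19253), (20201, 17039), (20202, 17778), (20203, 16841), (20204, 19487), (20205, 17128), (20206, 18591), (20207, 20207), (20208, 18600), (20209, 20209), (20210, 20210), (20211, 20211), (20212, 18285), (20213, 18342), (20214, 18351), (20215, 21958),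 (20216, 17013), (20217, 18413), (20218, 21996), (20219, 16988), (20220, 16894), (20221, 22169), (20222, 20911), (20223, 22170)]
    ⟨e3 q20160 L237338 q16762, e3 q20161 L237360 q20161, e3 q20162 L237363 q18575, e3 q20163 L237369 q18561, e3 q20164 L237375 q17932, e3 q20165 (flp_a L237393) q18275, e3 q20166 (flp_a L238677) q20325, e3 q20167 L237401 q18576, e3 q20168 L237405 q16976, e3 q20169 (flp_a L251522) q21779, e3 q20170 (flp_a L237429) q18552, e3 q20171 (flp_a L240267) q20499, e3 q20172 L237437 q19617, e3 q20173 (flp_a L237503) q20179, e3 q20174 (flp_a L237463) q17599, e3 q20175 (flp_a L253310) q21954, e3 q20176 (flp_a L246895) q21250, e3 q20177 L237485 q19624, e3 q20178 (flp_a L240541) q20531, e3 q20179 L237503 q20173, e3 q20180 (flp_a L243199) q20812, e3 q20181 L237521 q17942, e3 q20182 (flp_a L237539) q18332, e3 q20183 (flp_a L239353) q20395, e3 q20184 L237547 q18562, e3 q20185 L237551 q17000, e3 q20186 (flp_a L252520) q21877, e3 q20187 (flp_a L237575) q18544, e3 q20188 (flp_a L239789) q20441, e3 q20189 L237583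 q19412, e3 q20190 (flp_a L237649) q20196, e3 q20191 (flp_a L237609) q17571, e3 q20192 (flp_a L246787) q21239, e3 q20193 (flp_a L253677) q21992, e3 q20194 L237631 q19422, e3 q20195 L240065 q20475, e3 q20196 L237649 q20190, e3 q20197 (flp_a L243073) q20802, e3 q20198 L237667 q17794, e3 q20199 L237675 q16834, e3 q20200 L237687 q19253, e3 q20201 L237697 q17039, e3 q20202 L237709 q17778, e3 q20203 L237717 q16841, e3 q20204 L237729 q19487, e3 q20205 L237739 q17128, e3 q20206 L237759 q18591, e3 q20207 L237763 q20207, e3 q20208 L237780 q18600, e3 q20209 L237784 q20209, e3 q20210 L237803 q20210, e3 q20211 L237816 q20211, e3 q20212 L237819 q18285, e3 q20213 L237829 q18342, e3 q20214 L237839 q18351, e3 q20215 (flp_a L253359) q21958, e3 q20216 L237855 q17013, e3 q20217 L237864 q18413, e3 q20218 (flp_a L253726) q21996, e3 q20219 L237880 q16988, e3 q20220 L237889 q16894, e3 q20221 L255408 q22169, e3 q20222 (flp_a L244207) q20911, e3 q20223 L255414 q22170, trivial⟩ (by decide +kernel)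

theorem ce_a_316 : ∀ r, r < 64 → sm ga (Qf (20224 + r)) = Qf (tab Gen.a (20224 + r)) :=
  edges_tab (sm ga) Qf (tab Gen.a) 20224 [(20224, 16895), (20225, 21270), (20226, 22174), (20227, 16905), (20228, 22176), (20229, 20940), (20230, 22177), (20231, 16906), (20232, 21279), (20233, 22181), (20234, 18612), (20235, 18614), (20236, 22079), (20237, 20810), (20238, 21126), (20239, 21675), (20240, 18464), (20241, 18896), (20242, 16919), (20243, 19098), (20244, 21281), (20245, 16921), (20246, 19109), (20247, 20140), (20248, 22092), (20249, 20800), (20250, 21179), (20251, 21545), (20252, 18406), (20253, 18840), (20254, 16931), (20255, 18960), (20256, 21272), (20257, 16933), (20258, 18969), (20259, 20144), (20260, 20569), (20261, 21099), (20262, 16939), (20263, 21863), (20264, 20154), (20265, 20055), (20266, 20014), (20267, 16947), (20268, 21245), (20269, 22199), (20270, 18897), (20271, 20586), (20272, 21152), (20273, 16954), (20274, 21937), (20275, 20159), (20276, 20035), (20277, 19977), (20278, 16962), (20279, 21249),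 (20280, 22204), (20281, 18841), (20282, 16968), (20283, 22207), (20284, 20128), (20285, 16971), (20286, 20341), (20287, 22209)]
    ⟨e3 q20224 (flp_a L237915) q16895, e3 q20225 (flp_a L247077) q21270, e3 q20226 L255442 q22174, e3 q20227 L237931 q16905, e3 q20228 L255460 q22176, e3 q20229 (flp_a L244421) q20940, e3 q20230 L255466 q22177, e3 q20231 (flp_a L237957) q16906, e3 q20232 (flp_a L247144) q21279, e3 q20233 L255494 q22181, e3 q20234 L237973 q18612, e3 q20235 L237983 q18614, e3 q20236 (flp_a L254594) q22079, e3 q20237 (flp_a L243175) q20810, e3 q20238 (flp_a L245867) q21126, e3 q20239 (flp_a L250542) q21675, e3 q20240 L238009 q18464, e3 q20241 L238017 q18896, e3 q20242 (flp_a L238023) q16919, e3 q20243 L238031 q19098, e3 q20244 (flp_a L247164) q21281, e3 q20245 (flp_a L238041) q16921, e3 q20246 L238055 q19109, e3 q20247 L238059 q20140, e3 q20248 (flp_a L254704) q22092, e3 q20249 (flp_a L243049) q20800, e3 q20250 (flp_a L246284) q21179, e3 q20251 (flp_a L249458) q21545, e3 q20252 L238083 q18406, e3 q20253 L238091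 q18840, e3 q20254 (flp_a L238097) q16931, e3 q20255 L238111 q18960, e3 q20256 (flp_a L247097) q21272, e3 q20257 (flp_a L238121) q16933, e3 q20258 L238135 q18969, e3 q20259 L238139 q20144, e3 q20260 L240863 q20569, e3 q20261 (flp_a L245657) q21099, e3 q20262 L238165 q16939, e3 q20263 (flp_a L252371) q21863, e3 q20264 L238177 q20154, e3 q20265 L238189 q20055, e3 q20266 L238199 q20014, e3 q20267 L238203 q16947, e3 q20268 (flp_a L246843) q21245, e3 q20269 (flp_a L255672) q22199, e3 q20270 L238227 q18897, e3 q20271 (flp_a L241040) q20586, e3 q20272 (flp_a L246072) q21152, e3 q20273 L238257 q16954, e3 q20274 (flp_a L253152) q21937, e3 q20275 L238271 q20159, e3 q20276 L238283 q20035, e3 q20277 L238295 q19977, e3 q20278 L238299 q16962, e3 q20279 (flp_a L246883) q21249, e3 q20280 (flp_a L255736) q22204, e3 q20281 L238323 q18841, e3 q20282 L238335 q16968, e3 q20283 (flp_a L255771) q22207, e3 q20284 L238351 q20128, e3 q20285 L238361 q16971, e3 q20286 (flp_a L238855) q20341, e3 q20287 (flp_a L255793) q22209, trivial⟩ (by decide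 +kernel)

theorem ce_a_317 : ∀ r, r < 64 → sm ga (Qf (20288 + r)) = Qf (tab Gen.a (20288 + r)) :=
  edges_tab (sm ga) Qf (tab Gen.a) 20288 [(20288, 21681), (20289, 18388), (20290, 16974), (20291, 22211), (20292, 20100), (20293, 22152), (20294, 16978), (20295, 22180), (20296, 16982), (20297, 16983), (20298, 22218), (20299, 18320), (20300, 21005), (20301, 19769), (20302, 16993), (20303, 22222), (20304, 20121), (20305, 16996), (20306, 20403), (20307, 22224), (20308, 21554), (20309, 18450), (20310, 16999), (20311, 22226), (20312, 22161), (20313, 20101), (20314, 17003), (20315, 22173), (20316, 17007), (20317, 17008), (20318, 22233), (20319, 18263), (20320, 20979), (20321, 19675), (20322, 20324), (20323, 22128), (20324, 20322), (20325, 20166), (20326, 17142), (20327, 19364), (20328, 17563), (20329, 21910), (20330, 17033), (20331, 17122), (20332, 17132), (20333, 21974), (20334, 20447), (20335, 21304), (20336, 17042), (20337, 21825), (20338, 17647), (20339, 17051), (20340, 17053), (20341, 20286), (20342, 21868), (20343,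 22241), (20344, 17190), (20345, 17056), (20346, 17729), (20347, 17704), (20348, 17058), (20349, 17147), (20350, 17059), (20351, 17145)]
    ⟨e3 q20288 (flp_a L250599) q21681, e3 q20289 (flp_a L238392) q18388, e3 q20290 L238396 q16974, e3 q20291 (flp_a L255810) q22211, e3 q20292 L238409 q20100, e3 q20293 (flp_a L255257) q22152, e3 q20294 L238429 q16978, e3 q20295 (flp_a L255492) q22180, e3 q20296 L238439 q16982, e3 q20297 L238447 q16983, e3 q20298 (flp_a L255887) q22218, e3 q20299 L238463 q18320, e3 q20300 (flp_a L244879) q21005, e3 q20301 L238477 q19769, e3 q20302 L238491 q16993, e3 q20303 (flp_a L255928) q22222, e3 q20304 L238507 q20121, e3 q20305 L238517 q16996, e3 q20306 (flp_a L239433) q20403, e3 q20307 (flp_a L255950) q22224, e3 q20308 (flp_a L249543) q21554, e3 q20309 (flp_a L238548) q18450, e3 q20310 L238552 q16999, e3 q20311 (flp_a L255967) q22226, e3 q20312 (flp_a L255338) q22161, e3 q20313 L238573 q20101, e3 q20314 L238585 q17003, e3 q20315 (flp_a L255440) q22173, e3 q20316 L238595 q17007, e3 q20317 L238603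 q17008, e3 q20318 (flp_a L256046) q22233, e3 q20319 L238619 q18263, e3 q20320 (flp_a L244694) q20979, e3 q20321 L238633 q19675, e3 q20322 (flp_a L238667) q20324, e3 q20323 (flp_a L255014) q22128, e3 q20324 L238667 q20322, e3 q20325 L238677 q20166, e3 q20326 L238683 q17142, e3 q20327 L238703 q19364, e3 q20328 L238709 q17563, e3 q20329 L252868 q21910, e3 q20330 (flp_a L238731) q17033, e3 q20331 L238747 q17122, e3 q20332 L238761 q17132, e3 q20333 (flp_a L253503) q21974, e3 q20334 L239839 q20447, e3 q20335 (flp_a L247349) q21304, e3 q20336 L238799 q17042, e3 q20337 L252010 q21825, e3 q20338 L238825 q17647, e3 q20339 L238835 q17051, e3 q20340 L238843 q17053, e3 q20341 L238855 q20286, e3 q20342 (flp_a L252419) q21868, e3 q20343 (flp_a L256136) q22241, e3 q20344 (flp_a L238873) q17190, e3 q20345 L238879 q17056, e3 q20346 L238893 q17729, e3 q20347 L238915 q17704, e3 q20348 (flp_a L238917) q17058, e3 q20349 L238933 q17147, e3 q20350 (flp_a L238945) q17059, e3 q20351 L238969 q17145, trivial⟩ (by decide +kernel)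

theorem ce_a_318 : ∀ r, r < 64 → sm ga (Qf (20352 + r)) = Qf (tab Gen.a (20352 + r)) :=
  edges_tab (sm ga) Qf (tab Gen.a) 20352 [(20352, 19478), (20353, 17063), (20354, 17153), (20355, 20358), (20356, 17066), (20357, 17152), (20358, 20355), (20359, 17071), (20360, 19743), (20361, 20419), (20362, 22044), (20363, 17075), (20364, 22244), (20365, 20370), (20366, 19936), (20367, 17080), (20368, 17081), (20369, 22246), (20370, 20365), (20371, 17085), (20372, 20380), (20373, 21823), (20374, 21258), (20375, 20071), (20376, 21256), (20377, 19318), (20378, 17089), (20379, 19836), (20380, 20372), (20381, 17091), (20382, 21347), (20383, 21448), (20384, 17096), (20385, 22251), (20386, 20415), (20387, 17238), (20388, 17105), (20389, 21339), (20390, 21340), (20391, 22046), (20392, 20394), (20393, 22124), (20394, 20392), (20395, 20183), (20396, 19579), (20397, 17591), (20398, 22012), (20399, 20505), (20400, 21315), (20401, 17719), (20402, 17140), (20403, 20306), (20404, 21764), (20405, 22239), (20406, 17265), (20407, 17660),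 (20408, 17632), (20409, 17148), (20410, 19242), (20411, 20412), (20412, 20411), (20413, 17161), (20414, 22260), (20415, 20386)]
    ⟨e3 q20352 L238979 q19478, e3 q20353 (flp_a L238981) q17063, e3 q20354 L238993 q17153, e3 q20355 (flp_a L239029) q20358, e3 q20356 L239007 q17066, e3 q20357 L239019 q17152, e3 q20358 L239029 q20355, e3 q20359 L239039 q17071, e3 q20360 L239051 q19743, e3 q20361 (flp_a L239581) q20419, e3 q20362 (flp_a L254204) q22044, e3 q20363 L239079 q17075, e3 q20364 (flp_a L256172) q22244, e3 q20365 (flp_a L239131) q20370, e3 q20366 L239099 q19936, e3 q20367 L239111 q17080, e3 q20368 L239115 q17081, e3 q20369 (flp_a L256186) q22246, e3 q20370 L239131 q20365, e3 q20371 L239143 q17085, e3 q20372 (flp_a L239217) q20380, e3 q20373 (flp_a L251984) q21823, e3 q20374 (flp_a L246969) q21258, e3 q20375 L239165 q20071, e3 q20376 (flp_a L246951) q21256, e3 q20377 L239187 q19318, e3 q20378 L239191 q17089, e3 q20379 L239205 q19836, e3 q20380 L239217 q20372, e3 q20381 (flp_a L239225) q17091, e3 q20382 (flp_a L247783)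 q21347, e3 q20383 L248650 q21448, e3 q20384 (flp_a L239251) q17096, e3 q20385 (flp_a L256240) q22251, e3 q20386 (flp_a L239545) q20415, e3 q20387 L239277 q17238, e3 q20388 L239291 q17105, e3 q20389 (flp_a L247699) q21339, e3 q20390 (flp_a L247709) q21340, e3 q20391 (flp_a L254228) q22046, e3 q20392 (flp_a L239343) q20394, e3 q20393 (flp_a L254968) q22124, e3 q20394 L239343 q20392, e3 q20395 L239353 q20183, e3 q20396 L239367 q19579, e3 q20397 L239373 q17591, e3 q20398 (flp_a L253874) q22012, e3 q20399 L240323 q20505, e3 q20400 (flp_a L247453) q21315, e3 q20401 L239415 q17719, e3 q20402 L239425 q17140, e3 q20403 L239433 q20306, e3 q20404 (flp_a L251357) q21764, e3 q20405 (flp_a L256112) q22239, e3 q20406 (flp_a L239451) q17265, e3 q20407 L239457 q17660, e3 q20408 L239479 q17632, e3 q20409 (flp_a L239481) q17148, e3 q20410 L239501 q19242, e3 q20411 (flp_a L239513) q20412, e3 q20412 L239513 q20411, e3 q20413 L239525 q17161, e3 q20414 (flp_a L256336) q22260, e3 q20415 L239545 q20386, trivial⟩ (by decide +kernel)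

theorem ce_a_319 : ∀ r, r < 64 → sm ga (Qf (20416 + r)) = Qf (tab Gen.a (20416 + r)) :=
  edges_tab (sm ga) Qf (tab Gen.a) 20416 [(20416, 19995), (20417, 17166), (20418, 17170), (20419, 20361), (20420, 21908), (20421, 21248), (20422, 21246), (20423, 20082), (20424, 19545), (20425, 21490), (20426, 17314), (20427, 21348), (20428, 20008), (20429, 17188), (20430, 18248), (20431, 17189), (20432, 17528), (20433, 21761), (20434, 19295), (20435, 21876), (20436, 21955), (20437, 19234), (20438, 17201), (20439, 20457), (20440, 20674), (20441, 20188), (20442, 17206), (20443, 20769), (20444, 20449), (20445, 20805), (20446, 17212), (20447, 20334), (20448, 20770), (20449, 20444), (20450, 17222), (20451, 21331), (20452, 19846), (20453, 19742), (20454, 20456), (20455, 20064), (20456, 20454), (20457, 20439), (20458, 21124), (20459, 20460), (20460, 20459), (20461, 18669), (20462, 18781), (20463, 18683), (20464, 17248), (20465, 17249), (20466, 17250), (20467, 20000), (20468, 21323), (20469, 18921), (20470, 20787), (20471, 22015),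 (20472, 21123), (20473, 20473), (20474, 20476), (20475, 20195), (20476, 20474), (20477, 17253), (20478, 22064), (20479, 20043)]
    ⟨e3 q20416 L239557 q19995, e3 q20417 L239569 q17166, e3 q20418 L239575 q17170, e3 q20419 L239581 q20361, e3 q20420 (flp_a L252840) q21908, e3 q20421 (flp_a L246873) q21248, e3 q20422 (flp_a L246855) q21246, e3 q20423 L239611 q20082, e3 q20424 L239627 q19545, e3 q20425 (flp_a L248988) q21490, e3 q20426 L239641 q17314, e3 q20427 (flp_a L247793) q21348, e3 q20428 L239663 q20008, e3 q20429 (flp_a L239673) q17188, e3 q20430 L239687 q18248, e3 q20431 (flp_a L239695) q17189, e3 q20432 L239707 q17528, e3 q20433 (flp_a L251329) q21761, e3 q20434 L239731 q19295, e3 q20435 (flp_a L252508) q21876, e3 q20436 (flp_a L253324) q21955, e3 q20437 L239751 q19234, e3 q20438 (flp_a L239761) q17201, e3 q20439 (flp_a L239929) q20457, e3 q20440 (flp_a L241840) q20674, e3 q20441 L239789 q20188, e3 q20442 L239797 q17206, e3 q20443 (flp_a L242786) q20769, e3 q20444 (flp_a L239849) q20449, e3 q20445 (flp_a L243115)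 q20805, e3 q20446 L239825 q17212, e3 q20447 (flp_a L239839) q20334, e3 q20448 (flp_a L242796) q20770, e3 q20449 L239849 q20444, e3 q20450 L239857 q17222, e3 q20451 (flp_a L247622) q21331, e3 q20452 L239879 q19846, e3 q20453 L239887 q19742, e3 q20454 (flp_a L239919) q20456, e3 q20455 L239915 q20064, e3 q20456 L239919 q20454, e3 q20457 L239929 q20439, e3 q20458 (flp_a L245857) q21124, e3 q20459 (flp_a L239953) q20460, e3 q20460 L239953 q20459, e3 q20461 L239963 q18669, e3 q20462 L239977 q18781, e3 q20463 L239987 q18683, e3 q20464 L239999 q17248, e3 q20465 L240007 q17249, e3 q20466 L240015 q17250, e3 q20467 (flp_a L240025) q20000, e3 q20468 (flp_a L247527) q21323, e3 q20469 L240035 q18921, e3 q20470 (flp_a L242943) q20787, e3 q20471 (flp_a L253912) q22015, e3 q20472 (flp_a L245853) q21123, e3 q20473 L240054 q20473, e3 q20474 (flp_a L240069) q20476, e3 q20475 (flp_a L240065) q20195, e3 q20476 L240069 q20474, e3 q20477 (flp_a L240075) q17253, e3 q20478 (flp_a L254449) q22064, e3 q20479 L240095 q20043, trivial⟩ (by decide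 +kernel)

theorem ce_a_320 : ∀ r, r < 64 → sm ga (Qf (20480 + r)) = Qf (tab Gen.a (20480 + r)) :=
  edges_tab (sm ga) Qf (tab Gen.a) 20480 [(20480, 18772), (20481, 18773), (20482, 18774), (20483, 17258), (20484, 22283), (20485, 21421), (20486, 19952), (20487, 17264), (20488, 18306), (20489, 19523), (20490, 17266), (20491, 17532), (20492, 21865), (20493, 21778), (20494, 21993), (20495, 19476), (20496, 17277), (20497, 20516), (20498, 20673), (20499, 20171), (20500, 17282), (20501, 20785), (20502, 20507), (20503, 20815), (20504, 17288), (20505, 20399), (20506, 20784), (20507, 20502), (20508, 17298), (20509, 21326), (20510, 19753), (20511, 19837), (20512, 20514), (20513, 20067), (20514, 20512), (20515, 21177), (20516, 20497), (20517, 20518), (20518, 20517), (20519, 18674), (20520, 18694), (20521, 18832), (20522, 17324), (20523, 17325), (20524, 17326), (20525, 21328), (20526, 19940), (20527, 18866), (20528, 22030), (20529, 20771), (20530, 21176), (20531, 20178), (20532, 20534), (20533, 20533), (20534, 20532), (20535,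 17329), (20536, 22048), (20537, 20023), (20538, 18823), (20539, 18824), (20540, 18825), (20541, 17335), (20542, 21378), (20543, 22302)]
    ⟨e3 q20480 L240105 q18772, e3 q20481 L240113 q18773, e3 q20482 L240117 q18774, e3 q20483 L240121 q17258, e3 q20484 L256579 q22283, e3 q20485 (flp_a L248411) q21421, e3 q20486 L240141 q19952, e3 q20487 (flp_a L240151) q17264, e3 q20488 L240165 q18306, e3 q20489 L240175 q19523, e3 q20490 (flp_a L240179) q17266, e3 q20491 L240191 q17532, e3 q20492 (flp_a L252389) q21865, e3 q20493 (flp_a L251510) q21778, e3 q20494 (flp_a L253691) q21993, e3 q20495 L240229 q19476, e3 q20496 (flp_a L240239) q17277, e3 q20497 (flp_a L240421) q20516, e3 q20498 (flp_a L241828) q20673, e3 q20499 L240267 q20171, e3 q20500 L240275 q17282, e3 q20501 (flp_a L242917) q20785, e3 q20502 (flp_a L240333) q20507, e3 q20503 (flp_a L243241) q20815, e3 q20504 L240305 q17288, e3 q20505 (flp_a L240323) q20399, e3 q20506 (flp_a L242903) q20784, e3 q20507 L240333 q20502, e3 q20508 L240341 q17298, e3 q20509 (flp_a L247563)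 q21326, e3 q20510 L240363 q19753, e3 q20511 L240371 q19837, e3 q20512 (flp_a L240403) q20514, e3 q20513 L240399 q20067, e3 q20514 L240403 q20512, e3 q20515 (flp_a L246268) q21177, e3 q20516 L240421 q20497, e3 q20517 (flp_a L240441) q20518, e3 q20518 L240441 q20517, e3 q20519 L240449 q18674, e3 q20520 L240463 q18694, e3 q20521 L240475 q18832, e3 q20522 L240485 q17324, e3 q20523 L240493 q17325, e3 q20524 L240499 q17326, e3 q20525 (flp_a L247586) q21328, e3 q20526 (flp_a L240517) q19940, e3 q20527 L240521 q18866, e3 q20528 (flp_a L254058) q22030, e3 q20529 L242812 q20771, e3 q20530 (flp_a L246264) q21176, e3 q20531 L240541 q20178, e3 q20532 (flp_a L240557) q20534, e3 q20533 L240554 q20533, e3 q20534 L240557 q20532, e3 q20535 (flp_a L240563) q17329, e3 q20536 (flp_a L254259) q22048, e3 q20537 L240583 q20023, e3 q20538 L240593 q18823, e3 q20539 L240601 q18824, e3 q20540 L240611 q18825, e3 q20541 L240615 q17335, e3 q20542 (flp_a L248055) q21378, e3 q20543 L256786 q22302, trivial⟩ (by decide +kernel)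

theorem ce_a_321 : ∀ r, r < 64 → sm ga (Qf (20544 + r)) = Qf (tab Gen.a (20544 + r)) :=
  edges_tab (sm ga) Qf (tab Gen.a) 20544 [(20544, 19978), (20545, 17739), (20546, 17344), (20547, 22303), (20548, 20573), (20549, 18886), (20550, 22305), (20551, 19405), (20552, 19406), (20553, 21491), (20554, 18871), (20555, 18872), (20556, 22292), (20557, 21507), (20558, 17361), (20559, 17362), (20560, 17364), (20561, 22310), (20562, 17359), (20563, 22304), (20564, 19858), (20565, 19401), (20566, 22307), (20567, 20585), (20568, 20568), (20569, 20260), (20570, 20015), (20571, 17671), (20572, 17372), (20573, 20548), (20574, 22317), (20575, 18941), (20576, 19610), (20577, 19611), (20578, 21449), (20579, 18926), (20580, 18927), (20581, 21465), (20582, 22271), (20583, 17387), (20584, 19607), (20585, 20567), (20586, 20271), (20587, 21967), (20588, 20042), (20589, 20671), (20590, 17858), (20591, 22005), (20592, 20022), (20593, 20646), (20594, 17870), (20595, 17482), (20596, 17485), (20597, 17491), (20598, 17494), (20599, 17511),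 (20600, 19666), (20601, 17515), (20602, 19760), (20603, 18237), (20604, 18296), (20605, 19763), (20606, 19669), (20607, 17762)]
    ⟨e3 q20544 L240639 q19978, e3 q20545 L240648 q17739, e3 q20546 (flp_a L240658) q17344, e3 q20547 (flp_a L256798) q22303, e3 q20548 (flp_a L240902) q20573, e3 q20549 L240690 q18886, e3 q20550 L256822 q22305, e3 q20551 L240702 q19405, e3 q20552 L240714 q19406, e3 q20553 (flp_a L248992) q21491, e3 q20554 L240734 q18871, e3 q20555 L240740 q18872, e3 q20556 (flp_a L256687) q22292, e3 q20557 (flp_a L249114) q21507, e3 q20558 L240760 q17361, e3 q20559 L240770 q17362, e3 q20560 L240780 q17364, e3 q20561 L256874 q22310, e3 q20562 (flp_a L240794) q17359, e3 q20563 (flp_a L256818) q22304, e3 q20564 L240809 q19858, e3 q20565 L240819 q19401, e3 q20566 (flp_a L256848) q22307, e3 q20567 (flp_a L241020) q20585, e3 q20568 L240854 q20568, e3 q20569 (flp_a L240863) q20260, e3 q20570 L240867 q20015, e3 q20571 L240878 q17671, e3 q20572 (flp_a L240888) q17372, e3 q20573 L240902 q20548, e3 q20574 L256931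 q22317, e3 q20575 L240926 q18941, e3 q20576 L240932 q19610, e3 q20577 L240944 q19611, e3 q20578 (flp_a L248656) q21449, e3 q20579 L240964 q18926, e3 q20580 L240974 q18927, e3 q20581 (flp_a L248772) q21465, e3 q20582 (flp_a L256472) q22271, e3 q20583 L240996 q17387, e3 q20584 L241008 q19607, e3 q20585 L241020 q20567, e3 q20586 L241040 q20271, e3 q20587 (flp_a L253443) q21967, e3 q20588 L241048 q20042, e3 q20589 (flp_a L241812) q20671, e3 q20590 L241064 q17858, e3 q20591 (flp_a L253810) q22005, e3 q20592 L241080 q20022, e3 q20593 (flp_a L241594) q20646, e3 q20594 L241098 q17870, e3 q20595 L241110 q17482, e3 q20596 L241122 q17485, e3 q20597 L241132 q17491, e3 q20598 L241144 q17494, e3 q20599 L241154 q17511, e3 q20600 L241168 q19666, e3 q20601 L241182 q17515, e3 q20602 L241196 q19760, e3 q20603 L241210 q18237, e3 q20604 L241218 q18296, e3 q20605 L241236 q19763, e3 q20606 L241250 q19669, e3 q20607 L241259 q17762, trivial⟩ (by decide +kernel)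

theorem ce_a_322 : ∀ r, r < 64 → sm ga (Qf (20608 + r)) = Qf (tab Gen.a (20608 + r)) :=
  edges_tab (sm ga) Qf (tab Gen.a) 20608 [(20608, 20670), (20609, 19922), (20610, 17694), (20611, 20645), (20612, 19983), (20613, 20665), (20614, 21827), (20615, 21828), (20616, 20640), (20617, 21912), (20618, 21783), (20619, 19518), (20620, 19289), (20621, 17975), (20622, 21018), (20623, 17974), (20624, 20916), (20625, 20032), (20626, 20681), (20627, 22328), (20628, 17570), (20629, 22107), (20630, 22332), (20631, 22164), (20632, 20094), (20633, 17573), (20634, 20933), (20635, 17581), (20636, 21775), (20637, 20754), (20638, 22336), (20639, 17609), (20640, 20616), (20641, 18123), (20642, 17930), (20643, 19931), (20644, 17587), (20645, 20611), (20646, 20593), (20647, 17589), (20648, 17981), (20649, 21057), (20650, 17980), (20651, 20945), (20652, 20052), (20653, 20718), (20654, 22342), (20655, 17598), (20656, 22117), (20657, 22346), (20658, 22155), (20659, 20086), (20660, 17601), (20661, 20962), (20662, 21771), (20663, 20765),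 (20664, 22337), (20665, 20613), (20666, 18175), (20667, 17927), (20668, 19991), (20669, 17615), (20670, 20608), (20671, 20589)]
    ⟨e3 q20608 (flp_a L241792) q20670, e3 q20609 L241271 q19922, e3 q20610 L241290 q17694, e3 q20611 (flp_a L241576) q20645, e3 q20612 L241302 q19983, e3 q20613 (flp_a L241736) q20665, e3 q20614 (flp_a L252028) q21827, e3 q20615 (flp_a L252034) q21828, e3 q20616 (flp_a L241520) q20640, e3 q20617 (flp_a L252886) q21912, e3 q20618 (flp_a L251576) q21783, e3 q20619 L241348 q19518, e3 q20620 L241362 q19289, e3 q20621 L241384 q17975, e3 q20622 (flp_a L244987) q21018, e3 q20623 L241400 q17974, e3 q20624 (flp_a L244249) q20916, e3 q20625 (flp_a L253196) q20032, e3 q20626 (flp_a L241902) q20681, e3 q20627 L257021 q22328, e3 q20628 (flp_a L241434) q17570, e3 q20629 (flp_a L254832) q22107, e3 q20630 (flp_a L257045) q22332, e3 q20631 (flp_a L255364) q22164, e3 q20632 L241452 q20094, e3 q20633 L241464 q17573, e3 q20634 (flp_a L244363) q20933, e3 q20635 L241474 q17581, e3 q20636 (flp_a L251476) q21775,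 e3 q20637 (flp_a L242624) q20754, e3 q20638 (flp_a L257085) q22336, e3 q20639 L241510 q17609, e3 q20640 L241520 q20616, e3 q20641 L241536 q18123, e3 q20642 L241546 q17930, e3 q20643 L241554 q19931, e3 q20644 (flp_a L241562) q17587, e3 q20645 L241576 q20611, e3 q20646 L241594 q20593, e3 q20647 (flp_a L241596) q17589, e3 q20648 L241618 q17981, e3 q20649 (flp_a L245311) q21057, e3 q20650 L241634 q17980, e3 q20651 (flp_a L244463) q20945, e3 q20652 (flp_a L251764) q20052, e3 q20653 (flp_a L242266) q20718, e3 q20654 L257141 q22342, e3 q20655 (flp_a L241668) q17598, e3 q20656 (flp_a L254913) q22117, e3 q20657 (flp_a L257167) q22346, e3 q20658 (flp_a L255281) q22155, e3 q20659 L241686 q20086, e3 q20660 L241698 q17601, e3 q20661 (flp_a L244577) q20962, e3 q20662 (flp_a L251439) q21771, e3 q20663 (flp_a L242739) q20765, e3 q20664 (flp_a L257097) q22337, e3 q20665 L241736 q20613, e3 q20666 L241752 q18175, e3 q20667 L241762 q17927, e3 q20668 L241770 q19991, e3 q20669 (flp_a L241778) q17615, e3 q20670 L241792 q20608, e3 q20671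 L241812 q20589, trivial⟩ (by decide +kernel)

theorem ce_a_323 : ∀ r, r < 64 → sm ga (Qf (20672 + r)) = Qf (tab Gen.a (20672 + r)) :=
  edges_tab (sm ga) Qf (tab Gen.a) 20672 [(20672, 17617), (20673, 20498), (20674, 20440), (20675, 17641), (20676, 21173), (20677, 21174), (20678, 17633), (20679, 20799), (20680, 21409), (20681, 20626), (20682, 17642), (20683, 21040), (20684, 22158), (20685, 17646), (20686, 21146), (20687, 19738), (20688, 17653), (20689, 17654), (20690, 22353), (20691, 21829), (20692, 17666), (20693, 19728), (20694, 19731), (20695, 19775), (20696, 17669), (20697, 22356), (20698, 18384), (20699, 17687), (20700, 17688), (20701, 17685), (20702, 19008), (20703, 20703), (20704, 19006), (20705, 18954), (20706, 20706), (20707, 18186), (20708, 20708), (20709, 17692), (20710, 22358), (20711, 21263), (20712, 17713), (20713, 21120), (20714, 21121), (20715, 17705), (20716, 20809), (20717, 21364), (20718, 20653), (20719, 17714), (20720, 21077), (20721, 22167), (20722, 17718), (20723, 21091), (20724, 19831), (20725,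 17723), (20726, 21760), (20727, 17735), (20728, 19821), (20729, 19824), (20730, 19680), (20731, 18446), (20732, 17755), (20733, 17756), (20734, 17754), (20735, 19146)]
    ⟨e3 q20672 (flp_a L241814) q17617, e3 q20673 L241828 q20498, e3 q20674 L241840 q20440, e3 q20675 L241852 q17641, e3 q20676 (flp_a L246230) q21173, e3 q20677 (flp_a L246236) q21174, e3 q20678 L241876 q17633, e3 q20679 (flp_a L243041) q20799, e3 q20680 (flp_a L248314) q21409, e3 q20681 L241902 q20626, e3 q20682 (flp_a L241914) q17642, e3 q20683 (flp_a L245181) q21040, e3 q20684 (flp_a L255309) q22158, e3 q20685 (flp_a L241934) q17646, e3 q20686 (flp_a L246020) q21146, e3 q20687 L241950 q19738, e3 q20688 L241962 q17653, e3 q20689 L241970 q17654, e3 q20690 (flp_a L257239) q22353, e3 q20691 (flp_a L252046) q21829, e3 q20692 L242004 q17666, e3 q20693 L242016 q19728, e3 q20694 L242024 q19731, e3 q20695 L242036 q19775, e3 q20696 (flp_a L242042) q17669, e3 q20697 (flp_a L257275) q22356, e3 q20698 L242066 q18384, e3 q20699 L242080 q17687, e3 q20700 L242094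 q17688, e3 q20701 L242108 q17685, e3 q20702 L242118 q19008, e3 q20703 L242133 q20703, e3 q20704 L242136 q19006, e3 q20705 L242148 q18954, e3 q20706 L242163 q20706, e3 q20707 L242166 q18186, e3 q20708 L242182 q20708, e3 q20709 (flp_a L242190) q17692, e3 q20710 (flp_a L257302) q22358, e3 q20711 (flp_a L247025) q21263, e3 q20712 L242214 q17713, e3 q20713 (flp_a L245819) q21120, e3 q20714 (flp_a L245825) q21121, e3 q20715 L242238 q17705, e3 q20716 (flp_a L243167) q20809, e3 q20717 (flp_a L247936) q21364, e3 q20718 L242266 q20653, e3 q20719 (flp_a L242278) q17714, e3 q20720 (flp_a L245497) q21077, e3 q20721 (flp_a L255392) q22167, e3 q20722 (flp_a L242298) q17718, e3 q20723 (flp_a L245599) q21091, e3 q20724 L242314 q19831, e3 q20725 L242328 q17723, e3 q20726 (flp_a L251315) q21760, e3 q20727 L242350 q17735, e3 q20728 L242362 q19821, e3 q20729 L242370 q19824, e3 q20730 L242382 q19680, e3 q20731 L242390 q18446, e3 q20732 L242404 q17755, e3 q20733 L242418 q17756, e3 q20734 L242432 q17754, e3 q20735 L242442 q19146, trivial⟩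 (by decide +kernel)

theorem ce_a_324 : ∀ r, r < 64 → sm ga (Qf (20736 + r)) = Qf (tab Gen.a (20736 + r)) :=
  edges_tab (sm ga) Qf (tab Gen.a) 20736 [(20736, 20736), (20737, 19145), (20738, 19094), (20739, 20739), (20740, 18211), (20741, 20741), (20742, 17760), (20743, 22364), (20744, 21261), (20745, 17774), (20746, 17775), (20747, 19551), (20748, 19636), (20749, 19637), (20750, 19638), (20751, 21850), (20752, 17792), (20753, 20753), (20754, 20637), (20755, 17782), (20756, 17783), (20757, 21524), (20758, 17793), (20759, 19326), (20760, 19435), (20761, 19436), (20762, 19437), (20763, 21925), (20764, 20764), (20765, 20663), (20766, 17798), (20767, 17799), (20768, 21483), (20769, 20443), (20770, 20448), (20771, 20529), (20772, 22287), (20773, 17811), (20774, 17813), (20775, 17815), (20776, 22376), (20777, 17810), (20778, 22018), (20779, 21641), (20780, 22374), (20781, 20790), (20782, 19419), (20783, 20783), (20784, 20506), (20785, 20501), (20786, 22267), (20787, 20470), (20788, 17824), (20789, 21747), (20790, 20781),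 (20791, 17859), (20792, 21236), (20793, 20808), (20794, 18357), (20795, 17871), (20796, 21235), (20797, 20818), (20798, 18419), (20799, 20679)]
    ⟨e3 q20736 L242457 q20736, e3 q20737 L242460 q19145, e3 q20738 L242472 q19094, e3 q20739 L242487 q20739, e3 q20740 L242492 q18211, e3 q20741 L242506 q20741, e3 q20742 (flp_a L242514) q17760, e3 q20743 (flp_a L257372) q22364, e3 q20744 (flp_a L247003) q21261, e3 q20745 L242538 q17774, e3 q20746 L242550 q17775, e3 q20747 (flp_a L242570) q19551, e3 q20748 L242574 q19636, e3 q20749 L242580 q19637, e3 q20750 L242588 q19638, e3 q20751 (flp_a L252253) q21850, e3 q20752 L242606 q17792, e3 q20753 L242621 q20753, e3 q20754 L242624 q20637, e3 q20755 L242636 q17782, e3 q20756 L242648 q17783, e3 q20757 (flp_a L249272) q21524, e3 q20758 L242671 q17793, e3 q20759 (flp_a L242693) q19326, e3 q20760 L242697 q19435, e3 q20761 L242703 q19436, e3 q20762 L242713 q19437, e3 q20763 (flp_a L253030) q21925, e3 q20764 L242736 q20764, e3 q20765 L242739 q20663, e3 q20766 L242751 q17798, e3 q20767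 L242763 q17799, e3 q20768 (flp_a L248920) q21483, e3 q20769 L242786 q20443, e3 q20770 L242796 q20448, e3 q20771 (flp_a L242812) q20529, e3 q20772 (flp_a L256629) q22287, e3 q20773 L242826 q17811, e3 q20774 L242834 q17813, e3 q20775 L242846 q17815, e3 q20776 L257501 q22376, e3 q20777 (flp_a L242860) q17810, e3 q20778 (flp_a L253948) q22018, e3 q20779 L250214 q21641, e3 q20780 (flp_a L257479) q22374, e3 q20781 (flp_a L242963) q20790, e3 q20782 L242885 q19419, e3 q20783 L242900 q20783, e3 q20784 L242903 q20506, e3 q20785 L242917 q20501, e3 q20786 (flp_a L256426) q22267, e3 q20787 L242943 q20470, e3 q20788 L242949 q17824, e3 q20789 L251195 q21747, e3 q20790 L242963 q20781, e3 q20791 L242973 q17859, e3 q20792 (flp_a L246771) q21236, e3 q20793 (flp_a L243157) q20808, e3 q20794 L242995 q18357, e3 q20795 L243007 q17871, e3 q20796 (flp_a L246757) q21235, e3 q20797 (flp_a L243283) q20818, e3 q20798 L243029 q18419, e3 q20799 L243041 q20679, trivial⟩ (by decide +kernel)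

theorem ce_a_325 : ∀ r, r < 64 → sm ga (Qf (20800 + r)) = Qf (tab Gen.a (20800 + r)) :=
  edges_tab (sm ga) Qf (tab Gen.a) 20800 [(20800, 20249), (20801, 17887), (20802, 20197), (20803, 18350), (20804, 17897), (20805, 20445), (20806, 18546), (20807, 18493), (20808, 20793), (20809, 20716), (20810, 20237), (20811, 17910), (20812, 20180), (20813, 18412), (20814, 17919), (20815, 20503), (20816, 18553), (20817, 18524), (20818, 20797), (20819, 18607), (20820, 18611), (20821, 21063), (20822, 21024), (20823, 19514), (20824, 19282), (20825, 20838), (20826, 20842), (20827, 18089), (20828, 18093), (20829, 18143), (20830, 18147), (20831, 17976), (20832, 21968), (20833, 17977), (20834, 17982), (20835, 22006), (20836, 17983), (20837, 17986), (20838, 20825), (20839, 17987), (20840, 21321), (20841, 17994), (20842, 20826), (20843, 17995), (20844, 21310), (20845, 19424), (20846, 19292), (20847, 18009), (20848, 21269), (20849, 19124), (20850, 21388), (20851, 21395), (20852, 18012), (20853, 18013), (20854, 18015), (20855, 21278),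 (20856, 18985), (20857, 21432), (20858, 21439), (20859, 18018), (20860, 18019), (20861, 20106), (20862, 20909), (20863, 19525)]
    ⟨e3 q20800 L243049 q20249, e3 q20801 L243059 q17887, e3 q20802 L243073 q20197, e3 q20803 L243087 q18350, e3 q20804 L243101 q17897, e3 q20805 L243115 q20445, e3 q20806 L243129 q18546, e3 q20807 L243143 q18493, e3 q20808 L243157 q20793, e3 q20809 L243167 q20716, e3 q20810 L243175 q20237, e3 q20811 L243185 q17910, e3 q20812 L243199 q20180, e3 q20813 L243213 q18412, e3 q20814 L243227 q17919, e3 q20815 L243241 q20503, e3 q20816 L243255 q18553, e3 q20817 L243269 q18524, e3 q20818 L243283 q20797, e3 q20819 L243293 q18607, e3 q20820 L243307 q18611, e3 q20821 (flp_a L245357) q21063, e3 q20822 (flp_a L245033) q21024, e3 q20823 L243337 q19514, e3 q20824 L243351 q19282, e3 q20825 (flp_a L243497) q20838, e3 q20826 (flp_a L243531) q20842, e3 q20827 L243385 q18089, e3 q20828 L243397 q18093, e3 q20829 L243409 q18143, e3 q20830 L243421 q18147, e3 q20831 L243433 q17976, e3 q20832 (flp_a L253457) q21968,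 e3 q20833 (flp_a L243449) q17977, e3 q20834 L243459 q17982, e3 q20835 (flp_a L253824) q22006, e3 q20836 (flp_a L243475) q17983, e3 q20837 L243487 q17986, e3 q20838 L243497 q20825, e3 q20839 (flp_a L243507) q17987, e3 q20840 (flp_a L247513) q21321, e3 q20841 L243521 q17994, e3 q20842 L243531 q20826, e3 q20843 (flp_a L243541) q17995, e3 q20844 (flp_a L247407) q21310, e3 q20845 L243555 q19424, e3 q20846 L243563 q19292, e3 q20847 L243571 q18009, e3 q20848 (flp_a L247067) q21269, e3 q20849 L243593 q19124, e3 q20850 (flp_a L248145) q21388, e3 q20851 (flp_a L248193) q21395, e3 q20852 L243619 q18012, e3 q20853 L243629 q18013, e3 q20854 L243639 q18015, e3 q20855 (flp_a L247134) q21278, e3 q20856 L243661 q18985, e3 q20857 (flp_a L248515) q21432, e3 q20858 (flp_a L248563) q21439, e3 q20859 L243687 q18018, e3 q20860 L243697 q18019, e3 q20861 L243707 q20106, e3 q20862 (flp_a L244195) q20909, e3 q20863 L243727 q19525, trivial⟩ (by decide +kernel)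

theorem ce_a_326 : ∀ r, r < 64 → sm ga (Qf (20864 + r)) = Qf (tab Gen.a (20864 + r)) :=
  edges_tab (sm ga) Qf (tab Gen.a) 20864 [(20864, 22394), (20865, 22396), (20866, 18024), (20867, 18756), (20868, 18027), (20869, 18030), (20870, 20881), (20871, 20882), (20872, 18032), (20873, 18740), (20874, 19038), (20875, 18036), (20876, 18038), (20877, 20948), (20878, 18472), (20879, 18743), (20880, 19468), (20881, 20870), (20882, 20871), (20883, 18480), (20884, 21341), (20885, 20938), (20886, 20114), (20887, 22400), (20888, 19297), (20889, 18052), (20890, 18807), (20891, 22402), (20892, 18056), (20893, 18059), (20894, 20905), (20895, 20906), (20896, 18061), (20897, 18790), (20898, 19175), (20899, 18065), (20900, 18066), (20901, 20919), (20902, 18500), (20903, 18794), (20904, 19231), (20905, 20894), (20906, 20895), (20907, 18507), (20908, 21349), (20909, 20862), (20910, 22254), (20911, 20222), (20912, 19733), (20913, 18655), (20914, 21386), (20915, 21372), (20916, 20624), (20917, 21373), (20918, 20929), (20919, 20901),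 (20920, 21374), (20921, 22411), (20922, 18101), (20923, 22414), (20924, 22415), (20925, 20935), (20926, 18103), (20927, 18104)]
    ⟨e3 q20864 L257670 q22394, e3 q20865 L257694 q22396, e3 q20866 (flp_a L243749) q18024, e3 q20867 L243757 q18756, e3 q20868 (flp_a L243763) q18027, e3 q20869 L243779 q18030, e3 q20870 (flp_a L243913) q20881, e3 q20871 (flp_a L243923) q20882, e3 q20872 (flp_a L243811) q18032, e3 q20873 L243825 q18740, e3 q20874 L243835 q19038, e3 q20875 L243847 q18036, e3 q20876 L243861 q18038, e3 q20877 (flp_a L244481) q20948, e3 q20878 L243887 q18472, e3 q20879 L243891 q18743, e3 q20880 L243907 q19468, e3 q20881 L243913 q20870, e3 q20882 L243923 q20871, e3 q20883 L243937 q18480, e3 q20884 (flp_a L247723) q21341, e3 q20885 (flp_a L244409) q20938, e3 q20886 L243959 q20114, e3 q20887 L257738 q22400, e3 q20888 L243977 q19297, e3 q20889 (flp_a L243985) q18052, e3 q20890 L243993 q18807, e3 q20891 L257762 q22402, e3 q20892 (flp_a L244007) q18056, e3 q20893 L244023 q18059, e3 q20894 (flp_a L244157) q20905,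 e3 q20895 (flp_a L244167) q20906, e3 q20896 (flp_a L244055) q18061, e3 q20897 L244069 q18790, e3 q20898 L244079 q19175, e3 q20899 L244091 q18065, e3 q20900 L244105 q18066, e3 q20901 (flp_a L244267) q20919, e3 q20902 L244131 q18500, e3 q20903 L244135 q18794, e3 q20904 L244151 q19231, e3 q20905 L244157 q20894, e3 q20906 L244167 q20895, e3 q20907 L244181 q18507, e3 q20908 (flp_a L247807) q21349, e3 q20909 L244195 q20862, e3 q20910 (flp_a L256268) q22254, e3 q20911 L244207 q20222, e3 q20912 L244223 q19733, e3 q20913 (flp_a L244233) q18655, e3 q20914 (flp_a L248123) q21386, e3 q20915 L248007 q21372, e3 q20916 L244249 q20624, e3 q20917 (flp_a L248013) q21373, e3 q20918 (flp_a L244325) q20929, e3 q20919 L244267 q20901, e3 q20920 (flp_a L248019) q21374, e3 q20921 L257834 q22411, e3 q20922 (flp_a L244287) q18101, e3 q20923 (flp_a L257872) q22414, e3 q20924 (flp_a L257882) q22415, e3 q20925 (flp_a L244383) q20935, e3 q20926 L244311 q18103, e3 q20927 L244315 q18104, trivial⟩ (by decide +kernel)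

theorem ce_a_327 : ∀ r, r < 64 → sm ga (Qf (20928 + r)) = Qf (tab Gen.a (20928 + r)) :=
  edges_tab (sm ga) Qf (tab Gen.a) 20928 [(20928, 22420), (20929, 20918), (20930, 18106), (20931, 18110), (20932, 18377), (20933, 20634), (20934, 21770), (20935, 20925), (20936, 21871), (20937, 19377), (20938, 20885), (20939, 22243), (20940, 20229), (20941, 19828), (20942, 18649), (20943, 21430), (20944, 21416), (20945, 20651), (20946, 21417), (20947, 20958), (20948, 20877), (20949, 21418), (20950, 22430), (20951, 18155), (20952, 22419), (20953, 22432), (20954, 20963), (20955, 18157), (20956, 18158), (20957, 22434), (20958, 20947), (20959, 18160), (20960, 18164), (20961, 18437), (20962, 20661), (20963, 20954), (20964, 19592), (20965, 21565), (20966, 18185), (20967, 22438), (20968, 22439), (20969, 18266), (20970, 21678), (20971, 22227), (20972, 18192), (20973, 22228), (20974, 20983), (20975, 22120), (20976, 18194), (20977, 22230), (20978, 22445), (20979, 20320), (20980, 18196), (20981, 18197), (20982, 22446), (20983, 20974),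 (20984, 18742), (20985, 18204), (20986, 22448), (20987, 18279), (20988, 18207), (20989, 18978), (20990, 21140), (20991, 21691)]
    ⟨e3 q20928 (flp_a L257936) q22420, e3 q20929 L244325 q20918, e3 q20930 L244335 q18106, e3 q20931 L244343 q18110, e3 q20932 L244357 q18377, e3 q20933 L244363 q20634, e3 q20934 (flp_a L251419) q21770, e3 q20935 L244383 q20925, e3 q20936 (flp_a L252453) q21871, e3 q20937 L244395 q19377, e3 q20938 L244409 q20885, e3 q20939 (flp_a L256160) q22243, e3 q20940 L244421 q20229, e3 q20941 L244437 q19828, e3 q20942 (flp_a L244447) q18649, e3 q20943 (flp_a L248493) q21430, e3 q20944 L248373 q21416, e3 q20945 L244463 q20651, e3 q20946 (flp_a L248379) q21417, e3 q20947 (flp_a L244539) q20958, e3 q20948 L244481 q20877, e3 q20949 (flp_a L248385) q21418, e3 q20950 L258008 q22430, e3 q20951 (flp_a L244501) q18155, e3 q20952 (flp_a L257932) q22419, e3 q20953 (flp_a L258032) q22432, e3 q20954 (flp_a L244589) q20963, e3 q20955 L244525 q18157, e3 q20956 L244529 q18158, e3 q20957 (flp_a L258052) q22434, e3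 q20958 L244539 q20947, e3 q20959 L244549 q18160, e3 q20960 L244557 q18164, e3 q20961 L244571 q18437, e3 q20962 L244577 q20661, e3 q20963 L244589 q20954, e3 q20964 L244593 q19592, e3 q20965 (flp_a L249649) q21565, e3 q20966 L244613 q18185, e3 q20967 (flp_a L258079) q22438, e3 q20968 (flp_a L258091) q22439, e3 q20969 L244629 q18266, e3 q20970 (flp_a L250568) q21678, e3 q20971 (flp_a L255978) q22227, e3 q20972 (flp_a L244655) q18192, e3 q20973 (flp_a L255990) q22228, e3 q20974 (flp_a L244720) q20983, e3 q20975 (flp_a L254925) q22120, e3 q20976 (flp_a L244676) q18194, e3 q20977 (flp_a L256012) q22230, e3 q20978 (flp_a L258157) q22445, e3 q20979 L244694 q20320, e3 q20980 L244698 q18196, e3 q20981 L244706 q18197, e3 q20982 (flp_a L258169) q22446, e3 q20983 L244720 q20974, e3 q20984 L244728 q18742, e3 q20985 L244738 q18204, e3 q20986 (flp_a L258195) q22448, e3 q20987 (flp_a L244756) q18279, e3 q20988 (flp_a L244760) q18207, e3 q20989 L244772 q18978, e3 q20990 (flp_a L245964) q21140, e3 q20991 (flp_a L250705) q21691, trivial⟩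 (by decide +kernel)

theorem ce_a_328 : ∀ r, r < 64 → sm ga (Qf (20992 + r)) = Qf (tab Gen.a (20992 + r)) :=
  edges_tab (sm ga) Qf (tab Gen.a) 20992 [(20992, 18210), (20993, 22451), (20994, 22452), (20995, 18323), (20996, 21549), (20997, 22212), (20998, 18216), (20999, 22213), (21000, 21009), (21001, 22109), (21002, 18219), (21003, 22214), (21004, 22458), (21005, 20300), (21006, 18221), (21007, 18222), (21008, 22459), (21009, 21000), (21010, 18793), (21011, 18229), (21012, 22461), (21013, 18336), (21014, 18232), (21015, 19117), (21016, 21189), (21017, 21883), (21018, 20622), (21019, 21025), (21020, 21233), (21021, 21234), (21022, 22235), (21023, 18245), (21024, 20822), (21025, 21019), (21026, 18247), (21027, 22165), (21028, 18251), (21029, 21070), (21030, 18254), (21031, 18256), (21032, 18258), (21033, 21066), (21034, 22401), (21035, 22234), (21036, 18261), (21037, 18262), (21038, 19009), (21039, 22466), (21040, 20683), (21041, 18267), (21042, 21092), (21043, 21195), (21044, 22137), (21045, 18998), (21046, 18271),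 (21047, 18328), (21048, 22194), (21049, 18274), (21050, 18997), (21051, 22472), (21052, 22150), (21053, 18999), (21054, 18462), (21055, 19755)]
    ⟨e3 q20992 L244798 q18210, e3 q20993 (flp_a L258220) q22451, e3 q20994 (flp_a L258232) q22452, e3 q20995 L244814 q18323, e3 q20996 (flp_a L249496) q21549, e3 q20997 (flp_a L255821) q22212, e3 q20998 (flp_a L244840) q18216, e3 q20999 (flp_a L255833) q22213, e3 q21000 (flp_a L244905) q21009, e3 q21001 (flp_a L254840) q22109, e3 q21002 (flp_a L244861) q18219, e3 q21003 (flp_a L255845) q22214, e3 q21004 (flp_a L258298) q22458, e3 q21005 L244879 q20300, e3 q21006 L244883 q18221, e3 q21007 L244891 q18222, e3 q21008 (flp_a L258310) q22459, e3 q21009 L244905 q21000, e3 q21010 L244913 q18793, e3 q21011 L244923 q18229, e3 q21012 (flp_a L258336) q22461, e3 q21013 (flp_a L244941) q18336, e3 q21014 (flp_a L244945) q18232, e3 q21015 L244957 q19117, e3 q21016 (flp_a L246359) q21189, e3 q21017 (flp_a L252580) q21883, e3 q21018 L244987 q20622, e3 q21019 (flp_a L245047) q21025, e3 q21020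 (flp_a L246733) q21233, e3 q21021 (flp_a L246739) q21234, e3 q21022 (flp_a L256072) q22235, e3 q21023 L245023 q18245, e3 q21024 L245033 q20822, e3 q21025 L245047 q21019, e3 q21026 L245059 q18247, e3 q21027 (flp_a L255376) q22165, e3 q21028 L245077 q18251, e3 q21029 (flp_a L245439) q21070, e3 q21030 (flp_a L245097) q18254, e3 q21031 L245111 q18256, e3 q21032 (flp_a L245123) q18258, e3 q21033 (flp_a L245399) q21066, e3 q21034 (flp_a L257752) q22401, e3 q21035 (flp_a L256056) q22234, e3 q21036 L245147 q18261, e3 q21037 L245159 q18262, e3 q21038 L245167 q19009, e3 q21039 (flp_a L258392) q22466, e3 q21040 L245181 q20683, e3 q21041 L245189 q18267, e3 q21042 (flp_a L245679) q21092, e3 q21043 (flp_a L246425) q21195, e3 q21044 (flp_a L255122) q22137, e3 q21045 L245215 q18998, e3 q21046 L245219 q18271, e3 q21047 L245229 q18328, e3 q21048 (flp_a L255616) q22194, e3 q21049 L245247 q18274, e3 q21050 (flp_a L245253) q18997, e3 q21051 (flp_a L258462) q22472, e3 q21052 (flp_a L255240) q22150, e3 q21053 L245267 q18999, e3 q21054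 L245277 q18462, e3 q21055 L245297 q19755, trivial⟩ (by decide +kernel)

theorem ce_a_329 : ∀ r, r < 64 → sm ga (Qf (21056 + r)) = Qf (tab Gen.a (21056 + r)) :=
  edges_tab (sm ga) Qf (tab Gen.a) 21056 [(21056, 21786), (21057, 20649), (21058, 21064), (21059, 21213), (21060, 21214), (21061, 22220), (21062, 18304), (21063, 20821), (21064, 21058), (21065, 22156), (21066, 21033), (21067, 18311), (21068, 18313), (21069, 18315), (21070, 21029), (21071, 22395), (21072, 22219), (21073, 18318), (21074, 18319), (21075, 19148), (21076, 22478), (21077, 20720), (21078, 18324), (21079, 21147), (21080, 21215), (21081, 22136), (21082, 19137), (21083, 22187), (21084, 18331), (21085, 19136), (21086, 22484), (21087, 22159), (21088, 19138), (21089, 18404), (21090, 19852), (21091, 20723), (21092, 21042), (21093, 22487), (21094, 22489), (21095, 18356), (21096, 18418), (21097, 22258), (21098, 21769), (21099, 20261), (21100, 18359), (21101, 18798), (21102, 21394), (21103, 18362), (21104, 22442), (21105, 21660), (21106, 22494), (21107, 18365),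 (21108, 19574), (21109, 22498), (21110, 18367), (21111, 19804), (21112, 22500), (21113, 18369), (21114, 22502), (21115, 18489), (21116, 18370), (21117, 21980), (21118, 22503), (21119, 18372)]
    ⟨e3 q21056 (flp_a L251594) q21786, e3 q21057 L245311 q20649, e3 q21058 (flp_a L245371) q21064, e3 q21059 (flp_a L246567) q21213, e3 q21060 (flp_a L246573) q21214, e3 q21061 (flp_a L255913) q22220, e3 q21062 L245347 q18304, e3 q21063 L245357 q20821, e3 q21064 L245371 q21058, e3 q21065 (flp_a L255293) q22156, e3 q21066 L245399 q21033, e3 q21067 (flp_a L245401) q18311, e3 q21068 L245417 q18313, e3 q21069 (flp_a L245429) q18315, e3 q21070 L245439 q21029, e3 q21071 (flp_a L257684) q22395, e3 q21072 (flp_a L255897) q22219, e3 q21073 L245463 q18318, e3 q21074 L245475 q18319, e3 q21075 L245483 q19148, e3 q21076 (flp_a L258530) q22478, e3 q21077 L245497 q20720, e3 q21078 L245505 q18324, e3 q21079 (flp_a L246038) q21147, e3 q21080 (flp_a L246587) q21215, e3 q21081 (flp_a L255112) q22136, e3 q21082 L245531 q19137, e3 q21083 (flp_a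 L255553) q22187, e3 q21084 L245543 q18331, e3 q21085 (flp_a L245549) q19136, e3 q21086 (flp_a L258600) q22484, e3 q21087 (flp_a L255321) q22159, e3 q21088 L245563 q19138, e3 q21089 L245573 q18404, e3 q21090 L245593 q19852, e3 q21091 L245599 q20723, e3 q21092 L245679 q21042, e3 q21093 L258634 q22487, e3 q21094 L258658 q22489, e3 q21095 (flp_a L245627) q18356, e3 q21096 L245671 q18418, e3 q21097 (flp_a L256322) q22258, e3 q21098 (flp_a L251405) q21769, e3 q21099 L245657 q20261, e3 q21100 L245661 q18359, e3 q21101 L245683 q18798, e3 q21102 (flp_a L248183) q21394, e3 q21103 (flp_a L245699) q18362, e3 q21104 L258133 q22442, e3 q21105 (flp_a L250388) q21660, e3 q21106 L258708 q22494, e3 q21107 (flp_a L245727) q18365, e3 q21108 L245737 q19574, e3 q21109 L258756 q22498, e3 q21110 (flp_a L245749) q18367, e3 q21111 (flp_a L245757) q19804, e3 q21112 (flp_a L258772) q22500, e3 q21113 L245769 q18369, e3 q21114 L258796 q22502, e3 q21115 L245785 q18489, e3 q21116 (flp_a L245793) q18370, e3 q21117 (flp_a L253579) q21980, e3 q21118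 (flp_a L258806) q22503, e3 q21119 (flp_a L245805) q18372, trivial⟩ (by decide +kernel)

theorem ce_a_330 : ∀ r, r < 64 → sm ga (Qf (21120 + r)) = Qf (tab Gen.a (21120 + r)) :=
  edges_tab (sm ga) Qf (tab Gen.a) 21120 [(21120, 20713), (21121, 20714), (21122, 19758), (21123, 20472), (21124, 20458), (21125, 21139), (21126, 20238), (21127, 18956), (21128, 18400), (21129, 18750), (21130, 18393), (21131, 22506), (21132, 21451), (21133, 18398), (21134, 18399), (21135, 21178), (21136, 21137), (21137, 21136), (21138, 18402), (21139, 21125), (21140, 20990), (21141, 22191), (21142, 22192), (21143, 18408), (21144, 20153), (21145, 21864), (21146, 20686), (21147, 21079), (21148, 22492), (21149, 22490), (21150, 22240), (21151, 21870), (21152, 20272), (21153, 18421), (21154, 18748), (21155, 21437), (21156, 18424), (21157, 22455), (21158, 21529), (21159, 22519), (21160, 18427), (21161, 19359), (21162, 22523), (21163, 18430), (21164, 22525), (21165, 18516), (21166, 18431), (21167, 21943), (21168, 22504), (21169, 18432), (21170, 19711),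 (21171, 22526), (21172, 18433), (21173, 20676), (21174, 20677), (21175, 19850), (21176, 20530), (21177, 20515), (21178, 21135), (21179, 20250), (21180, 19096), (21181, 18460), (21182, 18801), (21183, 18455)]
    ⟨e3 q21120 L245819 q20713, e3 q21121 L245825 q20714, e3 q21122 L245835 q19758, e3 q21123 L245853 q20472, e3 q21124 L245857 q20458, e3 q21125 (flp_a L245956) q21139, e3 q21126 L245867 q20238, e3 q21127 L245873 q18956, e3 q21128 L245887 q18400, e3 q21129 L245891 q18750, e3 q21130 (flp_a L245897) q18393, e3 q21131 (flp_a L258836) q22506, e3 q21132 (flp_a L248674) q21451, e3 q21133 L245917 q18398, e3 q21134 L245925 q18399, e3 q21135 (flp_a L246280) q21178, e3 q21136 (flp_a L245940) q21137, e3 q21137 L245940 q21136, e3 q21138 (flp_a L245944) q18402, e3 q21139 L245956 q21125, e3 q21140 L245964 q20990, e3 q21141 (flp_a L255585) q22191, e3 q21142 (flp_a L255593) q22192, e3 q21143 L245992 q18408, e3 q21144 L246004 q20153, e3 q21145 (flp_a L252379) q21864, e3 q21146 L246020 q20686, e3 q21147 L246038 q21079, e3 q21148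 (flp_a L258686) q22492, e3 q21149 (flp_a L258670) q22490, e3 q21150 L256132 q22240, e3 q21151 (flp_a L252439) q21870, e3 q21152 L246072 q20272, e3 q21153 L246076 q18421, e3 q21154 L246088 q18748, e3 q21155 (flp_a L248543) q21437, e3 q21156 (flp_a L246104) q18424, e3 q21157 (flp_a L258274) q22455, e3 q21158 (flp_a L249317) q21529, e3 q21159 L258983 q22519, e3 q21160 (flp_a L246132) q18427, e3 q21161 L246142 q19359, e3 q21162 L259035 q22523, e3 q21163 L246156 q18430, e3 q21164 L259051 q22525, e3 q21165 L246176 q18516, e3 q21166 (flp_a L246184) q18431, e3 q21167 (flp_a L253228) q21943, e3 q21168 (flp_a L258818) q22504, e3 q21169 (flp_a L246196) q18432, e3 q21170 (flp_a L246204) q19711, e3 q21171 (flp_a L259063) q22526, e3 q21172 (flp_a L246216) q18433, e3 q21173 L246230 q20676, e3 q21174 L246236 q20677, e3 q21175 L246246 q19850, e3 q21176 L246264 q20530, e3 q21177 L246268 q20515, e3 q21178 L246280 q21135, e3 q21179 L246284 q20250, e3 q21180 L246294 q19096, e3 q21181 L246314 q18460, e3 q21182 L246318 q18801, e3 q21183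 (flp_a L246324) q18455, trivial⟩ (by decide +kernel)

theorem ce_a_331 : ∀ r, r < 64 → sm ga (Qf (21184 + r)) = Qf (tab Gen.a (21184 + r)) :=
  edges_tab (sm ga) Qf (tab Gen.a) 21184 [(21184, 22529), (21185, 21493), (21186, 18461), (21187, 21188), (21188, 21187), (21189, 21016), (21190, 22184), (21191, 22185), (21192, 18466), (21193, 20158), (21194, 21938), (21195, 21043), (21196, 21217), (21197, 21216), (21198, 18654), (21199, 18476), (21200, 18784), (21201, 21202), (21202, 21201), (21203, 21311), (21204, 22536), (21205, 18485), (21206, 22497), (21207, 22539), (21208, 18487), (21209, 21307), (21210, 18490), (21211, 22542), (21212, 22463), (21213, 21059), (21214, 21060), (21215, 21080), (21216, 21197), (21217, 21196), (21218, 18648), (21219, 18503), (21220, 18835), (21221, 21222), (21222, 21221), (21223, 21322), (21224, 22547), (21225, 18512), (21226, 22522), (21227, 22549), (21228, 21318), (21229, 18517), (21230, 22551), (21231, 22475), (21232, 18518), (21233, 21020), (21234, 21021), (21235, 20796), (21236, 20792),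 (21237, 21878), (21238, 21780), (21239, 20192), (21240, 22122), (21241, 22091), (21242, 21243), (21243, 21242), (21244, 18566), (21245, 20268), (21246, 20422), (21247, 22557)]
    ⟨e3 q21184 (flp_a L259095) q22529, e3 q21185 (flp_a L249012) q21493, e3 q21186 L246344 q18461, e3 q21187 (flp_a L246353) q21188, e3 q21188 L246353 q21187, e3 q21189 L246359 q21016, e3 q21190 (flp_a L255522) q22184, e3 q21191 (flp_a L255530) q22185, e3 q21192 L246391 q18466, e3 q21193 L246403 q20158, e3 q21194 (flp_a L253162) q21938, e3 q21195 L246425 q21043, e3 q21196 (flp_a L246603) q21217, e3 q21197 L246599 q21216, e3 q21198 L246445 q18654, e3 q21199 L246453 q18476, e3 q21200 L246473 q18784, e3 q21201 (flp_a L246493) q21202, e3 q21202 L246493 q21201, e3 q21203 (flp_a L247413) q21311, e3 q21204 L259174 q22536, e3 q21205 (flp_a L246515) q18485, e3 q21206 (flp_a L258744) q22497, e3 q21207 L259210 q22539, e3 q21208 (flp_a L246537) q18487, e3 q21209 (flp_a L247379) q21307, e3 q21210 (flp_a L246551) q18490, e3 q21211 (flp_a L259242) q22542,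 e3 q21212 (flp_a L258362) q22463, e3 q21213 L246567 q21059, e3 q21214 L246573 q21060, e3 q21215 L246587 q21080, e3 q21216 (flp_a L246599) q21197, e3 q21217 L246603 q21196, e3 q21218 L246611 q18648, e3 q21219 L246619 q18503, e3 q21220 L246639 q18835, e3 q21221 (flp_a L246659) q21222, e3 q21222 L246659 q21221, e3 q21223 (flp_a L247521) q21322, e3 q21224 L259290 q22547, e3 q21225 (flp_a L246681) q18512, e3 q21226 (flp_a L259023) q22522, e3 q21227 L259316 q22549, e3 q21228 (flp_a L247483) q21318, e3 q21229 (flp_a L246709) q18517, e3 q21230 (flp_a L259340) q22551, e3 q21231 (flp_a L258500) q22475, e3 q21232 (flp_a L246723) q18518, e3 q21233 L246733 q21020, e3 q21234 L246739 q21021, e3 q21235 L246757 q20796, e3 q21236 L246771 q20792, e3 q21237 (flp_a L252538) q21878, e3 q21238 L251540 q21780, e3 q21239 L246787 q20192, e3 q21240 (flp_a L254944) q22122, e3 q21241 (flp_a L254700) q22091, e3 q21242 (flp_a L246825) q21243, e3 q21243 L246825 q21242, e3 q21244 L246833 q18566, e3 q21245 L246843 q20268, e3 q21246 L246855 q20422,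 e3 q21247 (flp_a L259399) q22557, trivial⟩ (by decide +kernel)

theorem ce_a_332 : ∀ r, r < 64 → sm ga (Qf (21248 + r)) = Qf (tab Gen.a (21248 + r)) :=
  edges_tab (sm ga) Qf (tab Gen.a) 21248 [(21248, 20421), (21249, 20279), (21250, 20176), (21251, 22126), (21252, 22078), (21253, 21254), (21254, 21253), (21255, 18579), (21256, 20376), (21257, 22559), (21258, 20374), (21259, 19534), (21260, 19307), (21261, 20744), (21262, 19901), (21263, 20711), (21264, 19914), (21265, 22362), (21266, 18622), (21267, 22560), (21268, 21969), (21269, 20848), (21270, 20225), (21271, 18627), (21272, 20256), (21273, 21273), (21274, 22355), (21275, 18637), (21276, 22563), (21277, 22007), (21278, 20855), (21279, 20232), (21280, 18642), (21281, 20244), (21282, 21282), (21283, 22469), (21284, 21986), (21285, 22040), (21286, 19626), (21287, 22248), (21288, 22481), (21289, 21948), (21290, 22025), (21291, 19425), (21292, 22262), (21293, 18659), (21294, 22566), (21295, 18661), (21296, 22568), (21297, 19414), (21298, 19619), (21299, 21662), (21300,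 21531), (21301, 22013), (21302, 22014), (21303, 18679), (21304, 20335), (21305, 18681), (21306, 21384), (21307, 21209), (21308, 21387), (21309, 18685), (21310, 20844), (21311, 21203)]
    ⟨e3 q21248 L246873 q20421, e3 q21249 L246883 q20279, e3 q21250 L246895 q20176, e3 q21251 (flp_a L254990) q22126, e3 q21252 (flp_a L254590) q22078, e3 q21253 (flp_a L246933) q21254, e3 q21254 L246933 q21253, e3 q21255 L246941 q18579, e3 q21256 L246951 q20376, e3 q21257 (flp_a L259420) q22559, e3 q21258 L246969 q20374, e3 q21259 L246979 q19534, e3 q21260 L246991 q19307, e3 q21261 L247003 q20744, e3 q21262 L247015 q19901, e3 q21263 L247025 q20711, e3 q21264 L247037 q19914, e3 q21265 (flp_a L257351) q22362, e3 q21266 (flp_a L247053) q18622, e3 q21267 (flp_a L259434) q22560, e3 q21268 (flp_a L253467) q21969, e3 q21269 L247067 q20848, e3 q21270 L247077 q20225, e3 q21271 (flp_a L247085) q18627, e3 q21272 L247097 q20256, e3 q21273 L247111 q21273, e3 q21274 (flp_a L257267) q22355, e3 q21275 (flp_a L247120) q18637, e3 q21276 (flp_a L259466)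 q22563, e3 q21277 (flp_a L253834) q22007, e3 q21278 L247134 q20855, e3 q21279 L247144 q20232, e3 q21280 (flp_a L247152) q18642, e3 q21281 L247164 q20244, e3 q21282 L247178 q21282, e3 q21283 (flp_a L258426) q22469, e3 q21284 (flp_a L253643) q21986, e3 q21285 (flp_a L254160) q22040, e3 q21286 L247199 q19626, e3 q21287 (flp_a L256206) q22248, e3 q21288 (flp_a L258564) q22481, e3 q21289 (flp_a L253278) q21948, e3 q21290 (flp_a L254004) q22025, e3 q21291 L247233 q19425, e3 q21292 (flp_a L256364) q22262, e3 q21293 L247249 q18659, e3 q21294 (flp_a L259498) q22566, e3 q21295 L247263 q18661, e3 q21296 (flp_a L259514) q22568, e3 q21297 L247277 q19414, e3 q21298 L247288 q19619, e3 q21299 (flp_a L250416) q21662, e3 q21300 L249337 q21531, e3 q21301 (flp_a L253888) q22013, e3 q21302 (flp_a L253898) q22014, e3 q21303 L247337 q18679, e3 q21304 L247349 q20335, e3 q21305 (flp_a L247359) q18681, e3 q21306 (flp_a L248103) q21384, e3 q21307 L247379 q21209, e3 q21308 (flp_a L248127) q21387, e3 q21309 (flp_a L247393) q18685, e3 q21310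 L247407 q20844, e3 q21311 L247413 q21203, trivial⟩ (by decide +kernel)

theorem ce_a_333 : ∀ r, r < 64 → sm ga (Qf (21312 + r)) = Qf (tab Gen.a (21312 + r)) :=
  edges_tab (sm ga) Qf (tab Gen.a) 21312 [(21312, 21975), (21313, 21976), (21314, 18690), (21315, 20400), (21316, 18692), (21317, 21428), (21318, 21228), (21319, 21431), (21320, 18696), (21321, 20840), (21322, 21223), (21323, 20468), (21324, 19761), (21325, 18701), (21326, 20509), (21327, 18843), (21328, 20525), (21329, 19667), (21330, 18708), (21331, 20451), (21332, 18898), (21333, 18713), (21334, 22573), (21335, 18715), (21336, 22576), (21337, 18718), (21338, 19034), (21339, 20389), (21340, 20390), (21341, 20884), (21342, 21939), (21343, 21940), (21344, 19510), (21345, 18729), (21346, 19171), (21347, 20382), (21348, 20427), (21349, 20908), (21350, 21977), (21351, 21978), (21352, 19278), (21353, 18738), (21354, 22444), (21355, 18817), (21356, 21981), (21357, 22397), (21358, 21358), (21359, 22237), (21360, 19456), (21361, 21380), (21362, 22509), (21363, 18754),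 (21364, 20717), (21365, 22131), (21366, 18759), (21367, 21367), (21368, 22026), (21369, 21370), (21370, 21369), (21371, 18765), (21372, 20915), (21373, 20917), (21374, 20920), (21375, 22280)]
    ⟨e3 q21312 (flp_a L253517) q21975, e3 q21313 (flp_a L253527) q21976, e3 q21314 L247441 q18690, e3 q21315 L247453 q20400, e3 q21316 (flp_a L247463) q18692, e3 q21317 (flp_a L248473) q21428, e3 q21318 L247483 q21228, e3 q21319 (flp_a L248497) q21431, e3 q21320 (flp_a L247497) q18696, e3 q21321 L247513 q20840, e3 q21322 L247521 q21223, e3 q21323 L247527 q20468, e3 q21324 L247539 q19761, e3 q21325 (flp_a L247547) q18701, e3 q21326 L247563 q20509, e3 q21327 L247575 q18843, e3 q21328 L247586 q20525, e3 q21329 L247598 q19667, e3 q21330 (flp_a L247606) q18708, e3 q21331 L247622 q20451, e3 q21332 L247634 q18898, e3 q21333 L247645 q18713, e3 q21334 (flp_a L259560) q22573, e3 q21335 L247660 q18715, e3 q21336 (flp_a L259591) q22576, e3 q21337 (flp_a L247673) q18718, e3 q21338 L247689 q19034, e3 q21339 L247699 q20389, e3 q21340 L247709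 q20390, e3 q21341 L247723 q20884, e3 q21342 (flp_a L253172) q21939, e3 q21343 (flp_a L253184) q21940, e3 q21344 L247747 q19510, e3 q21345 (flp_a L247757) q18729, e3 q21346 L247773 q19171, e3 q21347 L247783 q20382, e3 q21348 L247793 q20427, e3 q21349 L247807 q20908, e3 q21350 (flp_a L253541) q21977, e3 q21351 (flp_a L253553) q21978, e3 q21352 L247831 q19278, e3 q21353 (flp_a L247841) q18738, e3 q21354 (flp_a L258149) q22444, e3 q21355 L247865 q18817, e3 q21356 (flp_a L253591) q21981, e3 q21357 (flp_a L257706) q22397, e3 q21358 L247895 q21358, e3 q21359 (flp_a L256088) q22237, e3 q21360 L247904 q19456, e3 q21361 (flp_a L248065) q21380, e3 q21362 (flp_a L258874) q22509, e3 q21363 (flp_a L247924) q18754, e3 q21364 L247936 q20717, e3 q21365 (flp_a L255056) q22131, e3 q21366 L247946 q18759, e3 q21367 L247962 q21367, e3 q21368 (flp_a L254018) q22026, e3 q21369 (flp_a L247979) q21370, e3 q21370 L247979 q21369, e3 q21371 (flp_a L247989) q18765, e3 q21372 (flp_a L248007) q20915, e3 q21373 L248013 q20917, e3 q21374 L248019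 q20920, e3 q21375 (flp_a L256555) q22280, trivial⟩ (by decide +kernel)

theorem ce_a_334 : ∀ r, r < 64 → sm ga (Qf (21376 + r)) = Qf (tab Gen.a (21376 + r)) :=
  edges_tab (sm ga) Qf (tab Gen.a) 21376 [(21376, 22281), (21377, 18776), (21378, 20542), (21379, 21895), (21380, 21361), (21381, 21425), (21382, 18778), (21383, 19496), (21384, 21306), (21385, 22404), (21386, 20914), (21387, 21308), (21388, 20850), (21389, 18783), (21390, 22586), (21391, 22587), (21392, 21393), (21393, 21392), (21394, 21102), (21395, 20851), (21396, 18787), (21397, 18788), (21398, 21756), (21399, 18792), (21400, 22457), (21401, 21942), (21402, 22403), (21403, 21403), (21404, 19656), (21405, 22256), (21406, 21424), (21407, 22532), (21408, 18805), (21409, 20680), (21410, 22133), (21411, 18809), (21412, 21412), (21413, 22039), (21414, 21415), (21415, 21414), (21416, 20944), (21417, 20946), (21418, 20949), (21419, 22299), (21420, 22300), (21421, 20485), (21422, 18827), (21423, 21804), (21424, 21406), (21425, 21381), (21426, 18829), (21427, 19263),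 (21428, 21317), (21429, 22423), (21430, 20943), (21431, 21319), (21432, 20857), (21433, 18834), (21434, 22599), (21435, 22600), (21436, 21438), (21437, 21155), (21438, 21436), (21439, 20858)]
    ⟨e3 q21376 (flp_a L256565) q22281, e3 q21377 L248051 q18776, e3 q21378 L248055 q20542, e3 q21379 (flp_a L252720) q21895, e3 q21380 L248065 q21361, e3 q21381 L248447 q21425, e3 q21382 (flp_a L248079) q18778, e3 q21383 L248091 q19496, e3 q21384 L248103 q21306, e3 q21385 L257796 q22404, e3 q21386 L248123 q20914, e3 q21387 L248127 q21308, e3 q21388 L248145 q20850, e3 q21389 (flp_a L248147) q18783, e3 q21390 (flp_a L259684) q22586, e3 q21391 (flp_a L259696) q22587, e3 q21392 (flp_a L248173) q21393, e3 q21393 L248173 q21392, e3 q21394 L248183 q21102, e3 q21395 L248193 q20851, e3 q21396 L248201 q18787, e3 q21397 L248213 q18788, e3 q21398 (flp_a L251283) q21756, e3 q21399 (flp_a L248229) q18792, e3 q21400 (flp_a L258290) q22457, e3 q21401 (flp_a L253218) q21942, e3 q21402 (flp_a L257774) q22403, e3 q21403 L248273 q21403, e3 q21404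 L248276 q19656, e3 q21405 (flp_a L256292) q22256, e3 q21406 (flp_a L248433) q21424, e3 q21407 (flp_a L259133) q22532, e3 q21408 (flp_a L248302) q18805, e3 q21409 L248314 q20680, e3 q21410 (flp_a L255080) q22133, e3 q21411 L248324 q18809, e3 q21412 L248340 q21412, e3 q21413 (flp_a L254146) q22039, e3 q21414 (flp_a L248357) q21415, e3 q21415 L248357 q21414, e3 q21416 (flp_a L248373) q20944, e3 q21417 L248379 q20946, e3 q21418 L248385 q20949, e3 q21419 (flp_a L256760) q22299, e3 q21420 (flp_a L256772) q22300, e3 q21421 L248411 q20485, e3 q21422 (flp_a L248425) q18827, e3 q21423 (flp_a L251804) q21804, e3 q21424 L248433 q21406, e3 q21425 (flp_a L248447) q21381, e3 q21426 (flp_a L248449) q18829, e3 q21427 L248461 q19263, e3 q21428 L248473 q21317, e3 q21429 (flp_a L257970) q22423, e3 q21430 L248493 q20943, e3 q21431 L248497 q21319, e3 q21432 L248515 q20857, e3 q21433 (flp_a L248517) q18834, e3 q21434 (flp_a L259818) q22599, e3 q21435 (flp_a L259830) q22600, e3 q21436 (flp_a L248553) q21438, e3 q21437 L248543 q21155, e3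 q21438 L248553 q21436, e3 q21439 L248563 q20858, trivial⟩ (by decide +kernel)

theorem ce_a_335 : ∀ r, r < 64 → sm ga (Qf (21440 + r)) = Qf (tab Gen.a (21440 + r)) :=
  edges_tab (sm ga) Qf (tab Gen.a) 21440 [(21440, 18838), (21441, 18839), (21442, 21652), (21443, 22205), (21444, 19614), (21445, 19329), (21446, 22085), (21447, 21508), (21448, 20383), (21449, 20578), (21450, 22607), (21451, 21132), (21452, 22016), (21453, 22083), (21454, 18855), (21455, 22275), (21456, 21861), (21457, 21915), (21458, 21500), (21459, 18862), (21460, 22032), (21461, 18864), (21462, 22289), (21463, 22291), (21464, 21468), (21465, 20581), (21466, 21489), (21467, 18875), (21468, 21464), (21469, 22611), (21470, 18878), (21471, 22612), (21472, 18881), (21473, 22615), (21474, 21516), (21475, 22297), (21476, 18883), (21477, 19862), (21478, 21520), (21479, 22619), (21480, 22306), (21481, 19407), (21482, 18888), (21483, 20768), (21484, 18891), (21485, 19555), (21486, 22011), (21487, 22200), (21488, 22072), (21489, 21466), (21490, 20425), (21491,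 20553), (21492, 22610), (21493, 21185), (21494, 22031), (21495, 22070), (21496, 18910), (21497, 22293), (21498, 21935), (21499, 21838), (21500, 21458), (21501, 18917), (21502, 22017), (21503, 18919)]
    ⟨e3 q21440 L248571 q18838, e3 q21441 L248583 q18839, e3 q21442 L250308 q21652, e3 q21443 (flp_a L255748) q22205, e3 q21444 L248611 q19614, e3 q21445 L248615 q19329, e3 q21446 (flp_a L254644) q22085, e3 q21447 L249128 q21508, e3 q21448 (flp_a L248650) q20383, e3 q21449 L248656 q20578, e3 q21450 L259904 q22607, e3 q21451 L248674 q21132, e3 q21452 L253928 q22016, e3 q21453 (flp_a L254622) q22083, e3 q21454 (flp_a L248696) q18855, e3 q21455 (flp_a L256515) q22275, e3 q21456 (flp_a L252351) q21861, e3 q21457 (flp_a L252920) q21915, e3 q21458 L249068 q21500, e3 q21459 (flp_a L248730) q18862, e3 q21460 (flp_a L254090) q22032, e3 q21461 L248746 q18864, e3 q21462 (flp_a L256663) q22289, e3 q21463 (flp_a L256677) q22291, e3 q21464 (flp_a L248800) q21468, e3 q21465 L248772 q20581, e3 q21466 (flp_a L248966) q21489, e3 q21467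 (flp_a L248788) q18875, e3 q21468 L248800 q21464, e3 q21469 (flp_a L259960) q22611, e3 q21470 L248826 q18878, e3 q21471 L259972 q22612, e3 q21472 (flp_a L248838) q18881, e3 q21473 (flp_a L259994) q22615, e3 q21474 (flp_a L249196) q21516, e3 q21475 (flp_a L256742) q22297, e3 q21476 (flp_a L248858) q18883, e3 q21477 L248868 q19862, e3 q21478 (flp_a L249234) q21520, e3 q21479 L260022 q22619, e3 q21480 (flp_a L256840) q22306, e3 q21481 L248904 q19407, e3 q21482 (flp_a L248910) q18888, e3 q21483 L248920 q20768, e3 q21484 (flp_a L248925) q18891, e3 q21485 L248935 q19555, e3 q21486 (flp_a L253864) q22011, e3 q21487 (flp_a L255684) q22200, e3 q21488 (flp_a L254534) q22072, e3 q21489 L248966 q21466, e3 q21490 L248988 q20425, e3 q21491 L248992 q20553, e3 q21492 (flp_a L259956) q22610, e3 q21493 L249012 q21185, e3 q21494 (flp_a L254078) q22031, e3 q21495 (flp_a L254512) q22070, e3 q21496 (flp_a L249034) q18910, e3 q21497 (flp_a L256705) q22293, e3 q21498 (flp_a L253128) q21935, e3 q21499 (flp_a L252132) q21838, e3 q21500 (flp_a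 L249068) q21458, e3 q21501 (flp_a L249070) q18917, e3 q21502 L253940 q22017, e3 q21503 L249086 q18919, trivial⟩ (by decide +kernel)

theorem ce_a_336 : ∀ r, r < 64 → sm ga (Qf (21504 + r)) = Qf (tab Gen.a (21504 + r)) :=
  edges_tab (sm ga) Qf (tab Gen.a) 21504 [(21504, 22269), (21505, 22272), (21506, 21510), (21507, 20557), (21508, 21447), (21509, 18930), (21510, 21506), (21511, 22625), (21512, 18933), (21513, 22626), (21514, 18936), (21515, 22629), (21516, 21474), (21517, 22278), (21518, 18938), (21519, 19881), (21520, 21478), (21521, 22633), (21522, 22318), (21523, 18943), (21524, 20757), (21525, 18946), (21526, 21973), (21527, 21527), (21528, 21528), (21529, 21158), (21530, 18959), (21531, 21300), (21532, 18962), (21533, 21543), (21534, 21555), (21535, 18963), (21536, 22635), (21537, 22636), (21538, 18966), (21539, 18967), (21540, 18968), (21541, 22208), (21542, 22510), (21543, 21533), (21544, 20129), (21545, 20251), (21546, 19224), (21547, 18972), (21548, 22238), (21549, 20996), (21550, 21596), (21551, 18976),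 (21552, 21679), (21553, 20142), (21554, 20308), (21555, 21534), (21556, 21903), (21557, 21848), (21558, 21742), (21559, 19650), (21560, 21580), (21561, 19567), (21562, 21571), (21563, 22440), (21564, 22190), (21565, 20965), (21566, 19002), (21567, 19003)]
    ⟨e3 q21504 L256458 q22269, e3 q21505 (flp_a L256482) q22272, e3 q21506 (flp_a L249146) q21510, e3 q21507 L249114 q20557, e3 q21508 (flp_a L249128) q21447, e3 q21509 (flp_a L249134) q18930, e3 q21510 L249146 q21506, e3 q21511 (flp_a L260096) q22625, e3 q21512 L249172 q18933, e3 q21513 L260108 q22626, e3 q21514 (flp_a L249184) q18936, e3 q21515 (flp_a L260140) q22629, e3 q21516 L249196 q21474, e3 q21517 (flp_a L256537) q22278, e3 q21518 (flp_a L249210) q18938, e3 q21519 L249222 q19881, e3 q21520 L249234 q21478, e3 q21521 L260176 q22633, e3 q21522 (flp_a L256951) q22318, e3 q21523 (flp_a L249260) q18943, e3 q21524 L249272 q20757, e3 q21525 (flp_a L249277) q18946, e3 q21526 (flp_a L253495) q21973, e3 q21527 L249293 q21527, e3 q21528 L249300 q21528, e3 q21529 L249317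 q21158, e3 q21530 L249321 q18959, e3 q21531 (flp_a L249337) q21300, e3 q21532 L249341 q18962, e3 q21533 (flp_a L249430) q21543, e3 q21534 (flp_a L249555) q21555, e3 q21535 (flp_a L249361) q18963, e3 q21536 (flp_a L260204) q22635, e3 q21537 (flp_a L260212) q22636, e3 q21538 L249376 q18966, e3 q21539 L249386 q18967, e3 q21540 L249396 q18968, e3 q21541 (flp_a L255781) q22208, e3 q21542 (flp_a L258882) q22510, e3 q21543 L249430 q21533, e3 q21544 L249444 q20129, e3 q21545 L249458 q20251, e3 q21546 L249476 q19224, e3 q21547 (flp_a L249478) q18972, e3 q21548 (flp_a L256100) q22238, e3 q21549 L249496 q20996, e3 q21550 (flp_a L249867) q21596, e3 q21551 (flp_a L249512) q18976, e3 q21552 L250586 q21679, e3 q21553 L249534 q20142, e3 q21554 L249543 q20308, e3 q21555 L249555 q21534, e3 q21556 (flp_a L252790) q21903, e3 q21557 (flp_a L252229) q21848, e3 q21558 (flp_a L251144) q21742, e3 q21559 L249589 q19650, e3 q21560 (flp_a L249741) q21580, e3 q21561 L249607 q19567, e3 q21562 (flp_a L249679) q21571, e3 q21563 (flp_a L258103)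 q22440, e3 q21564 (flp_a L255575) q22190, e3 q21565 L249649 q20965, e3 q21566 L249653 q19002, e3 q21567 L249659 q19003, trivial⟩ (by decide +kernel)

theorem ce_a_337 : ∀ r, r < 64 → sm ga (Qf (21568 + r)) = Qf (tab Gen.a (21568 + r)) :=
  edges_tab (sm ga) Qf (tab Gen.a) 21568 [(21568, 22548), (21569, 22646), (21570, 22647), (21571, 21562), (21572, 22135), (21573, 19782), (21574, 19012), (21575, 19013), (21576, 19014), (21577, 19190), (21578, 22649), (21579, 22650), (21580, 21560), (21581, 21748), (21582, 21816), (21583, 21642), (21584, 21635), (21585, 19021), (21586, 22654), (21587, 22656), (21588, 19023), (21589, 19024), (21590, 22658), (21591, 19220), (21592, 19726), (21593, 19026), (21594, 22354), (21595, 19030), (21596, 21550), (21597, 22659), (21598, 21598), (21599, 21599), (21600, 19653), (21601, 19045), (21602, 19048), (21603, 19049), (21604, 19641), (21605, 21857), (21606, 19639), (21607, 19151), (21608, 19644), (21609, 21619), (21610, 21611), (21611, 21610), (21612, 22665), (21613, 22666), (21614, 21648),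 (21615, 19054), (21616, 22668), (21617, 19055), (21618, 19056), (21619, 21609), (21620, 22670), (21621, 19059), (21622, 19103), (21623, 19062), (21624, 19063), (21625, 19192), (21626, 22674), (21627, 21654), (21628, 22441), (21629, 19066), (21630, 21684), (21631, 19069)]
    ⟨e3 q21568 (flp_a L259306) q22548, e3 q21569 (flp_a L260305) q22646, e3 q21570 (flp_a L260315) q22647, e3 q21571 L249679 q21562, e3 q21572 (flp_a L255108) q22135, e3 q21573 (flp_a L249701) q19782, e3 q21574 L249707 q19012, e3 q21575 L249715 q19013, e3 q21576 L249721 q19014, e3 q21577 L250009 q19190, e3 q21578 (flp_a L260343) q22649, e3 q21579 (flp_a L260353) q22650, e3 q21580 L249741 q21560, e3 q21581 (flp_a L251199) q21748, e3 q21582 (flp_a L251914) q21816, e3 q21583 (flp_a L250218) q21642, e3 q21584 (flp_a L250161) q21635, e3 q21585 (flp_a L249783) q19021, e3 q21586 (flp_a L260382) q22654, e3 q21587 L260402 q22656, e3 q21588 L249799 q19023, e3 q21589 (flp_a L249807) q19024, e3 q21590 (flp_a L260418) q22658, e3 q21591 L249819 q19220, e3 q21592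 L249831 q19726, e3 q21593 L249837 q19026, e3 q21594 (flp_a L257253) q22354, e3 q21595 (flp_a L249855) q19030, e3 q21596 L249867 q21550, e3 q21597 L260428 q22659, e3 q21598 L249883 q21598, e3 q21599 L249886 q21599, e3 q21600 L249895 q19653, e3 q21601 L249899 q19045, e3 q21602 L249909 q19048, e3 q21603 L249915 q19049, e3 q21604 L249923 q19641, e3 q21605 L252315 q21857, e3 q21606 L249937 q19639, e3 q21607 (flp_a L249949) q19151, e3 q21608 L249953 q19644, e3 q21609 (flp_a L250031) q21619, e3 q21610 (flp_a L249975) q21611, e3 q21611 L249975 q21610, e3 q21612 L260478 q22665, e3 q21613 L260488 q22666, e3 q21614 (flp_a L250268) q21648, e3 q21615 (flp_a L249999) q19054, e3 q21616 (flp_a L260512) q22668, e3 q21617 (flp_a L250017) q19055, e3 q21618 (flp_a L250023) q19056, e3 q21619 L250031 q21609, e3 q21620 (flp_a L260530) q22670, e3 q21621 L250053 q19059, e3 q21622 L250065 q19103, e3 q21623 L250069 q19062, e3 q21624 L250073 q19063, e3 q21625 L250085 q19192, e3 q21626 (flp_a L260563) q22674, e3 q21627 (flp_a L250320) q21654,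 e3 q21628 (flp_a L258115) q22441, e3 q21629 (flp_a L250109) q19066, e3 q21630 (flp_a L250634) q21684, e3 q21631 L250125 q19069, trivial⟩ (by decide +kernel)

theorem ce_a_338 : ∀ r, r < 64 → sm ga (Qf (21632 + r)) = Qf (tab Gen.a (21632 + r)) :=
  edges_tab (sm ga) Qf (tab Gen.a) 21632 [(21632, 19070), (21633, 19075), (21634, 22676), (21635, 21584), (21636, 22677), (21637, 19072), (21638, 21844), (21639, 21855), (21640, 21858), (21641, 20779), (21642, 21583), (21643, 21749), (21644, 22682), (21645, 19080), (21646, 19083), (21647, 22684), (21648, 21614), (21649, 19086), (21650, 22591), (21651, 19161), (21652, 21442), (21653, 19088), (21654, 21627), (21655, 22002), (21656, 19090), (21657, 19115), (21658, 21658), (21659, 21659), (21660, 21105), (21661, 19100), (21662, 21299), (21663, 19102), (21664, 21673), (21665, 21682), (21666, 22672), (21667, 22673), (21668, 19106), (21669, 19107), (21670, 19108), (21671, 22223), (21672, 22512), (21673, 21664), (21674, 20122), (21675, 20239), (21676, 19111), (21677, 22257), (21678,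 20970), (21679, 21552), (21680, 20138), (21681, 20288), (21682, 21665), (21683, 21817), (21684, 21630), (21685, 19450), (21686, 21703), (21687, 19348), (21688, 21696), (21689, 22453), (21690, 22183), (21691, 20991), (21692, 19141), (21693, 19143), (21694, 22537), (21695, 22698)]
    ⟨e3 q21632 L250137 q19070, e3 q21633 L250147 q19075, e3 q21634 (flp_a L260579) q22676, e3 q21635 L250161 q21584, e3 q21636 (flp_a L260592) q22677, e3 q21637 (flp_a L250177) q19072, e3 q21638 (flp_a L252187) q21844, e3 q21639 (flp_a L252287) q21855, e3 q21640 (flp_a L252319) q21858, e3 q21641 (flp_a L250214) q20779, e3 q21642 L250218 q21583, e3 q21643 (flp_a L251209) q21749, e3 q21644 L260651 q22682, e3 q21645 (flp_a L250244) q19080, e3 q21646 (flp_a L250254) q19083, e3 q21647 L260667 q22684, e3 q21648 L250268 q21614, e3 q21649 (flp_a L250278) q19086, e3 q21650 (flp_a L259740) q22591, e3 q21651 L250294 q19161, e3 q21652 (flp_a L250308) q21442, e3 q21653 L250312 q19088, e3 q21654 L250320 q21627, e3 q21655 (flp_a L253788) q22002, e3 q21656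 (flp_a L250336) q19090, e3 q21657 L250350 q19115, e3 q21658 L250364 q21658, e3 q21659 L250371 q21659, e3 q21660 L250388 q21105, e3 q21661 L250400 q19100, e3 q21662 L250416 q21299, e3 q21663 L250420 q19102, e3 q21664 (flp_a L250514) q21673, e3 q21665 (flp_a L250611) q21682, e3 q21666 (flp_a L260550) q22672, e3 q21667 (flp_a L260558) q22673, e3 q21668 L250449 q19106, e3 q21669 L250470 q19107, e3 q21670 L250480 q19108, e3 q21671 (flp_a L255938) q22223, e3 q21672 (flp_a L258903) q22512, e3 q21673 L250514 q21664, e3 q21674 L250528 q20122, e3 q21675 L250542 q20239, e3 q21676 (flp_a L250550) q19111, e3 q21677 (flp_a L256304) q22257, e3 q21678 L250568 q20970, e3 q21679 (flp_a L250586) q21552, e3 q21680 L250590 q20138, e3 q21681 L250599 q20288, e3 q21682 L250611 q21665, e3 q21683 (flp_a L251926) q21817, e3 q21684 L250634 q21630, e3 q21685 L250641 q19450, e3 q21686 (flp_a L250789) q21703, e3 q21687 L250661 q19348, e3 q21688 (flp_a L250733) q21696, e3 q21689 (flp_a L258244) q22453, e3 q21690 (flp_a L255512) q22183, e3 q21691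 L250705 q20991, e3 q21692 L250709 q19141, e3 q21693 L250715 q19143, e3 q21694 (flp_a L259190) q22537, e3 q21695 (flp_a L260830) q22698, trivial⟩ (by decide +kernel)

theorem ce_a_339 : ∀ r, r < 64 → sm ga (Qf (21696 + r)) = Qf (tab Gen.a (21696 + r)) :=
  edges_tab (sm ga) Qf (tab Gen.a) 21696 [(21696, 21688), (21697, 22699), (21698, 22134), (21699, 19687), (21700, 19152), (21701, 19154), (21702, 22661), (21703, 21686), (21704, 22701), (21705, 19158), (21706, 22703), (21707, 22685), (21708, 19160), (21709, 22688), (21710, 19820), (21711, 19163), (21712, 22361), (21713, 19167), (21714, 22689), (21715, 21715), (21716, 21716), (21717, 19453), (21718, 19182), (21719, 19185), (21720, 19186), (21721, 19439), (21722, 19438), (21723, 21931), (21724, 19443), (21725, 21727), (21726, 21733), (21727, 21725), (21728, 22651), (21729, 22671), (21730, 21754), (21731, 22675), (21732, 19193), (21733, 21726), (21734, 22711), (21735, 19196), (21736, 19199), (21737, 19200), (21738, 22712), (21739, 21758), (21740, 22454), (21741, 19203),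 (21742, 21558), (21743, 19205), (21744, 19209), (21745, 21930), (21746, 21932), (21747, 20789), (21748, 21581), (21749, 21643), (21750, 22715), (21751, 19214), (21752, 19217), (21753, 22657), (21754, 21730), (21755, 22578), (21756, 21398), (21757, 19222), (21758, 21739), (21759, 21964)]
    ⟨e3 q21696 L250733 q21688, e3 q21697 (flp_a L260842) q22699, e3 q21698 (flp_a L255094) q22134, e3 q21699 L250761 q19687, e3 q21700 L250767 q19152, e3 q21701 L250777 q19154, e3 q21702 L260452 q22661, e3 q21703 L250789 q21686, e3 q21704 (flp_a L260870) q22701, e3 q21705 (flp_a L250805) q19158, e3 q21706 (flp_a L260886) q22703, e3 q21707 (flp_a L260681) q22685, e3 q21708 L250823 q19160, e3 q21709 (flp_a L260715) q22688, e3 q21710 L250847 q19820, e3 q21711 L250855 q19163, e3 q21712 (flp_a L257337) q22361, e3 q21713 (flp_a L250873) q19167, e3 q21714 (flp_a L260727) q22689, e3 q21715 L250893 q21715, e3 q21716 L250900 q21716, e3 q21717 L250917 q19453, e3 q21718 L250921 q19182, e3 q21719 L250931 q19185, e3 q21720 L250943 q19186, e3 q21721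 L250953 q19439, e3 q21722 L250961 q19438, e3 q21723 L253088 q21931, e3 q21724 L250977 q19443, e3 q21725 (flp_a L251005) q21727, e3 q21726 (flp_a L251057) q21733, e3 q21727 L251005 q21725, e3 q21728 (flp_a L260363) q22651, e3 q21729 (flp_a L260544) q22671, e3 q21730 (flp_a L251257) q21754, e3 q21731 (flp_a L260567) q22675, e3 q21732 (flp_a L251045) q19193, e3 q21733 L251057 q21726, e3 q21734 (flp_a L260974) q22711, e3 q21735 L251083 q19196, e3 q21736 L251093 q19199, e3 q21737 L251097 q19200, e3 q21738 (flp_a L260986) q22712, e3 q21739 (flp_a L251295) q21758, e3 q21740 (flp_a L258256) q22454, e3 q21741 (flp_a L251131) q19203, e3 q21742 L251144 q21558, e3 q21743 L251153 q19205, e3 q21744 L251165 q19209, e3 q21745 (flp_a L253070) q21930, e3 q21746 (flp_a L253094) q21932, e3 q21747 (flp_a L251195) q20789, e3 q21748 L251199 q21581, e3 q21749 L251209 q21643, e3 q21750 L261024 q22715, e3 q21751 (flp_a L251229) q19214, e3 q21752 (flp_a L251241) q19217, e3 q21753 (flp_a L260410) q22657, e3 q21754 L251257 q21730, e3 q21755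 (flp_a L259614) q22578, e3 q21756 L251283 q21398, e3 q21757 L251287 q19222, e3 q21758 L251295 q21739, e3 q21759 (flp_a L253421) q21964, trivial⟩ (by decide +kernel)

theorem ce_a_340 : ∀ r, r < 64 → sm ga (Qf (21760 + r)) = Qf (tab Gen.a (21760 + r)) :=
  edges_tab (sm ga) Qf (tab Gen.a) 21760 [(21760, 20726), (21761, 20433), (21762, 19233), (21763, 22265), (21764, 20404), (21765, 21801), (21766, 22479), (21767, 19250), (21768, 21966), (21769, 21098), (21770, 20934), (21771, 20662), (21772, 20034), (21773, 19524), (21774, 19258), (21775, 20636), (21776, 19266), (21777, 19770), (21778, 20493), (21779, 20169), (21780, 21238), (21781, 19280), (21782, 19281), (21783, 20618), (21784, 19283), (21785, 22473), (21786, 21056), (21787, 19296), (21788, 20054), (21789, 21893), (21790, 19290), (21791, 22399), (21792, 19299), (21793, 22609), (21794, 19774), (21795, 19310), (21796, 21799), (21797, 19789), (21798, 19317), (21799, 21796), (21800, 19324), (21801, 21765), (21802, 19550), (21803, 21803), (21804, 21423), (21805, 22514),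 (21806, 19345), (21807, 19346), (21808, 19347), (21809, 19349), (21810, 22729), (21811, 21814), (21812, 22695), (21813, 22704), (21814, 21811), (21815, 19351), (21816, 21582), (21817, 21683), (21818, 21902), (21819, 22520), (21820, 19363), (21821, 19367), (21822, 19368), (21823, 20373)]
    ⟨e3 q21760 L251315 q20726, e3 q21761 L251329 q20433, e3 q21762 L251343 q19233, e3 q21763 (flp_a L256402) q22265, e3 q21764 L251357 q20404, e3 q21765 (flp_a L251770) q21801, e3 q21766 (flp_a L258546) q22479, e3 q21767 L251381 q19250, e3 q21768 (flp_a L253433) q21966, e3 q21769 L251405 q21098, e3 q21770 L251419 q20934, e3 q21771 L251439 q20662, e3 q21772 (flp_a L251451) q20034, e3 q21773 L251455 q19524, e3 q21774 L251463 q19258, e3 q21775 L251476 q20636, e3 q21776 L251488 q19266, e3 q21777 L251506 q19770, e3 q21778 L251510 q20493, e3 q21779 L251522 q20169, e3 q21780 (flp_a L251540) q21238, e3 q21781 L251544 q19280, e3 q21782 L251556 q19281, e3 q21783 L251576 q20618, e3 q21784 (flp_a L251578) q19283, e3 q21785 (flp_a L258476) q22473,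 e3 q21786 L251594 q21056, e3 q21787 L251604 q19296, e3 q21788 (flp_a L251620) q20054, e3 q21789 (flp_a L252696) q21893, e3 q21790 L251636 q19290, e3 q21791 (flp_a L257728) q22399, e3 q21792 L251662 q19299, e3 q21793 (flp_a L259932) q22609, e3 q21794 L251680 q19774, e3 q21795 L251690 q19310, e3 q21796 (flp_a L251738) q21799, e3 q21797 L251712 q19789, e3 q21798 L251726 q19317, e3 q21799 L251738 q21796, e3 q21800 L251752 q19324, e3 q21801 L251770 q21765, e3 q21802 L251782 q19550, e3 q21803 L251801 q21803, e3 q21804 L251804 q21423, e3 q21805 (flp_a L258939) q22514, e3 q21806 L251822 q19345, e3 q21807 L251832 q19346, e3 q21808 L251836 q19347, e3 q21809 L251844 q19349, e3 q21810 (flp_a L261184) q22729, e3 q21811 (flp_a L251892) q21814, e3 q21812 (flp_a L260797) q22695, e3 q21813 (flp_a L260898) q22704, e3 q21814 L251892 q21811, e3 q21815 (flp_a L251900) q19351, e3 q21816 L251914 q21582, e3 q21817 L251926 q21683, e3 q21818 (flp_a L252778) q21902, e3 q21819 (flp_a L258997) q22520, e3 q21820 L251950 q19363, e3 q21821 L251962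 q19367, e3 q21822 L251974 q19368, e3 q21823 L251984 q20373, trivial⟩ (by decide +kernel)

theorem ce_a_341 : ∀ r, r < 64 → sm ga (Qf (21824 + r)) = Qf (tab Gen.a (21824 + r)) :=
  edges_tab (sm ga) Qf (tab Gen.a) 21824 [(21824, 21923), (21825, 20337), (21826, 19376), (21827, 20614), (21828, 20615), (21829, 20691), (21830, 22004), (21831, 19695), (21832, 19402), (21833, 22315), (21834, 22313), (21835, 19867), (21836, 19868), (21837, 22621), (21838, 21499), (21839, 22620), (21840, 19408), (21841, 22530), (21842, 21846), (21843, 19418), (21844, 21638), (21845, 22041), (21846, 21842), (21847, 21909), (21848, 21557), (21849, 19440), (21850, 20751), (21851, 22370), (21852, 22371), (21853, 22372), (21854, 22706), (21855, 21639), (21856, 19564), (21857, 21605), (21858, 21640), (21859, 22694), (21860, 19457), (21861, 21456), (21862, 19461), (21863, 20263), (21864, 21145), (21865, 20492), (21866, 19475), (21867, 22285), (21868, 20342), (21869, 19484), (21870, 21151), (21871, 20936), (21872, 22467), (21873, 19491), (21874,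 19498), (21875, 19676), (21876, 20435), (21877, 20186), (21878, 21237), (21879, 19512), (21880, 19513), (21881, 19515), (21882, 22485), (21883, 21017), (21884, 19519), (21885, 22392), (21886, 19527), (21887, 22624)]
    ⟨e3 q21824 (flp_a L253000) q21923, e3 q21825 (flp_a L252010) q20337, e3 q21826 (flp_a L252012) q19376, e3 q21827 L252028 q20614, e3 q21828 L252034 q20615, e3 q21829 L252046 q20691, e3 q21830 (flp_a L253800) q22004, e3 q21831 L252072 q19695, e3 q21832 L252084 q19402, e3 q21833 (flp_a L256911) q22315, e3 q21834 (flp_a L256893) q22313, e3 q21835 L252106 q19867, e3 q21836 L252116 q19868, e3 q21837 (flp_a L260046) q22621, e3 q21838 L252132 q21499, e3 q21839 (flp_a L260034) q22620, e3 q21840 (flp_a L252150) q19408, e3 q21841 (flp_a L259115) q22530, e3 q21842 (flp_a L252209) q21846, e3 q21843 L252176 q19418, e3 q21844 L252187 q21638, e3 q21845 (flp_a L254174) q22041, e3 q21846 L252209 q21842, e3 q21847 L252852 q21909, e3 q21848 L252229 q21557, e3 q21849 L252241 q19440, e3 q21850 L252253 q20751, e3 q21851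 (flp_a L257432) q22370, e3 q21852 (flp_a L257446) q22371, e3 q21853 (flp_a L257460) q22372, e3 q21854 (flp_a L260918) q22706, e3 q21855 L252287 q21639, e3 q21856 L252303 q19564, e3 q21857 (flp_a L252315) q21605, e3 q21858 L252319 q21640, e3 q21859 (flp_a L260785) q22694, e3 q21860 L252339 q19457, e3 q21861 L252351 q21456, e3 q21862 L252361 q19461, e3 q21863 L252371 q20263, e3 q21864 L252379 q21145, e3 q21865 L252389 q20492, e3 q21866 L252403 q19475, e3 q21867 (flp_a L256603) q22285, e3 q21868 L252419 q20342, e3 q21869 L252427 q19484, e3 q21870 L252439 q21151, e3 q21871 L252453 q20936, e3 q21872 (flp_a L258408) q22467, e3 q21873 L252473 q19491, e3 q21874 L252486 q19498, e3 q21875 (flp_a L252504) q19676, e3 q21876 L252508 q20435, e3 q21877 L252520 q20186, e3 q21878 L252538 q21237, e3 q21879 L252542 q19512, e3 q21880 L252554 q19513, e3 q21881 (flp_a L252564) q19515, e3 q21882 (flp_a L258614) q22485, e3 q21883 L252580 q21017, e3 q21884 L252590 q19519, e3 q21885 (flp_a L257652) q22392, e3 q21886 L252616 q19527, e3 q21887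 (flp_a L260082) q22624, trivial⟩ (by decide +kernel)

theorem ce_a_342 : ∀ r, r < 64 → sm ga (Qf (21888 + r)) = Qf (tab Gen.a (21888 + r)) :=
  edges_tab (sm ga) Qf (tab Gen.a) 21888 [(21888, 19681), (21889, 19538), (21890, 21892), (21891, 19544), (21892, 21890), (21893, 21789), (21894, 21894), (21895, 21379), (21896, 22535), (21897, 19565), (21898, 19566), (21899, 22735), (21900, 22643), (21901, 22655), (21902, 21818), (21903, 21556), (21904, 22495), (21905, 19578), (21906, 19582), (21907, 19583), (21908, 20420), (21909, 21847), (21910, 20329), (21911, 19591), (21912, 20617), (21913, 19885), (21914, 19886), (21915, 21457), (21916, 22606), (21917, 19612), (21918, 22507), (21919, 22604), (21920, 21922), (21921, 22027), (21922, 21920), (21923, 21824), (21924, 19640), (21925, 20763), (21926, 22365), (21927, 22366), (21928, 22367), (21929, 22662), (21930, 21745), (21931, 21723), (21932, 21746), (21933, 22642), (21934, 19657), (21935, 21498), (21936, 19661), (21937, 20274), (21938, 21194), (21939, 21342), (21940, 21343),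 (21941, 19679), (21942, 21401), (21943, 21167), (21944, 19677), (21945, 22700), (21946, 20108), (21947, 22740), (21948, 21289), (21949, 19688), (21950, 22608), (21951, 21952)]
    ⟨e3 q21888 L252634 q19681, e3 q21889 L252644 q19538, e3 q21890 (flp_a L252682) q21892, e3 q21891 L252668 q19544, e3 q21892 L252682 q21890, e3 q21893 L252696 q21789, e3 q21894 L252717 q21894, e3 q21895 L252720 q21379, e3 q21896 L259172 q22535, e3 q21897 L252738 q19565, e3 q21898 L252742 q19566, e3 q21899 (flp_a L261246) q22735, e3 q21900 (flp_a L260274) q22643, e3 q21901 (flp_a L260394) q22655, e3 q21902 L252778 q21818, e3 q21903 L252790 q21556, e3 q21904 (flp_a L258722) q22495, e3 q21905 L252806 q19578, e3 q21906 L252818 q19582, e3 q21907 L252830 q19583, e3 q21908 L252840 q20420, e3 q21909 (flp_a L252852) q21847, e3 q21910 (flp_a L252868) q20329, e3 q21911 (flp_a L252870) q19591, e3 q21912 L252886 q20617, e3 q21913 L252896 q19885, e3 q21914 L252908 q19886, e3 q21915 L252920 q21457, e3 q21916 (flp_a L259896) q22606, e3 q21917 (flp_a L252936)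 q19612, e3 q21918 (flp_a L258856) q22507, e3 q21919 (flp_a L259880) q22604, e3 q21920 (flp_a L252988) q21922, e3 q21921 (flp_a L254032) q22027, e3 q21922 L252988 q21920, e3 q21923 L253000 q21824, e3 q21924 L253010 q19640, e3 q21925 L253030 q20763, e3 q21926 (flp_a L257383) q22365, e3 q21927 (flp_a L257395) q22366, e3 q21928 (flp_a L257403) q22367, e3 q21929 (flp_a L260456) q22662, e3 q21930 L253070 q21745, e3 q21931 (flp_a L253088) q21723, e3 q21932 L253094 q21746, e3 q21933 (flp_a L260262) q22642, e3 q21934 L253114 q19657, e3 q21935 L253128 q21498, e3 q21936 L253138 q19661, e3 q21937 L253152 q20274, e3 q21938 L253162 q21194, e3 q21939 L253172 q21342, e3 q21940 L253184 q21343, e3 q21941 L253202 q19679, e3 q21942 L253218 q21401, e3 q21943 L253228 q21167, e3 q21944 L253232 q19677, e3 q21945 (flp_a L260866) q22700, e3 q21946 L253254 q20108, e3 q21947 (flp_a L261294) q22740, e3 q21948 L253278 q21289, e3 q21949 L253282 q19688, e3 q21950 (flp_a L259920) q22608, e3 q21951 (flp_a L253300) q21952, trivial⟩ (by decide +kernel)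

theorem ce_a_343 : ∀ r, r < 64 → sm ga (Qf (21952 + r)) = Qf (tab Gen.a (21952 + r)) :=
  edges_tab (sm ga) Qf (tab Gen.a) 21952 [(21952, 21951), (21953, 22583), (21954, 20175), (21955, 20436), (21956, 19702), (21957, 19703), (21958, 20215), (21959, 22050), (21960, 19730), (21961, 22468), (21962, 19720), (21963, 19722), (21964, 21759), (21965, 22425), (21966, 21768), (21967, 20587), (21968, 20832), (21969, 21268), (21970, 22141), (21971, 22113), (21972, 19740), (21973, 21526), (21974, 20333), (21975, 21312), (21976, 21313), (21977, 21350), (21978, 21351), (21979, 19773), (21980, 21117), (21981, 21356), (21982, 19771), (21983, 22648), (21984, 20116), (21985, 22727), (21986, 21284), (21987, 19781), (21988, 22623), (21989, 21990), (21990, 21989), (21991, 22596), (21992, 20193), (21993, 20494), (21994, 19796), (21995, 19797), (21996, 20218), (21997, 19826), (21998, 22066), (21999, 22480), (22000, 19814), (22001, 19815), (22002, 21655), (22003, 22406), (22004, 21830), (22005, 20591), (22006, 20835), (22007, 21277),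 (22008, 22139), (22009, 22096), (22010, 19834), (22011, 21486), (22012, 20398), (22013, 21301), (22014, 21302), (22015, 20471)]
    ⟨e3 q21952 L253300 q21951, e3 q21953 (flp_a L259650) q22583, e3 q21954 L253310 q20175, e3 q21955 L253324 q20436, e3 q21956 L253334 q19702, e3 q21957 L253345 q19703, e3 q21958 L253359 q20215, e3 q21959 (flp_a L254277) q22050, e3 q21960 L253379 q19730, e3 q21961 (flp_a L258422) q22468, e3 q21962 L253389 q19720, e3 q21963 L253401 q19722, e3 q21964 L253421 q21759, e3 q21965 (flp_a L257978) q22425, e3 q21966 L253433 q21768, e3 q21967 L253443 q20587, e3 q21968 L253457 q20832, e3 q21969 L253467 q21268, e3 q21970 (flp_a L255168) q22141, e3 q21971 (flp_a L254884) q22113, e3 q21972 L253487 q19740, e3 q21973 L253495 q21526, e3 q21974 L253503 q20333, e3 q21975 L253517 q21312, e3 q21976 L253527 q21313, e3 q21977 L253541 q21350, e3 q21978 L253553 q21351, e3 q21979 L253567 q19773, e3 q21980 L253579 q21117, e3 q21981 L253591 q21356, e3 q21982 L253597 q19771, e3 q21983 (flp_a L260339) q22648, e3 q21984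 L253619 q20116, e3 q21985 (flp_a L261158) q22727, e3 q21986 L253643 q21284, e3 q21987 L253647 q19781, e3 q21988 (flp_a L260070) q22623, e3 q21989 (flp_a L253665) q21990, e3 q21990 L253665 q21989, e3 q21991 (flp_a L259784) q22596, e3 q21992 L253677 q20193, e3 q21993 L253691 q20494, e3 q21994 L253701 q19796, e3 q21995 L253715 q19797, e3 q21996 L253726 q20218, e3 q21997 L253738 q19826, e3 q21998 (flp_a L254467) q22066, e3 q21999 (flp_a L258560) q22480, e3 q22000 L253756 q19814, e3 q22001 L253768 q19815, e3 q22002 L253788 q21655, e3 q22003 (flp_a L257804) q22406, e3 q22004 L253800 q21830, e3 q22005 L253810 q20591, e3 q22006 L253824 q20835, e3 q22007 L253834 q21277, e3 q22008 (flp_a L255148) q22139, e3 q22009 (flp_a L254732) q22096, e3 q22010 L253854 q19834, e3 q22011 L253864 q21486, e3 q22012 L253874 q20398, e3 q22013 L253888 q21301, e3 q22014 L253898 q21302, e3 q22015 L253912 q20471, trivial⟩ (by decide +kernel)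

theorem ce_a_344 : ∀ r, r < 64 → sm ga (Qf (22016 + r)) = Qf (tab Gen.a (22016 + r)) :=
  edges_tab (sm ga) Qf (tab Gen.a) 22016 [(22016, 21452), (22017, 21502), (22018, 20778), (22019, 22023), (22020, 22618), (22021, 22201), (22022, 19863), (22023, 22019), (22024, 22477), (22025, 21290), (22026, 21368), (22027, 21921), (22028, 22290), (22029, 19871), (22030, 20528), (22031, 21494), (22032, 21460), (22033, 22037), (22034, 22196), (22035, 22632), (22036, 19880), (22037, 22033), (22038, 22465), (22039, 21413), (22040, 21285), (22041, 21845), (22042, 22270), (22043, 19889), (22044, 20362), (22045, 19902), (22046, 20391), (22047, 19915), (22048, 20536), (22049, 19941), (22050, 21959), (22051, 22051), (22052, 20076), (22053, 22053), (22054, 19950), (22055, 22058), (22056, 19957), (22057, 19958), (22058, 22055), (22059, 19969), (22060, 19971), (22061, 19972), (22062, 22063), (22063, 22062), (22064, 20478), (22065, 19999), (22066, 21998), (22067, 20059), (22068, 22068), (22069, 22069), (22070, 21495), (22071, 22298),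 (22072, 21488), (22073, 20029), (22074, 20030), (22075, 22325), (22076, 22483), (22077, 22721), (22078, 21252), (22079, 20236)]
    ⟨e3 q22016 (flp_a L253928) q21452, e3 q22017 (flp_a L253940) q21502, e3 q22018 L253948 q20778, e3 q22019 (flp_a L253980) q22023, e3 q22020 (flp_a L260014) q22618, e3 q22021 (flp_a L255696) q22201, e3 q22022 (flp_a L253974) q19863, e3 q22023 L253980 q22019, e3 q22024 (flp_a L258518) q22477, e3 q22025 L254004 q21290, e3 q22026 L254018 q21368, e3 q22027 L254032 q21921, e3 q22028 (flp_a L256673) q22290, e3 q22029 (flp_a L254048) q19871, e3 q22030 L254058 q20528, e3 q22031 L254078 q21494, e3 q22032 L254090 q21460, e3 q22033 (flp_a L254122) q22037, e3 q22034 (flp_a L255634) q22196, e3 q22035 (flp_a L260168) q22632, e3 q22036 (flp_a L254114) q19880, e3 q22037 L254122 q22033, e3 q22038 (flp_a L258380) q22465, e3 q22039 L254146 q21413, e3 q22040 L254160 q21285, e3 q22041 L254174 q21845, e3 q22042 (flp_a L256468) q22270, e3 q22043 (flp_a L254190) q19889, e3 q22044 L254204 q20362, e3 q22045 L254218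 q19902, e3 q22046 L254228 q20391, e3 q22047 L254242 q19915, e3 q22048 L254259 q20536, e3 q22049 L254263 q19941, e3 q22050 L254277 q21959, e3 q22051 L254293 q22051, e3 q22052 L254296 q20076, e3 q22053 L254310 q22053, e3 q22054 L254318 q19950, e3 q22055 (flp_a L254366) q22058, e3 q22056 L254340 q19957, e3 q22057 L254352 q19958, e3 q22058 L254366 q22055, e3 q22059 L254380 q19969, e3 q22060 L254392 q19971, e3 q22061 L254404 q19972, e3 q22062 (flp_a L254428) q22063, e3 q22063 L254428 q22062, e3 q22064 L254449 q20478, e3 q22065 L254453 q19999, e3 q22066 L254467 q21998, e3 q22067 L254478 q20059, e3 q22068 L254499 q22068, e3 q22069 L254502 q22069, e3 q22070 L254512 q21495, e3 q22071 (flp_a L256746) q22298, e3 q22072 L254534 q21488, e3 q22073 L254548 q20029, e3 q22074 L254556 q20030, e3 q22075 (flp_a L257005) q22325, e3 q22076 (flp_a L258594) q22483, e3 q22077 (flp_a L261082) q22721, e3 q22078 L254590 q21252, e3 q22079 L254594 q20236, trivial⟩ (by decide +kernel)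

theorem ce_a_345 : ∀ r, r < 64 → sm ga (Qf (22080 + r)) = Qf (tab Gen.a (22080 + r)) :=
  edges_tab (sm ga) Qf (tab Gen.a) 22080 [(22080, 22326), (22081, 22753), (22082, 22203), (22083, 21453), (22084, 22279), (22085, 21446), (22086, 20049), (22087, 20050), (22088, 22339), (22089, 22471), (22090, 22725), (22091, 21241), (22092, 20248), (22093, 22340), (22094, 22757), (22095, 22198), (22096, 22009), (22097, 22760), (22098, 20069), (22099, 20070), (22100, 22100), (22101, 22263), (22102, 22763), (22103, 20080), (22104, 22249), (22105, 20068), (22106, 22767), (22107, 20629), (22108, 22347), (22109, 21001), (22110, 22769), (22111, 20081), (22112, 22112), (22113, 21971), (22114, 22772), (22115, 22774), (22116, 20079), (22117, 20656), (22118, 22768), (22119, 22333), (22120, 20975), (22121, 22777), (22122, 21240), (22123, 22348), (22124, 20393), (22125, 20091), (22126, 21251), (22127, 22334), (22128, 20323), (22129, 20099), (22130, 20107), (22131, 21365), (22132, 20115), (22133, 21410), (22134, 21698), (22135, 21572),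 (22136, 21081), (22137, 21044), (22138, 22144), (22139, 22008), (22140, 22147), (22141, 21970), (22142, 20148), (22143, 22143)]
    ⟨e3 q22080 (flp_a L257009) q22326, e3 q22081 L261416 q22753, e3 q22082 (flp_a L255724) q22203, e3 q22083 L254622 q21453, e3 q22084 (flp_a L256541) q22279, e3 q22085 L254644 q21446, e3 q22086 L254658 q20049, e3 q22087 L254666 q20050, e3 q22088 (flp_a L257125) q22339, e3 q22089 L258458 q22471, e3 q22090 (flp_a L261140) q22725, e3 q22091 L254700 q21241, e3 q22092 L254704 q20248, e3 q22093 (flp_a L257129) q22340, e3 q22094 L261458 q22757, e3 q22095 (flp_a L255660) q22198, e3 q22096 L254732 q22009, e3 q22097 L261495 q22760, e3 q22098 L254744 q20069, e3 q22099 L254754 q20070, e3 q22100 L254773 q22100, e3 q22101 (flp_a L256374) q22263, e3 q22102 L261514 q22763, e3 q22103 L254796 q20080, e3 q22104 (flp_a L256216) q22249, e3 q22105 (flp_a L254818) q20068, e3 q22106 (flp_a L261558) q22767, e3 q22107 L254832 q20629, e3 q22108 (flp_a L257177) q22347, e3 q22109 L254840 q21001, e3 q22110 L261572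 q22769, e3 q22111 L254859 q20081, e3 q22112 L254881 q22112, e3 q22113 L254884 q21971, e3 q22114 L261600 q22772, e3 q22115 L261611 q22774, e3 q22116 (flp_a L254903) q20079, e3 q22117 L254913 q20656, e3 q22118 (flp_a L261566) q22768, e3 q22119 (flp_a L257061) q22333, e3 q22120 L254925 q20975, e3 q22121 L261647 q22777, e3 q22122 L254944 q21240, e3 q22123 (flp_a L257187) q22348, e3 q22124 L254968 q20393, e3 q22125 L254980 q20091, e3 q22126 L254990 q21251, e3 q22127 (flp_a L257071) q22334, e3 q22128 L255014 q20323, e3 q22129 L255026 q20099, e3 q22130 L255036 q20107, e3 q22131 L255056 q21365, e3 q22132 L255060 q20115, e3 q22133 L255080 q21410, e3 q22134 L255094 q21698, e3 q22135 L255108 q21572, e3 q22136 L255112 q21081, e3 q22137 L255122 q21044, e3 q22138 (flp_a L255190) q22144, e3 q22139 L255148 q22008, e3 q22140 (flp_a L255216) q22147, e3 q22141 L255168 q21970, e3 q22142 L255172 q20148, e3 q22143 L255187 q22143, trivial⟩ (by decide +kernel)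

theorem ce_a_346 : ∀ r, r < 64 → sm ga (Qf (22144 + r)) = Qf (tab Gen.a (22144 + r)) :=
  edges_tab (sm ga) Qf (tab Gen.a) 22144 [(22144, 22138), (22145, 20151), (22146, 22146), (22147, 22140), (22148, 22197), (22149, 22202), (22150, 21052), (22151, 22193), (22152, 20293), (22153, 22284), (22154, 22163), (22155, 20658), (22156, 21065), (22157, 22747), (22158, 20684), (22159, 21087), (22160, 22186), (22161, 20312), (22162, 22264), (22163, 22154), (22164, 20631), (22165, 21027), (22166, 22746), (22167, 20721), (22168, 22464), (22169, 20221), (22170, 20223), (22171, 22588), (22172, 22562), (22173, 20315), (22174, 20226), (22175, 22476), (22176, 20228), (22177, 20230), (22178, 22601), (22179, 22565), (22180, 20295), (22181, 20233), (22182, 22188), (22183, 21690), (22184, 21190), (22185, 21191), (22186, 22160), (22187, 21083), (22188, 22182), (22189, 22195), (22190, 21564), (22191, 21141), (22192, 21142), (22193, 22151), (22194, 21048), (22195, 22189), (22196, 22034), (22197, 22148), (22198, 22095), (22199, 20269),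 (22200, 21487), (22201, 22021), (22202, 22149), (22203, 22082), (22204, 20280), (22205, 21443), (22206, 22786), (22207, 20283)]
    ⟨e3 q22144 L255190 q22138, e3 q22145 L255198 q20151, e3 q22146 L255213 q22146, e3 q22147 L255216 q22140, e3 q22148 (flp_a L255646) q22197, e3 q22149 (flp_a L255710) q22202, e3 q22150 L255240 q21052, e3 q22151 (flp_a L255604) q22193, e3 q22152 L255257 q20293, e3 q22153 (flp_a L256589) q22284, e3 q22154 L255360 q22163, e3 q22155 L255281 q20658, e3 q22156 L255293 q21065, e3 q22157 (flp_a L261372) q22747, e3 q22158 L255309 q20684, e3 q22159 L255321 q21087, e3 q22160 (flp_a L255541) q22186, e3 q22161 L255338 q20312, e3 q22162 (flp_a L256388) q22264, e3 q22163 (flp_a L255360) q22154, e3 q22164 L255364 q20631, e3 q22165 L255376 q21027, e3 q22166 (flp_a L261364) q22746, e3 q22167 L255392 q20721, e3 q22168 (flp_a L258376) q22464, e3 q22169 (flp_a L255408) q20221, e3 q22170 (flp_a L255414) q20223, e3 q22171 (flp_a L259704) q22588, e3 q22172 (flp_a L259454) q22562, e3 q22173 L255440 q20315, e3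 q22174 (flp_a L255442) q20226, e3 q22175 (flp_a L258514) q22476, e3 q22176 (flp_a L255460) q20228, e3 q22177 (flp_a L255466) q20230, e3 q22178 (flp_a L259838) q22601, e3 q22179 (flp_a L259486) q22565, e3 q22180 L255492 q20295, e3 q22181 (flp_a L255494) q20233, e3 q22182 (flp_a L255567) q22188, e3 q22183 L255512 q21690, e3 q22184 L255522 q21190, e3 q22185 L255530 q21191, e3 q22186 L255541 q22160, e3 q22187 L255553 q21083, e3 q22188 L255567 q22182, e3 q22189 (flp_a L255630) q22195, e3 q22190 L255575 q21564, e3 q22191 L255585 q21141, e3 q22192 L255593 q21142, e3 q22193 L255604 q22151, e3 q22194 L255616 q21048, e3 q22195 L255630 q22189, e3 q22196 L255634 q22034, e3 q22197 L255646 q22148, e3 q22198 L255660 q22095, e3 q22199 L255672 q20269, e3 q22200 L255684 q21487, e3 q22201 L255696 q22021, e3 q22202 L255710 q22149, e3 q22203 L255724 q22082, e3 q22204 L255736 q20280, e3 q22205 L255748 q21443, e3 q22206 (flp_a L261740) q22786, e3 q22207 L255771 q20283, trivial⟩ (by decide +kernel)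

theorem ce_a_347 : ∀ r, r < 64 → sm ga (Qf (22208 + r)) = Qf (tab Gen.a (22208 + r)) :=
  edges_tab (sm ga) Qf (tab Gen.a) 22208 [(22208, 21541), (22209, 20287), (22210, 22217), (22211, 20291), (22212, 20997), (22213, 20999), (22214, 21003), (22215, 22787), (22216, 22515), (22217, 22210), (22218, 20298), (22219, 21072), (22220, 21061), (22221, 22789), (22222, 20303), (22223, 21671), (22224, 20307), (22225, 22232), (22226, 20311), (22227, 20971), (22228, 20973), (22229, 22790), (22230, 20977), (22231, 22486), (22232, 22225), (22233, 20318), (22234, 21035), (22235, 21022), (22236, 22359), (22237, 21359), (22238, 21548), (22239, 20405), (22240, 21150), (22241, 20343), (22242, 22724), (22243, 20939), (22244, 20364), (22245, 22247), (22246, 20369), (22247, 22245), (22248, 21287), (22249, 22104), (22250, 22390), (22251, 20385), (22252, 22261), (22253, 22387), (22254, 20910), (22255, 22351), (22256, 21405), (22257, 21677), (22258, 21097), (22259, 22719), (22260, 20414), (22261, 22252), (22262, 21292), (22263, 22101),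 (22264, 22162), (22265, 21763), (22266, 22268), (22267, 20786), (22268, 22266), (22269, 21504), (22270, 22042), (22271, 20582)]
    ⟨e3 q22208 L255781 q21541, e3 q22209 L255793 q20287, e3 q22210 (flp_a L255877) q22217, e3 q22211 L255810 q20291, e3 q22212 L255821 q20997, e3 q22213 L255833 q20999, e3 q22214 L255845 q21003, e3 q22215 (flp_a L261753) q22787, e3 q22216 (flp_a L258943) q22515, e3 q22217 L255877 q22210, e3 q22218 L255887 q20298, e3 q22219 L255897 q21072, e3 q22220 L255913 q21061, e3 q22221 (flp_a L261777) q22789, e3 q22222 L255928 q20303, e3 q22223 L255938 q21671, e3 q22224 L255950 q20307, e3 q22225 (flp_a L256036) q22232, e3 q22226 L255967 q20311, e3 q22227 L255978 q20971, e3 q22228 L255990 q20973, e3 q22229 (flp_a L261790) q22790, e3 q22230 L256012 q20977, e3 q22231 (flp_a L258626) q22486, e3 q22232 L256036 q22225, e3 q22233 L256046 q20318, e3 q22234 L256056 q21035, e3 q22235 L256072 q21022, e3 q22236 (flp_a L257313) q22359, e3 q22237 L256088 q21359, e3 q22238 L256100 q21548, e3 q22239 L256112 q20405,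 e3 q22240 (flp_a L256132) q21150, e3 q22241 L256136 q20343, e3 q22242 (flp_a L261118) q22724, e3 q22243 L256160 q20939, e3 q22244 L256172 q20364, e3 q22245 (flp_a L256194) q22247, e3 q22246 L256186 q20369, e3 q22247 L256194 q22245, e3 q22248 L256206 q21287, e3 q22249 L256216 q22104, e3 q22250 (flp_a L257634) q22390, e3 q22251 L256240 q20385, e3 q22252 (flp_a L256350) q22261, e3 q22253 (flp_a L257608) q22387, e3 q22254 L256268 q20910, e3 q22255 (flp_a L257215) q22351, e3 q22256 L256292 q21405, e3 q22257 L256304 q21677, e3 q22258 L256322 q21097, e3 q22259 (flp_a L261066) q22719, e3 q22260 L256336 q20414, e3 q22261 L256350 q22252, e3 q22262 L256364 q21292, e3 q22263 L256374 q22101, e3 q22264 L256388 q22162, e3 q22265 L256402 q21763, e3 q22266 (flp_a L256436) q22268, e3 q22267 L256426 q20786, e3 q22268 L256436 q22266, e3 q22269 (flp_a L256458) q21504, e3 q22270 L256468 q22042, e3 q22271 L256472 q20582, trivial⟩ (by decide +kernel)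

theorem ce_a_348 : ∀ r, r < 64 → sm ga (Qf (22272 + r)) = Qf (tab Gen.a (22272 + r)) :=
  edges_tab (sm ga) Qf (tab Gen.a) 22272 [(22272, 21505), (22273, 22273), (22274, 22276), (22275, 21455), (22276, 22274), (22277, 22277), (22278, 21517), (22279, 22084), (22280, 21375), (22281, 21376), (22282, 22531), (22283, 20484), (22284, 22153), (22285, 21867), (22286, 22288), (22287, 20772), (22288, 22286), (22289, 21462), (22290, 22028), (22291, 21463), (22292, 20556), (22293, 21497), (22294, 22296), (22295, 22295), (22296, 22294), (22297, 21475), (22298, 22071), (22299, 21419), (22300, 21420), (22301, 22508), (22302, 20543), (22303, 20547), (22304, 20563), (22305, 20550), (22306, 21480), (22307, 20566), (22308, 22379), (22309, 22805), (22310, 20561), (22311, 22808), (22312, 22312), (22313, 21834), (22314, 22314), (22315, 21833), (22316, 22316), (22317, 20574), (22318, 21522), (22319, 22350), (22320, 22320), (22321, 22731), (22322, 22338), (22323, 22323), (22324, 22723), (22325, 22075), (22326, 22080), (22327, 22553),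 (22328, 20627), (22329, 22765), (22330, 22552), (22331, 22717), (22332, 20630), (22333, 22119), (22334, 22127), (22335, 22349)]
    ⟨e3 q22272 L256482 q21505, e3 q22273 L256494 q22273, e3 q22274 (flp_a L256519) q22276, e3 q22275 L256515 q21455, e3 q22276 L256519 q22274, e3 q22277 L256529 q22277, e3 q22278 L256537 q21517, e3 q22279 L256541 q22084, e3 q22280 L256555 q21375, e3 q22281 L256565 q21376, e3 q22282 (flp_a L259121) q22531, e3 q22283 (flp_a L256579) q20484, e3 q22284 L256589 q22153, e3 q22285 L256603 q21867, e3 q22286 (flp_a L256641) q22288, e3 q22287 L256629 q20772, e3 q22288 L256641 q22286, e3 q22289 L256663 q21462, e3 q22290 L256673 q22028, e3 q22291 L256677 q21463, e3 q22292 L256687 q20556, e3 q22293 L256705 q21497, e3 q22294 (flp_a L256726) q22296, e3 q22295 L256723 q22295, e3 q22296 L256726 q22294, e3 q22297 L256742 q21475, e3 q22298 L256746 q22071, e3 q22299 L256760 q21419, e3 q22300 L256772 q21420, e3 q22301 (flp_a L258862) q22508, e3 q22302 (flp_a L256786) q20543, e3 q22303 L256798 q20547, e3 q22304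 L256818 q20563, e3 q22305 (flp_a L256822) q20550, e3 q22306 L256840 q21480, e3 q22307 L256848 q20566, e3 q22308 (flp_a L257536) q22379, e3 q22309 L261951 q22805, e3 q22310 (flp_a L256874) q20561, e3 q22311 (flp_a L261981) q22808, e3 q22312 L256890 q22312, e3 q22313 L256893 q21834, e3 q22314 L256908 q22314, e3 q22315 L256911 q21833, e3 q22316 L256930 q22316, e3 q22317 (flp_a L256931) q20574, e3 q22318 L256951 q21522, e3 q22319 (flp_a L257205) q22350, e3 q22320 L256964 q22320, e3 q22321 (flp_a L261208) q22731, e3 q22322 (flp_a L257109) q22338, e3 q22323 L256986 q22323, e3 q22324 (flp_a L261106) q22723, e3 q22325 L257005 q22075, e3 q22326 L257009 q22080, e3 q22327 (flp_a L259362) q22553, e3 q22328 (flp_a L257021) q20627, e3 q22329 (flp_a L261538) q22765, e3 q22330 (flp_a L259352) q22552, e3 q22331 (flp_a L261046) q22717, e3 q22332 L257045 q20630, e3 q22333 L257061 q22119, e3 q22334 L257071 q22127, e3 q22335 (flp_a L257201) q22349, trivial⟩ (by decide +kernel)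

theorem ce_a_349 : ∀ r, r < 64 → sm ga (Qf (22336 + r)) = Qf (tab Gen.a (22336 + r)) :=
  edges_tab (sm ga) Qf (tab Gen.a) 22336 [(22336, 20638), (22337, 20664), (22338, 22322), (22339, 22088), (22340, 22093), (22341, 22544), (22342, 20654), (22343, 22775), (22344, 22543), (22345, 22687), (22346, 20657), (22347, 22108), (22348, 22123), (22349, 22335), (22350, 22319), (22351, 22255), (22352, 22413), (22353, 20690), (22354, 21594), (22355, 21274), (22356, 20697), (22357, 22357), (22358, 20710), (22359, 22236), (22360, 22418), (22361, 21712), (22362, 21265), (22363, 22363), (22364, 20743), (22365, 21926), (22366, 21927), (22367, 21928), (22368, 22368), (22369, 22369), (22370, 21851), (22371, 21852), (22372, 21853), (22373, 22373), (22374, 20780), (22375, 22809), (22376, 20776), (22377, 22810), (22378, 22378), (22379, 22308), (22380, 22678), (22381, 22383), (22382, 22382), (22383, 22381), (22384, 22482), (22385, 22470), (22386, 22585), (22387, 22253), (22388, 22541), (22389, 22598), (22390, 22250), (22391, 22550),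 (22392, 21885), (22393, 22832), (22394, 20864), (22395, 21071), (22396, 20865), (22397, 21357), (22398, 22833), (22399, 21791)]
    ⟨e3 q22336 L257085 q20638, e3 q22337 L257097 q20664, e3 q22338 L257109 q22322, e3 q22339 L257125 q22088, e3 q22340 L257129 q22093, e3 q22341 (flp_a L259264) q22544, e3 q22342 (flp_a L257141) q20654, e3 q22343 (flp_a L261625) q22775, e3 q22344 (flp_a L259254) q22543, e3 q22345 (flp_a L260707) q22687, e3 q22346 L257167 q20657, e3 q22347 L257177 q22108, e3 q22348 L257187 q22123, e3 q22349 L257201 q22335, e3 q22350 L257205 q22319, e3 q22351 L257215 q22255, e3 q22352 (flp_a L257864) q22413, e3 q22353 L257239 q20690, e3 q22354 L257253 q21594, e3 q22355 L257267 q21274, e3 q22356 L257275 q20697, e3 q22357 L257299 q22357, e3 q22358 L257302 q20710, e3 q22359 L257313 q22236, e3 q22360 (flp_a L257912) q22418, e3 q22361 L257337 q21712, e3 q22362 L257351 q21265, e3 q22363 L257369 q22363, e3 q22364 L257372 q20743, e3 q22365 L257383 q21926, e3 q22366 L257395 q21927, e3 q22367 L257403 q21928, e3 q22368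 L257419 q22368, e3 q22369 L257422 q22369, e3 q22370 L257432 q21851, e3 q22371 L257446 q21852, e3 q22372 L257460 q21853, e3 q22373 L257476 q22373, e3 q22374 L257479 q20780, e3 q22375 (flp_a L261990) q22809, e3 q22376 (flp_a L257501) q20776, e3 q22377 (flp_a L262004) q22810, e3 q22378 L257533 q22378, e3 q22379 L257536 q22308, e3 q22380 (flp_a L260612) q22678, e3 q22381 (flp_a L257564) q22383, e3 q22382 L257561 q22382, e3 q22383 L257564 q22381, e3 q22384 (flp_a L258576) q22482, e3 q22385 (flp_a L258438) q22470, e3 q22386 (flp_a L259672) q22585, e3 q22387 L257608 q22253, e3 q22388 (flp_a L259238) q22541, e3 q22389 (flp_a L259806) q22598, e3 q22390 L257634 q22250, e3 q22391 (flp_a L259336) q22550, e3 q22392 L257652 q21885, e3 q22393 L262207 q22832, e3 q22394 (flp_a L257670) q20864, e3 q22395 L257684 q21071, e3 q22396 (flp_a L257694) q20865, e3 q22397 L257706 q21357, e3 q22398 (flp_a L262223) q22833, e3 q22399 L257728 q21791, trivial⟩ (by decide +kernel)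

theorem ce_a_350 : ∀ r, r < 64 → sm ga (Qf (22400 + r)) = Qf (tab Gen.a (22400 + r)) :=
  edges_tab (sm ga) Qf (tab Gen.a) 22400 [(22400, 20887), (22401, 21034), (22402, 20891), (22403, 21402), (22404, 21385), (22405, 22555), (22406, 22003), (22407, 22501), (22408, 22580), (22409, 22417), (22410, 22421), (22411, 20921), (22412, 22739), (22413, 22352), (22414, 20923), (22415, 20924), (22416, 22837), (22417, 22409), (22418, 22360), (22419, 20952), (22420, 20928), (22421, 22410), (22422, 22839), (22423, 21429), (22424, 22546), (22425, 21965), (22426, 22527), (22427, 22593), (22428, 22433), (22429, 22435), (22430, 20950), (22431, 22726), (22432, 20953), (22433, 22428), (22434, 20957), (22435, 22429), (22436, 22644), (22437, 22645), (22438, 20967), (22439, 20968), (22440, 21563), (22441, 21628), (22442, 21104), (22443, 22447), (22444, 21354), (22445, 20978), (22446, 20982), (22447, 22443), (22448, 20986), (22449, 22696), (22450, 22697), (22451, 20993), (22452, 20994), (22453, 21689), (22454, 21740), (22455, 21157),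 (22456, 22460), (22457, 21400), (22458, 21004), (22459, 21008), (22460, 22456), (22461, 21012), (22462, 22554), (22463, 21212)]
    ⟨e3 q22400 (flp_a L257738) q20887, e3 q22401 L257752 q21034, e3 q22402 (flp_a L257762) q20891, e3 q22403 L257774 q21402, e3 q22404 (flp_a L257796) q21385, e3 q22405 L259388 q22555, e3 q22406 L257804 q22003, e3 q22407 (flp_a L258784) q22501, e3 q22408 (flp_a L259628) q22580, e3 q22409 (flp_a L257900) q22417, e3 q22410 (flp_a L257944) q22421, e3 q22411 (flp_a L257834) q20921, e3 q22412 (flp_a L261290) q22739, e3 q22413 L257864 q22352, e3 q22414 L257872 q20923, e3 q22415 L257882 q20924, e3 q22416 (flp_a L262261) q22837, e3 q22417 L257900 q22409, e3 q22418 L257912 q22360, e3 q22419 L257932 q20952, e3 q22420 L257936 q20928, e3 q22421 L257944 q22410, e3 q22422 (flp_a L262289) q22839, e3 q22423 L257970 q21429, e3 q22424 L259288 q22546, e3 q22425 L257978 q21965, e3 q22426 (flp_a L259075) q22527, e3 q22427 (flp_a L259758) q22593, e3 q22428 (flp_a L258040) q22433, e3 q22429 (flp_a L258060) q22435,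 e3 q22430 (flp_a L258008) q20950, e3 q22431 (flp_a L261154) q22726, e3 q22432 L258032 q20953, e3 q22433 L258040 q22428, e3 q22434 L258052 q20957, e3 q22435 L258060 q22429, e3 q22436 (flp_a L260286) q22644, e3 q22437 (flp_a L260294) q22645, e3 q22438 L258079 q20967, e3 q22439 L258091 q20968, e3 q22440 L258103 q21563, e3 q22441 L258115 q21628, e3 q22442 (flp_a L258133) q21104, e3 q22443 (flp_a L258183) q22447, e3 q22444 L258149 q21354, e3 q22445 L258157 q20978, e3 q22446 L258169 q20982, e3 q22447 L258183 q22443, e3 q22448 L258195 q20986, e3 q22449 (flp_a L260811) q22696, e3 q22450 (flp_a L260819) q22697, e3 q22451 L258220 q20993, e3 q22452 L258232 q20994, e3 q22453 L258244 q21689, e3 q22454 L258256 q21740, e3 q22455 L258274 q21157, e3 q22456 (flp_a L258324) q22460, e3 q22457 L258290 q21400, e3 q22458 L258298 q21004, e3 q22459 L258310 q21008, e3 q22460 L258324 q22456, e3 q22461 L258336 q21012, e3 q22462 (flp_a L259374) q22554, e3 q22463 L258362 q21212, trivial⟩ (by decide +kernel)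

theorem ce_a_351 : ∀ r, r < 64 → sm ga (Qf (22464 + r)) = Qf (tab Gen.a (22464 + r)) :=
  edges_tab (sm ga) Qf (tab Gen.a) 22464 [(22464, 22168), (22465, 22038), (22466, 21039), (22467, 21872), (22468, 21961), (22469, 21283), (22470, 22385), (22471, 22089), (22472, 21051), (22473, 21785), (22474, 22545), (22475, 21231), (22476, 22175), (22477, 22024), (22478, 21076), (22479, 21766), (22480, 21999), (22481, 21288), (22482, 22384), (22483, 22076), (22484, 21086), (22485, 21882), (22486, 22231), (22487, 21093), (22488, 22690), (22489, 21094), (22490, 21149), (22491, 22718), (22492, 21148), (22493, 22590), (22494, 21106), (22495, 21904), (22496, 22849), (22497, 21206), (22498, 21109), (22499, 22728), (22500, 21112), (22501, 22407), (22502, 21114), (22503, 21118), (22504, 21168), (22505, 22564), (22506, 21131), (22507, 21918), (22508, 22301), (22509, 21362), (22510, 21542), (22511, 22771), (22512, 21672), (22513, 22605), (22514, 21805), (22515, 22216), (22516, 22634), (22517, 22736), (22518, 22603), (22519, 21159),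 (22520, 21819), (22521, 22850), (22522, 21226), (22523, 21162), (22524, 22741), (22525, 21164), (22526, 21171), (22527, 22426)]
    ⟨e3 q22464 L258376 q22168, e3 q22465 L258380 q22038, e3 q22466 L258392 q21039, e3 q22467 L258408 q21872, e3 q22468 L258422 q21961, e3 q22469 L258426 q21283, e3 q22470 L258438 q22385, e3 q22471 (flp_a L258458) q22089, e3 q22472 L258462 q21051, e3 q22473 L258476 q21785, e3 q22474 (flp_a L259274) q22545, e3 q22475 L258500 q21231, e3 q22476 L258514 q22175, e3 q22477 L258518 q22024, e3 q22478 L258530 q21076, e3 q22479 L258546 q21766, e3 q22480 L258560 q21999, e3 q22481 L258564 q21288, e3 q22482 L258576 q22384, e3 q22483 L258594 q22076, e3 q22484 L258600 q21086, e3 q22485 L258614 q21882, e3 q22486 L258626 q22231, e3 q22487 (flp_a L258634) q21093, e3 q22488 (flp_a L260741) q22690, e3 q22489 (flp_a L258658) q21094, e3 q22490 L258670 q21149, e3 q22491 (flp_a L261062) q22718, e3 q22492 L258686 q21148, e3 q22493 (flp_a L259722) q22590, e3 q22494 (flp_a L258708) q21106, e3 q22495 L258722 q21904,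 e3 q22496 L262401 q22849, e3 q22497 L258744 q21206, e3 q22498 (flp_a L258756) q21109, e3 q22499 (flp_a L261180) q22728, e3 q22500 L258772 q21112, e3 q22501 L258784 q22407, e3 q22502 (flp_a L258796) q21114, e3 q22503 L258806 q21118, e3 q22504 L258818 q21168, e3 q22505 (flp_a L259476) q22564, e3 q22506 L258836 q21131, e3 q22507 L258856 q21918, e3 q22508 L258862 q22301, e3 q22509 L258874 q21362, e3 q22510 L258882 q21542, e3 q22511 (flp_a L261598) q22771, e3 q22512 L258903 q21672, e3 q22513 (flp_a L259884) q22605, e3 q22514 L258939 q21805, e3 q22515 L258943 q22216, e3 q22516 (flp_a L260190) q22634, e3 q22517 (flp_a L261258) q22736, e3 q22518 (flp_a L259860) q22603, e3 q22519 (flp_a L258983) q21159, e3 q22520 L258997 q21819, e3 q22521 L262413 q22850, e3 q22522 L259023 q21226, e3 q22523 (flp_a L259035) q21162, e3 q22524 (flp_a L261316) q22741, e3 q22525 (flp_a L259051) q21164, e3 q22526 L259063 q21171, e3 q22527 L259075 q22426, trivial⟩ (by decide +kernel)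

theorem ce_a_352 : ∀ r, r < 64 → sm ga (Qf (22528 + r)) = Qf (tab Gen.a (22528 + r)) :=
  edges_tab (sm ga) Qf (tab Gen.a) 22528 [(22528, 22561), (22529, 21184), (22530, 21841), (22531, 22282), (22532, 21407), (22533, 22759), (22534, 22622), (22535, 21896), (22536, 21204), (22537, 21694), (22538, 22570), (22539, 21207), (22540, 22571), (22541, 22388), (22542, 21211), (22543, 22344), (22544, 22341), (22545, 22474), (22546, 22424), (22547, 21224), (22548, 21568), (22549, 21227), (22550, 22391), (22551, 21230), (22552, 22330), (22553, 22327), (22554, 22462), (22555, 22405), (22556, 22794), (22557, 21247), (22558, 22795), (22559, 21257), (22560, 21267), (22561, 22528), (22562, 22172), (22563, 21276), (22564, 22505), (22565, 22179), (22566, 21294), (22567, 22693), (22568, 21296), (22569, 22641), (22570, 22538), (22571, 22540), (22572, 22572), (22573, 21334), (22574, 22857), (22575, 22575), (22576, 21336), (22577, 22858), (22578, 21755), (22579, 22793), (22580, 22408), (22581, 22594), (22582, 22595), (22583, 21953),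 (22584, 22751), (22585, 22386), (22586, 21390), (22587, 21391), (22588, 22171), (22589, 22859), (22590, 22493), (22591, 21650)]
    ⟨e3 q22528 (flp_a L259444) q22561, e3 q22529 L259095 q21184, e3 q22530 L259115 q21841, e3 q22531 L259121 q22282, e3 q22532 L259133 q21407, e3 q22533 (flp_a L261493) q22759, e3 q22534 (flp_a L260056) q22622, e3 q22535 (flp_a L259172) q21896, e3 q22536 (flp_a L259174) q21204, e3 q22537 L259190 q21694, e3 q22538 (flp_a L259538) q22570, e3 q22539 (flp_a L259210) q21207, e3 q22540 (flp_a L259542) q22571, e3 q22541 L259238 q22388, e3 q22542 L259242 q21211, e3 q22543 L259254 q22344, e3 q22544 L259264 q22341, e3 q22545 L259274 q22474, e3 q22546 (flp_a L259288) q22424, e3 q22547 (flp_a L259290) q21224, e3 q22548 L259306 q21568, e3 q22549 (flp_a L259316) q21227, e3 q22550 L259336 q22391, e3 q22551 L259340 q21230, e3 q22552 L259352 q22330, e3 q22553 L259362 q22327, e3 q22554 L259374 q22462, e3 q22555 (flp_a L259388) q22405, e3 q22556 (flp_a L261843) q22794, e3 q22557 L259399 q21247, e3 q22558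 (flp_a L261854) q22795, e3 q22559 L259420 q21257, e3 q22560 L259434 q21267, e3 q22561 L259444 q22528, e3 q22562 L259454 q22172, e3 q22563 L259466 q21276, e3 q22564 L259476 q22505, e3 q22565 L259486 q22179, e3 q22566 L259498 q21294, e3 q22567 (flp_a L260775) q22693, e3 q22568 L259514 q21296, e3 q22569 (flp_a L260252) q22641, e3 q22570 L259538 q22538, e3 q22571 L259542 q22540, e3 q22572 L259555 q22572, e3 q22573 L259560 q21334, e3 q22574 (flp_a L262509) q22857, e3 q22575 L259586 q22575, e3 q22576 L259591 q21336, e3 q22577 (flp_a L262522) q22858, e3 q22578 L259614 q21755, e3 q22579 (flp_a L261826) q22793, e3 q22580 L259628 q22408, e3 q22581 (flp_a L259772) q22594, e3 q22582 (flp_a L259776) q22595, e3 q22583 L259650 q21953, e3 q22584 (flp_a L261400) q22751, e3 q22585 L259672 q22386, e3 q22586 L259684 q21390, e3 q22587 L259696 q21391, e3 q22588 L259704 q22171, e3 q22589 (flp_a L262535) q22859, e3 q22590 L259722 q22493, e3 q22591 L259740 q21650, trivial⟩ (by decide +kernel)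

theorem ce_a_353 : ∀ r, r < 64 → sm ga (Qf (22592 + r)) = Qf (tab Gen.a (22592 + r)) :=
  edges_tab (sm ga) Qf (tab Gen.a) 22592 [(22592, 22792), (22593, 22427), (22594, 22581), (22595, 22582), (22596, 21991), (22597, 22755), (22598, 22389), (22599, 21434), (22600, 21435), (22601, 22178), (22602, 22860), (22603, 22518), (22604, 21919), (22605, 22513), (22606, 21916), (22607, 21450), (22608, 21950), (22609, 21793), (22610, 21492), (22611, 21469), (22612, 21471), (22613, 22861), (22614, 22628), (22615, 21473), (22616, 22630), (22617, 22631), (22618, 22020), (22619, 21479), (22620, 21839), (22621, 21837), (22622, 22534), (22623, 21988), (22624, 21887), (22625, 21511), (22626, 21513), (22627, 22862), (22628, 22614), (22629, 21515), (22630, 22616), (22631, 22617), (22632, 22035), (22633, 21521), (22634, 22516), (22635, 21536), (22636, 21537), (22637, 22638), (22638, 22637), (22639, 22709), (22640, 22713), (22641, 22569), (22642, 21933), (22643, 21900), (22644, 22436), (22645, 22437), (22646, 21569), (22647, 21570),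 (22648, 21983), (22649, 21578), (22650, 21579), (22651, 21728), (22652, 22680), (22653, 22864), (22654, 21586), (22655, 21901)]
    ⟨e3 q22592 (flp_a L261816) q22792, e3 q22593 L259758 q22427, e3 q22594 L259772 q22581, e3 q22595 L259776 q22582, e3 q22596 L259784 q21991, e3 q22597 (flp_a L261442) q22755, e3 q22598 L259806 q22389, e3 q22599 L259818 q21434, e3 q22600 L259830 q21435, e3 q22601 L259838 q22178, e3 q22602 (flp_a L262547) q22860, e3 q22603 L259860 q22518, e3 q22604 L259880 q21919, e3 q22605 L259884 q22513, e3 q22606 L259896 q21916, e3 q22607 (flp_a L259904) q21450, e3 q22608 L259920 q21950, e3 q22609 L259932 q21793, e3 q22610 L259956 q21492, e3 q22611 L259960 q21469, e3 q22612 (flp_a L259972) q21471, e3 q22613 (flp_a L262561) q22861, e3 q22614 (flp_a L260128) q22628, e3 q22615 L259994 q21473, e3 q22616 (flp_a L260146) q22630, e3 q22617 (flp_a L260154) q22631, e3 q22618 L260014 q22020, e3 q22619 (flp_a L260022) q21479, e3 q22620 L260034 q21839, e3 q22621 L260046 q21837, e3 q22622 L260056 q22534, e3 q22623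 L260070 q21988, e3 q22624 L260082 q21887, e3 q22625 L260096 q21511, e3 q22626 (flp_a L260108) q21513, e3 q22627 (flp_a L262573) q22862, e3 q22628 L260128 q22614, e3 q22629 L260140 q21515, e3 q22630 L260146 q22616, e3 q22631 L260154 q22617, e3 q22632 L260168 q22035, e3 q22633 (flp_a L260176) q21521, e3 q22634 L260190 q22516, e3 q22635 L260204 q21536, e3 q22636 L260212 q21537, e3 q22637 (flp_a L260229) q22638, e3 q22638 L260229 q22637, e3 q22639 (flp_a L260954) q22709, e3 q22640 (flp_a L261000) q22713, e3 q22641 L260252 q22569, e3 q22642 L260262 q21933, e3 q22643 L260274 q21900, e3 q22644 L260286 q22436, e3 q22645 L260294 q22437, e3 q22646 L260305 q21569, e3 q22647 L260315 q21570, e3 q22648 L260339 q21983, e3 q22649 L260343 q21578, e3 q22650 L260353 q21579, e3 q22651 L260363 q21728, e3 q22652 (flp_a L260629) q22680, e3 q22653 L262589 q22864, e3 q22654 L260382 q21586, e3 q22655 L260394 q21901, trivial⟩ (by decide +kernel)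

theorem ce_a_354 : ∀ r, r < 64 → sm ga (Qf (22656 + r)) = Qf (tab Gen.a (22656 + r)) :=
  edges_tab (sm ga) Qf (tab Gen.a) 22656 [(22656, 21587), (22657, 21753), (22658, 21590), (22659, 21597), (22660, 22660), (22661, 21702), (22662, 21929), (22663, 22866), (22664, 22867), (22665, 21612), (22666, 21613), (22667, 22686), (22668, 21616), (22669, 22754), (22670, 21620), (22671, 21729), (22672, 21666), (22673, 21667), (22674, 21626), (22675, 21731), (22676, 21634), (22677, 21636), (22678, 22380), (22679, 22679), (22680, 22652), (22681, 22742), (22682, 21644), (22683, 22870), (22684, 21647), (22685, 21707), (22686, 22667), (22687, 22345), (22688, 21709), (22689, 21714), (22690, 22488), (22691, 22692), (22692, 22691), (22693, 22567), (22694, 21859), (22695, 21812), (22696, 22449), (22697, 22450), (22698, 21695), (22699, 21697), (22700, 21945), (22701, 21704), (22702, 22871), (22703, 21706), (22704, 21813), (22705, 22705), (22706, 21854), (22707, 22863), (22708, 22868), (22709, 22639), (22710, 22758), (22711, 21734),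 (22712, 21738), (22713, 22640), (22714, 22730), (22715, 21750), (22716, 22865), (22717, 22331), (22718, 22491), (22719, 22259)]
    ⟨e3 q22656 (flp_a L260402) q21587, e3 q22657 L260410 q21753, e3 q22658 L260418 q21590, e3 q22659 (flp_a L260428) q21597, e3 q22660 L260442 q22660, e3 q22661 (flp_a L260452) q21702, e3 q22662 L260456 q21929, e3 q22663 L262605 q22866, e3 q22664 L262617 q22867, e3 q22665 (flp_a L260478) q21612, e3 q22666 (flp_a L260488) q21613, e3 q22667 (flp_a L260693) q22686, e3 q22668 L260512 q21616, e3 q22669 (flp_a L261430) q22754, e3 q22670 L260530 q21620, e3 q22671 L260544 q21729, e3 q22672 L260550 q21666, e3 q22673 L260558 q21667, e3 q22674 L260563 q21626, e3 q22675 L260567 q21731, e3 q22676 L260579 q21634, e3 q22677 L260592 q21636, e3 q22678 L260612 q22380, e3 q22679 L260626 q22679, e3 q22680 L260629 q22652, e3 q22681 (flp_a L261320) q22742, e3 q22682 (flp_a L260651) q21644, e3 q22683 L262652 q22870, e3 q22684 (flp_a L260667) q21647, e3 q22685 L260681 q21707, e3 q22686 L260693 q22667, e3 q22687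 L260707 q22345, e3 q22688 L260715 q21709, e3 q22689 L260727 q21714, e3 q22690 L260741 q22488, e3 q22691 (flp_a L260763) q22692, e3 q22692 L260763 q22691, e3 q22693 L260775 q22567, e3 q22694 L260785 q21859, e3 q22695 L260797 q21812, e3 q22696 L260811 q22449, e3 q22697 L260819 q22450, e3 q22698 L260830 q21695, e3 q22699 L260842 q21697, e3 q22700 L260866 q21945, e3 q22701 L260870 q21704, e3 q22702 (flp_a L262666) q22871, e3 q22703 L260886 q21706, e3 q22704 L260898 q21813, e3 q22705 L260908 q22705, e3 q22706 L260918 q21854, e3 q22707 (flp_a L262587) q22863, e3 q22708 (flp_a L262635) q22868, e3 q22709 L260954 q22639, e3 q22710 (flp_a L261472) q22758, e3 q22711 L260974 q21734, e3 q22712 L260986 q21738, e3 q22713 L261000 q22640, e3 q22714 (flp_a L261196) q22730, e3 q22715 (flp_a L261024) q21750, e3 q22716 (flp_a L262597) q22865, e3 q22717 L261046 q22331, e3 q22718 L261062 q22491, e3 q22719 L261066 q22259, trivial⟩ (by decide +kernel)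

theorem ce_a_355 : ∀ r, r < 64 → sm ga (Qf (22720 + r)) = Qf (tab Gen.a (22720 + r)) :=
  edges_tab (sm ga) Qf (tab Gen.a) 22720 [(22720, 22796), (22721, 22077), (22722, 22821), (22723, 22324), (22724, 22242), (22725, 22090), (22726, 22431), (22727, 21985), (22728, 22499), (22729, 21810), (22730, 22714), (22731, 22321), (22732, 22732), (22733, 22825), (22734, 22744), (22735, 21899), (22736, 22517), (22737, 22797), (22738, 22818), (22739, 22412), (22740, 21947), (22741, 22524), (22742, 22681), (22743, 22824), (22744, 22734), (22745, 22784), (22746, 22166), (22747, 22157), (22748, 22785), (22749, 22816), (22750, 22812), (22751, 22584), (22752, 22853), (22753, 22081), (22754, 22669), (22755, 22597), (22756, 22851), (22757, 22094), (22758, 22710), (22759, 22533), (22760, 22097), (22761, 22847), (22762, 22779), (22763, 22102), (22764, 22874), (22765, 22329), (22766, 22780), (22767, 22106), (22768, 22118), (22769, 22110), (22770, 22836), (22771, 22511), (22772, 22114), (22773, 22845), (22774, 22115), (22775, 22343),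 (22776, 22875), (22777, 22121), (22778, 22843), (22779, 22762), (22780, 22766), (22781, 22781), (22782, 22782), (22783, 22783)]
    ⟨e3 q22720 (flp_a L261860) q22796, e3 q22721 L261082 q22077, e3 q22722 (flp_a L262103) q22821, e3 q22723 L261106 q22324, e3 q22724 L261118 q22242, e3 q22725 L261140 q22090, e3 q22726 L261154 q22431, e3 q22727 L261158 q21985, e3 q22728 L261180 q22499, e3 q22729 L261184 q21810, e3 q22730 L261196 q22714, e3 q22731 L261208 q22321, e3 q22732 L261221 q22732, e3 q22733 (flp_a L262153) q22825, e3 q22734 L261350 q22744, e3 q22735 L261246 q21899, e3 q22736 L261258 q22517, e3 q22737 (flp_a L261872) q22797, e3 q22738 (flp_a L262075) q22818, e3 q22739 L261290 q22412, e3 q22740 L261294 q21947, e3 q22741 L261316 q22524, e3 q22742 L261320 q22681, e3 q22743 (flp_a L262141) q22824, e3 q22744 (flp_a L261350) q22734, e3 q22745 (flp_a L261722) q22784, e3 q22746 L261364 q22166, e3 q22747 L261372 q22157, e3 q22748 (flp_a L261736) q22785, e3 q22749 (flp_a L262063) q22816, e3 q22750 (flp_a L262031) q22812,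 e3 q22751 L261400 q22584, e3 q22752 (flp_a L262463) q22853, e3 q22753 (flp_a L261416) q22081, e3 q22754 L261430 q22669, e3 q22755 L261442 q22597, e3 q22756 (flp_a L262437) q22851, e3 q22757 (flp_a L261458) q22094, e3 q22758 L261472 q22710, e3 q22759 L261493 q22533, e3 q22760 (flp_a L261495) q22097, e3 q22761 (flp_a L262379) q22847, e3 q22762 (flp_a L261674) q22779, e3 q22763 (flp_a L261514) q22102, e3 q22764 (flp_a L262716) q22874, e3 q22765 L261538 q22329, e3 q22766 (flp_a L261688) q22780, e3 q22767 L261558 q22106, e3 q22768 L261566 q22118, e3 q22769 (flp_a L261572) q22110, e3 q22770 (flp_a L262255) q22836, e3 q22771 L261598 q22511, e3 q22772 (flp_a L261600) q22114, e3 q22773 (flp_a L262355) q22845, e3 q22774 (flp_a L261611) q22115, e3 q22775 L261625 q22343, e3 q22776 (flp_a L262720) q22875, e3 q22777 (flp_a L261647) q22121, e3 q22778 (flp_a L262337) q22843, e3 q22779 L261674 q22762, e3 q22780 L261688 q22766, e3 q22781 L261692 q22781, e3 q22782 L261698 q22782, e3 q22783 L261706 q22783, trivial⟩ (by decide +kernel)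

theorem ce_a_356 : ∀ r, r < 64 → sm ga (Qf (22784 + r)) = Qf (tab Gen.a (22784 + r)) :=
  edges_tab (sm ga) Qf (tab Gen.a) 22784 [(22784, 22745), (22785, 22748), (22786, 22206), (22787, 22215), (22788, 22791), (22789, 22221), (22790, 22229), (22791, 22788), (22792, 22592), (22793, 22579), (22794, 22556), (22795, 22558), (22796, 22720), (22797, 22737), (22798, 22798), (22799, 22799), (22800, 22800), (22801, 22801), (22802, 22802), (22803, 22829), (22804, 22828), (22805, 22309), (22806, 22878), (22807, 22807), (22808, 22311), (22809, 22375), (22810, 22377), (22811, 22811), (22812, 22750), (22813, 22813), (22814, 22814), (22815, 22823), (22816, 22749), (22817, 22820), (22818, 22738), (22819, 22873), (22820, 22817), (22821, 22722), (22822, 22872), (22823, 22815), (22824, 22743), (22825, 22733), (22826, 22826), (22827, 22827), (22828, 22804), (22829, 22803), (22830, 22830), (22831, 22854), (22832, 22393), (22833, 22398), (22834, 22852), (22835, 22838), (22836, 22770), (22837, 22416), (22838, 22835), (22839, 22422),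 (22840, 22844), (22841, 22842), (22842, 22841), (22843, 22778), (22844, 22840), (22845, 22773), (22846, 22856), (22847, 22761)]
    ⟨e3 q22784 L261722 q22745, e3 q22785 L261736 q22748, e3 q22786 L261740 q22206, e3 q22787 L261753 q22215, e3 q22788 (flp_a L261804) q22791, e3 q22789 L261777 q22221, e3 q22790 L261790 q22229, e3 q22791 L261804 q22788, e3 q22792 L261816 q22592, e3 q22793 L261826 q22579, e3 q22794 L261843 q22556, e3 q22795 L261854 q22558, e3 q22796 L261860 q22720, e3 q22797 L261872 q22737, e3 q22798 L261890 q22798, e3 q22799 L261898 q22799, e3 q22800 L261909 q22800, e3 q22801 L261919 q22801, e3 q22802 L261932 q22802, e3 q22803 (flp_a L262181) q22829, e3 q22804 (flp_a L262171) q22828, e3 q22805 (flp_a L261951) q22309, e3 q22806 (flp_a L262758) q22878, e3 q22807 L261977 q22807, e3 q22808 L261981 q22311, e3 q22809 L261990 q22375, e3 q22810 L262004 q22377, e3 q22811 L262024 q22811, e3 q22812 L262031 q22750, e3 q22813 L262035 q22813, e3 q22814 L262041 q22814, e3 q22815 (flp_a L262123) q22823, e3 q22816 L262063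 q22749, e3 q22817 (flp_a L262093) q22820, e3 q22818 L262075 q22738, e3 q22819 (flp_a L262692) q22873, e3 q22820 L262093 q22817, e3 q22821 L262103 q22722, e3 q22822 (flp_a L262680) q22872, e3 q22823 L262123 q22815, e3 q22824 L262141 q22743, e3 q22825 L262153 q22733, e3 q22826 L262159 q22826, e3 q22827 L262168 q22827, e3 q22828 L262171 q22804, e3 q22829 L262181 q22803, e3 q22830 L262198 q22830, e3 q22831 (flp_a L262477) q22854, e3 q22832 (flp_a L262207) q22393, e3 q22833 L262223 q22398, e3 q22834 (flp_a L262451) q22852, e3 q22835 (flp_a L262275) q22838, e3 q22836 L262255 q22770, e3 q22837 L262261 q22416, e3 q22838 L262275 q22835, e3 q22839 L262289 q22422, e3 q22840 (flp_a L262351) q22844, e3 q22841 (flp_a L262323) q22842, e3 q22842 L262323 q22841, e3 q22843 L262337 q22778, e3 q22844 L262351 q22840, e3 q22845 L262355 q22773, e3 q22846 (flp_a L262495) q22856, e3 q22847 L262379 q22761, trivial⟩ (by decide +kernel)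

theorem ce_a_357 : ∀ r, r < 32 → sm ga (Qf (22848 + r)) = Qf (tab Gen.a (22848 + r)) :=
  edges_tab (sm ga) Qf (tab Gen.a) 22848 [(22848, 22855), (22849, 22496), (22850, 22521), (22851, 22756), (22852, 22834), (22853, 22752), (22854, 22831), (22855, 22848), (22856, 22846), (22857, 22574), (22858, 22577), (22859, 22589), (22860, 22602), (22861, 22613), (22862, 22627), (22863, 22707), (22864, 22653), (22865, 22716), (22866, 22663), (22867, 22664), (22868, 22708), (22869, 22869), (22870, 22683), (22871, 22702), (22872, 22822), (22873, 22819), (22874, 22764), (22875, 22776), (22876, 22876), (22877, 22879), (22878, 22806), (22879, 22877)]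
    ⟨e3 q22848 (flp_a L262481) q22855, e3 q22849 (flp_a L262401) q22496, e3 q22850 (flp_a L262413) q22521, e3 q22851 L262437 q22756, e3 q22852 L262451 q22834, e3 q22853 L262463 q22752, e3 q22854 L262477 q22831, e3 q22855 L262481 q22848, e3 q22856 L262495 q22846, e3 q22857 L262509 q22574, e3 q22858 L262522 q22577, e3 q22859 L262535 q22589, e3 q22860 L262547 q22602, e3 q22861 L262561 q22613, e3 q22862 L262573 q22627, e3 q22863 L262587 q22707, e3 q22864 (flp_a L262589) q22653, e3 q22865 L262597 q22716, e3 q22866 (flp_a L262605) q22663, e3 q22867 (flp_a L262617) q22664, e3 q22868 L262635 q22708, e3 q22869 L262651 q22869, e3 q22870 (flp_a L262652) q22683, e3 q22871 L262666 q22702, e3 q22872 L262680 q22822, e3 q22873 L262692 q22819, e3 q22874 L262716 q22764, e3 q22875 L262720 q22776, e3 q22876 L262734 q22876, e3 q22877 (flp_a L262779) q22879, e3 q22878 L262758 q22806, e3 q22879 L262779 q22877, trivial⟩ (by decide +kernel)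

theorem cl_a : ∀ i, i < 22880 → sm ga (Qf i) = Qf (tab Gen.a i) :=
  all_of_chunks (fun i => sm ga (Qf i) = Qf (tab Gen.a i)) 357 32
    ⟨ce_a_0, ce_a_1, ce_a_2, ce_a_3, ce_a_4, ce_a_5, ce_a_6, ce_a_7, ce_a_8, ce_a_9, ce_a_10, ce_a_11, ce_a_12, ce_a_13, ce_a_14, ce_a_15, ce_a_16, ce_a_17, ce_a_18, ce_a_19, ce_a_20, ce_a_21, ce_a_22, ce_a_23, ce_a_24, ce_a_25, ce_a_26, ce_a_27, ce_a_28, ce_a_29, ce_a_30, ce_a_31, ce_a_32, ce_a_33, ce_a_34, ce_a_35, ce_a_36, ce_a_37, ce_a_38, ce_a_39, ce_a_40, ce_a_41, ce_a_42, ce_a_43, ce_a_44, ce_a_45, ce_a_46, ce_a_47, ce_a_48, ce_a_49, ce_a_50, ce_a_51, ce_a_52, ce_a_53, ce_a_54, ce_a_55, ce_a_56, ce_a_57, ce_a_58, ce_a_59, ce_a_60, ce_a_61, ce_a_62, ce_a_63, ce_a_64, ce_a_65, ce_a_66, ce_a_67, ce_a_68, ce_a_69, ce_a_70, ce_a_71, ce_a_72, ce_a_73, ce_a_74, ce_a_75, ce_a_76, ce_a_77, ce_a_78, ce_a_79, ce_a_80, ce_a_81, ce_a_82, ce_a_83, ce_a_84, ce_a_85, ce_a_86, ce_a_87, ce_a_88, ce_a_89, ce_a_90, ce_a_91, ce_a_92, ce_a_93, ce_a_94, ce_a_95, ce_a_96, ce_a_97, ce_a_98, ce_a_99,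 ce_a_100, ce_a_101, ce_a_102, ce_a_103, ce_a_104, ce_a_105, ce_a_106, ce_a_107, ce_a_108, ce_a_109, ce_a_110, ce_a_111, ce_a_112, ce_a_113, ce_a_114, ce_a_115, ce_a_116, ce_a_117, ce_a_118, ce_a_119, ce_a_120, ce_a_121, ce_a_122, ce_a_123, ce_a_124, ce_a_125, ce_a_126, ce_a_127, ce_a_128, ce_a_129, ce_a_130, ce_a_131, ce_a_132, ce_a_133, ce_a_134, ce_a_135, ce_a_136, ce_a_137, ce_a_138, ce_a_139, ce_a_140, ce_a_141, ce_a_142, ce_a_143, ce_a_144, ce_a_145, ce_a_146, ce_a_147, ce_a_148, ce_a_149, ce_a_150, ce_a_151, ce_a_152, ce_a_153, ce_a_154, ce_a_155, ce_a_156, ce_a_157, ce_a_158, ce_a_159, ce_a_160, ce_a_161, ce_a_162, ce_a_163, ce_a_164, ce_a_165, ce_a_166, ce_a_167, ce_a_168, ce_a_169, ce_a_170, ce_a_171, ce_a_172, ce_a_173, ce_a_174, ce_a_175, ce_a_176, ce_a_177, ce_a_178, ce_a_179, ce_a_180, ce_a_181, ce_a_182, ce_a_183, ce_a_184, ce_a_185, ce_a_186, ce_a_187, ce_a_188, ce_a_189, ce_a_190, ce_a_191, ce_a_192, ce_a_193, ce_a_194, ce_a_195, ce_a_196, ce_a_197, ce_a_198, ce_a_199, ce_a_200, ce_a_201, ce_a_202,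 ce_a_203, ce_a_204, ce_a_205, ce_a_206, ce_a_207, ce_a_208, ce_a_209, ce_a_210, ce_a_211, ce_a_212, ce_a_213, ce_a_214, ce_a_215, ce_a_216, ce_a_217, ce_a_218, ce_a_219, ce_a_220, ce_a_221, ce_a_222, ce_a_223, ce_a_224, ce_a_225, ce_a_226, ce_a_227, ce_a_228, ce_a_229, ce_a_230, ce_a_231, ce_a_232, ce_a_233, ce_a_234, ce_a_235, ce_a_236, ce_a_237, ce_a_238, ce_a_239, ce_a_240, ce_a_241, ce_a_242, ce_a_243, ce_a_244, ce_a_245, ce_a_246, ce_a_247, ce_a_248, ce_a_249, ce_a_250, ce_a_251, ce_a_252, ce_a_253, ce_a_254, ce_a_255, ce_a_256, ce_a_257, ce_a_258, ce_a_259, ce_a_260, ce_a_261, ce_a_262, ce_a_263, ce_a_264, ce_a_265, ce_a_266, ce_a_267, ce_a_268, ce_a_269, ce_a_270, ce_a_271, ce_a_272, ce_a_273, ce_a_274, ce_a_275, ce_a_276, ce_a_277, ce_a_278, ce_a_279, ce_a_280, ce_a_281, ce_a_282, ce_a_283, ce_a_284, ce_a_285, ce_a_286, ce_a_287, ce_a_288, ce_a_289, ce_a_290, ce_a_291, ce_a_292, ce_a_293, ce_a_294, ce_a_295, ce_a_296, ce_a_297, ce_a_298, ce_a_299, ce_a_300, ce_a_301, ce_a_302, ce_a_303, ce_a_304, ce_a_305,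 ce_a_306, ce_a_307, ce_a_308, ce_a_309, ce_a_310, ce_a_311, ce_a_312, ce_a_313, ce_a_314, ce_a_315, ce_a_316, ce_a_317, ce_a_318, ce_a_319, ce_a_320, ce_a_321, ce_a_322, ce_a_323, ce_a_324, ce_a_325, ce_a_326, ce_a_327, ce_a_328, ce_a_329, ce_a_330, ce_a_331, ce_a_332, ce_a_333, ce_a_334, ce_a_335, ce_a_336, ce_a_337, ce_a_338, ce_a_339, ce_a_340, ce_a_341, ce_a_342, ce_a_343, ce_a_344, ce_a_345, ce_a_346, ce_a_347, ce_a_348, ce_a_349, ce_a_350, ce_a_351, ce_a_352, ce_a_353, ce_a_354, ce_a_355, ce_a_356, trivial⟩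
    ce_a_357


end Cfsg.Agent.Helper28.SzbA
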