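import Cfsg.Agent.Helper28.SzbC0

/-!
# The Suzuki group presentation, cosets of the subgroup generated by a, b, c, d, f, g: the action of the generator b (helper28; generated)
-/

set_option autoImplicit false
set_option maxRecDepth 100000
set_option linter.unusedSimpArgs false
set_option linter.constructorNameAsVariable false

noncomputable section

namespace Cfsg.Agent.Helper28.SzbA

open Cfsg.Spor Cfsg.Spor.Suz Cfsg.Agent.Helper28.CosetTable

theorem ce_b_0 : ∀ r, r < 64 → sm gb (Qf (0 + r)) = Qf (tab Gen.b (0 + r)) :=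
  edges_tab (sm gb) Qf (tab Gen.b) 0 [(0, 0), (1, 1), (2, 2), (3, 4), (4, 3), (5, 7), (6, 11), (7, 5), (8, 8), (9, 9), (10, 16), (11, 6), (12, 22), (13, 29), (14, 30), (15, 15), (16, 10), (17, 17), (18, 18), (19, 39), (20, 40), (21, 21), (22, 12), (23, 48), (24, 50), (25, 52), (26, 45), (27, 59), (28, 60), (29, 13), (30, 14), (31, 31), (32, 32), (33, 73), (34, 75), (35, 35), (36, 36), (37, 79), (38, 80), (39, 19), (40, 20), (41, 41), (42, 91), (43, 92), (44, 93), (45, 26), (46, 100), (47, 102), (48, 23), (49, 105), (50, 24), (51, 107), (52, 25), (53, 109), (54, 110), (55, 119), (56, 120), (57, 121), (58, 122), (59, 27), (60, 28), (61, 129), (62, 62), (63, 86)]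
    ⟨e3 q0 L1 q0, e3 q1 L9 q1, e3 q2 L16 q2, e3 q3 L26 q4, e3 q4 (flp_b L26) q3, e3 q5 (flp_b L42) q7, e3 q6 L61 q11, e3 q7 L42 q5, e3 q8 L48 q8, e3 q9 L53 q9, e3 q10 (flp_b L85) q16, e3 q11 (flp_b L61) q6, e3 q12 (flp_b L122) q22, e3 q13 L151 q29, e3 q14 L154 q30, e3 q15 L82 q15, e3 q16 L85 q10, e3 q17 L92 q17, e3 q18 L97 q18, e3 q19 L199 q39, e3 q20 L203 q40, e3 q21 L115 q21, e3 q22 L122 q12, e3 q23 L255 q48, e3 q24 L265 q50, e3 q25 L277 q52, e3 q26 (flp_b L244) q45, e3 q27 L317 q59, e3 q28 L321 q60, e3 q29 (flp_b L151) q13, e3 q30 (flp_b L154) q14, e3 q31 L159 q31, e3 q32 L162 q32, e3 q33 L377 q73, e3 q34 L387 q75, e3 q35 L178 q35, e3 q36 L184 q36, e3 q37 L415 q79, e3 q38 L420 q80, e3 q39 (flp_b L199) q19, e3 q40 (flp_b L203) q20, e3 q41 L216 q41, e3 q42 L497 q91, e3 q43 L502 q92, e3 q44 L544 q93, e3 q45 L244 q26, e3 q46 L572 q100, e3 q47 L584 q102, e3 q48 (flp_b L255) q23, e3 q49 L601 q105, e3 q50 (flp_b L265) q24, e3 q51 L625 q107, e3 q52 (flp_b L277) q25, e3 q53 (flp_b L640) q109, e3 q54 (flp_b L645) q110,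 e3 q55 L693 q119, e3 q56 L695 q120, e3 q57 L697 q121, e3 q58 L702 q122, e3 q59 (flp_b L317) q27, e3 q60 (flp_b L321) q28, e3 q61 L727 q129, e3 q62 L331 q62, e3 q63 (flp_b L451) q86, trivial⟩ (by decide +kernel)

theorem ce_b_1 : ∀ r, r < 64 → sm gb (Qf (64 + r)) = Qf (tab Gen.b (64 + r)) :=
  edges_tab (sm gb) Qf (tab Gen.b) 64 [(64, 132), (65, 65), (66, 83), (67, 67), (68, 138), (69, 140), (70, 70), (71, 145), (72, 147), (73, 33), (74, 150), (75, 34), (76, 152), (77, 153), (78, 154), (79, 37), (80, 38), (81, 131), (82, 82), (83, 66), (84, 134), (85, 85), (86, 63), (87, 167), (88, 88), (89, 174), (90, 175), (91, 42), (92, 43), (93, 44), (94, 177), (95, 178), (96, 187), (97, 189), (98, 191), (99, 193), (100, 46), (101, 197), (102, 47), (103, 200), (104, 106), (105, 49), (106, 104), (107, 51), (108, 201), (109, 53), (110, 54), (111, 212), (112, 214), (113, 206), (114, 219), (115, 220), (116, 209), (117, 224), (118, 225), (119, 55), (120, 56), (121, 57), (122, 58), (123, 238), (124, 227), (125, 160), (126, 243), (127,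 230)]
    ⟨e3 q64 L753 q132, e3 q65 L347 q65, e3 q66 (flp_b L437) q83, e3 q67 L353 q67, e3 q68 L795 q138, e3 q69 L806 q140, e3 q70 L364 q70, e3 q71 L831 q145, e3 q72 L845 q147, e3 q73 (flp_b L377) q33, e3 q74 L868 q150, e3 q75 (flp_b L387) q34, e3 q76 L877 q152, e3 q77 L879 q153, e3 q78 L885 q154, e3 q79 (flp_b L415) q37, e3 q80 (flp_b L420) q38, e3 q81 (flp_b L937) q131, e3 q82 L433 q82, e3 q83 L437 q66, e3 q84 (flp_b L65336) q134, e3 q85 L447 q85, e3 q86 L451 q63, e3 q87 L1022 q167, e3 q88 L483 q88, e3 q89 L1061 q174, e3 q90 L1067 q175, e3 q91 (flp_b L497) q42, e3 q92 (flp_b L502) q43, e3 q93 (flp_b L544) q44, e3 q94 (flp_b L1170) q177, e3 q95 (flp_b L1174) q178, e3 q96 L1216 q187, e3 q97 L1224 q189, e3 q98 L1234 q191, e3 q99 L1248 q193, e3 q100 (flp_b L572) q46, e3 q101 L1272 q197, e3 q102 (flp_b L584) q47, e3 q103 L1299 q200, e3 q104 (flp_b L617) q106, e3 q105 (flp_b L601) q49, e3 q106 L617 q104, e3 q107 (flp_b L625) q51, e3 q108 L1331 q201, e3 q109 L640 q53, e3 q110 L645 q54, e3 q111 L1378 q212, e3 q112 L1386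 q214, e3 q113 (flp_b L1353) q206, e3 q114 L1418 q219, e3 q115 L1422 q220, e3 q116 (flp_b L1368) q209, e3 q117 L1444 q224, e3 q118 L1448 q225, e3 q119 (flp_b L693) q55, e3 q120 (flp_b L695) q56, e3 q121 (flp_b L697) q57, e3 q122 (flp_b L702) q58, e3 q123 L1496 q238, e3 q124 (flp_b L1456) q227, e3 q125 (flp_b L917) q160, e3 q126 L1524 q243, e3 q127 (flp_b L1464) q230, trivial⟩ (by decide +kernel)

theorem ce_b_2 : ∀ r, r < 64 → sm gb (Qf (128 + r)) = Qf (tab Gen.b (128 + r)) :=
  edges_tab (sm gb) Qf (tab Gen.b) 128 [(128, 157), (129, 61), (130, 130), (131, 81), (132, 64), (133, 133), (134, 84), (135, 135), (136, 255), (137, 257), (138, 68), (139, 260), (140, 69), (141, 262), (142, 263), (143, 266), (144, 268), (145, 71), (146, 271), (147, 72), (148, 273), (149, 274), (150, 74), (151, 277), (152, 76), (153, 77), (154, 78), (155, 242), (156, 276), (157, 128), (158, 247), (159, 279), (160, 125), (161, 166), (162, 165), (163, 164), (164, 163), (165, 162), (166, 161), (167, 87), (168, 294), (169, 295), (170, 170), (171,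 171), (172, 302), (173, 303), (174, 89), (175, 90), (176, 176), (177, 94), (178, 95), (179, 314), (180, 316), (181, 308), (182, 321), (183, 323), (184, 311), (185, 328), (186, 330), (187, 96), (188, 335), (189, 97), (190, 339), (191, 98)]
    ⟨e3 q128 (flp_b L903) q157, e3 q129 (flp_b L727) q61, e3 q130 L741 q130, e3 q131 L937 q81, e3 q132 (flp_b L753) q64, e3 q133 L769 q133, e3 q134 L65336 q84, e3 q135 L784 q135, e3 q136 L1611 q255, e3 q137 L1622 q257, e3 q138 (flp_b L795) q68, e3 q139 L1649 q260, e3 q140 (flp_b L806) q69, e3 q141 L1665 q262, e3 q142 L1669 q263, e3 q143 L1680 q266, e3 q144 L1691 q268, e3 q145 (flp_b L831) q71, e3 q146 L1715 q271, e3 q147 (flp_b L845) q72, e3 q148 L1730 q273, e3 q149 L1743 q274, e3 q150 (flp_b L868) q74, e3 q151 L1766 q277, e3 q152 (flp_b L877) q76, e3 q153 (flp_b L879) q77, e3 q154 (flp_b L885) q78, e3 q155 L1522 q242, e3 q156 (flp_b L1751) q276, e3 q157 L903 q128, e3 q158 L1550 q247, e3 q159 (flp_b L1774) q279, e3 q160 L917 q125, e3 q161 L975 q166, e3 q162 (flp_b L964) q165, e3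 q163 L61824 q164, e3 q164 (flp_b L61824) q163, e3 q165 L964 q162, e3 q166 (flp_b L975) q161, e3 q167 (flp_b L1022) q87, e3 q168 (flp_b L2048) q294, e3 q169 (flp_b L2052) q295, e3 q170 L67196 q170, e3 q171 L79086 q171, e3 q172 L2101 q302, e3 q173 L2108 q303, e3 q174 (flp_b L1061) q89, e3 q175 (flp_b L1067) q90, e3 q176 L58509 q176, e3 q177 L1170 q94, e3 q178 L1174 q95, e3 q179 L2310 q314, e3 q180 L2320 q316, e3 q181 (flp_b L2284) q308, e3 q182 L2370 q321, e3 q183 L2380 q323, e3 q184 (flp_b L2296) q311, e3 q185 L2402 q328, e3 q186 L2414 q330, e3 q187 (flp_b L1216) q96, e3 q188 L2436 q335, e3 q189 (flp_b L1224) q97, e3 q190 L2446 q339, e3 q191 (flp_b L1234) q98, trivial⟩ (by decide +kernel)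

theorem ce_b_3 : ∀ r, r < 64 → sm gb (Qf (192 + r)) = Qf (tab Gen.b (192 + r)) :=
  edges_tab (sm gb) Qf (tab Gen.b) 192 [(192, 342), (193, 99), (194, 345), (195, 333), (196, 199), (197, 101), (198, 337), (199, 196), (200, 103), (201, 108), (202, 352), (203, 353), (204, 204), (205, 205), (206, 113), (207, 363), (208, 365), (209, 116), (210, 370), (211, 372), (212, 111), (213, 375), (214, 112), (215, 377), (216, 360), (217, 381), (218, 382), (219, 114), (220, 115), (221, 389), (222, 392), (223, 393), (224, 117), (225, 118), (226, 226), (227, 124), (228, 231), (229, 229), (230, 127), (231, 228), (232, 408), (233, 395), (234, 285), (235, 413), (236, 398), (237, 282), (238, 123), (239, 239), (240, 402), (241, 421), (242, 155), (243, 126), (244, 244), (245, 406), (246, 426), (247, 158), (248, 428), (249, 249), (250, 431), (251, 251), (252, 434), (253, 438), (254, 440), (255, 136)]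
    ⟨e3 q192 L2459 q342, e3 q193 (flp_b L1248) q99, e3 q194 L2491 q345, e3 q195 (flp_b L2432) q333, e3 q196 (flp_b L1297) q199, e3 q197 (flp_b L1272) q101, e3 q198 (flp_b L2442) q337, e3 q199 L1297 q196, e3 q200 (flp_b L1299) q103, e3 q201 (flp_b L1331) q108, e3 q202 (flp_b L2573) q352, e3 q203 (flp_b L2578) q353, e3 q204 L49030 q204, e3 q205 L74921 q205, e3 q206 L1353 q113, e3 q207 L2641 q363, e3 q208 L2654 q365, e3 q209 L1368 q116, e3 q210 L2679 q370, e3 q211 L2691 q372, e3 q212 (flp_b L1378) q111, e3 q213 L2715 q375, e3 q214 (flp_b L1386) q112, e3 q215 L2727 q377, e3 q216 (flp_b L2627) q360, e3 q217 L2751 q381, e3 q218 L2755 q382, e3 q219 (flp_b L1418) q114, e3 q220 (flp_b L1422) q115, e3 q221 L2783 q389, e3 q222 L2803 q392, e3 q223 L2807 q393, e3 q224 (flp_b L1444) q117, e3 q225 (flp_b L1448) q118, e3 q226 L59626 q226, e3 q227 L1456 q124, e3 q228 (flp_b L82370) q231, e3 q229 L82419 q229, e3 q230 L1464 q127, e3 q231 L82370 q228, e3 q232 L2891 q408, e3 q233 (flp_b L2819) q395, e3 q234 (flp_b L1814) q285, e3 q235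 L2925 q413, e3 q236 (flp_b L2833) q398, e3 q237 (flp_b L1796) q282, e3 q238 (flp_b L1496) q123, e3 q239 L65048 q239, e3 q240 (flp_b L2853) q402, e3 q241 L2977 q421, e3 q242 (flp_b L1522) q155, e3 q243 (flp_b L1524) q126, e3 q244 L73630 q244, e3 q245 (flp_b L2879) q406, e3 q246 L3007 q426, e3 q247 (flp_b L1550) q158, e3 q248 L3017 q428, e3 q249 L1562 q249, e3 q250 L3049 q431, e3 q251 L1576 q251, e3 q252 L3098 q434, e3 q253 L3118 q438, e3 q254 L3133 q440, e3 q255 (flp_b L1611) q136, trivial⟩ (by decide +kernel)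

theorem ce_b_4 : ∀ r, r < 64 → sm gb (Qf (256 + r)) = Qf (tab Gen.b (256 + r)) :=
  edges_tab (sm gb) Qf (tab Gen.b) 256 [(256, 443), (257, 137), (258, 445), (259, 384), (260, 139), (261, 387), (262, 141), (263, 142), (264, 451), (265, 453), (266, 143), (267, 457), (268, 144), (269, 460), (270, 461), (271, 146), (272, 464), (273, 148), (274, 149), (275, 468), (276, 156), (277, 151), (278, 472), (279, 159), (280, 412), (281, 463), (282, 237), (283, 417), (284, 466), (285, 234), (286, 470), (287, 290), (288, 484), (289, 474), (290, 287), (291, 486), (292, 487), (293, 488), (294, 168), (295, 169), (296, 490), (297, 297), (298, 298), (299, 491), (300, 300), (301, 301), (302, 172), (303, 173), (304, 304), (305, 305), (306, 504), (307, 505), (308, 181), (309, 509), (310, 511), (311, 184), (312, 516), (313, 518), (314, 179), (315, 523), (316, 180), (317, 527), (318, 506), (319, 531)]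
    ⟨e3 q256 L3164 q443, e3 q257 (flp_b L1622) q137, e3 q258 L3182 q445, e3 q259 (flp_b L2765) q384, e3 q260 (flp_b L1649) q139, e3 q261 (flp_b L2777) q387, e3 q262 (flp_b L1665) q141, e3 q263 (flp_b L1669) q142, e3 q264 L3281 q451, e3 q265 L3289 q453, e3 q266 (flp_b L1680) q143, e3 q267 L3313 q457, e3 q268 (flp_b L1691) q144, e3 q269 L3329 q460, e3 q270 L3346 q461, e3 q271 (flp_b L1715) q146, e3 q272 L3381 q464, e3 q273 (flp_b L1730) q148, e3 q274 (flp_b L1743) q149, e3 q275 L3426 q468, e3 q276 L1751 q156, e3 q277 (flp_b L1766) q151, e3 q278 L3475 q472, e3 q279 L1774 q159, e3 q280 L2923 q412, e3 q281 (flp_b L3360) q463, e3 q282 L1796 q237, e3 q283 L2957 q417, e3 q284 (flp_b L3395) q466, e3 q285 L1814 q234, e3 q286 L142562 q470, e3 q287 (flp_b L1849) q290, e3 q288 L3578 q484, e3 q289 (flp_b L140494) q474, e3 q290 L1849 q287, e3 q291 L3607 q486, e3 q292 L3632 q487, e3 q293 L3712 q488, e3 q294 L2048 q168, e3 q295 L2052 q169, e3 q296 (flp_b L3943) q490, e3 q297 L67069 q297, e3 q298 L78925 q298, e3 q299 (flp_b L3955)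 q491, e3 q300 L67218 q300, e3 q301 L79039 q301, e3 q302 (flp_b L2101) q172, e3 q303 (flp_b L2108) q173, e3 q304 L58500 q304, e3 q305 L70182 q305, e3 q306 L4387 q504, e3 q307 L4389 q505, e3 q308 L2284 q181, e3 q309 L4405 q509, e3 q310 L4417 q511, e3 q311 L2296 q184, e3 q312 L4443 q516, e3 q313 L4457 q518, e3 q314 (flp_b L2310) q179, e3 q315 L4485 q523, e3 q316 (flp_b L2320) q180, e3 q317 L4499 q527, e3 q318 (flp_b L4393) q506, e3 q319 L4563 q531, trivial⟩ (by decide +kernel)

theorem ce_b_5 : ∀ r, r < 64 → sm gb (Qf (320 + r)) = Qf (tab Gen.b (320 + r)) :=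
  edges_tab (sm gb) Qf (tab Gen.b) 320 [(320, 533), (321, 182), (322, 538), (323, 183), (324, 542), (325, 543), (326, 546), (327, 548), (328, 185), (329, 553), (330, 186), (331, 557), (332, 558), (333, 195), (334, 562), (335, 188), (336, 566), (337, 198), (338, 570), (339, 190), (340, 551), (341, 344), (342, 192), (343, 555), (344, 341), (345, 194), (346, 560), (347, 582), (348, 565), (349, 568), (350, 586), (351, 573), (352, 202), (353, 203), (354, 589), (355, 355), (356, 356), (357, 590), (358, 358), (359, 359), (360, 216), (361, 600), (362, 602), (363, 207), (364, 604), (365, 208), (366, 605), (367, 606), (368, 610), (369, 612), (370, 210), (371, 615), (372, 211), (373, 617), (374, 521), (375, 213), (376, 525), (377, 215), (378, 624), (379, 628), (380, 629), (381, 217), (382, 218), (383, 383)]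
    ⟨e3 q320 L4573 q533, e3 q321 (flp_b L2370) q182, e3 q322 L4595 q538, e3 q323 (flp_b L2380) q183, e3 q324 L4609 q542, e3 q325 L4613 q543, e3 q326 L4623 q546, e3 q327 L4633 q548, e3 q328 (flp_b L2402) q185, e3 q329 L4659 q553, e3 q330 (flp_b L2414) q186, e3 q331 L4677 q557, e3 q332 L4681 q558, e3 q333 L2432 q195, e3 q334 L4701 q562, e3 q335 (flp_b L2436) q188, e3 q336 L4721 q566, e3 q337 L2442 q198, e3 q338 L4741 q570, e3 q339 (flp_b L2446) q190, e3 q340 (flp_b L4653) q551, e3 q341 (flp_b L2489) q344, e3 q342 (flp_b L2459) q192, e3 q343 (flp_b L4671) q555, e3 q344 L2489 q341, e3 q345 (flp_b L2491) q194, e3 q346 (flp_b L4695) q560, e3 q347 L4821 q582, e3 q348 (flp_b L4715) q565, e3 q349 (flp_b L4735) q568, e3 q350 L4852 q586, e3 q351 (flp_b L4755) q573, e3 q352 L2573 q202, e3 q353 L2578 q203, e3 q354 (flp_b L4939) q589, e3 q355 L70309 q355, e3 q356 L81354 q356, e3 q357 (flp_b L4954) q590, e3 q358 L49042 q358, e3 q359 L74933 q359, e3 q360 L2627 q216, e3 q361 L5059 q600, e3 q362 L5072 q602, e3 q363 (flp_b L2641)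 q207, e3 q364 L5102 q604, e3 q365 (flp_b L2654) q208, e3 q366 L5121 q605, e3 q367 L5125 q606, e3 q368 L5139 q610, e3 q369 L5151 q612, e3 q370 (flp_b L2679) q210, e3 q371 L5181 q615, e3 q372 (flp_b L2691) q211, e3 q373 L5201 q617, e3 q374 (flp_b L4481) q521, e3 q375 (flp_b L2715) q213, e3 q376 (flp_b L4495) q525, e3 q377 (flp_b L2727) q215, e3 q378 L5263 q624, e3 q379 L5290 q628, e3 q380 L5296 q629, e3 q381 (flp_b L2751) q217, e3 q382 (flp_b L2755) q218, e3 q383 L69761 q383, trivial⟩ (by decide +kernel)

theorem ce_b_6 : ∀ r, r < 64 → sm gb (Qf (384 + r)) = Qf (tab Gen.b (384 + r)) :=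
  edges_tab (sm gb) Qf (tab Gen.b) 384 [(384, 259), (385, 388), (386, 386), (387, 261), (388, 385), (389, 221), (390, 641), (391, 642), (392, 222), (393, 223), (394, 394), (395, 233), (396, 399), (397, 397), (398, 236), (399, 396), (400, 657), (401, 622), (402, 240), (403, 662), (404, 663), (405, 619), (406, 245), (407, 668), (408, 232), (409, 409), (410, 651), (411, 673), (412, 280), (413, 235), (414, 414), (415, 655), (416, 679), (417, 283), (418, 418), (419, 660), (420, 683), (421, 241), (422, 687), (423, 423), (424, 666), (425, 690), (426, 246), (427, 694), (428, 248), (429, 695), (430, 696), (431, 250), (432, 700), (433, 701), (434, 252), (435, 706), (436, 711), (437, 713), (438, 253), (439, 717), (440, 254), (441, 720), (442, 631), (443, 256), (444, 634), (445, 258), (446, 723), (447, 724)]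
    ⟨e3 q384 L2765 q259, e3 q385 L82374 q388, e3 q386 L73145 q386, e3 q387 L2777 q261, e3 q388 (flp_b L82374) q385, e3 q389 (flp_b L2783) q221, e3 q390 L5406 q641, e3 q391 L5410 q642, e3 q392 (flp_b L2803) q222, e3 q393 (flp_b L2807) q223, e3 q394 L70851 q394, e3 q395 L2819 q233, e3 q396 (flp_b L82310) q399, e3 q397 L82294 q397, e3 q398 L2833 q236, e3 q399 L82310 q396, e3 q400 L5516 q657, e3 q401 L81280 q622, e3 q402 L2853 q240, e3 q403 L5543 q662, e3 q404 L5567 q663, e3 q405 L70553 q619, e3 q406 L2879 q245, e3 q407 L5593 q668, e3 q408 (flp_b L2891) q232, e3 q409 L58101 q409, e3 q410 (flp_b L5454) q651, e3 q411 L5633 q673, e3 q412 (flp_b L2923) q280, e3 q413 (flp_b L2925) q235, e3 q414 L82102 q414, e3 q415 (flp_b L5490) q655, e3 q416 L5673 q679, e3 q417 (flp_b L2957) q283, e3 q418 L65045 q418, e3 q419 (flp_b L5537) q660, e3 q420 L5717 q683, e3 q421 (flp_b L2977) q241, e3 q422 L5735 q687, e3 q423 L82156 q423, e3 q424 (flp_b L5587) q666, e3 q425 L5781 q690, e3 q426 (flp_b L3007) q246, e3 q427 L5797 q694, e3 q428 (flp_b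 L3017) q248, e3 q429 (flp_b L5810) q695, e3 q430 (flp_b L5814) q696, e3 q431 (flp_b L3049) q250, e3 q432 (flp_b L5852) q700, e3 q433 (flp_b L5856) q701, e3 q434 (flp_b L3098) q252, e3 q435 (flp_b L5946) q706, e3 q436 L5968 q711, e3 q437 L5980 q713, e3 q438 (flp_b L3118) q253, e3 q439 L6012 q717, e3 q440 (flp_b L3133) q254, e3 q441 L6036 q720, e3 q442 (flp_b L5310) q631, e3 q443 (flp_b L3164) q256, e3 q444 (flp_b L5324) q634, e3 q445 (flp_b L3182) q258, e3 q446 L6199 q723, e3 q447 L6288 q724, trivial⟩ (by decide +kernel)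

theorem ce_b_7 : ∀ r, r < 64 → sm gb (Qf (448 + r)) = Qf (tab Gen.b (448 + r)) :=
  edges_tab (sm gb) Qf (tab Gen.b) 448 [(448, 725), (449, 728), (450, 730), (451, 264), (452, 735), (453, 265), (454, 739), (455, 733), (456, 742), (457, 267), (458, 737), (459, 747), (460, 269), (461, 270), (462, 751), (463, 281), (464, 272), (465, 755), (466, 284), (467, 467), (468, 275), (469, 761), (470, 286), (471, 471), (472, 278), (473, 767), (474, 289), (475, 763), (476, 480), (477, 753), (478, 774), (479, 769), (480, 476), (481, 757), (482, 779), (483, 780), (484, 288), (485, 783), (486, 291), (487, 292), (488, 293), (489, 489), (490, 296), (491, 299), (492, 788), (493, 493), (494, 494), (495, 793), (496, 496), (497, 497), (498, 498), (499, 799), (500, 800), (501, 501), (502, 804), (503, 805), (504, 306), (505, 307), (506, 318), (507, 809), (508, 811), (509, 309), (510, 814), (511, 310)]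
    ⟨e3 q448 L6320 q725, e3 q449 L6332 q728, e3 q450 L6341 q730, e3 q451 (flp_b L3281) q264, e3 q452 L6360 q735, e3 q453 (flp_b L3289) q265, e3 q454 L6370 q739, e3 q455 (flp_b L6356) q733, e3 q456 L6398 q742, e3 q457 (flp_b L3313) q267, e3 q458 (flp_b L6366) q737, e3 q459 L6440 q747, e3 q460 (flp_b L3329) q269, e3 q461 (flp_b L3346) q270, e3 q462 L6497 q751, e3 q463 L3360 q281, e3 q464 (flp_b L3381) q272, e3 q465 L6572 q755, e3 q466 L3395 q284, e3 q467 L3423 q467, e3 q468 (flp_b L3426) q275, e3 q469 L6679 q761, e3 q470 (flp_b L142562) q286, e3 q471 L3472 q471, e3 q472 (flp_b L3475) q278, e3 q473 L6796 q767, e3 q474 L140494 q289, e3 q475 (flp_b L142547) q763, e3 q476 (flp_b L3542) q480, e3 q477 (flp_b L6517) q753, e3 q478 L6871 q774, e3 q479 (flp_b L140508) q769, e3 q480 L3542 q476, e3 q481 (flp_b L6592) q757, e3 q482 L6908 q779, e3 q483 L6938 q780, e3 q484 (flp_b L3578) q288, e3 q485 L6991 q783, e3 q486 (flp_b L3607) q291, e3 q487 (flp_b L3632) q292, e3 q488 (flp_b L3712) q293, e3 q489 L66611 q489, e3 q490 L3943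 q296, e3 q491 L3955 q299, e3 q492 (flp_b L7647) q788, e3 q493 L53369 q493, e3 q494 L76774 q494, e3 q495 L7799 q793, e3 q496 L53318 q496, e3 q497 L76719 q497, e3 q498 L66058 q498, e3 q499 L8533 q799, e3 q500 L8537 q800, e3 q501 L66078 q501, e3 q502 L8557 q804, e3 q503 L8561 q805, e3 q504 (flp_b L4387) q306, e3 q505 (flp_b L4389) q307, e3 q506 L4393 q318, e3 q507 L8603 q809, e3 q508 L8615 q811, e3 q509 (flp_b L4405) q309, e3 q510 L8645 q814, e3 q511 (flp_b L4417) q310, trivial⟩ (by decide +kernel)

theorem ce_b_8 : ∀ r, r < 64 → sm gb (Qf (512 + r)) = Qf (tab Gen.b (512 + r)) :=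
  edges_tab (sm gb) Qf (tab Gen.b) 512 [(512, 816), (513, 817), (514, 821), (515, 823), (516, 312), (517, 828), (518, 313), (519, 832), (520, 520), (521, 374), (522, 526), (523, 315), (524, 524), (525, 376), (526, 522), (527, 317), (528, 841), (529, 845), (530, 847), (531, 319), (532, 852), (533, 320), (534, 856), (535, 857), (536, 536), (537, 859), (538, 322), (539, 862), (540, 540), (541, 864), (542, 324), (543, 325), (544, 870), (545, 872), (546, 326), (547, 877), (548, 327), (549, 881), (550, 882), (551, 340), (552, 886), (553, 329), (554, 890), (555, 343), (556, 894), (557, 331), (558, 332), (559, 559), (560, 346), (561, 901), (562, 334), (563, 572), (564, 571), (565, 348), (566, 336), (567, 567), (568, 349), (569, 910), (570, 338), (571, 564), (572, 563), (573, 351), (574, 884), (575, 919)]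
    ⟨e3 q512 L8663 q816, e3 q513 L8667 q817, e3 q514 L8681 q821, e3 q515 L8693 q823, e3 q516 (flp_b L4443) q312, e3 q517 L8725 q828, e3 q518 (flp_b L4457) q313, e3 q519 L8747 q832, e3 q520 L64765 q520, e3 q521 L4481 q374, e3 q522 L81667 q526, e3 q523 (flp_b L4485) q315, e3 q524 L81752 q524, e3 q525 L4495 q376, e3 q526 (flp_b L81667) q522, e3 q527 (flp_b L4499) q317, e3 q528 L8929 q841, e3 q529 L8947 q845, e3 q530 L8961 q847, e3 q531 (flp_b L4563) q319, e3 q532 L8989 q852, e3 q533 (flp_b L4573) q320, e3 q534 L9005 q856, e3 q535 L9009 q857, e3 q536 L64718 q536, e3 q537 L9031 q859, e3 q538 (flp_b L4595) q322, e3 q539 L9057 q862, e3 q540 L60443 q540, e3 q541 L9079 q864, e3 q542 (flp_b L4609) q324, e3 q543 (flp_b L4613) q325, e3 q544 L9111 q870, e3 q545 L9119 q872, e3 q546 (flp_b L4623) q326, e3 q547 L9141 q877, e3 q548 (flp_b L4633) q327, e3 q549 L9155 q881, e3 q550 L9159 q882, e3 q551 L4653 q340, e3 q552 L9187 q886, e3 q553 (flp_b L4659) q329, e3 q554 L9217 q890, e3 q555 L4671 q343, e3 q556 L9245 q894, e3 q557 (flp_b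 L4677) q331, e3 q558 (flp_b L4681) q332, e3 q559 L64892 q559, e3 q560 L4695 q346, e3 q561 L9311 q901, e3 q562 (flp_b L4701) q334, e3 q563 L81552 q572, e3 q564 L64752 q571, e3 q565 L4715 q348, e3 q566 (flp_b L4721) q336, e3 q567 L82549 q567, e3 q568 L4735 q349, e3 q569 L9397 q910, e3 q570 (flp_b L4741) q338, e3 q571 (flp_b L64752) q564, e3 q572 (flp_b L81552) q563, e3 q573 L4755 q351, e3 q574 (flp_b L9179) q884, e3 q575 L9463 q919, trivial⟩ (by decide +kernel)

theorem ce_b_9 : ∀ r, r < 64 → sm gb (Qf (576 + r)) = Qf (tab Gen.b (576 + r)) :=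
  edges_tab (sm gb) Qf (tab Gen.b) 576 [(576, 889), (577, 892), (578, 924), (579, 897), (580, 899), (581, 927), (582, 347), (583, 906), (584, 908), (585, 932), (586, 350), (587, 915), (588, 588), (589, 354), (590, 357), (591, 938), (592, 592), (593, 593), (594, 943), (595, 595), (596, 596), (597, 947), (598, 951), (599, 953), (600, 361), (601, 955), (602, 362), (603, 956), (604, 364), (605, 366), (606, 367), (607, 962), (608, 969), (609, 971), (610, 368), (611, 974), (612, 369), (613, 976), (614, 826), (615, 371), (616, 830), (617, 373), (618, 834), (619, 405), (620, 836), (621, 838), (622, 401), (623, 840), (624, 378), (625, 986), (626, 991), (627, 992), (628, 379), (629, 380), (630, 630), (631, 442), (632, 635), (633, 633), (634, 444), (635, 632), (636, 959), (637, 957), (638, 1003), (639, 1006)]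
    ⟨e3 q576 (flp_b L9209) q889, e3 q577 (flp_b L9237) q892, e3 q578 L9500 q924, e3 q579 (flp_b L9267) q897, e3 q580 (flp_b L9305) q899, e3 q581 L9520 q927, e3 q582 (flp_b L4821) q347, e3 q583 (flp_b L9349) q906, e3 q584 (flp_b L9391) q908, e3 q585 L9583 q932, e3 q586 (flp_b L4852) q350, e3 q587 (flp_b L9435) q915, e3 q588 L4935 q588, e3 q589 L4939 q354, e3 q590 L4954 q357, e3 q591 (flp_b L9726) q938, e3 q592 L69956 q592, e3 q593 L81410 q593, e3 q594 L9865 q943, e3 q595 L70341 q595, e3 q596 L81352 q596, e3 q597 L9965 q947, e3 q598 L9985 q951, e3 q599 L10001 q953, e3 q600 (flp_b L5059) q361, e3 q601 L10036 q955, e3 q602 (flp_b L5072) q362, e3 q603 L10057 q956, e3 q604 (flp_b L5102) q364, e3 q605 (flp_b L5121) q366, e3 q606 (flp_b L5125) q367, e3 q607 (flp_b L10143) q962, e3 q608 L10169 q969, e3 q609 L10177 q971, e3 q610 (flp_b L5139) q368, e3 q611 L10201 q974, e3 q612 (flp_b L5151) q369, e3 q613 L10219 q976, e3 q614 (flp_b L8719) q826, e3 q615 (flp_b L5181) q371, e3 q616 (flp_b L8741) q830, e3 q617 (flp_b L5201)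 q373, e3 q618 (flp_b L8761) q834, e3 q619 (flp_b L70553) q405, e3 q620 (flp_b L8777) q836, e3 q621 (flp_b L8793) q838, e3 q622 (flp_b L81280) q401, e3 q623 (flp_b L8809) q840, e3 q624 (flp_b L5263) q378, e3 q625 (flp_b L10469) q986, e3 q626 L10499 q991, e3 q627 L10503 q992, e3 q628 (flp_b L5290) q379, e3 q629 (flp_b L5296) q380, e3 q630 L70780 q630, e3 q631 L5310 q442, e3 q632 L82361 q635, e3 q633 L82417 q633, e3 q634 L5324 q444, e3 q635 (flp_b L82361) q632, e3 q636 L81271 q959, e3 q637 L70532 q957, e3 q638 L10733 q1003, e3 q639 L10749 q1006, trivial⟩ (by decide +kernel)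

theorem ce_b_10 : ∀ r, r < 64 → sm gb (Qf (640 + r)) = Qf (tab Gen.b (640 + r)) :=
  edges_tab (sm gb) Qf (tab Gen.b) 640 [(640, 1008), (641, 390), (642, 391), (643, 643), (644, 1011), (645, 648), (646, 646), (647, 1014), (648, 645), (649, 1024), (650, 981), (651, 410), (652, 1030), (653, 1031), (654, 978), (655, 415), (656, 1037), (657, 400), (658, 697), (659, 684), (660, 419), (661, 1040), (662, 403), (663, 404), (664, 702), (665, 691), (666, 424), (667, 1044), (668, 407), (669, 669), (670, 1048), (671, 1028), (672, 1052), (673, 411), (674, 1056), (675, 675), (676, 1059), (677, 1035), (678, 1063), (679, 416), (680, 1067), (681, 681), (682, 1068), (683, 420), (684, 659), (685, 1072), (686, 762), (687, 422), (688, 688), (689, 1073), (690, 425), (691, 665), (692, 1075), (693, 768), (694, 427), (695, 429), (696, 430), (697, 658), (698, 1076), (699, 1077), (700, 432), (701, 433), (702, 664), (703, 1081)]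
    ⟨e3 q640 L10761 q1008, e3 q641 (flp_b L5406) q390, e3 q642 (flp_b L5410) q391, e3 q643 L70749 q643, e3 q644 (flp_b L10781) q1011, e3 q645 (flp_b L82321) q648, e3 q646 L82480 q646, e3 q647 (flp_b L10793) q1014, e3 q648 L82321 q645, e3 q649 L10877 q1024, e3 q650 L81292 q981, e3 q651 L5454 q410, e3 q652 L10912 q1030, e3 q653 L10950 q1031, e3 q654 (flp_b L70555) q978, e3 q655 L5490 q415, e3 q656 L10984 q1037, e3 q657 (flp_b L5516) q400, e3 q658 L142630 q697, e3 q659 L142600 q684, e3 q660 L5537 q419, e3 q661 L11119 q1040, e3 q662 (flp_b L5543) q403, e3 q663 (flp_b L5567) q404, e3 q664 (flp_b L137096) q702, e3 q665 (flp_b L140364) q691, e3 q666 L5587 q424, e3 q667 L11254 q1044, e3 q668 (flp_b L5593) q407, e3 q669 L58111 q669, e3 q670 L11326 q1048, e3 q671 (flp_b L10904) q1028, e3 q672 L11342 q1052, e3 q673 (flp_b L5633) q411, e3 q674 L11362 q1056, e3 q675 L77994 q675, e3 q676 L11408 q1059, e3 q677 (flp_b L10976) q1035, e3 q678 L11424 q1063, e3 q679 (flp_b L5673) q416, e3 q680 L11444 q1067, e3 q681 L57934 q681, e3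 q682 L11515 q1068, e3 q683 (flp_b L5717) q420, e3 q684 (flp_b L142600) q659, e3 q685 L11543 q1072, e3 q686 (flp_b L142567) q762, e3 q687 (flp_b L5735) q422, e3 q688 L82158 q688, e3 q689 L11660 q1073, e3 q690 (flp_b L5781) q425, e3 q691 L140364 q665, e3 q692 L11686 q1075, e3 q693 L142156 q768, e3 q694 (flp_b L5797) q427, e3 q695 L5810 q429, e3 q696 L5814 q430, e3 q697 (flp_b L142630) q658, e3 q698 (flp_b L11745) q1076, e3 q699 (flp_b L11754) q1077, e3 q700 L5852 q432, e3 q701 L5856 q433, e3 q702 L137096 q664, e3 q703 (flp_b L11835) q1081, trivial⟩ (by decide +kernel)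

theorem ce_b_11 : ∀ r, r < 64 → sm gb (Qf (704 + r)) = Qf (tab Gen.b (704 + r)) :=
  edges_tab (sm gb) Qf (tab Gen.b) 704 [(704, 1082), (705, 1086), (706, 435), (707, 1093), (708, 1095), (709, 1097), (710, 1099), (711, 436), (712, 1104), (713, 437), (714, 1108), (715, 1102), (716, 1000), (717, 439), (718, 1106), (719, 1002), (720, 441), (721, 1117), (722, 1118), (723, 446), (724, 447), (725, 448), (726, 1127), (727, 1128), (728, 449), (729, 1132), (730, 450), (731, 1136), (732, 1137), (733, 455), (734, 1142), (735, 452), (736, 1147), (737, 458), (738, 1152), (739, 454), (740, 1140), (741, 1159), (742, 456), (743, 1161), (744, 1145), (745, 1150), (746, 1166), (747, 459), (748, 1168), (749, 1155), (750, 750), (751, 462), (752, 1174), (753, 477), (754, 754), (755, 465), (756, 1181), (757, 481), (758, 758), (759, 765), (760, 1187), (761, 469), (762, 686), (763, 475), (764, 764), (765, 759), (766, 1194), (767, 473)]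
    ⟨e3 q704 (flp_b L11847) q1082, e3 q705 L11968 q1086, e3 q706 L5946 q435, e3 q707 L12001 q1093, e3 q708 L12014 q1095, e3 q709 L12029 q1097, e3 q710 L12040 q1099, e3 q711 (flp_b L5968) q436, e3 q712 L12069 q1104, e3 q713 (flp_b L5980) q437, e3 q714 L12087 q1108, e3 q715 (flp_b L12063) q1102, e3 q716 L81119 q1000, e3 q717 (flp_b L6012) q439, e3 q718 (flp_b L12081) q1106, e3 q719 (flp_b L80621) q1002, e3 q720 (flp_b L6036) q441, e3 q721 L12279 q1117, e3 q722 L12385 q1118, e3 q723 (flp_b L6199) q446, e3 q724 (flp_b L6288) q447, e3 q725 (flp_b L6320) q448, e3 q726 L12824 q1127, e3 q727 L12826 q1128, e3 q728 (flp_b L6332) q449, e3 q729 L12839 q1132, e3 q730 (flp_b L6341) q450, e3 q731 L12852 q1136, e3 q732 L12854 q1137, e3 q733 L6356 q455, e3 q734 L12874 q1142, e3 q735 (flp_b L6360) q452, e3 q736 L12894 q1147, e3 q737 L6366 q458, e3 q738 L12914 q1152, e3 q739 (flp_b L6370) q454, e3 q740 (flp_b L12868) q1140, e3 q741 L12983 q1159, e3 q742 (flp_b L6398) q456, e3 q743 L12999 q1161, e3 q744 (flp_b L12888) q1145, e3 q745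 (flp_b L12908) q1150, e3 q746 L13072 q1166, e3 q747 (flp_b L6440) q459, e3 q748 L13088 q1168, e3 q749 (flp_b L12932) q1155, e3 q750 L6492 q750, e3 q751 (flp_b L6497) q462, e3 q752 L13227 q1174, e3 q753 L6517 q477, e3 q754 L6567 q754, e3 q755 (flp_b L6572) q465, e3 q756 L13400 q1181, e3 q757 L6592 q481, e3 q758 L6664 q758, e3 q759 (flp_b L6788) q765, e3 q760 L13620 q1187, e3 q761 (flp_b L6679) q469, e3 q762 L142567 q686, e3 q763 L142547 q475, e3 q764 L6779 q764, e3 q765 L6788 q759, e3 q766 L13884 q1194, e3 q767 (flp_b L6796) q473, trivial⟩ (by decide +kernel)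

theorem ce_b_12 : ∀ r, r < 64 → sm gb (Qf (768 + r)) = Qf (tab Gen.b (768 + r)) :=
  edges_tab (sm gb) Qf (tab Gen.b) 768 [(768, 693), (769, 479), (770, 1177), (771, 1201), (772, 1202), (773, 1204), (774, 478), (775, 1184), (776, 1209), (777, 1210), (778, 1212), (779, 482), (780, 483), (781, 1215), (782, 1189), (783, 485), (784, 1216), (785, 1196), (786, 786), (787, 787), (788, 492), (789, 1218), (790, 1220), (791, 791), (792, 792), (793, 495), (794, 1227), (795, 1228), (796, 796), (797, 1232), (798, 1233), (799, 499), (800, 500), (801, 1234), (802, 1237), (803, 1238), (804, 502), (805, 503), (806, 1239), (807, 1243), (808, 1245), (809, 507), (810, 1248), (811, 508), (812, 1250), (813, 815), (814, 510), (815, 813), (816, 512), (817, 513), (818, 1252), (819, 1258), (820, 1260), (821, 514), (822, 1265), (823, 515), (824, 1269), (825, 825), (826, 614), (827, 831), (828, 517), (829, 829), (830, 616), (831, 827)]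
    ⟨e3 q768 (flp_b L142156) q693, e3 q769 L140508 q479, e3 q770 L142529 q1177, e3 q771 L14027 q1201, e3 q772 L14031 q1202, e3 q773 L14048 q1204, e3 q774 (flp_b L6871) q478, e3 q775 (flp_b L140522) q1184, e3 q776 L14103 q1209, e3 q777 L14109 q1210, e3 q778 L14126 q1212, e3 q779 (flp_b L6908) q482, e3 q780 (flp_b L6938) q483, e3 q781 L14239 q1215, e3 q782 L52194 q1189, e3 q783 (flp_b L6991) q485, e3 q784 L14360 q1216, e3 q785 L81993 q1196, e3 q786 L62617 q786, e3 q787 L62547 q787, e3 q788 L7647 q492, e3 q789 L15639 q1218, e3 q790 L15790 q1220, e3 q791 L67100 q791, e3 q792 L79033 q792, e3 q793 (flp_b L7799) q495, e3 q794 L15924 q1227, e3 q795 L15928 q1228, e3 q796 L62414 q796, e3 q797 L17493 q1232, e3 q798 L17497 q1233, e3 q799 (flp_b L8533) q499, e3 q800 (flp_b L8537) q500, e3 q801 L17525 q1234, e3 q802 L17539 q1237, e3 q803 L17543 q1238, e3 q804 (flp_b L8557) q502, e3 q805 (flp_b L8561) q503, e3 q806 L17635 q1239, e3 q807 L17656 q1243, e3 q808 L17672 q1245, e3 q809 (flp_b L8603) q507, e3 q810 L17706 q1248, e3 q811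 (flp_b L8615) q508, e3 q812 L17726 q1250, e3 q813 L81665 q815, e3 q814 (flp_b L8645) q510, e3 q815 (flp_b L81665) q813, e3 q816 (flp_b L8663) q512, e3 q817 (flp_b L8667) q513, e3 q818 (flp_b L17810) q1252, e3 q819 L17830 q1258, e3 q820 L17838 q1260, e3 q821 (flp_b L8681) q514, e3 q822 L17862 q1265, e3 q823 (flp_b L8693) q515, e3 q824 L17880 q1269, e3 q825 L58266 q825, e3 q826 L8719 q614, e3 q827 (flp_b L81645) q831, e3 q828 (flp_b L8725) q517, e3 q829 L81757 q829, e3 q830 L8741 q616, e3 q831 L81645 q827, trivial⟩ (by decide +kernel)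

theorem ce_b_13 : ∀ r, r < 64 → sm gb (Qf (832 + r)) = Qf (tab Gen.b (832 + r)) :=
  edges_tab (sm gb) Qf (tab Gen.b) 832 [(832, 519), (833, 1278), (834, 618), (835, 1190), (836, 620), (837, 1282), (838, 621), (839, 1197), (840, 623), (841, 528), (842, 1287), (843, 1292), (844, 1294), (845, 529), (846, 1299), (847, 530), (848, 1303), (849, 1304), (850, 850), (851, 1307), (852, 532), (853, 1310), (854, 854), (855, 1313), (856, 534), (857, 535), (858, 865), (859, 537), (860, 863), (861, 861), (862, 539), (863, 860), (864, 541), (865, 858), (866, 866), (867, 1322), (868, 1325), (869, 1327), (870, 544), (871, 1332), (872, 545), (873, 1336), (874, 1337), (875, 1330), (876, 1341), (877, 547), (878, 1345), (879, 1334), (880, 1349), (881, 549), (882, 550), (883, 883), (884, 574), (885, 1357), (886, 552), (887, 896), (888, 895), (889, 576), (890, 554), (891, 891), (892, 577), (893, 1367), (894, 556), (895, 888)]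
    ⟨e3 q832 (flp_b L8747) q519, e3 q833 L17986 q1278, e3 q834 L8761 q618, e3 q835 (flp_b L81946) q1190, e3 q836 L8777 q620, e3 q837 L18059 q1282, e3 q838 L8793 q621, e3 q839 (flp_b L81851) q1197, e3 q840 L8809 q623, e3 q841 (flp_b L8929) q528, e3 q842 (flp_b L18395) q1287, e3 q843 L18413 q1292, e3 q844 L18425 q1294, e3 q845 (flp_b L8947) q529, e3 q846 L18455 q1299, e3 q847 (flp_b L8961) q530, e3 q848 L18477 q1303, e3 q849 L18483 q1304, e3 q850 L64683 q850, e3 q851 L18509 q1307, e3 q852 (flp_b L8989) q532, e3 q853 L18537 q1310, e3 q854 L60412 q854, e3 q855 L18563 q1313, e3 q856 (flp_b L9005) q534, e3 q857 (flp_b L9009) q535, e3 q858 L81519 q865, e3 q859 (flp_b L9031) q537, e3 q860 (flp_b L82526) q863, e3 q861 L58904 q861, e3 q862 (flp_b L9057) q539, e3 q863 L82526 q860, e3 q864 (flp_b L9079) q541, e3 q865 (flp_b L81519) q858, e3 q866 L64290 q866, e3 q867 L18787 q1322, e3 q868 L18797 q1325, e3 q869 L18805 q1327, e3 q870 (flp_b L9111) q544, e3 q871 L18823 q1332, e3 q872 (flp_b L9119) q545, e3 q873 L18833 q1336, e3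 q874 L18837 q1337, e3 q875 (flp_b L18819) q1330, e3 q876 L18859 q1341, e3 q877 (flp_b L9141) q547, e3 q878 L18885 q1345, e3 q879 (flp_b L18829) q1334, e3 q880 L18907 q1349, e3 q881 (flp_b L9155) q549, e3 q882 (flp_b L9159) q550, e3 q883 L58194 q883, e3 q884 L9179 q574, e3 q885 L18983 q1357, e3 q886 (flp_b L9187) q552, e3 q887 (flp_b L81556) q896, e3 q888 (flp_b L59900) q895, e3 q889 L9209 q576, e3 q890 (flp_b L9217) q554, e3 q891 L74202 q891, e3 q892 L9237 q577, e3 q893 L19107 q1367, e3 q894 (flp_b L9245) q556, e3 q895 L59900 q888, trivial⟩ (by decide +kernel)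

theorem ce_b_14 : ∀ r, r < 64 → sm gb (Qf (896 + r)) = Qf (tab Gen.b (896 + r)) :=
  edges_tab (sm gb) Qf (tab Gen.b) 896 [(896, 887), (897, 579), (898, 898), (899, 580), (900, 1375), (901, 561), (902, 1376), (903, 912), (904, 934), (905, 1281), (906, 583), (907, 907), (908, 584), (909, 1381), (910, 569), (911, 1382), (912, 903), (913, 929), (914, 1285), (915, 587), (916, 1385), (917, 1355), (918, 1389), (919, 575), (920, 1362), (921, 1394), (922, 1365), (923, 1398), (924, 578), (925, 1372), (926, 1403), (927, 581), (928, 1193), (929, 913), (930, 1378), (931, 1404), (932, 585), (933, 1186), (934, 904), (935, 1384), (936, 936), (937, 937), (938, 591), (939, 1406), (940, 1408), (941, 941), (942, 942), (943, 594), (944, 1413), (945, 1419), (946, 1420), (947, 597), (948, 1421), (949, 1427), (950, 1429), (951, 598), (952, 1432), (953, 599), (954, 1434), (955, 601), (956, 603), (957, 637), (958, 958), (959, 636)]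
    ⟨e3 q896 L81556 q887, e3 q897 L9267 q579, e3 q898 L64871 q898, e3 q899 L9305 q580, e3 q900 L19283 q1375, e3 q901 (flp_b L9311) q561, e3 q902 L139276 q1376, e3 q903 L59959 q912, e3 q904 (flp_b L9595) q934, e3 q905 (flp_b L139795) q1281, e3 q906 L9349 q583, e3 q907 L82559 q907, e3 q908 L9391 q584, e3 q909 L19481 q1381, e3 q910 (flp_b L9397) q569, e3 q911 (flp_b L139946) q1382, e3 q912 (flp_b L59959) q903, e3 q913 (flp_b L9530) q929, e3 q914 L141189 q1285, e3 q915 L9435 q587, e3 q916 L19591 q1385, e3 q917 (flp_b L18975) q1355, e3 q918 L19609 q1389, e3 q919 (flp_b L9463) q575, e3 q920 (flp_b L19039) q1362, e3 q921 L19678 q1394, e3 q922 (flp_b L19099) q1365, e3 q923 L19700 q1398, e3 q924 (flp_b L9500) q578, e3 q925 (flp_b L19163) q1372, e3 q926 L19738 q1403, e3 q927 (flp_b L9520) q581, e3 q928 L59764 q1193, e3 q929 L9530 q913, e3 q930 (flp_b L19361) q1378, e3 q931 L19840 q1404, e3 q932 (flp_b L9583) q585, e3 q933 L59761 q1186, e3 q934 L9595 q904, e3 q935 (flp_b L19571) q1384, e3 q936 L9706 q936, e3 q937 L9710 q937,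 e3 q938 L9726 q591, e3 q939 L20223 q1406, e3 q940 L20375 q1408, e3 q941 L49792 q941, e3 q942 L81046 q942, e3 q943 (flp_b L9865) q594, e3 q944 (flp_b L20517) q1413, e3 q945 L20545 q1419, e3 q946 L20547 q1420, e3 q947 (flp_b L9965) q597, e3 q948 L72398 q1421, e3 q949 L20757 q1427, e3 q950 L20769 q1429, e3 q951 (flp_b L9985) q598, e3 q952 L20803 q1432, e3 q953 (flp_b L10001) q599, e3 q954 L20829 q1434, e3 q955 (flp_b L10036) q601, e3 q956 (flp_b L10057) q603, e3 q957 (flp_b L70532) q637, e3 q958 L10092 q958, e3 q959 (flp_b L81271) q636, trivial⟩ (by decide +kernel)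

theorem ce_b_15 : ∀ r, r < 64 → sm gb (Qf (960 + r)) = Qf (tab Gen.b (960 + r)) :=
  edges_tab (sm gb) Qf (tab Gen.b) 960 [(960, 960), (961, 1424), (962, 607), (963, 1446), (964, 1448), (965, 1450), (966, 1441), (967, 1455), (968, 1457), (969, 608), (970, 1462), (971, 609), (972, 1466), (973, 1460), (974, 611), (975, 1464), (976, 613), (977, 1271), (978, 654), (979, 1273), (980, 1275), (981, 650), (982, 1277), (983, 1280), (984, 1284), (985, 1479), (986, 625), (987, 1486), (988, 1488), (989, 1490), (990, 1491), (991, 626), (992, 627), (993, 993), (994, 1493), (995, 998), (996, 996), (997, 1496), (998, 995), (999, 1437), (1000, 716), (1001, 1435), (1002, 719), (1003, 638), (1004, 1512), (1005, 1513), (1006, 639), (1007, 1517), (1008, 640), (1009, 1521), (1010, 1522), (1011, 644), (1012, 1156), (1013, 1528), (1014, 647), (1015, 1146), (1016, 1534), (1017, 1471), (1018, 1525), (1019, 1540), (1020, 1541), (1021, 1468), (1022, 1531), (1023, 1547)]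
    ⟨e3 q960 L10130 q960, e3 q961 (flp_b L72386) q1424, e3 q962 L10143 q607, e3 q963 L21121 q1446, e3 q964 L21131 q1448, e3 q965 L21143 q1450, e3 q966 L72321 q1441, e3 q967 L21177 q1455, e3 q968 L21187 q1457, e3 q969 (flp_b L10169) q608, e3 q970 L21207 q1462, e3 q971 (flp_b L10177) q609, e3 q972 L21217 q1466, e3 q973 (flp_b L21203) q1460, e3 q974 (flp_b L10201) q611, e3 q975 (flp_b L21213) q1464, e3 q976 (flp_b L10219) q613, e3 q977 (flp_b L17898) q1271, e3 q978 L70555 q654, e3 q979 (flp_b L17922) q1273, e3 q980 (flp_b L17944) q1275, e3 q981 (flp_b L81292) q650, e3 q982 (flp_b L17968) q1277, e3 q983 (flp_b L18001) q1280, e3 q984 (flp_b L18073) q1284, e3 q985 L21698 q1479, e3 q986 L10469 q625, e3 q987 L21737 q1486, e3 q988 L21749 q1488, e3 q989 L21763 q1490, e3 q990 L21769 q1491, e3 q991 (flp_b L10499) q626, e3 q992 (flp_b L10503) q627, e3 q993 L70753 q993, e3 q994 (flp_b L21783) q1493, e3 q995 (flp_b L82357) q998, e3 q996 L82478 q996, e3 q997 (flp_b L21797) q1496, e3 q998 L82357 q995, e3 q999 (flp_b L81249) q1437,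 e3 q1000 (flp_b L81119) q716, e3 q1001 (flp_b L48699) q1435, e3 q1002 L80621 q719, e3 q1003 (flp_b L10733) q638, e3 q1004 L22313 q1512, e3 q1005 L22317 q1513, e3 q1006 (flp_b L10749) q639, e3 q1007 L22335 q1517, e3 q1008 (flp_b L10761) q640, e3 q1009 L22353 q1521, e3 q1010 L22357 q1522, e3 q1011 L10781 q644, e3 q1012 (flp_b L12938) q1156, e3 q1013 L22389 q1528, e3 q1014 L10793 q647, e3 q1015 (flp_b L12892) q1146, e3 q1016 L22437 q1534, e3 q1017 (flp_b L81325) q1471, e3 q1018 (flp_b L22375) q1525, e3 q1019 L22463 q1540, e3 q1020 L22493 q1541, e3 q1021 (flp_b L70560) q1468, e3 q1022 (flp_b L22407) q1531, e3 q1023 L22519 q1547, trivial⟩ (by decide +kernel)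

theorem ce_b_16 : ∀ r, r < 64 → sm gb (Qf (1024 + r)) = Qf (tab Gen.b (1024 + r)) :=
  edges_tab (sm gb) Qf (tab Gen.b) 1024 [(1024, 649), (1025, 1548), (1026, 1069), (1027, 1552), (1028, 671), (1029, 1557), (1030, 652), (1031, 653), (1032, 1559), (1033, 1074), (1034, 1563), (1035, 677), (1036, 1568), (1037, 656), (1038, 1078), (1039, 1570), (1040, 661), (1041, 1195), (1042, 1083), (1043, 1571), (1044, 667), (1045, 1188), (1046, 1572), (1047, 1047), (1048, 670), (1049, 1575), (1050, 1580), (1051, 1582), (1052, 672), (1053, 1587), (1054, 1588), (1055, 1191), (1056, 674), (1057, 1589), (1058, 1058), (1059, 676), (1060, 1592), (1061, 1597), (1062, 1599), (1063, 678), (1064, 1604), (1065, 1605), (1066, 1198), (1067, 680), (1068, 682), (1069, 1026), (1070, 1377), (1071, 1383), (1072, 685), (1073, 689), (1074, 1033), (1075, 692), (1076, 698), (1077, 699), (1078, 1038), (1079, 1608), (1080, 1612), (1081, 703), (1082, 704), (1083, 1042), (1084, 1613), (1085, 1617), (1086, 705), (1087, 1620)]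
    ⟨e3 q1024 (flp_b L10877) q649, e3 q1025 (flp_b L22602) q1548, e3 q1026 (flp_b L142611) q1069, e3 q1027 L22645 q1552, e3 q1028 L10904 q671, e3 q1029 L22669 q1557, e3 q1030 (flp_b L10912) q652, e3 q1031 (flp_b L10950) q653, e3 q1032 (flp_b L22776) q1559, e3 q1033 L141517 q1074, e3 q1034 L22822 q1563, e3 q1035 L10976 q677, e3 q1036 L22846 q1568, e3 q1037 (flp_b L10984) q656, e3 q1038 L142635 q1078, e3 q1039 L23066 q1570, e3 q1040 (flp_b L11119) q661, e3 q1041 L142189 q1195, e3 q1042 (flp_b L137229) q1083, e3 q1043 L23345 q1571, e3 q1044 (flp_b L11254) q667, e3 q1045 L142095 q1188, e3 q1046 L23493 q1572, e3 q1047 L64956 q1047, e3 q1048 (flp_b L11326) q670, e3 q1049 (flp_b L23507) q1575, e3 q1050 L23521 q1580, e3 q1051 L23533 q1582, e3 q1052 (flp_b L11342) q672, e3 q1053 L23559 q1587, e3 q1054 L23563 q1588, e3 q1055 L131591 q1191, e3 q1056 (flp_b L11362) q674, e3 q1057 L23697 q1589, e3 q1058 L78063 q1058, e3 q1059 (flp_b L11408) q676, e3 q1060 (flp_b L23711) q1592, e3 q1061 L23725 q1597, e3 q1062 L23737 q1599, e3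 q1063 (flp_b L11424) q678, e3 q1064 L23763 q1604, e3 q1065 L23767 q1605, e3 q1066 L141972 q1198, e3 q1067 (flp_b L11444) q680, e3 q1068 (flp_b L11515) q682, e3 q1069 L142611 q1026, e3 q1070 L142167 q1377, e3 q1071 L142111 q1383, e3 q1072 (flp_b L11543) q685, e3 q1073 (flp_b L11660) q689, e3 q1074 (flp_b L141517) q1033, e3 q1075 (flp_b L11686) q692, e3 q1076 L11745 q698, e3 q1077 L11754 q699, e3 q1078 (flp_b L142635) q1038, e3 q1079 (flp_b L24434) q1608, e3 q1080 L24458 q1612, e3 q1081 L11835 q703, e3 q1082 L11847 q704, e3 q1083 L137229 q1042, e3 q1084 (flp_b L24611) q1613, e3 q1085 L24720 q1617, e3 q1086 (flp_b L11968) q705, e3 q1087 (flp_b L24871) q1620, trivial⟩ (by decide +kernel)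

theorem ce_b_17 : ∀ r, r < 64 → sm gb (Qf (1088 + r)) = Qf (tab Gen.b (1088 + r)) :=
  edges_tab (sm gb) Qf (tab Gen.b) 1088 [(1088, 1626), (1089, 1627), (1090, 1090), (1091, 1631), (1092, 1633), (1093, 707), (1094, 1638), (1095, 708), (1096, 1642), (1097, 709), (1098, 1646), (1099, 710), (1100, 1650), (1101, 1651), (1102, 715), (1103, 1656), (1104, 712), (1105, 1661), (1106, 718), (1107, 1666), (1108, 714), (1109, 1654), (1110, 1673), (1111, 1674), (1112, 1659), (1113, 1664), (1114, 1679), (1115, 1680), (1116, 1669), (1117, 721), (1118, 722), (1119, 1121), (1120, 1440), (1121, 1119), (1122, 1439), (1123, 1508), (1124, 1124), (1125, 1695), (1126, 1697), (1127, 726), (1128, 727), (1129, 1705), (1130, 1130), (1131, 1709), (1132, 729), (1133, 1713), (1134, 1134), (1135, 1717), (1136, 731), (1137, 732), (1138, 1725), (1139, 1728), (1140, 740), (1141, 1732), (1142, 734), (1143, 1737), (1144, 1738), (1145, 744), (1146, 1015), (1147, 736), (1148, 1748), (1149, 1751), (1150, 745), (1151, 1755)]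
    ⟨e3 q1088 L24897 q1626, e3 q1089 L24901 q1627, e3 q1090 L11992 q1090, e3 q1091 L24916 q1631, e3 q1092 L24928 q1633, e3 q1093 (flp_b L12001) q707, e3 q1094 L24959 q1638, e3 q1095 (flp_b L12014) q708, e3 q1096 L24980 q1642, e3 q1097 (flp_b L12029) q709, e3 q1098 L24995 q1646, e3 q1099 (flp_b L12040) q710, e3 q1100 L25010 q1650, e3 q1101 L25016 q1651, e3 q1102 L12063 q715, e3 q1103 L25044 q1656, e3 q1104 (flp_b L12069) q712, e3 q1105 L25074 q1661, e3 q1106 L12081 q718, e3 q1107 L25102 q1666, e3 q1108 (flp_b L12087) q714, e3 q1109 (flp_b L25036) q1654, e3 q1110 L25192 q1673, e3 q1111 L25216 q1674, e3 q1112 (flp_b L25066) q1659, e3 q1113 (flp_b L25094) q1664, e3 q1114 L25316 q1679, e3 q1115 L25340 q1680, e3 q1116 (flp_b L25124) q1669, e3 q1117 (flp_b L12279) q721, e3 q1118 (flp_b L12385) q722, e3 q1119 (flp_b L12749) q1121, e3 q1120 (flp_b L81218) q1440, e3 q1121 L12749 q1119, e3 q1122 (flp_b L79559) q1439, e3 q1123 (flp_b L22301) q1508, e3 q1124 L12819 q1124, e3 q1125 L26671 q1695, e3 q1126 L26679 q1697, e3 q1127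 (flp_b L12824) q726, e3 q1128 (flp_b L12826) q727, e3 q1129 L26703 q1705, e3 q1130 L12836 q1130, e3 q1131 L26720 q1709, e3 q1132 (flp_b L12839) q729, e3 q1133 L26733 q1713, e3 q1134 L12849 q1134, e3 q1135 L26750 q1717, e3 q1136 (flp_b L12852) q731, e3 q1137 (flp_b L12854) q732, e3 q1138 L26771 q1725, e3 q1139 L26785 q1728, e3 q1140 L12868 q740, e3 q1141 L26797 q1732, e3 q1142 (flp_b L12874) q734, e3 q1143 L26819 q1737, e3 q1144 L26821 q1738, e3 q1145 L12888 q744, e3 q1146 L12892 q1015, e3 q1147 (flp_b L12894) q736, e3 q1148 L26855 q1748, e3 q1149 L26869 q1751, e3 q1150 L12908 q745, e3 q1151 L26881 q1755, trivial⟩ (by decide +kernel)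

theorem ce_b_18 : ∀ r, r < 64 → sm gb (Qf (1152 + r)) = Qf (tab Gen.b (1152 + r)) :=
  edges_tab (sm gb) Qf (tab Gen.b) 1152 [(1152, 738), (1153, 1760), (1154, 1761), (1155, 749), (1156, 1012), (1157, 1730), (1158, 1768), (1159, 741), (1160, 1770), (1161, 743), (1162, 1775), (1163, 1741), (1164, 1753), (1165, 1780), (1166, 746), (1167, 1782), (1168, 748), (1169, 1787), (1170, 1764), (1171, 1171), (1172, 1179), (1173, 1794), (1174, 752), (1175, 1797), (1176, 1801), (1177, 770), (1178, 1178), (1179, 1172), (1180, 1807), (1181, 756), (1182, 1810), (1183, 1814), (1184, 775), (1185, 1185), (1186, 933), (1187, 760), (1188, 1045), (1189, 782), (1190, 835), (1191, 1055), (1192, 1192), (1193, 928), (1194, 766), (1195, 1041), (1196, 785), (1197, 839), (1198, 1066), (1199, 1819), (1200, 1821), (1201, 771), (1202, 772), (1203, 1825), (1204, 773), (1205, 1829), (1206, 1796), (1207, 1830), (1208, 1832), (1209, 776), (1210, 777), (1211, 1836), (1212, 778), (1213, 1840), (1214, 1809), (1215, 781)]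
    ⟨e3 q1152 (flp_b L12914) q738, e3 q1153 L26907 q1760, e3 q1154 L26909 q1761, e3 q1155 L12932 q749, e3 q1156 L12938 q1012, e3 q1157 (flp_b L26791) q1730, e3 q1158 L27037 q1768, e3 q1159 (flp_b L12983) q741, e3 q1160 (flp_b L27045) q1770, e3 q1161 (flp_b L12999) q743, e3 q1162 L27083 q1775, e3 q1163 (flp_b L26835) q1741, e3 q1164 (flp_b L26875) q1753, e3 q1165 L27227 q1780, e3 q1166 (flp_b L13072) q746, e3 q1167 (flp_b L27235) q1782, e3 q1168 (flp_b L13088) q748, e3 q1169 L27275 q1787, e3 q1170 (flp_b L26927) q1764, e3 q1171 L13200 q1171, e3 q1172 (flp_b L13384) q1179, e3 q1173 L27532 q1794, e3 q1174 (flp_b L13227) q752, e3 q1175 (flp_b L27562) q1797, e3 q1176 L27604 q1801, e3 q1177 (flp_b L142529) q770, e3 q1178 L13371 q1178, e3 q1179 L13384 q1172, e3 q1180 L27866 q1807, e3 q1181 (flp_b L13400) q756, e3 q1182 (flp_b L27894) q1810, e3 q1183 L27936 q1814, e3 q1184 L140522 q775, e3 q1185 L13598 q1185, e3 q1186 (flp_b L59761) q933, e3 q1187 (flp_b L13620) q760, e3 q1188 (flp_b L142095) q1045, e3 q1189 (flp_b L52194)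 q782, e3 q1190 L81946 q835, e3 q1191 (flp_b L131591) q1055, e3 q1192 L13862 q1192, e3 q1193 (flp_b L59764) q928, e3 q1194 (flp_b L13884) q766, e3 q1195 (flp_b L142189) q1041, e3 q1196 (flp_b L81993) q785, e3 q1197 L81851 q839, e3 q1198 (flp_b L141972) q1066, e3 q1199 L29032 q1819, e3 q1200 L29063 q1821, e3 q1201 (flp_b L14027) q771, e3 q1202 (flp_b L14031) q772, e3 q1203 L29097 q1825, e3 q1204 (flp_b L14048) q773, e3 q1205 L29115 q1829, e3 q1206 (flp_b L52181) q1796, e3 q1207 L29198 q1830, e3 q1208 L29229 q1832, e3 q1209 (flp_b L14103) q776, e3 q1210 (flp_b L14109) q777, e3 q1211 L29267 q1836, e3 q1212 (flp_b L14126) q778, e3 q1213 L29285 q1840, e3 q1214 (flp_b L81872) q1809, e3 q1215 (flp_b L14239) q781, trivial⟩ (by decide +kernel)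

theorem ce_b_19 : ∀ r, r < 64 → sm gb (Qf (1216 + r)) = Qf (tab Gen.b (1216 + r)) :=
  edges_tab (sm gb) Qf (tab Gen.b) 1216 [(1216, 784), (1217, 1841), (1218, 789), (1219, 1843), (1220, 790), (1221, 1847), (1222, 1852), (1223, 1853), (1224, 1854), (1225, 1857), (1226, 1859), (1227, 794), (1228, 795), (1229, 1865), (1230, 1868), (1231, 1869), (1232, 797), (1233, 798), (1234, 801), (1235, 1873), (1236, 1874), (1237, 802), (1238, 803), (1239, 806), (1240, 1878), (1241, 1883), (1242, 1885), (1243, 807), (1244, 1889), (1245, 808), (1246, 1892), (1247, 1249), (1248, 810), (1249, 1247), (1250, 812), (1251, 1893), (1252, 818), (1253, 1901), (1254, 1903), (1255, 1898), (1256, 1907), (1257, 1909), (1258, 819), (1259, 1914), (1260, 820), (1261, 1918), (1262, 1262), (1263, 1912), (1264, 1268), (1265, 822), (1266, 1266), (1267, 1916), (1268, 1264), (1269, 824), (1270, 1927), (1271, 977), (1272, 1798), (1273, 979), (1274, 1933), (1275, 980), (1276, 1811), (1277, 982), (1278, 833), (1279, 1939)]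
    ⟨e3 q1216 (flp_b L14360) q784, e3 q1217 L32314 q1841, e3 q1218 (flp_b L15639) q789, e3 q1219 (flp_b L32490) q1843, e3 q1220 (flp_b L15790) q790, e3 q1221 (flp_b L32816) q1847, e3 q1222 L32844 q1852, e3 q1223 L32848 q1853, e3 q1224 L33066 q1854, e3 q1225 L33082 q1857, e3 q1226 L33094 q1859, e3 q1227 (flp_b L15924) q794, e3 q1228 (flp_b L15928) q795, e3 q1229 L36475 q1865, e3 q1230 L36500 q1868, e3 q1231 L36506 q1869, e3 q1232 (flp_b L17493) q797, e3 q1233 (flp_b L17497) q798, e3 q1234 (flp_b L17525) q801, e3 q1235 L36610 q1873, e3 q1236 L36612 q1874, e3 q1237 (flp_b L17539) q802, e3 q1238 (flp_b L17543) q803, e3 q1239 (flp_b L17635) q806, e3 q1240 (flp_b L36796) q1878, e3 q1241 L36825 q1883, e3 q1242 L36837 q1885, e3 q1243 (flp_b L17656) q807, e3 q1244 L36871 q1889, e3 q1245 (flp_b L17672) q808, e3 q1246 L36897 q1892, e3 q1247 L81515 q1249, e3 q1248 (flp_b L17706) q810, e3 q1249 (flp_b L81515) q1247, e3 q1250 (flp_b L17726) q812, e3 q1251 L37157 q1893, e3 q1252 L17810 q818, e3 q1253 L37189 q1901, e3 q1254 L37199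 q1903, e3 q1255 (flp_b L37179) q1898, e3 q1256 L37219 q1907, e3 q1257 L37231 q1909, e3 q1258 (flp_b L17830) q819, e3 q1259 L37253 q1914, e3 q1260 (flp_b L17838) q820, e3 q1261 L37263 q1918, e3 q1262 L64764 q1262, e3 q1263 (flp_b L37249) q1912, e3 q1264 L74370 q1268, e3 q1265 (flp_b L17862) q822, e3 q1266 L78631 q1266, e3 q1267 (flp_b L37259) q1916, e3 q1268 (flp_b L74370) q1264, e3 q1269 (flp_b L17880) q824, e3 q1270 L37359 q1927, e3 q1271 L17898 q977, e3 q1272 L81895 q1798, e3 q1273 L17922 q979, e3 q1274 L37466 q1933, e3 q1275 L17944 q980, e3 q1276 (flp_b L81889) q1811, e3 q1277 L17968 q982, e3 q1278 (flp_b L17986) q833, e3 q1279 (flp_b L37614) q1939, trivial⟩ (by decide +kernel)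

theorem ce_b_20 : ∀ r, r < 64 → sm gb (Qf (1280 + r)) = Qf (tab Gen.b (1280 + r)) :=
  edges_tab (sm gb) Qf (tab Gen.b) 1280 [(1280, 983), (1281, 905), (1282, 837), (1283, 1942), (1284, 984), (1285, 914), (1286, 1945), (1287, 842), (1288, 1952), (1289, 1954), (1290, 1956), (1291, 1958), (1292, 843), (1293, 1963), (1294, 844), (1295, 1967), (1296, 1968), (1297, 1961), (1298, 1972), (1299, 846), (1300, 1976), (1301, 1965), (1302, 1980), (1303, 848), (1304, 849), (1305, 1305), (1306, 1314), (1307, 851), (1308, 1312), (1309, 1309), (1310, 853), (1311, 1311), (1312, 1308), (1313, 855), (1314, 1306), (1315, 1315), (1316, 1319), (1317, 1321), (1318, 1320), (1319, 1316), (1320, 1318), (1321, 1317), (1322, 867), (1323, 1999), (1324, 2000), (1325, 868), (1326, 2004), (1327, 869), (1328, 2008), (1329, 2009), (1330, 875), (1331, 2014), (1332, 871), (1333, 2019), (1334, 879), (1335, 2024), (1336, 873), (1337, 874), (1338, 2030), (1339, 2012), (1340, 2035), (1341, 876), (1342, 1351), (1343, 1350)]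
    ⟨e3 q1280 L18001 q983, e3 q1281 L139795 q905, e3 q1282 (flp_b L18059) q837, e3 q1283 (flp_b L37972) q1942, e3 q1284 L18073 q984, e3 q1285 (flp_b L141189) q914, e3 q1286 L38660 q1945, e3 q1287 L18395 q842, e3 q1288 L38690 q1952, e3 q1289 L38702 q1954, e3 q1290 L38716 q1956, e3 q1291 L38726 q1958, e3 q1292 (flp_b L18413) q843, e3 q1293 L38754 q1963, e3 q1294 (flp_b L18425) q844, e3 q1295 L38772 q1967, e3 q1296 L38776 q1968, e3 q1297 (flp_b L38748) q1961, e3 q1298 L38806 q1972, e3 q1299 (flp_b L18455) q846, e3 q1300 L38842 q1976, e3 q1301 (flp_b L38766) q1965, e3 q1302 L38872 q1980, e3 q1303 (flp_b L18477) q848, e3 q1304 (flp_b L18483) q849, e3 q1305 L64690 q1305, e3 q1306 (flp_b L78168) q1314, e3 q1307 (flp_b L18509) q851, e3 q1308 L77439 q1312, e3 q1309 L58920 q1309, e3 q1310 (flp_b L18537) q853, e3 q1311 L60419 q1311, e3 q1312 (flp_b L77439) q1308, e3 q1313 (flp_b L18563) q855, e3 q1314 L78168 q1306, e3 q1315 L64285 q1315, e3 q1316 (flp_b L59319) q1319, e3 q1317 L78622 q1321, e3 q1318 (flp_b L78127) q1320, e3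 q1319 L59319 q1316, e3 q1320 L78127 q1318, e3 q1321 (flp_b L78622) q1317, e3 q1322 (flp_b L18787) q867, e3 q1323 L39583 q1999, e3 q1324 L39585 q2000, e3 q1325 (flp_b L18797) q868, e3 q1326 L39597 q2004, e3 q1327 (flp_b L18805) q869, e3 q1328 L39609 q2008, e3 q1329 L39611 q2009, e3 q1330 L18819 q875, e3 q1331 L39631 q2014, e3 q1332 (flp_b L18823) q871, e3 q1333 L39651 q2019, e3 q1334 L18829 q879, e3 q1335 L39671 q2024, e3 q1336 (flp_b L18833) q873, e3 q1337 (flp_b L18837) q874, e3 q1338 L39711 q2030, e3 q1339 (flp_b L39625) q2012, e3 q1340 L39737 q2035, e3 q1341 (flp_b L18859) q876, e3 q1342 L81612 q1351, e3 q1343 (flp_b L59391) q1350, trivial⟩ (by decide +kernel)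

theorem ce_b_21 : ∀ r, r < 64 → sm gb (Qf (1344 + r)) = Qf (tab Gen.b (1344 + r)) :=
  edges_tab (sm gb) Qf (tab Gen.b) 1344 [(1344, 2017), (1345, 878), (1346, 2042), (1347, 2022), (1348, 2047), (1349, 880), (1350, 1343), (1351, 1342), (1352, 2027), (1353, 1353), (1354, 2055), (1355, 917), (1356, 2060), (1357, 885), (1358, 2064), (1359, 1369), (1360, 1400), (1361, 1941), (1362, 920), (1363, 1363), (1364, 2071), (1365, 922), (1366, 2076), (1367, 893), (1368, 2080), (1369, 1359), (1370, 1391), (1371, 1944), (1372, 925), (1373, 1373), (1374, 2063), (1375, 900), (1376, 902), (1377, 1070), (1378, 930), (1379, 1379), (1380, 2079), (1381, 909), (1382, 911), (1383, 1071), (1384, 935), (1385, 916), (1386, 2086), (1387, 2091), (1388, 2092), (1389, 918), (1390, 1806), (1391, 1370), (1392, 2096), (1393, 2068), (1394, 921), (1395, 2099), (1396, 2104), (1397, 2105), (1398, 923), (1399, 1793), (1400, 1360), (1401, 2109), (1402, 2084), (1403, 926), (1404, 931), (1405, 2111), (1406, 939), (1407, 2113)]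
    ⟨e3 q1344 (flp_b L39645) q2017, e3 q1345 (flp_b L18885) q878, e3 q1346 L39809 q2042, e3 q1347 (flp_b L39665) q2022, e3 q1348 L39835 q2047, e3 q1349 (flp_b L18907) q880, e3 q1350 L59391 q1343, e3 q1351 (flp_b L81612) q1342, e3 q1352 (flp_b L39689) q2027, e3 q1353 L64893 q1353, e3 q1354 L39983 q2055, e3 q1355 L18975 q917, e3 q1356 L40007 q2060, e3 q1357 (flp_b L18983) q885, e3 q1358 L40035 q2064, e3 q1359 L59342 q1369, e3 q1360 (flp_b L19716) q1400, e3 q1361 (flp_b L139591) q1941, e3 q1362 L19039 q920, e3 q1363 L74195 q1363, e3 q1364 L40231 q2071, e3 q1365 L19099 q922, e3 q1366 L40255 q2076, e3 q1367 (flp_b L19107) q893, e3 q1368 L40281 q2080, e3 q1369 (flp_b L59342) q1359, e3 q1370 (flp_b L19623) q1391, e3 q1371 L141180 q1944, e3 q1372 L19163 q925, e3 q1373 L64880 q1373, e3 q1374 L139229 q2063, e3 q1375 (flp_b L19283) q900, e3 q1376 (flp_b L139276) q902, e3 q1377 (flp_b L142167) q1070, e3 q1378 L19361 q930, e3 q1379 L81714 q1379, e3 q1380 L141872 q2079, e3 q1381 (flp_b L19481) q909, e3 q1382 L139946 q911, e3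 q1383 (flp_b L142111) q1071, e3 q1384 L19571 q935, e3 q1385 (flp_b L19591) q916, e3 q1386 (flp_b L41270) q2086, e3 q1387 L41288 q2091, e3 q1388 L41290 q2092, e3 q1389 (flp_b L19609) q918, e3 q1390 (flp_b L59729) q1806, e3 q1391 L19623 q1370, e3 q1392 L41322 q2096, e3 q1393 (flp_b L40123) q2068, e3 q1394 (flp_b L19678) q921, e3 q1395 (flp_b L41406) q2099, e3 q1396 L41426 q2104, e3 q1397 L41428 q2105, e3 q1398 (flp_b L19700) q923, e3 q1399 (flp_b L59757) q1793, e3 q1400 L19716 q1360, e3 q1401 L41470 q2109, e3 q1402 (flp_b L40373) q2084, e3 q1403 (flp_b L19738) q926, e3 q1404 (flp_b L19840) q931, e3 q1405 L42378 q2111, e3 q1406 (flp_b L20223) q939, e3 q1407 (flp_b L42502) q2113, trivial⟩ (by decide +kernel)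

theorem ce_b_22 : ∀ r, r < 64 → sm gb (Qf (1408 + r)) = Qf (tab Gen.b (1408 + r)) :=
  edges_tab (sm gb) Qf (tab Gen.b) 1408 [(1408, 940), (1409, 2117), (1410, 2123), (1411, 2124), (1412, 2125), (1413, 944), (1414, 2133), (1415, 2135), (1416, 2130), (1417, 2139), (1418, 2140), (1419, 945), (1420, 946), (1421, 948), (1422, 2147), (1423, 2149), (1424, 961), (1425, 2153), (1426, 2155), (1427, 949), (1428, 2160), (1429, 950), (1430, 2164), (1431, 2158), (1432, 952), (1433, 2162), (1434, 954), (1435, 1001), (1436, 1436), (1437, 999), (1438, 1438), (1439, 1122), (1440, 1120), (1441, 966), (1442, 2177), (1443, 2178), (1444, 2179), (1445, 2181), (1446, 963), (1447, 2186), (1448, 964), (1449, 2190), (1450, 965), (1451, 2193), (1452, 2194), (1453, 2195), (1454, 2197), (1455, 967), (1456, 2202), (1457, 968), (1458, 2206), (1459, 2207), (1460, 973), (1461, 2212), (1462, 970), (1463, 2217), (1464, 975), (1465, 2222), (1466, 972), (1467, 2210), (1468, 1021), (1469, 2215), (1470, 2220), (1471, 1017)]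
    ⟨e3 q1408 (flp_b L20375) q940, e3 q1409 (flp_b L42658) q2117, e3 q1410 L42692 q2123, e3 q1411 L42696 q2124, e3 q1412 L42894 q2125, e3 q1413 L20517 q944, e3 q1414 L42924 q2133, e3 q1415 L42932 q2135, e3 q1416 (flp_b L42914) q2130, e3 q1417 L42958 q2139, e3 q1418 L42962 q2140, e3 q1419 (flp_b L20545) q945, e3 q1420 (flp_b L20547) q946, e3 q1421 (flp_b L72398) q948, e3 q1422 L43318 q2147, e3 q1423 L43332 q2149, e3 q1424 L72386 q961, e3 q1425 L43360 q2153, e3 q1426 L43370 q2155, e3 q1427 (flp_b L20757) q949, e3 q1428 L43398 q2160, e3 q1429 (flp_b L20769) q950, e3 q1430 L43416 q2164, e3 q1431 (flp_b L43392) q2158, e3 q1432 (flp_b L20803) q952, e3 q1433 (flp_b L43410) q2162, e3 q1434 (flp_b L20829) q954, e3 q1435 L48699 q1001, e3 q1436 L20872 q1436, e3 q1437 L81249 q999, e3 q1438 L20916 q1438, e3 q1439 L79559 q1122, e3 q1440 L81218 q1120, e3 q1441 (flp_b L72321) q966, e3 q1442 L43990 q2177, e3 q1443 L43992 q2178, e3 q1444 L44002 q2179, e3 q1445 L44014 q2181, e3 q1446 (flp_b L21121) q963, e3 q1447 L44042 q2186, e3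 q1448 (flp_b L21131) q964, e3 q1449 L44056 q2190, e3 q1450 (flp_b L21143) q965, e3 q1451 L44097 q2193, e3 q1452 L44101 q2194, e3 q1453 L44105 q2195, e3 q1454 L44115 q2197, e3 q1455 (flp_b L21177) q967, e3 q1456 L44137 q2202, e3 q1457 (flp_b L21187) q968, e3 q1458 L44151 q2206, e3 q1459 L44155 q2207, e3 q1460 L21203 q973, e3 q1461 L44175 q2212, e3 q1462 (flp_b L21207) q970, e3 q1463 L44195 q2217, e3 q1464 L21213 q975, e3 q1465 L44215 q2222, e3 q1466 (flp_b L21217) q972, e3 q1467 (flp_b L44169) q2210, e3 q1468 L70560 q1021, e3 q1469 (flp_b L44189) q2215, e3 q1470 (flp_b L44209) q2220, e3 q1471 L81325 q1017, trivial⟩ (by decide +kernel)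

theorem ce_b_23 : ∀ r, r < 64 → sm gb (Qf (1472 + r)) = Qf (tab Gen.b (1472 + r)) :=
  edges_tab (sm gb) Qf (tab Gen.b) 1472 [(1472, 2225), (1473, 2235), (1474, 1930), (1475, 1932), (1476, 2239), (1477, 1936), (1478, 1938), (1479, 985), (1480, 2244), (1481, 2250), (1482, 2251), (1483, 1483), (1484, 2254), (1485, 2256), (1486, 987), (1487, 2261), (1488, 988), (1489, 2265), (1490, 989), (1491, 990), (1492, 2272), (1493, 994), (1494, 1670), (1495, 2278), (1496, 997), (1497, 1660), (1498, 2284), (1499, 2169), (1500, 2275), (1501, 2289), (1502, 2290), (1503, 2166), (1504, 2281), (1505, 2295), (1506, 2296), (1507, 2298), (1508, 1123), (1509, 2120), (1510, 2304), (1511, 2306), (1512, 1004), (1513, 1005), (1514, 2314), (1515, 2184), (1516, 2318), (1517, 1007), (1518, 2322), (1519, 2188), (1520, 2326), (1521, 1009), (1522, 1010), (1523, 2333), (1524, 2336), (1525, 1018), (1526, 2340), (1527, 2342), (1528, 1013), (1529, 2346), (1530, 2349), (1531, 1022), (1532, 2353), (1533, 2355), (1534, 1016), (1535, 2357)]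
    ⟨e3 q1472 (flp_b L44229) q2225, e3 q1473 L44412 q2235, e3 q1474 (flp_b L37376) q1930, e3 q1475 (flp_b L37428) q1932, e3 q1476 L44573 q2239, e3 q1477 (flp_b L37482) q1936, e3 q1478 (flp_b L37546) q1938, e3 q1479 (flp_b L21698) q985, e3 q1480 (flp_b L45116) q2244, e3 q1481 L45150 q2250, e3 q1482 L45154 q2251, e3 q1483 L21724 q1483, e3 q1484 L45173 q2254, e3 q1485 L45189 q2256, e3 q1486 (flp_b L21737) q987, e3 q1487 L45223 q2261, e3 q1488 (flp_b L21749) q988, e3 q1489 L45243 q2265, e3 q1490 (flp_b L21763) q989, e3 q1491 (flp_b L21769) q990, e3 q1492 L45281 q2272, e3 q1493 L21783 q994, e3 q1494 (flp_b L25130) q1670, e3 q1495 L45317 q2278, e3 q1496 L21797 q997, e3 q1497 (flp_b L25072) q1660, e3 q1498 L45377 q2284, e3 q1499 (flp_b L81156) q2169, e3 q1500 (flp_b L45301) q2275, e3 q1501 L45411 q2289, e3 q1502 L45455 q2290, e3 q1503 (flp_b L70506) q2166, e3 q1504 (flp_b L45337) q2281, e3 q1505 L45489 q2295, e3 q1506 L45621 q2296, e3 q1507 L45797 q2298, e3 q1508 L22301 q1123, e3 q1509 (flp_b L72396) q2120, e3 q1510 L46357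 q2304, e3 q1511 L46369 q2306, e3 q1512 (flp_b L22313) q1004, e3 q1513 (flp_b L22317) q1005, e3 q1514 L46403 q2314, e3 q1515 (flp_b L44038) q2184, e3 q1516 L46421 q2318, e3 q1517 (flp_b L22335) q1007, e3 q1518 L46439 q2322, e3 q1519 (flp_b L44052) q2188, e3 q1520 L46457 q2326, e3 q1521 (flp_b L22353) q1009, e3 q1522 (flp_b L22357) q1010, e3 q1523 L46491 q2333, e3 q1524 L46505 q2336, e3 q1525 L22375 q1018, e3 q1526 L46519 q2340, e3 q1527 L46531 q2342, e3 q1528 (flp_b L22389) q1013, e3 q1529 L46551 q2346, e3 q1530 L46565 q2349, e3 q1531 L22407 q1022, e3 q1532 L46579 q2353, e3 q1533 L46591 q2355, e3 q1534 (flp_b L22437) q1016, e3 q1535 (flp_b L46649) q2357, trivial⟩ (by decide +kernel)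

theorem ce_b_24 : ∀ r, r < 64 → sm gb (Qf (1536 + r)) = Qf (tab Gen.b (1536 + r)) :=
  edges_tab (sm gb) Qf (tab Gen.b) 1536 [(1536, 2362), (1537, 2363), (1538, 2338), (1539, 2367), (1540, 1019), (1541, 1020), (1542, 2371), (1543, 2376), (1544, 2377), (1545, 2351), (1546, 2381), (1547, 1023), (1548, 1025), (1549, 2385), (1550, 1610), (1551, 1583), (1552, 1027), (1553, 2389), (1554, 2390), (1555, 2397), (1556, 2398), (1557, 1029), (1558, 1818), (1559, 1032), (1560, 2402), (1561, 1615), (1562, 1600), (1563, 1034), (1564, 2406), (1565, 2407), (1566, 2414), (1567, 2415), (1568, 1036), (1569, 1817), (1570, 1039), (1571, 1043), (1572, 1046), (1573, 2419), (1574, 2423), (1575, 1049), (1576, 2087), (1577, 2431), (1578, 2427), (1579, 2435), (1580, 1050), (1581, 2440), (1582, 1051), (1583, 1551), (1584, 2443), (1585, 2438), (1586, 1800), (1587, 1053), (1588, 1054), (1589, 1057), (1590, 2449), (1591, 2453), (1592, 1060), (1593, 2460), (1594, 2101), (1595, 2457), (1596, 2465), (1597, 1061), (1598, 2470), (1599, 1062)]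
    ⟨e3 q1536 L46667 q2362, e3 q1537 L46679 q2363, e3 q1538 (flp_b L46513) q2338, e3 q1539 L46693 q2367, e3 q1540 (flp_b L22463) q1019, e3 q1541 (flp_b L22493) q1020, e3 q1542 (flp_b L46777) q2371, e3 q1543 L46795 q2376, e3 q1544 L46807 q2377, e3 q1545 (flp_b L46573) q2351, e3 q1546 L46821 q2381, e3 q1547 (flp_b L22519) q1023, e3 q1548 L22602 q1025, e3 q1549 L46973 q2385, e3 q1550 L142640 q1610, e3 q1551 L142605 q1583, e3 q1552 (flp_b L22645) q1027, e3 q1553 (flp_b L47039) q2389, e3 q1554 (flp_b L47043) q2390, e3 q1555 L47077 q2397, e3 q1556 L47087 q2398, e3 q1557 (flp_b L22669) q1029, e3 q1558 (flp_b L142204) q1818, e3 q1559 L22776 q1032, e3 q1560 L47310 q2402, e3 q1561 L137266 q1615, e3 q1562 (flp_b L140308) q1600, e3 q1563 (flp_b L22822) q1034, e3 q1564 (flp_b L47378) q2406, e3 q1565 (flp_b L47382) q2407, e3 q1566 L47416 q2414, e3 q1567 L47426 q2415, e3 q1568 (flp_b L22846) q1036, e3 q1569 L142199 q1817, e3 q1570 (flp_b L23066) q1039, e3 q1571 (flp_b L23345) q1043, e3 q1572 (flp_b L23493) q1046, e3 q1573 (flp_b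 L83818) q2419, e3 q1574 L83839 q2423, e3 q1575 L23507 q1049, e3 q1576 (flp_b L41274) q2087, e3 q1577 L83869 q2431, e3 q1578 (flp_b L83855) q2427, e3 q1579 L83893 q2435, e3 q1580 (flp_b L23521) q1050, e3 q1581 L83915 q2440, e3 q1582 (flp_b L23533) q1051, e3 q1583 (flp_b L142605) q1551, e3 q1584 L83941 q2443, e3 q1585 (flp_b L83911) q2438, e3 q1586 (flp_b L142534) q1800, e3 q1587 (flp_b L23559) q1053, e3 q1588 (flp_b L23563) q1054, e3 q1589 (flp_b L23697) q1057, e3 q1590 (flp_b L83974) q2449, e3 q1591 L83995 q2453, e3 q1592 L23711 q1060, e3 q1593 L84021 q2460, e3 q1594 (flp_b L41412) q2101, e3 q1595 (flp_b L84011) q2457, e3 q1596 L84049 q2465, e3 q1597 (flp_b L23725) q1061, e3 q1598 L84071 q2470, e3 q1599 (flp_b L23737) q1062, trivial⟩ (by decide +kernel)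

theorem ce_b_25 : ∀ r, r < 64 → sm gb (Qf (1600 + r)) = Qf (tab Gen.b (1600 + r)) :=
  edges_tab (sm gb) Qf (tab Gen.b) 1600 [(1600, 1562), (1601, 2473), (1602, 2468), (1603, 1813), (1604, 1064), (1605, 1065), (1606, 2062), (1607, 2078), (1608, 1079), (1609, 2479), (1610, 1550), (1611, 2482), (1612, 1080), (1613, 1084), (1614, 2487), (1615, 1561), (1616, 2490), (1617, 1085), (1618, 2243), (1619, 1619), (1620, 1087), (1621, 2502), (1622, 2504), (1623, 2506), (1624, 2510), (1625, 2511), (1626, 1088), (1627, 1089), (1628, 1628), (1629, 2520), (1630, 2522), (1631, 1091), (1632, 2527), (1633, 1092), (1634, 2531), (1635, 2532), (1636, 1636), (1637, 2536), (1638, 1094), (1639, 2540), (1640, 1640), (1641, 2544), (1642, 1096), (1643, 2548), (1644, 1644), (1645, 2553), (1646, 1098), (1647, 2558), (1648, 1648), (1649, 2563), (1650, 1100), (1651, 1101), (1652, 2572), (1653, 2575), (1654, 1109), (1655, 2579), (1656, 1103), (1657, 2584), (1658, 2585), (1659, 1112), (1660, 1497), (1661, 1105), (1662, 2595), (1663, 2598)]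
    ⟨e3 q1600 L140308 q1562, e3 q1601 L84097 q2473, e3 q1602 (flp_b L84067) q2468, e3 q1603 (flp_b L141980) q1813, e3 q1604 (flp_b L23763) q1064, e3 q1605 (flp_b L23767) q1065, e3 q1606 L142068 q2062, e3 q1607 L142076 q2078, e3 q1608 L24434 q1079, e3 q1609 L84187 q2479, e3 q1610 (flp_b L142640) q1550, e3 q1611 L84202 q2482, e3 q1612 (flp_b L24458) q1080, e3 q1613 L24611 q1084, e3 q1614 L84234 q2487, e3 q1615 (flp_b L137266) q1561, e3 q1616 L84249 q2490, e3 q1617 (flp_b L24720) q1085, e3 q1618 (flp_b L45108) q2243, e3 q1619 L24868 q1619, e3 q1620 L24871 q1087, e3 q1621 L84314 q2502, e3 q1622 L84326 q2504, e3 q1623 L84340 q2506, e3 q1624 L84373 q2510, e3 q1625 L84377 q2511, e3 q1626 (flp_b L24897) q1088, e3 q1627 (flp_b L24901) q1089, e3 q1628 L24907 q1628, e3 q1629 L84417 q2520, e3 q1630 L84426 q2522, e3 q1631 (flp_b L24916) q1091, e3 q1632 L84451 q2527, e3 q1633 (flp_b L24928) q1092, e3 q1634 L84469 q2531, e3 q1635 L84473 q2532, e3 q1636 L24954 q1636, e3 q1637 L84496 q2536, e3 q1638 (flp_b L24959) q1094, e3 q1639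 L84517 q2540, e3 q1640 L24975 q1640, e3 q1641 L84540 q2544, e3 q1642 (flp_b L24980) q1096, e3 q1643 L84561 q2548, e3 q1644 L24990 q1644, e3 q1645 L84584 q2553, e3 q1646 (flp_b L24995) q1098, e3 q1647 L84611 q2558, e3 q1648 L25005 q1648, e3 q1649 L84634 q2563, e3 q1650 (flp_b L25010) q1100, e3 q1651 (flp_b L25016) q1101, e3 q1652 L84685 q2572, e3 q1653 L84703 q2575, e3 q1654 L25036 q1109, e3 q1655 L84719 q2579, e3 q1656 (flp_b L25044) q1103, e3 q1657 L84751 q2584, e3 q1658 L84755 q2585, e3 q1659 L25066 q1112, e3 q1660 L25072 q1497, e3 q1661 (flp_b L25074) q1105, e3 q1662 L84807 q2595, e3 q1663 L84825 q2598, trivial⟩ (by decide +kernel)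

theorem ce_b_26 : ∀ r, r < 64 → sm gb (Qf (1664 + r)) = Qf (tab Gen.b (1664 + r)) :=
  edges_tab (sm gb) Qf (tab Gen.b) 1664 [(1664, 1113), (1665, 2602), (1666, 1107), (1667, 2607), (1668, 2608), (1669, 1116), (1670, 1494), (1671, 2614), (1672, 2577), (1673, 1110), (1674, 1111), (1675, 2620), (1676, 2588), (1677, 2624), (1678, 2600), (1679, 1114), (1680, 1115), (1681, 2630), (1682, 2611), (1683, 1685), (1684, 2173), (1685, 1683), (1686, 2171), (1687, 2638), (1688, 2639), (1689, 2112), (1690, 2643), (1691, 2644), (1692, 1692), (1693, 2649), (1694, 2651), (1695, 1125), (1696, 2656), (1697, 1126), (1698, 2660), (1699, 2661), (1700, 1700), (1701, 1720), (1702, 2667), (1703, 1703), (1704, 1712), (1705, 1129), (1706, 2677), (1707, 1707), (1708, 2682), (1709, 1131), (1710, 2686), (1711, 1711), (1712, 1704), (1713, 1133), (1714, 2696), (1715, 1715), (1716, 2701), (1717, 1135), (1718, 2705), (1719, 1719), (1720, 1701), (1721, 2330), (1722, 2713), (1723, 2675), (1724, 2718), (1725, 1138), (1726, 2721), (1727, 2727)]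
    ⟨e3 q1664 L25094 q1113, e3 q1665 L84841 q2602, e3 q1666 (flp_b L25102) q1107, e3 q1667 L84873 q2607, e3 q1668 L84877 q2608, e3 q1669 L25124 q1116, e3 q1670 L25130 q1494, e3 q1671 L84913 q2614, e3 q1672 (flp_b L84711) q2577, e3 q1673 (flp_b L25192) q1110, e3 q1674 (flp_b L25216) q1111, e3 q1675 L84952 q2620, e3 q1676 (flp_b L84775) q2588, e3 q1677 L84978 q2624, e3 q1678 (flp_b L84833) q2600, e3 q1679 (flp_b L25316) q1114, e3 q1680 (flp_b L25340) q1115, e3 q1681 L85019 q2630, e3 q1682 (flp_b L84897) q2611, e3 q1683 (flp_b L25826) q1685, e3 q1684 (flp_b L81257) q2173, e3 q1685 L25826 q1683, e3 q1686 L82671 q2171, e3 q1687 L85073 q2638, e3 q1688 L85092 q2639, e3 q1689 L72428 q2112, e3 q1690 L85133 q2643, e3 q1691 L85135 q2644, e3 q1692 L26662 q1692, e3 q1693 L85150 q2649, e3 q1694 L85159 q2651, e3 q1695 (flp_b L26671) q1125, e3 q1696 L85182 q2656, e3 q1697 (flp_b L26679) q1126, e3 q1698 L85194 q2660, e3 q1699 L85196 q2661, e3 q1700 L26693 q1700, e3 q1701 (flp_b L26761) q1720, e3 q1702 L85221 q2667, e3 q1703 L26700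 q1703, e3 q1704 (flp_b L26731) q1712, e3 q1705 (flp_b L26703) q1129, e3 q1706 L85256 q2677, e3 q1707 L26713 q1707, e3 q1708 L85277 q2682, e3 q1709 (flp_b L26720) q1131, e3 q1710 L85290 q2686, e3 q1711 L26728 q1711, e3 q1712 L26731 q1704, e3 q1713 (flp_b L26733) q1133, e3 q1714 L85325 q2696, e3 q1715 L26743 q1715, e3 q1716 L85346 q2701, e3 q1717 (flp_b L26750) q1135, e3 q1718 L85359 q2705, e3 q1719 L26758 q1719, e3 q1720 L26761 q1701, e3 q1721 (flp_b L46479) q2330, e3 q1722 L85396 q2713, e3 q1723 (flp_b L85252) q2675, e3 q1724 L85414 q2718, e3 q1725 (flp_b L26771) q1138, e3 q1726 (flp_b L85429) q2721, e3 q1727 L85453 q2727, trivial⟩ (by decide +kernel)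

theorem ce_b_27 : ∀ r, r < 64 → sm gb (Qf (1728 + r)) = Qf (tab Gen.b (1728 + r)) :=
  edges_tab (sm gb) Qf (tab Gen.b) 1728 [(1728, 1139), (1729, 1729), (1730, 1157), (1731, 2735), (1732, 1141), (1733, 2740), (1734, 2741), (1735, 2738), (1736, 2745), (1737, 1143), (1738, 1144), (1739, 2753), (1740, 2756), (1741, 1163), (1742, 2369), (1743, 2761), (1744, 2343), (1745, 2764), (1746, 2768), (1747, 2695), (1748, 1148), (1749, 2772), (1750, 2778), (1751, 1149), (1752, 1752), (1753, 1164), (1754, 2786), (1755, 1151), (1756, 2791), (1757, 2792), (1758, 2789), (1759, 2796), (1760, 1153), (1761, 1154), (1762, 2804), (1763, 2807), (1764, 1170), (1765, 2383), (1766, 2812), (1767, 2813), (1768, 1158), (1769, 2816), (1770, 1160), (1771, 1771), (1772, 2819), (1773, 1785), (1774, 2824), (1775, 1162), (1776, 2827), (1777, 2831), (1778, 2758), (1779, 2833), (1780, 1165), (1781, 2836), (1782, 1167), (1783, 1783), (1784, 2839), (1785, 1773), (1786, 2844), (1787, 1169), (1788, 2847), (1789, 2851), (1790, 2809), (1791, 2853)]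
    ⟨e3 q1728 (flp_b L26785) q1139, e3 q1729 L71009 q1729, e3 q1730 L26791 q1157, e3 q1731 L85483 q2735, e3 q1732 (flp_b L26797) q1141, e3 q1733 L85509 q2740, e3 q1734 L85511 q2741, e3 q1735 (flp_b L85505) q2738, e3 q1736 L85527 q2745, e3 q1737 (flp_b L26819) q1143, e3 q1738 (flp_b L26821) q1144, e3 q1739 L85547 q2753, e3 q1740 L85561 q2756, e3 q1741 L26835 q1163, e3 q1742 (flp_b L83380) q2369, e3 q1743 L85581 q2761, e3 q1744 (flp_b L46539) q2343, e3 q1745 L85597 q2764, e3 q1746 L85611 q2768, e3 q1747 (flp_b L85323) q2695, e3 q1748 (flp_b L26855) q1148, e3 q1749 (flp_b L85630) q2772, e3 q1750 L85654 q2778, e3 q1751 (flp_b L26869) q1149, e3 q1752 L82685 q1752, e3 q1753 L26875 q1164, e3 q1754 L85684 q2786, e3 q1755 (flp_b L26881) q1151, e3 q1756 L85710 q2791, e3 q1757 L85712 q2792, e3 q1758 (flp_b L85706) q2789, e3 q1759 L85730 q2796, e3 q1760 (flp_b L26907) q1153, e3 q1761 (flp_b L26909) q1154, e3 q1762 L85760 q2804, e3 q1763 L85774 q2807, e3 q1764 L26927 q1170, e3 q1765 (flp_b L83384) q2383, e3 q1766 L85796 q2812,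 e3 q1767 L85802 q2813, e3 q1768 (flp_b L27037) q1158, e3 q1769 L85818 q2816, e3 q1770 L27045 q1160, e3 q1771 L71005 q1771, e3 q1772 (flp_b L85832) q2819, e3 q1773 (flp_b L27261) q1785, e3 q1774 L85862 q2824, e3 q1775 (flp_b L27083) q1162, e3 q1776 (flp_b L85874) q2827, e3 q1777 L85888 q2831, e3 q1778 (flp_b L85567) q2758, e3 q1779 L85894 q2833, e3 q1780 (flp_b L27227) q1165, e3 q1781 L85910 q2836, e3 q1782 L27235 q1167, e3 q1783 L83386 q1783, e3 q1784 (flp_b L85924) q2839, e3 q1785 L27261 q1773, e3 q1786 L85954 q2844, e3 q1787 (flp_b L27275) q1169, e3 q1788 (flp_b L85966) q2847, e3 q1789 L85980 q2851, e3 q1790 (flp_b L85782) q2809, e3 q1791 L85986 q2853, trivial⟩ (by decide +kernel)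

theorem ce_b_28 : ∀ r, r < 64 → sm gb (Qf (1792 + r)) = Qf (tab Gen.b (1792 + r)) :=
  edges_tab (sm gb) Qf (tab Gen.b) 1792 [(1792, 1792), (1793, 1399), (1794, 1173), (1795, 2856), (1796, 1206), (1797, 1175), (1798, 1272), (1799, 2862), (1800, 1586), (1801, 1176), (1802, 2865), (1803, 2866), (1804, 2871), (1805, 1805), (1806, 1390), (1807, 1180), (1808, 2874), (1809, 1214), (1810, 1182), (1811, 1276), (1812, 2880), (1813, 1603), (1814, 1183), (1815, 2883), (1816, 2884), (1817, 1569), (1818, 1558), (1819, 1199), (1820, 2891), (1821, 1200), (1822, 2893), (1823, 2896), (1824, 1824), (1825, 1203), (1826, 2901), (1827, 2899), (1828, 2859), (1829, 1205), (1830, 1207), (1831, 2905), (1832, 1208), (1833, 2907), (1834, 1834), (1835, 2909), (1836, 1211), (1837, 2913), (1838, 2911), (1839, 2877), (1840, 1213), (1841, 1217), (1842, 2920), (1843, 1219), (1844, 1844), (1845, 1845), (1846, 2929), (1847, 1221), (1848, 2936), (1849, 2938), (1850, 2940), (1851, 2941), (1852, 1222), (1853, 1223), (1854, 1224), (1855, 2950)]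
    ⟨e3 q1792 L27502 q1792, e3 q1793 L59757 q1399, e3 q1794 (flp_b L27532) q1173, e3 q1795 (flp_b L86011) q2856, e3 q1796 L52181 q1206, e3 q1797 L27562 q1175, e3 q1798 (flp_b L81895) q1272, e3 q1799 L86075 q2862, e3 q1800 L142534 q1586, e3 q1801 (flp_b L27604) q1176, e3 q1802 (flp_b L86093) q2865, e3 q1803 (flp_b L86097) q2866, e3 q1804 L86117 q2871, e3 q1805 L27836 q1805, e3 q1806 L59729 q1390, e3 q1807 (flp_b L27866) q1180, e3 q1808 (flp_b L86142) q2874, e3 q1809 L81872 q1214, e3 q1810 L27894 q1182, e3 q1811 L81889 q1276, e3 q1812 L86186 q2880, e3 q1813 L141980 q1603, e3 q1814 (flp_b L27936) q1183, e3 q1815 (flp_b L86204) q2883, e3 q1816 (flp_b L86208) q2884, e3 q1817 (flp_b L142199) q1569, e3 q1818 L142204 q1558, e3 q1819 (flp_b L29032) q1199, e3 q1820 L86645 q2891, e3 q1821 (flp_b L29063) q1200, e3 q1822 L86657 q2893, e3 q1823 L86684 q2896, e3 q1824 L29087 q1824, e3 q1825 (flp_b L29097) q1203, e3 q1826 L86741 q2901, e3 q1827 (flp_b L86715) q2899, e3 q1828 (flp_b L86039) q2859, e3 q1829 (flp_b L29115) q1205,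 e3 q1830 (flp_b L29198) q1207, e3 q1831 L86892 q2905, e3 q1832 (flp_b L29229) q1208, e3 q1833 L86904 q2907, e3 q1834 L29255 q1834, e3 q1835 L86935 q2909, e3 q1836 (flp_b L29267) q1211, e3 q1837 L86988 q2913, e3 q1838 (flp_b L86962) q2911, e3 q1839 (flp_b L86160) q2877, e3 q1840 (flp_b L29285) q1213, e3 q1841 (flp_b L32314) q1217, e3 q1842 L87959 q2920, e3 q1843 L32490 q1219, e3 q1844 L71986 q1844, e3 q1845 L83336 q1845, e3 q1846 L88004 q2929, e3 q1847 L32816 q1221, e3 q1848 L88050 q2936, e3 q1849 L88063 q2938, e3 q1850 L88078 q2940, e3 q1851 L88084 q2941, e3 q1852 (flp_b L32844) q1222, e3 q1853 (flp_b L32848) q1223, e3 q1854 (flp_b L33066) q1224, e3 q1855 L88126 q2950, trivial⟩ (by decide +kernel)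

theorem ce_b_29 : ∀ r, r < 64 → sm gb (Qf (1856 + r)) = Qf (tab Gen.b (1856 + r)) :=
  edges_tab (sm gb) Qf (tab Gen.b) 1856 [(1856, 2951), (1857, 1225), (1858, 2954), (1859, 1226), (1860, 2957), (1861, 2958), (1862, 2028), (1863, 2961), (1864, 2018), (1865, 1229), (1866, 2966), (1867, 2967), (1868, 1230), (1869, 1231), (1870, 2970), (1871, 2973), (1872, 2975), (1873, 1235), (1874, 1236), (1875, 2978), (1876, 2981), (1877, 2985), (1878, 1240), (1879, 2991), (1880, 2993), (1881, 2995), (1882, 2997), (1883, 1241), (1884, 3002), (1885, 1242), (1886, 3006), (1887, 3000), (1888, 1891), (1889, 1244), (1890, 3004), (1891, 1888), (1892, 1246), (1893, 1251), (1894, 3013), (1895, 3020), (1896, 3021), (1897, 2129), (1898, 1255), (1899, 3028), (1900, 3030), (1901, 1253), (1902, 3035), (1903, 1254), (1904, 3039), (1905, 3040), (1906, 3042), (1907, 1256), (1908, 3047), (1909, 1257), (1910, 3051), (1911, 3052), (1912, 1263), (1913, 3057), (1914, 1259), (1915, 3062), (1916, 1267), (1917, 3067), (1918, 1261), (1919, 3072)]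
    ⟨e3 q1856 L88130 q2951, e3 q1857 (flp_b L33082) q1225, e3 q1858 L88146 q2954, e3 q1859 (flp_b L33094) q1226, e3 q1860 L88162 q2957, e3 q1861 L88166 q2958, e3 q1862 (flp_b L39695) q2028, e3 q1863 L88188 q2961, e3 q1864 (flp_b L39649) q2018, e3 q1865 (flp_b L36475) q1229, e3 q1866 L88228 q2966, e3 q1867 L88232 q2967, e3 q1868 (flp_b L36500) q1230, e3 q1869 (flp_b L36506) q1231, e3 q1870 L88248 q2970, e3 q1871 L88272 q2973, e3 q1872 L88281 q2975, e3 q1873 (flp_b L36610) q1235, e3 q1874 (flp_b L36612) q1236, e3 q1875 (flp_b L88296) q2978, e3 q1876 (flp_b L88304) q2981, e3 q1877 L88318 q2985, e3 q1878 L36796 q1240, e3 q1879 L88350 q2991, e3 q1880 L88364 q2993, e3 q1881 L88380 q2995, e3 q1882 L88393 q2997, e3 q1883 (flp_b L36825) q1241, e3 q1884 L88422 q3002, e3 q1885 (flp_b L36837) q1242, e3 q1886 L88440 q3006, e3 q1887 (flp_b L88416) q3000, e3 q1888 (flp_b L82664) q1891, e3 q1889 (flp_b L36871) q1244, e3 q1890 (flp_b L88434) q3004, e3 q1891 L82664 q1888, e3 q1892 (flp_b L36897) q1246, e3 q1893 (flp_b L37157) q1251,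 e3 q1894 (flp_b L88496) q3013, e3 q1895 L88542 q3020, e3 q1896 L88544 q3021, e3 q1897 (flp_b L42910) q2129, e3 q1898 L37179 q1255, e3 q1899 L88572 q3028, e3 q1900 L88584 q3030, e3 q1901 (flp_b L37189) q1253, e3 q1902 L88610 q3035, e3 q1903 (flp_b L37199) q1254, e3 q1904 L88624 q3039, e3 q1905 L88626 q3040, e3 q1906 L88640 q3042, e3 q1907 (flp_b L37219) q1256, e3 q1908 L88666 q3047, e3 q1909 (flp_b L37231) q1257, e3 q1910 L88680 q3051, e3 q1911 L88684 q3052, e3 q1912 L37249 q1263, e3 q1913 L88704 q3057, e3 q1914 (flp_b L37253) q1259, e3 q1915 L88724 q3062, e3 q1916 L37259 q1267, e3 q1917 L88744 q3067, e3 q1918 (flp_b L37263) q1261, e3 q1919 L88764 q3072, trivial⟩ (by decide +kernel)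

theorem ce_b_30 : ∀ r, r < 64 → sm gb (Qf (1920 + r)) = Qf (tab Gen.b (1920 + r)) :=
  edges_tab (sm gb) Qf (tab Gen.b) 1920 [(1920, 3055), (1921, 3077), (1922, 3060), (1923, 3079), (1924, 3065), (1925, 3084), (1926, 3070), (1927, 1270), (1928, 3086), (1929, 3090), (1930, 1474), (1931, 2861), (1932, 1475), (1933, 1274), (1934, 3096), (1935, 3100), (1936, 1477), (1937, 2879), (1938, 1478), (1939, 1279), (1940, 3087), (1941, 1361), (1942, 1283), (1943, 3097), (1944, 1371), (1945, 1286), (1946, 3107), (1947, 3112), (1948, 3113), (1949, 2933), (1950, 3116), (1951, 3118), (1952, 1288), (1953, 3123), (1954, 1289), (1955, 3127), (1956, 1290), (1957, 3131), (1958, 1291), (1959, 3135), (1960, 3136), (1961, 1297), (1962, 3141), (1963, 1293), (1964, 3146), (1965, 1301), (1966, 3151), (1967, 1295), (1968, 1296), (1969, 3157), (1970, 3139), (1971, 3161), (1972, 1298), (1973, 1982), (1974, 1981), (1975, 3144), (1976, 1300), (1977, 3168), (1978, 3149), (1979, 3172), (1980, 1302), (1981, 1974), (1982, 1973), (1983, 3154)]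
    ⟨e3 q1920 (flp_b L88698) q3055, e3 q1921 L88785 q3077, e3 q1922 (flp_b L88718) q3060, e3 q1923 L88793 q3079, e3 q1924 (flp_b L88738) q3065, e3 q1925 L88816 q3084, e3 q1926 (flp_b L88758) q3070, e3 q1927 (flp_b L37359) q1270, e3 q1928 (flp_b L88831) q3086, e3 q1929 L88857 q3090, e3 q1930 L37376 q1474, e3 q1931 (flp_b L86073) q2861, e3 q1932 L37428 q1475, e3 q1933 (flp_b L37466) q1274, e3 q1934 (flp_b L88904) q3096, e3 q1935 L88930 q3100, e3 q1936 L37482 q1477, e3 q1937 (flp_b L86178) q2879, e3 q1938 L37546 q1478, e3 q1939 L37614 q1279, e3 q1940 L139265 q3087, e3 q1941 L139591 q1361, e3 q1942 L37972 q1283, e3 q1943 (flp_b L139708) q3097, e3 q1944 (flp_b L141180) q1371, e3 q1945 (flp_b L38660) q1286, e3 q1946 (flp_b L89018) q3107, e3 q1947 L89046 q3112, e3 q1948 L89050 q3113, e3 q1949 (flp_b L88034) q2933, e3 q1950 L89070 q3116, e3 q1951 L89082 q3118, e3 q1952 (flp_b L38690) q1288, e3 q1953 L89112 q3123, e3 q1954 (flp_b L38702) q1289, e3 q1955 L89132 q3127, e3 q1956 (flp_b L38716) q1290, e3 q1957 L89146 q3131,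 e3 q1958 (flp_b L38726) q1291, e3 q1959 L89160 q3135, e3 q1960 L89166 q3136, e3 q1961 L38748 q1297, e3 q1962 L89194 q3141, e3 q1963 (flp_b L38754) q1293, e3 q1964 L89224 q3146, e3 q1965 L38766 q1301, e3 q1966 L89252 q3151, e3 q1967 (flp_b L38772) q1295, e3 q1968 (flp_b L38776) q1296, e3 q1969 L89290 q3157, e3 q1970 (flp_b L89186) q3139, e3 q1971 L89306 q3161, e3 q1972 (flp_b L38806) q1298, e3 q1973 L82761 q1982, e3 q1974 (flp_b L71777) q1981, e3 q1975 (flp_b L89216) q3144, e3 q1976 (flp_b L38842) q1300, e3 q1977 L89354 q3168, e3 q1978 (flp_b L89244) q3149, e3 q1979 L89370 q3172, e3 q1980 (flp_b L38872) q1302, e3 q1981 L71777 q1974, e3 q1982 (flp_b L82761) q1973, e3 q1983 (flp_b L89274) q3154, trivial⟩ (by decide +kernel)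

theorem ce_b_31 : ∀ r, r < 64 → sm gb (Qf (1984 + r)) = Qf (tab Gen.b (1984 + r)) :=
  edges_tab (sm gb) Qf (tab Gen.b) 1984 [(1984, 3178), (1985, 1990), (1986, 1992), (1987, 1991), (1988, 1988), (1989, 3184), (1990, 1985), (1991, 1987), (1992, 1986), (1993, 1993), (1994, 3190), (1995, 3191), (1996, 2946), (1997, 3194), (1998, 3196), (1999, 1323), (2000, 1324), (2001, 3204), (2002, 3033), (2003, 3208), (2004, 1326), (2005, 3212), (2006, 3037), (2007, 3216), (2008, 1328), (2009, 1329), (2010, 3224), (2011, 3227), (2012, 1339), (2013, 3230), (2014, 1331), (2015, 3235), (2016, 3236), (2017, 1344), (2018, 1864), (2019, 1333), (2020, 3246), (2021, 3249), (2022, 1347), (2023, 3252), (2024, 1335), (2025, 3257), (2026, 3258), (2027, 1352), (2028, 1862), (2029, 3264), (2030, 1338), (2031, 3267), (2032, 3271), (2033, 3228), (2034, 3275), (2035, 1340), (2036, 3280), (2037, 2049), (2038, 3278), (2039, 3283), (2040, 3239), (2041, 3287), (2042, 1346), (2043, 3290), (2044, 3294), (2045, 3250), (2046, 3298), (2047, 1348)]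
    ⟨e3 q1984 L89412 q3178, e3 q1985 L71637 q1990, e3 q1986 L82759 q1992, e3 q1987 (flp_b L82697) q1991, e3 q1988 L71757 q1988, e3 q1989 L89453 q3184, e3 q1990 (flp_b L71637) q1985, e3 q1991 L82697 q1987, e3 q1992 (flp_b L82759) q1986, e3 q1993 L71950 q1993, e3 q1994 L89498 q3190, e3 q1995 L89534 q3191, e3 q1996 (flp_b L88114) q2946, e3 q1997 L89594 q3194, e3 q1998 L89602 q3196, e3 q1999 (flp_b L39583) q1323, e3 q2000 (flp_b L39585) q1324, e3 q2001 L89626 q3204, e3 q2002 (flp_b L88606) q3033, e3 q2003 L89642 q3208, e3 q2004 (flp_b L39597) q1326, e3 q2005 L89654 q3212, e3 q2006 (flp_b L88620) q3037, e3 q2007 L89670 q3216, e3 q2008 (flp_b L39609) q1328, e3 q2009 (flp_b L39611) q1329, e3 q2010 L89690 q3224, e3 q2011 L89706 q3227, e3 q2012 L39625 q1339, e3 q2013 L89716 q3230, e3 q2014 (flp_b L39631) q1331, e3 q2015 L89738 q3235, e3 q2016 L89740 q3236, e3 q2017 L39645 q1344, e3 q2018 L39649 q1864, e3 q2019 (flp_b L39651) q1333, e3 q2020 L89775 q3246, e3 q2021 L89791 q3249, e3 q2022 L39665 q1347, e3 q2023 L89801 q3252,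 e3 q2024 (flp_b L39671) q1335, e3 q2025 L89827 q3257, e3 q2026 L89829 q3258, e3 q2027 L39689 q1352, e3 q2028 L39695 q1862, e3 q2029 L89862 q3264, e3 q2030 (flp_b L39711) q1338, e3 q2031 (flp_b L89877) q3267, e3 q2032 L89887 q3271, e3 q2033 (flp_b L89710) q3228, e3 q2034 L89903 q3275, e3 q2035 (flp_b L39737) q1340, e3 q2036 L89923 q3280, e3 q2037 L71644 q2049, e3 q2038 (flp_b L89919) q3278, e3 q2039 L89937 q3283, e3 q2040 (flp_b L89754) q3239, e3 q2041 L89950 q3287, e3 q2042 (flp_b L39809) q1346, e3 q2043 (flp_b L89965) q3290, e3 q2044 L89975 q3294, e3 q2045 (flp_b L89795) q3250, e3 q2046 L89991 q3298, e3 q2047 (flp_b L39835) q1348, trivial⟩ (by decide +kernel)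

theorem ce_b_32 : ∀ r, r < 64 → sm gb (Qf (2048 + r)) = Qf (tab Gen.b (2048 + r)) :=
  edges_tab (sm gb) Qf (tab Gen.b) 2048 [(2048, 3303), (2049, 2037), (2050, 3301), (2051, 3306), (2052, 3261), (2053, 3310), (2054, 2054), (2055, 1354), (2056, 3313), (2057, 3314), (2058, 3321), (2059, 3323), (2060, 1356), (2061, 3324), (2062, 1606), (2063, 1374), (2064, 1358), (2065, 2108), (2066, 3095), (2067, 3329), (2068, 1393), (2069, 3332), (2070, 2070), (2071, 1364), (2072, 3335), (2073, 3336), (2074, 3343), (2075, 3345), (2076, 1366), (2077, 3346), (2078, 1607), (2079, 1380), (2080, 1368), (2081, 2095), (2082, 3105), (2083, 3351), (2084, 1402), (2085, 3354), (2086, 1386), (2087, 1576), (2088, 3362), (2089, 3358), (2090, 3365), (2091, 1387), (2092, 1388), (2093, 2873), (2094, 3367), (2095, 2081), (2096, 1392), (2097, 3374), (2098, 3378), (2099, 1395), (2100, 3385), (2101, 1594), (2102, 3382), (2103, 3389), (2104, 1396), (2105, 1397), (2106, 2855), (2107, 3391), (2108, 2065), (2109, 1401), (2110, 3398), (2111, 1405)]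
    ⟨e3 q2048 L90011 q3303, e3 q2049 (flp_b L71644) q2037, e3 q2050 (flp_b L90007) q3301, e3 q2051 L90027 q3306, e3 q2052 (flp_b L89847) q3261, e3 q2053 L90042 q3310, e3 q2054 L71969 q2054, e3 q2055 (flp_b L39983) q1354, e3 q2056 (flp_b L90059) q3313, e3 q2057 (flp_b L90063) q3314, e3 q2058 L90097 q3321, e3 q2059 L90107 q3323, e3 q2060 (flp_b L40007) q1356, e3 q2061 L139281 q3324, e3 q2062 (flp_b L142068) q1606, e3 q2063 (flp_b L139229) q1374, e3 q2064 (flp_b L40035) q1358, e3 q2065 (flp_b L41444) q2108, e3 q2066 L141801 q3095, e3 q2067 L90202 q3329, e3 q2068 L40123 q1393, e3 q2069 L90218 q3332, e3 q2070 L82662 q2070, e3 q2071 (flp_b L40231) q1364, e3 q2072 (flp_b L90235) q3335, e3 q2073 (flp_b L90239) q3336, e3 q2074 L90273 q3343, e3 q2075 L90283 q3345, e3 q2076 (flp_b L40255) q1366, e3 q2077 L139767 q3346, e3 q2078 (flp_b L142076) q1607, e3 q2079 (flp_b L141872) q1380, e3 q2080 (flp_b L40281) q1368, e3 q2081 (flp_b L41306) q2095, e3 q2082 L141169 q3105, e3 q2083 L90386 q3351, e3 q2084 L40373 q1402, e3 q2085 L90600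 q3354, e3 q2086 L41270 q1386, e3 q2087 L41274 q1576, e3 q2088 L90632 q3362, e3 q2089 (flp_b L90616) q3358, e3 q2090 L90646 q3365, e3 q2091 (flp_b L41288) q1387, e3 q2092 (flp_b L41290) q1388, e3 q2093 (flp_b L86134) q2873, e3 q2094 (flp_b L90654) q3367, e3 q2095 L41306 q2081, e3 q2096 (flp_b L41322) q1392, e3 q2097 (flp_b L90700) q3374, e3 q2098 L90720 q3378, e3 q2099 L41406 q1395, e3 q2100 L90748 q3385, e3 q2101 L41412 q1594, e3 q2102 (flp_b L90736) q3382, e3 q2103 L90770 q3389, e3 q2104 (flp_b L41426) q1396, e3 q2105 (flp_b L41428) q1397, e3 q2106 (flp_b L86003) q2855, e3 q2107 (flp_b L90778) q3391, e3 q2108 L41444 q2065, e3 q2109 (flp_b L41470) q1401, e3 q2110 (flp_b L90826) q3398, e3 q2111 (flp_b L42378) q1405, trivial⟩ (by decide +kernel)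

theorem ce_b_33 : ∀ r, r < 64 → sm gb (Qf (2112 + r)) = Qf (tab Gen.b (2112 + r)) :=
  edges_tab (sm gb) Qf (tab Gen.b) 2112 [(2112, 1689), (2113, 1407), (2114, 2114), (2115, 2115), (2116, 3413), (2117, 1409), (2118, 3418), (2119, 3420), (2120, 1509), (2121, 3424), (2122, 3425), (2123, 1410), (2124, 1411), (2125, 1412), (2126, 3430), (2127, 3436), (2128, 3437), (2129, 1897), (2130, 1416), (2131, 3444), (2132, 3446), (2133, 1414), (2134, 3450), (2135, 1415), (2136, 3453), (2137, 3454), (2138, 3455), (2139, 1417), (2140, 1418), (2141, 3462), (2142, 2226), (2143, 3465), (2144, 2216), (2145, 3468), (2146, 3469), (2147, 1422), (2148, 3473), (2149, 1423), (2150, 3477), (2151, 3478), (2152, 3480), (2153, 1425), (2154, 3485), (2155, 1426), (2156, 3489), (2157, 3490), (2158, 1431), (2159, 3495), (2160, 1428), (2161, 3500), (2162, 1433), (2163, 3505), (2164, 1430), (2165, 3493), (2166, 1503), (2167, 3498), (2168, 3503), (2169, 1499), (2170, 3508), (2171, 1686), (2172, 2172), (2173, 1684), (2174, 2174), (2175, 3520)]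
    ⟨e3 q2112 (flp_b L72428) q1689, e3 q2113 L42502 q1407, e3 q2114 L70994 q2114, e3 q2115 L83337 q2115, e3 q2116 L90971 q3413, e3 q2117 L42658 q1409, e3 q2118 L91009 q3418, e3 q2119 L91022 q3420, e3 q2120 L72396 q1509, e3 q2121 L91057 q3424, e3 q2122 L91061 q3425, e3 q2123 (flp_b L42692) q1410, e3 q2124 (flp_b L42696) q1411, e3 q2125 (flp_b L42894) q1412, e3 q2126 (flp_b L91089) q3430, e3 q2127 L91121 q3436, e3 q2128 L91123 q3437, e3 q2129 L42910 q1897, e3 q2130 L42914 q1416, e3 q2131 L91155 q3444, e3 q2132 L91167 q3446, e3 q2133 (flp_b L42924) q1414, e3 q2134 L91189 q3450, e3 q2135 (flp_b L42932) q1415, e3 q2136 L91199 q3453, e3 q2137 L91201 q3454, e3 q2138 L91205 q3455, e3 q2139 (flp_b L42958) q1417, e3 q2140 (flp_b L42962) q1418, e3 q2141 L91233 q3462, e3 q2142 (flp_b L44233) q2226, e3 q2143 L91249 q3465, e3 q2144 (flp_b L44193) q2216, e3 q2145 L91265 q3468, e3 q2146 L91273 q3469, e3 q2147 (flp_b L43318) q1422, e3 q2148 L91299 q3473, e3 q2149 (flp_b L43332) q1423, e3 q2150 L91321 q3477, e3 q2151 L91327 q3478,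 e3 q2152 L91343 q3480, e3 q2153 (flp_b L43360) q1425, e3 q2154 L91373 q3485, e3 q2155 (flp_b L43370) q1426, e3 q2156 L91387 q3489, e3 q2157 L91391 q3490, e3 q2158 L43392 q1431, e3 q2159 L91419 q3495, e3 q2160 (flp_b L43398) q1428, e3 q2161 L91449 q3500, e3 q2162 L43410 q1433, e3 q2163 L91477 q3505, e3 q2164 (flp_b L43416) q1430, e3 q2165 (flp_b L91411) q3493, e3 q2166 L70506 q1503, e3 q2167 (flp_b L91441) q3498, e3 q2168 (flp_b L91469) q3503, e3 q2169 L81156 q1499, e3 q2170 (flp_b L91499) q3508, e3 q2171 (flp_b L82671) q1686, e3 q2172 L43601 q2172, e3 q2173 L81257 q1684, e3 q2174 L43699 q2174, e3 q2175 L91605 q3520, trivial⟩ (by decide +kernel)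

theorem ce_b_34 : ∀ r, r < 64 → sm gb (Qf (2176 + r)) = Qf (tab Gen.b (2176 + r)) :=
  edges_tab (sm gb) Qf (tab Gen.b) 2176 [(2176, 3521), (2177, 1442), (2178, 1443), (2179, 1444), (2180, 3531), (2181, 1445), (2182, 3535), (2183, 3536), (2184, 1515), (2185, 3540), (2186, 1447), (2187, 3544), (2188, 1519), (2189, 3548), (2190, 1449), (2191, 3552), (2192, 3553), (2193, 1451), (2194, 1452), (2195, 1453), (2196, 3563), (2197, 1454), (2198, 3567), (2199, 3568), (2200, 3555), (2201, 3573), (2202, 1456), (2203, 3578), (2204, 3558), (2205, 3583), (2206, 1458), (2207, 1459), (2208, 3592), (2209, 3595), (2210, 1467), (2211, 2829), (2212, 1461), (2213, 3603), (2214, 3604), (2215, 1469), (2216, 2144), (2217, 1463), (2218, 3614), (2219, 3617), (2220, 1470), (2221, 2848), (2222, 1465), (2223, 3625), (2224, 3626), (2225, 1472), (2226, 2142), (2227, 3632), (2228, 3597), (2229, 3634), (2230, 3607), (2231, 3638), (2232, 3619), (2233, 3640), (2234, 3629), (2235, 1473), (2236, 3645), (2237, 3646), (2238, 3651), (2239, 1476)]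
    ⟨e3 q2176 L91613 q3521, e3 q2177 (flp_b L43990) q1442, e3 q2178 (flp_b L43992) q1443, e3 q2179 (flp_b L44002) q1444, e3 q2180 L91682 q3531, e3 q2181 (flp_b L44014) q1445, e3 q2182 L91700 q3535, e3 q2183 L91706 q3536, e3 q2184 L44038 q1515, e3 q2185 L91724 q3540, e3 q2186 (flp_b L44042) q1447, e3 q2187 L91738 q3544, e3 q2188 L44052 q1519, e3 q2189 L91756 q3548, e3 q2190 (flp_b L44056) q1449, e3 q2191 L91770 q3552, e3 q2192 L91778 q3553, e3 q2193 (flp_b L44097) q1451, e3 q2194 (flp_b L44101) q1452, e3 q2195 (flp_b L44105) q1453, e3 q2196 L91824 q3563, e3 q2197 (flp_b L44115) q1454, e3 q2198 L91840 q3567, e3 q2199 L91844 q3568, e3 q2200 (flp_b L91792) q3555, e3 q2201 L91866 q3573, e3 q2202 (flp_b L44137) q1456, e3 q2203 L91892 q3578, e3 q2204 (flp_b L91804) q3558, e3 q2205 L91914 q3583, e3 q2206 (flp_b L44151) q1458, e3 q2207 (flp_b L44155) q1459, e3 q2208 L91948 q3592, e3 q2209 L91962 q3595, e3 q2210 L44169 q1467, e3 q2211 (flp_b L85880) q2829, e3 q2212 (flp_b L44175) q1461, e3 q2213 L91992 q3603, e3 q2214 L91994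 q3604, e3 q2215 L44189 q1469, e3 q2216 L44193 q2144, e3 q2217 (flp_b L44195) q1463, e3 q2218 L92029 q3614, e3 q2219 L92043 q3617, e3 q2220 L44209 q1470, e3 q2221 (flp_b L85970) q2848, e3 q2222 (flp_b L44215) q1465, e3 q2223 L92073 q3625, e3 q2224 L92075 q3626, e3 q2225 L44229 q1472, e3 q2226 L44233 q2142, e3 q2227 L92102 q3632, e3 q2228 (flp_b L91968) q3597, e3 q2229 L92114 q3634, e3 q2230 (flp_b L92008) q3607, e3 q2231 L92129 q3638, e3 q2232 (flp_b L92049) q3619, e3 q2233 L92141 q3640, e3 q2234 (flp_b L92089) q3629, e3 q2235 (flp_b L44412) q1473, e3 q2236 (flp_b L92160) q3645, e3 q2237 (flp_b L92164) q3646, e3 q2238 L92215 q3651, e3 q2239 (flp_b L44573) q1476, trivial⟩ (by decide +kernel)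

theorem ce_b_35 : ∀ r, r < 64 → sm gb (Qf (2240 + r)) = Qf (tab Gen.b (2240 + r)) :=
  edges_tab (sm gb) Qf (tab Gen.b) 2240 [(2240, 3654), (2241, 3655), (2242, 3660), (2243, 1618), (2244, 1480), (2245, 3666), (2246, 3668), (2247, 3670), (2248, 3673), (2249, 3674), (2250, 1481), (2251, 1482), (2252, 3681), (2253, 3683), (2254, 1484), (2255, 3688), (2256, 1485), (2257, 3692), (2258, 3693), (2259, 3471), (2260, 3697), (2261, 1487), (2262, 3701), (2263, 3475), (2264, 3705), (2265, 1489), (2266, 3709), (2267, 2267), (2268, 2567), (2269, 3715), (2270, 2270), (2271, 2557), (2272, 1492), (2273, 3724), (2274, 3727), (2275, 1500), (2276, 3731), (2277, 3733), (2278, 1495), (2279, 3737), (2280, 3740), (2281, 1504), (2282, 3744), (2283, 3746), (2284, 1498), (2285, 3748), (2286, 3752), (2287, 3729), (2288, 3754), (2289, 1501), (2290, 1502), (2291, 3758), (2292, 3762), (2293, 3742), (2294, 3764), (2295, 1505), (2296, 1506), (2297, 3768), (2298, 1507), (2299, 3773), (2300, 3777), (2301, 3778), (2302, 3779), (2303, 3781)]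
    ⟨e3 q2240 (flp_b L92233) q3654, e3 q2241 (flp_b L92237) q3655, e3 q2242 L92288 q3660, e3 q2243 L45108 q1618, e3 q2244 L45116 q1480, e3 q2245 L92442 q3666, e3 q2246 L92454 q3668, e3 q2247 L92468 q3670, e3 q2248 L92491 q3673, e3 q2249 L92497 q3674, e3 q2250 (flp_b L45150) q1481, e3 q2251 (flp_b L45154) q1482, e3 q2252 L92533 q3681, e3 q2253 L92548 q3683, e3 q2254 (flp_b L45173) q1484, e3 q2255 L92585 q3688, e3 q2256 (flp_b L45189) q1485, e3 q2257 L92611 q3692, e3 q2258 L92617 q3693, e3 q2259 (flp_b L91293) q3471, e3 q2260 L92639 q3697, e3 q2261 (flp_b L45223) q1487, e3 q2262 L92659 q3701, e3 q2263 (flp_b L91315) q3475, e3 q2264 L92681 q3705, e3 q2265 (flp_b L45243) q1489, e3 q2266 L92701 q3709, e3 q2267 L45257 q2267, e3 q2268 (flp_b L84667) q2567, e3 q2269 L92742 q3715, e3 q2270 L45274 q2270, e3 q2271 (flp_b L84609) q2557, e3 q2272 (flp_b L45281) q1492, e3 q2273 L92799 q3724, e3 q2274 L92821 q3727, e3 q2275 L45301 q1500, e3 q2276 L92837 q3731, e3 q2277 L92853 q3733, e3 q2278 (flp_b L45317) q1495, e3 q2279 L92875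 q3737, e3 q2280 L92893 q3740, e3 q2281 L45337 q1504, e3 q2282 L92909 q3744, e3 q2283 L92925 q3746, e3 q2284 (flp_b L45377) q1498, e3 q2285 (flp_b L92936) q3748, e3 q2286 L92954 q3752, e3 q2287 (flp_b L92829) q3729, e3 q2288 L92966 q3754, e3 q2289 (flp_b L45411) q1501, e3 q2290 (flp_b L45455) q1502, e3 q2291 (flp_b L92989) q3758, e3 q2292 L93007 q3762, e3 q2293 (flp_b L92901) q3742, e3 q2294 L93019 q3764, e3 q2295 (flp_b L45489) q1505, e3 q2296 (flp_b L45621) q1506, e3 q2297 (flp_b L93045) q3768, e3 q2298 (flp_b L45797) q1507, e3 q2299 (flp_b L93083) q3773, e3 q2300 L93113 q3777, e3 q2301 L93119 q3778, e3 q2302 L93125 q3779, e3 q2303 L93133 q3781, trivial⟩ (by decide +kernel)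

theorem ce_b_36 : ∀ r, r < 64 → sm gb (Qf (2304 + r)) = Qf (tab Gen.b (2304 + r)) :=
  edges_tab (sm gb) Qf (tab Gen.b) 2304 [(2304, 1510), (2305, 3784), (2306, 1511), (2307, 3786), (2308, 3787), (2309, 3523), (2310, 2329), (2311, 3790), (2312, 3526), (2313, 2321), (2314, 1514), (2315, 3797), (2316, 3538), (2317, 3802), (2318, 1516), (2319, 3806), (2320, 3542), (2321, 2313), (2322, 1518), (2323, 3816), (2324, 3546), (2325, 3821), (2326, 1520), (2327, 3825), (2328, 3550), (2329, 2310), (2330, 1721), (2331, 3795), (2332, 3834), (2333, 1523), (2334, 3836), (2335, 3841), (2336, 1524), (2337, 3845), (2338, 1538), (2339, 3849), (2340, 1526), (2341, 3853), (2342, 1527), (2343, 1744), (2344, 3859), (2345, 3815), (2346, 1529), (2347, 3862), (2348, 3867), (2349, 1530), (2350, 3871), (2351, 1545), (2352, 3875), (2353, 1532), (2354, 3879), (2355, 1533), (2356, 3883), (2357, 1535), (2358, 2820), (2359, 3892), (2360, 3888), (2361, 3895), (2362, 1536), (2363, 1537), (2364, 3899), (2365, 3904), (2366, 3905), (2367, 1539)]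
    ⟨e3 q2304 (flp_b L46357) q1510, e3 q2305 L93147 q3784, e3 q2306 (flp_b L46369) q1511, e3 q2307 L93165 q3786, e3 q2308 L93169 q3787, e3 q2309 (flp_b L91656) q3523, e3 q2310 (flp_b L46473) q2329, e3 q2311 L93195 q3790, e3 q2312 (flp_b L91664) q3526, e3 q2313 (flp_b L46437) q2321, e3 q2314 (flp_b L46403) q1514, e3 q2315 L93241 q3797, e3 q2316 (flp_b L91716) q3538, e3 q2317 L93261 q3802, e3 q2318 (flp_b L46421) q1516, e3 q2319 L93277 q3806, e3 q2320 (flp_b L91732) q3542, e3 q2321 L46437 q2313, e3 q2322 (flp_b L46439) q1518, e3 q2323 L93327 q3816, e3 q2324 (flp_b L91748) q3546, e3 q2325 L93347 q3821, e3 q2326 (flp_b L46457) q1520, e3 q2327 L93363 q3825, e3 q2328 (flp_b L91764) q3550, e3 q2329 L46473 q2310, e3 q2330 L46479 q1721, e3 q2331 (flp_b L93235) q3795, e3 q2332 L93419 q3834, e3 q2333 (flp_b L46491) q1523, e3 q2334 (flp_b L93439) q3836, e3 q2335 L93466 q3841, e3 q2336 (flp_b L46505) q1524, e3 q2337 L93482 q3845, e3 q2338 L46513 q1538, e3 q2339 L93498 q3849, e3 q2340 (flp_b L46519) q1526, e3 q2341 L93518 q3853,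 e3 q2342 (flp_b L46531) q1527, e3 q2343 L46539 q1744, e3 q2344 L93562 q3859, e3 q2345 (flp_b L93325) q3815, e3 q2346 (flp_b L46551) q1529, e3 q2347 (flp_b L93586) q3862, e3 q2348 L93605 q3867, e3 q2349 (flp_b L46565) q1530, e3 q2350 L93621 q3871, e3 q2351 L46573 q1545, e3 q2352 L93637 q3875, e3 q2353 (flp_b L46579) q1532, e3 q2354 L93657 q3879, e3 q2355 (flp_b L46591) q1533, e3 q2356 L93671 q3883, e3 q2357 L46649 q1535, e3 q2358 (flp_b L85838) q2820, e3 q2359 L93710 q3892, e3 q2360 (flp_b L93695) q3888, e3 q2361 L93729 q3895, e3 q2362 (flp_b L46667) q1536, e3 q2363 (flp_b L46679) q1537, e3 q2364 (flp_b L93743) q3899, e3 q2365 L93759 q3904, e3 q2366 L93761 q3905, e3 q2367 (flp_b L46693) q1539, trivial⟩ (by decide +kernel)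

theorem ce_b_37 : ∀ r, r < 64 → sm gb (Qf (2368 + r)) = Qf (tab Gen.b (2368 + r)) :=
  edges_tab (sm gb) Qf (tab Gen.b) 2368 [(2368, 3909), (2369, 1742), (2370, 3912), (2371, 1542), (2372, 3920), (2373, 2840), (2374, 3917), (2375, 3924), (2376, 1543), (2377, 1544), (2378, 3928), (2379, 3932), (2380, 3933), (2381, 1546), (2382, 3937), (2383, 1765), (2384, 3940), (2385, 1549), (2386, 3018), (2387, 3943), (2388, 3944), (2389, 1553), (2390, 1554), (2391, 3647), (2392, 3956), (2393, 3949), (2394, 3960), (2395, 3952), (2396, 3963), (2397, 1555), (2398, 1556), (2399, 2876), (2400, 3965), (2401, 3970), (2402, 1560), (2403, 3019), (2404, 3973), (2405, 3974), (2406, 1564), (2407, 1565), (2408, 3985), (2409, 3657), (2410, 3979), (2411, 3990), (2412, 3982), (2413, 3993), (2414, 1566), (2415, 1567), (2416, 2858), (2417, 3995), (2418, 4000), (2419, 1573), (2420, 2484), (2421, 3400), (2422, 2425), (2423, 1574), (2424, 4006), (2425, 2422), (2426, 4010), (2427, 1578), (2428, 3359), (2429, 4014), (2430, 4015), (2431, 1577)]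
    ⟨e3 q2368 L93777 q3909, e3 q2369 L83380 q1742, e3 q2370 L93795 q3912, e3 q2371 L46777 q1542, e3 q2372 L93825 q3920, e3 q2373 (flp_b L85930) q2840, e3 q2374 (flp_b L93815) q3917, e3 q2375 L93849 q3924, e3 q2376 (flp_b L46795) q1543, e3 q2377 (flp_b L46807) q1544, e3 q2378 (flp_b L93863) q3928, e3 q2379 L93879 q3932, e3 q2380 L93881 q3933, e3 q2381 (flp_b L46821) q1546, e3 q2382 L93897 q3937, e3 q2383 L83384 q1765, e3 q2384 L93915 q3940, e3 q2385 (flp_b L46973) q1549, e3 q2386 L119284 q3018, e3 q2387 L93984 q3943, e3 q2388 L94006 q3944, e3 q2389 L47039 q1553, e3 q2390 L47043 q1554, e3 q2391 (flp_b L92168) q3647, e3 q2392 L94070 q3956, e3 q2393 (flp_b L94038) q3949, e3 q2394 L94098 q3960, e3 q2395 (flp_b L94050) q3952, e3 q2396 L94120 q3963, e3 q2397 (flp_b L47077) q1555, e3 q2398 (flp_b L47087) q1556, e3 q2399 L142194 q2876, e3 q2400 (flp_b L94128) q3965, e3 q2401 L94166 q3970, e3 q2402 (flp_b L47310) q1560, e3 q2403 L148260 q3019, e3 q2404 L94235 q3973, e3 q2405 L94257 q3974, e3 q2406 L47378 q1564, e3 q2407 L47382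 q1565, e3 q2408 L94315 q3985, e3 q2409 (flp_b L92243) q3657, e3 q2410 (flp_b L94289) q3979, e3 q2411 L94349 q3990, e3 q2412 (flp_b L94301) q3982, e3 q2413 L94371 q3993, e3 q2414 (flp_b L47416) q1566, e3 q2415 (flp_b L47426) q1567, e3 q2416 L142007 q2858, e3 q2417 (flp_b L94379) q3995, e3 q2418 L94417 q4000, e3 q2419 L83818 q1573, e3 q2420 (flp_b L84214) q2484, e3 q2421 (flp_b L90838) q3400, e3 q2422 L120109 q2425, e3 q2423 (flp_b L83839) q1574, e3 q2424 (flp_b L94478) q4006, e3 q2425 (flp_b L120109) q2422, e3 q2426 L94502 q4010, e3 q2427 L83855 q1578, e3 q2428 (flp_b L90622) q3359, e3 q2429 L94520 q4014, e3 q2430 L94534 q4015, e3 q2431 (flp_b L83869) q1577, trivial⟩ (by decide +kernel)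

theorem ce_b_38 : ∀ r, r < 64 → sm gb (Qf (2432 + r)) = Qf (tab Gen.b (2432 + r)) :=
  edges_tab (sm gb) Qf (tab Gen.b) 2432 [(2432, 4019), (2433, 4007), (2434, 4021), (2435, 1579), (2436, 4025), (2437, 4026), (2438, 1585), (2439, 4031), (2440, 1581), (2441, 3325), (2442, 4023), (2443, 1584), (2444, 4039), (2445, 4029), (2446, 4044), (2447, 4034), (2448, 4046), (2449, 1590), (2450, 3375), (2451, 2493), (2452, 2456), (2453, 1591), (2454, 4052), (2455, 4056), (2456, 2452), (2457, 1595), (2458, 4059), (2459, 3384), (2460, 1593), (2461, 4064), (2462, 4065), (2463, 4054), (2464, 4067), (2465, 1596), (2466, 4071), (2467, 4072), (2468, 1602), (2469, 4077), (2470, 1598), (2471, 3347), (2472, 4069), (2473, 1601), (2474, 4085), (2475, 4075), (2476, 4090), (2477, 4080), (2478, 4092), (2479, 1609), (2480, 4095), (2481, 4100), (2482, 1611), (2483, 4103), (2484, 2420), (2485, 4035), (2486, 4108), (2487, 1614), (2488, 4111), (2489, 4116), (2490, 1616), (2491, 4119), (2492, 4081), (2493, 2451), (2494, 3402), (2495, 4127)]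
    ⟨e3 q2432 L94546 q4019, e3 q2433 L120216 q4007, e3 q2434 L94566 q4021, e3 q2435 (flp_b L83893) q1579, e3 q2436 L94584 q4025, e3 q2437 L94588 q4026, e3 q2438 L83911 q1585, e3 q2439 L94608 q4031, e3 q2440 (flp_b L83915) q1581, e3 q2441 (flp_b L141120) q3325, e3 q2442 (flp_b L94578) q4023, e3 q2443 (flp_b L83941) q1584, e3 q2444 L94666 q4039, e3 q2445 (flp_b L94602) q4029, e3 q2446 L94686 q4044, e3 q2447 (flp_b L94626) q4034, e3 q2448 L94696 q4046, e3 q2449 L83974 q1590, e3 q2450 (flp_b L90706) q3375, e3 q2451 (flp_b L84265) q2493, e3 q2452 (flp_b L148440) q2456, e3 q2453 (flp_b L83995) q1591, e3 q2454 (flp_b L94757) q4052, e3 q2455 L94779 q4056, e3 q2456 L148440 q2452, e3 q2457 L84011 q1595, e3 q2458 L94793 q4059, e3 q2459 (flp_b L90746) q3384, e3 q2460 (flp_b L84021) q1593, e3 q2461 L94823 q4064, e3 q2462 L94825 q4065, e3 q2463 (flp_b L146434) q4054, e3 q2464 L94845 q4067, e3 q2465 (flp_b L84049) q1596, e3 q2466 L94863 q4071, e3 q2467 L94867 q4072, e3 q2468 L84067 q1602, e3 q2469 L94887 q4077, e3 q2470 (flp_b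 L84071) q1598, e3 q2471 (flp_b L142025) q3347, e3 q2472 (flp_b L94857) q4069, e3 q2473 (flp_b L84097) q1601, e3 q2474 L94947 q4085, e3 q2475 (flp_b L94881) q4075, e3 q2476 L94973 q4090, e3 q2477 (flp_b L94905) q4080, e3 q2478 L95031 q4092, e3 q2479 (flp_b L84187) q1609, e3 q2480 (flp_b L95056) q4095, e3 q2481 L95079 q4100, e3 q2482 (flp_b L84202) q1611, e3 q2483 L95095 q4103, e3 q2484 L84214 q2420, e3 q2485 (flp_b L94632) q4035, e3 q2486 L95125 q4108, e3 q2487 (flp_b L84234) q1614, e3 q2488 (flp_b L95150) q4111, e3 q2489 L95173 q4116, e3 q2490 (flp_b L84249) q1616, e3 q2491 L95189 q4119, e3 q2492 (flp_b L94911) q4081, e3 q2493 L84265 q2451, e3 q2494 L90898 q3402, e3 q2495 L95245 q4127, trivial⟩ (by decide +kernel)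

theorem ce_b_39 : ∀ r, r < 64 → sm gb (Qf (2496 + r)) = Qf (tab Gen.b (2496 + r)) :=
  edges_tab (sm gb) Qf (tab Gen.b) 2496 [(2496, 4128), (2497, 2497), (2498, 4132), (2499, 4134), (2500, 4136), (2501, 4138), (2502, 1621), (2503, 4143), (2504, 1622), (2505, 4147), (2506, 1623), (2507, 4149), (2508, 4154), (2509, 4155), (2510, 1624), (2511, 1625), (2512, 4162), (2513, 2513), (2514, 2547), (2515, 4168), (2516, 2516), (2517, 2539), (2518, 4174), (2519, 4176), (2520, 1629), (2521, 4180), (2522, 1630), (2523, 4183), (2524, 4184), (2525, 4178), (2526, 4188), (2527, 1632), (2528, 4192), (2529, 4181), (2530, 4196), (2531, 1634), (2532, 1635), (2533, 4202), (2534, 2534), (2535, 4207), (2536, 1637), (2537, 4211), (2538, 2538), (2539, 2517), (2540, 1639), (2541, 4219), (2542, 2542), (2543, 4224), (2544, 1641), (2545, 4228), (2546, 2546), (2547, 2514), (2548, 1643), (2549, 4236), (2550, 4239), (2551, 2551), (2552, 4243), (2553, 1645), (2554, 4248), (2555, 4249), (2556, 2556), (2557, 2271), (2558, 1647), (2559, 4257)]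
    ⟨e3 q2496 L95249 q4128, e3 q2497 L84291 q2497, e3 q2498 L95274 q4132, e3 q2499 L95287 q4134, e3 q2500 L95302 q4136, e3 q2501 L95316 q4138, e3 q2502 (flp_b L84314) q1621, e3 q2503 L95348 q4143, e3 q2504 (flp_b L84326) q1622, e3 q2505 L95368 q4147, e3 q2506 (flp_b L84340) q1623, e3 q2507 (flp_b L95376) q4149, e3 q2508 L95402 q4154, e3 q2509 L95404 q4155, e3 q2510 (flp_b L84373) q1624, e3 q2511 (flp_b L84377) q1625, e3 q2512 L95426 q4162, e3 q2513 L84389 q2513, e3 q2514 (flp_b L84559) q2547, e3 q2515 L95461 q4168, e3 q2516 L84402 q2516, e3 q2517 (flp_b L84515) q2539, e3 q2518 L95496 q4174, e3 q2519 L95509 q4176, e3 q2520 (flp_b L84417) q1629, e3 q2521 L95536 q4180, e3 q2522 (flp_b L84426) q1630, e3 q2523 L95548 q4183, e3 q2524 L95550 q4184, e3 q2525 (flp_b L95532) q4178, e3 q2526 L95568 q4188, e3 q2527 (flp_b L84451) q1632, e3 q2528 L95586 q4192, e3 q2529 (flp_b L95544) q4181, e3 q2530 L95604 q4196, e3 q2531 (flp_b L84469) q1634, e3 q2532 (flp_b L84473) q1635, e3 q2533 L95632 q4202, e3 q2534 L84487 q2534, e3 q2535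 L95657 q4207, e3 q2536 (flp_b L84496) q1637, e3 q2537 L95678 q4211, e3 q2538 L84510 q2538, e3 q2539 L84515 q2517, e3 q2540 (flp_b L84517) q1639, e3 q2541 L95731 q4219, e3 q2542 L84531 q2542, e3 q2543 L95756 q4224, e3 q2544 (flp_b L84540) q1641, e3 q2545 L95777 q4228, e3 q2546 L84554 q2546, e3 q2547 L84559 q2514, e3 q2548 (flp_b L84561) q1643, e3 q2549 L95826 q4236, e3 q2550 L95840 q4239, e3 q2551 L84579 q2551, e3 q2552 L95853 q4243, e3 q2553 (flp_b L84584) q1645, e3 q2554 L95878 q4248, e3 q2555 L95882 q4249, e3 q2556 L84604 q2556, e3 q2557 L84609 q2271, e3 q2558 (flp_b L84611) q1647, e3 q2559 L95927 q4257, trivial⟩ (by decide +kernel)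

theorem ce_b_40 : ∀ r, r < 64 → sm gb (Qf (2560 + r)) = Qf (tab Gen.b (2560 + r)) :=
  edges_tab (sm gb) Qf (tab Gen.b) 2560 [(2560, 4260), (2561, 2561), (2562, 4264), (2563, 1649), (2564, 4269), (2565, 4270), (2566, 2566), (2567, 2268), (2568, 3721), (2569, 4278), (2570, 4200), (2571, 4283), (2572, 1652), (2573, 4286), (2574, 4292), (2575, 1653), (2576, 4296), (2577, 1672), (2578, 4301), (2579, 1655), (2580, 4305), (2581, 4306), (2582, 3770), (2583, 4310), (2584, 1657), (2585, 1658), (2586, 4318), (2587, 4321), (2588, 1676), (2589, 3756), (2590, 4326), (2591, 3734), (2592, 4329), (2593, 4333), (2594, 4218), (2595, 1662), (2596, 4337), (2597, 4343), (2598, 1663), (2599, 4347), (2600, 1678), (2601, 4352), (2602, 1665), (2603, 4356), (2604, 4357), (2605, 3774), (2606, 4361), (2607, 1667), (2608, 1668), (2609, 4369), (2610, 4372), (2611, 1682), (2612, 3766), (2613, 4377), (2614, 1671), (2615, 4379), (2616, 4381), (2617, 2617), (2618, 2628), (2619, 4385), (2620, 1675), (2621, 4388), (2622, 4392), (2623, 4323)]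
    ⟨e3 q2560 L95941 q4260, e3 q2561 L84629 q2561, e3 q2562 L95954 q4264, e3 q2563 (flp_b L84634) q1649, e3 q2564 L95985 q4269, e3 q2565 L95989 q4270, e3 q2566 L84660 q2566, e3 q2567 L84667 q2268, e3 q2568 (flp_b L92787) q3721, e3 q2569 L96042 q4278, e3 q2570 (flp_b L95626) q4200, e3 q2571 L96068 q4283, e3 q2572 (flp_b L84685) q1652, e3 q2573 (flp_b L96089) q4286, e3 q2574 L96119 q4292, e3 q2575 (flp_b L84703) q1653, e3 q2576 L96137 q4296, e3 q2577 L84711 q1672, e3 q2578 L96173 q4301, e3 q2579 (flp_b L84719) q1655, e3 q2580 L96197 q4305, e3 q2581 L96201 q4306, e3 q2582 (flp_b L93061) q3770, e3 q2583 L96223 q4310, e3 q2584 (flp_b L84751) q1657, e3 q2585 (flp_b L84755) q1658, e3 q2586 L96259 q4318, e3 q2587 L96277 q4321, e3 q2588 L84775 q1676, e3 q2589 (flp_b L92980) q3756, e3 q2590 L96303 q4326, e3 q2591 (flp_b L92861) q3734, e3 q2592 L96327 q4329, e3 q2593 L96347 q4333, e3 q2594 (flp_b L95729) q4218, e3 q2595 (flp_b L84807) q1662, e3 q2596 (flp_b L96374) q4337, e3 q2597 L96404 q4343, e3 q2598 (flp_b L84825) q1663,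 e3 q2599 L96422 q4347, e3 q2600 L84833 q1678, e3 q2601 L96458 q4352, e3 q2602 (flp_b L84841) q1665, e3 q2603 L96482 q4356, e3 q2604 L96486 q4357, e3 q2605 (flp_b L93091) q3774, e3 q2606 L96508 q4361, e3 q2607 (flp_b L84873) q1667, e3 q2608 (flp_b L84877) q1668, e3 q2609 L96546 q4369, e3 q2610 L96564 q4372, e3 q2611 L84897 q1682, e3 q2612 (flp_b L93035) q3766, e3 q2613 L96590 q4377, e3 q2614 (flp_b L84913) q1671, e3 q2615 (flp_b L96602) q4379, e3 q2616 L96611 q4381, e3 q2617 L84935 q2617, e3 q2618 (flp_b L85011) q2628, e3 q2619 L96641 q4385, e3 q2620 (flp_b L84952) q1675, e3 q2621 (flp_b L96657) q4388, e3 q2622 L96679 q4392, e3 q2623 (flp_b L96285) q4323, trivial⟩ (by decide +kernel)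

theorem ce_b_41 : ∀ r, r < 64 → sm gb (Qf (2624 + r)) = Qf (tab Gen.b (2624 + r)) :=
  edges_tab (sm gb) Qf (tab Gen.b) 2624 [(2624, 1677), (2625, 4395), (2626, 4397), (2627, 2627), (2628, 2618), (2629, 4401), (2630, 1681), (2631, 4404), (2632, 4408), (2633, 4374), (2634, 4410), (2635, 3518), (2636, 4413), (2637, 3516), (2638, 1687), (2639, 1688), (2640, 3405), (2641, 4420), (2642, 4421), (2643, 1690), (2644, 1691), (2645, 4428), (2646, 2646), (2647, 4435), (2648, 4437), (2649, 1693), (2650, 4441), (2651, 1694), (2652, 4444), (2653, 4445), (2654, 4439), (2655, 4449), (2656, 1696), (2657, 4453), (2658, 4442), (2659, 4457), (2660, 1698), (2661, 1699), (2662, 4465), (2663, 4468), (2664, 2664), (2665, 4471), (2666, 3880), (2667, 1702), (2668, 4477), (2669, 4480), (2670, 2670), (2671, 4483), (2672, 3854), (2673, 4461), (2674, 4486), (2675, 1723), (2676, 2748), (2677, 1706), (2678, 4491), (2679, 4496), (2680, 2680), (2681, 4501), (2682, 1708), (2683, 4504), (2684, 4502), (2685, 2730), (2686, 1710), (2687, 4511)]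
    ⟨e3 q2624 (flp_b L84978) q1677, e3 q2625 (flp_b L96701) q4395, e3 q2626 L96710 q4397, e3 q2627 L85000 q2627, e3 q2628 L85011 q2618, e3 q2629 L96740 q4401, e3 q2630 (flp_b L85019) q1681, e3 q2631 (flp_b L96756) q4404, e3 q2632 L96778 q4408, e3 q2633 (flp_b L96572) q4374, e3 q2634 L96794 q4410, e3 q2635 (flp_b L91563) q3518, e3 q2636 L96817 q4413, e3 q2637 (flp_b L91547) q3516, e3 q2638 (flp_b L85073) q1687, e3 q2639 (flp_b L85092) q1688, e3 q2640 (flp_b L90922) q3405, e3 q2641 L96932 q4420, e3 q2642 L96934 q4421, e3 q2643 (flp_b L85133) q1690, e3 q2644 (flp_b L85135) q1691, e3 q2645 L96948 q4428, e3 q2646 L85141 q2646, e3 q2647 L96979 q4435, e3 q2648 L96990 q4437, e3 q2649 (flp_b L85150) q1693, e3 q2650 L97013 q4441, e3 q2651 (flp_b L85159) q1694, e3 q2652 L97025 q4444, e3 q2653 L97027 q4445, e3 q2654 (flp_b L97009) q4439, e3 q2655 L97064 q4449, e3 q2656 (flp_b L85182) q1696, e3 q2657 L97076 q4453, e3 q2658 (flp_b L97021) q4442, e3 q2659 L97092 q4457, e3 q2660 (flp_b L85194) q1698, e3 q2661 (flp_b L85196) q1699,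 e3 q2662 L97122 q4465, e3 q2663 L97138 q4468, e3 q2664 L85210 q2664, e3 q2665 L97147 q4471, e3 q2666 (flp_b L98069) q3880, e3 q2667 (flp_b L85221) q1702, e3 q2668 L97170 q4477, e3 q2669 L97184 q4480, e3 q2670 L85235 q2670, e3 q2671 L97195 q4483, e3 q2672 (flp_b L97889) q3854, e3 q2673 (flp_b L97106) q4461, e3 q2674 L97214 q4486, e3 q2675 L85252 q1723, e3 q2676 (flp_b L85537) q2748, e3 q2677 (flp_b L85256) q1706, e3 q2678 (flp_b L97240) q4491, e3 q2679 L97262 q4496, e3 q2680 L85270 q2680, e3 q2681 L97288 q4501, e3 q2682 (flp_b L85277) q1708, e3 q2683 L97303 q4504, e3 q2684 (flp_b L97299) q4502, e3 q2685 (flp_b L85461) q2730, e3 q2686 (flp_b L85290) q1710, e3 q2687 L97331 q4511, trivial⟩ (by decide +kernel)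

theorem ce_b_42 : ∀ r, r < 64 → sm gb (Qf (2688 + r)) = Qf (tab Gen.b (2688 + r)) :=
  edges_tab (sm gb) Qf (tab Gen.b) 2688 [(2688, 3827), (2689, 2689), (2690, 4517), (2691, 4519), (2692, 4473), (2693, 4521), (2694, 2799), (2695, 1747), (2696, 1714), (2697, 4526), (2698, 4531), (2699, 2699), (2700, 4536), (2701, 1716), (2702, 4539), (2703, 4537), (2704, 2781), (2705, 1718), (2706, 4546), (2707, 3808), (2708, 2708), (2709, 4552), (2710, 4554), (2711, 4555), (2712, 4556), (2713, 1722), (2714, 3268), (2715, 3073), (2716, 4561), (2717, 4563), (2718, 1724), (2719, 4567), (2720, 2720), (2721, 1726), (2722, 4492), (2723, 4576), (2724, 4578), (2725, 4572), (2726, 4582), (2727, 1727), (2728, 4586), (2729, 4584), (2730, 2685), (2731, 2731), (2732, 2732), (2733, 4595), (2734, 4597), (2735, 1731), (2736, 4602), (2737, 4603), (2738, 1735), (2739, 4607), (2740, 1733), (2741, 1734), (2742, 4615), (2743, 4605), (2744, 4620), (2745, 1736), (2746, 3792), (2747, 4609), (2748, 2676), (2749, 2800), (2750, 4632), (2751, 4636)]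
    ⟨e3 q2688 L93379 q3827, e3 q2689 L85304 q2689, e3 q2690 L97354 q4517, e3 q2691 L97367 q4519, e3 q2692 (flp_b L97162) q4473, e3 q2693 L97383 q4521, e3 q2694 (flp_b L85742) q2799, e3 q2695 L85323 q1747, e3 q2696 (flp_b L85325) q1714, e3 q2697 (flp_b L97411) q4526, e3 q2698 L97433 q4531, e3 q2699 L85339 q2699, e3 q2700 L97459 q4536, e3 q2701 (flp_b L85346) q1716, e3 q2702 L97474 q4539, e3 q2703 (flp_b L97470) q4537, e3 q2704 (flp_b L85662) q2781, e3 q2705 (flp_b L85359) q1718, e3 q2706 L97504 q4546, e3 q2707 L93293 q3808, e3 q2708 L85373 q2708, e3 q2709 L97527 q4552, e3 q2710 L97540 q4554, e3 q2711 L97544 q4555, e3 q2712 L97552 q4556, e3 q2713 (flp_b L85396) q1722, e3 q2714 (flp_b L119622) q3268, e3 q2715 L119591 q3073, e3 q2716 L97587 q4561, e3 q2717 L97597 q4563, e3 q2718 (flp_b L85414) q1724, e3 q2719 L97617 q4567, e3 q2720 L85426 q2720, e3 q2721 L85429 q1726, e3 q2722 (flp_b L97244) q4492, e3 q2723 L97650 q4576, e3 q2724 L97660 q4578, e3 q2725 (flp_b L97636) q4572, e3 q2726 L97688 q4582, e3 q2727 (flp_b L85453)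 q1727, e3 q2728 L97702 q4586, e3 q2729 (flp_b L97696) q4584, e3 q2730 L85461 q2685, e3 q2731 L85467 q2731, e3 q2732 L85472 q2732, e3 q2733 L97746 q4595, e3 q2734 L97757 q4597, e3 q2735 (flp_b L85483) q1731, e3 q2736 L97785 q4602, e3 q2737 L97789 q4603, e3 q2738 L85505 q1735, e3 q2739 L97807 q4607, e3 q2740 (flp_b L85509) q1733, e3 q2741 (flp_b L85511) q1734, e3 q2742 L97831 q4615, e3 q2743 (flp_b L97799) q4605, e3 q2744 L97851 q4620, e3 q2745 (flp_b L85527) q1736, e3 q2746 L150230 q3792, e3 q2747 (flp_b L97815) q4609, e3 q2748 L85537 q2676, e3 q2749 (flp_b L85748) q2800, e3 q2750 L97945 q4632, e3 q2751 L97959 q4636, trivial⟩ (by decide +kernel)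

theorem ce_b_43 : ∀ r, r < 64 → sm gb (Qf (2752 + r)) = Qf (tab Gen.b (2752 + r)) :=
  edges_tab (sm gb) Qf (tab Gen.b) 2752 [(2752, 4614), (2753, 1739), (2754, 4639), (2755, 4645), (2756, 1740), (2757, 4647), (2758, 1778), (2759, 3908), (2760, 4653), (2761, 1743), (2762, 4657), (2763, 4658), (2764, 1745), (2765, 3292), (2766, 4662), (2767, 3080), (2768, 1746), (2769, 4588), (2770, 4668), (2771, 2771), (2772, 1749), (2773, 4676), (2774, 4528), (2775, 4679), (2776, 4673), (2777, 4683), (2778, 1750), (2779, 4687), (2780, 4685), (2781, 2704), (2782, 2782), (2783, 2783), (2784, 4695), (2785, 4697), (2786, 1754), (2787, 4702), (2788, 4703), (2789, 1758), (2790, 4707), (2791, 1756), (2792, 1757), (2793, 4715), (2794, 4705), (2795, 4720), (2796, 1759), (2797, 3789), (2798, 4709), (2799, 2694), (2800, 2749), (2801, 4732), (2802, 4713), (2803, 4737), (2804, 1762), (2805, 4739), (2806, 4744), (2807, 1763), (2808, 4746), (2809, 1790), (2810, 3936), (2811, 4751), (2812, 1766), (2813, 1767), (2814, 4757), (2815, 2815)]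
    ⟨e3 q2752 (flp_b L97829) q4614, e3 q2753 (flp_b L85547) q1739, e3 q2754 (flp_b L97993) q4639, e3 q2755 L98017 q4645, e3 q2756 (flp_b L85561) q1740, e3 q2757 L98021 q4647, e3 q2758 L85567 q1778, e3 q2759 (flp_b L93775) q3908, e3 q2760 L98051 q4653, e3 q2761 (flp_b L85581) q1743, e3 q2762 L98101 q4657, e3 q2763 L98103 q4658, e3 q2764 (flp_b L85597) q1745, e3 q2765 L150416 q3292, e3 q2766 L98145 q4662, e3 q2767 (flp_b L150385) q3080, e3 q2768 (flp_b L85611) q1746, e3 q2769 L97714 q4588, e3 q2770 L98185 q4668, e3 q2771 L85627 q2771, e3 q2772 L85630 q1749, e3 q2773 L98220 q4676, e3 q2774 (flp_b L97417) q4528, e3 q2775 L98234 q4679, e3 q2776 (flp_b L98210) q4673, e3 q2777 L98262 q4683, e3 q2778 (flp_b L85654) q1750, e3 q2779 L98276 q4687, e3 q2780 (flp_b L98270) q4685, e3 q2781 L85662 q2704, e3 q2782 L85668 q2782, e3 q2783 L85673 q2783, e3 q2784 L98316 q4695, e3 q2785 L98327 q4697, e3 q2786 (flp_b L85684) q1754, e3 q2787 L98355 q4702, e3 q2788 L98359 q4703, e3 q2789 L85706 q1758, e3 q2790 L98377 q4707, e3 q2791 (flp_b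 L85710) q1756, e3 q2792 (flp_b L85712) q1757, e3 q2793 L98411 q4715, e3 q2794 (flp_b L98369) q4705, e3 q2795 L98431 q4720, e3 q2796 (flp_b L85730) q1759, e3 q2797 (flp_b L98077) q3789, e3 q2798 (flp_b L98385) q4709, e3 q2799 L85742 q2694, e3 q2800 L85748 q2749, e3 q2801 L98513 q4732, e3 q2802 (flp_b L98403) q4713, e3 q2803 L98537 q4737, e3 q2804 (flp_b L85760) q1762, e3 q2805 (flp_b L98549) q4739, e3 q2806 L98567 q4744, e3 q2807 (flp_b L85774) q1763, e3 q2808 L98571 q4746, e3 q2809 L85782 q1790, e3 q2810 (flp_b L93895) q3936, e3 q2811 L98595 q4751, e3 q2812 (flp_b L85796) q1766, e3 q2813 (flp_b L85802) q1767, e3 q2814 L98631 q4757, e3 q2815 L85812 q2815, trivial⟩ (by decide +kernel)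

theorem ce_b_44 : ∀ r, r < 64 → sm gb (Qf (2816 + r)) = Qf (tab Gen.b (2816 + r)) :=
  edges_tab (sm gb) Qf (tab Gen.b) 2816 [(2816, 1769), (2817, 4762), (2818, 4446), (2819, 1772), (2820, 2358), (2821, 4769), (2822, 4766), (2823, 4770), (2824, 1774), (2825, 4773), (2826, 4778), (2827, 1776), (2828, 3897), (2829, 2211), (2830, 4783), (2831, 1777), (2832, 4789), (2833, 1779), (2834, 4795), (2835, 2835), (2836, 1781), (2837, 4800), (2838, 4454), (2839, 1784), (2840, 2373), (2841, 4807), (2842, 4804), (2843, 4808), (2844, 1786), (2845, 4811), (2846, 4816), (2847, 1788), (2848, 2221), (2849, 3926), (2850, 4821), (2851, 1789), (2852, 4827), (2853, 1791), (2854, 4831), (2855, 2106), (2856, 1795), (2857, 4836), (2858, 2416), (2859, 1828), (2860, 4840), (2861, 1931), (2862, 1799), (2863, 4844), (2864, 4848), (2865, 1802), (2866, 1803), (2867, 3966), (2868, 4833), (2869, 4854), (2870, 4857), (2871, 1804), (2872, 4861), (2873, 2093), (2874, 1808), (2875, 4865), (2876, 2399), (2877, 1839), (2878, 4869), (2879, 1937)]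
    ⟨e3 q2816 (flp_b L85818) q1769, e3 q2817 L98669 q4762, e3 q2818 (flp_b L97043) q4446, e3 q2819 L85832 q1772, e3 q2820 L85838 q2358, e3 q2821 L98703 q4769, e3 q2822 (flp_b L98687) q4766, e3 q2823 L98706 q4770, e3 q2824 (flp_b L85862) q1774, e3 q2825 (flp_b L98722) q4773, e3 q2826 L98742 q4778, e3 q2827 L85874 q1776, e3 q2828 (flp_b L93737) q3897, e3 q2829 L85880 q2211, e3 q2830 (flp_b L98760) q4783, e3 q2831 (flp_b L85888) q1777, e3 q2832 (flp_b L98786) q4789, e3 q2833 (flp_b L85894) q1779, e3 q2834 L98808 q4795, e3 q2835 L85904 q2835, e3 q2836 (flp_b L85910) q1781, e3 q2837 L98848 q4800, e3 q2838 (flp_b L150626) q4454, e3 q2839 L85924 q1784, e3 q2840 L85930 q2373, e3 q2841 L98884 q4807, e3 q2842 (flp_b L98868) q4804, e3 q2843 L98887 q4808, e3 q2844 (flp_b L85954) q1786, e3 q2845 (flp_b L98905) q4811, e3 q2846 L98925 q4816, e3 q2847 L85966 q1788, e3 q2848 L85970 q2221, e3 q2849 (flp_b L93857) q3926, e3 q2850 (flp_b L98943) q4821, e3 q2851 (flp_b L85980) q1789, e3 q2852 (flp_b L98969) q4827, e3 q2853 (flp_b L85986)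 q1791, e3 q2854 (flp_b L119350) q4831, e3 q2855 L86003 q2106, e3 q2856 L86011 q1795, e3 q2857 L99035 q4836, e3 q2858 (flp_b L142007) q2416, e3 q2859 L86039 q1828, e3 q2860 L99079 q4840, e3 q2861 L86073 q1931, e3 q2862 (flp_b L86075) q1799, e3 q2863 (flp_b L99121) q4844, e3 q2864 L99141 q4848, e3 q2865 L86093 q1802, e3 q2866 L86097 q1803, e3 q2867 (flp_b L94132) q3966, e3 q2868 (flp_b L98993) q4833, e3 q2869 (flp_b L99171) q4854, e3 q2870 (flp_b L99183) q4857, e3 q2871 (flp_b L86117) q1804, e3 q2872 L147494 q4861, e3 q2873 L86134 q2093, e3 q2874 L86142 q1808, e3 q2875 L99269 q4865, e3 q2876 (flp_b L142194) q2399, e3 q2877 L86160 q1839, e3 q2878 L99303 q4869, e3 q2879 L86178 q1937, trivial⟩ (by decide +kernel)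

theorem ce_b_45 : ∀ r, r < 64 → sm gb (Qf (2880 + r)) = Qf (tab Gen.b (2880 + r)) :=
  edges_tab (sm gb) Qf (tab Gen.b) 2880 [(2880, 1812), (2881, 4873), (2882, 4877), (2883, 1815), (2884, 1816), (2885, 4862), (2886, 3996), (2887, 4881), (2888, 4884), (2889, 4886), (2890, 4887), (2891, 1820), (2892, 4889), (2893, 1822), (2894, 4894), (2895, 4895), (2896, 1823), (2897, 4898), (2898, 4899), (2899, 1827), (2900, 4890), (2901, 1826), (2902, 4905), (2903, 4901), (2904, 4908), (2905, 1831), (2906, 4910), (2907, 1833), (2908, 4915), (2909, 1835), (2910, 4918), (2911, 1838), (2912, 4911), (2913, 1837), (2914, 4924), (2915, 4920), (2916, 4927), (2917, 4124), (2918, 2918), (2919, 2919), (2920, 1842), (2921, 4417), (2922, 3799), (2923, 3818), (2924, 2924), (2925, 2925), (2926, 2926), (2927, 4938), (2928, 4939), (2929, 1846), (2930, 4942), (2931, 4947), (2932, 4948), (2933, 1949), (2934, 4951), (2935, 4953), (2936, 1848), (2937, 4957), (2938, 1849), (2939, 4960), (2940, 1850), (2941, 1851), (2942, 4204), (2943, 3155)]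
    ⟨e3 q2880 (flp_b L86186) q1812, e3 q2881 (flp_b L99349) q4873, e3 q2882 L99369 q4877, e3 q2883 L86204 q1815, e3 q2884 L86208 q1816, e3 q2885 (flp_b L99228) q4862, e3 q2886 (flp_b L94383) q3996, e3 q2887 (flp_b L99399) q4881, e3 q2888 (flp_b L99411) q4884, e3 q2889 L99832 q4886, e3 q2890 L99867 q4887, e3 q2891 (flp_b L86645) q1820, e3 q2892 (flp_b L99907) q4889, e3 q2893 (flp_b L86657) q1822, e3 q2894 L99949 q4894, e3 q2895 L99951 q4895, e3 q2896 (flp_b L86684) q1823, e3 q2897 L99994 q4898, e3 q2898 L100027 q4899, e3 q2899 L86715 q1827, e3 q2900 (flp_b L99913) q4890, e3 q2901 (flp_b L86741) q1826, e3 q2902 L100081 q4905, e3 q2903 (flp_b L100041) q4901, e3 q2904 L100093 q4908, e3 q2905 (flp_b L86892) q1831, e3 q2906 (flp_b L100331) q4910, e3 q2907 (flp_b L86904) q1833, e3 q2908 L100373 q4915, e3 q2909 (flp_b L86935) q1835, e3 q2910 L100451 q4918, e3 q2911 L86962 q1838, e3 q2912 (flp_b L100337) q4911, e3 q2913 (flp_b L86988) q1837, e3 q2914 L100505 q4924, e3 q2915 (flp_b L100465) q4920, e3 q2916 L100519 q4927,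 e3 q2917 (flp_b L95223) q4124, e3 q2918 L87951 q2918, e3 q2919 L87958 q2919, e3 q2920 (flp_b L87959) q1842, e3 q2921 (flp_b L96916) q4417, e3 q2922 L119440 q3799, e3 q2923 L147697 q3818, e3 q2924 L87979 q2924, e3 q2925 L87984 q2925, e3 q2926 L87989 q2926, e3 q2927 L101831 q4938, e3 q2928 L101834 q4939, e3 q2929 (flp_b L88004) q1846, e3 q2930 (flp_b L101857) q4942, e3 q2931 L101891 q4947, e3 q2932 L101895 q4948, e3 q2933 L88034 q1949, e3 q2934 L101919 q4951, e3 q2935 L101935 q4953, e3 q2936 (flp_b L88050) q1848, e3 q2937 L101965 q4957, e3 q2938 (flp_b L88063) q1849, e3 q2939 L101981 q4960, e3 q2940 (flp_b L88078) q1850, e3 q2941 (flp_b L88084) q1851, e3 q2942 L116052 q4204, e3 q2943 (flp_b L89280) q3155, trivial⟩ (by decide +kernel)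

theorem ce_b_46 : ∀ r, r < 64 → sm gb (Qf (2944 + r)) = Qf (tab Gen.b (2944 + r)) :=
  edges_tab (sm gb) Qf (tab Gen.b) 2944 [(2944, 4221), (2945, 3145), (2946, 1996), (2947, 3900), (2948, 3596), (2949, 3618), (2950, 1855), (2951, 1856), (2952, 4979), (2953, 4980), (2954, 1858), (2955, 4984), (2956, 4985), (2957, 1860), (2958, 1861), (2959, 4991), (2960, 4992), (2961, 1863), (2962, 4995), (2963, 4996), (2964, 4997), (2965, 4998), (2966, 1866), (2967, 1867), (2968, 5000), (2969, 5003), (2970, 1870), (2971, 5007), (2972, 5008), (2973, 1871), (2974, 4514), (2975, 1872), (2976, 4549), (2977, 5015), (2978, 1875), (2979, 3071), (2980, 5021), (2981, 1876), (2982, 3061), (2983, 5018), (2984, 5024), (2985, 1877), (2986, 4941), (2987, 3902), (2988, 3930), (2989, 5031), (2990, 5033), (2991, 1879), (2992, 5038), (2993, 1880), (2994, 5042), (2995, 1881), (2996, 5046), (2997, 1882), (2998, 5050), (2999, 5051), (3000, 1887), (3001, 5056), (3002, 1884), (3003, 5061), (3004, 1890), (3005, 5066), (3006, 1886), (3007, 5054)]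
    ⟨e3 q2944 L148998 q4221, e3 q2945 (flp_b L89222) q3145, e3 q2946 L88114 q1996, e3 q2947 (flp_b L119337) q3900, e3 q2948 L119037 q3596, e3 q2949 (flp_b L147533) q3618, e3 q2950 (flp_b L88126) q1855, e3 q2951 (flp_b L88130) q1856, e3 q2952 L102247 q4979, e3 q2953 L102251 q4980, e3 q2954 (flp_b L88146) q1858, e3 q2955 L102269 q4984, e3 q2956 L102273 q4985, e3 q2957 (flp_b L88162) q1860, e3 q2958 (flp_b L88166) q1861, e3 q2959 L102308 q4991, e3 q2960 L102312 q4992, e3 q2961 (flp_b L88188) q1863, e3 q2962 L102333 q4995, e3 q2963 L102337 q4996, e3 q2964 L102341 q4997, e3 q2965 L102349 q4998, e3 q2966 (flp_b L88228) q1866, e3 q2967 (flp_b L88232) q1867, e3 q2968 (flp_b L102365) q5000, e3 q2969 (flp_b L102379) q5003, e3 q2970 (flp_b L88248) q1870, e3 q2971 L102405 q5007, e3 q2972 L102411 q5008, e3 q2973 (flp_b L88272) q1871, e3 q2974 L163245 q4514, e3 q2975 (flp_b L88281) q1872, e3 q2976 L163392 q4549, e3 q2977 L102443 q5015, e3 q2978 L88296 q1875, e3 q2979 (flp_b L88762) q3071, e3 q2980 L102469 q5021, e3 q2981 L88304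 q1876, e3 q2982 (flp_b L88722) q3061, e3 q2983 (flp_b L102457) q5018, e3 q2984 (flp_b L102483) q5024, e3 q2985 (flp_b L88318) q1877, e3 q2986 (flp_b L101851) q4941, e3 q2987 (flp_b L119224) q3902, e3 q2988 (flp_b L148280) q3930, e3 q2989 L102533 q5031, e3 q2990 L102545 q5033, e3 q2991 (flp_b L88350) q1879, e3 q2992 L102577 q5038, e3 q2993 (flp_b L88364) q1880, e3 q2994 L102599 q5042, e3 q2995 (flp_b L88380) q1881, e3 q2996 L102614 q5046, e3 q2997 (flp_b L88393) q1882, e3 q2998 L102631 q5050, e3 q2999 L102637 q5051, e3 q3000 L88416 q1887, e3 q3001 L102665 q5056, e3 q3002 (flp_b L88422) q1884, e3 q3003 L102695 q5061, e3 q3004 L88434 q1890, e3 q3005 L102723 q5066, e3 q3006 (flp_b L88440) q1886, e3 q3007 (flp_b L102657) q5054, trivial⟩ (by decide +kernel)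

theorem ce_b_47 : ∀ r, r < 64 → sm gb (Qf (3008 + r)) = Qf (tab Gen.b (3008 + r)) :=
  edges_tab (sm gb) Qf (tab Gen.b) 3008 [(3008, 5073), (3009, 5059), (3010, 5064), (3011, 5077), (3012, 5069), (3013, 1894), (3014, 3961), (3015, 3991), (3016, 3016), (3017, 4832), (3018, 2386), (3019, 2403), (3020, 1895), (3021, 1896), (3022, 3438), (3023, 3439), (3024, 5088), (3025, 5090), (3026, 5092), (3027, 5093), (3028, 1899), (3029, 5097), (3030, 1900), (3031, 5101), (3032, 5102), (3033, 2002), (3034, 5105), (3035, 1902), (3036, 5109), (3037, 2006), (3038, 5112), (3039, 1904), (3040, 1905), (3041, 5119), (3042, 1906), (3043, 5123), (3044, 3947), (3045, 3457), (3046, 5126), (3047, 1908), (3048, 3978), (3049, 3460), (3050, 5133), (3051, 1910), (3052, 1911), (3053, 5139), (3054, 5142), (3055, 1920), (3056, 5145), (3057, 1913), (3058, 5150), (3059, 5151), (3060, 1922), (3061, 2982), (3062, 1915), (3063, 5158), (3064, 5161), (3065, 1924), (3066, 5164), (3067, 1917), (3068, 5169), (3069, 5170), (3070, 1926), (3071, 2979)]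
    ⟨e3 q3008 L102767 q5073, e3 q3009 (flp_b L102687) q5059, e3 q3010 (flp_b L102715) q5064, e3 q3011 L102793 q5077, e3 q3012 (flp_b L102745) q5069, e3 q3013 L88496 q1894, e3 q3014 L119255 q3961, e3 q3015 L147353 q3991, e3 q3016 L88510 q3016, e3 q3017 L119080 q4832, e3 q3018 (flp_b L119284) q2386, e3 q3019 (flp_b L148260) q2403, e3 q3020 (flp_b L88542) q1895, e3 q3021 (flp_b L88544) q1896, e3 q3022 (flp_b L91127) q3438, e3 q3023 (flp_b L91131) q3439, e3 q3024 L102942 q5088, e3 q3025 L102950 q5090, e3 q3026 L102960 q5092, e3 q3027 L102972 q5093, e3 q3028 (flp_b L88572) q1899, e3 q3029 L103000 q5097, e3 q3030 (flp_b L88584) q1900, e3 q3031 L103018 q5101, e3 q3032 L103022 q5102, e3 q3033 L88606 q2002, e3 q3034 L103040 q5105, e3 q3035 (flp_b L88610) q1902, e3 q3036 L103054 q5109, e3 q3037 L88620 q2006, e3 q3038 L103072 q5112, e3 q3039 (flp_b L88624) q1904, e3 q3040 (flp_b L88626) q1905, e3 q3041 L103098 q5119, e3 q3042 (flp_b L88640) q1906, e3 q3043 L103116 q5123, e3 q3044 L120104 q3947, e3 q3045 (flp_b L91215) q3457,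 e3 q3046 L103144 q5126, e3 q3047 (flp_b L88666) q1908, e3 q3048 L148524 q3978, e3 q3049 (flp_b L91227) q3460, e3 q3050 L103194 q5133, e3 q3051 (flp_b L88680) q1910, e3 q3052 (flp_b L88684) q1911, e3 q3053 L103230 q5139, e3 q3054 L103244 q5142, e3 q3055 L88698 q1920, e3 q3056 L103256 q5145, e3 q3057 (flp_b L88704) q1913, e3 q3058 L103278 q5150, e3 q3059 L103280 q5151, e3 q3060 L88718 q1922, e3 q3061 L88722 q2982, e3 q3062 (flp_b L88724) q1915, e3 q3063 L103316 q5158, e3 q3064 L103330 q5161, e3 q3065 L88738 q1924, e3 q3066 L103342 q5164, e3 q3067 (flp_b L88744) q1917, e3 q3068 L103364 q5169, e3 q3069 L103366 q5170, e3 q3070 L88758 q1926, e3 q3071 L88762 q2979, trivial⟩ (by decide +kernel)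

theorem ce_b_48 : ∀ r, r < 64 → sm gb (Qf (3072 + r)) = Qf (tab Gen.b (3072 + r)) :=
  edges_tab (sm gb) Qf (tab Gen.b) 3072 [(3072, 1919), (3073, 2715), (3074, 5179), (3075, 5143), (3076, 5183), (3077, 1921), (3078, 5154), (3079, 1923), (3080, 2767), (3081, 5190), (3082, 5162), (3083, 5194), (3084, 1925), (3085, 5173), (3086, 1928), (3087, 1940), (3088, 5199), (3089, 5198), (3090, 1929), (3091, 3522), (3092, 3528), (3093, 5203), (3094, 5204), (3095, 2066), (3096, 1934), (3097, 1943), (3098, 5207), (3099, 5206), (3100, 1935), (3101, 3525), (3102, 3532), (3103, 5211), (3104, 5212), (3105, 2082), (3106, 4940), (3107, 1946), (3108, 5219), (3109, 5221), (3110, 5223), (3111, 5224), (3112, 1947), (3113, 1948), (3114, 5231), (3115, 5232), (3116, 1950), (3117, 5236), (3118, 1951), (3119, 5240), (3120, 5241), (3121, 5036), (3122, 5245), (3123, 1953), (3124, 5249), (3125, 5040), (3126, 5253), (3127, 1955), (3128, 5257), (3129, 4962), (3130, 5260), (3131, 1957), (3132, 5265), (3133, 4965), (3134, 5268), (3135, 1959)]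
    ⟨e3 q3072 (flp_b L88764) q1919, e3 q3073 (flp_b L119591) q2715, e3 q3074 L103415 q5179, e3 q3075 (flp_b L103250) q5143, e3 q3076 L103435 q5183, e3 q3077 (flp_b L88785) q1921, e3 q3078 (flp_b L103294) q5154, e3 q3079 (flp_b L88793) q1923, e3 q3080 L150385 q2767, e3 q3081 L103474 q5190, e3 q3082 (flp_b L103336) q5162, e3 q3083 L103496 q5194, e3 q3084 (flp_b L88816) q1925, e3 q3085 (flp_b L103380) q5173, e3 q3086 L88831 q1928, e3 q3087 (flp_b L139265) q1940, e3 q3088 L103536 q5199, e3 q3089 (flp_b L120427) q5198, e3 q3090 (flp_b L88857) q1929, e3 q3091 L119578 q3522, e3 q3092 L119526 q3528, e3 q3093 L103600 q5203, e3 q3094 L103602 q5204, e3 q3095 (flp_b L141801) q2066, e3 q3096 L88904 q1934, e3 q3097 L139708 q1943, e3 q3098 L103632 q5207, e3 q3099 (flp_b L129632) q5206, e3 q3100 (flp_b L88930) q1935, e3 q3101 L147842 q3525, e3 q3102 (flp_b L148102) q3532, e3 q3103 L103698 q5211, e3 q3104 L103700 q5212, e3 q3105 (flp_b L141169) q2082, e3 q3106 (flp_b L101841) q4940, e3 q3107 L89018 q1946, e3 q3108 L103762 q5219,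 e3 q3109 L103774 q5221, e3 q3110 L103790 q5223, e3 q3111 L103794 q5224, e3 q3112 (flp_b L89046) q1947, e3 q3113 (flp_b L89050) q1948, e3 q3114 L103822 q5231, e3 q3115 L103826 q5232, e3 q3116 (flp_b L89070) q1950, e3 q3117 L103859 q5236, e3 q3118 (flp_b L89082) q1951, e3 q3119 L103883 q5240, e3 q3120 L103887 q5241, e3 q3121 (flp_b L102571) q5036, e3 q3122 L103909 q5245, e3 q3123 (flp_b L89112) q1953, e3 q3124 L103929 q5249, e3 q3125 (flp_b L102593) q5040, e3 q3126 L103951 q5253, e3 q3127 (flp_b L89132) q1955, e3 q3128 L103971 q5257, e3 q3129 (flp_b L101999) q4962, e3 q3130 L103995 q5260, e3 q3131 (flp_b L89146) q1957, e3 q3132 L104021 q5265, e3 q3133 (flp_b L102110) q4965, e3 q3134 L104045 q5268, e3 q3135 (flp_b L89160) q1959, trivial⟩ (by decide +kernel)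

theorem ce_b_49 : ∀ r, r < 64 → sm gb (Qf (3136 + r)) = Qf (tab Gen.b (3136 + r)) :=
  edges_tab (sm gb) Qf (tab Gen.b) 3136 [(3136, 1960), (3137, 5277), (3138, 5280), (3139, 1970), (3140, 5283), (3141, 1962), (3142, 5288), (3143, 5289), (3144, 1975), (3145, 2945), (3146, 1964), (3147, 5299), (3148, 5302), (3149, 1978), (3150, 5305), (3151, 1966), (3152, 5310), (3153, 5311), (3154, 1983), (3155, 2943), (3156, 5317), (3157, 1969), (3158, 5320), (3159, 5281), (3160, 5325), (3161, 1971), (3162, 5330), (3163, 3174), (3164, 5328), (3165, 5333), (3166, 5292), (3167, 5337), (3168, 1977), (3169, 5340), (3170, 5303), (3171, 5345), (3172, 1979), (3173, 5350), (3174, 3163), (3175, 5348), (3176, 5353), (3177, 5314), (3178, 1984), (3179, 5358), (3180, 5361), (3181, 3188), (3182, 3187), (3183, 5365), (3184, 1989), (3185, 5368), (3186, 5371), (3187, 3182), (3188, 3181), (3189, 5375), (3190, 1994), (3191, 1995), (3192, 5377), (3193, 5378), (3194, 1997), (3195, 5382), (3196, 1998), (3197, 5386), (3198, 5387), (3199, 3650)]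
    ⟨e3 q3136 (flp_b L89166) q1960, e3 q3137 L104097 q5277, e3 q3138 L104115 q5280, e3 q3139 L89186 q1970, e3 q3140 L104129 q5283, e3 q3141 (flp_b L89194) q1962, e3 q3142 L104161 q5288, e3 q3143 L104165 q5289, e3 q3144 L89216 q1975, e3 q3145 L89222 q2945, e3 q3146 (flp_b L89224) q1964, e3 q3147 L104218 q5299, e3 q3148 L104236 q5302, e3 q3149 L89244 q1978, e3 q3150 L104250 q5305, e3 q3151 (flp_b L89252) q1966, e3 q3152 L104282 q5310, e3 q3153 L104286 q5311, e3 q3154 L89274 q1983, e3 q3155 L89280 q2943, e3 q3156 L104323 q5317, e3 q3157 (flp_b L89290) q1969, e3 q3158 (flp_b L104343) q5320, e3 q3159 (flp_b L104121) q5281, e3 q3160 L104365 q5325, e3 q3161 (flp_b L89306) q1971, e3 q3162 L104393 q5330, e3 q3163 (flp_b L89394) q3174, e3 q3164 (flp_b L104387) q5328, e3 q3165 L104411 q5333, e3 q3166 (flp_b L104185) q5292, e3 q3167 L104428 q5337, e3 q3168 (flp_b L89354) q1977, e3 q3169 (flp_b L104448) q5340, e3 q3170 (flp_b L104242) q5303, e3 q3171 L104470 q5345, e3 q3172 (flp_b L89370) q1979, e3 q3173 L104498 q5350, e3 q3174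 L89394 q3163, e3 q3175 (flp_b L104492) q5348, e3 q3176 L104518 q5353, e3 q3177 (flp_b L104306) q5314, e3 q3178 (flp_b L89412) q1984, e3 q3179 (flp_b L104544) q5358, e3 q3180 L104568 q5361, e3 q3181 (flp_b L89486) q3188, e3 q3182 (flp_b L89478) q3187, e3 q3183 L104605 q5365, e3 q3184 (flp_b L89453) q1989, e3 q3185 (flp_b L104627) q5368, e3 q3186 L104651 q5371, e3 q3187 L89478 q3182, e3 q3188 L89486 q3181, e3 q3189 L104698 q5375, e3 q3190 (flp_b L89498) q1994, e3 q3191 (flp_b L89534) q1995, e3 q3192 L104805 q5377, e3 q3193 L104807 q5378, e3 q3194 (flp_b L89594) q1997, e3 q3195 L104819 q5382, e3 q3196 (flp_b L89602) q1998, e3 q3197 L104831 q5386, e3 q3198 L104833 q5387, e3 q3199 L119271 q3650, trivial⟩ (by decide +kernel)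

theorem ce_b_50 : ∀ r, r < 64 → sm gb (Qf (3200 + r)) = Qf (tab Gen.b (3200 + r)) :=
  edges_tab (sm gb) Qf (tab Gen.b) 3200 [(3200, 3219), (3201, 5392), (3202, 3659), (3203, 3211), (3204, 2001), (3205, 3593), (3206, 3589), (3207, 5403), (3208, 2003), (3209, 5407), (3210, 5107), (3211, 3203), (3212, 2005), (3213, 3615), (3214, 3611), (3215, 5419), (3216, 2007), (3217, 5423), (3218, 5114), (3219, 3200), (3220, 4989), (3221, 5432), (3222, 5399), (3223, 5437), (3224, 2010), (3225, 5439), (3226, 5444), (3227, 2011), (3228, 2033), (3229, 5449), (3230, 2013), (3231, 5454), (3232, 5455), (3233, 5452), (3234, 5459), (3235, 2015), (3236, 2016), (3237, 5467), (3238, 5470), (3239, 2040), (3240, 3240), (3241, 5472), (3242, 4993), (3243, 5476), (3244, 5480), (3245, 5416), (3246, 2020), (3247, 5483), (3248, 5488), (3249, 2021), (3250, 2045), (3251, 5493), (3252, 2023), (3253, 5498), (3254, 5499), (3255, 5496), (3256, 5500), (3257, 2025), (3258, 2026), (3259, 5508), (3260, 5510), (3261, 2052), (3262, 3262), (3263, 5512)]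
    ⟨e3 q3200 (flp_b L89680) q3219, e3 q3201 L104857 q5392, e3 q3202 (flp_b L147357) q3659, e3 q3203 (flp_b L89652) q3211, e3 q3204 (flp_b L89626) q2001, e3 q3205 (flp_b L119394) q3593, e3 q3206 (flp_b L119398) q3589, e3 q3207 L104915 q5403, e3 q3208 (flp_b L89642) q2003, e3 q3209 L104927 q5407, e3 q3210 (flp_b L103048) q5107, e3 q3211 L89652 q3203, e3 q3212 (flp_b L89654) q2005, e3 q3213 (flp_b L148010) q3615, e3 q3214 L147984 q3611, e3 q3215 L104979 q5419, e3 q3216 (flp_b L89670) q2007, e3 q3217 L104991 q5423, e3 q3218 (flp_b L103080) q5114, e3 q3219 L89680 q3200, e3 q3220 (flp_b L102295) q4989, e3 q3221 L105027 q5432, e3 q3222 (flp_b L104893) q5399, e3 q3223 L105045 q5437, e3 q3224 (flp_b L89690) q2010, e3 q3225 (flp_b L105059) q5439, e3 q3226 L105089 q5444, e3 q3227 (flp_b L89706) q2011, e3 q3228 L89710 q2033, e3 q3229 L105103 q5449, e3 q3230 (flp_b L89716) q2013, e3 q3231 L105131 q5454, e3 q3232 L105133 q5455, e3 q3233 (flp_b L105127) q5452, e3 q3234 L105149 q5459, e3 q3235 (flp_b L89738) q2015, e3 q3236 (flp_b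 L89740) q2016, e3 q3237 L105169 q5467, e3 q3238 L105183 q5470, e3 q3239 L89754 q2040, e3 q3240 L89760 q3240, e3 q3241 L105204 q5472, e3 q3242 (flp_b L102320) q4993, e3 q3243 L105220 q5476, e3 q3244 L105234 q5480, e3 q3245 (flp_b L104959) q5416, e3 q3246 (flp_b L89775) q2020, e3 q3247 (flp_b L105252) q5483, e3 q3248 L105282 q5488, e3 q3249 (flp_b L89791) q2021, e3 q3250 L89795 q2045, e3 q3251 L105296 q5493, e3 q3252 (flp_b L89801) q2023, e3 q3253 L105324 q5498, e3 q3254 L105326 q5499, e3 q3255 (flp_b L105320) q5496, e3 q3256 L105344 q5500, e3 q3257 (flp_b L89827) q2025, e3 q3258 (flp_b L89829) q2026, e3 q3259 L105374 q5508, e3 q3260 L105388 q5510, e3 q3261 L89847 q2052, e3 q3262 L89853 q3262, e3 q3263 L105411 q5512, trivial⟩ (by decide +kernel)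

theorem ce_b_51 : ∀ r, r < 64 → sm gb (Qf (3264 + r)) = Qf (tab Gen.b (3264 + r)) :=
  edges_tab (sm gb) Qf (tab Gen.b) 3264 [(3264, 2029), (3265, 5514), (3266, 5429), (3267, 2031), (3268, 2714), (3269, 5174), (3270, 5521), (3271, 2032), (3272, 5525), (3273, 5530), (3274, 5531), (3275, 2034), (3276, 5536), (3277, 5537), (3278, 2038), (3279, 5542), (3280, 2036), (3281, 5546), (3282, 5540), (3283, 2039), (3284, 5551), (3285, 5555), (3286, 5471), (3287, 2041), (3288, 5558), (3289, 5473), (3290, 2043), (3291, 5155), (3292, 2765), (3293, 5565), (3294, 2044), (3295, 5569), (3296, 5574), (3297, 5575), (3298, 2046), (3299, 5580), (3300, 5581), (3301, 2050), (3302, 5586), (3303, 2048), (3304, 5590), (3305, 5584), (3306, 2051), (3307, 5595), (3308, 5599), (3309, 5511), (3310, 2053), (3311, 5602), (3312, 5605), (3313, 2056), (3314, 2057), (3315, 3560), (3316, 5614), (3317, 5610), (3318, 5618), (3319, 3590), (3320, 5620), (3321, 2058), (3322, 5625), (3323, 2059), (3324, 2061), (3325, 2441), (3326, 5623), (3327, 5629)]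
    ⟨e3 q3264 (flp_b L89862) q2029, e3 q3265 (flp_b L105423) q5514, e3 q3266 L105067 q5429, e3 q3267 L89877 q2031, e3 q3268 L119622 q2714, e3 q3269 (flp_b L103386) q5174, e3 q3270 (flp_b L105459) q5521, e3 q3271 (flp_b L89887) q2032, e3 q3272 (flp_b L105483) q5525, e3 q3273 L105497 q5530, e3 q3274 L105501 q5531, e3 q3275 (flp_b L89903) q2034, e3 q3276 L105523 q5536, e3 q3277 L105527 q5537, e3 q3278 L89919 q2038, e3 q3279 L105547 q5542, e3 q3280 (flp_b L89923) q2036, e3 q3281 L105563 q5546, e3 q3282 (flp_b L105541) q5540, e3 q3283 (flp_b L89937) q2039, e3 q3284 (flp_b L105585) q5551, e3 q3285 L105597 q5555, e3 q3286 (flp_b L105189) q5471, e3 q3287 (flp_b L89950) q2041, e3 q3288 (flp_b L105610) q5558, e3 q3289 L105260 q5473, e3 q3290 L89965 q2043, e3 q3291 (flp_b L103300) q5155, e3 q3292 (flp_b L150416) q2765, e3 q3293 (flp_b L105646) q5565, e3 q3294 (flp_b L89975) q2044, e3 q3295 (flp_b L105670) q5569, e3 q3296 L105684 q5574, e3 q3297 L105688 q5575, e3 q3298 (flp_b L89991) q2046, e3 q3299 L105710 q5580, e3 q3300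 L105714 q5581, e3 q3301 L90007 q2050, e3 q3302 L105734 q5586, e3 q3303 (flp_b L90011) q2048, e3 q3304 L105756 q5590, e3 q3305 (flp_b L105728) q5584, e3 q3306 (flp_b L90027) q2051, e3 q3307 (flp_b L105782) q5595, e3 q3308 L105798 q5599, e3 q3309 (flp_b L105396) q5511, e3 q3310 (flp_b L90042) q2053, e3 q3311 (flp_b L105812) q5602, e3 q3312 L105833 q5605, e3 q3313 L90059 q2056, e3 q3314 L90063 q2057, e3 q3315 L119667 q3560, e3 q3316 L105895 q5614, e3 q3317 (flp_b L105863) q5610, e3 q3318 L105921 q5618, e3 q3319 (flp_b L119549) q3590, e3 q3320 L105937 q5620, e3 q3321 (flp_b L90097) q2058, e3 q3322 L105959 q5625, e3 q3323 (flp_b L90107) q2059, e3 q3324 (flp_b L139281) q2061, e3 q3325 L141120 q2441, e3 q3326 (flp_b L105955) q5623, e3 q3327 L106045 q5629, trivial⟩ (by decide +kernel)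

theorem ce_b_52 : ∀ r, r < 64 → sm gb (Qf (3328 + r)) = Qf (tab Gen.b (3328 + r)) :=
  edges_tab (sm gb) Qf (tab Gen.b) 3328 [(3328, 5631), (3329, 2067), (3330, 5633), (3331, 5634), (3332, 2069), (3333, 5639), (3334, 5642), (3335, 2072), (3336, 2073), (3337, 5612), (3338, 3564), (3339, 5647), (3340, 5652), (3341, 3613), (3342, 5615), (3343, 2074), (3344, 5658), (3345, 2075), (3346, 2077), (3347, 2471), (3348, 5656), (3349, 5662), (3350, 5664), (3351, 2083), (3352, 5666), (3353, 5667), (3354, 2085), (3355, 5672), (3356, 5674), (3357, 5676), (3358, 2089), (3359, 2428), (3360, 5679), (3361, 5680), (3362, 2088), (3363, 5659), (3364, 5684), (3365, 2090), (3366, 5688), (3367, 2094), (3368, 3399), (3369, 5686), (3370, 5695), (3371, 5691), (3372, 5700), (3373, 5701), (3374, 2097), (3375, 2450), (3376, 3392), (3377, 5705), (3378, 2098), (3379, 5711), (3380, 5715), (3381, 5714), (3382, 2102), (3383, 5682), (3384, 2459), (3385, 2100), (3386, 5626), (3387, 5719), (3388, 5720), (3389, 2103), (3390, 5723), (3391, 2107)]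
    ⟨e3 q3328 L106080 q5631, e3 q3329 (flp_b L90202) q2067, e3 q3330 (flp_b L106097) q5633, e3 q3331 (flp_b L106101) q5634, e3 q3332 (flp_b L90218) q2069, e3 q3333 (flp_b L106131) q5639, e3 q3334 L106152 q5642, e3 q3335 L90235 q2072, e3 q3336 L90239 q2073, e3 q3337 (flp_b L149249) q5612, e3 q3338 L147869 q3564, e3 q3339 (flp_b L106182) q5647, e3 q3340 L106240 q5652, e3 q3341 L148025 q3613, e3 q3342 (flp_b L149299) q5615, e3 q3343 (flp_b L90273) q2074, e3 q3344 L106278 q5658, e3 q3345 (flp_b L90283) q2075, e3 q3346 (flp_b L139767) q2077, e3 q3347 L142025 q2471, e3 q3348 (flp_b L106274) q5656, e3 q3349 L106366 q5662, e3 q3350 L106403 q5664, e3 q3351 (flp_b L90386) q2083, e3 q3352 (flp_b L106420) q5666, e3 q3353 (flp_b L106424) q5667, e3 q3354 (flp_b L90600) q2085, e3 q3355 (flp_b L106623) q5672, e3 q3356 (flp_b L120324) q5674, e3 q3357 L106647 q5676, e3 q3358 L90616 q2089, e3 q3359 L90622 q2428, e3 q3360 L106667 q5679, e3 q3361 L106681 q5680, e3 q3362 (flp_b L90632) q2088, e3 q3363 (flp_b L149634) q5659, e3 q3364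 L106697 q5684, e3 q3365 (flp_b L90646) q2090, e3 q3366 L106715 q5688, e3 q3367 L90654 q2094, e3 q3368 (flp_b L90832) q3399, e3 q3369 (flp_b L106709) q5686, e3 q3370 L106767 q5695, e3 q3371 (flp_b L106729) q5691, e3 q3372 L106795 q5700, e3 q3373 L106799 q5701, e3 q3374 L90700 q2097, e3 q3375 L90706 q2450, e3 q3376 (flp_b L90782) q3392, e3 q3377 (flp_b L106821) q5705, e3 q3378 (flp_b L90720) q2098, e3 q3379 (flp_b L106855) q5711, e3 q3380 L106877 q5715, e3 q3381 (flp_b L146729) q5714, e3 q3382 L90736 q2102, e3 q3383 (flp_b L149279) q5682, e3 q3384 L90746 q2459, e3 q3385 (flp_b L90748) q2100, e3 q3386 (flp_b L149255) q5626, e3 q3387 L106925 q5719, e3 q3388 L106929 q5720, e3 q3389 (flp_b L90770) q2103, e3 q3390 L106949 q5723, e3 q3391 L90778 q2107, trivial⟩ (by decide +kernel)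

theorem ce_b_53 : ∀ r, r < 64 → sm gb (Qf (3392 + r)) = Qf (tab Gen.b (3392 + r)) :=
  edges_tab (sm gb) Qf (tab Gen.b) 3392 [(3392, 3376), (3393, 5683), (3394, 5730), (3395, 5726), (3396, 5733), (3397, 5734), (3398, 2110), (3399, 3368), (3400, 2421), (3401, 5738), (3402, 2494), (3403, 3403), (3404, 3404), (3405, 2640), (3406, 5749), (3407, 5750), (3408, 3408), (3409, 3409), (3410, 3410), (3411, 5756), (3412, 5757), (3413, 2116), (3414, 5760), (3415, 5761), (3416, 5762), (3417, 5764), (3418, 2118), (3419, 5768), (3420, 2119), (3421, 5771), (3422, 5772), (3423, 5773), (3424, 2121), (3425, 2122), (3426, 5780), (3427, 3509), (3428, 5783), (3429, 3499), (3430, 2126), (3431, 5788), (3432, 5789), (3433, 5790), (3434, 5601), (3435, 5638), (3436, 2127), (3437, 2128), (3438, 3022), (3439, 3023), (3440, 4094), (3441, 4110), (3442, 5806), (3443, 5808), (3444, 2131), (3445, 5811), (3446, 2132), (3447, 5813), (3448, 5606), (3449, 5814), (3450, 2134), (3451, 5643), (3452, 5818), (3453, 2136), (3454, 2137), (3455, 2138)]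
    ⟨e3 q3392 L90782 q3376, e3 q3393 (flp_b L150582) q5683, e3 q3394 L107001 q5730, e3 q3395 (flp_b L106963) q5726, e3 q3396 L107017 q5733, e3 q3397 L107021 q5734, e3 q3398 L90826 q2110, e3 q3399 L90832 q3368, e3 q3400 L90838 q2421, e3 q3401 (flp_b L107043) q5738, e3 q3402 (flp_b L90898) q2494, e3 q3403 L90908 q3403, e3 q3404 L90917 q3404, e3 q3405 L90922 q2640, e3 q3406 L107143 q5749, e3 q3407 L107147 q5750, e3 q3408 L90942 q3408, e3 q3409 L90949 q3409, e3 q3410 L90956 q3410, e3 q3411 L107184 q5756, e3 q3412 L107187 q5757, e3 q3413 (flp_b L90971) q2116, e3 q3414 L107210 q5760, e3 q3415 L107214 q5761, e3 q3416 L107218 q5762, e3 q3417 L107236 q5764, e3 q3418 (flp_b L91009) q2118, e3 q3419 L107268 q5768, e3 q3420 (flp_b L91022) q2119, e3 q3421 L107284 q5771, e3 q3422 L107288 q5772, e3 q3423 L107300 q5773, e3 q3424 (flp_b L91057) q2121, e3 q3425 (flp_b L91061) q2122, e3 q3426 L107340 q5780, e3 q3427 (flp_b L91505) q3509, e3 q3428 L107362 q5783, e3 q3429 (flp_b L91447) q3499, e3 q3430 L91089 q2126, e3 q3431 L107400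 q5788, e3 q3432 L107404 q5789, e3 q3433 L107408 q5790, e3 q3434 (flp_b L120387) q5601, e3 q3435 (flp_b L151068) q5638, e3 q3436 (flp_b L91121) q2127, e3 q3437 (flp_b L91123) q2128, e3 q3438 L91127 q3022, e3 q3439 L91131 q3023, e3 q3440 L119721 q4094, e3 q3441 L146717 q4110, e3 q3442 L107505 q5806, e3 q3443 L107521 q5808, e3 q3444 (flp_b L91155) q2131, e3 q3445 L107553 q5811, e3 q3446 (flp_b L91167) q2132, e3 q3447 L107571 q5813, e3 q3448 (flp_b L120315) q5606, e3 q3449 L107577 q5814, e3 q3450 (flp_b L91189) q2134, e3 q3451 (flp_b L150886) q5643, e3 q3452 L107591 q5818, e3 q3453 (flp_b L91199) q2136, e3 q3454 (flp_b L91201) q2137, e3 q3455 (flp_b L91205) q2138, trivial⟩ (by decide +kernel)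

theorem ce_b_54 : ∀ r, r < 64 → sm gb (Qf (3456 + r)) = Qf (tab Gen.b (3456 + r)) :=
  edges_tab (sm gb) Qf (tab Gen.b) 3456 [(3456, 5828), (3457, 3045), (3458, 3587), (3459, 5833), (3460, 3049), (3461, 3577), (3462, 2141), (3463, 5840), (3464, 5841), (3465, 2143), (3466, 5844), (3467, 5845), (3468, 2145), (3469, 2146), (3470, 5852), (3471, 2259), (3472, 5856), (3473, 2148), (3474, 5860), (3475, 2263), (3476, 5864), (3477, 2150), (3478, 2151), (3479, 5869), (3480, 2152), (3481, 5871), (3482, 5872), (3483, 5775), (3484, 5876), (3485, 2154), (3486, 5881), (3487, 5778), (3488, 5885), (3489, 2156), (3490, 2157), (3491, 5894), (3492, 5897), (3493, 2165), (3494, 4390), (3495, 2159), (3496, 5905), (3497, 5906), (3498, 2167), (3499, 3429), (3500, 2161), (3501, 5916), (3502, 5919), (3503, 2168), (3504, 4405), (3505, 2163), (3506, 5927), (3507, 5928), (3508, 2170), (3509, 3427), (3510, 5899), (3511, 5934), (3512, 5909), (3513, 5921), (3514, 5938), (3515, 5931), (3516, 2637), (3517, 5943), (3518, 2635), (3519, 5946)]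
    ⟨e3 q3456 L107633 q5828, e3 q3457 L91215 q3045, e3 q3458 (flp_b L91938) q3587, e3 q3459 L107665 q5833, e3 q3460 L91227 q3049, e3 q3461 (flp_b L91890) q3577, e3 q3462 (flp_b L91233) q2141, e3 q3463 L107708 q5840, e3 q3464 L107710 q5841, e3 q3465 (flp_b L91249) q2143, e3 q3466 L107723 q5844, e3 q3467 L107725 q5845, e3 q3468 (flp_b L91265) q2145, e3 q3469 (flp_b L91273) q2146, e3 q3470 L107775 q5852, e3 q3471 L91293 q2259, e3 q3472 L107799 q5856, e3 q3473 (flp_b L91299) q2148, e3 q3474 L107821 q5860, e3 q3475 L91315 q2263, e3 q3476 L107845 q5864, e3 q3477 (flp_b L91321) q2150, e3 q3478 (flp_b L91327) q2151, e3 q3479 L107883 q5869, e3 q3480 (flp_b L91343) q2152, e3 q3481 L107909 q5871, e3 q3482 L107915 q5872, e3 q3483 (flp_b L107322) q5775, e3 q3484 L107947 q5876, e3 q3485 (flp_b L91373) q2154, e3 q3486 L107973 q5881, e3 q3487 (flp_b L107334) q5778, e3 q3488 L107995 q5885, e3 q3489 (flp_b L91387) q2156, e3 q3490 (flp_b L91391) q2157, e3 q3491 L108039 q5894, e3 q3492 L108057 q5897, e3 q3493 L91411 q2165, e3 q3494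 (flp_b L96667) q4390, e3 q3495 (flp_b L91419) q2159, e3 q3496 L108101 q5905, e3 q3497 L108105 q5906, e3 q3498 L91441 q2167, e3 q3499 L91447 q3429, e3 q3500 (flp_b L91449) q2161, e3 q3501 L108158 q5916, e3 q3502 L108176 q5919, e3 q3503 L91469 q2168, e3 q3504 (flp_b L96762) q4405, e3 q3505 (flp_b L91477) q2163, e3 q3506 L108220 q5927, e3 q3507 L108224 q5928, e3 q3508 L91499 q2170, e3 q3509 L91505 q3427, e3 q3510 (flp_b L108067) q5899, e3 q3511 L108261 q5934, e3 q3512 (flp_b L108125) q5909, e3 q3513 (flp_b L108186) q5921, e3 q3514 L108280 q5938, e3 q3515 (flp_b L108244) q5931, e3 q3516 L91547 q2637, e3 q3517 L108315 q5943, e3 q3518 L91563 q2635, e3 q3519 L108346 q5946, trivial⟩ (by decide +kernel)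

theorem ce_b_55 : ∀ r, r < 64 → sm gb (Qf (3520 + r)) = Qf (tab Gen.b (3520 + r)) :=
  edges_tab (sm gb) Qf (tab Gen.b) 3520 [(3520, 2175), (3521, 2176), (3522, 3091), (3523, 2309), (3524, 3551), (3525, 3101), (3526, 2312), (3527, 3543), (3528, 3092), (3529, 3644), (3530, 5953), (3531, 2180), (3532, 3102), (3533, 3653), (3534, 5958), (3535, 2182), (3536, 2183), (3537, 5963), (3538, 2316), (3539, 5967), (3540, 2185), (3541, 5971), (3542, 2320), (3543, 3527), (3544, 2187), (3545, 5978), (3546, 2324), (3547, 5982), (3548, 2189), (3549, 5986), (3550, 2328), (3551, 3524), (3552, 2191), (3553, 2192), (3554, 3561), (3555, 2200), (3556, 5137), (3557, 3565), (3558, 2204), (3559, 5130), (3560, 3315), (3561, 3554), (3562, 6000), (3563, 2196), (3564, 3338), (3565, 3557), (3566, 6006), (3567, 2198), (3568, 2199), (3569, 3953), (3570, 6011), (3571, 5009), (3572, 6014), (3573, 2201), (3574, 6019), (3575, 6020), (3576, 5136), (3577, 3461), (3578, 2203), (3579, 3984), (3580, 6027), (3581, 5012), (3582, 6030), (3583, 2205)]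
    ⟨e3 q3520 (flp_b L91605) q2175, e3 q3521 (flp_b L91613) q2176, e3 q3522 (flp_b L119578) q3091, e3 q3523 L91656 q2309, e3 q3524 (flp_b L91768) q3551, e3 q3525 (flp_b L147842) q3101, e3 q3526 L91664 q2312, e3 q3527 (flp_b L91736) q3543, e3 q3528 (flp_b L119526) q3092, e3 q3529 L119682 q3644, e3 q3530 L108507 q5953, e3 q3531 (flp_b L91682) q2180, e3 q3532 L148102 q3102, e3 q3533 L147853 q3653, e3 q3534 L108543 q5958, e3 q3535 (flp_b L91700) q2182, e3 q3536 (flp_b L91706) q2183, e3 q3537 L108587 q5963, e3 q3538 L91716 q2316, e3 q3539 L108609 q5967, e3 q3540 (flp_b L91724) q2185, e3 q3541 L108623 q5971, e3 q3542 L91732 q2320, e3 q3543 L91736 q3527, e3 q3544 (flp_b L91738) q2187, e3 q3545 L108659 q5978, e3 q3546 L91748 q2324, e3 q3547 L108681 q5982, e3 q3548 (flp_b L91756) q2189, e3 q3549 L108695 q5986, e3 q3550 L91764 q2328, e3 q3551 L91768 q3524, e3 q3552 (flp_b L91770) q2191, e3 q3553 (flp_b L91778) q2192, e3 q3554 (flp_b L118969) q3561, e3 q3555 L91792 q2200, e3 q3556 (flp_b L103220) q5137, e3 q3557 (flp_b L148178)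 q3565, e3 q3558 L91804 q2204, e3 q3559 (flp_b L103170) q5130, e3 q3560 (flp_b L119667) q3315, e3 q3561 L118969 q3554, e3 q3562 L108863 q6000, e3 q3563 (flp_b L91824) q2196, e3 q3564 (flp_b L147869) q3338, e3 q3565 L148178 q3557, e3 q3566 L108921 q6006, e3 q3567 (flp_b L91840) q2198, e3 q3568 (flp_b L91844) q2199, e3 q3569 (flp_b L119488) q3953, e3 q3570 L108979 q6011, e3 q3571 (flp_b L118998) q5009, e3 q3572 L108991 q6014, e3 q3573 (flp_b L91866) q2201, e3 q3574 L109015 q6019, e3 q3575 L109019 q6020, e3 q3576 (flp_b L103214) q5136, e3 q3577 L91890 q3461, e3 q3578 (flp_b L91892) q2203, e3 q3579 (flp_b L148130) q3984, e3 q3580 L109077 q6027, e3 q3581 (flp_b L148141) q5012, e3 q3582 L109089 q6030, e3 q3583 (flp_b L91914) q2205, trivial⟩ (by decide +kernel)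

theorem ce_b_56 : ∀ r, r < 64 → sm gb (Qf (3584 + r)) = Qf (tab Gen.b (3584 + r)) :=
  edges_tab (sm gb) Qf (tab Gen.b) 3584 [(3584, 6035), (3585, 6036), (3586, 5129), (3587, 3458), (3588, 4760), (3589, 3206), (3590, 3319), (3591, 6045), (3592, 2208), (3593, 3205), (3594, 6050), (3595, 2209), (3596, 2948), (3597, 2228), (3598, 4785), (3599, 6058), (3600, 6059), (3601, 4775), (3602, 6063), (3603, 2213), (3604, 2214), (3605, 6071), (3606, 6074), (3607, 2230), (3608, 3608), (3609, 6079), (3610, 4798), (3611, 3214), (3612, 6082), (3613, 3341), (3614, 2218), (3615, 3213), (3616, 6088), (3617, 2219), (3618, 2949), (3619, 2232), (3620, 4822), (3621, 6096), (3622, 6097), (3623, 4812), (3624, 6101), (3625, 2223), (3626, 2224), (3627, 6109), (3628, 6112), (3629, 2234), (3630, 3630), (3631, 6117), (3632, 2227), (3633, 6118), (3634, 2229), (3635, 6121), (3636, 6125), (3637, 6076), (3638, 2231), (3639, 6127), (3640, 2233), (3641, 6130), (3642, 6134), (3643, 6114), (3644, 3529), (3645, 2236), (3646, 2237), (3647, 2391)]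
    ⟨e3 q3584 L109113 q6035, e3 q3585 L109117 q6036, e3 q3586 (flp_b L103164) q5129, e3 q3587 L91938 q3458, e3 q3588 (flp_b L120414) q4760, e3 q3589 L119398 q3206, e3 q3590 L119549 q3319, e3 q3591 L109177 q6045, e3 q3592 (flp_b L91948) q2208, e3 q3593 L119394 q3205, e3 q3594 L109215 q6050, e3 q3595 (flp_b L91962) q2209, e3 q3596 (flp_b L119037) q2948, e3 q3597 L91968 q2228, e3 q3598 (flp_b L98770) q4785, e3 q3599 L109255 q6058, e3 q3600 L109257 q6059, e3 q3601 (flp_b L98732) q4775, e3 q3602 L109273 q6063, e3 q3603 (flp_b L91992) q2213, e3 q3604 (flp_b L91994) q2214, e3 q3605 L109293 q6071, e3 q3606 L109307 q6074, e3 q3607 L92008 q2230, e3 q3608 L92014 q3608, e3 q3609 L109332 q6079, e3 q3610 (flp_b L112151) q4798, e3 q3611 (flp_b L147984) q3214, e3 q3612 L109362 q6082, e3 q3613 (flp_b L148025) q3341, e3 q3614 (flp_b L92029) q2218, e3 q3615 L148010 q3213, e3 q3616 L109404 q6088, e3 q3617 (flp_b L92043) q2219, e3 q3618 L147533 q2949, e3 q3619 L92049 q2232, e3 q3620 (flp_b L98949) q4822, e3 q3621 L109444 q6096, e3 q3622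 L109446 q6097, e3 q3623 (flp_b L98911) q4812, e3 q3624 L109462 q6101, e3 q3625 (flp_b L92073) q2223, e3 q3626 (flp_b L92075) q2224, e3 q3627 L109484 q6109, e3 q3628 L109498 q6112, e3 q3629 L92089 q2234, e3 q3630 L92095 q3630, e3 q3631 L109519 q6117, e3 q3632 (flp_b L92102) q2227, e3 q3633 (flp_b L109529) q6118, e3 q3634 (flp_b L92114) q2229, e3 q3635 (flp_b L109559) q6121, e3 q3636 L109575 q6125, e3 q3637 (flp_b L109317) q6076, e3 q3638 (flp_b L92129) q2231, e3 q3639 (flp_b L109588) q6127, e3 q3640 (flp_b L92141) q2233, e3 q3641 (flp_b L109618) q6130, e3 q3642 L109634 q6134, e3 q3643 (flp_b L109504) q6114, e3 q3644 (flp_b L119682) q3529, e3 q3645 L92160 q2236, e3 q3646 L92164 q2237, e3 q3647 L92168 q2391, trivial⟩ (by decide +kernel)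

theorem ce_b_57 : ∀ r, r < 64 → sm gb (Qf (3648 + r)) = Qf (tab Gen.b (3648 + r)) :=
  edges_tab (sm gb) Qf (tab Gen.b) 3648 [(3648, 4846), (3649, 6139), (3650, 3199), (3651, 2238), (3652, 6145), (3653, 3533), (3654, 2240), (3655, 2241), (3656, 4874), (3657, 2409), (3658, 6152), (3659, 3202), (3660, 2242), (3661, 6158), (3662, 6162), (3663, 6163), (3664, 6164), (3665, 6166), (3666, 2245), (3667, 6169), (3668, 2246), (3669, 6171), (3670, 2247), (3671, 6175), (3672, 6176), (3673, 2248), (3674, 2249), (3675, 6183), (3676, 5847), (3677, 3708), (3678, 6187), (3679, 5850), (3680, 3700), (3681, 2252), (3682, 6193), (3683, 2253), (3684, 6196), (3685, 6197), (3686, 6191), (3687, 6201), (3688, 2255), (3689, 6205), (3690, 6194), (3691, 6209), (3692, 2257), (3693, 2258), (3694, 6217), (3695, 5854), (3696, 6222), (3697, 2260), (3698, 6226), (3699, 5858), (3700, 3680), (3701, 2262), (3702, 6236), (3703, 5862), (3704, 6241), (3705, 2264), (3706, 6245), (3707, 5866), (3708, 3677), (3709, 2266), (3710, 6253), (3711, 6256)]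
    ⟨e3 q3648 (flp_b L99131) q4846, e3 q3649 (flp_b L109665) q6139, e3 q3650 (flp_b L119271) q3199, e3 q3651 (flp_b L92215) q2238, e3 q3652 (flp_b L109751) q6145, e3 q3653 (flp_b L147853) q3533, e3 q3654 L92233 q2240, e3 q3655 L92237 q2241, e3 q3656 (flp_b L99355) q4874, e3 q3657 L92243 q2409, e3 q3658 (flp_b L109796) q6152, e3 q3659 L147357 q3202, e3 q3660 (flp_b L92288) q2242, e3 q3661 (flp_b L109882) q6158, e3 q3662 L110049 q6162, e3 q3663 L110055 q6163, e3 q3664 L110061 q6164, e3 q3665 L110079 q6166, e3 q3666 (flp_b L92442) q2245, e3 q3667 L110103 q6169, e3 q3668 (flp_b L92454) q2246, e3 q3669 L110123 q6171, e3 q3670 (flp_b L92468) q2247, e3 q3671 L110142 q6175, e3 q3672 L110147 q6176, e3 q3673 (flp_b L92491) q2248, e3 q3674 (flp_b L92497) q2249, e3 q3675 L110184 q6183, e3 q3676 (flp_b L107745) q5847, e3 q3677 (flp_b L92699) q3708, e3 q3678 L110220 q6187, e3 q3679 (flp_b L107767) q5850, e3 q3680 (flp_b L92657) q3700, e3 q3681 (flp_b L92533) q2252, e3 q3682 L110271 q6193, e3 q3683 (flp_b L92548) q2253, e3 q3684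 L110294 q6196, e3 q3685 L110299 q6197, e3 q3686 (flp_b L110262) q6191, e3 q3687 L110323 q6201, e3 q3688 (flp_b L92585) q2255, e3 q3689 L110349 q6205, e3 q3690 (flp_b L110287) q6194, e3 q3691 L110373 q6209, e3 q3692 (flp_b L92611) q2257, e3 q3693 (flp_b L92617) q2258, e3 q3694 L110417 q6217, e3 q3695 (flp_b L107789) q5854, e3 q3696 L110441 q6222, e3 q3697 (flp_b L92639) q2260, e3 q3698 L110461 q6226, e3 q3699 (flp_b L107813) q5858, e3 q3700 L92657 q3680, e3 q3701 (flp_b L92659) q2262, e3 q3702 L110517 q6236, e3 q3703 (flp_b L107835) q5862, e3 q3704 L110541 q6241, e3 q3705 (flp_b L92681) q2264, e3 q3706 L110561 q6245, e3 q3707 (flp_b L107863) q5866, e3 q3708 L92699 q3677, e3 q3709 (flp_b L92701) q2266, e3 q3710 L110611 q6253, e3 q3711 L110629 q6256, trivial⟩ (by decide +kernel)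

theorem ce_b_58 : ∀ r, r < 64 → sm gb (Qf (3712 + r)) = Qf (tab Gen.b (3712 + r)) :=
  edges_tab (sm gb) Qf (tab Gen.b) 3712 [(3712, 3712), (3713, 6260), (3714, 6262), (3715, 2269), (3716, 6265), (3717, 6268), (3718, 3718), (3719, 6272), (3720, 6274), (3721, 2568), (3722, 6215), (3723, 6278), (3724, 2273), (3725, 6280), (3726, 6286), (3727, 2274), (3728, 5898), (3729, 2287), (3730, 6294), (3731, 2276), (3732, 6298), (3733, 2277), (3734, 2591), (3735, 6304), (3736, 6235), (3737, 2279), (3738, 6307), (3739, 6313), (3740, 2280), (3741, 5920), (3742, 2293), (3743, 6321), (3744, 2282), (3745, 6325), (3746, 2283), (3747, 6329), (3748, 2285), (3749, 3769), (3750, 6338), (3751, 6334), (3752, 2286), (3753, 6342), (3754, 2288), (3755, 6346), (3756, 2589), (3757, 6349), (3758, 2291), (3759, 6357), (3760, 3775), (3761, 6354), (3762, 2292), (3763, 6362), (3764, 2294), (3765, 6366), (3766, 2612), (3767, 6369), (3768, 2297), (3769, 3749), (3770, 2582), (3771, 6374), (3772, 6379), (3773, 2299), (3774, 2605), (3775, 3760)]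
    ⟨e3 q3712 L92725 q3712, e3 q3713 L110646 q6260, e3 q3714 L110661 q6262, e3 q3715 (flp_b L92742) q2269, e3 q3716 L110679 q6265, e3 q3717 L110697 q6268, e3 q3718 L92766 q3718, e3 q3719 L110714 q6272, e3 q3720 L110729 q6274, e3 q3721 L92787 q2568, e3 q3722 (flp_b L110411) q6215, e3 q3723 L110757 q6278, e3 q3724 (flp_b L92799) q2273, e3 q3725 (flp_b L110777) q6280, e3 q3726 L110817 q6286, e3 q3727 (flp_b L92821) q2274, e3 q3728 (flp_b L108063) q5898, e3 q3729 L92829 q2287, e3 q3730 L110857 q6294, e3 q3731 (flp_b L92837) q2276, e3 q3732 L110881 q6298, e3 q3733 (flp_b L92853) q2277, e3 q3734 L92861 q2591, e3 q3735 L110917 q6304, e3 q3736 (flp_b L110515) q6235, e3 q3737 (flp_b L92875) q2279, e3 q3738 (flp_b L110945) q6307, e3 q3739 L110985 q6313, e3 q3740 (flp_b L92893) q2280, e3 q3741 (flp_b L108182) q5920, e3 q3742 L92901 q2293, e3 q3743 L111025 q6321, e3 q3744 (flp_b L92909) q2282, e3 q3745 L111049 q6325, e3 q3746 (flp_b L92925) q2283, e3 q3747 L111069 q6329, e3 q3748 L92936 q2285, e3 q3749 (flp_b L93053) q3769,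 e3 q3750 L111118 q6338, e3 q3751 (flp_b L111099) q6334, e3 q3752 (flp_b L92954) q2286, e3 q3753 L111143 q6342, e3 q3754 (flp_b L92966) q2288, e3 q3755 L111161 q6346, e3 q3756 L92980 q2589, e3 q3757 L111185 q6349, e3 q3758 L92989 q2291, e3 q3759 L111227 q6357, e3 q3760 (flp_b L93099) q3775, e3 q3761 (flp_b L111215) q6354, e3 q3762 (flp_b L93007) q2292, e3 q3763 L111259 q6362, e3 q3764 (flp_b L93019) q2294, e3 q3765 L111277 q6366, e3 q3766 L93035 q2612, e3 q3767 L111301 q6369, e3 q3768 L93045 q2297, e3 q3769 L93053 q3749, e3 q3770 L93061 q2582, e3 q3771 (flp_b L111331) q6374, e3 q3772 L111365 q6379, e3 q3773 L93083 q2299, e3 q3774 L93091 q2605, e3 q3775 L93099 q3760, trivial⟩ (by decide +kernel)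

theorem ce_b_59 : ∀ r, r < 64 → sm gb (Qf (3776 + r)) = Qf (tab Gen.b (3776 + r)) :=
  edges_tab (sm gb) Qf (tab Gen.b) 3776 [(3776, 6384), (3777, 2300), (3778, 2301), (3779, 2302), (3780, 6395), (3781, 2303), (3782, 6398), (3783, 6399), (3784, 2305), (3785, 6401), (3786, 2307), (3787, 2308), (3788, 4637), (3789, 2797), (3790, 2311), (3791, 4736), (3792, 2746), (3793, 4463), (3794, 6406), (3795, 2331), (3796, 3856), (3797, 2315), (3798, 6413), (3799, 2922), (3800, 5965), (3801, 6420), (3802, 2317), (3803, 6424), (3804, 6422), (3805, 3844), (3806, 2319), (3807, 6429), (3808, 2707), (3809, 5974), (3810, 4624), (3811, 4625), (3812, 4476), (3813, 6437), (3814, 3882), (3815, 2345), (3816, 2323), (3817, 6444), (3818, 2923), (3819, 5980), (3820, 6451), (3821, 2325), (3822, 6455), (3823, 6453), (3824, 3870), (3825, 2327), (3826, 6460), (3827, 2688), (3828, 5989), (3829, 4724), (3830, 4725), (3831, 4422), (3832, 6467), (3833, 4520), (3834, 2332), (3835, 6469), (3836, 2334), (3837, 6414), (3838, 6472), (3839, 6470)]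
    ⟨e3 q3776 (flp_b L111395) q6384, e3 q3777 (flp_b L93113) q2300, e3 q3778 (flp_b L93119) q2301, e3 q3779 (flp_b L93125) q2302, e3 q3780 L111461 q6395, e3 q3781 (flp_b L93133) q2303, e3 q3782 L111471 q6398, e3 q3783 L111473 q6399, e3 q3784 (flp_b L93147) q2305, e3 q3785 L111499 q6401, e3 q3786 (flp_b L93165) q2307, e3 q3787 (flp_b L93169) q2308, e3 q3788 (flp_b L97983) q4637, e3 q3789 L98077 q2797, e3 q3790 (flp_b L93195) q2311, e3 q3791 L98535 q4736, e3 q3792 (flp_b L150230) q2746, e3 q3793 (flp_b L97118) q4463, e3 q3794 L111571 q6406, e3 q3795 L93235 q2331, e3 q3796 (flp_b L93530) q3856, e3 q3797 (flp_b L93241) q2315, e3 q3798 (flp_b L111611) q6413, e3 q3799 (flp_b L119440) q2922, e3 q3800 (flp_b L108601) q5965, e3 q3801 L111649 q6420, e3 q3802 (flp_b L93261) q2317, e3 q3803 L111661 q6424, e3 q3804 (flp_b L111657) q6422, e3 q3805 (flp_b L93478) q3844, e3 q3806 (flp_b L93277) q2319, e3 q3807 L111687 q6429, e3 q3808 (flp_b L93293) q2707, e3 q3809 (flp_b L108637) q5974, e3 q3810 L150238 q4624, e3 q3811 (flp_b L97875)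 q4625, e3 q3812 (flp_b L97913) q4476, e3 q3813 L111725 q6437, e3 q3814 (flp_b L93669) q3882, e3 q3815 L93325 q2345, e3 q3816 (flp_b L93327) q2323, e3 q3817 (flp_b L111761) q6444, e3 q3818 (flp_b L147697) q2923, e3 q3819 (flp_b L108673) q5980, e3 q3820 L111795 q6451, e3 q3821 (flp_b L93347) q2325, e3 q3822 L111807 q6455, e3 q3823 (flp_b L111803) q6453, e3 q3824 (flp_b L93617) q3870, e3 q3825 (flp_b L93363) q2327, e3 q3826 L111833 q6460, e3 q3827 (flp_b L93379) q2688, e3 q3828 (flp_b L108709) q5989, e3 q3829 (flp_b L98453) q4724, e3 q3830 (flp_b L98463) q4725, e3 q3831 (flp_b L97035) q4422, e3 q3832 L111863 q6467, e3 q3833 (flp_b L97899) q4520, e3 q3834 (flp_b L93419) q2332, e3 q3835 L111877 q6469, e3 q3836 L93439 q2334, e3 q3837 (flp_b L111619) q6414, e3 q3838 L111908 q6472, e3 q3839 (flp_b L111891) q6470, trivial⟩ (by decide +kernel)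

theorem ce_b_60 : ∀ r, r < 64 → sm gb (Qf (3840 + r)) = Qf (tab Gen.b (3840 + r)) :=
  edges_tab (sm gb) Qf (tab Gen.b) 3840 [(3840, 6474), (3841, 2335), (3842, 6478), (3843, 6476), (3844, 3805), (3845, 2337), (3846, 6484), (3847, 3873), (3848, 6489), (3849, 2339), (3850, 6492), (3851, 6493), (3852, 6494), (3853, 2341), (3854, 2672), (3855, 6496), (3856, 3796), (3857, 6502), (3858, 4425), (3859, 2344), (3860, 6480), (3861, 4485), (3862, 2347), (3863, 6506), (3864, 6446), (3865, 6504), (3866, 6508), (3867, 2348), (3868, 6512), (3869, 6510), (3870, 3824), (3871, 2350), (3872, 6517), (3873, 3847), (3874, 6522), (3875, 2352), (3876, 6525), (3877, 6526), (3878, 6527), (3879, 2354), (3880, 2666), (3881, 6529), (3882, 3814), (3883, 2356), (3884, 5519), (3885, 6540), (3886, 6541), (3887, 3945), (3888, 2360), (3889, 4767), (3890, 6547), (3891, 6549), (3892, 2359), (3893, 6552), (3894, 6553), (3895, 2361), (3896, 6555), (3897, 2828), (3898, 6558), (3899, 2364), (3900, 2947), (3901, 6559), (3902, 2987), (3903, 6561)]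
    ⟨e3 q3840 L111920 q6474, e3 q3841 (flp_b L93466) q2335, e3 q3842 L111934 q6478, e3 q3843 (flp_b L111928) q6476, e3 q3844 L93478 q3805, e3 q3845 (flp_b L93482) q2337, e3 q3846 (flp_b L111972) q6484, e3 q3847 L147616 q3873, e3 q3848 L112004 q6489, e3 q3849 (flp_b L93498) q2339, e3 q3850 L112032 q6492, e3 q3851 L112036 q6493, e3 q3852 L112038 q6494, e3 q3853 (flp_b L93518) q2341, e3 q3854 L97889 q2672, e3 q3855 (flp_b L112046) q6496, e3 q3856 L93530 q3796, e3 q3857 L112070 q6502, e3 q3858 (flp_b L97911) q4425, e3 q3859 (flp_b L93562) q2344, e3 q3860 (flp_b L111956) q6480, e3 q3861 L97212 q4485, e3 q3862 L93586 q2347, e3 q3863 L112107 q6506, e3 q3864 (flp_b L111767) q6446, e3 q3865 (flp_b L112090) q6504, e3 q3866 L112119 q6508, e3 q3867 (flp_b L93605) q2348, e3 q3868 L112170 q6512, e3 q3869 (flp_b L112164) q6510, e3 q3870 L93617 q3824, e3 q3871 (flp_b L93621) q2350, e3 q3872 (flp_b L112202) q6517, e3 q3873 (flp_b L147616) q3847, e3 q3874 L112234 q6522, e3 q3875 (flp_b L93637) q2352, e3 q3876 L112262 q6525, e3 q3877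 L112266 q6526, e3 q3878 L112268 q6527, e3 q3879 (flp_b L93657) q2354, e3 q3880 L98069 q2666, e3 q3881 (flp_b L112276) q6529, e3 q3882 L93669 q3814, e3 q3883 (flp_b L93671) q2356, e3 q3884 (flp_b L119658) q5519, e3 q3885 L112340 q6540, e3 q3886 L112342 q6541, e3 q3887 (flp_b L94014) q3945, e3 q3888 L93695 q2360, e3 q3889 (flp_b L98693) q4767, e3 q3890 L112370 q6547, e3 q3891 L112384 q6549, e3 q3892 (flp_b L93710) q2359, e3 q3893 L112392 q6552, e3 q3894 L112394 q6553, e3 q3895 (flp_b L93729) q2361, e3 q3896 L112410 q6555, e3 q3897 L93737 q2828, e3 q3898 L112424 q6558, e3 q3899 L93743 q2364, e3 q3900 L119337 q2947, e3 q3901 L112454 q6559, e3 q3902 L119224 q2987, e3 q3903 L112474 q6561, trivial⟩ (by decide +kernel)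

theorem ce_b_61 : ∀ r, r < 64 → sm gb (Qf (3904 + r)) = Qf (tab Gen.b (3904 + r)) :=
  edges_tab (sm gb) Qf (tab Gen.b) 3904 [(3904, 2365), (3905, 2366), (3906, 6568), (3907, 6563), (3908, 2759), (3909, 2368), (3910, 5533), (3911, 6573), (3912, 2370), (3913, 5564), (3914, 6579), (3915, 6580), (3916, 3975), (3917, 2374), (3918, 6585), (3919, 4805), (3920, 2372), (3921, 6590), (3922, 6591), (3923, 6592), (3924, 2375), (3925, 6594), (3926, 2849), (3927, 6597), (3928, 2378), (3929, 6598), (3930, 2988), (3931, 6600), (3932, 2379), (3933, 2380), (3934, 6607), (3935, 6602), (3936, 2810), (3937, 2382), (3938, 5577), (3939, 6610), (3940, 2384), (3941, 6611), (3942, 6614), (3943, 2387), (3944, 2388), (3945, 3887), (3946, 6618), (3947, 3044), (3948, 6026), (3949, 2393), (3950, 6140), (3951, 6629), (3952, 2395), (3953, 3569), (3954, 6634), (3955, 6636), (3956, 2392), (3957, 6640), (3958, 6625), (3959, 6642), (3960, 2394), (3961, 3014), (3962, 6645), (3963, 2396), (3964, 5131), (3965, 2400), (3966, 2867), (3967, 6647)]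
    ⟨e3 q3904 (flp_b L93759) q2365, e3 q3905 (flp_b L93761) q2366, e3 q3906 L112502 q6568, e3 q3907 (flp_b L112482) q6563, e3 q3908 L93775 q2759, e3 q3909 (flp_b L93777) q2368, e3 q3910 (flp_b L120577) q5533, e3 q3911 L112542 q6573, e3 q3912 (flp_b L93795) q2370, e3 q3913 (flp_b L150422) q5564, e3 q3914 L112584 q6579, e3 q3915 L112586 q6580, e3 q3916 (flp_b L94265) q3975, e3 q3917 L93815 q2374, e3 q3918 L112608 q6585, e3 q3919 (flp_b L98874) q4805, e3 q3920 (flp_b L93825) q2372, e3 q3921 L112634 q6590, e3 q3922 L112636 q6591, e3 q3923 L112638 q6592, e3 q3924 (flp_b L93849) q2375, e3 q3925 L112654 q6594, e3 q3926 L93857 q2849, e3 q3927 L112668 q6597, e3 q3928 L93863 q2378, e3 q3929 L112694 q6598, e3 q3930 L148280 q2988, e3 q3931 L112718 q6600, e3 q3932 (flp_b L93879) q2379, e3 q3933 (flp_b L93881) q2380, e3 q3934 L112746 q6607, e3 q3935 (flp_b L112726) q6602, e3 q3936 L93895 q2810, e3 q3937 (flp_b L93897) q2382, e3 q3938 (flp_b L151391) q5577, e3 q3939 L112788 q6610, e3 q3940 (flp_b L93915) q2384, e3 q3941 (flp_b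 L112798) q6611, e3 q3942 L112894 q6614, e3 q3943 (flp_b L93984) q2387, e3 q3944 (flp_b L94006) q2388, e3 q3945 L94014 q3887, e3 q3946 (flp_b L112950) q6618, e3 q3947 (flp_b L120104) q3044, e3 q3948 (flp_b L148120) q6026, e3 q3949 L94038 q2393, e3 q3950 (flp_b L109671) q6140, e3 q3951 L113028 q6629, e3 q3952 L94050 q2395, e3 q3953 L119488 q3569, e3 q3954 L113062 q6634, e3 q3955 L113078 q6636, e3 q3956 (flp_b L94070) q2392, e3 q3957 L113092 q6640, e3 q3958 (flp_b L113010) q6625, e3 q3959 L113106 q6642, e3 q3960 (flp_b L94098) q2394, e3 q3961 (flp_b L119255) q3014, e3 q3962 L113128 q6645, e3 q3963 (flp_b L94120) q2396, e3 q3964 (flp_b L143433) q5131, e3 q3965 L94128 q2400, e3 q3966 L94132 q2867, e3 q3967 (flp_b L113140) q6647, trivial⟩ (by decide +kernel)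

theorem ce_b_62 : ∀ r, r < 64 → sm gb (Qf (3968 + r)) = Qf (tab Gen.b (3968 + r)) :=
  edges_tab (sm gb) Qf (tab Gen.b) 3968 [(3968, 6655), (3969, 6651), (3970, 2401), (3971, 6659), (3972, 6662), (3973, 2404), (3974, 2405), (3975, 3916), (3976, 6666), (3977, 6010), (3978, 3048), (3979, 2410), (3980, 6676), (3981, 6154), (3982, 2412), (3983, 6681), (3984, 3579), (3985, 2408), (3986, 6650), (3987, 6633), (3988, 6673), (3989, 6687), (3990, 2411), (3991, 3015), (3992, 6690), (3993, 2413), (3994, 5124), (3995, 2417), (3996, 2886), (3997, 6692), (3998, 6699), (3999, 6695), (4000, 2418), (4001, 6704), (4002, 5740), (4003, 6705), (4004, 6701), (4005, 6617), (4006, 2424), (4007, 2433), (4008, 6711), (4009, 6713), (4010, 2426), (4011, 5116), (4012, 6717), (4013, 6718), (4014, 2429), (4015, 2430), (4016, 6725), (4017, 6638), (4018, 6729), (4019, 2432), (4020, 6732), (4021, 2434), (4022, 6736), (4023, 2442), (4024, 6741), (4025, 2436), (4026, 2437), (4027, 6748), (4028, 6751), (4029, 2445), (4030, 6753), (4031, 2439)]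
    ⟨e3 q3968 L113192 q6655, e3 q3969 (flp_b L113162) q6651, e3 q3970 (flp_b L94166) q2401, e3 q3971 (flp_b L113226) q6659, e3 q3972 L113316 q6662, e3 q3973 (flp_b L94235) q2404, e3 q3974 (flp_b L94257) q2405, e3 q3975 L94265 q3916, e3 q3976 (flp_b L113378) q6666, e3 q3977 (flp_b L149568) q6010, e3 q3978 (flp_b L148524) q3048, e3 q3979 L94289 q2410, e3 q3980 L113450 q6676, e3 q3981 (flp_b L109808) q6154, e3 q3982 L94301 q2412, e3 q3983 L113482 q6681, e3 q3984 L148130 q3579, e3 q3985 (flp_b L94315) q2408, e3 q3986 (flp_b L148463) q6650, e3 q3987 (flp_b L149049) q6633, e3 q3988 (flp_b L113438) q6673, e3 q3989 L113534 q6687, e3 q3990 (flp_b L94349) q2411, e3 q3991 (flp_b L147353) q3015, e3 q3992 L113556 q6690, e3 q3993 (flp_b L94371) q2413, e3 q3994 (flp_b L149626) q5124, e3 q3995 L94379 q2417, e3 q3996 L94383 q2886, e3 q3997 (flp_b L113568) q6692, e3 q3998 L113620 q6699, e3 q3999 (flp_b L113590) q6695, e3 q4000 (flp_b L94417) q2418, e3 q4001 L113673 q6704, e3 q4002 (flp_b L107057) q5740, e3 q4003 L113711 q6705, e3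 q4004 (flp_b L113632) q6701, e3 q4005 L112942 q6617, e3 q4006 L94478 q2424, e3 q4007 (flp_b L120216) q2433, e3 q4008 L113769 q6711, e3 q4009 L113799 q6713, e3 q4010 (flp_b L94502) q2426, e3 q4011 (flp_b L119892) q5116, e3 q4012 L113843 q6717, e3 q4013 L113857 q6718, e3 q4014 (flp_b L94520) q2429, e3 q4015 (flp_b L94534) q2430, e3 q4016 L113889 q6725, e3 q4017 (flp_b L113088) q6638, e3 q4018 L113905 q6729, e3 q4019 (flp_b L94546) q2432, e3 q4020 L113937 q6732, e3 q4021 (flp_b L94566) q2434, e3 q4022 L113953 q6736, e3 q4023 L94578 q2442, e3 q4024 L113981 q6741, e3 q4025 (flp_b L94584) q2436, e3 q4026 (flp_b L94588) q2437, e3 q4027 L114019 q6748, e3 q4028 L114033 q6751, e3 q4029 L94602 q2445, e3 q4030 L114045 q6753, e3 q4031 (flp_b L94608) q2439, trivial⟩ (by decide +kernel)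

theorem ce_b_63 : ∀ r, r < 64 → sm gb (Qf (4032 + r)) = Qf (tab Gen.b (4032 + r)) :=
  edges_tab (sm gb) Qf (tab Gen.b) 4032 [(4032, 5685), (4033, 6757), (4034, 2447), (4035, 2485), (4036, 6761), (4037, 6739), (4038, 6764), (4039, 2444), (4040, 6767), (4041, 6771), (4042, 6752), (4043, 6774), (4044, 2446), (4045, 5115), (4046, 2448), (4047, 6780), (4048, 5706), (4049, 6781), (4050, 6777), (4051, 6665), (4052, 2454), (4053, 6786), (4054, 2463), (4055, 6789), (4056, 2455), (4057, 5120), (4058, 6793), (4059, 2458), (4060, 6723), (4061, 6797), (4062, 6684), (4063, 6801), (4064, 2461), (4065, 2462), (4066, 6806), (4067, 2464), (4068, 6810), (4069, 2472), (4070, 6815), (4071, 2466), (4072, 2467), (4073, 6822), (4074, 6825), (4075, 2475), (4076, 6827), (4077, 2469), (4078, 5721), (4079, 6831), (4080, 2477), (4081, 2492), (4082, 6835), (4083, 6813), (4084, 6838), (4085, 2474), (4086, 6841), (4087, 6845), (4088, 6826), (4089, 6848), (4090, 2476), (4091, 5108), (4092, 2478), (4093, 6852), (4094, 3440), (4095, 2480)]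
    ⟨e3 q4032 (flp_b L151026) q5685, e3 q4033 L114073 q6757, e3 q4034 L94626 q2447, e3 q4035 L94632 q2485, e3 q4036 L114105 q6761, e3 q4037 (flp_b L113973) q6739, e3 q4038 L114137 q6764, e3 q4039 (flp_b L94666) q2444, e3 q4040 (flp_b L114149) q6767, e3 q4041 L114161 q6771, e3 q4042 (flp_b L114039) q6752, e3 q4043 L114175 q6774, e3 q4044 (flp_b L94686) q2446, e3 q4045 L140993 q5115, e3 q4046 (flp_b L94696) q2448, e3 q4047 L114236 q6780, e3 q4048 (flp_b L106829) q5706, e3 q4049 L114282 q6781, e3 q4050 (flp_b L114199) q6777, e3 q4051 L113370 q6665, e3 q4052 L94757 q2454, e3 q4053 L114328 q6786, e3 q4054 L146434 q2463, e3 q4055 L114362 q6789, e3 q4056 (flp_b L94779) q2455, e3 q4057 (flp_b L129572) q5120, e3 q4058 L114398 q6793, e3 q4059 (flp_b L94793) q2458, e3 q4060 (flp_b L149754) q6723, e3 q4061 L114442 q6797, e3 q4062 (flp_b L113514) q6684, e3 q4063 L114458 q6801, e3 q4064 (flp_b L94823) q2461, e3 q4065 (flp_b L94825) q2462, e3 q4066 L114498 q6806, e3 q4067 (flp_b L94845) q2464, e3 q4068 L114514 q6810, e3 q4069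 L94857 q2472, e3 q4070 L114542 q6815, e3 q4071 (flp_b L94863) q2466, e3 q4072 (flp_b L94867) q2467, e3 q4073 L114580 q6822, e3 q4074 L114594 q6825, e3 q4075 L94881 q2475, e3 q4076 L114606 q6827, e3 q4077 (flp_b L94887) q2469, e3 q4078 (flp_b L150590) q5721, e3 q4079 L114634 q6831, e3 q4080 L94905 q2477, e3 q4081 L94911 q2492, e3 q4082 L114666 q6835, e3 q4083 (flp_b L114534) q6813, e3 q4084 L114702 q6838, e3 q4085 (flp_b L94947) q2474, e3 q4086 (flp_b L114716) q6841, e3 q4087 L114728 q6845, e3 q4088 (flp_b L114600) q6826, e3 q4089 L114748 q6848, e3 q4090 (flp_b L94973) q2476, e3 q4091 (flp_b L147407) q5108, e3 q4092 (flp_b L95031) q2478, e3 q4093 (flp_b L114820) q6852, e3 q4094 (flp_b L119721) q3440, e3 q4095 L95056 q2480, trivial⟩ (by decide +kernel)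

theorem ce_b_64 : ∀ r, r < 64 → sm gb (Qf (4096 + r)) = Qf (tab Gen.b (4096 + r)) :=
  edges_tab (sm gb) Qf (tab Gen.b) 4096 [(4096, 4096), (4097, 5091), (4098, 6858), (4099, 4934), (4100, 2481), (4101, 6864), (4102, 6743), (4103, 2483), (4104, 5095), (4105, 6869), (4106, 6870), (4107, 6871), (4108, 2486), (4109, 6873), (4110, 3441), (4111, 2488), (4112, 5089), (4113, 4113), (4114, 6879), (4115, 4935), (4116, 2489), (4117, 6885), (4118, 6817), (4119, 2491), (4120, 6890), (4121, 5099), (4122, 6891), (4123, 6892), (4124, 2917), (4125, 6486), (4126, 6519), (4127, 2495), (4128, 2496), (4129, 4129), (4130, 6899), (4131, 6901), (4132, 2498), (4133, 6905), (4134, 2499), (4135, 6908), (4136, 2500), (4137, 6912), (4138, 2501), (4139, 6916), (4140, 6917), (4141, 6903), (4142, 6921), (4143, 2503), (4144, 6925), (4145, 6906), (4146, 6929), (4147, 2505), (4148, 6933), (4149, 2507), (4150, 6939), (4151, 6941), (4152, 6943), (4153, 6944), (4154, 2508), (4155, 2509), (4156, 6951), (4157, 6946), (4158, 4199), (4159, 6957)]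
    ⟨e3 q4096 L95062 q4096, e3 q4097 (flp_b L130666) q5091, e3 q4098 (flp_b L114876) q6858, e3 q4099 L142673 q4934, e3 q4100 (flp_b L95079) q2481, e3 q4101 L114921 q6864, e3 q4102 (flp_b L114009) q6743, e3 q4103 (flp_b L95095) q2483, e3 q4104 (flp_b L120319) q5095, e3 q4105 L114971 q6869, e3 q4106 L114975 q6870, e3 q4107 L114981 q6871, e3 q4108 (flp_b L95125) q2486, e3 q4109 (flp_b L114993) q6873, e3 q4110 (flp_b L146717) q3441, e3 q4111 L95150 q2488, e3 q4112 L146691 q5089, e3 q4113 L95160 q4113, e3 q4114 (flp_b L115049) q6879, e3 q4115 L148254 q4935, e3 q4116 (flp_b L95173) q2489, e3 q4117 L115094 q6885, e3 q4118 (flp_b L114570) q6817, e3 q4119 (flp_b L95189) q2491, e3 q4120 L115140 q6890, e3 q4121 (flp_b L146724) q5099, e3 q4122 L115148 q6891, e3 q4123 L115152 q6892, e3 q4124 L95223 q2917, e3 q4125 (flp_b L119731) q6486, e3 q4126 (flp_b L147669) q6519, e3 q4127 (flp_b L95245) q2495, e3 q4128 (flp_b L95249) q2496, e3 q4129 L95257 q4129, e3 q4130 L115234 q6899, e3 q4131 L115248 q6901, e3 q4132 (flp_b L95274) q2498,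 e3 q4133 L115277 q6905, e3 q4134 (flp_b L95287) q2499, e3 q4135 L115297 q6908, e3 q4136 (flp_b L95302) q2500, e3 q4137 L115317 q6912, e3 q4138 (flp_b L95316) q2501, e3 q4139 L115335 q6916, e3 q4140 L115339 q6917, e3 q4141 (flp_b L115269) q6903, e3 q4142 L115367 q6921, e3 q4143 (flp_b L95348) q2503, e3 q4144 L115391 q6925, e3 q4145 (flp_b L115291) q6906, e3 q4146 L115417 q6929, e3 q4147 (flp_b L95368) q2505, e3 q4148 L115441 q6933, e3 q4149 L95376 q2507, e3 q4150 L115470 q6939, e3 q4151 L115478 q6941, e3 q4152 L115488 q6943, e3 q4153 L115493 q6944, e3 q4154 (flp_b L95402) q2508, e3 q4155 (flp_b L95404) q2509, e3 q4156 L115515 q6951, e3 q4157 (flp_b L115503) q6946, e3 q4158 (flp_b L95620) q4199, e3 q4159 L115545 q6957, trivial⟩ (by decide +kernel)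

theorem ce_b_65 : ∀ r, r < 64 → sm gb (Qf (4160 + r)) = Qf (tab Gen.b (4160 + r)) :=
  edges_tab (sm gb) Qf (tab Gen.b) 4160 [(4160, 6949), (4161, 4191), (4162, 2512), (4163, 6965), (4164, 6968), (4165, 4165), (4166, 6972), (4167, 6326), (4168, 2515), (4169, 6976), (4170, 6979), (4171, 4171), (4172, 6983), (4173, 6299), (4174, 2518), (4175, 6986), (4176, 2519), (4177, 6988), (4178, 2525), (4179, 6991), (4180, 2521), (4181, 2529), (4182, 6996), (4183, 2523), (4184, 2524), (4185, 6254), (4186, 6989), (4187, 7005), (4188, 2526), (4189, 7009), (4190, 6993), (4191, 4161), (4192, 2528), (4193, 6266), (4194, 6994), (4195, 7021), (4196, 2530), (4197, 7025), (4198, 6998), (4199, 4158), (4200, 2570), (4201, 4313), (4202, 2533), (4203, 7034), (4204, 2942), (4205, 4205), (4206, 7042), (4207, 2535), (4208, 7045), (4209, 7043), (4210, 4295), (4211, 2537), (4212, 7050), (4213, 6247), (4214, 4214), (4215, 7056), (4216, 7058), (4217, 4364), (4218, 2594), (4219, 2541), (4220, 7062), (4221, 2944), (4222, 4222), (4223, 7070)]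
    ⟨e3 q4160 (flp_b L115511) q6949, e3 q4161 (flp_b L95584) q4191, e3 q4162 (flp_b L95426) q2512, e3 q4163 L115587 q6965, e3 q4164 L115607 q6968, e3 q4165 L95446 q4165, e3 q4166 L115624 q6972, e3 q4167 L111057 q6326, e3 q4168 (flp_b L95461) q2515, e3 q4169 L115663 q6976, e3 q4170 L115681 q6979, e3 q4171 L95481 q4171, e3 q4172 L115698 q6983, e3 q4173 L110889 q6299, e3 q4174 (flp_b L95496) q2518, e3 q4175 L115725 q6986, e3 q4176 (flp_b L95509) q2519, e3 q4177 L115745 q6988, e3 q4178 L95532 q2525, e3 q4179 L115762 q6991, e3 q4180 (flp_b L95536) q2521, e3 q4181 L95544 q2529, e3 q4182 L115798 q6996, e3 q4183 (flp_b L95548) q2523, e3 q4184 (flp_b L95550) q2524, e3 q4185 (flp_b L115818) q6254, e3 q4186 (flp_b L115753) q6989, e3 q4187 L115850 q7005, e3 q4188 (flp_b L95568) q2526, e3 q4189 L115866 q7009, e3 q4190 (flp_b L115770) q6993, e3 q4191 L95584 q4161, e3 q4192 (flp_b L95586) q2528, e3 q4193 (flp_b L149744) q6266, e3 q4194 (flp_b L115791) q6994, e3 q4195 L115932 q7021, e3 q4196 (flp_b L95604) q2530, e3 q4197 L115948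 q7025, e3 q4198 (flp_b L115806) q6998, e3 q4199 L95620 q4158, e3 q4200 L95626 q2570, e3 q4201 (flp_b L96241) q4313, e3 q4202 (flp_b L95632) q2533, e3 q4203 (flp_b L116002) q7034, e3 q4204 (flp_b L116052) q2942, e3 q4205 L95648 q4205, e3 q4206 L116098 q7042, e3 q4207 (flp_b L95657) q2535, e3 q4208 L116119 q7045, e3 q4209 (flp_b L116113) q7043, e3 q4210 (flp_b L96135) q4295, e3 q4211 (flp_b L95678) q2537, e3 q4212 L116159 q7050, e3 q4213 (flp_b L110581) q6247, e3 q4214 L95698 q4214, e3 q4215 L116188 q7056, e3 q4216 L116205 q7058, e3 q4217 (flp_b L96526) q4364, e3 q4218 L95729 q2594, e3 q4219 (flp_b L95731) q2541, e3 q4220 (flp_b L116275) q7062, e3 q4221 (flp_b L148998) q2944, e3 q4222 L95747 q4222, e3 q4223 L116330 q7070, trivial⟩ (by decide +kernel)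

theorem ce_b_66 : ∀ r, r < 64 → sm gb (Qf (4224 + r)) = Qf (tab Gen.b (4224 + r)) :=
  edges_tab (sm gb) Qf (tab Gen.b) 4224 [(4224, 2543), (4225, 7073), (4226, 7071), (4227, 4346), (4228, 2545), (4229, 7078), (4230, 6228), (4231, 4231), (4232, 7084), (4233, 7086), (4234, 7000), (4235, 7088), (4236, 2549), (4237, 7090), (4238, 7094), (4239, 2550), (4240, 7098), (4241, 4241), (4242, 7102), (4243, 2552), (4244, 7106), (4245, 7107), (4246, 7104), (4247, 7111), (4248, 2554), (4249, 2555), (4250, 7117), (4251, 7120), (4252, 4252), (4253, 7124), (4254, 7126), (4255, 7127), (4256, 7017), (4257, 2559), (4258, 7130), (4259, 7134), (4260, 2560), (4261, 7138), (4262, 4262), (4263, 7142), (4264, 2562), (4265, 7146), (4266, 7147), (4267, 7144), (4268, 7151), (4269, 2564), (4270, 2565), (4271, 7157), (4272, 7160), (4273, 4273), (4274, 7164), (4275, 7166), (4276, 7167), (4277, 7168), (4278, 2569), (4279, 7169), (4280, 5178), (4281, 7175), (4282, 7177), (4283, 2571), (4284, 7181), (4285, 4285), (4286, 2573), (4287, 7035)]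
    ⟨e3 q4224 (flp_b L95756) q2543, e3 q4225 L116351 q7073, e3 q4226 (flp_b L116345) q7071, e3 q4227 (flp_b L96420) q4346, e3 q4228 (flp_b L95777) q2545, e3 q4229 L116393 q7078, e3 q4230 (flp_b L110481) q6228, e3 q4231 L95797 q4231, e3 q4232 L116422 q7084, e3 q4233 L116439 q7086, e3 q4234 (flp_b L115830) q7000, e3 q4235 L116455 q7088, e3 q4236 (flp_b L95826) q2549, e3 q4237 (flp_b L116473) q7090, e3 q4238 L116491 q7094, e3 q4239 (flp_b L95840) q2550, e3 q4240 L116505 q7098, e3 q4241 L95848 q4241, e3 q4242 L116522 q7102, e3 q4243 (flp_b L95853) q2552, e3 q4244 L116547 q7106, e3 q4245 L116549 q7107, e3 q4246 (flp_b L116543) q7104, e3 q4247 L116567 q7111, e3 q4248 (flp_b L95878) q2554, e3 q4249 (flp_b L95882) q2555, e3 q4250 L116599 q7117, e3 q4251 L116613 q7120, e3 q4252 L95900 q4252, e3 q4253 L116626 q7124, e3 q4254 L116639 q7126, e3 q4255 L116645 q7127, e3 q4256 (flp_b L115910) q7017, e3 q4257 (flp_b L95927) q2559, e3 q4258 (flp_b L116673) q7130, e3 q4259 L116691 q7134, e3 q4260 (flp_b L95941) q2560, e3 q4261 L116705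 q7138, e3 q4262 L95949 q4262, e3 q4263 L116720 q7142, e3 q4264 (flp_b L95954) q2562, e3 q4265 L116745 q7146, e3 q4266 L116747 q7147, e3 q4267 (flp_b L116741) q7144, e3 q4268 L116771 q7151, e3 q4269 (flp_b L95985) q2564, e3 q4270 (flp_b L95989) q2565, e3 q4271 L116815 q7157, e3 q4272 L116833 q7160, e3 q4273 L96013 q4273, e3 q4274 L116850 q7164, e3 q4275 L116867 q7166, e3 q4276 L116875 q7167, e3 q4277 L116883 q7168, e3 q4278 (flp_b L96042) q2569, e3 q4279 (flp_b L116891) q7169, e3 q4280 (flp_b L119589) q5178, e3 q4281 L116943 q7175, e3 q4282 L116957 q7177, e3 q4283 (flp_b L96068) q2571, e3 q4284 L116985 q7181, e3 q4285 L96086 q4285, e3 q4286 L96089 q2573, e3 q4287 (flp_b L116008) q7035, trivial⟩ (by decide +kernel)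

theorem ce_b_67 : ∀ r, r < 64 → sm gb (Qf (4288 + r)) = Qf (tab Gen.b (4288 + r)) :=
  edges_tab (sm gb) Qf (tab Gen.b) 4288 [(4288, 7188), (4289, 7190), (4290, 7184), (4291, 7194), (4292, 2574), (4293, 7198), (4294, 7196), (4295, 4210), (4296, 2576), (4297, 7204), (4298, 7205), (4299, 7211), (4300, 7213), (4301, 2578), (4302, 7217), (4303, 7218), (4304, 7219), (4305, 2580), (4306, 2581), (4307, 7227), (4308, 6376), (4309, 7232), (4310, 2583), (4311, 6190), (4312, 7221), (4313, 4201), (4314, 4365), (4315, 7244), (4316, 7248), (4317, 7226), (4318, 2586), (4319, 7251), (4320, 7257), (4321, 2587), (4322, 7259), (4323, 2623), (4324, 6345), (4325, 7265), (4326, 2590), (4327, 7269), (4328, 7270), (4329, 2592), (4330, 7271), (4331, 7276), (4332, 5189), (4333, 2593), (4334, 7200), (4335, 7282), (4336, 4336), (4337, 2596), (4338, 7288), (4339, 7064), (4340, 7291), (4341, 7285), (4342, 7295), (4343, 2597), (4344, 7299), (4345, 7297), (4346, 4227), (4347, 2599), (4348, 7304), (4349, 7305), (4350, 7311), (4351, 7313)]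
    ⟨e3 q4288 L117025 q7188, e3 q4289 L117039 q7190, e3 q4290 (flp_b L117007) q7184, e3 q4291 L117073 q7194, e3 q4292 (flp_b L96119) q2574, e3 q4293 L117093 q7198, e3 q4294 (flp_b L117085) q7196, e3 q4295 L96135 q4210, e3 q4296 (flp_b L96137) q2576, e3 q4297 (flp_b L117129) q7204, e3 q4298 (flp_b L117133) q7205, e3 q4299 L117179 q7211, e3 q4300 L117189 q7213, e3 q4301 (flp_b L96173) q2578, e3 q4302 L117217 q7217, e3 q4303 L117221 q7218, e3 q4304 L117225 q7219, e3 q4305 (flp_b L96197) q2580, e3 q4306 (flp_b L96201) q2581, e3 q4307 L117271 q7227, e3 q4308 (flp_b L111345) q6376, e3 q4309 L117295 q7232, e3 q4310 (flp_b L96223) q2583, e3 q4311 (flp_b L150276) q6190, e3 q4312 (flp_b L117239) q7221, e3 q4313 L96241 q4201, e3 q4314 (flp_b L96532) q4365, e3 q4315 L117373 q7244, e3 q4316 L117393 q7248, e3 q4317 (flp_b L117269) q7226, e3 q4318 (flp_b L96259) q2586, e3 q4319 (flp_b L117417) q7251, e3 q4320 L117447 q7257, e3 q4321 (flp_b L96277) q2587, e3 q4322 L117455 q7259, e3 q4323 L96285 q2623, e3 q4324 (flp_b L111159) q6345,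 e3 q4325 L117487 q7265, e3 q4326 (flp_b L96303) q2590, e3 q4327 L117511 q7269, e3 q4328 L117517 q7270, e3 q4329 (flp_b L96327) q2592, e3 q4330 (flp_b L117529) q7271, e3 q4331 L117569 q7276, e3 q4332 (flp_b L150005) q5189, e3 q4333 (flp_b L96347) q2593, e3 q4334 L117113 q7200, e3 q4335 L117619 q7282, e3 q4336 L96371 q4336, e3 q4337 L96374 q2596, e3 q4338 L117653 q7288, e3 q4339 (flp_b L116285) q7064, e3 q4340 L117673 q7291, e3 q4341 (flp_b L117641) q7285, e3 q4342 L117703 q7295, e3 q4343 (flp_b L96404) q2597, e3 q4344 L117723 q7299, e3 q4345 (flp_b L117715) q7297, e3 q4346 L96420 q4227, e3 q4347 (flp_b L96422) q2599, e3 q4348 (flp_b L117751) q7304, e3 q4349 (flp_b L117755) q7305, e3 q4350 L117789 q7311, e3 q4351 L117799 q7313, trivial⟩ (by decide +kernel)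

theorem ce_b_68 : ∀ r, r < 64 → sm gb (Qf (4352 + r)) = Qf (tab Gen.b (4352 + r)) :=
  edges_tab (sm gb) Qf (tab Gen.b) 4352 [(4352, 2601), (4353, 7317), (4354, 7318), (4355, 7319), (4356, 2603), (4357, 2604), (4358, 7327), (4359, 6385), (4360, 7332), (4361, 2606), (4362, 6186), (4363, 7321), (4364, 4217), (4365, 4314), (4366, 7344), (4367, 7325), (4368, 7349), (4369, 2609), (4370, 7351), (4371, 7357), (4372, 2610), (4373, 7359), (4374, 2633), (4375, 6365), (4376, 7365), (4377, 2613), (4378, 7369), (4379, 2615), (4380, 4380), (4381, 2616), (4382, 6918), (4383, 7377), (4384, 7378), (4385, 2619), (4386, 7381), (4387, 7386), (4388, 2621), (4389, 6341), (4390, 3494), (4391, 7391), (4392, 2622), (4393, 7397), (4394, 7400), (4395, 2625), (4396, 4396), (4397, 2626), (4398, 6926), (4399, 7408), (4400, 7409), (4401, 2629), (4402, 7412), (4403, 7417), (4404, 2631), (4405, 3504), (4406, 6361), (4407, 7422), (4408, 2632), (4409, 7428), (4410, 2634), (4411, 7431), (4412, 7433), (4413, 2636), (4414, 7435), (4415, 7437)]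
    ⟨e3 q4352 (flp_b L96458) q2601, e3 q4353 L117827 q7317, e3 q4354 L117831 q7318, e3 q4355 L117835 q7319, e3 q4356 (flp_b L96482) q2603, e3 q4357 (flp_b L96486) q2604, e3 q4358 L117881 q7327, e3 q4359 (flp_b L111403) q6385, e3 q4360 L117905 q7332, e3 q4361 (flp_b L96508) q2606, e3 q4362 L110218 q6186, e3 q4363 (flp_b L117849) q7321, e3 q4364 L96526 q4217, e3 q4365 L96532 q4314, e3 q4366 L117987 q7344, e3 q4367 (flp_b L117871) q7325, e3 q4368 L118017 q7349, e3 q4369 (flp_b L96546) q2609, e3 q4370 (flp_b L118031) q7351, e3 q4371 L118061 q7357, e3 q4372 (flp_b L96564) q2610, e3 q4373 L118069 q7359, e3 q4374 L96572 q2633, e3 q4375 (flp_b L111275) q6365, e3 q4376 L118101 q7365, e3 q4377 (flp_b L96590) q2613, e3 q4378 L118125 q7369, e3 q4379 L96602 q2615, e3 q4380 L96610 q4380, e3 q4381 (flp_b L96611) q2616, e3 q4382 (flp_b L115355) q6918, e3 q4383 L118225 q7377, e3 q4384 L118230 q7378, e3 q4385 (flp_b L96641) q2619, e3 q4386 (flp_b L118250) q7381, e3 q4387 L118276 q7386, e3 q4388 L96657 q2621, e3 q4389 (flp_b L111141)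 q6341, e3 q4390 L96667 q3494, e3 q4391 (flp_b L118302) q7391, e3 q4392 (flp_b L96679) q2622, e3 q4393 (flp_b L118336) q7397, e3 q4394 L118352 q7400, e3 q4395 L96701 q2625, e3 q4396 L96709 q4396, e3 q4397 (flp_b L96710) q2626, e3 q4398 (flp_b L150738) q6926, e3 q4399 L118412 q7408, e3 q4400 L118417 q7409, e3 q4401 (flp_b L96740) q2629, e3 q4402 (flp_b L118439) q7412, e3 q4403 L118465 q7417, e3 q4404 L96756 q2631, e3 q4405 L96762 q3504, e3 q4406 (flp_b L111257) q6361, e3 q4407 (flp_b L118491) q7422, e3 q4408 (flp_b L96778) q2632, e3 q4409 (flp_b L118525) q7428, e3 q4410 (flp_b L96794) q2634, e3 q4411 (flp_b L118544) q7431, e3 q4412 L118566 q7433, e3 q4413 (flp_b L96817) q2636, e3 q4414 (flp_b L118587) q7435, e3 q4415 L118613 q7437, trivial⟩ (by decide +kernel)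

theorem ce_b_69 : ∀ r, r < 64 → sm gb (Qf (4416 + r)) = Qf (tab Gen.b (4416 + r)) :=
  edges_tab (sm gb) Qf (tab Gen.b) 4416 [(4416, 5085), (4417, 2921), (4418, 4579), (4419, 4680), (4420, 2641), (4421, 2642), (4422, 3831), (4423, 7442), (4424, 4460), (4425, 3858), (4426, 7444), (4427, 4452), (4428, 2645), (4429, 7452), (4430, 7453), (4431, 4431), (4432, 4432), (4433, 7461), (4434, 7463), (4435, 2647), (4436, 7466), (4437, 2648), (4438, 7468), (4439, 2654), (4440, 7471), (4441, 2650), (4442, 2658), (4443, 7476), (4444, 2652), (4445, 2653), (4446, 2818), (4447, 7469), (4448, 4577), (4449, 2655), (4450, 4723), (4451, 7473), (4452, 4427), (4453, 2657), (4454, 2838), (4455, 7474), (4456, 4677), (4457, 2659), (4458, 4623), (4459, 7478), (4460, 4424), (4461, 2673), (4462, 7497), (4463, 3793), (4464, 4730), (4465, 2662), (4466, 7500), (4467, 7504), (4468, 2663), (4469, 4469), (4470, 7507), (4471, 2665), (4472, 7510), (4473, 2692), (4474, 7511), (4475, 4631), (4476, 3812), (4477, 2668), (4478, 7514), (4479, 7518)]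
    ⟨e3 q4416 (flp_b L102928) q5085, e3 q4417 L96916 q2921, e3 q4418 (flp_b L119741) q4579, e3 q4419 (flp_b L147656) q4680, e3 q4420 (flp_b L96932) q2641, e3 q4421 (flp_b L96934) q2642, e3 q4422 L97035 q3831, e3 q4423 (flp_b L118742) q7442, e3 q4424 (flp_b L97102) q4460, e3 q4425 L97911 q3858, e3 q4426 (flp_b L118750) q7444, e3 q4427 (flp_b L97074) q4452, e3 q4428 (flp_b L96948) q2645, e3 q4429 (flp_b L118789) q7452, e3 q4430 (flp_b L118803) q7453, e3 q4431 L118941 q4431, e3 q4432 L122012 q4432, e3 q4433 L118870 q7461, e3 q4434 L118882 q7463, e3 q4435 (flp_b L96979) q2647, e3 q4436 L118905 q7466, e3 q4437 (flp_b L96990) q2648, e3 q4438 L118921 q7468, e3 q4439 L97009 q2654, e3 q4440 L120609 q7471, e3 q4441 (flp_b L97013) q2650, e3 q4442 L97021 q2658, e3 q4443 L120663 q7476, e3 q4444 (flp_b L97025) q2652, e3 q4445 (flp_b L97027) q2653, e3 q4446 L97043 q2818, e3 q4447 (flp_b L118928) q7469, e3 q4448 (flp_b L120880) q4577, e3 q4449 (flp_b L97064) q2655, e3 q4450 (flp_b L98479) q4723, e3 q4451 (flp_b L120639) q7473,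 e3 q4452 L97074 q4427, e3 q4453 (flp_b L97076) q2657, e3 q4454 L150626 q2838, e3 q4455 (flp_b L120656) q7474, e3 q4456 (flp_b L151109) q4677, e3 q4457 (flp_b L97092) q2659, e3 q4458 L97971 q4623, e3 q4459 (flp_b L120716) q7478, e3 q4460 L97102 q4424, e3 q4461 L97106 q2673, e3 q4462 L120832 q7497, e3 q4463 L97118 q3793, e3 q4464 L98505 q4730, e3 q4465 (flp_b L97122) q2662, e3 q4466 (flp_b L120854) q7500, e3 q4467 L120874 q7504, e3 q4468 (flp_b L97138) q2663, e3 q4469 L97142 q4469, e3 q4470 L120894 q7507, e3 q4471 (flp_b L97147) q2665, e3 q4472 L120939 q7510, e3 q4473 L97162 q2692, e3 q4474 L120949 q7511, e3 q4475 L97975 q4631, e3 q4476 L97913 q3812, e3 q4477 (flp_b L97170) q2668, e3 q4478 (flp_b L120969) q7514, e3 q4479 L120993 q7518, trivial⟩ (by decide +kernel)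

theorem ce_b_70 : ∀ r, r < 64 → sm gb (Qf (4480 + r)) = Qf (tab Gen.b (4480 + r)) :=
  edges_tab (sm gb) Qf (tab Gen.b) 4480 [(4480, 2669), (4481, 4481), (4482, 7521), (4483, 2671), (4484, 7524), (4485, 3861), (4486, 2674), (4487, 7527), (4488, 6442), (4489, 4721), (4490, 7528), (4491, 2678), (4492, 2722), (4493, 4610), (4494, 4932), (4495, 7533), (4496, 2679), (4497, 7539), (4498, 7465), (4499, 7462), (4500, 7541), (4501, 2681), (4502, 2684), (4503, 4585), (4504, 2683), (4505, 7548), (4506, 7544), (4507, 7553), (4508, 4543), (4509, 7554), (4510, 7547), (4511, 2687), (4512, 7556), (4513, 7562), (4514, 2974), (4515, 4515), (4516, 7565), (4517, 2690), (4518, 7568), (4519, 2691), (4520, 3833), (4521, 2693), (4522, 7572), (4523, 4621), (4524, 6410), (4525, 7573), (4526, 2697), (4527, 4710), (4528, 2774), (4529, 4933), (4530, 7578), (4531, 2698), (4532, 7584), (4533, 7467), (4534, 7464), (4535, 7586), (4536, 2700), (4537, 2703), (4538, 4686), (4539, 2702), (4540, 7593), (4541, 7589), (4542, 7598), (4543, 4508)]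
    ⟨e3 q4480 (flp_b L97184) q2669, e3 q4481 L97190 q4481, e3 q4482 L121020 q7521, e3 q4483 (flp_b L97195) q2671, e3 q4484 L121038 q7524, e3 q4485 (flp_b L97212) q3861, e3 q4486 (flp_b L97214) q2674, e3 q4487 L121056 q7527, e3 q4488 (flp_b L111755) q6442, e3 q4489 L98439 q4721, e3 q4490 L121058 q7528, e3 q4491 L97240 q2678, e3 q4492 L97244 q2722, e3 q4493 (flp_b L97819) q4610, e3 q4494 (flp_b L119745) q4932, e3 q4495 (flp_b L121105) q7533, e3 q4496 (flp_b L97262) q2679, e3 q4497 (flp_b L121150) q7539, e3 q4498 L120619 q7465, e3 q4499 L120631 q7462, e3 q4500 L121161 q7541, e3 q4501 (flp_b L97288) q2681, e3 q4502 L97299 q2684, e3 q4503 (flp_b L97700) q4585, e3 q4504 (flp_b L97303) q2683, e3 q4505 L121194 q7548, e3 q4506 (flp_b L121175) q7544, e3 q4507 L121214 q7553, e3 q4508 (flp_b L97494) q4543, e3 q4509 L121222 q7554, e3 q4510 (flp_b L121192) q7547, e3 q4511 (flp_b L97331) q2687, e3 q4512 (flp_b L121234) q7556, e3 q4513 L121262 q7562, e3 q4514 (flp_b L163245) q2974, e3 q4515 L97349 q4515, e3 q4516 L121285 q7565,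 e3 q4517 (flp_b L97354) q2690, e3 q4518 L121307 q7568, e3 q4519 (flp_b L97367) q2691, e3 q4520 L97899 q3833, e3 q4521 (flp_b L97383) q2693, e3 q4522 L121361 q7572, e3 q4523 (flp_b L97883) q4621, e3 q4524 (flp_b L111593) q6410, e3 q4525 L121381 q7573, e3 q4526 L97411 q2697, e3 q4527 (flp_b L98389) q4710, e3 q4528 L97417 q2774, e3 q4529 (flp_b L147694) q4933, e3 q4530 (flp_b L121400) q7578, e3 q4531 (flp_b L97433) q2698, e3 q4532 (flp_b L121440) q7584, e3 q4533 (flp_b L149174) q7467, e3 q4534 (flp_b L149068) q7464, e3 q4535 L121472 q7586, e3 q4536 (flp_b L97459) q2700, e3 q4537 L97470 q2703, e3 q4538 (flp_b L98274) q4686, e3 q4539 (flp_b L97474) q2702, e3 q4540 L121523 q7593, e3 q4541 (flp_b L121504) q7589, e3 q4542 L121543 q7598, e3 q4543 L97494 q4508, trivial⟩ (by decide +kernel)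

theorem ce_b_71 : ∀ r, r < 64 → sm gb (Qf (4544 + r)) = Qf (tab Gen.b (4544 + r)) :=
  edges_tab (sm gb) Qf (tab Gen.b) 4544 [(4544, 7599), (4545, 7592), (4546, 2706), (4547, 7601), (4548, 7607), (4549, 2976), (4550, 4550), (4551, 7610), (4552, 2709), (4553, 7613), (4554, 2710), (4555, 2711), (4556, 2712), (4557, 7617), (4558, 5321), (4559, 7620), (4560, 7622), (4561, 2716), (4562, 7626), (4563, 2717), (4564, 7487), (4565, 7624), (4566, 4667), (4567, 2719), (4568, 4568), (4569, 7470), (4570, 7636), (4571, 7637), (4572, 2725), (4573, 7534), (4574, 7645), (4575, 7647), (4576, 2723), (4577, 4448), (4578, 2724), (4579, 4418), (4580, 4681), (4581, 7651), (4582, 2726), (4583, 7654), (4584, 2729), (4585, 4503), (4586, 2728), (4587, 7661), (4588, 2769), (4589, 7657), (4590, 7667), (4591, 4591), (4592, 7670), (4593, 4593), (4594, 7672), (4595, 2733), (4596, 7677), (4597, 2734), (4598, 7681), (4599, 7682), (4600, 7675), (4601, 7683), (4602, 2736), (4603, 2737), (4604, 7691), (4605, 2743), (4606, 7695), (4607, 2739)]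
    ⟨e3 q4544 L121551 q7599, e3 q4545 (flp_b L121521) q7592, e3 q4546 (flp_b L97504) q2706, e3 q4547 (flp_b L121569) q7601, e3 q4548 L121593 q7607, e3 q4549 (flp_b L163392) q2976, e3 q4550 L97522 q4550, e3 q4551 L121616 q7610, e3 q4552 (flp_b L97527) q2709, e3 q4553 L121639 q7613, e3 q4554 (flp_b L97540) q2710, e3 q4555 (flp_b L97544) q2711, e3 q4556 (flp_b L97552) q2712, e3 q4557 L121659 q7617, e3 q4558 L119614 q5321, e3 q4559 L121680 q7620, e3 q4560 L121693 q7622, e3 q4561 (flp_b L97587) q2716, e3 q4562 L121707 q7626, e3 q4563 (flp_b L97597) q2717, e3 q4564 (flp_b L120776) q7487, e3 q4565 (flp_b L121703) q7624, e3 q4566 (flp_b L98183) q4667, e3 q4567 (flp_b L97617) q2719, e3 q4568 L97623 q4568, e3 q4569 (flp_b L120884) q7470, e3 q4570 L121768 q7636, e3 q4571 L121771 q7637, e3 q4572 L97636 q2725, e3 q4573 (flp_b L121117) q7534, e3 q4574 L121819 q7645, e3 q4575 L121835 q7647, e3 q4576 (flp_b L97650) q2723, e3 q4577 L120880 q4448, e3 q4578 (flp_b L97660) q2724, e3 q4579 L119741 q4418, e3 q4580 L147613 q4681, e3 q4581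 L121861 q7651, e3 q4582 (flp_b L97688) q2726, e3 q4583 L121877 q7654, e3 q4584 L97696 q2729, e3 q4585 L97700 q4503, e3 q4586 (flp_b L97702) q2728, e3 q4587 L121911 q7661, e3 q4588 (flp_b L97714) q2769, e3 q4589 (flp_b L121893) q7657, e3 q4590 L121933 q7667, e3 q4591 L97726 q4591, e3 q4592 L121952 q7670, e3 q4593 L97739 q4593, e3 q4594 L121965 q7672, e3 q4595 (flp_b L97746) q2733, e3 q4596 L121994 q7677, e3 q4597 (flp_b L97757) q2734, e3 q4598 L122044 q7681, e3 q4599 L122048 q7682, e3 q4600 (flp_b L121988) q7675, e3 q4601 L122052 q7683, e3 q4602 (flp_b L97785) q2736, e3 q4603 (flp_b L97789) q2737, e3 q4604 L122080 q7691, e3 q4605 L97799 q2743, e3 q4606 L122102 q7695, e3 q4607 (flp_b L97807) q2739, trivial⟩ (by decide +kernel)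

theorem ce_b_72 : ∀ r, r < 64 → sm gb (Qf (4608 + r)) = Qf (tab Gen.b (4608 + r)) :=
  edges_tab (sm gb) Qf (tab Gen.b) 4608 [(4608, 7659), (4609, 2747), (4610, 4493), (4611, 6392), (4612, 7704), (4613, 4656), (4614, 2752), (4615, 2742), (4616, 7709), (4617, 7714), (4618, 7694), (4619, 7719), (4620, 2744), (4621, 4523), (4622, 7721), (4623, 4458), (4624, 3810), (4625, 3811), (4626, 7700), (4627, 7731), (4628, 4728), (4629, 7733), (4630, 6403), (4631, 4475), (4632, 2750), (4633, 7737), (4634, 7742), (4635, 7743), (4636, 2751), (4637, 3788), (4638, 7745), (4639, 2754), (4640, 7753), (4641, 7711), (4642, 7756), (4643, 7750), (4644, 5171), (4645, 2755), (4646, 7760), (4647, 2757), (4648, 7764), (4649, 7765), (4650, 5582), (4651, 6567), (4652, 7774), (4653, 2760), (4654, 6411), (4655, 7776), (4656, 4613), (4657, 2762), (4658, 2763), (4659, 7783), (4660, 5342), (4661, 7786), (4662, 2766), (4663, 7791), (4664, 7792), (4665, 7496), (4666, 7789), (4667, 4566), (4668, 2770), (4669, 4669), (4670, 7801), (4671, 7475)]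
    ⟨e3 q4608 L121905 q7659, e3 q4609 L97815 q2747, e3 q4610 L97819 q4493, e3 q4611 (flp_b L111451) q6392, e3 q4612 L122146 q7704, e3 q4613 (flp_b L98063) q4656, e3 q4614 L97829 q2752, e3 q4615 (flp_b L97831) q2742, e3 q4616 (flp_b L122168) q7709, e3 q4617 L122190 q7714, e3 q4618 (flp_b L122098) q7694, e3 q4619 L122214 q7719, e3 q4620 (flp_b L97851) q2744, e3 q4621 L97883 q4523, e3 q4622 (flp_b L122222) q7721, e3 q4623 (flp_b L97971) q4458, e3 q4624 (flp_b L150238) q3810, e3 q4625 L97875 q3811, e3 q4626 (flp_b L122128) q7700, e3 q4627 L122262 q7731, e3 q4628 (flp_b L98477) q4728, e3 q4629 L122274 q7733, e3 q4630 (flp_b L111521) q6403, e3 q4631 (flp_b L97975) q4475, e3 q4632 (flp_b L97945) q2750, e3 q4633 (flp_b L122300) q7737, e3 q4634 L122322 q7742, e3 q4635 L122324 q7743, e3 q4636 (flp_b L97959) q2751, e3 q4637 L97983 q3788, e3 q4638 L122340 q7745, e3 q4639 L97993 q2754, e3 q4640 L122370 q7753, e3 q4641 (flp_b L122174) q7711, e3 q4642 L122384 q7756, e3 q4643 (flp_b L122360) q7750, e3 q4644 L120599 q5171, e3 q4645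 (flp_b L98017) q2755, e3 q4646 (flp_b L122414) q7760, e3 q4647 (flp_b L98021) q2757, e3 q4648 (flp_b L122428) q7764, e3 q4649 (flp_b L122432) q7765, e3 q4650 (flp_b L151451) q5582, e3 q4651 (flp_b L112500) q6567, e3 q4652 L122484 q7774, e3 q4653 (flp_b L98051) q2760, e3 q4654 (flp_b L111603) q6411, e3 q4655 (flp_b L122492) q7776, e3 q4656 L98063 q4613, e3 q4657 (flp_b L98101) q2762, e3 q4658 (flp_b L98103) q2763, e3 q4659 L122545 q7783, e3 q4660 L149906 q5342, e3 q4661 L122577 q7786, e3 q4662 (flp_b L98145) q2766, e3 q4663 L122609 q7791, e3 q4664 L122615 q7792, e3 q4665 (flp_b L120830) q7496, e3 q4666 (flp_b L122605) q7789, e3 q4667 L98183 q4566, e3 q4668 (flp_b L98185) q2770, e3 q4669 L98197 q4669, e3 q4670 L122672 q7801, e3 q4671 (flp_b L151097) q7475, trivial⟩ (by decide +kernel)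

theorem ce_b_73 : ∀ r, r < 64 → sm gb (Qf (4672 + r)) = Qf (tab Gen.b (4672 + r)) :=
  edges_tab (sm gb) Qf (tab Gen.b) 4672 [(4672, 7802), (4673, 2776), (4674, 7809), (4675, 7580), (4676, 2773), (4677, 4456), (4678, 7814), (4679, 2775), (4680, 4419), (4681, 4580), (4682, 7816), (4683, 2777), (4684, 7819), (4685, 2780), (4686, 4538), (4687, 2779), (4688, 7826), (4689, 7822), (4690, 7831), (4691, 4691), (4692, 7834), (4693, 4693), (4694, 7836), (4695, 2784), (4696, 7841), (4697, 2785), (4698, 7845), (4699, 7846), (4700, 7839), (4701, 7847), (4702, 2787), (4703, 2788), (4704, 7855), (4705, 2794), (4706, 7859), (4707, 2790), (4708, 7824), (4709, 2798), (4710, 4527), (4711, 6390), (4712, 7868), (4713, 2802), (4714, 4754), (4715, 2793), (4716, 7873), (4717, 7877), (4718, 7858), (4719, 7881), (4720, 2795), (4721, 4489), (4722, 7883), (4723, 4450), (4724, 3829), (4725, 3830), (4726, 7864), (4727, 7893), (4728, 4628), (4729, 7895), (4730, 4464), (4731, 6404), (4732, 2801), (4733, 7898), (4734, 7902), (4735, 7903)]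
    ⟨e3 q4672 L122678 q7802, e3 q4673 L98210 q2776, e3 q4674 L122712 q7809, e3 q4675 (flp_b L121410) q7580, e3 q4676 (flp_b L98220) q2773, e3 q4677 L151109 q4456, e3 q4678 L122744 q7814, e3 q4679 (flp_b L98234) q2775, e3 q4680 L147656 q4419, e3 q4681 (flp_b L147613) q4580, e3 q4682 L122782 q7816, e3 q4683 (flp_b L98262) q2777, e3 q4684 L122798 q7819, e3 q4685 L98270 q2780, e3 q4686 L98274 q4538, e3 q4687 (flp_b L98276) q2779, e3 q4688 L122830 q7826, e3 q4689 (flp_b L122812) q7822, e3 q4690 L122852 q7831, e3 q4691 L98296 q4691, e3 q4692 L122871 q7834, e3 q4693 L98309 q4693, e3 q4694 L122882 q7836, e3 q4695 (flp_b L98316) q2784, e3 q4696 L122907 q7841, e3 q4697 (flp_b L98327) q2785, e3 q4698 L122925 q7845, e3 q4699 L122929 q7846, e3 q4700 (flp_b L122903) q7839, e3 q4701 L122947 q7847, e3 q4702 (flp_b L98355) q2787, e3 q4703 (flp_b L98359) q2788, e3 q4704 L122975 q7855, e3 q4705 L98369 q2794, e3 q4706 L122997 q7859, e3 q4707 (flp_b L98377) q2790, e3 q4708 (flp_b L123027) q7824, e3 q4709 L98385 q2798, e3 q4710 L98389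 q4527, e3 q4711 (flp_b L111439) q6390, e3 q4712 L123049 q7868, e3 q4713 L98403 q2802, e3 q4714 (flp_b L98613) q4754, e3 q4715 (flp_b L98411) q2793, e3 q4716 (flp_b L123071) q7873, e3 q4717 L123085 q7877, e3 q4718 (flp_b L122989) q7858, e3 q4719 L123105 q7881, e3 q4720 (flp_b L98431) q2795, e3 q4721 (flp_b L98439) q4489, e3 q4722 (flp_b L123113) q7883, e3 q4723 L98479 q4450, e3 q4724 L98453 q3829, e3 q4725 L98463 q3830, e3 q4726 (flp_b L123031) q7864, e3 q4727 L123155 q7893, e3 q4728 L98477 q4628, e3 q4729 L123167 q7895, e3 q4730 (flp_b L98505) q4464, e3 q4731 (flp_b L111533) q6404, e3 q4732 (flp_b L98513) q2801, e3 q4733 (flp_b L123195) q7898, e3 q4734 L123217 q7902, e3 q4735 L123227 q7903, trivial⟩ (by decide +kernel)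

theorem ce_b_74 : ∀ r, r < 64 → sm gb (Qf (4736 + r)) = Qf (tab Gen.b (4736 + r)) :=
  edges_tab (sm gb) Qf (tab Gen.b) 4736 [(4736, 3791), (4737, 2803), (4738, 7905), (4739, 2805), (4740, 7874), (4741, 7914), (4742, 7910), (4743, 5152), (4744, 2806), (4745, 7917), (4746, 2808), (4747, 7921), (4748, 5538), (4749, 6606), (4750, 7928), (4751, 2811), (4752, 6441), (4753, 7930), (4754, 4714), (4755, 7935), (4756, 4756), (4757, 2814), (4758, 7480), (4759, 4759), (4760, 3588), (4761, 7690), (4762, 2817), (4763, 5103), (4764, 7479), (4765, 6138), (4766, 2822), (4767, 3889), (4768, 7948), (4769, 2821), (4770, 2823), (4771, 7952), (4772, 7897), (4773, 2825), (4774, 7953), (4775, 3601), (4776, 7965), (4777, 7960), (4778, 2826), (4779, 7967), (4780, 7974), (4781, 7975), (4782, 4853), (4783, 2830), (4784, 5464), (4785, 3598), (4786, 7983), (4787, 7984), (4788, 5023), (4789, 2832), (4790, 6564), (4791, 6141), (4792, 7988), (4793, 7993), (4794, 4794), (4795, 2834), (4796, 7489), (4797, 4797), (4798, 3610), (4799, 7853)]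
    ⟨e3 q4736 (flp_b L98535) q3791, e3 q4737 (flp_b L98537) q2803, e3 q4738 L123235 q7905, e3 q4739 L98549 q2805, e3 q4740 (flp_b L123075) q7874, e3 q4741 L123269 q7914, e3 q4742 (flp_b L123255) q7910, e3 q4743 L151356 q5152, e3 q4744 (flp_b L98567) q2806, e3 q4745 (flp_b L123295) q7917, e3 q4746 (flp_b L98571) q2808, e3 q4747 (flp_b L123309) q7921, e3 q4748 (flp_b L149786) q5538, e3 q4749 (flp_b L112744) q6606, e3 q4750 L123349 q7928, e3 q4751 (flp_b L98595) q2811, e3 q4752 L111745 q6441, e3 q4753 (flp_b L123357) q7930, e3 q4754 L98613 q4714, e3 q4755 L123379 q7935, e3 q4756 L98625 q4756, e3 q4757 (flp_b L98631) q2814, e3 q4758 (flp_b L120732) q7480, e3 q4759 L98664 q4759, e3 q4760 L120414 q3588, e3 q4761 (flp_b L122078) q7690, e3 q4762 (flp_b L98669) q2817, e3 q4763 (flp_b L119831) q5103, e3 q4764 (flp_b L120724) q7479, e3 q4765 (flp_b L109661) q6138, e3 q4766 L98687 q2822, e3 q4767 L98693 q3889, e3 q4768 L123470 q7948, e3 q4769 (flp_b L98703) q2821, e3 q4770 (flp_b L98706) q2823, e3 q4771 (flp_b L123488) q7952,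 e3 q4772 (flp_b L123979) q7897, e3 q4773 L98722 q2825, e3 q4774 (flp_b L123492) q7953, e3 q4775 L98732 q3601, e3 q4776 L123554 q7965, e3 q4777 (flp_b L123528) q7960, e3 q4778 (flp_b L98742) q2826, e3 q4779 (flp_b L123566) q7967, e3 q4780 L123592 q7974, e3 q4781 L123594 q7975, e3 q4782 (flp_b L99167) q4853, e3 q4783 L98760 q2830, e3 q4784 (flp_b L143437) q5464, e3 q4785 L98770 q3598, e3 q4786 L123634 q7983, e3 q4787 L123636 q7984, e3 q4788 L130506 q5023, e3 q4789 L98786 q2832, e3 q4790 (flp_b L112486) q6564, e3 q4791 (flp_b L109677) q6141, e3 q4792 (flp_b L123656) q7988, e3 q4793 L123676 q7993, e3 q4794 L98802 q4794, e3 q4795 (flp_b L98808) q2834, e3 q4796 (flp_b L150740) q7489, e3 q4797 L98841 q4797, e3 q4798 L112151 q3610, e3 q4799 (flp_b L122971) q7853, trivial⟩ (by decide +kernel)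

theorem ce_b_75 : ∀ r, r < 64 → sm gb (Qf (4800 + r)) = Qf (tab Gen.b (4800 + r)) :=
  edges_tab (sm gb) Qf (tab Gen.b) 4800 [(4800, 2837), (4801, 5110), (4802, 7488), (4803, 6151), (4804, 2842), (4805, 3919), (4806, 8006), (4807, 2841), (4808, 2843), (4809, 8010), (4810, 7736), (4811, 2845), (4812, 3623), (4813, 8012), (4814, 8023), (4815, 8018), (4816, 2846), (4817, 8025), (4818, 8032), (4819, 8033), (4820, 4880), (4821, 2850), (4822, 3620), (4823, 5505), (4824, 8041), (4825, 8042), (4826, 5017), (4827, 2852), (4828, 6153), (4829, 6603), (4830, 8046), (4831, 2854), (4832, 3017), (4833, 2868), (4834, 8051), (4835, 8052), (4836, 2857), (4837, 7862), (4838, 8054), (4839, 8058), (4840, 2860), (4841, 8061), (4842, 8066), (4843, 5996), (4844, 2863), (4845, 6616), (4846, 3648), (4847, 8070), (4848, 2864), (4849, 5153), (4850, 8076), (4851, 6693), (4852, 8083), (4853, 4782), (4854, 2869), (4855, 6644), (4856, 5080), (4857, 2870), (4858, 6648), (4859, 8094), (4860, 8088), (4861, 2872), (4862, 2885), (4863, 8095)]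
    ⟨e3 q4800 (flp_b L98848) q2837, e3 q4801 L147979 q5110, e3 q4802 (flp_b L150220) q7488, e3 q4803 (flp_b L109792) q6151, e3 q4804 L98868 q2842, e3 q4805 L98874 q3919, e3 q4806 L123902 q8006, e3 q4807 (flp_b L98884) q2841, e3 q4808 (flp_b L98887) q2843, e3 q4809 (flp_b L123922) q8010, e3 q4810 (flp_b L123960) q7736, e3 q4811 L98905 q2845, e3 q4812 L98911 q3623, e3 q4813 (flp_b L123934) q8012, e3 q4814 L124017 q8023, e3 q4815 (flp_b L123991) q8018, e3 q4816 (flp_b L98925) q2846, e3 q4817 (flp_b L124027) q8025, e3 q4818 L124053 q8032, e3 q4819 L124063 q8033, e3 q4820 (flp_b L99395) q4880, e3 q4821 L98943 q2850, e3 q4822 L98949 q3620, e3 q4823 (flp_b L151366) q5505, e3 q4824 L124103 q8041, e3 q4825 L124107 q8042, e3 q4826 L148866 q5017, e3 q4827 L98969 q2852, e3 q4828 (flp_b L109802) q6153, e3 q4829 (flp_b L112730) q6603, e3 q4830 (flp_b L124125) q8046, e3 q4831 L119350 q2854, e3 q4832 (flp_b L119080) q3017, e3 q4833 L98993 q2868, e3 q4834 L124167 q8051, e3 q4835 L124183 q8052, e3 q4836 (flp_b L99035) q2857, e3 q4837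 (flp_b L163828) q7862, e3 q4838 (flp_b L124221) q8054, e3 q4839 L124243 q8058, e3 q4840 (flp_b L99079) q2860, e3 q4841 (flp_b L124289) q8061, e3 q4842 L124345 q8066, e3 q4843 (flp_b L130498) q5996, e3 q4844 L99121 q2863, e3 q4845 (flp_b L112920) q6616, e3 q4846 L99131 q3648, e3 q4847 (flp_b L124371) q8070, e3 q4848 (flp_b L99141) q2864, e3 q4849 (flp_b L130492) q5153, e3 q4850 (flp_b L124411) q8076, e3 q4851 (flp_b L147437) q6693, e3 q4852 L124459 q8083, e3 q4853 L99167 q4782, e3 q4854 L99171 q2869, e3 q4855 (flp_b L113122) q6644, e3 q4856 (flp_b L119053) q5080, e3 q4857 L99183 q2870, e3 q4858 (flp_b L113146) q6648, e3 q4859 L124537 q8094, e3 q4860 (flp_b L124481) q8088, e3 q4861 (flp_b L147494) q2872, e3 q4862 L99228 q2885, e3 q4863 L124584 q8095, trivial⟩ (by decide +kernel)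

theorem ce_b_76 : ∀ r, r < 64 → sm gb (Qf (4864 + r)) = Qf (tab Gen.b (4864 + r)) :=
  edges_tab (sm gb) Qf (tab Gen.b) 4864 [(4864, 8096), (4865, 2875), (4866, 7698), (4867, 8098), (4868, 8102), (4869, 2878), (4870, 8105), (4871, 8110), (4872, 5994), (4873, 2881), (4874, 3656), (4875, 6664), (4876, 8114), (4877, 2882), (4878, 5172), (4879, 8124), (4880, 4820), (4881, 2887), (4882, 5079), (4883, 6689), (4884, 2888), (4885, 8129), (4886, 2889), (4887, 2890), (4888, 8137), (4889, 2892), (4890, 2900), (4891, 8139), (4892, 8075), (4893, 8145), (4894, 2894), (4895, 2895), (4896, 8151), (4897, 6652), (4898, 2897), (4899, 2898), (4900, 8158), (4901, 2903), (4902, 8163), (4903, 8165), (4904, 8166), (4905, 2902), (4906, 8161), (4907, 8171), (4908, 2904), (4909, 8150), (4910, 2906), (4911, 2912), (4912, 8174), (4913, 8119), (4914, 8134), (4915, 2908), (4916, 8182), (4917, 6696), (4918, 2910), (4919, 8188), (4920, 2915), (4921, 8193), (4922, 8195), (4923, 8196), (4924, 2914), (4925, 8191), (4926, 8201), (4927, 2916)]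
    ⟨e3 q4864 L124600 q8096, e3 q4865 (flp_b L99269) q2875, e3 q4866 (flp_b L163814) q7698, e3 q4867 (flp_b L124622) q8098, e3 q4868 L124644 q8102, e3 q4869 (flp_b L99303) q2878, e3 q4870 (flp_b L124670) q8105, e3 q4871 L124736 q8110, e3 q4872 (flp_b L148864) q5994, e3 q4873 L99349 q2881, e3 q4874 L99355 q3656, e3 q4875 (flp_b L113348) q6664, e3 q4876 (flp_b L124764) q8114, e3 q4877 (flp_b L99369) q2882, e3 q4878 (flp_b L147179) q5172, e3 q4879 L124850 q8124, e3 q4880 L99395 q4820, e3 q4881 L99399 q2887, e3 q4882 (flp_b L147467) q5079, e3 q4883 (flp_b L113550) q6689, e3 q4884 L99411 q2888, e3 q4885 (flp_b L124874) q8129, e3 q4886 (flp_b L99832) q2889, e3 q4887 (flp_b L99867) q2890, e3 q4888 L125526 q8137, e3 q4889 L99907 q2892, e3 q4890 L99913 q2900, e3 q4891 (flp_b L125544) q8139, e3 q4892 (flp_b L124403) q8075, e3 q4893 L125604 q8145, e3 q4894 (flp_b L99949) q2894, e3 q4895 (flp_b L99951) q2895, e3 q4896 L125717 q8151, e3 q4897 (flp_b L113168) q6652, e3 q4898 (flp_b L99994) q2897, e3 q4899 (flp_b L100027) q2898,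 e3 q4900 L125826 q8158, e3 q4901 L100041 q2903, e3 q4902 L125852 q8163, e3 q4903 L125864 q8165, e3 q4904 L125906 q8166, e3 q4905 (flp_b L100081) q2902, e3 q4906 (flp_b L125846) q8161, e3 q4907 L125928 q8171, e3 q4908 (flp_b L100093) q2904, e3 q4909 (flp_b L148748) q8150, e3 q4910 L100331 q2906, e3 q4911 L100337 q2912, e3 q4912 (flp_b L126356) q8174, e3 q4913 (flp_b L124796) q8119, e3 q4914 L148692 q8134, e3 q4915 (flp_b L100373) q2908, e3 q4916 L126539 q8182, e3 q4917 (flp_b L113596) q6696, e3 q4918 (flp_b L100451) q2910, e3 q4919 L126638 q8188, e3 q4920 L100465 q2915, e3 q4921 L126664 q8193, e3 q4922 L126676 q8195, e3 q4923 L126702 q8196, e3 q4924 (flp_b L100505) q2914, e3 q4925 (flp_b L126658) q8191, e3 q4926 L126726 q8201, e3 q4927 (flp_b L100519) q2916, trivial⟩ (by decide +kernel)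

theorem ce_b_77 : ∀ r, r < 64 → sm gb (Qf (4928 + r)) = Qf (tab Gen.b (4928 + r)) :=
  edges_tab (sm gb) Qf (tab Gen.b) 4928 [(4928, 6417), (4929, 6448), (4930, 8203), (4931, 8204), (4932, 4494), (4933, 4529), (4934, 4099), (4935, 4115), (4936, 7674), (4937, 7838), (4938, 2927), (4939, 2928), (4940, 3106), (4941, 2986), (4942, 2930), (4943, 6054), (4944, 6092), (4945, 8218), (4946, 8219), (4947, 2931), (4948, 2932), (4949, 8224), (4950, 8225), (4951, 2934), (4952, 8229), (4953, 2935), (4954, 8233), (4955, 7206), (4956, 8234), (4957, 2937), (4958, 7307), (4959, 8238), (4960, 2939), (4961, 7039), (4962, 3129), (4963, 5272), (4964, 7067), (4965, 3133), (4966, 5264), (4967, 8248), (4968, 8249), (4969, 8250), (4970, 8251), (4971, 6630), (4972, 6678), (4973, 8252), (4974, 8253), (4975, 8254), (4976, 4988), (4977, 8257), (4978, 4983), (4979, 2952), (4980, 2953), (4981, 8265), (4982, 8207), (4983, 4978), (4984, 2955), (4985, 2956), (4986, 8276), (4987, 8209), (4988, 4976), (4989, 3220), (4990, 8283), (4991, 2959)]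
    ⟨e3 q4928 L119735 q6417, e3 q4929 (flp_b L147689) q6448, e3 q4930 L128557 q8203, e3 q4931 L128562 q8204, e3 q4932 L119745 q4494, e3 q4933 L147694 q4529, e3 q4934 (flp_b L142673) q4099, e3 q4935 (flp_b L148254) q4115, e3 q4936 (flp_b L149806) q7674, e3 q4937 (flp_b L150854) q7838, e3 q4938 (flp_b L101831) q2927, e3 q4939 (flp_b L101834) q2928, e3 q4940 L101841 q3106, e3 q4941 L101851 q2986, e3 q4942 L101857 q2930, e3 q4943 (flp_b L119697) q6054, e3 q4944 (flp_b L147707) q6092, e3 q4945 L128731 q8218, e3 q4946 L128737 q8219, e3 q4947 (flp_b L101891) q2931, e3 q4948 (flp_b L101895) q2932, e3 q4949 L128763 q8224, e3 q4950 L128771 q8225, e3 q4951 (flp_b L101919) q2934, e3 q4952 L128805 q8229, e3 q4953 (flp_b L101935) q2935, e3 q4954 L128837 q8233, e3 q4955 (flp_b L117147) q7206, e3 q4956 L128843 q8234, e3 q4957 (flp_b L101965) q2937, e3 q4958 (flp_b L149715) q7307, e3 q4959 L128867 q8238, e3 q4960 (flp_b L101981) q2939, e3 q4961 (flp_b L116043) q7039, e3 q4962 L101999 q3129, e3 q4963 (flp_b L104079) q5272, e3 q4964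 (flp_b L148981) q7067, e3 q4965 L102110 q3133, e3 q4966 (flp_b L104019) q5264, e3 q4967 L128959 q8248, e3 q4968 L128963 q8249, e3 q4969 L128986 q8250, e3 q4970 L128990 q8251, e3 q4971 (flp_b L119755) q6630, e3 q4972 (flp_b L146188) q6678, e3 q4973 L129002 q8252, e3 q4974 L129020 q8253, e3 q4975 L129024 q8254, e3 q4976 (flp_b L102289) q4988, e3 q4977 L129048 q8257, e3 q4978 (flp_b L102267) q4983, e3 q4979 (flp_b L102247) q2952, e3 q4980 (flp_b L102251) q2953, e3 q4981 L129101 q8265, e3 q4982 (flp_b L128639) q8207, e3 q4983 L102267 q4978, e3 q4984 (flp_b L102269) q2955, e3 q4985 (flp_b L102273) q2956, e3 q4986 L129167 q8276, e3 q4987 (flp_b L128651) q8209, e3 q4988 L102289 q4976, e3 q4989 L102295 q3220, e3 q4990 L129213 q8283, e3 q4991 (flp_b L102308) q2959, trivial⟩ (by decide +kernel)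

theorem ce_b_78 : ∀ r, r < 64 → sm gb (Qf (4992 + r)) = Qf (tab Gen.b (4992 + r)) :=
  edges_tab (sm gb) Qf (tab Gen.b) 4992 [(4992, 2960), (4993, 3242), (4994, 8292), (4995, 2962), (4996, 2963), (4997, 2964), (4998, 2965), (4999, 8306), (5000, 2968), (5001, 5070), (5002, 8312), (5003, 2969), (5004, 5060), (5005, 8309), (5006, 8315), (5007, 2971), (5008, 2972), (5009, 3571), (5010, 5010), (5011, 7550), (5012, 3581), (5013, 5013), (5014, 7595), (5015, 2977), (5016, 8333), (5017, 4826), (5018, 2983), (5019, 5516), (5020, 8339), (5021, 2980), (5022, 8341), (5023, 4788), (5024, 2984), (5025, 5559), (5026, 8347), (5027, 8336), (5028, 8344), (5029, 6119), (5030, 6128), (5031, 2989), (5032, 8353), (5033, 2990), (5034, 8357), (5035, 8358), (5036, 3121), (5037, 8362), (5038, 2992), (5039, 8366), (5040, 3125), (5041, 8370), (5042, 2994), (5043, 8374), (5044, 5044), (5045, 8377), (5046, 2996), (5047, 8381), (5048, 5048), (5049, 8384), (5050, 2998), (5051, 2999), (5052, 8389), (5053, 8392), (5054, 3007), (5055, 8395)]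
    ⟨e3 q4992 (flp_b L102312) q2960, e3 q4993 L102320 q3242, e3 q4994 L129288 q8292, e3 q4995 (flp_b L102333) q2962, e3 q4996 (flp_b L102337) q2963, e3 q4997 (flp_b L102341) q2964, e3 q4998 (flp_b L102349) q2965, e3 q4999 L129386 q8306, e3 q5000 L102365 q2968, e3 q5001 (flp_b L102751) q5070, e3 q5002 L129438 q8312, e3 q5003 L102379 q2969, e3 q5004 (flp_b L102693) q5060, e3 q5005 (flp_b L129416) q8309, e3 q5006 (flp_b L129458) q8315, e3 q5007 (flp_b L102405) q2971, e3 q5008 (flp_b L102411) q2972, e3 q5009 L118998 q3571, e3 q5010 L102425 q5010, e3 q5011 (flp_b L163223) q7550, e3 q5012 L148141 q3581, e3 q5013 L102438 q5013, e3 q5014 (flp_b L163376) q7595, e3 q5015 (flp_b L102443) q2977, e3 q5016 L129737 q8333, e3 q5017 (flp_b L148866) q4826, e3 q5018 L102457 q2983, e3 q5019 (flp_b L105434) q5516, e3 q5020 L129791 q8339, e3 q5021 (flp_b L102469) q2980, e3 q5022 L129807 q8341, e3 q5023 (flp_b L130506) q4788, e3 q5024 L102483 q2984, e3 q5025 (flp_b L105616) q5559, e3 q5026 L129842 q8347, e3 q5027 (flp_b L129771) q8336,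 e3 q5028 (flp_b L129828) q8344, e3 q5029 L119751 q6119, e3 q5030 (flp_b L147305) q6128, e3 q5031 (flp_b L102533) q2989, e3 q5032 L129912 q8353, e3 q5033 (flp_b L102545) q2990, e3 q5034 L129936 q8357, e3 q5035 L129944 q8358, e3 q5036 L102571 q3121, e3 q5037 L129974 q8362, e3 q5038 (flp_b L102577) q2992, e3 q5039 L129996 q8366, e3 q5040 L102593 q3125, e3 q5041 L130020 q8370, e3 q5042 (flp_b L102599) q2994, e3 q5043 L130044 q8374, e3 q5044 L102609 q5044, e3 q5045 L130070 q8377, e3 q5046 (flp_b L102614) q2996, e3 q5047 L130105 q8381, e3 q5048 L102626 q5048, e3 q5049 L130131 q8384, e3 q5050 (flp_b L102631) q2998, e3 q5051 (flp_b L102637) q2999, e3 q5052 L130172 q8389, e3 q5053 L130190 q8392, e3 q5054 L102657 q3007, e3 q5055 L130204 q8395, trivial⟩ (by decide +kernel)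

theorem ce_b_79 : ∀ r, r < 64 → sm gb (Qf (5056 + r)) = Qf (tab Gen.b (5056 + r)) :=
  edges_tab (sm gb) Qf (tab Gen.b) 5056 [(5056, 3001), (5057, 8400), (5058, 8401), (5059, 3009), (5060, 5004), (5061, 3003), (5062, 8408), (5063, 8411), (5064, 3010), (5065, 8414), (5066, 3005), (5067, 8419), (5068, 8420), (5069, 3012), (5070, 5001), (5071, 8393), (5072, 8427), (5073, 3008), (5074, 8404), (5075, 8412), (5076, 8432), (5077, 3011), (5078, 8423), (5079, 4882), (5080, 4856), (5081, 5081), (5082, 5799), (5083, 7532), (5084, 7577), (5085, 4416), (5086, 8441), (5087, 8442), (5088, 3024), (5089, 4112), (5090, 3025), (5091, 4097), (5092, 3026), (5093, 3027), (5094, 6619), (5095, 4104), (5096, 8446), (5097, 3029), (5098, 6668), (5099, 4121), (5100, 8449), (5101, 3031), (5102, 3032), (5103, 4763), (5104, 8453), (5105, 3034), (5106, 7991), (5107, 3210), (5108, 4091), (5109, 3036), (5110, 4801), (5111, 8464), (5112, 3038), (5113, 8050), (5114, 3218), (5115, 4045), (5116, 4011), (5117, 5823), (5118, 8474), (5119, 3041)]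
    ⟨e3 q5056 (flp_b L102665) q3001, e3 q5057 L130236 q8400, e3 q5058 L130240 q8401, e3 q5059 L102687 q3009, e3 q5060 L102693 q5004, e3 q5061 (flp_b L102695) q3003, e3 q5062 L130292 q8408, e3 q5063 L130310 q8411, e3 q5064 L102715 q3010, e3 q5065 L130324 q8414, e3 q5066 (flp_b L102723) q3005, e3 q5067 L130356 q8419, e3 q5068 L130360 q8420, e3 q5069 L102745 q3012, e3 q5070 L102751 q5001, e3 q5071 (flp_b L130196) q8393, e3 q5072 L130408 q8427, e3 q5073 (flp_b L102767) q3008, e3 q5074 (flp_b L130260) q8404, e3 q5075 (flp_b L130316) q8412, e3 q5076 L130442 q8432, e3 q5077 (flp_b L102793) q3011, e3 q5078 (flp_b L130382) q8423, e3 q5079 L147467 q4882, e3 q5080 L119053 q4856, e3 q5081 L102843 q5081, e3 q5082 (flp_b L107459) q5799, e3 q5083 (flp_b L121095) q7532, e3 q5084 (flp_b L149190) q7577, e3 q5085 L102928 q4416, e3 q5086 L130628 q8441, e3 q5087 L130648 q8442, e3 q5088 (flp_b L102942) q3024, e3 q5089 (flp_b L146691) q4112, e3 q5090 (flp_b L102950) q3025, e3 q5091 L130666 q4097, e3 q5092 (flp_b L102960) q3026, e3 q5093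 (flp_b L102972) q3027, e3 q5094 (flp_b L120455) q6619, e3 q5095 L120319 q4104, e3 q5096 L142863 q8446, e3 q5097 (flp_b L103000) q3029, e3 q5098 (flp_b L148490) q6668, e3 q5099 L146724 q4121, e3 q5100 L142893 q8449, e3 q5101 (flp_b L103018) q3031, e3 q5102 (flp_b L103022) q3032, e3 q5103 L119831 q4763, e3 q5104 L142923 q8453, e3 q5105 (flp_b L103040) q3034, e3 q5106 (flp_b L143333) q7991, e3 q5107 L103048 q3210, e3 q5108 L147407 q4091, e3 q5109 (flp_b L103054) q3036, e3 q5110 (flp_b L147979) q4801, e3 q5111 L142997 q8464, e3 q5112 (flp_b L103072) q3038, e3 q5113 (flp_b L148552) q8050, e3 q5114 L103080 q3218, e3 q5115 (flp_b L140993) q4045, e3 q5116 L119892 q4011, e3 q5117 (flp_b L107613) q5823, e3 q5118 L143051 q8474, e3 q5119 (flp_b L103098) q3041, trivial⟩ (by decide +kernel)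

theorem ce_b_80 : ∀ r, r < 64 → sm gb (Qf (5120 + r)) = Qf (tab Gen.b (5120 + r)) :=
  edges_tab (sm gb) Qf (tab Gen.b) 5120 [(5120, 4057), (5121, 5826), (5122, 8477), (5123, 3043), (5124, 3994), (5125, 8479), (5126, 3046), (5127, 8482), (5128, 8483), (5129, 3586), (5130, 3559), (5131, 3964), (5132, 8487), (5133, 3050), (5134, 8490), (5135, 8491), (5136, 3576), (5137, 3556), (5138, 8495), (5139, 3053), (5140, 6405), (5141, 8499), (5142, 3054), (5143, 3075), (5144, 8503), (5145, 3056), (5146, 8506), (5147, 6601), (5148, 5196), (5149, 8510), (5150, 3058), (5151, 3059), (5152, 4743), (5153, 4849), (5154, 3078), (5155, 3291), (5156, 8523), (5157, 8524), (5158, 3063), (5159, 6436), (5160, 8528), (5161, 3064), (5162, 3082), (5163, 8532), (5164, 3066), (5165, 8535), (5166, 6562), (5167, 5185), (5168, 8539), (5169, 3068), (5170, 3069), (5171, 4644), (5172, 4878), (5173, 3085), (5174, 3269), (5175, 8552), (5176, 8553), (5177, 5545), (5178, 4280), (5179, 3074), (5180, 8554), (5181, 7999), (5182, 8557), (5183, 3076)]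
    ⟨e3 q5120 L129572 q4057, e3 q5121 (flp_b L107627) q5826, e3 q5122 L143103 q8477, e3 q5123 (flp_b L103116) q3043, e3 q5124 L149626 q3994, e3 q5125 L143145 q8479, e3 q5126 (flp_b L103144) q3046, e3 q5127 L143157 q8482, e3 q5128 L143161 q8483, e3 q5129 L103164 q3586, e3 q5130 L103170 q3559, e3 q5131 L143433 q3964, e3 q5132 L143219 q8487, e3 q5133 (flp_b L103194) q3050, e3 q5134 L143245 q8490, e3 q5135 L143249 q8491, e3 q5136 L103214 q3576, e3 q5137 L103220 q3556, e3 q5138 L143295 q8495, e3 q5139 (flp_b L103230) q3053, e3 q5140 (flp_b L119847) q6405, e3 q5141 L143321 q8499, e3 q5142 (flp_b L103244) q3054, e3 q5143 L103250 q3075, e3 q5144 L143341 q8503, e3 q5145 (flp_b L103256) q3056, e3 q5146 L143353 q8506, e3 q5147 (flp_b L150778) q6601, e3 q5148 (flp_b L103508) q5196, e3 q5149 L143371 q8510, e3 q5150 (flp_b L103278) q3058, e3 q5151 (flp_b L103280) q3059, e3 q5152 (flp_b L151356) q4743, e3 q5153 L130492 q4849, e3 q5154 L103294 q3078, e3 q5155 L103300 q3291, e3 q5156 L143479 q8523, e3 q5157 L143495 q8524, e3 q5158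 (flp_b L103316) q3063, e3 q5159 (flp_b L150225) q6436, e3 q5160 L143541 q8528, e3 q5161 (flp_b L103330) q3064, e3 q5162 L103336 q3082, e3 q5163 L143573 q8532, e3 q5164 (flp_b L103342) q3066, e3 q5165 L143593 q8535, e3 q5166 (flp_b L143451) q6562, e3 q5167 (flp_b L103445) q5185, e3 q5168 L143619 q8539, e3 q5169 (flp_b L103364) q3068, e3 q5170 (flp_b L103366) q3069, e3 q5171 (flp_b L120599) q4644, e3 q5172 L147179 q4878, e3 q5173 L103380 q3085, e3 q5174 L103386 q3269, e3 q5175 L143697 q8552, e3 q5176 L143701 q8553, e3 q5177 (flp_b L105561) q5545, e3 q5178 L119589 q4280, e3 q5179 (flp_b L103415) q3074, e3 q5180 (flp_b L143711) q8554, e3 q5181 (flp_b L123798) q7999, e3 q5182 L143737 q8557, e3 q5183 (flp_b L103435) q3076, trivial⟩ (by decide +kernel)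

theorem ce_b_81 : ∀ r, r < 64 → sm gb (Qf (5184 + r)) = Qf (tab Gen.b (5184 + r)) :=
  edges_tab (sm gb) Qf (tab Gen.b) 5184 [(5184, 8559), (5185, 5167), (5186, 8520), (5187, 8562), (5188, 5589), (5189, 4332), (5190, 3081), (5191, 8563), (5192, 7941), (5193, 8566), (5194, 3083), (5195, 8568), (5196, 5148), (5197, 8549), (5198, 3089), (5199, 3088), (5200, 8571), (5201, 5846), (5202, 8573), (5203, 3093), (5204, 3094), (5205, 8577), (5206, 3099), (5207, 3098), (5208, 8580), (5209, 5849), (5210, 8582), (5211, 3103), (5212, 3104), (5213, 8586), (5214, 8211), (5215, 8591), (5216, 8592), (5217, 8593), (5218, 8595), (5219, 3108), (5220, 8600), (5221, 3109), (5222, 8604), (5223, 3110), (5224, 3111), (5225, 8611), (5226, 6143), (5227, 5256), (5228, 8616), (5229, 6156), (5230, 5248), (5231, 3114), (5232, 3115), (5233, 8627), (5234, 8622), (5235, 8628), (5236, 3117), (5237, 8632), (5238, 8625), (5239, 8633), (5240, 3119), (5241, 3120), (5242, 6048), (5243, 8360), (5244, 8644), (5245, 3122), (5246, 8648), (5247, 8364)]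
    ⟨e3 q5184 L143745 q8559, e3 q5185 L103445 q5167, e3 q5186 (flp_b L143463) q8520, e3 q5187 L143763 q8562, e3 q5188 (flp_b L105754) q5589, e3 q5189 L150005 q4332, e3 q5190 (flp_b L103474) q3081, e3 q5191 (flp_b L143809) q8563, e3 q5192 (flp_b L151010) q7941, e3 q5193 L143839 q8566, e3 q5194 (flp_b L103496) q3083, e3 q5195 L143855 q8568, e3 q5196 L103508 q5148, e3 q5197 (flp_b L143679) q8549, e3 q5198 L120427 q3089, e3 q5199 (flp_b L103536) q3088, e3 q5200 L143873 q8571, e3 q5201 (flp_b L120279) q5846, e3 q5202 L143889 q8573, e3 q5203 (flp_b L103600) q3093, e3 q5204 (flp_b L103602) q3094, e3 q5205 (flp_b L143917) q8577, e3 q5206 L129632 q3099, e3 q5207 (flp_b L103632) q3098, e3 q5208 L144001 q8580, e3 q5209 (flp_b L147838) q5849, e3 q5210 L144039 q8582, e3 q5211 (flp_b L103698) q3103, e3 q5212 (flp_b L103700) q3104, e3 q5213 (flp_b L144059) q8586, e3 q5214 (flp_b L128663) q8211, e3 q5215 L144105 q8591, e3 q5216 L144109 q8592, e3 q5217 L144113 q8593, e3 q5218 L144127 q8595, e3 q5219 (flp_b L103762) q3108, e3 q5220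 L144167 q8600, e3 q5221 (flp_b L103774) q3109, e3 q5222 L144187 q8604, e3 q5223 (flp_b L103790) q3110, e3 q5224 (flp_b L103794) q3111, e3 q5225 L144215 q8611, e3 q5226 L119749 q6143, e3 q5227 (flp_b L103969) q5256, e3 q5228 L144249 q8616, e3 q5229 (flp_b L147314) q6156, e3 q5230 (flp_b L103927) q5248, e3 q5231 (flp_b L103822) q3114, e3 q5232 (flp_b L103826) q3115, e3 q5233 L144333 q8627, e3 q5234 (flp_b L144299) q8622, e3 q5235 L144337 q8628, e3 q5236 (flp_b L103859) q3117, e3 q5237 L144355 q8632, e3 q5238 (flp_b L144325) q8625, e3 q5239 L144359 q8633, e3 q5240 (flp_b L103883) q3119, e3 q5241 (flp_b L103887) q3120, e3 q5242 L119825 q6048, e3 q5243 (flp_b L129964) q8360, e3 q5244 L144419 q8644, e3 q5245 (flp_b L103909) q3122, e3 q5246 L144439 q8648, e3 q5247 (flp_b L129988) q8364, trivial⟩ (by decide +kernel)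

theorem ce_b_82 : ∀ r, r < 64 → sm gb (Qf (5248 + r)) = Qf (tab Gen.b (5248 + r)) :=
  edges_tab (sm gb) Qf (tab Gen.b) 5248 [(5248, 5230), (5249, 3124), (5250, 6086), (5251, 8368), (5252, 8660), (5253, 3126), (5254, 8664), (5255, 8372), (5256, 5227), (5257, 3128), (5258, 8671), (5259, 8672), (5260, 3130), (5261, 8676), (5262, 8677), (5263, 5271), (5264, 4966), (5265, 3132), (5266, 8683), (5267, 8684), (5268, 3134), (5269, 8688), (5270, 8689), (5271, 5263), (5272, 4963), (5273, 7037), (5274, 8696), (5275, 8639), (5276, 8701), (5277, 3137), (5278, 8703), (5279, 8708), (5280, 3138), (5281, 3159), (5282, 8713), (5283, 3140), (5284, 8718), (5285, 8719), (5286, 8716), (5287, 8723), (5288, 3142), (5289, 3143), (5290, 8731), (5291, 8734), (5292, 3166), (5293, 5293), (5294, 8737), (5295, 7065), (5296, 8741), (5297, 8745), (5298, 8656), (5299, 3147), (5300, 8748), (5301, 8753), (5302, 3148), (5303, 3170), (5304, 8758), (5305, 3150), (5306, 8763), (5307, 8764), (5308, 8761), (5309, 8768), (5310, 3152), (5311, 3153)]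
    ⟨e3 q5248 L103927 q5230, e3 q5249 (flp_b L103929) q3124, e3 q5250 (flp_b L148015) q6086, e3 q5251 (flp_b L130010) q8368, e3 q5252 L144511 q8660, e3 q5253 (flp_b L103951) q3126, e3 q5254 L144531 q8664, e3 q5255 (flp_b L130034) q8372, e3 q5256 L103969 q5227, e3 q5257 (flp_b L103971) q3128, e3 q5258 L144583 q8671, e3 q5259 L144587 q8672, e3 q5260 (flp_b L103995) q3130, e3 q5261 L144605 q8676, e3 q5262 L144609 q8677, e3 q5263 (flp_b L104071) q5271, e3 q5264 L104019 q4966, e3 q5265 (flp_b L104021) q3132, e3 q5266 L144657 q8683, e3 q5267 L144661 q8684, e3 q5268 (flp_b L104045) q3134, e3 q5269 L144685 q8688, e3 q5270 L144689 q8689, e3 q5271 L104071 q5263, e3 q5272 L104079 q4963, e3 q5273 (flp_b L116068) q7037, e3 q5274 L144753 q8696, e3 q5275 (flp_b L144395) q8639, e3 q5276 L144781 q8701, e3 q5277 (flp_b L104097) q3137, e3 q5278 (flp_b L144797) q8703, e3 q5279 L144821 q8708, e3 q5280 (flp_b L104115) q3138, e3 q5281 L104121 q3159, e3 q5282 L144845 q8713, e3 q5283 (flp_b L104129) q3140, e3 q5284 L144877 q8718, e3 q5285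 L144881 q8719, e3 q5286 (flp_b L144871) q8716, e3 q5287 L144903 q8723, e3 q5288 (flp_b L104161) q3142, e3 q5289 (flp_b L104165) q3143, e3 q5290 L144945 q8731, e3 q5291 L144967 q8734, e3 q5292 L104185 q3166, e3 q5293 L104193 q5293, e3 q5294 L144994 q8737, e3 q5295 (flp_b L149001) q7065, e3 q5296 L145020 q8741, e3 q5297 L145042 q8745, e3 q5298 (flp_b L144489) q8656, e3 q5299 (flp_b L104218) q3147, e3 q5300 (flp_b L145064) q8748, e3 q5301 L145088 q8753, e3 q5302 (flp_b L104236) q3148, e3 q5303 L104242 q3170, e3 q5304 L145112 q8758, e3 q5305 (flp_b L104250) q3150, e3 q5306 L145144 q8763, e3 q5307 L145148 q8764, e3 q5308 (flp_b L145138) q8761, e3 q5309 L145170 q8768, e3 q5310 (flp_b L104282) q3152, e3 q5311 (flp_b L104286) q3153, trivial⟩ (by decide +kernel)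

theorem ce_b_83 : ∀ r, r < 64 → sm gb (Qf (5312 + r)) = Qf (tab Gen.b (5312 + r)) :=
  edges_tab (sm gb) Qf (tab Gen.b) 5312 [(5312, 8776), (5313, 8779), (5314, 3177), (5315, 5315), (5316, 8782), (5317, 3156), (5318, 7033), (5319, 8693), (5320, 3158), (5321, 4558), (5322, 8424), (5323, 8789), (5324, 8794), (5325, 3160), (5326, 8799), (5327, 8800), (5328, 3164), (5329, 8805), (5330, 3162), (5331, 8809), (5332, 8803), (5333, 3165), (5334, 8814), (5335, 8818), (5336, 8735), (5337, 3167), (5338, 7061), (5339, 8738), (5340, 3169), (5341, 8405), (5342, 4660), (5343, 8826), (5344, 8831), (5345, 3171), (5346, 8836), (5347, 8837), (5348, 3175), (5349, 8842), (5350, 3173), (5351, 8846), (5352, 8840), (5353, 3176), (5354, 8851), (5355, 8855), (5356, 8780), (5357, 6969), (5358, 3179), (5359, 8808), (5360, 7172), (5361, 3180), (5362, 8861), (5363, 8863), (5364, 8865), (5365, 3183), (5366, 8867), (5367, 6980), (5368, 3185), (5369, 8845), (5370, 7275), (5371, 3186), (5372, 8875), (5373, 8877), (5374, 8879), (5375, 3189)]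
    ⟨e3 q5312 L145208 q8776, e3 q5313 L145226 q8779, e3 q5314 L104306 q3177, e3 q5315 L104314 q5315, e3 q5316 L145253 q8782, e3 q5317 (flp_b L104323) q3156, e3 q5318 L116082 q7033, e3 q5319 (flp_b L144737) q8693, e3 q5320 L104343 q3158, e3 q5321 (flp_b L119614) q4558, e3 q5322 (flp_b L130390) q8424, e3 q5323 (flp_b L145304) q8789, e3 q5324 L145340 q8794, e3 q5325 (flp_b L104365) q3160, e3 q5326 L145368 q8799, e3 q5327 L145372 q8800, e3 q5328 L104387 q3164, e3 q5329 L145404 q8805, e3 q5330 (flp_b L104393) q3162, e3 q5331 L145428 q8809, e3 q5332 (flp_b L145396) q8803, e3 q5333 (flp_b L104411) q3165, e3 q5334 (flp_b L145456) q8814, e3 q5335 L145474 q8818, e3 q5336 (flp_b L144975) q8735, e3 q5337 (flp_b L104428) q3167, e3 q5338 (flp_b L150815) q7061, e3 q5339 L145006 q8738, e3 q5340 L104448 q3169, e3 q5341 (flp_b L130268) q8405, e3 q5342 (flp_b L149906) q4660, e3 q5343 (flp_b L145536) q8826, e3 q5344 L145562 q8831, e3 q5345 (flp_b L104470) q3171, e3 q5346 L145590 q8836, e3 q5347 L145594 q8837, e3 q5348 L104492 q3175,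 e3 q5349 L145622 q8842, e3 q5350 (flp_b L104498) q3173, e3 q5351 L145652 q8846, e3 q5352 (flp_b L145614) q8840, e3 q5353 (flp_b L104518) q3176, e3 q5354 (flp_b L145684) q8851, e3 q5355 L145706 q8855, e3 q5356 (flp_b L145234) q8780, e3 q5357 (flp_b L161252) q6969, e3 q5358 L104544 q3179, e3 q5359 (flp_b L145426) q8808, e3 q5360 (flp_b L120281) q7172, e3 q5361 (flp_b L104568) q3180, e3 q5362 (flp_b L145746) q8861, e3 q5363 L145762 q8863, e3 q5364 L145776 q8865, e3 q5365 (flp_b L104605) q3183, e3 q5366 (flp_b L145785) q8867, e3 q5367 (flp_b L161503) q6980, e3 q5368 L104627 q3185, e3 q5369 (flp_b L145650) q8845, e3 q5370 (flp_b L150001) q7275, e3 q5371 (flp_b L104651) q3186, e3 q5372 (flp_b L145862) q8875, e3 q5373 L145882 q8877, e3 q5374 L145898 q8879, e3 q5375 (flp_b L104698) q3189, trivial⟩ (by decide +kernel)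

theorem ce_b_84 : ∀ r, r < 64 → sm gb (Qf (5376 + r)) = Qf (tab Gen.b (5376 + r)) :=
  edges_tab (sm gb) Qf (tab Gen.b) 5376 [(5376, 8881), (5377, 3192), (5378, 3193), (5379, 8888), (5380, 6631), (5381, 8890), (5382, 3195), (5383, 8894), (5384, 6680), (5385, 8896), (5386, 3197), (5387, 3198), (5388, 6136), (5389, 8905), (5390, 8906), (5391, 8297), (5392, 3201), (5393, 6149), (5394, 8912), (5395, 8913), (5396, 8288), (5397, 8900), (5398, 6047), (5399, 3222), (5400, 5462), (5401, 5891), (5402, 8918), (5403, 3207), (5404, 8922), (5405, 8920), (5406, 5447), (5407, 3209), (5408, 8926), (5409, 8278), (5410, 8459), (5411, 8928), (5412, 8929), (5413, 8907), (5414, 6085), (5415, 5503), (5416, 3245), (5417, 5913), (5418, 8934), (5419, 3215), (5420, 8938), (5421, 8936), (5422, 5491), (5423, 3217), (5424, 8942), (5425, 8267), (5426, 8470), (5427, 8944), (5428, 8945), (5429, 3266), (5430, 8949), (5431, 8950), (5432, 3221), (5433, 5794), (5434, 7447), (5435, 8956), (5436, 8958), (5437, 3223), (5438, 8962), (5439, 3225)]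
    ⟨e3 q5376 (flp_b L145909) q8881, e3 q5377 (flp_b L104805) q3192, e3 q5378 (flp_b L104807) q3193, e3 q5379 L145943 q8888, e3 q5380 (flp_b L119759) q6631, e3 q5381 L145965 q8890, e3 q5382 (flp_b L104819) q3195, e3 q5383 L145977 q8894, e3 q5384 (flp_b L146205) q6680, e3 q5385 L145993 q8896, e3 q5386 (flp_b L104831) q3197, e3 q5387 (flp_b L104833) q3198, e3 q5388 L119757 q6136, e3 q5389 L146130 q8905, e3 q5390 L146132 q8906, e3 q5391 (flp_b L152248) q8297, e3 q5392 (flp_b L104857) q3201, e3 q5393 (flp_b L149007) q6149, e3 q5394 L151570 q8912, e3 q5395 L151576 q8913, e3 q5396 (flp_b L152164) q8288, e3 q5397 (flp_b L146098) q8900, e3 q5398 L119827 q6047, e3 q5399 L104893 q3222, e3 q5400 (flp_b L105159) q5462, e3 q5401 L119841 q5891, e3 q5402 L151616 q8918, e3 q5403 (flp_b L104915) q3207, e3 q5404 L151628 q8922, e3 q5405 (flp_b L151624) q8920, e3 q5406 (flp_b L105097) q5447, e3 q5407 (flp_b L104927) q3209, e3 q5408 L151656 q8926, e3 q5409 L129183 q8278, e3 q5410 (flp_b L142951) q8459, e3 q5411 L151678 q8928, e3 q5412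 L151690 q8929, e3 q5413 (flp_b L146144) q8907, e3 q5414 L149486 q6085, e3 q5415 (flp_b L105356) q5503, e3 q5416 L104959 q3245, e3 q5417 (flp_b L147965) q5913, e3 q5418 L151724 q8934, e3 q5419 (flp_b L104979) q3215, e3 q5420 L151736 q8938, e3 q5421 (flp_b L151732) q8936, e3 q5422 (flp_b L105290) q5491, e3 q5423 (flp_b L104991) q3217, e3 q5424 L151766 q8942, e3 q5425 L129117 q8267, e3 q5426 (flp_b L143027) q8470, e3 q5427 L151788 q8944, e3 q5428 L151800 q8945, e3 q5429 (flp_b L105067) q3266, e3 q5430 L151854 q8949, e3 q5431 L151864 q8950, e3 q5432 (flp_b L105027) q3221, e3 q5433 (flp_b L120542) q5794, e3 q5434 (flp_b L120509) q7447, e3 q5435 L151894 q8956, e3 q5436 L151904 q8958, e3 q5437 (flp_b L105045) q3223, e3 q5438 L151938 q8962, e3 q5439 L105059 q3225, trivial⟩ (by decide +kernel)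

theorem ce_b_85 : ∀ r, r < 64 → sm gb (Qf (5440 + r)) = Qf (tab Gen.b (5440 + r)) :=
  edges_tab (sm gb) Qf (tab Gen.b) 5440 [(5440, 5964), (5441, 8966), (5442, 8963), (5443, 8969), (5444, 3226), (5445, 8973), (5446, 8971), (5447, 5406), (5448, 8978), (5449, 3229), (5450, 8982), (5451, 8983), (5452, 3233), (5453, 8987), (5454, 3231), (5455, 3232), (5456, 8995), (5457, 8985), (5458, 8996), (5459, 3234), (5460, 8259), (5461, 8989), (5462, 5400), (5463, 5504), (5464, 4784), (5465, 6643), (5466, 8994), (5467, 3237), (5468, 9009), (5469, 8086), (5470, 3238), (5471, 3286), (5472, 3241), (5473, 3289), (5474, 9016), (5475, 9017), (5476, 3243), (5477, 5796), (5478, 9022), (5479, 7450), (5480, 3244), (5481, 8975), (5482, 9028), (5483, 3247), (5484, 9031), (5485, 5979), (5486, 9029), (5487, 9035), (5488, 3248), (5489, 9039), (5490, 9037), (5491, 5422), (5492, 9043), (5493, 3251), (5494, 9047), (5495, 9048), (5496, 3255), (5497, 9051), (5498, 3253), (5499, 3254), (5500, 3256), (5501, 8256), (5502, 9053), (5503, 5415)]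
    ⟨e3 q5440 L119829 q5964, e3 q5441 L151956 q8966, e3 q5442 (flp_b L151942) q8963, e3 q5443 L151978 q8969, e3 q5444 (flp_b L105089) q3226, e3 q5445 L151992 q8973, e3 q5446 (flp_b L151986) q8971, e3 q5447 L105097 q5406, e3 q5448 L152018 q8978, e3 q5449 (flp_b L105103) q3229, e3 q5450 L152048 q8982, e3 q5451 L152054 q8983, e3 q5452 L105127 q3233, e3 q5453 L152078 q8987, e3 q5454 (flp_b L105131) q3231, e3 q5455 (flp_b L105133) q3232, e3 q5456 L152114 q8995, e3 q5457 (flp_b L152070) q8985, e3 q5458 L152120 q8996, e3 q5459 (flp_b L105149) q3234, e3 q5460 (flp_b L152156) q8259, e3 q5461 (flp_b L152086) q8989, e3 q5462 L105159 q5400, e3 q5463 (flp_b L105362) q5504, e3 q5464 L143437 q4784, e3 q5465 L143445 q6643, e3 q5466 (flp_b L152112) q8994, e3 q5467 (flp_b L105169) q3237, e3 q5468 (flp_b L152228) q9009, e3 q5469 (flp_b L143409) q8086, e3 q5470 (flp_b L105183) q3238, e3 q5471 L105189 q3286, e3 q5472 (flp_b L105204) q3241, e3 q5473 (flp_b L105260) q3289, e3 q5474 L152294 q9016, e3 q5475 L152296 q9017, e3 q5476 (flp_b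 L105220) q3243, e3 q5477 L149819 q5796, e3 q5478 L152332 q9022, e3 q5479 (flp_b L149815) q7450, e3 q5480 (flp_b L105234) q3244, e3 q5481 L152010 q8975, e3 q5482 L152376 q9028, e3 q5483 L105252 q3247, e3 q5484 L152396 q9031, e3 q5485 L149488 q5979, e3 q5486 (flp_b L152386) q9029, e3 q5487 L152422 q9035, e3 q5488 (flp_b L105282) q3248, e3 q5489 L152436 q9039, e3 q5490 (flp_b L152430) q9037, e3 q5491 L105290 q5422, e3 q5492 L152456 q9043, e3 q5493 (flp_b L105296) q3251, e3 q5494 L152486 q9047, e3 q5495 L152492 q9048, e3 q5496 L105320 q3255, e3 q5497 L152510 q9051, e3 q5498 (flp_b L105324) q3253, e3 q5499 (flp_b L105326) q3254, e3 q5500 (flp_b L105344) q3256, e3 q5501 (flp_b L152256) q8256, e3 q5502 (flp_b L152518) q9053, e3 q5503 L105356 q5415, trivial⟩ (by decide +kernel)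

theorem ce_b_86 : ∀ r, r < 64 → sm gb (Qf (5504 + r)) = Qf (tab Gen.b (5504 + r)) :=
  edges_tab (sm gb) Qf (tab Gen.b) 5504 [(5504, 5463), (5505, 4823), (5506, 9057), (5507, 6688), (5508, 3259), (5509, 8128), (5510, 3260), (5511, 3309), (5512, 3263), (5513, 7038), (5514, 3265), (5515, 5515), (5516, 5019), (5517, 7529), (5518, 8946), (5519, 3884), (5520, 9082), (5521, 3270), (5522, 8550), (5523, 9084), (5524, 9085), (5525, 3272), (5526, 5604), (5527, 9089), (5528, 9086), (5529, 9092), (5530, 3273), (5531, 3274), (5532, 9096), (5533, 3910), (5534, 6571), (5535, 9097), (5536, 3276), (5537, 3277), (5538, 4748), (5539, 9102), (5540, 3282), (5541, 9105), (5542, 3279), (5543, 9109), (5544, 7972), (5545, 5177), (5546, 3281), (5547, 9113), (5548, 9116), (5549, 9104), (5550, 9118), (5551, 3284), (5552, 5552), (5553, 9114), (5554, 9122), (5555, 3285), (5556, 9126), (5557, 7066), (5558, 3288), (5559, 5025), (5560, 5560), (5561, 7574), (5562, 9013), (5563, 9136), (5564, 3913), (5565, 3293), (5566, 8521), (5567, 9138)]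
    ⟨e3 q5504 L105362 q5463, e3 q5505 L151366 q4823, e3 q5506 (flp_b L152538) q9057, e3 q5507 L151276 q6688, e3 q5508 (flp_b L105374) q3259, e3 q5509 L151360 q8128, e3 q5510 (flp_b L105388) q3260, e3 q5511 L105396 q3309, e3 q5512 (flp_b L105411) q3263, e3 q5513 L116072 q7038, e3 q5514 L105423 q3265, e3 q5515 L105429 q5515, e3 q5516 L105434 q5019, e3 q5517 (flp_b L121070) q7529, e3 q5518 (flp_b L151808) q8946, e3 q5519 L119658 q3884, e3 q5520 L152708 q9082, e3 q5521 L105459 q3270, e3 q5522 (flp_b L143687) q8550, e3 q5523 L152720 q9084, e3 q5524 L152726 q9085, e3 q5525 L105483 q3272, e3 q5526 (flp_b L120265) q5604, e3 q5527 L152744 q9089, e3 q5528 (flp_b L152730) q9086, e3 q5529 L152764 q9092, e3 q5530 (flp_b L105497) q3273, e3 q5531 (flp_b L105501) q3274, e3 q5532 L152788 q9096, e3 q5533 L120577 q3910, e3 q5534 L120569 q6571, e3 q5535 L152792 q9097, e3 q5536 (flp_b L105523) q3276, e3 q5537 (flp_b L105527) q3277, e3 q5538 L149786 q4748, e3 q5539 L152830 q9102, e3 q5540 L105541 q3282, e3 q5541 L152846 q9105, e3 q5542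 (flp_b L105547) q3279, e3 q5543 L152864 q9109, e3 q5544 (flp_b L146084) q7972, e3 q5545 L105561 q5177, e3 q5546 (flp_b L105563) q3281, e3 q5547 (flp_b L152882) q9113, e3 q5548 L152896 q9116, e3 q5549 (flp_b L152844) q9104, e3 q5550 L152908 q9118, e3 q5551 L105585 q3284, e3 q5552 L105589 q5552, e3 q5553 (flp_b L152886) q9114, e3 q5554 (flp_b L152926) q9122, e3 q5555 (flp_b L105597) q3285, e3 q5556 (flp_b L152953) q9126, e3 q5557 (flp_b L148961) q7066, e3 q5558 L105610 q3288, e3 q5559 L105616 q5025, e3 q5560 L105622 q5560, e3 q5561 (flp_b L150872) q7574, e3 q5562 (flp_b L152266) q9013, e3 q5563 L153123 q9136, e3 q5564 L150422 q3913, e3 q5565 L105646 q3293, e3 q5566 (flp_b L143469) q8521, e3 q5567 L153135 q9138, trivial⟩ (by decide +kernel)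

theorem ce_b_87 : ∀ r, r < 64 → sm gb (Qf (5568 + r)) = Qf (tab Gen.b (5568 + r)) :=
  edges_tab (sm gb) Qf (tab Gen.b) 5568 [(5568, 9139), (5569, 3295), (5570, 9142), (5571, 5641), (5572, 9140), (5573, 9146), (5574, 3296), (5575, 3297), (5576, 9150), (5577, 3938), (5578, 6609), (5579, 9151), (5580, 3299), (5581, 3300), (5582, 4650), (5583, 9156), (5584, 3305), (5585, 9159), (5586, 3302), (5587, 9163), (5588, 8031), (5589, 5188), (5590, 3304), (5591, 9167), (5592, 9170), (5593, 9158), (5594, 9172), (5595, 3307), (5596, 9168), (5597, 5597), (5598, 9176), (5599, 3308), (5600, 9180), (5601, 3434), (5602, 3311), (5603, 8587), (5604, 5526), (5605, 3312), (5606, 3448), (5607, 9186), (5608, 9190), (5609, 9191), (5610, 3317), (5611, 6084), (5612, 3337), (5613, 9194), (5614, 3316), (5615, 3342), (5616, 5892), (5617, 9197), (5618, 3318), (5619, 9198), (5620, 3320), (5621, 9199), (5622, 9200), (5623, 3326), (5624, 7998), (5625, 3322), (5626, 3386), (5627, 9202), (5628, 8448), (5629, 3327), (5630, 9206), (5631, 3328)]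
    ⟨e3 q5568 L153137 q9139, e3 q5569 L105670 q3295, e3 q5570 L153155 q9142, e3 q5571 (flp_b L129627) q5641, e3 q5572 (flp_b L153145) q9140, e3 q5573 L153179 q9146, e3 q5574 (flp_b L105684) q3296, e3 q5575 (flp_b L105688) q3297, e3 q5576 L153203 q9150, e3 q5577 L151391 q3938, e3 q5578 L151234 q6609, e3 q5579 L153207 q9151, e3 q5580 (flp_b L105710) q3299, e3 q5581 (flp_b L105714) q3300, e3 q5582 L151451 q4650, e3 q5583 L153245 q9156, e3 q5584 L105728 q3305, e3 q5585 L153261 q9159, e3 q5586 (flp_b L105734) q3302, e3 q5587 L153285 q9163, e3 q5588 (flp_b L151429) q8031, e3 q5589 L105754 q5188, e3 q5590 (flp_b L105756) q3304, e3 q5591 (flp_b L153309) q9167, e3 q5592 L153325 q9170, e3 q5593 (flp_b L153259) q9158, e3 q5594 L153337 q9172, e3 q5595 L105782 q3307, e3 q5596 (flp_b L153315) q9168, e3 q5597 L105792 q5597, e3 q5598 (flp_b L153359) q9176, e3 q5599 (flp_b L105798) q3308, e3 q5600 (flp_b L153390) q9180, e3 q5601 L120387 q3434, e3 q5602 L105812 q3311, e3 q5603 (flp_b L144077) q8587, e3 q5604 L120265 q5526, e3 q5605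 (flp_b L105833) q3312, e3 q5606 L120315 q3448, e3 q5607 (flp_b L153546) q9186, e3 q5608 L153580 q9190, e3 q5609 L153590 q9191, e3 q5610 L105863 q3317, e3 q5611 (flp_b L120311) q6084, e3 q5612 L149249 q3337, e3 q5613 L153608 q9194, e3 q5614 (flp_b L105895) q3316, e3 q5615 L149299 q3342, e3 q5616 L120263 q5892, e3 q5617 L153630 q9197, e3 q5618 (flp_b L105921) q3318, e3 q5619 L153638 q9198, e3 q5620 (flp_b L105937) q3320, e3 q5621 L153650 q9199, e3 q5622 L153658 q9200, e3 q5623 L105955 q3326, e3 q5624 (flp_b L123786) q7998, e3 q5625 (flp_b L105959) q3322, e3 q5626 L149255 q3386, e3 q5627 L153672 q9202, e3 q5628 (flp_b L150568) q8448, e3 q5629 (flp_b L106045) q3327, e3 q5630 (flp_b L153698) q9206, e3 q5631 (flp_b L106080) q3328, trivial⟩ (by decide +kernel)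

theorem ce_b_88 : ∀ r, r < 64 → sm gb (Qf (5632 + r)) = Qf (tab Gen.b (5632 + r)) :=
  edges_tab (sm gb) Qf (tab Gen.b) 5632 [(5632, 9212), (5633, 3330), (5634, 3331), (5635, 5635), (5636, 9208), (5637, 9217), (5638, 3435), (5639, 3333), (5640, 8578), (5641, 5571), (5642, 3334), (5643, 3451), (5644, 9226), (5645, 9229), (5646, 9230), (5647, 3339), (5648, 6044), (5649, 9232), (5650, 5915), (5651, 9234), (5652, 3340), (5653, 9193), (5654, 9235), (5655, 9236), (5656, 3348), (5657, 7940), (5658, 3344), (5659, 3363), (5660, 9238), (5661, 8445), (5662, 3349), (5663, 9242), (5664, 3350), (5665, 9248), (5666, 3352), (5667, 3353), (5668, 9243), (5669, 5669), (5670, 9253), (5671, 6867), (5672, 3355), (5673, 9261), (5674, 3356), (5675, 9263), (5676, 3357), (5677, 9267), (5678, 9268), (5679, 3360), (5680, 3361), (5681, 9273), (5682, 3383), (5683, 3393), (5684, 3364), (5685, 4032), (5686, 3369), (5687, 5739), (5688, 3366), (5689, 9279), (5690, 9281), (5691, 3371), (5692, 9285), (5693, 9286), (5694, 6834), (5695, 3370)]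
    ⟨e3 q5632 L153747 q9212, e3 q5633 L106097 q3330, e3 q5634 L106101 q3331, e3 q5635 L106109 q5635, e3 q5636 (flp_b L153704) q9208, e3 q5637 (flp_b L153781) q9217, e3 q5638 L151068 q3435, e3 q5639 L106131 q3333, e3 q5640 (flp_b L143925) q8578, e3 q5641 L129627 q5571, e3 q5642 (flp_b L106152) q3334, e3 q5643 L150886 q3451, e3 q5644 (flp_b L153858) q9226, e3 q5645 L153880 q9229, e3 q5646 L153882 q9230, e3 q5647 L106182 q3339, e3 q5648 L149239 q6044, e3 q5649 L153898 q9232, e3 q5650 (flp_b L147921) q5915, e3 q5651 L153910 q9234, e3 q5652 (flp_b L106240) q3340, e3 q5653 (flp_b L153606) q9193, e3 q5654 L153918 q9235, e3 q5655 L153928 q9236, e3 q5656 L106274 q3348, e3 q5657 L150542 q7940, e3 q5658 (flp_b L106278) q3344, e3 q5659 L149634 q3363, e3 q5660 L153944 q9238, e3 q5661 (flp_b L151030) q8445, e3 q5662 (flp_b L106366) q3349, e3 q5663 (flp_b L153970) q9242, e3 q5664 (flp_b L106403) q3350, e3 q5665 L154013 q9248, e3 q5666 L106420 q3352, e3 q5667 L106424 q3353, e3 q5668 (flp_b L153974) q9243, e3 q5669 L106436 q5669,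 e3 q5670 (flp_b L154049) q9253, e3 q5671 (flp_b L114955) q6867, e3 q5672 L106623 q3355, e3 q5673 L154108 q9261, e3 q5674 L120324 q3356, e3 q5675 L154122 q9263, e3 q5676 (flp_b L106647) q3357, e3 q5677 L154140 q9267, e3 q5678 L154148 q9268, e3 q5679 (flp_b L106667) q3360, e3 q5680 (flp_b L106681) q3361, e3 q5681 L154182 q9273, e3 q5682 L149279 q3383, e3 q5683 L150582 q3393, e3 q5684 (flp_b L106697) q3364, e3 q5685 L151026 q4032, e3 q5686 L106709 q3369, e3 q5687 (flp_b L107051) q5739, e3 q5688 (flp_b L106715) q3366, e3 q5689 L154220 q9279, e3 q5690 L154226 q9281, e3 q5691 L106729 q3371, e3 q5692 L154240 q9285, e3 q5693 L154248 q9286, e3 q5694 (flp_b L151048) q6834, e3 q5695 (flp_b L106767) q3370, trivial⟩ (by decide +kernel)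

theorem ce_b_89 : ∀ r, r < 64 → sm gb (Qf (5696 + r)) = Qf (tab Gen.b (5696 + r)) :=
  edges_tab (sm gb) Qf (tab Gen.b) 5696 [(5696, 9289), (5697, 9293), (5698, 9283), (5699, 9296), (5700, 3372), (5701, 3373), (5702, 9298), (5703, 9304), (5704, 9305), (5705, 3377), (5706, 4048), (5707, 5722), (5708, 9308), (5709, 9310), (5710, 6888), (5711, 3379), (5712, 9314), (5713, 9316), (5714, 3381), (5715, 3380), (5716, 9275), (5717, 9320), (5718, 9321), (5719, 3387), (5720, 3388), (5721, 4078), (5722, 5707), (5723, 3390), (5724, 9327), (5725, 9290), (5726, 3395), (5727, 9332), (5728, 9333), (5729, 6760), (5730, 3394), (5731, 9330), (5732, 9338), (5733, 3396), (5734, 3397), (5735, 9340), (5736, 9346), (5737, 9347), (5738, 3401), (5739, 5687), (5740, 4002), (5741, 9276), (5742, 9351), (5743, 9352), (5744, 9353), (5745, 9354), (5746, 9355), (5747, 7538), (5748, 7583), (5749, 3406), (5750, 3407), (5751, 5751), (5752, 6863), (5753, 6884), (5754, 9360), (5755, 9361), (5756, 3411), (5757, 3412), (5758, 9368), (5759, 9369)]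
    ⟨e3 q5696 (flp_b L154274) q9289, e3 q5697 L154292 q9293, e3 q5698 (flp_b L154234) q9283, e3 q5699 L154310 q9296, e3 q5700 (flp_b L106795) q3372, e3 q5701 (flp_b L106799) q3373, e3 q5702 (flp_b L154336) q9298, e3 q5703 L154368 q9304, e3 q5704 L154372 q9305, e3 q5705 L106821 q3377, e3 q5706 L106829 q4048, e3 q5707 (flp_b L106947) q5722, e3 q5708 (flp_b L154396) q9308, e3 q5709 L154406 q9310, e3 q5710 (flp_b L115128) q6888, e3 q5711 L106855 q3379, e3 q5712 L154438 q9314, e3 q5713 L154452 q9316, e3 q5714 L146729 q3381, e3 q5715 (flp_b L106877) q3380, e3 q5716 (flp_b L154202) q9275, e3 q5717 L154482 q9320, e3 q5718 L154530 q9321, e3 q5719 (flp_b L106925) q3387, e3 q5720 (flp_b L106929) q3388, e3 q5721 L150590 q4078, e3 q5722 L106947 q5707, e3 q5723 (flp_b L106949) q3390, e3 q5724 L154592 q9327, e3 q5725 (flp_b L154280) q9290, e3 q5726 L106963 q3395, e3 q5727 L154618 q9332, e3 q5728 L154628 q9333, e3 q5729 L151056 q6760, e3 q5730 (flp_b L107001) q3394, e3 q5731 (flp_b L154608) q9330, e3 q5732 L154666 q9338, e3 q5733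 (flp_b L107017) q3396, e3 q5734 (flp_b L107021) q3397, e3 q5735 (flp_b L154686) q9340, e3 q5736 L154732 q9346, e3 q5737 L154738 q9347, e3 q5738 L107043 q3401, e3 q5739 L107051 q5687, e3 q5740 L107057 q4002, e3 q5741 L154212 q9276, e3 q5742 (flp_b L154774) q9351, e3 q5743 L154776 q9352, e3 q5744 L154786 q9353, e3 q5745 L154796 q9354, e3 q5746 L154803 q9355, e3 q5747 (flp_b L121139) q7538, e3 q5748 L149146 q7583, e3 q5749 (flp_b L107143) q3406, e3 q5750 (flp_b L107147) q3407, e3 q5751 L107153 q5751, e3 q5752 L142812 q6863, e3 q5753 L149550 q6884, e3 q5754 L154844 q9360, e3 q5755 L154853 q9361, e3 q5756 (flp_b L107184) q3411, e3 q5757 (flp_b L107187) q3412, e3 q5758 L154894 q9368, e3 q5759 L154904 q9369, trivial⟩ (by decide +kernel)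

theorem ce_b_90 : ∀ r, r < 64 → sm gb (Qf (5760 + r)) = Qf (tab Gen.b (5760 + r)) :=
  edges_tab (sm gb) Qf (tab Gen.b) 5760 [(5760, 3414), (5761, 3415), (5762, 3416), (5763, 9376), (5764, 3417), (5765, 9379), (5766, 9187), (5767, 9380), (5768, 3419), (5769, 9227), (5770, 9384), (5771, 3421), (5772, 3422), (5773, 3423), (5774, 9390), (5775, 3483), (5776, 5889), (5777, 9395), (5778, 3487), (5779, 5880), (5780, 3426), (5781, 9402), (5782, 9403), (5783, 3428), (5784, 9406), (5785, 9407), (5786, 9182), (5787, 9222), (5788, 3431), (5789, 3432), (5790, 3433), (5791, 9410), (5792, 5792), (5793, 5793), (5794, 5433), (5795, 5821), (5796, 5477), (5797, 5817), (5798, 7439), (5799, 5082), (5800, 6855), (5801, 6876), (5802, 6851), (5803, 6872), (5804, 9423), (5805, 9424), (5806, 3442), (5807, 9426), (5808, 3443), (5809, 9428), (5810, 9429), (5811, 3445), (5812, 9433), (5813, 3447), (5814, 3449), (5815, 9440), (5816, 9363), (5817, 5797), (5818, 3452), (5819, 9449), (5820, 9366), (5821, 5795), (5822, 9455), (5823, 5117)]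
    ⟨e3 q5760 (flp_b L107210) q3414, e3 q5761 (flp_b L107214) q3415, e3 q5762 (flp_b L107218) q3416, e3 q5763 L154958 q9376, e3 q5764 (flp_b L107236) q3417, e3 q5765 L154980 q9379, e3 q5766 (flp_b L153556) q9187, e3 q5767 L154986 q9380, e3 q5768 (flp_b L107268) q3419, e3 q5769 (flp_b L153868) q9227, e3 q5770 L155006 q9384, e3 q5771 (flp_b L107284) q3421, e3 q5772 (flp_b L107288) q3422, e3 q5773 (flp_b L107300) q3423, e3 q5774 L155054 q9390, e3 q5775 L107322 q3483, e3 q5776 (flp_b L108021) q5889, e3 q5777 L155108 q9395, e3 q5778 L107334 q3487, e3 q5779 (flp_b L107971) q5880, e3 q5780 (flp_b L107340) q3426, e3 q5781 L155176 q9402, e3 q5782 L155180 q9403, e3 q5783 (flp_b L107362) q3428, e3 q5784 L155198 q9406, e3 q5785 L155202 q9407, e3 q5786 (flp_b L153508) q9182, e3 q5787 (flp_b L153820) q9222, e3 q5788 (flp_b L107400) q3431, e3 q5789 (flp_b L107404) q3432, e3 q5790 (flp_b L107408) q3433, e3 q5791 (flp_b L155229) q9410, e3 q5792 L118950 q5792, e3 q5793 L122026 q5793, e3 q5794 L120542 q5433, e3 q5795 (flp_b L107601)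 q5821, e3 q5796 (flp_b L149819) q5477, e3 q5797 (flp_b L107587) q5817, e3 q5798 (flp_b L118691) q7439, e3 q5799 L107459 q5082, e3 q5800 (flp_b L120326) q6855, e3 q5801 (flp_b L148582) q6876, e3 q5802 (flp_b L120328) q6851, e3 q5803 (flp_b L148584) q6872, e3 q5804 L155348 q9423, e3 q5805 L155351 q9424, e3 q5806 (flp_b L107505) q3442, e3 q5807 L155360 q9426, e3 q5808 (flp_b L107521) q3443, e3 q5809 L155372 q9428, e3 q5810 L155378 q9429, e3 q5811 (flp_b L107553) q3445, e3 q5812 L155396 q9433, e3 q5813 (flp_b L107571) q3447, e3 q5814 (flp_b L107577) q3449, e3 q5815 L155425 q9440, e3 q5816 (flp_b L154872) q9363, e3 q5817 L107587 q5797, e3 q5818 (flp_b L107591) q3452, e3 q5819 L155470 q9449, e3 q5820 (flp_b L154888) q9366, e3 q5821 L107601 q5795, e3 q5822 L155542 q9455, e3 q5823 L107613 q5117, trivial⟩ (by decide +kernel)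

theorem ce_b_91 : ∀ r, r < 64 → sm gb (Qf (5824 + r)) = Qf (tab Gen.b (5824 + r)) :=
  edges_tab (sm gb) Qf (tab Gen.b) 5824 [(5824, 6009), (5825, 9460), (5826, 5121), (5827, 6003), (5828, 3456), (5829, 9456), (5830, 9466), (5831, 9467), (5832, 9469), (5833, 3459), (5834, 9461), (5835, 9471), (5836, 9472), (5837, 9474), (5838, 7525), (5839, 9476), (5840, 3463), (5841, 3464), (5842, 9483), (5843, 7570), (5844, 3466), (5845, 3467), (5846, 5201), (5847, 3676), (5848, 5867), (5849, 5209), (5850, 3679), (5851, 5859), (5852, 3470), (5853, 9494), (5854, 3695), (5855, 9499), (5856, 3472), (5857, 9503), (5858, 3699), (5859, 5851), (5860, 3474), (5861, 9510), (5862, 3703), (5863, 9515), (5864, 3476), (5865, 9519), (5866, 3707), (5867, 5848), (5868, 9525), (5869, 3479), (5870, 9526), (5871, 3481), (5872, 3482), (5873, 9529), (5874, 9392), (5875, 6306), (5876, 3484), (5877, 9536), (5878, 9537), (5879, 5888), (5880, 5779), (5881, 3486), (5882, 9542), (5883, 9397), (5884, 6277), (5885, 3488), (5886, 9549), (5887, 9550)]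
    ⟨e3 q5824 (flp_b L108949) q6009, e3 q5825 L155588 q9460, e3 q5826 L107627 q5121, e3 q5827 (flp_b L108891) q6003, e3 q5828 (flp_b L107633) q3456, e3 q5829 (flp_b L155560) q9456, e3 q5830 L155644 q9466, e3 q5831 L155648 q9467, e3 q5832 L155664 q9469, e3 q5833 (flp_b L107665) q3459, e3 q5834 (flp_b L155606) q9461, e3 q5835 L155680 q9471, e3 q5836 L155684 q9472, e3 q5837 L155700 q9474, e3 q5838 (flp_b L121048) q7525, e3 q5839 L155716 q9476, e3 q5840 (flp_b L107708) q3463, e3 q5841 (flp_b L107710) q3464, e3 q5842 L155752 q9483, e3 q5843 L150954 q7570, e3 q5844 (flp_b L107723) q3466, e3 q5845 (flp_b L107725) q3467, e3 q5846 L120279 q5201, e3 q5847 L107745 q3676, e3 q5848 (flp_b L107871) q5867, e3 q5849 L147838 q5209, e3 q5850 L107767 q3679, e3 q5851 (flp_b L107819) q5859, e3 q5852 (flp_b L107775) q3470, e3 q5853 L155824 q9494, e3 q5854 L107789 q3695, e3 q5855 L155854 q9499, e3 q5856 (flp_b L107799) q3472, e3 q5857 L155876 q9503, e3 q5858 L107813 q3699, e3 q5859 L107819 q5851, e3 q5860 (flp_b L107821) q3474, e3 q5861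 L155922 q9510, e3 q5862 L107835 q3703, e3 q5863 L155952 q9515, e3 q5864 (flp_b L107845) q3476, e3 q5865 L155978 q9519, e3 q5866 L107863 q3707, e3 q5867 L107871 q5848, e3 q5868 L156020 q9525, e3 q5869 (flp_b L107883) q3479, e3 q5870 L156040 q9526, e3 q5871 (flp_b L107909) q3481, e3 q5872 (flp_b L107915) q3482, e3 q5873 L156080 q9529, e3 q5874 (flp_b L155080) q9392, e3 q5875 (flp_b L110939) q6306, e3 q5876 (flp_b L107947) q3484, e3 q5877 L156140 q9536, e3 q5878 L156144 q9537, e3 q5879 (flp_b L108015) q5888, e3 q5880 L107971 q5779, e3 q5881 (flp_b L107973) q3486, e3 q5882 L156190 q9542, e3 q5883 (flp_b L155134) q9397, e3 q5884 L150293 q6277, e3 q5885 (flp_b L107995) q3488, e3 q5886 L156250 q9549, e3 q5887 L156254 q9550, trivial⟩ (by decide +kernel)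

theorem ce_b_92 : ∀ r, r < 64 → sm gb (Qf (5888 + r)) = Qf (tab Gen.b (5888 + r)) :=
  edges_tab (sm gb) Qf (tab Gen.b) 5888 [(5888, 5879), (5889, 5776), (5890, 7375), (5891, 5401), (5892, 5616), (5893, 9556), (5894, 3491), (5895, 9558), (5896, 9562), (5897, 3492), (5898, 3728), (5899, 3510), (5900, 7393), (5901, 9570), (5902, 9571), (5903, 7383), (5904, 9575), (5905, 3496), (5906, 3497), (5907, 9583), (5908, 9551), (5909, 3512), (5910, 5910), (5911, 9590), (5912, 7406), (5913, 5417), (5914, 9593), (5915, 5650), (5916, 3501), (5917, 9596), (5918, 9600), (5919, 3502), (5920, 3741), (5921, 3513), (5922, 7423), (5923, 9608), (5924, 9609), (5925, 7413), (5926, 9613), (5927, 3506), (5928, 3507), (5929, 9621), (5930, 9538), (5931, 3515), (5932, 5932), (5933, 9628), (5934, 3511), (5935, 9630), (5936, 9634), (5937, 9587), (5938, 3514), (5939, 9637), (5940, 9641), (5941, 9625), (5942, 9643), (5943, 3517), (5944, 9645), (5945, 9649), (5946, 3519), (5947, 9651), (5948, 5961), (5949, 5956), (5950, 9654), (5951, 9655)]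
    ⟨e3 q5888 L108015 q5879, e3 q5889 L108021 q5776, e3 q5890 (flp_b L120527) q7375, e3 q5891 (flp_b L119841) q5401, e3 q5892 (flp_b L120263) q5616, e3 q5893 L156312 q9556, e3 q5894 (flp_b L108039) q3491, e3 q5895 (flp_b L156330) q9558, e3 q5896 L156360 q9562, e3 q5897 (flp_b L108057) q3492, e3 q5898 L108063 q3728, e3 q5899 L108067 q3510, e3 q5900 (flp_b L118314) q7393, e3 q5901 L156406 q9570, e3 q5902 L156410 q9571, e3 q5903 (flp_b L118264) q7383, e3 q5904 L156432 q9575, e3 q5905 (flp_b L108101) q3496, e3 q5906 (flp_b L108105) q3497, e3 q5907 L156482 q9583, e3 q5908 (flp_b L156274) q9551, e3 q5909 L108125 q3512, e3 q5910 L108133 q5910, e3 q5911 L156523 q9590, e3 q5912 (flp_b L118398) q7406, e3 q5913 L147965 q5417, e3 q5914 L156547 q9593, e3 q5915 L147921 q5650, e3 q5916 (flp_b L108158) q3501, e3 q5917 (flp_b L156577) q9596, e3 q5918 L156607 q9600, e3 q5919 (flp_b L108176) q3502, e3 q5920 L108182 q3741, e3 q5921 L108186 q3513, e3 q5922 (flp_b L118499) q7423, e3 q5923 L156653 q9608, e3 q5924 L156657 q9609, e3 q5925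 (flp_b L118447) q7413, e3 q5926 L156679 q9613, e3 q5927 (flp_b L108220) q3506, e3 q5928 (flp_b L108224) q3507, e3 q5929 L156735 q9621, e3 q5930 L156164 q9538, e3 q5931 L108244 q3515, e3 q5932 L108252 q5932, e3 q5933 L156776 q9628, e3 q5934 (flp_b L108261) q3511, e3 q5935 (flp_b L156790) q9630, e3 q5936 L156895 q9634, e3 q5937 (flp_b L156504) q9587, e3 q5938 (flp_b L108280) q3514, e3 q5939 (flp_b L156912) q9637, e3 q5940 L156934 q9641, e3 q5941 (flp_b L156757) q9625, e3 q5942 L156943 q9643, e3 q5943 (flp_b L108315) q3517, e3 q5944 (flp_b L156958) q9645, e3 q5945 L156980 q9649, e3 q5946 (flp_b L108346) q3519, e3 q5947 (flp_b L156995) q9651, e3 q5948 (flp_b L108569) q5961, e3 q5949 (flp_b L108523) q5956, e3 q5950 L157017 q9654, e3 q5951 L157029 q9655, trivial⟩ (by decide +kernel)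

theorem ce_b_93 : ∀ r, r < 64 → sm gb (Qf (5952 + r)) = Qf (tab Gen.b (5952 + r)) :=
  edges_tab (sm gb) Qf (tab Gen.b) 5952 [(5952, 6667), (5953, 3530), (5954, 8149), (5955, 5960), (5956, 5949), (5957, 6620), (5958, 3534), (5959, 8181), (5960, 5955), (5961, 5948), (5962, 6066), (5963, 3537), (5964, 5440), (5965, 3800), (5966, 9673), (5967, 3539), (5968, 9677), (5969, 9675), (5970, 6053), (5971, 3541), (5972, 9684), (5973, 9451), (5974, 3809), (5975, 7723), (5976, 9691), (5977, 6104), (5978, 3545), (5979, 5485), (5980, 3819), (5981, 9695), (5982, 3547), (5983, 9699), (5984, 9697), (5985, 6091), (5986, 3549), (5987, 9706), (5988, 9442), (5989, 3828), (5990, 7885), (5991, 9713), (5992, 8478), (5993, 8475), (5994, 4872), (5995, 8111), (5996, 4843), (5997, 8067), (5998, 9714), (5999, 8113), (6000, 3562), (6001, 9718), (6002, 6430), (6003, 5827), (6004, 9722), (6005, 8068), (6006, 3566), (6007, 9726), (6008, 6461), (6009, 5824), (6010, 3977), (6011, 3570), (6012, 8300), (6013, 9733), (6014, 3572), (6015, 8072)]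
    ⟨e3 q5952 (flp_b L149580) q6667, e3 q5953 (flp_b L108507) q3530, e3 q5954 (flp_b L157083) q8149, e3 q5955 (flp_b L108561) q5960, e3 q5956 L108523 q5949, e3 q5957 (flp_b L149510) q6620, e3 q5958 (flp_b L108543) q3534, e3 q5959 (flp_b L157087) q8181, e3 q5960 L108561 q5955, e3 q5961 L108569 q5948, e3 q5962 (flp_b L109283) q6066, e3 q5963 (flp_b L108587) q3537, e3 q5964 (flp_b L119829) q5440, e3 q5965 L108601 q3800, e3 q5966 L157179 q9673, e3 q5967 (flp_b L108609) q3539, e3 q5968 L157197 q9677, e3 q5969 (flp_b L157193) q9675, e3 q5970 (flp_b L109223) q6053, e3 q5971 (flp_b L108623) q3541, e3 q5972 L157227 q9684, e3 q5973 (flp_b L155482) q9451, e3 q5974 L108637 q3809, e3 q5975 (flp_b L150940) q7723, e3 q5976 L157259 q9691, e3 q5977 (flp_b L109472) q6104, e3 q5978 (flp_b L108659) q3545, e3 q5979 (flp_b L149488) q5485, e3 q5980 L108673 q3819, e3 q5981 L157289 q9695, e3 q5982 (flp_b L108681) q3547, e3 q5983 L157307 q9699, e3 q5984 (flp_b L157303) q9697, e3 q5985 (flp_b L109412) q6091, e3 q5986 (flp_b L108695) q3549,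 e3 q5987 L157339 q9706, e3 q5988 L155437 q9442, e3 q5989 L108709 q3828, e3 q5990 (flp_b L123123) q7885, e3 q5991 L157371 q9713, e3 q5992 (flp_b L143137) q8478, e3 q5993 (flp_b L143081) q8475, e3 q5994 L148864 q4872, e3 q5995 L149025 q8111, e3 q5996 L130498 q4843, e3 q5997 L148161 q8067, e3 q5998 L157377 q9714, e3 q5999 (flp_b L149682) q8113, e3 q6000 (flp_b L108863) q3562, e3 q6001 L157427 q9718, e3 q6002 L163184 q6430, e3 q6003 L108891 q5827, e3 q6004 L157459 q9722, e3 q6005 L149245 q8068, e3 q6006 (flp_b L108921) q3566, e3 q6007 L157509 q9726, e3 q6008 (flp_b L163301) q6461, e3 q6009 L108949 q5824, e3 q6010 L149568 q3977, e3 q6011 (flp_b L108979) q3570, e3 q6012 L129344 q8300, e3 q6013 L157567 q9733, e3 q6014 (flp_b L108991) q3572, e3 q6015 (flp_b L124383) q8072, trivial⟩ (by decide +kernel)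

theorem ce_b_94 : ∀ r, r < 64 → sm gb (Qf (6016 + r)) = Qf (tab Gen.b (6016 + r)) :=
  edges_tab (sm gb) Qf (tab Gen.b) 6016 [(6016, 9736), (6017, 9734), (6018, 9740), (6019, 3574), (6020, 3575), (6021, 9743), (6022, 9728), (6023, 8492), (6024, 9749), (6025, 6819), (6026, 3948), (6027, 3580), (6028, 8303), (6029, 9753), (6030, 3582), (6031, 8115), (6032, 9756), (6033, 9754), (6034, 9760), (6035, 3584), (6036, 3585), (6037, 9763), (6038, 9720), (6039, 8484), (6040, 9769), (6041, 6745), (6042, 6393), (6043, 9770), (6044, 5648), (6045, 3591), (6046, 9772), (6047, 5398), (6048, 5242), (6049, 8990), (6050, 3594), (6051, 7616), (6052, 9776), (6053, 5970), (6054, 4943), (6055, 9783), (6056, 7980), (6057, 9785), (6058, 3599), (6059, 3600), (6060, 9793), (6061, 7962), (6062, 9798), (6063, 3602), (6064, 9144), (6065, 9787), (6066, 5962), (6067, 6105), (6068, 9804), (6069, 6513), (6070, 9792), (6071, 3605), (6072, 9809), (6073, 9815), (6074, 3606), (6075, 9816), (6076, 3637), (6077, 6077), (6078, 9821), (6079, 3609)]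
    ⟨e3 q6016 L157587 q9736, e3 q6017 (flp_b L157579) q9734, e3 q6018 L157609 q9740, e3 q6019 (flp_b L109015) q3574, e3 q6020 (flp_b L109019) q3575, e3 q6021 L157643 q9743, e3 q6022 L157531 q9728, e3 q6023 (flp_b L143281) q8492, e3 q6024 L157665 q9749, e3 q6025 L157395 q6819, e3 q6026 L148120 q3948, e3 q6027 (flp_b L109077) q3580, e3 q6028 L149518 q8303, e3 q6029 L157699 q9753, e3 q6030 (flp_b L109089) q3582, e3 q6031 L147753 q8115, e3 q6032 L157721 q9756, e3 q6033 (flp_b L157711) q9754, e3 q6034 L157743 q9760, e3 q6035 (flp_b L109113) q3584, e3 q6036 (flp_b L109117) q3585, e3 q6037 L157777 q9763, e3 q6038 L157449 q9720, e3 q6039 (flp_b L143175) q8484, e3 q6040 L157799 q9769, e3 q6041 L157477 q6745, e3 q6042 (flp_b L119823) q6393, e3 q6043 L157807 q9770, e3 q6044 (flp_b L149239) q5648, e3 q6045 (flp_b L109177) q3591, e3 q6046 L157817 q9772, e3 q6047 (flp_b L119827) q5398, e3 q6048 (flp_b L119825) q5242, e3 q6049 (flp_b L152092) q8990, e3 q6050 (flp_b L109215) q3594, e3 q6051 L155498 q7616, e3 q6052 (flp_b L157845)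 q9776, e3 q6053 L109223 q5970, e3 q6054 L119697 q4943, e3 q6055 L157881 q9783, e3 q6056 (flp_b L123618) q7980, e3 q6057 L157899 q9785, e3 q6058 (flp_b L109255) q3599, e3 q6059 (flp_b L109257) q3600, e3 q6060 L157933 q9793, e3 q6061 (flp_b L123538) q7962, e3 q6062 L157953 q9798, e3 q6063 (flp_b L109273) q3602, e3 q6064 L157635 q9144, e3 q6065 (flp_b L157907) q9787, e3 q6066 L109283 q5962, e3 q6067 (flp_b L109476) q6105, e3 q6068 L157999 q9804, e3 q6069 L112186 q6513, e3 q6070 (flp_b L157931) q9792, e3 q6071 (flp_b L109293) q3605, e3 q6072 (flp_b L158027) q9809, e3 q6073 L158051 q9815, e3 q6074 (flp_b L109307) q3606, e3 q6075 L158063 q9816, e3 q6076 L109317 q3637, e3 q6077 L109323 q6077, e3 q6078 L158094 q9821, e3 q6079 (flp_b L109332) q3609, trivial⟩ (by decide +kernel)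

theorem ce_b_95 : ∀ r, r < 64 → sm gb (Qf (6080 + r)) = Qf (tab Gen.b (6080 + r)) :=
  edges_tab (sm gb) Qf (tab Gen.b) 6080 [(6080, 6396), (6081, 9825), (6082, 3612), (6083, 9778), (6084, 5611), (6085, 5414), (6086, 5250), (6087, 9054), (6088, 3616), (6089, 7781), (6090, 9830), (6091, 5985), (6092, 4944), (6093, 9836), (6094, 8037), (6095, 9838), (6096, 3621), (6097, 3622), (6098, 9846), (6099, 8019), (6100, 9851), (6101, 3624), (6102, 9088), (6103, 9840), (6104, 5977), (6105, 6067), (6106, 9857), (6107, 9844), (6108, 6479), (6109, 3627), (6110, 9862), (6111, 9868), (6112, 3628), (6113, 9869), (6114, 3643), (6115, 6115), (6116, 9874), (6117, 3631), (6118, 3633), (6119, 5029), (6120, 9878), (6121, 3635), (6122, 6122), (6123, 7954), (6124, 9882), (6125, 3636), (6126, 9886), (6127, 3639), (6128, 5030), (6129, 9889), (6130, 3641), (6131, 8011), (6132, 6132), (6133, 9891), (6134, 3642), (6135, 9893), (6136, 5388), (6137, 9899), (6138, 4765), (6139, 3649), (6140, 3950), (6141, 4791), (6142, 6672), (6143, 5226)]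
    ⟨e3 q6080 L150924 q6396, e3 q6081 L158115 q9825, e3 q6082 (flp_b L109362) q3612, e3 q6083 (flp_b L157857) q9778, e3 q6084 L120311 q5611, e3 q6085 (flp_b L149486) q5414, e3 q6086 L148015 q5250, e3 q6087 (flp_b L152524) q9054, e3 q6088 (flp_b L109404) q3616, e3 q6089 (flp_b L122520) q7781, e3 q6090 (flp_b L158151) q9830, e3 q6091 L109412 q5985, e3 q6092 L147707 q4944, e3 q6093 L158179 q9836, e3 q6094 (flp_b L124083) q8037, e3 q6095 L158197 q9838, e3 q6096 (flp_b L109444) q3621, e3 q6097 (flp_b L109446) q3622, e3 q6098 L158231 q9846, e3 q6099 (flp_b L123997) q8019, e3 q6100 L158251 q9851, e3 q6101 (flp_b L109462) q3624, e3 q6102 L157769 q9088, e3 q6103 (flp_b L158205) q9840, e3 q6104 L109472 q5977, e3 q6105 L109476 q6067, e3 q6106 L158299 q9857, e3 q6107 (flp_b L158223) q9844, e3 q6108 (flp_b L155502) q6479, e3 q6109 (flp_b L109484) q3627, e3 q6110 (flp_b L158327) q9862, e3 q6111 L158351 q9868, e3 q6112 (flp_b L109498) q3628, e3 q6113 L158363 q9869, e3 q6114 L109504 q3643, e3 q6115 L109510 q6115, e3 q6116 L158394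 q9874, e3 q6117 (flp_b L109519) q3631, e3 q6118 L109529 q3633, e3 q6119 (flp_b L119751) q5029, e3 q6120 L158415 q9878, e3 q6121 L109559 q3635, e3 q6122 L109565 q6122, e3 q6123 (flp_b L123496) q7954, e3 q6124 (flp_b L158443) q9882, e3 q6125 (flp_b L109575) q3636, e3 q6126 (flp_b L158473) q9886, e3 q6127 L109588 q3639, e3 q6128 L147305 q5030, e3 q6129 L158486 q9889, e3 q6130 L109618 q3641, e3 q6131 (flp_b L123928) q8011, e3 q6132 L109628 q6132, e3 q6133 (flp_b L158500) q9891, e3 q6134 (flp_b L109634) q3642, e3 q6135 (flp_b L158510) q9893, e3 q6136 (flp_b L119757) q5388, e3 q6137 L158549 q9899, e3 q6138 L109661 q4765, e3 q6139 L109665 q3649, e3 q6140 L109671 q3950, e3 q6141 L109677 q4791, e3 q6142 (flp_b L149760) q6672, e3 q6143 (flp_b L119749) q5226, trivial⟩ (by decide +kernel)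

theorem ce_b_96 : ∀ r, r < 64 → sm gb (Qf (6144 + r)) = Qf (tab Gen.b (6144 + r)) :=
  edges_tab (sm gb) Qf (tab Gen.b) 6144 [(6144, 9905), (6145, 3652), (6146, 6146), (6147, 8056), (6148, 9909), (6149, 5393), (6150, 9916), (6151, 4803), (6152, 3658), (6153, 4828), (6154, 3981), (6155, 6624), (6156, 5229), (6157, 9922), (6158, 3661), (6159, 8099), (6160, 6160), (6161, 9926), (6162, 3662), (6163, 3663), (6164, 3664), (6165, 9936), (6166, 3665), (6167, 9939), (6168, 9940), (6169, 3667), (6170, 9942), (6171, 3669), (6172, 9944), (6173, 9947), (6174, 9949), (6175, 3671), (6176, 3672), (6177, 9957), (6178, 9952), (6179, 6212), (6180, 9963), (6181, 9955), (6182, 6204), (6183, 3675), (6184, 7249), (6185, 9491), (6186, 4362), (6187, 3678), (6188, 7348), (6189, 9492), (6190, 4311), (6191, 3686), (6192, 9974), (6193, 3682), (6194, 3690), (6195, 9978), (6196, 3684), (6197, 3685), (6198, 9984), (6199, 9973), (6200, 9988), (6201, 3687), (6202, 9992), (6203, 9976), (6204, 6182), (6205, 3689), (6206, 10001), (6207, 9977)]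
    ⟨e3 q6144 L158599 q9905, e3 q6145 L109751 q3652, e3 q6146 L109759 q6146, e3 q6147 (flp_b L124227) q8056, e3 q6148 (flp_b L158625) q9909, e3 q6149 L149007 q5393, e3 q6150 L158676 q9916, e3 q6151 L109792 q4803, e3 q6152 L109796 q3658, e3 q6153 L109802 q4828, e3 q6154 L109808 q3981, e3 q6155 (flp_b L149504) q6624, e3 q6156 L147314 q5229, e3 q6157 L158726 q9922, e3 q6158 L109882 q3661, e3 q6159 (flp_b L124626) q8099, e3 q6160 L109892 q6160, e3 q6161 (flp_b L158752) q9926, e3 q6162 (flp_b L110049) q3662, e3 q6163 (flp_b L110055) q3663, e3 q6164 (flp_b L110061) q3664, e3 q6165 L158817 q9936, e3 q6166 (flp_b L110079) q3665, e3 q6167 L158835 q9939, e3 q6168 L158841 q9940, e3 q6169 (flp_b L110103) q3667, e3 q6170 L158855 q9942, e3 q6171 (flp_b L110123) q3669, e3 q6172 L158869 q9944, e3 q6173 L158895 q9947, e3 q6174 L158909 q9949, e3 q6175 (flp_b L110142) q3671, e3 q6176 (flp_b L110147) q3672, e3 q6177 L158965 q9957, e3 q6178 (flp_b L158935) q9952, e3 q6179 (flp_b L110397) q6212, e3 q6180 L159009 q9963, e3 q6181 (flp_b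 L158954) q9955, e3 q6182 (flp_b L110347) q6204, e3 q6183 (flp_b L110184) q3675, e3 q6184 (flp_b L117409) q7249, e3 q6185 (flp_b L155802) q9491, e3 q6186 (flp_b L110218) q4362, e3 q6187 (flp_b L110220) q3678, e3 q6188 L118015 q7348, e3 q6189 (flp_b L155810) q9492, e3 q6190 L150276 q4311, e3 q6191 L110262 q3686, e3 q6192 L159103 q9974, e3 q6193 (flp_b L110271) q3682, e3 q6194 L110287 q3690, e3 q6195 L159141 q9978, e3 q6196 (flp_b L110294) q3684, e3 q6197 (flp_b L110299) q3685, e3 q6198 L159183 q9984, e3 q6199 (flp_b L159092) q9973, e3 q6200 (flp_b L159235) q9988, e3 q6201 (flp_b L110323) q3687, e3 q6202 L159257 q9992, e3 q6203 (flp_b L159125) q9976, e3 q6204 L110347 q6182, e3 q6205 (flp_b L110349) q3689, e3 q6206 L159319 q10001, e3 q6207 (flp_b L159130) q9977, trivial⟩ (by decide +kernel)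

theorem ce_b_97 : ∀ r, r < 64 → sm gb (Qf (6208 + r)) = Qf (tab Gen.b (6208 + r)) :=
  edges_tab (sm gb) Qf (tab Gen.b) 6208 [(6208, 10005), (6209, 3691), (6210, 10009), (6211, 9980), (6212, 6179), (6213, 6963), (6214, 10016), (6215, 3722), (6216, 6301), (6217, 3694), (6218, 10023), (6219, 10028), (6220, 9497), (6221, 10033), (6222, 3696), (6223, 10037), (6224, 10035), (6225, 6289), (6226, 3698), (6227, 10042), (6228, 4230), (6229, 9506), (6230, 7236), (6231, 7237), (6232, 6975), (6233, 10050), (6234, 6328), (6235, 3736), (6236, 3702), (6237, 10057), (6238, 10062), (6239, 9513), (6240, 10067), (6241, 3704), (6242, 10071), (6243, 10069), (6244, 6316), (6245, 3706), (6246, 10076), (6247, 4213), (6248, 9522), (6249, 7336), (6250, 7337), (6251, 9982), (6252, 10084), (6253, 3710), (6254, 4185), (6255, 10087), (6256, 3711), (6257, 10091), (6258, 6258), (6259, 10095), (6260, 3713), (6261, 10098), (6262, 3714), (6263, 10102), (6264, 10000), (6265, 3716), (6266, 4193), (6267, 10106), (6268, 3717), (6269, 10110), (6270,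 6270), (6271, 10114)]
    ⟨e3 q6208 (flp_b L167044) q10005, e3 q6209 (flp_b L110373) q3691, e3 q6210 L159379 q10009, e3 q6211 (flp_b L159163) q9980, e3 q6212 L110397 q6179, e3 q6213 (flp_b L115581) q6963, e3 q6214 L159431 q10016, e3 q6215 L110411 q3722, e3 q6216 (flp_b L110899) q6301, e3 q6217 (flp_b L110417) q3694, e3 q6218 (flp_b L159477) q10023, e3 q6219 L159509 q10028, e3 q6220 (flp_b L155844) q9497, e3 q6221 L159535 q10033, e3 q6222 (flp_b L110441) q3696, e3 q6223 L159553 q10037, e3 q6224 (flp_b L159547) q10035, e3 q6225 (flp_b L110833) q6289, e3 q6226 (flp_b L110461) q3698, e3 q6227 L159585 q10042, e3 q6228 L110481 q4230, e3 q6229 (flp_b L155896) q9506, e3 q6230 (flp_b L150938) q7236, e3 q6231 (flp_b L117333) q7237, e3 q6232 (flp_b L115661) q6975, e3 q6233 L159631 q10050, e3 q6234 (flp_b L111067) q6328, e3 q6235 L110515 q3736, e3 q6236 (flp_b L110517) q3702, e3 q6237 (flp_b L159677) q10057, e3 q6238 L159709 q10062, e3 q6239 (flp_b L155942) q9513, e3 q6240 L159735 q10067, e3 q6241 (flp_b L110541) q3704, e3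 q6242 L159753 q10071, e3 q6243 (flp_b L159747) q10069, e3 q6244 (flp_b L111001) q6316, e3 q6245 (flp_b L110561) q3706, e3 q6246 L159785 q10076, e3 q6247 L110581 q4213, e3 q6248 (flp_b L156002) q9522, e3 q6249 (flp_b L117935) q7336, e3 q6250 (flp_b L117945) q7337, e3 q6251 (flp_b L159175) q9982, e3 q6252 L159835 q10084, e3 q6253 (flp_b L110611) q3710, e3 q6254 L115818 q4185, e3 q6255 L159865 q10087, e3 q6256 (flp_b L110629) q3711, e3 q6257 L159889 q10091, e3 q6258 L110639 q6258, e3 q6259 L159906 q10095, e3 q6260 (flp_b L110646) q3713, e3 q6261 L159928 q10098, e3 q6262 (flp_b L110661) q3714, e3 q6263 L159952 q10102, e3 q6264 (flp_b L159317) q10000, e3 q6265 (flp_b L110679) q3716, e3 q6266 L149744 q4193, e3 q6267 L159994 q10106, e3 q6268 (flp_b L110697) q3717, e3 q6269 L160018 q10110, e3 q6270 L110707 q6270, e3 q6271 L160035 q10114, trivial⟩ (by decide +kernel)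

theorem ce_b_98 : ∀ r, r < 64 → sm gb (Qf (6272 + r)) = Qf (tab Gen.b (6272 + r)) :=
  edges_tab (sm gb) Qf (tab Gen.b) 6272 [(6272, 3719), (6273, 10117), (6274, 3720), (6275, 6893), (6276, 9398), (6277, 5884), (6278, 3723), (6279, 9547), (6280, 3725), (6281, 10024), (6282, 10124), (6283, 10125), (6284, 10121), (6285, 10129), (6286, 3726), (6287, 10133), (6288, 10131), (6289, 6225), (6290, 6999), (6291, 9566), (6292, 10138), (6293, 10140), (6294, 3730), (6295, 10145), (6296, 10146), (6297, 10147), (6298, 3732), (6299, 4173), (6300, 10149), (6301, 6216), (6302, 9393), (6303, 6896), (6304, 3735), (6305, 9534), (6306, 5875), (6307, 3738), (6308, 10157), (6309, 10059), (6310, 10158), (6311, 10154), (6312, 10162), (6313, 3739), (6314, 10166), (6315, 10164), (6316, 6244), (6317, 7015), (6318, 9604), (6319, 10171), (6320, 10173), (6321, 3743), (6322, 10178), (6323, 10179), (6324, 10180), (6325, 3745), (6326, 4167), (6327, 10182), (6328, 6234), (6329, 3747), (6330, 10187), (6331, 10193), (6332, 10194), (6333, 6373), (6334,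 3751), (6335, 6375)]
    ⟨e3 q6272 (flp_b L110714) q3719, e3 q6273 L160058 q10117, e3 q6274 (flp_b L110729) q3720, e3 q6275 L115190 q6893, e3 q6276 (flp_b L155148) q9398, e3 q6277 (flp_b L150293) q5884, e3 q6278 (flp_b L110757) q3723, e3 q6279 (flp_b L156236) q9547, e3 q6280 L110777 q3725, e3 q6281 (flp_b L159487) q10024, e3 q6282 L160112 q10124, e3 q6283 L160122 q10125, e3 q6284 (flp_b L160086) q10121, e3 q6285 L160154 q10129, e3 q6286 (flp_b L110817) q3726, e3 q6287 L160184 q10133, e3 q6288 (flp_b L160174) q10131, e3 q6289 L110833 q6225, e3 q6290 (flp_b L115816) q6999, e3 q6291 (flp_b L156384) q9566, e3 q6292 L160218 q10138, e3 q6293 L160228 q10140, e3 q6294 (flp_b L110857) q3730, e3 q6295 L160260 q10145, e3 q6296 L160264 q10146, e3 q6297 L160268 q10147, e3 q6298 (flp_b L110881) q3732, e3 q6299 (flp_b L110889) q4173, e3 q6300 (flp_b L160282) q10149, e3 q6301 L110899 q6216, e3 q6302 (flp_b L155094) q9393, e3 q6303 L115204 q6896, e3 q6304 (flp_b L110917) q3735, e3 q6305 (flp_b L156126) q9534, e3 q6306 L110939 q5875,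 e3 q6307 L110945 q3738, e3 q6308 L160342 q10157, e3 q6309 (flp_b L159691) q10059, e3 q6310 L160352 q10158, e3 q6311 (flp_b L160316) q10154, e3 q6312 L160384 q10162, e3 q6313 (flp_b L110985) q3739, e3 q6314 L160414 q10166, e3 q6315 (flp_b L160404) q10164, e3 q6316 L111001 q6244, e3 q6317 L150460 q7015, e3 q6318 (flp_b L156631) q9604, e3 q6319 L160448 q10171, e3 q6320 L160458 q10173, e3 q6321 (flp_b L111025) q3743, e3 q6322 L160490 q10178, e3 q6323 L160494 q10179, e3 q6324 L160498 q10180, e3 q6325 (flp_b L111049) q3745, e3 q6326 (flp_b L111057) q4167, e3 q6327 (flp_b L160512) q10182, e3 q6328 L111067 q6234, e3 q6329 (flp_b L111069) q3747, e3 q6330 (flp_b L160548) q10187, e3 q6331 L160584 q10193, e3 q6332 L160590 q10194, e3 q6333 (flp_b L111327) q6373, e3 q6334 L111099 q3751, e3 q6335 (flp_b L111339) q6375, trivial⟩ (by decide +kernel)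

theorem ce_b_99 : ∀ r, r < 64 → sm gb (Qf (6336 + r)) = Qf (tab Gen.b (6336 + r)) :=
  edges_tab (sm gb) Qf (tab Gen.b) 6336 [(6336, 7399), (6337, 10203), (6338, 3750), (6339, 10206), (6340, 10207), (6341, 4389), (6342, 3753), (6343, 10213), (6344, 7390), (6345, 4324), (6346, 3755), (6347, 9093), (6348, 10221), (6349, 3757), (6350, 10222), (6351, 10228), (6352, 10229), (6353, 6383), (6354, 3761), (6355, 7429), (6356, 6386), (6357, 3759), (6358, 10240), (6359, 10241), (6360, 10242), (6361, 4406), (6362, 3763), (6363, 10248), (6364, 7421), (6365, 4375), (6366, 3765), (6367, 9147), (6368, 10256), (6369, 3767), (6370, 10257), (6371, 10263), (6372, 10264), (6373, 6333), (6374, 3771), (6375, 6335), (6376, 4308), (6377, 10273), (6378, 10274), (6379, 3772), (6380, 10275), (6381, 10281), (6382, 10282), (6383, 6353), (6384, 3776), (6385, 4359), (6386, 6356), (6387, 10291), (6388, 10292), (6389, 9408), (6390, 4711), (6391, 9409), (6392, 4611), (6393, 6042), (6394, 9842), (6395, 3780), (6396, 6080), (6397, 9789), (6398, 3782),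 (6399, 3783)]
    ⟨e3 q6336 (flp_b L118350) q7399, e3 q6337 L160634 q10203, e3 q6338 (flp_b L111118) q3750, e3 q6339 L160650 q10206, e3 q6340 L160654 q10207, e3 q6341 L111141 q4389, e3 q6342 (flp_b L111143) q3753, e3 q6343 L160692 q10213, e3 q6344 (flp_b L118298) q7390, e3 q6345 L111159 q4324, e3 q6346 (flp_b L111161) q3755, e3 q6347 (flp_b L152772) q9093, e3 q6348 L160734 q10221, e3 q6349 (flp_b L111185) q3757, e3 q6350 (flp_b L160744) q10222, e3 q6351 L160780 q10228, e3 q6352 L160784 q10229, e3 q6353 (flp_b L111391) q6383, e3 q6354 L111215 q3761, e3 q6355 (flp_b L118533) q7429, e3 q6356 (flp_b L111409) q6386, e3 q6357 (flp_b L111227) q3759, e3 q6358 L160842 q10240, e3 q6359 L160846 q10241, e3 q6360 L160850 q10242, e3 q6361 L111257 q4406, e3 q6362 (flp_b L111259) q3763, e3 q6363 L160888 q10248, e3 q6364 (flp_b L118487) q7421, e3 q6365 L111275 q4375, e3 q6366 (flp_b L111277) q3765, e3 q6367 (flp_b L153187) q9147, e3 q6368 L160930 q10256, e3 q6369 (flp_b L111301) q3767, e3 q6370 (flp_b L160940) q10257, e3 q6371 L160976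 q10263, e3 q6372 L160986 q10264, e3 q6373 L111327 q6333, e3 q6374 L111331 q3771, e3 q6375 L111339 q6335, e3 q6376 L111345 q4308, e3 q6377 L161038 q10273, e3 q6378 L161044 q10274, e3 q6379 (flp_b L111365) q3772, e3 q6380 (flp_b L161054) q10275, e3 q6381 L161090 q10281, e3 q6382 L161094 q10282, e3 q6383 L111391 q6353, e3 q6384 L111395 q3776, e3 q6385 L111403 q4359, e3 q6386 L111409 q6356, e3 q6387 L161152 q10291, e3 q6388 L161158 q10292, e3 q6389 (flp_b L155212) q9408, e3 q6390 L111439 q4711, e3 q6391 (flp_b L155222) q9409, e3 q6392 L111451 q4611, e3 q6393 L119823 q6042, e3 q6394 (flp_b L158215) q9842, e3 q6395 (flp_b L111461) q3780, e3 q6396 (flp_b L150924) q6080, e3 q6397 (flp_b L157917) q9789, e3 q6398 (flp_b L111471) q3782, e3 q6399 (flp_b L111473) q3783, trivial⟩ (by decide +kernel)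

theorem ce_b_100 : ∀ r, r < 64 → sm gb (Qf (6400 + r)) = Qf (tab Gen.b (6400 + r)) :=
  edges_tab (sm gb) Qf (tab Gen.b) 6400 [(6400, 10297), (6401, 3785), (6402, 10299), (6403, 4630), (6404, 4731), (6405, 5140), (6406, 3794), (6407, 10301), (6408, 7446), (6409, 10306), (6410, 4524), (6411, 4654), (6412, 7615), (6413, 3798), (6414, 3837), (6415, 6497), (6416, 10311), (6417, 4928), (6418, 8210), (6419, 10315), (6420, 3801), (6421, 10317), (6422, 3804), (6423, 6477), (6424, 3803), (6425, 10323), (6426, 8154), (6427, 10326), (6428, 10327), (6429, 3807), (6430, 6002), (6431, 10333), (6432, 6653), (6433, 9688), (6434, 7726), (6435, 10337), (6436, 5159), (6437, 3813), (6438, 10338), (6439, 10342), (6440, 7449), (6441, 4752), (6442, 4488), (6443, 7782), (6444, 3817), (6445, 6530), (6446, 3864), (6447, 10348), (6448, 4929), (6449, 8208), (6450, 10352), (6451, 3820), (6452, 10354), (6453, 3823), (6454, 6511), (6455, 3822), (6456, 10360), (6457, 8133), (6458, 10363), (6459, 10328), (6460, 3826), (6461, 6008), (6462, 10368),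 (6463, 6697)]
    ⟨e3 q6400 (flp_b L161194) q10297, e3 q6401 (flp_b L111499) q3785, e3 q6402 (flp_b L161206) q10299, e3 q6403 L111521 q4630, e3 q6404 L111533 q4731, e3 q6405 L119847 q5140, e3 q6406 (flp_b L111571) q3794, e3 q6407 (flp_b L161244) q10301, e3 q6408 (flp_b L118764) q7446, e3 q6409 L161284 q10306, e3 q6410 L111593 q4524, e3 q6411 L111603 q4654, e3 q6412 (flp_b L121653) q7615, e3 q6413 L111611 q3798, e3 q6414 L111619 q3837, e3 q6415 (flp_b L112050) q6497, e3 q6416 (flp_b L161318) q10311, e3 q6417 (flp_b L119735) q4928, e3 q6418 (flp_b L128657) q8210, e3 q6419 L161344 q10315, e3 q6420 (flp_b L111649) q3801, e3 q6421 L161358 q10317, e3 q6422 L111657 q3804, e3 q6423 (flp_b L111932) q6477, e3 q6424 (flp_b L111661) q3803, e3 q6425 L161402 q10323, e3 q6426 (flp_b L163254) q8154, e3 q6427 L161422 q10326, e3 q6428 L161430 q10327, e3 q6429 (flp_b L111687) q3807, e3 q6430 (flp_b L163184) q6002, e3 q6431 L161462 q10333, e3 q6432 (flp_b L163198) q6653, e3 q6433 (flp_b L157245) q9688, e3 q6434 (flp_b L150936) q7726,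 e3 q6435 L161488 q10337, e3 q6436 L150225 q5159, e3 q6437 (flp_b L111725) q3813, e3 q6438 (flp_b L161495) q10338, e3 q6439 L161529 q10342, e3 q6440 (flp_b L118776) q7449, e3 q6441 (flp_b L111745) q4752, e3 q6442 L111755 q4488, e3 q6443 (flp_b L151297) q7782, e3 q6444 L111761 q3817, e3 q6445 (flp_b L112280) q6530, e3 q6446 L111767 q3864, e3 q6447 (flp_b L161569) q10348, e3 q6448 L147689 q4929, e3 q6449 L147687 q8208, e3 q6450 L161595 q10352, e3 q6451 (flp_b L111795) q3820, e3 q6452 L161609 q10354, e3 q6453 L111803 q3823, e3 q6454 (flp_b L112168) q6511, e3 q6455 (flp_b L111807) q3822, e3 q6456 L161653 q10360, e3 q6457 (flp_b L163463) q8133, e3 q6458 L161673 q10363, e3 q6459 (flp_b L163286) q10328, e3 q6460 (flp_b L111833) q3826, e3 q6461 L163301 q6008, e3 q6462 L161713 q10368, e3 q6463 (flp_b L163395) q6697, trivial⟩ (by decide +kernel)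

theorem ce_b_101 : ∀ r, r < 64 → sm gb (Qf (6464 + r)) = Qf (tab Gen.b (6464 + r)) :=
  edges_tab (sm gb) Qf (tab Gen.b) 6464 [(6464, 9710), (6465, 7888), (6466, 10372), (6467, 3832), (6468, 9389), (6469, 3835), (6470, 3839), (6471, 10373), (6472, 3838), (6473, 10375), (6474, 3840), (6475, 10379), (6476, 3843), (6477, 6423), (6478, 3842), (6479, 6108), (6480, 3860), (6481, 10381), (6482, 9446), (6483, 10384), (6484, 3846), (6485, 6521), (6486, 4125), (6487, 6520), (6488, 6518), (6489, 3848), (6490, 10389), (6491, 10390), (6492, 3850), (6493, 3851), (6494, 3852), (6495, 10398), (6496, 3855), (6497, 6415), (6498, 10404), (6499, 10401), (6500, 10406), (6501, 6534), (6502, 3857), (6503, 9388), (6504, 3865), (6505, 10407), (6506, 3863), (6507, 10409), (6508, 3866), (6509, 10413), (6510, 3869), (6511, 6454), (6512, 3868), (6513, 6069), (6514, 10415), (6515, 9437), (6516, 10418), (6517, 3872), (6518, 6488), (6519, 4126), (6520, 6487), (6521, 6485), (6522, 3874), (6523, 10423), (6524, 10424), (6525, 3876), (6526, 3877),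 (6527, 3878)]
    ⟨e3 q6464 (flp_b L157357) q9710, e3 q6465 (flp_b L123137) q7888, e3 q6466 L161739 q10372, e3 q6467 (flp_b L111863) q3832, e3 q6468 (flp_b L155052) q9389, e3 q6469 (flp_b L111877) q3835, e3 q6470 L111891 q3839, e3 q6471 L161742 q10373, e3 q6472 (flp_b L111908) q3838, e3 q6473 L161756 q10375, e3 q6474 (flp_b L111920) q3840, e3 q6475 L161774 q10379, e3 q6476 L111928 q3843, e3 q6477 L111932 q6423, e3 q6478 (flp_b L111934) q3842, e3 q6479 L155502 q6108, e3 q6480 L111956 q3860, e3 q6481 (flp_b L161790) q10381, e3 q6482 L155494 q9446, e3 q6483 L161816 q10384, e3 q6484 L111972 q3846, e3 q6485 (flp_b L149136) q6521, e3 q6486 L119731 q4125, e3 q6487 (flp_b L149075) q6520, e3 q6488 (flp_b L148301) q6518, e3 q6489 (flp_b L112004) q3848, e3 q6490 L161864 q10389, e3 q6491 L161870 q10390, e3 q6492 (flp_b L112032) q3850, e3 q6493 (flp_b L112036) q3851, e3 q6494 (flp_b L112038) q3852, e3 q6495 L161912 q10398, e3 q6496 L112046 q3855, e3 q6497 L112050 q6415, e3 q6498 L161942 q10404, e3 q6499 (flp_b L161930) q10401,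 e3 q6500 L161960 q10406, e3 q6501 (flp_b L112300) q6534, e3 q6502 (flp_b L112070) q3857, e3 q6503 (flp_b L155038) q9388, e3 q6504 L112090 q3865, e3 q6505 L161972 q10407, e3 q6506 (flp_b L112107) q3863, e3 q6507 L161986 q10409, e3 q6508 (flp_b L112119) q3866, e3 q6509 L162004 q10413, e3 q6510 L112164 q3869, e3 q6511 L112168 q6454, e3 q6512 (flp_b L112170) q3868, e3 q6513 (flp_b L112186) q6069, e3 q6514 (flp_b L162020) q10415, e3 q6515 (flp_b L155445) q9437, e3 q6516 L162046 q10418, e3 q6517 L112202 q3872, e3 q6518 L148301 q6488, e3 q6519 L147669 q4126, e3 q6520 L149075 q6487, e3 q6521 L149136 q6485, e3 q6522 (flp_b L112234) q3874, e3 q6523 L162098 q10423, e3 q6524 L162104 q10424, e3 q6525 (flp_b L112262) q3876, e3 q6526 (flp_b L112266) q3877, e3 q6527 (flp_b L112268) q3878, trivial⟩ (by decide +kernel)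

theorem ce_b_102 : ∀ r, r < 64 → sm gb (Qf (6528 + r)) = Qf (tab Gen.b (6528 + r)) :=
  edges_tab (sm gb) Qf (tab Gen.b) 6528 [(6528, 10432), (6529, 3881), (6530, 6445), (6531, 10438), (6532, 10435), (6533, 10440), (6534, 6501), (6535, 10441), (6536, 6707), (6537, 8786), (6538, 8947), (6539, 10446), (6540, 3885), (6541, 3886), (6542, 6621), (6543, 8911), (6544, 7946), (6545, 10453), (6546, 10455), (6547, 3890), (6548, 10458), (6549, 3891), (6550, 10460), (6551, 9908), (6552, 3893), (6553, 3894), (6554, 10464), (6555, 3896), (6556, 8558), (6557, 10467), (6558, 3898), (6559, 3901), (6560, 8373), (6561, 3903), (6562, 5166), (6563, 3907), (6564, 4790), (6565, 10478), (6566, 10473), (6567, 4651), (6568, 3906), (6569, 10484), (6570, 10485), (6571, 5534), (6572, 9153), (6573, 3911), (6574, 10491), (6575, 6783), (6576, 8824), (6577, 10496), (6578, 9015), (6579, 3914), (6580, 3915), (6581, 6669), (6582, 8904), (6583, 10502), (6584, 8004), (6585, 3918), (6586, 10507), (6587, 10508), (6588, 10509), (6589, 9925), (6590, 3921),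 (6591, 3922)]
    ⟨e3 q6528 L162144 q10432, e3 q6529 L112276 q3881, e3 q6530 L112280 q6445, e3 q6531 L162170 q10438, e3 q6532 (flp_b L162158) q10435, e3 q6533 L162188 q10440, e3 q6534 L112300 q6501, e3 q6535 L162200 q10441, e3 q6536 (flp_b L113735) q6707, e3 q6537 L145284 q8786, e3 q6538 (flp_b L151842) q8947, e3 q6539 L162236 q10446, e3 q6540 (flp_b L112340) q3885, e3 q6541 (flp_b L112342) q3886, e3 q6542 (flp_b L112964) q6621, e3 q6543 (flp_b L146170) q8911, e3 q6544 (flp_b L123458) q7946, e3 q6545 L162291 q10453, e3 q6546 L162305 q10455, e3 q6547 (flp_b L112370) q3890, e3 q6548 L162329 q10458, e3 q6549 (flp_b L112384) q3891, e3 q6550 L162342 q10460, e3 q6551 (flp_b L158619) q9908, e3 q6552 (flp_b L112392) q3893, e3 q6553 (flp_b L112394) q3894, e3 q6554 L162354 q10464, e3 q6555 (flp_b L112410) q3896, e3 q6556 (flp_b L146088) q8558, e3 q6557 L162362 q10467, e3 q6558 (flp_b L112424) q3898, e3 q6559 (flp_b L112454) q3901, e3 q6560 (flp_b L130042) q8373, e3 q6561 (flp_b L112474) q3903, e3 q6562 L143451 q5166, e3 q6563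 L112482 q3907, e3 q6564 L112486 q4790, e3 q6565 L162432 q10478, e3 q6566 (flp_b L162400) q10473, e3 q6567 L112500 q4651, e3 q6568 (flp_b L112502) q3906, e3 q6569 L162468 q10484, e3 q6570 L162474 q10485, e3 q6571 (flp_b L120569) q5534, e3 q6572 (flp_b L153229) q9153, e3 q6573 (flp_b L112542) q3911, e3 q6574 L162518 q10491, e3 q6575 (flp_b L114302) q6783, e3 q6576 (flp_b L150894) q8824, e3 q6577 L162554 q10496, e3 q6578 (flp_b L152292) q9015, e3 q6579 (flp_b L112584) q3914, e3 q6580 (flp_b L112586) q3915, e3 q6581 (flp_b L113392) q6669, e3 q6582 (flp_b L149572) q8904, e3 q6583 L162603 q10502, e3 q6584 (flp_b L123892) q8004, e3 q6585 (flp_b L112608) q3918, e3 q6586 L162643 q10507, e3 q6587 L162647 q10508, e3 q6588 L162651 q10509, e3 q6589 (flp_b L158746) q9925, e3 q6590 (flp_b L112634) q3921, e3 q6591 (flp_b L112636) q3922, trivial⟩ (by decide +kernel)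

theorem ce_b_103 : ∀ r, r < 64 → sm gb (Qf (6592 + r)) = Qf (tab Gen.b (6592 + r)) :=
  edges_tab (sm gb) Qf (tab Gen.b) 6592 [(6592, 3923), (6593, 10514), (6594, 3925), (6595, 8567), (6596, 10517), (6597, 3927), (6598, 3929), (6599, 8365), (6600, 3931), (6601, 5147), (6602, 3935), (6603, 4829), (6604, 10528), (6605, 10523), (6606, 4749), (6607, 3934), (6608, 9099), (6609, 5578), (6610, 3939), (6611, 3941), (6612, 6853), (6613, 9356), (6614, 3942), (6615, 8488), (6616, 4845), (6617, 4005), (6618, 3946), (6619, 5094), (6620, 5957), (6621, 6542), (6622, 8895), (6623, 8451), (6624, 6155), (6625, 3958), (6626, 9902), (6627, 10552), (6628, 10553), (6629, 3951), (6630, 4971), (6631, 5380), (6632, 10556), (6633, 3987), (6634, 3954), (6635, 10561), (6636, 3955), (6637, 10562), (6638, 4017), (6639, 6685), (6640, 3957), (6641, 10567), (6642, 3959), (6643, 5465), (6644, 4855), (6645, 3962), (6646, 8476), (6647, 3967), (6648, 4858), (6649, 10577), (6650, 3986), (6651, 3969), (6652, 4897), (6653, 6432), (6654, 10575), (6655,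 3968)]
    ⟨e3 q6592 (flp_b L112638) q3923, e3 q6593 L162672 q10514, e3 q6594 (flp_b L112654) q3925, e3 q6595 (flp_b L151550) q8567, e3 q6596 L162680 q10517, e3 q6597 (flp_b L112668) q3927, e3 q6598 (flp_b L112694) q3929, e3 q6599 L147381 q8365, e3 q6600 (flp_b L112718) q3931, e3 q6601 L150778 q5147, e3 q6602 L112726 q3935, e3 q6603 L112730 q4829, e3 q6604 L162754 q10528, e3 q6605 (flp_b L162722) q10523, e3 q6606 L112744 q4749, e3 q6607 (flp_b L112746) q3934, e3 q6608 (flp_b L152814) q9099, e3 q6609 (flp_b L151234) q5578, e3 q6610 (flp_b L112788) q3939, e3 q6611 L112798 q3941, e3 q6612 (flp_b L142690) q6853, e3 q6613 L154816 q9356, e3 q6614 (flp_b L112894) q3942, e3 q6615 L143457 q8488, e3 q6616 L112920 q4845, e3 q6617 (flp_b L112942) q4005, e3 q6618 L112950 q3946, e3 q6619 L120455 q5094, e3 q6620 L149510 q5957, e3 q6621 L112964 q6542, e3 q6622 (flp_b L146001) q8895, e3 q6623 (flp_b L142917) q8451, e3 q6624 L149504 q6155, e3 q6625 L113010 q3958, e3 q6626 (flp_b L158579) q9902, e3 q6627 L162969 q10552, e3 q6628 L162975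 q10553, e3 q6629 (flp_b L113028) q3951, e3 q6630 L119755 q4971, e3 q6631 L119759 q5380, e3 q6632 L163003 q10556, e3 q6633 L149049 q3987, e3 q6634 (flp_b L113062) q3954, e3 q6635 L163049 q10561, e3 q6636 (flp_b L113078) q3955, e3 q6637 L163057 q10562, e3 q6638 L113088 q4017, e3 q6639 L148611 q6685, e3 q6640 (flp_b L113092) q3957, e3 q6641 L163095 q10567, e3 q6642 (flp_b L113106) q3959, e3 q6643 (flp_b L143445) q5465, e3 q6644 L113122 q4855, e3 q6645 (flp_b L113128) q3962, e3 q6646 L143453 q8476, e3 q6647 L113140 q3967, e3 q6648 L113146 q4858, e3 q6649 L164047 q10577, e3 q6650 L148463 q3986, e3 q6651 L113162 q3969, e3 q6652 L113168 q4897, e3 q6653 L163198 q6432, e3 q6654 (flp_b L164037) q10575, e3 q6655 (flp_b L113192) q3968, trivial⟩ (by decide +kernel)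

theorem ce_b_104 : ∀ r, r < 64 → sm gb (Qf (6656 + r)) = Qf (tab Gen.b (6656 + r)) :=
  edges_tab (sm gb) Qf (tab Gen.b) 6656 [(6656, 10586), (6657, 10590), (6658, 10581), (6659, 3971), (6660, 6874), (6661, 9357), (6662, 3972), (6663, 8480), (6664, 4875), (6665, 4051), (6666, 3976), (6667, 5952), (6668, 5098), (6669, 6581), (6670, 8889), (6671, 8462), (6672, 6142), (6673, 3988), (6674, 10606), (6675, 9920), (6676, 3980), (6677, 10555), (6678, 4972), (6679, 10609), (6680, 5384), (6681, 3983), (6682, 10574), (6683, 10614), (6684, 4062), (6685, 6639), (6686, 10618), (6687, 3989), (6688, 5507), (6689, 4883), (6690, 3992), (6691, 8473), (6692, 3997), (6693, 4851), (6694, 10627), (6695, 3999), (6696, 4917), (6697, 6463), (6698, 10625), (6699, 3998), (6700, 10630), (6701, 4004), (6702, 6702), (6703, 10639), (6704, 4001), (6705, 4003), (6706, 9240), (6707, 6536), (6708, 10648), (6709, 10649), (6710, 10650), (6711, 4008), (6712, 9335), (6713, 4009), (6714, 10653), (6715, 6724), (6716, 8320), (6717, 4012), (6718, 4013),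 (6719, 10656)]
    ⟨e3 q6656 (flp_b L164121) q10586, e3 q6657 L164145 q10590, e3 q6658 (flp_b L164083) q10581, e3 q6659 L113226 q3971, e3 q6660 L142724 q6874, e3 q6661 L154824 q9357, e3 q6662 (flp_b L113316) q3972, e3 q6663 L150784 q8480, e3 q6664 L113348 q4875, e3 q6665 (flp_b L113370) q4051, e3 q6666 L113378 q3976, e3 q6667 L149580 q5952, e3 q6668 L148490 q5098, e3 q6669 L113392 q6581, e3 q6670 L148465 q8889, e3 q6671 (flp_b L149592) q8462, e3 q6672 L149760 q6142, e3 q6673 L113438 q3988, e3 q6674 L164292 q10606, e3 q6675 (flp_b L158714) q9920, e3 q6676 (flp_b L113450) q3980, e3 q6677 (flp_b L163001) q10555, e3 q6678 L146188 q4972, e3 q6679 L164318 q10609, e3 q6680 L146205 q5384, e3 q6681 (flp_b L113482) q3983, e3 q6682 (flp_b L164033) q10574, e3 q6683 L164368 q10614, e3 q6684 L113514 q4062, e3 q6685 (flp_b L148611) q6639, e3 q6686 L164400 q10618, e3 q6687 (flp_b L113534) q3989, e3 q6688 (flp_b L151276) q5507, e3 q6689 L113550 q4883, e3 q6690 (flp_b L113556) q3992, e3 q6691 L150782 q8473, e3 q6692 L113568 q3997,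 e3 q6693 L147437 q4851, e3 q6694 L164462 q10627, e3 q6695 L113590 q3999, e3 q6696 L113596 q4917, e3 q6697 L163395 q6463, e3 q6698 (flp_b L164452) q10625, e3 q6699 (flp_b L113620) q3998, e3 q6700 (flp_b L164486) q10630, e3 q6701 L113632 q4004, e3 q6702 L113636 q6702, e3 q6703 L164545 q10639, e3 q6704 (flp_b L113673) q4001, e3 q6705 (flp_b L113711) q4003, e3 q6706 (flp_b L153962) q9240, e3 q6707 L113735 q6536, e3 q6708 L164617 q10648, e3 q6709 L164629 q10649, e3 q6710 L164639 q10650, e3 q6711 (flp_b L113769) q4008, e3 q6712 L154654 q9335, e3 q6713 (flp_b L113799) q4009, e3 q6714 L164661 q10653, e3 q6715 (flp_b L113887) q6724, e3 q6716 (flp_b L129512) q8320, e3 q6717 (flp_b L113843) q4012, e3 q6718 (flp_b L113857) q4013, e3 q6719 L164683 q10656, trivial⟩ (by decide +kernel)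

theorem ce_b_105 : ∀ r, r < 64 → sm gb (Qf (6720 + r)) = Qf (tab Gen.b (6720 + r)) :=
  edges_tab (sm gb) Qf (tab Gen.b) 6720 [(6720, 10559), (6721, 7728), (6722, 10657), (6723, 4060), (6724, 6715), (6725, 4016), (6726, 10662), (6727, 10564), (6728, 10585), (6729, 4018), (6730, 10666), (6731, 10566), (6732, 4020), (6733, 10672), (6734, 10670), (6735, 10671), (6736, 4022), (6737, 10417), (6738, 10677), (6739, 4037), (6740, 8062), (6741, 4024), (6742, 10664), (6743, 4102), (6744, 9323), (6745, 6041), (6746, 10684), (6747, 10661), (6748, 4027), (6749, 10686), (6750, 10688), (6751, 4028), (6752, 4042), (6753, 4030), (6754, 10693), (6755, 8071), (6756, 9269), (6757, 4033), (6758, 10334), (6759, 10695), (6760, 5729), (6761, 4036), (6762, 10697), (6763, 10678), (6764, 4038), (6765, 10702), (6766, 10706), (6767, 4040), (6768, 8172), (6769, 10588), (6770, 10710), (6771, 4041), (6772, 10715), (6773, 10718), (6774, 4043), (6775, 8485), (6776, 8169), (6777, 4050), (6778, 6778), (6779, 10726), (6780, 4047), (6781, 4049), (6782,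 9204), (6783, 6575)]
    ⟨e3 q6720 (flp_b L163039) q10559, e3 q6721 (flp_b L163580) q7728, e3 q6722 L164689 q10657, e3 q6723 L149754 q4060, e3 q6724 L113887 q6715, e3 q6725 (flp_b L113889) q4016, e3 q6726 L164721 q10662, e3 q6727 (flp_b L163079) q10564, e3 q6728 (flp_b L164113) q10585, e3 q6729 (flp_b L113905) q4018, e3 q6730 L164755 q10666, e3 q6731 (flp_b L163093) q10566, e3 q6732 (flp_b L113937) q4020, e3 q6733 L164787 q10672, e3 q6734 (flp_b L164777) q10670, e3 q6735 (flp_b L164785) q10671, e3 q6736 (flp_b L113953) q4022, e3 q6737 (flp_b L162044) q10417, e3 q6738 L164837 q10677, e3 q6739 L113973 q4037, e3 q6740 (flp_b L142780) q8062, e3 q6741 (flp_b L113981) q4024, e3 q6742 (flp_b L164745) q10664, e3 q6743 L114009 q4102, e3 q6744 (flp_b L154552) q9323, e3 q6745 (flp_b L157477) q6041, e3 q6746 L164901 q10684, e3 q6747 (flp_b L164719) q10661, e3 q6748 (flp_b L114019) q4027, e3 q6749 (flp_b L164921) q10686, e3 q6750 L164933 q10688, e3 q6751 (flp_b L114033) q4028, e3 q6752 L114039 q4042, e3 q6753 (flp_b L114045)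 q4030, e3 q6754 L164959 q10693, e3 q6755 (flp_b L133819) q8071, e3 q6756 (flp_b L154166) q9269, e3 q6757 (flp_b L114073) q4033, e3 q6758 (flp_b L163274) q10334, e3 q6759 L164979 q10695, e3 q6760 (flp_b L151056) q5729, e3 q6761 (flp_b L114105) q4036, e3 q6762 (flp_b L164997) q10697, e3 q6763 (flp_b L164845) q10678, e3 q6764 (flp_b L114137) q4038, e3 q6765 (flp_b L165019) q10702, e3 q6766 L165041 q10706, e3 q6767 L114149 q4040, e3 q6768 (flp_b L125936) q8172, e3 q6769 (flp_b L164133) q10588, e3 q6770 (flp_b L165057) q10710, e3 q6771 (flp_b L114161) q4041, e3 q6772 (flp_b L165086) q10715, e3 q6773 L165108 q10718, e3 q6774 (flp_b L114175) q4043, e3 q6775 L149531 q8485, e3 q6776 (flp_b L125918) q8169, e3 q6777 L114199 q4050, e3 q6778 L114203 q6778, e3 q6779 L165155 q10726, e3 q6780 (flp_b L114236) q4047, e3 q6781 (flp_b L114282) q4049, e3 q6782 (flp_b L153690) q9204, e3 q6783 L114302 q6575, trivial⟩ (by decide +kernel)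

theorem ce_b_106 : ∀ r, r < 64 → sm gb (Qf (6784 + r)) = Qf (tab Gen.b (6784 + r)) :=
  edges_tab (sm gb) Qf (tab Gen.b) 6784 [(6784, 10733), (6785, 10734), (6786, 4053), (6787, 9288), (6788, 10737), (6789, 4055), (6790, 10738), (6791, 6805), (6792, 8323), (6793, 4058), (6794, 10740), (6795, 10612), (6796, 7890), (6797, 4061), (6798, 10744), (6799, 10616), (6800, 10634), (6801, 4063), (6802, 10748), (6803, 10579), (6804, 10751), (6805, 6791), (6806, 4066), (6807, 10756), (6808, 10754), (6809, 10755), (6810, 4068), (6811, 10383), (6812, 10761), (6813, 4083), (6814, 8107), (6815, 4070), (6816, 10746), (6817, 4118), (6818, 9271), (6819, 6025), (6820, 10743), (6821, 10768), (6822, 4073), (6823, 10770), (6824, 10772), (6825, 4074), (6826, 4088), (6827, 4076), (6828, 10777), (6829, 8116), (6830, 9274), (6831, 4079), (6832, 10369), (6833, 10779), (6834, 5694), (6835, 4082), (6836, 10781), (6837, 10762), (6838, 4084), (6839, 10654), (6840, 10788), (6841, 4086), (6842, 10635), (6843, 8202), (6844, 10792), (6845, 4087),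 (6846, 10796), (6847, 10799)]
    ⟨e3 q6784 L165228 q10733, e3 q6785 L165240 q10734, e3 q6786 (flp_b L114328) q4053, e3 q6787 (flp_b L154470) q9288, e3 q6788 L165268 q10737, e3 q6789 (flp_b L114362) q4055, e3 q6790 L165280 q10738, e3 q6791 (flp_b L114476) q6805, e3 q6792 L129600 q8323, e3 q6793 (flp_b L114398) q4058, e3 q6794 L165292 q10740, e3 q6795 (flp_b L164354) q10612, e3 q6796 L163760 q7890, e3 q6797 (flp_b L114442) q4061, e3 q6798 L165316 q10744, e3 q6799 (flp_b L164390) q10616, e3 q6800 (flp_b L164518) q10634, e3 q6801 (flp_b L114458) q4063, e3 q6802 L165350 q10748, e3 q6803 (flp_b L164077) q10579, e3 q6804 L165358 q10751, e3 q6805 L114476 q6791, e3 q6806 (flp_b L114498) q4066, e3 q6807 L165396 q10756, e3 q6808 (flp_b L165386) q10754, e3 q6809 (flp_b L165394) q10755, e3 q6810 (flp_b L114514) q4068, e3 q6811 (flp_b L161814) q10383, e3 q6812 L165450 q10761, e3 q6813 L114534 q4083, e3 q6814 L142714 q8107, e3 q6815 (flp_b L114542) q4070, e3 q6816 (flp_b L165340) q10746, e3 q6817 L114570 q4118, e3 q6818 (flp_b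 L154498) q9271, e3 q6819 (flp_b L157395) q6025, e3 q6820 (flp_b L165314) q10743, e3 q6821 L165516 q10768, e3 q6822 (flp_b L114580) q4073, e3 q6823 (flp_b L165542) q10770, e3 q6824 L165554 q10772, e3 q6825 (flp_b L114594) q4074, e3 q6826 L114600 q4088, e3 q6827 (flp_b L114606) q4076, e3 q6828 L165580 q10777, e3 q6829 L137017 q8116, e3 q6830 L154198 q9274, e3 q6831 (flp_b L114634) q4079, e3 q6832 (flp_b L163570) q10369, e3 q6833 L165600 q10779, e3 q6834 L151048 q5694, e3 q6835 (flp_b L114666) q4082, e3 q6836 (flp_b L165618) q10781, e3 q6837 (flp_b L165458) q10762, e3 q6838 (flp_b L114702) q4084, e3 q6839 L164671 q10654, e3 q6840 L165670 q10788, e3 q6841 L114716 q4086, e3 q6842 (flp_b L164522) q10635, e3 q6843 (flp_b L126734) q8202, e3 q6844 (flp_b L165692) q10792, e3 q6845 (flp_b L114728) q4087, e3 q6846 (flp_b L165716) q10796, e3 q6847 L165740 q10799, trivial⟩ (by decide +kernel)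

theorem ce_b_107 : ∀ r, r < 64 → sm gb (Qf (6848 + r)) = Qf (tab Gen.b (6848 + r)) :=
  edges_tab (sm gb) Qf (tab Gen.b) 6848 [(6848, 4089), (6849, 8493), (6850, 8198), (6851, 5802), (6852, 4093), (6853, 6612), (6854, 7632), (6855, 5800), (6856, 10809), (6857, 6857), (6858, 4098), (6859, 6859), (6860, 8205), (6861, 10814), (6862, 6882), (6863, 5752), (6864, 4101), (6865, 10817), (6866, 10818), (6867, 5671), (6868, 10819), (6869, 4105), (6870, 4106), (6871, 4107), (6872, 5803), (6873, 4109), (6874, 6660), (6875, 7797), (6876, 5801), (6877, 10830), (6878, 6878), (6879, 4114), (6880, 8206), (6881, 6881), (6882, 6862), (6883, 10835), (6884, 5753), (6885, 4117), (6886, 10838), (6887, 10839), (6888, 5710), (6889, 10840), (6890, 4120), (6891, 4122), (6892, 4123), (6893, 6275), (6894, 10385), (6895, 6932), (6896, 6303), (6897, 10419), (6898, 6924), (6899, 4130), (6900, 10387), (6901, 4131), (6902, 10421), (6903, 4141), (6904, 10859), (6905, 4133), (6906, 4145), (6907, 10864), (6908, 4135), (6909, 10867), (6910, 8606),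 (6911, 10871)]
    ⟨e3 q6848 (flp_b L114748) q4089, e3 q6849 (flp_b L149664) q8493, e3 q6850 (flp_b L126712) q8198, e3 q6851 L120328 q5802, e3 q6852 L114820 q4093, e3 q6853 L142690 q6612, e3 q6854 (flp_b L121743) q7632, e3 q6855 L120326 q5800, e3 q6856 L165812 q10809, e3 q6857 L114873 q6857, e3 q6858 L114876 q4098, e3 q6859 L114882 q6859, e3 q6860 L142688 q8205, e3 q6861 L165846 q10814, e3 q6862 (flp_b L146696) q6882, e3 q6863 (flp_b L142812) q5752, e3 q6864 (flp_b L114921) q4101, e3 q6865 L165869 q10817, e3 q6866 L165877 q10818, e3 q6867 L114955 q5671, e3 q6868 L165889 q10819, e3 q6869 (flp_b L114971) q4105, e3 q6870 (flp_b L114975) q4106, e3 q6871 (flp_b L114981) q4107, e3 q6872 L148584 q5803, e3 q6873 L114993 q4109, e3 q6874 (flp_b L142724) q6660, e3 q6875 (flp_b L122649) q7797, e3 q6876 L148582 q5801, e3 q6877 L165983 q10830, e3 q6878 L115046 q6878, e3 q6879 L115049 q4114, e3 q6880 (flp_b L148574) q8206, e3 q6881 L115059 q6881, e3 q6882 L146696 q6862, e3 q6883 L166029 q10835, e3 q6884 (flp_b L149550) q5753,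 e3 q6885 (flp_b L115094) q4117, e3 q6886 L166052 q10838, e3 q6887 L166060 q10839, e3 q6888 L115128 q5710, e3 q6889 L166074 q10840, e3 q6890 (flp_b L115140) q4120, e3 q6891 (flp_b L115148) q4122, e3 q6892 (flp_b L115152) q4123, e3 q6893 (flp_b L115190) q6275, e3 q6894 (flp_b L161834) q10385, e3 q6895 (flp_b L115439) q6932, e3 q6896 (flp_b L115204) q6303, e3 q6897 (flp_b L162064) q10419, e3 q6898 (flp_b L115389) q6924, e3 q6899 (flp_b L115234) q4130, e3 q6900 (flp_b L161856) q10387, e3 q6901 (flp_b L115248) q4131, e3 q6902 (flp_b L162088) q10421, e3 q6903 L115269 q4141, e3 q6904 L166220 q10859, e3 q6905 (flp_b L115277) q4133, e3 q6906 L115291 q4145, e3 q6907 L166268 q10864, e3 q6908 (flp_b L115297) q4135, e3 q6909 L166294 q10867, e3 q6910 (flp_b L144197) q8606, e3 q6911 L166320 q10871, trivial⟩ (by decide +kernel)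

theorem ce_b_108 : ∀ r, r < 64 → sm gb (Qf (6912 + r)) = Qf (tab Gen.b (6912 + r)) :=
  edges_tab (sm gb) Qf (tab Gen.b) 6912 [(6912, 4137), (6913, 10875), (6914, 8609), (6915, 10879), (6916, 4139), (6917, 4140), (6918, 4382), (6919, 10857), (6920, 7189), (6921, 4142), (6922, 7335), (6923, 10861), (6924, 6898), (6925, 4144), (6926, 4398), (6927, 10862), (6928, 7289), (6929, 4146), (6930, 7235), (6931, 10866), (6932, 6895), (6933, 4148), (6934, 10897), (6935, 6935), (6936, 6936), (6937, 10900), (6938, 10902), (6939, 4150), (6940, 10905), (6941, 4151), (6942, 10907), (6943, 4152), (6944, 4153), (6945, 6945), (6946, 4157), (6947, 6950), (6948, 6948), (6949, 4160), (6950, 6947), (6951, 4156), (6952, 9530), (6953, 10926), (6954, 10916), (6955, 10930), (6956, 10118), (6957, 4159), (6958, 9543), (6959, 10936), (6960, 10920), (6961, 10940), (6962, 10099), (6963, 6213), (6964, 7342), (6965, 4163), (6966, 8307), (6967, 10945), (6968, 4164), (6969, 5357), (6970, 6970), (6971, 10950), (6972, 4166), (6973, 10953), (6974, 7243),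 (6975, 6232)]
    ⟨e3 q6912 (flp_b L115317) q4137, e3 q6913 L166344 q10875, e3 q6914 (flp_b L144209) q8609, e3 q6915 L166370 q10879, e3 q6916 (flp_b L115335) q4139, e3 q6917 (flp_b L115339) q4140, e3 q6918 L115355 q4382, e3 q6919 (flp_b L166201) q10857, e3 q6920 L120882 q7189, e3 q6921 (flp_b L115367) q4142, e3 q6922 (flp_b L117927) q7335, e3 q6923 (flp_b L166244) q10861, e3 q6924 L115389 q6898, e3 q6925 (flp_b L115391) q4144, e3 q6926 L150738 q4398, e3 q6927 (flp_b L166249) q10862, e3 q6928 L151262 q7289, e3 q6929 (flp_b L115417) q4146, e3 q6930 (flp_b L117317) q7235, e3 q6931 (flp_b L166292) q10866, e3 q6932 L115439 q6895, e3 q6933 (flp_b L115441) q4148, e3 q6934 (flp_b L166489) q10897, e3 q6935 L144301 q6935, e3 q6936 L151290 q6936, e3 q6937 L166512 q10900, e3 q6938 L166527 q10902, e3 q6939 (flp_b L115470) q4150, e3 q6940 L166548 q10905, e3 q6941 (flp_b L115478) q4151, e3 q6942 L166555 q10907, e3 q6943 (flp_b L115488) q4152, e3 q6944 (flp_b L115493) q4153, e3 q6945 L115500 q6945, e3 q6946 L115503 q4157, e3 q6947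 (flp_b L151170) q6950, e3 q6948 L151158 q6948, e3 q6949 L115511 q4160, e3 q6950 L151170 q6947, e3 q6951 (flp_b L115515) q4156, e3 q6952 (flp_b L156092) q9530, e3 q6953 L166712 q10926, e3 q6954 (flp_b L166650) q10916, e3 q6955 L166730 q10930, e3 q6956 L160068 q10118, e3 q6957 (flp_b L115545) q4159, e3 q6958 (flp_b L156202) q9543, e3 q6959 L166774 q10936, e3 q6960 (flp_b L166670) q10920, e3 q6961 L166792 q10940, e3 q6962 L159938 q10099, e3 q6963 L115581 q6213, e3 q6964 L117979 q7342, e3 q6965 (flp_b L115587) q4163, e3 q6966 (flp_b L129402) q8307, e3 q6967 L166824 q10945, e3 q6968 (flp_b L115607) q4164, e3 q6969 L161252 q5357, e3 q6970 L115617 q6970, e3 q6971 L166856 q10950, e3 q6972 (flp_b L115624) q4166, e3 q6973 L166879 q10953, e3 q6974 L117371 q7243, e3 q6975 L115661 q6232, trivial⟩ (by decide +kernel)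

theorem ce_b_109 : ∀ r, r < 64 → sm gb (Qf (6976 + r)) = Qf (tab Gen.b (6976 + r)) :=
  edges_tab (sm gb) Qf (tab Gen.b) 6976 [(6976, 4169), (6977, 8313), (6978, 10957), (6979, 4170), (6980, 5367), (6981, 6981), (6982, 10962), (6983, 4172), (6984, 10965), (6985, 10909), (6986, 4175), (6987, 10912), (6988, 4177), (6989, 4186), (6990, 9987), (6991, 4179), (6992, 10970), (6993, 4190), (6994, 4194), (6995, 10004), (6996, 4182), (6997, 10975), (6998, 4198), (6999, 6290), (7000, 4234), (7001, 7114), (7002, 8669), (7003, 10968), (7004, 10983), (7005, 4187), (7006, 10987), (7007, 10985), (7008, 7097), (7009, 4189), (7010, 10993), (7011, 10011), (7012, 10972), (7013, 10999), (7014, 11001), (7015, 6317), (7016, 7154), (7017, 4256), (7018, 8681), (7019, 10973), (7020, 11007), (7021, 4195), (7022, 11011), (7023, 11009), (7024, 7137), (7025, 4197), (7026, 11017), (7027, 9994), (7028, 10977), (7029, 11023), (7030, 11025), (7031, 10055), (7032, 7333), (7033, 5318), (7034, 4203), (7035, 4287), (7036, 7222), (7037, 5273), (7038,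 5513), (7039, 4961)]
    ⟨e3 q6976 (flp_b L115663) q4169, e3 q6977 L151256 q8313, e3 q6978 L166907 q10957, e3 q6979 (flp_b L115681) q4170, e3 q6980 L161503 q5367, e3 q6981 L115691 q6981, e3 q6982 L166939 q10962, e3 q6983 (flp_b L115698) q4172, e3 q6984 L166962 q10965, e3 q6985 (flp_b L166567) q10909, e3 q6986 (flp_b L115725) q4175, e3 q6987 (flp_b L166606) q10912, e3 q6988 (flp_b L115745) q4177, e3 q6989 L115753 q4186, e3 q6990 (flp_b L159221) q9987, e3 q6991 (flp_b L115762) q4179, e3 q6992 L167002 q10970, e3 q6993 L115770 q4190, e3 q6994 L115791 q4194, e3 q6995 (flp_b L167024) q10004, e3 q6996 (flp_b L115798) q4182, e3 q6997 L167056 q10975, e3 q6998 L115806 q4198, e3 q6999 L115816 q6290, e3 q7000 L115830 q4234, e3 q7001 (flp_b L116583) q7114, e3 q7002 (flp_b L144575) q8669, e3 q7003 (flp_b L166986) q10968, e3 q7004 (flp_b L167112) q10983, e3 q7005 (flp_b L115850) q4187, e3 q7006 L167136 q10987, e3 q7007 (flp_b L167126) q10985, e3 q7008 (flp_b L116503) q7097, e3 q7009 (flp_b L115866) q4189, e3 q7010 L167166 q10993,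 e3 q7011 (flp_b L159403) q10011, e3 q7012 (flp_b L167014) q10972, e3 q7013 L167188 q10999, e3 q7014 L167200 q11001, e3 q7015 (flp_b L150460) q6317, e3 q7016 (flp_b L116789) q7154, e3 q7017 L115910 q4256, e3 q7018 (flp_b L149731) q8681, e3 q7019 (flp_b L167020) q10973, e3 q7020 (flp_b L167250) q11007, e3 q7021 (flp_b L115932) q4195, e3 q7022 L167274 q11011, e3 q7023 (flp_b L167264) q11009, e3 q7024 (flp_b L116703) q7137, e3 q7025 (flp_b L115948) q4197, e3 q7026 L167304 q11017, e3 q7027 (flp_b L159281) q9994, e3 q7028 (flp_b L167068) q10977, e3 q7029 L167326 q11023, e3 q7030 L167338 q11025, e3 q7031 (flp_b L159667) q10055, e3 q7032 L117915 q7333, e3 q7033 (flp_b L116082) q5318, e3 q7034 L116002 q4203, e3 q7035 L116008 q4287, e3 q7036 (flp_b L117245) q7222, e3 q7037 L116068 q5273, e3 q7038 (flp_b L116072) q5513, e3 q7039 L116043 q4961, trivial⟩ (by decide +kernel)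

theorem ce_b_110 : ∀ r, r < 64 → sm gb (Qf (7040 + r)) = Qf (tab Gen.b (7040 + r)) :=
  edges_tab (sm gb) Qf (tab Gen.b) 7040 [(7040, 11033), (7041, 11034), (7042, 4206), (7043, 4209), (7044, 7197), (7045, 4208), (7046, 11041), (7047, 11037), (7048, 11046), (7049, 11040), (7050, 4212), (7051, 11048), (7052, 11054), (7053, 8866), (7054, 7054), (7055, 11059), (7056, 4215), (7057, 11062), (7058, 4216), (7059, 7233), (7060, 10020), (7061, 5338), (7062, 4220), (7063, 7322), (7064, 4339), (7065, 5295), (7066, 5557), (7067, 4964), (7068, 11071), (7069, 11072), (7070, 4223), (7071, 4226), (7072, 7298), (7073, 4225), (7074, 11079), (7075, 11075), (7076, 11084), (7077, 11078), (7078, 4229), (7079, 11086), (7080, 11092), (7081, 8880), (7082, 7082), (7083, 11097), (7084, 4232), (7085, 11100), (7086, 4233), (7087, 11102), (7088, 4235), (7089, 11106), (7090, 4237), (7091, 9985), (7092, 11109), (7093, 11110), (7094, 4238), (7095, 11114), (7096, 11112), (7097, 7008), (7098, 4240), (7099, 11120), (7100, 11123), (7101, 11124), (7102,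 4242), (7103, 11127)]
    ⟨e3 q7040 L167415 q11033, e3 q7041 L167421 q11034, e3 q7042 (flp_b L116098) q4206, e3 q7043 L116113 q4209, e3 q7044 (flp_b L117091) q7197, e3 q7045 (flp_b L116119) q4208, e3 q7046 L167460 q11041, e3 q7047 (flp_b L167437) q11037, e3 q7048 L167484 q11046, e3 q7049 (flp_b L167458) q11040, e3 q7050 (flp_b L116159) q4212, e3 q7051 (flp_b L167494) q11048, e3 q7052 L167528 q11054, e3 q7053 L214040 q8866, e3 q7054 L116181 q7054, e3 q7055 L167555 q11059, e3 q7056 (flp_b L116188) q4215, e3 q7057 L167574 q11062, e3 q7058 (flp_b L116205) q4216, e3 q7059 L117305 q7233, e3 q7060 (flp_b L159457) q10020, e3 q7061 L150815 q5338, e3 q7062 L116275 q4220, e3 q7063 (flp_b L117855) q7322, e3 q7064 L116285 q4339, e3 q7065 L149001 q5295, e3 q7066 L148961 q5557, e3 q7067 L148981 q4964, e3 q7068 L167655 q11071, e3 q7069 L167661 q11072, e3 q7070 (flp_b L116330) q4223, e3 q7071 L116345 q4226, e3 q7072 (flp_b L117721) q7298, e3 q7073 (flp_b L116351) q4225, e3 q7074 L167706 q11079, e3 q7075 (flp_b L167679) q11075, e3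 q7076 L167730 q11084, e3 q7077 (flp_b L167704) q11078, e3 q7078 (flp_b L116393) q4229, e3 q7079 (flp_b L167740) q11086, e3 q7080 L167774 q11092, e3 q7081 L214361 q8880, e3 q7082 L116415 q7082, e3 q7083 L167801 q11097, e3 q7084 (flp_b L116422) q4232, e3 q7085 L167826 q11100, e3 q7086 (flp_b L116439) q4233, e3 q7087 L167838 q11102, e3 q7088 (flp_b L116455) q4235, e3 q7089 L167870 q11106, e3 q7090 L116473 q4237, e3 q7091 (flp_b L159197) q9985, e3 q7092 L167894 q11109, e3 q7093 L167898 q11110, e3 q7094 (flp_b L116491) q4238, e3 q7095 L167914 q11114, e3 q7096 (flp_b L167906) q11112, e3 q7097 L116503 q7008, e3 q7098 (flp_b L116505) q4240, e3 q7099 (flp_b L167953) q11120, e3 q7100 L167971 q11123, e3 q7101 L167973 q11124, e3 q7102 (flp_b L116522) q4242, e3 q7103 L167990 q11127, trivial⟩ (by decide +kernel)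

theorem ce_b_111 : ∀ r, r < 64 → sm gb (Qf (7104 + r)) = Qf (tab Gen.b (7104 + r)) :=
  edges_tab (sm gb) Qf (tab Gen.b) 7104 [(7104, 4246), (7105, 11130), (7106, 4244), (7107, 4245), (7108, 11138), (7109, 11128), (7110, 11143), (7111, 4247), (7112, 9968), (7113, 11132), (7114, 7001), (7115, 11152), (7116, 11137), (7117, 4250), (7118, 11155), (7119, 11160), (7120, 4251), (7121, 11162), (7122, 7122), (7123, 11166), (7124, 4253), (7125, 11169), (7126, 4254), (7127, 4255), (7128, 11116), (7129, 11176), (7130, 4258), (7131, 11178), (7132, 10002), (7133, 11180), (7134, 4259), (7135, 11184), (7136, 11182), (7137, 7024), (7138, 4261), (7139, 11189), (7140, 11192), (7141, 11193), (7142, 4263), (7143, 11196), (7144, 4267), (7145, 11199), (7146, 4265), (7147, 4266), (7148, 11207), (7149, 11197), (7150, 11212), (7151, 4268), (7152, 9962), (7153, 11201), (7154, 7016), (7155, 11205), (7156, 11222), (7157, 4271), (7158, 11224), (7159, 11229), (7160, 4272), (7161, 11231), (7162, 7162), (7163, 11235), (7164, 4274), (7165, 11238),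 (7166, 4275), (7167, 4276)]
    ⟨e3 q7104 L116543 q4246, e3 q7105 L168020 q11130, e3 q7106 (flp_b L116547) q4244, e3 q7107 (flp_b L116549) q4245, e3 q7108 L168106 q11138, e3 q7109 (flp_b L168013) q11128, e3 q7110 L168126 q11143, e3 q7111 (flp_b L116567) q4247, e3 q7112 L159051 q9968, e3 q7113 (flp_b L168028) q11132, e3 q7114 L116583 q7001, e3 q7115 L168176 q11152, e3 q7116 (flp_b L168104) q11137, e3 q7117 (flp_b L116599) q4250, e3 q7118 (flp_b L168202) q11155, e3 q7119 L168220 q11160, e3 q7120 (flp_b L116613) q4251, e3 q7121 L168224 q11162, e3 q7122 L116621 q7122, e3 q7123 L168239 q11166, e3 q7124 (flp_b L116626) q4253, e3 q7125 L168256 q11169, e3 q7126 (flp_b L116639) q4254, e3 q7127 (flp_b L116645) q4255, e3 q7128 (flp_b L167936) q11116, e3 q7129 L168302 q11176, e3 q7130 L116673 q4258, e3 q7131 L168318 q11178, e3 q7132 (flp_b L159333) q10002, e3 q7133 L168332 q11180, e3 q7134 (flp_b L116691) q4259, e3 q7135 L168348 q11184, e3 q7136 (flp_b L168340) q11182, e3 q7137 L116703 q7024, e3 q7138 (flp_b L116705) q4261,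 e3 q7139 (flp_b L168377) q11189, e3 q7140 L168395 q11192, e3 q7141 L168397 q11193, e3 q7142 (flp_b L116720) q4263, e3 q7143 L168409 q11196, e3 q7144 L116741 q4267, e3 q7145 L168434 q11199, e3 q7146 (flp_b L116745) q4265, e3 q7147 (flp_b L116747) q4266, e3 q7148 L168492 q11207, e3 q7149 (flp_b L168421) q11197, e3 q7150 L168516 q11212, e3 q7151 (flp_b L116771) q4268, e3 q7152 L159007 q9962, e3 q7153 (flp_b L168442) q11201, e3 q7154 L116789 q7016, e3 q7155 (flp_b L168480) q11205, e3 q7156 L168590 q11222, e3 q7157 (flp_b L116815) q4271, e3 q7158 (flp_b L168606) q11224, e3 q7159 L168630 q11229, e3 q7160 (flp_b L116833) q4272, e3 q7161 L168638 q11231, e3 q7162 L116843 q7162, e3 q7163 L168655 q11235, e3 q7164 (flp_b L116850) q4274, e3 q7165 L168680 q11238, e3 q7166 (flp_b L116867) q4275, e3 q7167 (flp_b L116875) q4276, trivial⟩ (by decide +kernel)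

theorem ce_b_112 : ∀ r, r < 64 → sm gb (Qf (7168 + r)) = Qf (tab Gen.b (7168 + r)) :=
  edges_tab (sm gb) Qf (tab Gen.b) 7168 [(7168, 4277), (7169, 4279), (7170, 11244), (7171, 8790), (7172, 5360), (7173, 11248), (7174, 11250), (7175, 4281), (7176, 11254), (7177, 4282), (7178, 10889), (7179, 11252), (7180, 7281), (7181, 4284), (7182, 10858), (7183, 11260), (7184, 4290), (7185, 11028), (7186, 11263), (7187, 11265), (7188, 4288), (7189, 6920), (7190, 4289), (7191, 8884), (7192, 11270), (7193, 11271), (7194, 4291), (7195, 11275), (7196, 4294), (7197, 7044), (7198, 4293), (7199, 11282), (7200, 4334), (7201, 11278), (7202, 11288), (7203, 8597), (7204, 4297), (7205, 4298), (7206, 4955), (7207, 11298), (7208, 11293), (7209, 11301), (7210, 8930), (7211, 4299), (7212, 11302), (7213, 4300), (7214, 11305), (7215, 11306), (7216, 11307), (7217, 4302), (7218, 4303), (7219, 4304), (7220, 11280), (7221, 4312), (7222, 7036), (7223, 9933), (7224, 11323), (7225, 7268), (7226, 4317), (7227, 4307), (7228, 11328), (7229, 11333), (7230,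 10270), (7231, 11338)]
    ⟨e3 q7168 (flp_b L116883) q4277, e3 q7169 L116891 q4279, e3 q7170 L168724 q11244, e3 q7171 (flp_b L145320) q8790, e3 q7172 L120281 q5360, e3 q7173 L168760 q11248, e3 q7174 L168774 q11250, e3 q7175 (flp_b L116943) q4281, e3 q7176 L168794 q11254, e3 q7177 (flp_b L116957) q4282, e3 q7178 (flp_b L166438) q10889, e3 q7179 (flp_b L168788) q11252, e3 q7180 (flp_b L117617) q7281, e3 q7181 (flp_b L116985) q4284, e3 q7182 (flp_b L166218) q10858, e3 q7183 L168836 q11260, e3 q7184 L117007 q4290, e3 q7185 (flp_b L167375) q11028, e3 q7186 L168855 q11263, e3 q7187 L168873 q11265, e3 q7188 (flp_b L117025) q4288, e3 q7189 (flp_b L120882) q6920, e3 q7190 (flp_b L117039) q4289, e3 q7191 L145931 q8884, e3 q7192 L168905 q11270, e3 q7193 L168909 q11271, e3 q7194 (flp_b L117073) q4291, e3 q7195 L168927 q11275, e3 q7196 L117085 q4294, e3 q7197 L117091 q7044, e3 q7198 (flp_b L117093) q4293, e3 q7199 L168973 q11282, e3 q7200 (flp_b L117113) q4334, e3 q7201 (flp_b L168949) q11278, e3 q7202 L169001 q11288, e3 q7203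 (flp_b L144151) q8597, e3 q7204 L117129 q4297, e3 q7205 L117133 q4298, e3 q7206 L117147 q4955, e3 q7207 L169075 q11298, e3 q7208 (flp_b L169037) q11293, e3 q7209 L169107 q11301, e3 q7210 (flp_b L151698) q8930, e3 q7211 (flp_b L117179) q4299, e3 q7212 L169111 q11302, e3 q7213 (flp_b L117189) q4300, e3 q7214 L169129 q11305, e3 q7215 L169135 q11306, e3 q7216 L169139 q11307, e3 q7217 (flp_b L117217) q4302, e3 q7218 (flp_b L117221) q4303, e3 q7219 (flp_b L117225) q4304, e3 q7220 L168965 q11280, e3 q7221 L117239 q4312, e3 q7222 L117245 q7036, e3 q7223 (flp_b L158803) q9933, e3 q7224 L169235 q11323, e3 q7225 (flp_b L117509) q7268, e3 q7226 L117269 q4317, e3 q7227 (flp_b L117271) q4307, e3 q7228 (flp_b L169269) q11328, e3 q7229 L169299 q11333, e3 q7230 (flp_b L161022) q10270, e3 q7231 L169325 q11338, trivial⟩ (by decide +kernel)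

theorem ce_b_113 : ∀ r, r < 64 → sm gb (Qf (7232 + r)) = Qf (tab Gen.b (7232 + r)) :=
  edges_tab (sm gb) Qf (tab Gen.b) 7232 [(7232, 4309), (7233, 7059), (7234, 11340), (7235, 6930), (7236, 6230), (7237, 6231), (7238, 11319), (7239, 11350), (7240, 7340), (7241, 11352), (7242, 9969), (7243, 6974), (7244, 4315), (7245, 11357), (7246, 11363), (7247, 11364), (7248, 4316), (7249, 6184), (7250, 11366), (7251, 4319), (7252, 11374), (7253, 11330), (7254, 11377), (7255, 11371), (7256, 11381), (7257, 4320), (7258, 11382), (7259, 4322), (7260, 11386), (7261, 11387), (7262, 11394), (7263, 10212), (7264, 11397), (7265, 4325), (7266, 10021), (7267, 11399), (7268, 7225), (7269, 4327), (7270, 4328), (7271, 4330), (7272, 11405), (7273, 8828), (7274, 11408), (7275, 5370), (7276, 4331), (7277, 11414), (7278, 11415), (7279, 10896), (7280, 11412), (7281, 7180), (7282, 4335), (7283, 11420), (7284, 10863), (7285, 4341), (7286, 11422), (7287, 11067), (7288, 4338), (7289, 6928), (7290, 11427), (7291, 4340), (7292, 8886), (7293, 11430),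 (7294, 11431), (7295, 4342)]
    ⟨e3 q7232 (flp_b L117295) q4309, e3 q7233 (flp_b L117305) q7059, e3 q7234 (flp_b L169337) q11340, e3 q7235 L117317 q6930, e3 q7236 L150938 q6230, e3 q7237 L117333 q6231, e3 q7238 (flp_b L169211) q11319, e3 q7239 L169393 q11350, e3 q7240 (flp_b L117963) q7340, e3 q7241 L169409 q11352, e3 q7242 (flp_b L159063) q9969, e3 q7243 (flp_b L117371) q6974, e3 q7244 (flp_b L117373) q4315, e3 q7245 (flp_b L169451) q11357, e3 q7246 L169485 q11363, e3 q7247 L169489 q11364, e3 q7248 (flp_b L117393) q4316, e3 q7249 L117409 q6184, e3 q7250 L169501 q11366, e3 q7251 L117417 q4319, e3 q7252 L169541 q11374, e3 q7253 (flp_b L169281) q11330, e3 q7254 L169561 q11377, e3 q7255 (flp_b L169529) q11371, e3 q7256 L169591 q11381, e3 q7257 (flp_b L117447) q4320, e3 q7258 (flp_b L169599) q11382, e3 q7259 (flp_b L117455) q4322, e3 q7260 (flp_b L169615) q11386, e3 q7261 (flp_b L169619) q11387, e3 q7262 L169653 q11394, e3 q7263 (flp_b L160690) q10212, e3 q7264 L169673 q11397, e3 q7265 (flp_b L117487) q4325, e3 q7266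 (flp_b L159467) q10021, e3 q7267 (flp_b L169685) q11399, e3 q7268 L117509 q7225, e3 q7269 (flp_b L117511) q4327, e3 q7270 (flp_b L117517) q4328, e3 q7271 L117529 q4330, e3 q7272 L169735 q11405, e3 q7273 L150406 q8828, e3 q7274 L169761 q11408, e3 q7275 L150001 q5370, e3 q7276 (flp_b L117569) q4331, e3 q7277 L169799 q11414, e3 q7278 L169803 q11415, e3 q7279 (flp_b L166484) q10896, e3 q7280 (flp_b L169793) q11412, e3 q7281 L117617 q7180, e3 q7282 (flp_b L117619) q4335, e3 q7283 L169841 q11420, e3 q7284 (flp_b L166266) q10863, e3 q7285 L117641 q4341, e3 q7286 L169852 q11422, e3 q7287 (flp_b L167625) q11067, e3 q7288 (flp_b L117653) q4338, e3 q7289 (flp_b L151262) q6928, e3 q7290 L169890 q11427, e3 q7291 (flp_b L117673) q4340, e3 q7292 (flp_b L148544) q8886, e3 q7293 L169910 q11430, e3 q7294 L169914 q11431, e3 q7295 (flp_b L117703) q4342, trivial⟩ (by decide +kernel)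

theorem ce_b_114 : ∀ r, r < 64 → sm gb (Qf (7296 + r)) = Qf (tab Gen.b (7296 + r)) :=
  edges_tab (sm gb) Qf (tab Gen.b) 7296 [(7296, 11435), (7297, 4345), (7298, 7072), (7299, 4344), (7300, 11442), (7301, 11438), (7302, 11447), (7303, 8601), (7304, 4348), (7305, 4349), (7306, 11456), (7307, 4958), (7308, 11452), (7309, 11460), (7310, 8914), (7311, 4350), (7312, 11461), (7313, 4351), (7314, 11464), (7315, 11465), (7316, 11466), (7317, 4353), (7318, 4354), (7319, 4355), (7320, 11440), (7321, 4363), (7322, 7063), (7323, 9931), (7324, 11482), (7325, 4367), (7326, 7368), (7327, 4358), (7328, 11487), (7329, 11492), (7330, 10287), (7331, 11497), (7332, 4360), (7333, 7032), (7334, 11499), (7335, 6922), (7336, 6249), (7337, 6250), (7338, 11478), (7339, 11509), (7340, 7240), (7341, 11511), (7342, 6964), (7343, 9971), (7344, 4366), (7345, 11516), (7346, 11522), (7347, 11523), (7348, 6188), (7349, 4368), (7350, 11525), (7351, 4370), (7352, 11488), (7353, 11534), (7354, 11536), (7355, 11530), (7356, 11540), (7357, 4371), (7358,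 11541), (7359, 4373)]
    ⟨e3 q7296 L169932 q11435, e3 q7297 L117715 q4345, e3 q7298 L117721 q7072, e3 q7299 (flp_b L117723) q4344, e3 q7300 L169982 q11442, e3 q7301 (flp_b L169954) q11438, e3 q7302 L170006 q11447, e3 q7303 (flp_b L150768) q8601, e3 q7304 L117751 q4348, e3 q7305 L117755 q4349, e3 q7306 L170072 q11456, e3 q7307 L149715 q4958, e3 q7308 (flp_b L170042) q11452, e3 q7309 L170112 q11460, e3 q7310 L151590 q8914, e3 q7311 (flp_b L117789) q4350, e3 q7312 L170116 q11461, e3 q7313 (flp_b L117799) q4351, e3 q7314 L170134 q11464, e3 q7315 L170140 q11465, e3 q7316 L170144 q11466, e3 q7317 (flp_b L117827) q4353, e3 q7318 (flp_b L117831) q4354, e3 q7319 (flp_b L117835) q4355, e3 q7320 L169970 q11440, e3 q7321 L117849 q4363, e3 q7322 L117855 q7063, e3 q7323 (flp_b L158789) q9931, e3 q7324 L170240 q11482, e3 q7325 L117871 q4367, e3 q7326 (flp_b L118123) q7368, e3 q7327 (flp_b L117881) q4358, e3 q7328 (flp_b L170270) q11487, e3 q7329 L170298 q11492, e3 q7330 (flp_b L161128) q10287, e3 q7331 L170324 q11497, e3 q7332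 (flp_b L117905) q4360, e3 q7333 (flp_b L117915) q7032, e3 q7334 (flp_b L170336) q11499, e3 q7335 L117927 q6922, e3 q7336 L117935 q6249, e3 q7337 L117945 q6250, e3 q7338 (flp_b L170216) q11478, e3 q7339 L170392 q11509, e3 q7340 L117963 q7240, e3 q7341 L170408 q11511, e3 q7342 (flp_b L117979) q6964, e3 q7343 (flp_b L159081) q9971, e3 q7344 (flp_b L117987) q4366, e3 q7345 (flp_b L170454) q11516, e3 q7346 L170496 q11522, e3 q7347 L170500 q11523, e3 q7348 (flp_b L118015) q6188, e3 q7349 (flp_b L118017) q4368, e3 q7350 L170512 q11525, e3 q7351 L118031 q4370, e3 q7352 (flp_b L170276) q11488, e3 q7353 L170562 q11534, e3 q7354 L170576 q11536, e3 q7355 (flp_b L170544) q11530, e3 q7356 L170606 q11540, e3 q7357 (flp_b L118061) q4371, e3 q7358 (flp_b L170614) q11541, e3 q7359 (flp_b L118069) q4373, trivial⟩ (by decide +kernel)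

theorem ce_b_115 : ∀ r, r < 64 → sm gb (Qf (7360 + r)) = Qf (tab Gen.b (7360 + r)) :=
  edges_tab (sm gb) Qf (tab Gen.b) 7360 [(7360, 11545), (7361, 11546), (7362, 11553), (7363, 10247), (7364, 11556), (7365, 4376), (7366, 10054), (7367, 11558), (7368, 7326), (7369, 4378), (7370, 8326), (7371, 10883), (7372, 7372), (7373, 11565), (7374, 7374), (7375, 5890), (7376, 11314), (7377, 4383), (7378, 4384), (7379, 11572), (7380, 11515), (7381, 4386), (7382, 11573), (7383, 5903), (7384, 11585), (7385, 11580), (7386, 4387), (7387, 11587), (7388, 11594), (7389, 11595), (7390, 6344), (7391, 4391), (7392, 7398), (7393, 5900), (7394, 11604), (7395, 11605), (7396, 11606), (7397, 4393), (7398, 7392), (7399, 6336), (7400, 4394), (7401, 8329), (7402, 10890), (7403, 7403), (7404, 11617), (7405, 7405), (7406, 5912), (7407, 11472), (7408, 4399), (7409, 4400), (7410, 11624), (7411, 11356), (7412, 4402), (7413, 5925), (7414, 11626), (7415, 11637), (7416, 11632), (7417, 4403), (7418, 11639), (7419, 11646), (7420, 11647), (7421, 6364),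 (7422, 4407), (7423, 5922)]
    ⟨e3 q7360 (flp_b L170630) q11545, e3 q7361 (flp_b L170634) q11546, e3 q7362 L170668 q11553, e3 q7363 (flp_b L160886) q10247, e3 q7364 L170688 q11556, e3 q7365 (flp_b L118101) q4376, e3 q7366 L159657 q10054, e3 q7367 (flp_b L170700) q11558, e3 q7368 L118123 q7326, e3 q7369 (flp_b L118125) q4378, e3 q7370 (flp_b L129669) q8326, e3 q7371 (flp_b L166398) q10883, e3 q7372 L118151 q7372, e3 q7373 L170766 q11565, e3 q7374 L118216 q7374, e3 q7375 L120527 q5890, e3 q7376 (flp_b L169177) q11314, e3 q7377 (flp_b L118225) q4383, e3 q7378 (flp_b L118230) q4384, e3 q7379 (flp_b L170821) q11572, e3 q7380 (flp_b L170448) q11515, e3 q7381 L118250 q4386, e3 q7382 (flp_b L170827) q11573, e3 q7383 L118264 q5903, e3 q7384 L170903 q11585, e3 q7385 (flp_b L170871) q11580, e3 q7386 (flp_b L118276) q4387, e3 q7387 (flp_b L170913) q11587, e3 q7388 L170947 q11594, e3 q7389 L170953 q11595, e3 q7390 L118298 q6344, e3 q7391 L118302 q4391, e3 q7392 (flp_b L118344) q7398, e3 q7393 L118314 q5900, e3 q7394 L171009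 q11604, e3 q7395 L171013 q11605, e3 q7396 L171019 q11606, e3 q7397 L118336 q4393, e3 q7398 L118344 q7392, e3 q7399 L118350 q6336, e3 q7400 (flp_b L118352) q4394, e3 q7401 (flp_b L150502) q8329, e3 q7402 (flp_b L166444) q10890, e3 q7403 L118376 q7403, e3 q7404 L171105 q11617, e3 q7405 L118389 q7405, e3 q7406 L118398 q5912, e3 q7407 (flp_b L170178) q11472, e3 q7408 (flp_b L118412) q4399, e3 q7409 (flp_b L118417) q4400, e3 q7410 (flp_b L171160) q11624, e3 q7411 (flp_b L169447) q11356, e3 q7412 L118439 q4402, e3 q7413 L118447 q5925, e3 q7414 (flp_b L171176) q11626, e3 q7415 L171246 q11637, e3 q7416 (flp_b L171214) q11632, e3 q7417 (flp_b L118465) q4403, e3 q7418 (flp_b L171256) q11639, e3 q7419 L171290 q11646, e3 q7420 L171300 q11647, e3 q7421 L118487 q6364, e3 q7422 L118491 q4407, e3 q7423 L118499 q5922, trivial⟩ (by decide +kernel)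

theorem ce_b_116 : ∀ r, r < 64 → sm gb (Qf (7424 + r)) = Qf (tab Gen.b (7424 + r)) :=
  edges_tab (sm gb) Qf (tab Gen.b) 7424 [(7424, 7430), (7425, 11656), (7426, 11657), (7427, 11658), (7428, 4409), (7429, 6355), (7430, 7424), (7431, 4411), (7432, 11667), (7433, 4412), (7434, 11669), (7435, 4414), (7436, 11674), (7437, 4415), (7438, 11676), (7439, 5798), (7440, 7639), (7441, 7804), (7442, 4423), (7443, 7445), (7444, 4426), (7445, 7443), (7446, 6408), (7447, 5434), (7448, 11684), (7449, 6440), (7450, 5479), (7451, 11687), (7452, 4429), (7453, 4430), (7454, 7454), (7455, 7455), (7456, 11688), (7457, 7457), (7458, 7458), (7459, 11691), (7460, 11692), (7461, 4433), (7462, 4499), (7463, 4434), (7464, 4534), (7465, 4498), (7466, 4436), (7467, 4533), (7468, 4438), (7469, 4447), (7470, 4569), (7471, 4440), (7472, 9367), (7473, 4451), (7474, 4455), (7475, 4671), (7476, 4443), (7477, 9364), (7478, 4459), (7479, 4764), (7480, 4758), (7481, 11693), (7482, 7646), (7483, 7618), (7484, 10395), (7485, 8948), (7486, 7969), (7487,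 4564)]
    ⟨e3 q7424 (flp_b L118539) q7430, e3 q7425 L171352 q11656, e3 q7426 L171358 q11657, e3 q7427 L171362 q11658, e3 q7428 L118525 q4409, e3 q7429 L118533 q6355, e3 q7430 L118539 q7424, e3 q7431 L118544 q4411, e3 q7432 L171417 q11667, e3 q7433 (flp_b L118566) q4412, e3 q7434 (flp_b L171425) q11669, e3 q7435 L118587 q4414, e3 q7436 L171450 q11674, e3 q7437 (flp_b L118613) q4415, e3 q7438 (flp_b L171458) q11676, e3 q7439 L118691 q5798, e3 q7440 (flp_b L121791) q7639, e3 q7441 L149144 q7804, e3 q7442 L118742 q4423, e3 q7443 (flp_b L118754) q7445, e3 q7444 L118750 q4426, e3 q7445 L118754 q7443, e3 q7446 L118764 q6408, e3 q7447 L120509 q5434, e3 q7448 L171504 q11684, e3 q7449 L118776 q6440, e3 q7450 L149815 q5479, e3 q7451 L171520 q11687, e3 q7452 L118789 q4429, e3 q7453 L118803 q4430, e3 q7454 L118943 q7454, e3 q7455 L122013 q7455, e3 q7456 (flp_b L171531) q11688, e3 q7457 L118942 q7457, e3 q7458 L122014 q7458, e3 q7459 L171560 q11691, e3 q7460 L171567 q11692, e3 q7461 (flp_b L118870) q4433, e3 q7462 (flp_b L120631)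 q4499, e3 q7463 (flp_b L118882) q4434, e3 q7464 L149068 q4534, e3 q7465 (flp_b L120619) q4498, e3 q7466 (flp_b L118905) q4436, e3 q7467 L149174 q4533, e3 q7468 (flp_b L118921) q4438, e3 q7469 L118928 q4447, e3 q7470 L120884 q4569, e3 q7471 (flp_b L120609) q4440, e3 q7472 (flp_b L154892) q9367, e3 q7473 L120639 q4451, e3 q7474 L120656 q4455, e3 q7475 L151097 q4671, e3 q7476 (flp_b L120663) q4443, e3 q7477 (flp_b L154876) q9364, e3 q7478 L120716 q4459, e3 q7479 L120724 q4764, e3 q7480 L120732 q4758, e3 q7481 (flp_b L171577) q11693, e3 q7482 L121833 q7646, e3 q7483 L121673 q7618, e3 q7484 L161900 q10395, e3 q7485 L151852 q8948, e3 q7486 L151822 q7969, e3 q7487 L120776 q4564, trivial⟩ (by decide +kernel)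

theorem ce_b_117 : ∀ r, r < 64 → sm gb (Qf (7488 + r)) = Qf (tab Gen.b (7488 + r)) :=
  edges_tab (sm gb) Qf (tab Gen.b) 7488 [(7488, 4802), (7489, 4796), (7490, 11695), (7491, 7810), (7492, 7784), (7493, 10429), (7494, 9014), (7495, 8026), (7496, 4665), (7497, 4462), (7498, 9486), (7499, 8318), (7500, 4466), (7501, 7656), (7502, 8334), (7503, 11711), (7504, 4467), (7505, 11712), (7506, 11713), (7507, 4470), (7508, 11717), (7509, 7699), (7510, 4472), (7511, 4474), (7512, 9478), (7513, 8319), (7514, 4478), (7515, 7821), (7516, 8342), (7517, 11720), (7518, 4479), (7519, 11721), (7520, 11722), (7521, 4482), (7522, 11726), (7523, 7863), (7524, 4484), (7525, 5838), (7526, 9822), (7527, 4487), (7528, 4490), (7529, 5517), (7530, 7530), (7531, 7942), (7532, 5083), (7533, 4495), (7534, 4573), (7535, 7686), (7536, 11732), (7537, 7949), (7538, 5747), (7539, 4497), (7540, 10854), (7541, 4500), (7542, 11689), (7543, 7653), (7544, 4506), (7545, 11740), (7546, 8014), (7547, 4510), (7548, 4505), (7549, 11741), (7550, 5011), (7551,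 11738)]
    ⟨e3 q7488 L150220 q4802, e3 q7489 L150740 q4796, e3 q7490 (flp_b L171593) q11695, e3 q7491 L151260 q7810, e3 q7492 L151264 q7784, e3 q7493 (flp_b L162792) q10429, e3 q7494 L152282 q9014, e3 q7495 (flp_b L124061) q8026, e3 q7496 L120830 q4665, e3 q7497 (flp_b L120832) q4462, e3 q7498 (flp_b L155776) q9486, e3 q7499 (flp_b L129479) q8318, e3 q7500 L120854 q4466, e3 q7501 (flp_b L121889) q7656, e3 q7502 (flp_b L129749) q8334, e3 q7503 L171708 q11711, e3 q7504 (flp_b L120874) q4467, e3 q7505 (flp_b L171720) q11712, e3 q7506 L171724 q11713, e3 q7507 (flp_b L120894) q4470, e3 q7508 L171754 q11717, e3 q7509 (flp_b L122124) q7699, e3 q7510 (flp_b L120939) q4472, e3 q7511 (flp_b L120949) q4474, e3 q7512 (flp_b L155730) q9478, e3 q7513 (flp_b L151189) q8319, e3 q7514 L120969 q4478, e3 q7515 (flp_b L151250) q7821, e3 q7516 (flp_b L151113) q8342, e3 q7517 L171778 q11720, e3 q7518 (flp_b L120993) q4479, e3 q7519 (flp_b L171790) q11721, e3 q7520 L171794 q11722, e3 q7521 (flp_b L121020) q4482, e3 q7522 L171824 q11726,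 e3 q7523 L150711 q7863, e3 q7524 (flp_b L121038) q4484, e3 q7525 L121048 q5838, e3 q7526 (flp_b L158103) q9822, e3 q7527 (flp_b L121056) q4487, e3 q7528 (flp_b L121058) q4490, e3 q7529 L121070 q5517, e3 q7530 L121086 q7530, e3 q7531 (flp_b L123428) q7942, e3 q7532 L121095 q5083, e3 q7533 L121105 q4495, e3 q7534 L121117 q4573, e3 q7535 (flp_b L122068) q7686, e3 q7536 L171886 q11732, e3 q7537 (flp_b L172995) q7949, e3 q7538 L121139 q5747, e3 q7539 L121150 q4497, e3 q7540 (flp_b L166180) q10854, e3 q7541 (flp_b L121161) q4500, e3 q7542 L171546 q11689, e3 q7543 (flp_b L121875) q7653, e3 q7544 L121175 q4506, e3 q7545 L171942 q11740, e3 q7546 (flp_b L163854) q8014, e3 q7547 L121192 q4510, e3 q7548 (flp_b L121194) q4505, e3 q7549 (flp_b L171952) q11741, e3 q7550 L163223 q5011, e3 q7551 (flp_b L171935) q11738, trivial⟩ (by decide +kernel)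

theorem ce_b_118 : ∀ r, r < 64 → sm gb (Qf (7552 + r)) = Qf (tab Gen.b (7552 + r)) :=
  edges_tab (sm gb) Qf (tab Gen.b) 7552 [(7552, 11748), (7553, 4507), (7554, 4509), (7555, 11750), (7556, 4512), (7557, 11755), (7558, 11743), (7559, 10570), (7560, 11753), (7561, 11758), (7562, 4513), (7563, 8325), (7564, 11762), (7565, 4516), (7566, 11766), (7567, 11767), (7568, 4518), (7569, 11769), (7570, 5843), (7571, 9875), (7572, 4522), (7573, 4525), (7574, 5561), (7575, 8000), (7576, 7576), (7577, 5084), (7578, 4530), (7579, 7850), (7580, 4675), (7581, 8007), (7582, 11775), (7583, 5748), (7584, 4532), (7585, 10856), (7586, 4535), (7587, 11690), (7588, 7818), (7589, 4541), (7590, 11783), (7591, 7956), (7592, 4545), (7593, 4540), (7594, 11784), (7595, 5014), (7596, 11781), (7597, 11791), (7598, 4542), (7599, 4544), (7600, 11793), (7601, 4547), (7602, 11785), (7603, 11798), (7604, 10621), (7605, 11796), (7606, 11801), (7607, 4548), (7608, 8322), (7609, 11805), (7610, 4551), (7611, 11809), (7612, 11810), (7613, 4553), (7614,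 11812), (7615, 6412)]
    ⟨e3 q7552 L171994 q11748, e3 q7553 (flp_b L121214) q4507, e3 q7554 (flp_b L121222) q4509, e3 q7555 L172002 q11750, e3 q7556 L121234 q4512, e3 q7557 L172037 q11755, e3 q7558 (flp_b L171966) q11743, e3 q7559 L163127 q10570, e3 q7560 (flp_b L172025) q11753, e3 q7561 L172061 q11758, e3 q7562 (flp_b L121262) q4513, e3 q7563 L163229 q8325, e3 q7564 L172085 q11762, e3 q7565 (flp_b L121285) q4516, e3 q7566 L172105 q11766, e3 q7567 L172109 q11767, e3 q7568 (flp_b L121307) q4518, e3 q7569 (flp_b L172123) q11769, e3 q7570 (flp_b L150954) q5843, e3 q7571 (flp_b L158403) q9875, e3 q7572 (flp_b L121361) q4522, e3 q7573 (flp_b L121381) q4525, e3 q7574 L150872 q5561, e3 q7575 (flp_b L151252) q8000, e3 q7576 L151182 q7576, e3 q7577 L149190 q5084, e3 q7578 L121400 q4530, e3 q7579 (flp_b L122963) q7850, e3 q7580 L121410 q4675, e3 q7581 (flp_b L174506) q8007, e3 q7582 L172180 q11775, e3 q7583 (flp_b L149146) q5748, e3 q7584 L121440 q4532, e3 q7585 (flp_b L166196) q10856, e3 q7586 (flp_b L121472) q4535, e3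 q7587 L171558 q11690, e3 q7588 (flp_b L122796) q7818, e3 q7589 L121504 q4541, e3 q7590 L172241 q11783, e3 q7591 L163844 q7956, e3 q7592 L121521 q4545, e3 q7593 (flp_b L121523) q4540, e3 q7594 (flp_b L172251) q11784, e3 q7595 L163376 q5014, e3 q7596 (flp_b L172230) q11781, e3 q7597 L172293 q11791, e3 q7598 (flp_b L121543) q4542, e3 q7599 (flp_b L121551) q4544, e3 q7600 L172301 q11793, e3 q7601 L121569 q4547, e3 q7602 (flp_b L172261) q11785, e3 q7603 L172342 q11798, e3 q7604 L164432 q10621, e3 q7605 (flp_b L172330) q11796, e3 q7606 L172366 q11801, e3 q7607 (flp_b L121593) q4548, e3 q7608 L163370 q8322, e3 q7609 L172390 q11805, e3 q7610 (flp_b L121616) q4551, e3 q7611 L172418 q11809, e3 q7612 L172422 q11810, e3 q7613 (flp_b L121639) q4553, e3 q7614 (flp_b L172436) q11812, e3 q7615 L121653 q6412, trivial⟩ (by decide +kernel)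

theorem ce_b_119 : ∀ r, r < 64 → sm gb (Qf (7616 + r)) = Qf (tab Gen.b (7616 + r)) :=
  edges_tab (sm gb) Qf (tab Gen.b) 7616 [(7616, 6051), (7617, 4557), (7618, 7483), (7619, 11817), (7620, 4559), (7621, 11821), (7622, 4560), (7623, 11825), (7624, 4565), (7625, 7708), (7626, 4562), (7627, 11823), (7628, 7958), (7629, 11828), (7630, 11837), (7631, 11831), (7632, 6854), (7633, 7633), (7634, 11694), (7635, 11843), (7636, 4570), (7637, 4571), (7638, 9417), (7639, 7440), (7640, 9415), (7641, 11779), (7642, 11729), (7643, 11853), (7644, 11855), (7645, 4574), (7646, 7482), (7647, 4575), (7648, 11858), (7649, 11815), (7650, 7815), (7651, 4581), (7652, 11863), (7653, 7543), (7654, 4583), (7655, 11867), (7656, 7501), (7657, 4589), (7658, 8020), (7659, 4608), (7660, 7908), (7661, 4587), (7662, 7706), (7663, 11876), (7664, 11877), (7665, 11871), (7666, 8022), (7667, 4590), (7668, 7668), (7669, 11884), (7670, 4592), (7671, 9362), (7672, 4594), (7673, 11889), (7674, 4936), (7675, 4600), (7676, 7840), (7677, 4596), (7678, 11893),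 (7679, 11887)]
    ⟨e3 q7616 (flp_b L155498) q6051, e3 q7617 (flp_b L121659) q4557, e3 q7618 (flp_b L121673) q7483, e3 q7619 L172468 q11817, e3 q7620 (flp_b L121680) q4559, e3 q7621 L172483 q11821, e3 q7622 (flp_b L121693) q4560, e3 q7623 L172511 q11825, e3 q7624 L121703 q4565, e3 q7625 L151301 q7708, e3 q7626 (flp_b L121707) q4562, e3 q7627 (flp_b L172501) q11823, e3 q7628 (flp_b L151824) q7958, e3 q7629 (flp_b L172531) q11828, e3 q7630 L172589 q11837, e3 q7631 (flp_b L172547) q11831, e3 q7632 L121743 q6854, e3 q7633 L121753 q7633, e3 q7634 (flp_b L171588) q11694, e3 q7635 L172636 q11843, e3 q7636 (flp_b L121768) q4570, e3 q7637 (flp_b L121771) q4571, e3 q7638 L155300 q9417, e3 q7639 L121791 q7440, e3 q7640 (flp_b L155278) q9415, e3 q7641 (flp_b L172217) q11779, e3 q7642 (flp_b L171866) q11729, e3 q7643 L172711 q11853, e3 q7644 L172727 q11855, e3 q7645 (flp_b L121819) q4574, e3 q7646 (flp_b L121833) q7482, e3 q7647 (flp_b L121835) q4575, e3 q7648 L172745 q11858, e3 q7649 (flp_b L172456) q11815, e3 q7650 (flp_b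 L149057) q7815, e3 q7651 (flp_b L121861) q4581, e3 q7652 L172783 q11863, e3 q7653 L121875 q7543, e3 q7654 (flp_b L121877) q4583, e3 q7655 L172811 q11867, e3 q7656 L121889 q7501, e3 q7657 L121893 q4589, e3 q7658 (flp_b L163651) q8020, e3 q7659 (flp_b L121905) q4608, e3 q7660 L151832 q7908, e3 q7661 (flp_b L121911) q4587, e3 q7662 L163993 q7706, e3 q7663 L172877 q11876, e3 q7664 L172881 q11877, e3 q7665 (flp_b L172841) q11871, e3 q7666 L163405 q8022, e3 q7667 (flp_b L121933) q4590, e3 q7668 L121941 q7668, e3 q7669 L172937 q11884, e3 q7670 (flp_b L121952) q4592, e3 q7671 L154867 q9362, e3 q7672 (flp_b L121965) q4594, e3 q7673 L172976 q11889, e3 q7674 L149806 q4936, e3 q7675 L121988 q4600, e3 q7676 L149203 q7840, e3 q7677 (flp_b L121994) q4596, e3 q7678 L173010 q11893, e3 q7679 (flp_b L172970) q11887, trivial⟩ (by decide +kernel)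

theorem ce_b_120 : ∀ r, r < 64 → sm gb (Qf (7680 + r)) = Qf (tab Gen.b (7680 + r)) :=
  edges_tab (sm gb) Qf (tab Gen.b) 7680 [(7680, 11894), (7681, 4598), (7682, 4599), (7683, 4601), (7684, 11865), (7685, 11892), (7686, 7535), (7687, 11846), (7688, 8508), (7689, 7951), (7690, 4761), (7691, 4604), (7692, 11908), (7693, 11911), (7694, 4618), (7695, 4606), (7696, 11906), (7697, 11914), (7698, 4866), (7699, 7509), (7700, 4626), (7701, 11922), (7702, 11924), (7703, 9864), (7704, 4612), (7705, 11927), (7706, 7662), (7707, 11931), (7708, 7625), (7709, 4616), (7710, 7777), (7711, 4641), (7712, 9100), (7713, 11935), (7714, 4617), (7715, 8515), (7716, 11941), (7717, 11947), (7718, 11948), (7719, 4619), (7720, 11951), (7721, 4622), (7722, 7761), (7723, 5975), (7724, 11954), (7725, 11958), (7726, 6434), (7727, 11960), (7728, 6721), (7729, 11920), (7730, 11962), (7731, 4627), (7732, 11964), (7733, 4629), (7734, 11966), (7735, 11967), (7736, 4810), (7737, 4633), (7738, 11970), (7739, 11972), (7740, 11969), (7741, 11973), (7742,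 4634), (7743, 4635)]
    ⟨e3 q7680 L173014 q11894, e3 q7681 (flp_b L122044) q4598, e3 q7682 (flp_b L122048) q4599, e3 q7683 (flp_b L122052) q4601, e3 q7684 L172807 q11865, e3 q7685 (flp_b L173008) q11892, e3 q7686 L122068 q7535, e3 q7687 (flp_b L172649) q11846, e3 q7688 L151331 q8508, e3 q7689 (flp_b L123482) q7951, e3 q7690 L122078 q4761, e3 q7691 (flp_b L122080) q4604, e3 q7692 (flp_b L173118) q11908, e3 q7693 L173132 q11911, e3 q7694 L122098 q4618, e3 q7695 (flp_b L122102) q4606, e3 q7696 L173106 q11906, e3 q7697 (flp_b L173158) q11914, e3 q7698 L163814 q4866, e3 q7699 L122124 q7509, e3 q7700 L122128 q4626, e3 q7701 L173226 q11922, e3 q7702 L173250 q11924, e3 q7703 (flp_b L158361) q9864, e3 q7704 (flp_b L122146) q4612, e3 q7705 (flp_b L173276) q11927, e3 q7706 (flp_b L163993) q7662, e3 q7707 L173302 q11931, e3 q7708 (flp_b L151301) q7625, e3 q7709 L122168 q4616, e3 q7710 (flp_b L122496) q7777, e3 q7711 L122174 q4641, e3 q7712 (flp_b L152820) q9100, e3 q7713 (flp_b L173329) q11935, e3 q7714 (flp_b L122190) q4617,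 e3 q7715 (flp_b L151401) q8515, e3 q7716 (flp_b L173361) q11941, e3 q7717 L173389 q11947, e3 q7718 L173391 q11948, e3 q7719 (flp_b L122214) q4619, e3 q7720 L173405 q11951, e3 q7721 L122222 q4622, e3 q7722 (flp_b L122418) q7761, e3 q7723 L150940 q5975, e3 q7724 (flp_b L173423) q11954, e3 q7725 L173471 q11958, e3 q7726 L150936 q6434, e3 q7727 L173491 q11960, e3 q7728 L163580 q6721, e3 q7729 (flp_b L173206) q11920, e3 q7730 L173506 q11962, e3 q7731 (flp_b L122262) q4627, e3 q7732 L173522 q11964, e3 q7733 (flp_b L122274) q4629, e3 q7734 L173532 q11966, e3 q7735 L173542 q11967, e3 q7736 L123960 q4810, e3 q7737 L122300 q4633, e3 q7738 L173570 q11970, e3 q7739 L173586 q11972, e3 q7740 (flp_b L173562) q11969, e3 q7741 L173591 q11973, e3 q7742 (flp_b L122322) q4634, e3 q7743 (flp_b L122324) q4635, trivial⟩ (by decide +kernel)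

theorem ce_b_121 : ∀ r, r < 64 → sm gb (Qf (7744 + r)) = Qf (tab Gen.b (7744 + r)) :=
  edges_tab (sm gb) Qf (tab Gen.b) 7744 [(7744, 11975), (7745, 4638), (7746, 11978), (7747, 7825), (7748, 11982), (7749, 11983), (7750, 4643), (7751, 8536), (7752, 11937), (7753, 4640), (7754, 9812), (7755, 10309), (7756, 4642), (7757, 11993), (7758, 8544), (7759, 8421), (7760, 4646), (7761, 7722), (7762, 11998), (7763, 12001), (7764, 4648), (7765, 4649), (7766, 9049), (7767, 11943), (7768, 12007), (7769, 9154), (7770, 12010), (7771, 8838), (7772, 12020), (7773, 12021), (7774, 4652), (7775, 9413), (7776, 4655), (7777, 7710), (7778, 12029), (7779, 12026), (7780, 11873), (7781, 6089), (7782, 6443), (7783, 4659), (7784, 7492), (7785, 12032), (7786, 4661), (7787, 12036), (7788, 12037), (7789, 4666), (7790, 7872), (7791, 4663), (7792, 4664), (7793, 8015), (7794, 12040), (7795, 12051), (7796, 12045), (7797, 6875), (7798, 7798), (7799, 12056), (7800, 11696), (7801, 4670), (7802, 4672), (7803, 9418), (7804, 7441), (7805, 11736), (7806,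 9416), (7807, 12065)]
    ⟨e3 q7744 (flp_b L173607) q11975, e3 q7745 (flp_b L122340) q4638, e3 q7746 (flp_b L173629) q11978, e3 q7747 (flp_b L122836) q7825, e3 q7748 L173649 q11982, e3 q7749 L173651 q11983, e3 q7750 L122360 q4643, e3 q7751 L143603 q8536, e3 q7752 (flp_b L173341) q11937, e3 q7753 (flp_b L122370) q4640, e3 q7754 (flp_b L173755) q9812, e3 q7755 (flp_b L161306) q10309, e3 q7756 (flp_b L122384) q4642, e3 q7757 (flp_b L173717) q11993, e3 q7758 (flp_b L143637) q8544, e3 q7759 L130370 q8421, e3 q7760 L122414 q4646, e3 q7761 L122418 q7722, e3 q7762 (flp_b L173747) q11998, e3 q7763 L173769 q12001, e3 q7764 L122428 q4648, e3 q7765 L122432 q4649, e3 q7766 (flp_b L152504) q9049, e3 q7767 (flp_b L173369) q11943, e3 q7768 (flp_b L173799) q12007, e3 q7769 (flp_b L153235) q9154, e3 q7770 (flp_b L173811) q12010, e3 q7771 (flp_b L151552) q8838, e3 q7772 L173869 q12020, e3 q7773 L173871 q12021, e3 q7774 (flp_b L122484) q4652, e3 q7775 L162502 q9413, e3 q7776 L122492 q4655, e3 q7777 L122496 q7710, e3 q7778 L173919 q12029,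 e3 q7779 (flp_b L173905) q12026, e3 q7780 (flp_b L172859) q11873, e3 q7781 L122520 q6089, e3 q7782 L151297 q6443, e3 q7783 (flp_b L122545) q4659, e3 q7784 (flp_b L151264) q7492, e3 q7785 L173947 q12032, e3 q7786 (flp_b L122577) q4661, e3 q7787 L173962 q12036, e3 q7788 L173966 q12037, e3 q7789 L122605 q4666, e3 q7790 L173990 q7872, e3 q7791 (flp_b L122609) q4663, e3 q7792 (flp_b L122615) q4664, e3 q7793 L123956 q8015, e3 q7794 (flp_b L174004) q12040, e3 q7795 L174094 q12051, e3 q7796 (flp_b L174046) q12045, e3 q7797 L122649 q6875, e3 q7798 L122657 q7798, e3 q7799 L174137 q12056, e3 q7800 (flp_b L171604) q11696, e3 q7801 (flp_b L122672) q4670, e3 q7802 (flp_b L122678) q4672, e3 q7803 L155310 q9418, e3 q7804 (flp_b L149144) q7441, e3 q7805 (flp_b L171926) q11736, e3 q7806 (flp_b L155290) q9416, e3 q7807 L174212 q12065, trivial⟩ (by decide +kernel)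

theorem ce_b_122 : ∀ r, r < 64 → sm gb (Qf (7808 + r)) = Qf (tab Gen.b (7808 + r)) :=
  edges_tab (sm gb) Qf (tab Gen.b) 7808 [(7808, 11773), (7809, 4674), (7810, 7491), (7811, 12069), (7812, 12070), (7813, 11976), (7814, 4678), (7815, 7650), (7816, 4682), (7817, 12076), (7818, 7588), (7819, 4684), (7820, 12080), (7821, 7515), (7822, 4689), (7823, 7961), (7824, 4708), (7825, 7747), (7826, 4688), (7827, 7871), (7828, 12086), (7829, 12082), (7830, 7963), (7831, 4690), (7832, 7832), (7833, 12093), (7834, 4692), (7835, 9365), (7836, 4694), (7837, 12098), (7838, 4937), (7839, 4700), (7840, 7676), (7841, 4696), (7842, 12102), (7843, 12096), (7844, 12103), (7845, 4698), (7846, 4699), (7847, 4701), (7848, 12078), (7849, 12101), (7850, 7579), (7851, 12059), (7852, 8537), (7853, 4799), (7854, 8009), (7855, 4704), (7856, 12114), (7857, 12117), (7858, 4718), (7859, 4706), (7860, 12113), (7861, 12120), (7862, 4837), (7863, 7523), (7864, 4726), (7865, 12128), (7866, 12130), (7867, 9810), (7868, 4712), (7869, 12132), (7870, 12136),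 (7871, 7827)]
    ⟨e3 q7808 (flp_b L172165) q11773, e3 q7809 (flp_b L122712) q4674, e3 q7810 (flp_b L151260) q7491, e3 q7811 L174244 q12069, e3 q7812 L174250 q12070, e3 q7813 (flp_b L173615) q11976, e3 q7814 (flp_b L122744) q4678, e3 q7815 L149057 q7650, e3 q7816 (flp_b L122782) q4682, e3 q7817 L174302 q12076, e3 q7818 L122796 q7588, e3 q7819 (flp_b L122798) q4684, e3 q7820 L174332 q12080, e3 q7821 L151250 q7515, e3 q7822 L122812 q4689, e3 q7823 L163681 q7961, e3 q7824 L123027 q4708, e3 q7825 L122836 q7747, e3 q7826 (flp_b L122830) q4688, e3 q7827 (flp_b L163997) q7871, e3 q7828 L174376 q12086, e3 q7829 (flp_b L174346) q12082, e3 q7830 (flp_b L163437) q7963, e3 q7831 (flp_b L122852) q4690, e3 q7832 L122860 q7832, e3 q7833 L174434 q12093, e3 q7834 (flp_b L122871) q4692, e3 q7835 (flp_b L154883) q9365, e3 q7836 (flp_b L122882) q4694, e3 q7837 L174481 q12098, e3 q7838 L150854 q4937, e3 q7839 L122903 q4700, e3 q7840 (flp_b L149203) q7676, e3 q7841 (flp_b L122907) q4696, e3 q7842 L174533 q12102, e3 q7843 (flp_b L174469)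 q12096, e3 q7844 L174537 q12103, e3 q7845 (flp_b L122925) q4698, e3 q7846 (flp_b L122929) q4699, e3 q7847 (flp_b L122947) q4701, e3 q7848 L174328 q12078, e3 q7849 (flp_b L174529) q12101, e3 q7850 L122963 q7579, e3 q7851 (flp_b L174154) q12059, e3 q7852 (flp_b L143609) q8537, e3 q7853 L122971 q4799, e3 q7854 (flp_b L123914) q8009, e3 q7855 (flp_b L122975) q4704, e3 q7856 (flp_b L174631) q12114, e3 q7857 L174647 q12117, e3 q7858 L122989 q4718, e3 q7859 (flp_b L122997) q4706, e3 q7860 (flp_b L174627) q12113, e3 q7861 (flp_b L174671) q12120, e3 q7862 L163828 q4837, e3 q7863 (flp_b L150711) q7523, e3 q7864 L123031 q4726, e3 q7865 L174745 q12128, e3 q7866 L174769 q12130, e3 q7867 (flp_b L158061) q9810, e3 q7868 (flp_b L123049) q4712, e3 q7869 (flp_b L174787) q12132, e3 q7870 L174821 q12136, e3 q7871 L163997 q7827, trivial⟩ (by decide +kernel)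

theorem ce_b_123 : ∀ r, r < 64 → sm gb (Qf (7872 + r)) = Qf (tab Gen.b (7872 + r)) :=
  edges_tab (sm gb) Qf (tab Gen.b) 7872 [(7872, 7790), (7873, 4716), (7874, 4740), (7875, 7931), (7876, 12140), (7877, 4717), (7878, 12145), (7879, 12150), (7880, 12151), (7881, 4719), (7882, 12154), (7883, 4722), (7884, 7918), (7885, 5990), (7886, 12157), (7887, 12161), (7888, 6465), (7889, 12163), (7890, 6796), (7891, 12126), (7892, 12165), (7893, 4727), (7894, 12167), (7895, 4729), (7896, 12169), (7897, 4772), (7898, 4733), (7899, 12172), (7900, 12173), (7901, 12171), (7902, 4734), (7903, 4735), (7904, 11816), (7905, 4738), (7906, 12176), (7907, 12180), (7908, 7660), (7909, 12006), (7910, 4742), (7911, 12141), (7912, 8507), (7913, 10346), (7914, 4741), (7915, 9865), (7916, 8402), (7917, 4745), (7918, 7884), (7919, 12188), (7920, 12191), (7921, 4747), (7922, 12146), (7923, 8984), (7924, 12195), (7925, 8801), (7926, 12203), (7927, 12204), (7928, 4750), (7929, 9414), (7930, 4753), (7931, 7875), (7932, 12212), (7933, 12209), (7934,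 12084), (7935, 4755)]
    ⟨e3 q7872 (flp_b L173990) q7790, e3 q7873 L123071 q4716, e3 q7874 L123075 q4740, e3 q7875 (flp_b L123361) q7931, e3 q7876 (flp_b L174846) q12140, e3 q7877 (flp_b L123085) q4717, e3 q7878 (flp_b L174870) q12145, e3 q7879 L174892 q12150, e3 q7880 L174896 q12151, e3 q7881 (flp_b L123105) q4719, e3 q7882 L174910 q12154, e3 q7883 L123113 q4722, e3 q7884 (flp_b L123299) q7918, e3 q7885 L123123 q5990, e3 q7886 (flp_b L174932) q12157, e3 q7887 L174978 q12161, e3 q7888 L123137 q6465, e3 q7889 L174998 q12163, e3 q7890 (flp_b L163760) q6796, e3 q7891 (flp_b L174725) q12126, e3 q7892 L175013 q12165, e3 q7893 (flp_b L123155) q4727, e3 q7894 L175029 q12167, e3 q7895 (flp_b L123167) q4729, e3 q7896 L175043 q12169, e3 q7897 L123979 q4772, e3 q7898 L123195 q4733, e3 q7899 L175077 q12172, e3 q7900 L175084 q12173, e3 q7901 (flp_b L175069) q12171, e3 q7902 (flp_b L123217) q4734, e3 q7903 (flp_b L123227) q4735, e3 q7904 (flp_b L172464) q11816, e3 q7905 (flp_b L123235) q4738, e3 q7906 (flp_b L175114) q12176,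 e3 q7907 L175134 q12180, e3 q7908 (flp_b L151832) q7660, e3 q7909 (flp_b L173795) q12006, e3 q7910 L123255 q4742, e3 q7911 (flp_b L174852) q12141, e3 q7912 (flp_b L151403) q8507, e3 q7913 (flp_b L161557) q10346, e3 q7914 (flp_b L123269) q4741, e3 q7915 L173266 q9865, e3 q7916 (flp_b L151399) q8402, e3 q7917 L123295 q4745, e3 q7918 L123299 q7884, e3 q7919 (flp_b L175196) q12188, e3 q7920 L175214 q12191, e3 q7921 L123309 q4747, e3 q7922 (flp_b L174874) q12146, e3 q7923 (flp_b L152066) q8984, e3 q7924 (flp_b L175236) q12195, e3 q7925 (flp_b L150861) q8801, e3 q7926 L175280 q12203, e3 q7927 L175284 q12204, e3 q7928 (flp_b L123349) q4750, e3 q7929 L162794 q9414, e3 q7930 L123357 q4753, e3 q7931 L123361 q7875, e3 q7932 L175332 q12212, e3 q7933 (flp_b L175318) q12209, e3 q7934 (flp_b L174366) q12084, e3 q7935 (flp_b L123379) q4755, trivial⟩ (by decide +kernel)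

theorem ce_b_124 : ∀ r, r < 64 → sm gb (Qf (7936 + r)) = Qf (tab Gen.b (7936 + r)) :=
  edges_tab (sm gb) Qf (tab Gen.b) 7936 [(7936, 11697), (7937, 7937), (7938, 11901), (7939, 11844), (7940, 5657), (7941, 5192), (7942, 7531), (7943, 8519), (7944, 8359), (7945, 9900), (7946, 6544), (7947, 12218), (7948, 4768), (7949, 7537), (7950, 12220), (7951, 7689), (7952, 4771), (7953, 4774), (7954, 6123), (7955, 12225), (7956, 7591), (7957, 9850), (7958, 7628), (7959, 11759), (7960, 4777), (7961, 7823), (7962, 6061), (7963, 7830), (7964, 11881), (7965, 4776), (7966, 12232), (7967, 4779), (7968, 12239), (7969, 7486), (7970, 12242), (7971, 12236), (7972, 5544), (7973, 12182), (7974, 4780), (7975, 4781), (7976, 8084), (7977, 8085), (7978, 12253), (7979, 8728), (7980, 6056), (7981, 12257), (7982, 12258), (7983, 4786), (7984, 4787), (7985, 8314), (7986, 8340), (7987, 11789), (7988, 4792), (7989, 10474), (7990, 9903), (7991, 5106), (7992, 8049), (7993, 4793), (7994, 11703), (7995, 7995), (7996, 12109), (7997, 12057), (7998, 5624),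 (7999, 5181)]
    ⟨e3 q7936 (flp_b L171610) q11697, e3 q7937 L123397 q7937, e3 q7938 (flp_b L173054) q11901, e3 q7939 (flp_b L172657) q11844, e3 q7940 (flp_b L150542) q5657, e3 q7941 L151010 q5192, e3 q7942 L123428 q7531, e3 q7943 L151006 q8519, e3 q7944 (flp_b L129960) q8359, e3 q7945 (flp_b L158559) q9900, e3 q7946 L123458 q6544, e3 q7947 L175390 q12218, e3 q7948 (flp_b L123470) q4768, e3 q7949 L172995 q7537, e3 q7950 (flp_b L175404) q12220, e3 q7951 L123482 q7689, e3 q7952 L123488 q4771, e3 q7953 L123492 q4774, e3 q7954 L123496 q6123, e3 q7955 (flp_b L175426) q12225, e3 q7956 (flp_b L163844) q7591, e3 q7957 L163653 q9850, e3 q7958 L151824 q7628, e3 q7959 (flp_b L172069) q11759, e3 q7960 L123528 q4777, e3 q7961 (flp_b L163681) q7823, e3 q7962 L123538 q6061, e3 q7963 L163437 q7830, e3 q7964 L172915 q11881, e3 q7965 (flp_b L123554) q4776, e3 q7966 (flp_b L175515) q12232, e3 q7967 L123566 q4779, e3 q7968 L175547 q12239, e3 q7969 (flp_b L151822) q7486, e3 q7970 L175573 q12242, e3 q7971 (flp_b L175533) q12236, e3 q7972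 L146084 q5544, e3 q7973 L175156 q12182, e3 q7974 (flp_b L123592) q4780, e3 q7975 (flp_b L123594) q4781, e3 q7976 (flp_b L124463) q8084, e3 q7977 (flp_b L124467) q8085, e3 q7978 L175633 q12253, e3 q7979 L144931 q8728, e3 q7980 L123618 q6056, e3 q7981 L175659 q12257, e3 q7982 L175669 q12258, e3 q7983 (flp_b L123634) q4786, e3 q7984 (flp_b L123636) q4787, e3 q7985 (flp_b L130512) q8314, e3 q7986 (flp_b L130514) q8340, e3 q7987 (flp_b L172287) q11789, e3 q7988 L123656 q4792, e3 q7989 (flp_b L162406) q10474, e3 q7990 (flp_b L158587) q9903, e3 q7991 L143333 q5106, e3 q7992 L149556 q8049, e3 q7993 (flp_b L123676) q4793, e3 q7994 (flp_b L171654) q11703, e3 q7995 L123715 q7995, e3 q7996 (flp_b L174581) q12109, e3 q7997 L174162 q12057, e3 q7998 L123786 q5624, e3 q7999 L123798 q5181, trivial⟩ (by decide +kernel)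

theorem ce_b_125 : ∀ r, r < 64 → sm gb (Qf (8000 + r)) = Qf (tab Gen.b (8000 + r)) :=
  edges_tab (sm gb) Qf (tab Gen.b) 8000 [(8000, 7575), (8001, 8548), (8002, 8367), (8003, 9917), (8004, 6584), (8005, 12277), (8006, 4806), (8007, 7581), (8008, 12279), (8009, 7854), (8010, 4809), (8011, 6131), (8012, 4813), (8013, 12284), (8014, 7546), (8015, 7793), (8016, 9797), (8017, 11802), (8018, 4815), (8019, 6099), (8020, 7658), (8021, 12090), (8022, 7666), (8023, 4814), (8024, 12291), (8025, 4817), (8026, 7495), (8027, 12299), (8028, 12301), (8029, 12295), (8030, 11985), (8031, 5588), (8032, 4818), (8033, 4819), (8034, 8125), (8035, 8126), (8036, 12312), (8037, 6094), (8038, 8773), (8039, 12316), (8040, 12317), (8041, 4824), (8042, 4825), (8043, 8308), (8044, 11746), (8045, 8332), (8046, 4830), (8047, 9919), (8048, 10524), (8049, 7992), (8050, 5113), (8051, 4834), (8052, 4835), (8053, 11923), (8054, 4838), (8055, 12332), (8056, 6147), (8057, 11476), (8058, 4839), (8059, 12337), (8060, 10361), (8061, 4841), (8062, 6740),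 (8063, 9907)]
    ⟨e3 q8000 L151252 q7575, e3 q8001 (flp_b L143673) q8548, e3 q8002 (flp_b L149315) q8367, e3 q8003 (flp_b L158686) q9917, e3 q8004 L123892 q6584, e3 q8005 L175813 q12277, e3 q8006 (flp_b L123902) q4806, e3 q8007 L174506 q7581, e3 q8008 (flp_b L175827) q12279, e3 q8009 L123914 q7854, e3 q8010 L123922 q4809, e3 q8011 L123928 q6131, e3 q8012 L123934 q4813, e3 q8013 (flp_b L175857) q12284, e3 q8014 L163854 q7546, e3 q8015 (flp_b L123956) q7793, e3 q8016 (flp_b L163683) q9797, e3 q8017 (flp_b L172374) q11802, e3 q8018 L123991 q4815, e3 q8019 L123997 q6099, e3 q8020 L163651 q7658, e3 q8021 (flp_b L174410) q12090, e3 q8022 (flp_b L163405) q7666, e3 q8023 (flp_b L124017) q4814, e3 q8024 (flp_b L175905) q12291, e3 q8025 L124027 q4817, e3 q8026 L124061 q7495, e3 q8027 L175945 q12299, e3 q8028 L175967 q12301, e3 q8029 (flp_b L175923) q12295, e3 q8030 L173669 q11985, e3 q8031 L151429 q5588, e3 q8032 (flp_b L124053) q4818, e3 q8033 (flp_b L124063) q4819, e3 q8034 (flp_b L124856) q8125, e3 q8035 (flp_b L124860)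 q8126, e3 q8036 L176027 q12312, e3 q8037 L124083 q6094, e3 q8038 L151427 q8773, e3 q8039 L176053 q12316, e3 q8040 L176059 q12317, e3 q8041 (flp_b L124103) q4824, e3 q8042 (flp_b L124107) q4825, e3 q8043 (flp_b L149680) q8308, e3 q8044 (flp_b L171988) q11746, e3 q8045 L149574 q8332, e3 q8046 L124125 q4830, e3 q8047 (flp_b L158702) q9919, e3 q8048 (flp_b L162728) q10524, e3 q8049 (flp_b L149556) q7992, e3 q8050 L148552 q5113, e3 q8051 (flp_b L124167) q4834, e3 q8052 (flp_b L124183) q4835, e3 q8053 (flp_b L173248) q11923, e3 q8054 L124221 q4838, e3 q8055 (flp_b L176177) q12332, e3 q8056 L124227 q6147, e3 q8057 L170202 q11476, e3 q8058 (flp_b L124243) q4839, e3 q8059 (flp_b L176229) q12337, e3 q8060 L163554 q10361, e3 q8061 L124289 q4841, e3 q8062 L142780 q6740, e3 q8063 L158615 q9907, trivial⟩ (by decide +kernel)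

theorem ce_b_126 : ∀ r, r < 64 → sm gb (Qf (8064 + r)) = Qf (tab Gen.b (8064 + r)) :=
  edges_tab (sm gb) Qf (tab Gen.b) 8064 [(8064, 12343), (8065, 12347), (8066, 4842), (8067, 5997), (8068, 6005), (8069, 12349), (8070, 4847), (8071, 6755), (8072, 6015), (8073, 8447), (8074, 8117), (8075, 4892), (8076, 4850), (8077, 12356), (8078, 12357), (8079, 8403), (8080, 8516), (8081, 12364), (8082, 11787), (8083, 4852), (8084, 7976), (8085, 7977), (8086, 5469), (8087, 12371), (8088, 4860), (8089, 10569), (8090, 8349), (8091, 11744), (8092, 10572), (8093, 8546), (8094, 4859), (8095, 4863), (8096, 4864), (8097, 12129), (8098, 4867), (8099, 6159), (8100, 12379), (8101, 11317), (8102, 4868), (8103, 12383), (8104, 10324), (8105, 4870), (8106, 9924), (8107, 6814), (8108, 12389), (8109, 12393), (8110, 4871), (8111, 5995), (8112, 12395), (8113, 5999), (8114, 4876), (8115, 6031), (8116, 6829), (8117, 8074), (8118, 8450), (8119, 4913), (8120, 12401), (8121, 12402), (8122, 8422), (8123, 12405), (8124, 4879), (8125, 8034), (8126, 8035),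 (8127, 12411)]
    ⟨e3 q8064 (flp_b L176292) q12343, e3 q8065 L176318 q12347, e3 q8066 (flp_b L124345) q4842, e3 q8067 (flp_b L148161) q5997, e3 q8068 (flp_b L149245) q6005, e3 q8069 L176336 q12349, e3 q8070 L124371 q4847, e3 q8071 L133819 q6755, e3 q8072 L124383 q6015, e3 q8073 (flp_b L143335) q8447, e3 q8074 (flp_b L149500) q8117, e3 q8075 L124403 q4892, e3 q8076 L124411 q4850, e3 q8077 L176408 q12356, e3 q8078 L176420 q12357, e3 q8079 L130508 q8403, e3 q8080 (flp_b L143391) q8516, e3 q8081 L176476 q12364, e3 q8082 (flp_b L172273) q11787, e3 q8083 (flp_b L124459) q4852, e3 q8084 L124463 q7976, e3 q8085 L124467 q7977, e3 q8086 L143409 q5469, e3 q8087 L176526 q12371, e3 q8088 L124481 q4860, e3 q8089 (flp_b L163115) q10569, e3 q8090 L129870 q8349, e3 q8091 (flp_b L171974) q11744, e3 q8092 (flp_b L164017) q10572, e3 q8093 L143647 q8546, e3 q8094 (flp_b L124537) q4859, e3 q8095 (flp_b L124584) q4863, e3 q8096 (flp_b L124600) q4864, e3 q8097 (flp_b L174767) q12129, e3 q8098 L124622 q4867, e3 q8099 L124626 q6159, e3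 q8100 (flp_b L176608) q12379, e3 q8101 L169197 q11317, e3 q8102 (flp_b L124644) q4868, e3 q8103 (flp_b L176650) q12383, e3 q8104 L163417 q10324, e3 q8105 L124670 q4870, e3 q8106 L158742 q9924, e3 q8107 (flp_b L142714) q6814, e3 q8108 (flp_b L176713) q12389, e3 q8109 L176739 q12393, e3 q8110 (flp_b L124736) q4871, e3 q8111 (flp_b L149025) q5995, e3 q8112 L176757 q12395, e3 q8113 L149682 q5999, e3 q8114 L124764 q4876, e3 q8115 (flp_b L147753) q6031, e3 q8116 (flp_b L137017) q6829, e3 q8117 L149500 q8074, e3 q8118 (flp_b L149630) q8450, e3 q8119 L124796 q4913, e3 q8120 L176819 q12401, e3 q8121 L176833 q12402, e3 q8122 L148854 q8422, e3 q8123 L176857 q12405, e3 q8124 (flp_b L124850) q4879, e3 q8125 L124856 q8034, e3 q8126 L124860 q8035, e3 q8127 L176907 q12411, trivial⟩ (by decide +kernel)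

theorem ce_b_127 : ∀ r, r < 64 → sm gb (Qf (8128 + r)) = Qf (tab Gen.b (8128 + r)) :=
  edges_tab (sm gb) Qf (tab Gen.b) 8128 [(8128, 5509), (8129, 4885), (8130, 8348), (8131, 10620), (8132, 10623), (8133, 6457), (8134, 4914), (8135, 12414), (8136, 10576), (8137, 4888), (8138, 12420), (8139, 4891), (8140, 12336), (8141, 12423), (8142, 12421), (8143, 12353), (8144, 12426), (8145, 4893), (8146, 12428), (8147, 10626), (8148, 12431), (8149, 5954), (8150, 4909), (8151, 4896), (8152, 12440), (8153, 10582), (8154, 6426), (8155, 12417), (8156, 12445), (8157, 12438), (8158, 4900), (8159, 12448), (8160, 10412), (8161, 4906), (8162, 12455), (8163, 4902), (8164, 9216), (8165, 4903), (8166, 4904), (8167, 12462), (8168, 10587), (8169, 6776), (8170, 12464), (8171, 4907), (8172, 6768), (8173, 12465), (8174, 4912), (8175, 12382), (8176, 12468), (8177, 12466), (8178, 12399), (8179, 12471), (8180, 12472), (8181, 5959), (8182, 4916), (8183, 12476), (8184, 10631), (8185, 12433), (8186, 12481), (8187, 12458), (8188, 4919), (8189, 12484),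 (8190, 10378), (8191, 4925)]
    ⟨e3 q8128 (flp_b L151360) q5509, e3 q8129 L124874 q4885, e3 q8130 L149043 q8348, e3 q8131 (flp_b L164420) q10620, e3 q8132 (flp_b L164442) q10623, e3 q8133 L163463 q6457, e3 q8134 (flp_b L148692) q4914, e3 q8135 L176933 q12414, e3 q8136 (flp_b L164045) q10576, e3 q8137 (flp_b L125526) q4888, e3 q8138 L176991 q12420, e3 q8139 L125544 q4891, e3 q8140 (flp_b L176219) q12336, e3 q8141 L177015 q12423, e3 q8142 (flp_b L177001) q12421, e3 q8143 (flp_b L176382) q12353, e3 q8144 L177035 q12426, e3 q8145 (flp_b L125604) q4893, e3 q8146 L177057 q12428, e3 q8147 (flp_b L164460) q10626, e3 q8148 L177081 q12431, e3 q8149 L157083 q5954, e3 q8150 L148748 q4909, e3 q8151 (flp_b L125717) q4896, e3 q8152 L177146 q12440, e3 q8153 (flp_b L164089) q10582, e3 q8154 L163254 q6426, e3 q8155 (flp_b L176967) q12417, e3 q8156 L177178 q12445, e3 q8157 (flp_b L177136) q12438, e3 q8158 (flp_b L125826) q4900, e3 q8159 (flp_b L177200) q12448, e3 q8160 L163643 q10412, e3 q8161 L125846 q4906, e3 q8162 L177236 q12455,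 e3 q8163 (flp_b L125852) q4902, e3 q8164 L164051 q9216, e3 q8165 (flp_b L125864) q4903, e3 q8166 (flp_b L125906) q4904, e3 q8167 L177311 q12462, e3 q8168 (flp_b L164127) q10587, e3 q8169 L125918 q6776, e3 q8170 L177324 q12464, e3 q8171 (flp_b L125928) q4907, e3 q8172 L125936 q6768, e3 q8173 L177328 q12465, e3 q8174 L126356 q4912, e3 q8175 (flp_b L176640) q12382, e3 q8176 L177352 q12468, e3 q8177 (flp_b L177338) q12466, e3 q8178 (flp_b L176805) q12399, e3 q8179 L177374 q12471, e3 q8180 L177384 q12472, e3 q8181 L157087 q5959, e3 q8182 (flp_b L126539) q4916, e3 q8183 L177421 q12476, e3 q8184 (flp_b L164492) q10631, e3 q8185 (flp_b L177100) q12433, e3 q8186 L177453 q12481, e3 q8187 L177285 q12458, e3 q8188 (flp_b L126638) q4919, e3 q8189 (flp_b L177475) q12484, e3 q8190 L163509 q10378, e3 q8191 L126658 q4925, trivial⟩ (by decide +kernel)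

theorem ce_b_128 : ∀ r, r < 64 → sm gb (Qf (8192 + r)) = Qf (tab Gen.b (8192 + r)) :=
  edges_tab (sm gb) Qf (tab Gen.b) 8192 [(8192, 12491), (8193, 4921), (8194, 9251), (8195, 4922), (8196, 4923), (8197, 12496), (8198, 6850), (8199, 10636), (8200, 12498), (8201, 4926), (8202, 6843), (8203, 4930), (8204, 4931), (8205, 6860), (8206, 6880), (8207, 4982), (8208, 6449), (8209, 4987), (8210, 6418), (8211, 5214), (8212, 10548), (8213, 10603), (8214, 9781), (8215, 9834), (8216, 12507), (8217, 12508), (8218, 4945), (8219, 4946), (8220, 12515), (8221, 8241), (8222, 12518), (8223, 8237), (8224, 4949), (8225, 4950), (8226, 11294), (8227, 8621), (8228, 12523), (8229, 4952), (8230, 11454), (8231, 8624), (8232, 12527), (8233, 4954), (8234, 4956), (8235, 12534), (8236, 12499), (8237, 8223), (8238, 4959), (8239, 12543), (8240, 12501), (8241, 8221), (8242, 12549), (8243, 12550), (8244, 12551), (8245, 12552), (8246, 12553), (8247, 12554), (8248, 4967), (8249, 4968), (8250, 4969), (8251, 4970), (8252, 4973), (8253, 4974), (8254,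 4975), (8255, 9007)]
    ⟨e3 q8192 L177511 q12491, e3 q8193 (flp_b L126664) q4921, e3 q8194 L154039 q9251, e3 q8195 (flp_b L126676) q4922, e3 q8196 (flp_b L126702) q4923, e3 q8197 L177574 q12496, e3 q8198 L126712 q6850, e3 q8199 (flp_b L164530) q10636, e3 q8200 L177587 q12498, e3 q8201 (flp_b L126726) q4926, e3 q8202 L126734 q6843, e3 q8203 (flp_b L128557) q4930, e3 q8204 (flp_b L128562) q4931, e3 q8205 (flp_b L142688) q6860, e3 q8206 L148574 q6880, e3 q8207 L128639 q4982, e3 q8208 (flp_b L147687) q6449, e3 q8209 L128651 q4987, e3 q8210 L128657 q6418, e3 q8211 L128663 q5214, e3 q8212 (flp_b L162937) q10548, e3 q8213 (flp_b L164270) q10603, e3 q8214 (flp_b L157869) q9781, e3 q8215 (flp_b L158167) q9834, e3 q8216 L177663 q12507, e3 q8217 L177667 q12508, e3 q8218 (flp_b L128731) q4945, e3 q8219 (flp_b L128737) q4946, e3 q8220 L177707 q12515, e3 q8221 (flp_b L128885) q8241, e3 q8222 L177733 q12518, e3 q8223 (flp_b L128861) q8237, e3 q8224 (flp_b L128763) q4949, e3 q8225 (flp_b L128771) q4950, e3 q8226 (flp_b L169049)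 q11294, e3 q8227 L144287 q8621, e3 q8228 L177779 q12523, e3 q8229 (flp_b L128805) q4952, e3 q8230 (flp_b L170058) q11454, e3 q8231 L144313 q8624, e3 q8232 L177805 q12527, e3 q8233 (flp_b L128837) q4954, e3 q8234 (flp_b L128843) q4956, e3 q8235 L177852 q12534, e3 q8236 (flp_b L177596) q12499, e3 q8237 L128861 q8223, e3 q8238 (flp_b L128867) q4959, e3 q8239 L177917 q12543, e3 q8240 (flp_b L177611) q12501, e3 q8241 L128885 q8221, e3 q8242 L177961 q12549, e3 q8243 L177967 q12550, e3 q8244 L177981 q12551, e3 q8245 L177987 q12552, e3 q8246 L177993 q12553, e3 q8247 L178007 q12554, e3 q8248 (flp_b L128959) q4967, e3 q8249 (flp_b L128963) q4968, e3 q8250 (flp_b L128986) q4969, e3 q8251 (flp_b L128990) q4970, e3 q8252 (flp_b L129002) q4973, e3 q8253 (flp_b L129020) q4974, e3 q8254 (flp_b L129024) q4975, e3 q8255 (flp_b L152218) q9007, trivial⟩ (by decide +kernel)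

theorem ce_b_129 : ∀ r, r < 64 → sm gb (Qf (8256 + r)) = Qf (tab Gen.b (8256 + r)) :=
  edges_tab (sm gb) Qf (tab Gen.b) 8256 [(8256, 5501), (8257, 4977), (8258, 9069), (8259, 5460), (8260, 8902), (8261, 8290), (8262, 12570), (8263, 8263), (8264, 8287), (8265, 4981), (8266, 12573), (8267, 5425), (8268, 12457), (8269, 12456), (8270, 9001), (8271, 8910), (8272, 8299), (8273, 12576), (8274, 8274), (8275, 8296), (8276, 4986), (8277, 12579), (8278, 5409), (8279, 12493), (8280, 12492), (8281, 9063), (8282, 12581), (8283, 4990), (8284, 12583), (8285, 12584), (8286, 8286), (8287, 8264), (8288, 5396), (8289, 8289), (8290, 8261), (8291, 12588), (8292, 4994), (8293, 12586), (8294, 12590), (8295, 8295), (8296, 8275), (8297, 5391), (8298, 8298), (8299, 8272), (8300, 6012), (8301, 8301), (8302, 8387), (8303, 6028), (8304, 8304), (8305, 8380), (8306, 4999), (8307, 6966), (8308, 8043), (8309, 5005), (8310, 8784), (8311, 12323), (8312, 5002), (8313, 6977), (8314, 7985), (8315, 5006), (8316, 8820), (8317, 12264), (8318, 7499), (8319,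 7513)]
    ⟨e3 q8256 L152256 q5501, e3 q8257 (flp_b L129048) q4977, e3 q8258 L152624 q9069, e3 q8259 L152156 q5460, e3 q8260 (flp_b L146116) q8902, e3 q8261 (flp_b L129257) q8290, e3 q8262 L178127 q12570, e3 q8263 L129096 q8263, e3 q8264 (flp_b L129242) q8287, e3 q8265 (flp_b L129101) q4981, e3 q8266 L178159 q12573, e3 q8267 (flp_b L129117) q5425, e3 q8268 (flp_b L177271) q12457, e3 q8269 (flp_b L177258) q12456, e3 q8270 (flp_b L152150) q9001, e3 q8271 (flp_b L150809) q8910, e3 q8272 (flp_b L129334) q8299, e3 q8273 L178185 q12576, e3 q8274 L129162 q8274, e3 q8275 (flp_b L129319) q8296, e3 q8276 (flp_b L129167) q4986, e3 q8277 L178217 q12579, e3 q8278 (flp_b L129183) q5409, e3 q8279 (flp_b L177546) q12493, e3 q8280 (flp_b L177533) q12492, e3 q8281 (flp_b L152576) q9063, e3 q8282 L178229 q12581, e3 q8283 (flp_b L129213) q4990, e3 q8284 L178249 q12583, e3 q8285 L178269 q12584, e3 q8286 L129237 q8286, e3 q8287 L129242 q8264, e3 q8288 L152164 q5396, e3 q8289 L129252 q8289, e3 q8290 L129257 q8261, e3 q8291 L178319 q12588,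 e3 q8292 (flp_b L129288) q4994, e3 q8293 (flp_b L178309) q12586, e3 q8294 L178339 q12590, e3 q8295 L129314 q8295, e3 q8296 L129319 q8275, e3 q8297 L152248 q5391, e3 q8298 L129329 q8298, e3 q8299 L129334 q8272, e3 q8300 (flp_b L129344) q6012, e3 q8301 L129356 q8301, e3 q8302 (flp_b L130164) q8387, e3 q8303 (flp_b L149518) q6028, e3 q8304 L129379 q8304, e3 q8305 (flp_b L130103) q8380, e3 q8306 (flp_b L129386) q4999, e3 q8307 L129402 q6966, e3 q8308 L149680 q8043, e3 q8309 L129416 q5005, e3 q8310 (flp_b L145272) q8784, e3 q8311 (flp_b L176111) q12323, e3 q8312 (flp_b L129438) q5002, e3 q8313 (flp_b L151256) q6977, e3 q8314 L130512 q7985, e3 q8315 L129458 q5006, e3 q8316 (flp_b L145497) q8820, e3 q8317 (flp_b L175719) q12264, e3 q8318 L129479 q7499, e3 q8319 L151189 q7513, trivial⟩ (by decide +kernel)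

theorem ce_b_130 : ∀ r, r < 64 → sm gb (Qf (8320 + r)) = Qf (tab Gen.b (8320 + r)) :=
  edges_tab (sm gb) Qf (tab Gen.b) 8320 [(8320, 6716), (8321, 8321), (8322, 7608), (8323, 6792), (8324, 8324), (8325, 7563), (8326, 7370), (8327, 8327), (8328, 11737), (8329, 7401), (8330, 8330), (8331, 11780), (8332, 8045), (8333, 5016), (8334, 7502), (8335, 12608), (8336, 5027), (8337, 9078), (8338, 12609), (8339, 5020), (8340, 7986), (8341, 5022), (8342, 7516), (8343, 12614), (8344, 5028), (8345, 9131), (8346, 12615), (8347, 5026), (8348, 8130), (8349, 8090), (8350, 10442), (8351, 10853), (8352, 12617), (8353, 5032), (8354, 10492), (8355, 10855), (8356, 12619), (8357, 5034), (8358, 5035), (8359, 7944), (8360, 5243), (8361, 12624), (8362, 5037), (8363, 12270), (8364, 5247), (8365, 6599), (8366, 5039), (8367, 8002), (8368, 5251), (8369, 12635), (8370, 5041), (8371, 12330), (8372, 5255), (8373, 6560), (8374, 5043), (8375, 12644), (8376, 12645), (8377, 5045), (8378, 12648), (8379, 12649), (8380, 8305), (8381, 5047), (8382, 12653),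 (8383, 12654)]
    ⟨e3 q8320 L129512 q6716, e3 q8321 L129520 q8321, e3 q8322 (flp_b L163370) q7608, e3 q8323 (flp_b L129600) q6792, e3 q8324 L129652 q8324, e3 q8325 (flp_b L163229) q7563, e3 q8326 L129669 q7370, e3 q8327 L129677 q8327, e3 q8328 (flp_b L171931) q11737, e3 q8329 L150502 q7401, e3 q8330 L129711 q8330, e3 q8331 (flp_b L172224) q11780, e3 q8332 (flp_b L149574) q8045, e3 q8333 (flp_b L129737) q5016, e3 q8334 L129749 q7502, e3 q8335 L178539 q12608, e3 q8336 L129771 q5027, e3 q8337 (flp_b L152684) q9078, e3 q8338 L178543 q12609, e3 q8339 (flp_b L129791) q5020, e3 q8340 L130514 q7986, e3 q8341 (flp_b L129807) q5022, e3 q8342 L151113 q7516, e3 q8343 L178585 q12614, e3 q8344 L129828 q5028, e3 q8345 (flp_b L153090) q9131, e3 q8346 L178589 q12615, e3 q8347 (flp_b L129842) q5026, e3 q8348 (flp_b L149043) q8130, e3 q8349 (flp_b L129870) q8090, e3 q8350 (flp_b L162210) q10442, e3 q8351 (flp_b L166170) q10853, e3 q8352 L178599 q12617, e3 q8353 (flp_b L129912) q5032, e3 q8354 (flp_b L162528) q10492, e3 q8355 (flp_b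 L166186) q10855, e3 q8356 L178615 q12619, e3 q8357 (flp_b L129936) q5034, e3 q8358 (flp_b L129944) q5035, e3 q8359 L129960 q7944, e3 q8360 L129964 q5243, e3 q8361 L178651 q12624, e3 q8362 (flp_b L129974) q5037, e3 q8363 L175755 q12270, e3 q8364 L129988 q5247, e3 q8365 (flp_b L147381) q6599, e3 q8366 (flp_b L129996) q5039, e3 q8367 L149315 q8002, e3 q8368 L130010 q5251, e3 q8369 L178729 q12635, e3 q8370 (flp_b L130020) q5041, e3 q8371 L176157 q12330, e3 q8372 L130034 q5255, e3 q8373 L130042 q6560, e3 q8374 (flp_b L130044) q5043, e3 q8375 L178797 q12644, e3 q8376 L178805 q12645, e3 q8377 (flp_b L130070) q5045, e3 q8378 L178834 q12648, e3 q8379 L178842 q12649, e3 q8380 L130103 q8305, e3 q8381 (flp_b L130105) q5047, e3 q8382 L178888 q12653, e3 q8383 L178896 q12654, trivial⟩ (by decide +kernel)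

theorem ce_b_131 : ∀ r, r < 64 → sm gb (Qf (8384 + r)) = Qf (tab Gen.b (8384 + r)) :=
  edges_tab (sm gb) Qf (tab Gen.b) 8384 [(8384, 5049), (8385, 12657), (8386, 12658), (8387, 8302), (8388, 12661), (8389, 5052), (8390, 12662), (8391, 12666), (8392, 5053), (8393, 5071), (8394, 12670), (8395, 5055), (8396, 10079), (8397, 10522), (8398, 8434), (8399, 12677), (8400, 5057), (8401, 5058), (8402, 7916), (8403, 8079), (8404, 5074), (8405, 5341), (8406, 12689), (8407, 12690), (8408, 5062), (8409, 12691), (8410, 12695), (8411, 5063), (8412, 5075), (8413, 12699), (8414, 5065), (8415, 10045), (8416, 10472), (8417, 8429), (8418, 12706), (8419, 5067), (8420, 5068), (8421, 7759), (8422, 8122), (8423, 5078), (8424, 5322), (8425, 12718), (8426, 12719), (8427, 5072), (8428, 12723), (8429, 8417), (8430, 12686), (8431, 12726), (8432, 5076), (8433, 12730), (8434, 8398), (8435, 12715), (8436, 8436), (8437, 11728), (8438, 11771), (8439, 11848), (8440, 12062), (8441, 5086), (8442, 5087), (8443, 10595), (8444, 10540), (8445, 5661), (8446,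 5096), (8447, 8073)]
    ⟨e3 q8384 (flp_b L130131) q5049, e3 q8385 L178925 q12657, e3 q8386 L178933 q12658, e3 q8387 L130164 q8302, e3 q8388 L178969 q12661, e3 q8389 (flp_b L130172) q5052, e3 q8390 (flp_b L178979) q12662, e3 q8391 L179001 q12666, e3 q8392 (flp_b L130190) q5053, e3 q8393 L130196 q5071, e3 q8394 L179027 q12670, e3 q8395 (flp_b L130204) q5055, e3 q8396 L163631 q10079, e3 q8397 (flp_b L162714) q10522, e3 q8398 (flp_b L130458) q8434, e3 q8399 L179071 q12677, e3 q8400 (flp_b L130236) q5057, e3 q8401 (flp_b L130240) q5058, e3 q8402 L151399 q7916, e3 q8403 (flp_b L130508) q8079, e3 q8404 L130260 q5074, e3 q8405 L130268 q5341, e3 q8406 L179155 q12689, e3 q8407 L179165 q12690, e3 q8408 (flp_b L130292) q5062, e3 q8409 (flp_b L179175) q12691, e3 q8410 L179197 q12695, e3 q8411 (flp_b L130310) q5063, e3 q8412 L130316 q5075, e3 q8413 L179223 q12699, e3 q8414 (flp_b L130324) q5065, e3 q8415 (flp_b L163515) q10045, e3 q8416 (flp_b L162392) q10472, e3 q8417 (flp_b L130422) q8429, e3 q8418 L179267 q12706, e3 q8419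 (flp_b L130356) q5067, e3 q8420 (flp_b L130360) q5068, e3 q8421 (flp_b L130370) q7759, e3 q8422 (flp_b L148854) q8122, e3 q8423 L130382 q5078, e3 q8424 L130390 q5322, e3 q8425 L179353 q12718, e3 q8426 L179363 q12719, e3 q8427 (flp_b L130408) q5072, e3 q8428 L179383 q12723, e3 q8429 L130422 q8417, e3 q8430 (flp_b L179135) q12686, e3 q8431 L179413 q12726, e3 q8432 (flp_b L130442) q5076, e3 q8433 L179433 q12730, e3 q8434 L130458 q8398, e3 q8435 (flp_b L179333) q12715, e3 q8436 L130538 q8436, e3 q8437 (flp_b L171848) q11728, e3 q8438 (flp_b L172139) q11771, e3 q8439 (flp_b L172677) q11848, e3 q8440 (flp_b L174192) q12062, e3 q8441 (flp_b L130628) q5086, e3 q8442 (flp_b L130648) q5087, e3 q8443 (flp_b L164192) q10595, e3 q8444 (flp_b L162845) q10540, e3 q8445 L151030 q5661, e3 q8446 (flp_b L142863) q5096, e3 q8447 L143335 q8073, trivial⟩ (by decide +kernel)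

theorem ce_b_132 : ∀ r, r < 64 → sm gb (Qf (8448 + r)) = Qf (tab Gen.b (8448 + r)) :=
  edges_tab (sm gb) Qf (tab Gen.b) 8448 [(8448, 5628), (8449, 5100), (8450, 8118), (8451, 6623), (8452, 8513), (8453, 5104), (8454, 10477), (8455, 12734), (8456, 8501), (8457, 10628), (8458, 11799), (8459, 5410), (8460, 12396), (8461, 12397), (8462, 6671), (8463, 8542), (8464, 5111), (8465, 10527), (8466, 12743), (8467, 8530), (8468, 10578), (8469, 11756), (8470, 5426), (8471, 12350), (8472, 12351), (8473, 6691), (8474, 5118), (8475, 5993), (8476, 6646), (8477, 5122), (8478, 5992), (8479, 5125), (8480, 6663), (8481, 9205), (8482, 5127), (8483, 5128), (8484, 6039), (8485, 6775), (8486, 12348), (8487, 5132), (8488, 6615), (8489, 9241), (8490, 5134), (8491, 5135), (8492, 6023), (8493, 6849), (8494, 12394), (8495, 5138), (8496, 8974), (8497, 10015), (8498, 12761), (8499, 5141), (8500, 8959), (8501, 8456), (8502, 12763), (8503, 5144), (8504, 12765), (8505, 12766), (8506, 5146), (8507, 7912), (8508, 7688), (8509, 12768), (8510, 5149),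 (8511, 10732)]
    ⟨e3 q8448 L150568 q5628, e3 q8449 (flp_b L142893) q5100, e3 q8450 L149630 q8118, e3 q8451 L142917 q6623, e3 q8452 (flp_b L143381) q8513, e3 q8453 (flp_b L142923) q5104, e3 q8454 (flp_b L162430) q10477, e3 q8455 (flp_b L179471) q12734, e3 q8456 (flp_b L143329) q8501, e3 q8457 (flp_b L164478) q10628, e3 q8458 (flp_b L172356) q11799, e3 q8459 L142951 q5410, e3 q8460 (flp_b L176777) q12396, e3 q8461 (flp_b L176789) q12397, e3 q8462 L149592 q6671, e3 q8463 (flp_b L143629) q8542, e3 q8464 (flp_b L142997) q5111, e3 q8465 (flp_b L162752) q10527, e3 q8466 (flp_b L179539) q12743, e3 q8467 (flp_b L143553) q8530, e3 q8468 (flp_b L164067) q10578, e3 q8469 (flp_b L172051) q11756, e3 q8470 L143027 q5426, e3 q8471 (flp_b L176354) q12350, e3 q8472 (flp_b L176366) q12351, e3 q8473 (flp_b L150782) q6691, e3 q8474 (flp_b L143051) q5118, e3 q8475 L143081 q5993, e3 q8476 (flp_b L143453) q6646, e3 q8477 (flp_b L143103) q5122, e3 q8478 L143137 q5992, e3 q8479 (flp_b L143145) q5125, e3 q8480 (flp_b L150784) q6663, e3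 q8481 (flp_b L154262) q9205, e3 q8482 (flp_b L143157) q5127, e3 q8483 (flp_b L143161) q5128, e3 q8484 L143175 q6039, e3 q8485 (flp_b L149531) q6775, e3 q8486 (flp_b L176334) q12348, e3 q8487 (flp_b L143219) q5132, e3 q8488 (flp_b L143457) q6615, e3 q8489 (flp_b L154468) q9241, e3 q8490 (flp_b L143245) q5134, e3 q8491 (flp_b L143249) q5135, e3 q8492 L143281 q6023, e3 q8493 L149664 q6849, e3 q8494 (flp_b L176755) q12394, e3 q8495 (flp_b L143295) q5138, e3 q8496 L152002 q8974, e3 q8497 (flp_b L159429) q10015, e3 q8498 L179675 q12761, e3 q8499 (flp_b L143321) q5141, e3 q8500 (flp_b L151922) q8959, e3 q8501 L143329 q8456, e3 q8502 L179697 q12763, e3 q8503 (flp_b L143341) q5144, e3 q8504 L179713 q12765, e3 q8505 L179715 q12766, e3 q8506 (flp_b L143353) q5146, e3 q8507 L151403 q7912, e3 q8508 (flp_b L151331) q7688, e3 q8509 L179731 q12768, e3 q8510 (flp_b L143371) q5149, e3 q8511 L165226 q10732, trivial⟩ (by decide +kernel)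

theorem ce_b_133 : ∀ r, r < 64 → sm gb (Qf (8512 + r)) = Qf (tab Gen.b (8512 + r)) :=
  edges_tab (sm gb) Qf (tab Gen.b) 8512 [(8512, 10080), (8513, 8452), (8514, 8543), (8515, 7715), (8516, 8080), (8517, 10526), (8518, 12153), (8519, 7943), (8520, 5186), (8521, 5566), (8522, 12781), (8523, 5156), (8524, 5157), (8525, 9040), (8526, 10049), (8527, 12786), (8528, 5160), (8529, 9025), (8530, 8467), (8531, 12788), (8532, 5163), (8533, 12790), (8534, 12791), (8535, 5165), (8536, 7751), (8537, 7852), (8538, 12793), (8539, 5168), (8540, 10647), (8541, 10046), (8542, 8463), (8543, 8514), (8544, 7758), (8545, 10476), (8546, 8093), (8547, 11950), (8548, 8001), (8549, 5197), (8550, 5522), (8551, 12806), (8552, 5175), (8553, 5176), (8554, 5180), (8555, 9485), (8556, 11619), (8557, 5182), (8558, 6556), (8559, 5184), (8560, 12812), (8561, 10316), (8562, 5187), (8563, 5191), (8564, 9475), (8565, 11567), (8566, 5193), (8567, 6595), (8568, 5195), (8569, 12816), (8570, 10353), (8571, 5200), (8572, 12817), (8573, 5202), (8574, 12818),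 (8575, 8584)]
    ⟨e3 q8512 (flp_b L163558) q10080, e3 q8513 L143381 q8452, e3 q8514 (flp_b L143633) q8543, e3 q8515 L151401 q7715, e3 q8516 L143391 q8080, e3 q8517 (flp_b L162744) q10526, e3 q8518 (flp_b L174908) q12153, e3 q8519 (flp_b L151006) q7943, e3 q8520 L143463 q5186, e3 q8521 L143469 q5566, e3 q8522 L179841 q12781, e3 q8523 (flp_b L143479) q5156, e3 q8524 (flp_b L143495) q5157, e3 q8525 L152448 q9040, e3 q8526 (flp_b L159629) q10049, e3 q8527 L179893 q12786, e3 q8528 (flp_b L143541) q5160, e3 q8529 L152358 q9025, e3 q8530 L143553 q8467, e3 q8531 L179915 q12788, e3 q8532 (flp_b L143573) q5163, e3 q8533 L179931 q12790, e3 q8534 L179933 q12791, e3 q8535 (flp_b L143593) q5165, e3 q8536 (flp_b L143603) q7751, e3 q8537 L143609 q7852, e3 q8538 L179949 q12793, e3 q8539 (flp_b L143619) q5168, e3 q8540 L164615 q10647, e3 q8541 L163431 q10046, e3 q8542 L143629 q8463, e3 q8543 L143633 q8514, e3 q8544 L143637 q7758, e3 q8545 (flp_b L162422) q10476, e3 q8546 (flp_b L143647) q8093, e3 q8547 (flp_b L173403) q11950, e3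 q8548 L143673 q8001, e3 q8549 L143679 q5197, e3 q8550 L143687 q5522, e3 q8551 L180059 q12806, e3 q8552 (flp_b L143697) q5175, e3 q8553 (flp_b L143701) q5176, e3 q8554 L143711 q5180, e3 q8555 (flp_b L155772) q9485, e3 q8556 (flp_b L171128) q11619, e3 q8557 (flp_b L143737) q5182, e3 q8558 L146088 q6556, e3 q8559 (flp_b L143745) q5184, e3 q8560 L180117 q12812, e3 q8561 (flp_b L161376) q10316, e3 q8562 (flp_b L143763) q5187, e3 q8563 L143809 q5191, e3 q8564 (flp_b L155714) q9475, e3 q8565 (flp_b L170789) q11567, e3 q8566 (flp_b L143839) q5193, e3 q8567 L151550 q6595, e3 q8568 (flp_b L143855) q5195, e3 q8569 L180149 q12816, e3 q8570 L161627 q10353, e3 q8571 (flp_b L143873) q5200, e3 q8572 L180155 q12817, e3 q8573 (flp_b L143889) q5202, e3 q8574 L180169 q12818, e3 q8575 (flp_b L149229) q8584, trivial⟩ (by decide +kernel)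

theorem ce_b_134 : ∀ r, r < 64 → sm gb (Qf (8576 + r)) = Qf (tab Gen.b (8576 + r)) :=
  edges_tab (sm gb) Qf (tab Gen.b) 8576 [(8576, 9717), (8577, 5205), (8578, 5640), (8579, 9799), (8580, 5208), (8581, 12819), (8582, 5210), (8583, 12820), (8584, 8575), (8585, 9725), (8586, 5213), (8587, 5603), (8588, 9852), (8589, 11119), (8590, 11188), (8591, 5215), (8592, 5216), (8593, 5217), (8594, 12826), (8595, 5218), (8596, 12830), (8597, 7203), (8598, 10549), (8599, 12832), (8600, 5220), (8601, 7303), (8602, 10605), (8603, 12837), (8604, 5222), (8605, 12841), (8606, 6910), (8607, 8636), (8608, 12847), (8609, 6914), (8610, 8631), (8611, 5225), (8612, 9897), (8613, 12858), (8614, 12269), (8615, 12564), (8616, 5228), (8617, 9914), (8618, 12864), (8619, 12327), (8620, 12558), (8621, 8227), (8622, 5234), (8623, 10882), (8624, 8231), (8625, 5238), (8626, 10874), (8627, 5233), (8628, 5235), (8629, 12873), (8630, 10881), (8631, 8610), (8632, 5237), (8633, 5239), (8634, 12885), (8635, 10873), (8636, 8607), (8637, 12853), (8638,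 9773), (8639, 5275)]
    ⟨e3 q8576 (flp_b L157425) q9717, e3 q8577 L143917 q5205, e3 q8578 L143925 q5640, e3 q8579 L157961 q9799, e3 q8580 (flp_b L144001) q5208, e3 q8581 L180179 q12819, e3 q8582 (flp_b L144039) q5210, e3 q8583 L180193 q12820, e3 q8584 L149229 q8575, e3 q8585 (flp_b L157507) q9725, e3 q8586 L144059 q5213, e3 q8587 L144077 q5603, e3 q8588 L158259 q9852, e3 q8589 L167949 q11119, e3 q8590 L168373 q11188, e3 q8591 (flp_b L144105) q5215, e3 q8592 (flp_b L144109) q5216, e3 q8593 (flp_b L144113) q5217, e3 q8594 L180233 q12826, e3 q8595 (flp_b L144127) q5218, e3 q8596 L180255 q12830, e3 q8597 L144151 q7203, e3 q8598 (flp_b L162951) q10549, e3 q8599 L180269 q12832, e3 q8600 (flp_b L144167) q5220, e3 q8601 L150768 q7303, e3 q8602 (flp_b L164290) q10605, e3 q8603 L180321 q12837, e3 q8604 (flp_b L144187) q5222, e3 q8605 L180365 q12841, e3 q8606 L144197 q6910, e3 q8607 (flp_b L144375) q8636, e3 q8608 L180397 q12847, e3 q8609 L144209 q6914, e3 q8610 (flp_b L144353) q8631, e3 q8611 (flp_b L144215) q5225, e3 q8612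 (flp_b L158537) q9897, e3 q8613 L180473 q12858, e3 q8614 (flp_b L175747) q12269, e3 q8615 L178078 q12564, e3 q8616 (flp_b L144249) q5228, e3 q8617 (flp_b L158664) q9914, e3 q8618 L180525 q12864, e3 q8619 (flp_b L176135) q12327, e3 q8620 L178038 q12558, e3 q8621 (flp_b L144287) q8227, e3 q8622 L144299 q5234, e3 q8623 (flp_b L166392) q10882, e3 q8624 (flp_b L144313) q8231, e3 q8625 L144325 q5238, e3 q8626 (flp_b L166342) q10874, e3 q8627 (flp_b L144333) q5233, e3 q8628 (flp_b L144337) q5235, e3 q8629 L180591 q12873, e3 q8630 (flp_b L166384) q10881, e3 q8631 L144353 q8610, e3 q8632 (flp_b L144355) q5237, e3 q8633 (flp_b L144359) q5239, e3 q8634 L180659 q12885, e3 q8635 (flp_b L166334) q10873, e3 q8636 L144375 q8607, e3 q8637 (flp_b L180433) q12853, e3 q8638 (flp_b L157827) q9773, e3 q8639 L144395 q5275, trivial⟩ (by decide +kernel)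

theorem ce_b_135 : ∀ r, r < 64 → sm gb (Qf (8640 + r)) = Qf (tab Gen.b (8640 + r)) :=
  edges_tab (sm gb) Qf (tab Gen.b) 8640 [(8640, 8726), (8641, 9560), (8642, 8788), (8643, 12894), (8644, 5244), (8645, 12898), (8646, 12896), (8647, 8711), (8648, 5246), (8649, 12902), (8650, 12545), (8651, 12904), (8652, 12905), (8653, 12859), (8654, 9827), (8655, 8771), (8656, 5298), (8657, 9598), (8658, 8825), (8659, 12909), (8660, 5252), (8661, 12913), (8662, 12911), (8663, 8756), (8664, 5254), (8665, 12917), (8666, 12536), (8667, 12919), (8668, 12920), (8669, 7002), (8670, 12922), (8671, 5258), (8672, 5259), (8673, 12927), (8674, 12926), (8675, 12928), (8676, 5261), (8677, 5262), (8678, 12935), (8679, 10923), (8680, 12936), (8681, 7018), (8682, 12938), (8683, 5266), (8684, 5267), (8685, 12943), (8686, 12942), (8687, 12944), (8688, 5269), (8689, 5270), (8690, 12951), (8691, 10932), (8692, 12952), (8693, 5319), (8694, 11268), (8695, 12956), (8696, 5274), (8697, 12957), (8698, 11682), (8699, 12965), (8700, 11457), (8701, 5276),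 (8702, 12970), (8703, 5278)]
    ⟨e3 q8640 (flp_b L144921) q8726, e3 q8641 (flp_b L156348) q9560, e3 q8642 (flp_b L145294) q8788, e3 q8643 L180723 q12894, e3 q8644 (flp_b L144419) q5244, e3 q8645 L180743 q12898, e3 q8646 (flp_b L180735) q12896, e3 q8647 (flp_b L144837) q8711, e3 q8648 (flp_b L144439) q5246, e3 q8649 L180769 q12902, e3 q8650 (flp_b L177937) q12545, e3 q8651 L180785 q12904, e3 q8652 L180795 q12905, e3 q8653 (flp_b L180485) q12859, e3 q8654 (flp_b L158133) q9827, e3 q8655 (flp_b L145188) q8771, e3 q8656 L144489 q5298, e3 q8657 (flp_b L156595) q9598, e3 q8658 L150904 q8825, e3 q8659 L180831 q12909, e3 q8660 (flp_b L144511) q5252, e3 q8661 L180851 q12913, e3 q8662 (flp_b L180843) q12911, e3 q8663 (flp_b L145104) q8756, e3 q8664 (flp_b L144531) q5254, e3 q8665 L180879 q12917, e3 q8666 (flp_b L177872) q12536, e3 q8667 L180895 q12919, e3 q8668 L180905 q12920, e3 q8669 L144575 q7002, e3 q8670 L180927 q12922, e3 q8671 (flp_b L144583) q5258, e3 q8672 (flp_b L144587) q5259, e3 q8673 L180961 q12927, e3 q8674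 L180959 q12926, e3 q8675 L180965 q12928, e3 q8676 (flp_b L144605) q5261, e3 q8677 (flp_b L144609) q5262, e3 q8678 L181001 q12935, e3 q8679 L166696 q10923, e3 q8680 L181005 q12936, e3 q8681 L149731 q7018, e3 q8682 L181023 q12938, e3 q8683 (flp_b L144657) q5266, e3 q8684 (flp_b L144661) q5267, e3 q8685 L181057 q12943, e3 q8686 L181055 q12942, e3 q8687 L181063 q12944, e3 q8688 (flp_b L144685) q5269, e3 q8689 (flp_b L144689) q5270, e3 q8690 L181109 q12951, e3 q8691 L166744 q10932, e3 q8692 L181115 q12952, e3 q8693 L144737 q5319, e3 q8694 (flp_b L168899) q11268, e3 q8695 L181149 q12956, e3 q8696 (flp_b L144753) q5274, e3 q8697 (flp_b L181161) q12957, e3 q8698 (flp_b L171498) q11682, e3 q8699 L181201 q12965, e3 q8700 (flp_b L170090) q11457, e3 q8701 (flp_b L144781) q5276, e3 q8702 L181241 q12970, e3 q8703 L144797 q5278, trivial⟩ (by decide +kernel)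

theorem ce_b_136 : ∀ r, r < 64 → sm gb (Qf (8704 + r)) = Qf (tab Gen.b (8704 + r)) :=
  edges_tab (sm gb) Qf (tab Gen.b) 8704 [(8704, 9671), (8705, 12975), (8706, 12971), (8707, 12978), (8708, 5279), (8709, 12982), (8710, 12980), (8711, 8647), (8712, 12987), (8713, 5282), (8714, 12992), (8715, 12993), (8716, 5286), (8717, 12997), (8718, 5284), (8719, 5285), (8720, 13005), (8721, 12995), (8722, 13009), (8723, 5287), (8724, 12520), (8725, 12999), (8726, 8640), (8727, 8772), (8728, 7979), (8729, 10568), (8730, 13004), (8731, 5290), (8732, 13023), (8733, 12369), (8734, 5291), (8735, 5336), (8736, 8736), (8737, 5294), (8738, 5339), (8739, 13032), (8740, 11429), (8741, 5296), (8742, 13033), (8743, 13040), (8744, 11685), (8745, 5297), (8746, 12984), (8747, 11299), (8748, 5300), (8749, 13049), (8750, 9693), (8751, 13046), (8752, 13053), (8753, 5301), (8754, 13057), (8755, 13055), (8756, 8663), (8757, 13061), (8758, 5304), (8759, 13066), (8760, 13067), (8761, 5308), (8762, 13071), (8763, 5306), (8764, 5307), (8765, 13079),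 (8766, 13069), (8767, 13080)]
    ⟨e3 q8704 (flp_b L157167) q9671, e3 q8705 L181269 q12975, e3 q8706 (flp_b L181251) q12971, e3 q8707 L181295 q12978, e3 q8708 (flp_b L144821) q5279, e3 q8709 L181315 q12982, e3 q8710 (flp_b L181307) q12980, e3 q8711 L144837 q8647, e3 q8712 L181351 q12987, e3 q8713 (flp_b L144845) q5282, e3 q8714 L181383 q12992, e3 q8715 L181387 q12993, e3 q8716 L144871 q5286, e3 q8717 L181417 q12997, e3 q8718 (flp_b L144877) q5284, e3 q8719 (flp_b L144881) q5285, e3 q8720 L181463 q13005, e3 q8721 (flp_b L181407) q12995, e3 q8722 L181497 q13009, e3 q8723 (flp_b L144903) q5287, e3 q8724 L177757 q12520, e3 q8725 (flp_b L181431) q12999, e3 q8726 L144921 q8640, e3 q8727 (flp_b L145194) q8772, e3 q8728 (flp_b L144931) q7979, e3 q8729 (flp_b L163105) q10568, e3 q8730 (flp_b L181461) q13004, e3 q8731 (flp_b L144945) q5290, e3 q8732 (flp_b L181603) q13023, e3 q8733 (flp_b L176518) q12369, e3 q8734 (flp_b L144967) q5291, e3 q8735 L144975 q5336, e3 q8736 L144983 q8736, e3 q8737 (flp_b L144994) q5294, e3 q8738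 (flp_b L145006) q5339, e3 q8739 L181671 q13032, e3 q8740 (flp_b L169908) q11429, e3 q8741 (flp_b L145020) q5296, e3 q8742 (flp_b L181683) q13033, e3 q8743 L181715 q13040, e3 q8744 (flp_b L171514) q11685, e3 q8745 (flp_b L145042) q5297, e3 q8746 (flp_b L181341) q12984, e3 q8747 (flp_b L169095) q11299, e3 q8748 L145064 q5300, e3 q8749 L181781 q13049, e3 q8750 (flp_b L157277) q9693, e3 q8751 (flp_b L181769) q13046, e3 q8752 L181813 q13053, e3 q8753 (flp_b L145088) q5301, e3 q8754 L181833 q13057, e3 q8755 (flp_b L181825) q13055, e3 q8756 L145104 q8663, e3 q8757 L181859 q13061, e3 q8758 (flp_b L145112) q5304, e3 q8759 L181891 q13066, e3 q8760 L181895 q13067, e3 q8761 L145138 q5308, e3 q8762 L181925 q13071, e3 q8763 (flp_b L145144) q5306, e3 q8764 (flp_b L145148) q5307, e3 q8765 L181971 q13079, e3 q8766 (flp_b L181915) q13069, e3 q8767 L181977 q13080, trivial⟩ (by decide +kernel)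

theorem ce_b_137 : ∀ r, r < 64 → sm gb (Qf (8768 + r)) = Qf (tab Gen.b (8768 + r)) :=
  edges_tab (sm gb) Qf (tab Gen.b) 8768 [(8768, 5309), (8769, 12517), (8770, 13073), (8771, 8655), (8772, 8727), (8773, 8038), (8774, 13077), (8775, 10619), (8776, 5312), (8777, 13094), (8778, 12410), (8779, 5313), (8780, 5356), (8781, 8781), (8782, 5316), (8783, 8783), (8784, 8310), (8785, 12953), (8786, 6537), (8787, 13104), (8788, 8642), (8789, 5323), (8790, 7171), (8791, 12716), (8792, 13109), (8793, 13110), (8794, 5324), (8795, 13114), (8796, 13115), (8797, 12721), (8798, 13120), (8799, 5326), (8800, 5327), (8801, 7925), (8802, 13127), (8803, 5332), (8804, 13131), (8805, 5329), (8806, 13135), (8807, 12246), (8808, 5359), (8809, 5331), (8810, 13139), (8811, 13142), (8812, 13129), (8813, 13144), (8814, 5334), (8815, 8815), (8816, 13140), (8817, 13149), (8818, 5335), (8819, 13155), (8820, 8316), (8821, 8821), (8822, 13029), (8823, 13163), (8824, 6576), (8825, 8658), (8826, 5343), (8827, 12687), (8828, 7273), (8829, 13168), (8830,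 13169), (8831, 5344)]
    ⟨e3 q8768 (flp_b L145170) q5309, e3 q8769 L177731 q12517, e3 q8770 (flp_b L181939) q13073, e3 q8771 L145188 q8655, e3 q8772 L145194 q8727, e3 q8773 (flp_b L151427) q8038, e3 q8774 (flp_b L181961) q13077, e3 q8775 (flp_b L164410) q10619, e3 q8776 (flp_b L145208) q5312, e3 q8777 (flp_b L182085) q13094, e3 q8778 (flp_b L176905) q12410, e3 q8779 (flp_b L145226) q5313, e3 q8780 L145234 q5356, e3 q8781 L145242 q8781, e3 q8782 (flp_b L145253) q5316, e3 q8783 L145265 q8783, e3 q8784 L145272 q8310, e3 q8785 (flp_b L181127) q12953, e3 q8786 (flp_b L145284) q6537, e3 q8787 L182171 q13104, e3 q8788 L145294 q8642, e3 q8789 L145304 q5323, e3 q8790 L145320 q7171, e3 q8791 (flp_b L179341) q12716, e3 q8792 L182215 q13109, e3 q8793 L182221 q13110, e3 q8794 (flp_b L145340) q5324, e3 q8795 L182243 q13114, e3 q8796 L182249 q13115, e3 q8797 (flp_b L179375) q12721, e3 q8798 L182279 q13120, e3 q8799 (flp_b L145368) q5326, e3 q8800 (flp_b L145372) q5327, e3 q8801 L150861 q7925, e3 q8802 L182323 q13127, e3 q8803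 L145396 q5332, e3 q8804 L182341 q13131, e3 q8805 (flp_b L145404) q5329, e3 q8806 L182367 q13135, e3 q8807 L175601 q12246, e3 q8808 L145426 q5359, e3 q8809 (flp_b L145428) q5331, e3 q8810 (flp_b L182393) q13139, e3 q8811 L182411 q13142, e3 q8812 (flp_b L182333) q13129, e3 q8813 L182421 q13144, e3 q8814 L145456 q5334, e3 q8815 L145462 q8815, e3 q8816 (flp_b L182399) q13140, e3 q8817 (flp_b L182445) q13149, e3 q8818 (flp_b L145474) q5335, e3 q8819 (flp_b L182476) q13155, e3 q8820 L145497 q8316, e3 q8821 L145505 q8821, e3 q8822 (flp_b L181649) q13029, e3 q8823 L182533 q13163, e3 q8824 L150894 q6576, e3 q8825 (flp_b L150904) q8658, e3 q8826 L145536 q5343, e3 q8827 (flp_b L179143) q12687, e3 q8828 (flp_b L150406) q7273, e3 q8829 L182577 q13168, e3 q8830 L182581 q13169, e3 q8831 (flp_b L145562) q5344, trivial⟩ (by decide +kernel)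

theorem ce_b_138 : ∀ r, r < 64 → sm gb (Qf (8832 + r)) = Qf (tab Gen.b (8832 + r)) :=
  edges_tab (sm gb) Qf (tab Gen.b) 8832 [(8832, 13173), (8833, 13174), (8834, 12728), (8835, 13179), (8836, 5346), (8837, 5347), (8838, 7771), (8839, 13186), (8840, 5352), (8841, 13190), (8842, 5349), (8843, 13194), (8844, 12306), (8845, 5369), (8846, 5351), (8847, 13198), (8848, 13201), (8849, 13188), (8850, 13203), (8851, 5354), (8852, 13199), (8853, 8853), (8854, 13208), (8855, 5355), (8856, 13214), (8857, 10947), (8858, 13218), (8859, 13124), (8860, 13220), (8861, 5362), (8862, 13222), (8863, 5363), (8864, 13224), (8865, 5364), (8866, 7053), (8867, 5366), (8868, 8868), (8869, 13226), (8870, 13234), (8871, 10959), (8872, 13238), (8873, 13183), (8874, 13240), (8875, 5372), (8876, 13242), (8877, 5373), (8878, 13244), (8879, 5374), (8880, 7081), (8881, 5376), (8882, 13245), (8883, 13253), (8884, 7191), (8885, 8899), (8886, 7292), (8887, 8893), (8888, 5379), (8889, 6670), (8890, 5381), (8891, 9061), (8892, 8898), (8893, 8887),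 (8894, 5383), (8895, 6622)]
    ⟨e3 q8832 L182605 q13173, e3 q8833 L182611 q13174, e3 q8834 (flp_b L179425) q12728, e3 q8835 L182641 q13179, e3 q8836 (flp_b L145590) q5346, e3 q8837 (flp_b L145594) q5347, e3 q8838 L151552 q7771, e3 q8839 L182685 q13186, e3 q8840 L145614 q5352, e3 q8841 L182703 q13190, e3 q8842 (flp_b L145622) q5349, e3 q8843 L182735 q13194, e3 q8844 L176001 q12306, e3 q8845 L145650 q5369, e3 q8846 (flp_b L145652) q5351, e3 q8847 (flp_b L182773) q13198, e3 q8848 L182793 q13201, e3 q8849 (flp_b L182695) q13188, e3 q8850 L182803 q13203, e3 q8851 L145684 q5354, e3 q8852 (flp_b L182781) q13199, e3 q8853 L145698 q8853, e3 q8854 (flp_b L182831) q13208, e3 q8855 (flp_b L145706) q5355, e3 q8856 (flp_b L182866) q13214, e3 q8857 (flp_b L166842) q10947, e3 q8858 L182885 q13218, e3 q8859 (flp_b L182305) q13124, e3 q8860 L182901 q13220, e3 q8861 L145746 q5362, e3 q8862 L182912 q13222, e3 q8863 (flp_b L145762) q5363, e3 q8864 (flp_b L182928) q13224, e3 q8865 (flp_b L145776) q5364, e3 q8866 (flp_b L214040) q7053,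 e3 q8867 L145785 q5366, e3 q8868 L145790 q8868, e3 q8869 (flp_b L182940) q13226, e3 q8870 (flp_b L182989) q13234, e3 q8871 (flp_b L166925) q10959, e3 q8872 L183024 q13238, e3 q8873 (flp_b L182667) q13183, e3 q8874 L183040 q13240, e3 q8875 L145862 q5372, e3 q8876 L183055 q13242, e3 q8877 (flp_b L145882) q5373, e3 q8878 (flp_b L183073) q13244, e3 q8879 (flp_b L145898) q5374, e3 q8880 (flp_b L214361) q7081, e3 q8881 L145909 q5376, e3 q8882 (flp_b L183083) q13245, e3 q8883 (flp_b L183144) q13253, e3 q8884 (flp_b L145931) q7191, e3 q8885 (flp_b L146074) q8899, e3 q8886 L148544 q7292, e3 q8887 (flp_b L145975) q8893, e3 q8888 (flp_b L145943) q5379, e3 q8889 (flp_b L148465) q6670, e3 q8890 (flp_b L145965) q5381, e3 q8891 (flp_b L152562) q9061, e3 q8892 (flp_b L146054) q8898, e3 q8893 L145975 q8887, e3 q8894 (flp_b L145977) q5383, e3 q8895 L146001 q6622, trivial⟩ (by decide +kernel)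

theorem ce_b_139 : ∀ r, r < 64 → sm gb (Qf (8896 + r)) = Qf (tab Gen.b (8896 + r)) :=
  edges_tab (sm gb) Qf (tab Gen.b) 8896 [(8896, 5385), (8897, 8999), (8898, 8892), (8899, 8885), (8900, 5397), (8901, 9896), (8902, 8260), (8903, 9066), (8904, 6582), (8905, 5389), (8906, 5390), (8907, 5413), (8908, 9913), (8909, 9005), (8910, 8271), (8911, 6543), (8912, 5394), (8913, 5395), (8914, 7310), (8915, 9059), (8916, 11455), (8917, 13257), (8918, 5402), (8919, 11981), (8920, 5405), (8921, 8972), (8922, 5404), (8923, 8939), (8924, 13265), (8925, 12787), (8926, 5408), (8927, 13269), (8928, 5411), (8929, 5412), (8930, 7210), (8931, 8997), (8932, 11296), (8933, 13270), (8934, 5418), (8935, 12179), (8936, 5421), (8937, 9038), (8938, 5420), (8939, 8923), (8940, 13278), (8941, 12762), (8942, 5424), (8943, 13282), (8944, 5427), (8945, 5428), (8946, 5518), (8947, 6538), (8948, 7485), (8949, 5430), (8950, 5431), (8951, 10293), (8952, 12022), (8953, 9370), (8954, 10488), (8955, 13285), (8956, 5435), (8957, 13288), (8958, 5436),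 (8959, 8500)]
    ⟨e3 q8896 (flp_b L145993) q5385, e3 q8897 (flp_b L152136) q8999, e3 q8898 L146054 q8892, e3 q8899 L146074 q8885, e3 q8900 L146098 q5397, e3 q8901 (flp_b L158529) q9896, e3 q8902 L146116 q8260, e3 q8903 L152600 q9066, e3 q8904 L149572 q6582, e3 q8905 (flp_b L146130) q5389, e3 q8906 (flp_b L146132) q5390, e3 q8907 L146144 q5413, e3 q8908 (flp_b L158656) q9913, e3 q8909 L152192 q9005, e3 q8910 L150809 q8271, e3 q8911 L146170 q6543, e3 q8912 (flp_b L151570) q5394, e3 q8913 (flp_b L151576) q5395, e3 q8914 (flp_b L151590) q7310, e3 q8915 L152552 q9059, e3 q8916 (flp_b L170070) q11455, e3 q8917 L183183 q13257, e3 q8918 (flp_b L151616) q5402, e3 q8919 (flp_b L183213) q11981, e3 q8920 L151624 q5405, e3 q8921 (flp_b L151990) q8972, e3 q8922 (flp_b L151628) q5404, e3 q8923 (flp_b L151756) q8939, e3 q8924 L183249 q13265, e3 q8925 (flp_b L179909) q12787, e3 q8926 (flp_b L151656) q5408, e3 q8927 L183277 q13269, e3 q8928 (flp_b L151678) q5411, e3 q8929 (flp_b L151690) q5412, e3 q8930 L151698 q7210, e3 q8931 (flp_b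 L152158) q8997, e3 q8932 (flp_b L169065) q11296, e3 q8933 L183281 q13270, e3 q8934 (flp_b L151724) q5418, e3 q8935 (flp_b L175140) q12179, e3 q8936 L151732 q5421, e3 q8937 (flp_b L152434) q9038, e3 q8938 (flp_b L151736) q5420, e3 q8939 L151756 q8923, e3 q8940 L183331 q13278, e3 q8941 (flp_b L179691) q12762, e3 q8942 (flp_b L151766) q5424, e3 q8943 L183359 q13282, e3 q8944 (flp_b L151788) q5427, e3 q8945 (flp_b L151800) q5428, e3 q8946 L151808 q5518, e3 q8947 L151842 q6538, e3 q8948 (flp_b L151852) q7485, e3 q8949 (flp_b L151854) q5430, e3 q8950 (flp_b L151864) q5431, e3 q8951 (flp_b L161166) q10293, e3 q8952 L173881 q12022, e3 q8953 (flp_b L154920) q9370, e3 q8954 (flp_b L162500) q10488, e3 q8955 L183383 q13285, e3 q8956 (flp_b L151894) q5435, e3 q8957 L183439 q13288, e3 q8958 (flp_b L151904) q5436, e3 q8959 L151922 q8500, trivial⟩ (by decide +kernel)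

theorem ce_b_140 : ∀ r, r < 64 → sm gb (Qf (8960 + r)) = Qf (tab Gen.b (8960 + r)) :=
  edges_tab (sm gb) Qf (tab Gen.b) 8960 [(8960, 13286), (8961, 9027), (8962, 5438), (8963, 5442), (8964, 13291), (8965, 13293), (8966, 5441), (8967, 13297), (8968, 13298), (8969, 5443), (8970, 13302), (8971, 5446), (8972, 8921), (8973, 5445), (8974, 8496), (8975, 5481), (8976, 12261), (8977, 13308), (8978, 5448), (8979, 13311), (8980, 10397), (8981, 13300), (8982, 5450), (8983, 5451), (8984, 7923), (8985, 5457), (8986, 13318), (8987, 5453), (8988, 13322), (8989, 5461), (8990, 6049), (8991, 10608), (8992, 13328), (8993, 9012), (8994, 5466), (8995, 5456), (8996, 5458), (8997, 8931), (8998, 13335), (8999, 8897), (9000, 13337), (9001, 8270), (9002, 13338), (9003, 9065), (9004, 12567), (9005, 8909), (9006, 13339), (9007, 8255), (9008, 13340), (9009, 5468), (9010, 13333), (9011, 12569), (9012, 8993), (9013, 5562), (9014, 7494), (9015, 6578), (9016, 5474), (9017, 5475), (9018, 12205), (9019, 10295), (9020, 9372), (9021, 10534), (9022,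 5478), (9023, 13348)]
    ⟨e3 q8960 (flp_b L183391) q13286, e3 q8961 (flp_b L152374) q9027, e3 q8962 (flp_b L151938) q5438, e3 q8963 L151942 q5442, e3 q8964 L183467 q13291, e3 q8965 L183485 q13293, e3 q8966 (flp_b L151956) q5441, e3 q8967 L183509 q13297, e3 q8968 L183511 q13298, e3 q8969 (flp_b L151978) q5443, e3 q8970 L183557 q13302, e3 q8971 L151986 q5446, e3 q8972 L151990 q8921, e3 q8973 (flp_b L151992) q5445, e3 q8974 (flp_b L152002) q8496, e3 q8975 (flp_b L152010) q5481, e3 q8976 (flp_b L175695) q12261, e3 q8977 L183603 q13308, e3 q8978 (flp_b L152018) q5448, e3 q8979 L183623 q13311, e3 q8980 (flp_b L161910) q10397, e3 q8981 (flp_b L183525) q13300, e3 q8982 (flp_b L152048) q5450, e3 q8983 (flp_b L152054) q5451, e3 q8984 L152066 q7923, e3 q8985 L152070 q5457, e3 q8986 L183687 q13318, e3 q8987 (flp_b L152078) q5453, e3 q8988 L183705 q13322, e3 q8989 L152086 q5461, e3 q8990 L152092 q6049, e3 q8991 (flp_b L164316) q10608, e3 q8992 L183745 q13328, e3 q8993 (flp_b L152242) q9012, e3 q8994 L152112 q5466, e3 q8995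 (flp_b L152114) q5456, e3 q8996 (flp_b L152120) q5458, e3 q8997 L152158 q8931, e3 q8998 (flp_b L183801) q13335, e3 q8999 L152136 q8897, e3 q9000 L183817 q13337, e3 q9001 L152150 q8270, e3 q9002 L183823 q13338, e3 q9003 (flp_b L152590) q9065, e3 q9004 (flp_b L178101) q12567, e3 q9005 (flp_b L152192) q8909, e3 q9006 L183835 q13339, e3 q9007 L152218 q8255, e3 q9008 L183843 q13340, e3 q9009 L152228 q5468, e3 q9010 (flp_b L183789) q13333, e3 q9011 (flp_b L178125) q12569, e3 q9012 L152242 q8993, e3 q9013 L152266 q5562, e3 q9014 (flp_b L152282) q7494, e3 q9015 L152292 q6578, e3 q9016 (flp_b L152294) q5474, e3 q9017 (flp_b L152296) q5475, e3 q9018 L175294 q12205, e3 q9019 (flp_b L161180) q10295, e3 q9020 (flp_b L154934) q9372, e3 q9021 L162790 q10534, e3 q9022 (flp_b L152332) q5478, e3 q9023 L183913 q13348, trivial⟩ (by decide +kernel)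

theorem ce_b_141 : ∀ r, r < 64 → sm gb (Qf (9024 + r)) = Qf (tab Gen.b (9024 + r)) :=
  edges_tab (sm gb) Qf (tab Gen.b) 9024 [(9024, 13349), (9025, 8529), (9026, 13346), (9027, 8961), (9028, 5482), (9029, 5486), (9030, 13351), (9031, 5484), (9032, 13356), (9033, 13357), (9034, 13358), (9035, 5487), (9036, 13362), (9037, 5490), (9038, 8937), (9039, 5489), (9040, 8525), (9041, 12318), (9042, 13367), (9043, 5492), (9044, 13370), (9045, 10431), (9046, 13360), (9047, 5494), (9048, 5495), (9049, 7766), (9050, 13343), (9051, 5497), (9052, 13377), (9053, 5502), (9054, 6087), (9055, 10554), (9056, 13316), (9057, 5506), (9058, 9073), (9059, 8915), (9060, 13342), (9061, 8891), (9062, 13325), (9063, 8281), (9064, 13336), (9065, 9003), (9066, 8903), (9067, 12568), (9068, 13385), (9069, 8258), (9070, 13386), (9071, 13317), (9072, 12575), (9073, 9058), (9074, 10646), (9075, 13387), (9076, 9076), (9077, 9077), (9078, 8337), (9079, 13391), (9080, 13392), (9081, 13283), (9082, 5520), (9083, 12805), (9084, 5523), (9085, 5524), (9086,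 5528), (9087, 13398)]
    ⟨e3 q9024 L183923 q13349, e3 q9025 (flp_b L152358) q8529, e3 q9026 (flp_b L183891) q13346, e3 q9027 L152374 q8961, e3 q9028 (flp_b L152376) q5482, e3 q9029 L152386 q5486, e3 q9030 L183935 q13351, e3 q9031 (flp_b L152396) q5484, e3 q9032 L183967 q13356, e3 q9033 L183969 q13357, e3 q9034 L183979 q13358, e3 q9035 (flp_b L152422) q5487, e3 q9036 L184011 q13362, e3 q9037 L152430 q5490, e3 q9038 L152434 q8937, e3 q9039 (flp_b L152436) q5489, e3 q9040 (flp_b L152448) q8525, e3 q9041 (flp_b L176073) q12318, e3 q9042 L184045 q13367, e3 q9043 (flp_b L152456) q5492, e3 q9044 L184065 q13370, e3 q9045 (flp_b L162142) q10431, e3 q9046 (flp_b L183993) q13360, e3 q9047 (flp_b L152486) q5494, e3 q9048 (flp_b L152492) q5495, e3 q9049 L152504 q7766, e3 q9050 (flp_b L183867) q13343, e3 q9051 (flp_b L152510) q5497, e3 q9052 L184113 q13377, e3 q9053 L152518 q5502, e3 q9054 L152524 q6087, e3 q9055 (flp_b L162991) q10554, e3 q9056 (flp_b L183671) q13316, e3 q9057 L152538 q5506, e3 q9058 (flp_b L152648) q9073,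 e3 q9059 (flp_b L152552) q8915, e3 q9060 (flp_b L183859) q13342, e3 q9061 L152562 q8891, e3 q9062 L183729 q13325, e3 q9063 L152576 q8281, e3 q9064 (flp_b L183813) q13336, e3 q9065 L152590 q9003, e3 q9066 (flp_b L152600) q8903, e3 q9067 (flp_b L178111) q12568, e3 q9068 L184165 q13385, e3 q9069 (flp_b L152624) q8258, e3 q9070 L184173 q13386, e3 q9071 (flp_b L183685) q13317, e3 q9072 L178183 q12575, e3 q9073 L152648 q9058, e3 q9074 (flp_b L164601) q10646, e3 q9075 L184179 q13387, e3 q9076 L152668 q9076, e3 q9077 L152679 q9077, e3 q9078 L152684 q8337, e3 q9079 L184223 q13391, e3 q9080 L184226 q13392, e3 q9081 (flp_b L183367) q13283, e3 q9082 (flp_b L152708) q5520, e3 q9083 (flp_b L180057) q12805, e3 q9084 (flp_b L152720) q5523, e3 q9085 (flp_b L152726) q5524, e3 q9086 L152730 q5528, e3 q9087 L184264 q13398, trivial⟩ (by decide +kernel)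

theorem ce_b_142 : ∀ r, r < 64 → sm gb (Qf (9088 + r)) = Qf (tab Gen.b (9088 + r)) :=
  edges_tab (sm gb) Qf (tab Gen.b) 9088 [(9088, 6102), (9089, 5527), (9090, 10300), (9091, 13400), (9092, 5529), (9093, 6347), (9094, 10219), (9095, 13402), (9096, 5532), (9097, 5535), (9098, 10459), (9099, 6608), (9100, 7712), (9101, 13408), (9102, 5539), (9103, 13412), (9104, 5549), (9105, 5541), (9106, 13382), (9107, 12237), (9108, 13416), (9109, 5543), (9110, 13418), (9111, 13419), (9112, 12774), (9113, 5547), (9114, 5553), (9115, 13422), (9116, 5548), (9117, 13425), (9118, 5550), (9119, 13427), (9120, 13431), (9121, 13432), (9122, 5554), (9123, 13433), (9124, 13434), (9125, 13435), (9126, 5556), (9127, 13426), (9128, 13439), (9129, 10731), (9130, 9130), (9131, 8345), (9132, 9132), (9133, 13443), (9134, 13444), (9135, 13344), (9136, 5563), (9137, 12780), (9138, 5567), (9139, 5568), (9140, 5572), (9141, 13450), (9142, 5570), (9143, 10298), (9144, 6064), (9145, 13452), (9146, 5573), (9147, 6367), (9148, 10255), (9149, 13454),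 (9150, 5576), (9151, 5579)]
    ⟨e3 q9088 (flp_b L157769) q6102, e3 q9089 (flp_b L152744) q5527, e3 q9090 (flp_b L161214) q10300, e3 q9091 L184286 q13400, e3 q9092 (flp_b L152764) q5529, e3 q9093 L152772 q6347, e3 q9094 (flp_b L160728) q10219, e3 q9095 L184304 q13402, e3 q9096 (flp_b L152788) q5532, e3 q9097 (flp_b L152792) q5535, e3 q9098 L183543 q10459, e3 q9099 L152814 q6608, e3 q9100 L152820 q7712, e3 q9101 L184360 q13408, e3 q9102 (flp_b L152830) q5539, e3 q9103 L184384 q13412, e3 q9104 L152844 q5549, e3 q9105 (flp_b L152846) q5541, e3 q9106 (flp_b L184149) q13382, e3 q9107 (flp_b L175539) q12237, e3 q9108 L184406 q13416, e3 q9109 (flp_b L152864) q5543, e3 q9110 L184422 q13418, e3 q9111 L184432 q13419, e3 q9112 L179785 q12774, e3 q9113 L152882 q5547, e3 q9114 L152886 q5553, e3 q9115 (flp_b L184452) q13422, e3 q9116 (flp_b L152896) q5548, e3 q9117 (flp_b L184474) q13425, e3 q9118 (flp_b L152908) q5550, e3 q9119 (flp_b L184490) q13427, e3 q9120 L184508 q13431, e3 q9121 L184516 q13432, e3 q9122 L152926 q5554,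 e3 q9123 L184518 q13433, e3 q9124 L184521 q13434, e3 q9125 L184523 q13435, e3 q9126 L152953 q5556, e3 q9127 (flp_b L184486) q13426, e3 q9128 L184549 q13439, e3 q9129 (flp_b L165212) q10731, e3 q9130 L153083 q9130, e3 q9131 L153090 q8345, e3 q9132 L153100 q9132, e3 q9133 L184593 q13443, e3 q9134 L184597 q13444, e3 q9135 (flp_b L183873) q13344, e3 q9136 (flp_b L153123) q5563, e3 q9137 (flp_b L179839) q12780, e3 q9138 (flp_b L153135) q5567, e3 q9139 (flp_b L153137) q5568, e3 q9140 L153145 q5572, e3 q9141 L184640 q13450, e3 q9142 (flp_b L153155) q5570, e3 q9143 (flp_b L161202) q10298, e3 q9144 (flp_b L157635) q6064, e3 q9145 L184662 q13452, e3 q9146 (flp_b L153179) q5573, e3 q9147 L153187 q6367, e3 q9148 (flp_b L160928) q10255, e3 q9149 L184680 q13454, e3 q9150 (flp_b L153203) q5576, e3 q9151 (flp_b L153207) q5579, trivial⟩ (by decide +kernel)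

theorem ce_b_143 : ∀ r, r < 64 → sm gb (Qf (9152 + r)) = Qf (tab Gen.b (9152 + r)) :=
  edges_tab (sm gb) Qf (tab Gen.b) 9152 [(9152, 10512), (9153, 6572), (9154, 7769), (9155, 13460), (9156, 5583), (9157, 13464), (9158, 5593), (9159, 5585), (9160, 13329), (9161, 12297), (9162, 13468), (9163, 5587), (9164, 13470), (9165, 13471), (9166, 12799), (9167, 5591), (9168, 5596), (9169, 13474), (9170, 5592), (9171, 13477), (9172, 5594), (9173, 13479), (9174, 13483), (9175, 13484), (9176, 5598), (9177, 13485), (9178, 13486), (9179, 13487), (9180, 5600), (9181, 13478), (9182, 5786), (9183, 9436), (9184, 9761), (9185, 13491), (9186, 5607), (9187, 5766), (9188, 9482), (9189, 13493), (9190, 5608), (9191, 5609), (9192, 9595), (9193, 5653), (9194, 5613), (9195, 13498), (9196, 13499), (9197, 5617), (9198, 5619), (9199, 5621), (9200, 5622), (9201, 12444), (9202, 5627), (9203, 10752), (9204, 6782), (9205, 8481), (9206, 5630), (9207, 12335), (9208, 5636), (9209, 13506), (9210, 13508), (9211, 9211), (9212, 5632), (9213, 13511), (9214,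 13512), (9215, 13517)]
    ⟨e3 q9152 L175838 q10512, e3 q9153 L153229 q6572, e3 q9154 L153235 q7769, e3 q9155 L184736 q13460, e3 q9156 (flp_b L153245) q5583, e3 q9157 L184760 q13464, e3 q9158 L153259 q5593, e3 q9159 (flp_b L153261) q5585, e3 q9160 (flp_b L183755) q13329, e3 q9161 (flp_b L175935) q12297, e3 q9162 L184784 q13468, e3 q9163 (flp_b L153285) q5587, e3 q9164 L184800 q13470, e3 q9165 L184810 q13471, e3 q9166 (flp_b L180001) q12799, e3 q9167 L153309 q5591, e3 q9168 L153315 q5596, e3 q9169 (flp_b L184840) q13474, e3 q9170 (flp_b L153325) q5592, e3 q9171 (flp_b L184866) q13477, e3 q9172 (flp_b L153337) q5594, e3 q9173 (flp_b L184882) q13479, e3 q9174 L184900 q13483, e3 q9175 L184902 q13484, e3 q9176 L153359 q5598, e3 q9177 L184910 q13485, e3 q9178 L184920 q13486, e3 q9179 L184923 q13487, e3 q9180 L153390 q5600, e3 q9181 (flp_b L184878) q13478, e3 q9182 L153508 q5786, e3 q9183 (flp_b L155412) q9436, e3 q9184 (flp_b L157767) q9761, e3 q9185 L184949 q13491, e3 q9186 L153546 q5607, e3 q9187 L153556 q5766, e3 q9188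 (flp_b L155750) q9482, e3 q9189 L184971 q13493, e3 q9190 (flp_b L153580) q5608, e3 q9191 (flp_b L153590) q5609, e3 q9192 (flp_b L156571) q9595, e3 q9193 L153606 q5653, e3 q9194 (flp_b L153608) q5613, e3 q9195 L185029 q13498, e3 q9196 L185041 q13499, e3 q9197 (flp_b L153630) q5617, e3 q9198 (flp_b L153638) q5619, e3 q9199 (flp_b L153650) q5621, e3 q9200 (flp_b L153658) q5622, e3 q9201 L177176 q12444, e3 q9202 (flp_b L153672) q5627, e3 q9203 (flp_b L165370) q10752, e3 q9204 L153690 q6782, e3 q9205 L154262 q8481, e3 q9206 L153698 q5630, e3 q9207 (flp_b L176209) q12335, e3 q9208 L153704 q5636, e3 q9209 (flp_b L185115) q13506, e3 q9210 L185127 q13508, e3 q9211 L153736 q9211, e3 q9212 (flp_b L153747) q5632, e3 q9213 (flp_b L185145) q13511, e3 q9214 (flp_b L185149) q13512, e3 q9215 L185185 q13517, trivial⟩ (by decide +kernel)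

theorem ce_b_144 : ∀ r, r < 64 → sm gb (Qf (9216 + r)) = Qf (tab Gen.b (9216 + r)) :=
  edges_tab (sm gb) Qf (tab Gen.b) 9216 [(9216, 8164), (9217, 5637), (9218, 13507), (9219, 9219), (9220, 12333), (9221, 13520), (9222, 5787), (9223, 9432), (9224, 9741), (9225, 13521), (9226, 5644), (9227, 5769), (9228, 9490), (9229, 5645), (9230, 5646), (9231, 9555), (9232, 5649), (9233, 13496), (9234, 5651), (9235, 5654), (9236, 5655), (9237, 12480), (9238, 5660), (9239, 10658), (9240, 6706), (9241, 8489), (9242, 5663), (9243, 5668), (9244, 12381), (9245, 13530), (9246, 13532), (9247, 9247), (9248, 5665), (9249, 13535), (9250, 13536), (9251, 8194), (9252, 13541), (9253, 5670), (9254, 13531), (9255, 12378), (9256, 9256), (9257, 13544), (9258, 10815), (9259, 13545), (9260, 13546), (9261, 5673), (9262, 13549), (9263, 5675), (9264, 9337), (9265, 10685), (9266, 9272), (9267, 5677), (9268, 5678), (9269, 6756), (9270, 13510), (9271, 6818), (9272, 9266), (9273, 5681), (9274, 6830), (9275, 5716), (9276, 5741), (9277, 9348), (9278, 9349),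 (9279, 5689)]
    ⟨e3 q9216 (flp_b L164051) q8164, e3 q9217 L153781 q5637, e3 q9218 (flp_b L185125) q13507, e3 q9219 L153799 q9219, e3 q9220 (flp_b L176187) q12333, e3 q9221 L185215 q13520, e3 q9222 L153820 q5787, e3 q9223 (flp_b L155394) q9432, e3 q9224 L157633 q9741, e3 q9225 L185219 q13521, e3 q9226 L153858 q5644, e3 q9227 L153868 q5769, e3 q9228 (flp_b L155796) q9490, e3 q9229 (flp_b L153880) q5645, e3 q9230 (flp_b L153882) q5646, e3 q9231 L156310 q9555, e3 q9232 (flp_b L153898) q5649, e3 q9233 (flp_b L185017) q13496, e3 q9234 (flp_b L153910) q5651, e3 q9235 (flp_b L153918) q5654, e3 q9236 (flp_b L153928) q5655, e3 q9237 (flp_b L177449) q12480, e3 q9238 (flp_b L153944) q5660, e3 q9239 (flp_b L164701) q10658, e3 q9240 L153962 q6706, e3 q9241 L154468 q8489, e3 q9242 L153970 q5663, e3 q9243 L153974 q5668, e3 q9244 (flp_b L176630) q12381, e3 q9245 (flp_b L185317) q13530, e3 q9246 L185329 q13532, e3 q9247 L154008 q9247, e3 q9248 (flp_b L154013) q5665, e3 q9249 (flp_b L185347) q13535, e3 q9250 (flp_b L185351) q13536,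 e3 q9251 (flp_b L154039) q8194, e3 q9252 L185387 q13541, e3 q9253 L154049 q5670, e3 q9254 (flp_b L185327) q13531, e3 q9255 (flp_b L176598) q12378, e3 q9256 L154073 q9256, e3 q9257 L185417 q13544, e3 q9258 (flp_b L165859) q10815, e3 q9259 L185421 q13545, e3 q9260 L185423 q13546, e3 q9261 (flp_b L154108) q5673, e3 q9262 L185441 q13549, e3 q9263 (flp_b L154122) q5675, e3 q9264 (flp_b L154674) q9337, e3 q9265 L164917 q10685, e3 q9266 (flp_b L154180) q9272, e3 q9267 (flp_b L154140) q5677, e3 q9268 (flp_b L154148) q5678, e3 q9269 L154166 q6756, e3 q9270 (flp_b L185137) q13510, e3 q9271 L154498 q6818, e3 q9272 L154180 q9266, e3 q9273 (flp_b L154182) q5681, e3 q9274 (flp_b L154198) q6830, e3 q9275 L154202 q5716, e3 q9276 (flp_b L154212) q5741, e3 q9277 (flp_b L154748) q9348, e3 q9278 (flp_b L154756) q9349, e3 q9279 (flp_b L154220) q5689, trivial⟩ (by decide +kernel)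

theorem ce_b_145 : ∀ r, r < 64 → sm gb (Qf (9280 + r)) = Qf (tab Gen.b (9280 + r)) :=
  edges_tab (sm gb) Qf (tab Gen.b) 9280 [(9280, 10764), (9281, 5690), (9282, 13513), (9283, 5698), (9284, 13560), (9285, 5692), (9286, 5693), (9287, 10765), (9288, 6787), (9289, 5696), (9290, 5725), (9291, 10844), (9292, 10841), (9293, 5697), (9294, 10820), (9295, 9317), (9296, 5699), (9297, 10704), (9298, 5702), (9299, 13564), (9300, 13567), (9301, 13566), (9302, 13570), (9303, 13571), (9304, 5703), (9305, 5704), (9306, 9325), (9307, 9326), (9308, 5708), (9309, 10753), (9310, 5709), (9311, 10836), (9312, 13576), (9313, 13577), (9314, 5712), (9315, 13580), (9316, 5713), (9317, 9295), (9318, 10769), (9319, 9324), (9320, 5717), (9321, 5718), (9322, 13534), (9323, 6744), (9324, 9319), (9325, 9306), (9326, 9307), (9327, 5724), (9328, 10680), (9329, 13537), (9330, 5731), (9331, 13586), (9332, 5727), (9333, 5728), (9334, 10681), (9335, 6712), (9336, 10823), (9337, 9264), (9338, 5732), (9339, 10786), (9340, 5735), (9341, 13590), (9342,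 13551), (9343, 13589)]
    ⟨e3 q9280 (flp_b L165486) q10764, e3 q9281 (flp_b L154226) q5690, e3 q9282 L185155 q13513, e3 q9283 L154234 q5698, e3 q9284 L185549 q13560, e3 q9285 (flp_b L154240) q5692, e3 q9286 (flp_b L154248) q5693, e3 q9287 L165500 q10765, e3 q9288 L154470 q6787, e3 q9289 L154274 q5696, e3 q9290 L154280 q5725, e3 q9291 L166106 q10844, e3 q9292 (flp_b L166086) q10841, e3 q9293 (flp_b L154292) q5697, e3 q9294 (flp_b L165901) q10820, e3 q9295 L154476 q9317, e3 q9296 (flp_b L154310) q5699, e3 q9297 (flp_b L165035) q10704, e3 q9298 L154336 q5702, e3 q9299 (flp_b L185591) q13564, e3 q9300 L185621 q13567, e3 q9301 (flp_b L185613) q13566, e3 q9302 L185663 q13570, e3 q9303 L185671 q13571, e3 q9304 (flp_b L154368) q5703, e3 q9305 (flp_b L154372) q5704, e3 q9306 (flp_b L154580) q9325, e3 q9307 (flp_b L154590) q9326, e3 q9308 L154396 q5708, e3 q9309 (flp_b L165380) q10753, e3 q9310 (flp_b L154406) q5709, e3 q9311 (flp_b L166042) q10836, e3 q9312 L185715 q13576, e3 q9313 L185717 q13577, e3 q9314 (flp_b L154438)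 q5712, e3 q9315 L185753 q13580, e3 q9316 (flp_b L154452) q5713, e3 q9317 (flp_b L154476) q9295, e3 q9318 L165532 q10769, e3 q9319 (flp_b L154576) q9324, e3 q9320 (flp_b L154482) q5717, e3 q9321 (flp_b L154530) q5718, e3 q9322 (flp_b L185339) q13534, e3 q9323 L154552 q6744, e3 q9324 L154576 q9319, e3 q9325 L154580 q9306, e3 q9326 L154590 q9307, e3 q9327 (flp_b L154592) q5724, e3 q9328 (flp_b L164873) q10680, e3 q9329 L185357 q13537, e3 q9330 L154608 q5731, e3 q9331 L185813 q13586, e3 q9332 (flp_b L154618) q5727, e3 q9333 (flp_b L154628) q5728, e3 q9334 L164887 q10681, e3 q9335 (flp_b L154654) q6712, e3 q9336 L165921 q10823, e3 q9337 L154674 q9264, e3 q9338 (flp_b L154666) q5732, e3 q9339 (flp_b L165660) q10786, e3 q9340 L154686 q5735, e3 q9341 L185861 q13590, e3 q9342 (flp_b L185465) q13551, e3 q9343 (flp_b L185853) q13589, trivial⟩ (by decide +kernel)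

theorem ce_b_146 : ∀ r, r < 64 → sm gb (Qf (9344 + r)) = Qf (tab Gen.b (9344 + r)) :=
  edges_tab (sm gb) Qf (tab Gen.b) 9344 [(9344, 13592), (9345, 13553), (9346, 5736), (9347, 5737), (9348, 9277), (9349, 9278), (9350, 10669), (9351, 5742), (9352, 5743), (9353, 5744), (9354, 5745), (9355, 5746), (9356, 6613), (9357, 6661), (9358, 10811), (9359, 10832), (9360, 5754), (9361, 5755), (9362, 7671), (9363, 5816), (9364, 7477), (9365, 7835), (9366, 5820), (9367, 7472), (9368, 5758), (9369, 5759), (9370, 8953), (9371, 9387), (9372, 9020), (9373, 9383), (9374, 9553), (9375, 13621), (9376, 5763), (9377, 9591), (9378, 13625), (9379, 5765), (9380, 5767), (9381, 13632), (9382, 13598), (9383, 9373), (9384, 5770), (9385, 13641), (9386, 13601), (9387, 9371), (9388, 6503), (9389, 6468), (9390, 5774), (9391, 13648), (9392, 5874), (9393, 6302), (9394, 9601), (9395, 5777), (9396, 13650), (9397, 5883), (9398, 6276), (9399, 9563), (9400, 9527), (9401, 13652), (9402, 5781), (9403, 5782), (9404, 13657), (9405, 9540), (9406, 5784), (9407,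 5785)]
    ⟨e3 q9344 L185883 q13592, e3 q9345 (flp_b L185491) q13553, e3 q9346 (flp_b L154732) q5736, e3 q9347 (flp_b L154738) q5737, e3 q9348 L154748 q9277, e3 q9349 L154756 q9278, e3 q9350 (flp_b L164771) q10669, e3 q9351 L154774 q5742, e3 q9352 (flp_b L154776) q5743, e3 q9353 (flp_b L154786) q5744, e3 q9354 (flp_b L154796) q5745, e3 q9355 (flp_b L154803) q5746, e3 q9356 (flp_b L154816) q6613, e3 q9357 (flp_b L154824) q6661, e3 q9358 (flp_b L165828) q10811, e3 q9359 (flp_b L165999) q10832, e3 q9360 (flp_b L154844) q5754, e3 q9361 (flp_b L154853) q5755, e3 q9362 (flp_b L154867) q7671, e3 q9363 L154872 q5816, e3 q9364 L154876 q7477, e3 q9365 L154883 q7835, e3 q9366 L154888 q5820, e3 q9367 L154892 q7472, e3 q9368 (flp_b L154894) q5758, e3 q9369 (flp_b L154904) q5759, e3 q9370 L154920 q8953, e3 q9371 (flp_b L155024) q9387, e3 q9372 L154934 q9020, e3 q9373 (flp_b L155004) q9383, e3 q9374 (flp_b L156292) q9553, e3 q9375 L186135 q13621, e3 q9376 (flp_b L154958) q5763, e3 q9377 (flp_b L156539) q9591, e3 q9378 L186167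 q13625, e3 q9379 (flp_b L154980) q5765, e3 q9380 (flp_b L154986) q5767, e3 q9381 L186220 q13632, e3 q9382 (flp_b L185947) q13598, e3 q9383 L155004 q9373, e3 q9384 (flp_b L155006) q5770, e3 q9385 L186283 q13641, e3 q9386 (flp_b L185971) q13601, e3 q9387 L155024 q9371, e3 q9388 L155038 q6503, e3 q9389 L155052 q6468, e3 q9390 (flp_b L155054) q5774, e3 q9391 L186339 q13648, e3 q9392 L155080 q5874, e3 q9393 L155094 q6302, e3 q9394 L156617 q9601, e3 q9395 (flp_b L155108) q5777, e3 q9396 L186357 q13650, e3 q9397 L155134 q5883, e3 q9398 L155148 q6276, e3 q9399 L156370 q9563, e3 q9400 (flp_b L156070) q9527, e3 q9401 L186379 q13652, e3 q9402 (flp_b L155176) q5781, e3 q9403 (flp_b L155180) q5782, e3 q9404 L186411 q13657, e3 q9405 (flp_b L156180) q9540, e3 q9406 (flp_b L155198) q5784, e3 q9407 (flp_b L155202) q5785, trivial⟩ (by decide +kernel)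

theorem ce_b_147 : ∀ r, r < 64 → sm gb (Qf (9408 + r)) = Qf (tab Gen.b (9408 + r)) :=
  edges_tab (sm gb) Qf (tab Gen.b) 9408 [(9408, 6389), (9409, 6391), (9410, 5791), (9411, 9411), (9412, 9412), (9413, 7775), (9414, 7929), (9415, 7640), (9416, 7806), (9417, 7638), (9418, 7803), (9419, 13665), (9420, 13666), (9421, 13667), (9422, 13668), (9423, 5804), (9424, 5805), (9425, 13671), (9426, 5807), (9427, 13674), (9428, 5809), (9429, 5810), (9430, 13680), (9431, 13669), (9432, 9223), (9433, 5812), (9434, 13689), (9435, 13670), (9436, 9183), (9437, 6515), (9438, 9438), (9439, 9480), (9440, 5815), (9441, 10357), (9442, 5988), (9443, 13609), (9444, 12207), (9445, 9801), (9446, 6482), (9447, 9447), (9448, 9488), (9449, 5819), (9450, 10320), (9451, 5973), (9452, 13613), (9453, 12024), (9454, 9854), (9455, 5822), (9456, 5829), (9457, 12446), (9458, 13557), (9459, 9750), (9460, 5825), (9461, 5834), (9462, 12482), (9463, 13561), (9464, 9730), (9465, 13705), (9466, 5830), (9467, 5831), (9468, 13706), (9469, 5832), (9470, 13707),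 (9471, 5835)]
    ⟨e3 q9408 L155212 q6389, e3 q9409 L155222 q6391, e3 q9410 L155229 q5791, e3 q9411 L155242 q9411, e3 q9412 L155251 q9412, e3 q9413 (flp_b L162502) q7775, e3 q9414 (flp_b L162794) q7929, e3 q9415 L155278 q7640, e3 q9416 L155290 q7806, e3 q9417 (flp_b L155300) q7638, e3 q9418 (flp_b L155310) q7803, e3 q9419 L186483 q13665, e3 q9420 L186492 q13666, e3 q9421 L186501 q13667, e3 q9422 L186508 q13668, e3 q9423 (flp_b L155348) q5804, e3 q9424 (flp_b L155351) q5805, e3 q9425 L186531 q13671, e3 q9426 (flp_b L155360) q5807, e3 q9427 L186561 q13674, e3 q9428 (flp_b L155372) q5809, e3 q9429 (flp_b L155378) q5810, e3 q9430 L186619 q13680, e3 q9431 (flp_b L186521) q13669, e3 q9432 L155394 q9223, e3 q9433 (flp_b L155396) q5812, e3 q9434 L186704 q13689, e3 q9435 (flp_b L186529) q13670, e3 q9436 L155412 q9183, e3 q9437 L155445 q6515, e3 q9438 L155422 q9438, e3 q9439 (flp_b L155737) q9480, e3 q9440 (flp_b L155425) q5815, e3 q9441 L161637 q10357, e3 q9442 (flp_b L155437) q5988, e3 q9443 (flp_b L186044) q13609, e3 q9444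 (flp_b L175308) q12207, e3 q9445 (flp_b L157979) q9801, e3 q9446 (flp_b L155494) q6482, e3 q9447 L155467 q9447, e3 q9448 (flp_b L155783) q9488, e3 q9449 (flp_b L155470) q5819, e3 q9450 L161386 q10320, e3 q9451 L155482 q5973, e3 q9452 (flp_b L186070) q13613, e3 q9453 (flp_b L173895) q12024, e3 q9454 (flp_b L158277) q9854, e3 q9455 (flp_b L155542) q5822, e3 q9456 L155560 q5829, e3 q9457 (flp_b L177192) q12446, e3 q9458 L185533 q13557, e3 q9459 L157681 q9750, e3 q9460 (flp_b L155588) q5825, e3 q9461 L155606 q5834, e3 q9462 L177467 q12482, e3 q9463 (flp_b L185565) q13561, e3 q9464 L157549 q9730, e3 q9465 L186873 q13705, e3 q9466 (flp_b L155644) q5830, e3 q9467 (flp_b L155648) q5831, e3 q9468 L186883 q13706, e3 q9469 (flp_b L155664) q5832, e3 q9470 L186897 q13707, e3 q9471 (flp_b L155680) q5835, trivial⟩ (by decide +kernel)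

theorem ce_b_148 : ∀ r, r < 64 → sm gb (Qf (9472 + r)) = Qf (tab Gen.b (9472 + r)) :=
  edges_tab (sm gb) Qf (tab Gen.b) 9472 [(9472, 5836), (9473, 13708), (9474, 5837), (9475, 8564), (9476, 5839), (9477, 13710), (9478, 7512), (9479, 9479), (9480, 9439), (9481, 9481), (9482, 9188), (9483, 5842), (9484, 13711), (9485, 8555), (9486, 7498), (9487, 9487), (9488, 9448), (9489, 9489), (9490, 9228), (9491, 6185), (9492, 6189), (9493, 9578), (9494, 5853), (9495, 13721), (9496, 13725), (9497, 6220), (9498, 13729), (9499, 5855), (9500, 13733), (9501, 13731), (9502, 9565), (9503, 5857), (9504, 13740), (9505, 13643), (9506, 6229), (9507, 11342), (9508, 13745), (9509, 9616), (9510, 5861), (9511, 13746), (9512, 13750), (9513, 6239), (9514, 13754), (9515, 5863), (9516, 13758), (9517, 13756), (9518, 9603), (9519, 5865), (9520, 13765), (9521, 13634), (9522, 6248), (9523, 11501), (9524, 13770), (9525, 5868), (9526, 5870), (9527, 9400), (9528, 13771), (9529, 5873), (9530, 6952), (9531, 10922), (9532, 10104), (9533, 13638), (9534,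 6305), (9535, 9620)]
    ⟨e3 q9472 (flp_b L155684) q5836, e3 q9473 L186907 q13708, e3 q9474 (flp_b L155700) q5837, e3 q9475 L155714 q8564, e3 q9476 (flp_b L155716) q5839, e3 q9477 L186925 q13710, e3 q9478 L155730 q7512, e3 q9479 L155734 q9479, e3 q9480 L155737 q9439, e3 q9481 L155745 q9481, e3 q9482 L155750 q9188, e3 q9483 (flp_b L155752) q5842, e3 q9484 (flp_b L186939) q13711, e3 q9485 L155772 q8555, e3 q9486 L155776 q7498, e3 q9487 L155780 q9487, e3 q9488 L155783 q9448, e3 q9489 L155791 q9489, e3 q9490 L155796 q9228, e3 q9491 L155802 q6185, e3 q9492 L155810 q6189, e3 q9493 (flp_b L156452) q9578, e3 q9494 (flp_b L155824) q5853, e3 q9495 (flp_b L187021) q13721, e3 q9496 L187053 q13725, e3 q9497 L155844 q6220, e3 q9498 L187077 q13729, e3 q9499 (flp_b L155854) q5855, e3 q9500 L187101 q13733, e3 q9501 (flp_b L187095) q13731, e3 q9502 (flp_b L156380) q9565, e3 q9503 (flp_b L155876) q5857, e3 q9504 L187153 q13740, e3 q9505 (flp_b L186307) q13643, e3 q9506 L155896 q6229, e3 q9507 (flp_b L169351) q11342, e3 q9508 L187193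 q13745, e3 q9509 (flp_b L156701) q9616, e3 q9510 (flp_b L155922) q5861, e3 q9511 (flp_b L187205) q13746, e3 q9512 L187237 q13750, e3 q9513 L155942 q6239, e3 q9514 L187261 q13754, e3 q9515 (flp_b L155952) q5863, e3 q9516 L187285 q13758, e3 q9517 (flp_b L187279) q13756, e3 q9518 (flp_b L156627) q9603, e3 q9519 (flp_b L155978) q5865, e3 q9520 L187341 q13765, e3 q9521 (flp_b L186244) q13634, e3 q9522 L156002 q6248, e3 q9523 (flp_b L170350) q11501, e3 q9524 L187381 q13770, e3 q9525 (flp_b L156020) q5868, e3 q9526 (flp_b L156040) q5870, e3 q9527 L156070 q9400, e3 q9528 L187391 q13771, e3 q9529 (flp_b L156080) q5873, e3 q9530 L156092 q6952, e3 q9531 (flp_b L166688) q10922, e3 q9532 (flp_b L159984) q10104, e3 q9533 (flp_b L186270) q13638, e3 q9534 L156126 q6305, e3 q9535 (flp_b L156731) q9620, trivial⟩ (by decide +kernel)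

theorem ce_b_149 : ∀ r, r < 64 → sm gb (Qf (9536 + r)) = Qf (tab Gen.b (9536 + r)) :=
  edges_tab (sm gb) Qf (tab Gen.b) 9536 [(9536, 5877), (9537, 5878), (9538, 5930), (9539, 9552), (9540, 9405), (9541, 13779), (9542, 5882), (9543, 6958), (9544, 10933), (9545, 10083), (9546, 13629), (9547, 6279), (9548, 9581), (9549, 5886), (9550, 5887), (9551, 5908), (9552, 9539), (9553, 9374), (9554, 13787), (9555, 9231), (9556, 5893), (9557, 13789), (9558, 5895), (9559, 10924), (9560, 8641), (9561, 13793), (9562, 5896), (9563, 9399), (9564, 13795), (9565, 9502), (9566, 6291), (9567, 13802), (9568, 11601), (9569, 13805), (9570, 5901), (9571, 5902), (9572, 13811), (9573, 11582), (9574, 13816), (9575, 5904), (9576, 13449), (9577, 13807), (9578, 9493), (9579, 9617), (9580, 13820), (9581, 9548), (9582, 13810), (9583, 5907), (9584, 13116), (9585, 13829), (9586, 13830), (9587, 5937), (9588, 9588), (9589, 13835), (9590, 5911), (9591, 9377), (9592, 13838), (9593, 5914), (9594, 13797), (9595, 9192), (9596, 5917), (9597, 10934), (9598,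 8657), (9599, 13843)]
    ⟨e3 q9536 (flp_b L156140) q5877, e3 q9537 (flp_b L156144) q5878, e3 q9538 (flp_b L156164) q5930, e3 q9539 (flp_b L156280) q9552, e3 q9540 L156180 q9405, e3 q9541 L187463 q13779, e3 q9542 (flp_b L156190) q5882, e3 q9543 L156202 q6958, e3 q9544 (flp_b L166756) q10933, e3 q9545 L159833 q10083, e3 q9546 (flp_b L186207) q13629, e3 q9547 L156236 q6279, e3 q9548 (flp_b L156474) q9581, e3 q9549 (flp_b L156250) q5886, e3 q9550 (flp_b L156254) q5887, e3 q9551 L156274 q5908, e3 q9552 L156280 q9539, e3 q9553 L156292 q9374, e3 q9554 L187537 q13787, e3 q9555 (flp_b L156310) q9231, e3 q9556 (flp_b L156312) q5893, e3 q9557 L187549 q13789, e3 q9558 L156330 q5895, e3 q9559 (flp_b L166702) q10924, e3 q9560 L156348 q8641, e3 q9561 L187585 q13793, e3 q9562 (flp_b L156360) q5896, e3 q9563 (flp_b L156370) q9399, e3 q9564 (flp_b L187597) q13795, e3 q9565 L156380 q9502, e3 q9566 L156384 q6291, e3 q9567 L187637 q13802, e3 q9568 (flp_b L170993) q11601, e3 q9569 L187659 q13805, e3 q9570 (flp_b L156406) q5901, e3 q9571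 (flp_b L156410) q5902, e3 q9572 L187693 q13811, e3 q9573 (flp_b L170883) q11582, e3 q9574 L187717 q13816, e3 q9575 (flp_b L156432) q5904, e3 q9576 L184638 q13449, e3 q9577 (flp_b L187671) q13807, e3 q9578 L156452 q9493, e3 q9579 (flp_b L156707) q9617, e3 q9580 L187747 q13820, e3 q9581 L156474 q9548, e3 q9582 (flp_b L187691) q13810, e3 q9583 (flp_b L156482) q5907, e3 q9584 (flp_b L187811) q13116, e3 q9585 L187841 q13829, e3 q9586 L187853 q13830, e3 q9587 L156504 q5937, e3 q9588 L156512 q9588, e3 q9589 L187880 q13835, e3 q9590 (flp_b L156523) q5911, e3 q9591 L156539 q9377, e3 q9592 L187901 q13838, e3 q9593 (flp_b L156547) q5914, e3 q9594 (flp_b L187615) q13797, e3 q9595 L156571 q9192, e3 q9596 L156577 q5917, e3 q9597 (flp_b L166764) q10934, e3 q9598 L156595 q8657, e3 q9599 L187943 q13843, trivial⟩ (by decide +kernel)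

theorem ce_b_150 : ∀ r, r < 64 → sm gb (Qf (9600 + r)) = Qf (tab Gen.b (9600 + r)) :=
  edges_tab (sm gb) Qf (tab Gen.b) 9600 [(9600, 5918), (9601, 9394), (9602, 13845), (9603, 9518), (9604, 6318), (9605, 13851), (9606, 11652), (9607, 13854), (9608, 5923), (9609, 5924), (9610, 13860), (9611, 11633), (9612, 13865), (9613, 5926), (9614, 13397), (9615, 13856), (9616, 9509), (9617, 9579), (9618, 13869), (9619, 13859), (9620, 9535), (9621, 5929), (9622, 13175), (9623, 13878), (9624, 13879), (9625, 5941), (9626, 9626), (9627, 13884), (9628, 5933), (9629, 13887), (9630, 5935), (9631, 9631), (9632, 11574), (9633, 13892), (9634, 5936), (9635, 13897), (9636, 13900), (9637, 5939), (9638, 11625), (9639, 9639), (9640, 13905), (9641, 5940), (9642, 13910), (9643, 5942), (9644, 11056), (9645, 5944), (9646, 9646), (9647, 11671), (9648, 13919), (9649, 5945), (9650, 11094), (9651, 5947), (9652, 11677), (9653, 13927), (9654, 5950), (9655, 5951), (9656, 13929), (9657, 10598), (9658, 9731), (9659, 13691), (9660, 9667), (9661, 10544),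 (9662, 13494), (9663, 13932)]
    ⟨e3 q9600 (flp_b L156607) q5918, e3 q9601 (flp_b L156617) q9394, e3 q9602 (flp_b L187955) q13845, e3 q9603 L156627 q9518, e3 q9604 L156631 q6318, e3 q9605 L187983 q13851, e3 q9606 (flp_b L171330) q11652, e3 q9607 L188005 q13854, e3 q9608 (flp_b L156653) q5923, e3 q9609 (flp_b L156657) q5924, e3 q9610 L188039 q13860, e3 q9611 (flp_b L171222) q11633, e3 q9612 L188063 q13865, e3 q9613 (flp_b L156679) q5926, e3 q9614 L184262 q13397, e3 q9615 (flp_b L188017) q13856, e3 q9616 L156701 q9509, e3 q9617 L156707 q9579, e3 q9618 L188093 q13869, e3 q9619 (flp_b L188037) q13859, e3 q9620 L156731 q9535, e3 q9621 (flp_b L156735) q5929, e3 q9622 (flp_b L188157) q13175, e3 q9623 L188187 q13878, e3 q9624 L188199 q13879, e3 q9625 L156757 q5941, e3 q9626 L156765 q9626, e3 q9627 L188226 q13884, e3 q9628 (flp_b L156776) q5933, e3 q9629 L188247 q13887, e3 q9630 L156790 q5935, e3 q9631 L156881 q9631, e3 q9632 (flp_b L170833) q11574, e3 q9633 (flp_b L188277) q13892, e3 q9634 (flp_b L156895) q5936, e3 q9635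 (flp_b L188304) q13897, e3 q9636 L188313 q13900, e3 q9637 L156912 q5939, e3 q9638 (flp_b L171168) q11625, e3 q9639 L156926 q9639, e3 q9640 (flp_b L188343) q13905, e3 q9641 (flp_b L156934) q5940, e3 q9642 (flp_b L188376) q13910, e3 q9643 (flp_b L156943) q5942, e3 q9644 (flp_b L214034) q11056, e3 q9645 L156958 q5944, e3 q9646 L156965 q9646, e3 q9647 (flp_b L171431) q11671, e3 q9648 (flp_b L188438) q13919, e3 q9649 (flp_b L156980) q5945, e3 q9650 (flp_b L214355) q11094, e3 q9651 L156995 q5947, e3 q9652 (flp_b L171462) q11677, e3 q9653 (flp_b L188520) q13927, e3 q9654 (flp_b L157017) q5950, e3 q9655 (flp_b L157029) q5951, e3 q9656 L188549 q13929, e3 q9657 (flp_b L164220) q10598, e3 q9658 (flp_b L157557) q9731, e3 q9659 (flp_b L186730) q13691, e3 q9660 (flp_b L157137) q9667, e3 q9661 L162887 q10544, e3 q9662 L184995 q13494, e3 q9663 L188571 q13932, trivial⟩ (by decide +kernel)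

theorem ce_b_151 : ∀ r, r < 64 → sm gb (Qf (9664 + r)) = Qf (tab Gen.b (9664 + r)) :=
  edges_tab (sm gb) Qf (tab Gen.b) 9664 [(9664, 10543), (9665, 9751), (9666, 13682), (9667, 9660), (9668, 10599), (9669, 13523), (9670, 9788), (9671, 8704), (9672, 13935), (9673, 5966), (9674, 11999), (9675, 5969), (9676, 9777), (9677, 5968), (9678, 11834), (9679, 12427), (9680, 13941), (9681, 9703), (9682, 13943), (9683, 13938), (9684, 5972), (9685, 13947), (9686, 13952), (9687, 10583), (9688, 6433), (9689, 11957), (9690, 13958), (9691, 5976), (9692, 9841), (9693, 8750), (9694, 13959), (9695, 5981), (9696, 12189), (9697, 5984), (9698, 9831), (9699, 5983), (9700, 12048), (9701, 12413), (9702, 13964), (9703, 9681), (9704, 13965), (9705, 13962), (9706, 5987), (9707, 13968), (9708, 13973), (9709, 10632), (9710, 6464), (9711, 12160), (9712, 13978), (9713, 5991), (9714, 5998), (9715, 13686), (9716, 12387), (9717, 8576), (9718, 6001), (9719, 13980), (9720, 6038), (9721, 13982), (9722, 6004), (9723, 13677), (9724, 12340), (9725, 8585),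 (9726, 6007), (9727, 13984)]
    ⟨e3 q9664 L162873 q10543, e3 q9665 (flp_b L157689) q9751, e3 q9666 (flp_b L186645) q13682, e3 q9667 L157137 q9660, e3 q9668 (flp_b L164234) q10599, e3 q9669 (flp_b L185253) q13523, e3 q9670 (flp_b L157913) q9788, e3 q9671 L157167 q8704, e3 q9672 L188597 q13935, e3 q9673 (flp_b L157179) q5966, e3 q9674 (flp_b L173765) q11999, e3 q9675 L157193 q5969, e3 q9676 (flp_b L157849) q9777, e3 q9677 (flp_b L157197) q5968, e3 q9678 (flp_b L172573) q11834, e3 q9679 (flp_b L177053) q12427, e3 q9680 L188649 q13941, e3 q9681 (flp_b L157327) q9703, e3 q9682 L188667 q13943, e3 q9683 (flp_b L188631) q13938, e3 q9684 (flp_b L157227) q5972, e3 q9685 (flp_b L188693) q13947, e3 q9686 L188717 q13952, e3 q9687 L164099 q10583, e3 q9688 L157245 q6433, e3 q9689 (flp_b L173461) q11957, e3 q9690 L188757 q13958, e3 q9691 (flp_b L157259) q5976, e3 q9692 (flp_b L158211) q9841, e3 q9693 L157277 q8750, e3 q9694 L188761 q13959, e3 q9695 (flp_b L157289) q5981, e3 q9696 (flp_b L175210) q12189, e3 q9697 L157303 q5984,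 e3 q9698 (flp_b L158155) q9831, e3 q9699 (flp_b L157307) q5983, e3 q9700 (flp_b L174074) q12048, e3 q9701 (flp_b L176931) q12413, e3 q9702 L188803 q13964, e3 q9703 L157327 q9681, e3 q9704 L188813 q13965, e3 q9705 (flp_b L188795) q13962, e3 q9706 (flp_b L157339) q5987, e3 q9707 (flp_b L188831) q13968, e3 q9708 L188867 q13973, e3 q9709 L164502 q10632, e3 q9710 L157357 q6464, e3 q9711 (flp_b L174968) q12160, e3 q9712 L188913 q13978, e3 q9713 (flp_b L157371) q5991, e3 q9714 (flp_b L157377) q5998, e3 q9715 (flp_b L186684) q13686, e3 q9716 (flp_b L176701) q12387, e3 q9717 L157425 q8576, e3 q9718 (flp_b L157427) q6001, e3 q9719 L188927 q13980, e3 q9720 (flp_b L157449) q6038, e3 q9721 L188945 q13982, e3 q9722 (flp_b L157459) q6004, e3 q9723 (flp_b L186599) q13677, e3 q9724 (flp_b L176272) q12340, e3 q9725 L157507 q8585, e3 q9726 (flp_b L157509) q6007, e3 q9727 L188965 q13984, trivial⟩ (by decide +kernel)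

theorem ce_b_152 : ∀ r, r < 64 → sm gb (Qf (9728 + r)) = Qf (tab Gen.b (9728 + r)) :=
  edges_tab (sm gb) Qf (tab Gen.b) 9728 [(9728, 6022), (9729, 13986), (9730, 9464), (9731, 9658), (9732, 13987), (9733, 6013), (9734, 6017), (9735, 9755), (9736, 6016), (9737, 13989), (9738, 12807), (9739, 13992), (9740, 6018), (9741, 9224), (9742, 13993), (9743, 6021), (9744, 13996), (9745, 14001), (9746, 11988), (9747, 10043), (9748, 14005), (9749, 6024), (9750, 9459), (9751, 9665), (9752, 14006), (9753, 6029), (9754, 6033), (9755, 9735), (9756, 6032), (9757, 14008), (9758, 12782), (9759, 14011), (9760, 6034), (9761, 9184), (9762, 14012), (9763, 6037), (9764, 14015), (9765, 14020), (9766, 12186), (9767, 10077), (9768, 14024), (9769, 6040), (9770, 6043), (9771, 9826), (9772, 6046), (9773, 8638), (9774, 13000), (9775, 11830), (9776, 6052), (9777, 9676), (9778, 6083), (9779, 13305), (9780, 11913), (9781, 8214), (9782, 14036), (9783, 6055), (9784, 14037), (9785, 6057), (9786, 9795), (9787, 6065), (9788, 9670), (9789, 6397), (9790,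 14042), (9791, 9824)]
    ⟨e3 q9728 (flp_b L157531) q6022, e3 q9729 L188983 q13986, e3 q9730 (flp_b L157549) q9464, e3 q9731 L157557 q9658, e3 q9732 L188993 q13987, e3 q9733 (flp_b L157567) q6013, e3 q9734 L157579 q6017, e3 q9735 (flp_b L157719) q9755, e3 q9736 (flp_b L157587) q6016, e3 q9737 L189011 q13989, e3 q9738 (flp_b L180073) q12807, e3 q9739 L189031 q13992, e3 q9740 (flp_b L157609) q6018, e3 q9741 (flp_b L157633) q9224, e3 q9742 L189037 q13993, e3 q9743 (flp_b L157643) q6021, e3 q9744 (flp_b L189051) q13996, e3 q9745 L189071 q14001, e3 q9746 (flp_b L173751) q11988, e3 q9747 (flp_b L163433) q10043, e3 q9748 L189105 q14005, e3 q9749 (flp_b L157665) q6024, e3 q9750 (flp_b L157681) q9459, e3 q9751 L157689 q9665, e3 q9752 L189115 q14006, e3 q9753 (flp_b L157699) q6029, e3 q9754 L157711 q6033, e3 q9755 L157719 q9735, e3 q9756 (flp_b L157721) q6032, e3 q9757 L189133 q14008, e3 q9758 (flp_b L179855) q12782, e3 q9759 L189153 q14011, e3 q9760 (flp_b L157743) q6034, e3 q9761 L157767 q9184, e3 q9762 L189159 q14012,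 e3 q9763 (flp_b L157777) q6037, e3 q9764 (flp_b L189173) q14015, e3 q9765 L189193 q14020, e3 q9766 L175184 q12186, e3 q9767 L163552 q10077, e3 q9768 L189227 q14024, e3 q9769 (flp_b L157799) q6040, e3 q9770 (flp_b L157807) q6043, e3 q9771 (flp_b L158127) q9826, e3 q9772 (flp_b L157817) q6046, e3 q9773 L157827 q8638, e3 q9774 (flp_b L181437) q13000, e3 q9775 L172543 q11830, e3 q9776 L157845 q6052, e3 q9777 L157849 q9676, e3 q9778 L157857 q6083, e3 q9779 (flp_b L183587) q13305, e3 q9780 L173152 q11913, e3 q9781 L157869 q8214, e3 q9782 L189335 q14036, e3 q9783 (flp_b L157881) q6055, e3 q9784 L189345 q14037, e3 q9785 (flp_b L157899) q6057, e3 q9786 (flp_b L175709) q9795, e3 q9787 L157907 q6065, e3 q9788 L157913 q9670, e3 q9789 L157917 q6397, e3 q9790 L189381 q14042, e3 q9791 (flp_b L158113) q9824, trivial⟩ (by decide +kernel)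

theorem ce_b_153 : ∀ r, r < 64 → sm gb (Qf (9792 + r)) = Qf (tab Gen.b (9792 + r)) :=
  edges_tab (sm gb) Qf (tab Gen.b) 9792 [(9792, 6070), (9793, 6060), (9794, 14046), (9795, 9786), (9796, 12231), (9797, 8016), (9798, 6062), (9799, 8579), (9800, 14055), (9801, 9445), (9802, 11795), (9803, 9856), (9804, 6068), (9805, 14056), (9806, 10416), (9807, 11814), (9808, 14060), (9809, 6072), (9810, 7867), (9811, 14048), (9812, 7754), (9813, 14065), (9814, 11968), (9815, 6073), (9816, 6075), (9817, 14072), (9818, 14073), (9819, 9819), (9820, 11845), (9821, 6078), (9822, 7526), (9823, 14079), (9824, 9791), (9825, 6081), (9826, 9771), (9827, 8654), (9828, 13074), (9829, 12042), (9830, 6090), (9831, 9698), (9832, 13365), (9833, 12119), (9834, 8215), (9835, 14093), (9836, 6093), (9837, 14094), (9838, 6095), (9839, 9848), (9840, 6103), (9841, 9692), (9842, 6394), (9843, 14098), (9844, 6107), (9845, 9877), (9846, 6098), (9847, 14068), (9848, 9839), (9849, 12289), (9850, 7957), (9851, 6100), (9852, 8588), (9853, 14040), (9854,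 9454), (9855, 11752)]
    ⟨e3 q9792 L157931 q6070, e3 q9793 (flp_b L157933) q6060, e3 q9794 (flp_b L189405) q14046, e3 q9795 L175709 q9786, e3 q9796 (flp_b L175511) q12231, e3 q9797 L163683 q8016, e3 q9798 (flp_b L157953) q6062, e3 q9799 (flp_b L157961) q8579, e3 q9800 L189481 q14055, e3 q9801 L157979 q9445, e3 q9802 (flp_b L172326) q11795, e3 q9803 (flp_b L158297) q9856, e3 q9804 (flp_b L157999) q6068, e3 q9805 (flp_b L189493) q14056, e3 q9806 (flp_b L162036) q10416, e3 q9807 L172466 q11814, e3 q9808 L189519 q14060, e3 q9809 L158027 q6072, e3 q9810 L158061 q7867, e3 q9811 (flp_b L189415) q14048, e3 q9812 L173755 q7754, e3 q9813 (flp_b L189553) q14065, e3 q9814 (flp_b L173556) q11968, e3 q9815 (flp_b L158051) q6073, e3 q9816 (flp_b L158063) q6075, e3 q9817 (flp_b L189609) q14072, e3 q9818 (flp_b L189615) q14073, e3 q9819 L158085 q9819, e3 q9820 (flp_b L175478) q11845, e3 q9821 (flp_b L158094) q6078, e3 q9822 L158103 q7526, e3 q9823 (flp_b L189653) q14079, e3 q9824 L158113 q9791, e3 q9825 (flp_b L158115) q6081, e3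 q9826 L158127 q9771, e3 q9827 L158133 q8654, e3 q9828 (flp_b L181945) q13074, e3 q9829 L174022 q12042, e3 q9830 L158151 q6090, e3 q9831 L158155 q9698, e3 q9832 (flp_b L184041) q13365, e3 q9833 L174958 q12119, e3 q9834 L158167 q8215, e3 q9835 L189767 q14093, e3 q9836 (flp_b L158179) q6093, e3 q9837 L189777 q14094, e3 q9838 (flp_b L158197) q6095, e3 q9839 (flp_b L189793) q9848, e3 q9840 L158205 q6103, e3 q9841 L158211 q9692, e3 q9842 L158215 q6394, e3 q9843 L189811 q14098, e3 q9844 L158223 q6107, e3 q9845 (flp_b L158413) q9877, e3 q9846 (flp_b L158231) q6098, e3 q9847 (flp_b L189575) q14068, e3 q9848 L189793 q9839, e3 q9849 (flp_b L175893) q12289, e3 q9850 (flp_b L163653) q7957, e3 q9851 (flp_b L158251) q6100, e3 q9852 (flp_b L158259) q8588, e3 q9853 (flp_b L189369) q14040, e3 q9854 L158277 q9454, e3 q9855 L172021 q11752, trivial⟩ (by decide +kernel)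

theorem ce_b_154 : ∀ r, r < 64 → sm gb (Qf (9856 + r)) = Qf (tab Gen.b (9856 + r)) :=
  edges_tab (sm gb) Qf (tab Gen.b) 9856 [(9856, 9803), (9857, 6106), (9858, 14109), (9859, 12031), (9860, 10382), (9861, 14113), (9862, 6110), (9863, 14066), (9864, 7703), (9865, 7915), (9866, 14118), (9867, 12170), (9868, 6111), (9869, 6113), (9870, 14123), (9871, 14124), (9872, 9872), (9873, 12058), (9874, 6116), (9875, 7571), (9876, 14130), (9877, 9845), (9878, 6120), (9879, 14133), (9880, 14135), (9881, 11859), (9882, 6124), (9883, 12071), (9884, 14136), (9885, 14137), (9886, 6126), (9887, 9887), (9888, 12234), (9889, 6129), (9890, 14145), (9891, 6133), (9892, 14146), (9893, 6135), (9894, 12292), (9895, 9895), (9896, 8901), (9897, 8612), (9898, 10501), (9899, 6137), (9900, 7945), (9901, 14157), (9902, 6626), (9903, 7990), (9904, 10602), (9905, 6144), (9906, 14161), (9907, 8063), (9908, 6551), (9909, 6148), (9910, 9910), (9911, 12122), (9912, 14173), (9913, 8908), (9914, 8617), (9915, 10451), (9916, 6150), (9917, 8003), (9918,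 14178), (9919, 8047)]
    ⟨e3 q9856 L158297 q9803, e3 q9857 (flp_b L158299) q6106, e3 q9858 (flp_b L189917) q14109, e3 q9859 L173945 q12031, e3 q9860 (flp_b L161806) q10382, e3 q9861 L189943 q14113, e3 q9862 L158327 q6110, e3 q9863 (flp_b L189559) q14066, e3 q9864 L158361 q7703, e3 q9865 (flp_b L173266) q7915, e3 q9866 (flp_b L189993) q14118, e3 q9867 (flp_b L175063) q12170, e3 q9868 (flp_b L158351) q6111, e3 q9869 (flp_b L158363) q6113, e3 q9870 (flp_b L190035) q14123, e3 q9871 (flp_b L190041) q14124, e3 q9872 L158385 q9872, e3 q9873 (flp_b L174148) q12058, e3 q9874 (flp_b L158394) q6116, e3 q9875 L158403 q7571, e3 q9876 (flp_b L190079) q14130, e3 q9877 L158413 q9845, e3 q9878 (flp_b L158415) q6120, e3 q9879 (flp_b L190099) q14133, e3 q9880 L190107 q14135, e3 q9881 (flp_b L172761) q11859, e3 q9882 L158443 q6124, e3 q9883 (flp_b L174266) q12071, e3 q9884 L190115 q14136, e3 q9885 L190119 q14137, e3 q9886 L158473 q6126, e3 q9887 L158481 q9887, e3 q9888 (flp_b L175527) q12234, e3 q9889 (flp_b L158486) q6129, e3 q9890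 L190182 q14145, e3 q9891 L158500 q6133, e3 q9892 L190192 q14146, e3 q9893 L158510 q6135, e3 q9894 (flp_b L175909) q12292, e3 q9895 L158522 q9895, e3 q9896 L158529 q8901, e3 q9897 L158537 q8612, e3 q9898 (flp_b L162601) q10501, e3 q9899 (flp_b L158549) q6137, e3 q9900 L158559 q7945, e3 q9901 L190279 q14157, e3 q9902 L158579 q6626, e3 q9903 L158587 q7990, e3 q9904 (flp_b L164264) q10602, e3 q9905 (flp_b L158599) q6144, e3 q9906 (flp_b L190313) q14161, e3 q9907 (flp_b L158615) q8063, e3 q9908 L158619 q6551, e3 q9909 L158625 q6148, e3 q9910 L158635 q9910, e3 q9911 L174685 q12122, e3 q9912 L190406 q14173, e3 q9913 L158656 q8908, e3 q9914 L158664 q8617, e3 q9915 (flp_b L162283) q10451, e3 q9916 (flp_b L158676) q6150, e3 q9917 L158686 q8003, e3 q9918 L190445 q14178, e3 q9919 L158702 q8047, trivial⟩ (by decide +kernel)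

theorem ce_b_155 : ∀ r, r < 64 → sm gb (Qf (9920 + r)) = Qf (tab Gen.b (9920 + r)) :=
  edges_tab (sm gb) Qf (tab Gen.b) 9920 [(9920, 6675), (9921, 10547), (9922, 6157), (9923, 14182), (9924, 8106), (9925, 6589), (9926, 6161), (9927, 11916), (9928, 9928), (9929, 14194), (9930, 13615), (9931, 7323), (9932, 13616), (9933, 7223), (9934, 12510), (9935, 14201), (9936, 6165), (9937, 12513), (9938, 14205), (9939, 6167), (9940, 6168), (9941, 13623), (9942, 6170), (9943, 13627), (9944, 6172), (9945, 9945), (9946, 9946), (9947, 6173), (9948, 14210), (9949, 6174), (9950, 14212), (9951, 9951), (9952, 6178), (9953, 9956), (9954, 9954), (9955, 6181), (9956, 9953), (9957, 6177), (9958, 13772), (9959, 11153), (9960, 14215), (9961, 14225), (9962, 7152), (9963, 6180), (9964, 13780), (9965, 11221), (9966, 14219), (9967, 14231), (9968, 7112), (9969, 7242), (9970, 14233), (9971, 7343), (9972, 14235), (9973, 6199), (9974, 6192), (9975, 14238), (9976, 6203), (9977, 6207), (9978, 6195), (9979, 14242), (9980, 6211), (9981, 10134), (9982,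 6251), (9983, 10101)]
    ⟨e3 q9920 L158714 q6675, e3 q9921 (flp_b L162931) q10547, e3 q9922 (flp_b L158726) q6157, e3 q9923 (flp_b L190493) q14182, e3 q9924 (flp_b L158742) q8106, e3 q9925 L158746 q6589, e3 q9926 L158752 q6161, e3 q9927 L173172 q11916, e3 q9928 L158766 q9928, e3 q9929 L190602 q14194, e3 q9930 (flp_b L186087) q13615, e3 q9931 L158789 q7323, e3 q9932 (flp_b L186097) q13616, e3 q9933 L158803 q7223, e3 q9934 (flp_b L177681) q12510, e3 q9935 L190651 q14201, e3 q9936 (flp_b L158817) q6165, e3 q9937 (flp_b L177699) q12513, e3 q9938 L190681 q14205, e3 q9939 (flp_b L158835) q6167, e3 q9940 (flp_b L158841) q6168, e3 q9941 (flp_b L186157) q13623, e3 q9942 (flp_b L158855) q6170, e3 q9943 (flp_b L186189) q13627, e3 q9944 (flp_b L158869) q6172, e3 q9945 L158886 q9945, e3 q9946 L158894 q9946, e3 q9947 (flp_b L158895) q6173, e3 q9948 L190711 q14210, e3 q9949 (flp_b L158909) q6174, e3 q9950 L190725 q14212, e3 q9951 L158930 q9951, e3 q9952 L158935 q6178, e3 q9953 (flp_b L158961) q9956, e3 q9954 L158949 q9954, e3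 q9955 L158954 q6181, e3 q9956 L158961 q9953, e3 q9957 (flp_b L158965) q6177, e3 q9958 (flp_b L187405) q13772, e3 q9959 (flp_b L168196) q11153, e3 q9960 (flp_b L190748) q14215, e3 q9961 L190807 q14225, e3 q9962 (flp_b L159007) q7152, e3 q9963 (flp_b L159009) q6180, e3 q9964 (flp_b L187477) q13780, e3 q9965 L168588 q11221, e3 q9966 (flp_b L190775) q14219, e3 q9967 L190843 q14231, e3 q9968 (flp_b L159051) q7112, e3 q9969 L159063 q7242, e3 q9970 L190857 q14233, e3 q9971 L159081 q7343, e3 q9972 L190867 q14235, e3 q9973 L159092 q6199, e3 q9974 (flp_b L159103) q6192, e3 q9975 L190889 q14238, e3 q9976 L159125 q6203, e3 q9977 L159130 q6207, e3 q9978 (flp_b L159141) q6195, e3 q9979 L190920 q14242, e3 q9980 L159163 q6211, e3 q9981 (flp_b L160198) q10134, e3 q9982 L159175 q6251, e3 q9983 (flp_b L159950) q10101, trivial⟩ (by decide +kernel)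

theorem ce_b_156 : ∀ r, r < 64 → sm gb (Qf (9984 + r)) = Qf (tab Gen.b (9984 + r)) :=
  edges_tab (sm gb) Qf (tab Gen.b) 9984 [(9984, 6198), (9985, 7091), (9986, 14237), (9987, 6990), (9988, 6200), (9989, 14252), (9990, 14251), (9991, 10090), (9992, 6202), (9993, 14257), (9994, 7027), (9995, 14240), (9996, 14263), (9997, 11148), (9998, 10167), (9999, 10120), (10000, 6264), (10001, 6206), (10002, 7132), (10003, 14241), (10004, 6995), (10005, 6208), (10006, 14272), (10007, 14271), (10008, 10109), (10009, 6210), (10010, 14277), (10011, 7011), (10012, 14244), (10013, 14283), (10014, 11217), (10015, 8497), (10016, 6214), (10017, 14286), (10018, 10847), (10019, 14293), (10020, 7060), (10021, 7266), (10022, 11242), (10023, 6218), (10024, 6281), (10025, 10150), (10026, 14302), (10027, 14298), (10028, 6219), (10029, 14305), (10030, 14306), (10031, 14311), (10032, 14312), (10033, 6221), (10034, 14316), (10035, 6224), (10036, 10132), (10037, 6223), (10038, 14322), (10039, 12469), (10040, 14326), (10041, 14327), (10042, 6227),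 (10043, 9747), (10044, 14334), (10045, 8415), (10046, 8541), (10047, 11345)]
    ⟨e3 q9984 (flp_b L159183) q6198, e3 q9985 L159197 q7091, e3 q9986 (flp_b L190887) q14237, e3 q9987 L159221 q6990, e3 q9988 L159235 q6200, e3 q9989 L191003 q14252, e3 q9990 (flp_b L191001) q14251, e3 q9991 (flp_b L159887) q10090, e3 q9992 (flp_b L159257) q6202, e3 q9993 L191039 q14257, e3 q9994 L159281 q7027, e3 q9995 (flp_b L190906) q14240, e3 q9996 L191067 q14263, e3 q9997 (flp_b L168160) q11148, e3 q9998 (flp_b L160428) q10167, e3 q9999 (flp_b L160080) q10120, e3 q10000 L159317 q6264, e3 q10001 (flp_b L159319) q6206, e3 q10002 L159333 q7132, e3 q10003 (flp_b L190918) q14241, e3 q10004 L167024 q6995, e3 q10005 L167044 q6208, e3 q10006 L191147 q14272, e3 q10007 (flp_b L191145) q14271, e3 q10008 (flp_b L160016) q10109, e3 q10009 (flp_b L159379) q6210, e3 q10010 L191183 q14277, e3 q10011 L159403 q7011, e3 q10012 (flp_b L190937) q14244, e3 q10013 L191211 q14283, e3 q10014 (flp_b L168558) q11217, e3 q10015 L159429 q8497, e3 q10016 (flp_b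 L159431) q6214, e3 q10017 (flp_b L191237) q14286, e3 q10018 (flp_b L166140) q10847, e3 q10019 L191279 q14293, e3 q10020 L159457 q7060, e3 q10021 L159467 q7266, e3 q10022 (flp_b L168716) q11242, e3 q10023 L159477 q6218, e3 q10024 L159487 q6281, e3 q10025 (flp_b L160288) q10150, e3 q10026 L191343 q14302, e3 q10027 (flp_b L191313) q14298, e3 q10028 (flp_b L159509) q6219, e3 q10029 (flp_b L191363) q14305, e3 q10030 (flp_b L191373) q14306, e3 q10031 L191397 q14311, e3 q10032 L191399 q14312, e3 q10033 (flp_b L159535) q6221, e3 q10034 L191415 q14316, e3 q10035 L159547 q6224, e3 q10036 (flp_b L160182) q10132, e3 q10037 (flp_b L159553) q6223, e3 q10038 L191473 q14322, e3 q10039 (flp_b L177364) q12469, e3 q10040 L191499 q14326, e3 q10041 L191509 q14327, e3 q10042 (flp_b L159585) q6227, e3 q10043 L163433 q9747, e3 q10044 L191563 q14334, e3 q10045 L163515 q8415, e3 q10046 (flp_b L163431) q8541, e3 q10047 (flp_b L169369) q11345, trivial⟩ (by decide +kernel)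

theorem ce_b_157 : ∀ r, r < 64 → sm gb (Qf (10048 + r)) = Qf (tab Gen.b (10048 + r)) :=
  edges_tab (sm gb) Qf (tab Gen.b) 10048 [(10048, 14339), (10049, 8526), (10050, 6233), (10051, 14341), (10052, 14347), (10053, 10850), (10054, 7366), (10055, 7031), (10056, 11403), (10057, 6237), (10058, 10183), (10059, 6309), (10060, 14357), (10061, 14353), (10062, 6238), (10063, 14360), (10064, 14361), (10065, 14366), (10066, 14367), (10067, 6240), (10068, 14371), (10069, 6243), (10070, 10165), (10071, 6242), (10072, 14377), (10073, 12424), (10074, 14381), (10075, 14382), (10076, 6246), (10077, 9767), (10078, 14389), (10079, 8396), (10080, 8512), (10081, 11504), (10082, 14394), (10083, 9545), (10084, 6252), (10085, 13782), (10086, 11133), (10087, 6255), (10088, 12866), (10089, 14397), (10090, 9991), (10091, 6257), (10092, 14402), (10093, 14407), (10094, 14408), (10095, 6259), (10096, 14411), (10097, 14412), (10098, 6261), (10099, 6962), (10100, 14414), (10101, 9983), (10102, 6263), (10103, 13774), (10104, 9532), (10105, 11202),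 (10106, 6267), (10107, 12865), (10108, 14419), (10109, 10008), (10110, 6269), (10111, 14424)]
    ⟨e3 q10048 L191605 q14339, e3 q10049 L159629 q8526, e3 q10050 (flp_b L159631) q6233, e3 q10051 (flp_b L191620) q14341, e3 q10052 L191652 q14347, e3 q10053 (flp_b L166156) q10850, e3 q10054 (flp_b L159657) q7366, e3 q10055 L159667 q7031, e3 q10056 (flp_b L169727) q11403, e3 q10057 L159677 q6237, e3 q10058 (flp_b L160518) q10183, e3 q10059 L159691 q6309, e3 q10060 L191726 q14357, e3 q10061 (flp_b L191696) q14353, e3 q10062 (flp_b L159709) q6238, e3 q10063 (flp_b L191744) q14360, e3 q10064 (flp_b L191754) q14361, e3 q10065 L191778 q14366, e3 q10066 L191780 q14367, e3 q10067 (flp_b L159735) q6240, e3 q10068 L191796 q14371, e3 q10069 L159747 q6243, e3 q10070 (flp_b L160412) q10165, e3 q10071 (flp_b L159753) q6242, e3 q10072 L191854 q14377, e3 q10073 (flp_b L177025) q12424, e3 q10074 L191880 q14381, e3 q10075 L191890 q14382, e3 q10076 (flp_b L159785) q6246, e3 q10077 (flp_b L163552) q9767, e3 q10078 L191944 q14389, e3 q10079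 (flp_b L163631) q8396, e3 q10080 L163558 q8512, e3 q10081 (flp_b L170368) q11504, e3 q10082 L191986 q14394, e3 q10083 (flp_b L159833) q9545, e3 q10084 (flp_b L159835) q6252, e3 q10085 (flp_b L187491) q13782, e3 q10086 (flp_b L168036) q11133, e3 q10087 (flp_b L159865) q6255, e3 q10088 (flp_b L180559) q12866, e3 q10089 (flp_b L192011) q14397, e3 q10090 L159887 q9991, e3 q10091 (flp_b L159889) q6257, e3 q10092 (flp_b L192042) q14402, e3 q10093 L192071 q14407, e3 q10094 L192073 q14408, e3 q10095 (flp_b L159906) q6259, e3 q10096 L192095 q14411, e3 q10097 L192099 q14412, e3 q10098 (flp_b L159928) q6261, e3 q10099 (flp_b L159938) q6962, e3 q10100 (flp_b L192119) q14414, e3 q10101 L159950 q9983, e3 q10102 (flp_b L159952) q6263, e3 q10103 (flp_b L187419) q13774, e3 q10104 L159984 q9532, e3 q10105 (flp_b L168450) q11202, e3 q10106 (flp_b L159994) q6267, e3 q10107 L180545 q12865, e3 q10108 (flp_b L192157) q14419, e3 q10109 L160016 q10008, e3 q10110 (flp_b L160018) q6269, e3 q10111 (flp_b L192188) q14424, trivial⟩ (by decide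 +kernel)

theorem ce_b_158 : ∀ r, r < 64 → sm gb (Qf (10112 + r)) = Qf (tab Gen.b (10112 + r)) :=
  edges_tab (sm gb) Qf (tab Gen.b) 10112 [(10112, 14429), (10113, 14430), (10114, 6271), (10115, 14433), (10116, 14434), (10117, 6273), (10118, 6956), (10119, 14436), (10120, 9999), (10121, 6284), (10122, 14299), (10123, 14439), (10124, 6282), (10125, 6283), (10126, 14442), (10127, 14447), (10128, 14448), (10129, 6285), (10130, 14452), (10131, 6288), (10132, 10036), (10133, 6287), (10134, 9981), (10135, 14457), (10136, 13800), (10137, 14460), (10138, 6292), (10139, 14254), (10140, 6293), (10141, 14467), (10142, 14468), (10143, 14463), (10144, 14472), (10145, 6295), (10146, 6296), (10147, 6297), (10148, 14481), (10149, 6300), (10150, 10025), (10151, 14486), (10152, 14487), (10153, 10186), (10154, 6311), (10155, 14488), (10156, 14355), (10157, 6308), (10158, 6310), (10159, 14491), (10160, 14496), (10161, 14497), (10162, 6312), (10163, 14501), (10164, 6315), (10165, 10070), (10166, 6314), (10167, 9998), (10168, 14506),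 (10169, 13849), (10170, 14509), (10171, 6319), (10172, 14274), (10173, 6320), (10174, 14516), (10175, 14517)]
    ⟨e3 q10112 L192217 q14429, e3 q10113 L192219 q14430, e3 q10114 (flp_b L160035) q6271, e3 q10115 L192241 q14433, e3 q10116 L192245 q14434, e3 q10117 (flp_b L160058) q6273, e3 q10118 (flp_b L160068) q6956, e3 q10119 (flp_b L192265) q14436, e3 q10120 L160080 q9999, e3 q10121 L160086 q6284, e3 q10122 (flp_b L191327) q14299, e3 q10123 L192285 q14439, e3 q10124 (flp_b L160112) q6282, e3 q10125 (flp_b L160122) q6283, e3 q10126 (flp_b L192309) q14442, e3 q10127 L192341 q14447, e3 q10128 L192345 q14448, e3 q10129 (flp_b L160154) q6285, e3 q10130 L192365 q14452, e3 q10131 L160174 q6288, e3 q10132 L160182 q10036, e3 q10133 (flp_b L160184) q6287, e3 q10134 L160198 q9981, e3 q10135 L192411 q14457, e3 q10136 (flp_b L187629) q13800, e3 q10137 L192425 q14460, e3 q10138 (flp_b L160218) q6292, e3 q10139 (flp_b L191023) q14254, e3 q10140 (flp_b L160228) q6293, e3 q10141 L192461 q14467, e3 q10142 L192467 q14468, e3 q10143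 (flp_b L192443) q14463, e3 q10144 L192485 q14472, e3 q10145 (flp_b L160260) q6295, e3 q10146 (flp_b L160264) q6296, e3 q10147 (flp_b L160268) q6297, e3 q10148 L192535 q14481, e3 q10149 L160282 q6300, e3 q10150 L160288 q10025, e3 q10151 L192575 q14486, e3 q10152 L192585 q14487, e3 q10153 (flp_b L160542) q10186, e3 q10154 L160316 q6311, e3 q10155 L192595 q14488, e3 q10156 (flp_b L191714) q14355, e3 q10157 (flp_b L160342) q6308, e3 q10158 (flp_b L160352) q6310, e3 q10159 (flp_b L192619) q14491, e3 q10160 L192651 q14496, e3 q10161 L192655 q14497, e3 q10162 (flp_b L160384) q6312, e3 q10163 L192675 q14501, e3 q10164 L160404 q6315, e3 q10165 L160412 q10070, e3 q10166 (flp_b L160414) q6314, e3 q10167 L160428 q9998, e3 q10168 L192721 q14506, e3 q10169 (flp_b L187975) q13849, e3 q10170 L192735 q14509, e3 q10171 (flp_b L160448) q6319, e3 q10172 (flp_b L191167) q14274, e3 q10173 (flp_b L160458) q6320, e3 q10174 L192771 q14516, e3 q10175 L192781 q14517, trivial⟩ (by decide +kernel)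

theorem ce_b_159 : ∀ r, r < 64 → sm gb (Qf (10176 + r)) = Qf (tab Gen.b (10176 + r)) :=
  edges_tab (sm gb) Qf (tab Gen.b) 10176 [(10176, 14512), (10177, 14521), (10178, 6322), (10179, 6323), (10180, 6324), (10181, 14530), (10182, 6327), (10183, 10058), (10184, 14535), (10185, 14536), (10186, 10153), (10187, 6330), (10188, 14538), (10189, 14539), (10190, 13102), (10191, 14458), (10192, 14546), (10193, 6331), (10194, 6332), (10195, 10265), (10196, 10266), (10197, 14304), (10198, 14554), (10199, 10269), (10200, 11611), (10201, 14558), (10202, 14559), (10203, 6337), (10204, 14561), (10205, 14168), (10206, 6339), (10207, 6340), (10208, 12811), (10209, 14566), (10210, 14567), (10211, 11597), (10212, 7263), (10213, 6343), (10214, 14575), (10215, 13111), (10216, 11596), (10217, 14581), (10218, 14583), (10219, 9094), (10220, 13456), (10221, 6348), (10222, 6350), (10223, 14589), (10224, 14590), (10225, 13162), (10226, 14597), (10227, 14507), (10228, 6351), (10229, 6352), (10230, 10283), (10231, 10284), (10232, 14604), (10233,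 14359), (10234, 11662), (10235, 10288), (10236, 14609), (10237, 14610), (10238, 14611), (10239, 14189)]
    ⟨e3 q10176 (flp_b L192753) q14512, e3 q10177 L192799 q14521, e3 q10178 (flp_b L160490) q6322, e3 q10179 (flp_b L160494) q6323, e3 q10180 (flp_b L160498) q6324, e3 q10181 L192857 q14530, e3 q10182 L160512 q6327, e3 q10183 L160518 q10058, e3 q10184 L192897 q14535, e3 q10185 L192907 q14536, e3 q10186 L160542 q10153, e3 q10187 L160548 q6330, e3 q10188 L192929 q14538, e3 q10189 L192937 q14539, e3 q10190 L182163 q13102, e3 q10191 L192419 q14458, e3 q10192 L192981 q14546, e3 q10193 (flp_b L160584) q6331, e3 q10194 (flp_b L160590) q6332, e3 q10195 (flp_b L160992) q10265, e3 q10196 (flp_b L160996) q10266, e3 q10197 L191359 q14304, e3 q10198 L193039 q14554, e3 q10199 (flp_b L161014) q10269, e3 q10200 (flp_b L171055) q11611, e3 q10201 L193067 q14558, e3 q10202 L193071 q14559, e3 q10203 (flp_b L160634) q6337, e3 q10204 L193081 q14561, e3 q10205 (flp_b L190365) q14168, e3 q10206 (flp_b L160650) q6339, e3 q10207 (flp_b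 L160654) q6340, e3 q10208 (flp_b L180115) q12811, e3 q10209 L193103 q14566, e3 q10210 L193109 q14567, e3 q10211 (flp_b L170969) q11597, e3 q10212 L160690 q7263, e3 q10213 (flp_b L160692) q6343, e3 q10214 L193153 q14575, e3 q10215 (flp_b L182231) q13111, e3 q10216 (flp_b L170965) q11596, e3 q10217 L193181 q14581, e3 q10218 L193193 q14583, e3 q10219 L160728 q9094, e3 q10220 (flp_b L184704) q13456, e3 q10221 (flp_b L160734) q6348, e3 q10222 L160744 q6350, e3 q10223 L193243 q14589, e3 q10224 L193251 q14590, e3 q10225 L182531 q13162, e3 q10226 L193295 q14597, e3 q10227 L192729 q14507, e3 q10228 (flp_b L160780) q6351, e3 q10229 (flp_b L160784) q6352, e3 q10230 (flp_b L161106) q10283, e3 q10231 (flp_b L161110) q10284, e3 q10232 L193347 q14604, e3 q10233 (flp_b L193841) q14359, e3 q10234 (flp_b L171390) q11662, e3 q10235 (flp_b L161136) q10288, e3 q10236 L193383 q14609, e3 q10237 L193387 q14610, e3 q10238 L193391 q14611, e3 q10239 (flp_b L190561) q14189, trivial⟩ (by decide +kernel)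

theorem ce_b_160 : ∀ r, r < 64 → sm gb (Qf (10240 + r)) = Qf (tab Gen.b (10240 + r)) :=
  edges_tab (sm gb) Qf (tab Gen.b) 10240 [(10240, 6358), (10241, 6359), (10242, 6360), (10243, 12815), (10244, 14617), (10245, 14618), (10246, 11649), (10247, 7363), (10248, 6363), (10249, 14626), (10250, 13170), (10251, 11648), (10252, 14630), (10253, 14632), (10254, 13404), (10255, 9148), (10256, 6368), (10257, 6370), (10258, 12778), (10259, 14638), (10260, 12622), (10261, 14643), (10262, 14644), (10263, 6371), (10264, 6372), (10265, 10195), (10266, 10196), (10267, 14653), (10268, 14655), (10269, 10199), (10270, 7230), (10271, 14659), (10272, 14660), (10273, 6377), (10274, 6378), (10275, 6380), (10276, 12803), (10277, 14667), (10278, 12633), (10279, 14672), (10280, 14673), (10281, 6381), (10282, 6382), (10283, 10230), (10284, 10231), (10285, 14682), (10286, 14684), (10287, 7330), (10288, 10235), (10289, 14688), (10290, 14689), (10291, 6387), (10292, 6388), (10293, 8951), (10294, 14057), (10295, 9019), (10296, 14110), (10297,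 6400), (10298, 9143), (10299, 6402), (10300, 9090), (10301, 6407), (10302, 14702), (10303, 10943)]
    ⟨e3 q10240 (flp_b L160842) q6358, e3 q10241 (flp_b L160846) q6359, e3 q10242 (flp_b L160850) q6360, e3 q10243 (flp_b L180147) q12815, e3 q10244 L193419 q14617, e3 q10245 L193425 q14618, e3 q10246 (flp_b L171312) q11649, e3 q10247 L160886 q7363, e3 q10248 (flp_b L160888) q6363, e3 q10249 L193469 q14626, e3 q10250 (flp_b L182593) q13170, e3 q10251 (flp_b L171308) q11648, e3 q10252 L193485 q14630, e3 q10253 L193497 q14632, e3 q10254 (flp_b L184328) q13404, e3 q10255 L160928 q9148, e3 q10256 (flp_b L160930) q6368, e3 q10257 L160940 q6370, e3 q10258 (flp_b L179817) q12778, e3 q10259 L193547 q14638, e3 q10260 (flp_b L178641) q12622, e3 q10261 L193589 q14643, e3 q10262 L193599 q14644, e3 q10263 (flp_b L160976) q6371, e3 q10264 (flp_b L160986) q6372, e3 q10265 L160992 q10195, e3 q10266 L160996 q10196, e3 q10267 L193655 q14653, e3 q10268 L193669 q14655, e3 q10269 L161014 q10199, e3 q10270 L161022 q7230, e3 q10271 L193701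 q14659, e3 q10272 L193707 q14660, e3 q10273 (flp_b L161038) q6377, e3 q10274 (flp_b L161044) q6378, e3 q10275 L161054 q6380, e3 q10276 (flp_b L180035) q12803, e3 q10277 L193759 q14667, e3 q10278 (flp_b L178719) q12633, e3 q10279 L193801 q14672, e3 q10280 L193805 q14673, e3 q10281 (flp_b L161090) q6381, e3 q10282 (flp_b L161094) q6382, e3 q10283 L161106 q10230, e3 q10284 L161110 q10231, e3 q10285 L193871 q14682, e3 q10286 L193883 q14684, e3 q10287 L161128 q7330, e3 q10288 L161136 q10235, e3 q10289 L193917 q14688, e3 q10290 L193923 q14689, e3 q10291 (flp_b L161152) q6387, e3 q10292 (flp_b L161158) q6388, e3 q10293 L161166 q8951, e3 q10294 (flp_b L189503) q14057, e3 q10295 L161180 q9019, e3 q10296 (flp_b L189927) q14110, e3 q10297 L161194 q6400, e3 q10298 L161202 q9143, e3 q10299 L161206 q6402, e3 q10300 L161214 q9090, e3 q10301 L161244 q6407, e3 q10302 L194033 q14702, e3 q10303 (flp_b L166812) q10943, trivial⟩ (by decide +kernel)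

theorem ce_b_161 : ∀ r, r < 64 → sm gb (Qf (10304 + r)) = Qf (tab Gen.b (10304 + r)) :=
  edges_tab (sm gb) Qf (tab Gen.b) 10304 [(10304, 14704), (10305, 10487), (10306, 6409), (10307, 11915), (10308, 11813), (10309, 7755), (10310, 11733), (10311, 6416), (10312, 10392), (10313, 11832), (10314, 12502), (10315, 6419), (10316, 8561), (10317, 6421), (10318, 12283), (10319, 14710), (10320, 9450), (10321, 11956), (10322, 12322), (10323, 6425), (10324, 8104), (10325, 14713), (10326, 6427), (10327, 6428), (10328, 6459), (10329, 14714), (10330, 14716), (10331, 12321), (10332, 12377), (10333, 6431), (10334, 6758), (10335, 11959), (10336, 14718), (10337, 6435), (10338, 6438), (10339, 14721), (10340, 10955), (10341, 14723), (10342, 6439), (10343, 12121), (10344, 10532), (10345, 12030), (10346, 7913), (10347, 11776), (10348, 6447), (10349, 10426), (10350, 12043), (10351, 12500), (10352, 6450), (10353, 8570), (10354, 6452), (10355, 12224), (10356, 14729), (10357, 9441), (10358, 12159), (10359, 12260), (10360, 6456), (10361,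 8060), (10362, 14732), (10363, 6458), (10364, 14733), (10365, 12259), (10366, 14735), (10367, 12331)]
    ⟨e3 q10304 L194049 q14704, e3 q10305 (flp_b L162494) q10487, e3 q10306 (flp_b L161284) q6409, e3 q10307 (flp_b L173162) q11915, e3 q10308 (flp_b L172442) q11813, e3 q10309 L161306 q7755, e3 q10310 (flp_b L171911) q11733, e3 q10311 L161318 q6416, e3 q10312 (flp_b L161886) q10392, e3 q10313 (flp_b L172553) q11832, e3 q10314 (flp_b L177619) q12502, e3 q10315 (flp_b L161344) q6419, e3 q10316 L161376 q8561, e3 q10317 (flp_b L161358) q6421, e3 q10318 L175853 q12283, e3 q10319 L194097 q14710, e3 q10320 (flp_b L161386) q9450, e3 q10321 (flp_b L173455) q11956, e3 q10322 (flp_b L176105) q12322, e3 q10323 (flp_b L161402) q6425, e3 q10324 (flp_b L163417) q8104, e3 q10325 L194123 q14713, e3 q10326 (flp_b L161422) q6427, e3 q10327 (flp_b L161430) q6428, e3 q10328 L163286 q6459, e3 q10329 L194137 q14714, e3 q10330 L194155 q14716, e3 q10331 (flp_b L176095) q12321, e3 q10332 (flp_b L176588) q12377, e3 q10333 (flp_b L161462)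 q6431, e3 q10334 L163274 q6758, e3 q10335 (flp_b L173485) q11959, e3 q10336 L194175 q14718, e3 q10337 (flp_b L161488) q6435, e3 q10338 L161495 q6438, e3 q10339 L194195 q14721, e3 q10340 (flp_b L166895) q10955, e3 q10341 L194211 q14723, e3 q10342 (flp_b L161529) q6439, e3 q10343 (flp_b L174675) q12121, e3 q10344 L162776 q10532, e3 q10345 (flp_b L173933) q12030, e3 q10346 L161557 q7913, e3 q10347 (flp_b L172202) q11776, e3 q10348 L161569 q6447, e3 q10349 (flp_b L162120) q10426, e3 q10350 (flp_b L174030) q12043, e3 q10351 (flp_b L177604) q12500, e3 q10352 (flp_b L161595) q6450, e3 q10353 (flp_b L161627) q8570, e3 q10354 (flp_b L161609) q6452, e3 q10355 L175422 q12224, e3 q10356 L194259 q14729, e3 q10357 (flp_b L161637) q9441, e3 q10358 L174956 q12159, e3 q10359 (flp_b L175689) q12260, e3 q10360 (flp_b L161653) q6456, e3 q10361 (flp_b L163554) q8060, e3 q10362 L194285 q14732, e3 q10363 (flp_b L161673) q6458, e3 q10364 L194309 q14733, e3 q10365 (flp_b L175679) q12259, e3 q10366 L194327 q14735, e3 q10367 (flp_b L176167)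 q12331, trivial⟩ (by decide +kernel)

theorem ce_b_162 : ∀ r, r < 64 → sm gb (Qf (10368 + r)) = Qf (tab Gen.b (10368 + r)) :=
  edges_tab (sm gb) Qf (tab Gen.b) 10368 [(10368, 6462), (10369, 6832), (10370, 12162), (10371, 14737), (10372, 6466), (10373, 6471), (10374, 11824), (10375, 6473), (10376, 13262), (10377, 11885), (10378, 8190), (10379, 6475), (10380, 12240), (10381, 6481), (10382, 9860), (10383, 6811), (10384, 6483), (10385, 6894), (10386, 10420), (10387, 6900), (10388, 14748), (10389, 6490), (10390, 6491), (10391, 14751), (10392, 10312), (10393, 14026), (10394, 10490), (10395, 7484), (10396, 10535), (10397, 8980), (10398, 6495), (10399, 12158), (10400, 14071), (10401, 6499), (10402, 14757), (10403, 14759), (10404, 6498), (10405, 11919), (10406, 6500), (10407, 6505), (10408, 12046), (10409, 6507), (10410, 13275), (10411, 12094), (10412, 8160), (10413, 6509), (10414, 12300), (10415, 6514), (10416, 9806), (10417, 6737), (10418, 6516), (10419, 6897), (10420, 10386), (10421, 6902), (10422, 14769), (10423, 6523),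 (10424, 6524), (10425, 14772), (10426, 10349), (10427, 14083), (10428, 10536), (10429, 7493), (10430, 10489), (10431, 9045)]
    ⟨e3 q10368 (flp_b L161713) q6462, e3 q10369 L163570 q6832, e3 q10370 (flp_b L174992) q12162, e3 q10371 L194347 q14737, e3 q10372 (flp_b L161739) q6466, e3 q10373 (flp_b L161742) q6471, e3 q10374 (flp_b L172509) q11824, e3 q10375 (flp_b L161756) q6473, e3 q10376 L183233 q13262, e3 q10377 (flp_b L172949) q11885, e3 q10378 (flp_b L163509) q8190, e3 q10379 (flp_b L161774) q6475, e3 q10380 (flp_b L175563) q12240, e3 q10381 L161790 q6481, e3 q10382 L161806 q9860, e3 q10383 L161814 q6811, e3 q10384 (flp_b L161816) q6483, e3 q10385 L161834 q6894, e3 q10386 (flp_b L162072) q10420, e3 q10387 L161856 q6900, e3 q10388 L194438 q14748, e3 q10389 (flp_b L161864) q6490, e3 q10390 (flp_b L161870) q6491, e3 q10391 L194462 q14751, e3 q10392 L161886 q10312, e3 q10393 (flp_b L189255) q14026, e3 q10394 (flp_b L162516) q10490, e3 q10395 (flp_b L161900) q7484, e3 q10396 (flp_b L162808) q10535, e3 q10397 L161910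 q8980, e3 q10398 (flp_b L161912) q6495, e3 q10399 L174948 q12158, e3 q10400 (flp_b L189603) q14071, e3 q10401 L161930 q6499, e3 q10402 L194524 q14757, e3 q10403 L194542 q14759, e3 q10404 (flp_b L161942) q6498, e3 q10405 (flp_b L173194) q11919, e3 q10406 (flp_b L161960) q6500, e3 q10407 (flp_b L161972) q6505, e3 q10408 (flp_b L174054) q12046, e3 q10409 (flp_b L161986) q6507, e3 q10410 L183315 q13275, e3 q10411 (flp_b L174446) q12094, e3 q10412 (flp_b L163643) q8160, e3 q10413 (flp_b L162004) q6509, e3 q10414 (flp_b L175965) q12300, e3 q10415 L162020 q6514, e3 q10416 L162036 q9806, e3 q10417 L162044 q6737, e3 q10418 (flp_b L162046) q6516, e3 q10419 L162064 q6897, e3 q10420 L162072 q10386, e3 q10421 L162088 q6902, e3 q10422 L194631 q14769, e3 q10423 (flp_b L162098) q6523, e3 q10424 (flp_b L162104) q6524, e3 q10425 L194655 q14772, e3 q10426 L162120 q10349, e3 q10427 (flp_b L189687) q14083, e3 q10428 (flp_b L162812) q10536, e3 q10429 L162792 q7493, e3 q10430 (flp_b L162512) q10489, e3 q10431 L162142 q9045, trivial⟩ (by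 decide +kernel)

theorem ce_b_163 : ∀ r, r < 64 → sm gb (Qf (10432 + r)) = Qf (tab Gen.b (10432 + r)) :=
  edges_tab (sm gb) Qf (tab Gen.b) 10432 [(10432, 6528), (10433, 11955), (10434, 14122), (10435, 6532), (10436, 14778), (10437, 14780), (10438, 6531), (10439, 12125), (10440, 6533), (10441, 6535), (10442, 8350), (10443, 12794), (10444, 12954), (10445, 14782), (10446, 6539), (10447, 10462), (10448, 14783), (10449, 10545), (10450, 12863), (10451, 9915), (10452, 14785), (10453, 6545), (10454, 14788), (10455, 6546), (10456, 13303), (10457, 14167), (10458, 6548), (10459, 9098), (10460, 6550), (10461, 14030), (10462, 10447), (10463, 14793), (10464, 6554), (10465, 12112), (10466, 14028), (10467, 6557), (10468, 14745), (10469, 10521), (10470, 12808), (10471, 10519), (10472, 8416), (10473, 6566), (10474, 7989), (10475, 11705), (10476, 8545), (10477, 8454), (10478, 6565), (10479, 14807), (10480, 14803), (10481, 14809), (10482, 13347), (10483, 13306), (10484, 6569), (10485, 6570), (10486, 14029), (10487, 10305), (10488,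 8954), (10489, 10430), (10490, 10394), (10491, 6574), (10492, 8354), (10493, 12769), (10494, 14816), (10495, 13031)]
    ⟨e3 q10432 (flp_b L162144) q6528, e3 q10433 L173447 q11955, e3 q10434 (flp_b L190029) q14122, e3 q10435 L162158 q6532, e3 q10436 L194717 q14778, e3 q10437 L194735 q14780, e3 q10438 (flp_b L162170) q6531, e3 q10439 (flp_b L174713) q12125, e3 q10440 (flp_b L162188) q6533, e3 q10441 (flp_b L162200) q6535, e3 q10442 L162210 q8350, e3 q10443 (flp_b L179969) q12794, e3 q10444 (flp_b L181137) q12954, e3 q10445 L194755 q14782, e3 q10446 (flp_b L162236) q6539, e3 q10447 (flp_b L162348) q10462, e3 q10448 L194763 q14783, e3 q10449 (flp_b L162909) q10545, e3 q10450 (flp_b L180523) q12863, e3 q10451 L162283 q9915, e3 q10452 L194789 q14785, e3 q10453 (flp_b L162291) q6545, e3 q10454 L194815 q14788, e3 q10455 (flp_b L162305) q6546, e3 q10456 L183569 q13303, e3 q10457 (flp_b L190355) q14167, e3 q10458 (flp_b L162329) q6548, e3 q10459 (flp_b L183543) q9098, e3 q10460 (flp_b L162342) q6550, e3 q10461 L189301 q14030,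 e3 q10462 L162348 q10447, e3 q10463 L194861 q14793, e3 q10464 (flp_b L162354) q6554, e3 q10465 L174617 q12112, e3 q10466 L189277 q14028, e3 q10467 (flp_b L162362) q6557, e3 q10468 (flp_b L194414) q14745, e3 q10469 (flp_b L162708) q10521, e3 q10470 (flp_b L180089) q12808, e3 q10471 (flp_b L162696) q10519, e3 q10472 L162392 q8416, e3 q10473 L162400 q6566, e3 q10474 L162406 q7989, e3 q10475 (flp_b L171670) q11705, e3 q10476 L162422 q8545, e3 q10477 L162430 q8454, e3 q10478 (flp_b L162432) q6565, e3 q10479 L194987 q14807, e3 q10480 (flp_b L194961) q14803, e3 q10481 L195001 q14809, e3 q10482 L183907 q13347, e3 q10483 (flp_b L183599) q13306, e3 q10484 (flp_b L162468) q6569, e3 q10485 (flp_b L162474) q6570, e3 q10486 (flp_b L189289) q14029, e3 q10487 L162494 q10305, e3 q10488 L162500 q8954, e3 q10489 L162512 q10430, e3 q10490 L162516 q10394, e3 q10491 (flp_b L162518) q6574, e3 q10492 L162528 q8354, e3 q10493 (flp_b L179751) q12769, e3 q10494 L195065 q14816, e3 q10495 (flp_b L181669) q13031, trivial⟩ (by decide +kernel)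

theorem ce_b_164 : ∀ r, r < 64 → sm gb (Qf (10496 + r)) = Qf (tab Gen.b (10496 + r)) :=
  edges_tab (sm gb) Qf (tab Gen.b) 10496 [(10496, 6577), (10497, 14817), (10498, 10511), (10499, 10600), (10500, 12857), (10501, 9898), (10502, 6583), (10503, 14821), (10504, 14822), (10505, 13363), (10506, 14188), (10507, 6586), (10508, 6587), (10509, 6588), (10510, 14087), (10511, 10498), (10512, 9152), (10513, 14825), (10514, 6593), (10515, 14085), (10516, 11905), (10517, 6596), (10518, 14766), (10519, 10471), (10520, 12783), (10521, 10469), (10522, 8397), (10523, 6605), (10524, 8048), (10525, 11699), (10526, 8517), (10527, 8465), (10528, 6604), (10529, 14835), (10530, 13287), (10531, 13289), (10532, 10344), (10533, 14086), (10534, 9021), (10535, 10396), (10536, 10428), (10537, 10537), (10538, 10806), (10539, 12398), (10540, 8444), (10541, 10558), (10542, 10778), (10543, 9664), (10544, 9661), (10545, 10449), (10546, 12836), (10547, 9921), (10548, 8212), (10549, 8598), (10550, 14847), (10551, 14848), (10552, 6627), (10553,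 6628), (10554, 9055), (10555, 6677), (10556, 6632), (10557, 12775), (10558, 10541), (10559, 6720)]
    ⟨e3 q10496 (flp_b L162554) q6577, e3 q10497 L195073 q14817, e3 q10498 (flp_b L162657) q10511, e3 q10499 (flp_b L164240) q10600, e3 q10500 L180471 q12857, e3 q10501 L162601 q9898, e3 q10502 (flp_b L162603) q6583, e3 q10503 L195119 q14821, e3 q10504 L195123 q14822, e3 q10505 L184023 q13363, e3 q10506 (flp_b L190551) q14188, e3 q10507 (flp_b L162643) q6586, e3 q10508 (flp_b L162647) q6587, e3 q10509 (flp_b L162651) q6588, e3 q10510 L189733 q14087, e3 q10511 L162657 q10498, e3 q10512 (flp_b L175838) q9152, e3 q10513 L195147 q14825, e3 q10514 (flp_b L162672) q6593, e3 q10515 (flp_b L189707) q14085, e3 q10516 L173098 q11905, e3 q10517 (flp_b L162680) q6596, e3 q10518 (flp_b L194607) q14766, e3 q10519 L162696 q10471, e3 q10520 (flp_b L179871) q12783, e3 q10521 L162708 q10469, e3 q10522 L162714 q8397, e3 q10523 L162722 q6605, e3 q10524 L162728 q8048, e3 q10525 (flp_b L171626) q11699, e3 q10526 L162744 q8517, e3 q10527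 L162752 q8465, e3 q10528 (flp_b L162754) q6604, e3 q10529 (flp_b L195247) q14835, e3 q10530 L183417 q13287, e3 q10531 (flp_b L183457) q13289, e3 q10532 (flp_b L162776) q10344, e3 q10533 (flp_b L189721) q14086, e3 q10534 (flp_b L162790) q9021, e3 q10535 L162808 q10396, e3 q10536 L162812 q10428, e3 q10537 L162822 q10537, e3 q10538 (flp_b L165794) q10806, e3 q10539 (flp_b L176801) q12398, e3 q10540 L162845 q8444, e3 q10541 (flp_b L163031) q10558, e3 q10542 (flp_b L165598) q10778, e3 q10543 (flp_b L162873) q9664, e3 q10544 (flp_b L162887) q9661, e3 q10545 L162909 q10449, e3 q10546 (flp_b L180319) q12836, e3 q10547 L162931 q9921, e3 q10548 L162937 q8212, e3 q10549 L162951 q8598, e3 q10550 L195348 q14847, e3 q10551 L195360 q14848, e3 q10552 (flp_b L162969) q6627, e3 q10553 (flp_b L162975) q6628, e3 q10554 L162991 q9055, e3 q10555 L163001 q6677, e3 q10556 (flp_b L163003) q6632, e3 q10557 (flp_b L179795) q12775, e3 q10558 L163031 q10541, e3 q10559 L163039 q6720, trivial⟩ (by decide +kernel)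

theorem ce_b_165 : ∀ r, r < 64 → sm gb (Qf (10560 + r)) = Qf (tab Gen.b (10560 + r)) :=
  edges_tab (sm gb) Qf (tab Gen.b) 10560 [(10560, 10613), (10561, 6635), (10562, 6637), (10563, 14852), (10564, 6727), (10565, 14857), (10566, 6731), (10567, 6641), (10568, 8729), (10569, 8089), (10570, 7559), (10571, 12601), (10572, 8092), (10573, 14754), (10574, 6682), (10575, 6654), (10576, 8136), (10577, 6649), (10578, 8468), (10579, 6803), (10580, 14866), (10581, 6658), (10582, 8153), (10583, 9687), (10584, 14862), (10585, 6728), (10586, 6656), (10587, 8168), (10588, 6769), (10589, 14873), (10590, 6657), (10591, 14875), (10592, 10592), (10593, 10827), (10594, 12352), (10595, 8443), (10596, 10611), (10597, 10694), (10598, 9657), (10599, 9668), (10600, 10499), (10601, 12831), (10602, 9904), (10603, 8213), (10604, 14880), (10605, 8602), (10606, 6674), (10607, 14846), (10608, 8991), (10609, 6679), (10610, 12800), (10611, 10596), (10612, 6795), (10613, 10560), (10614, 6683), (10615, 14884), (10616, 6799), (10617, 14889), (10618,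 6686), (10619, 8775), (10620, 8131), (10621, 7604), (10622, 12599), (10623, 8132)]
    ⟨e3 q10560 (flp_b L164366) q10613, e3 q10561 (flp_b L163049) q6635, e3 q10562 (flp_b L163057) q6637, e3 q10563 L195406 q14852, e3 q10564 L163079 q6727, e3 q10565 L195438 q14857, e3 q10566 L163093 q6731, e3 q10567 (flp_b L163095) q6641, e3 q10568 L163105 q8729, e3 q10569 L163115 q8089, e3 q10570 (flp_b L163127) q7559, e3 q10571 (flp_b L178473) q12601, e3 q10572 L164017 q8092, e3 q10573 (flp_b L194492) q14754, e3 q10574 L164033 q6682, e3 q10575 L164037 q6654, e3 q10576 L164045 q8136, e3 q10577 (flp_b L164047) q6649, e3 q10578 L164067 q8468, e3 q10579 L164077 q6803, e3 q10580 L195512 q14866, e3 q10581 L164083 q6658, e3 q10582 L164089 q8153, e3 q10583 (flp_b L164099) q9687, e3 q10584 (flp_b L195480) q14862, e3 q10585 L164113 q6728, e3 q10586 L164121 q6656, e3 q10587 L164127 q8168, e3 q10588 L164133 q6769, e3 q10589 (flp_b L195576) q14873, e3 q10590 (flp_b L164145) q6657, e3 q10591 (flp_b L195594) q14875, e3 q10592 L164167 q10592,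 e3 q10593 (flp_b L165963) q10827, e3 q10594 (flp_b L176378) q12352, e3 q10595 L164192 q8443, e3 q10596 (flp_b L164346) q10611, e3 q10597 L164977 q10694, e3 q10598 L164220 q9657, e3 q10599 L164234 q9668, e3 q10600 L164240 q10499, e3 q10601 L180267 q12831, e3 q10602 L164264 q9904, e3 q10603 L164270 q8213, e3 q10604 L195645 q14880, e3 q10605 L164290 q8602, e3 q10606 (flp_b L164292) q6674, e3 q10607 (flp_b L195346) q14846, e3 q10608 L164316 q8991, e3 q10609 (flp_b L164318) q6679, e3 q10610 (flp_b L180013) q12800, e3 q10611 L164346 q10596, e3 q10612 L164354 q6795, e3 q10613 L164366 q10560, e3 q10614 (flp_b L164368) q6683, e3 q10615 L195691 q14884, e3 q10616 L164390 q6799, e3 q10617 L195725 q14889, e3 q10618 (flp_b L164400) q6686, e3 q10619 L164410 q8775, e3 q10620 L164420 q8131, e3 q10621 (flp_b L164432) q7604, e3 q10622 L178447 q12599, e3 q10623 L164442 q8132, trivial⟩ (by decide +kernel)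

theorem ce_b_166 : ∀ r, r < 64 → sm gb (Qf (10624 + r)) = Qf (tab Gen.b (10624 + r)) :=
  edges_tab (sm gb) Qf (tab Gen.b) 10624 [(10624, 14775), (10625, 6698), (10626, 8147), (10627, 6694), (10628, 8457), (10629, 14872), (10630, 6700), (10631, 8184), (10632, 9709), (10633, 14893), (10634, 6800), (10635, 6842), (10636, 8199), (10637, 10637), (10638, 14902), (10639, 6703), (10640, 14903), (10641, 10641), (10642, 10645), (10643, 14904), (10644, 10644), (10645, 10642), (10646, 9074), (10647, 8540), (10648, 6708), (10649, 6709), (10650, 6710), (10651, 13550), (10652, 13587), (10653, 6714), (10654, 6839), (10655, 14907), (10656, 6719), (10657, 6722), (10658, 9239), (10659, 10690), (10660, 14910), (10661, 6747), (10662, 6726), (10663, 14855), (10664, 6742), (10665, 10691), (10666, 6730), (10667, 13956), (10668, 14858), (10669, 9350), (10670, 6734), (10671, 6735), (10672, 6733), (10673, 14918), (10674, 14919), (10675, 14920), (10676, 14921), (10677, 6738), (10678, 6763), (10679, 14916), (10680, 9328), (10681, 9334), (10682,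 10787), (10683, 13672), (10684, 6746), (10685, 9265), (10686, 6749), (10687, 14924)]
    ⟨e3 q10624 (flp_b L194685) q14775, e3 q10625 L164452 q6698, e3 q10626 L164460 q8147, e3 q10627 (flp_b L164462) q6694, e3 q10628 L164478 q8457, e3 q10629 (flp_b L195566) q14872, e3 q10630 L164486 q6700, e3 q10631 L164492 q8184, e3 q10632 (flp_b L164502) q9709, e3 q10633 (flp_b L195759) q14893, e3 q10634 L164518 q6800, e3 q10635 L164522 q6842, e3 q10636 L164530 q8199, e3 q10637 L164536 q10637, e3 q10638 L195829 q14902, e3 q10639 (flp_b L164545) q6703, e3 q10640 L195836 q14903, e3 q10641 L164559 q10641, e3 q10642 (flp_b L164589) q10645, e3 q10643 L195844 q14904, e3 q10644 L164580 q10644, e3 q10645 L164589 q10642, e3 q10646 L164601 q9074, e3 q10647 (flp_b L164615) q8540, e3 q10648 (flp_b L164617) q6708, e3 q10649 (flp_b L164629) q6709, e3 q10650 (flp_b L164639) q6710, e3 q10651 (flp_b L185449) q13550, e3 q10652 (flp_b L185839) q13587, e3 q10653 (flp_b L164661) q6714, e3 q10654 (flp_b L164671) q6839, e3 q10655 L195876 q14907, e3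 q10656 (flp_b L164683) q6719, e3 q10657 (flp_b L164689) q6722, e3 q10658 L164701 q9239, e3 q10659 (flp_b L164947) q10690, e3 q10660 L195900 q14910, e3 q10661 L164719 q6747, e3 q10662 (flp_b L164721) q6726, e3 q10663 (flp_b L195428) q14855, e3 q10664 L164745 q6742, e3 q10665 (flp_b L164955) q10691, e3 q10666 (flp_b L164755) q6730, e3 q10667 (flp_b L188747) q13956, e3 q10668 (flp_b L195454) q14858, e3 q10669 L164771 q9350, e3 q10670 L164777 q6734, e3 q10671 L164785 q6735, e3 q10672 (flp_b L164787) q6733, e3 q10673 L195976 q14918, e3 q10674 L195980 q14919, e3 q10675 L195994 q14920, e3 q10676 L196001 q14921, e3 q10677 (flp_b L164837) q6738, e3 q10678 L164845 q6763, e3 q10679 (flp_b L195964) q14916, e3 q10680 L164873 q9328, e3 q10681 (flp_b L164887) q9334, e3 q10682 (flp_b L165664) q10787, e3 q10683 L186553 q13672, e3 q10684 (flp_b L164901) q6746, e3 q10685 (flp_b L164917) q9265, e3 q10686 L164921 q6749, e3 q10687 (flp_b L196045) q14924, trivial⟩ (by decide +kernel)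

theorem ce_b_167 : ∀ r, r < 64 → sm gb (Qf (10688 + r)) = Qf (tab Gen.b (10688 + r)) :=
  edges_tab (sm gb) Qf (tab Gen.b) 10688 [(10688, 6750), (10689, 13702), (10690, 10659), (10691, 10665), (10692, 12749), (10693, 6754), (10694, 10597), (10695, 6759), (10696, 14926), (10697, 6762), (10698, 12338), (10699, 12127), (10700, 14928), (10701, 14929), (10702, 6765), (10703, 10730), (10704, 9297), (10705, 10766), (10706, 6766), (10707, 14931), (10708, 14936), (10709, 14937), (10710, 6770), (10711, 14874), (10712, 10712), (10713, 12164), (10714, 14939), (10715, 6772), (10716, 10802), (10717, 14941), (10718, 6773), (10719, 12753), (10720, 10801), (10721, 10797), (10722, 14947), (10723, 14948), (10724, 10724), (10725, 14950), (10726, 6779), (10727, 14951), (10728, 14952), (10729, 10729), (10730, 10703), (10731, 9129), (10732, 8511), (10733, 6784), (10734, 6785), (10735, 13565), (10736, 13562), (10737, 6788), (10738, 6790), (10739, 14955), (10740, 6794), (10741, 10774), (10742, 14957), (10743, 6820), (10744, 6798), (10745,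 14887), (10746, 6816), (10747, 10775), (10748, 6802), (10749, 13976), (10750, 14865), (10751, 6804)]
    ⟨e3 q10688 (flp_b L164933) q6750, e3 q10689 L186845 q13702, e3 q10690 L164947 q10659, e3 q10691 L164955 q10665, e3 q10692 (flp_b L179589) q12749, e3 q10693 (flp_b L164959) q6754, e3 q10694 (flp_b L164977) q10597, e3 q10695 (flp_b L164979) q6759, e3 q10696 L196059 q14926, e3 q10697 L164997 q6762, e3 q10698 (flp_b L176248) q12338, e3 q10699 L174743 q12127, e3 q10700 (flp_b L196083) q14928, e3 q10701 L196087 q14929, e3 q10702 L165019 q6765, e3 q10703 (flp_b L165200) q10730, e3 q10704 L165035 q9297, e3 q10705 (flp_b L165508) q10766, e3 q10706 (flp_b L165041) q6766, e3 q10707 (flp_b L196109) q14931, e3 q10708 L196133 q14936, e3 q10709 L196141 q14937, e3 q10710 L165057 q6770, e3 q10711 (flp_b L195588) q14874, e3 q10712 L165069 q10712, e3 q10713 (flp_b L175011) q12164, e3 q10714 L196148 q14939, e3 q10715 L165086 q6772, e3 q10716 (flp_b L165764) q10802, e3 q10717 (flp_b L196163) q14941, e3 q10718 (flp_b L165108) q6773,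 e3 q10719 L179615 q12753, e3 q10720 (flp_b L165752) q10801, e3 q10721 (flp_b L165728) q10797, e3 q10722 L196213 q14947, e3 q10723 L196216 q14948, e3 q10724 L165146 q10724, e3 q10725 L196236 q14950, e3 q10726 (flp_b L165155) q6779, e3 q10727 L196245 q14951, e3 q10728 L196253 q14952, e3 q10729 L165187 q10729, e3 q10730 L165200 q10703, e3 q10731 L165212 q9129, e3 q10732 (flp_b L165226) q8511, e3 q10733 (flp_b L165228) q6784, e3 q10734 (flp_b L165240) q6785, e3 q10735 (flp_b L185607) q13565, e3 q10736 (flp_b L185575) q13562, e3 q10737 (flp_b L165268) q6788, e3 q10738 (flp_b L165280) q6790, e3 q10739 L196285 q14955, e3 q10740 (flp_b L165292) q6794, e3 q10741 (flp_b L165568) q10774, e3 q10742 L196301 q14957, e3 q10743 L165314 q6820, e3 q10744 (flp_b L165316) q6798, e3 q10745 (flp_b L195713) q14887, e3 q10746 L165340 q6816, e3 q10747 (flp_b L165576) q10775, e3 q10748 (flp_b L165350) q6802, e3 q10749 (flp_b L188899) q13976, e3 q10750 (flp_b L195510) q14865, e3 q10751 (flp_b L165358) q6804, trivial⟩ (by decide +kernel)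

theorem ce_b_168 : ∀ r, r < 64 → sm gb (Qf (10752 + r)) = Qf (tab Gen.b (10752 + r)) :=
  edges_tab (sm gb) Qf (tab Gen.b) 10752 [(10752, 9203), (10753, 9309), (10754, 6808), (10755, 6809), (10756, 6807), (10757, 14966), (10758, 14967), (10759, 14968), (10760, 14969), (10761, 6812), (10762, 6837), (10763, 14963), (10764, 9280), (10765, 9287), (10766, 10705), (10767, 13675), (10768, 6821), (10769, 9318), (10770, 6823), (10771, 14972), (10772, 6824), (10773, 13704), (10774, 10741), (10775, 10747), (10776, 12740), (10777, 6828), (10778, 10542), (10779, 6833), (10780, 14974), (10781, 6836), (10782, 11921), (10783, 12384), (10784, 14976), (10785, 14977), (10786, 9339), (10787, 10682), (10788, 6840), (10789, 14979), (10790, 14984), (10791, 14985), (10792, 6844), (10793, 14876), (10794, 11961), (10795, 14987), (10796, 6846), (10797, 10721), (10798, 14989), (10799, 6847), (10800, 12757), (10801, 10720), (10802, 10716), (10803, 14995), (10804, 14996), (10805, 14997), (10806, 10538), (10807, 10828), (10808, 14999), (10809,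 6856), (10810, 11890), (10811, 9358), (10812, 15003), (10813, 10833), (10814, 6861), (10815, 9258)]
    ⟨e3 q10752 L165370 q9203, e3 q10753 L165380 q9309, e3 q10754 L165386 q6808, e3 q10755 L165394 q6809, e3 q10756 (flp_b L165396) q6807, e3 q10757 L196387 q14966, e3 q10758 L196393 q14967, e3 q10759 L196407 q14968, e3 q10760 L196414 q14969, e3 q10761 (flp_b L165450) q6812, e3 q10762 L165458 q6837, e3 q10763 (flp_b L196363) q14963, e3 q10764 L165486 q9280, e3 q10765 (flp_b L165500) q9287, e3 q10766 L165508 q10705, e3 q10767 (flp_b L186583) q13675, e3 q10768 (flp_b L165516) q6821, e3 q10769 (flp_b L165532) q9318, e3 q10770 L165542 q6823, e3 q10771 (flp_b L196458) q14972, e3 q10772 (flp_b L165554) q6824, e3 q10773 L186871 q13704, e3 q10774 L165568 q10741, e3 q10775 L165576 q10747, e3 q10776 (flp_b L179521) q12740, e3 q10777 (flp_b L165580) q6828, e3 q10778 L165598 q10542, e3 q10779 (flp_b L165600) q6833, e3 q10780 L196472 q14974, e3 q10781 L165618 q6836, e3 q10782 L173224 q11921, e3 q10783 (flp_b L176669) q12384, e3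 q10784 (flp_b L196496) q14976, e3 q10785 L196500 q14977, e3 q10786 L165660 q9339, e3 q10787 L165664 q10682, e3 q10788 (flp_b L165670) q6840, e3 q10789 (flp_b L196526) q14979, e3 q10790 L196554 q14984, e3 q10791 L196559 q14985, e3 q10792 L165692 q6844, e3 q10793 (flp_b L195606) q14876, e3 q10794 (flp_b L173504) q11961, e3 q10795 L196567 q14987, e3 q10796 L165716 q6846, e3 q10797 L165728 q10721, e3 q10798 (flp_b L196582) q14989, e3 q10799 (flp_b L165740) q6847, e3 q10800 L179643 q12757, e3 q10801 L165752 q10720, e3 q10802 L165764 q10716, e3 q10803 L196638 q14995, e3 q10804 L196641 q14996, e3 q10805 L196653 q14997, e3 q10806 L165794 q10538, e3 q10807 (flp_b L165975) q10828, e3 q10808 L196671 q14999, e3 q10809 (flp_b L165812) q6856, e3 q10810 (flp_b L172989) q11890, e3 q10811 L165828 q9358, e3 q10812 L196701 q15003, e3 q10813 (flp_b L166009) q10833, e3 q10814 (flp_b L165846) q6861, e3 q10815 L165859 q9258, trivial⟩ (by decide +kernel)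

theorem ce_b_169 : ∀ r, r < 64 → sm gb (Qf (10816 + r)) = Qf (tab Gen.b (10816 + r)) :=
  edges_tab (sm gb) Qf (tab Gen.b) 10816 [(10816, 14925), (10817, 6865), (10818, 6866), (10819, 6868), (10820, 9294), (10821, 15001), (10822, 10825), (10823, 9336), (10824, 15004), (10825, 10822), (10826, 15011), (10827, 10593), (10828, 10807), (10829, 15013), (10830, 6877), (10831, 12099), (10832, 9359), (10833, 10813), (10834, 15016), (10835, 6883), (10836, 9311), (10837, 14973), (10838, 6886), (10839, 6887), (10840, 6889), (10841, 9292), (10842, 15014), (10843, 10846), (10844, 9291), (10845, 15017), (10846, 10843), (10847, 10018), (10848, 14746), (10849, 15026), (10850, 10053), (10851, 14767), (10852, 15030), (10853, 8351), (10854, 7540), (10855, 8355), (10856, 7585), (10857, 6919), (10858, 7182), (10859, 6904), (10860, 13602), (10861, 6923), (10862, 6927), (10863, 7284), (10864, 6907), (10865, 13599), (10866, 6931), (10867, 6909), (10868, 15034), (10869, 12844), (10870, 15039), (10871, 6911), (10872, 11215), (10873, 8635),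 (10874, 8626), (10875, 6913), (10876, 15046), (10877, 12850), (10878, 15051), (10879, 6915)]
    ⟨e3 q10816 (flp_b L196057) q14925, e3 q10817 (flp_b L165869) q6865, e3 q10818 (flp_b L165877) q6866, e3 q10819 (flp_b L165889) q6868, e3 q10820 L165901 q9294, e3 q10821 (flp_b L196687) q15001, e3 q10822 (flp_b L165947) q10825, e3 q10823 (flp_b L165921) q9336, e3 q10824 (flp_b L196715) q15004, e3 q10825 L165947 q10822, e3 q10826 L196765 q15011, e3 q10827 L165963 q10593, e3 q10828 L165975 q10807, e3 q10829 L196785 q15013, e3 q10830 (flp_b L165983) q6877, e3 q10831 (flp_b L174500) q12099, e3 q10832 L165999 q9359, e3 q10833 L166009 q10813, e3 q10834 L196811 q15016, e3 q10835 (flp_b L166029) q6883, e3 q10836 L166042 q9311, e3 q10837 (flp_b L196470) q14973, e3 q10838 (flp_b L166052) q6886, e3 q10839 (flp_b L166060) q6887, e3 q10840 (flp_b L166074) q6889, e3 q10841 L166086 q9292, e3 q10842 (flp_b L196795) q15014, e3 q10843 (flp_b L166132) q10846, e3 q10844 (flp_b L166106) q9291, e3 q10845 (flp_b L196825) q15017, e3 q10846 L166132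 q10843, e3 q10847 L166140 q10018, e3 q10848 (flp_b L194420) q14746, e3 q10849 L196883 q15026, e3 q10850 L166156 q10053, e3 q10851 (flp_b L194613) q14767, e3 q10852 L196909 q15030, e3 q10853 L166170 q8351, e3 q10854 L166180 q7540, e3 q10855 L166186 q8355, e3 q10856 L166196 q7585, e3 q10857 L166201 q6919, e3 q10858 L166218 q7182, e3 q10859 (flp_b L166220) q6904, e3 q10860 (flp_b L185979) q13602, e3 q10861 L166244 q6923, e3 q10862 L166249 q6927, e3 q10863 L166266 q7284, e3 q10864 (flp_b L166268) q6907, e3 q10865 (flp_b L185955) q13599, e3 q10866 L166292 q6931, e3 q10867 (flp_b L166294) q6909, e3 q10868 L196935 q15034, e3 q10869 (flp_b L180383) q12844, e3 q10870 L196971 q15039, e3 q10871 (flp_b L166320) q6911, e3 q10872 (flp_b L168542) q11215, e3 q10873 L166334 q8635, e3 q10874 L166342 q8626, e3 q10875 (flp_b L166344) q6913, e3 q10876 L197013 q15046, e3 q10877 (flp_b L180415) q12850, e3 q10878 L197049 q15051, e3 q10879 (flp_b L166370) q6915, trivial⟩ (by decide +kernel)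

theorem ce_b_170 : ∀ r, r < 64 → sm gb (Qf (10880 + r)) = Qf (tab Gen.b (10880 + r)) :=
  edges_tab (sm gb) Qf (tab Gen.b) 10880 [(10880, 11146), (10881, 8630), (10882, 8623), (10883, 7371), (10884, 11264), (10885, 11245), (10886, 14478), (10887, 15031), (10888, 11589), (10889, 7178), (10890, 7402), (10891, 11423), (10892, 11406), (10893, 14527), (10894, 15032), (10895, 11640), (10896, 7279), (10897, 6934), (10898, 10898), (10899, 10899), (10900, 6937), (10901, 15068), (10902, 6938), (10903, 15069), (10904, 12824), (10905, 6940), (10906, 12828), (10907, 6942), (10908, 10908), (10909, 6985), (10910, 10913), (10911, 10911), (10912, 6987), (10913, 10910), (10914, 14401), (10915, 15074), (10916, 6954), (10917, 15082), (10918, 14423), (10919, 15071), (10920, 6960), (10921, 15087), (10922, 9531), (10923, 8679), (10924, 9559), (10925, 15090), (10926, 6953), (10927, 14289), (10928, 15080), (10929, 15093), (10930, 6955), (10931, 15097), (10932, 8691), (10933, 9544), (10934, 9597), (10935, 15100), (10936, 6959), (10937,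 14344), (10938, 15085), (10939, 15103), (10940, 6961), (10941, 15107), (10942, 11277), (10943, 10303)]
    ⟨e3 q10880 (flp_b L168144) q11146, e3 q10881 L166384 q8630, e3 q10882 L166392 q8623, e3 q10883 L166398 q7371, e3 q10884 L168871 q11264, e3 q10885 L168740 q11245, e3 q10886 L192519 q14478, e3 q10887 (flp_b L196921) q15031, e3 q10888 L170923 q11589, e3 q10889 L166438 q7178, e3 q10890 L166444 q7402, e3 q10891 L169866 q11423, e3 q10892 L169751 q11406, e3 q10893 L192841 q14527, e3 q10894 (flp_b L196925) q15032, e3 q10895 L171262 q11640, e3 q10896 L166484 q7279, e3 q10897 L166489 q6934, e3 q10898 L166502 q10898, e3 q10899 L166511 q10899, e3 q10900 (flp_b L166512) q6937, e3 q10901 L197135 q15068, e3 q10902 (flp_b L166527) q6938, e3 q10903 L197141 q15069, e3 q10904 (flp_b L180227) q12824, e3 q10905 (flp_b L166548) q6940, e3 q10906 (flp_b L180249) q12828, e3 q10907 (flp_b L166555) q6942, e3 q10908 L166563 q10908, e3 q10909 L166567 q6985, e3 q10910 (flp_b L166613) q10913, e3 q10911 L166602 q10911, e3 q10912 L166606 q6987,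 e3 q10913 L166613 q10910, e3 q10914 (flp_b L192038) q14401, e3 q10915 (flp_b L197600) q15074, e3 q10916 L166650 q6954, e3 q10917 L197220 q15082, e3 q10918 (flp_b L192184) q14423, e3 q10919 (flp_b L197595) q15071, e3 q10920 L166670 q6960, e3 q10921 L197253 q15087, e3 q10922 L166688 q9531, e3 q10923 (flp_b L166696) q8679, e3 q10924 L166702 q9559, e3 q10925 L197279 q15090, e3 q10926 (flp_b L166712) q6953, e3 q10927 (flp_b L191257) q14289, e3 q10928 (flp_b L197212) q15080, e3 q10929 L197291 q15093, e3 q10930 (flp_b L166730) q6955, e3 q10931 L197307 q15097, e3 q10932 (flp_b L166744) q8691, e3 q10933 L166756 q9544, e3 q10934 L166764 q9597, e3 q10935 L197329 q15100, e3 q10936 (flp_b L166774) q6959, e3 q10937 (flp_b L191640) q14344, e3 q10938 (flp_b L197245) q15085, e3 q10939 L197341 q15103, e3 q10940 (flp_b L166792) q6961, e3 q10941 L197357 q15107, e3 q10942 L168945 q11277, e3 q10943 L166812 q10303, trivial⟩ (by decide +kernel)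

theorem ce_b_171 : ∀ r, r < 64 → sm gb (Qf (10944 + r)) = Qf (tab Gen.b (10944 + r)) :=
  edges_tab (sm gb) Qf (tab Gen.b) 10944 [(10944, 15109), (10945, 6967), (10946, 15110), (10947, 8857), (10948, 15113), (10949, 15115), (10950, 6971), (10951, 15119), (10952, 11318), (10953, 6973), (10954, 11437), (10955, 10340), (10956, 15121), (10957, 6978), (10958, 15122), (10959, 8871), (10960, 15125), (10961, 15127), (10962, 6982), (10963, 15131), (10964, 11477), (10965, 6984), (10966, 15132), (10967, 15133), (10968, 7003), (10969, 14250), (10970, 6992), (10971, 15137), (10972, 7012), (10973, 7019), (10974, 14270), (10975, 6997), (10976, 15144), (10977, 7028), (10978, 12868), (10979, 15149), (10980, 14269), (10981, 11213), (10982, 15151), (10983, 7004), (10984, 15152), (10985, 7007), (10986, 11113), (10987, 7006), (10988, 15157), (10989, 15154), (10990, 15162), (10991, 15163), (10992, 15156), (10993, 7010), (10994, 15166), (10995, 15171), (10996, 15172), (10997, 15140), (10998, 15176), (10999, 7013), (11000, 15180), (11001,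 7014), (11002, 15182), (11003, 12880), (11004, 11144), (11005, 14248), (11006, 15185), (11007, 7020)]
    ⟨e3 q10944 L197373 q15109, e3 q10945 (flp_b L166824) q6967, e3 q10946 (flp_b L197387) q15110, e3 q10947 L166842 q8857, e3 q10948 L197407 q15113, e3 q10949 L197421 q15115, e3 q10950 (flp_b L166856) q6971, e3 q10951 L197455 q15119, e3 q10952 (flp_b L169207) q11318, e3 q10953 (flp_b L166879) q6973, e3 q10954 L169950 q11437, e3 q10955 L166895 q10340, e3 q10956 L197473 q15121, e3 q10957 (flp_b L166907) q6978, e3 q10958 (flp_b L197487) q15122, e3 q10959 L166925 q8871, e3 q10960 L197507 q15125, e3 q10961 L197521 q15127, e3 q10962 (flp_b L166939) q6982, e3 q10963 L197555 q15131, e3 q10964 (flp_b L170212) q11477, e3 q10965 (flp_b L166962) q6984, e3 q10966 L197561 q15132, e3 q10967 L197568 q15133, e3 q10968 L166986 q7003, e3 q10969 (flp_b L190981) q14250, e3 q10970 (flp_b L167002) q6992, e3 q10971 L197607 q15137, e3 q10972 L167014 q7012, e3 q10973 L167020 q7019, e3 q10974 (flp_b L191125) q14270, e3 q10975 (flp_b L167056)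 q6997, e3 q10976 L197655 q15144, e3 q10977 L167068 q7028, e3 q10978 (flp_b L180569) q12868, e3 q10979 L197687 q15149, e3 q10980 (flp_b L191119) q14269, e3 q10981 L168528 q11213, e3 q10982 L197703 q15151, e3 q10983 L167112 q7004, e3 q10984 L197707 q15152, e3 q10985 L167126 q7007, e3 q10986 (flp_b L167910) q11113, e3 q10987 (flp_b L167136) q7006, e3 q10988 L197747 q15157, e3 q10989 (flp_b L197727) q15154, e3 q10990 L197767 q15162, e3 q10991 L197769 q15163, e3 q10992 (flp_b L197745) q15156, e3 q10993 (flp_b L167166) q7010, e3 q10994 (flp_b L197789) q15166, e3 q10995 L197807 q15171, e3 q10996 L197809 q15172, e3 q10997 (flp_b L197629) q15140, e3 q10998 L197823 q15176, e3 q10999 (flp_b L167188) q7013, e3 q11000 L197849 q15180, e3 q11001 (flp_b L167200) q7014, e3 q11002 L197859 q15182, e3 q11003 (flp_b L180637) q12880, e3 q11004 L168134 q11144, e3 q11005 (flp_b L190963) q14248, e3 q11006 L197883 q15185, e3 q11007 L167250 q7020, trivial⟩ (by decide +kernel)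

theorem ce_b_172 : ∀ r, r < 64 → sm gb (Qf (11008 + r)) = Qf (tab Gen.b (11008 + r)) :=
  edges_tab (sm gb) Qf (tab Gen.b) 11008 [(11008, 15186), (11009, 7023), (11010, 11183), (11011, 7022), (11012, 15191), (11013, 15188), (11014, 15196), (11015, 15197), (11016, 15190), (11017, 7026), (11018, 15200), (11019, 15205), (11020, 15206), (11021, 15147), (11022, 15210), (11023, 7029), (11024, 15214), (11025, 7030), (11026, 11026), (11027, 11568), (11028, 7185), (11029, 11310), (11030, 15216), (11031, 11569), (11032, 15217), (11033, 7040), (11034, 7041), (11035, 15218), (11036, 11274), (11037, 7047), (11038, 15226), (11039, 12285), (11040, 7049), (11041, 7046), (11042, 15228), (11043, 15233), (11044, 15224), (11045, 15238), (11046, 7048), (11047, 15240), (11048, 7051), (11049, 15247), (11050, 15230), (11051, 15248), (11052, 15244), (11053, 15252), (11054, 7052), (11055, 13231), (11056, 9644), (11057, 15259), (11058, 15261), (11059, 7055), (11060, 15265), (11061, 15266), (11062, 7057), (11063, 15268), (11064, 11620), (11065,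 11065), (11066, 11469), (11067, 7287), (11068, 11621), (11069, 15269), (11070, 15270), (11071, 7068)]
    ⟨e3 q11008 L197887 q15186, e3 q11009 L167264 q7023, e3 q11010 (flp_b L168344) q11183, e3 q11011 (flp_b L167274) q7022, e3 q11012 L197927 q15191, e3 q11013 (flp_b L197907) q15188, e3 q11014 L197947 q15196, e3 q11015 L197949 q15197, e3 q11016 (flp_b L197925) q15190, e3 q11017 (flp_b L167304) q7026, e3 q11018 (flp_b L197969) q15200, e3 q11019 L197987 q15205, e3 q11020 L197989 q15206, e3 q11021 (flp_b L197677) q15147, e3 q11022 L198003 q15210, e3 q11023 (flp_b L167326) q7029, e3 q11024 L198029 q15214, e3 q11025 (flp_b L167338) q7030, e3 q11026 L167356 q11026, e3 q11027 (flp_b L170801) q11568, e3 q11028 L167375 q7185, e3 q11029 (flp_b L169155) q11310, e3 q11030 L198039 q15216, e3 q11031 L172998 q11569, e3 q11032 L198049 q15217, e3 q11033 (flp_b L167415) q7040, e3 q11034 (flp_b L167421) q7041, e3 q11035 (flp_b L198063) q15218, e3 q11036 (flp_b L168925) q11274, e3 q11037 L167437 q7047, e3 q11038 L198101 q15226, e3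 q11039 (flp_b L175867) q12285, e3 q11040 L167458 q7049, e3 q11041 (flp_b L167460) q7046, e3 q11042 (flp_b L198115) q15228, e3 q11043 L198149 q15233, e3 q11044 (flp_b L198092) q15224, e3 q11045 L198175 q15238, e3 q11046 (flp_b L167484) q7048, e3 q11047 L198185 q15240, e3 q11048 L167494 q7051, e3 q11049 L198234 q15247, e3 q11050 (flp_b L198131) q15230, e3 q11051 L198240 q15248, e3 q11052 (flp_b L198220) q15244, e3 q11053 L198272 q15252, e3 q11054 (flp_b L167528) q7052, e3 q11055 L214054 q13231, e3 q11056 L214034 q9644, e3 q11057 L198336 q15259, e3 q11058 L198346 q15261, e3 q11059 (flp_b L167555) q7055, e3 q11060 L198370 q15265, e3 q11061 L198374 q15266, e3 q11062 (flp_b L167574) q7057, e3 q11063 (flp_b L198394) q15268, e3 q11064 L171140 q11620, e3 q11065 L167604 q11065, e3 q11066 (flp_b L170160) q11469, e3 q11067 L167625 q7287, e3 q11068 L174509 q11621, e3 q11069 L198396 q15269, e3 q11070 L198406 q15270, e3 q11071 (flp_b L167655) q7068, trivial⟩ (by decide +kernel)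

theorem ce_b_173 : ∀ r, r < 64 → sm gb (Qf (11072 + r)) = Qf (tab Gen.b (11072 + r)) :=
  edges_tab (sm gb) Qf (tab Gen.b) 11072 [(11072, 7069), (11073, 15271), (11074, 11434), (11075, 7075), (11076, 15279), (11077, 12226), (11078, 7077), (11079, 7074), (11080, 15281), (11081, 15286), (11082, 15277), (11083, 15291), (11084, 7076), (11085, 15293), (11086, 7079), (11087, 15282), (11088, 15300), (11089, 15301), (11090, 15297), (11091, 15305), (11092, 7080), (11093, 13251), (11094, 9650), (11095, 15312), (11096, 15314), (11097, 7083), (11098, 15318), (11099, 15319), (11100, 7085), (11101, 15321), (11102, 7087), (11103, 15044), (11104, 12924), (11105, 11175), (11106, 7089), (11107, 11292), (11108, 15327), (11109, 7092), (11110, 7093), (11111, 14396), (11112, 7096), (11113, 10986), (11114, 7095), (11115, 15043), (11116, 7128), (11117, 15333), (11118, 15340), (11119, 8589), (11120, 7099), (11121, 15343), (11122, 15345), (11123, 7100), (11124, 7101), (11125, 15347), (11126, 11131), (11127, 7103), (11128, 7109), (11129,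 15357), (11130, 7105), (11131, 11126), (11132, 7113), (11133, 10086), (11134, 12522), (11135, 15364)]
    ⟨e3 q11072 (flp_b L167661) q7069, e3 q11073 (flp_b L198420) q15271, e3 q11074 (flp_b L169930) q11434, e3 q11075 L167679 q7075, e3 q11076 L198466 q15279, e3 q11077 (flp_b L175436) q12226, e3 q11078 L167704 q7077, e3 q11079 (flp_b L167706) q7074, e3 q11080 (flp_b L198480) q15281, e3 q11081 L198514 q15286, e3 q11082 (flp_b L198453) q15277, e3 q11083 L198540 q15291, e3 q11084 (flp_b L167730) q7076, e3 q11085 L198550 q15293, e3 q11086 L167740 q7079, e3 q11087 (flp_b L198490) q15282, e3 q11088 L198605 q15300, e3 q11089 L198611 q15301, e3 q11090 (flp_b L198591) q15297, e3 q11091 L198643 q15305, e3 q11092 (flp_b L167774) q7080, e3 q11093 L214375 q13251, e3 q11094 L214355 q9650, e3 q11095 L198707 q15312, e3 q11096 L198717 q15314, e3 q11097 (flp_b L167801) q7083, e3 q11098 L198749 q15318, e3 q11099 L198753 q15319, e3 q11100 (flp_b L167826) q7085, e3 q11101 (flp_b L198773) q15321, e3 q11102 (flp_b L167838) q7087, e3 q11103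 (flp_b L197003) q15044, e3 q11104 (flp_b L180939) q12924, e3 q11105 (flp_b L168300) q11175, e3 q11106 (flp_b L167870) q7089, e3 q11107 (flp_b L169031) q11292, e3 q11108 L198815 q15327, e3 q11109 (flp_b L167894) q7092, e3 q11110 (flp_b L167898) q7093, e3 q11111 (flp_b L192005) q14396, e3 q11112 L167906 q7096, e3 q11113 L167910 q10986, e3 q11114 (flp_b L167914) q7095, e3 q11115 L196993 q15043, e3 q11116 L167936 q7128, e3 q11117 (flp_b L198847) q15333, e3 q11118 L198877 q15340, e3 q11119 (flp_b L167949) q8589, e3 q11120 L167953 q7099, e3 q11121 L198899 q15343, e3 q11122 L198920 q15345, e3 q11123 (flp_b L167971) q7100, e3 q11124 (flp_b L167973) q7101, e3 q11125 (flp_b L198942) q15347, e3 q11126 L168078 q11131, e3 q11127 (flp_b L167990) q7103, e3 q11128 L168013 q7109, e3 q11129 L198988 q15357, e3 q11130 (flp_b L168020) q7105, e3 q11131 (flp_b L168078) q11126, e3 q11132 L168028 q7113, e3 q11133 L168036 q10086, e3 q11134 (flp_b L177777) q12522, e3 q11135 L199038 q15364, trivial⟩ (by decide +kernel)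

theorem ce_b_174 : ∀ r, r < 64 → sm gb (Qf (11136 + r)) = Qf (tab Gen.b (11136 + r)) :=
  edges_tab (sm gb) Qf (tab Gen.b) 11136 [(11136, 11172), (11137, 7116), (11138, 7108), (11139, 15369), (11140, 15373), (11141, 15355), (11142, 15377), (11143, 7110), (11144, 11004), (11145, 15379), (11146, 10880), (11147, 15383), (11148, 9997), (11149, 15361), (11150, 15389), (11151, 11220), (11152, 7115), (11153, 9959), (11154, 15392), (11155, 7118), (11156, 15400), (11157, 15371), (11158, 15397), (11159, 15404), (11160, 7119), (11161, 15406), (11162, 7121), (11163, 15410), (11164, 15415), (11165, 15417), (11166, 7123), (11167, 15421), (11168, 15422), (11169, 7125), (11170, 14249), (11171, 15424), (11172, 11136), (11173, 15056), (11174, 12940), (11175, 11105), (11176, 7129), (11177, 11451), (11178, 7131), (11179, 15433), (11180, 7133), (11181, 14418), (11182, 7136), (11183, 11010), (11184, 7135), (11185, 15055), (11186, 15438), (11187, 15444), (11188, 8590), (11189, 7139), (11190, 15447), (11191, 15449), (11192, 7140), (11193,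 7141), (11194, 15451), (11195, 11200), (11196, 7143), (11197, 7149), (11198, 15461), (11199, 7145)]
    ⟨e3 q11136 (flp_b L168274) q11172, e3 q11137 L168104 q7116, e3 q11138 (flp_b L168106) q7108, e3 q11139 (flp_b L199062) q15369, e3 q11140 L199076 q15373, e3 q11141 (flp_b L198981) q15355, e3 q11142 L199096 q15377, e3 q11143 (flp_b L168126) q7110, e3 q11144 (flp_b L168134) q11004, e3 q11145 (flp_b L199104) q15379, e3 q11146 L168144 q10880, e3 q11147 L199122 q15383, e3 q11148 L168160 q9997, e3 q11149 (flp_b L199018) q15361, e3 q11150 L199148 q15389, e3 q11151 (flp_b L168574) q11220, e3 q11152 (flp_b L168176) q7115, e3 q11153 L168196 q9959, e3 q11154 L199166 q15392, e3 q11155 L168202 q7118, e3 q11156 L199195 q15400, e3 q11157 (flp_b L199068) q15371, e3 q11158 (flp_b L199185) q15397, e3 q11159 L199217 q15404, e3 q11160 (flp_b L168220) q7119, e3 q11161 (flp_b L199225) q15406, e3 q11162 (flp_b L168224) q7121, e3 q11163 (flp_b L199238) q15410, e3 q11164 L199255 q15415, e3 q11165 L199267 q15417, e3 q11166 (flp_b L168239)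 q7123, e3 q11167 L199287 q15421, e3 q11168 L199291 q15422, e3 q11169 (flp_b L168256) q7125, e3 q11170 (flp_b L190975) q14249, e3 q11171 (flp_b L199319) q15424, e3 q11172 L168274 q11136, e3 q11173 (flp_b L197081) q15056, e3 q11174 (flp_b L181035) q12940, e3 q11175 L168300 q11105, e3 q11176 (flp_b L168302) q7129, e3 q11177 (flp_b L170036) q11451, e3 q11178 (flp_b L168318) q7131, e3 q11179 L199381 q15433, e3 q11180 (flp_b L168332) q7133, e3 q11181 (flp_b L192151) q14418, e3 q11182 L168340 q7136, e3 q11183 L168344 q11010, e3 q11184 (flp_b L168348) q7135, e3 q11185 L197071 q15055, e3 q11186 (flp_b L199409) q15438, e3 q11187 L199429 q15444, e3 q11188 (flp_b L168373) q8590, e3 q11189 L168377 q7139, e3 q11190 L199451 q15447, e3 q11191 L199472 q15449, e3 q11192 (flp_b L168395) q7140, e3 q11193 (flp_b L168397) q7141, e3 q11194 (flp_b L199494) q15451, e3 q11195 (flp_b L168460) q11200, e3 q11196 (flp_b L168409) q7143, e3 q11197 L168421 q7149, e3 q11198 L199552 q15461, e3 q11199 (flp_b L168434) q7145, trivial⟩ (by decide +kernel)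

theorem ce_b_175 : ∀ r, r < 64 → sm gb (Qf (11200 + r)) = Qf (tab Gen.b (11200 + r)) :=
  edges_tab (sm gb) Qf (tab Gen.b) 11200 [(11200, 11195), (11201, 7153), (11202, 10105), (11203, 12521), (11204, 15468), (11205, 7155), (11206, 11241), (11207, 7148), (11208, 15473), (11209, 15477), (11210, 15459), (11211, 15481), (11212, 7150), (11213, 10981), (11214, 15483), (11215, 10872), (11216, 15487), (11217, 10014), (11218, 15465), (11219, 15493), (11220, 11151), (11221, 9965), (11222, 7156), (11223, 15496), (11224, 7158), (11225, 15474), (11226, 15505), (11227, 15501), (11228, 15508), (11229, 7159), (11230, 15510), (11231, 7161), (11232, 15514), (11233, 15518), (11234, 15520), (11235, 7163), (11236, 15524), (11237, 15525), (11238, 7165), (11239, 14268), (11240, 15527), (11241, 11206), (11242, 10022), (11243, 15532), (11244, 7170), (11245, 10885), (11246, 15537), (11247, 15538), (11248, 7173), (11249, 15542), (11250, 7174), (11251, 15546), (11252, 7179), (11253, 11327), (11254, 7176), (11255, 15544), (11256, 11578),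 (11257, 15549), (11258, 15559), (11259, 15552), (11260, 7183), (11261, 15564), (11262, 15565), (11263, 7186)]
    ⟨e3 q11200 L168460 q11195, e3 q11201 L168442 q7153, e3 q11202 L168450 q10105, e3 q11203 (flp_b L177767) q12521, e3 q11204 L199604 q15468, e3 q11205 L168480 q7155, e3 q11206 (flp_b L168706) q11241, e3 q11207 (flp_b L168492) q7148, e3 q11208 (flp_b L199638) q15473, e3 q11209 L199662 q15477, e3 q11210 (flp_b L199539) q15459, e3 q11211 L199684 q15481, e3 q11212 (flp_b L168516) q7150, e3 q11213 (flp_b L168528) q10981, e3 q11214 (flp_b L199698) q15483, e3 q11215 L168542 q10872, e3 q11216 L199718 q15487, e3 q11217 L168558 q10014, e3 q11218 (flp_b L199584) q15465, e3 q11219 L199744 q15493, e3 q11220 L168574 q11151, e3 q11221 (flp_b L168588) q9965, e3 q11222 (flp_b L168590) q7156, e3 q11223 L199764 q15496, e3 q11224 L168606 q7158, e3 q11225 (flp_b L199646) q15474, e3 q11226 L199817 q15505, e3 q11227 (flp_b L199799) q15501, e3 q11228 L199841 q15508, e3 q11229 (flp_b L168630) q7159, e3 q11230 (flp_b L199855) q15510,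 e3 q11231 (flp_b L168638) q7161, e3 q11232 (flp_b L199872) q15514, e3 q11233 L199889 q15518, e3 q11234 L199901 q15520, e3 q11235 (flp_b L168655) q7163, e3 q11236 L199933 q15524, e3 q11237 L199937 q15525, e3 q11238 (flp_b L168680) q7165, e3 q11239 L191107 q14268, e3 q11240 (flp_b L199957) q15527, e3 q11241 L168706 q11206, e3 q11242 L168716 q10022, e3 q11243 L199995 q15532, e3 q11244 (flp_b L168724) q7170, e3 q11245 (flp_b L168740) q10885, e3 q11246 L200041 q15537, e3 q11247 L200047 q15538, e3 q11248 (flp_b L168760) q7173, e3 q11249 L200067 q15542, e3 q11250 (flp_b L168774) q7174, e3 q11251 L200095 q15546, e3 q11252 L168788 q7179, e3 q11253 L169263 q11327, e3 q11254 (flp_b L168794) q7176, e3 q11255 (flp_b L200087) q15544, e3 q11256 (flp_b L170865) q11578, e3 q11257 (flp_b L200123) q15549, e3 q11258 L200185 q15559, e3 q11259 (flp_b L200145) q15552, e3 q11260 (flp_b L168836) q7183, e3 q11261 L200221 q15564, e3 q11262 L200229 q15565, e3 q11263 (flp_b L168855) q7186, trivial⟩ (by decide +kernel)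

theorem ce_b_176 : ∀ r, r < 64 → sm gb (Qf (11264 + r)) = Qf (tab Gen.b (11264 + r)) :=
  edges_tab (sm gb) Qf (tab Gen.b) 11264 [(11264, 10884), (11265, 7187), (11266, 15569), (11267, 15535), (11268, 8694), (11269, 12561), (11270, 7192), (11271, 7193), (11272, 15574), (11273, 13482), (11274, 11036), (11275, 7195), (11276, 15581), (11277, 10942), (11278, 7201), (11279, 12290), (11280, 7220), (11281, 11528), (11282, 7199), (11283, 15588), (11284, 15592), (11285, 15593), (11286, 15585), (11287, 15598), (11288, 7202), (11289, 12823), (11290, 12855), (11291, 13027), (11292, 11107), (11293, 7208), (11294, 8226), (11295, 15607), (11296, 8932), (11297, 12560), (11298, 7207), (11299, 8747), (11300, 15609), (11301, 7209), (11302, 7212), (11303, 15612), (11304, 15613), (11305, 7214), (11306, 7215), (11307, 7216), (11308, 15579), (11309, 15611), (11310, 11029), (11311, 15563), (11312, 12767), (11313, 11571), (11314, 7376), (11315, 15629), (11316, 14664), (11317, 8101), (11318, 10952), (11319, 7238), (11320, 15635), (11321,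 15637), (11322, 13874), (11323, 7224), (11324, 15640), (11325, 11874), (11326, 15647), (11327, 11253)]
    ⟨e3 q11264 (flp_b L168871) q10884, e3 q11265 (flp_b L168873) q7187, e3 q11266 L200251 q15569, e3 q11267 (flp_b L200029) q15535, e3 q11268 L168899 q8694, e3 q11269 (flp_b L178267) q12561, e3 q11270 (flp_b L168905) q7192, e3 q11271 (flp_b L168909) q7193, e3 q11272 L200295 q15574, e3 q11273 (flp_b L184896) q13482, e3 q11274 L168925 q11036, e3 q11275 (flp_b L168927) q7195, e3 q11276 L200335 q15581, e3 q11277 (flp_b L168945) q10942, e3 q11278 L168949 q7201, e3 q11279 (flp_b L175899) q12290, e3 q11280 (flp_b L168965) q7220, e3 q11281 L170538 q11528, e3 q11282 (flp_b L168973) q7199, e3 q11283 (flp_b L200373) q15588, e3 q11284 L200395 q15592, e3 q11285 L200401 q15593, e3 q11286 (flp_b L200359) q15585, e3 q11287 L200423 q15598, e3 q11288 (flp_b L169001) q7202, e3 q11289 (flp_b L180221) q12823, e3 q11290 (flp_b L180453) q12855, e3 q11291 (flp_b L181635) q13027, e3 q11292 L169031 q11107, e3 q11293 L169037 q7208, e3 q11294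 L169049 q8226, e3 q11295 L200505 q15607, e3 q11296 L169065 q8932, e3 q11297 (flp_b L178051) q12560, e3 q11298 (flp_b L169075) q7207, e3 q11299 L169095 q8747, e3 q11300 L200527 q15609, e3 q11301 (flp_b L169107) q7209, e3 q11302 (flp_b L169111) q7212, e3 q11303 L200547 q15612, e3 q11304 L200557 q15613, e3 q11305 (flp_b L169129) q7214, e3 q11306 (flp_b L169135) q7215, e3 q11307 (flp_b L169139) q7216, e3 q11308 L200329 q15579, e3 q11309 (flp_b L200545) q15611, e3 q11310 L169155 q11029, e3 q11311 (flp_b L200219) q15563, e3 q11312 (flp_b L179725) q12767, e3 q11313 (flp_b L170817) q11571, e3 q11314 L169177 q7376, e3 q11315 L200701 q15629, e3 q11316 (flp_b L193739) q14664, e3 q11317 (flp_b L169197) q8101, e3 q11318 L169207 q10952, e3 q11319 L169211 q7238, e3 q11320 L200747 q15635, e3 q11321 L200775 q15637, e3 q11322 L188141 q13874, e3 q11323 (flp_b L169235) q7224, e3 q11324 (flp_b L200801) q15640, e3 q11325 (flp_b L172867) q11874, e3 q11326 L200841 q15647, e3 q11327 (flp_b L169263) q11253, trivial⟩ (by decide +kernel)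

theorem ce_b_177 : ∀ r, r < 64 → sm gb (Qf (11328 + r)) = Qf (tab Gen.b (11328 + r)) :=
  edges_tab (sm gb) Qf (tab Gen.b) 11328 [(11328, 7228), (11329, 11400), (11330, 7253), (11331, 15655), (11332, 15651), (11333, 7229), (11334, 15658), (11335, 15659), (11336, 15665), (11337, 15666), (11338, 7231), (11339, 15670), (11340, 7234), (11341, 11383), (11342, 9507), (11343, 15673), (11344, 15678), (11345, 10047), (11346, 15682), (11347, 13193), (11348, 13476), (11349, 15686), (11350, 7239), (11351, 15689), (11352, 7241), (11353, 15690), (11354, 15695), (11355, 15696), (11356, 7411), (11357, 7245), (11358, 15702), (11359, 15704), (11360, 15699), (11361, 15706), (11362, 15707), (11363, 7246), (11364, 7247), (11365, 15709), (11366, 7250), (11367, 15712), (11368, 11441), (11369, 15717), (11370, 15718), (11371, 7255), (11372, 15724), (11373, 15653), (11374, 7252), (11375, 14069), (11376, 14296), (11377, 7254), (11378, 15729), (11379, 15734), (11380, 12712), (11381, 7256), (11382, 7258), (11383, 11341), (11384, 15737), (11385,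 15741), (11386, 7260), (11387, 7261), (11388, 15753), (11389, 15661), (11390, 15747), (11391, 15758)]
    ⟨e3 q11328 L169269 q7228, e3 q11329 (flp_b L169691) q11400, e3 q11330 L169281 q7253, e3 q11331 L200892 q15655, e3 q11332 (flp_b L200868) q15651, e3 q11333 (flp_b L169299) q7229, e3 q11334 (flp_b L200908) q15658, e3 q11335 (flp_b L200912) q15659, e3 q11336 L200940 q15665, e3 q11337 L200942 q15666, e3 q11338 (flp_b L169325) q7231, e3 q11339 L200958 q15670, e3 q11340 L169337 q7234, e3 q11341 (flp_b L169605) q11383, e3 q11342 L169351 q9507, e3 q11343 (flp_b L200990) q15673, e3 q11344 L201036 q15678, e3 q11345 L169369 q10047, e3 q11346 L201084 q15682, e3 q11347 L182743 q13193, e3 q11348 L184858 q13476, e3 q11349 L201111 q15686, e3 q11350 (flp_b L169393) q7239, e3 q11351 L201135 q15689, e3 q11352 (flp_b L169409) q7241, e3 q11353 (flp_b L201143) q15690, e3 q11354 L201181 q15695, e3 q11355 L201191 q15696, e3 q11356 L169447 q7411, e3 q11357 L169451 q7245, e3 q11358 L201245 q15702, e3 q11359 L201261 q15704, e3 q11360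 (flp_b L201223) q15699, e3 q11361 L201280 q15706, e3 q11362 L201284 q15707, e3 q11363 (flp_b L169485) q7246, e3 q11364 (flp_b L169489) q7247, e3 q11365 (flp_b L201298) q15709, e3 q11366 (flp_b L169501) q7250, e3 q11367 (flp_b L201322) q15712, e3 q11368 (flp_b L169980) q11441, e3 q11369 L201352 q15717, e3 q11370 L201358 q15718, e3 q11371 L169529 q7255, e3 q11372 L201386 q15724, e3 q11373 (flp_b L200882) q15653, e3 q11374 (flp_b L169541) q7252, e3 q11375 (flp_b L189581) q14069, e3 q11376 (flp_b L191307) q14296, e3 q11377 (flp_b L169561) q7254, e3 q11378 (flp_b L201418) q15729, e3 q11379 L201444 q15734, e3 q11380 (flp_b L179313) q12712, e3 q11381 (flp_b L169591) q7256, e3 q11382 L169599 q7258, e3 q11383 L169605 q11341, e3 q11384 (flp_b L201462) q15737, e3 q11385 L201488 q15741, e3 q11386 L169615 q7260, e3 q11387 L169619 q7261, e3 q11388 L201548 q15753, e3 q11389 (flp_b L200920) q15661, e3 q11390 (flp_b L201522) q15747, e3 q11391 L201580 q15758, trivial⟩ (by decide +kernel)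

theorem ce_b_178 : ∀ r, r < 64 → sm gb (Qf (11392 + r)) = Qf (tab Gen.b (11392 + r)) :=
  edges_tab (sm gb) Qf (tab Gen.b) 11392 [(11392, 15750), (11393, 15761), (11394, 7262), (11395, 15764), (11396, 15765), (11397, 7264), (11398, 13618), (11399, 7267), (11400, 11329), (11401, 15773), (11402, 15774), (11403, 10056), (11404, 15776), (11405, 7272), (11406, 10892), (11407, 15779), (11408, 7274), (11409, 15783), (11410, 15784), (11411, 15785), (11412, 7280), (11413, 11486), (11414, 7277), (11415, 7278), (11416, 11629), (11417, 15788), (11418, 15799), (11419, 15793), (11420, 7283), (11421, 15804), (11422, 7286), (11423, 10891), (11424, 15807), (11425, 15808), (11426, 15710), (11427, 7290), (11428, 12555), (11429, 8740), (11430, 7293), (11431, 7294), (11432, 15814), (11433, 13430), (11434, 11074), (11435, 7296), (11436, 15821), (11437, 10954), (11438, 7301), (11439, 12230), (11440, 7320), (11441, 11368), (11442, 7300), (11443, 15828), (11444, 15831), (11445, 15825), (11446, 15836), (11447, 7302), (11448, 12827), (11449,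 13097), (11450, 12862), (11451, 11177), (11452, 7308), (11453, 15605), (11454, 8230), (11455, 8916)]
    ⟨e3 q11392 (flp_b L201534) q15750, e3 q11393 L201590 q15761, e3 q11394 (flp_b L169653) q7262, e3 q11395 L201608 q15764, e3 q11396 L201610 q15765, e3 q11397 (flp_b L169673) q7264, e3 q11398 L186115 q13618, e3 q11399 L169685 q7267, e3 q11400 L169691 q11329, e3 q11401 L201658 q15773, e3 q11402 L201670 q15774, e3 q11403 L169727 q10056, e3 q11404 L201694 q15776, e3 q11405 (flp_b L169735) q7272, e3 q11406 (flp_b L169751) q10892, e3 q11407 L201722 q15779, e3 q11408 (flp_b L169761) q7274, e3 q11409 L201740 q15783, e3 q11410 L201744 q15784, e3 q11411 L201752 q15785, e3 q11412 L169793 q7280, e3 q11413 (flp_b L173992) q11486, e3 q11414 (flp_b L169799) q7277, e3 q11415 (flp_b L169803) q7278, e3 q11416 (flp_b L171200) q11629, e3 q11417 (flp_b L201784) q15788, e3 q11418 L201866 q15799, e3 q11419 (flp_b L201832) q15793, e3 q11420 (flp_b L169841) q7283, e3 q11421 L201904 q15804, e3 q11422 (flp_b L169852) q7286, e3 q11423 (flp_b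 L169866) q10891, e3 q11424 L201922 q15807, e3 q11425 L201926 q15808, e3 q11426 (flp_b L201308) q15710, e3 q11427 (flp_b L169890) q7290, e3 q11428 L178283 q12555, e3 q11429 L169908 q8740, e3 q11430 (flp_b L169910) q7293, e3 q11431 (flp_b L169914) q7294, e3 q11432 L201974 q15814, e3 q11433 (flp_b L184504) q13430, e3 q11434 L169930 q11074, e3 q11435 (flp_b L169932) q7296, e3 q11436 L202018 q15821, e3 q11437 (flp_b L169950) q10954, e3 q11438 L169954 q7301, e3 q11439 (flp_b L175503) q12230, e3 q11440 (flp_b L169970) q7320, e3 q11441 L169980 q11368, e3 q11442 (flp_b L169982) q7300, e3 q11443 (flp_b L202062) q15828, e3 q11444 L202078 q15831, e3 q11445 (flp_b L202042) q15825, e3 q11446 L202100 q15836, e3 q11447 (flp_b L170006) q7302, e3 q11448 (flp_b L180243) q12827, e3 q11449 (flp_b L182111) q13097, e3 q11450 (flp_b L180511) q12862, e3 q11451 L170036 q11177, e3 q11452 L170042 q7308, e3 q11453 L200495 q15605, e3 q11454 L170058 q8230, e3 q11455 L170070 q8916, trivial⟩ (by decide +kernel)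

theorem ce_b_179 : ∀ r, r < 64 → sm gb (Qf (11456 + r)) = Qf (tab Gen.b (11456 + r)) :=
  edges_tab (sm gb) Qf (tab Gen.b) 11456 [(11456, 7306), (11457, 8700), (11458, 12566), (11459, 15608), (11460, 7309), (11461, 7312), (11462, 15846), (11463, 15847), (11464, 7314), (11465, 7315), (11466, 7316), (11467, 15819), (11468, 15845), (11469, 11066), (11470, 15803), (11471, 12792), (11472, 7407), (11473, 11623), (11474, 15863), (11475, 14691), (11476, 8057), (11477, 10964), (11478, 7338), (11479, 15869), (11480, 15871), (11481, 13824), (11482, 7324), (11483, 15874), (11484, 15881), (11485, 12085), (11486, 11413), (11487, 7328), (11488, 7352), (11489, 11559), (11490, 15656), (11491, 15650), (11492, 7329), (11493, 15888), (11494, 15889), (11495, 15895), (11496, 15896), (11497, 7331), (11498, 15900), (11499, 7334), (11500, 11542), (11501, 9523), (11502, 15903), (11503, 15908), (11504, 10081), (11505, 15912), (11506, 13134), (11507, 13424), (11508, 15916), (11509, 7339), (11510, 15919), (11511, 7341), (11512, 15920), (11513,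 15924), (11514, 15925), (11515, 7380), (11516, 7345), (11517, 15931), (11518, 15932), (11519, 15928)]
    ⟨e3 q11456 (flp_b L170072) q7306, e3 q11457 L170090 q8700, e3 q11458 (flp_b L178091) q12566, e3 q11459 (flp_b L200525) q15608, e3 q11460 (flp_b L170112) q7309, e3 q11461 (flp_b L170116) q7312, e3 q11462 L202188 q15846, e3 q11463 L202198 q15847, e3 q11464 (flp_b L170134) q7314, e3 q11465 (flp_b L170140) q7315, e3 q11466 (flp_b L170144) q7316, e3 q11467 L202012 q15819, e3 q11468 (flp_b L202186) q15845, e3 q11469 L170160 q11066, e3 q11470 (flp_b L201902) q15803, e3 q11471 (flp_b L179943) q12792, e3 q11472 L170178 q7407, e3 q11473 (flp_b L171156) q11623, e3 q11474 (flp_b L202342) q15863, e3 q11475 (flp_b L193943) q14691, e3 q11476 (flp_b L170202) q8057, e3 q11477 L170212 q10964, e3 q11478 L170216 q7338, e3 q11479 L202388 q15869, e3 q11480 L202416 q15871, e3 q11481 L187791 q13824, e3 q11482 (flp_b L170240) q7324, e3 q11483 (flp_b L202442) q15874, e3 q11484 L202488 q15881, e3 q11485 (flp_b L174374) q12085, e3 q11486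 L173992 q11413, e3 q11487 L170270 q7328, e3 q11488 L170276 q7352, e3 q11489 (flp_b L170706) q11559, e3 q11490 (flp_b L223817) q15656, e3 q11491 (flp_b L223809) q15650, e3 q11492 (flp_b L170298) q7329, e3 q11493 (flp_b L202555) q15888, e3 q11494 (flp_b L202559) q15889, e3 q11495 L202587 q15895, e3 q11496 L202589 q15896, e3 q11497 (flp_b L170324) q7331, e3 q11498 L202605 q15900, e3 q11499 L170336 q7334, e3 q11500 (flp_b L170620) q11542, e3 q11501 L170350 q9523, e3 q11502 (flp_b L202637) q15903, e3 q11503 L202683 q15908, e3 q11504 L170368 q10081, e3 q11505 L202731 q15912, e3 q11506 (flp_b L183555) q13134, e3 q11507 L184466 q13424, e3 q11508 L202758 q15916, e3 q11509 (flp_b L170392) q7339, e3 q11510 L202782 q15919, e3 q11511 (flp_b L170408) q7341, e3 q11512 (flp_b L202792) q15920, e3 q11513 L202824 q15924, e3 q11514 L202832 q15925, e3 q11515 L170448 q7380, e3 q11516 L170454 q7345, e3 q11517 L202898 q15931, e3 q11518 L202905 q15932, e3 q11519 (flp_b L202868) q15928, trivial⟩ (by decide +kernel)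

theorem ce_b_180 : ∀ r, r < 64 → sm gb (Qf (11520 + r)) = Qf (tab Gen.b (11520 + r)) :=
  edges_tab (sm gb) Qf (tab Gen.b) 11520 [(11520, 15934), (11521, 15935), (11522, 7346), (11523, 7347), (11524, 15536), (11525, 7350), (11526, 15938), (11527, 15943), (11528, 11281), (11529, 15944), (11530, 7355), (11531, 15884), (11532, 15951), (11533, 14351), (11534, 7353), (11535, 14120), (11536, 7354), (11537, 15955), (11538, 15959), (11539, 12683), (11540, 7356), (11541, 7358), (11542, 11500), (11543, 15962), (11544, 15966), (11545, 7360), (11546, 7361), (11547, 15890), (11548, 15979), (11549, 15972), (11550, 15983), (11551, 15975), (11552, 15986), (11553, 7362), (11554, 15989), (11555, 15990), (11556, 7364), (11557, 13620), (11558, 7367), (11559, 11489), (11560, 15998), (11561, 15999), (11562, 15619), (11563, 12605), (11564, 16000), (11565, 7373), (11566, 15561), (11567, 8565), (11568, 11027), (11569, 11031), (11570, 12537), (11571, 11313), (11572, 7379), (11573, 7382), (11574, 9632), (11575, 16007), (11576, 15926), (11577,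 14108), (11578, 11256), (11579, 16015), (11580, 7385), (11581, 16008), (11582, 9573), (11583, 12089)]
    ⟨e3 q11520 L202927 q15934, e3 q11521 L202935 q15935, e3 q11522 (flp_b L170496) q7346, e3 q11523 (flp_b L170500) q7347, e3 q11524 (flp_b L200039) q15536, e3 q11525 (flp_b L170512) q7350, e3 q11526 (flp_b L202957) q15938, e3 q11527 L202989 q15943, e3 q11528 (flp_b L170538) q11281, e3 q11529 L202995 q15944, e3 q11530 L170544 q7355, e3 q11531 (flp_b L202523) q15884, e3 q11532 L203029 q15951, e3 q11533 (flp_b L191690) q14351, e3 q11534 (flp_b L170562) q7353, e3 q11535 (flp_b L190007) q14120, e3 q11536 (flp_b L170576) q7354, e3 q11537 (flp_b L203055) q15955, e3 q11538 L203081 q15959, e3 q11539 (flp_b L179115) q12683, e3 q11540 (flp_b L170606) q7356, e3 q11541 L170614 q7358, e3 q11542 L170620 q11500, e3 q11543 (flp_b L203099) q15962, e3 q11544 L203125 q15966, e3 q11545 L170630 q7360, e3 q11546 L170634 q7361, e3 q11547 (flp_b L202565) q15890, e3 q11548 L203191 q15979, e3 q11549 (flp_b L203159) q15972, e3 q11550 L203217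 q15983, e3 q11551 (flp_b L203171) q15975, e3 q11552 L203227 q15986, e3 q11553 (flp_b L170668) q7362, e3 q11554 L203245 q15989, e3 q11555 L203247 q15990, e3 q11556 (flp_b L170688) q7364, e3 q11557 L186133 q13620, e3 q11558 L170700 q7367, e3 q11559 L170706 q11489, e3 q11560 L203295 q15998, e3 q11561 L203307 q15999, e3 q11562 (flp_b L200615) q15619, e3 q11563 (flp_b L178517) q12605, e3 q11564 L203319 q16000, e3 q11565 (flp_b L170766) q7373, e3 q11566 L200200 q15561, e3 q11567 L170789 q8565, e3 q11568 L170801 q11027, e3 q11569 (flp_b L172998) q11031, e3 q11570 (flp_b L177876) q12537, e3 q11571 L170817 q11313, e3 q11572 L170821 q7379, e3 q11573 L170827 q7382, e3 q11574 L170833 q9632, e3 q11575 (flp_b L203371) q16007, e3 q11576 (flp_b L202846) q15926, e3 q11577 L189911 q14108, e3 q11578 L170865 q11256, e3 q11579 L203429 q16015, e3 q11580 L170871 q7385, e3 q11581 (flp_b L203383) q16008, e3 q11582 L170883 q9573, e3 q11583 (flp_b L174398) q12089, trivial⟩ (by decide +kernel)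

theorem ce_b_181 : ∀ r, r < 64 → sm gb (Qf (11584 + r)) = Qf (tab Gen.b (11584 + r)) :=
  edges_tab (sm gb) Qf (tab Gen.b) 11584 [(11584, 15599), (11585, 7384), (11586, 16025), (11587, 7387), (11588, 16032), (11589, 10888), (11590, 16035), (11591, 16029), (11592, 16042), (11593, 16043), (11594, 7388), (11595, 7389), (11596, 10216), (11597, 10211), (11598, 16052), (11599, 16054), (11600, 11610), (11601, 9568), (11602, 16058), (11603, 16059), (11604, 7394), (11605, 7395), (11606, 7396), (11607, 16065), (11608, 16070), (11609, 16071), (11610, 11600), (11611, 10200), (11612, 16074), (11613, 16075), (11614, 15852), (11615, 12612), (11616, 16076), (11617, 7404), (11618, 15801), (11619, 8556), (11620, 11064), (11621, 11068), (11622, 12546), (11623, 11473), (11624, 7410), (11625, 9638), (11626, 7414), (11627, 16083), (11628, 15697), (11629, 11416), (11630, 14054), (11631, 16091), (11632, 7416), (11633, 9611), (11634, 16085), (11635, 15837), (11636, 11880), (11637, 7415), (11638, 16101), (11639, 7418), (11640, 10895), (11641,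 16109), (11642, 16111), (11643, 16105), (11644, 16118), (11645, 16119), (11646, 7419), (11647, 7420)]
    ⟨e3 q11584 L200437 q15599, e3 q11585 (flp_b L170903) q7384, e3 q11586 (flp_b L203487) q16025, e3 q11587 L170913 q7387, e3 q11588 L203517 q16032, e3 q11589 (flp_b L170923) q10888, e3 q11590 L203547 q16035, e3 q11591 (flp_b L203503) q16029, e3 q11592 L203591 q16042, e3 q11593 L203599 q16043, e3 q11594 (flp_b L170947) q7388, e3 q11595 (flp_b L170953) q7389, e3 q11596 L170965 q10216, e3 q11597 L170969 q10211, e3 q11598 L203651 q16052, e3 q11599 L203663 q16054, e3 q11600 (flp_b L171047) q11610, e3 q11601 L170993 q9568, e3 q11602 L203695 q16058, e3 q11603 L203699 q16059, e3 q11604 (flp_b L171009) q7394, e3 q11605 (flp_b L171013) q7395, e3 q11606 (flp_b L171019) q7396, e3 q11607 (flp_b L203747) q16065, e3 q11608 L203777 q16070, e3 q11609 L203785 q16071, e3 q11610 L171047 q11600, e3 q11611 L171055 q10200, e3 q11612 L203807 q16074, e3 q11613 L203813 q16075, e3 q11614 (flp_b L202250) q15852, e3 q11615 (flp_b L178571)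 q12612, e3 q11616 L203819 q16076, e3 q11617 (flp_b L171105) q7404, e3 q11618 L201883 q15801, e3 q11619 L171128 q8556, e3 q11620 (flp_b L171140) q11064, e3 q11621 (flp_b L174509) q11068, e3 q11622 (flp_b L177941) q12546, e3 q11623 L171156 q11473, e3 q11624 L171160 q7410, e3 q11625 L171168 q9638, e3 q11626 L171176 q7414, e3 q11627 (flp_b L203871) q16083, e3 q11628 (flp_b L201203) q15697, e3 q11629 L171200 q11416, e3 q11630 (flp_b L189479) q14054, e3 q11631 L203929 q16091, e3 q11632 L171214 q7416, e3 q11633 L171222 q9611, e3 q11634 (flp_b L203889) q16085, e3 q11635 L202114 q15837, e3 q11636 (flp_b L172903) q11880, e3 q11637 (flp_b L171246) q7415, e3 q11638 (flp_b L203987) q16101, e3 q11639 L171256 q7418, e3 q11640 (flp_b L171262) q10895, e3 q11641 L204027 q16109, e3 q11642 L204051 q16111, e3 q11643 (flp_b L204003) q16105, e3 q11644 L204095 q16118, e3 q11645 L204103 q16119, e3 q11646 (flp_b L171290) q7419, e3 q11647 (flp_b L171300) q7420, trivial⟩ (by decide +kernel)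

theorem ce_b_182 : ∀ r, r < 64 → sm gb (Qf (11648 + r)) = Qf (tab Gen.b (11648 + r)) :=
  edges_tab (sm gb) Qf (tab Gen.b) 11648 [(11648, 10251), (11649, 10246), (11650, 16128), (11651, 16130), (11652, 9606), (11653, 11663), (11654, 16134), (11655, 16135), (11656, 7425), (11657, 7426), (11658, 7427), (11659, 16141), (11660, 16146), (11661, 16147), (11662, 10234), (11663, 11653), (11664, 16150), (11665, 16151), (11666, 16152), (11667, 7432), (11668, 16157), (11669, 7434), (11670, 16155), (11671, 9647), (11672, 16162), (11673, 16167), (11674, 7436), (11675, 16172), (11676, 7438), (11677, 9652), (11678, 16171), (11679, 16177), (11680, 12241), (11681, 12298), (11682, 8698), (11683, 15849), (11684, 7448), (11685, 8744), (11686, 15615), (11687, 7451), (11688, 7456), (11689, 7542), (11690, 7587), (11691, 7459), (11692, 7460), (11693, 7481), (11694, 7634), (11695, 7490), (11696, 7800), (11697, 7936), (11698, 11854), (11699, 10525), (11700, 11872), (11701, 12955), (11702, 12238), (11703, 7994), (11704, 12066), (11705, 10475),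 (11706, 12083), (11707, 13030), (11708, 12296), (11709, 11864), (11710, 16194), (11711, 7503)]
    ⟨e3 q11648 L171308 q10251, e3 q11649 L171312 q10246, e3 q11650 L204155 q16128, e3 q11651 L204167 q16130, e3 q11652 L171330 q9606, e3 q11653 (flp_b L171398) q11663, e3 q11654 L204199 q16134, e3 q11655 L204205 q16135, e3 q11656 (flp_b L171352) q7425, e3 q11657 (flp_b L171358) q7426, e3 q11658 (flp_b L171362) q7427, e3 q11659 (flp_b L204251) q16141, e3 q11660 L204281 q16146, e3 q11661 L204285 q16147, e3 q11662 L171390 q10234, e3 q11663 L171398 q11653, e3 q11664 L204311 q16150, e3 q11665 L204317 q16151, e3 q11666 L204323 q16152, e3 q11667 (flp_b L171417) q7432, e3 q11668 L204354 q16157, e3 q11669 L171425 q7434, e3 q11670 (flp_b L204346) q16155, e3 q11671 L171431 q9647, e3 q11672 (flp_b L204380) q16162, e3 q11673 L204404 q16167, e3 q11674 (flp_b L171450) q7436, e3 q11675 L204441 q16172, e3 q11676 L171458 q7438, e3 q11677 L171462 q9652, e3 q11678 (flp_b L204439) q16171, e3 q11679 (flp_b L204467) q16177, e3 q11680 (flp_b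 L175571) q12241, e3 q11681 (flp_b L175943) q12298, e3 q11682 L171498 q8698, e3 q11683 (flp_b L202228) q15849, e3 q11684 (flp_b L171504) q7448, e3 q11685 L171514 q8744, e3 q11686 (flp_b L200587) q15615, e3 q11687 (flp_b L171520) q7451, e3 q11688 L171531 q7456, e3 q11689 (flp_b L171546) q7542, e3 q11690 (flp_b L171558) q7587, e3 q11691 (flp_b L171560) q7459, e3 q11692 (flp_b L171567) q7460, e3 q11693 L171577 q7481, e3 q11694 L171588 q7634, e3 q11695 L171593 q7490, e3 q11696 L171604 q7800, e3 q11697 L171610 q7936, e3 q11698 L172725 q11854, e3 q11699 L171626 q10525, e3 q11700 (flp_b L172847) q11872, e3 q11701 L181147 q12955, e3 q11702 (flp_b L175545) q12238, e3 q11703 L171654 q7994, e3 q11704 L174226 q12066, e3 q11705 L171670 q10475, e3 q11706 (flp_b L174352) q12083, e3 q11707 L181659 q13030, e3 q11708 (flp_b L175929) q12296, e3 q11709 L172795 q11864, e3 q11710 L204607 q16194, e3 q11711 (flp_b L171708) q7503, trivial⟩ (by decide +kernel)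

theorem ce_b_183 : ∀ r, r < 64 → sm gb (Qf (11712 + r)) = Qf (tab Gen.b (11712 + r)) :=
  edges_tab (sm gb) Qf (tab Gen.b) 11712 [(11712, 7505), (11713, 7506), (11714, 16196), (11715, 11851), (11716, 11904), (11717, 7508), (11718, 12077), (11719, 16199), (11720, 7517), (11721, 7519), (11722, 7520), (11723, 16201), (11724, 12063), (11725, 12111), (11726, 7522), (11727, 12215), (11728, 8437), (11729, 7642), (11730, 11897), (11731, 16204), (11732, 7536), (11733, 10310), (11734, 11862), (11735, 13664), (11736, 7805), (11737, 8328), (11738, 7551), (11739, 16211), (11740, 7545), (11741, 7549), (11742, 11760), (11743, 7558), (11744, 8091), (11745, 16212), (11746, 8044), (11747, 16214), (11748, 7552), (11749, 12262), (11750, 7555), (11751, 16217), (11752, 9855), (11753, 7560), (11754, 16220), (11755, 7557), (11756, 8469), (11757, 16221), (11758, 7561), (11759, 7959), (11760, 11742), (11761, 12772), (11762, 7564), (11763, 16227), (11764, 12602), (11765, 16230), (11766, 7566), (11767, 7567), (11768, 16233), (11769, 7569),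 (11770, 12274), (11771, 8438), (11772, 12106), (11773, 7808), (11774, 16235), (11775, 7582)]
    ⟨e3 q11712 L171720 q7505, e3 q11713 (flp_b L171724) q7506, e3 q11714 L204621 q16196, e3 q11715 L172703 q11851, e3 q11716 (flp_b L173086) q11904, e3 q11717 (flp_b L171754) q7508, e3 q11718 L174316 q12077, e3 q11719 L204648 q16199, e3 q11720 (flp_b L171778) q7517, e3 q11721 L171790 q7519, e3 q11722 (flp_b L171794) q7520, e3 q11723 L204662 q16201, e3 q11724 L174200 q12063, e3 q11725 (flp_b L174605) q12111, e3 q11726 (flp_b L171824) q7522, e3 q11727 (flp_b L175370) q12215, e3 q11728 L171848 q8437, e3 q11729 L171866 q7642, e3 q11730 (flp_b L173032) q11897, e3 q11731 L204691 q16204, e3 q11732 (flp_b L171886) q7536, e3 q11733 L171911 q10310, e3 q11734 (flp_b L172781) q11862, e3 q11735 L186481 q13664, e3 q11736 L171926 q7805, e3 q11737 L171931 q8328, e3 q11738 L171935 q7551, e3 q11739 L204756 q16211, e3 q11740 (flp_b L171942) q7545, e3 q11741 L171952 q7549, e3 q11742 (flp_b L172073) q11760, e3 q11743 L171966 q7558, e3 q11744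 L171974 q8091, e3 q11745 (flp_b L204770) q16212, e3 q11746 L171988 q8044, e3 q11747 L204782 q16214, e3 q11748 (flp_b L171994) q7552, e3 q11749 (flp_b L175707) q12262, e3 q11750 (flp_b L172002) q7555, e3 q11751 (flp_b L204811) q16217, e3 q11752 (flp_b L172021) q9855, e3 q11753 L172025 q7560, e3 q11754 L204837 q16220, e3 q11755 (flp_b L172037) q7557, e3 q11756 L172051 q8469, e3 q11757 L204845 q16221, e3 q11758 (flp_b L172061) q7561, e3 q11759 L172069 q7959, e3 q11760 L172073 q11742, e3 q11761 (flp_b L179773) q12772, e3 q11762 (flp_b L172085) q7564, e3 q11763 L204883 q16227, e3 q11764 L178485 q12602, e3 q11765 L204900 q16230, e3 q11766 (flp_b L172105) q7566, e3 q11767 (flp_b L172109) q7567, e3 q11768 L204918 q16233, e3 q11769 L172123 q7569, e3 q11770 L175793 q12274, e3 q11771 L172139 q8438, e3 q11772 (flp_b L174559) q12106, e3 q11773 L172165 q7808, e3 q11774 L204934 q16235, e3 q11775 (flp_b L172180) q7582, trivial⟩ (by decide +kernel)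

theorem ce_b_184 : ∀ r, r < 64 → sm gb (Qf (11776 + r)) = Qf (tab Gen.b (11776 + r)) :=
  edges_tab (sm gb) Qf (tab Gen.b) 11776 [(11776, 10347), (11777, 12075), (11778, 13663), (11779, 7641), (11780, 8331), (11781, 7596), (11782, 16241), (11783, 7590), (11784, 7594), (11785, 7602), (11786, 11803), (11787, 8082), (11788, 16242), (11789, 7987), (11790, 16244), (11791, 7597), (11792, 12319), (11793, 7600), (11794, 16247), (11795, 9802), (11796, 7605), (11797, 16250), (11798, 7603), (11799, 8458), (11800, 16251), (11801, 7606), (11802, 8017), (11803, 11786), (11804, 12797), (11805, 7609), (11806, 16257), (11807, 12600), (11808, 16259), (11809, 7611), (11810, 7612), (11811, 16262), (11812, 7614), (11813, 10308), (11814, 9807), (11815, 7649), (11816, 7904), (11817, 7619), (11818, 16270), (11819, 11819), (11820, 11932), (11821, 7621), (11822, 12263), (11823, 7627), (11824, 10374), (11825, 7623), (11826, 14045), (11827, 11907), (11828, 7629), (11829, 16279), (11830, 9775), (11831, 7631), (11832, 10313), (11833, 12091),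 (11834, 9678), (11835, 16278), (11836, 16283), (11837, 7630), (11838, 12134), (11839, 11839)]
    ⟨e3 q11776 L172202 q10347, e3 q11777 (flp_b L174300) q12075, e3 q11778 L186467 q13663, e3 q11779 L172217 q7641, e3 q11780 L172224 q8331, e3 q11781 L172230 q7596, e3 q11782 L204998 q16241, e3 q11783 (flp_b L172241) q7590, e3 q11784 L172251 q7594, e3 q11785 L172261 q7602, e3 q11786 (flp_b L172378) q11803, e3 q11787 L172273 q8082, e3 q11788 (flp_b L205012) q16242, e3 q11789 L172287 q7987, e3 q11790 L205024 q16244, e3 q11791 (flp_b L172293) q7597, e3 q11792 (flp_b L176085) q12319, e3 q11793 (flp_b L172301) q7600, e3 q11794 (flp_b L205053) q16247, e3 q11795 L172326 q9802, e3 q11796 L172330 q7605, e3 q11797 L205085 q16250, e3 q11798 (flp_b L172342) q7603, e3 q11799 L172356 q8458, e3 q11800 L205093 q16251, e3 q11801 (flp_b L172366) q7606, e3 q11802 L172374 q8017, e3 q11803 L172378 q11786, e3 q11804 (flp_b L179991) q12797, e3 q11805 (flp_b L172390) q7609, e3 q11806 L205135 q16257, e3 q11807 L178459 q12600, e3 q11808 L205147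 q16259, e3 q11809 (flp_b L172418) q7611, e3 q11810 (flp_b L172422) q7612, e3 q11811 L205165 q16262, e3 q11812 L172436 q7614, e3 q11813 L172442 q10308, e3 q11814 (flp_b L172466) q9807, e3 q11815 L172456 q7649, e3 q11816 L172464 q7904, e3 q11817 (flp_b L172468) q7619, e3 q11818 L205242 q16270, e3 q11819 L172478 q11819, e3 q11820 (flp_b L173317) q11932, e3 q11821 (flp_b L172483) q7621, e3 q11822 (flp_b L175713) q12263, e3 q11823 L172501 q7627, e3 q11824 L172509 q10374, e3 q11825 (flp_b L172511) q7623, e3 q11826 (flp_b L189401) q14045, e3 q11827 (flp_b L173114) q11907, e3 q11828 L172531 q7629, e3 q11829 L205318 q16279, e3 q11830 (flp_b L172543) q9775, e3 q11831 L172547 q7631, e3 q11832 L172553 q10313, e3 q11833 (flp_b L174422) q12091, e3 q11834 L172573 q9678, e3 q11835 (flp_b L205314) q16278, e3 q11836 L205360 q16283, e3 q11837 (flp_b L172589) q7630, e3 q11838 (flp_b L174811) q12134, e3 q11839 L172607 q11839, trivial⟩ (by decide +kernel)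

theorem ce_b_185 : ∀ r, r < 64 → sm gb (Qf (11840 + r)) = Qf (tab Gen.b (11840 + r)) :=
  edges_tab (sm gb) Qf (tab Gen.b) 11840 [(11840, 13603), (11841, 16186), (11842, 16205), (11843, 7635), (11844, 7939), (11845, 9820), (11846, 7687), (11847, 16236), (11848, 8439), (11849, 16185), (11850, 12064), (11851, 11715), (11852, 16290), (11853, 7643), (11854, 11698), (11855, 7644), (11856, 16292), (11857, 12804), (11858, 7648), (11859, 9881), (11860, 16266), (11861, 16293), (11862, 11734), (11863, 7652), (11864, 11709), (11865, 7684), (11866, 16297), (11867, 7655), (11868, 16299), (11869, 16300), (11870, 16301), (11871, 7665), (11872, 11700), (11873, 7780), (11874, 11325), (11875, 11928), (11876, 7663), (11877, 7664), (11878, 14160), (11879, 16305), (11880, 11636), (11881, 7964), (11882, 12047), (11883, 13597), (11884, 7669), (11885, 10377), (11886, 12095), (11887, 7679), (11888, 12097), (11889, 7673), (11890, 10810), (11891, 11900), (11892, 7685), (11893, 7678), (11894, 7680), (11895, 16295), (11896, 16311), (11897,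 11730), (11898, 16287), (11899, 11903), (11900, 11891), (11901, 7938), (11902, 12108), (11903, 11899)]
    ⟨e3 q11840 (flp_b L185991) q13603, e3 q11841 (flp_b L204542) q16186, e3 q11842 (flp_b L204708) q16205, e3 q11843 (flp_b L172636) q7635, e3 q11844 L172657 q7939, e3 q11845 L175478 q9820, e3 q11846 L172649 q7687, e3 q11847 (flp_b L204952) q16236, e3 q11848 L172677 q8439, e3 q11849 (flp_b L204531) q16185, e3 q11850 (flp_b L174210) q12064, e3 q11851 (flp_b L172703) q11715, e3 q11852 L205434 q16290, e3 q11853 (flp_b L172711) q7643, e3 q11854 (flp_b L172725) q11698, e3 q11855 (flp_b L172727) q7644, e3 q11856 L205444 q16292, e3 q11857 (flp_b L180049) q12804, e3 q11858 (flp_b L172745) q7648, e3 q11859 L172761 q9881, e3 q11860 (flp_b L205217) q16266, e3 q11861 L205456 q16293, e3 q11862 L172781 q11734, e3 q11863 (flp_b L172783) q7652, e3 q11864 (flp_b L172795) q11709, e3 q11865 (flp_b L172807) q7684, e3 q11866 L205498 q16297, e3 q11867 (flp_b L172811) q7655, e3 q11868 (flp_b L205516) q16299, e3 q11869 L205524 q16300,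 e3 q11870 L205536 q16301, e3 q11871 L172841 q7665, e3 q11872 L172847 q11700, e3 q11873 L172859 q7780, e3 q11874 L172867 q11325, e3 q11875 (flp_b L173288) q11928, e3 q11876 (flp_b L172877) q7663, e3 q11877 (flp_b L172881) q7664, e3 q11878 (flp_b L190305) q14160, e3 q11879 (flp_b L205574) q16305, e3 q11880 L172903 q11636, e3 q11881 (flp_b L172915) q7964, e3 q11882 (flp_b L174060) q12047, e3 q11883 L185940 q13597, e3 q11884 (flp_b L172937) q7669, e3 q11885 L172949 q10377, e3 q11886 (flp_b L174462) q12095, e3 q11887 L172970 q7679, e3 q11888 L174479 q12097, e3 q11889 (flp_b L172976) q7673, e3 q11890 L172989 q10810, e3 q11891 (flp_b L173048) q11900, e3 q11892 L173008 q7685, e3 q11893 (flp_b L173010) q7678, e3 q11894 (flp_b L173014) q7680, e3 q11895 L205486 q16295, e3 q11896 (flp_b L205633) q16311, e3 q11897 L173032 q11730, e3 q11898 (flp_b L205407) q16287, e3 q11899 (flp_b L173074) q11903, e3 q11900 L173048 q11891, e3 q11901 L173054 q7938, e3 q11902 (flp_b L174571) q12108, e3 q11903 L173074 q11899, trivial⟩ (by decide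 +kernel)

theorem ce_b_186 : ∀ r, r < 64 → sm gb (Qf (11904 + r)) = Qf (tab Gen.b (11904 + r)) :=
  edges_tab (sm gb) Qf (tab Gen.b) 11904 [(11904, 11716), (11905, 10516), (11906, 7696), (11907, 11827), (11908, 7692), (11909, 12221), (11910, 14391), (11911, 7693), (11912, 16325), (11913, 9780), (11914, 7697), (11915, 10307), (11916, 9927), (11917, 14883), (11918, 12293), (11919, 10405), (11920, 7729), (11921, 10782), (11922, 7701), (11923, 8053), (11924, 7702), (11925, 14117), (11926, 14144), (11927, 7705), (11928, 11875), (11929, 16329), (11930, 16327), (11931, 7707), (11932, 11820), (11933, 13312), (11934, 13406), (11935, 7713), (11936, 12023), (11937, 7752), (11938, 14164), (11939, 13407), (11940, 13420), (11941, 7716), (11942, 16343), (11943, 7767), (11944, 12680), (11945, 16340), (11946, 16348), (11947, 7717), (11948, 7718), (11949, 13294), (11950, 8547), (11951, 7720), (11952, 12430), (11953, 12342), (11954, 7724), (11955, 10433), (11956, 10321), (11957, 9689), (11958, 7725), (11959, 10335), (11960, 7727),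 (11961, 10794), (11962, 7730), (11963, 16356), (11964, 7732), (11965, 13966), (11966, 7734), (11967, 7735)]
    ⟨e3 q11904 L173086 q11716, e3 q11905 (flp_b L173098) q10516, e3 q11906 (flp_b L173106) q7696, e3 q11907 L173114 q11827, e3 q11908 L173118 q7692, e3 q11909 (flp_b L175408) q12221, e3 q11910 (flp_b L191966) q14391, e3 q11911 (flp_b L173132) q7693, e3 q11912 (flp_b L205751) q16325, e3 q11913 (flp_b L173152) q9780, e3 q11914 L173158 q7697, e3 q11915 L173162 q10307, e3 q11916 (flp_b L173172) q9927, e3 q11917 (flp_b L195689) q14883, e3 q11918 (flp_b L175915) q12293, e3 q11919 L173194 q10405, e3 q11920 L173206 q7729, e3 q11921 (flp_b L173224) q10782, e3 q11922 (flp_b L173226) q7701, e3 q11923 L173248 q8053, e3 q11924 (flp_b L173250) q7702, e3 q11925 (flp_b L189985) q14117, e3 q11926 L190178 q14144, e3 q11927 L173276 q7705, e3 q11928 L173288 q11875, e3 q11929 L205787 q16329, e3 q11930 (flp_b L205769) q16327, e3 q11931 (flp_b L173302) q7707, e3 q11932 L173317 q11820, e3 q11933 (flp_b L183637) q13312, e3 q11934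 (flp_b L184348) q13406, e3 q11935 L173329 q7713, e3 q11936 (flp_b L183409) q12023, e3 q11937 L173341 q7752, e3 q11938 (flp_b L190331) q14164, e3 q11939 (flp_b L184358) q13407, e3 q11940 (flp_b L184442) q13420, e3 q11941 L173361 q7716, e3 q11942 L205884 q16343, e3 q11943 L173369 q7767, e3 q11944 (flp_b L179091) q12680, e3 q11945 (flp_b L205870) q16340, e3 q11946 L205917 q16348, e3 q11947 (flp_b L173389) q7717, e3 q11948 (flp_b L173391) q7718, e3 q11949 (flp_b L183497) q13294, e3 q11950 L173403 q8547, e3 q11951 (flp_b L173405) q7720, e3 q11952 (flp_b L177073) q12430, e3 q11953 (flp_b L176288) q12342, e3 q11954 L173423 q7724, e3 q11955 (flp_b L173447) q10433, e3 q11956 L173455 q10321, e3 q11957 L173461 q9689, e3 q11958 (flp_b L173471) q7725, e3 q11959 L173485 q10335, e3 q11960 (flp_b L173491) q7727, e3 q11961 L173504 q10794, e3 q11962 (flp_b L173506) q7730, e3 q11963 L205978 q16356, e3 q11964 (flp_b L173522) q7732, e3 q11965 L188825 q13966, e3 q11966 (flp_b L173532) q7734, e3 q11967 (flp_b L173542) q7735, trivial⟩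 (by decide +kernel)

theorem ce_b_187 : ∀ r, r < 64 → sm gb (Qf (11968 + r)) = Qf (tab Gen.b (11968 + r)) :=
  edges_tab (sm gb) Qf (tab Gen.b) 11968 [(11968, 9814), (11969, 7740), (11970, 7738), (11971, 14064), (11972, 7739), (11973, 7741), (11974, 14115), (11975, 7744), (11976, 7813), (11977, 13448), (11978, 7746), (11979, 14025), (11980, 15859), (11981, 8919), (11982, 7748), (11983, 7749), (11984, 16365), (11985, 8030), (11986, 12703), (11987, 16335), (11988, 9746), (11989, 14706), (11990, 12039), (11991, 14049), (11992, 16373), (11993, 7757), (11994, 12801), (11995, 13315), (11996, 16377), (11997, 12709), (11998, 7762), (11999, 9674), (12000, 14332), (12001, 7763), (12002, 16385), (12003, 16386), (12004, 16376), (12005, 16246), (12006, 7909), (12007, 7768), (12008, 13332), (12009, 12777), (12010, 7770), (12011, 13068), (12012, 16342), (12013, 14894), (12014, 16407), (12015, 16398), (12016, 13459), (12017, 15754), (12018, 13184), (12019, 16412), (12020, 7772), (12021, 7773), (12022, 8952), (12023, 11936), (12024,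 9453), (12025, 14041), (12026, 7779), (12027, 14715), (12028, 14792), (12029, 7778), (12030, 10345), (12031, 9859)]
    ⟨e3 q11968 L173556 q9814, e3 q11969 L173562 q7740, e3 q11970 (flp_b L173570) q7738, e3 q11971 (flp_b L189545) q14064, e3 q11972 (flp_b L173586) q7739, e3 q11973 (flp_b L173591) q7741, e3 q11974 L189967 q14115, e3 q11975 L173607 q7744, e3 q11976 L173615 q7813, e3 q11977 (flp_b L184628) q13448, e3 q11978 L173629 q7746, e3 q11979 (flp_b L189245) q14025, e3 q11980 L202306 q15859, e3 q11981 L183213 q8919, e3 q11982 (flp_b L173649) q7748, e3 q11983 (flp_b L173651) q7749, e3 q11984 (flp_b L206060) q16365, e3 q11985 (flp_b L173669) q8030, e3 q11986 L179255 q12703, e3 q11987 (flp_b L205832) q16335, e3 q11988 L173751 q9746, e3 q11989 (flp_b L194071) q14706, e3 q11990 L173988 q12039, e3 q11991 L189435 q14049, e3 q11992 L206128 q16373, e3 q11993 L173717 q7757, e3 q11994 (flp_b L180021) q12801, e3 q11995 (flp_b L183663) q13315, e3 q11996 (flp_b L206164) q16377, e3 q11997 (flp_b L179289) q12709, e3 q11998 L173747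 q7762, e3 q11999 L173765 q9674, e3 q12000 L191551 q14332, e3 q12001 (flp_b L173769) q7763, e3 q12002 (flp_b L206230) q16385, e3 q12003 (flp_b L206240) q16386, e3 q12004 L206160 q16376, e3 q12005 (flp_b L205046) q16246, e3 q12006 L173795 q7909, e3 q12007 L173799 q7768, e3 q12008 L183779 q13332, e3 q12009 (flp_b L179811) q12777, e3 q12010 L173811 q7770, e3 q12011 (flp_b L181911) q13068, e3 q12012 (flp_b L205882) q16342, e3 q12013 (flp_b L195769) q14894, e3 q12014 L206412 q16407, e3 q12015 (flp_b L206338) q16398, e3 q12016 (flp_b L184734) q13459, e3 q12017 L206384 q15754, e3 q12018 (flp_b L182673) q13184, e3 q12019 L206448 q16412, e3 q12020 (flp_b L173869) q7772, e3 q12021 (flp_b L173871) q7773, e3 q12022 (flp_b L173881) q8952, e3 q12023 L183409 q11936, e3 q12024 L173895 q9453, e3 q12025 (flp_b L189379) q14041, e3 q12026 L173905 q7779, e3 q12027 L194153 q14715, e3 q12028 (flp_b L194859) q14792, e3 q12029 (flp_b L173919) q7778, e3 q12030 L173933 q10345, e3 q12031 (flp_b L173945) q9859, trivial⟩ (by decide +kernel)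

theorem ce_b_188 : ∀ r, r < 64 → sm gb (Qf (12032 + r)) = Qf (tab Gen.b (12032 + r)) :=
  edges_tab (sm gb) Qf (tab Gen.b) 12032 [(12032, 7785), (12033, 16425), (12034, 12034), (12035, 12137), (12036, 7787), (12037, 7788), (12038, 14101), (12039, 11990), (12040, 7794), (12041, 16434), (12042, 9829), (12043, 10350), (12044, 12320), (12045, 7796), (12046, 10408), (12047, 11882), (12048, 9700), (12049, 16433), (12050, 16438), (12051, 7795), (12052, 13604), (12053, 12053), (12054, 16228), (12055, 16187), (12056, 7799), (12057, 7997), (12058, 9873), (12059, 7851), (12060, 16206), (12061, 16183), (12062, 8440), (12063, 11724), (12064, 11850), (12065, 7807), (12066, 11704), (12067, 16445), (12068, 16320), (12069, 7811), (12070, 7812), (12071, 9883), (12072, 16359), (12073, 12779), (12074, 16446), (12075, 11777), (12076, 7817), (12077, 11718), (12078, 7848), (12079, 16450), (12080, 7820), (12081, 16358), (12082, 7829), (12083, 11706), (12084, 7934), (12085, 11485), (12086, 7828), (12087, 14181), (12088, 16454), (12089,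 11583), (12090, 8021), (12091, 11833), (12092, 13600), (12093, 7833), (12094, 10411), (12095, 11886)]
    ⟨e3 q12032 (flp_b L173947) q7785, e3 q12033 L206561 q16425, e3 q12034 L173957 q12034, e3 q12035 (flp_b L174834) q12137, e3 q12036 (flp_b L173962) q7787, e3 q12037 (flp_b L173966) q7788, e3 q12038 (flp_b L189845) q14101, e3 q12039 (flp_b L173988) q11990, e3 q12040 L174004 q7794, e3 q12041 L206639 q16434, e3 q12042 (flp_b L174022) q9829, e3 q12043 L174030 q10350, e3 q12044 (flp_b L176089) q12320, e3 q12045 L174046 q7796, e3 q12046 L174054 q10408, e3 q12047 L174060 q11882, e3 q12048 L174074 q9700, e3 q12049 (flp_b L206635) q16433, e3 q12050 L206683 q16438, e3 q12051 (flp_b L174094) q7795, e3 q12052 (flp_b L186005) q13604, e3 q12053 L174118 q12053, e3 q12054 (flp_b L204889) q16228, e3 q12055 (flp_b L204553) q16187, e3 q12056 (flp_b L174137) q7799, e3 q12057 (flp_b L174162) q7997, e3 q12058 L174148 q9873, e3 q12059 L174154 q7851, e3 q12060 (flp_b L204718) q16206, e3 q12061 (flp_b L204510) q16183, e3 q12062 L174192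 q8440, e3 q12063 (flp_b L174200) q11724, e3 q12064 L174210 q11850, e3 q12065 (flp_b L174212) q7807, e3 q12066 (flp_b L174226) q11704, e3 q12067 L206759 q16445, e3 q12068 (flp_b L205711) q16320, e3 q12069 (flp_b L174244) q7811, e3 q12070 (flp_b L174250) q7812, e3 q12071 L174266 q9883, e3 q12072 (flp_b L206008) q16359, e3 q12073 (flp_b L179831) q12779, e3 q12074 L206765 q16446, e3 q12075 L174300 q11777, e3 q12076 (flp_b L174302) q7817, e3 q12077 (flp_b L174316) q11718, e3 q12078 (flp_b L174328) q7848, e3 q12079 L206811 q16450, e3 q12080 (flp_b L174332) q7820, e3 q12081 (flp_b L205996) q16358, e3 q12082 L174346 q7829, e3 q12083 L174352 q11706, e3 q12084 L174366 q7934, e3 q12085 L174374 q11485, e3 q12086 (flp_b L174376) q7828, e3 q12087 (flp_b L190471) q14181, e3 q12088 (flp_b L206849) q16454, e3 q12089 L174398 q11583, e3 q12090 L174410 q8021, e3 q12091 L174422 q11833, e3 q12092 (flp_b L185964) q13600, e3 q12093 (flp_b L174434) q7833, e3 q12094 L174446 q10411, e3 q12095 L174462 q11886, trivial⟩ (by decide +kernel)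

theorem ce_b_189 : ∀ r, r < 64 → sm gb (Qf (12096 + r)) = Qf (tab Gen.b (12096 + r)) :=
  edges_tab (sm gb) Qf (tab Gen.b) 12096 [(12096, 7843), (12097, 11888), (12098, 7837), (12099, 10831), (12100, 12110), (12101, 7849), (12102, 7842), (12103, 7844), (12104, 16448), (12105, 16460), (12106, 11772), (12107, 16441), (12108, 11902), (12109, 7996), (12110, 12100), (12111, 11725), (12112, 10465), (12113, 7860), (12114, 7856), (12115, 12280), (12116, 14336), (12117, 7857), (12118, 16469), (12119, 9833), (12120, 7861), (12121, 10343), (12122, 9911), (12123, 14851), (12124, 12233), (12125, 10439), (12126, 7891), (12127, 10699), (12128, 7865), (12129, 8097), (12130, 7866), (12131, 14134), (12132, 7869), (12133, 16471), (12134, 11838), (12135, 16470), (12136, 7870), (12137, 12035), (12138, 13371), (12139, 13458), (12140, 7876), (12141, 7911), (12142, 12206), (12143, 14185), (12144, 13472), (12145, 7878), (12146, 7922), (12147, 16485), (12148, 16481), (12149, 16488), (12150, 7879), (12151, 7880), (12152, 13353), (12153,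 8518), (12154, 7882), (12155, 12416), (12156, 12388), (12157, 7886), (12158, 10399), (12159, 10358)]
    ⟨e3 q12096 L174469 q7843, e3 q12097 (flp_b L174479) q11888, e3 q12098 (flp_b L174481) q7837, e3 q12099 L174500 q10831, e3 q12100 (flp_b L174591) q12110, e3 q12101 L174529 q7849, e3 q12102 (flp_b L174533) q7842, e3 q12103 (flp_b L174537) q7844, e3 q12104 (flp_b L206797) q16448, e3 q12105 (flp_b L206918) q16460, e3 q12106 L174559 q11772, e3 q12107 (flp_b L206726) q16441, e3 q12108 L174571 q11902, e3 q12109 L174581 q7996, e3 q12110 L174591 q12100, e3 q12111 L174605 q11725, e3 q12112 (flp_b L174617) q10465, e3 q12113 L174627 q7860, e3 q12114 L174631 q7856, e3 q12115 (flp_b L175831) q12280, e3 q12116 (flp_b L191585) q14336, e3 q12117 (flp_b L174647) q7857, e3 q12118 (flp_b L206992) q16469, e3 q12119 (flp_b L174958) q9833, e3 q12120 L174671 q7861, e3 q12121 L174675 q10343, e3 q12122 (flp_b L174685) q9911, e3 q12123 (flp_b L195404) q14851, e3 q12124 (flp_b L175521) q12233, e3 q12125 L174713 q10439, e3 q12126 L174725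 q7891, e3 q12127 (flp_b L174743) q10699, e3 q12128 (flp_b L174745) q7865, e3 q12129 L174767 q8097, e3 q12130 (flp_b L174769) q7866, e3 q12131 (flp_b L190103) q14134, e3 q12132 L174787 q7869, e3 q12133 L207008 q16471, e3 q12134 L174811 q11838, e3 q12135 (flp_b L207000) q16470, e3 q12136 (flp_b L174821) q7870, e3 q12137 L174834 q12035, e3 q12138 (flp_b L184079) q13371, e3 q12139 (flp_b L184724) q13458, e3 q12140 L174846 q7876, e3 q12141 L174852 q7911, e3 q12142 (flp_b L183433) q12206, e3 q12143 (flp_b L190525) q14185, e3 q12144 (flp_b L184820) q13472, e3 q12145 L174870 q7878, e3 q12146 L174874 q7922, e3 q12147 L207109 q16485, e3 q12148 (flp_b L207085) q16481, e3 q12149 L207130 q16488, e3 q12150 (flp_b L174892) q7879, e3 q12151 (flp_b L174896) q7880, e3 q12152 (flp_b L183959) q13353, e3 q12153 L174908 q8518, e3 q12154 (flp_b L174910) q7882, e3 q12155 (flp_b L176949) q12416, e3 q12156 (flp_b L176709) q12388, e3 q12157 L174932 q7886, e3 q12158 (flp_b L174948) q10399, e3 q12159 (flp_b L174956) q10358, trivial⟩ (by decide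 +kernel)

theorem ce_b_190 : ∀ r, r < 64 → sm gb (Qf (12160 + r)) = Qf (tab Gen.b (12160 + r)) :=
  edges_tab (sm gb) Qf (tab Gen.b) 12160 [(12160, 9711), (12161, 7887), (12162, 10370), (12163, 7889), (12164, 10713), (12165, 7892), (12166, 16496), (12167, 7894), (12168, 13945), (12169, 7896), (12170, 9867), (12171, 7901), (12172, 7899), (12173, 7900), (12174, 14063), (12175, 13395), (12176, 7906), (12177, 14082), (12178, 15625), (12179, 8935), (12180, 7907), (12181, 16396), (12182, 7973), (12183, 16476), (12184, 12674), (12185, 14725), (12186, 9766), (12187, 14103), (12188, 7919), (12189, 9696), (12190, 14387), (12191, 7920), (12192, 16506), (12193, 16216), (12194, 16391), (12195, 7924), (12196, 16482), (12197, 12994), (12198, 16516), (12199, 14863), (12200, 15980), (12201, 13125), (12202, 16519), (12203, 7926), (12204, 7927), (12205, 9018), (12206, 12142), (12207, 9444), (12208, 14097), (12209, 7933), (12210, 14734), (12211, 14810), (12212, 7932), (12213, 16315), (12214, 16286), (12215, 11727), (12216, 14155),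 (12217, 15909), (12218, 7947), (12219, 13405), (12220, 7950), (12221, 11909), (12222, 13713), (12223, 12574)]
    ⟨e3 q12160 L174968 q9711, e3 q12161 (flp_b L174978) q7887, e3 q12162 L174992 q10370, e3 q12163 (flp_b L174998) q7889, e3 q12164 L175011 q10713, e3 q12165 (flp_b L175013) q7892, e3 q12166 L207195 q16496, e3 q12167 (flp_b L175029) q7894, e3 q12168 L188687 q13945, e3 q12169 (flp_b L175043) q7896, e3 q12170 L175063 q9867, e3 q12171 L175069 q7901, e3 q12172 (flp_b L175077) q7899, e3 q12173 (flp_b L175084) q7900, e3 q12174 L189541 q14063, e3 q12175 (flp_b L184244) q13395, e3 q12176 L175114 q7906, e3 q12177 (flp_b L189677) q14082, e3 q12178 L200665 q15625, e3 q12179 L175140 q8935, e3 q12180 (flp_b L175134) q7907, e3 q12181 (flp_b L206322) q16396, e3 q12182 (flp_b L175156) q7973, e3 q12183 (flp_b L207049) q16476, e3 q12184 L179059 q12674, e3 q12185 (flp_b L194233) q14725, e3 q12186 (flp_b L175184) q9766, e3 q12187 (flp_b L189867) q14103, e3 q12188 L175196 q7919, e3 q12189 L175210 q9696, e3 q12190 L191932 q14387,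 e3 q12191 (flp_b L175214) q7920, e3 q12192 (flp_b L207285) q16506, e3 q12193 (flp_b L204804) q16216, e3 q12194 L206288 q16391, e3 q12195 L175236 q7924, e3 q12196 (flp_b L207091) q16482, e3 q12197 (flp_b L181403) q12994, e3 q12198 L207359 q16516, e3 q12199 (flp_b L195488) q14863, e3 q12200 (flp_b L206390) q15980, e3 q12201 (flp_b L182311) q13125, e3 q12202 L207385 q16519, e3 q12203 (flp_b L175280) q7926, e3 q12204 (flp_b L175284) q7927, e3 q12205 (flp_b L175294) q9018, e3 q12206 L183433 q12142, e3 q12207 L175308 q9444, e3 q12208 (flp_b L189809) q14097, e3 q12209 L175318 q7933, e3 q12210 L194325 q14734, e3 q12211 (flp_b L195013) q14810, e3 q12212 (flp_b L175332) q7932, e3 q12213 (flp_b L205659) q16315, e3 q12214 L205393 q16286, e3 q12215 L175370 q11727, e3 q12216 (flp_b L190269) q14155, e3 q12217 (flp_b L202699) q15909, e3 q12218 (flp_b L175390) q7947, e3 q12219 (flp_b L184340) q13405, e3 q12220 L175404 q7950, e3 q12221 L175408 q11909, e3 q12222 L186957 q13713, e3 q12223 (flp_b L178163) q12574, trivial⟩ (by decide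 +kernel)

theorem ce_b_191 : ∀ r, r < 64 → sm gb (Qf (12224 + r)) = Qf (tab Gen.b (12224 + r)) :=
  edges_tab (sm gb) Qf (tab Gen.b) 12224 [(12224, 10355), (12225, 7955), (12226, 11077), (12227, 16222), (12228, 15253), (12229, 14038), (12230, 11439), (12231, 9796), (12232, 7966), (12233, 12124), (12234, 9888), (12235, 16536), (12236, 7971), (12237, 9107), (12238, 11702), (12239, 7968), (12240, 10380), (12241, 11680), (12242, 7970), (12243, 16541), (12244, 16542), (12245, 16475), (12246, 8807), (12247, 16502), (12248, 14107), (12249, 12366), (12250, 16550), (12251, 12368), (12252, 16553), (12253, 7978), (12254, 16392), (12255, 16555), (12256, 16556), (12257, 7981), (12258, 7982), (12259, 10365), (12260, 10359), (12261, 8976), (12262, 11749), (12263, 11822), (12264, 8317), (12265, 12597), (12266, 12651), (12267, 12641), (12268, 12642), (12269, 8614), (12270, 8363), (12271, 12329), (12272, 16463), (12273, 16440), (12274, 11770), (12275, 14176), (12276, 15679), (12277, 8005), (12278, 13457), (12279, 8008), (12280, 12115),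 (12281, 13717), (12282, 12580), (12283, 10318), (12284, 8013), (12285, 11039), (12286, 16252), (12287, 15306)]
    ⟨e3 q12224 (flp_b L175422) q10355, e3 q12225 L175426 q7955, e3 q12226 L175436 q11077, e3 q12227 (flp_b L204853) q16222, e3 q12228 (flp_b L198282) q15253, e3 q12229 (flp_b L189353) q14038, e3 q12230 L175503 q11439, e3 q12231 L175511 q9796, e3 q12232 L175515 q7966, e3 q12233 L175521 q12124, e3 q12234 L175527 q9888, e3 q12235 L207529 q16536, e3 q12236 L175533 q7971, e3 q12237 L175539 q9107, e3 q12238 L175545 q11702, e3 q12239 (flp_b L175547) q7968, e3 q12240 L175563 q10380, e3 q12241 L175571 q11680, e3 q12242 (flp_b L175573) q7970, e3 q12243 (flp_b L207589) q16541, e3 q12244 (flp_b L207595) q16542, e3 q12245 (flp_b L207041) q16475, e3 q12246 (flp_b L175601) q8807, e3 q12247 L207243 q16502, e3 q12248 (flp_b L189905) q14107, e3 q12249 (flp_b L176494) q12366, e3 q12250 L207650 q16550, e3 q12251 (flp_b L176510) q12368, e3 q12252 L207666 q16553, e3 q12253 (flp_b L175633) q7978, e3 q12254 (flp_b L206298) q16392,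 e3 q12255 L207682 q16555, e3 q12256 L207690 q16556, e3 q12257 (flp_b L175659) q7981, e3 q12258 (flp_b L175669) q7982, e3 q12259 L175679 q10365, e3 q12260 L175689 q10359, e3 q12261 L175695 q8976, e3 q12262 L175707 q11749, e3 q12263 L175713 q11822, e3 q12264 L175719 q8317, e3 q12265 (flp_b L178421) q12597, e3 q12266 (flp_b L178876) q12651, e3 q12267 L178773 q12641, e3 q12268 (flp_b L178785) q12642, e3 q12269 L175747 q8614, e3 q12270 (flp_b L175755) q8363, e3 q12271 L176147 q12329, e3 q12272 (flp_b L206940) q16463, e3 q12273 (flp_b L206712) q16440, e3 q12274 (flp_b L175793) q11770, e3 q12275 (flp_b L190435) q14176, e3 q12276 (flp_b L201052) q15679, e3 q12277 (flp_b L175813) q8005, e3 q12278 (flp_b L184716) q13457, e3 q12279 L175827 q8008, e3 q12280 L175831 q12115, e3 q12281 L186993 q13717, e3 q12282 (flp_b L178221) q12580, e3 q12283 (flp_b L175853) q10318, e3 q12284 L175857 q8013, e3 q12285 L175867 q11039, e3 q12286 (flp_b L205101) q16252, e3 q12287 (flp_b L198653) q15306, trivial⟩ (by decide +kernel)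

theorem ce_b_192 : ∀ r, r < 64 → sm gb (Qf (12288 + r)) = Qf (tab Gen.b (12288 + r)) :=
  edges_tab (sm gb) Qf (tab Gen.b) 12288 [(12288, 14095), (12289, 9849), (12290, 11279), (12291, 8024), (12292, 9894), (12293, 11918), (12294, 16571), (12295, 8029), (12296, 11708), (12297, 9161), (12298, 11681), (12299, 8027), (12300, 10414), (12301, 8028), (12302, 16576), (12303, 16577), (12304, 16333), (12305, 16368), (12306, 8844), (12307, 14053), (12308, 12407), (12309, 16585), (12310, 12408), (12311, 16588), (12312, 8036), (12313, 16375), (12314, 16590), (12315, 16591), (12316, 8039), (12317, 8040), (12318, 9041), (12319, 11792), (12320, 12044), (12321, 10331), (12322, 10322), (12323, 8311), (12324, 12660), (12325, 12595), (12326, 12630), (12327, 8619), (12328, 12631), (12329, 12271), (12330, 8371), (12331, 10367), (12332, 8055), (12333, 9220), (12334, 15636), (12335, 9207), (12336, 8140), (12337, 8059), (12338, 10698), (12339, 16599), (12340, 9724), (12341, 16600), (12342, 11953), (12343, 8064), (12344, 14166), (12345,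 14756), (12346, 14162), (12347, 8065), (12348, 8486), (12349, 8069), (12350, 8471), (12351, 8472)]
    ⟨e3 q12288 L189789 q14095, e3 q12289 L175893 q9849, e3 q12290 L175899 q11279, e3 q12291 L175905 q8024, e3 q12292 L175909 q9894, e3 q12293 L175915 q11918, e3 q12294 L207814 q16571, e3 q12295 L175923 q8029, e3 q12296 L175929 q11708, e3 q12297 L175935 q9161, e3 q12298 L175943 q11681, e3 q12299 (flp_b L175945) q8027, e3 q12300 L175965 q10414, e3 q12301 (flp_b L175967) q8028, e3 q12302 (flp_b L207874) q16576, e3 q12303 (flp_b L207880) q16577, e3 q12304 (flp_b L205818) q16333, e3 q12305 L206086 q16368, e3 q12306 (flp_b L176001) q8844, e3 q12307 (flp_b L189473) q14053, e3 q12308 (flp_b L176879) q12407, e3 q12309 L207935 q16585, e3 q12310 (flp_b L176887) q12408, e3 q12311 L207951 q16588, e3 q12312 (flp_b L176027) q8036, e3 q12313 (flp_b L206150) q16375, e3 q12314 L207967 q16590, e3 q12315 L207977 q16591, e3 q12316 (flp_b L176053) q8039, e3 q12317 (flp_b L176059) q8040, e3 q12318 L176073 q9041, e3 q12319 L176085 q11792,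 e3 q12320 L176089 q12044, e3 q12321 L176095 q10331, e3 q12322 L176105 q10322, e3 q12323 L176111 q8311, e3 q12324 (flp_b L178967) q12660, e3 q12325 (flp_b L178399) q12595, e3 q12326 L178695 q12630, e3 q12327 L176135 q8619, e3 q12328 (flp_b L178707) q12631, e3 q12329 (flp_b L176147) q12271, e3 q12330 (flp_b L176157) q8371, e3 q12331 L176167 q10367, e3 q12332 L176177 q8055, e3 q12333 L176187 q9220, e3 q12334 (flp_b L200773) q15636, e3 q12335 L176209 q9207, e3 q12336 L176219 q8140, e3 q12337 L176229 q8059, e3 q12338 L176248 q10698, e3 q12339 (flp_b L208061) q16599, e3 q12340 L176272 q9724, e3 q12341 L208071 q16600, e3 q12342 L176288 q11953, e3 q12343 L176292 q8064, e3 q12344 L190349 q14166, e3 q12345 (flp_b L194522) q14756, e3 q12346 (flp_b L190317) q14162, e3 q12347 (flp_b L176318) q8065, e3 q12348 L176334 q8486, e3 q12349 (flp_b L176336) q8069, e3 q12350 L176354 q8471, e3 q12351 L176366 q8472, trivial⟩ (by decide +kernel)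

theorem ce_b_193 : ∀ r, r < 64 → sm gb (Qf (12352 + r)) = Qf (tab Gen.b (12352 + r)) :=
  edges_tab (sm gb) Qf (tab Gen.b) 12352 [(12352, 10594), (12353, 8143), (12354, 12450), (12355, 12406), (12356, 8077), (12357, 8078), (12358, 16604), (12359, 16608), (12360, 16609), (12361, 12650), (12362, 12681), (12363, 16610), (12364, 8081), (12365, 12376), (12366, 12249), (12367, 16613), (12368, 12251), (12369, 8733), (12370, 16617), (12371, 8087), (12372, 14859), (12373, 12711), (12374, 12659), (12375, 16620), (12376, 12365), (12377, 10332), (12378, 9255), (12379, 8100), (12380, 15870), (12381, 9244), (12382, 8175), (12383, 8103), (12384, 10783), (12385, 16622), (12386, 16623), (12387, 9716), (12388, 12156), (12389, 8108), (12390, 14187), (12391, 14184), (12392, 14777), (12393, 8109), (12394, 8494), (12395, 8112), (12396, 8460), (12397, 8461), (12398, 10539), (12399, 8178), (12400, 12485), (12401, 8120), (12402, 8121), (12403, 16627), (12404, 16629), (12405, 8123), (12406, 12355), (12407, 12308), (12408, 12310), (12409,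 16634), (12410, 8778), (12411, 8127), (12412, 14890), (12413, 9701), (12414, 8135), (12415, 16637)]
    ⟨e3 q12352 L176378 q10594, e3 q12353 L176382 q8143, e3 q12354 (flp_b L177206) q12450, e3 q12355 (flp_b L176875) q12406, e3 q12356 (flp_b L176408) q8077, e3 q12357 (flp_b L176420) q8078, e3 q12358 (flp_b L208110) q16604, e3 q12359 L208140 q16608, e3 q12360 L208149 q16609, e3 q12361 (flp_b L178862) q12650, e3 q12362 (flp_b L179099) q12681, e3 q12363 L208159 q16610, e3 q12364 (flp_b L176476) q8081, e3 q12365 (flp_b L176578) q12376, e3 q12366 L176494 q12249, e3 q12367 L208183 q16613, e3 q12368 L176510 q12251, e3 q12369 L176518 q8733, e3 q12370 L208205 q16617, e3 q12371 (flp_b L176526) q8087, e3 q12372 (flp_b L195464) q14859, e3 q12373 (flp_b L179307) q12711, e3 q12374 (flp_b L178953) q12659, e3 q12375 L208229 q16620, e3 q12376 L176578 q12365, e3 q12377 L176588 q10332, e3 q12378 L176598 q9255, e3 q12379 L176608 q8100, e3 q12380 (flp_b L202414) q15870, e3 q12381 L176630 q9244, e3 q12382 L176640 q8175, e3 q12383 L176650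 q8103, e3 q12384 L176669 q10783, e3 q12385 (flp_b L208258) q16622, e3 q12386 L208268 q16623, e3 q12387 L176701 q9716, e3 q12388 L176709 q12156, e3 q12389 L176713 q8108, e3 q12390 L190545 q14187, e3 q12391 (flp_b L190517) q14184, e3 q12392 (flp_b L194715) q14777, e3 q12393 (flp_b L176739) q8109, e3 q12394 L176755 q8494, e3 q12395 (flp_b L176757) q8112, e3 q12396 L176777 q8460, e3 q12397 L176789 q8461, e3 q12398 L176801 q10539, e3 q12399 L176805 q8178, e3 q12400 (flp_b L177479) q12485, e3 q12401 (flp_b L176819) q8120, e3 q12402 (flp_b L176833) q8121, e3 q12403 (flp_b L208307) q16627, e3 q12404 L208317 q16629, e3 q12405 (flp_b L176857) q8123, e3 q12406 L176875 q12355, e3 q12407 L176879 q12308, e3 q12408 L176887 q12310, e3 q12409 L208353 q16634, e3 q12410 L176905 q8778, e3 q12411 (flp_b L176907) q8127, e3 q12412 (flp_b L195743) q14890, e3 q12413 L176931 q9701, e3 q12414 (flp_b L176933) q8135, e3 q12415 L208383 q16637, trivial⟩ (by decide +kernel)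

theorem ce_b_194 : ∀ r, r < 64 → sm gb (Qf (12416 + r)) = Qf (tab Gen.b (12416 + r)) :=
  edges_tab (sm gb) Qf (tab Gen.b) 12416 [(12416, 12155), (12417, 8155), (12418, 13679), (12419, 16636), (12420, 8138), (12421, 8142), (12422, 13516), (12423, 8141), (12424, 10073), (12425, 12770), (12426, 8144), (12427, 9679), (12428, 8146), (12429, 16642), (12430, 11952), (12431, 8148), (12432, 12473), (12433, 8185), (12434, 13688), (12435, 16640), (12436, 12475), (12437, 16645), (12438, 8157), (12439, 12459), (12440, 8152), (12441, 16647), (12442, 16493), (12443, 14870), (12444, 9201), (12445, 8156), (12446, 9457), (12447, 16651), (12448, 8159), (12449, 16648), (12450, 12354), (12451, 16655), (12452, 16652), (12453, 14763), (12454, 16658), (12455, 8162), (12456, 8269), (12457, 8268), (12458, 8187), (12459, 12439), (12460, 13685), (12461, 12495), (12462, 8167), (12463, 16661), (12464, 8170), (12465, 8173), (12466, 8177), (12467, 13539), (12468, 8176), (12469, 10039), (12470, 12795), (12471, 8179), (12472, 8180), (12473, 12432),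 (12474, 16663), (12475, 12436), (12476, 8183), (12477, 16665), (12478, 16353), (12479, 14899)]
    ⟨e3 q12416 L176949 q12155, e3 q12417 L176967 q8155, e3 q12418 (flp_b L186617) q13679, e3 q12419 (flp_b L208381) q16636, e3 q12420 (flp_b L176991) q8138, e3 q12421 L177001 q8142, e3 q12422 L185183 q13516, e3 q12423 (flp_b L177015) q8141, e3 q12424 L177025 q10073, e3 q12425 (flp_b L179757) q12770, e3 q12426 (flp_b L177035) q8144, e3 q12427 L177053 q9679, e3 q12428 (flp_b L177057) q8146, e3 q12429 L208445 q16642, e3 q12430 L177073 q11952, e3 q12431 (flp_b L177081) q8148, e3 q12432 (flp_b L177401) q12473, e3 q12433 L177100 q8185, e3 q12434 (flp_b L186702) q13688, e3 q12435 (flp_b L208433) q16640, e3 q12436 (flp_b L177419) q12475, e3 q12437 L208483 q16645, e3 q12438 L177136 q8157, e3 q12439 (flp_b L177277) q12459, e3 q12440 (flp_b L177146) q8152, e3 q12441 (flp_b L208515) q16647, e3 q12442 (flp_b L207174) q16493, e3 q12443 (flp_b L195550) q14870, e3 q12444 (flp_b L177176) q9201, e3 q12445 (flp_b L177178) q8156, e3 q12446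 L177192 q9457, e3 q12447 L208545 q16651, e3 q12448 L177200 q8159, e3 q12449 (flp_b L208531) q16648, e3 q12450 L177206 q12354, e3 q12451 L208582 q16655, e3 q12452 (flp_b L208558) q16652, e3 q12453 (flp_b L194577) q14763, e3 q12454 L208608 q16658, e3 q12455 (flp_b L177236) q8162, e3 q12456 L177258 q8269, e3 q12457 L177271 q8268, e3 q12458 (flp_b L177285) q8187, e3 q12459 L177277 q12439, e3 q12460 (flp_b L186674) q13685, e3 q12461 (flp_b L177572) q12495, e3 q12462 (flp_b L177311) q8167, e3 q12463 L208636 q16661, e3 q12464 (flp_b L177324) q8170, e3 q12465 (flp_b L177328) q8173, e3 q12466 L177338 q8177, e3 q12467 L185377 q13539, e3 q12468 (flp_b L177352) q8176, e3 q12469 L177364 q10039, e3 q12470 (flp_b L179975) q12795, e3 q12471 (flp_b L177374) q8179, e3 q12472 (flp_b L177384) q8180, e3 q12473 L177401 q12432, e3 q12474 L208656 q16663, e3 q12475 L177419 q12436, e3 q12476 (flp_b L177421) q8183, e3 q12477 (flp_b L208688) q16665, e3 q12478 (flp_b L205957) q16353, e3 q12479 (flp_b L195807) q14899, trivial⟩ (by decide +kernel)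

theorem ce_b_195 : ∀ r, r < 64 → sm gb (Qf (12480 + r)) = Qf (tab Gen.b (12480 + r)) :=
  edges_tab (sm gb) Qf (tab Gen.b) 12480 [(12480, 9237), (12481, 8186), (12482, 9462), (12483, 16669), (12484, 8189), (12485, 12400), (12486, 16666), (12487, 16673), (12488, 16670), (12489, 14742), (12490, 16676), (12491, 8192), (12492, 8280), (12493, 8279), (12494, 13694), (12495, 12461), (12496, 8197), (12497, 16679), (12498, 8200), (12499, 8236), (12500, 10351), (12501, 8240), (12502, 10314), (12503, 14844), (12504, 14878), (12505, 16680), (12506, 16681), (12507, 8216), (12508, 8217), (12509, 16682), (12510, 9934), (12511, 12530), (12512, 16688), (12513, 9937), (12514, 12526), (12515, 8220), (12516, 13021), (12517, 8769), (12518, 8222), (12519, 13092), (12520, 8724), (12521, 11203), (12522, 11134), (12523, 8228), (12524, 16699), (12525, 14206), (12526, 12514), (12527, 8232), (12528, 16708), (12529, 14202), (12530, 12511), (12531, 16714), (12532, 12532), (12533, 12557), (12534, 8235), (12535, 16717), (12536, 8666), (12537,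 11570), (12538, 16659), (12539, 13014), (12540, 16720), (12541, 12541), (12542, 12563), (12543, 8239)]
    ⟨e3 q12480 L177449 q9237, e3 q12481 (flp_b L177453) q8186, e3 q12482 (flp_b L177467) q9462, e3 q12483 L208718 q16669, e3 q12484 L177475 q8189, e3 q12485 L177479 q12400, e3 q12486 (flp_b L208704) q16666, e3 q12487 L208755 q16673, e3 q12488 (flp_b L208731) q16670, e3 q12489 (flp_b L194384) q14742, e3 q12490 L208781 q16676, e3 q12491 (flp_b L177511) q8192, e3 q12492 L177533 q8280, e3 q12493 L177546 q8279, e3 q12494 (flp_b L186759) q13694, e3 q12495 L177572 q12461, e3 q12496 (flp_b L177574) q8197, e3 q12497 L208809 q16679, e3 q12498 (flp_b L177587) q8200, e3 q12499 L177596 q8236, e3 q12500 L177604 q10351, e3 q12501 L177611 q8240, e3 q12502 L177619 q10314, e3 q12503 (flp_b L195315) q14844, e3 q12504 (flp_b L195626) q14878, e3 q12505 L208825 q16680, e3 q12506 L208831 q16681, e3 q12507 (flp_b L177663) q8216, e3 q12508 (flp_b L177667) q8217, e3 q12509 L208837 q16682, e3 q12510 L177681 q9934, e3 q12511 (flp_b L177829)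 q12530, e3 q12512 L208887 q16688, e3 q12513 L177699 q9937, e3 q12514 (flp_b L177803) q12526, e3 q12515 (flp_b L177707) q8220, e3 q12516 (flp_b L181591) q13021, e3 q12517 (flp_b L177731) q8769, e3 q12518 (flp_b L177733) q8222, e3 q12519 L182073 q13092, e3 q12520 (flp_b L177757) q8724, e3 q12521 L177767 q11203, e3 q12522 L177777 q11134, e3 q12523 (flp_b L177779) q8228, e3 q12524 L208973 q16699, e3 q12525 (flp_b L190697) q14206, e3 q12526 L177803 q12514, e3 q12527 (flp_b L177805) q8232, e3 q12528 L209045 q16708, e3 q12529 (flp_b L190667) q14202, e3 q12530 L177829 q12511, e3 q12531 L209095 q16714, e3 q12532 L177843 q12532, e3 q12533 (flp_b L178030) q12557, e3 q12534 (flp_b L177852) q8235, e3 q12535 L209127 q16717, e3 q12536 L177872 q8666, e3 q12537 L177876 q11570, e3 q12538 (flp_b L208632) q16659, e3 q12539 (flp_b L181541) q13014, e3 q12540 L209153 q16720, e3 q12541 L177908 q12541, e3 q12542 (flp_b L178070) q12563, e3 q12543 (flp_b L177917) q8239, trivial⟩ (by decide +kernel)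

theorem ce_b_196 : ∀ r, r < 64 → sm gb (Qf (12544 + r)) = Qf (tab Gen.b (12544 + r)) :=
  edges_tab (sm gb) Qf (tab Gen.b) 12544 [(12544, 16723), (12545, 8650), (12546, 11622), (12547, 16677), (12548, 13085), (12549, 8242), (12550, 8243), (12551, 8244), (12552, 8245), (12553, 8246), (12554, 8247), (12555, 11428), (12556, 12556), (12557, 12533), (12558, 8620), (12559, 12559), (12560, 11297), (12561, 11269), (12562, 12562), (12563, 12542), (12564, 8615), (12565, 12565), (12566, 11458), (12567, 9004), (12568, 9067), (12569, 9011), (12570, 8262), (12571, 12747), (12572, 12744), (12573, 8266), (12574, 12223), (12575, 9072), (12576, 8273), (12577, 12738), (12578, 12735), (12579, 8277), (12580, 12282), (12581, 8282), (12582, 15219), (12583, 8284), (12584, 8285), (12585, 16744), (12586, 8293), (12587, 12592), (12588, 8291), (12589, 15272), (12590, 8294), (12591, 16745), (12592, 12587), (12593, 16208), (12594, 16238), (12595, 12325), (12596, 15576), (12597, 12265), (12598, 15816), (12599, 10622), (12600, 11807), (12601,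 10571), (12602, 11764), (12603, 16207), (12604, 16237), (12605, 11563), (12606, 16746), (12607, 16294)]
    ⟨e3 q12544 L209185 q16723, e3 q12545 L177937 q8650, e3 q12546 L177941 q11622, e3 q12547 (flp_b L208805) q16677, e3 q12548 (flp_b L182021) q13085, e3 q12549 (flp_b L177961) q8242, e3 q12550 (flp_b L177967) q8243, e3 q12551 (flp_b L177981) q8244, e3 q12552 (flp_b L177987) q8245, e3 q12553 (flp_b L177993) q8246, e3 q12554 (flp_b L178007) q8247, e3 q12555 (flp_b L178283) q11428, e3 q12556 L178021 q12556, e3 q12557 L178030 q12533, e3 q12558 (flp_b L178038) q8620, e3 q12559 L178046 q12559, e3 q12560 L178051 q11297, e3 q12561 L178267 q11269, e3 q12562 L178061 q12562, e3 q12563 L178070 q12542, e3 q12564 (flp_b L178078) q8615, e3 q12565 L178086 q12565, e3 q12566 L178091 q11458, e3 q12567 L178101 q9004, e3 q12568 L178111 q9067, e3 q12569 L178125 q9011, e3 q12570 (flp_b L178127) q8262, e3 q12571 (flp_b L179569) q12747, e3 q12572 (flp_b L179543) q12744, e3 q12573 (flp_b L178159) q8266, e3 q12574 L178163 q12223, e3 q12575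 (flp_b L178183) q9072, e3 q12576 (flp_b L178185) q8273, e3 q12577 (flp_b L179501) q12738, e3 q12578 (flp_b L179475) q12735, e3 q12579 (flp_b L178217) q8277, e3 q12580 L178221 q12282, e3 q12581 (flp_b L178229) q8282, e3 q12582 (flp_b L198070) q15219, e3 q12583 (flp_b L178249) q8284, e3 q12584 (flp_b L178269) q8285, e3 q12585 L209355 q16744, e3 q12586 L178309 q8293, e3 q12587 (flp_b L178369) q12592, e3 q12588 (flp_b L178319) q8291, e3 q12589 (flp_b L198427) q15272, e3 q12590 (flp_b L178339) q8294, e3 q12591 L209367 q16745, e3 q12592 L178369 q12587, e3 q12593 (flp_b L204733) q16208, e3 q12594 (flp_b L204967) q16238, e3 q12595 L178399 q12325, e3 q12596 L200313 q15576, e3 q12597 L178421 q12265, e3 q12598 L201990 q15816, e3 q12599 (flp_b L178447) q10622, e3 q12600 (flp_b L178459) q11807, e3 q12601 L178473 q10571, e3 q12602 (flp_b L178485) q11764, e3 q12603 (flp_b L204724) q16207, e3 q12604 (flp_b L204958) q16237, e3 q12605 L178517 q11563, e3 q12606 L209379 q16746, e3 q12607 (flp_b L205474) q16294, trivial⟩ (by decide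 +kernel)

theorem ce_b_197 : ∀ r, r < 64 → sm gb (Qf (12608 + r)) = Qf (tab Gen.b (12608 + r)) :=
  edges_tab (sm gb) Qf (tab Gen.b) 12608 [(12608, 8335), (12609, 8338), (12610, 16748), (12611, 16749), (12612, 11615), (12613, 16447), (12614, 8343), (12615, 8346), (12616, 16751), (12617, 8352), (12618, 16562), (12619, 8356), (12620, 16597), (12621, 12678), (12622, 10260), (12623, 16752), (12624, 8361), (12625, 14804), (12626, 16754), (12627, 12668), (12628, 14895), (12629, 12646), (12630, 12326), (12631, 12328), (12632, 12707), (12633, 10278), (12634, 16760), (12635, 8369), (12636, 14836), (12637, 16762), (12638, 12697), (12639, 14864), (12640, 12655), (12641, 12267), (12642, 12268), (12643, 16768), (12644, 8375), (12645, 8376), (12646, 12629), (12647, 16771), (12648, 8378), (12649, 8379), (12650, 12361), (12651, 12266), (12652, 16773), (12653, 8382), (12654, 8383), (12655, 12640), (12656, 16776), (12657, 8385), (12658, 8386), (12659, 12374), (12660, 12324), (12661, 8388), (12662, 8390), (12663, 12983), (12664, 14285),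 (12665, 16781), (12666, 8391), (12667, 12967), (12668, 12627), (12669, 16783), (12670, 8394), (12671, 14390)]
    ⟨e3 q12608 (flp_b L178539) q8335, e3 q12609 (flp_b L178543) q8338, e3 q12610 (flp_b L209397) q16748, e3 q12611 L209401 q16749, e3 q12612 L178571 q11615, e3 q12613 (flp_b L206785) q16447, e3 q12614 (flp_b L178585) q8343, e3 q12615 (flp_b L178589) q8346, e3 q12616 (flp_b L209419) q16751, e3 q12617 (flp_b L178599) q8352, e3 q12618 (flp_b L207752) q16562, e3 q12619 (flp_b L178615) q8356, e3 q12620 (flp_b L208041) q16597, e3 q12621 (flp_b L179081) q12678, e3 q12622 L178641 q10260, e3 q12623 L209423 q16752, e3 q12624 (flp_b L178651) q8361, e3 q12625 (flp_b L194977) q14804, e3 q12626 (flp_b L209441) q16754, e3 q12627 (flp_b L179019) q12668, e3 q12628 (flp_b L195777) q14895, e3 q12629 (flp_b L178824) q12646, e3 q12630 (flp_b L178695) q12326, e3 q12631 L178707 q12328, e3 q12632 (flp_b L179277) q12707, e3 q12633 L178719 q10278, e3 q12634 L209495 q16760, e3 q12635 (flp_b L178729) q8369, e3 q12636 (flp_b L195263)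 q14836, e3 q12637 (flp_b L209513) q16762, e3 q12638 (flp_b L179215) q12697, e3 q12639 (flp_b L195498) q14864, e3 q12640 (flp_b L178915) q12655, e3 q12641 (flp_b L178773) q12267, e3 q12642 L178785 q12268, e3 q12643 L209567 q16768, e3 q12644 (flp_b L178797) q8375, e3 q12645 (flp_b L178805) q8376, e3 q12646 L178824 q12629, e3 q12647 L209601 q16771, e3 q12648 (flp_b L178834) q8378, e3 q12649 (flp_b L178842) q8379, e3 q12650 L178862 q12361, e3 q12651 L178876 q12266, e3 q12652 L209625 q16773, e3 q12653 (flp_b L178888) q8382, e3 q12654 (flp_b L178896) q8383, e3 q12655 L178915 q12640, e3 q12656 L209659 q16776, e3 q12657 (flp_b L178925) q8385, e3 q12658 (flp_b L178933) q8386, e3 q12659 L178953 q12374, e3 q12660 L178967 q12324, e3 q12661 (flp_b L178969) q8388, e3 q12662 L178979 q8390, e3 q12663 L181331 q12983, e3 q12664 (flp_b L191231) q14285, e3 q12665 L209711 q16781, e3 q12666 (flp_b L179001) q8391, e3 q12667 L181223 q12967, e3 q12668 L179019 q12627, e3 q12669 L209719 q16783, e3 q12670 (flp_b L179027) q8394, e3 q12671 (flp_b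 L191956) q14390, trivial⟩ (by decide +kernel)

theorem ce_b_198 : ∀ r, r < 64 → sm gb (Qf (12672 + r)) = Qf (tab Gen.b (12672 + r)) :=
  edges_tab (sm gb) Qf (tab Gen.b) 12672 [(12672, 16787), (12673, 14379), (12674, 12184), (12675, 12729), (12676, 16792), (12677, 8399), (12678, 12621), (12679, 12708), (12680, 11944), (12681, 12362), (12682, 14834), (12683, 11539), (12684, 16491), (12685, 13182), (12686, 8430), (12687, 8827), (12688, 16802), (12689, 8406), (12690, 8407), (12691, 8409), (12692, 13058), (12693, 14340), (12694, 16807), (12695, 8410), (12696, 13043), (12697, 12638), (12698, 16809), (12699, 8413), (12700, 14335), (12701, 16813), (12702, 14324), (12703, 11986), (12704, 12722), (12705, 16818), (12706, 8418), (12707, 12632), (12708, 12679), (12709, 11997), (12710, 14802), (12711, 12373), (12712, 11380), (12713, 16351), (12714, 13123), (12715, 8435), (12716, 8791), (12717, 16828), (12718, 8425), (12719, 8426), (12720, 16068), (12721, 8797), (12722, 12704), (12723, 8428), (12724, 16836), (12725, 14709), (12726,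 8431), (12727, 16145), (12728, 8834), (12729, 12675), (12730, 8433), (12731, 16843), (12732, 14728), (12733, 16362), (12734, 8455), (12735, 12578)]
    ⟨e3 q12672 L209741 q16787, e3 q12673 L191874 q14379, e3 q12674 (flp_b L179059) q12184, e3 q12675 (flp_b L179431) q12729, e3 q12676 L209777 q16792, e3 q12677 (flp_b L179071) q8399, e3 q12678 L179081 q12621, e3 q12679 (flp_b L179283) q12708, e3 q12680 L179091 q11944, e3 q12681 L179099 q12362, e3 q12682 (flp_b L195243) q14834, e3 q12683 L179115 q11539, e3 q12684 (flp_b L207150) q16491, e3 q12685 (flp_b L182661) q13182, e3 q12686 L179135 q8430, e3 q12687 L179143 q8827, e3 q12688 L209861 q16802, e3 q12689 (flp_b L179155) q8406, e3 q12690 (flp_b L179165) q8407, e3 q12691 L179175 q8409, e3 q12692 L181849 q13058, e3 q12693 (flp_b L191614) q14340, e3 q12694 L209913 q16807, e3 q12695 (flp_b L179197) q8410, e3 q12696 L181745 q13043, e3 q12697 L179215 q12638, e3 q12698 L209921 q16809, e3 q12699 (flp_b L179223) q8413, e3 q12700 (flp_b L191575) q14335, e3 q12701 L209943 q16813,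 e3 q12702 L191493 q14324, e3 q12703 (flp_b L179255) q11986, e3 q12704 (flp_b L179381) q12722, e3 q12705 L209979 q16818, e3 q12706 (flp_b L179267) q8418, e3 q12707 L179277 q12632, e3 q12708 L179283 q12679, e3 q12709 L179289 q11997, e3 q12710 (flp_b L194957) q14802, e3 q12711 L179307 q12373, e3 q12712 L179313 q11380, e3 q12713 (flp_b L205935) q16351, e3 q12714 (flp_b L182299) q13123, e3 q12715 L179333 q8435, e3 q12716 L179341 q8791, e3 q12717 L210063 q16828, e3 q12718 (flp_b L179353) q8425, e3 q12719 (flp_b L179363) q8426, e3 q12720 L203767 q16068, e3 q12721 L179375 q8797, e3 q12722 L179381 q12704, e3 q12723 (flp_b L179383) q8428, e3 q12724 L210131 q16836, e3 q12725 L194095 q14709, e3 q12726 (flp_b L179413) q8431, e3 q12727 L204279 q16145, e3 q12728 L179425 q8834, e3 q12729 L179431 q12675, e3 q12730 (flp_b L179433) q8433, e3 q12731 L210181 q16843, e3 q12732 L194257 q14728, e3 q12733 (flp_b L206036) q16362, e3 q12734 L179471 q8455, e3 q12735 L179475 q12578, trivial⟩ (by decide +kernel)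

theorem ce_b_199 : ∀ r, r < 64 → sm gb (Qf (12736 + r)) = Qf (tab Gen.b (12736 + r)) :=
  edges_tab (sm gb) Qf (tab Gen.b) 12736 [(12736, 13595), (12737, 14960), (12738, 12577), (12739, 16253), (12740, 10776), (12741, 16845), (12742, 16499), (12743, 8466), (12744, 12572), (12745, 13574), (12746, 14913), (12747, 12571), (12748, 16223), (12749, 10692), (12750, 16847), (12751, 13503), (12752, 13940), (12753, 10719), (12754, 16849), (12755, 13527), (12756, 13954), (12757, 10800), (12758, 16851), (12759, 14811), (12760, 16852), (12761, 8498), (12762, 8941), (12763, 8502), (12764, 14169), (12765, 8504), (12766, 8505), (12767, 11312), (12768, 8509), (12769, 10493), (12770, 12425), (12771, 16857), (12772, 11761), (12773, 14789), (12774, 9112), (12775, 10557), (12776, 16489), (12777, 12009), (12778, 10258), (12779, 12073), (12780, 9137), (12781, 8522), (12782, 9758), (12783, 10520), (12784, 14791), (12785, 16861), (12786, 8527), (12787, 8925), (12788, 8531), (12789, 14190), (12790, 8533), (12791, 8534), (12792, 11471),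 (12793, 8538), (12794, 10443), (12795, 12470), (12796, 16866), (12797, 11804), (12798, 14824), (12799, 9166)]
    ⟨e3 q12736 (flp_b L185917) q13595, e3 q12737 (flp_b L196337) q14960, e3 q12738 L179501 q12577, e3 q12739 (flp_b L205107) q16253, e3 q12740 L179521 q10776, e3 q12741 L210195 q16845, e3 q12742 (flp_b L207219) q16499, e3 q12743 L179539 q8466, e3 q12744 L179543 q12572, e3 q12745 (flp_b L185699) q13574, e3 q12746 (flp_b L195936) q14913, e3 q12747 L179569 q12571, e3 q12748 (flp_b L204859) q16223, e3 q12749 L179589 q10692, e3 q12750 L210206 q16847, e3 q12751 (flp_b L185093) q13503, e3 q12752 (flp_b L188647) q13940, e3 q12753 (flp_b L179615) q10719, e3 q12754 L210221 q16849, e3 q12755 (flp_b L185295) q13527, e3 q12756 (flp_b L188729) q13954, e3 q12757 (flp_b L179643) q10800, e3 q12758 L210242 q16851, e3 q12759 (flp_b L195031) q14811, e3 q12760 L210251 q16852, e3 q12761 (flp_b L179675) q8498, e3 q12762 L179691 q8941, e3 q12763 (flp_b L179697) q8502, e3 q12764 (flp_b L190377) q14169, e3 q12765 (flp_b L179713)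 q8504, e3 q12766 (flp_b L179715) q8505, e3 q12767 L179725 q11312, e3 q12768 (flp_b L179731) q8509, e3 q12769 L179751 q10493, e3 q12770 L179757 q12425, e3 q12771 L210305 q16857, e3 q12772 L179773 q11761, e3 q12773 (flp_b L194823) q14789, e3 q12774 (flp_b L179785) q9112, e3 q12775 L179795 q10557, e3 q12776 (flp_b L207140) q16489, e3 q12777 L179811 q12009, e3 q12778 L179817 q10258, e3 q12779 L179831 q12073, e3 q12780 L179839 q9137, e3 q12781 (flp_b L179841) q8522, e3 q12782 L179855 q9758, e3 q12783 L179871 q10520, e3 q12784 (flp_b L194845) q14791, e3 q12785 L210339 q16861, e3 q12786 (flp_b L179893) q8527, e3 q12787 L179909 q8925, e3 q12788 (flp_b L179915) q8531, e3 q12789 (flp_b L190573) q14190, e3 q12790 (flp_b L179931) q8533, e3 q12791 (flp_b L179933) q8534, e3 q12792 L179943 q11471, e3 q12793 (flp_b L179949) q8538, e3 q12794 L179969 q10443, e3 q12795 L179975 q12470, e3 q12796 L210393 q16866, e3 q12797 L179991 q11804, e3 q12798 (flp_b L195143) q14824, e3 q12799 L180001 q9166, trivial⟩ (by decide +kernel)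

theorem ce_b_200 : ∀ r, r < 64 → sm gb (Qf (12800 + r)) = Qf (tab Gen.b (12800 + r)) :=
  edges_tab (sm gb) Qf (tab Gen.b) 12800 [(12800, 10610), (12801, 11994), (12802, 16349), (12803, 10276), (12804, 11857), (12805, 9083), (12806, 8551), (12807, 9738), (12808, 10470), (12809, 16277), (12810, 13658), (12811, 10208), (12812, 8560), (12813, 16432), (12814, 13651), (12815, 10243), (12816, 8569), (12817, 8572), (12818, 8574), (12819, 8581), (12820, 8583), (12821, 12840), (12822, 12835), (12823, 11289), (12824, 10904), (12825, 16875), (12826, 8594), (12827, 11448), (12828, 10906), (12829, 16882), (12830, 8596), (12831, 10601), (12832, 8599), (12833, 13083), (12834, 12839), (12835, 12822), (12836, 10546), (12837, 8603), (12838, 13012), (12839, 12834), (12840, 12821), (12841, 8605), (12842, 16683), (12843, 16891), (12844, 10869), (12845, 16895), (12846, 16731), (12847, 8608), (12848, 16689), (12849, 16902), (12850, 10877), (12851, 16906), (12852, 16727), (12853, 8637), (12854, 14153), (12855, 11290), (12856, 13089),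 (12857, 10500), (12858, 8613), (12859, 8653), (12860, 14174), (12861, 13019), (12862, 11450), (12863, 10450)]
    ⟨e3 q12800 L180013 q10610, e3 q12801 L180021 q11994, e3 q12802 (flp_b L205925) q16349, e3 q12803 L180035 q10276, e3 q12804 L180049 q11857, e3 q12805 L180057 q9083, e3 q12806 (flp_b L180059) q8551, e3 q12807 L180073 q9738, e3 q12808 L180089 q10470, e3 q12809 (flp_b L205310) q16277, e3 q12810 (flp_b L186429) q13658, e3 q12811 L180115 q10208, e3 q12812 (flp_b L180117) q8560, e3 q12813 (flp_b L206631) q16432, e3 q12814 (flp_b L186377) q13651, e3 q12815 L180147 q10243, e3 q12816 (flp_b L180149) q8569, e3 q12817 (flp_b L180155) q8572, e3 q12818 (flp_b L180169) q8574, e3 q12819 (flp_b L180179) q8581, e3 q12820 (flp_b L180193) q8583, e3 q12821 (flp_b L180363) q12840, e3 q12822 (flp_b L180309) q12835, e3 q12823 L180221 q11289, e3 q12824 L180227 q10904, e3 q12825 L210477 q16875, e3 q12826 (flp_b L180233) q8594, e3 q12827 L180243 q11448, e3 q12828 L180249 q10906, e3 q12829 L210531 q16882, e3 q12830 (flp_b L180255)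 q8596, e3 q12831 (flp_b L180267) q10601, e3 q12832 (flp_b L180269) q8599, e3 q12833 (flp_b L182005) q13083, e3 q12834 (flp_b L180347) q12839, e3 q12835 L180309 q12822, e3 q12836 L180319 q10546, e3 q12837 (flp_b L180321) q8603, e3 q12838 (flp_b L181525) q13012, e3 q12839 L180347 q12834, e3 q12840 L180363 q12821, e3 q12841 (flp_b L180365) q8605, e3 q12842 (flp_b L208849) q16683, e3 q12843 L210603 q16891, e3 q12844 L180383 q10869, e3 q12845 L210633 q16895, e3 q12846 L209253 q16731, e3 q12847 (flp_b L180397) q8608, e3 q12848 L210679 q16689, e3 q12849 L210699 q16902, e3 q12850 L180415 q10877, e3 q12851 L210729 q16906, e3 q12852 L209223 q16727, e3 q12853 L180433 q8637, e3 q12854 (flp_b L190253) q14153, e3 q12855 L180453 q11290, e3 q12856 L182049 q13089, e3 q12857 (flp_b L180471) q10500, e3 q12858 (flp_b L180473) q8613, e3 q12859 L180485 q8653, e3 q12860 (flp_b L190419) q14174, e3 q12861 L181575 q13019, e3 q12862 L180511 q11450, e3 q12863 L180523 q10450, trivial⟩ (by decide +kernel)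

theorem ce_b_201 : ∀ r, r < 64 → sm gb (Qf (12864 + r)) = Qf (tab Gen.b (12864 + r)) :=
  edges_tab (sm gb) Qf (tab Gen.b) 12864 [(12864, 8618), (12865, 10107), (12866, 10088), (12867, 16886), (12868, 10978), (12869, 12931), (12870, 16915), (12871, 15326), (12872, 12925), (12873, 8629), (12874, 16919), (12875, 16710), (12876, 15054), (12877, 16921), (12878, 16923), (12879, 16897), (12880, 11003), (12881, 12947), (12882, 16927), (12883, 15336), (12884, 12941), (12885, 8634), (12886, 16931), (12887, 16701), (12888, 15042), (12889, 16933), (12890, 16935), (12891, 14027), (12892, 13081), (12893, 16936), (12894, 8643), (12895, 16363), (12896, 8646), (12897, 12981), (12898, 8645), (12899, 12914), (12900, 16946), (12901, 16862), (12902, 8649), (12903, 16950), (12904, 8651), (12905, 8652), (12906, 14084), (12907, 13010), (12908, 16951), (12909, 8659), (12910, 16500), (12911, 8662), (12912, 13056), (12913, 8661), (12914, 12899), (12915, 16961), (12916, 16853), (12917, 8665), (12918, 16965), (12919, 8667), (12920, 8668),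 (12921, 16966), (12922, 8670), (12923, 15446), (12924, 11104), (12925, 12872), (12926, 8674), (12927, 8673)]
    ⟨e3 q12864 (flp_b L180525) q8618, e3 q12865 (flp_b L180545) q10107, e3 q12866 L180559 q10088, e3 q12867 (flp_b L210563) q16886, e3 q12868 L180569 q10978, e3 q12869 (flp_b L180981) q12931, e3 q12870 L210803 q16915, e3 q12871 (flp_b L198813) q15326, e3 q12872 (flp_b L180945) q12925, e3 q12873 (flp_b L180591) q8629, e3 q12874 L210821 q16919, e3 q12875 (flp_b L209071) q16710, e3 q12876 (flp_b L197063) q15054, e3 q12877 L210835 q16921, e3 q12878 L210849 q16923, e3 q12879 (flp_b L210649) q16897, e3 q12880 L180637 q11003, e3 q12881 (flp_b L181081) q12947, e3 q12882 L210887 q16927, e3 q12883 (flp_b L198867) q15336, e3 q12884 (flp_b L181041) q12941, e3 q12885 (flp_b L180659) q8634, e3 q12886 L210905 q16931, e3 q12887 (flp_b L208999) q16701, e3 q12888 (flp_b L196985) q15042, e3 q12889 L210919 q16933, e3 q12890 L210933 q16935, e3 q12891 (flp_b L189261) q14027, e3 q12892 L181989 q13081, e3 q12893 L210941 q16936,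 e3 q12894 (flp_b L180723) q8643, e3 q12895 L206046 q16363, e3 q12896 L180735 q8646, e3 q12897 (flp_b L181313) q12981, e3 q12898 (flp_b L180743) q8645, e3 q12899 (flp_b L180863) q12914, e3 q12900 L211007 q16946, e3 q12901 (flp_b L210355) q16862, e3 q12902 (flp_b L180769) q8649, e3 q12903 L211043 q16950, e3 q12904 (flp_b L180785) q8651, e3 q12905 (flp_b L180795) q8652, e3 q12906 (flp_b L189693) q14084, e3 q12907 L181509 q13010, e3 q12908 L211049 q16951, e3 q12909 (flp_b L180831) q8659, e3 q12910 L207229 q16500, e3 q12911 L180843 q8662, e3 q12912 (flp_b L181831) q13056, e3 q12913 (flp_b L180851) q8661, e3 q12914 L180863 q12899, e3 q12915 L211115 q16961, e3 q12916 (flp_b L210267) q16853, e3 q12917 (flp_b L180879) q8665, e3 q12918 L211151 q16965, e3 q12919 (flp_b L180895) q8667, e3 q12920 (flp_b L180905) q8668, e3 q12921 L211157 q16966, e3 q12922 (flp_b L180927) q8670, e3 q12923 L199449 q15446, e3 q12924 L180939 q11104, e3 q12925 L180945 q12872, e3 q12926 (flp_b L180959) q8674, e3 q12927 (flp_b L180961) q8673, trivial⟩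 (by decide +kernel)

theorem ce_b_202 : ∀ r, r < 64 → sm gb (Qf (12928 + r)) = Qf (tab Gen.b (12928 + r)) :=
  edges_tab (sm gb) Qf (tab Gen.b) 12928 [(12928, 8675), (12929, 16693), (12930, 15322), (12931, 12869), (12932, 12948), (12933, 14860), (12934, 16976), (12935, 8678), (12936, 8680), (12937, 16991), (12938, 8682), (12939, 15342), (12940, 11174), (12941, 12884), (12942, 8686), (12943, 8685), (12944, 8687), (12945, 16687), (12946, 15431), (12947, 12881), (12948, 12932), (12949, 17000), (12950, 14891), (12951, 8690), (12952, 8692), (12953, 8785), (12954, 10444), (12955, 11701), (12956, 8695), (12957, 8697), (12958, 14695), (12959, 16413), (12960, 15134), (12961, 13617), (12962, 15024), (12963, 17024), (12964, 15855), (12965, 8699), (12966, 17028), (12967, 12667), (12968, 17026), (12969, 13045), (12970, 8702), (12971, 8706), (12972, 13724), (12973, 17033), (12974, 17035), (12975, 8705), (12976, 17039), (12977, 17040), (12978, 8707), (12979, 17044), (12980, 8710), (12981, 12897), (12982, 8709), (12983, 12663),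 (12984, 8746), (12985, 17046), (12986, 17054), (12987, 8712), (12988, 17058), (12989, 17059), (12990, 15540), (12991, 17063)]
    ⟨e3 q12928 (flp_b L180965) q8675, e3 q12929 L208929 q16693, e3 q12930 (flp_b L198783) q15322, e3 q12931 L180981 q12869, e3 q12932 (flp_b L181091) q12948, e3 q12933 (flp_b L195468) q14860, e3 q12934 (flp_b L211240) q16976, e3 q12935 (flp_b L181001) q8678, e3 q12936 (flp_b L181005) q8680, e3 q12937 L211348 q16991, e3 q12938 (flp_b L181023) q8682, e3 q12939 L198897 q15342, e3 q12940 L181035 q11174, e3 q12941 L181041 q12884, e3 q12942 (flp_b L181055) q8686, e3 q12943 (flp_b L181057) q8685, e3 q12944 (flp_b L181063) q8687, e3 q12945 L208885 q16687, e3 q12946 (flp_b L199375) q15431, e3 q12947 L181081 q12881, e3 q12948 L181091 q12932, e3 q12949 (flp_b L211425) q17000, e3 q12950 (flp_b L195747) q14891, e3 q12951 (flp_b L181109) q8690, e3 q12952 (flp_b L181115) q8692, e3 q12953 L181127 q8785, e3 q12954 L181137 q10444, e3 q12955 (flp_b L181147) q11701, e3 q12956 (flp_b L181149) q8695, e3 q12957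 L181161 q8697, e3 q12958 (flp_b L193965) q14695, e3 q12959 L206462 q16413, e3 q12960 (flp_b L197579) q15134, e3 q12961 (flp_b L186103) q13617, e3 q12962 (flp_b L196875) q15024, e3 q12963 L211631 q17024, e3 q12964 (flp_b L202270) q15855, e3 q12965 (flp_b L181201) q8699, e3 q12966 L211663 q17028, e3 q12967 (flp_b L181223) q12667, e3 q12968 (flp_b L211647) q17026, e3 q12969 (flp_b L181765) q13045, e3 q12970 (flp_b L181241) q8702, e3 q12971 L181251 q8706, e3 q12972 (flp_b L187047) q13724, e3 q12973 L211703 q17033, e3 q12974 L211717 q17035, e3 q12975 (flp_b L181269) q8705, e3 q12976 L211745 q17039, e3 q12977 L211749 q17040, e3 q12978 (flp_b L181295) q8707, e3 q12979 L211767 q17044, e3 q12980 L181307 q8710, e3 q12981 L181313 q12897, e3 q12982 (flp_b L181315) q8709, e3 q12983 (flp_b L181331) q12663, e3 q12984 L181341 q8746, e3 q12985 (flp_b L211785) q17046, e3 q12986 L211835 q17054, e3 q12987 (flp_b L181351) q8712, e3 q12988 L211865 q17058, e3 q12989 L211873 q17059, e3 q12990 (flp_b L200061) q15540, e3 q12991 L211909 q17063,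 trivial⟩ (by decide +kernel)

theorem ce_b_203 : ∀ r, r < 64 → sm gb (Qf (12992 + r)) = Qf (tab Gen.b (12992 + r)) :=
  edges_tab (sm gb) Qf (tab Gen.b) 12992 [(12992, 8714), (12993, 8715), (12994, 12197), (12995, 8721), (12996, 17073), (12997, 8717), (12998, 17077), (12999, 8725), (13000, 9774), (13001, 14879), (13002, 17084), (13003, 13028), (13004, 8730), (13005, 8720), (13006, 17089), (13007, 17071), (13008, 17091), (13009, 8722), (13010, 12907), (13011, 17093), (13012, 12838), (13013, 17096), (13014, 12539), (13015, 17080), (13016, 17100), (13017, 13088), (13018, 16694), (13019, 12861), (13020, 17101), (13021, 12516), (13022, 17102), (13023, 8732), (13024, 17090), (13025, 17105), (13026, 16615), (13027, 11291), (13028, 13003), (13029, 8822), (13030, 11707), (13031, 10495), (13032, 8739), (13033, 8742), (13034, 16520), (13035, 14697), (13036, 15141), (13037, 13619), (13038, 17114), (13039, 15028), (13040, 8743), (13041, 17119), (13042, 15621), (13043, 12696), (13044, 17117), (13045, 12969), (13046, 8751), (13047,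 17122), (13048, 13749), (13049, 8749), (13050, 17128), (13051, 17129), (13052, 17130), (13053, 8752), (13054, 17134), (13055, 8755)]
    ⟨e3 q12992 (flp_b L181383) q8714, e3 q12993 (flp_b L181387) q8715, e3 q12994 L181403 q12197, e3 q12995 L181407 q8721, e3 q12996 L211981 q17073, e3 q12997 (flp_b L181417) q8717, e3 q12998 L212003 q17077, e3 q12999 L181431 q8725, e3 q13000 L181437 q9774, e3 q13001 (flp_b L195643) q14879, e3 q13002 L212053 q17084, e3 q13003 (flp_b L181643) q13028, e3 q13004 L181461 q8730, e3 q13005 (flp_b L181463) q8720, e3 q13006 (flp_b L212093) q17089, e3 q13007 (flp_b L211971) q17071, e3 q13008 L212109 q17091, e3 q13009 (flp_b L181497) q8722, e3 q13010 (flp_b L181509) q12907, e3 q13011 (flp_b L212131) q17093, e3 q13012 L181525 q12838, e3 q13013 L212153 q17096, e3 q13014 L181541 q12539, e3 q13015 (flp_b L212027) q17080, e3 q13016 L212177 q17100, e3 q13017 (flp_b L182039) q13088, e3 q13018 (flp_b L208939) q16694, e3 q13019 (flp_b L181575) q12861, e3 q13020 L212189 q17101, e3 q13021 L181591 q12516,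 e3 q13022 L212197 q17102, e3 q13023 L181603 q8732, e3 q13024 (flp_b L212107) q17090, e3 q13025 (flp_b L212217) q17105, e3 q13026 (flp_b L208199) q16615, e3 q13027 L181635 q11291, e3 q13028 L181643 q13003, e3 q13029 L181649 q8822, e3 q13030 (flp_b L181659) q11707, e3 q13031 L181669 q10495, e3 q13032 (flp_b L181671) q8739, e3 q13033 L181683 q8742, e3 q13034 L207399 q16520, e3 q13035 (flp_b L193983) q14697, e3 q13036 (flp_b L197635) q15141, e3 q13037 (flp_b L186121) q13619, e3 q13038 L212293 q17114, e3 q13039 (flp_b L196901) q15028, e3 q13040 (flp_b L181715) q8743, e3 q13041 L212331 q17119, e3 q13042 (flp_b L200629) q15621, e3 q13043 (flp_b L181745) q12696, e3 q13044 (flp_b L212315) q17117, e3 q13045 L181765 q12969, e3 q13046 L181769 q8751, e3 q13047 L212353 q17122, e3 q13048 (flp_b L187231) q13749, e3 q13049 (flp_b L181781) q8749, e3 q13050 L212391 q17128, e3 q13051 L212395 q17129, e3 q13052 L212405 q17130, e3 q13053 (flp_b L181813) q8752, e3 q13054 L212423 q17134, e3 q13055 L181825 q8755, trivial⟩ (by decide +kernel)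

theorem ce_b_204 : ∀ r, r < 64 → sm gb (Qf (13056 + r)) = Qf (tab Gen.b (13056 + r)) :=
  edges_tab (sm gb) Qf (tab Gen.b) 13056 [(13056, 12912), (13057, 8754), (13058, 12692), (13059, 17136), (13060, 17143), (13061, 8757), (13062, 17147), (13063, 17148), (13064, 15781), (13065, 17152), (13066, 8759), (13067, 8760), (13068, 12011), (13069, 8766), (13070, 17159), (13071, 8762), (13072, 17163), (13073, 8770), (13074, 9828), (13075, 14845), (13076, 17169), (13077, 8774), (13078, 13098), (13079, 8765), (13080, 8767), (13081, 12892), (13082, 17176), (13083, 12833), (13084, 17081), (13085, 12548), (13086, 17166), (13087, 17094), (13088, 13017), (13089, 12856), (13090, 16695), (13091, 17181), (13092, 12519), (13093, 17182), (13094, 8777), (13095, 17174), (13096, 16633), (13097, 11449), (13098, 13078), (13099, 16001), (13100, 17186), (13101, 17016), (13102, 10190), (13103, 17187), (13104, 8787), (13105, 17188), (13106, 16826), (13107, 17189), (13108, 17190), (13109, 8792), (13110, 8793), (13111, 10215), (13112, 16830),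 (13113, 17196), (13114, 8795), (13115, 8796), (13116, 9584), (13117, 17201), (13118, 16833), (13119, 17203)]
    ⟨e3 q13056 L181831 q12912, e3 q13057 (flp_b L181833) q8754, e3 q13058 (flp_b L181849) q12692, e3 q13059 (flp_b L212441) q17136, e3 q13060 L212479 q17143, e3 q13061 (flp_b L181859) q8757, e3 q13062 L212509 q17147, e3 q13063 L212517 q17148, e3 q13064 (flp_b L201734) q15781, e3 q13065 L212553 q17152, e3 q13066 (flp_b L181891) q8759, e3 q13067 (flp_b L181895) q8760, e3 q13068 L181911 q12011, e3 q13069 L181915 q8766, e3 q13070 L212617 q17159, e3 q13071 (flp_b L181925) q8762, e3 q13072 L212639 q17163, e3 q13073 L181939 q8770, e3 q13074 L181945 q9828, e3 q13075 (flp_b L195332) q14845, e3 q13076 L212681 q17169, e3 q13077 L181961 q8774, e3 q13078 (flp_b L182119) q13098, e3 q13079 (flp_b L181971) q8765, e3 q13080 (flp_b L181977) q8767, e3 q13081 (flp_b L181989) q12892, e3 q13082 (flp_b L212743) q17176, e3 q13083 L182005 q12833, e3 q13084 L212035 q17081, e3 q13085 L182021 q12548, e3 q13086 (flp_b L212663) q17166,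 e3 q13087 (flp_b L212143) q17094, e3 q13088 L182039 q13017, e3 q13089 (flp_b L182049) q12856, e3 q13090 (flp_b L208949) q16695, e3 q13091 L212769 q17181, e3 q13092 (flp_b L182073) q12519, e3 q13093 L212777 q17182, e3 q13094 L182085 q8777, e3 q13095 (flp_b L212727) q17174, e3 q13096 (flp_b L208351) q16633, e3 q13097 L182111 q11449, e3 q13098 L182119 q13078, e3 q13099 L203337 q16001, e3 q13100 L212799 q17186, e3 q13101 (flp_b L211563) q17016, e3 q13102 (flp_b L182163) q10190, e3 q13103 L212809 q17187, e3 q13104 (flp_b L182171) q8787, e3 q13105 L212819 q17188, e3 q13106 (flp_b L210053) q16826, e3 q13107 L212827 q17189, e3 q13108 L212835 q17190, e3 q13109 (flp_b L182215) q8792, e3 q13110 (flp_b L182221) q8793, e3 q13111 L182231 q10215, e3 q13112 (flp_b L210091) q16830, e3 q13113 L212875 q17196, e3 q13114 (flp_b L182243) q8795, e3 q13115 (flp_b L182249) q8796, e3 q13116 L187811 q9584, e3 q13117 L212923 q17201, e3 q13118 (flp_b L210113) q16833, e3 q13119 L212941 q17203, trivial⟩ (by decide +kernel)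

theorem ce_b_205 : ∀ r, r < 64 → sm gb (Qf (13120 + r)) = Qf (tab Gen.b (13120 + r)) :=
  edges_tab (sm gb) Qf (tab Gen.b) 13120 [(13120, 8798), (13121, 17208), (13122, 16040), (13123, 12714), (13124, 8859), (13125, 12201), (13126, 17216), (13127, 8802), (13128, 13821), (13129, 8812), (13130, 17223), (13131, 8804), (13132, 17227), (13133, 15856), (13134, 11506), (13135, 8806), (13136, 17229), (13137, 17230), (13138, 16793), (13139, 8810), (13140, 8816), (13141, 17232), (13142, 8811), (13143, 17235), (13144, 8813), (13145, 17238), (13146, 17245), (13147, 17246), (13148, 13233), (13149, 8817), (13150, 13150), (13151, 17233), (13152, 17253), (13153, 15633), (13154, 17254), (13155, 8819), (13156, 13156), (13157, 17237), (13158, 17262), (13159, 16077), (13160, 17107), (13161, 17263), (13162, 10225), (13163, 8823), (13164, 17264), (13165, 16800), (13166, 17265), (13167, 17266), (13168, 8829), (13169, 8830), (13170, 10250), (13171, 16837), (13172, 17272), (13173, 8832), (13174, 8833), (13175, 9622), (13176, 17277), (13177,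 16840), (13178, 17279), (13179, 8835), (13180, 17284), (13181, 16117), (13182, 12685), (13183, 8873)]
    ⟨e3 q13120 (flp_b L182279) q8798, e3 q13121 L212967 q17208, e3 q13122 L203581 q16040, e3 q13123 L182299 q12714, e3 q13124 L182305 q8859, e3 q13125 L182311 q12201, e3 q13126 L213023 q17216, e3 q13127 (flp_b L182323) q8802, e3 q13128 L187807 q13821, e3 q13129 L182333 q8812, e3 q13130 L213067 q17223, e3 q13131 (flp_b L182341) q8804, e3 q13132 L213093 q17227, e3 q13133 L202278 q15856, e3 q13134 L183555 q11506, e3 q13135 (flp_b L182367) q8806, e3 q13136 L213107 q17229, e3 q13137 L213117 q17230, e3 q13138 (flp_b L209795) q16793, e3 q13139 L182393 q8810, e3 q13140 L182399 q8816, e3 q13141 (flp_b L213133) q17232, e3 q13142 (flp_b L182411) q8811, e3 q13143 (flp_b L213153) q17235, e3 q13144 (flp_b L182421) q8813, e3 q13145 (flp_b L213165) q17238, e3 q13146 L213203 q17245, e3 q13147 L213213 q17246, e3 q13148 (flp_b L182985) q13233, e3 q13149 L182445 q8817, e3 q13150 L182453 q13150, e3 q13151 (flp_b L213141) q17233, e3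 q13152 L213249 q17253, e3 q13153 (flp_b L200735) q15633, e3 q13154 L213254 q17254, e3 q13155 L182476 q8819, e3 q13156 L182480 q13156, e3 q13157 (flp_b L213161) q17237, e3 q13158 L213301 q17262, e3 q13159 L203837 q16077, e3 q13160 (flp_b L212231) q17107, e3 q13161 L213311 q17263, e3 q13162 (flp_b L182531) q10225, e3 q13163 (flp_b L182533) q8823, e3 q13164 L213321 q17264, e3 q13165 (flp_b L209851) q16800, e3 q13166 L213329 q17265, e3 q13167 L213333 q17266, e3 q13168 (flp_b L182577) q8829, e3 q13169 (flp_b L182581) q8830, e3 q13170 L182593 q10250, e3 q13171 (flp_b L210141) q16837, e3 q13172 L213377 q17272, e3 q13173 (flp_b L182605) q8832, e3 q13174 (flp_b L182611) q8833, e3 q13175 L188157 q9622, e3 q13176 L213425 q17277, e3 q13177 (flp_b L210163) q16840, e3 q13178 L213443 q17279, e3 q13179 (flp_b L182641) q8835, e3 q13180 L213469 q17284, e3 q13181 L204093 q16117, e3 q13182 L182661 q12685, e3 q13183 L182667 q8873, trivial⟩ (by decide +kernel)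

theorem ce_b_206 : ∀ r, r < 64 → sm gb (Qf (13184 + r)) = Qf (tab Gen.b (13184 + r)) :=
  edges_tab (sm gb) Qf (tab Gen.b) 13184 [(13184, 12018), (13185, 17292), (13186, 8839), (13187, 13870), (13188, 8849), (13189, 17299), (13190, 8841), (13191, 17303), (13192, 15622), (13193, 11347), (13194, 8843), (13195, 17305), (13196, 17306), (13197, 16819), (13198, 8847), (13199, 8852), (13200, 17308), (13201, 8848), (13202, 17311), (13203, 8850), (13204, 17314), (13205, 17321), (13206, 17322), (13207, 13252), (13208, 8854), (13209, 17309), (13210, 13210), (13211, 15867), (13212, 17329), (13213, 17330), (13214, 8856), (13215, 17312), (13216, 13216), (13217, 17338), (13218, 8858), (13219, 17340), (13220, 8860), (13221, 15294), (13222, 8862), (13223, 17344), (13224, 8864), (13225, 17342), (13226, 8869), (13227, 17347), (13228, 17351), (13229, 13229), (13230, 17343), (13231, 11055), (13232, 17359), (13233, 13148), (13234, 8870), (13235, 13235), (13236, 17349), (13237, 17366), (13238, 8872), (13239, 17368), (13240, 8874), (13241,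 15241), (13242, 8876), (13243, 17372), (13244, 8878), (13245, 8882), (13246, 17371), (13247, 17375)]
    ⟨e3 q13184 L182673 q12018, e3 q13185 L213525 q17292, e3 q13186 (flp_b L182685) q8839, e3 q13187 L188153 q13870, e3 q13188 L182695 q8849, e3 q13189 L213569 q17299, e3 q13190 (flp_b L182703) q8841, e3 q13191 L213599 q17303, e3 q13192 L200637 q15622, e3 q13193 (flp_b L182743) q11347, e3 q13194 (flp_b L182735) q8843, e3 q13195 L213613 q17305, e3 q13196 L213623 q17306, e3 q13197 (flp_b L209997) q16819, e3 q13198 L182773 q8847, e3 q13199 L182781 q8852, e3 q13200 (flp_b L213641) q17308, e3 q13201 (flp_b L182793) q8848, e3 q13202 (flp_b L213663) q17311, e3 q13203 (flp_b L182803) q8850, e3 q13204 (flp_b L213675) q17314, e3 q13205 L213713 q17321, e3 q13206 L213721 q17322, e3 q13207 (flp_b L183140) q13252, e3 q13208 L182831 q8854, e3 q13209 (flp_b L213649) q17309, e3 q13210 L182843 q13210, e3 q13211 (flp_b L202376) q15867, e3 q13212 L213759 q17329, e3 q13213 L213764 q17330, e3 q13214 L182866 q8856, e3 q13215 (flp_b L213669)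 q17312, e3 q13216 L182872 q13216, e3 q13217 L213811 q17338, e3 q13218 (flp_b L182885) q8858, e3 q13219 L213824 q17340, e3 q13220 (flp_b L182901) q8860, e3 q13221 (flp_b L198567) q15294, e3 q13222 (flp_b L182912) q8862, e3 q13223 L213861 q17344, e3 q13224 L182928 q8864, e3 q13225 (flp_b L213851) q17342, e3 q13226 L182940 q8869, e3 q13227 (flp_b L213887) q17347, e3 q13228 L213927 q17351, e3 q13229 L182962 q13229, e3 q13230 (flp_b L213859) q17343, e3 q13231 (flp_b L214054) q11055, e3 q13232 L213990 q17359, e3 q13233 L182985 q13148, e3 q13234 L182989 q8870, e3 q13235 L182995 q13235, e3 q13236 (flp_b L213911) q17349, e3 q13237 L214116 q17366, e3 q13238 (flp_b L183024) q8872, e3 q13239 L214129 q17368, e3 q13240 (flp_b L183040) q8874, e3 q13241 (flp_b L198196) q15241, e3 q13242 (flp_b L183055) q8876, e3 q13243 L214166 q17372, e3 q13244 L183073 q8878, e3 q13245 L183083 q8882, e3 q13246 (flp_b L214164) q17371, e3 q13247 (flp_b L214196) q17375, trivial⟩ (by decide +kernel)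

theorem ce_b_207 : ∀ r, r < 64 → sm gb (Qf (13248 + r)) = Qf (tab Gen.b (13248 + r)) :=
  edges_tab (sm gb) Qf (tab Gen.b) 13248 [(13248, 17379), (13249, 17370), (13250, 13250), (13251, 11093), (13252, 13207), (13253, 8883), (13254, 17376), (13255, 13409), (13256, 13461), (13257, 8917), (13258, 13301), (13259, 17391), (13260, 14003), (13261, 13990), (13262, 10376), (13263, 14886), (13264, 17392), (13265, 8924), (13266, 13414), (13267, 13529), (13268, 14888), (13269, 8927), (13270, 8933), (13271, 13361), (13272, 17395), (13273, 14022), (13274, 14009), (13275, 10410), (13276, 14854), (13277, 17396), (13278, 8940), (13279, 13466), (13280, 14856), (13281, 13505), (13282, 8943), (13283, 9081), (13284, 14585), (13285, 8955), (13286, 8960), (13287, 10530), (13288, 8957), (13289, 10531), (13290, 17398), (13291, 8964), (13292, 14797), (13293, 8965), (13294, 11949), (13295, 16415), (13296, 14795), (13297, 8967), (13298, 8968), (13299, 14799), (13300, 8981), (13301, 13258), (13302, 8970), (13303, 10456), (13304, 14051), (13305,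 9779), (13306, 10483), (13307, 16062), (13308, 8977), (13309, 14480), (13310, 17402), (13311, 8979)]
    ⟨e3 q13248 L214240 q17379, e3 q13249 (flp_b L214156) q17370, e3 q13250 L183121 q13250, e3 q13251 (flp_b L214375) q11093, e3 q13252 L183140 q13207, e3 q13253 L183144 q8883, e3 q13254 (flp_b L214210) q17376, e3 q13255 L184372 q13409, e3 q13256 L184748 q13461, e3 q13257 (flp_b L183183) q8917, e3 q13258 (flp_b L183541) q13301, e3 q13259 L214445 q17391, e3 q13260 (flp_b L189099) q14003, e3 q13261 (flp_b L189021) q13990, e3 q13262 (flp_b L183233) q10376, e3 q13263 (flp_b L195707) q14886, e3 q13264 L214455 q17392, e3 q13265 (flp_b L183249) q8924, e3 q13266 L184402 q13414, e3 q13267 (flp_b L185307) q13529, e3 q13268 (flp_b L195723) q14888, e3 q13269 (flp_b L183277) q8927, e3 q13270 (flp_b L183281) q8933, e3 q13271 (flp_b L184009) q13361, e3 q13272 L214481 q17395, e3 q13273 (flp_b L189221) q14022, e3 q13274 (flp_b L189143) q14009, e3 q13275 (flp_b L183315) q10410, e3 q13276 (flp_b L195422) q14854, e3 q13277 L214491 q17396,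 e3 q13278 (flp_b L183331) q8940, e3 q13279 L184828 q13466, e3 q13280 (flp_b L195436) q14856, e3 q13281 (flp_b L185105) q13505, e3 q13282 (flp_b L183359) q8943, e3 q13283 L183367 q9081, e3 q13284 (flp_b L193215) q14585, e3 q13285 (flp_b L183383) q8955, e3 q13286 L183391 q8960, e3 q13287 (flp_b L183417) q10530, e3 q13288 (flp_b L183439) q8957, e3 q13289 L183457 q10531, e3 q13290 L214511 q17398, e3 q13291 (flp_b L183467) q8964, e3 q13292 (flp_b L194903) q14797, e3 q13293 (flp_b L183485) q8965, e3 q13294 L183497 q11949, e3 q13295 (flp_b L206478) q16415, e3 q13296 (flp_b L194885) q14795, e3 q13297 (flp_b L183509) q8967, e3 q13298 (flp_b L183511) q8968, e3 q13299 (flp_b L194925) q14799, e3 q13300 L183525 q8981, e3 q13301 L183541 q13258, e3 q13302 (flp_b L183557) q8970, e3 q13303 (flp_b L183569) q10456, e3 q13304 (flp_b L189447) q14051, e3 q13305 L183587 q9779, e3 q13306 L183599 q10483, e3 q13307 (flp_b L203729) q16062, e3 q13308 (flp_b L183603) q8977, e3 q13309 (flp_b L192533) q14480, e3 q13310 (flp_b L214551) q17402,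 e3 q13311 (flp_b L183623) q8979, trivial⟩ (by decide +kernel)

theorem ce_b_208 : ∀ r, r < 64 → sm gb (Qf (13312 + r)) = Qf (tab Gen.b (13312 + r)) :=
  edges_tab (sm gb) Qf (tab Gen.b) 13312 [(13312, 11933), (13313, 16397), (13314, 13417), (13315, 11995), (13316, 9056), (13317, 9071), (13318, 8986), (13319, 14790), (13320, 16215), (13321, 13411), (13322, 8988), (13323, 16531), (13324, 16275), (13325, 9062), (13326, 13936), (13327, 14881), (13328, 8992), (13329, 9160), (13330, 17411), (13331, 16401), (13332, 12008), (13333, 9010), (13334, 16507), (13335, 8998), (13336, 9064), (13337, 9000), (13338, 9002), (13339, 9006), (13340, 9008), (13341, 16388), (13342, 9060), (13343, 9050), (13344, 9135), (13345, 14634), (13346, 9026), (13347, 10482), (13348, 9023), (13349, 9024), (13350, 17416), (13351, 9030), (13352, 14828), (13353, 12152), (13354, 16522), (13355, 14827), (13356, 9032), (13357, 9033), (13358, 9034), (13359, 14831), (13360, 9046), (13361, 13271), (13362, 9036), (13363, 10505), (13364, 14105), (13365, 9832),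 (13366, 16136), (13367, 9042), (13368, 14529), (13369, 17420), (13370, 9044), (13371, 12138), (13372, 16366), (13373, 13469), (13374, 14823), (13375, 16245)]
    ⟨e3 q13312 L183637 q11933, e3 q13313 (flp_b L206334) q16397, e3 q13314 (flp_b L184420) q13417, e3 q13315 L183663 q11995, e3 q13316 L183671 q9056, e3 q13317 L183685 q9071, e3 q13318 (flp_b L183687) q8986, e3 q13319 (flp_b L194835) q14790, e3 q13320 L204794 q16215, e3 q13321 (flp_b L184382) q13411, e3 q13322 (flp_b L183705) q8988, e3 q13323 L207497 q16531, e3 q13324 (flp_b L205293) q16275, e3 q13325 (flp_b L183729) q9062, e3 q13326 (flp_b L188613) q13936, e3 q13327 (flp_b L195665) q14881, e3 q13328 (flp_b L183745) q8992, e3 q13329 L183755 q9160, e3 q13330 L214635 q17411, e3 q13331 (flp_b L206358) q16401, e3 q13332 (flp_b L183779) q12008, e3 q13333 L183789 q9010, e3 q13334 (flp_b L207301) q16507, e3 q13335 L183801 q8998, e3 q13336 L183813 q9064, e3 q13337 (flp_b L183817) q9000, e3 q13338 (flp_b L183823) q9002, e3 q13339 (flp_b L183835) q9006, e3 q13340 (flp_b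 L183843) q9008, e3 q13341 (flp_b L206262) q16388, e3 q13342 L183859 q9060, e3 q13343 L183867 q9050, e3 q13344 L183873 q9135, e3 q13345 (flp_b L193519) q14634, e3 q13346 L183891 q9026, e3 q13347 (flp_b L183907) q10482, e3 q13348 (flp_b L183913) q9023, e3 q13349 (flp_b L183923) q9024, e3 q13350 L214683 q17416, e3 q13351 (flp_b L183935) q9030, e3 q13352 (flp_b L195181) q14828, e3 q13353 L183959 q12152, e3 q13354 (flp_b L207415) q16522, e3 q13355 (flp_b L195171) q14827, e3 q13356 (flp_b L183967) q9032, e3 q13357 (flp_b L183969) q9033, e3 q13358 (flp_b L183979) q9034, e3 q13359 (flp_b L195211) q14831, e3 q13360 L183993 q9046, e3 q13361 L184009 q13271, e3 q13362 (flp_b L184011) q9036, e3 q13363 (flp_b L184023) q10505, e3 q13364 (flp_b L189879) q14105, e3 q13365 L184041 q9832, e3 q13366 (flp_b L204215) q16136, e3 q13367 (flp_b L184045) q9042, e3 q13368 (flp_b L192855) q14529, e3 q13369 (flp_b L214723) q17420, e3 q13370 (flp_b L184065) q9044, e3 q13371 L184079 q12138, e3 q13372 (flp_b L206072) q16366, e3 q13373 (flp_b L184798)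 q13469, e3 q13374 (flp_b L195137) q14823, e3 q13375 L205036 q16245, trivial⟩ (by decide +kernel)

theorem ce_b_209 : ∀ r, r < 64 → sm gb (Qf (13376 + r)) = Qf (tab Gen.b (13376 + r)) :=
  edges_tab (sm gb) Qf (tab Gen.b) 13376 [(13376, 13463), (13377, 9052), (13378, 16566), (13379, 16430), (13380, 13960), (13381, 14849), (13382, 9106), (13383, 16381), (13384, 17427), (13385, 9068), (13386, 9070), (13387, 9075), (13388, 16197), (13389, 13605), (13390, 17430), (13391, 9079), (13392, 9080), (13393, 14059), (13394, 17431), (13395, 12175), (13396, 17434), (13397, 9614), (13398, 9087), (13399, 13628), (13400, 9091), (13401, 14573), (13402, 9095), (13403, 14560), (13404, 10254), (13405, 12219), (13406, 11934), (13407, 11939), (13408, 9101), (13409, 13255), (13410, 16478), (13411, 13321), (13412, 9103), (13413, 17441), (13414, 13266), (13415, 17426), (13416, 9108), (13417, 13314), (13418, 9110), (13419, 9111), (13420, 11940), (13421, 14896), (13422, 9115), (13423, 17393), (13424, 11507), (13425, 9117), (13426, 9127), (13427,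 9119), (13428, 16484), (13429, 16505), (13430, 11433), (13431, 9120), (13432, 9121), (13433, 9123), (13434, 9124), (13435, 9125), (13436, 15851), (13437, 17454), (13438, 17444), (13439, 9128)]
    ⟨e3 q13376 (flp_b L184758) q13463, e3 q13377 (flp_b L184113) q9052, e3 q13378 L207782 q16566, e3 q13379 (flp_b L206614) q16430, e3 q13380 (flp_b L188777) q13960, e3 q13381 (flp_b L195380) q14849, e3 q13382 L184149 q9106, e3 q13383 (flp_b L206192) q16381, e3 q13384 L214797 q17427, e3 q13385 (flp_b L184165) q9068, e3 q13386 (flp_b L184173) q9070, e3 q13387 (flp_b L184179) q9075, e3 q13388 (flp_b L204635) q16197, e3 q13389 (flp_b L186014) q13605, e3 q13390 L214831 q17430, e3 q13391 (flp_b L184223) q9079, e3 q13392 (flp_b L184226) q9080, e3 q13393 L189517 q14059, e3 q13394 (flp_b L214850) q17431, e3 q13395 L184244 q12175, e3 q13396 (flp_b L214874) q17434, e3 q13397 (flp_b L184262) q9614, e3 q13398 (flp_b L184264) q9087, e3 q13399 (flp_b L186197) q13628, e3 q13400 (flp_b L184286) q9091, e3 q13401 (flp_b L193147) q14573, e3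 q13402 (flp_b L184304) q9095, e3 q13403 L193079 q14560, e3 q13404 L184328 q10254, e3 q13405 L184340 q12219, e3 q13406 L184348 q11934, e3 q13407 L184358 q11939, e3 q13408 (flp_b L184360) q9101, e3 q13409 (flp_b L184372) q13255, e3 q13410 (flp_b L207067) q16478, e3 q13411 L184382 q13321, e3 q13412 (flp_b L184384) q9103, e3 q13413 (flp_b L214944) q17441, e3 q13414 (flp_b L184402) q13266, e3 q13415 (flp_b L214795) q17426, e3 q13416 (flp_b L184406) q9108, e3 q13417 L184420 q13314, e3 q13418 (flp_b L184422) q9110, e3 q13419 (flp_b L184432) q9111, e3 q13420 L184442 q11940, e3 q13421 (flp_b L195783) q14896, e3 q13422 L184452 q9115, e3 q13423 (flp_b L214471) q17393, e3 q13424 (flp_b L184466) q11507, e3 q13425 L184474 q9117, e3 q13426 L184486 q9127, e3 q13427 L184490 q9119, e3 q13428 L207107 q16484, e3 q13429 (flp_b L207273) q16505, e3 q13430 L184504 q11433, e3 q13431 (flp_b L184508) q9120, e3 q13432 (flp_b L184516) q9121, e3 q13433 (flp_b L184518) q9123, e3 q13434 (flp_b L184521) q9124, e3 q13435 (flp_b L184523) q9125, e3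 q13436 (flp_b L202242) q15851, e3 q13437 L215062 q17454, e3 q13438 (flp_b L214984) q17444, e3 q13439 (flp_b L184549) q9128, trivial⟩ (by decide +kernel)

theorem ce_b_210 : ∀ r, r < 64 → sm gb (Qf (13440 + r)) = Qf (tab Gen.b (13440 + r)) :=
  edges_tab (sm gb) Qf (tab Gen.b) 13440 [(13440, 16202), (13441, 17455), (13442, 13606), (13443, 9133), (13444, 9134), (13445, 17457), (13446, 14112), (13447, 17459), (13448, 11977), (13449, 9576), (13450, 9141), (13451, 13624), (13452, 9145), (13453, 14625), (13454, 9149), (13455, 14614), (13456, 10220), (13457, 12278), (13458, 12139), (13459, 12016), (13460, 9155), (13461, 13256), (13462, 16336), (13463, 13376), (13464, 9157), (13465, 17466), (13466, 13279), (13467, 17410), (13468, 9162), (13469, 13373), (13470, 9164), (13471, 9165), (13472, 12144), (13473, 14867), (13474, 9169), (13475, 17397), (13476, 11348), (13477, 9171), (13478, 9181), (13479, 9173), (13480, 16384), (13481, 16344), (13482, 11273), (13483, 9174), (13484, 9175), (13485, 9177), (13486, 9178), (13487, 9179),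 (13488, 15617), (13489, 17479), (13490, 17469), (13491, 9185), (13492, 13656), (13493, 9189), (13494, 9662), (13495, 13497), (13496, 9233), (13497, 13495), (13498, 9195), (13499, 9196), (13500, 16639), (13501, 13525), (13502, 13555), (13503, 12751)]
    ⟨e3 q13440 (flp_b L204676) q16202, e3 q13441 L215066 q17455, e3 q13442 (flp_b L186025) q13606, e3 q13443 (flp_b L184593) q9133, e3 q13444 (flp_b L184597) q9134, e3 q13445 (flp_b L215094) q17457, e3 q13446 L189941 q14112, e3 q13447 (flp_b L215119) q17459, e3 q13448 L184628 q11977, e3 q13449 (flp_b L184638) q9576, e3 q13450 (flp_b L184640) q9141, e3 q13451 (flp_b L186165) q13624, e3 q13452 (flp_b L184662) q9145, e3 q13453 (flp_b L193467) q14625, e3 q13454 (flp_b L184680) q9149, e3 q13455 L193409 q14614, e3 q13456 L184704 q10220, e3 q13457 L184716 q12278, e3 q13458 L184724 q12139, e3 q13459 L184734 q12016, e3 q13460 (flp_b L184736) q9155, e3 q13461 (flp_b L184748) q13256, e3 q13462 (flp_b L205844) q16336, e3 q13463 L184758 q13376, e3 q13464 (flp_b L184760) q9157, e3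 q13465 (flp_b L215183) q17466, e3 q13466 (flp_b L184828) q13279, e3 q13467 (flp_b L214633) q17410, e3 q13468 (flp_b L184784) q9162, e3 q13469 L184798 q13373, e3 q13470 (flp_b L184800) q9164, e3 q13471 (flp_b L184810) q9165, e3 q13472 L184820 q12144, e3 q13473 (flp_b L195526) q14867, e3 q13474 L184840 q9169, e3 q13475 (flp_b L214509) q17397, e3 q13476 (flp_b L184858) q11348, e3 q13477 L184866 q9171, e3 q13478 L184878 q9181, e3 q13479 L184882 q9173, e3 q13480 (flp_b L206216) q16384, e3 q13481 L205899 q16344, e3 q13482 L184896 q11273, e3 q13483 (flp_b L184900) q9174, e3 q13484 (flp_b L184902) q9175, e3 q13485 (flp_b L184910) q9177, e3 q13486 (flp_b L184920) q9178, e3 q13487 (flp_b L184923) q9179, e3 q13488 (flp_b L200601) q15617, e3 q13489 L215309 q17479, e3 q13490 (flp_b L215223) q17469, e3 q13491 (flp_b L184949) q9185, e3 q13492 (flp_b L186409) q13656, e3 q13493 (flp_b L184971) q9189, e3 q13494 (flp_b L184995) q9662, e3 q13495 (flp_b L185027) q13497, e3 q13496 L185017 q9233, e3 q13497 L185027 q13495, e3 q13498 (flp_b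 L185029) q9195, e3 q13499 (flp_b L185041) q9196, e3 q13500 (flp_b L208417) q16639, e3 q13501 (flp_b L185277) q13525, e3 q13502 (flp_b L185515) q13555, e3 q13503 L185093 q12751, trivial⟩ (by decide +kernel)

theorem ce_b_211 : ∀ r, r < 64 → sm gb (Qf (13504 + r)) = Qf (tab Gen.b (13504 + r)) :=
  edges_tab (sm gb) Qf (tab Gen.b) 13504 [(13504, 16654), (13505, 13281), (13506, 9209), (13507, 9218), (13508, 9210), (13509, 14978), (13510, 9270), (13511, 9213), (13512, 9214), (13513, 9282), (13514, 17485), (13515, 17486), (13516, 12422), (13517, 9215), (13518, 17483), (13519, 17487), (13520, 9221), (13521, 9225), (13522, 13662), (13523, 9669), (13524, 16644), (13525, 13501), (13526, 13582), (13527, 12755), (13528, 16672), (13529, 13267), (13530, 9245), (13531, 9254), (13532, 9246), (13533, 14930), (13534, 9322), (13535, 9249), (13536, 9250), (13537, 9329), (13538, 17494), (13539, 12467), (13540, 17495), (13541, 9252), (13542, 17492), (13543, 17496), (13544, 9257), (13545, 9259), (13546, 9260), (13547, 13585), (13548,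 14923), (13549, 9262), (13550, 10651), (13551, 9342), (13552, 13554), (13553, 9345), (13554, 13552), (13555, 13502), (13556, 17498), (13557, 9458), (13558, 15008), (13559, 13578), (13560, 9284), (13561, 9463), (13562, 10736), (13563, 14970), (13564, 9299), (13565, 10735), (13566, 9301), (13567, 9300)]
    ⟨e3 q13504 (flp_b L208580) q16654, e3 q13505 L185105 q13281, e3 q13506 L185115 q9209, e3 q13507 L185125 q9218, e3 q13508 (flp_b L185127) q9210, e3 q13509 (flp_b L196520) q14978, e3 q13510 L185137 q9270, e3 q13511 L185145 q9213, e3 q13512 L185149 q9214, e3 q13513 (flp_b L185155) q9282, e3 q13514 (flp_b L215367) q17485, e3 q13515 L215369 q17486, e3 q13516 (flp_b L185183) q12422, e3 q13517 (flp_b L185185) q9215, e3 q13518 (flp_b L215353) q17483, e3 q13519 L215383 q17487, e3 q13520 (flp_b L185215) q9221, e3 q13521 (flp_b L185219) q9225, e3 q13522 (flp_b L186455) q13662, e3 q13523 L185253 q9669, e3 q13524 (flp_b L208481) q16644, e3 q13525 L185277 q13501, e3 q13526 (flp_b L185785) q13582, e3 q13527 L185295 q12755, e3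 q13528 (flp_b L208753) q16672, e3 q13529 L185307 q13267, e3 q13530 L185317 q9245, e3 q13531 L185327 q9254, e3 q13532 (flp_b L185329) q9246, e3 q13533 (flp_b L196105) q14930, e3 q13534 L185339 q9322, e3 q13535 L185347 q9249, e3 q13536 L185351 q9250, e3 q13537 (flp_b L185357) q9329, e3 q13538 (flp_b L215455) q17494, e3 q13539 (flp_b L185377) q12467, e3 q13540 L215457 q17495, e3 q13541 (flp_b L185387) q9252, e3 q13542 (flp_b L215441) q17492, e3 q13543 L215471 q17496, e3 q13544 (flp_b L185417) q9257, e3 q13545 (flp_b L185421) q9259, e3 q13546 (flp_b L185423) q9260, e3 q13547 (flp_b L185811) q13585, e3 q13548 (flp_b L196041) q14923, e3 q13549 (flp_b L185441) q9262, e3 q13550 L185449 q10651, e3 q13551 L185465 q9342, e3 q13552 (flp_b L185503) q13554, e3 q13553 L185491 q9345, e3 q13554 L185503 q13552, e3 q13555 L185515 q13502, e3 q13556 L215491 q17498, e3 q13557 (flp_b L185533) q9458, e3 q13558 (flp_b L196749) q15008, e3 q13559 L185739 q13578, e3 q13560 (flp_b L185549) q9284, e3 q13561 L185565 q9463, e3 q13562 L185575 q10736,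 e3 q13563 (flp_b L196438) q14970, e3 q13564 L185591 q9299, e3 q13565 L185607 q10735, e3 q13566 L185613 q9301, e3 q13567 (flp_b L185621) q9300, trivial⟩ (by decide +kernel)

theorem ce_b_212 : ∀ r, r < 64 → sm gb (Qf (13568 + r)) = Qf (tab Gen.b (13568 + r)) :=
  edges_tab (sm gb) Qf (tab Gen.b) 13568 [(13568, 13581), (13569, 17499), (13570, 9302), (13571, 9303), (13572, 14954), (13573, 13703), (13574, 12745), (13575, 17502), (13576, 9312), (13577, 9313), (13578, 13559), (13579, 14971), (13580, 9315), (13581, 13568), (13582, 13526), (13583, 17503), (13584, 15020), (13585, 13547), (13586, 9331), (13587, 10652), (13588, 14922), (13589, 9343), (13590, 9341), (13591, 17504), (13592, 9344), (13593, 13701), (13594, 14906), (13595, 12736), (13596, 17507), (13597, 11883), (13598, 9382), (13599, 10865), (13600, 12092), (13601, 9386), (13602, 10860), (13603, 11840), (13604, 12052), (13605, 13389), (13606, 13442), (13607, 14172), (13608, 13612), (13609, 9443), (13610, 14840), (13611, 14193), (13612, 13608), (13613, 9452), (13614,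 14812), (13615, 9930), (13616, 9932), (13617, 12961), (13618, 11398), (13619, 13037), (13620, 11557), (13621, 9375), (13622, 13886), (13623, 9941), (13624, 13451), (13625, 9378), (13626, 13837), (13627, 9943), (13628, 13399), (13629, 9546), (13630, 13630), (13631, 13654)]
    ⟨e3 q13568 (flp_b L185765) q13581, e3 q13569 L215498 q17499, e3 q13570 (flp_b L185663) q9302, e3 q13571 (flp_b L185671) q9303, e3 q13572 (flp_b L196283) q14954, e3 q13573 (flp_b L186857) q13703, e3 q13574 L185699 q12745, e3 q13575 L215530 q17502, e3 q13576 (flp_b L185715) q9312, e3 q13577 (flp_b L185717) q9313, e3 q13578 (flp_b L185739) q13559, e3 q13579 (flp_b L196454) q14971, e3 q13580 (flp_b L185753) q9315, e3 q13581 L185765 q13568, e3 q13582 L185785 q13526, e3 q13583 L215537 q17503, e3 q13584 (flp_b L196851) q15020, e3 q13585 L185811 q13547, e3 q13586 (flp_b L185813) q9331, e3 q13587 L185839 q10652, e3 q13588 (flp_b L196025) q14922, e3 q13589 L185853 q9343, e3 q13590 (flp_b L185861) q9341, e3 q13591 L215548 q17504, e3 q13592 (flp_b L185883)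 q9344, e3 q13593 L186831 q13701, e3 q13594 (flp_b L195874) q14906, e3 q13595 L185917 q12736, e3 q13596 L215580 q17507, e3 q13597 (flp_b L185940) q11883, e3 q13598 L185947 q9382, e3 q13599 L185955 q10865, e3 q13600 L185964 q12092, e3 q13601 L185971 q9386, e3 q13602 L185979 q10860, e3 q13603 L185991 q11840, e3 q13604 L186005 q12052, e3 q13605 L186014 q13389, e3 q13606 L186025 q13442, e3 q13607 L190404 q14172, e3 q13608 (flp_b L186066) q13612, e3 q13609 L186044 q9443, e3 q13610 (flp_b L195285) q14840, e3 q13611 L190600 q14193, e3 q13612 L186066 q13608, e3 q13613 L186070 q9452, e3 q13614 (flp_b L195039) q14812, e3 q13615 L186087 q9930, e3 q13616 L186097 q9932, e3 q13617 L186103 q12961, e3 q13618 (flp_b L186115) q11398, e3 q13619 L186121 q13037, e3 q13620 (flp_b L186133) q11557, e3 q13621 (flp_b L186135) q9375, e3 q13622 (flp_b L188245) q13886, e3 q13623 L186157 q9941, e3 q13624 L186165 q13451, e3 q13625 (flp_b L186167) q9378, e3 q13626 (flp_b L187899) q13837, e3 q13627 L186189 q9943, e3 q13628 L186197 q13399, e3 q13629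 L186207 q9546, e3 q13630 L186215 q13630, e3 q13631 (flp_b L186394) q13654, trivial⟩ (by decide +kernel)

theorem ce_b_213 : ∀ r, r < 64 → sm gb (Qf (13632 + r)) = Qf (tab Gen.b (13632 + r)) :=
  edges_tab (sm gb) Qf (tab Gen.b) 13632 [(13632, 9381), (13633, 14374), (13634, 9521), (13635, 17510), (13636, 15994), (13637, 13785), (13638, 9533), (13639, 13639), (13640, 13660), (13641, 9385), (13642, 14319), (13643, 9505), (13644, 17514), (13645, 15769), (13646, 13777), (13647, 17542), (13648, 9391), (13649, 17543), (13650, 9396), (13651, 12814), (13652, 9401), (13653, 13653), (13654, 13631), (13655, 13655), (13656, 13492), (13657, 9404), (13658, 12810), (13659, 13659), (13660, 13640), (13661, 13661), (13662, 13522), (13663, 11778), (13664, 11735), (13665, 9419), (13666, 9420), (13667, 9421), (13668, 9422), (13669, 9431), (13670, 9435), (13671, 9425), (13672, 10683), (13673, 17554), (13674, 9427), (13675, 10767), (13676, 17555), (13677, 9723), (13678, 15007), (13679, 12418), (13680, 9430), (13681, 16598), (13682, 9666),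 (13683, 17556), (13684, 13684), (13685, 12460), (13686, 9715), (13687, 15019), (13688, 12434), (13689, 9434), (13690, 16621), (13691, 9659), (13692, 17557), (13693, 13693), (13694, 12494), (13695, 17558)]
    ⟨e3 q13632 (flp_b L186220) q9381, e3 q13633 L191834 q14374, e3 q13634 L186244 q9521, e3 q13635 (flp_b L215614) q17510, e3 q13636 (flp_b L203271) q15994, e3 q13637 (flp_b L187531) q13785, e3 q13638 L186270 q9533, e3 q13639 L186278 q13639, e3 q13640 (flp_b L186440) q13660, e3 q13641 (flp_b L186283) q9385, e3 q13642 L191453 q14319, e3 q13643 L186307 q9505, e3 q13644 (flp_b L215652) q17514, e3 q13645 (flp_b L201634) q15769, e3 q13646 (flp_b L187457) q13777, e3 q13647 L215889 q17542, e3 q13648 (flp_b L186339) q9391, e3 q13649 L215901 q17543, e3 q13650 (flp_b L186357) q9396, e3 q13651 L186377 q12814, e3 q13652 (flp_b L186379) q9401, e3 q13653 L186389 q13653, e3 q13654 L186394 q13631, e3 q13655 L186404 q13655, e3 q13656 L186409 q13492, e3 q13657 (flp_b L186411) q9404, e3 q13658 L186429 q12810, e3 q13659 L186435 q13659,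 e3 q13660 L186440 q13640, e3 q13661 L186450 q13661, e3 q13662 L186455 q13522, e3 q13663 (flp_b L186467) q11778, e3 q13664 (flp_b L186481) q11735, e3 q13665 (flp_b L186483) q9419, e3 q13666 (flp_b L186492) q9420, e3 q13667 (flp_b L186501) q9421, e3 q13668 (flp_b L186508) q9422, e3 q13669 L186521 q9431, e3 q13670 L186529 q9435, e3 q13671 (flp_b L186531) q9425, e3 q13672 (flp_b L186553) q10683, e3 q13673 (flp_b L216010) q17554, e3 q13674 (flp_b L186561) q9427, e3 q13675 L186583 q10767, e3 q13676 (flp_b L216019) q17555, e3 q13677 L186599 q9723, e3 q13678 (flp_b L196739) q15007, e3 q13679 L186617 q12418, e3 q13680 (flp_b L186619) q9430, e3 q13681 (flp_b L208055) q16598, e3 q13682 L186645 q9666, e3 q13683 (flp_b L216025) q17556, e3 q13684 L186661 q13684, e3 q13685 L186674 q12460, e3 q13686 L186684 q9715, e3 q13687 (flp_b L196841) q15019, e3 q13688 L186702 q12434, e3 q13689 (flp_b L186704) q9434, e3 q13690 (flp_b L208252) q16621, e3 q13691 L186730 q9659, e3 q13692 (flp_b L216034) q17557, e3 q13693 L186746 q13693, e3 q13694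 L186759 q12494, e3 q13695 L216039 q17558, trivial⟩ (by decide +kernel)

theorem ce_b_214 : ∀ r, r < 64 → sm gb (Qf (13696 + r)) = Qf (tab Gen.b (13696 + r)) :=
  edges_tab (sm gb) Qf (tab Gen.b) 13696 [(13696, 16523), (13697, 14736), (13698, 17559), (13699, 16416), (13700, 14717), (13701, 13593), (13702, 10689), (13703, 13573), (13704, 10773), (13705, 9465), (13706, 9468), (13707, 9470), (13708, 9473), (13709, 16288), (13710, 9477), (13711, 9484), (13712, 14129), (13713, 12222), (13714, 13718), (13715, 16442), (13716, 14078), (13717, 12281), (13718, 13714), (13719, 17560), (13720, 17561), (13721, 9495), (13722, 13808), (13723, 17564), (13724, 12972), (13725, 9496), (13726, 17566), (13727, 17570), (13728, 17571), (13729, 9498), (13730, 15738), (13731, 9501), (13732, 13796), (13733, 9500), (13734, 16281), (13735, 16662), (13736, 17578), (13737, 13762), (13738, 17580), (13739, 17526), (13740, 9504), (13741, 17584), (13742, 17587), (13743, 15676), (13744, 17589), (13745, 9508), (13746, 9511), (13747, 13857), (13748,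 17592), (13749, 13048), (13750, 9512), (13751, 17594), (13752, 17598), (13753, 17599), (13754, 9514), (13755, 15963), (13756, 9517), (13757, 13846), (13758, 9516), (13759, 16436)]
    ⟨e3 q13696 (flp_b L207425) q16523, e3 q13697 (flp_b L194345) q14736, e3 q13698 L216047 q17559, e3 q13699 (flp_b L206488) q16416, e3 q13700 (flp_b L194173) q14717, e3 q13701 (flp_b L186831) q13593, e3 q13702 (flp_b L186845) q10689, e3 q13703 L186857 q13573, e3 q13704 (flp_b L186871) q10773, e3 q13705 (flp_b L186873) q9465, e3 q13706 (flp_b L186883) q9468, e3 q13707 (flp_b L186897) q9470, e3 q13708 (flp_b L186907) q9473, e3 q13709 (flp_b L205416) q16288, e3 q13710 (flp_b L186925) q9477, e3 q13711 L186939 q9484, e3 q13712 L190081 q14129, e3 q13713 (flp_b L186957) q12222, e3 q13714 (flp_b L187005) q13718, e3 q13715 (flp_b L206735) q16442, e3 q13716 L205420 q14078, e3 q13717 (flp_b L186993) q12281, e3 q13718 L187005 q13714, e3 q13719 L216055 q17560, e3 q13720 L216061 q17561, e3 q13721 L187021 q9495, e3 q13722 (flp_b L187677) q13808, e3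 q13723 L216083 q17564, e3 q13724 L187047 q12972, e3 q13725 (flp_b L187053) q9496, e3 q13726 (flp_b L216097) q17566, e3 q13727 L216123 q17570, e3 q13728 L216125 q17571, e3 q13729 (flp_b L187077) q9498, e3 q13730 (flp_b L201478) q15738, e3 q13731 L187095 q9501, e3 q13732 (flp_b L187603) q13796, e3 q13733 (flp_b L187101) q9500, e3 q13734 (flp_b L205344) q16281, e3 q13735 (flp_b L208654) q16662, e3 q13736 L216177 q17578, e3 q13737 (flp_b L187325) q13762, e3 q13738 L216195 q17580, e3 q13739 (flp_b L215759) q17526, e3 q13740 (flp_b L187153) q9504, e3 q13741 (flp_b L216221) q17584, e3 q13742 L216243 q17587, e3 q13743 (flp_b L201022) q15676, e3 q13744 L216259 q17589, e3 q13745 (flp_b L187193) q9508, e3 q13746 L187205 q9511, e3 q13747 (flp_b L188023) q13857, e3 q13748 L216281 q17592, e3 q13749 L187231 q13048, e3 q13750 (flp_b L187237) q9512, e3 q13751 (flp_b L216295) q17594, e3 q13752 L216321 q17598, e3 q13753 L216323 q17599, e3 q13754 (flp_b L187261) q9514, e3 q13755 (flp_b L203115) q15963, e3 q13756 L187279 q9517, e3 q13757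 (flp_b L187961) q13846, e3 q13758 (flp_b L187285) q9516, e3 q13759 (flp_b L206665) q16436, trivial⟩ (by decide +kernel)

theorem ce_b_215 : ∀ r, r < 64 → sm gb (Qf (13760 + r)) = Qf (tab Gen.b (13760 + r)) :=
  edges_tab (sm gb) Qf (tab Gen.b) 13760 [(13760, 16641), (13761, 17606), (13762, 13737), (13763, 17608), (13764, 17530), (13765, 9520), (13766, 17612), (13767, 17615), (13768, 15906), (13769, 17617), (13770, 9524), (13771, 9528), (13772, 9958), (13773, 16732), (13774, 10103), (13775, 14349), (13776, 13784), (13777, 13646), (13778, 17621), (13779, 9541), (13780, 9964), (13781, 16728), (13782, 10085), (13783, 14292), (13784, 13776), (13785, 13637), (13786, 17625), (13787, 9554), (13788, 13839), (13789, 9557), (13790, 15088), (13791, 17630), (13792, 17066), (13793, 9561), (13794, 15551), (13795, 9564), (13796, 13732), (13797, 9594), (13798, 17636), (13799, 14663), (13800, 10136), (13801, 17642), (13802, 9567), (13803, 17646), (13804, 17647), (13805, 9569), (13806, 14052), (13807, 9577), (13808, 13722), (13809,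 17656), (13810, 9582), (13811, 9572), (13812, 17660), (13813, 17665), (13814, 16021), (13815, 17668), (13816, 9574), (13817, 17669), (13818, 17653), (13819, 15295), (13820, 9580), (13821, 13128), (13822, 14503), (13823, 15534)]
    ⟨e3 q13760 (flp_b L208443) q16641, e3 q13761 L216375 q17606, e3 q13762 L187325 q13737, e3 q13763 L216393 q17608, e3 q13764 (flp_b L215793) q17530, e3 q13765 (flp_b L187341) q9520, e3 q13766 (flp_b L216419) q17612, e3 q13767 L216441 q17615, e3 q13768 (flp_b L202669) q15906, e3 q13769 L216457 q17617, e3 q13770 (flp_b L187381) q9524, e3 q13771 (flp_b L187391) q9528, e3 q13772 L187405 q9958, e3 q13773 (flp_b L209261) q16732, e3 q13774 L187419 q10103, e3 q13775 (flp_b L191676) q14349, e3 q13776 (flp_b L187517) q13784, e3 q13777 L187457 q13646, e3 q13778 L216485 q17621, e3 q13779 (flp_b L187463) q9541, e3 q13780 L187477 q9964, e3 q13781 (flp_b L209231) q16728, e3 q13782 L187491 q10085, e3 q13783 L191277 q14292, e3 q13784 L187517 q13776, e3 q13785 L187531 q13637, e3 q13786 L216511 q17625, e3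 q13787 (flp_b L187537) q9554, e3 q13788 (flp_b L187915) q13839, e3 q13789 (flp_b L187549) q9557, e3 q13790 (flp_b L197265) q15088, e3 q13791 L216553 q17630, e3 q13792 (flp_b L211927) q17066, e3 q13793 (flp_b L187585) q9561, e3 q13794 L200139 q15551, e3 q13795 L187597 q9564, e3 q13796 L187603 q13732, e3 q13797 L187615 q9594, e3 q13798 (flp_b L216595) q17636, e3 q13799 L193731 q14663, e3 q13800 L187629 q10136, e3 q13801 L216653 q17642, e3 q13802 (flp_b L187637) q9567, e3 q13803 L216675 q17646, e3 q13804 L216677 q17647, e3 q13805 (flp_b L187659) q9569, e3 q13806 (flp_b L189457) q14052, e3 q13807 L187671 q9577, e3 q13808 L187677 q13722, e3 q13809 L216735 q17656, e3 q13810 L187691 q9582, e3 q13811 (flp_b L187693) q9572, e3 q13812 (flp_b L216771) q17660, e3 q13813 L216819 q17665, e3 q13814 (flp_b L203463) q16021, e3 q13815 L216835 q17668, e3 q13816 (flp_b L187717) q9574, e3 q13817 L216845 q17669, e3 q13818 (flp_b L216713) q17653, e3 q13819 (flp_b L198581) q15295, e3 q13820 (flp_b L187747) q9580, e3 q13821 (flp_b L187807)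 q13128, e3 q13822 (flp_b L192701) q14503, e3 q13823 L200021 q15534, trivial⟩ (by decide +kernel)

theorem ce_b_216 : ∀ r, r < 64 → sm gb (Qf (13824 + r)) = Qf (tab Gen.b (13824 + r)) :=
  edges_tab (sm gb) Qf (tab Gen.b) 13824 [(13824, 11481), (13825, 17662), (13826, 17199), (13827, 17193), (13828, 17682), (13829, 9585), (13830, 9586), (13831, 17684), (13832, 17689), (13833, 13833), (13834, 17692), (13835, 9589), (13836, 17694), (13837, 13626), (13838, 9592), (13839, 13788), (13840, 15098), (13841, 17702), (13842, 17153), (13843, 9599), (13844, 15790), (13845, 9602), (13846, 13757), (13847, 17708), (13848, 14690), (13849, 10169), (13850, 17714), (13851, 9605), (13852, 17718), (13853, 17719), (13854, 9607), (13855, 14106), (13856, 9615), (13857, 13747), (13858, 17725), (13859, 9619), (13860, 9610), (13861, 17729), (13862, 17734), (13863, 16096), (13864, 17737), (13865, 9612), (13866, 17654), (13867, 17723), (13868, 15242), (13869, 9618), (13870, 13187), (13871, 15778), (13872, 14454), (13873, 17730), (13874, 11322),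 (13875, 17275), (13876, 17269), (13877, 17750), (13878, 9623), (13879, 9624), (13880, 17752), (13881, 17757), (13882, 13882), (13883, 17760), (13884, 9627), (13885, 17762), (13886, 13622), (13887, 9629)]
    ⟨e3 q13824 (flp_b L187791) q11481, e3 q13825 (flp_b L216799) q17662, e3 q13826 (flp_b L212909) q17199, e3 q13827 L212859 q17193, e3 q13828 L216976 q17682, e3 q13829 (flp_b L187841) q9585, e3 q13830 (flp_b L187853) q9586, e3 q13831 (flp_b L216992) q17684, e3 q13832 L217018 q17689, e3 q13833 L187871 q13833, e3 q13834 L217041 q17692, e3 q13835 (flp_b L187880) q9589, e3 q13836 (flp_b L217058) q17694, e3 q13837 L187899 q13626, e3 q13838 (flp_b L187901) q9592, e3 q13839 L187915 q13788, e3 q13840 (flp_b L197315) q15098, e3 q13841 L217126 q17702, e3 q13842 (flp_b L212571) q17153, e3 q13843 (flp_b L187943) q9599, e3 q13844 L201806 q15790, e3 q13845 L187955 q9602, e3 q13846 L187961 q13757, e3 q13847 (flp_b L217168) q17708, e3 q13848 L193935 q14690, e3 q13849 L187975 q10169, e3 q13850 L217226 q17714, e3 q13851 (flp_b L187983)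 q9605, e3 q13852 L217248 q17718, e3 q13853 L217250 q17719, e3 q13854 (flp_b L188005) q9607, e3 q13855 (flp_b L189889) q14106, e3 q13856 L188017 q9615, e3 q13857 L188023 q13747, e3 q13858 L217300 q17725, e3 q13859 L188037 q9619, e3 q13860 (flp_b L188039) q9610, e3 q13861 (flp_b L217336) q17729, e3 q13862 L217384 q17734, e3 q13863 (flp_b L203953) q16096, e3 q13864 L217406 q17737, e3 q13865 (flp_b L188063) q9612, e3 q13866 (flp_b L216723) q17654, e3 q13867 (flp_b L217286) q17723, e3 q13868 L198210 q15242, e3 q13869 (flp_b L188093) q9618, e3 q13870 (flp_b L188153) q13187, e3 q13871 L201720 q15778, e3 q13872 (flp_b L192391) q14454, e3 q13873 (flp_b L217352) q17730, e3 q13874 (flp_b L188141) q11322, e3 q13875 (flp_b L213411) q17275, e3 q13876 L213361 q17269, e3 q13877 L217532 q17750, e3 q13878 (flp_b L188187) q9623, e3 q13879 (flp_b L188199) q9624, e3 q13880 (flp_b L217548) q17752, e3 q13881 L217574 q17757, e3 q13882 L188217 q13882, e3 q13883 L217597 q17760, e3 q13884 (flp_b L188226) q9627, e3 q13885 (flp_b L217614) q17762,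 e3 q13886 L188245 q13622, e3 q13887 (flp_b L188247) q9629, trivial⟩ (by decide +kernel)

theorem ce_b_217 : ∀ r, r < 64 → sm gb (Qf (13888 + r)) = Qf (tab Gen.b (13888 + r)) :=
  edges_tab (sm gb) Qf (tab Gen.b) 13888 [(13888, 16831), (13889, 17771), (13890, 15570), (13891, 13918), (13892, 9633), (13893, 13893), (13894, 16009), (13895, 17778), (13896, 17209), (13897, 9635), (13898, 13898), (13899, 16027), (13900, 9636), (13901, 16838), (13902, 15809), (13903, 17789), (13904, 13926), (13905, 9640), (13906, 16084), (13907, 13907), (13908, 17794), (13909, 17285), (13910, 9642), (13911, 16102), (13912, 13912), (13913, 17802), (13914, 13914), (13915, 16156), (13916, 15257), (13917, 17810), (13918, 13891), (13919, 9648), (13920, 13920), (13921, 16164), (13922, 17817), (13923, 16170), (13924, 13924), (13925, 15310), (13926, 13904), (13927, 9653), (13928, 16178), (13929, 9656), (13930, 17828), (13931, 13934), (13932, 9663), (13933, 17829), (13934, 13931), (13935, 9672), (13936, 13326), (13937, 14148), (13938, 9683), (13939,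 13981), (13940, 12752), (13941, 9680), (13942, 16284), (13943, 9682), (13944, 16439), (13945, 12168), (13946, 17832), (13947, 9685), (13948, 17834), (13949, 14017), (13950, 17833), (13951, 14962)]
    ⟨e3 q13888 L210097 q16831, e3 q13889 L217684 q17771, e3 q13890 (flp_b L200271) q15570, e3 q13891 (flp_b L188434) q13918, e3 q13892 L188277 q9633, e3 q13893 L188285 q13893, e3 q13894 (flp_b L203391) q16009, e3 q13895 L217732 q17778, e3 q13896 (flp_b L214072) q17209, e3 q13897 L188304 q9635, e3 q13898 L188310 q13898, e3 q13899 (flp_b L203493) q16027, e3 q13900 (flp_b L188313) q9636, e3 q13901 L210149 q16838, e3 q13902 (flp_b L201946) q15809, e3 q13903 L217797 q17789, e3 q13904 (flp_b L188516) q13926, e3 q13905 L188343 q9640, e3 q13906 (flp_b L203881) q16084, e3 q13907 L188359 q13907, e3 q13908 L217833 q17794, e3 q13909 (flp_b L214393) q17285, e3 q13910 L188376 q9642, e3 q13911 (flp_b L203991) q16102, e3 q13912 L188384 q13912, e3 q13913 L217874 q17802, e3 q13914 L188401 q13914, e3 q13915 (flp_b L204352) q16156, e3 q13916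 L214058 q15257, e3 q13917 L217956 q17810, e3 q13918 L188434 q13891, e3 q13919 L188438 q9648, e3 q13920 L188446 q13920, e3 q13921 (flp_b L204392) q16164, e3 q13922 L218020 q17817, e3 q13923 (flp_b L204433) q16170, e3 q13924 L188491 q13924, e3 q13925 L214379 q15310, e3 q13926 L188516 q13904, e3 q13927 L188520 q9653, e3 q13928 (flp_b L204473) q16178, e3 q13929 (flp_b L188549) q9656, e3 q13930 L218166 q17828, e3 q13931 (flp_b L188591) q13934, e3 q13932 (flp_b L188571) q9663, e3 q13933 L218174 q17829, e3 q13934 L188591 q13931, e3 q13935 (flp_b L188597) q9672, e3 q13936 L188613 q13326, e3 q13937 L190212 q14148, e3 q13938 L188631 q9683, e3 q13939 (flp_b L188943) q13981, e3 q13940 L188647 q12752, e3 q13941 (flp_b L188649) q9680, e3 q13942 L205368 q16284, e3 q13943 (flp_b L188667) q9682, e3 q13944 (flp_b L206701) q16439, e3 q13945 (flp_b L188687) q12168, e3 q13946 L218204 q17832, e3 q13947 L188693 q9685, e3 q13948 L218226 q17834, e3 q13949 (flp_b L189205) q14017, e3 q13950 (flp_b L218216) q17833, e3 q13951 (flp_b L196349)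 q14962, trivial⟩ (by decide +kernel)

theorem ce_b_218 : ∀ r, r < 64 → sm gb (Qf (13952 + r)) = Qf (tab Gen.b (13952 + r)) :=
  edges_tab (sm gb) Qf (tab Gen.b) 13952 [(13952, 9686), (13953, 14871), (13954, 12756), (13955, 16646), (13956, 10667), (13957, 17838), (13958, 9690), (13959, 9694), (13960, 13380), (13961, 14140), (13962, 9705), (13963, 13985), (13964, 9702), (13965, 9704), (13966, 11965), (13967, 17842), (13968, 9707), (13969, 17844), (13970, 13997), (13971, 17843), (13972, 14915), (13973, 9708), (13974, 14900), (13975, 16664), (13976, 10749), (13977, 17848), (13978, 9712), (13979, 16419), (13980, 9719), (13981, 13939), (13982, 9721), (13983, 16526), (13984, 9727), (13985, 13963), (13986, 9729), (13987, 9732), (13988, 14959), (13989, 9737), (13990, 13261), (13991, 16829), (13992, 9739), (13993, 9742), (13994, 17839), (13995, 14981), (13996, 9744), (13997, 13970), (13998, 17497), (13999, 17859), (14000, 16865), (14001, 9745), (14002, 16369), (14003, 13260), (14004, 17865), (14005, 9748), (14006, 9752),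 (14007, 14912), (14008, 9757), (14009, 13274), (14010, 16803), (14011, 9759), (14012, 9762), (14013, 17849), (14014, 14932), (14015, 9764)]
    ⟨e3 q13952 (flp_b L188717) q9686, e3 q13953 (flp_b L195560) q14871, e3 q13954 L188729 q12756, e3 q13955 (flp_b L208509) q16646, e3 q13956 L188747 q10667, e3 q13957 L218262 q17838, e3 q13958 (flp_b L188757) q9690, e3 q13959 (flp_b L188761) q9694, e3 q13960 L188777 q13380, e3 q13961 L190147 q14140, e3 q13962 L188795 q9705, e3 q13963 (flp_b L188981) q13985, e3 q13964 (flp_b L188803) q9702, e3 q13965 (flp_b L188813) q9704, e3 q13966 (flp_b L188825) q11965, e3 q13967 L218306 q17842, e3 q13968 L188831 q9707, e3 q13969 L218328 q17844, e3 q13970 (flp_b L189083) q13997, e3 q13971 (flp_b L218318) q17843, e3 q13972 (flp_b L195950) q14915, e3 q13973 (flp_b L188867) q9708, e3 q13974 (flp_b L195817) q14900, e3 q13975 (flp_b L208682) q16664, e3 q13976 L188899 q10749, e3 q13977 L218364 q17848, e3 q13978 (flp_b L188913) q9712, e3 q13979 (flp_b L206522) q16419, e3 q13980 (flp_b L188927) q9719,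 e3 q13981 L188943 q13939, e3 q13982 (flp_b L188945) q9721, e3 q13983 (flp_b L207459) q16526, e3 q13984 (flp_b L188965) q9727, e3 q13985 L188981 q13963, e3 q13986 (flp_b L188983) q9729, e3 q13987 (flp_b L188993) q9732, e3 q13988 L196325 q14959, e3 q13989 (flp_b L189011) q9737, e3 q13990 L189021 q13261, e3 q13991 (flp_b L210083) q16829, e3 q13992 (flp_b L189031) q9739, e3 q13993 (flp_b L189037) q9742, e3 q13994 (flp_b L218284) q17839, e3 q13995 (flp_b L208819) q14981, e3 q13996 L189051 q9744, e3 q13997 L189083 q13970, e3 q13998 (flp_b L215489) q17497, e3 q13999 (flp_b L218466) q17859, e3 q14000 (flp_b L210389) q16865, e3 q14001 (flp_b L189071) q9745, e3 q14002 L206096 q16369, e3 q14003 L189099 q13260, e3 q14004 L218514 q17865, e3 q14005 (flp_b L189105) q9748, e3 q14006 (flp_b L189115) q9752, e3 q14007 L195924 q14912, e3 q14008 (flp_b L189133) q9757, e3 q14009 L189143 q13274, e3 q14010 (flp_b L209881) q16803, e3 q14011 (flp_b L189153) q9759, e3 q14012 (flp_b L189159) q9762, e3 q14013 (flp_b L218386) q17849, e3 q14014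 (flp_b L196139) q14932, e3 q14015 L189173 q9764, trivial⟩ (by decide +kernel)

theorem ce_b_219 : ∀ r, r < 64 → sm gb (Qf (14016 + r)) = Qf (tab Gen.b (14016 + r)) :=
  edges_tab (sm gb) Qf (tab Gen.b) 14016 [(14016, 17488), (14017, 13949), (14018, 17871), (14019, 16856), (14020, 9765), (14021, 16504), (14022, 13273), (14023, 17877), (14024, 9768), (14025, 11979), (14026, 10393), (14027, 12891), (14028, 10466), (14029, 10486), (14030, 10461), (14031, 15915), (14032, 17048), (14033, 16324), (14034, 14209), (14035, 17882), (14036, 9782), (14037, 9784), (14038, 12229), (14039, 14074), (14040, 9853), (14041, 12025), (14042, 9790), (14043, 17884), (14044, 16265), (14045, 11826), (14046, 9794), (14047, 14080), (14048, 9811), (14049, 11991), (14050, 17745), (14051, 13304), (14052, 13806), (14053, 12307), (14054, 11630), (14055, 9800), (14056, 9805), (14057, 10294), (14058, 17890), (14059, 13393), (14060, 9808), (14061, 17892), (14062, 16443), (14063, 12174), (14064, 11971), (14065, 9813), (14066, 9863), (14067, 14700),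 (14068, 9847), (14069, 11375), (14070, 15698), (14071, 10400), (14072, 9817), (14073, 9818), (14074, 14039), (14075, 17896), (14076, 17897), (14077, 15562), (14078, 13716), (14079, 9823)]
    ⟨e3 q14016 (flp_b L215401) q17488, e3 q14017 L189205 q13949, e3 q14018 (flp_b L218570) q17871, e3 q14019 (flp_b L210301) q16856, e3 q14020 (flp_b L189193) q9765, e3 q14021 L207265 q16504, e3 q14022 L189221 q13273, e3 q14023 L218618 q17877, e3 q14024 (flp_b L189227) q9768, e3 q14025 L189245 q11979, e3 q14026 L189255 q10393, e3 q14027 L189261 q12891, e3 q14028 (flp_b L189277) q10466, e3 q14029 L189289 q10486, e3 q14030 (flp_b L189301) q10461, e3 q14031 (flp_b L202756) q15915, e3 q14032 (flp_b L211803) q17048, e3 q14033 (flp_b L205747) q16324, e3 q14034 (flp_b L190709) q14209, e3 q14035 L218664 q17882, e3 q14036 (flp_b L189335) q9782, e3 q14037 (flp_b L189345) q9784, e3 q14038 L189353 q12229, e3 q14039 (flp_b L189629) q14074, e3 q14040 L189369 q9853, e3 q14041 L189379 q12025, e3 q14042 (flp_b L189381) q9790, e3 q14043 L218688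 q17884, e3 q14044 (flp_b L205199) q16265, e3 q14045 L189401 q11826, e3 q14046 L189405 q9794, e3 q14047 (flp_b L189657) q14080, e3 q14048 L189415 q9811, e3 q14049 (flp_b L189435) q11991, e3 q14050 (flp_b L217490) q17745, e3 q14051 L189447 q13304, e3 q14052 L189457 q13806, e3 q14053 L189473 q12307, e3 q14054 L189479 q11630, e3 q14055 (flp_b L189481) q9800, e3 q14056 L189493 q9805, e3 q14057 L189503 q10294, e3 q14058 (flp_b L218756) q17890, e3 q14059 (flp_b L189517) q13393, e3 q14060 (flp_b L189519) q9808, e3 q14061 (flp_b L218776) q17892, e3 q14062 (flp_b L206749) q16443, e3 q14063 (flp_b L189541) q12174, e3 q14064 L189545 q11971, e3 q14065 L189553 q9813, e3 q14066 L189559 q9863, e3 q14067 (flp_b L194021) q14700, e3 q14068 L189575 q9847, e3 q14069 L189581 q11375, e3 q14070 (flp_b L201217) q15698, e3 q14071 L189603 q10400, e3 q14072 L189609 q9817, e3 q14073 L189615 q9818, e3 q14074 L189629 q14039, e3 q14075 (flp_b L218820) q17896, e3 q14076 (flp_b L218830) q17897, e3 q14077 (flp_b L200209) q15562, e3 q14078 (flp_b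 L205420) q13716, e3 q14079 L189653 q9823, trivial⟩ (by decide +kernel)

theorem ce_b_220 : ∀ r, r < 64 → sm gb (Qf (14080 + r)) = Qf (tab Gen.b (14080 + r)) :=
  edges_tab (sm gb) Qf (tab Gen.b) 14080 [(14080, 14047), (14081, 16304), (14082, 12177), (14083, 10427), (14084, 12906), (14085, 10515), (14086, 10533), (14087, 10510), (14088, 15685), (14089, 17138), (14090, 16468), (14091, 14211), (14092, 17906), (14093, 9835), (14094, 9837), (14095, 12288), (14096, 14125), (14097, 12208), (14098, 9843), (14099, 16360), (14100, 17907), (14101, 12038), (14102, 14131), (14103, 12187), (14104, 17678), (14105, 13364), (14106, 13855), (14107, 12248), (14108, 11577), (14109, 9858), (14110, 10296), (14111, 17912), (14112, 13446), (14113, 9861), (14114, 17914), (14115, 11974), (14116, 16289), (14117, 11925), (14118, 9866), (14119, 14699), (14120, 11535), (14121, 15927), (14122, 10434), (14123, 9870), (14124, 9871), (14125, 14096), (14126, 17918), (14127, 17919), (14128, 15802), (14129, 13712), (14130, 9876), (14131, 14102), (14132,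 16453), (14133, 9879), (14134, 12131), (14135, 9880), (14136, 9884), (14137, 9885), (14138, 17927), (14139, 14753), (14140, 13961), (14141, 14141), (14142, 16535), (14143, 14842)]
    ⟨e3 q14080 L189657 q14047, e3 q14081 (flp_b L205570) q16304, e3 q14082 L189677 q12177, e3 q14083 L189687 q10427, e3 q14084 L189693 q12906, e3 q14085 L189707 q10515, e3 q14086 L189721 q10533, e3 q14087 (flp_b L189733) q10510, e3 q14088 (flp_b L201109) q15685, e3 q14089 (flp_b L212459) q17138, e3 q14090 (flp_b L206988) q16468, e3 q14091 (flp_b L190723) q14211, e3 q14092 L218896 q17906, e3 q14093 (flp_b L189767) q9835, e3 q14094 (flp_b L189777) q9837, e3 q14095 (flp_b L189789) q12288, e3 q14096 (flp_b L190055) q14125, e3 q14097 L189809 q12208, e3 q14098 (flp_b L189811) q9843, e3 q14099 (flp_b L206020) q16360, e3 q14100 L218908 q17907, e3 q14101 L189845 q12038, e3 q14102 (flp_b L190085) q14131, e3 q14103 L189867 q12187, e3 q14104 (flp_b L216946) q17678, e3 q14105 L189879 q13364, e3 q14106 L189889 q13855, e3 q14107 L189905 q12248, e3 q14108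 (flp_b L189911) q11577, e3 q14109 L189917 q9858, e3 q14110 L189927 q10296, e3 q14111 (flp_b L218966) q17912, e3 q14112 (flp_b L189941) q13446, e3 q14113 (flp_b L189943) q9861, e3 q14114 (flp_b L218986) q17914, e3 q14115 (flp_b L189967) q11974, e3 q14116 (flp_b L205432) q16289, e3 q14117 L189985 q11925, e3 q14118 L189993 q9866, e3 q14119 (flp_b L194009) q14699, e3 q14120 L190007 q11535, e3 q14121 (flp_b L202862) q15927, e3 q14122 L190029 q10434, e3 q14123 L190035 q9870, e3 q14124 L190041 q9871, e3 q14125 L190055 q14096, e3 q14126 (flp_b L219032) q17918, e3 q14127 (flp_b L219042) q17919, e3 q14128 (flp_b L201892) q15802, e3 q14129 (flp_b L190081) q13712, e3 q14130 L190079 q9876, e3 q14131 L190085 q14102, e3 q14132 (flp_b L206845) q16453, e3 q14133 L190099 q9879, e3 q14134 L190103 q12131, e3 q14135 (flp_b L190107) q9880, e3 q14136 (flp_b L190115) q9884, e3 q14137 (flp_b L190119) q9885, e3 q14138 (flp_b L219110) q17927, e3 q14139 L194486 q14753, e3 q14140 (flp_b L190147) q13961, e3 q14141 L190157 q14141, e3 q14142 (flp_b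 L207527) q16535, e3 q14143 (flp_b L195297) q14842, trivial⟩ (by decide +kernel)

theorem ce_b_221 : ∀ r, r < 64 → sm gb (Qf (14144 + r)) = Qf (tab Gen.b (14144 + r)) :=
  edges_tab (sm gb) Qf (tab Gen.b) 14144 [(14144, 11926), (14145, 9890), (14146, 9892), (14147, 17930), (14148, 13937), (14149, 14774), (14150, 16569), (14151, 14151), (14152, 14814), (14153, 12854), (14154, 14818), (14155, 12216), (14156, 17933), (14157, 9901), (14158, 14877), (14159, 15010), (14160, 11878), (14161, 9906), (14162, 12346), (14163, 17852), (14164, 11938), (14165, 17935), (14166, 12344), (14167, 10457), (14168, 10205), (14169, 12764), (14170, 14170), (14171, 15864), (14172, 13607), (14173, 9912), (14174, 12860), (14175, 14784), (14176, 12275), (14177, 17943), (14178, 9918), (14179, 14843), (14180, 15022), (14181, 12087), (14182, 9923), (14183, 17850), (14184, 12391), (14185, 12143), (14186, 17945), (14187, 12390), (14188, 10506), (14189, 10239), (14190, 12789), (14191, 15630), (14192, 14192), (14193, 13611), (14194, 9929), (14195,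 17520), (14196, 17673), (14197, 17521), (14198, 17741), (14199, 16685), (14200, 17958), (14201, 9935), (14202, 12529), (14203, 16691), (14204, 17963), (14205, 9938), (14206, 12525), (14207, 17528)]
    ⟨e3 q14144 (flp_b L190178) q11926, e3 q14145 (flp_b L190182) q9890, e3 q14146 (flp_b L190192) q9892, e3 q14147 (flp_b L219140) q17930, e3 q14148 (flp_b L190212) q13937, e3 q14149 (flp_b L194679) q14774, e3 q14150 (flp_b L207802) q16569, e3 q14151 L190236 q14151, e3 q14152 (flp_b L195051) q14814, e3 q14153 L190253 q12854, e3 q14154 (flp_b L195097) q14818, e3 q14155 L190269 q12216, e3 q14156 L219160 q17933, e3 q14157 (flp_b L190279) q9901, e3 q14158 (flp_b L195620) q14877, e3 q14159 (flp_b L196761) q15010, e3 q14160 L190305 q11878, e3 q14161 L190313 q9906, e3 q14162 L190317 q12346, e3 q14163 (flp_b L218414) q17852, e3 q14164 L190331 q11938, e3 q14165 (flp_b L219182) q17935, e3 q14166 (flp_b L190349) q12344, e3 q14167 L190355 q10457, e3 q14168 L190365 q10205, e3 q14169 L190377 q12764, e3 q14170 L190387 q14170, e3 q14171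 L202352 q15864, e3 q14172 (flp_b L190404) q13607, e3 q14173 (flp_b L190406) q9912, e3 q14174 L190419 q12860, e3 q14175 L194787 q14784, e3 q14176 L190435 q12275, e3 q14177 L219262 q17943, e3 q14178 (flp_b L190445) q9918, e3 q14179 (flp_b L195309) q14843, e3 q14180 L196863 q15022, e3 q14181 L190471 q12087, e3 q14182 L190493 q9923, e3 q14183 (flp_b L218398) q17850, e3 q14184 L190517 q12391, e3 q14185 L190525 q12143, e3 q14186 (flp_b L219286) q17945, e3 q14187 (flp_b L190545) q12390, e3 q14188 L190551 q10506, e3 q14189 L190561 q10239, e3 q14190 L190573 q12789, e3 q14191 L200711 q15630, e3 q14192 L190589 q14192, e3 q14193 (flp_b L190600) q13611, e3 q14194 (flp_b L190602) q9929, e3 q14195 (flp_b L215701) q17520, e3 q14196 (flp_b L216889) q17673, e3 q14197 (flp_b L215711) q17521, e3 q14198 (flp_b L217452) q17741, e3 q14199 (flp_b L208867) q16685, e3 q14200 L219416 q17958, e3 q14201 (flp_b L190651) q9935, e3 q14202 L190667 q12529, e3 q14203 (flp_b L208911) q16691, e3 q14204 L219448 q17963, e3 q14205 (flp_b L190681) q9938,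 e3 q14206 L190697 q12525, e3 q14207 (flp_b L215773) q17528, trivial⟩ (by decide +kernel)

theorem ce_b_222 : ∀ r, r < 64 → sm gb (Qf (14208 + r)) = Qf (tab Gen.b (14208 + r)) :=
  edges_tab (sm gb) Qf (tab Gen.b) 14208 [(14208, 17532), (14209, 14034), (14210, 9948), (14211, 14091), (14212, 9950), (14213, 14403), (14214, 17970), (14215, 9960), (14216, 17977), (14217, 14426), (14218, 17967), (14219, 9966), (14220, 17983), (14221, 17618), (14222, 17003), (14223, 17975), (14224, 17987), (14225, 9961), (14226, 17991), (14227, 17622), (14228, 16978), (14229, 17981), (14230, 17995), (14231, 9967), (14232, 17999), (14233, 9970), (14234, 18000), (14235, 9972), (14236, 18004), (14237, 9986), (14238, 9975), (14239, 18010), (14240, 9995), (14241, 10003), (14242, 9979), (14243, 18016), (14244, 10012), (14245, 14455), (14246, 15603), (14247, 18024), (14248, 11005), (14249, 11170), (14250, 10969), (14251, 9990), (14252, 9989), (14253, 18027), (14254, 10139), (14255, 18032), (14256, 18033), (14257, 9993), (14258, 18036), (14259,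 18041), (14260, 15740), (14261, 18013), (14262, 18044), (14263, 9996), (14264, 18048), (14265, 14504), (14266, 18052), (14267, 15842), (14268, 11239), (14269, 10980), (14270, 10974), (14271, 10007)]
    ⟨e3 q14208 (flp_b L215807) q17532, e3 q14209 L190709 q14034, e3 q14210 (flp_b L190711) q9948, e3 q14211 L190723 q14091, e3 q14212 (flp_b L190725) q9950, e3 q14213 (flp_b L192054) q14403, e3 q14214 (flp_b L219501) q17970, e3 q14215 L190748 q9960, e3 q14216 L219540 q17977, e3 q14217 (flp_b L192203) q14426, e3 q14218 L219480 q17967, e3 q14219 L190775 q9966, e3 q14220 L219580 q17983, e3 q14221 (flp_b L216467) q17618, e3 q14222 (flp_b L211453) q17003, e3 q14223 (flp_b L219530) q17975, e3 q14224 L219612 q17987, e3 q14225 (flp_b L190807) q9961, e3 q14226 L219634 q17991, e3 q14227 (flp_b L216493) q17622, e3 q14228 (flp_b L211256) q16978, e3 q14229 (flp_b L219570) q17981, e3 q14230 L219680 q17995, e3 q14231 (flp_b L190843) q9967, e3 q14232 L219702 q17999, e3 q14233 (flp_b L190857) q9970, e3 q14234 (flp_b L219710) q18000,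 e3 q14235 (flp_b L190867) q9972, e3 q14236 (flp_b L219736) q18004, e3 q14237 L190887 q9986, e3 q14238 (flp_b L190889) q9975, e3 q14239 L219775 q18010, e3 q14240 L190906 q9995, e3 q14241 L190918 q10003, e3 q14242 (flp_b L190920) q9979, e3 q14243 L219810 q18016, e3 q14244 L190937 q10012, e3 q14245 (flp_b L192397) q14455, e3 q14246 (flp_b L200477) q15603, e3 q14247 L219854 q18024, e3 q14248 L190963 q11005, e3 q14249 L190975 q11170, e3 q14250 L190981 q10969, e3 q14251 L191001 q9990, e3 q14252 (flp_b L191003) q9989, e3 q14253 L219876 q18027, e3 q14254 L191023 q10139, e3 q14255 L219906 q18032, e3 q14256 L219914 q18033, e3 q14257 (flp_b L191039) q9993, e3 q14258 (flp_b L219942) q18036, e3 q14259 L219976 q18041, e3 q14260 (flp_b L201484) q15740, e3 q14261 (flp_b L219789) q18013, e3 q14262 L219992 q18044, e3 q14263 (flp_b L191067) q9996, e3 q14264 L220040 q18048, e3 q14265 (flp_b L192707) q14504, e3 q14266 L220062 q18052, e3 q14267 (flp_b L202164) q15842, e3 q14268 (flp_b L191107) q11239, e3 q14269 L191119 q10980, e3 q14270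 L191125 q10974, e3 q14271 L191145 q10007, trivial⟩ (by decide +kernel)

theorem ce_b_223 : ∀ r, r < 64 → sm gb (Qf (14272 + r)) = Qf (tab Gen.b (14272 + r)) :=
  edges_tab (sm gb) Qf (tab Gen.b) 14272 [(14272, 10006), (14273, 18056), (14274, 10172), (14275, 18061), (14276, 18062), (14277, 10010), (14278, 18065), (14279, 18070), (14280, 15965), (14281, 18019), (14282, 18073), (14283, 10013), (14284, 18077), (14285, 12664), (14286, 10017), (14287, 18080), (14288, 18081), (14289, 10927), (14290, 15023), (14291, 18086), (14292, 13783), (14293, 10019), (14294, 14665), (14295, 15531), (14296, 11376), (14297, 18089), (14298, 10027), (14299, 10122), (14300, 14475), (14301, 15553), (14302, 10026), (14303, 18093), (14304, 10197), (14305, 10029), (14306, 10030), (14307, 18097), (14308, 18099), (14309, 14639), (14310, 18101), (14311, 10031), (14312, 10032), (14313, 18107), (14314, 18103), (14315, 14451), (14316, 10034), (14317, 16081), (14318, 18112), (14319, 13642), (14320, 15675), (14321, 16140), (14322, 10038), (14323, 14991),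 (14324, 12702), (14325, 18119), (14326, 10040), (14327, 10041), (14328, 18120), (14329, 18123), (14330, 18125), (14331, 16139), (14332, 12000), (14333, 17490), (14334, 10044), (14335, 12700)]
    ⟨e3 q14272 (flp_b L191147) q10006, e3 q14273 L220092 q18056, e3 q14274 L191167 q10172, e3 q14275 L220122 q18061, e3 q14276 L220130 q18062, e3 q14277 (flp_b L191183) q10010, e3 q14278 (flp_b L220158) q18065, e3 q14279 L220192 q18070, e3 q14280 (flp_b L203121) q15965, e3 q14281 (flp_b L219824) q18019, e3 q14282 L220208 q18073, e3 q14283 (flp_b L191211) q10013, e3 q14284 L220238 q18077, e3 q14285 L191231 q12664, e3 q14286 L191237 q10017, e3 q14287 L220262 q18080, e3 q14288 L220272 q18081, e3 q14289 L191257 q10927, e3 q14290 (flp_b L196871) q15023, e3 q14291 L220310 q18086, e3 q14292 (flp_b L191277) q13783, e3 q14293 (flp_b L191279) q10019, e3 q14294 (flp_b L193745) q14665, e3 q14295 (flp_b L199989) q15531, e3 q14296 L191307 q11376, e3 q14297 L220334 q18089, e3 q14298 L191313 q10027, e3 q14299 L191327 q10122, e3 q14300 (flp_b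 L192501) q14475, e3 q14301 (flp_b L200153) q15553, e3 q14302 (flp_b L191343) q10026, e3 q14303 (flp_b L220370) q18093, e3 q14304 (flp_b L191359) q10197, e3 q14305 L191363 q10029, e3 q14306 L191373 q10030, e3 q14307 L220394 q18097, e3 q14308 L220408 q18099, e3 q14309 (flp_b L193563) q14639, e3 q14310 L220418 q18101, e3 q14311 (flp_b L191397) q10031, e3 q14312 (flp_b L191399) q10032, e3 q14313 L220444 q18107, e3 q14314 (flp_b L220426) q18103, e3 q14315 (flp_b L192363) q14451, e3 q14316 (flp_b L191415) q10034, e3 q14317 L203865 q16081, e3 q14318 L220476 q18112, e3 q14319 (flp_b L191453) q13642, e3 q14320 (flp_b L201016) q15675, e3 q14321 (flp_b L204247) q16140, e3 q14322 (flp_b L191473) q10038, e3 q14323 L196606 q14991, e3 q14324 (flp_b L191493) q12702, e3 q14325 L220548 q18119, e3 q14326 (flp_b L191499) q10040, e3 q14327 (flp_b L191509) q10041, e3 q14328 (flp_b L220562) q18120, e3 q14329 L220580 q18123, e3 q14330 L220602 q18125, e3 q14331 (flp_b L204237) q16139, e3 q14332 (flp_b L191551) q12000, e3 q14333 (flp_b L215417)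 q17490, e3 q14334 (flp_b L191563) q10044, e3 q14335 L191575 q12700, trivial⟩ (by decide +kernel)

theorem ce_b_224 : ∀ r, r < 64 → sm gb (Qf (14336 + r)) = Qf (tab Gen.b (14336 + r)) :=
  edges_tab (sm gb) Qf (tab Gen.b) 14336 [(14336, 12116), (14337, 15680), (14338, 18130), (14339, 10048), (14340, 12693), (14341, 10051), (14342, 18134), (14343, 18135), (14344, 10937), (14345, 18139), (14346, 15027), (14347, 10052), (14348, 14692), (14349, 13775), (14350, 15775), (14351, 11533), (14352, 18143), (14353, 10061), (14354, 14524), (14355, 10156), (14356, 15791), (14357, 10060), (14358, 18147), (14359, 10233), (14360, 10063), (14361, 10064), (14362, 18151), (14363, 18153), (14364, 14668), (14365, 18155), (14366, 10065), (14367, 10066), (14368, 18161), (14369, 18157), (14370, 14500), (14371, 10068), (14372, 16005), (14373, 18166), (14374, 13633), (14375, 15905), (14376, 16061), (14377, 10072), (14378, 14943), (14379, 12673), (14380, 18173), (14381, 10074), (14382, 10075), (14383, 18122), (14384, 18175), (14385, 16060),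 (14386, 18177), (14387, 12190), (14388, 17481), (14389, 10078), (14390, 12671), (14391, 11910), (14392, 15910), (14393, 18182), (14394, 10082), (14395, 16726), (14396, 11111), (14397, 10089), (14398, 15363), (14399, 18185)]
    ⟨e3 q14336 L191585 q12116, e3 q14337 (flp_b L201068) q15680, e3 q14338 L220660 q18130, e3 q14339 (flp_b L191605) q10048, e3 q14340 L191614 q12693, e3 q14341 L191620 q10051, e3 q14342 L220692 q18134, e3 q14343 L220702 q18135, e3 q14344 L191640 q10937, e3 q14345 L220732 q18139, e3 q14346 (flp_b L196897) q15027, e3 q14347 (flp_b L191652) q10052, e3 q14348 (flp_b L193949) q14692, e3 q14349 L191676 q13775, e3 q14350 (flp_b L201686) q15775, e3 q14351 L191690 q11533, e3 q14352 L220764 q18143, e3 q14353 L191696 q10061, e3 q14354 (flp_b L192823) q14524, e3 q14355 L191714 q10156, e3 q14356 (flp_b L201814) q15791, e3 q14357 (flp_b L191726) q10060, e3 q14358 (flp_b L220800) q18147, e3 q14359 L193841 q10233, e3 q14360 L191744 q10063, e3 q14361 L191754 q10064, e3 q14362 L220824 q18151, e3 q14363 L220838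 q18153, e3 q14364 (flp_b L193775) q14668, e3 q14365 L220848 q18155, e3 q14366 (flp_b L191778) q10065, e3 q14367 (flp_b L191780) q10066, e3 q14368 L220874 q18161, e3 q14369 (flp_b L220856) q18157, e3 q14370 (flp_b L192673) q14500, e3 q14371 (flp_b L191796) q10068, e3 q14372 L203365 q16005, e3 q14373 L220906 q18166, e3 q14374 (flp_b L191834) q13633, e3 q14375 L202663 q15905, e3 q14376 (flp_b L203721) q16061, e3 q14377 (flp_b L191854) q10072, e3 q14378 L196185 q14943, e3 q14379 (flp_b L191874) q12673, e3 q14380 L220978 q18173, e3 q14381 (flp_b L191880) q10074, e3 q14382 (flp_b L191890) q10075, e3 q14383 (flp_b L220574) q18122, e3 q14384 L220994 q18175, e3 q14385 (flp_b L203711) q16060, e3 q14386 L221016 q18177, e3 q14387 (flp_b L191932) q12190, e3 q14388 (flp_b L215329) q17481, e3 q14389 (flp_b L191944) q10078, e3 q14390 L191956 q12671, e3 q14391 L191966 q11910, e3 q14392 (flp_b L202715) q15910, e3 q14393 L221074 q18182, e3 q14394 (flp_b L191986) q10082, e3 q14395 (flp_b L209215) q16726, e3 q14396 L192005 q11111, e3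 q14397 L192011 q10089, e3 q14398 (flp_b L199036) q15363, e3 q14399 (flp_b L221096) q18185, trivial⟩ (by decide +kernel)

theorem ce_b_225 : ∀ r, r < 64 → sm gb (Qf (14400 + r)) = Qf (tab Gen.b (14400 + r)) :=
  edges_tab (sm gb) Qf (tab Gen.b) 14400 [(14400, 18187), (14401, 10914), (14402, 10092), (14403, 14213), (14404, 18192), (14405, 18189), (14406, 18194), (14407, 10093), (14408, 10094), (14409, 18196), (14410, 18202), (14411, 10096), (14412, 10097), (14413, 15350), (14414, 10100), (14415, 18207), (14416, 14438), (14417, 16730), (14418, 11181), (14419, 10108), (14420, 15467), (14421, 18210), (14422, 18212), (14423, 10918), (14424, 10111), (14425, 18216), (14426, 14217), (14427, 18214), (14428, 18219), (14429, 10112), (14430, 10113), (14431, 18221), (14432, 18227), (14433, 10115), (14434, 10116), (14435, 15454), (14436, 10119), (14437, 18232), (14438, 14416), (14439, 10123), (14440, 15545), (14441, 15078), (14442, 10126), (14443, 17972), (14444, 18239), (14445, 18236), (14446, 18242), (14447, 10127), (14448,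 10128), (14449, 18248), (14450, 18244), (14451, 14315), (14452, 10130), (14453, 16033), (14454, 13872), (14455, 14245), (14456, 18254), (14457, 10135), (14458, 10191), (14459, 18258), (14460, 10137), (14461, 18030), (14462, 18263), (14463, 10143)]
    ⟨e3 q14400 L221106 q18187, e3 q14401 L192038 q10914, e3 q14402 L192042 q10092, e3 q14403 L192054 q14213, e3 q14404 L221145 q18192, e3 q14405 (flp_b L221123) q18189, e3 q14406 L221155 q18194, e3 q14407 (flp_b L192071) q10093, e3 q14408 (flp_b L192073) q10094, e3 q14409 (flp_b L221163) q18196, e3 q14410 L221197 q18202, e3 q14411 (flp_b L192095) q10096, e3 q14412 (flp_b L192099) q10097, e3 q14413 (flp_b L198961) q15350, e3 q14414 L192119 q10100, e3 q14415 L221237 q18207, e3 q14416 (flp_b L192283) q14438, e3 q14417 (flp_b L209245) q16730, e3 q14418 L192151 q11181, e3 q14419 L192157 q10108, e3 q14420 (flp_b L199602) q15467, e3 q14421 (flp_b L221265) q18210, e3 q14422 L221275 q18212, e3 q14423 L192184 q10918, e3 q14424 L192188 q10111, e3 q14425 L221305 q18216, e3 q14426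 L192203 q14217, e3 q14427 (flp_b L221292) q18214, e3 q14428 L221324 q18219, e3 q14429 (flp_b L192217) q10112, e3 q14430 (flp_b L192219) q10113, e3 q14431 (flp_b L221332) q18221, e3 q14432 L221366 q18227, e3 q14433 (flp_b L192241) q10115, e3 q14434 (flp_b L192245) q10116, e3 q14435 (flp_b L199515) q15454, e3 q14436 L192265 q10119, e3 q14437 L221406 q18232, e3 q14438 L192283 q14416, e3 q14439 (flp_b L192285) q10123, e3 q14440 (flp_b L200093) q15545, e3 q14441 (flp_b L197197) q15078, e3 q14442 L192309 q10126, e3 q14443 (flp_b L219512) q17972, e3 q14444 L221464 q18239, e3 q14445 (flp_b L221442) q18236, e3 q14446 L221490 q18242, e3 q14447 (flp_b L192341) q10127, e3 q14448 (flp_b L192345) q10128, e3 q14449 L221528 q18248, e3 q14450 (flp_b L221500) q18244, e3 q14451 L192363 q14315, e3 q14452 (flp_b L192365) q10130, e3 q14453 (flp_b L203535) q16033, e3 q14454 L192391 q13872, e3 q14455 L192397 q14245, e3 q14456 L221586 q18254, e3 q14457 (flp_b L192411) q10135, e3 q14458 (flp_b L192419) q10191, e3 q14459 L221616 q18258, e3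 q14460 (flp_b L192425) q10137, e3 q14461 (flp_b L219894) q18030, e3 q14462 L221648 q18263, e3 q14463 L192443 q10143, trivial⟩ (by decide +kernel)

theorem ce_b_226 : ∀ r, r < 64 → sm gb (Qf (14464 + r)) = Qf (tab Gen.b (14464 + r)) :=
  edges_tab (sm gb) Qf (tab Gen.b) 14464 [(14464, 18031), (14465, 18269), (14466, 18261), (14467, 10141), (14468, 10142), (14469, 18276), (14470, 18266), (14471, 18281), (14472, 10144), (14473, 18285), (14474, 18029), (14475, 14300), (14476, 17627), (14477, 14587), (14478, 10886), (14479, 14635), (14480, 13309), (14481, 10148), (14482, 15904), (14483, 17895), (14484, 16560), (14485, 18292), (14486, 10151), (14487, 10152), (14488, 10155), (14489, 15794), (14490, 15083), (14491, 10159), (14492, 18297), (14493, 17978), (14494, 18295), (14495, 18301), (14496, 10160), (14497, 10161), (14498, 18306), (14499, 18303), (14500, 14370), (14501, 10163), (14502, 16110), (14503, 13822), (14504, 14265), (14505, 18311), (14506, 10168), (14507, 10227), (14508, 18315), (14509, 10170), (14510, 18059),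 (14511, 18320), (14512, 10176), (14513, 18060), (14514, 18326), (14515, 18318), (14516, 10174), (14517, 10175), (14518, 18333), (14519, 18323), (14520, 18338), (14521, 10177), (14522, 18342), (14523, 18058), (14524, 14354), (14525, 17699), (14526, 14636), (14527, 10893)]
    ⟨e3 q14464 (flp_b L219904) q18031, e3 q14465 L221694 q18269, e3 q14466 (flp_b L221642) q18261, e3 q14467 (flp_b L192461) q10141, e3 q14468 (flp_b L192467) q10142, e3 q14469 L221736 q18276, e3 q14470 (flp_b L221662) q18266, e3 q14471 L221764 q18281, e3 q14472 (flp_b L192485) q10144, e3 q14473 L221796 q18285, e3 q14474 (flp_b L219890) q18029, e3 q14475 L192501 q14300, e3 q14476 (flp_b L216535) q17627, e3 q14477 (flp_b L193229) q14587, e3 q14478 (flp_b L192519) q10886, e3 q14479 (flp_b L193527) q14635, e3 q14480 L192533 q13309, e3 q14481 (flp_b L192535) q10148, e3 q14482 L202653 q15904, e3 q14483 (flp_b L218808) q17895, e3 q14484 (flp_b L207724) q16560, e3 q14485 L221866 q18292, e3 q14486 (flp_b L192575) q10151, e3 q14487 (flp_b L192585) q10152,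 e3 q14488 (flp_b L192595) q10155, e3 q14489 (flp_b L201838) q15794, e3 q14490 (flp_b L197230) q15083, e3 q14491 L192619 q10159, e3 q14492 L221912 q18297, e3 q14493 (flp_b L219552) q17978, e3 q14494 (flp_b L221898) q18295, e3 q14495 L221946 q18301, e3 q14496 (flp_b L192651) q10160, e3 q14497 (flp_b L192655) q10161, e3 q14498 L221974 q18306, e3 q14499 (flp_b L221956) q18303, e3 q14500 L192673 q14370, e3 q14501 (flp_b L192675) q10163, e3 q14502 (flp_b L204049) q16110, e3 q14503 L192701 q13822, e3 q14504 L192707 q14265, e3 q14505 L222022 q18311, e3 q14506 (flp_b L192721) q10168, e3 q14507 (flp_b L192729) q10227, e3 q14508 L222052 q18315, e3 q14509 (flp_b L192735) q10170, e3 q14510 (flp_b L220110) q18059, e3 q14511 L222084 q18320, e3 q14512 L192753 q10176, e3 q14513 (flp_b L220120) q18060, e3 q14514 L222124 q18326, e3 q14515 (flp_b L222078) q18318, e3 q14516 (flp_b L192771) q10174, e3 q14517 (flp_b L192781) q10175, e3 q14518 L222170 q18333, e3 q14519 (flp_b L222106) q18323, e3 q14520 L222237 q18338, e3 q14521 (flp_b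 L192799) q10177, e3 q14522 L222277 q18342, e3 q14523 (flp_b L220106) q18058, e3 q14524 L192823 q14354, e3 q14525 (flp_b L217108) q17699, e3 q14526 (flp_b L193533) q14636, e3 q14527 (flp_b L192841) q10893, trivial⟩ (by decide +kernel)

theorem ce_b_227 : ∀ r, r < 64 → sm gb (Qf (14528 + r)) = Qf (tab Gen.b (14528 + r)) :=
  edges_tab (sm gb) Qf (tab Gen.b) 14528 [(14528, 14586), (14529, 13368), (14530, 10181), (14531, 15674), (14532, 17917), (14533, 16595), (14534, 18349), (14535, 10184), (14536, 10185), (14537, 18350), (14538, 10188), (14539, 10189), (14540, 16872), (14541, 18078), (14542, 17640), (14543, 18356), (14544, 17017), (14545, 18357), (14546, 10192), (14547, 14563), (14548, 18360), (14549, 14647), (14550, 18362), (14551, 14650), (14552, 18365), (14553, 18367), (14554, 10198), (14555, 18370), (14556, 18371), (14557, 18372), (14558, 10201), (14559, 10202), (14560, 13403), (14561, 10204), (14562, 17637), (14563, 14547), (14564, 15861), (14565, 17634), (14566, 10209), (14567, 10210), (14568, 18385), (14569,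 16049), (14570, 18390), (14571, 18392), (14572, 18393), (14573, 13401), (14574, 17463), (14575, 10214), (14576, 18398), (14577, 17679), (14578, 18402), (14579, 16046), (14580, 15456), (14581, 10217), (14582, 18406), (14583, 10218), (14584, 17635), (14585, 13284), (14586, 14528), (14587, 14477), (14588, 18412), (14589, 10223), (14590, 10224), (14591, 16879)]
    ⟨e3 q14528 (flp_b L193223) q14586, e3 q14529 L192855 q13368, e3 q14530 (flp_b L192857) q10181, e3 q14531 L201006 q15674, e3 q14532 (flp_b L219020) q17917, e3 q14533 (flp_b L208013) q16595, e3 q14534 L222351 q18349, e3 q14535 (flp_b L192897) q10184, e3 q14536 (flp_b L192907) q10185, e3 q14537 L222361 q18350, e3 q14538 (flp_b L192929) q10188, e3 q14539 (flp_b L192937) q10189, e3 q14540 (flp_b L210457) q16872, e3 q14541 (flp_b L220248) q18078, e3 q14542 (flp_b L216647) q17640, e3 q14543 L222417 q18356, e3 q14544 (flp_b L211583) q17017, e3 q14545 L222419 q18357, e3 q14546 (flp_b L192981) q10192, e3 q14547 (flp_b L193093) q14563, e3 q14548 L222439 q18360, e3 q14549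 (flp_b L193621) q14647, e3 q14550 L222459 q18362, e3 q14551 (flp_b L193639) q14650, e3 q14552 L222485 q18365, e3 q14553 L222501 q18367, e3 q14554 (flp_b L193039) q10198, e3 q14555 L222507 q18370, e3 q14556 L222509 q18371, e3 q14557 L222908 q18372, e3 q14558 (flp_b L193067) q10201, e3 q14559 (flp_b L193071) q10202, e3 q14560 (flp_b L193079) q13403, e3 q14561 (flp_b L193081) q10204, e3 q14562 L216621 q17637, e3 q14563 L193093 q14547, e3 q14564 L202326 q15861, e3 q14565 (flp_b L216577) q17634, e3 q14566 (flp_b L193103) q10209, e3 q14567 (flp_b L193109) q10210, e3 q14568 L223014 q18385, e3 q14569 (flp_b L203637) q16049, e3 q14570 L223036 q18390, e3 q14571 L223052 q18392, e3 q14572 L223062 q18393, e3 q14573 L193147 q13401, e3 q14574 (flp_b L215151) q17463, e3 q14575 (flp_b L193153) q10214, e3 q14576 (flp_b L223090) q18398, e3 q14577 (flp_b L216952) q17679, e3 q14578 L223102 q18402, e3 q14579 (flp_b L203625) q16046, e3 q14580 (flp_b L227413) q15456, e3 q14581 (flp_b L193181) q10217, e3 q14582 L223133 q18406, e3 q14583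 (flp_b L193193) q10218, e3 q14584 (flp_b L216591) q17635, e3 q14585 L193215 q13284, e3 q14586 L193223 q14528, e3 q14587 L193229 q14477, e3 q14588 L223175 q18412, e3 q14589 (flp_b L193243) q10223, e3 q14590 (flp_b L193251) q10224, e3 q14591 (flp_b L210511) q16879, trivial⟩ (by decide +kernel)

theorem ce_b_228 : ∀ r, r < 64 → sm gb (Qf (14592 + r)) = Qf (tab Gen.b (14592 + r)) :=
  edges_tab (sm gb) Qf (tab Gen.b) 14592 [(14592, 18132), (14593, 18418), (14594, 17712), (14595, 18419), (14596, 17109), (14597, 10226), (14598, 18422), (14599, 14613), (14600, 14676), (14601, 18424), (14602, 14679), (14603, 18427), (14604, 10232), (14605, 18431), (14606, 18432), (14607, 18433), (14608, 18434), (14609, 10236), (14610, 10237), (14611, 10238), (14612, 17709), (14613, 14599), (14614, 13455), (14615, 17706), (14616, 15627), (14617, 10244), (14618, 10245), (14619, 18447), (14620, 16125), (14621, 18452), (14622, 18454), (14623, 18455), (14624, 17438), (14625, 13453), (14626, 10249), (14627, 17747), (14628, 16122), (14629, 15352),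 (14630, 10252), (14631, 18464), (14632, 10253), (14633, 17707), (14634, 13345), (14635, 14479), (14636, 14526), (14637, 16859), (14638, 10259), (14639, 14309), (14640, 18021), (14641, 18472), (14642, 18180), (14643, 10261), (14644, 10262), (14645, 15548), (14646, 14662), (14647, 14549), (14648, 16912), (14649, 18480), (14650, 14551), (14651, 18482), (14652, 18485), (14653, 10267), (14654, 18487), (14655, 10268)]
    ⟨e3 q14592 (flp_b L220678) q18132, e3 q14593 L223231 q18418, e3 q14594 (flp_b L217220) q17712, e3 q14595 L223233 q18419, e3 q14596 (flp_b L212261) q17109, e3 q14597 (flp_b L193295) q10226, e3 q14598 L223253 q18422, e3 q14599 (flp_b L193403) q14613, e3 q14600 (flp_b L193833) q14676, e3 q14601 L223273 q18424, e3 q14602 (flp_b L193855) q14679, e3 q14603 L223299 q18427, e3 q14604 (flp_b L193347) q10232, e3 q14605 L223319 q18431, e3 q14606 L223321 q18432, e3 q14607 L223323 q18433, e3 q14608 L223329 q18434, e3 q14609 (flp_b L193383) q10236, e3 q14610 (flp_b L193387) q10237, e3 q14611 (flp_b L193391) q10238,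 e3 q14612 L217194 q17709, e3 q14613 L193403 q14599, e3 q14614 (flp_b L193409) q13455, e3 q14615 (flp_b L217150) q17706, e3 q14616 L200685 q15627, e3 q14617 (flp_b L193419) q10244, e3 q14618 (flp_b L193425) q10245, e3 q14619 L223441 q18447, e3 q14620 (flp_b L204141) q16125, e3 q14621 L223471 q18452, e3 q14622 L223489 q18454, e3 q14623 L223499 q18455, e3 q14624 (flp_b L214912) q17438, e3 q14625 L193467 q13453, e3 q14626 (flp_b L193469) q10249, e3 q14627 (flp_b L217508) q17747, e3 q14628 (flp_b L204129) q16122, e3 q14629 (flp_b L222204) q15352, e3 q14630 (flp_b L193485) q10252, e3 q14631 L223543 q18464, e3 q14632 (flp_b L193497) q10253, e3 q14633 (flp_b L217164) q17707, e3 q14634 L193519 q13345, e3 q14635 L193527 q14479, e3 q14636 L193533 q14526, e3 q14637 (flp_b L210323) q16859, e3 q14638 (flp_b L193547) q10259, e3 q14639 L193563 q14309, e3 q14640 (flp_b L219838) q18021, e3 q14641 L223607 q18472, e3 q14642 (flp_b L221062) q18180, e3 q14643 (flp_b L193589) q10261, e3 q14644 (flp_b L193599) q10262, e3 q14645 (flp_b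 L200119) q15548, e3 q14646 (flp_b L193723) q14662, e3 q14647 L193621 q14549, e3 q14648 (flp_b L210783) q16912, e3 q14649 L223675 q18480, e3 q14650 L193639 q14551, e3 q14651 (flp_b L223699) q18482, e3 q14652 L223721 q18485, e3 q14653 (flp_b L193655) q10267, e3 q14654 L223739 q18487, e3 q14655 (flp_b L193669) q10268, trivial⟩ (by decide +kernel)

theorem ce_b_229 : ∀ r, r < 64 → sm gb (Qf (14656 + r)) = Qf (tab Gen.b (14656 + r)) :=
  edges_tab (sm gb) Qf (tab Gen.b) 14656 [(14656, 18490), (14657, 15490), (14658, 18491), (14659, 10271), (14660, 10272), (14661, 17437), (14662, 14646), (14663, 13799), (14664, 11316), (14665, 14294), (14666, 16868), (14667, 10277), (14668, 14364), (14669, 18500), (14670, 18051), (14671, 18128), (14672, 10279), (14673, 10280), (14674, 15787), (14675, 14694), (14676, 14600), (14677, 18507), (14678, 16924), (14679, 14602), (14680, 18512), (14681, 18510), (14682, 10285), (14683, 18517), (14684, 10286), (14685, 18518), (14686, 18519), (14687, 15386), (14688, 10289), (14689, 10290), (14690,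 13848), (14691, 11475), (14692, 14348), (14693, 17462), (14694, 14675), (14695, 12958), (14696, 14794), (14697, 13035), (14698, 14826), (14699, 14119), (14700, 14067), (14701, 17414), (14702, 10302), (14703, 18528), (14704, 10304), (14705, 16264), (14706, 11989), (14707, 14800), (14708, 14750), (14709, 12725), (14710, 10319), (14711, 17836), (14712, 14719), (14713, 10325), (14714, 10329), (14715, 12027), (14716, 10330), (14717, 13700), (14718, 10336), (14719, 14712)]
    ⟨e3 q14656 L223751 q18490, e3 q14657 L202705 q15490, e3 q14658 L223753 q18491, e3 q14659 (flp_b L193701) q10271, e3 q14660 (flp_b L193707) q10272, e3 q14661 (flp_b L214908) q17437, e3 q14662 L193723 q14646, e3 q14663 (flp_b L193731) q13799, e3 q14664 L193739 q11316, e3 q14665 L193745 q14294, e3 q14666 (flp_b L210411) q16868, e3 q14667 (flp_b L193759) q10277, e3 q14668 L193775 q14364, e3 q14669 L223889 q18500, e3 q14670 (flp_b L220060) q18051, e3 q14671 (flp_b L220648) q18128, e3 q14672 (flp_b L193801) q10279, e3 q14673 (flp_b L193805) q10280, e3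 q14674 L201780 q15787, e3 q14675 (flp_b L193961) q14694, e3 q14676 L193833 q14600, e3 q14677 L223947 q18507, e3 q14678 (flp_b L210867) q16924, e3 q14679 L193855 q14602, e3 q14680 L223995 q18512, e3 q14681 (flp_b L223981) q18510, e3 q14682 (flp_b L193871) q10285, e3 q14683 L224031 q18517, e3 q14684 (flp_b L193883) q10286, e3 q14685 L224033 q18518, e3 q14686 L224035 q18519, e3 q14687 L201058 q15386, e3 q14688 (flp_b L193917) q10289, e3 q14689 (flp_b L193923) q10290, e3 q14690 (flp_b L193935) q13848, e3 q14691 L193943 q11475, e3 q14692 L193949 q14348, e3 q14693 (flp_b L215147) q17462, e3 q14694 L193961 q14675, e3 q14695 L193965 q12958, e3 q14696 (flp_b L194871) q14794, e3 q14697 L193983 q13035, e3 q14698 (flp_b L195157) q14826, e3 q14699 L194009 q14119, e3 q14700 L194021 q14067, e3 q14701 (flp_b L214671) q17414, e3 q14702 (flp_b L194033) q10302, e3 q14703 L224119 q18528, e3 q14704 (flp_b L194049) q10304, e3 q14705 (flp_b L205185) q16264, e3 q14706 L194071 q11989, e3 q14707 (flp_b L194937) q14800, e3 q14708 (flp_b L194460)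 q14750, e3 q14709 (flp_b L194095) q12725, e3 q14710 (flp_b L194097) q10319, e3 q14711 (flp_b L218252) q17836, e3 q14712 (flp_b L194183) q14719, e3 q14713 (flp_b L194123) q10325, e3 q14714 (flp_b L194137) q10329, e3 q14715 (flp_b L194153) q12027, e3 q14716 (flp_b L194155) q10330, e3 q14717 L194173 q13700, e3 q14718 (flp_b L194175) q10336, e3 q14719 L194183 q14712, trivial⟩ (by decide +kernel)

theorem ce_b_230 : ∀ r, r < 64 → sm gb (Qf (14720 + r)) = Qf (tab Gen.b (14720 + r)) :=
  edges_tab (sm gb) Qf (tab Gen.b) 14720 [(14720, 17428), (14721, 10339), (14722, 18530), (14723, 10341), (14724, 16421), (14725, 12185), (14726, 14832), (14727, 14771), (14728, 12732), (14729, 10356), (14730, 17846), (14731, 14738), (14732, 10362), (14733, 10364), (14734, 12210), (14735, 10366), (14736, 13697), (14737, 10371), (14738, 14731), (14739, 14739), (14740, 16943), (14741, 16308), (14742, 12489), (14743, 18534), (14744, 16539), (14745, 10468), (14746, 10848), (14747, 16034), (14748, 10388), (14749, 18170), (14750, 14708), (14751,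 10391), (14752, 14841), (14753, 14139), (14754, 10573), (14755, 17926), (14756, 12345), (14757, 10402), (14758, 16495), (14759, 10403), (14760, 14760), (14761, 16958), (14762, 16457), (14763, 12453), (14764, 18538), (14765, 16574), (14766, 10518), (14767, 10851), (14768, 16108), (14769, 10422), (14770, 18116), (14771, 14727), (14772, 10425), (14773, 14813), (14774, 14149), (14775, 10624), (14776, 17929), (14777, 12392), (14778, 10436), (14779, 16355), (14780, 10437), (14781, 16772), (14782, 10445), (14783, 10448)]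
    ⟨e3 q14720 (flp_b L214819) q17428, e3 q14721 (flp_b L194195) q10339, e3 q14722 L224137 q18530, e3 q14723 (flp_b L194211) q10341, e3 q14724 (flp_b L206536) q16421, e3 q14725 L194233 q12185, e3 q14726 (flp_b L195223) q14832, e3 q14727 (flp_b L194653) q14771, e3 q14728 (flp_b L194257) q12732, e3 q14729 (flp_b L194259) q10356, e3 q14730 (flp_b L218354) q17846, e3 q14731 (flp_b L194355) q14738, e3 q14732 (flp_b L194285) q10362, e3 q14733 (flp_b L194309) q10364, e3 q14734 (flp_b L194325) q12210, e3 q14735 (flp_b L194327) q10366, e3 q14736 L194345 q13697, e3 q14737 (flp_b L194347) q10371, e3 q14738 L194355 q14731, e3 q14739 L194363 q14739, e3 q14740 L210989 q16943, e3 q14741 (flp_b L205605) q16308, e3 q14742 L194384 q12489, e3 q14743 L224177 q18534, e3 q14744 (flp_b L207575) q16539, e3 q14745 L194414 q10468, e3 q14746 L194420 q10848, e3 q14747 (flp_b L203545) q16034, e3 q14748 (flp_b L194438) q10388, e3 q14749 (flp_b L220958) q18170, e3 q14750 L194460 q14708, e3 q14751 (flp_b L194462) q10391, e3 q14752 (flp_b L195289)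 q14841, e3 q14753 (flp_b L194486) q14139, e3 q14754 L194492 q10573, e3 q14755 (flp_b L219102) q17926, e3 q14756 L194522 q12345, e3 q14757 (flp_b L194524) q10402, e3 q14758 (flp_b L207193) q16495, e3 q14759 (flp_b L194542) q10403, e3 q14760 L194556 q14760, e3 q14761 L211097 q16958, e3 q14762 (flp_b L206880) q16457, e3 q14763 L194577 q12453, e3 q14764 L224223 q18538, e3 q14765 (flp_b L207860) q16574, e3 q14766 L194607 q10518, e3 q14767 L194613 q10851, e3 q14768 (flp_b L204025) q16108, e3 q14769 (flp_b L194631) q10422, e3 q14770 (flp_b L220528) q18116, e3 q14771 L194653 q14727, e3 q14772 (flp_b L194655) q10425, e3 q14773 (flp_b L195043) q14813, e3 q14774 L194679 q14149, e3 q14775 L194685 q10624, e3 q14776 (flp_b L219132) q17929, e3 q14777 L194715 q12392, e3 q14778 (flp_b L194717) q10436, e3 q14779 (flp_b L205976) q16355, e3 q14780 (flp_b L194735) q10437, e3 q14781 (flp_b L209623) q16772, e3 q14782 (flp_b L194755) q10445, e3 q14783 (flp_b L194763) q10448, trivial⟩ (by decide +kernel)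

theorem ce_b_231 : ∀ r, r < 64 → sm gb (Qf (14784 + r)) = Qf (tab Gen.b (14784 + r)) :=
  edges_tab (sm gb) Qf (tab Gen.b) 14784 [(14784, 14175), (14785, 10452), (14786, 17045), (14787, 17938), (14788, 10454), (14789, 12773), (14790, 13319), (14791, 12784), (14792, 12028), (14793, 10463), (14794, 14696), (14795, 13296), (14796, 16322), (14797, 13292), (14798, 16455), (14799, 13299), (14800, 14707), (14801, 16191), (14802, 12710), (14803, 10480), (14804, 12625), (14805, 17118), (14806, 17050), (14807, 10479), (14808, 18546), (14809, 10481), (14810, 12211), (14811, 12759), (14812, 13614), (14813, 14773), (14814, 14152), (14815, 16777), (14816, 10494), (14817, 10497), (14818, 14154), (14819, 17135), (14820, 17948), (14821, 10503), (14822, 10504), (14823, 13374), (14824, 12798), (14825, 10513), (14826, 14698), (14827, 13355), (14828, 13352), (14829, 16372), (14830, 16306), (14831, 13359), (14832, 14726), (14833, 16188), (14834, 12682), (14835, 10529), (14836, 12636), (14837, 17027), (14838, 17030), (14839, 18553),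 (14840, 13610), (14841, 14752), (14842, 14143), (14843, 14179), (14844, 12503), (14845, 13075), (14846, 10607), (14847, 10550)]
    ⟨e3 q14784 (flp_b L194787) q14175, e3 q14785 (flp_b L194789) q10452, e3 q14786 L211781 q17045, e3 q14787 (flp_b L219216) q17938, e3 q14788 (flp_b L194815) q10454, e3 q14789 L194823 q12773, e3 q14790 L194835 q13319, e3 q14791 L194845 q12784, e3 q14792 L194859 q12028, e3 q14793 (flp_b L194861) q10463, e3 q14794 L194871 q14696, e3 q14795 L194885 q13296, e3 q14796 (flp_b L205731) q16322, e3 q14797 L194903 q13292, e3 q14798 (flp_b L206861) q16455, e3 q14799 L194925 q13299, e3 q14800 L194937 q14707, e3 q14801 (flp_b L204585) q16191, e3 q14802 L194957 q12710, e3 q14803 L194961 q10480, e3 q14804 L194977 q12625, e3 q14805 L212329 q17118, e3 q14806 (flp_b L211823) q17050, e3 q14807 (flp_b L194987) q10479, e3 q14808 L224305 q18546, e3 q14809 (flp_b L195001) q10481, e3 q14810 L195013 q12211, e3 q14811 L195031 q12759, e3 q14812 L195039 q13614, e3 q14813 L195043 q14773, e3 q14814 L195051 q14152,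 e3 q14815 (flp_b L209681) q16777, e3 q14816 (flp_b L195065) q10494, e3 q14817 (flp_b L195073) q10497, e3 q14818 L195097 q14154, e3 q14819 L212437 q17135, e3 q14820 (flp_b L219320) q17948, e3 q14821 (flp_b L195119) q10503, e3 q14822 (flp_b L195123) q10504, e3 q14823 L195137 q13374, e3 q14824 L195143 q12798, e3 q14825 (flp_b L195147) q10513, e3 q14826 L195157 q14698, e3 q14827 L195171 q13355, e3 q14828 L195181 q13352, e3 q14829 (flp_b L206126) q16372, e3 q14830 (flp_b L205586) q16306, e3 q14831 L195211 q13359, e3 q14832 L195223 q14726, e3 q14833 (flp_b L204559) q16188, e3 q14834 L195243 q12682, e3 q14835 L195247 q10529, e3 q14836 L195263 q12636, e3 q14837 L211661 q17027, e3 q14838 (flp_b L211689) q17030, e3 q14839 L224361 q18553, e3 q14840 L195285 q13610, e3 q14841 L195289 q14752, e3 q14842 L195297 q14143, e3 q14843 L195309 q14179, e3 q14844 L195315 q12503, e3 q14845 L195332 q13075, e3 q14846 L195346 q10607, e3 q14847 (flp_b L195348) q10550, trivial⟩ (by decide +kernel)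

theorem ce_b_232 : ∀ r, r < 64 → sm gb (Qf (14848 + r)) = Qf (tab Gen.b (14848 + r)) :=
  edges_tab (sm gb) Qf (tab Gen.b) 14848 [(14848, 10551), (14849, 13381), (14850, 18557), (14851, 12123), (14852, 10563), (14853, 18558), (14854, 13276), (14855, 10663), (14856, 13280), (14857, 10565), (14858, 10668), (14859, 12372), (14860, 12933), (14861, 17445), (14862, 10584), (14863, 12199), (14864, 12639), (14865, 10750), (14866, 10580), (14867, 13473), (14868, 18564), (14869, 16480), (14870, 12443), (14871, 13953), (14872, 10629), (14873, 10589), (14874, 10711), (14875, 10591), (14876, 10793), (14877, 14158), (14878, 12504), (14879, 13001), (14880, 10604), (14881, 13327), (14882, 18571), (14883, 11917), (14884, 10615), (14885, 18572), (14886, 13263), (14887, 10745), (14888, 13268), (14889, 10617), (14890, 12412), (14891, 12950), (14892, 17470), (14893, 10633), (14894, 12013), (14895, 12628), (14896, 13421), (14897, 18569), (14898, 16339), (14899, 12479), (14900, 13974), (14901, 16182), (14902, 10638), (14903, 10640),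 (14904, 10643), (14905, 17435), (14906, 13594), (14907, 10655), (14908, 16525), (14909, 14914), (14910, 10660), (14911, 16741)]
    ⟨e3 q14848 (flp_b L195360) q10551, e3 q14849 L195380 q13381, e3 q14850 L224395 q18557, e3 q14851 L195404 q12123, e3 q14852 (flp_b L195406) q10563, e3 q14853 (flp_b L224411) q18558, e3 q14854 L195422 q13276, e3 q14855 L195428 q10663, e3 q14856 L195436 q13280, e3 q14857 (flp_b L195438) q10565, e3 q14858 L195454 q10668, e3 q14859 L195464 q12372, e3 q14860 L195468 q12933, e3 q14861 (flp_b L214996) q17445, e3 q14862 L195480 q10584, e3 q14863 L195488 q12199, e3 q14864 L195498 q12639, e3 q14865 L195510 q10750, e3 q14866 (flp_b L195512) q10580, e3 q14867 L195526 q13473, e3 q14868 (flp_b L224455) q18564, e3 q14869 (flp_b L207081) q16480, e3 q14870 L195550 q12443, e3 q14871 L195560 q13953, e3 q14872 L195566 q10629, e3 q14873 L195576 q10589, e3 q14874 L195588 q10711, e3 q14875 L195594 q10591, e3 q14876 L195606 q10793, e3 q14877 L195620 q14158, e3 q14878 L195626 q12504, e3 q14879 L195643 q13001,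 e3 q14880 (flp_b L195645) q10604, e3 q14881 L195665 q13327, e3 q14882 L224517 q18571, e3 q14883 L195689 q11917, e3 q14884 (flp_b L195691) q10615, e3 q14885 (flp_b L224533) q18572, e3 q14886 L195707 q13263, e3 q14887 L195713 q10745, e3 q14888 L195723 q13268, e3 q14889 (flp_b L195725) q10617, e3 q14890 L195743 q12412, e3 q14891 L195747 q12950, e3 q14892 (flp_b L215237) q17470, e3 q14893 L195759 q10633, e3 q14894 L195769 q12013, e3 q14895 L195777 q12628, e3 q14896 L195783 q13421, e3 q14897 (flp_b L224499) q18569, e3 q14898 (flp_b L205866) q16339, e3 q14899 L195807 q12479, e3 q14900 L195817 q13974, e3 q14901 L204500 q16182, e3 q14902 (flp_b L195829) q10638, e3 q14903 (flp_b L195836) q10640, e3 q14904 (flp_b L195844) q10643, e3 q14905 (flp_b L214888) q17435, e3 q14906 L195874 q13594, e3 q14907 (flp_b L195876) q10655, e3 q14908 (flp_b L207443) q16525, e3 q14909 (flp_b L195946) q14914, e3 q14910 (flp_b L195900) q10660, e3 q14911 (flp_b L209335) q16741, trivial⟩ (by decide +kernel)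

theorem ce_b_233 : ∀ r, r < 64 → sm gb (Qf (14912 + r)) = Qf (tab Gen.b (14912 + r)) :=
  edges_tab (sm gb) Qf (tab Gen.b) 14912 [(14912, 14007), (14913, 12746), (14914, 14909), (14915, 13972), (14916, 10679), (14917, 18585), (14918, 10673), (14919, 10674), (14920, 10675), (14921, 10676), (14922, 13588), (14923, 13548), (14924, 10687), (14925, 10816), (14926, 10696), (14927, 18587), (14928, 10700), (14929, 10701), (14930, 13533), (14931, 10707), (14932, 14014), (14933, 18590), (14934, 18588), (14935, 17474), (14936, 10708), (14937, 10709), (14938, 15868), (14939, 10714), (14940, 16078), (14941, 10717), (14942, 14993), (14943, 14378), (14944, 14992), (14945, 14990), (14946, 18592), (14947, 10722), (14948, 10723), (14949, 16184), (14950, 10725), (14951, 10727), (14952, 10728), (14953, 17458), (14954, 13572), (14955, 10739), (14956, 16418), (14957, 10742), (14958, 16743), (14959, 13988), (14960, 12737), (14961, 14964), (14962, 13951), (14963, 10763), (14964, 14961), (14965, 18596), (14966, 10757), (14967, 10758),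 (14968, 10759), (14969, 10760), (14970, 13563), (14971, 13579), (14972, 10771), (14973, 10837), (14974, 10780), (14975, 18586)]
    ⟨e3 q14912 (flp_b L195924) q14007, e3 q14913 L195936 q12746, e3 q14914 L195946 q14909, e3 q14915 L195950 q13972, e3 q14916 L195964 q10679, e3 q14917 L224635 q18585, e3 q14918 (flp_b L195976) q10673, e3 q14919 (flp_b L195980) q10674, e3 q14920 (flp_b L195994) q10675, e3 q14921 (flp_b L196001) q10676, e3 q14922 L196025 q13588, e3 q14923 L196041 q13548, e3 q14924 L196045 q10687, e3 q14925 L196057 q10816, e3 q14926 (flp_b L196059) q10696, e3 q14927 L224662 q18587, e3 q14928 L196083 q10700, e3 q14929 (flp_b L196087) q10701, e3 q14930 L196105 q13533, e3 q14931 L196109 q10707, e3 q14932 L196139 q14014, e3 q14933 L224690 q18590, e3 q14934 (flp_b L224678) q18588, e3 q14935 (flp_b L215271) q17474, e3 q14936 (flp_b L196133) q10708, e3 q14937 (flp_b L196141) q10709, e3 q14938 L202386 q15868, e3 q14939 (flp_b L196148) q10714, e3 q14940 (flp_b L203844) q16078, e3 q14941 L196163 q10717, e3 q14942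 (flp_b L196626) q14993, e3 q14943 (flp_b L196185) q14378, e3 q14944 (flp_b L196614) q14992, e3 q14945 (flp_b L196598) q14990, e3 q14946 L224698 q18592, e3 q14947 (flp_b L196213) q10722, e3 q14948 (flp_b L196216) q10723, e3 q14949 (flp_b L204521) q16184, e3 q14950 (flp_b L196236) q10725, e3 q14951 (flp_b L196245) q10727, e3 q14952 (flp_b L196253) q10728, e3 q14953 (flp_b L215112) q17458, e3 q14954 L196283 q13572, e3 q14955 (flp_b L196285) q10739, e3 q14956 (flp_b L206506) q16418, e3 q14957 (flp_b L196301) q10742, e3 q14958 (flp_b L209353) q16743, e3 q14959 (flp_b L196325) q13988, e3 q14960 L196337 q12737, e3 q14961 (flp_b L196375) q14964, e3 q14962 L196349 q13951, e3 q14963 L196363 q10763, e3 q14964 L196375 q14961, e3 q14965 L224739 q18596, e3 q14966 (flp_b L196387) q10757, e3 q14967 (flp_b L196393) q10758, e3 q14968 (flp_b L196407) q10759, e3 q14969 (flp_b L196414) q10760, e3 q14970 L196438 q13563, e3 q14971 L196454 q13579, e3 q14972 L196458 q10771, e3 q14973 L196470 q10837, e3 q14974 (flp_b L196472) q10780, e3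 q14975 (flp_b L224660) q18586, trivial⟩ (by decide +kernel)

theorem ce_b_234 : ∀ r, r < 64 → sm gb (Qf (14976 + r)) = Qf (tab Gen.b (14976 + r)) :=
  edges_tab (sm gb) Qf (tab Gen.b) 14976 [(14976, 10784), (14977, 10785), (14978, 13509), (14979, 10789), (14980, 18599), (14981, 13995), (14982, 18597), (14983, 17449), (14984, 10790), (14985, 10791), (14986, 15634), (14987, 10795), (14988, 16002), (14989, 10798), (14990, 14945), (14991, 14323), (14992, 14944), (14993, 14942), (14994, 18601), (14995, 10803), (14996, 10804), (14997, 10805), (14998, 15012), (14999, 10808), (15000, 15005), (15001, 10821), (15002, 15015), (15003, 10812), (15004, 10824), (15005, 15000), (15006, 18602), (15007, 13678), (15008, 13558), (15009, 18604), (15010, 14159), (15011, 10826), (15012, 14998), (15013, 10829), (15014, 10842), (15015, 15002), (15016, 10834), (15017, 10845), (15018, 18608), (15019, 13687), (15020, 13584), (15021, 18609), (15022, 14180), (15023, 14290), (15024, 12962), (15025, 18613), (15026, 10849), (15027, 14346), (15028,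 13039), (15029, 18615), (15030, 10852), (15031, 10887), (15032, 10894), (15033, 18001), (15034, 10868), (15035, 18617), (15036, 18619), (15037, 16893), (15038, 18622), (15039, 10870)]
    ⟨e3 q14976 L196496 q10784, e3 q14977 (flp_b L196500) q10785, e3 q14978 L196520 q13509, e3 q14979 L196526 q10789, e3 q14980 L224766 q18599, e3 q14981 L208819 q13995, e3 q14982 (flp_b L224754) q18597, e3 q14983 (flp_b L215028) q17449, e3 q14984 (flp_b L196554) q10790, e3 q14985 (flp_b L196559) q10791, e3 q14986 L200745 q15634, e3 q14987 (flp_b L196567) q10795, e3 q14988 (flp_b L203344) q16002, e3 q14989 L196582 q10798, e3 q14990 L196598 q14945, e3 q14991 (flp_b L196606) q14323, e3 q14992 L196614 q14944, e3 q14993 L196626 q14942, e3 q14994 L224776 q18601, e3 q14995 (flp_b L196638) q10803, e3 q14996 (flp_b L196641) q10804, e3 q14997 (flp_b L196653) q10805, e3 q14998 (flp_b L196783) q15012, e3 q14999 (flp_b L196671) q10808, e3 q15000 (flp_b L196725) q15005, e3 q15001 L196687 q10821, e3 q15002 (flp_b L196809) q15015, e3 q15003 (flp_b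 L196701) q10812, e3 q15004 L196715 q10824, e3 q15005 L196725 q15000, e3 q15006 (flp_b L224795) q18602, e3 q15007 L196739 q13678, e3 q15008 L196749 q13558, e3 q15009 (flp_b L224815) q18604, e3 q15010 L196761 q14159, e3 q15011 (flp_b L196765) q10826, e3 q15012 L196783 q14998, e3 q15013 (flp_b L196785) q10829, e3 q15014 L196795 q10842, e3 q15015 L196809 q15002, e3 q15016 (flp_b L196811) q10834, e3 q15017 L196825 q10845, e3 q15018 (flp_b L224857) q18608, e3 q15019 L196841 q13687, e3 q15020 L196851 q13584, e3 q15021 (flp_b L224863) q18609, e3 q15022 (flp_b L196863) q14180, e3 q15023 L196871 q14290, e3 q15024 L196875 q12962, e3 q15025 L224889 q18613, e3 q15026 (flp_b L196883) q10849, e3 q15027 L196897 q14346, e3 q15028 L196901 q13039, e3 q15029 L224909 q18615, e3 q15030 (flp_b L196909) q10852, e3 q15031 L196921 q10887, e3 q15032 L196925 q10894, e3 q15033 (flp_b L219720) q18001, e3 q15034 (flp_b L196935) q10868, e3 q15035 (flp_b L224931) q18617, e3 q15036 L224945 q18619, e3 q15037 (flp_b L210623) q16893, e3 q15038 L224977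 q18622, e3 q15039 (flp_b L196971) q10870, trivial⟩ (by decide +kernel)

theorem ce_b_235 : ∀ r, r < 64 → sm gb (Qf (15040 + r)) = Qf (tab Gen.b (15040 + r)) :=
  edges_tab (sm gb) Qf (tab Gen.b) 15040 [(15040, 18624), (15041, 18627), (15042, 12888), (15043, 11115), (15044, 11103), (15045, 18006), (15046, 10876), (15047, 18632), (15048, 18634), (15049, 16904), (15050, 18637), (15051, 10878), (15052, 18639), (15053, 18642), (15054, 12876), (15055, 11185), (15056, 11173), (15057, 15533), (15058, 18282), (15059, 18648), (15060, 17018), (15061, 16031), (15062, 15777), (15063, 18339), (15064, 18654), (15065, 17108), (15066, 16106), (15067, 15067), (15068, 10901), (15069, 10903), (15070, 16873), (15071, 10919), (15072, 16877), (15073, 16880), (15074, 10915), (15075, 16884), (15076, 18660), (15077, 18658), (15078, 14441), (15079, 18667), (15080, 10928), (15081, 18669), (15082, 10917), (15083, 14490), (15084, 18672), (15085, 10938), (15086, 18674), (15087, 10921), (15088, 13790), (15089, 18677), (15090, 10925), (15091, 18680),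 (15092, 18681), (15093, 10929), (15094, 18652), (15095, 18685), (15096, 18035), (15097, 10931), (15098, 13840), (15099, 18688), (15100, 10935), (15101, 18691), (15102, 18692), (15103, 10939)]
    ⟨e3 q15040 (flp_b L224987) q18624, e3 q15041 L225001 q18627, e3 q15042 L196985 q12888, e3 q15043 (flp_b L196993) q11115, e3 q15044 L197003 q11103, e3 q15045 (flp_b L219748) q18006, e3 q15046 (flp_b L197013) q10876, e3 q15047 (flp_b L225039) q18632, e3 q15048 L225053 q18634, e3 q15049 (flp_b L210719) q16904, e3 q15050 L225085 q18637, e3 q15051 (flp_b L197049) q10878, e3 q15052 (flp_b L225095) q18639, e3 q15053 L225109 q18642, e3 q15054 L197063 q12876, e3 q15055 (flp_b L197071) q11185, e3 q15056 L197081 q11173, e3 q15057 L200013 q15533, e3 q15058 L221776 q18282, e3 q15059 L225159 q18648, e3 q15060 L211593 q17018, e3 q15061 L203515 q16031, e3 q15062 L201712 q15777, e3 q15063 L222253 q18339, e3 q15064 L225201 q18654, e3 q15065 L212249 q17108, e3 q15066 L204011 q16106, e3 q15067 L197133 q15067, e3 q15068 (flp_b L197135) q10901,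 e3 q15069 (flp_b L197141) q10903, e3 q15070 (flp_b L210465) q16873, e3 q15071 L197595 q10919, e3 q15072 (flp_b L210493) q16877, e3 q15073 (flp_b L210519) q16880, e3 q15074 L197600 q10915, e3 q15075 (flp_b L210547) q16884, e3 q15076 (flp_b L225240) q18660, e3 q15077 L225227 q18658, e3 q15078 L197197 q14441, e3 q15079 L225269 q18667, e3 q15080 L197212 q10928, e3 q15081 L225277 q18669, e3 q15082 (flp_b L197220) q10917, e3 q15083 L197230 q14490, e3 q15084 L225297 q18672, e3 q15085 L197245 q10938, e3 q15086 L225305 q18674, e3 q15087 (flp_b L197253) q10921, e3 q15088 L197265 q13790, e3 q15089 L225331 q18677, e3 q15090 (flp_b L197279) q10925, e3 q15091 L225347 q18680, e3 q15092 L225349 q18681, e3 q15093 (flp_b L197291) q10929, e3 q15094 (flp_b L225185) q18652, e3 q15095 L225363 q18685, e3 q15096 L219938 q18035, e3 q15097 (flp_b L197307) q10931, e3 q15098 L197315 q13840, e3 q15099 L225385 q18688, e3 q15100 (flp_b L197329) q10935, e3 q15101 L225401 q18691, e3 q15102 L225403 q18692, e3 q15103 (flp_b L197341) q10939, trivial⟩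 (by decide +kernel)

theorem ce_b_236 : ∀ r, r < 64 → sm gb (Qf (15104 + r)) = Qf (tab Gen.b (15104 + r)) :=
  edges_tab (sm gb) Qf (tab Gen.b) 15104 [(15104, 18646), (15105, 18696), (15106, 18064), (15107, 10941), (15108, 18698), (15109, 10944), (15110, 10946), (15111, 18700), (15112, 18701), (15113, 10948), (15114, 16370), (15115, 10949), (15116, 16572), (15117, 18703), (15118, 15623), (15119, 10951), (15120, 18705), (15121, 10956), (15122, 10958), (15123, 18707), (15124, 18708), (15125, 10960), (15126, 16503), (15127, 10961), (15128, 16537), (15129, 18710), (15130, 15857), (15131, 10963), (15132, 10966), (15133, 10967), (15134, 12960), (15135, 15142), (15136, 18718), (15137, 10971), (15138, 18721), (15139, 18725), (15140, 10997), (15141, 13036), (15142, 15135), (15143, 18729), (15144, 10976), (15145, 18732), (15146, 18736), (15147, 11021), (15148, 18738), (15149, 10979), (15150, 18741), (15151, 10982), (15152, 10984), (15153, 18743), (15154, 10989), (15155, 17755), (15156, 10992), (15157, 10988), (15158, 18746),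 (15159, 18750), (15160, 18259), (15161, 18754), (15162, 10990), (15163, 10991), (15164, 18760), (15165, 17990), (15166, 10994), (15167, 18765)]
    ⟨e3 q15104 (flp_b L225143) q18646, e3 q15105 L225417 q18696, e3 q15106 L220152 q18064, e3 q15107 (flp_b L197357) q10941, e3 q15108 L225429 q18698, e3 q15109 (flp_b L197373) q10944, e3 q15110 L197387 q10946, e3 q15111 (flp_b L225453) q18700, e3 q15112 L225459 q18701, e3 q15113 (flp_b L197407) q10948, e3 q15114 (flp_b L206108) q16370, e3 q15115 (flp_b L197421) q10949, e3 q15116 (flp_b L207840) q16572, e3 q15117 (flp_b L225485) q18703, e3 q15118 (flp_b L200653) q15623, e3 q15119 (flp_b L197455) q10951, e3 q15120 L225492 q18705, e3 q15121 (flp_b L197473) q10956, e3 q15122 L197487 q10958, e3 q15123 (flp_b L225516) q18707, e3 q15124 L225522 q18708, e3 q15125 (flp_b L197507) q10960, e3 q15126 (flp_b L207253) q16503, e3 q15127 (flp_b L197521) q10961, e3 q15128 (flp_b L207555) q16537, e3 q15129 (flp_b L225548) q18710, e3 q15130 (flp_b L202294) q15857, e3 q15131 (flp_b L197555)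 q10963, e3 q15132 (flp_b L197561) q10966, e3 q15133 (flp_b L197568) q10967, e3 q15134 L197579 q12960, e3 q15135 (flp_b L197649) q15142, e3 q15136 L225607 q18718, e3 q15137 (flp_b L197607) q10971, e3 q15138 (flp_b L225623) q18721, e3 q15139 L225665 q18725, e3 q15140 L197629 q10997, e3 q15141 L197635 q13036, e3 q15142 L197649 q15135, e3 q15143 L225707 q18729, e3 q15144 (flp_b L197655) q10976, e3 q15145 (flp_b L225743) q18732, e3 q15146 L225765 q18736, e3 q15147 L197677 q11021, e3 q15148 L225781 q18738, e3 q15149 (flp_b L197687) q10979, e3 q15150 L225797 q18741, e3 q15151 (flp_b L197703) q10982, e3 q15152 (flp_b L197707) q10984, e3 q15153 L225807 q18743, e3 q15154 L197727 q10989, e3 q15155 (flp_b L217564) q17755, e3 q15156 L197745 q10992, e3 q15157 (flp_b L197747) q10988, e3 q15158 (flp_b L225833) q18746, e3 q15159 L225851 q18750, e3 q15160 L221632 q18259, e3 q15161 L225873 q18754, e3 q15162 (flp_b L197767) q10990, e3 q15163 (flp_b L197769) q10991, e3 q15164 L225907 q18760, e3 q15165 (flp_b L219644) q17990, e3 q15166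 L197789 q10994, e3 q15167 L225927 q18765, trivial⟩ (by decide +kernel)

theorem ce_b_237 : ∀ r, r < 64 → sm gb (Qf (15168 + r)) = Qf (tab Gen.b (15168 + r)) :=
  edges_tab (sm gb) Qf (tab Gen.b) 15168 [(15168, 18748), (15169, 18762), (15170, 18769), (15171, 10995), (15172, 10996), (15173, 18772), (15174, 18776), (15175, 18778), (15176, 10998), (15177, 18783), (15178, 18784), (15179, 18785), (15180, 11000), (15181, 18787), (15182, 11002), (15183, 18791), (15184, 18792), (15185, 11006), (15186, 11008), (15187, 18794), (15188, 11013), (15189, 17687), (15190, 11016), (15191, 11012), (15192, 18797), (15193, 18801), (15194, 18316), (15195, 18805), (15196, 11014), (15197, 11015), (15198, 18811), (15199, 17998), (15200, 11018), (15201, 18798), (15202, 18817), (15203, 18813), (15204, 18820), (15205, 11019), (15206, 11020), (15207, 18823), (15208, 18827), (15209, 18829), (15210, 11022), (15211, 18834), (15212, 18835), (15213, 18836), (15214, 11024), (15215, 18838), (15216, 11030), (15217, 11032), (15218, 11035), (15219, 12582),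 (15220, 15573), (15221, 18841), (15222, 18845), (15223, 17354), (15224, 11044), (15225, 18850), (15226, 11038), (15227, 16088), (15228, 11042), (15229, 15254), (15230, 11050), (15231, 18855)]
    ⟨e3 q15168 (flp_b L225843) q18748, e3 q15169 (flp_b L225917) q18762, e3 q15170 L225955 q18769, e3 q15171 (flp_b L197807) q10995, e3 q15172 (flp_b L197809) q10996, e3 q15173 (flp_b L225967) q18772, e3 q15174 L225981 q18776, e3 q15175 L225993 q18778, e3 q15176 (flp_b L197823) q10998, e3 q15177 L226021 q18783, e3 q15178 L226025 q18784, e3 q15179 L226027 q18785, e3 q15180 (flp_b L197849) q11000, e3 q15181 (flp_b L226045) q18787, e3 q15182 (flp_b L197859) q11002, e3 q15183 L226065 q18791, e3 q15184 L226069 q18792, e3 q15185 (flp_b L197883) q11006, e3 q15186 (flp_b L197887) q11008, e3 q15187 L226079 q18794, e3 q15188 L197907 q11013, e3 q15189 (flp_b L217008) q17687, e3 q15190 L197925 q11016, e3 q15191 (flp_b L197927) q11012, e3 q15192 (flp_b L226105) q18797, e3 q15193 L226123 q18801, e3 q15194 L222068 q18316, e3 q15195 L226145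 q18805, e3 q15196 (flp_b L197947) q11014, e3 q15197 (flp_b L197949) q11015, e3 q15198 L226179 q18811, e3 q15199 L220024 q17998, e3 q15200 L197969 q11018, e3 q15201 (flp_b L226111) q18798, e3 q15202 L226207 q18817, e3 q15203 (flp_b L226189) q18813, e3 q15204 L226227 q18820, e3 q15205 (flp_b L197987) q11019, e3 q15206 (flp_b L197989) q11020, e3 q15207 (flp_b L226253) q18823, e3 q15208 L226267 q18827, e3 q15209 L226279 q18829, e3 q15210 (flp_b L198003) q11022, e3 q15211 L226307 q18834, e3 q15212 L226311 q18835, e3 q15213 L226313 q18836, e3 q15214 (flp_b L198029) q11024, e3 q15215 (flp_b L226331) q18838, e3 q15216 (flp_b L198039) q11030, e3 q15217 (flp_b L198049) q11032, e3 q15218 L198063 q11035, e3 q15219 L198070 q12582, e3 q15220 (flp_b L200293) q15573, e3 q15221 (flp_b L226349) q18841, e3 q15222 L226371 q18845, e3 q15223 (flp_b L222894) q17354, e3 q15224 L198092 q11044, e3 q15225 L226407 q18850, e3 q15226 (flp_b L198101) q11038, e3 q15227 (flp_b L203911) q16088, e3 q15228 L198115 q11042, e3 q15229 (flp_b L198288)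 q15254, e3 q15230 L198131 q11050, e3 q15231 L226437 q18855, trivial⟩ (by decide +kernel)

theorem ce_b_238 : ∀ r, r < 64 → sm gb (Qf (15232 + r)) = Qf (tab Gen.b (15232 + r)) :=
  edges_tab (sm gb) Qf (tab Gen.b) 15232 [(15232, 18852), (15233, 11043), (15234, 18857), (15235, 16180), (15236, 18861), (15237, 18862), (15238, 11045), (15239, 16063), (15240, 11047), (15241, 13241), (15242, 13868), (15243, 18866), (15244, 11052), (15245, 18870), (15246, 18854), (15247, 11049), (15248, 11051), (15249, 17211), (15250, 18874), (15251, 18875), (15252, 11053), (15253, 12228), (15254, 15229), (15255, 17357), (15256, 18881), (15257, 13916), (15258, 18883), (15259, 11057), (15260, 18888), (15261, 11058), (15262, 18891), (15263, 18886), (15264, 18877), (15265, 11060), (15266, 11061), (15267, 18894), (15268, 11063), (15269, 11069), (15270, 11070), (15271, 11073), (15272, 12589), (15273, 15813), (15274, 18897), (15275, 18900), (15276, 17383), (15277, 11082), (15278, 18905), (15279, 11076), (15280, 16012), (15281, 11080), (15282,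 11087), (15283, 15307), (15284, 18910), (15285, 18907), (15286, 11081), (15287, 18912), (15288, 16166), (15289, 18916), (15290, 18917), (15291, 11083), (15292, 16137), (15293, 11085), (15294, 13221), (15295, 13819)]
    ⟨e3 q15232 (flp_b L226419) q18852, e3 q15233 (flp_b L198149) q11043, e3 q15234 (flp_b L226453) q18857, e3 q15235 (flp_b L222896) q16180, e3 q15236 L226483 q18861, e3 q15237 L226485 q18862, e3 q15238 (flp_b L198175) q11045, e3 q15239 (flp_b L203737) q16063, e3 q15240 (flp_b L198185) q11047, e3 q15241 L198196 q13241, e3 q15242 (flp_b L198210) q13868, e3 q15243 L226511 q18866, e3 q15244 L198220 q11052, e3 q15245 L226549 q18870, e3 q15246 (flp_b L226435) q18854, e3 q15247 (flp_b L198234) q11049, e3 q15248 (flp_b L198240) q11051, e3 q15249 (flp_b L212987) q17211, e3 q15250 L226575 q18874, e3 q15251 L226579 q18875, e3 q15252 (flp_b L198272) q11053, e3 q15253 L198282 q12228, e3 q15254 L198288 q15229, e3 q15255 (flp_b L214066) q17357, e3 q15256 L226637 q18881, e3 q15257 (flp_b L214058) q13916, e3 q15258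 L226649 q18883, e3 q15259 (flp_b L198336) q11057, e3 q15260 L226679 q18888, e3 q15261 (flp_b L198346) q11058, e3 q15262 L226698 q18891, e3 q15263 (flp_b L226669) q18886, e3 q15264 (flp_b L226601) q18877, e3 q15265 (flp_b L198370) q11060, e3 q15266 (flp_b L198374) q11061, e3 q15267 L226717 q18894, e3 q15268 L198394 q11063, e3 q15269 (flp_b L198396) q11069, e3 q15270 (flp_b L198406) q11070, e3 q15271 L198420 q11073, e3 q15272 L198427 q12589, e3 q15273 (flp_b L201972) q15813, e3 q15274 (flp_b L226747) q18897, e3 q15275 L226768 q18900, e3 q15276 (flp_b L222898) q17383, e3 q15277 L198453 q11082, e3 q15278 L226818 q18905, e3 q15279 (flp_b L198466) q11076, e3 q15280 (flp_b L203411) q16012, e3 q15281 L198480 q11080, e3 q15282 L198490 q11087, e3 q15283 (flp_b L198659) q15307, e3 q15284 L226848 q18910, e3 q15285 (flp_b L226830) q18907, e3 q15286 (flp_b L198514) q11081, e3 q15287 (flp_b L226864) q18912, e3 q15288 (flp_b L222868) q16166, e3 q15289 L226894 q18916, e3 q15290 L226896 q18917, e3 q15291 (flp_b L198540) q11083, e3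 q15292 (flp_b L204223) q16137, e3 q15293 (flp_b L198550) q11085, e3 q15294 L198567 q13221, e3 q15295 L198581 q13819, trivial⟩ (by decide +kernel)

theorem ce_b_239 : ∀ r, r < 64 → sm gb (Qf (15296 + r)) = Qf (tab Gen.b (15296 + r)) :=
  edges_tab (sm gb) Qf (tab Gen.b) 15296 [(15296, 18921), (15297, 11090), (15298, 18908), (15299, 18925), (15300, 11088), (15301, 11089), (15302, 17287), (15303, 18929), (15304, 18930), (15305, 11091), (15306, 12287), (15307, 15283), (15308, 17385), (15309, 18936), (15310, 13925), (15311, 18938), (15312, 11095), (15313, 18943), (15314, 11096), (15315, 18946), (15316, 18941), (15317, 18932), (15318, 11098), (15319, 11099), (15320, 18948), (15321, 11101), (15322, 12930), (15323, 18951), (15324, 16971), (15325, 18956), (15326, 12871), (15327, 11108), (15328, 16968), (15329, 15360), (15330, 15610), (15331, 18963), (15332, 18958), (15333, 11117), (15334, 18969), (15335, 18629), (15336, 12883), (15337, 18972), (15338, 18967), (15339, 18976), (15340, 11118), (15341, 16885), (15342, 12939),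 (15343, 11121), (15344, 16998), (15345, 11122), (15346, 16707), (15347, 11125), (15348, 15452), (15349, 18980), (15350, 14413), (15351, 18982), (15352, 14629), (15353, 18840), (15354, 18988), (15355, 11141), (15356, 18993), (15357, 11129), (15358, 18994), (15359, 18277)]
    ⟨e3 q15296 L226922 q18921, e3 q15297 L198591 q11090, e3 q15298 (flp_b L226840) q18908, e3 q15299 L226960 q18925, e3 q15300 (flp_b L198605) q11088, e3 q15301 (flp_b L198611) q11089, e3 q15302 (flp_b L213489) q17287, e3 q15303 L226986 q18929, e3 q15304 L227008 q18930, e3 q15305 (flp_b L198643) q11091, e3 q15306 L198653 q12287, e3 q15307 L198659 q15283, e3 q15308 (flp_b L214387) q17385, e3 q15309 L227062 q18936, e3 q15310 (flp_b L214379) q13925, e3 q15311 L227074 q18938, e3 q15312 (flp_b L198707) q11095, e3 q15313 L227112 q18943, e3 q15314 (flp_b L198717) q11096, e3 q15315 L227137 q18946, e3 q15316 (flp_b L227096) q18941, e3 q15317 (flp_b L227028) q18932, e3 q15318 (flp_b L198749) q11098, e3 q15319 (flp_b L198753) q11099, e3 q15320 L227149 q18948,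 e3 q15321 L198773 q11101, e3 q15322 L198783 q12930, e3 q15323 L227177 q18951, e3 q15324 (flp_b L211204) q16971, e3 q15325 L227206 q18956, e3 q15326 L198813 q12871, e3 q15327 (flp_b L198815) q11108, e3 q15328 (flp_b L211185) q16968, e3 q15329 L199014 q15360, e3 q15330 (flp_b L200537) q15610, e3 q15331 L227256 q18963, e3 q15332 (flp_b L227228) q18958, e3 q15333 L198847 q11117, e3 q15334 L227282 q18969, e3 q15335 L225019 q18629, e3 q15336 L198867 q12883, e3 q15337 L227306 q18972, e3 q15338 (flp_b L227274) q18967, e3 q15339 L227332 q18976, e3 q15340 (flp_b L198877) q11118, e3 q15341 (flp_b L210557) q16885, e3 q15342 (flp_b L198897) q12939, e3 q15343 (flp_b L198899) q11121, e3 q15344 (flp_b L211409) q16998, e3 q15345 (flp_b L198920) q11122, e3 q15346 (flp_b L209043) q16707, e3 q15347 L198942 q11125, e3 q15348 (flp_b L199504) q15452, e3 q15349 (flp_b L227369) q18980, e3 q15350 L198961 q14413, e3 q15351 (flp_b L227389) q18982, e3 q15352 L222204 q14629, e3 q15353 (flp_b L226345) q18840, e3 q15354 L227476 q18988, e3 q15355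 L198981 q11141, e3 q15356 L227516 q18993, e3 q15357 (flp_b L198988) q11129, e3 q15358 (flp_b L227526) q18994, e3 q15359 L222206 q18277, trivial⟩ (by decide +kernel)

theorem ce_b_240 : ∀ r, r < 64 → sm gb (Qf (15360 + r)) = Qf (tab Gen.b (15360 + r)) :=
  edges_tab (sm gb) Qf (tab Gen.b) 15360 [(15360, 15329), (15361, 11149), (15362, 18256), (15363, 14398), (15364, 11135), (15365, 19002), (15366, 19009), (15367, 17013), (15368, 15509), (15369, 11139), (15370, 15407), (15371, 11157), (15372, 19013), (15373, 11140), (15374, 19016), (15375, 19020), (15376, 19021), (15377, 11142), (15378, 19024), (15379, 11145), (15380, 19027), (15381, 19026), (15382, 19030), (15383, 11147), (15384, 19031), (15385, 19034), (15386, 14687), (15387, 18998), (15388, 18267), (15389, 11150), (15390, 18280), (15391, 16999), (15392, 11154), (15393, 19039), (15394, 15498), (15395, 15499), (15396, 15746), (15397, 11158), (15398, 19050), (15399, 19015), (15400, 11156), (15401, 19054), (15402, 19055), (15403, 19056), (15404, 11159), (15405, 15472),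 (15406, 11161), (15407, 15370), (15408, 19062), (15409, 19066), (15410, 11163), (15411, 19072), (15412, 19017), (15413, 19069), (15414, 19075), (15415, 11164), (15416, 19080), (15417, 11165), (15418, 19083), (15419, 19078), (15420, 19058), (15421, 11167), (15422, 11168), (15423, 19086)]
    ⟨e3 q15360 (flp_b L199014) q15329, e3 q15361 L199018 q11149, e3 q15362 (flp_b L221604) q18256, e3 q15363 L199036 q14398, e3 q15364 (flp_b L199038) q11135, e3 q15365 (flp_b L227578) q19002, e3 q15366 L227622 q19009, e3 q15367 (flp_b L211537) q17013, e3 q15368 (flp_b L199849) q15509, e3 q15369 L199062 q11139, e3 q15370 L199303 q15407, e3 q15371 L199068 q11157, e3 q15372 (flp_b L227642) q19013, e3 q15373 (flp_b L199076) q11140, e3 q15374 (flp_b L227660) q19016, e3 q15375 L227690 q19020, e3 q15376 L227694 q19021, e3 q15377 (flp_b L199096) q11142, e3 q15378 L227706 q19024, e3 q15379 L199104 q11145, e3 q15380 L227718 q19027, e3 q15381 (flp_b L227716) q19026, e3 q15382 L227744 q19030, e3 q15383 (flp_b L199122) q11147, e3 q15384 (flp_b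 L227752) q19031, e3 q15385 L227778 q19034, e3 q15386 (flp_b L201058) q14687, e3 q15387 (flp_b L227552) q18998, e3 q15388 (flp_b L221674) q18267, e3 q15389 (flp_b L199148) q11150, e3 q15390 (flp_b L221762) q18280, e3 q15391 (flp_b L211417) q16999, e3 q15392 (flp_b L199166) q11154, e3 q15393 (flp_b L227811) q19039, e3 q15394 L199781 q15498, e3 q15395 L199791 q15499, e3 q15396 (flp_b L201518) q15746, e3 q15397 L199185 q11158, e3 q15398 L227875 q19050, e3 q15399 (flp_b L227656) q19015, e3 q15400 (flp_b L199195) q11156, e3 q15401 L227899 q19054, e3 q15402 L227901 q19055, e3 q15403 L227905 q19056, e3 q15404 (flp_b L199217) q11159, e3 q15405 (flp_b L199632) q15472, e3 q15406 L199225 q11161, e3 q15407 (flp_b L199303) q15370, e3 q15408 (flp_b L227949) q19062, e3 q15409 L227973 q19066, e3 q15410 L199238 q11163, e3 q15411 L228006 q19072, e3 q15412 (flp_b L227672) q19017, e3 q15413 (flp_b L227994) q19069, e3 q15414 L228030 q19075, e3 q15415 (flp_b L199255) q11164, e3 q15416 L228060 q19080, e3 q15417 (flp_b L199267) q11165,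 e3 q15418 L228079 q19083, e3 q15419 (flp_b L228050) q19078, e3 q15420 (flp_b L227915) q19058, e3 q15421 (flp_b L199287) q11167, e3 q15422 (flp_b L199291) q11168, e3 q15423 L228099 q19086, trivial⟩ (by decide +kernel)

theorem ce_b_241 : ∀ r, r < 64 → sm gb (Qf (15424 + r)) = Qf (tab Gen.b (15424 + r)) :=
  edges_tab (sm gb) Qf (tab Gen.b) 15424 [(15424, 11171), (15425, 18957), (15426, 19088), (15427, 19090), (15428, 19091), (15429, 16996), (15430, 19096), (15431, 12946), (15432, 16993), (15433, 11179), (15434, 15464), (15435, 15844), (15436, 19103), (15437, 19099), (15438, 11186), (15439, 19109), (15440, 18644), (15441, 19111), (15442, 19107), (15443, 19115), (15444, 11187), (15445, 16878), (15446, 12923), (15447, 11190), (15448, 16973), (15449, 11191), (15450, 16698), (15451, 11194), (15452, 15348), (15453, 19119), (15454, 14435), (15455, 19121), (15456, 14580), (15457, 18896), (15458, 19127), (15459, 11210), (15460, 19132), (15461, 11198), (15462, 19133), (15463, 18334), (15464, 15434), (15465, 11218), (15466,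 18313), (15467, 14420), (15468, 11204), (15469, 19141), (15470, 16988), (15471, 19148), (15472, 15405), (15473, 11208), (15474, 11225), (15475, 15511), (15476, 19152), (15477, 11209), (15478, 19018), (15479, 19157), (15480, 19158), (15481, 11211), (15482, 19161), (15483, 11214), (15484, 19164), (15485, 19163), (15486, 19167), (15487, 11216)]
    ⟨e3 q15424 L199319 q11171, e3 q15425 (flp_b L227214) q18957, e3 q15426 (flp_b L228111) q19088, e3 q15427 L228123 q19090, e3 q15428 L228127 q19091, e3 q15429 (flp_b L211397) q16996, e3 q15430 L228156 q19096, e3 q15431 L199375 q12946, e3 q15432 (flp_b L211376) q16993, e3 q15433 (flp_b L199381) q11179, e3 q15434 L199580 q15464, e3 q15435 (flp_b L202178) q15844, e3 q15436 L228208 q19103, e3 q15437 (flp_b L228184) q19099, e3 q15438 L199409 q11186, e3 q15439 L228234 q19109, e3 q15440 L225127 q18644, e3 q15441 L228248 q19111, e3 q15442 (flp_b L228226) q19107, e3 q15443 L228274 q19115, e3 q15444 (flp_b L199429) q11187, e3 q15445 (flp_b L210503) q16878, e3 q15446 (flp_b L199449)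 q12923, e3 q15447 (flp_b L199451) q11190, e3 q15448 (flp_b L211216) q16973, e3 q15449 (flp_b L199472) q11191, e3 q15450 (flp_b L208971) q16698, e3 q15451 L199494 q11194, e3 q15452 L199504 q15348, e3 q15453 (flp_b L228309) q19119, e3 q15454 L199515 q14435, e3 q15455 (flp_b L228329) q19121, e3 q15456 L227413 q14580, e3 q15457 (flp_b L226743) q18896, e3 q15458 L228381 q19127, e3 q15459 L199539 q11210, e3 q15460 L228429 q19132, e3 q15461 (flp_b L199552) q11198, e3 q15462 (flp_b L228441) q19133, e3 q15463 (flp_b L227407) q18334, e3 q15464 (flp_b L199580) q15434, e3 q15465 L199584 q11218, e3 q15466 (flp_b L222040) q18313, e3 q15467 L199602 q14420, e3 q15468 (flp_b L199604) q11204, e3 q15469 (flp_b L228495) q19141, e3 q15470 (flp_b L211330) q16988, e3 q15471 L228545 q19148, e3 q15472 L199632 q15405, e3 q15473 L199638 q11208, e3 q15474 L199646 q11225, e3 q15475 (flp_b L199861) q15511, e3 q15476 (flp_b L228569) q19152, e3 q15477 (flp_b L199662) q11209, e3 q15478 (flp_b L227676) q19018, e3 q15479 L228603 q19157, e3 q15480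 L228607 q19158, e3 q15481 (flp_b L199684) q11211, e3 q15482 L228621 q19161, e3 q15483 L199698 q11214, e3 q15484 L228637 q19164, e3 q15485 (flp_b L228635) q19163, e3 q15486 L228663 q19167, e3 q15487 (flp_b L199718) q11216, trivial⟩ (by decide +kernel)

theorem ce_b_242 : ∀ r, r < 64 → sm gb (Qf (15488 + r)) = Qf (tab Gen.b (15488 + r)) :=
  edges_tab (sm gb) Qf (tab Gen.b) 15488 [(15488, 19168), (15489, 19171), (15490, 14657), (15491, 19137), (15492, 18324), (15493, 11219), (15494, 18337), (15495, 16974), (15496, 11223), (15497, 19176), (15498, 15394), (15499, 15395), (15500, 15971), (15501, 11227), (15502, 19153), (15503, 19188), (15504, 19190), (15505, 11226), (15506, 19192), (15507, 19193), (15508, 11228), (15509, 15368), (15510, 11230), (15511, 15475), (15512, 19199), (15513, 19203), (15514, 11232), (15515, 19155), (15516, 19205), (15517, 19209), (15518, 11233), (15519, 19214), (15520, 11234), (15521, 19217), (15522, 19212), (15523, 19195), (15524, 11236), (15525, 11237), (15526, 19220), (15527, 11240), (15528,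 18971), (15529, 19222), (15530, 19224), (15531, 14295), (15532, 11243), (15533, 15057), (15534, 13823), (15535, 11267), (15536, 11524), (15537, 11246), (15538, 11247), (15539, 17070), (15540, 12990), (15541, 15648), (15542, 11249), (15543, 16064), (15544, 11255), (15545, 14440), (15546, 11251), (15547, 17659), (15548, 14645), (15549, 11257), (15550, 19243), (15551, 13794)]
    ⟨e3 q15488 (flp_b L228673) q19168, e3 q15489 L228701 q19171, e3 q15490 (flp_b L202705) q14657, e3 q15491 (flp_b L228467) q19137, e3 q15492 (flp_b L222114) q18324, e3 q15493 (flp_b L199744) q11219, e3 q15494 (flp_b L222202) q18337, e3 q15495 (flp_b L211222) q16974, e3 q15496 (flp_b L199764) q11223, e3 q15497 (flp_b L228734) q19176, e3 q15498 (flp_b L199781) q15394, e3 q15499 (flp_b L199791) q15395, e3 q15500 (flp_b L203155) q15971, e3 q15501 L199799 q11227, e3 q15502 (flp_b L228579) q19153, e3 q15503 L228818 q19188, e3 q15504 L228832 q19190, e3 q15505 (flp_b L199817) q11226, e3 q15506 L228846 q19192, e3 q15507 L228852 q19193, e3 q15508 (flp_b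 L199841) q11228, e3 q15509 L199849 q15368, e3 q15510 L199855 q11230, e3 q15511 L199861 q15475, e3 q15512 (flp_b L228904) q19199, e3 q15513 L228934 q19203, e3 q15514 L199872 q11232, e3 q15515 (flp_b L228593) q19155, e3 q15516 (flp_b L228953) q19205, e3 q15517 L228989 q19209, e3 q15518 (flp_b L199889) q11233, e3 q15519 L229019 q19214, e3 q15520 (flp_b L199901) q11234, e3 q15521 L229046 q19217, e3 q15522 (flp_b L229009) q19212, e3 q15523 (flp_b L228866) q19195, e3 q15524 (flp_b L199933) q11236, e3 q15525 (flp_b L199937) q11237, e3 q15526 L229070 q19220, e3 q15527 L199957 q11240, e3 q15528 (flp_b L227304) q18971, e3 q15529 (flp_b L229086) q19222, e3 q15530 L229098 q19224, e3 q15531 L199989 q14295, e3 q15532 (flp_b L199995) q11243, e3 q15533 (flp_b L200013) q15057, e3 q15534 (flp_b L200021) q13823, e3 q15535 L200029 q11267, e3 q15536 L200039 q11524, e3 q15537 (flp_b L200041) q11246, e3 q15538 (flp_b L200047) q11247, e3 q15539 (flp_b L211965) q17070, e3 q15540 L200061 q12990, e3 q15541 (flp_b L200854) q15648, e3 q15542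 (flp_b L200067) q11249, e3 q15543 (flp_b L203743) q16064, e3 q15544 L200087 q11255, e3 q15545 L200093 q14440, e3 q15546 (flp_b L200095) q11251, e3 q15547 (flp_b L216765) q17659, e3 q15548 L200119 q14645, e3 q15549 L200123 q11257, e3 q15550 L229256 q19243, e3 q15551 (flp_b L200139) q13794, trivial⟩ (by decide +kernel)

theorem ce_b_243 : ∀ r, r < 64 → sm gb (Qf (15552 + r)) = Qf (tab Gen.b (15552 + r)) :=
  edges_tab (sm gb) Qf (tab Gen.b) 15552 [(15552, 11259), (15553, 14301), (15554, 19240), (15555, 16014), (15556, 19248), (15557, 19242), (15558, 19253), (15559, 11258), (15560, 19244), (15561, 11566), (15562, 14077), (15563, 11311), (15564, 11261), (15565, 11262), (15566, 19261), (15567, 16769), (15568, 16869), (15569, 11266), (15570, 13890), (15571, 19229), (15572, 16209), (15573, 15220), (15574, 11272), (15575, 17092), (15576, 12596), (15577, 17318), (15578, 17240), (15579, 11308), (15580, 19271), (15581, 11276), (15582, 19273), (15583, 19277), (15584, 19278), (15585, 11286), (15586, 16097), (15587, 15942), (15588,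 11283), (15589, 19283), (15590, 15645), (15591, 19287), (15592, 11284), (15593, 11285), (15594, 19289), (15595, 19290), (15596, 19297), (15597, 16099), (15598, 11287), (15599, 11584), (15600, 16435), (15601, 16887), (15602, 16989), (15603, 14246), (15604, 19301), (15605, 11453), (15606, 16729), (15607, 11295), (15608, 11459), (15609, 11300), (15610, 15330), (15611, 11309), (15612, 11303), (15613, 11304), (15614, 17446), (15615, 11686)]
    ⟨e3 q15552 L200145 q11259, e3 q15553 L200153 q14301, e3 q15554 (flp_b L229236) q19240, e3 q15555 (flp_b L203427) q16014, e3 q15556 L229302 q19248, e3 q15557 (flp_b L229252) q19242, e3 q15558 L229350 q19253, e3 q15559 (flp_b L200185) q11258, e3 q15560 (flp_b L229272) q19244, e3 q15561 (flp_b L200200) q11566, e3 q15562 L200209 q14077, e3 q15563 L200219 q11311, e3 q15564 (flp_b L200221) q11261, e3 q15565 (flp_b L200229) q11262, e3 q15566 L229430 q19261, e3 q15567 (flp_b L209585) q16769, e3 q15568 (flp_b L210425) q16869, e3 q15569 (flp_b L200251) q11266, e3 q15570 L200271 q13890,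 e3 q15571 (flp_b L229144) q19229, e3 q15572 (flp_b L204748) q16209, e3 q15573 L200293 q15220, e3 q15574 (flp_b L200295) q11272, e3 q15575 (flp_b L212123) q17092, e3 q15576 (flp_b L200313) q12596, e3 q15577 (flp_b L213697) q17318, e3 q15578 L213177 q17240, e3 q15579 (flp_b L200329) q11308, e3 q15580 L229506 q19271, e3 q15581 (flp_b L200335) q11276, e3 q15582 (flp_b L229530) q19273, e3 q15583 L229558 q19277, e3 q15584 L229570 q19278, e3 q15585 L200359 q11286, e3 q15586 (flp_b L203961) q16097, e3 q15587 L202987 q15942, e3 q15588 L200373 q11283, e3 q15589 L229626 q19283, e3 q15590 L200833 q15645, e3 q15591 L229656 q19287, e3 q15592 (flp_b L200395) q11284, e3 q15593 (flp_b L200401) q11285, e3 q15594 (flp_b L229664) q19289, e3 q15595 (flp_b L229674) q19290, e3 q15596 L229740 q19297, e3 q15597 (flp_b L203981) q16099, e3 q15598 (flp_b L200423) q11287, e3 q15599 (flp_b L200437) q11584, e3 q15600 (flp_b L206653) q16435, e3 q15601 (flp_b L210579) q16887, e3 q15602 (flp_b L211338) q16989, e3 q15603 L200477 q14246, e3 q15604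 L229772 q19301, e3 q15605 (flp_b L200495) q11453, e3 q15606 (flp_b L209239) q16729, e3 q15607 (flp_b L200505) q11295, e3 q15608 L200525 q11459, e3 q15609 (flp_b L200527) q11300, e3 q15610 L200537 q15330, e3 q15611 L200545 q11309, e3 q15612 (flp_b L200547) q11303, e3 q15613 (flp_b L200557) q11304, e3 q15614 (flp_b L215006) q17446, e3 q15615 L200587 q11686, trivial⟩ (by decide +kernel)

theorem ce_b_244 : ∀ r, r < 64 → sm gb (Qf (15616 + r)) = Qf (tab Gen.b (15616 + r)) :=
  edges_tab (sm gb) Qf (tab Gen.b) 15616 [(15616, 16770), (15617, 13488), (15618, 16003), (15619, 11562), (15620, 19308), (15621, 13042), (15622, 13192), (15623, 15118), (15624, 18614), (15625, 12178), (15626, 19315), (15627, 14616), (15628, 16790), (15629, 11315), (15630, 14191), (15631, 18497), (15632, 16570), (15633, 13153), (15634, 14986), (15635, 11320), (15636, 12334), (15637, 11321), (15638, 17276), (15639, 17786), (15640, 11324), (15641, 16303), (15642, 19328), (15643, 19329), (15644, 19324), (15645, 15590), (15646, 19332), (15647, 11326),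 (15648, 15541), (15649, 17404), (15650, 11491), (15651, 11332), (15652, 15768), (15653, 11373), (15654, 17936), (15655, 11331), (15656, 11490), (15657, 17775), (15658, 11334), (15659, 11335), (15660, 19351), (15661, 11389), (15662, 19346), (15663, 19348), (15664, 19357), (15665, 11336), (15666, 11337), (15667, 19364), (15668, 19359), (15669, 15736), (15670, 11339), (15671, 16643), (15672, 16601), (15673, 11343), (15674, 14531), (15675, 14320), (15676, 13743), (15677, 16756), (15678, 11344), (15679, 12276)]
    ⟨e3 q15616 (flp_b L209599) q16770, e3 q15617 L200601 q13488, e3 q15618 (flp_b L203350) q16003, e3 q15619 L200615 q11562, e3 q15620 L229880 q19308, e3 q15621 L200629 q13042, e3 q15622 (flp_b L200637) q13192, e3 q15623 L200653 q15118, e3 q15624 L224907 q18614, e3 q15625 (flp_b L200665) q12178, e3 q15626 L229942 q19315, e3 q15627 (flp_b L200685) q14616, e3 q15628 (flp_b L209767) q16790, e3 q15629 (flp_b L200701) q11315, e3 q15630 (flp_b L200711) q14191, e3 q15631 (flp_b L223859) q18497, e3 q15632 (flp_b L207810)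 q16570, e3 q15633 L200735 q13153, e3 q15634 (flp_b L200745) q14986, e3 q15635 (flp_b L200747) q11320, e3 q15636 L200773 q12334, e3 q15637 (flp_b L200775) q11321, e3 q15638 L213423 q17276, e3 q15639 L217777 q17786, e3 q15640 L200801 q11324, e3 q15641 (flp_b L205562) q16303, e3 q15642 L230052 q19328, e3 q15643 L230063 q19329, e3 q15644 (flp_b L230022) q19324, e3 q15645 (flp_b L200833) q15590, e3 q15646 L230088 q19332, e3 q15647 (flp_b L200841) q11326, e3 q15648 L200854 q15541, e3 q15649 (flp_b L214575) q17404, e3 q15650 L223809 q11491, e3 q15651 L200868 q11332, e3 q15652 (flp_b L201626) q15768, e3 q15653 L200882 q11373, e3 q15654 (flp_b L219192) q17936, e3 q15655 (flp_b L200892) q11331, e3 q15656 L223817 q11490, e3 q15657 (flp_b L230964) q17775, e3 q15658 L200908 q11334, e3 q15659 L200912 q11335, e3 q15660 L230238 q19351, e3 q15661 L200920 q11389, e3 q15662 (flp_b L230214) q19346, e3 q15663 (flp_b L230224) q19348, e3 q15664 L230278 q19357, e3 q15665 (flp_b L200940) q11336, e3 q15666 (flp_b L200942) q11337, e3 q15667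 L230318 q19364, e3 q15668 (flp_b L230286) q19359, e3 q15669 (flp_b L201458) q15736, e3 q15670 (flp_b L200958) q11339, e3 q15671 (flp_b L208459) q16643, e3 q15672 (flp_b L208086) q16601, e3 q15673 L200990 q11343, e3 q15674 (flp_b L201006) q14531, e3 q15675 L201016 q14320, e3 q15676 L201022 q13743, e3 q15677 L209465 q16756, e3 q15678 (flp_b L201036) q11344, e3 q15679 L201052 q12276, trivial⟩ (by decide +kernel)

theorem ce_b_245 : ∀ r, r < 64 → sm gb (Qf (15680 + r)) = Qf (tab Gen.b (15680 + r)) :=
  edges_tab (sm gb) Qf (tab Gen.b) 15680 [(15680, 14337), (15681, 19372), (15682, 11346), (15683, 17283), (15684, 19375), (15685, 14088), (15686, 11349), (15687, 19376), (15688, 19377), (15689, 11351), (15690, 11353), (15691, 19381), (15692, 17610), (15693, 19382), (15694, 19383), (15695, 11354), (15696, 11355), (15697, 11628), (15698, 14070), (15699, 11360), (15700, 19386), (15701, 19388), (15702, 11358), (15703, 17893), (15704, 11359), (15705, 19389), (15706, 11361), (15707, 11362), (15708, 17150), (15709, 11365), (15710,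 11426), (15711, 19392), (15712, 11367), (15713, 17626), (15714, 19395), (15715, 15827), (15716, 19399), (15717, 11369), (15718, 11370), (15719, 19401), (15720, 19407), (15721, 19408), (15722, 16814), (15723, 19339), (15724, 11372), (15725, 17894), (15726, 18088), (15727, 17885), (15728, 19414), (15729, 11378), (15730, 19419), (15731, 15987), (15732, 19417), (15733, 17807), (15734, 11379), (15735, 17808), (15736, 15669), (15737, 11384), (15738, 13730), (15739, 19424), (15740, 14260), (15741, 11385), (15742, 19427), (15743, 19428)]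
    ⟨e3 q15680 L201068 q14337, e3 q15681 L230384 q19372, e3 q15682 (flp_b L201084) q11346, e3 q15683 L213467 q17283, e3 q15684 L230412 q19375, e3 q15685 L201109 q14088, e3 q15686 (flp_b L201111) q11349, e3 q15687 L230424 q19376, e3 q15688 L230432 q19377, e3 q15689 (flp_b L201135) q11351, e3 q15690 L201143 q11353, e3 q15691 L230464 q19381, e3 q15692 L216411 q17610, e3 q15693 L230476 q19382, e3 q15694 L230488 q19383, e3 q15695 (flp_b L201181) q11354, e3 q15696 (flp_b L201191) q11355, e3 q15697 L201203 q11628, e3 q15698 L201217 q14070, e3 q15699 L201223 q11360, e3 q15700 L230518 q19386, e3 q15701 L230540 q19388, e3 q15702 (flp_b L201245) q11358, e3 q15703 (flp_b L218786) q17893, e3 q15704 (flp_b L201261) q11359, e3 q15705 L230548 q19389, e3 q15706 (flp_b L201280) q11361, e3 q15707 (flp_b L201284) q11362, e3 q15708 L212541 q17150, e3 q15709 L201298 q11365, e3 q15710 L201308 q11426, e3 q15711 (flp_b L230580) q19392, e3 q15712 L201322 q11367, e3 q15713 (flp_b L216525) q17626, e3 q15714 (flp_b L230608) q19395, e3 q15715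 (flp_b L202052) q15827, e3 q15716 L230642 q19399, e3 q15717 (flp_b L201352) q11369, e3 q15718 (flp_b L201358) q11370, e3 q15719 (flp_b L230656) q19401, e3 q15720 L230688 q19407, e3 q15721 L230690 q19408, e3 q15722 (flp_b L209955) q16814, e3 q15723 (flp_b L230172) q19339, e3 q15724 (flp_b L201386) q11372, e3 q15725 (flp_b L218800) q17894, e3 q15726 (flp_b L220332) q18088, e3 q15727 (flp_b L218702) q17885, e3 q15728 L230740 q19414, e3 q15729 L201418 q11378, e3 q15730 L230774 q19419, e3 q15731 (flp_b L223825) q15987, e3 q15732 (flp_b L230764) q19417, e3 q15733 (flp_b L217930) q17807, e3 q15734 (flp_b L201444) q11379, e3 q15735 (flp_b L217938) q17808, e3 q15736 L201458 q15669, e3 q15737 L201462 q11384, e3 q15738 L201478 q13730, e3 q15739 L230988 q19424, e3 q15740 L201484 q14260, e3 q15741 (flp_b L201488) q11385, e3 q15742 (flp_b L231016) q19427, e3 q15743 (flp_b L231024) q19428, trivial⟩ (by decide +kernel)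

theorem ce_b_246 : ∀ r, r < 64 → sm gb (Qf (15744 + r)) = Qf (tab Gen.b (15744 + r)) :=
  edges_tab (sm gb) Qf (tab Gen.b) 15744 [(15744, 19434), (15745, 15969), (15746, 15396), (15747, 11390), (15748, 19130), (15749, 19347), (15750, 11392), (15751, 19444), (15752, 19350), (15753, 11388), (15754, 12017), (15755, 19447), (15756, 19438), (15757, 19450), (15758, 11391), (15759, 19451), (15760, 19453), (15761, 11393), (15762, 15956), (15763, 19415), (15764, 11395), (15765, 11396), (15766, 17523), (15767, 19454), (15768, 15652), (15769, 13645), (15770, 17655), (15771, 18124), (15772, 18378), (15773, 11401), (15774, 11402), (15775, 14350), (15776, 11404), (15777, 15062), (15778, 13871), (15779, 11407), (15780, 17157), (15781, 13064), (15782, 15882), (15783, 11409), (15784, 11410), (15785, 11411), (15786, 17728), (15787, 14674), (15788, 11417), (15789, 19479), (15790, 13844), (15791, 14356), (15792, 16138), (15793, 11419), (15794, 14489), (15795, 16089), (15796, 19393), (15797, 19478), (15798, 19487), (15799, 11418),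 (15800, 19480), (15801, 11618), (15802, 14128), (15803, 11470), (15804, 11421), (15805, 19494), (15806, 16774), (15807, 11424)]
    ⟨e3 q15744 L231060 q19434, e3 q15745 L206386 q15969, e3 q15746 L201518 q15396, e3 q15747 L201522 q11390, e3 q15748 L228417 q19130, e3 q15749 (flp_b L230220) q19347, e3 q15750 L201534 q11392, e3 q15751 L231122 q19444, e3 q15752 (flp_b L230236) q19350, e3 q15753 (flp_b L201548) q11388, e3 q15754 (flp_b L206384) q12017, e3 q15755 L231154 q19447, e3 q15756 (flp_b L231086) q19438, e3 q15757 L231176 q19450, e3 q15758 (flp_b L201580) q11391, e3 q15759 L231184 q19451, e3 q15760 L231196 q19453, e3 q15761 (flp_b L201590) q11393, e3 q15762 (flp_b L223831) q15956, e3 q15763 L230934 q19415, e3 q15764 (flp_b L201608) q11395, e3 q15765 (flp_b L201610) q11396, e3 q15766 L215731 q17523, e3 q15767 (flp_b L231204) q19454, e3 q15768 L201626 q15652, e3 q15769 L201634 q13645, e3 q15770 (flp_b L216733) q17655, e3 q15771 L220600 q18124, e3 q15772 (flp_b L222956) q18378, e3 q15773 (flp_b L201658) q11401, e3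 q15774 (flp_b L201670) q11402, e3 q15775 L201686 q14350, e3 q15776 (flp_b L201694) q11404, e3 q15777 (flp_b L201712) q15062, e3 q15778 (flp_b L201720) q13871, e3 q15779 (flp_b L201722) q11407, e3 q15780 (flp_b L212609) q17157, e3 q15781 L201734 q13064, e3 q15782 (flp_b L202501) q15882, e3 q15783 (flp_b L201740) q11409, e3 q15784 (flp_b L201744) q11410, e3 q15785 (flp_b L201752) q11411, e3 q15786 (flp_b L217330) q17728, e3 q15787 (flp_b L201780) q14674, e3 q15788 L201784 q11417, e3 q15789 L231412 q19479, e3 q15790 (flp_b L201806) q13844, e3 q15791 L201814 q14356, e3 q15792 (flp_b L204229) q16138, e3 q15793 L201832 q11419, e3 q15794 L201838 q14489, e3 q15795 (flp_b L203921) q16089, e3 q15796 (flp_b L230592) q19393, e3 q15797 (flp_b L231408) q19478, e3 q15798 L231500 q19487, e3 q15799 (flp_b L201866) q11418, e3 q15800 (flp_b L231430) q19480, e3 q15801 (flp_b L201883) q11618, e3 q15802 L201892 q14128, e3 q15803 L201902 q11470, e3 q15804 (flp_b L201904) q11421, e3 q15805 L231576 q19494, e3 q15806 (flp_b L209643) q16774,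 e3 q15807 (flp_b L201922) q11424, trivial⟩ (by decide +kernel)

theorem ce_b_247 : ∀ r, r < 64 → sm gb (Qf (15808 + r)) = Qf (tab Gen.b (15808 + r)) :=
  edges_tab (sm gb) Qf (tab Gen.b) 15808 [(15808, 11425), (15809, 13902), (15810, 19390), (15811, 16860), (15812, 16239), (15813, 15273), (15814, 11432), (15815, 17175), (15816, 12598), (15817, 17242), (15818, 17315), (15819, 11467), (15820, 19504), (15821, 11436), (15822, 19506), (15823, 19384), (15824, 19510), (15825, 11445), (15826, 16020), (15827, 15715), (15828, 11443), (15829, 19515), (15830, 15880), (15831, 11444), (15832, 19518), (15833, 19519), (15834, 19525), (15835, 16022), (15836, 11446), (15837, 11635), (15838, 16280), (15839, 17014), (15840, 16899), (15841, 19529), (15842, 14267), (15843, 16733), (15844, 15435), (15845, 11468), (15846, 11462), (15847, 11463), (15848, 17471), (15849, 11683), (15850, 16775), (15851, 13436), (15852, 11614), (15853, 16079), (15854, 19536), (15855, 12964), (15856, 13133), (15857, 15130), (15858, 18612), (15859, 11980), (15860,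 19542), (15861, 14564), (15862, 16816), (15863, 11474), (15864, 14171), (15865, 18525), (15866, 16534), (15867, 13211), (15868, 14938), (15869, 11479), (15870, 12380), (15871, 11480)]
    ⟨e3 q15808 (flp_b L201926) q11425, e3 q15809 L201946 q13902, e3 q15810 (flp_b L230562) q19390, e3 q15811 (flp_b L210337) q16860, e3 q15812 (flp_b L204986) q16239, e3 q15813 L201972 q15273, e3 q15814 (flp_b L201974) q11432, e3 q15815 (flp_b L212735) q17175, e3 q15816 (flp_b L201990) q12598, e3 q15817 (flp_b L213187) q17242, e3 q15818 L213683 q17315, e3 q15819 (flp_b L202012) q11467, e3 q15820 L231652 q19504, e3 q15821 (flp_b L202018) q11436, e3 q15822 (flp_b L231678) q19506, e3 q15823 (flp_b L230504) q19384, e3 q15824 L231706 q19510, e3 q15825 L202042 q11445, e3 q15826 (flp_b L203453) q16020, e3 q15827 L202052 q15715, e3 q15828 L202062 q11443, e3 q15829 L231764 q19515, e3 q15830 L202486 q15880, e3 q15831 (flp_b L202078) q11444, e3 q15832 (flp_b L231780) q19518, e3 q15833 (flp_b L231790) q19519, e3 q15834 L231842 q19525, e3 q15835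 (flp_b L203473) q16022, e3 q15836 (flp_b L202100) q11446, e3 q15837 (flp_b L202114) q11635, e3 q15838 (flp_b L205332) q16280, e3 q15839 (flp_b L211547) q17014, e3 q15840 (flp_b L210671) q16899, e3 q15841 L231876 q19529, e3 q15842 L202164 q14267, e3 q15843 (flp_b L209269) q16733, e3 q15844 L202178 q15435, e3 q15845 L202186 q11468, e3 q15846 (flp_b L202188) q11462, e3 q15847 (flp_b L202198) q11463, e3 q15848 (flp_b L215247) q17471, e3 q15849 L202228 q11683, e3 q15850 (flp_b L209657) q16775, e3 q15851 L202242 q13436, e3 q15852 L202250 q11614, e3 q15853 (flp_b L203850) q16079, e3 q15854 (flp_b L231970) q19536, e3 q15855 L202270 q12964, e3 q15856 (flp_b L202278) q13133, e3 q15857 L202294 q15130, e3 q15858 L224887 q18612, e3 q15859 (flp_b L202306) q11980, e3 q15860 L232020 q19542, e3 q15861 (flp_b L202326) q14564, e3 q15862 (flp_b L209969) q16816, e3 q15863 L202342 q11474, e3 q15864 (flp_b L202352) q14171, e3 q15865 (flp_b L224091) q18525, e3 q15866 (flp_b L207519) q16534, e3 q15867 L202376 q13211, e3 q15868 (flp_b L202386)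 q14938, e3 q15869 (flp_b L202388) q11479, e3 q15870 L202414 q12380, e3 q15871 (flp_b L202416) q11480, trivial⟩ (by decide +kernel)

theorem ce_b_248 : ∀ r, r < 64 → sm gb (Qf (15872 + r)) = Qf (tab Gen.b (15872 + r)) :=
  edges_tab (sm gb) Qf (tab Gen.b) 15872 [(15872, 17200), (15873, 17766), (15874, 11483), (15875, 19553), (15876, 16285), (15877, 19555), (15878, 19550), (15879, 19558), (15880, 15830), (15881, 11484), (15882, 15782), (15883, 17422), (15884, 11531), (15885, 15993), (15886, 17946), (15887, 17792), (15888, 11493), (15889, 11494), (15890, 11547), (15891, 19349), (15892, 19565), (15893, 19567), (15894, 19352), (15895, 11495), (15896, 11496), (15897, 19579), (15898, 19574), (15899, 15961), (15900, 11498), (15901, 16638), (15902, 16624), (15903, 11502), (15904, 14482), (15905, 14375), (15906, 13768), (15907, 16764), (15908, 11503), (15909, 12217), (15910, 14392), (15911, 19587), (15912, 11505), (15913, 17207), (15914, 19590), (15915, 14031), (15916, 11508), (15917, 19591), (15918, 19592), (15919, 11510),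 (15920, 11512), (15921, 17582), (15922, 19596), (15923, 19597), (15924, 11513), (15925, 11514), (15926, 11576), (15927, 14121), (15928, 11519), (15929, 19599), (15930, 19600), (15931, 11517), (15932, 11518), (15933, 17915), (15934, 11520), (15935, 11521)]
    ⟨e3 q15872 L212921 q17200, e3 q15873 (flp_b L217650) q17766, e3 q15874 L202442 q11483, e3 q15875 L232114 q19553, e3 q15876 (flp_b L205380) q16285, e3 q15877 L232135 q19555, e3 q15878 (flp_b L232088) q19550, e3 q15879 L232160 q19558, e3 q15880 (flp_b L202486) q15830, e3 q15881 (flp_b L202488) q11484, e3 q15882 L202501 q15782, e3 q15883 (flp_b L214747) q17422, e3 q15884 L202523 q11531, e3 q15885 (flp_b L203263) q15993, e3 q15886 (flp_b L219296) q17946, e3 q15887 (flp_b L217823) q17792, e3 q15888 L202555 q11493, e3 q15889 L202559 q11494, e3 q15890 L202565 q11547, e3 q15891 (flp_b L230946) q19349, e3 q15892 (flp_b L232222) q19565, e3 q15893 (flp_b L232232) q19567, e3 q15894 L230936 q19352, e3 q15895 (flp_b L202587) q11495, e3 q15896 (flp_b L202589) q11496, e3 q15897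 L232332 q19579, e3 q15898 (flp_b L232294) q19574, e3 q15899 (flp_b L203095) q15961, e3 q15900 (flp_b L202605) q11498, e3 q15901 (flp_b L208397) q16638, e3 q15902 (flp_b L208283) q16624, e3 q15903 L202637 q11502, e3 q15904 (flp_b L202653) q14482, e3 q15905 (flp_b L202663) q14375, e3 q15906 L202669 q13768, e3 q15907 (flp_b L209535) q16764, e3 q15908 (flp_b L202683) q11503, e3 q15909 L202699 q12217, e3 q15910 L202715 q14392, e3 q15911 L232398 q19587, e3 q15912 (flp_b L202731) q11505, e3 q15913 L212965 q17207, e3 q15914 L232426 q19590, e3 q15915 L202756 q14031, e3 q15916 (flp_b L202758) q11508, e3 q15917 L232438 q19591, e3 q15918 L232446 q19592, e3 q15919 (flp_b L202782) q11510, e3 q15920 L202792 q11512, e3 q15921 L216213 q17582, e3 q15922 L232480 q19596, e3 q15923 L232492 q19597, e3 q15924 (flp_b L202824) q11513, e3 q15925 (flp_b L202832) q11514, e3 q15926 L202846 q11576, e3 q15927 L202862 q14121, e3 q15928 L202868 q11519, e3 q15929 L232514 q19599, e3 q15930 L232524 q19600, e3 q15931 (flp_b L202898) q11517, e3 q15932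 (flp_b L202905) q11518, e3 q15933 (flp_b L218998) q17915, e3 q15934 (flp_b L202927) q11520, e3 q15935 (flp_b L202935) q11521, trivial⟩ (by decide +kernel)

theorem ce_b_249 : ∀ r, r < 64 → sm gb (Qf (15936 + r)) = Qf (tab Gen.b (15936 + r)) :=
  edges_tab (sm gb) Qf (tab Gen.b) 15936 [(15936, 17061), (15937, 19227), (15938, 11526), (15939, 17698), (15940, 19313), (15941, 19605), (15942, 15587), (15943, 11527), (15944, 11529), (15945, 19607), (15946, 19612), (15947, 19614), (15948, 19336), (15949, 16788), (15950, 18142), (15951, 11532), (15952, 17916), (15953, 17908), (15954, 19619), (15955, 11537), (15956, 15762), (15957, 19621), (15958, 17822), (15959, 11538), (15960, 17823), (15961, 15899), (15962, 11543), (15963, 13755), (15964, 19292), (15965, 14280), (15966, 11544), (15967, 19628), (15968, 19629), (15969, 15745), (15970, 19635), (15971, 15500), (15972, 11549), (15973, 19566), (15974, 18991), (15975, 11551), (15976, 19568), (15977, 19646), (15978, 19343), (15979, 11548), (15980, 12200), (15981, 19639), (15982,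 19650), (15983, 11550), (15984, 19651), (15985, 19653), (15986, 11552), (15987, 15731), (15988, 19620), (15989, 11554), (15990, 11555), (15991, 17525), (15992, 19654), (15993, 15885), (15994, 13636), (15995, 17724), (15996, 18176), (15997, 18440), (15998, 11560), (15999, 11561)]
    ⟨e3 q15936 (flp_b L211897) q17061, e3 q15937 (flp_b L229128) q19227, e3 q15938 L202957 q11526, e3 q15939 (flp_b L217098) q17698, e3 q15940 L229928 q19313, e3 q15941 L232574 q19605, e3 q15942 (flp_b L202987) q15587, e3 q15943 (flp_b L202989) q11527, e3 q15944 (flp_b L202995) q11529, e3 q15945 (flp_b L232590) q19607, e3 q15946 L232630 q19612, e3 q15947 L232648 q19614, e3 q15948 (flp_b L230140) q19336, e3 q15949 (flp_b L209753) q16788, e3 q15950 (flp_b L220762) q18142, e3 q15951 (flp_b L203029) q11532, e3 q15952 (flp_b L219012) q17916, e3 q15953 (flp_b L218924) q17908, e3 q15954 L232688 q19619, e3 q15955 L203055 q11537, e3 q15956 L223831 q15762, e3 q15957 (flp_b L232713) q19621, e3 q15958 (flp_b L218076) q17822, e3 q15959 (flp_b L203081)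 q11538, e3 q15960 (flp_b L218084) q17823, e3 q15961 L203095 q15899, e3 q15962 L203099 q11543, e3 q15963 L203115 q13755, e3 q15964 (flp_b L229708) q19292, e3 q15965 L203121 q14280, e3 q15966 (flp_b L203125) q11544, e3 q15967 (flp_b L232787) q19628, e3 q15968 (flp_b L232797) q19629, e3 q15969 (flp_b L206386) q15745, e3 q15970 L232843 q19635, e3 q15971 L203155 q15500, e3 q15972 L203159 q11549, e3 q15973 (flp_b L232228) q19566, e3 q15974 L227510 q18991, e3 q15975 L203171 q11551, e3 q15976 (flp_b L232248) q19568, e3 q15977 L232915 q19646, e3 q15978 L230256 q19343, e3 q15979 (flp_b L203191) q11548, e3 q15980 L206390 q12200, e3 q15981 (flp_b L232869) q19639, e3 q15982 L232955 q19650, e3 q15983 (flp_b L203217) q11550, e3 q15984 L232963 q19651, e3 q15985 L232981 q19653, e3 q15986 (flp_b L203227) q11552, e3 q15987 L223825 q15731, e3 q15988 (flp_b L232703) q19620, e3 q15989 (flp_b L203245) q11554, e3 q15990 (flp_b L203247) q11555, e3 q15991 L215747 q17525, e3 q15992 (flp_b L232995) q19654, e3 q15993 L203263 q15885, e3 q15994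 L203271 q13636, e3 q15995 (flp_b L217298) q17724, e3 q15996 L221014 q18176, e3 q15997 (flp_b L223383) q18440, e3 q15998 (flp_b L203295) q11560, e3 q15999 (flp_b L203307) q11561, trivial⟩ (by decide +kernel)

theorem ce_b_250 : ∀ r, r < 64 → sm gb (Qf (16000 + r)) = Qf (tab Gen.b (16000 + r)) :=
  edges_tab (sm gb) Qf (tab Gen.b) 16000 [(16000, 11564), (16001, 13099), (16002, 14988), (16003, 15618), (16004, 17547), (16005, 14372), (16006, 16161), (16007, 11575), (16008, 11581), (16009, 13894), (16010, 19669), (16011, 19670), (16012, 15280), (16013, 17736), (16014, 15555), (16015, 11579), (16016, 19675), (16017, 19676), (16018, 17957), (16019, 17644), (16020, 15826), (16021, 13814), (16022, 15835), (16023, 19298), (16024, 17241), (16025, 11586), (16026, 16163), (16027, 13899), (16028, 19691), (16029, 11591), (16030, 19696), (16031, 15061), (16032, 11588), (16033, 14453), (16034, 14747), (16035, 11590), (16036, 19700), (16037, 19701), (16038, 19710), (16039, 19711), (16040, 13122), (16041, 19712), (16042, 11592), (16043,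 11593), (16044, 17911), (16045, 19716), (16046, 14579), (16047, 18226), (16048, 19724), (16049, 14569), (16050, 18719), (16051, 19728), (16052, 11598), (16053, 19730), (16054, 11599), (16055, 19732), (16056, 19733), (16057, 19734), (16058, 11602), (16059, 11603), (16060, 14385), (16061, 14376), (16062, 13307), (16063, 15239)]
    ⟨e3 q16000 (flp_b L203319) q11564, e3 q16001 (flp_b L203337) q13099, e3 q16002 L203344 q14988, e3 q16003 L203350 q15618, e3 q16004 L215942 q17547, e3 q16005 (flp_b L203365) q14372, e3 q16006 (flp_b L204374) q16161, e3 q16007 L203371 q11575, e3 q16008 L203383 q11581, e3 q16009 L203391 q13894, e3 q16010 L233119 q19669, e3 q16011 L233129 q19670, e3 q16012 L203411 q15280, e3 q16013 L217404 q17736, e3 q16014 L203427 q15555, e3 q16015 (flp_b L203429) q11579, e3 q16016 (flp_b L233159) q19675, e3 q16017 (flp_b L233169) q19676, e3 q16018 (flp_b L219652) q17957, e3 q16019 L221680 q17644, e3 q16020 L203453 q15826, e3 q16021 L203463 q13814, e3 q16022 L203473 q15835, e3 q16023 L229758 q19298, e3 q16024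 (flp_b L214070) q17241, e3 q16025 L203487 q11586, e3 q16026 (flp_b L204386) q16163, e3 q16027 L203493 q13899, e3 q16028 L233259 q19691, e3 q16029 L203503 q11591, e3 q16030 L233305 q19696, e3 q16031 (flp_b L203515) q15061, e3 q16032 (flp_b L203517) q11588, e3 q16033 L203535 q14453, e3 q16034 L203545 q14747, e3 q16035 (flp_b L203547) q11590, e3 q16036 (flp_b L233349) q19700, e3 q16037 (flp_b L233357) q19701, e3 q16038 L233417 q19710, e3 q16039 L233431 q19711, e3 q16040 (flp_b L203581) q13122, e3 q16041 L233433 q19712, e3 q16042 (flp_b L203591) q11592, e3 q16043 (flp_b L203599) q11593, e3 q16044 (flp_b L218960) q17911, e3 q16045 L233469 q19716, e3 q16046 L203625 q14579, e3 q16047 L227419 q18226, e3 q16048 L233529 q19724, e3 q16049 L203637 q14569, e3 q16050 L225631 q18719, e3 q16051 L233565 q19728, e3 q16052 (flp_b L203651) q11598, e3 q16053 L233589 q19730, e3 q16054 (flp_b L203663) q11599, e3 q16055 L233595 q19732, e3 q16056 L233605 q19733, e3 q16057 L233611 q19734, e3 q16058 (flp_b L203695) q11602, e3 q16059 (flp_b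 L203699) q11603, e3 q16060 L203711 q14385, e3 q16061 L203721 q14376, e3 q16062 L203729 q13307, e3 q16063 L203737 q15239, trivial⟩ (by decide +kernel)

theorem ce_b_251 : ∀ r, r < 64 → sm gb (Qf (16064 + r)) = Qf (tab Gen.b (16064 + r)) :=
  edges_tab (sm gb) Qf (tab Gen.b) 16064 [(16064, 15543), (16065, 11607), (16066, 19543), (16067, 19745), (16068, 12720), (16069, 19747), (16070, 11608), (16071, 11609), (16072, 19752), (16073, 19753), (16074, 11612), (16075, 11613), (16076, 11616), (16077, 13159), (16078, 14940), (16079, 15853), (16080, 17552), (16081, 14317), (16082, 16176), (16083, 11627), (16084, 13906), (16085, 11634), (16086, 19763), (16087, 19764), (16088, 15227), (16089, 15795), (16090, 17667), (16091, 11631), (16092, 19769), (16093, 19770), (16094, 17716), (16095, 17962), (16096, 13863), (16097, 15586), (16098, 19526), (16099, 15597), (16100, 17317), (16101, 11638), (16102, 13911), (16103, 16179), (16104, 19785), (16105, 11643), (16106, 15066), (16107, 19791), (16108, 14768), (16109, 11641), (16110, 14502),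 (16111, 11642), (16112, 19794), (16113, 19795), (16114, 19804), (16115, 19805), (16116, 19806), (16117, 13181), (16118, 11644), (16119, 11645), (16120, 17888), (16121, 19810), (16122, 14628), (16123, 19817), (16124, 18201), (16125, 14620), (16126, 19821), (16127, 18730)]
    ⟨e3 q16064 L203743 q15543, e3 q16065 L203747 q11607, e3 q16066 (flp_b L232036) q19543, e3 q16067 L233699 q19745, e3 q16068 (flp_b L203767) q12720, e3 q16069 L233717 q19747, e3 q16070 (flp_b L203777) q11608, e3 q16071 (flp_b L203785) q11609, e3 q16072 L233767 q19752, e3 q16073 L233779 q19753, e3 q16074 (flp_b L203807) q11612, e3 q16075 (flp_b L203813) q11613, e3 q16076 (flp_b L203819) q11616, e3 q16077 (flp_b L203837) q13159, e3 q16078 L203844 q14940, e3 q16079 L203850 q15853, e3 q16080 L215987 q17552, e3 q16081 (flp_b L203865) q14317, e3 q16082 (flp_b L204461) q16176, e3 q16083 L203871 q11627, e3 q16084 L203881 q13906, e3 q16085 L203889 q11634, e3 q16086 L233867 q19763, e3 q16087 L233877 q19764, e3 q16088 L203911 q15227, e3 q16089 L203921 q15795,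 e3 q16090 (flp_b L216833) q17667, e3 q16091 (flp_b L203929) q11631, e3 q16092 (flp_b L233907) q19769, e3 q16093 (flp_b L233917) q19770, e3 q16094 L217390 q17716, e3 q16095 L220034 q17962, e3 q16096 L203953 q13863, e3 q16097 L203961 q15586, e3 q16098 (flp_b L231860) q19526, e3 q16099 L203981 q15597, e3 q16100 (flp_b L214391) q17317, e3 q16101 L203987 q11638, e3 q16102 L203991 q13911, e3 q16103 (flp_b L204479) q16179, e3 q16104 L234013 q19785, e3 q16105 L204003 q11643, e3 q16106 (flp_b L204011) q15066, e3 q16107 L234069 q19791, e3 q16108 L204025 q14768, e3 q16109 (flp_b L204027) q11641, e3 q16110 L204049 q14502, e3 q16111 (flp_b L204051) q11642, e3 q16112 (flp_b L234103) q19794, e3 q16113 (flp_b L234111) q19795, e3 q16114 L234171 q19804, e3 q16115 L234173 q19805, e3 q16116 L234187 q19806, e3 q16117 (flp_b L204093) q13181, e3 q16118 (flp_b L204095) q11644, e3 q16119 (flp_b L204103) q11645, e3 q16120 (flp_b L218738) q17888, e3 q16121 L234223 q19810, e3 q16122 L204129 q14628, e3 q16123 L234277 q19817, e3 q16124 L222210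 q18201, e3 q16125 L204141 q14620, e3 q16126 L234311 q19821, e3 q16127 (flp_b L225719) q18730, trivial⟩ (by decide +kernel)

theorem ce_b_252 : ∀ r, r < 64 → sm gb (Qf (16128 + r)) = Qf (tab Gen.b (16128 + r)) :=
  edges_tab (sm gb) Qf (tab Gen.b) 16128 [(16128, 11650), (16129, 19825), (16130, 11651), (16131, 19826), (16132, 19827), (16133, 19828), (16134, 11654), (16135, 11655), (16136, 13366), (16137, 15292), (16138, 15792), (16139, 14331), (16140, 14321), (16141, 11659), (16142, 19838), (16143, 19316), (16144, 19841), (16145, 12727), (16146, 11660), (16147, 11661), (16148, 19846), (16149, 19847), (16150, 11664), (16151, 11665), (16152, 11666), (16153, 16248), (16154, 19854), (16155, 11670), (16156, 13915), (16157, 11668), (16158, 17356), (16159, 19862), (16160, 19863), (16161, 16006), (16162, 11672), (16163, 16026), (16164, 13921), (16165, 19871), (16166, 15288), (16167, 11673), (16168, 16218), (16169, 19873), (16170, 13923), (16171, 11678), (16172, 11675), (16173, 17384), (16174, 19880), (16175, 19881), (16176,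 16082), (16177, 11679), (16178, 13928), (16179, 16103), (16180, 15235), (16181, 19889), (16182, 14901), (16183, 12061), (16184, 14949), (16185, 11849), (16186, 11841), (16187, 12055), (16188, 14833), (16189, 16302), (16190, 16538), (16191, 14801)]
    ⟨e3 q16128 (flp_b L204155) q11650, e3 q16129 L234347 q19825, e3 q16130 (flp_b L204167) q11651, e3 q16131 L234357 q19826, e3 q16132 L234359 q19827, e3 q16133 L234369 q19828, e3 q16134 (flp_b L204199) q11654, e3 q16135 (flp_b L204205) q11655, e3 q16136 L204215 q13366, e3 q16137 L204223 q15292, e3 q16138 L204229 q15792, e3 q16139 L204237 q14331, e3 q16140 L204247 q14321, e3 q16141 L204251 q11659, e3 q16142 L234455 q19838, e3 q16143 (flp_b L229958) q19316, e3 q16144 L234483 q19841, e3 q16145 (flp_b L204279) q12727, e3 q16146 (flp_b L204281) q11660, e3 q16147 (flp_b L204285) q11661, e3 q16148 L234539 q19846, e3 q16149 L234547 q19847, e3 q16150 (flp_b L204311) q11664, e3 q16151 (flp_b L204317) q11665, e3 q16152 (flp_b L204323) q11666, e3 q16153 (flp_b L205067) q16248, e3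 q16154 L234617 q19854, e3 q16155 L204346 q11670, e3 q16156 L204352 q13915, e3 q16157 (flp_b L204354) q11668, e3 q16158 L214056 q17356, e3 q16159 L234687 q19862, e3 q16160 L234689 q19863, e3 q16161 L204374 q16006, e3 q16162 L204380 q11672, e3 q16163 L204386 q16026, e3 q16164 L204392 q13921, e3 q16165 L234747 q19871, e3 q16166 L222868 q15288, e3 q16167 (flp_b L204404) q11673, e3 q16168 (flp_b L204819) q16218, e3 q16169 L234763 q19873, e3 q16170 L204433 q13923, e3 q16171 L204439 q11678, e3 q16172 (flp_b L204441) q11675, e3 q16173 L214377 q17384, e3 q16174 L234833 q19880, e3 q16175 L234835 q19881, e3 q16176 L204461 q16082, e3 q16177 L204467 q11679, e3 q16178 L204473 q13928, e3 q16179 L204479 q16103, e3 q16180 L222896 q15235, e3 q16181 L234893 q19889, e3 q16182 (flp_b L204500) q14901, e3 q16183 L204510 q12061, e3 q16184 L204521 q14949, e3 q16185 L204531 q11849, e3 q16186 L204542 q11841, e3 q16187 L204553 q12055, e3 q16188 L204559 q14833, e3 q16189 (flp_b L205548) q16302, e3 q16190 (flp_b L207565) q16538, e3 q16191 L204585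 q14801, trivial⟩ (by decide +kernel)

theorem ce_b_253 : ∀ r, r < 64 → sm gb (Qf (16192 + r)) = Qf (tab Gen.b (16192 + r)) :=
  edges_tab (sm gb) Qf (tab Gen.b) 16192 [(16192, 16452), (16193, 16573), (16194, 11710), (16195, 16318), (16196, 11714), (16197, 13388), (16198, 16203), (16199, 11719), (16200, 16465), (16201, 11723), (16202, 13440), (16203, 16198), (16204, 11731), (16205, 11842), (16206, 12060), (16207, 12603), (16208, 12593), (16209, 15572), (16210, 19895), (16211, 11739), (16212, 11745), (16213, 16224), (16214, 11747), (16215, 13320), (16216, 12193), (16217, 11751), (16218, 16168), (16219, 19899), (16220, 11754), (16221, 11757), (16222, 12227), (16223, 12748), (16224, 16213), (16225, 17883), (16226, 19904), (16227, 11763), (16228, 12054), (16229, 19530), (16230, 11765), (16231, 17413), (16232, 16858), (16233, 11768), (16234, 16524), (16235, 11774), (16236, 11847), (16237, 12604), (16238, 12594), (16239, 15812), (16240, 19908), (16241, 11782), (16242, 11788), (16243, 16254), (16244, 11790), (16245, 13375),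 (16246, 12005), (16247, 11794), (16248, 16153), (16249, 19912), (16250, 11797), (16251, 11800), (16252, 12286), (16253, 12739), (16254, 16243), (16255, 17889)]
    ⟨e3 q16192 (flp_b L206831) q16452, e3 q16193 (flp_b L207850) q16573, e3 q16194 (flp_b L204607) q11710, e3 q16195 (flp_b L205693) q16318, e3 q16196 (flp_b L204621) q11714, e3 q16197 L204635 q13388, e3 q16198 (flp_b L204689) q16203, e3 q16199 (flp_b L204648) q11719, e3 q16200 (flp_b L206966) q16465, e3 q16201 (flp_b L204662) q11723, e3 q16202 L204676 q13440, e3 q16203 L204689 q16198, e3 q16204 (flp_b L204691) q11731, e3 q16205 L204708 q11842, e3 q16206 L204718 q12060, e3 q16207 L204724 q12603, e3 q16208 L204733 q12593, e3 q16209 L204748 q15572, e3 q16210 L234961 q19895, e3 q16211 (flp_b L204756) q11739, e3 q16212 L204770 q11745, e3 q16213 (flp_b L204867) q16224, e3 q16214 (flp_b L204782) q11747, e3 q16215 (flp_b L204794) q13320, e3 q16216 L204804 q12193, e3 q16217 L204811 q11751, e3 q16218 L204819 q16168, e3 q16219 L235003 q19899, e3 q16220 (flp_b L204837)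 q11754, e3 q16221 (flp_b L204845) q11757, e3 q16222 L204853 q12227, e3 q16223 L204859 q12748, e3 q16224 L204867 q16213, e3 q16225 (flp_b L218686) q17883, e3 q16226 L235043 q19904, e3 q16227 (flp_b L204883) q11763, e3 q16228 L204889 q12054, e3 q16229 (flp_b L231900) q19530, e3 q16230 (flp_b L204900) q11765, e3 q16231 (flp_b L214659) q17413, e3 q16232 L210317 q16858, e3 q16233 (flp_b L204918) q11768, e3 q16234 (flp_b L207437) q16524, e3 q16235 (flp_b L204934) q11774, e3 q16236 L204952 q11847, e3 q16237 L204958 q12604, e3 q16238 L204967 q12594, e3 q16239 L204986 q15812, e3 q16240 L235081 q19908, e3 q16241 (flp_b L204998) q11782, e3 q16242 L205012 q11788, e3 q16243 (flp_b L205115) q16254, e3 q16244 (flp_b L205024) q11790, e3 q16245 (flp_b L205036) q13375, e3 q16246 L205046 q12005, e3 q16247 L205053 q11794, e3 q16248 L205067 q16153, e3 q16249 L235123 q19912, e3 q16250 (flp_b L205085) q11797, e3 q16251 (flp_b L205093) q11800, e3 q16252 L205101 q12286, e3 q16253 L205107 q12739, e3 q16254 L205115 q16243, e3 q16255 (flp_b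 L218750) q17889, trivial⟩ (by decide +kernel)

theorem ce_b_254 : ∀ r, r < 64 → sm gb (Qf (16256 + r)) = Qf (tab Gen.b (16256 + r)) :=
  edges_tab (sm gb) Qf (tab Gen.b) 16256 [(16256, 19917), (16257, 11806), (16258, 19302), (16259, 11808), (16260, 17409), (16261, 16867), (16262, 11811), (16263, 16417), (16264, 14705), (16265, 14044), (16266, 11860), (16267, 19920), (16268, 16268), (16269, 16331), (16270, 11818), (16271, 16603), (16272, 16321), (16273, 16273), (16274, 19925), (16275, 13324), (16276, 16276), (16277, 12809), (16278, 11835), (16279, 11829), (16280, 15838), (16281, 13734), (16282, 19926), (16283, 11836), (16284, 13942), (16285, 15876), (16286, 12214), (16287, 11898), (16288, 13709), (16289, 14116), (16290, 11852), (16291, 19927), (16292, 11856), (16293, 11861), (16294, 12607), (16295, 11895), (16296, 16449), (16297, 11866), (16298, 17831), (16299, 11868), (16300, 11869), (16301, 11870), (16302, 16189), (16303, 15641), (16304, 14081), (16305, 11879), (16306, 14830), (16307, 19930), (16308, 14741), (16309,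 16458), (16310, 16314), (16311, 11896), (16312, 19894), (16313, 16317), (16314, 16310), (16315, 12213), (16316, 16462), (16317, 16313), (16318, 16195), (16319, 17460)]
    ⟨e3 q16256 L235163 q19917, e3 q16257 (flp_b L205135) q11806, e3 q16258 (flp_b L229810) q19302, e3 q16259 (flp_b L205147) q11808, e3 q16260 (flp_b L214621) q17409, e3 q16261 L210405 q16867, e3 q16262 (flp_b L205165) q11811, e3 q16263 (flp_b L206500) q16417, e3 q16264 L205185 q14705, e3 q16265 L205199 q14044, e3 q16266 L205217 q11860, e3 q16267 L235187 q19920, e3 q16268 L205235 q16268, e3 q16269 (flp_b L205806) q16331, e3 q16270 (flp_b L205242) q11818, e3 q16271 (flp_b L208106) q16603, e3 q16272 (flp_b L205717) q16321, e3 q16273 L205270 q16273, e3 q16274 L235235 q19925, e3 q16275 L205293 q13324, e3 q16276 L205299 q16276, e3 q16277 L205310 q12809, e3 q16278 L205314 q11835, e3 q16279 (flp_b L205318) q11829, e3 q16280 L205332 q15838, e3 q16281 L205344 q13734, e3 q16282 L235244 q19926, e3 q16283 (flp_b L205360) q11836, e3 q16284 (flp_b L205368) q13942,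 e3 q16285 L205380 q15876, e3 q16286 (flp_b L205393) q12214, e3 q16287 L205407 q11898, e3 q16288 L205416 q13709, e3 q16289 L205432 q14116, e3 q16290 (flp_b L205434) q11852, e3 q16291 L235252 q19927, e3 q16292 (flp_b L205444) q11856, e3 q16293 (flp_b L205456) q11861, e3 q16294 L205474 q12607, e3 q16295 (flp_b L205486) q11895, e3 q16296 (flp_b L206807) q16449, e3 q16297 (flp_b L205498) q11866, e3 q16298 (flp_b L218202) q17831, e3 q16299 L205516 q11868, e3 q16300 (flp_b L205524) q11869, e3 q16301 (flp_b L205536) q11870, e3 q16302 L205548 q16189, e3 q16303 L205562 q15641, e3 q16304 L205570 q14081, e3 q16305 L205574 q11879, e3 q16306 L205586 q14830, e3 q16307 (flp_b L235288) q19930, e3 q16308 L205605 q14741, e3 q16309 (flp_b L206896) q16458, e3 q16310 (flp_b L205651) q16314, e3 q16311 L205633 q11896, e3 q16312 (flp_b L234959) q19894, e3 q16313 (flp_b L205681) q16317, e3 q16314 L205651 q16310, e3 q16315 L205659 q12213, e3 q16316 (flp_b L206930) q16462, e3 q16317 L205681 q16313, e3 q16318 L205693 q16195, e3 q16319 (flp_b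 L215127) q17460, trivial⟩ (by decide +kernel)

theorem ce_b_255 : ∀ r, r < 64 → sm gb (Qf (16320 + r)) = Qf (tab Gen.b (16320 + r)) :=
  edges_tab (sm gb) Qf (tab Gen.b) 16320 [(16320, 12068), (16321, 16272), (16322, 14796), (16323, 16529), (16324, 14033), (16325, 11912), (16326, 17925), (16327, 11930), (16328, 17924), (16329, 11929), (16330, 17473), (16331, 16269), (16332, 17439), (16333, 12304), (16334, 16414), (16335, 11987), (16336, 13462), (16337, 17214), (16338, 17443), (16339, 14898), (16340, 11945), (16341, 19942), (16342, 12012), (16343, 11942), (16344, 13481), (16345, 16794), (16346, 19128), (16347, 19945), (16348, 11946), (16349, 12802), (16350, 17036), (16351, 12713), (16352, 16389), (16353, 12478), (16354, 17837), (16355, 14779), (16356, 11963), (16357, 17518), (16358, 12081), (16359, 12072), (16360, 14099), (16361, 17268), (16362, 12733), (16363, 12895), (16364, 16492), (16365, 11984), (16366, 13372), (16367, 19950), (16368, 12305), (16369, 14002), (16370, 15114), (16371, 16427), (16372, 14829), (16373,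 11992), (16374, 19953), (16375, 12313), (16376, 12004), (16377, 11996), (16378, 16821), (16379, 17173), (16380, 16387), (16381, 13383), (16382, 19647), (16383, 16820)]
    ⟨e3 q16320 L205711 q12068, e3 q16321 L205717 q16272, e3 q16322 L205731 q14796, e3 q16323 (flp_b L207483) q16529, e3 q16324 L205747 q14033, e3 q16325 L205751 q11912, e3 q16326 (flp_b L219094) q17925, e3 q16327 L205769 q11930, e3 q16328 (flp_b L219082) q17924, e3 q16329 (flp_b L205787) q11929, e3 q16330 (flp_b L215264) q17473, e3 q16331 L205806 q16269, e3 q16332 (flp_b L214920) q17439, e3 q16333 L205818 q12304, e3 q16334 (flp_b L206468) q16414, e3 q16335 L205832 q11987, e3 q16336 L205844 q13462, e3 q16337 (flp_b L213007) q17214, e3 q16338 (flp_b L214968) q17443, e3 q16339 L205866 q14898, e3 q16340 L205870 q11945, e3 q16341 L235406 q19942, e3 q16342 L205882 q12012, e3 q16343 (flp_b L205884) q11942, e3 q16344 (flp_b L205899) q13481, e3 q16345 (flp_b L209799) q16794, e3 q16346 (flp_b L228393) q19128, e3 q16347 L235434 q19945, e3 q16348 (flp_b L205917)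 q11946, e3 q16349 L205925 q12802, e3 q16350 (flp_b L211729) q17036, e3 q16351 L205935 q12713, e3 q16352 (flp_b L206268) q16389, e3 q16353 L205957 q12478, e3 q16354 (flp_b L218260) q17837, e3 q16355 L205976 q14779, e3 q16356 (flp_b L205978) q11963, e3 q16357 L215689 q17518, e3 q16358 L205996 q12081, e3 q16359 L206008 q12072, e3 q16360 L206020 q14099, e3 q16361 (flp_b L213353) q17268, e3 q16362 L206036 q12733, e3 q16363 (flp_b L206046) q12895, e3 q16364 (flp_b L207162) q16492, e3 q16365 L206060 q11984, e3 q16366 L206072 q13372, e3 q16367 (flp_b L235481) q19950, e3 q16368 (flp_b L206086) q12305, e3 q16369 (flp_b L206096) q14002, e3 q16370 L206108 q15114, e3 q16371 L206585 q16427, e3 q16372 L206126 q14829, e3 q16373 (flp_b L206128) q11992, e3 q16374 (flp_b L235507) q19953, e3 q16375 L206150 q12313, e3 q16376 (flp_b L206160) q12004, e3 q16377 L206164 q11996, e3 q16378 (flp_b L210011) q16821, e3 q16379 L212717 q17173, e3 q16380 (flp_b L206250) q16387, e3 q16381 L206192 q13383, e3 q16382 L232937 q19647, e3 q16383 (flp_b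 L210001) q16820, trivial⟩ (by decide +kernel)

theorem ce_b_256 : ∀ r, r < 64 → sm gb (Qf (16384 + r)) = Qf (tab Gen.b (16384 + r)) :=
  edges_tab (sm gb) Qf (tab Gen.b) 16384 [(16384, 13480), (16385, 12002), (16386, 12003), (16387, 16380), (16388, 13341), (16389, 16352), (16390, 19961), (16391, 12194), (16392, 12254), (16393, 19962), (16394, 19956), (16395, 19911), (16396, 12181), (16397, 13313), (16398, 12015), (16399, 17088), (16400, 16796), (16401, 13331), (16402, 16508), (16403, 17156), (16404, 19941), (16405, 18577), (16406, 19977), (16407, 12014), (16408, 19445), (16409, 17290), (16410, 19441), (16411, 19978), (16412, 12019), (16413, 12959), (16414, 16334), (16415, 13295), (16416, 13699), (16417, 16263), (16418, 14956), (16419, 13979), (16420, 18529), (16421, 14724), (16422, 19981), (16423, 16423), (16424, 16473), (16425, 12033), (16426, 16626), (16427, 16371), (16428, 16428), (16429, 19986), (16430, 13379), (16431, 16431), (16432, 12813), (16433, 12049), (16434, 12041), (16435, 15600), (16436, 13759), (16437,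 19987), (16438, 12050), (16439, 13944), (16440, 12273), (16441, 12107), (16442, 13715), (16443, 14062), (16444, 19932), (16445, 12067), (16446, 12074), (16447, 12613)]
    ⟨e3 q16384 L206216 q13480, e3 q16385 L206230 q12002, e3 q16386 L206240 q12003, e3 q16387 L206250 q16380, e3 q16388 L206262 q13341, e3 q16389 L206268 q16352, e3 q16390 (flp_b L235585) q19961, e3 q16391 (flp_b L206288) q12194, e3 q16392 L206298 q12254, e3 q16393 (flp_b L235597) q19962, e3 q16394 L235543 q19956, e3 q16395 (flp_b L235121) q19911, e3 q16396 L206322 q12181, e3 q16397 L206334 q13313, e3 q16398 L206338 q12015, e3 q16399 L212089 q17088, e3 q16400 (flp_b L209819) q16796, e3 q16401 L206358 q13331, e3 q16402 (flp_b L207309) q16508, e3 q16403 (flp_b L212597) q17156, e3 q16404 (flp_b L235404) q19941, e3 q16405 (flp_b L224567) q18577, e3 q16406 L235733 q19977, e3 q16407 (flp_b L206412) q12014, e3 q16408 L231140 q19445, e3 q16409 (flp_b L213509) q17290, e3 q16410 (flp_b L231104) q19441, e3 q16411 L235741 q19978, e3 q16412 (flp_b L206448) q12019,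 e3 q16413 (flp_b L206462) q12959, e3 q16414 L206468 q16334, e3 q16415 L206478 q13295, e3 q16416 L206488 q13699, e3 q16417 L206500 q16263, e3 q16418 L206506 q14956, e3 q16419 L206522 q13979, e3 q16420 (flp_b L224135) q18529, e3 q16421 L206536 q14724, e3 q16422 L235773 q19981, e3 q16423 L206554 q16423, e3 q16424 (flp_b L207029) q16473, e3 q16425 (flp_b L206561) q12033, e3 q16426 (flp_b L208303) q16626, e3 q16427 (flp_b L206585) q16371, e3 q16428 L206591 q16428, e3 q16429 L235821 q19986, e3 q16430 L206614 q13379, e3 q16431 L206620 q16431, e3 q16432 L206631 q12813, e3 q16433 L206635 q12049, e3 q16434 (flp_b L206639) q12041, e3 q16435 L206653 q15600, e3 q16436 L206665 q13759, e3 q16437 L235830 q19987, e3 q16438 (flp_b L206683) q12050, e3 q16439 L206701 q13944, e3 q16440 L206712 q12273, e3 q16441 L206726 q12107, e3 q16442 L206735 q13715, e3 q16443 L206749 q14062, e3 q16444 (flp_b L235322) q19932, e3 q16445 (flp_b L206759) q12067, e3 q16446 (flp_b L206765) q12074, e3 q16447 L206785 q12613, trivial⟩ (by decide +kernel)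

theorem ce_b_257 : ∀ r, r < 64 → sm gb (Qf (16448 + r)) = Qf (tab Gen.b (16448 + r)) :=
  edges_tab (sm gb) Qf (tab Gen.b) 16448 [(16448, 12104), (16449, 16296), (16450, 12079), (16451, 17841), (16452, 16192), (16453, 14132), (16454, 12088), (16455, 14798), (16456, 19990), (16457, 14762), (16458, 16309), (16459, 16464), (16460, 12105), (16461, 19907), (16462, 16316), (16463, 12272), (16464, 16459), (16465, 16200), (16466, 17432), (16467, 16564), (16468, 14090), (16469, 12118), (16470, 12135), (16471, 12133), (16472, 17448), (16473, 16424), (16474, 17464), (16475, 12245), (16476, 12183), (16477, 16521), (16478, 13410), (16479, 17468), (16480, 14869), (16481, 12148), (16482, 12196), (16483, 20002), (16484, 13428), (16485, 12147), (16486, 18989), (16487, 20004), (16488, 12149), (16489, 12776), (16490, 17125), (16491, 12684), (16492, 16364), (16493, 12442), (16494, 17847), (16495, 14758), (16496, 12166), (16497, 17516), (16498, 17192), (16499, 12742), (16500, 12910), (16501, 19969), (16502, 12247), (16503, 15126),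 (16504, 14021), (16505, 13429), (16506, 12192), (16507, 13334), (16508, 16402), (16509, 20009), (16510, 19898), (16511, 19965)]
    ⟨e3 q16448 L206797 q12104, e3 q16449 L206807 q16296, e3 q16450 (flp_b L206811) q12079, e3 q16451 (flp_b L218304) q17841, e3 q16452 L206831 q16192, e3 q16453 L206845 q14132, e3 q16454 L206849 q12088, e3 q16455 L206861 q14798, e3 q16456 (flp_b L235860) q19990, e3 q16457 L206880 q14762, e3 q16458 L206896 q16309, e3 q16459 (flp_b L206950) q16464, e3 q16460 L206918 q12105, e3 q16461 (flp_b L235079) q19907, e3 q16462 L206930 q16316, e3 q16463 L206940 q12272, e3 q16464 L206950 q16459, e3 q16465 L206966 q16200, e3 q16466 (flp_b L214858) q17432, e3 q16467 (flp_b L207768) q16564, e3 q16468 L206988 q14090, e3 q16469 L206992 q12118, e3 q16470 L207000 q12135, e3 q16471 (flp_b L207008) q12133, e3 q16472 (flp_b L215021) q17448, e3 q16473 L207029 q16424, e3 q16474 (flp_b L215159) q17464, e3 q16475 L207041 q12245, e3 q16476 L207049 q12183, e3 q16477 (flp_b L207405) q16521, e3 q16478 L207067 q13410,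 e3 q16479 (flp_b L215207) q17468, e3 q16480 L207081 q14869, e3 q16481 L207085 q12148, e3 q16482 L207091 q12196, e3 q16483 L235974 q20002, e3 q16484 (flp_b L207107) q13428, e3 q16485 (flp_b L207109) q12147, e3 q16486 (flp_b L227488) q18989, e3 q16487 L235994 q20004, e3 q16488 (flp_b L207130) q12149, e3 q16489 L207140 q12776, e3 q16490 (flp_b L212379) q17125, e3 q16491 L207150 q12684, e3 q16492 L207162 q16364, e3 q16493 L207174 q12442, e3 q16494 (flp_b L218362) q17847, e3 q16495 L207193 q14758, e3 q16496 (flp_b L207195) q12166, e3 q16497 L215673 q17516, e3 q16498 (flp_b L212851) q17192, e3 q16499 L207219 q12742, e3 q16500 (flp_b L207229) q12910, e3 q16501 (flp_b L235663) q19969, e3 q16502 (flp_b L207243) q12247, e3 q16503 L207253 q15126, e3 q16504 (flp_b L207265) q14021, e3 q16505 L207273 q13429, e3 q16506 L207285 q12192, e3 q16507 L207301 q13334, e3 q16508 L207309 q16402, e3 q16509 (flp_b L236041) q20009, e3 q16510 (flp_b L235001) q19898, e3 q16511 L235635 q19965, trivial⟩ (by decide +kernel)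

theorem ce_b_258 : ∀ r, r < 64 → sm gb (Qf (16512 + r)) = Qf (tab Gen.b (16512 + r)) :=
  edges_tab (sm gb) Qf (tab Gen.b) 16512 [(16512, 19999), (16513, 17069), (16514, 20014), (16515, 18563), (16516, 12198), (16517, 19643), (16518, 20015), (16519, 12202), (16520, 13034), (16521, 16477), (16522, 13354), (16523, 13696), (16524, 16234), (16525, 14908), (16526, 13983), (16527, 18531), (16528, 17568), (16529, 16323), (16530, 19900), (16531, 13323), (16532, 18876), (16533, 17651), (16534, 15866), (16535, 14142), (16536, 12235), (16537, 15128), (16538, 16190), (16539, 14744), (16540, 17415), (16541, 12243), (16542, 12244), (16543, 17440), (16544, 20023), (16545, 17407), (16546, 20024), (16547, 19995), (16548, 16611), (16549, 20031), (16550, 12250), (16551, 20032), (16552, 20035), (16553, 12252), (16554, 19966), (16555, 12255), (16556, 12256), (16557, 16593), (16558, 16592), (16559, 19534), (16560, 14484), (16561, 20037), (16562, 12618), (16563, 17596), (16564, 16467), (16565, 19913), (16566, 13378), (16567, 18931),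 (16568, 17721), (16569, 14150), (16570, 15632), (16571, 12294), (16572, 15116), (16573, 16193), (16574, 14765), (16575, 17429)]
    ⟨e3 q16512 (flp_b L235958) q19999, e3 q16513 (flp_b L211953) q17069, e3 q16514 L236079 q20014, e3 q16515 (flp_b L224445) q18563, e3 q16516 (flp_b L207359) q12198, e3 q16517 (flp_b L232895) q19643, e3 q16518 L236089 q20015, e3 q16519 (flp_b L207385) q12202, e3 q16520 (flp_b L207399) q13034, e3 q16521 L207405 q16477, e3 q16522 L207415 q13354, e3 q16523 L207425 q13696, e3 q16524 L207437 q16234, e3 q16525 L207443 q14908, e3 q16526 L207459 q13983, e3 q16527 (flp_b L224153) q18531, e3 q16528 (flp_b L216113) q17568, e3 q16529 L207483 q16323, e3 q16530 (flp_b L235015) q19900, e3 q16531 (flp_b L207497) q13323, e3 q16532 (flp_b L226589) q18876, e3 q16533 (flp_b L216701) q17651, e3 q16534 L207519 q15866, e3 q16535 L207527 q14142, e3 q16536 (flp_b L207529) q12235, e3 q16537 L207555 q15128, e3 q16538 L207565 q16190, e3 q16539 L207575 q14744, e3 q16540 (flp_b L214681) q17415, e3 q16541 L207589 q12243,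 e3 q16542 L207595 q12244, e3 q16543 (flp_b L214938) q17440, e3 q16544 (flp_b L236163) q20023, e3 q16545 (flp_b L214599) q17407, e3 q16546 (flp_b L236169) q20024, e3 q16547 (flp_b L235918) q19995, e3 q16548 (flp_b L208169) q16611, e3 q16549 L236217 q20031, e3 q16550 (flp_b L207650) q12250, e3 q16551 L236227 q20032, e3 q16552 L236241 q20035, e3 q16553 (flp_b L207666) q12252, e3 q16554 (flp_b L235645) q19966, e3 q16555 (flp_b L207682) q12255, e3 q16556 (flp_b L207690) q12256, e3 q16557 (flp_b L208001) q16593, e3 q16558 (flp_b L207993) q16592, e3 q16559 (flp_b L231944) q19534, e3 q16560 L207724 q14484, e3 q16561 L236253 q20037, e3 q16562 L207752 q12618, e3 q16563 (flp_b L216311) q17596, e3 q16564 L207768 q16467, e3 q16565 (flp_b L235135) q19913, e3 q16566 (flp_b L207782) q13378, e3 q16567 (flp_b L227018) q18931, e3 q16568 (flp_b L217274) q17721, e3 q16569 L207802 q14150, e3 q16570 L207810 q15632, e3 q16571 (flp_b L207814) q12294, e3 q16572 L207840 q15116, e3 q16573 L207850 q16193, e3 q16574 L207860 q14765, e3 q16575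 (flp_b L214829) q17429, trivial⟩ (by decide +kernel)

theorem ce_b_259 : ∀ r, r < 64 → sm gb (Qf (16576 + r)) = Qf (tab Gen.b (16576 + r)) :=
  edges_tab (sm gb) Qf (tab Gen.b) 16576 [(16576, 12302), (16577, 12303), (16578, 17465), (16579, 20043), (16580, 17425), (16581, 20044), (16582, 19936), (16583, 16630), (16584, 20051), (16585, 12309), (16586, 20052), (16587, 20055), (16588, 12311), (16589, 19955), (16590, 12314), (16591, 12315), (16592, 16558), (16593, 16557), (16594, 19307), (16595, 14533), (16596, 20057), (16597, 12620), (16598, 13681), (16599, 12339), (16600, 12341), (16601, 15672), (16602, 17937), (16603, 16271), (16604, 12358), (16605, 20059), (16606, 20063), (16607, 20064), (16608, 12359), (16609, 12360), (16610, 12363), (16611, 16548), (16612, 20067), (16613, 12367), (16614, 20068), (16615, 13026), (16616, 20071), (16617, 12370), (16618, 18561), (16619, 20074), (16620, 12375), (16621, 13690), (16622, 12385), (16623, 12386), (16624, 15902), (16625, 17947), (16626, 16426), (16627, 12403), (16628, 20076),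 (16629, 12404), (16630, 16583), (16631, 20079), (16632, 20082), (16633, 13096), (16634, 12409), (16635, 18575), (16636, 12419), (16637, 12415), (16638, 15901), (16639, 13500)]
    ⟨e3 q16576 L207874 q12302, e3 q16577 L207880 q12303, e3 q16578 (flp_b L215177) q17465, e3 q16579 (flp_b L236302) q20043, e3 q16580 (flp_b L214781) q17425, e3 q16581 (flp_b L236308) q20044, e3 q16582 (flp_b L235360) q19936, e3 q16583 (flp_b L208329) q16630, e3 q16584 L236356 q20051, e3 q16585 (flp_b L207935) q12309, e3 q16586 L236366 q20052, e3 q16587 L236380 q20055, e3 q16588 (flp_b L207951) q12311, e3 q16589 (flp_b L235533) q19955, e3 q16590 (flp_b L207967) q12314, e3 q16591 (flp_b L207977) q12315, e3 q16592 L207993 q16558, e3 q16593 L208001 q16557, e3 q16594 (flp_b L229866) q19307, e3 q16595 L208013 q14533, e3 q16596 L236392 q20057, e3 q16597 L208041 q12620, e3 q16598 L208055 q13681, e3 q16599 L208061 q12339, e3 q16600 (flp_b L208071) q12341, e3 q16601 L208086 q15672, e3 q16602 L219210 q17937, e3 q16603 L208106 q16271, e3 q16604 L208110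 q12358, e3 q16605 (flp_b L236415) q20059, e3 q16606 L236443 q20063, e3 q16607 L236454 q20064, e3 q16608 (flp_b L208140) q12359, e3 q16609 (flp_b L208149) q12360, e3 q16610 (flp_b L208159) q12363, e3 q16611 L208169 q16548, e3 q16612 L236480 q20067, e3 q16613 (flp_b L208183) q12367, e3 q16614 L236490 q20068, e3 q16615 L208199 q13026, e3 q16616 L236502 q20071, e3 q16617 (flp_b L208205) q12370, e3 q16618 (flp_b L224435) q18561, e3 q16619 L236526 q20074, e3 q16620 (flp_b L208229) q12375, e3 q16621 L208252 q13690, e3 q16622 L208258 q12385, e3 q16623 (flp_b L208268) q12386, e3 q16624 L208283 q15902, e3 q16625 L219314 q17947, e3 q16626 L208303 q16426, e3 q16627 L208307 q12403, e3 q16628 (flp_b L236551) q20076, e3 q16629 (flp_b L208317) q12404, e3 q16630 L208329 q16583, e3 q16631 L236569 q20079, e3 q16632 L236589 q20082, e3 q16633 L208351 q13096, e3 q16634 (flp_b L208353) q12409, e3 q16635 (flp_b L224557) q18575, e3 q16636 L208381 q12419, e3 q16637 (flp_b L208383) q12415, e3 q16638 L208397 q15901, e3 q16639 L208417 q13500,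 trivial⟩ (by decide +kernel)

theorem ce_b_260 : ∀ r, r < 64 → sm gb (Qf (16640 + r)) = Qf (tab Gen.b (16640 + r)) :=
  edges_tab (sm gb) Qf (tab Gen.b) 16640 [(16640, 12435), (16641, 13760), (16642, 12429), (16643, 15671), (16644, 13524), (16645, 12437), (16646, 13955), (16647, 12441), (16648, 12449), (16649, 20084), (16650, 20007), (16651, 12447), (16652, 12452), (16653, 20085), (16654, 13504), (16655, 12451), (16656, 20089), (16657, 18251), (16658, 12454), (16659, 12538), (16660, 17873), (16661, 12463), (16662, 13735), (16663, 12474), (16664, 13975), (16665, 12477), (16666, 12486), (16667, 20092), (16668, 19948), (16669, 12483), (16670, 12488), (16671, 20093), (16672, 13528), (16673, 12487), (16674, 20097), (16675, 18247), (16676, 12490), (16677, 12547), (16678, 17861), (16679, 12497), (16680, 12505), (16681, 12506), (16682, 12509), (16683, 12842), (16684, 16987), (16685, 14199), (16686, 20108), (16687, 12945), (16688, 12512), (16689, 12848), (16690, 17012), (16691, 14203), (16692, 20116), (16693, 12929), (16694,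 13018), (16695, 13090), (16696, 20118), (16697, 17623), (16698, 15450), (16699, 12524), (16700, 20122), (16701, 12887), (16702, 17965), (16703, 19818)]
    ⟨e3 q16640 L208433 q12435, e3 q16641 L208443 q13760, e3 q16642 (flp_b L208445) q12429, e3 q16643 L208459 q15671, e3 q16644 L208481 q13524, e3 q16645 (flp_b L208483) q12437, e3 q16646 L208509 q13955, e3 q16647 L208515 q12441, e3 q16648 L208531 q12449, e3 q16649 (flp_b L236609) q20084, e3 q16650 (flp_b L236031) q20007, e3 q16651 (flp_b L208545) q12447, e3 q16652 L208558 q12452, e3 q16653 (flp_b L236625) q20085, e3 q16654 L208580 q13504, e3 q16655 (flp_b L208582) q12451, e3 q16656 (flp_b L236661) q20089, e3 q16657 (flp_b L221560) q18251, e3 q16658 (flp_b L208608) q12454, e3 q16659 L208632 q12538, e3 q16660 L218588 q17873, e3 q16661 (flp_b L208636) q12463, e3 q16662 L208654 q13735, e3 q16663 (flp_b L208656) q12474, e3 q16664 L208682 q13975, e3 q16665 L208688 q12477, e3 q16666 L208704 q12486, e3 q16667 (flp_b L236691) q20092, e3 q16668 (flp_b L235467) q19948, e3 q16669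 (flp_b L208718) q12483, e3 q16670 L208731 q12488, e3 q16671 (flp_b L236707) q20093, e3 q16672 L208753 q13528, e3 q16673 (flp_b L208755) q12487, e3 q16674 (flp_b L236743) q20097, e3 q16675 (flp_b L221526) q18247, e3 q16676 (flp_b L208781) q12490, e3 q16677 L208805 q12547, e3 q16678 (flp_b L218484) q17861, e3 q16679 (flp_b L208809) q12497, e3 q16680 (flp_b L208825) q12505, e3 q16681 (flp_b L208831) q12506, e3 q16682 (flp_b L208837) q12509, e3 q16683 L208849 q12842, e3 q16684 (flp_b L211326) q16987, e3 q16685 L208867 q14199, e3 q16686 L236843 q20108, e3 q16687 (flp_b L208885) q12945, e3 q16688 (flp_b L208887) q12512, e3 q16689 (flp_b L210679) q12848, e3 q16690 L211531 q17012, e3 q16691 L208911 q14203, e3 q16692 L236927 q20116, e3 q16693 (flp_b L208929) q12929, e3 q16694 L208939 q13018, e3 q16695 L208949 q13090, e3 q16696 L236949 q20118, e3 q16697 (flp_b L216505) q17623, e3 q16698 L208971 q15450, e3 q16699 (flp_b L208973) q12524, e3 q16700 L236991 q20122, e3 q16701 L208999 q12887, e3 q16702 (flp_b L219464) q17965, e3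 q16703 L234297 q19818, trivial⟩ (by decide +kernel)

theorem ce_b_261 : ∀ r, r < 64 → sm gb (Qf (16704 + r)) = Qf (tab Gen.b (16704 + r)) :=
  edges_tab (sm gb) Qf (tab Gen.b) 16704 [(16704, 16981), (16705, 20125), (16706, 17619), (16707, 15346), (16708, 12528), (16709, 20129), (16710, 12875), (16711, 17960), (16712, 19725), (16713, 17006), (16714, 12531), (16715, 16765), (16716, 16763), (16717, 12535), (16718, 18469), (16719, 17603), (16720, 12540), (16721, 16757), (16722, 16755), (16723, 12544), (16724, 18411), (16725, 17575), (16726, 14395), (16727, 12852), (16728, 13781), (16729, 15606), (16730, 14417), (16731, 12846), (16732, 13773), (16733, 15843), (16734, 20146), (16735, 16735), (16736, 16739), (16737, 20149), (16738, 16738), (16739, 16736), (16740, 17872), (16741, 14911), (16742, 17860), (16743, 14958), (16744, 12585), (16745, 12591), (16746, 12606), (16747, 19260), (16748, 12610), (16749, 12611), (16750, 19493), (16751, 12616), (16752, 12623), (16753, 19541), (16754, 12626), (16755, 16722), (16756, 15677),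 (16757, 16721), (16758, 19914), (16759, 20156), (16760, 12634), (16761, 19314), (16762, 12637), (16763, 16716), (16764, 15907), (16765, 16715), (16766, 19901), (16767, 20161)]
    ⟨e3 q16704 (flp_b L211278) q16981, e3 q16705 L237019 q20125, e3 q16706 (flp_b L216479) q17619, e3 q16707 L209043 q15346, e3 q16708 (flp_b L209045) q12528, e3 q16709 L237061 q20129, e3 q16710 L209071 q12875, e3 q16711 (flp_b L219432) q17960, e3 q16712 (flp_b L233551) q19725, e3 q16713 (flp_b L211477) q17006, e3 q16714 (flp_b L209095) q12531, e3 q16715 (flp_b L209545) q16765, e3 q16716 (flp_b L209525) q16763, e3 q16717 (flp_b L209127) q12535, e3 q16718 (flp_b L223583) q18469, e3 q16719 (flp_b L216353) q17603, e3 q16720 (flp_b L209153) q12540, e3 q16721 (flp_b L209473) q16757, e3 q16722 (flp_b L209453) q16755, e3 q16723 (flp_b L209185) q12544, e3 q16724 (flp_b L223173) q18411, e3 q16725 (flp_b L216155) q17575, e3 q16726 L209215 q14395, e3 q16727 (flp_b L209223) q12852, e3 q16728 L209231 q13781, e3 q16729 L209239 q15606, e3 q16730 L209245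 q14417, e3 q16731 (flp_b L209253) q12846, e3 q16732 L209261 q13773, e3 q16733 L209269 q15843, e3 q16734 L237227 q20146, e3 q16735 L209281 q16735, e3 q16736 (flp_b L209317) q16739, e3 q16737 L237253 q20149, e3 q16738 L209304 q16738, e3 q16739 L209317 q16736, e3 q16740 (flp_b L218576) q17872, e3 q16741 L209335 q14911, e3 q16742 (flp_b L218472) q17860, e3 q16743 L209353 q14958, e3 q16744 (flp_b L209355) q12585, e3 q16745 (flp_b L209367) q12591, e3 q16746 (flp_b L209379) q12606, e3 q16747 (flp_b L229428) q19260, e3 q16748 L209397 q12610, e3 q16749 (flp_b L209401) q12611, e3 q16750 (flp_b L231574) q19493, e3 q16751 L209419 q12616, e3 q16752 (flp_b L209423) q12623, e3 q16753 (flp_b L232018) q19541, e3 q16754 L209441 q12626, e3 q16755 L209453 q16722, e3 q16756 (flp_b L209465) q15677, e3 q16757 L209473 q16721, e3 q16758 (flp_b L235143) q19914, e3 q16759 L237307 q20156, e3 q16760 (flp_b L209495) q12634, e3 q16761 (flp_b L229940) q19314, e3 q16762 L209513 q12637, e3 q16763 L209525 q16716, e3 q16764 L209535 q15907, e3 q16765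 L209545 q16715, e3 q16766 (flp_b L235023) q19901, e3 q16767 L237348 q20161, trivial⟩ (by decide +kernel)

theorem ce_b_262 : ∀ r, r < 64 → sm gb (Qf (16768 + r)) = Qf (tab Gen.b (16768 + r)) :=
  edges_tab (sm gb) Qf (tab Gen.b) 16768 [(16768, 12643), (16769, 15567), (16770, 15616), (16771, 12647), (16772, 14781), (16773, 12652), (16774, 15806), (16775, 15850), (16776, 12656), (16777, 14815), (16778, 17049), (16779, 18545), (16780, 20165), (16781, 12665), (16782, 16967), (16783, 12669), (16784, 20170), (16785, 19226), (16786, 18171), (16787, 12672), (16788, 15949), (16789, 20171), (16790, 15628), (16791, 20174), (16792, 12676), (16793, 13138), (16794, 16345), (16795, 20005), (16796, 16400), (16797, 19578), (16798, 17274), (16799, 20178), (16800, 13165), (16801, 20180), (16802, 12688), (16803, 14010), (16804, 17139), (16805, 18541), (16806, 20182), (16807, 12694), (16808, 16992), (16809, 12698), (16810, 20187), (16811, 19466), (16812, 18117), (16813, 12701), (16814, 15722), (16815, 20188), (16816, 15862), (16817,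 20191), (16818, 12705), (16819, 13197), (16820, 16383), (16821, 16378), (16822, 19946), (16823, 19363), (16824, 17198), (16825, 20195), (16826, 13106), (16827, 20197), (16828, 12717), (16829, 13991), (16830, 13112), (16831, 13888)]
    ⟨e3 q16768 (flp_b L209567) q12643, e3 q16769 L209585 q15567, e3 q16770 L209599 q15616, e3 q16771 (flp_b L209601) q12647, e3 q16772 L209623 q14781, e3 q16773 (flp_b L209625) q12652, e3 q16774 L209643 q15806, e3 q16775 L209657 q15850, e3 q16776 (flp_b L209659) q12656, e3 q16777 L209681 q14815, e3 q16778 (flp_b L211809) q17049, e3 q16779 (flp_b L224303) q18545, e3 q16780 L237385 q20165, e3 q16781 (flp_b L209711) q12665, e3 q16782 L211179 q16967, e3 q16783 (flp_b L209719) q12669, e3 q16784 L237421 q20170, e3 q16785 (flp_b L229116) q19226, e3 q16786 (flp_b L220966) q18171, e3 q16787 (flp_b L209741) q12672, e3 q16788 L209753 q15949, e3 q16789 L237431 q20171, e3 q16790 L209767 q15628, e3 q16791 L237453 q20174, e3 q16792 (flp_b L209777) q12676, e3 q16793 L209795 q13138, e3 q16794 L209799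 q16345, e3 q16795 (flp_b L236007) q20005, e3 q16796 L209819 q16400, e3 q16797 (flp_b L232330) q19578, e3 q16798 (flp_b L213399) q17274, e3 q16799 L237495 q20178, e3 q16800 L209851 q13165, e3 q16801 L237511 q20180, e3 q16802 (flp_b L209861) q12688, e3 q16803 L209881 q14010, e3 q16804 (flp_b L212465) q17139, e3 q16805 (flp_b L224267) q18541, e3 q16806 L237531 q20182, e3 q16807 (flp_b L209913) q12694, e3 q16808 L211370 q16992, e3 q16809 (flp_b L209921) q12698, e3 q16810 L237567 q20187, e3 q16811 (flp_b L231300) q19466, e3 q16812 (flp_b L220536) q18117, e3 q16813 (flp_b L209943) q12701, e3 q16814 L209955 q15722, e3 q16815 L237577 q20188, e3 q16816 L209969 q15862, e3 q16817 L237599 q20191, e3 q16818 (flp_b L209979) q12705, e3 q16819 L209997 q13197, e3 q16820 L210001 q16383, e3 q16821 L210011 q16378, e3 q16822 (flp_b L235445) q19946, e3 q16823 (flp_b L230316) q19363, e3 q16824 (flp_b L212897) q17198, e3 q16825 L237641 q20195, e3 q16826 L210053 q13106, e3 q16827 L237657 q20197, e3 q16828 (flp_b L210063) q12717, e3 q16829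 L210083 q13991, e3 q16830 L210091 q13112, e3 q16831 (flp_b L210097) q13888, trivial⟩ (by decide +kernel)

theorem ce_b_263 : ∀ r, r < 64 → sm gb (Qf (16832 + r)) = Qf (tab Gen.b (16832 + r)) :=
  edges_tab (sm gb) Qf (tab Gen.b) 16832 [(16832, 19742), (16833, 13118), (16834, 19505), (16835, 18105), (16836, 12724), (16837, 13171), (16838, 13901), (16839, 19837), (16840, 13177), (16841, 19272), (16842, 18159), (16843, 12731), (16844, 20206), (16845, 12741), (16846, 20208), (16847, 12750), (16848, 20210), (16849, 12754), (16850, 20211), (16851, 12758), (16852, 12760), (16853, 12916), (16854, 17939), (16855, 16870), (16856, 14019), (16857, 12771), (16858, 16232), (16859, 14637), (16860, 15811), (16861, 12785), (16862, 12901), (16863, 17949), (16864, 16871), (16865, 14000), (16866, 12796), (16867, 16261), (16868, 14666), (16869, 15568), (16870, 16855), (16871, 16864), (16872, 14540), (16873, 15070), (16874, 18723), (16875, 12825), (16876, 17004), (16877, 15072), (16878, 15445), (16879, 14591), (16880, 15073), (16881,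 18733), (16882, 12829), (16883, 16979), (16884, 15075), (16885, 15341), (16886, 12867), (16887, 15601), (16888, 17010), (16889, 20103), (16890, 20221), (16891, 12843), (16892, 16908), (16893, 15037), (16894, 20223), (16895, 12845)]
    ⟨e3 q16832 (flp_b L233683) q19742, e3 q16833 L210113 q13118, e3 q16834 (flp_b L231670) q19505, e3 q16835 L220436 q18105, e3 q16836 (flp_b L210131) q12724, e3 q16837 L210141 q13171, e3 q16838 (flp_b L210149) q13901, e3 q16839 (flp_b L234453) q19837, e3 q16840 L210163 q13177, e3 q16841 (flp_b L229522) q19272, e3 q16842 (flp_b L220866) q18159, e3 q16843 (flp_b L210181) q12731, e3 q16844 L237749 q20206, e3 q16845 (flp_b L210195) q12741, e3 q16846 L237770 q20208, e3 q16847 (flp_b L210206) q12750, e3 q16848 L237791 q20210, e3 q16849 (flp_b L210221) q12754, e3 q16850 L237804 q20211, e3 q16851 (flp_b L210242) q12758, e3 q16852 (flp_b L210251) q12760, e3 q16853 L210267 q12916, e3 q16854 (flp_b L219230) q17939, e3 q16855 (flp_b L210437) q16870, e3 q16856 L210301 q14019, e3 q16857 (flp_b L210305)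 q12771, e3 q16858 (flp_b L210317) q16232, e3 q16859 L210323 q14637, e3 q16860 L210337 q15811, e3 q16861 (flp_b L210339) q12785, e3 q16862 L210355 q12901, e3 q16863 (flp_b L219334) q17949, e3 q16864 (flp_b L210449) q16871, e3 q16865 L210389 q14000, e3 q16866 (flp_b L210393) q12796, e3 q16867 (flp_b L210405) q16261, e3 q16868 L210411 q14666, e3 q16869 L210425 q15568, e3 q16870 L210437 q16855, e3 q16871 L210449 q16864, e3 q16872 L210457 q14540, e3 q16873 L210465 q15070, e3 q16874 (flp_b L225655) q18723, e3 q16875 (flp_b L210477) q12825, e3 q16876 (flp_b L211461) q17004, e3 q16877 L210493 q15072, e3 q16878 L210503 q15445, e3 q16879 L210511 q14591, e3 q16880 L210519 q15073, e3 q16881 (flp_b L225751) q18733, e3 q16882 (flp_b L210531) q12829, e3 q16883 (flp_b L211262) q16979, e3 q16884 L210547 q15075, e3 q16885 L210557 q15341, e3 q16886 L210563 q12867, e3 q16887 L210579 q15601, e3 q16888 (flp_b L211507) q17010, e3 q16889 (flp_b L236799) q20103, e3 q16890 L237897 q20221, e3 q16891 (flp_b L210603) q12843, e3 q16892 (flp_b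 L210745) q16908, e3 q16893 L210623 q15037, e3 q16894 L237909 q20223, e3 q16895 (flp_b L210633) q12845, trivial⟩ (by decide +kernel)

theorem ce_b_264 : ∀ r, r < 64 → sm gb (Qf (16896 + r)) = Qf (tab Gen.b (16896 + r)) :=
  edges_tab (sm gb) Qf (tab Gen.b) 16896 [(16896, 20226), (16897, 12879), (16898, 16986), (16899, 15840), (16900, 20111), (16901, 20228), (16902, 12849), (16903, 16910), (16904, 15049), (16905, 20230), (16906, 12851), (16907, 20233), (16908, 16892), (16909, 17217), (16910, 16903), (16911, 17293), (16912, 14648), (16913, 20236), (16914, 17002), (16915, 12870), (16916, 20238), (16917, 20239), (16918, 20185), (16919, 12874), (16920, 20244), (16921, 12877), (16922, 20246), (16923, 12878), (16924, 14678), (16925, 20248), (16926, 16977), (16927, 12882), (16928, 20250), (16929, 20251), (16930, 20168), (16931, 12886), (16932, 20256), (16933, 12889), (16934, 20258), (16935, 12890), (16936, 12893), (16937, 19398), (16938, 19233), (16939, 17043), (16940, 17540), (16941, 17864), (16942, 17854), (16943, 14740),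 (16944, 18574), (16945, 20266), (16946, 12900), (16947, 20268), (16948, 17225), (16949, 17491), (16950, 12903), (16951, 12908), (16952, 19603), (16953, 19475), (16954, 17133), (16955, 17536), (16956, 17876), (16957, 17866), (16958, 14761), (16959, 18560)]
    ⟨e3 q16896 L237927 q20226, e3 q16897 L210649 q12879, e3 q16898 L211312 q16986, e3 q16899 L210671 q15840, e3 q16900 (flp_b L236883) q20111, e3 q16901 L237939 q20228, e3 q16902 (flp_b L210699) q12849, e3 q16903 (flp_b L210761) q16910, e3 q16904 L210719 q15049, e3 q16905 L237951 q20230, e3 q16906 (flp_b L210729) q12851, e3 q16907 L237969 q20233, e3 q16908 L210745 q16892, e3 q16909 (flp_b L213035) q17217, e3 q16910 L210761 q16903, e3 q16911 (flp_b L213537) q17293, e3 q16912 L210783 q14648, e3 q16913 L237991 q20236, e3 q16914 L211445 q17002, e3 q16915 (flp_b L210803) q12870, e3 q16916 L237997 q20238, e3 q16917 L238003 q20239, e3 q16918 (flp_b L237553) q20185, e3 q16919 (flp_b L210821) q12874, e3 q16920 L238037 q20244, e3 q16921 (flp_b L210835) q12877, e3 q16922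 L238049 q20246, e3 q16923 (flp_b L210849) q12878, e3 q16924 L210867 q14678, e3 q16925 L238065 q20248, e3 q16926 L211248 q16977, e3 q16927 (flp_b L210887) q12882, e3 q16928 L238071 q20250, e3 q16929 L238077 q20251, e3 q16930 (flp_b L237407) q20168, e3 q16931 (flp_b L210905) q12886, e3 q16932 L238117 q20256, e3 q16933 (flp_b L210919) q12889, e3 q16934 L238129 q20258, e3 q16935 (flp_b L210933) q12890, e3 q16936 (flp_b L210941) q12893, e3 q16937 L230640 q19398, e3 q16938 (flp_b L229176) q19233, e3 q16939 (flp_b L211765) q17043, e3 q16940 L215877 q17540, e3 q16941 (flp_b L218512) q17864, e3 q16942 (flp_b L218424) q17854, e3 q16943 (flp_b L210989) q14740, e3 q16944 (flp_b L224549) q18574, e3 q16945 L238191 q20266, e3 q16946 (flp_b L211007) q12900, e3 q16947 (flp_b L238213) q20268, e3 q16948 L213087 q17225, e3 q16949 (flp_b L215423) q17491, e3 q16950 (flp_b L211043) q12903, e3 q16951 (flp_b L211049) q12908, e3 q16952 L232562 q19603, e3 q16953 (flp_b L231386) q19475, e3 q16954 (flp_b L212421) q17133, e3 q16955 L215841 q17536,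 e3 q16956 (flp_b L218616) q17876, e3 q16957 (flp_b L218528) q17866, e3 q16958 (flp_b L211097) q14761, e3 q16959 (flp_b L224427) q18560, trivial⟩ (by decide +kernel)

theorem ce_b_265 : ∀ r, r < 64 → sm gb (Qf (16960 + r)) = Qf (tab Gen.b (16960 + r)) :=
  edges_tab (sm gb) Qf (tab Gen.b) 16960 [(16960, 20277), (16961, 12915), (16962, 20279), (16963, 17301), (16964, 17482), (16965, 12918), (16966, 12921), (16967, 16782), (16968, 15328), (16969, 16994), (16970, 16970), (16971, 15324), (16972, 20289), (16973, 15448), (16974, 15495), (16975, 16990), (16976, 12934), (16977, 16926), (16978, 14228), (16979, 16883), (16980, 20295), (16981, 16704), (16982, 18950), (16983, 20300), (16984, 17009), (16985, 20102), (16986, 16898), (16987, 16684), (16988, 15470), (16989, 15602), (16990, 16975), (16991, 12937), (16992, 16808), (16993, 15432), (16994, 16969), (16995, 16995), (16996, 15429), (16997, 20309), (16998, 15344), (16999, 15391), (17000, 12949), (17001, 17015), (17002, 16914), (17003, 14222), (17004, 16876), (17005, 20315),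 (17006, 16713), (17007, 19097), (17008, 20320), (17009, 16984), (17010, 16888), (17011, 20110), (17012, 16690), (17013, 15367), (17014, 15839), (17015, 17001), (17016, 13101), (17017, 14544), (17018, 15060), (17019, 17952), (17020, 19455), (17021, 18716), (17022, 18407), (17023, 19538)]
    ⟨e3 q16960 L238285 q20277, e3 q16961 (flp_b L211115) q12915, e3 q16962 (flp_b L238309) q20279, e3 q16963 L213591 q17301, e3 q16964 (flp_b L215335) q17482, e3 q16965 (flp_b L211151) q12918, e3 q16966 (flp_b L211157) q12921, e3 q16967 (flp_b L211179) q16782, e3 q16968 L211185 q15328, e3 q16969 (flp_b L211388) q16994, e3 q16970 L211201 q16970, e3 q16971 L211204 q15324, e3 q16972 L238382 q20289, e3 q16973 L211216 q15448, e3 q16974 L211222 q15495, e3 q16975 (flp_b L211346) q16990, e3 q16976 L211240 q12934, e3 q16977 (flp_b L211248) q16926, e3 q16978 L211256 q14228, e3 q16979 L211262 q16883, e3 q16980 L238435 q20295, e3 q16981 L211278 q16704, e3 q16982 (flp_b L227173) q18950, e3 q16983 L238471 q20300, e3 q16984 (flp_b L211493) q17009,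 e3 q16985 (flp_b L236793) q20102, e3 q16986 (flp_b L211312) q16898, e3 q16987 L211326 q16684, e3 q16988 L211330 q15470, e3 q16989 L211338 q15602, e3 q16990 L211346 q16975, e3 q16991 (flp_b L211348) q12937, e3 q16992 (flp_b L211370) q16808, e3 q16993 L211376 q15432, e3 q16994 L211388 q16969, e3 q16995 L211394 q16995, e3 q16996 L211397 q15429, e3 q16997 L238538 q20309, e3 q16998 L211409 q15344, e3 q16999 L211417 q15391, e3 q17000 L211425 q12949, e3 q17001 (flp_b L211557) q17015, e3 q17002 (flp_b L211445) q16914, e3 q17003 L211453 q14222, e3 q17004 L211461 q16876, e3 q17005 L238591 q20315, e3 q17006 L211477 q16713, e3 q17007 (flp_b L228166) q19097, e3 q17008 L238627 q20320, e3 q17009 L211493 q16984, e3 q17010 L211507 q16888, e3 q17011 (flp_b L236877) q20110, e3 q17012 (flp_b L211531) q16690, e3 q17013 L211537 q15367, e3 q17014 L211547 q15839, e3 q17015 L211557 q17001, e3 q17016 L211563 q13101, e3 q17017 L211583 q14544, e3 q17018 (flp_b L211593) q15060, e3 q17019 (flp_b L219364) q17952, e3 q17020 L231214 q19455, e3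 q17021 (flp_b L225589) q18716, e3 q17022 (flp_b L223143) q18407, e3 q17023 (flp_b L231984) q19538, trivial⟩ (by decide +kernel)

theorem ce_b_266 : ∀ r, r < 64 → sm gb (Qf (17024 + r)) = Qf (tab Gen.b (17024 + r)) :=
  edges_tab (sm gb) Qf (tab Gen.b) 17024 [(17024, 12963), (17025, 20323), (17026, 12968), (17027, 14837), (17028, 12966), (17029, 20324), (17030, 14838), (17031, 20327), (17032, 20329), (17033, 12973), (17034, 20333), (17035, 12974), (17036, 16350), (17037, 19979), (17038, 18543), (17039, 12976), (17040, 12977), (17041, 20335), (17042, 17710), (17043, 16939), (17044, 12979), (17045, 14786), (17046, 12985), (17047, 17886), (17048, 14032), (17049, 16778), (17050, 14806), (17051, 18299), (17052, 19736), (17053, 20344), (17054, 12986), (17055, 18284), (17056, 17726), (17057, 20347), (17058, 12988), (17059, 12989), (17060, 20351), (17061, 15936), (17062, 20352), (17063, 12991), (17064, 19472), (17065, 19238), (17066, 13792), (17067, 19970), (17068, 17228), (17069, 16513), (17070, 15539), (17071, 13007),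 (17072, 20362), (17073, 12996), (17074, 18540), (17075, 19897), (17076, 17219), (17077, 12998), (17078, 20019), (17079, 19923), (17080, 13015), (17081, 13084), (17082, 17830), (17083, 18570), (17084, 13002), (17085, 20372), (17086, 20377), (17087, 19973)]
    ⟨e3 q17024 (flp_b L211631) q12963, e3 q17025 L238655 q20323, e3 q17026 L211647 q12968, e3 q17027 (flp_b L211661) q14837, e3 q17028 (flp_b L211663) q12966, e3 q17029 (flp_b L238669) q20324, e3 q17030 L211689 q14838, e3 q17031 L238693 q20327, e3 q17032 L238719 q20329, e3 q17033 (flp_b L211703) q12973, e3 q17034 L238773 q20333, e3 q17035 (flp_b L211717) q12974, e3 q17036 L211729 q16350, e3 q17037 (flp_b L235755) q19979, e3 q17038 (flp_b L224289) q18543, e3 q17039 (flp_b L211745) q12976, e3 q17040 (flp_b L211749) q12977, e3 q17041 L238787 q20335, e3 q17042 (flp_b L217200) q17710, e3 q17043 L211765 q16939, e3 q17044 (flp_b L211767) q12979, e3 q17045 (flp_b L211781) q14786, e3 q17046 L211785 q12985, e3 q17047 (flp_b L218714) q17886, e3 q17048 L211803 q14032, e3 q17049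 L211809 q16778, e3 q17050 L211823 q14806, e3 q17051 L238821 q18299, e3 q17052 (flp_b L233635) q19736, e3 q17053 L238869 q20344, e3 q17054 (flp_b L211835) q12986, e3 q17055 (flp_b L221794) q18284, e3 q17056 (flp_b L217312) q17726, e3 q17057 L238905 q20347, e3 q17058 (flp_b L211865) q12988, e3 q17059 (flp_b L211873) q12989, e3 q17060 L238957 q20351, e3 q17061 L211897 q15936, e3 q17062 L238971 q20352, e3 q17063 (flp_b L211909) q12991, e3 q17064 (flp_b L231358) q19472, e3 q17065 (flp_b L229218) q19238, e3 q17066 L211927 q13792, e3 q17067 (flp_b L235679) q19970, e3 q17068 (flp_b L213105) q17228, e3 q17069 L211953 q16513, e3 q17070 L211965 q15539, e3 q17071 L211971 q13007, e3 q17072 L239069 q20362, e3 q17073 (flp_b L211981) q12996, e3 q17074 (flp_b L224253) q18540, e3 q17075 L234987 q19897, e3 q17076 (flp_b L213047) q17219, e3 q17077 (flp_b L212003) q12998, e3 q17078 L236137 q20019, e3 q17079 (flp_b L235221) q19923, e3 q17080 L212027 q13015, e3 q17081 (flp_b L212035) q13084, e3 q17082 (flp_b L218194) q17830, e3 q17083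 (flp_b L224515) q18570, e3 q17084 (flp_b L212053) q13002, e3 q17085 (flp_b L239149) q20372, e3 q17086 L239177 q20377, e3 q17087 (flp_b L235703) q19973, trivial⟩ (by decide +kernel)

theorem ce_b_267 : ∀ r, r < 64 → sm gb (Qf (17088 + r)) = Qf (tab Gen.b (17088 + r)) :=
  edges_tab (sm gb) Qf (tab Gen.b) 17088 [(17088, 16399), (17089, 13006), (17090, 13024), (17091, 13008), (17092, 15575), (17093, 13011), (17094, 13087), (17095, 20383), (17096, 13013), (17097, 20385), (17098, 17179), (17099, 19853), (17100, 13016), (17101, 13020), (17102, 13022), (17103, 20387), (17104, 19594), (17105, 13025), (17106, 20380), (17107, 13160), (17108, 15065), (17109, 14596), (17110, 19655), (17111, 17954), (17112, 18727), (17113, 18465), (17114, 13038), (17115, 20393), (17116, 19310), (17117, 13044), (17118, 14805), (17119, 13041), (17120, 20394), (17121, 20396), (17122, 13047), (17123, 20398), (17124, 20337), (17125, 16490), (17126, 20016), (17127, 18551), (17128, 13050), (17129, 13051), (17130, 13052), (17131, 20400), (17132, 17638),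 (17133, 16954), (17134, 13054), (17135, 14819), (17136, 13059), (17137, 17909), (17138, 14089), (17139, 16804), (17140, 18238), (17141, 19829), (17142, 20406), (17143, 13060), (17144, 18341), (17145, 17657), (17146, 20408), (17147, 13062), (17148, 13063), (17149, 20345), (17150, 15708), (17151, 20410)]
    ⟨e3 q17088 (flp_b L212089) q16399, e3 q17089 L212093 q13006, e3 q17090 L212107 q13024, e3 q17091 (flp_b L212109) q13008, e3 q17092 L212123 q15575, e3 q17093 L212131 q13011, e3 q17094 L212143 q13087, e3 q17095 (flp_b L239243) q20383, e3 q17096 (flp_b L212153) q13013, e3 q17097 (flp_b L239261) q20385, e3 q17098 L222539 q17179, e3 q17099 (flp_b L234615) q19853, e3 q17100 (flp_b L212177) q13016, e3 q17101 (flp_b L212189) q13020, e3 q17102 (flp_b L212197) q13022, e3 q17103 (flp_b L239279) q20387, e3 q17104 (flp_b L232466) q19594, e3 q17105 L212217 q13025, e3 q17106 (flp_b L239223) q20380, e3 q17107 L212231 q13160, e3 q17108 (flp_b L212249) q15065, e3 q17109 L212261 q14596, e3 q17110 L233005 q19655, e3 q17111 (flp_b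 L219384) q17954, e3 q17112 (flp_b L225685) q18727, e3 q17113 (flp_b L223553) q18465, e3 q17114 (flp_b L212293) q13038, e3 q17115 L239331 q20393, e3 q17116 (flp_b L229894) q19310, e3 q17117 L212315 q13044, e3 q17118 (flp_b L212329) q14805, e3 q17119 (flp_b L212331) q13041, e3 q17120 (flp_b L239345) q20394, e3 q17121 L239357 q20396, e3 q17122 (flp_b L212353) q13047, e3 q17123 L239383 q20398, e3 q17124 L238817 q20337, e3 q17125 L212379 q16490, e3 q17126 (flp_b L236105) q20016, e3 q17127 (flp_b L224357) q18551, e3 q17128 (flp_b L212391) q13050, e3 q17129 (flp_b L212395) q13051, e3 q17130 (flp_b L212405) q13052, e3 q17131 L239403 q20400, e3 q17132 (flp_b L216627) q17638, e3 q17133 L212421 q16954, e3 q17134 (flp_b L212423) q13054, e3 q17135 (flp_b L212437) q14819, e3 q17136 L212441 q13059, e3 q17137 (flp_b L218936) q17909, e3 q17138 L212459 q14089, e3 q17139 L212465 q16804, e3 q17140 (flp_b L238729) q18238, e3 q17141 (flp_b L234383) q19829, e3 q17142 L239447 q20406, e3 q17143 (flp_b L212479) q13060, e3 q17144 (flp_b L222275)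 q18341, e3 q17145 (flp_b L216747) q17657, e3 q17146 L239469 q20408, e3 q17147 (flp_b L212509) q13062, e3 q17148 (flp_b L212517) q13063, e3 q17149 (flp_b L238887) q20345, e3 q17150 (flp_b L212541) q15708, e3 q17151 L239493 q20410, trivial⟩ (by decide +kernel)

theorem ce_b_268 : ∀ r, r < 64 → sm gb (Qf (17152 + r)) = Qf (tab Gen.b (17152 + r)) :=
  edges_tab (sm gb) Qf (tab Gen.b) 17152 [(17152, 13065), (17153, 13842), (17154, 19951), (17155, 17304), (17156, 16403), (17157, 15780), (17158, 20391), (17159, 13070), (17160, 18549), (17161, 19910), (17162, 17295), (17163, 13072), (17164, 20039), (17165, 19984), (17166, 13086), (17167, 17840), (17168, 18556), (17169, 13076), (17170, 20419), (17171, 19960), (17172, 20424), (17173, 16379), (17174, 13095), (17175, 15815), (17176, 13082), (17177, 20425), (17178, 20369), (17179, 17098), (17180, 19872), (17181, 13091), (17182, 13093), (17183, 20426), (17184, 19379), (17185, 20361), (17186, 13100), (17187, 13103), (17188, 13105), (17189, 13107), (17190, 13108), (17191, 17891),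 (17192, 16498), (17193, 13827), (17194, 20198), (17195, 20435), (17196, 13113), (17197, 18373), (17198, 16824), (17199, 13826), (17200, 15872), (17201, 13117), (17202, 19492), (17203, 13119), (17204, 17733), (17205, 19539), (17206, 20441), (17207, 15913), (17208, 13121), (17209, 13896), (17210, 20447), (17211, 15249), (17212, 20260), (17213, 18307), (17214, 16337), (17215, 20451)]
    ⟨e3 q17152 (flp_b L212553) q13065, e3 q17153 L212571 q13842, e3 q17154 (flp_b L235497) q19951, e3 q17155 (flp_b L213611) q17304, e3 q17156 L212597 q16403, e3 q17157 L212609 q15780, e3 q17158 (flp_b L239319) q20391, e3 q17159 (flp_b L212617) q13070, e3 q17160 (flp_b L224335) q18549, e3 q17161 L235107 q19910, e3 q17162 (flp_b L213549) q17295, e3 q17163 (flp_b L212639) q13072, e3 q17164 L236276 q20039, e3 q17165 (flp_b L235807) q19984, e3 q17166 L212663 q13086, e3 q17167 (flp_b L218296) q17840, e3 q17168 (flp_b L224393) q18556, e3 q17169 (flp_b L212681) q13076, e3 q17170 (flp_b L239583) q20419, e3 q17171 (flp_b L235579) q19960, e3 q17172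 L239617 q20424, e3 q17173 (flp_b L212717) q16379, e3 q17174 L212727 q13095, e3 q17175 L212735 q15815, e3 q17176 L212743 q13082, e3 q17177 (flp_b L239631) q20425, e3 q17178 (flp_b L239127) q20369, e3 q17179 (flp_b L222539) q17098, e3 q17180 (flp_b L234761) q19872, e3 q17181 (flp_b L212769) q13091, e3 q17182 (flp_b L212777) q13093, e3 q17183 (flp_b L239643) q20426, e3 q17184 (flp_b L230450) q19379, e3 q17185 (flp_b L239067) q20361, e3 q17186 (flp_b L212799) q13100, e3 q17187 (flp_b L212809) q13103, e3 q17188 (flp_b L212819) q13105, e3 q17189 (flp_b L212827) q13107, e3 q17190 (flp_b L212835) q13108, e3 q17191 L218770 q17891, e3 q17192 L212851 q16498, e3 q17193 (flp_b L212859) q13827, e3 q17194 (flp_b L237669) q20198, e3 q17195 L239735 q20435, e3 q17196 (flp_b L212875) q13113, e3 q17197 L222920 q18373, e3 q17198 L212897 q16824, e3 q17199 L212909 q13826, e3 q17200 (flp_b L212921) q15872, e3 q17201 (flp_b L212923) q13117, e3 q17202 (flp_b L231560) q19492, e3 q17203 (flp_b L212941) q13119, e3 q17204 (flp_b L217378) q17733,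 e3 q17205 (flp_b L231992) q19539, e3 q17206 (flp_b L239793) q20441, e3 q17207 (flp_b L212965) q15913, e3 q17208 (flp_b L212967) q13121, e3 q17209 L214072 q13896, e3 q17210 L239831 q20447, e3 q17211 L212987 q15249, e3 q17212 (flp_b L238151) q20260, e3 q17213 L221988 q18307, e3 q17214 L213007 q16337, e3 q17215 L239869 q20451, trivial⟩ (by decide +kernel)

theorem ce_b_269 : ∀ r, r < 64 → sm gb (Qf (17216 + r)) = Qf (tab Gen.b (17216 + r)) :=
  edges_tab (sm gb) Qf (tab Gen.b) 17216 [(17216, 13126), (17217, 16909), (17218, 18709), (17219, 17076), (17220, 17674), (17221, 17953), (17222, 19540), (17223, 13130), (17224, 20421), (17225, 16948), (17226, 20455), (17227, 13132), (17228, 17068), (17229, 13136), (17230, 13137), (17231, 18578), (17232, 13141), (17233, 13151), (17234, 19318), (17235, 13143), (17236, 17348), (17237, 13157), (17238, 13145), (17239, 20001), (17240, 15578), (17241, 16024), (17242, 15817), (17243, 20467), (17244, 20468), (17245, 13146), (17246, 13147), (17247, 17360), (17248, 17361), (17249, 20473),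 (17250, 20475), (17251, 18843), (17252, 19319), (17253, 13152), (17254, 13154), (17255, 20480), (17256, 20484), (17257, 20485), (17258, 17258), (17259, 20458), (17260, 18846), (17261, 18457), (17262, 13158), (17263, 13161), (17264, 13164), (17265, 13166), (17266, 13167), (17267, 17913), (17268, 16361), (17269, 13876), (17270, 20202), (17271, 20493), (17272, 13172), (17273, 18438), (17274, 16798), (17275, 13875), (17276, 15638), (17277, 13176), (17278, 19259), (17279, 13178)]
    ⟨e3 q17216 (flp_b L213023) q13126, e3 q17217 L213035 q16909, e3 q17218 (flp_b L225536) q18709, e3 q17219 L213047 q17076, e3 q17220 (flp_b L216895) q17674, e3 q17221 L219380 q17953, e3 q17222 L232006 q19540, e3 q17223 (flp_b L213067) q13130, e3 q17224 (flp_b L239599) q20421, e3 q17225 (flp_b L213087) q16948, e3 q17226 L239905 q20455, e3 q17227 (flp_b L213093) q13132, e3 q17228 L213105 q17068, e3 q17229 (flp_b L213107) q13136, e3 q17230 (flp_b L213117) q13137, e3 q17231 (flp_b L224577) q18578, e3 q17232 L213133 q13141, e3 q17233 L213141 q13151,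 e3 q17234 (flp_b L229980) q19318, e3 q17235 L213153 q13143, e3 q17236 (flp_b L213901) q17348, e3 q17237 L213161 q13157, e3 q17238 L213165 q13145, e3 q17239 L235972 q20001, e3 q17240 (flp_b L213177) q15578, e3 q17241 L214070 q16024, e3 q17242 L213187 q15817, e3 q17243 L240019 q20467, e3 q17244 L240027 q20468, e3 q17245 (flp_b L213203) q13146, e3 q17246 (flp_b L213213) q13147, e3 q17247 (flp_b L213996) q17360, e3 q17248 (flp_b L214076) q17361, e3 q17249 L240051 q20473, e3 q17250 L240061 q20475, e3 q17251 (flp_b L226362) q18843, e3 q17252 (flp_b L229986) q19319, e3 q17253 (flp_b L213249) q13152, e3 q17254 (flp_b L213254) q13154, e3 q17255 (flp_b L240107) q20480, e3 q17256 L240129 q20484, e3 q17257 L240135 q20485, e3 q17258 L213278 q17258, e3 q17259 (flp_b L239943) q20458, e3 q17260 (flp_b L226385) q18846, e3 q17261 (flp_b L226537) q18457, e3 q17262 (flp_b L213301) q13158, e3 q17263 (flp_b L213311) q13161, e3 q17264 (flp_b L213321) q13164, e3 q17265 (flp_b L213329) q13166, e3 q17266 (flp_b L213333) q13167, e3 q17267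 L218980 q17913, e3 q17268 L213353 q16361, e3 q17269 (flp_b L213361) q13876, e3 q17270 (flp_b L237711) q20202, e3 q17271 L240213 q20493, e3 q17272 (flp_b L213377) q13172, e3 q17273 L223365 q18438, e3 q17274 L213399 q16798, e3 q17275 L213411 q13875, e3 q17276 (flp_b L213423) q15638, e3 q17277 (flp_b L213425) q13176, e3 q17278 (flp_b L229414) q19259, e3 q17279 (flp_b L213443) q13178, trivial⟩ (by decide +kernel)

theorem ce_b_270 : ∀ r, r < 64 → sm gb (Qf (17280 + r)) = Qf (tab Gen.b (17280 + r)) :=
  edges_tab (sm gb) Qf (tab Gen.b) 17280 [(17280, 17664), (17281, 19311), (17282, 20499), (17283, 15683), (17284, 13180), (17285, 13909), (17286, 20505), (17287, 15302), (17288, 20271), (17289, 18249), (17290, 16409), (17291, 20509), (17292, 13185), (17293, 16911), (17294, 18702), (17295, 17162), (17296, 17742), (17297, 17955), (17298, 19312), (17299, 13189), (17300, 20374), (17301, 16963), (17302, 20513), (17303, 13191), (17304, 17155), (17305, 13195), (17306, 13196), (17307, 18565), (17308, 13200), (17309, 13209), (17310,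 19545), (17311, 13202), (17312, 13215), (17313, 17377), (17314, 13204), (17315, 15818), (17316, 19943), (17317, 16100), (17318, 15577), (17319, 20525), (17320, 20526), (17321, 13205), (17322, 13206), (17323, 17386), (17324, 17387), (17325, 20531), (17326, 20533), (17327, 19546), (17328, 18898), (17329, 13212), (17330, 13213), (17331, 20538), (17332, 20542), (17333, 20543), (17334, 20515), (17335, 17335), (17336, 18394), (17337, 18901), (17338, 13217), (17339, 17339), (17340, 13219), (17341, 17341), (17342, 13225), (17343, 13230)]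
    ⟨e3 q17280 (flp_b L216813) q17664, e3 q17281 (flp_b L229902) q19311, e3 q17282 (flp_b L240271) q20499, e3 q17283 (flp_b L213467) q15683, e3 q17284 (flp_b L213469) q13180, e3 q17285 L214393 q13909, e3 q17286 L240313 q20505, e3 q17287 L213489 q15302, e3 q17288 (flp_b L238243) q20271, e3 q17289 L221540 q18249, e3 q17290 L213509 q16409, e3 q17291 L240353 q20509, e3 q17292 (flp_b L213525) q13185, e3 q17293 L213537 q16911, e3 q17294 (flp_b L225473) q18702, e3 q17295 L213549 q17162, e3 q17296 (flp_b L217458) q17742, e3 q17297 L219400 q17955, e3 q17298 L229914 q19312, e3 q17299 (flp_b L213569) q13189, e3 q17300 (flp_b L239159) q20374, e3 q17301 (flp_b L213591) q16963, e3 q17302 L240389 q20513, e3 q17303 (flp_b L213599) q13191, e3 q17304 L213611 q17155, e3 q17305 (flp_b L213613) q13195, e3 q17306 (flp_b L213623) q13196, e3 q17307 (flp_b L224465) q18565, e3 q17308 L213641 q13200, e3 q17309 L213649 q13209, e3 q17310 (flp_b L232058) q19545, e3 q17311 L213663 q13202, e3 q17312 L213669 q13215, e3 q17313 (flp_b L214220) q17377,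 e3 q17314 L213675 q13204, e3 q17315 (flp_b L213683) q15818, e3 q17316 (flp_b L235423) q19943, e3 q17317 L214391 q16100, e3 q17318 L213697 q15577, e3 q17319 L240505 q20525, e3 q17320 L240511 q20526, e3 q17321 (flp_b L213713) q13205, e3 q17322 (flp_b L213721) q13206, e3 q17323 (flp_b L214317) q17386, e3 q17324 (flp_b L214397) q17387, e3 q17325 L240537 q20531, e3 q17326 L240551 q20533, e3 q17327 (flp_b L232064) q19546, e3 q17328 (flp_b L226755) q18898, e3 q17329 (flp_b L213759) q13212, e3 q17330 (flp_b L213764) q13213, e3 q17331 (flp_b L240595) q20538, e3 q17332 L240623 q20542, e3 q17333 L240631 q20543, e3 q17334 (flp_b L240417) q20515, e3 q17335 L213794 q17335, e3 q17336 (flp_b L226940) q18394, e3 q17337 (flp_b L226784) q18901, e3 q17338 (flp_b L213811) q13217, e3 q17339 L213823 q17339, e3 q17340 (flp_b L213824) q13219, e3 q17341 L213842 q17341, e3 q17342 L213851 q13225, e3 q17343 L213859 q13230, trivial⟩ (by decide +kernel)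

theorem ce_b_271 : ∀ r, r < 64 → sm gb (Qf (17344 + r)) = Qf (tab Gen.b (17344 + r)) :=
  edges_tab (sm gb) Qf (tab Gen.b) 17344 [(17344, 13223), (17345, 20549), (17346, 20550), (17347, 13227), (17348, 17236), (17349, 13236), (17350, 20553), (17351, 13228), (17352, 20556), (17353, 20557), (17354, 15223), (17355, 18868), (17356, 16158), (17357, 15255), (17358, 20561), (17359, 13232), (17360, 17247), (17361, 17248), (17362, 20568), (17363, 20569), (17364, 17364), (17365, 20552), (17366, 13237), (17367, 17367), (17368, 13239), (17369, 17369), (17370, 13249), (17371, 13246), (17372, 13243), (17373, 20574), (17374, 20575), (17375, 13247), (17376, 13254), (17377, 17313), (17378, 20578), (17379, 13248), (17380, 20581), (17381, 20582), (17382, 18922), (17383, 15276), (17384, 16173), (17385, 15308), (17386, 17323), (17387, 17324), (17388, 20586), (17389, 20576), (17390, 17403), (17391, 13259), (17392, 13264), (17393, 13423), (17394, 17421), (17395, 13272), (17396, 13277), (17397, 13475), (17398, 13290), (17399, 18380),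 (17400, 17442), (17401, 18382), (17402, 13310), (17403, 17390), (17404, 15649), (17405, 17424), (17406, 17423), (17407, 16545)]
    ⟨e3 q17344 (flp_b L213861) q13223, e3 q17345 L240682 q20549, e3 q17346 L240694 q20550, e3 q17347 L213887 q13227, e3 q17348 L213901 q17236, e3 q17349 L213911 q13236, e3 q17350 L240724 q20553, e3 q17351 (flp_b L213927) q13228, e3 q17352 L240744 q20556, e3 q17353 L240752 q20557, e3 q17354 L222894 q15223, e3 q17355 L226535 q18868, e3 q17356 (flp_b L214056) q16158, e3 q17357 L214066 q15255, e3 q17358 L240786 q20561, e3 q17359 (flp_b L213990) q13232, e3 q17360 L213996 q17247, e3 q17361 L214076 q17248, e3 q17362 L240847 q20568, e3 q17363 L240855 q20569, e3 q17364 L214092 q17364, e3 q17365 (flp_b L240722) q20552, e3 q17366 (flp_b L214116) q13237, e3 q17367 L214128 q17367, e3 q17368 (flp_b L214129) q13239, e3 q17369 L214147 q17369, e3 q17370 L214156 q13249, e3 q17371 L214164 q13246, e3 q17372 (flp_b L214166) q13243, e3 q17373 L240912 q20574, e3 q17374 L240918 q20575, e3 q17375 L214196 q13247,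 e3 q17376 L214210 q13254, e3 q17377 L214220 q17313, e3 q17378 L240954 q20578, e3 q17379 (flp_b L214240) q13248, e3 q17380 L240978 q20581, e3 q17381 L240986 q20582, e3 q17382 L226938 q18922, e3 q17383 L222898 q15276, e3 q17384 (flp_b L214377) q16173, e3 q17385 L214387 q15308, e3 q17386 L214317 q17323, e3 q17387 L214397 q17324, e3 q17388 L241032 q20586, e3 q17389 (flp_b L240940) q20576, e3 q17390 (flp_b L214565) q17403, e3 q17391 (flp_b L214445) q13259, e3 q17392 (flp_b L214455) q13264, e3 q17393 L214471 q13423, e3 q17394 (flp_b L214737) q17421, e3 q17395 (flp_b L214481) q13272, e3 q17396 (flp_b L214491) q13277, e3 q17397 L214509 q13475, e3 q17398 (flp_b L214511) q13290, e3 q17399 (flp_b L222976) q18380, e3 q17400 (flp_b L214962) q17442, e3 q17401 (flp_b L223000) q18382, e3 q17402 L214551 q13310, e3 q17403 L214565 q17390, e3 q17404 L214575 q15649, e3 q17405 (flp_b L214771) q17424, e3 q17406 (flp_b L214757) q17423, e3 q17407 L214599 q16545, trivial⟩ (by decide +kernel)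

theorem ce_b_272 : ∀ r, r < 64 → sm gb (Qf (17408 + r)) = Qf (tab Gen.b (17408 + r)) :=
  edges_tab (sm gb) Qf (tab Gen.b) 17408 [(17408, 19903), (17409, 16260), (17410, 13467), (17411, 13330), (17412, 19916), (17413, 16231), (17414, 14701), (17415, 16540), (17416, 13350), (17417, 18441), (17418, 17467), (17419, 18444), (17420, 13369), (17421, 17394), (17422, 15883), (17423, 17406), (17424, 17405), (17425, 16580), (17426, 13415), (17427, 13384), (17428, 14720), (17429, 16575), (17430, 13390), (17431, 13394), (17432, 16466), (17433, 19304), (17434, 13396), (17435, 14905), (17436, 19387), (17437, 14661), (17438, 14624), (17439, 16332), (17440, 16543), (17441, 13413), (17442, 17400), (17443, 16338), (17444, 13438), (17445, 14861), (17446, 15614), (17447, 17450), (17448, 16472), (17449, 14983), (17450, 17447), (17451, 17484), (17452, 17869), (17453, 20589), (17454, 13437), (17455, 13441), (17456, 19532), (17457, 13445), (17458, 14953), (17459, 13447), (17460, 16319), (17461, 19321), (17462, 14693), (17463, 14574),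 (17464, 16474), (17465, 16578), (17466, 13465), (17467, 17418), (17468, 16479), (17469, 13490), (17470, 14892), (17471, 15848)]
    ⟨e3 q17408 (flp_b L235041) q19903, e3 q17409 L214621 q16260, e3 q17410 L214633 q13467, e3 q17411 (flp_b L214635) q13330, e3 q17412 (flp_b L235161) q19916, e3 q17413 L214659 q16231, e3 q17414 L214671 q14701, e3 q17415 L214681 q16540, e3 q17416 (flp_b L214683) q13350, e3 q17417 (flp_b L223393) q18441, e3 q17418 (flp_b L215201) q17467, e3 q17419 (flp_b L223427) q18444, e3 q17420 L214723 q13369, e3 q17421 L214737 q17394, e3 q17422 L214747 q15883, e3 q17423 L214757 q17406, e3 q17424 L214771 q17405, e3 q17425 L214781 q16580, e3 q17426 L214795 q13415, e3 q17427 (flp_b L214797) q13384, e3 q17428 L214819 q14720, e3 q17429 L214829 q16575, e3 q17430 (flp_b L214831) q13390, e3 q17431 L214850 q13394, e3 q17432 L214858 q16466, e3 q17433 (flp_b L229836) q19304, e3 q17434 L214874 q13396, e3 q17435 L214888 q14905, e3 q17436 L230538 q19387, e3 q17437 L214908 q14661, e3 q17438 L214912 q14624, e3 q17439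 L214920 q16332, e3 q17440 L214938 q16543, e3 q17441 L214944 q13413, e3 q17442 L214962 q17400, e3 q17443 L214968 q16338, e3 q17444 L214984 q13438, e3 q17445 L214996 q14861, e3 q17446 L215006 q15614, e3 q17447 (flp_b L215040) q17450, e3 q17448 L215021 q16472, e3 q17449 L215028 q14983, e3 q17450 L215040 q17447, e3 q17451 (flp_b L215359) q17484, e3 q17452 (flp_b L218556) q17869, e3 q17453 L241058 q20589, e3 q17454 (flp_b L215062) q13437, e3 q17455 (flp_b L215066) q13441, e3 q17456 (flp_b L231926) q19532, e3 q17457 L215094 q13445, e3 q17458 L215112 q14953, e3 q17459 L215119 q13447, e3 q17460 L215127 q16319, e3 q17461 (flp_b L230004) q19321, e3 q17462 L215147 q14693, e3 q17463 L215151 q14574, e3 q17464 L215159 q16474, e3 q17465 L215177 q16578, e3 q17466 L215183 q13465, e3 q17467 L215201 q17418, e3 q17468 L215207 q16479, e3 q17469 L215223 q13490, e3 q17470 L215237 q14892, e3 q17471 L215247 q15848, trivial⟩ (by decide +kernel)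

theorem ce_b_273 : ∀ r, r < 64 → sm gb (Qf (17472 + r)) = Qf (tab Gen.b (17472 + r)) :=
  edges_tab (sm gb) Qf (tab Gen.b) 17472 [(17472, 17475), (17473, 16330), (17474, 14935), (17475, 17472), (17476, 17493), (17477, 17857), (17478, 20593), (17479, 13489), (17480, 19924), (17481, 14388), (17482, 16964), (17483, 13518), (17484, 17451), (17485, 13514), (17486, 13515), (17487, 13519), (17488, 14016), (17489, 19985), (17490, 14333), (17491, 16949), (17492, 13542), (17493, 17476), (17494, 13538), (17495, 13540), (17496, 13543), (17497, 13998), (17498, 13556), (17499, 13569), (17500, 17858), (17501, 20209), (17502, 13575), (17503, 13583), (17504, 13591), (17505, 17870), (17506, 20207), (17507, 13596), (17508, 17940), (17509, 17513), (17510, 13635), (17511, 18468), (17512, 17950), (17513, 17509), (17514, 13644), (17515, 18410), (17516, 16497), (17517, 18555), (17518, 16357), (17519, 18548), (17520, 14195), (17521, 14197), (17522, 18666), (17523, 15766), (17524, 18671), (17525, 15991), (17526, 13739), (17527, 20605),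 (17528, 14207), (17529, 17746), (17530, 13764), (17531, 20606), (17532, 14208), (17533, 17677), (17534, 20607), (17535, 20608)]
    ⟨e3 q17472 (flp_b L215283) q17475, e3 q17473 L215264 q16330, e3 q17474 L215271 q14935, e3 q17475 L215283 q17472, e3 q17476 (flp_b L215447) q17493, e3 q17477 (flp_b L218452) q17857, e3 q17478 L241090 q20593, e3 q17479 (flp_b L215309) q13489, e3 q17480 (flp_b L235233) q19924, e3 q17481 L215329 q14388, e3 q17482 L215335 q16964, e3 q17483 L215353 q13518, e3 q17484 L215359 q17451, e3 q17485 L215367 q13514, e3 q17486 (flp_b L215369) q13515, e3 q17487 (flp_b L215383) q13519, e3 q17488 L215401 q14016, e3 q17489 (flp_b L235819) q19985, e3 q17490 L215417 q14333, e3 q17491 L215423 q16949, e3 q17492 L215441 q13542, e3 q17493 L215447 q17476, e3 q17494 L215455 q13538, e3 q17495 (flp_b L215457) q13540, e3 q17496 (flp_b L215471) q13543, e3 q17497 L215489 q13998, e3 q17498 (flp_b L215491) q13556, e3 q17499 (flp_b L215498) q13569, e3 q17500 (flp_b L218460) q17858, e3 q17501 (flp_b L237789) q20209, e3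 q17502 (flp_b L215530) q13575, e3 q17503 (flp_b L215537) q13583, e3 q17504 (flp_b L215548) q13591, e3 q17505 (flp_b L218564) q17870, e3 q17506 (flp_b L237768) q20207, e3 q17507 (flp_b L215580) q13596, e3 q17508 L219244 q17940, e3 q17509 (flp_b L215646) q17513, e3 q17510 L215614 q13635, e3 q17511 (flp_b L223573) q18468, e3 q17512 L219348 q17950, e3 q17513 L215646 q17509, e3 q17514 L215652 q13644, e3 q17515 (flp_b L223163) q18410, e3 q17516 (flp_b L215673) q16497, e3 q17517 (flp_b L224379) q18555, e3 q17518 (flp_b L215689) q16357, e3 q17519 (flp_b L224323) q18548, e3 q17520 L215701 q14195, e3 q17521 L215711 q14197, e3 q17522 (flp_b L225267) q18666, e3 q17523 (flp_b L215731) q15766, e3 q17524 (flp_b L225295) q18671, e3 q17525 (flp_b L215747) q15991, e3 q17526 L215759 q13739, e3 q17527 L241224 q20605, e3 q17528 L215773 q14207, e3 q17529 (flp_b L217502) q17746, e3 q17530 L215793 q13764, e3 q17531 L241238 q20606, e3 q17532 L215807 q14208, e3 q17533 (flp_b L216934) q17677, e3 q17534 L241252 q20607, e3 q17535 L241261 q20608,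 trivial⟩ (by decide +kernel)

theorem ce_b_274 : ∀ r, r < 64 → sm gb (Qf (17536 + r)) = Qf (tab Gen.b (17536 + r)) :=
  edges_tab (sm gb) Qf (tab Gen.b) 17536 [(17536, 16955), (17537, 18179), (17538, 20610), (17539, 20611), (17540, 16940), (17541, 18127), (17542, 13647), (17543, 13649), (17544, 19257), (17545, 17545), (17546, 17761), (17547, 16004), (17548, 17553), (17549, 19490), (17550, 17550), (17551, 17693), (17552, 16080), (17553, 17548), (17554, 13673), (17555, 13676), (17556, 13683), (17557, 13692), (17558, 13695), (17559, 13698), (17560, 13719), (17561, 13720), (17562, 20621), (17563, 17650), (17564, 13723), (17565, 20623), (17566, 13726), (17567, 20625), (17568, 16528), (17569, 20627), (17570, 13727), (17571, 13728), (17572, 19423), (17573, 20629), (17574, 17633), (17575, 16725), (17576, 17862), (17577, 18581), (17578, 13736), (17579, 19254), (17580, 13738), (17581, 20636), (17582, 15921), (17583, 20641), (17584, 13741), (17585, 20642), (17586, 19919), (17587, 13742), (17588, 20646), (17589, 13744), (17590,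 20648), (17591, 17720), (17592, 13748), (17593, 20650), (17594, 13751), (17595, 20652), (17596, 16563), (17597, 20654), (17598, 13752), (17599, 13753)]
    ⟨e3 q17536 (flp_b L215841) q16955, e3 q17537 (flp_b L221050) q18179, e3 q17538 L241283 q20610, e3 q17539 L241292 q20611, e3 q17540 (flp_b L215877) q16940, e3 q17541 (flp_b L220636) q18127, e3 q17542 (flp_b L215889) q13647, e3 q17543 (flp_b L215901) q13649, e3 q17544 (flp_b L229391) q19257, e3 q17545 L215921 q17545, e3 q17546 L217607 q17761, e3 q17547 (flp_b L215942) q16004, e3 q17548 (flp_b L216001) q17553, e3 q17549 (flp_b L231537) q19490, e3 q17550 L215964 q17550, e3 q17551 L217051 q17693, e3 q17552 (flp_b L215987) q16080, e3 q17553 L216001 q17548, e3 q17554 L216010 q13673, e3 q17555 L216019 q13676, e3 q17556 L216025 q13683, e3 q17557 L216034 q13692, e3 q17558 (flp_b L216039) q13695, e3 q17559 (flp_b L216047) q13698, e3 q17560 (flp_b L216055) q13719, e3 q17561 (flp_b L216061) q13720, e3 q17562 L241374 q20621, e3 q17563 (flp_b L216693) q17650, e3 q17564 (flp_b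 L216083) q13723, e3 q17565 (flp_b L241402) q20623, e3 q17566 L216097 q13726, e3 q17567 L241420 q20625, e3 q17568 L216113 q16528, e3 q17569 L241430 q20627, e3 q17570 (flp_b L216123) q13727, e3 q17571 (flp_b L216125) q13728, e3 q17572 (flp_b L230986) q19423, e3 q17573 (flp_b L241438) q20629, e3 q17574 (flp_b L216567) q17633, e3 q17575 L216155 q16725, e3 q17576 L218498 q17862, e3 q17577 (flp_b L224605) q18581, e3 q17578 (flp_b L216177) q13736, e3 q17579 L229364 q19254, e3 q17580 (flp_b L216195) q13738, e3 q17581 (flp_b L241484) q20636, e3 q17582 (flp_b L216213) q15921, e3 q17583 L241528 q20641, e3 q17584 L216221 q13741, e3 q17585 L241538 q20642, e3 q17586 (flp_b L235183) q19919, e3 q17587 (flp_b L216243) q13742, e3 q17588 L241584 q20646, e3 q17589 (flp_b L216259) q13744, e3 q17590 L241608 q20648, e3 q17591 (flp_b L217266) q17720, e3 q17592 (flp_b L216281) q13748, e3 q17593 (flp_b L241636) q20650, e3 q17594 L216295 q13751, e3 q17595 L241654 q20652, e3 q17596 L216311 q16563, e3 q17597 L241664 q20654, e3 q17598 (flp_b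 L216321) q13752, e3 q17599 (flp_b L216323) q13753, trivial⟩ (by decide +kernel)

theorem ce_b_275 : ∀ r, r < 64 → sm gb (Qf (17600 + r)) = Qf (tab Gen.b (17600 + r)) :=
  edges_tab (sm gb) Qf (tab Gen.b) 17600 [(17600, 19625), (17601, 20656), (17602, 17705), (17603, 16719), (17604, 17874), (17605, 18568), (17606, 13761), (17607, 19488), (17608, 13763), (17609, 20662), (17610, 15692), (17611, 20666), (17612, 13766), (17613, 20667), (17614, 19906), (17615, 13767), (17616, 20671), (17617, 13769), (17618, 14221), (17619, 16706), (17620, 18141), (17621, 13778), (17622, 14227), (17623, 16697), (17624, 18085), (17625, 13786), (17626, 15713), (17627, 14476), (17628, 17984), (17629, 20676), (17630, 13791), (17631, 19237), (17632, 18435), (17633, 17574), (17634, 14565), (17635, 14584), (17636, 13798), (17637, 14562), (17638, 17132), (17639, 18494), (17640, 14542), (17641, 20680), (17642, 13801), (17643, 20684), (17644, 16019), (17645, 17922), (17646, 13803), (17647, 13804), (17648, 17887), (17649, 17910), (17650, 17563),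 (17651, 16533), (17652, 17898), (17653, 13818), (17654, 13866), (17655, 15770), (17656, 13809), (17657, 17145), (17658, 19228), (17659, 15547), (17660, 13812), (17661, 17695), (17662, 13825), (17663, 20126)]
    ⟨e3 q17600 (flp_b L232765) q19625, e3 q17601 (flp_b L241672) q20656, e3 q17602 (flp_b L217140) q17705, e3 q17603 L216353 q16719, e3 q17604 L218602 q17874, e3 q17605 (flp_b L224493) q18568, e3 q17606 (flp_b L216375) q13761, e3 q17607 L231518 q19488, e3 q17608 (flp_b L216393) q13763, e3 q17609 (flp_b L241710) q20662, e3 q17610 (flp_b L216411) q15692, e3 q17611 L241744 q20666, e3 q17612 L216419 q13766, e3 q17613 L241754 q20667, e3 q17614 (flp_b L235063) q19906, e3 q17615 (flp_b L216441) q13767, e3 q17616 L241800 q20671, e3 q17617 (flp_b L216457) q13769, e3 q17618 L216467 q14221, e3 q17619 L216479 q16706, e3 q17620 (flp_b L220754) q18141, e3 q17621 (flp_b L216485) q13778, e3 q17622 L216493 q14227, e3 q17623 L216505 q16697, e3 q17624 L220308 q18085, e3 q17625 (flp_b L216511) q13786, e3 q17626 L216525 q15713,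 e3 q17627 L216535 q14476, e3 q17628 (flp_b L219594) q17984, e3 q17629 L241862 q20676, e3 q17630 (flp_b L216553) q13791, e3 q17631 L229214 q19237, e3 q17632 L223347 q18435, e3 q17633 L216567 q17574, e3 q17634 L216577 q14565, e3 q17635 L216591 q14584, e3 q17636 L216595 q13798, e3 q17637 (flp_b L216621) q14562, e3 q17638 L216627 q17132, e3 q17639 L223789 q18494, e3 q17640 L216647 q14542, e3 q17641 L241894 q20680, e3 q17642 (flp_b L216653) q13801, e3 q17643 L241926 q20684, e3 q17644 (flp_b L221680) q16019, e3 q17645 (flp_b L222904) q17922, e3 q17646 (flp_b L216675) q13803, e3 q17647 (flp_b L216677) q13804, e3 q17648 (flp_b L218724) q17887, e3 q17649 L222531 q17910, e3 q17650 L216693 q17563, e3 q17651 L216701 q16533, e3 q17652 (flp_b L218844) q17898, e3 q17653 L216713 q13818, e3 q17654 L216723 q13866, e3 q17655 L216733 q15770, e3 q17656 (flp_b L216735) q13809, e3 q17657 L216747 q17145, e3 q17658 (flp_b L229140) q19228, e3 q17659 L216765 q15547, e3 q17660 L216771 q13812, e3 q17661 (flp_b L217064) q17695, e3 q17662 L216799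 q13825, e3 q17663 (flp_b L237035) q20126, trivial⟩ (by decide +kernel)

theorem ce_b_276 : ∀ r, r < 64 → sm gb (Qf (17664 + r)) = Qf (tab Gen.b (17664 + r)) :=
  edges_tab (sm gb) Qf (tab Gen.b) 17664 [(17664, 17280), (17665, 13813), (17666, 20693), (17667, 16090), (17668, 13815), (17669, 13817), (17670, 20697), (17671, 17739), (17672, 18920), (17673, 14196), (17674, 17220), (17675, 18309), (17676, 19225), (17677, 17533), (17678, 14104), (17679, 14577), (17680, 20138), (17681, 19385), (17682, 13828), (17683, 19708), (17684, 13831), (17685, 20703), (17686, 18264), (17687, 15189), (17688, 20706), (17689, 13832), (17690, 19000), (17691, 19258), (17692, 13834), (17693, 17551), (17694, 13836), (17695, 17661), (17696, 20478), (17697, 19929), (17698, 15939), (17699, 14525), (17700, 17992), (17701, 20713), (17702, 13841), (17703, 19471), (17704, 18375), (17705, 17602), (17706, 14615), (17707, 14633), (17708, 13847), (17709, 14612), (17710, 17042), (17711, 18520), (17712, 14594), (17713, 20717), (17714, 13850), (17715, 20721),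 (17716, 16094), (17717, 17900), (17718, 13852), (17719, 13853), (17720, 17591), (17721, 16568), (17722, 17920), (17723, 13867), (17724, 15995), (17725, 13858), (17726, 17056), (17727, 19391)]
    ⟨e3 q17664 L216813 q17280, e3 q17665 (flp_b L216819) q13813, e3 q17666 (flp_b L242018) q20693, e3 q17667 L216833 q16090, e3 q17668 (flp_b L216835) q13815, e3 q17669 (flp_b L216845) q13817, e3 q17670 (flp_b L242056) q20697, e3 q17671 (flp_b L222525) q17739, e3 q17672 (flp_b L226920) q18920, e3 q17673 L216889 q14196, e3 q17674 L216895 q17220, e3 q17675 (flp_b L222002) q18309, e3 q17676 L229110 q19225, e3 q17677 L216934 q17533, e3 q17678 L216946 q14104, e3 q17679 L216952 q14577, e3 q17680 (flp_b L237159) q20138, e3 q17681 (flp_b L230516) q19385, e3 q17682 (flp_b L216976) q13828, e3 q17683 L233407 q19708, e3 q17684 L216992 q13831, e3 q17685 L242128 q20703, e3 q17686 (flp_b L221682) q18264, e3 q17687 L217008 q15189, e3 q17688 L242158 q20706, e3 q17689 (flp_b L217018) q13832, e3 q17690 (flp_b L227566) q19000, e3 q17691 (flp_b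 L229395) q19258, e3 q17692 (flp_b L217041) q13834, e3 q17693 (flp_b L217051) q17551, e3 q17694 L217058 q13836, e3 q17695 L217064 q17661, e3 q17696 (flp_b L240089) q20478, e3 q17697 (flp_b L235278) q19929, e3 q17698 L217098 q15939, e3 q17699 L217108 q14525, e3 q17700 (flp_b L219662) q17992, e3 q17701 L242224 q20713, e3 q17702 (flp_b L217126) q13841, e3 q17703 L231348 q19471, e3 q17704 L222934 q18375, e3 q17705 L217140 q17602, e3 q17706 L217150 q14615, e3 q17707 L217164 q14633, e3 q17708 L217168 q13847, e3 q17709 (flp_b L217194) q14612, e3 q17710 L217200 q17042, e3 q17711 L224055 q18520, e3 q17712 L217220 q14594, e3 q17713 L242258 q20717, e3 q17714 (flp_b L217226) q13850, e3 q17715 L242290 q20721, e3 q17716 (flp_b L217390) q16094, e3 q17717 L222906 q17900, e3 q17718 (flp_b L217248) q13852, e3 q17719 (flp_b L217250) q13853, e3 q17720 L217266 q17591, e3 q17721 L217274 q16568, e3 q17722 (flp_b L219056) q17920, e3 q17723 L217286 q13867, e3 q17724 L217298 q15995, e3 q17725 (flp_b L217300) q13858, e3 q17726 L217312 q17056,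 e3 q17727 (flp_b L230576) q19391, trivial⟩ (by decide +kernel)

theorem ce_b_277 : ∀ r, r < 64 → sm gb (Qf (17728 + r)) = Qf (tab Gen.b (17728 + r)) :=
  edges_tab (sm gb) Qf (tab Gen.b) 17728 [(17728, 15786), (17729, 13861), (17730, 13873), (17731, 17763), (17732, 20119), (17733, 17204), (17734, 13862), (17735, 20728), (17736, 16013), (17737, 13864), (17738, 20690), (17739, 17671), (17740, 18865), (17741, 14198), (17742, 17296), (17743, 19465), (17744, 18252), (17745, 14050), (17746, 17529), (17747, 14627), (17748, 20142), (17749, 19598), (17750, 13877), (17751, 19803), (17752, 13880), (17753, 18321), (17754, 20736), (17755, 15155), (17756, 20739), (17757, 13881), (17758, 19139), (17759, 19491), (17760, 13883), (17761, 17546), (17762, 13885), (17763, 17731), (17764, 20536), (17765, 19989), (17766, 15873), (17767, 19181), (17768, 19748), (17769, 20747), (17770, 19265), (17771, 13889), (17772, 17811), (17773, 17812), (17774, 20753), (17775, 15657), (17776, 19497), (17777, 19844), (17778, 13895), (17779, 19713), (17780,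 20524), (17781, 20502), (17782, 17782), (17783, 19688), (17784, 20757), (17785, 19780), (17786, 15639), (17787, 19044), (17788, 20759), (17789, 13903), (17790, 17824), (17791, 17825)]
    ⟨e3 q17728 L217330 q15786, e3 q17729 L217336 q13861, e3 q17730 L217352 q13873, e3 q17731 (flp_b L217620) q17763, e3 q17732 (flp_b L236965) q20119, e3 q17733 L217378 q17204, e3 q17734 (flp_b L217384) q13862, e3 q17735 (flp_b L242364) q20728, e3 q17736 (flp_b L217404) q16013, e3 q17737 (flp_b L217406) q13864, e3 q17738 (flp_b L241988) q20690, e3 q17739 L222525 q17671, e3 q17740 (flp_b L226509) q18865, e3 q17741 L217452 q14198, e3 q17742 L217458 q17296, e3 q17743 L231288 q19465, e3 q17744 (flp_b L221566) q18252, e3 q17745 L217490 q14050, e3 q17746 L217502 q17529, e3 q17747 L217508 q14627, e3 q17748 (flp_b L237193) q20142, e3 q17749 (flp_b L232512) q19598, e3 q17750 (flp_b L217532) q13877, e3 q17751 L234169 q19803, e3 q17752 L217548 q13880, e3 q17753 (flp_b L222096) q18321, e3 q17754 L242452 q20736, e3 q17755 L217564 q15155, e3 q17756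 L242482 q20739, e3 q17757 (flp_b L217574) q13881, e3 q17758 (flp_b L228481) q19139, e3 q17759 (flp_b L231541) q19491, e3 q17760 (flp_b L217597) q13883, e3 q17761 (flp_b L217607) q17546, e3 q17762 L217614 q13885, e3 q17763 L217620 q17731, e3 q17764 (flp_b L240577) q20536, e3 q17765 (flp_b L235850) q19989, e3 q17766 L217650 q15873, e3 q17767 (flp_b L228776) q19181, e3 q17768 (flp_b L233733) q19748, e3 q17769 L242562 q20747, e3 q17770 (flp_b L229466) q19265, e3 q17771 (flp_b L217684) q13889, e3 q17772 (flp_b L217966) q17811, e3 q17773 (flp_b L217972) q17812, e3 q17774 L242618 q20753, e3 q17775 L230964 q15657, e3 q17776 (flp_b L231604) q19497, e3 q17777 (flp_b L234525) q19844, e3 q17778 (flp_b L217732) q13895, e3 q17779 (flp_b L233451) q19713, e3 q17780 (flp_b L240503) q20524, e3 q17781 L240291 q20502, e3 q17782 L217756 q17782, e3 q17783 (flp_b L233243) q19688, e3 q17784 L242658 q20757, e3 q17785 L234003 q19780, e3 q17786 (flp_b L217777) q15639, e3 q17787 (flp_b L227843) q19044, e3 q17788 L242683 q20759, e3 q17789 (flp_b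 L217797) q13903, e3 q17790 (flp_b L218112) q17824, e3 q17791 (flp_b L218118) q17825, trivial⟩ (by decide +kernel)

theorem ce_b_278 : ∀ r, r < 64 → sm gb (Qf (17792 + r)) = Qf (tab Gen.b (17792 + r)) :=
  edges_tab (sm gb) Qf (tab Gen.b) 17792 [(17792, 15887), (17793, 20764), (17794, 13908), (17795, 19808), (17796, 20444), (17797, 20465), (17798, 19781), (17799, 17799), (17800, 19685), (17801, 20768), (17802, 13913), (17803, 20771), (17804, 20772), (17805, 18847), (17806, 19875), (17807, 15733), (17808, 15735), (17809, 20776), (17810, 13917), (17811, 17772), (17812, 17773), (17813, 20783), (17814, 19344), (17815, 17815), (17816, 19868), (17817, 13922), (17818, 20786), (17819, 20787), (17820, 19855), (17821, 18902), (17822, 15958), (17823, 15960), (17824, 17790), (17825, 17791), (17826, 19563), (17827, 19885), (17828, 13930), (17829, 13933), (17830, 17082), (17831, 16298), (17832, 13946), (17833, 13950), (17834, 13948), (17835, 17901), (17836, 14711), (17837, 16354), (17838, 13957), (17839, 13994), (17840, 17167),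 (17841, 16451), (17842, 13967), (17843, 13971), (17844, 13969), (17845, 17923), (17846, 14730), (17847, 16494), (17848, 13977), (17849, 14013), (17850, 14183), (17851, 19980), (17852, 14163), (17853, 20017), (17854, 16942), (17855, 17951)]
    ⟨e3 q17792 L217823 q15887, e3 q17793 L242731 q20764, e3 q17794 (flp_b L217833) q13908, e3 q17795 (flp_b L234211) q19808, e3 q17796 L239811 q20444, e3 q17797 (flp_b L240011) q20465, e3 q17798 (flp_b L233987) q19781, e3 q17799 L217863 q17799, e3 q17800 L234001 q19685, e3 q17801 L242773 q20768, e3 q17802 (flp_b L217874) q13913, e3 q17803 L242804 q20771, e3 q17804 L242816 q20772, e3 q17805 (flp_b L226392) q18847, e3 q17806 L234795 q19875, e3 q17807 L217930 q15733, e3 q17808 L217938 q15735, e3 q17809 L242856 q20776, e3 q17810 (flp_b L217956) q13917, e3 q17811 L217966 q17772, e3 q17812 L217972 q17773, e3 q17813 L242893 q20783, e3 q17814 (flp_b L230950) q19344, e3 q17815 L217990 q17815, e3 q17816 (flp_b L234729) q19868, e3 q17817 (flp_b L218020) q13922, e3 q17818 L242925 q20786,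 e3 q17819 L242935 q20787, e3 q17820 L234639 q19855, e3 q17821 (flp_b L226793) q18902, e3 q17822 L218076 q15958, e3 q17823 L218084 q15960, e3 q17824 L218112 q17790, e3 q17825 L218118 q17791, e3 q17826 (flp_b L232210) q19563, e3 q17827 (flp_b L234869) q19885, e3 q17828 (flp_b L218166) q13930, e3 q17829 (flp_b L218174) q13933, e3 q17830 L218194 q17082, e3 q17831 L218202 q16298, e3 q17832 (flp_b L218204) q13946, e3 q17833 L218216 q13950, e3 q17834 (flp_b L218226) q13948, e3 q17835 (flp_b L218858) q17901, e3 q17836 L218252 q14711, e3 q17837 L218260 q16354, e3 q17838 (flp_b L218262) q13957, e3 q17839 L218284 q13994, e3 q17840 L218296 q17167, e3 q17841 L218304 q16451, e3 q17842 (flp_b L218306) q13967, e3 q17843 L218318 q13971, e3 q17844 (flp_b L218328) q13969, e3 q17845 (flp_b L219070) q17923, e3 q17846 L218354 q14730, e3 q17847 L218362 q16494, e3 q17848 (flp_b L218364) q13977, e3 q17849 L218386 q14013, e3 q17850 L218398 q14183, e3 q17851 (flp_b L235771) q19980, e3 q17852 L218414 q14163, e3 q17853 (flp_b L236121) q20017,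 e3 q17854 L218424 q16942, e3 q17855 (flp_b L219360) q17951, trivial⟩ (by decide +kernel)

theorem ce_b_279 : ∀ r, r < 64 → sm gb (Qf (17856 + r)) = Qf (tab Gen.b (17856 + r)) :=
  edges_tab (sm gb) Qf (tab Gen.b) 17856 [(17856, 20647), (17857, 17477), (17858, 17500), (17859, 13999), (17860, 16742), (17861, 16678), (17862, 17576), (17863, 19410), (17864, 16941), (17865, 14004), (17866, 16957), (17867, 17941), (17868, 20672), (17869, 17452), (17870, 17505), (17871, 14018), (17872, 16740), (17873, 16660), (17874, 17604), (17875, 19616), (17876, 16956), (17877, 14023), (17878, 18352), (17879, 19933), (17880, 17966), (17881, 18786), (17882, 14035), (17883, 16225), (17884, 14043), (17885, 15727), (17886, 17047), (17887, 17648), (17888, 16120), (17889, 16255), (17890, 14058), (17891, 17191), (17892, 14061), (17893, 15703), (17894, 15725), (17895, 14483), (17896, 14075), (17897, 14076), (17898, 17652), (17899, 20805), (17900, 17717), (17901, 17835), (17902, 18414), (17903, 19992), (17904, 17969), (17905, 18837), (17906,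 14092), (17907, 14100), (17908, 15953), (17909, 17137), (17910, 17649), (17911, 16044), (17912, 14111), (17913, 17267), (17914, 14114), (17915, 15933), (17916, 15952), (17917, 14532), (17918, 14126), (17919, 14127)]
    ⟨e3 q17856 (flp_b L241606) q20647, e3 q17857 L218452 q17477, e3 q17858 L218460 q17500, e3 q17859 L218466 q13999, e3 q17860 L218472 q16742, e3 q17861 L218484 q16678, e3 q17862 (flp_b L218498) q17576, e3 q17863 L230710 q19410, e3 q17864 L218512 q16941, e3 q17865 (flp_b L218514) q14004, e3 q17866 L218528 q16957, e3 q17867 (flp_b L219256) q17941, e3 q17868 (flp_b L241824) q20672, e3 q17869 L218556 q17452, e3 q17870 L218564 q17505, e3 q17871 L218570 q14018, e3 q17872 L218576 q16740, e3 q17873 (flp_b L218588) q16660, e3 q17874 (flp_b L218602) q17604, e3 q17875 L232670 q19616, e3 q17876 L218616 q16956, e3 q17877 (flp_b L218618) q14023, e3 q17878 (flp_b L222381) q18352, e3 q17879 (flp_b L235328) q19933, e3 q17880 (flp_b L219470) q17966, e3 q17881 L226041 q18786, e3 q17882 (flp_b L218664) q14035, e3 q17883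 L218686 q16225, e3 q17884 (flp_b L218688) q14043, e3 q17885 L218702 q15727, e3 q17886 L218714 q17047, e3 q17887 L218724 q17648, e3 q17888 L218738 q16120, e3 q17889 L218750 q16255, e3 q17890 L218756 q14058, e3 q17891 (flp_b L218770) q17191, e3 q17892 L218776 q14061, e3 q17893 L218786 q15703, e3 q17894 L218800 q15725, e3 q17895 L218808 q14483, e3 q17896 L218820 q14075, e3 q17897 L218830 q14076, e3 q17898 L218844 q17652, e3 q17899 (flp_b L243117) q20805, e3 q17900 (flp_b L222906) q17717, e3 q17901 L218858 q17835, e3 q17902 (flp_b L223195) q18414, e3 q17903 (flp_b L235886) q19992, e3 q17904 (flp_b L219491) q17969, e3 q17905 L226327 q18837, e3 q17906 (flp_b L218896) q14092, e3 q17907 (flp_b L218908) q14100, e3 q17908 L218924 q15953, e3 q17909 L218936 q17137, e3 q17910 (flp_b L222531) q17649, e3 q17911 L218960 q16044, e3 q17912 L218966 q14111, e3 q17913 (flp_b L218980) q17267, e3 q17914 L218986 q14114, e3 q17915 L218998 q15933, e3 q17916 L219012 q15952, e3 q17917 L219020 q14532, e3 q17918 L219032 q14126, e3 q17919 L219042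 q14127, trivial⟩ (by decide +kernel)

theorem ce_b_280 : ∀ r, r < 64 → sm gb (Qf (17920 + r)) = Qf (tab Gen.b (17920 + r)) :=
  edges_tab (sm gb) Qf (tab Gen.b) 17920 [(17920, 17722), (17921, 20815), (17922, 17645), (17923, 17845), (17924, 16328), (17925, 16326), (17926, 14755), (17927, 14138), (17928, 18289), (17929, 14776), (17930, 14147), (17931, 18346), (17932, 20821), (17933, 14156), (17934, 18603), (17935, 14165), (17936, 15654), (17937, 16602), (17938, 14787), (17939, 16854), (17940, 17508), (17941, 17867), (17942, 20822), (17943, 14177), (17944, 18605), (17945, 14186), (17946, 15886), (17947, 16625), (17948, 14820), (17949, 16863), (17950, 17512), (17951, 17855), (17952, 17019), (17953, 17221), (17954, 17111), (17955, 17297), (17956, 20106), (17957, 16018), (17958, 14200), (17959, 19705), (17960, 16711), (17961, 20114), (17962, 16095), (17963, 14204), (17964, 19800), (17965, 16702), (17966, 17880), (17967, 14218), (17968, 20100), (17969, 17904), (17970, 14214), (17971, 20101), (17972, 14443), (17973, 20832),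 (17974, 20105), (17975, 14223), (17976, 19512), (17977, 14216), (17978, 14493), (17979, 20835), (17980, 20113), (17981, 14229), (17982, 19280), (17983, 14220)]
    ⟨e3 q17920 L219056 q17722, e3 q17921 (flp_b L243243) q20815, e3 q17922 L222904 q17645, e3 q17923 L219070 q17845, e3 q17924 L219082 q16328, e3 q17925 L219094 q16326, e3 q17926 L219102 q14755, e3 q17927 L219110 q14138, e3 q17928 L221840 q18289, e3 q17929 L219132 q14776, e3 q17930 L219140 q14147, e3 q17931 (flp_b L222325) q18346, e3 q17932 L243319 q20821, e3 q17933 (flp_b L219160) q14156, e3 q17934 L224809 q18603, e3 q17935 L219182 q14165, e3 q17936 L219192 q15654, e3 q17937 (flp_b L219210) q16602, e3 q17938 L219216 q14787, e3 q17939 L219230 q16854, e3 q17940 (flp_b L219244) q17508, e3 q17941 L219256 q17867, e3 q17942 L243327 q20822, e3 q17943 (flp_b L219262) q14177, e3 q17944 (flp_b L224835) q18605, e3 q17945 L219286 q14186, e3 q17946 L219296 q15886, e3 q17947 (flp_b L219314) q16625, e3 q17948 L219320 q14820, e3 q17949 L219334 q16863, e3 q17950 (flp_b L219348)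 q17512, e3 q17951 L219360 q17855, e3 q17952 L219364 q17019, e3 q17953 (flp_b L219380) q17221, e3 q17954 L219384 q17111, e3 q17955 (flp_b L219400) q17297, e3 q17956 (flp_b L236829) q20106, e3 q17957 L219652 q16018, e3 q17958 (flp_b L219416) q14200, e3 q17959 (flp_b L233385) q19705, e3 q17960 L219432 q16711, e3 q17961 (flp_b L236913) q20114, e3 q17962 (flp_b L220034) q16095, e3 q17963 (flp_b L219448) q14204, e3 q17964 (flp_b L234147) q19800, e3 q17965 L219464 q16702, e3 q17966 L219470 q17880, e3 q17967 (flp_b L219480) q14218, e3 q17968 (flp_b L236773) q20100, e3 q17969 L219491 q17904, e3 q17970 L219501 q14214, e3 q17971 (flp_b L236779) q20101, e3 q17972 L219512 q14443, e3 q17973 L243441 q20832, e3 q17974 (flp_b L236821) q20105, e3 q17975 L219530 q14223, e3 q17976 (flp_b L231734) q19512, e3 q17977 (flp_b L219540) q14216, e3 q17978 L219552 q14493, e3 q17979 L243467 q20835, e3 q17980 (flp_b L236905) q20113, e3 q17981 L219570 q14229, e3 q17982 (flp_b L229598) q19280, e3 q17983 (flp_b L219580) q14220, trivial⟩ (by decide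 +kernel)

theorem ce_b_281 : ∀ r, r < 64 → sm gb (Qf (17984 + r)) = Qf (tab Gen.b (17984 + r)) :=
  edges_tab (sm gb) Qf (tab Gen.b) 17984 [(17984, 17628), (17985, 19677), (17986, 19513), (17987, 14224), (17988, 19865), (17989, 20840), (17990, 15165), (17991, 14226), (17992, 17700), (17993, 19771), (17994, 19281), (17995, 14230), (17996, 19884), (17997, 20844), (17998, 15199), (17999, 14232), (18000, 14234), (18001, 15033), (18002, 18767), (18003, 20827), (18004, 14236), (18005, 18816), (18006, 15045), (18007, 20829), (18008, 18014), (18009, 20848), (18010, 14239), (18011, 20850), (18012, 19425), (18013, 14261), (18014, 18008), (18015, 20855), (18016, 14243), (18017, 20857), (18018, 19626), (18019, 14281), (18020, 18354), (18021, 14640), (18022, 20864), (18023, 20865), (18024, 14247), (18025, 19522), (18026, 18034), (18027, 14253), (18028, 19485), (18029, 14474), (18030, 14461), (18031, 14464), (18032, 14255), (18033, 14256), (18034, 18026), (18035, 15096), (18036, 14258), (18037, 20877), (18038, 19483), (18039,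 20486), (18040, 20878), (18041, 14259), (18042, 20880), (18043, 19498), (18044, 14262), (18045, 20390), (18046, 20883), (18047, 18720)]
    ⟨e3 q17984 L219594 q17628, e3 q17985 (flp_b L233179) q19677, e3 q17986 (flp_b L231752) q19513, e3 q17987 (flp_b L219612) q14224, e3 q17988 (flp_b L234707) q19865, e3 q17989 L243515 q20840, e3 q17990 L219644 q15165, e3 q17991 (flp_b L219634) q14226, e3 q17992 L219662 q17700, e3 q17993 (flp_b L233927) q19771, e3 q17994 (flp_b L229616) q19281, e3 q17995 (flp_b L219680) q14230, e3 q17996 (flp_b L234863) q19884, e3 q17997 L243549 q20844, e3 q17998 (flp_b L220024) q15199, e3 q17999 (flp_b L219702) q14232, e3 q18000 L219710 q14234, e3 q18001 L219720 q15033, e3 q18002 (flp_b L225943) q18767, e3 q18003 (flp_b L243389) q20827, e3 q18004 L219736 q14236, e3 q18005 L226205 q18816, e3 q18006 L219748 q15045, e3 q18007 (flp_b L243413) q20829, e3 q18008 (flp_b L219802) q18014, e3 q18009 L243581 q20848, e3 q18010 (flp_b L219775) q14239, e3 q18011 (flp_b L243607) q20850, e3 q18012 (flp_b L231002)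 q19425, e3 q18013 L219789 q14261, e3 q18014 L219802 q18008, e3 q18015 L243649 q20855, e3 q18016 (flp_b L219810) q14243, e3 q18017 (flp_b L243675) q20857, e3 q18018 (flp_b L232769) q19626, e3 q18019 L219824 q14281, e3 q18020 (flp_b L222401) q18354, e3 q18021 L219838 q14640, e3 q18022 L243735 q20864, e3 q18023 L243741 q20865, e3 q18024 (flp_b L219854) q14247, e3 q18025 (flp_b L231832) q19522, e3 q18026 (flp_b L219924) q18034, e3 q18027 (flp_b L219876) q14253, e3 q18028 (flp_b L231488) q19485, e3 q18029 L219890 q14474, e3 q18030 L219894 q14461, e3 q18031 L219904 q14464, e3 q18032 (flp_b L219906) q14255, e3 q18033 (flp_b L219914) q14256, e3 q18034 L219924 q18026, e3 q18035 (flp_b L219938) q15096, e3 q18036 L219942 q14258, e3 q18037 L243871 q20877, e3 q18038 (flp_b L231462) q19483, e3 q18039 (flp_b L240147) q20486, e3 q18040 L243881 q20878, e3 q18041 (flp_b L219976) q14259, e3 q18042 L243899 q20880, e3 q18043 (flp_b L231616) q19498, e3 q18044 (flp_b L219992) q14262, e3 q18045 (flp_b L239311) q20390, e3 q18046 L243931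 q20883, e3 q18047 (flp_b L225617) q18720, trivial⟩ (by decide +kernel)

theorem ce_b_282 : ∀ r, r < 64 → sm gb (Qf (18048 + r)) = Qf (tab Gen.b (18048 + r)) :=
  edges_tab (sm gb) Qf (tab Gen.b) 18048 [(18048, 14264), (18049, 18416), (18050, 20887), (18051, 14670), (18052, 14266), (18053, 19294), (18054, 20891), (18055, 18063), (18056, 14273), (18057, 19251), (18058, 14523), (18059, 14510), (18060, 14513), (18061, 14275), (18062, 14276), (18063, 18055), (18064, 15106), (18065, 14278), (18066, 19249), (18067, 20901), (18068, 20428), (18069, 20902), (18070, 14279), (18071, 20904), (18072, 19266), (18073, 14282), (18074, 20427), (18075, 20907), (18076, 18731), (18077, 14284), (18078, 14541), (18079, 19754), (18080, 14287), (18081, 14288), (18082, 20828), (18083, 20910), (18084, 20912), (18085, 17624), (18086, 14291), (18087, 18496), (18088, 15726), (18089, 14297), (18090, 20913), (18091, 18272), (18092, 19239), (18093, 14303), (18094, 20914), (18095, 18770), (18096, 20915), (18097, 14307), (18098, 19102), (18099, 14308),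 (18100, 20921), (18101, 14310), (18102, 20925), (18103, 14314), (18104, 18245), (18105, 16835), (18106, 20923), (18107, 14313), (18108, 20664), (18109, 20932), (18110, 20091), (18111, 19369)]
    ⟨e3 q18048 (flp_b L220040) q14264, e3 q18049 (flp_b L223215) q18416, e3 q18050 L243969 q20887, e3 q18051 L220060 q14670, e3 q18052 (flp_b L220062) q14266, e3 q18053 (flp_b L229730) q19294, e3 q18054 L243999 q20891, e3 q18055 (flp_b L220140) q18063, e3 q18056 (flp_b L220092) q14273, e3 q18057 (flp_b L229340) q19251, e3 q18058 L220106 q14523, e3 q18059 L220110 q14510, e3 q18060 L220120 q14513, e3 q18061 (flp_b L220122) q14275, e3 q18062 (flp_b L220130) q14276, e3 q18063 L220140 q18055, e3 q18064 (flp_b L220152) q15106, e3 q18065 L220158 q14278, e3 q18066 (flp_b L229316) q19249, e3 q18067 L244115 q20901, e3 q18068 (flp_b L239669) q20428, e3 q18069 L244125 q20902, e3 q18070 (flp_b L220192) q14279, e3 q18071 L244143 q20904, e3 q18072 (flp_b L229478) q19266, e3 q18073 (flp_b L220208) q14282, e3 q18074 (flp_b L239659) q20427,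 e3 q18075 L244175 q20907, e3 q18076 (flp_b L225735) q18731, e3 q18077 (flp_b L220238) q14284, e3 q18078 L220248 q14541, e3 q18079 L233797 q19754, e3 q18080 (flp_b L220262) q14287, e3 q18081 (flp_b L220272) q14288, e3 q18082 (flp_b L243399) q20828, e3 q18083 L244203 q20910, e3 q18084 L244215 q20912, e3 q18085 (flp_b L220308) q17624, e3 q18086 (flp_b L220310) q14291, e3 q18087 (flp_b L223855) q18496, e3 q18088 L220332 q15726, e3 q18089 (flp_b L220334) q14297, e3 q18090 L244225 q20913, e3 q18091 (flp_b L221720) q18272, e3 q18092 (flp_b L229230) q19239, e3 q18093 L220370 q14303, e3 q18094 L244237 q20914, e3 q18095 (flp_b L229784) q18770, e3 q18096 L244241 q20915, e3 q18097 (flp_b L220394) q14307, e3 q18098 (flp_b L228204) q19102, e3 q18099 (flp_b L220408) q14308, e3 q18100 L244281 q20921, e3 q18101 (flp_b L220418) q14310, e3 q18102 L244303 q20925, e3 q18103 L220426 q14314, e3 q18104 (flp_b L221506) q18245, e3 q18105 (flp_b L220436) q16835, e3 q18106 (flp_b L244295) q20923, e3 q18107 (flp_b L220444) q14313, e3 q18108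 (flp_b L241732) q20664, e3 q18109 L244349 q20932, e3 q18110 (flp_b L236683) q20091, e3 q18111 (flp_b L230356) q19369, trivial⟩ (by decide +kernel)

theorem ce_b_283 : ∀ r, r < 64 → sm gb (Qf (18112 + r)) = Qf (tab Gen.b (18112 + r)) :=
  edges_tab (sm gb) Qf (tab Gen.b) 18112 [(18112, 14318), (18113, 20644), (18114, 19832), (18115, 18131), (18116, 14770), (18117, 16812), (18118, 20205), (18119, 14325), (18120, 14328), (18121, 20935), (18122, 14383), (18123, 14329), (18124, 15771), (18125, 14330), (18126, 19982), (18127, 17541), (18128, 14671), (18129, 19371), (18130, 14338), (18131, 18115), (18132, 14592), (18133, 19851), (18134, 14342), (18135, 14343), (18136, 20830), (18137, 20939), (18138, 20941), (18139, 14345), (18140, 18522), (18141, 17620), (18142, 15950), (18143, 14352), (18144, 20942), (18145, 18329), (18146, 19473), (18147, 14358), (18148, 20943), (18149, 18821), (18150, 20944), (18151, 14362), (18152, 18962), (18153, 14363), (18154, 20950), (18155, 14365), (18156, 20954), (18157, 14369), (18158, 18304),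 (18159, 16842), (18160, 20952), (18161, 14368), (18162, 20638), (18163, 20961), (18164, 20099), (18165, 19584), (18166, 14373), (18167, 20669), (18168, 19735), (18169, 18183), (18170, 14749), (18171, 16786), (18172, 20201), (18173, 14380), (18174, 20963), (18175, 14384)]
    ⟨e3 q18112 (flp_b L220476) q14318, e3 q18113 (flp_b L241572) q20644, e3 q18114 (flp_b L234411) q19832, e3 q18115 (flp_b L220670) q18131, e3 q18116 L220528 q14770, e3 q18117 L220536 q16812, e3 q18118 (flp_b L237747) q20205, e3 q18119 (flp_b L220548) q14325, e3 q18120 L220562 q14328, e3 q18121 L244377 q20935, e3 q18122 L220574 q14383, e3 q18123 (flp_b L220580) q14329, e3 q18124 (flp_b L220600) q15771, e3 q18125 (flp_b L220602) q14330, e3 q18126 L235789 q19982, e3 q18127 L220636 q17541, e3 q18128 L220648 q14671, e3 q18129 (flp_b L230382) q19371, e3 q18130 (flp_b L220660) q14338, e3 q18131 L220670 q18115, e3 q18132 L220678 q14592, e3 q18133 (flp_b L234593) q19851, e3 q18134 (flp_b L220692) q14342, e3 q18135 (flp_b L220702) q14343, e3 q18136 (flp_b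 L243423) q20830, e3 q18137 L244417 q20939, e3 q18138 L244429 q20941, e3 q18139 (flp_b L220732) q14345, e3 q18140 (flp_b L224071) q18522, e3 q18141 L220754 q17620, e3 q18142 L220762 q15950, e3 q18143 (flp_b L220764) q14352, e3 q18144 L244439 q20942, e3 q18145 (flp_b L222154) q18329, e3 q18146 (flp_b L231370) q19473, e3 q18147 L220800 q14358, e3 q18148 L244451 q20943, e3 q18149 L226245 q18821, e3 q18150 L244455 q20944, e3 q18151 (flp_b L220824) q14362, e3 q18152 (flp_b L227252) q18962, e3 q18153 (flp_b L220838) q14363, e3 q18154 L244495 q20950, e3 q18155 (flp_b L220848) q14365, e3 q18156 L244517 q20954, e3 q18157 L220856 q14369, e3 q18158 (flp_b L221962) q18304, e3 q18159 L220866 q16842, e3 q18160 (flp_b L244509) q20952, e3 q18161 (flp_b L220874) q14368, e3 q18162 (flp_b L241506) q20638, e3 q18163 L244563 q20961, e3 q18164 (flp_b L236765) q20099, e3 q18165 L232370 q19584, e3 q18166 (flp_b L220906) q14373, e3 q18167 (flp_b L241788) q20669, e3 q18168 (flp_b L233625) q19735, e3 q18169 (flp_b L221084) q18183, e3 q18170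 L220958 q14749, e3 q18171 L220966 q16786, e3 q18172 (flp_b L237705) q20201, e3 q18173 (flp_b L220978) q14380, e3 q18174 L244583 q20963, e3 q18175 (flp_b L220994) q14384, trivial⟩ (by decide +kernel)

theorem ce_b_284 : ∀ r, r < 64 → sm gb (Qf (18176 + r)) = Qf (tab Gen.b (18176 + r)) :=
  edges_tab (sm gb) Qf (tab Gen.b) 18176 [(18176, 15996), (18177, 14386), (18178, 19921), (18179, 17537), (18180, 14642), (18181, 19586), (18182, 14393), (18183, 18169), (18184, 20965), (18185, 14399), (18186, 20968), (18187, 14400), (18188, 20970), (18189, 14405), (18190, 20971), (18191, 20403), (18192, 14404), (18193, 20975), (18194, 14406), (18195, 20979), (18196, 14409), (18197, 20920), (18198, 20977), (18199, 18203), (18200, 19998), (18201, 16124), (18202, 14410), (18203, 18199), (18204, 20919), (18205, 19219), (18206, 20987), (18207, 14415), (18208, 20990), (18209, 20991), (18210, 14421), (18211, 20994), (18212, 14422), (18213, 20996), (18214, 14427), (18215, 20997), (18216, 14425), (18217, 20341), (18218, 21001), (18219, 14428),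 (18220, 21005), (18221, 14431), (18222, 20949), (18223, 21003), (18224, 18228), (18225, 19939), (18226, 16047), (18227, 14432), (18228, 18224), (18229, 20948), (18230, 19085), (18231, 21013), (18232, 14437), (18233, 21016), (18234, 19234), (18235, 21017), (18236, 14445), (18237, 19580), (18238, 17140), (18239, 14444)]
    ⟨e3 q18176 (flp_b L221014) q15996, e3 q18177 (flp_b L221016) q14386, e3 q18178 (flp_b L235203) q19921, e3 q18179 L221050 q17537, e3 q18180 L221062 q14642, e3 q18181 (flp_b L232396) q19586, e3 q18182 (flp_b L221074) q14393, e3 q18183 L221084 q18169, e3 q18184 L244605 q20965, e3 q18185 L221096 q14399, e3 q18186 (flp_b L244623) q20968, e3 q18187 (flp_b L221106) q14400, e3 q18188 L244641 q20970, e3 q18189 L221123 q14405, e3 q18190 L244647 q20971, e3 q18191 (flp_b L239435) q20403, e3 q18192 (flp_b L221145) q14404, e3 q18193 L244668 q20975, e3 q18194 (flp_b L221155) q14406, e3 q18195 L244692 q20979, e3 q18196 L221163 q14409, e3 q18197 (flp_b L244279) q20920, e3 q18198 (flp_b L244684) q20977, e3 q18199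 (flp_b L221215) q18203, e3 q18200 (flp_b L235946) q19998, e3 q18201 (flp_b L222210) q16124, e3 q18202 (flp_b L221197) q14410, e3 q18203 L221215 q18199, e3 q18204 (flp_b L244271) q20919, e3 q18205 (flp_b L229068) q19219, e3 q18206 L244750 q20987, e3 q18207 (flp_b L221237) q14415, e3 q18208 L244782 q20990, e3 q18209 L244790 q20991, e3 q18210 L221265 q14421, e3 q18211 (flp_b L244808) q20994, e3 q18212 (flp_b L221275) q14422, e3 q18213 L244826 q20996, e3 q18214 L221292 q14427, e3 q18215 L244832 q20997, e3 q18216 (flp_b L221305) q14425, e3 q18217 (flp_b L238857) q20341, e3 q18218 L244853 q21001, e3 q18219 (flp_b L221324) q14428, e3 q18220 L244877 q21005, e3 q18221 L221332 q14431, e3 q18222 (flp_b L244493) q20949, e3 q18223 (flp_b L244869) q21003, e3 q18224 (flp_b L221384) q18228, e3 q18225 (flp_b L235388) q19939, e3 q18226 (flp_b L227419) q16047, e3 q18227 (flp_b L221366) q14432, e3 q18228 L221384 q18224, e3 q18229 (flp_b L244485) q20948, e3 q18230 (flp_b L228097) q19085, e3 q18231 L244935 q21013, e3 q18232 (flp_b L221406)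 q14437, e3 q18233 L244967 q21016, e3 q18234 (flp_b L229184) q19234, e3 q18235 L244977 q21017, e3 q18236 L221442 q14445, e3 q18237 L232346 q19580, e3 q18238 L238729 q17140, e3 q18239 (flp_b L221464) q14444, trivial⟩ (by decide +kernel)

theorem ce_b_285 : ∀ r, r < 64 → sm gb (Qf (18240 + r)) = Qf (tab Gen.b (18240 + r)) :=
  edges_tab (sm gb) Qf (tab Gen.b) 18240 [(18240, 20420), (18241, 21020), (18242, 14446), (18243, 21022), (18244, 14450), (18245, 18104), (18246, 20264), (18247, 16675), (18248, 14449), (18249, 17289), (18250, 19697), (18251, 16657), (18252, 17744), (18253, 21029), (18254, 14456), (18255, 20317), (18256, 15362), (18257, 18377), (18258, 14459), (18259, 15160), (18260, 21035), (18261, 14466), (18262, 20871), (18263, 14462), (18264, 17686), (18265, 21042), (18266, 14470), (18267, 15388), (18268, 21043), (18269, 14465), (18270, 21045), (18271, 21038), (18272, 18091), (18273, 20430), (18274, 21050), (18275, 18409), (18276, 14469), (18277, 15359), (18278, 20732), (18279, 20989), (18280, 15390), (18281,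 14471), (18282, 15058), (18283, 20503), (18284, 17055), (18285, 14473), (18286, 20804), (18287, 18653), (18288, 21055), (18289, 17928), (18290, 20819), (18291, 19588), (18292, 14485), (18293, 19476), (18294, 21056), (18295, 14494), (18296, 19365), (18297, 14492), (18298, 20373), (18299, 17051), (18300, 21059), (18301, 14495), (18302, 21061), (18303, 14499)]
    ⟨e3 q18240 (flp_b L239595) q20420, e3 q18241 L245001 q21020, e3 q18242 (flp_b L221490) q14446, e3 q18243 L245017 q21022, e3 q18244 L221500 q14450, e3 q18245 L221506 q18104, e3 q18246 (flp_b L238185) q20264, e3 q18247 L221526 q16675, e3 q18248 (flp_b L221528) q14449, e3 q18249 (flp_b L221540) q17289, e3 q18250 (flp_b L233323) q19697, e3 q18251 L221560 q16657, e3 q18252 L221566 q17744, e3 q18253 L245087 q21029, e3 q18254 (flp_b L221586) q14456, e3 q18255 (flp_b L238613) q20317, e3 q18256 L221604 q15362, e3 q18257 (flp_b L222944) q18377, e3 q18258 (flp_b L221616) q14459, e3 q18259 (flp_b L221632) q15160, e3 q18260 L245137 q21035, e3 q18261 L221642 q14466, e3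 q18262 (flp_b L243809) q20871, e3 q18263 (flp_b L221648) q14462, e3 q18264 L221682 q17686, e3 q18265 L245197 q21042, e3 q18266 L221662 q14470, e3 q18267 L221674 q15388, e3 q18268 L245199 q21043, e3 q18269 (flp_b L221694) q14465, e3 q18270 L245211 q21045, e3 q18271 (flp_b L245169) q21038, e3 q18272 L221720 q18091, e3 q18273 (flp_b L239693) q20430, e3 q18274 L245249 q21050, e3 q18275 (flp_b L223153) q18409, e3 q18276 (flp_b L221736) q14469, e3 q18277 (flp_b L222206) q15359, e3 q18278 (flp_b L242406) q20732, e3 q18279 (flp_b L244780) q20989, e3 q18280 L221762 q15390, e3 q18281 (flp_b L221764) q14471, e3 q18282 (flp_b L221776) q15058, e3 q18283 (flp_b L240301) q20503, e3 q18284 L221794 q17055, e3 q18285 (flp_b L221796) q14473, e3 q18286 (flp_b L243103) q20804, e3 q18287 (flp_b L225193) q18653, e3 q18288 L245289 q21055, e3 q18289 (flp_b L221840) q17928, e3 q18290 (flp_b L243295) q20819, e3 q18291 (flp_b L232416) q19588, e3 q18292 (flp_b L221866) q14485, e3 q18293 (flp_b L231394) q19476, e3 q18294 L245301 q21056, e3 q18295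 L221898 q14494, e3 q18296 L230332 q19365, e3 q18297 (flp_b L221912) q14492, e3 q18298 L239393 q20373, e3 q18299 (flp_b L238821) q17051, e3 q18300 L245325 q21059, e3 q18301 (flp_b L221946) q14495, e3 q18302 L245341 q21061, e3 q18303 L221956 q14499, trivial⟩ (by decide +kernel)

theorem ce_b_286 : ∀ r, r < 64 → sm gb (Qf (18304 + r)) = Qf (tab Gen.b (18304 + r)) :=
  edges_tab (sm gb) Qf (tab Gen.b) 18304 [(18304, 18158), (18305, 20275), (18306, 14498), (18307, 17213), (18308, 19792), (18309, 17675), (18310, 21066), (18311, 14505), (18312, 20297), (18313, 15466), (18314, 18437), (18315, 14508), (18316, 15194), (18317, 21072), (18318, 14515), (18319, 20895), (18320, 14511), (18321, 17753), (18322, 21079), (18323, 14519), (18324, 15492), (18325, 21080), (18326, 14514), (18327, 21082), (18328, 21075), (18329, 18145), (18330, 20488), (18331, 21085), (18332, 18467), (18333, 14518), (18334, 15463), (18335, 20699), (18336, 21015), (18337, 15494), (18338, 14520), (18339, 15063), (18340, 20445), (18341, 17144), (18342, 14522),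 (18343, 20814), (18344, 18647), (18345, 21090), (18346, 17931), (18347, 20820), (18348, 19373), (18349, 14534), (18350, 14537), (18351, 21092), (18352, 17878), (18353, 21093), (18354, 18020), (18355, 21094), (18356, 14543), (18357, 14545), (18358, 21099), (18359, 21096), (18360, 14548), (18361, 21102), (18362, 14550), (18363, 21105), (18364, 21106), (18365, 14552), (18366, 21109), (18367, 14553)]
    ⟨e3 q18304 L221962 q18158, e3 q18305 (flp_b L238279) q20275, e3 q18306 (flp_b L221974) q14498, e3 q18307 (flp_b L221988) q17213, e3 q18308 (flp_b L234089) q19792, e3 q18309 L222002 q17675, e3 q18310 L245387 q21066, e3 q18311 (flp_b L222022) q14505, e3 q18312 L238457 q20297, e3 q18313 L222040 q15466, e3 q18314 (flp_b L223357) q18437, e3 q18315 (flp_b L222052) q14508, e3 q18316 (flp_b L222068) q15194, e3 q18317 L245453 q21072, e3 q18318 L222078 q14515, e3 q18319 (flp_b L244053) q20895, e3 q18320 (flp_b L222084) q14511, e3 q18321 L222096 q17753, e3 q18322 L245513 q21079, e3 q18323 L222106 q14519, e3 q18324 L222114 q15492,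 e3 q18325 L245515 q21080, e3 q18326 (flp_b L222124) q14514, e3 q18327 L245527 q21082, e3 q18328 (flp_b L245485) q21075, e3 q18329 L222154 q18145, e3 q18330 (flp_b L240171) q20488, e3 q18331 L245545 q21085, e3 q18332 (flp_b L223563) q18467, e3 q18333 (flp_b L222170) q14518, e3 q18334 L227407 q15463, e3 q18335 (flp_b L242082) q20699, e3 q18336 L244965 q21015, e3 q18337 L222202 q15494, e3 q18338 (flp_b L222237) q14520, e3 q18339 (flp_b L222253) q15063, e3 q18340 (flp_b L239821) q20445, e3 q18341 L222275 q17144, e3 q18342 (flp_b L222277) q14522, e3 q18343 (flp_b L243229) q20814, e3 q18344 (flp_b L225151) q18647, e3 q18345 L245585 q21090, e3 q18346 L222325 q17931, e3 q18347 (flp_b L243309) q20820, e3 q18348 (flp_b L230402) q19373, e3 q18349 (flp_b L222351) q14534, e3 q18350 (flp_b L222361) q14537, e3 q18351 L245611 q21092, e3 q18352 L222381 q17878, e3 q18353 L245617 q21093, e3 q18354 L222401 q18020, e3 q18355 L245623 q21094, e3 q18356 (flp_b L222417) q14543, e3 q18357 (flp_b L222419) q14545, e3 q18358 L245647 q21099,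 e3 q18359 (flp_b L245631) q21096, e3 q18360 (flp_b L222439) q14548, e3 q18361 L245693 q21102, e3 q18362 (flp_b L222459) q14550, e3 q18363 L245713 q21105, e3 q18364 L245719 q21106, e3 q18365 (flp_b L222485) q14552, e3 q18366 L245743 q21109, e3 q18367 (flp_b L222501) q14553, trivial⟩ (by decide +kernel)

theorem ce_b_287 : ∀ r, r < 64 → sm gb (Qf (18368 + r)) = Qf (tab Gen.b (18368 + r)) :=
  edges_tab (sm gb) Qf (tab Gen.b) 18368 [(18368, 19866), (18369, 21114), (18370, 14555), (18371, 14556), (18372, 14557), (18373, 17197), (18374, 21111), (18375, 17704), (18376, 21117), (18377, 18257), (18378, 15772), (18379, 18477), (18380, 17399), (18381, 19991), (18382, 17401), (18383, 21123), (18384, 20340), (18385, 14568), (18386, 19120), (18387, 21125), (18388, 19720), (18389, 18717), (18390, 14570), (18391, 21128), (18392, 14571), (18393, 14572), (18394, 17336), (18395, 21132), (18396, 20678), (18397, 19125), (18398, 14576), (18399, 20700), (18400, 21053), (18401, 20288), (18402, 14578), (18403, 20308), (18404, 19124), (18405,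 19122), (18406, 14582), (18407, 17022), (18408, 21141), (18409, 18275), (18410, 17515), (18411, 16724), (18412, 14588), (18413, 21147), (18414, 17902), (18415, 21148), (18416, 18049), (18417, 21149), (18418, 14593), (18419, 14595), (18420, 21152), (18421, 21095), (18422, 14598), (18423, 21155), (18424, 14601), (18425, 21158), (18426, 21159), (18427, 14603), (18428, 21162), (18429, 19883), (18430, 21164), (18431, 14605)]
    ⟨e3 q18368 (flp_b L234717) q19866, e3 q18369 L245779 q21114, e3 q18370 (flp_b L222507) q14555, e3 q18371 (flp_b L222509) q14556, e3 q18372 (flp_b L222908) q14557, e3 q18373 (flp_b L222920) q17197, e3 q18374 (flp_b L245755) q21111, e3 q18375 (flp_b L222934) q17704, e3 q18376 (flp_b L245799) q21117, e3 q18377 L222944 q18257, e3 q18378 L222956 q15772, e3 q18379 (flp_b L223651) q18477, e3 q18380 L222976 q17399, e3 q18381 (flp_b L235880) q19991, e3 q18382 L223000 q17401, e3 q18383 L245845 q21123, e3 q18384 (flp_b L238851) q20340, e3 q18385 (flp_b L223014) q14568, e3 q18386 (flp_b L228321) q19120,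 e3 q18387 L245863 q21125, e3 q18388 (flp_b L233505) q19720, e3 q18389 (flp_b L225641) q18717, e3 q18390 (flp_b L223036) q14570, e3 q18391 L245881 q21128, e3 q18392 (flp_b L223052) q14571, e3 q18393 (flp_b L223062) q14572, e3 q18394 L226940 q17336, e3 q18395 L245911 q21132, e3 q18396 (flp_b L241884) q20678, e3 q18397 (flp_b L228368) q19125, e3 q18398 L223090 q14576, e3 q18399 (flp_b L242104) q20700, e3 q18400 (flp_b L245273) q21053, e3 q18401 L238380 q20288, e3 q18402 (flp_b L223102) q14578, e3 q18403 L238536 q20308, e3 q18404 L228362 q19124, e3 q18405 (flp_b L228345) q19122, e3 q18406 (flp_b L223133) q14582, e3 q18407 L223143 q17022, e3 q18408 (flp_b L245976) q21141, e3 q18409 L223153 q18275, e3 q18410 L223163 q17515, e3 q18411 L223173 q16724, e3 q18412 (flp_b L223175) q14588, e3 q18413 L246032 q21147, e3 q18414 L223195 q17902, e3 q18415 L246040 q21148, e3 q18416 L223215 q18049, e3 q18417 L246046 q21149, e3 q18418 (flp_b L223231) q14593, e3 q18419 (flp_b L223233) q14595, e3 q18420 L246062 q21152, e3 q18421 (flp_b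 L245675) q21095, e3 q18422 (flp_b L223253) q14598, e3 q18423 L246098 q21155, e3 q18424 (flp_b L223273) q14601, e3 q18425 L246118 q21158, e3 q18426 L246124 q21159, e3 q18427 (flp_b L223299) q14603, e3 q18428 L246148 q21162, e3 q18429 (flp_b L234853) q19883, e3 q18430 L246166 q21164, e3 q18431 (flp_b L223319) q14605, trivial⟩ (by decide +kernel)

theorem ce_b_288 : ∀ r, r < 64 → sm gb (Qf (18432 + r)) = Qf (tab Gen.b (18432 + r)) :=
  edges_tab (sm gb) Qf (tab Gen.b) 18432 [(18432, 14606), (18433, 14607), (18434, 14608), (18435, 17632), (18436, 21167), (18437, 18314), (18438, 17273), (18439, 21170), (18440, 15997), (18441, 17417), (18442, 18505), (18443, 19931), (18444, 17419), (18445, 21176), (18446, 20326), (18447, 14619), (18448, 18981), (18449, 21178), (18450, 19814), (18451, 18728), (18452, 14621), (18453, 21181), (18454, 14622), (18455, 14623), (18456, 21185), (18457, 17261), (18458, 20715), (18459, 18986), (18460, 21088), (18461, 20733), (18462, 18985), (18463, 18983), (18464, 14631), (18465, 17113), (18466,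 21190), (18467, 18332), (18468, 17511), (18469, 16718), (18470, 21195), (18471, 21196), (18472, 14641), (18473, 20861), (18474, 19235), (18475, 21197), (18476, 18493), (18477, 18379), (18478, 21200), (18479, 19100), (18480, 14649), (18481, 21203), (18482, 14651), (18483, 21204), (18484, 19136), (18485, 14652), (18486, 21207), (18487, 14654), (18488, 19668), (18489, 21209), (18490, 14656), (18491, 14658), (18492, 20437), (18493, 18476), (18494, 17639), (18495, 21211)]
    ⟨e3 q18432 (flp_b L223321) q14606, e3 q18433 (flp_b L223323) q14607, e3 q18434 (flp_b L223329) q14608, e3 q18435 (flp_b L223347) q17632, e3 q18436 (flp_b L246190) q21167, e3 q18437 L223357 q18314, e3 q18438 (flp_b L223365) q17273, e3 q18439 (flp_b L246202) q21170, e3 q18440 L223383 q15997, e3 q18441 L223393 q17417, e3 q18442 (flp_b L223933) q18505, e3 q18443 (flp_b L235308) q19931, e3 q18444 L223427 q17419, e3 q18445 L246256 q21176, e3 q18446 (flp_b L238685) q20326, e3 q18447 (flp_b L223441) q14619, e3 q18448 L227381 q18981, e3 q18449 L246274 q21178,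 e3 q18450 (flp_b L234259) q19814, e3 q18451 (flp_b L225703) q18728, e3 q18452 (flp_b L223471) q14621, e3 q18453 L246306 q21181, e3 q18454 (flp_b L223489) q14622, e3 q18455 (flp_b L223499) q14623, e3 q18456 L246338 q21185, e3 q18457 L226537 q17261, e3 q18458 (flp_b L242248) q20715, e3 q18459 (flp_b L227463) q18986, e3 q18460 (flp_b L245569) q21088, e3 q18461 (flp_b L242428) q20733, e3 q18462 L227457 q18985, e3 q18463 (flp_b L227405) q18983, e3 q18464 (flp_b L223543) q14631, e3 q18465 L223553 q17113, e3 q18466 (flp_b L246375) q21190, e3 q18467 L223563 q18332, e3 q18468 L223573 q17511, e3 q18469 L223583 q16718, e3 q18470 L246417 q21195, e3 q18471 L246427 q21196, e3 q18472 (flp_b L223607) q14641, e3 q18473 (flp_b L243715) q20861, e3 q18474 (flp_b L229196) q19235, e3 q18475 (flp_b L246441) q21197, e3 q18476 (flp_b L223779) q18493, e3 q18477 L223651 q18379, e3 q18478 L246465 q21200, e3 q18479 (flp_b L228194) q19100, e3 q18480 (flp_b L223675) q14649, e3 q18481 L246499 q21203, e3 q18482 L223699 q14651, e3 q18483 L246507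 q21204, e3 q18484 (flp_b L228461) q19136, e3 q18485 (flp_b L223721) q14652, e3 q18486 L246531 q21207, e3 q18487 (flp_b L223739) q14654, e3 q18488 L233117 q19668, e3 q18489 L246545 q21209, e3 q18490 (flp_b L223751) q14656, e3 q18491 (flp_b L223753) q14658, e3 q18492 (flp_b L239759) q20437, e3 q18493 L223779 q18476, e3 q18494 (flp_b L223789) q17639, e3 q18495 (flp_b L246557) q21211, trivial⟩ (by decide +kernel)

theorem ce_b_289 : ∀ r, r < 64 → sm gb (Qf (18496 + r)) = Qf (tab Gen.b (18496 + r)) :=
  edges_tab (sm gb) Qf (tab Gen.b) 18496 [(18496, 18087), (18497, 15631), (18498, 21215), (18499, 21216), (18500, 14669), (18501, 19469), (18502, 21217), (18503, 18524), (18504, 20886), (18505, 18442), (18506, 21220), (18507, 14677), (18508, 21223), (18509, 18959), (18510, 14681), (18511, 21224), (18512, 14680), (18513, 21227), (18514, 18997), (18515, 19762), (18516, 21228), (18517, 14683), (18518, 14685), (18519, 14686), (18520, 17711), (18521, 21230), (18522, 18140), (18523, 20495), (18524, 18503), (18525, 15865), (18526,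 18542), (18527, 18550), (18528, 14703), (18529, 16420), (18530, 14722), (18531, 16527), (18532, 21235), (18533, 19537), (18534, 14743), (18535, 19698), (18536, 21236), (18537, 19309), (18538, 14764), (18539, 19790), (18540, 17074), (18541, 16805), (18542, 18526), (18543, 17038), (18544, 20392), (18545, 16779), (18546, 14808), (18547, 20120), (18548, 17519), (18549, 17160), (18550, 18527), (18551, 17127), (18552, 20322), (18553, 14839), (18554, 20127), (18555, 17517), (18556, 17168), (18557, 14850), (18558, 14853), (18559, 21240)]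
    ⟨e3 q18496 L223855 q18087, e3 q18497 L223859 q15631, e3 q18498 L246579 q21215, e3 q18499 L246589 q21216, e3 q18500 (flp_b L223889) q14669, e3 q18501 L231330 q19469, e3 q18502 (flp_b L246607) q21217, e3 q18503 (flp_b L224087) q18524, e3 q18504 (flp_b L243967) q20886, e3 q18505 L223933 q18442, e3 q18506 L246631 q21220, e3 q18507 (flp_b L223947) q14677, e3 q18508 L246665 q21223, e3 q18509 (flp_b L227238) q18959, e3 q18510 L223981 q14681, e3 q18511 L246673 q21224, e3 q18512 (flp_b L223995) q14680, e3 q18513 L246697 q21227, e3 q18514 (flp_b L227546) q18997, e3 q18515 L233865 q19762, e3 q18516 L246703 q21228, e3 q18517 (flp_b L224031) q14683, e3 q18518 (flp_b L224033) q14685, e3 q18519 (flp_b L224035) q14686, e3 q18520 (flp_b L224055) q17711, e3 q18521 (flp_b L246715) q21230, e3 q18522 L224071 q18140, e3 q18523 (flp_b L240237) q20495, e3 q18524 L224087 q18503, e3 q18525 L224091 q15865, e3 q18526 (flp_b L224277) q18542, e3 q18527 (flp_b L224345) q18550, e3 q18528 (flp_b L224119) q14703, e3 q18529 L224135 q16420, e3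 q18530 (flp_b L224137) q14722, e3 q18531 L224153 q16527, e3 q18532 L246745 q21235, e3 q18533 (flp_b L231980) q19537, e3 q18534 (flp_b L224177) q14743, e3 q18535 (flp_b L233335) q19698, e3 q18536 L246759 q21236, e3 q18537 (flp_b L229890) q19309, e3 q18538 (flp_b L224223) q14764, e3 q18539 (flp_b L234067) q19790, e3 q18540 L224253 q17074, e3 q18541 L224267 q16805, e3 q18542 L224277 q18526, e3 q18543 L224289 q17038, e3 q18544 L239329 q20392, e3 q18545 L224303 q16779, e3 q18546 (flp_b L224305) q14808, e3 q18547 (flp_b L236983) q20120, e3 q18548 L224323 q17519, e3 q18549 L224335 q17160, e3 q18550 L224345 q18527, e3 q18551 L224357 q17127, e3 q18552 L238653 q20322, e3 q18553 (flp_b L224361) q14839, e3 q18554 (flp_b L237053) q20127, e3 q18555 L224379 q17517, e3 q18556 L224393 q17168, e3 q18557 (flp_b L224395) q14850, e3 q18558 L224411 q14853, e3 q18559 (flp_b L246799) q21240, trivial⟩ (by decide +kernel)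

theorem ce_b_290 : ∀ r, r < 64 → sm gb (Qf (18560 + r)) = Qf (tab Gen.b (18560 + r)) :=
  edges_tab (sm gb) Qf (tab Gen.b) 18560 [(18560, 16959), (18561, 16618), (18562, 19142), (18563, 16515), (18564, 14868), (18565, 17307), (18566, 21245), (18567, 19997), (18568, 17605), (18569, 14897), (18570, 17083), (18571, 14882), (18572, 14885), (18573, 21251), (18574, 16944), (18575, 16635), (18576, 19004), (18577, 16405), (18578, 17231), (18579, 21249), (18580, 19938), (18581, 17577), (18582, 18593), (18583, 20134), (18584, 20087), (18585, 14917), (18586, 14975), (18587, 14927), (18588, 14934), (18589, 20592), (18590, 14933), (18591, 20594), (18592, 14946), (18593, 18582), (18594, 20137), (18595, 20095), (18596, 14965), (18597, 14982), (18598, 20588), (18599, 14980), (18600, 20590), (18601, 14994), (18602, 15006), (18603, 17934), (18604, 15009), (18605, 17944), (18606, 20022), (18607, 21261), (18608, 15018), (18609, 15021), (18610, 20042), (18611, 21263), (18612, 15858), (18613, 15025), (18614, 15624), (18615, 15029),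 (18616, 19520), (18617, 15035), (18618, 18686), (18619, 15036), (18620, 19411), (18621, 21265), (18622, 15038), (18623, 21011)]
    ⟨e3 q18560 L224427 q16959, e3 q18561 L224435 q16618, e3 q18562 (flp_b L228505) q19142, e3 q18563 L224445 q16515, e3 q18564 L224455 q14868, e3 q18565 L224465 q17307, e3 q18566 (flp_b L246845) q21245, e3 q18567 (flp_b L235938) q19997, e3 q18568 L224493 q17605, e3 q18569 L224499 q14897, e3 q18570 L224515 q17083, e3 q18571 (flp_b L224517) q14882, e3 q18572 L224533 q14885, e3 q18573 (flp_b L246907) q21251, e3 q18574 L224549 q16944, e3 q18575 L224557 q16635, e3 q18576 (flp_b L227592) q19004, e3 q18577 L224567 q16405, e3 q18578 L224577 q17231, e3 q18579 (flp_b L246885) q21249, e3 q18580 (flp_b L235380) q19938, e3 q18581 L224605 q17577, e3 q18582 (flp_b L224717) q18593, e3 q18583 (flp_b L237121) q20134, e3 q18584 (flp_b L236643) q20087, e3 q18585 (flp_b L224635) q14917, e3 q18586 L224660 q14975, e3 q18587 (flp_b L224662) q14927, e3 q18588 L224678 q14934, e3 q18589 (flp_b L241088) q20592, e3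 q18590 (flp_b L224690) q14933, e3 q18591 (flp_b L241106) q20594, e3 q18592 (flp_b L224698) q14946, e3 q18593 L224717 q18582, e3 q18594 (flp_b L237155) q20137, e3 q18595 (flp_b L236725) q20095, e3 q18596 (flp_b L224739) q14965, e3 q18597 L224754 q14982, e3 q18598 (flp_b L241056) q20588, e3 q18599 (flp_b L224766) q14980, e3 q18600 (flp_b L241072) q20590, e3 q18601 (flp_b L224776) q14994, e3 q18602 L224795 q15006, e3 q18603 (flp_b L224809) q17934, e3 q18604 L224815 q15009, e3 q18605 L224835 q17944, e3 q18606 (flp_b L236157) q20022, e3 q18607 (flp_b L247005) q21261, e3 q18608 L224857 q15018, e3 q18609 L224863 q15021, e3 q18610 (flp_b L236296) q20042, e3 q18611 (flp_b L247027) q21263, e3 q18612 (flp_b L224887) q15858, e3 q18613 (flp_b L224889) q15025, e3 q18614 (flp_b L224907) q15624, e3 q18615 (flp_b L224909) q15029, e3 q18616 L231810 q19520, e3 q18617 L224931 q15035, e3 q18618 (flp_b L225373) q18686, e3 q18619 (flp_b L224945) q15036, e3 q18620 (flp_b L230722) q19411, e3 q18621 L247045 q21265, e3 q18622 (flp_b L224977)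 q15038, e3 q18623 (flp_b L244929) q21011, trivial⟩ (by decide +kernel)

theorem ce_b_291 : ∀ r, r < 64 → sm gb (Qf (18624 + r)) = Qf (tab Gen.b (18624 + r)) :=
  edges_tab (sm gb) Qf (tab Gen.b) 18624 [(18624, 15040), (18625, 18679), (18626, 21269), (18627, 15041), (18628, 18978), (18629, 15335), (18630, 21273), (18631, 19291), (18632, 15047), (18633, 18697), (18634, 15048), (18635, 19615), (18636, 21274), (18637, 15050), (18638, 20985), (18639, 15052), (18640, 18690), (18641, 21278), (18642, 15053), (18643, 19117), (18644, 15440), (18645, 21282), (18646, 15104), (18647, 18344), (18648, 15059), (18649, 21283), (18650, 21287), (18651, 19695), (18652, 15094), (18653, 18287), (18654, 15064), (18655, 21288), (18656, 21292), (18657, 19789), (18658, 15077), (18659, 18659), (18660, 15076), (18661, 18661), (18662, 21133), (18663, 19699), (18664, 21138), (18665, 19793), (18666, 17522), (18667, 15079), (18668, 19511), (18669, 15081), (18670, 20321), (18671, 17524), (18672, 15084), (18673, 19279), (18674, 15086), (18675, 20301),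 (18676, 21301), (18677, 15089), (18678, 21201), (18679, 18625), (18680, 15091), (18681, 15092), (18682, 21307), (18683, 19964), (18684, 20875), (18685, 15095), (18686, 18618), (18687, 21312)]
    ⟨e3 q18624 L224987 q15040, e3 q18625 (flp_b L225345) q18679, e3 q18626 (flp_b L247069) q21269, e3 q18627 (flp_b L225001) q15041, e3 q18628 (flp_b L227348) q18978, e3 q18629 (flp_b L225019) q15335, e3 q18630 L247105 q21273, e3 q18631 L229694 q19291, e3 q18632 L225039 q15047, e3 q18633 (flp_b L225427) q18697, e3 q18634 (flp_b L225053) q15048, e3 q18635 (flp_b L232658) q19615, e3 q18636 L247112 q21274, e3 q18637 (flp_b L225085) q15050, e3 q18638 (flp_b L244744) q20985, e3 q18639 L225095 q15052, e3 q18640 (flp_b L225399) q18690, e3 q18641 (flp_b L247136) q21278, e3 q18642 (flp_b L225109) q15053, e3 q18643 (flp_b L228290) q19117, e3 q18644 (flp_b L225127) q15440, e3 q18645 L247172 q21282, e3 q18646 L225143 q15104, e3 q18647 L225151 q18344, e3 q18648 (flp_b L225159) q15059, e3 q18649 (flp_b L247181) q21283, e3 q18650 L247207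 q21287, e3 q18651 L233303 q19695, e3 q18652 L225185 q15094, e3 q18653 L225193 q18287, e3 q18654 (flp_b L225201) q15064, e3 q18655 (flp_b L247215) q21288, e3 q18656 L247241 q21292, e3 q18657 (flp_b L234057) q19789, e3 q18658 (flp_b L225227) q15077, e3 q18659 L225233 q18659, e3 q18660 L225240 q15076, e3 q18661 L225246 q18661, e3 q18662 (flp_b L245919) q21133, e3 q18663 (flp_b L233343) q19699, e3 q18664 (flp_b L245950) q21138, e3 q18665 (flp_b L234097) q19793, e3 q18666 L225267 q17522, e3 q18667 (flp_b L225269) q15079, e3 q18668 (flp_b L231722) q19511, e3 q18669 (flp_b L225277) q15081, e3 q18670 L238641 q20321, e3 q18671 L225295 q17524, e3 q18672 (flp_b L225297) q15084, e3 q18673 (flp_b L229586) q19279, e3 q18674 (flp_b L225305) q15086, e3 q18675 (flp_b L238485) q20301, e3 q18676 L247313 q21301, e3 q18677 (flp_b L225331) q15089, e3 q18678 (flp_b L246479) q21201, e3 q18679 L225345 q18625, e3 q18680 (flp_b L225347) q15091, e3 q18681 (flp_b L225349) q15092, e3 q18682 L247375 q21307, e3 q18683 (flp_b L235621) q19964, e3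 q18684 (flp_b L243849) q20875, e3 q18685 (flp_b L225363) q15095, e3 q18686 L225373 q18618, e3 q18687 L247417 q21312, trivial⟩ (by decide +kernel)

theorem ce_b_292 : ∀ r, r < 64 → sm gb (Qf (18688 + r)) = Qf (tab Gen.b (18688 + r)) :=
  edges_tab (sm gb) Qf (tab Gen.b) 18688 [(18688, 15099), (18689, 21221), (18690, 18640), (18691, 15101), (18692, 15102), (18693, 21318), (18694, 19954), (18695, 20899), (18696, 15105), (18697, 18633), (18698, 15108), (18699, 19974), (18700, 15111), (18701, 15112), (18702, 17294), (18703, 15117), (18704, 21326), (18705, 15120), (18706, 19959), (18707, 15123), (18708, 15124), (18709, 17218), (18710, 15129), (18711, 21331), (18712, 18714), (18713, 21295), (18714, 18712), (18715, 21293), (18716, 17021), (18717, 18389), (18718, 15136), (18719, 16050), (18720, 18047), (18721, 15138), (18722, 21299), (18723, 16874), (18724, 21339), (18725, 15139), (18726, 21342), (18727, 17112), (18728, 18451), (18729, 15143), (18730, 16127), (18731, 18076), (18732, 15145), (18733, 16881), (18734, 21300),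 (18735, 21347), (18736, 15146), (18737, 21350), (18738, 15148), (18739, 19678), (18740, 18745), (18741, 15150), (18742, 21355), (18743, 15153), (18744, 21358), (18745, 18740), (18746, 15158), (18747, 18788), (18748, 15168), (18749, 20797), (18750, 15159), (18751, 21143)]
    ⟨e3 q18688 (flp_b L225385) q15099, e3 q18689 (flp_b L246645) q21221, e3 q18690 L225399 q18640, e3 q18691 (flp_b L225401) q15101, e3 q18692 (flp_b L225403) q15102, e3 q18693 L247479 q21318, e3 q18694 (flp_b L235519) q19954, e3 q18695 (flp_b L244093) q20899, e3 q18696 (flp_b L225417) q15105, e3 q18697 L225427 q18633, e3 q18698 (flp_b L225429) q15108, e3 q18699 (flp_b L235715) q19974, e3 q18700 L225453 q15111, e3 q18701 (flp_b L225459) q15112, e3 q18702 L225473 q17294, e3 q18703 L225485 q15117, e3 q18704 (flp_b L247565) q21326, e3 q18705 (flp_b L225492) q15120, e3 q18706 (flp_b L235567) q19959, e3 q18707 L225516 q15123, e3 q18708 (flp_b L225522) q15124, e3 q18709 L225536 q17218, e3 q18710 L225548 q15129, e3 q18711 (flp_b L247624) q21331, e3 q18712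 (flp_b L225578) q18714, e3 q18713 (flp_b L247267) q21295, e3 q18714 L225578 q18712, e3 q18715 (flp_b L247253) q21293, e3 q18716 L225589 q17021, e3 q18717 L225641 q18389, e3 q18718 (flp_b L225607) q15136, e3 q18719 (flp_b L225631) q16050, e3 q18720 L225617 q18047, e3 q18721 L225623 q15138, e3 q18722 (flp_b L247301) q21299, e3 q18723 L225655 q16874, e3 q18724 (flp_b L247701) q21339, e3 q18725 (flp_b L225665) q15139, e3 q18726 (flp_b L247731) q21342, e3 q18727 L225685 q17112, e3 q18728 L225703 q18451, e3 q18729 (flp_b L225707) q15143, e3 q18730 L225719 q16127, e3 q18731 L225735 q18076, e3 q18732 L225743 q15145, e3 q18733 L225751 q16881, e3 q18734 (flp_b L247309) q21300, e3 q18735 (flp_b L247785) q21347, e3 q18736 (flp_b L225765) q15146, e3 q18737 (flp_b L247815) q21350, e3 q18738 (flp_b L225781) q15148, e3 q18739 L233187 q19678, e3 q18740 (flp_b L225825) q18745, e3 q18741 (flp_b L225797) q15150, e3 q18742 L247857 q21355, e3 q18743 (flp_b L225807) q15153, e3 q18744 L247885 q21358, e3 q18745 L225825 q18740, e3 q18746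 L225833 q15158, e3 q18747 (flp_b L226051) q18788, e3 q18748 L225843 q15168, e3 q18749 L243025 q20797, e3 q18750 (flp_b L225851) q15159, e3 q18751 (flp_b L245998) q21143, trivial⟩ (by decide +kernel)

theorem ce_b_293 : ∀ r, r < 64 → sm gb (Qf (18752 + r)) = Qf (tab Gen.b (18752 + r)) :=
  edges_tab (sm gb) Qf (tab Gen.b) 18752 [(18752, 21362), (18753, 21034), (18754, 15161), (18755, 21365), (18756, 18771), (18757, 21345), (18758, 20995), (18759, 21367), (18760, 15164), (18761, 21103), (18762, 15169), (18763, 20929), (18764, 21153), (18765, 15167), (18766, 20983), (18767, 18002), (18768, 21372), (18769, 15170), (18770, 18095), (18771, 18756), (18772, 15173), (18773, 21377), (18774, 21360), (18775, 21379), (18776, 15174), (18777, 21381), (18778, 15175), (18779, 21385), (18780, 21386), (18781, 18899), (18782, 21388), (18783, 15177), (18784, 15178), (18785, 15179), (18786, 17881), (18787, 15181), (18788, 18747), (18789, 19772), (18790, 18796), (18791, 15183), (18792, 15184), (18793, 21371), (18794, 15187), (18795, 21403),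 (18796, 18790), (18797, 15192), (18798, 15201), (18799, 18839), (18800, 20793), (18801, 15193), (18802, 21192), (18803, 21407), (18804, 21071), (18805, 15195), (18806, 21410), (18807, 18822), (18808, 21337), (18809, 21412), (18810, 20969), (18811, 15198), (18812, 21156), (18813, 15203), (18814, 21100), (18815, 20958)]
    ⟨e3 q18752 L247920 q21362, e3 q18753 (flp_b L245135) q21034, e3 q18754 (flp_b L225873) q15161, e3 q18755 L247942 q21365, e3 q18756 (flp_b L225963) q18771, e3 q18757 (flp_b L247769) q21345, e3 q18758 (flp_b L244824) q20995, e3 q18759 L247956 q21367, e3 q18760 (flp_b L225907) q15164, e3 q18761 L245705 q21103, e3 q18762 L225917 q15169, e3 q18763 L244331 q20929, e3 q18764 L246084 q21153, e3 q18765 (flp_b L225927) q15167, e3 q18766 (flp_b L244724) q20983, e3 q18767 L225943 q18002, e3 q18768 L248001 q21372, e3 q18769 (flp_b L225955) q15170, e3 q18770 L229784 q18095, e3 q18771 L225963 q18756, e3 q18772 L225967 q15173, e3 q18773 L248041 q21377, e3 q18774 (flp_b L247910) q21360, e3 q18775 L248059 q21379,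 e3 q18776 (flp_b L225981) q15174, e3 q18777 L248073 q21381, e3 q18778 (flp_b L225993) q15175, e3 q18779 L248113 q21385, e3 q18780 L248117 q21386, e3 q18781 L226766 q18899, e3 q18782 L248139 q21388, e3 q18783 (flp_b L226021) q15177, e3 q18784 (flp_b L226025) q15178, e3 q18785 (flp_b L226027) q15179, e3 q18786 (flp_b L226041) q17881, e3 q18787 L226045 q15181, e3 q18788 L226051 q18747, e3 q18789 L233935 q19772, e3 q18790 (flp_b L226097) q18796, e3 q18791 (flp_b L226065) q15183, e3 q18792 (flp_b L226069) q15184, e3 q18793 (flp_b L247999) q21371, e3 q18794 (flp_b L226079) q15187, e3 q18795 L248263 q21403, e3 q18796 L226097 q18790, e3 q18797 L226105 q15192, e3 q18798 L226111 q15201, e3 q18799 (flp_b L226337) q18839, e3 q18800 L242991 q20793, e3 q18801 (flp_b L226123) q15193, e3 q18802 (flp_b L246397) q21192, e3 q18803 L248298 q21407, e3 q18804 (flp_b L245451) q21071, e3 q18805 (flp_b L226145) q15195, e3 q18806 L248320 q21410, e3 q18807 (flp_b L226235) q18822, e3 q18808 (flp_b L247685) q21337, e3 q18809 L248334 q21412,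 e3 q18810 (flp_b L244639) q20969, e3 q18811 (flp_b L226179) q15198, e3 q18812 L246110 q21156, e3 q18813 L226189 q15203, e3 q18814 (flp_b L245669) q21100, e3 q18815 L244545 q20958, trivial⟩ (by decide +kernel)

theorem ce_b_294 : ∀ r, r < 64 → sm gb (Qf (18816 + r)) = Qf (tab Gen.b (18816 + r)) :=
  edges_tab (sm gb) Qf (tab Gen.b) 18816 [(18816, 18005), (18817, 15202), (18818, 21009), (18819, 21416), (18820, 15204), (18821, 18149), (18822, 18807), (18823, 15207), (18824, 21404), (18825, 21422), (18826, 21423), (18827, 15208), (18828, 21425), (18829, 15209), (18830, 21429), (18831, 21430), (18832, 18844), (18833, 21432), (18834, 15211), (18835, 15212), (18836, 15213), (18837, 17905), (18838, 15215), (18839, 18799), (18840, 15353), (18841, 15221), (18842, 21444), (18843, 17251), (18844, 18832), (18845, 15222), (18846, 17260), (18847, 17805), (18848, 18927), (18849, 21448), (18850, 15225), (18851, 21450), (18852, 15232), (18853, 18878), (18854, 15246), (18855, 15231), (18856, 21455), (18857, 15234), (18858, 21457),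 (18859, 19887), (18860, 21458), (18861, 15236), (18862, 15237), (18863, 19740), (18864, 18887), (18865, 17740), (18866, 15243), (18867, 20020), (18868, 17355), (18869, 21464), (18870, 15245), (18871, 18903), (18872, 21456), (18873, 21466), (18874, 15250), (18875, 15251), (18876, 16532), (18877, 15264), (18878, 18853), (18879, 20689)]
    ⟨e3 q18816 (flp_b L226205) q18005, e3 q18817 (flp_b L226207) q15202, e3 q18818 (flp_b L244909) q21009, e3 q18819 L248367 q21416, e3 q18820 (flp_b L226227) q15204, e3 q18821 (flp_b L226245) q18149, e3 q18822 L226235 q18807, e3 q18823 L226253 q15207, e3 q18824 (flp_b L248282) q21404, e3 q18825 L248415 q21422, e3 q18826 L248427 q21423, e3 q18827 (flp_b L226267) q15208, e3 q18828 L248441 q21425, e3 q18829 (flp_b L226279) q15209, e3 q18830 L248483 q21429, e3 q18831 L248487 q21430, e3 q18832 (flp_b L227004) q18844, e3 q18833 L248509 q21432, e3 q18834 (flp_b L226307) q15211, e3 q18835 (flp_b L226311) q15212, e3 q18836 (flp_b L226313) q15213, e3 q18837 (flp_b L226327) q17905, e3 q18838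 L226331 q15215, e3 q18839 L226337 q18799, e3 q18840 L226345 q15353, e3 q18841 L226349 q15221, e3 q18842 L248605 q21444, e3 q18843 L226362 q17251, e3 q18844 L227004 q18832, e3 q18845 (flp_b L226371) q15222, e3 q18846 L226385 q17260, e3 q18847 L226392 q17805, e3 q18848 (flp_b L226992) q18927, e3 q18849 L248642 q21448, e3 q18850 (flp_b L226407) q15225, e3 q18851 L248662 q21450, e3 q18852 L226419 q15232, e3 q18853 (flp_b L226617) q18878, e3 q18854 L226435 q15246, e3 q18855 (flp_b L226437) q15231, e3 q18856 (flp_b L248702) q21455, e3 q18857 L226453 q15234, e3 q18858 (flp_b L248716) q21457, e3 q18859 (flp_b L234883) q19887, e3 q18860 L248724 q21458, e3 q18861 (flp_b L226483) q15236, e3 q18862 (flp_b L226485) q15237, e3 q18863 (flp_b L233665) q19740, e3 q18864 L226677 q18887, e3 q18865 L226509 q17740, e3 q18866 (flp_b L226511) q15243, e3 q18867 (flp_b L236143) q20020, e3 q18868 (flp_b L226535) q17355, e3 q18869 L248762 q21464, e3 q18870 (flp_b L226549) q15245, e3 q18871 (flp_b L226806) q18903, e3 q18872 (flp_b L248712)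 q21456, e3 q18873 L248778 q21466, e3 q18874 (flp_b L226575) q15250, e3 q18875 (flp_b L226579) q15251, e3 q18876 L226589 q16532, e3 q18877 L226601 q15264, e3 q18878 L226617 q18853, e3 q18879 (flp_b L241978) q20689, trivial⟩ (by decide +kernel)

theorem ce_b_295 : ∀ r, r < 64 → sm gb (Qf (18880 + r)) = Qf (tab Gen.b (18880 + r)) :=
  edges_tab (sm gb) Qf (tab Gen.b) 18880 [(18880, 21471), (18881, 15256), (18882, 21475), (18883, 15258), (18884, 21479), (18885, 21480), (18886, 15263), (18887, 18864), (18888, 15260), (18889, 21477), (18890, 21468), (18891, 15262), (18892, 21481), (18893, 21486), (18894, 15267), (18895, 19663), (18896, 15457), (18897, 15274), (18898, 17328), (18899, 18781), (18900, 15275), (18901, 17337), (18902, 17821), (18903, 18871), (18904, 21490), (18905, 15278), (18906, 21492), (18907, 15285), (18908, 15298), (18909, 18933), (18910, 15284), (18911, 21497), (18912, 15287), (18913, 21499), (18914, 19870), (18915, 21500), (18916, 15289), (18917, 15290), (18918, 19834), (18919, 18942), (18920, 17672),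 (18921, 15296), (18922, 17382), (18923, 20040), (18924, 21506), (18925, 15299), (18926, 21498), (18927, 18848), (18928, 21508), (18929, 15303), (18930, 15304), (18931, 16567), (18932, 15317), (18933, 18909), (18934, 20696), (18935, 21513), (18936, 15309), (18937, 21517), (18938, 15311), (18939, 21521), (18940, 21522), (18941, 15316), (18942, 18919), (18943, 15313)]
    ⟨e3 q18880 L248834 q21471, e3 q18881 (flp_b L226637) q15256, e3 q18882 L248852 q21475, e3 q18883 (flp_b L226649) q15258, e3 q18884 L248886 q21479, e3 q18885 L248896 q21480, e3 q18886 L226669 q15263, e3 q18887 (flp_b L226677) q18864, e3 q18888 (flp_b L226679) q15260, e3 q18889 (flp_b L248874) q21477, e3 q18890 (flp_b L248806) q21468, e3 q18891 (flp_b L226698) q15262, e3 q18892 (flp_b L248906) q21481, e3 q18893 L248942 q21486, e3 q18894 (flp_b L226717) q15267, e3 q18895 (flp_b L233071) q19663, e3 q18896 L226743 q15457, e3 q18897 L226747 q15274, e3 q18898 L226755 q17328, e3 q18899 (flp_b L226766) q18781, e3 q18900 (flp_b L226768) q15275, e3 q18901 L226784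 q17337, e3 q18902 L226793 q17821, e3 q18903 L226806 q18871, e3 q18904 L248978 q21490, e3 q18905 (flp_b L226818) q15278, e3 q18906 L249000 q21492, e3 q18907 L226830 q15285, e3 q18908 L226840 q15298, e3 q18909 (flp_b L227042) q18933, e3 q18910 (flp_b L226848) q15284, e3 q18911 (flp_b L249040) q21497, e3 q18912 L226864 q15287, e3 q18913 (flp_b L249054) q21499, e3 q18914 (flp_b L234745) q19870, e3 q18915 L249062 q21500, e3 q18916 (flp_b L226894) q15289, e3 q18917 (flp_b L226896) q15290, e3 q18918 (flp_b L234427) q19834, e3 q18919 L227110 q18942, e3 q18920 L226920 q17672, e3 q18921 (flp_b L226922) q15296, e3 q18922 (flp_b L226938) q17382, e3 q18923 (flp_b L236282) q20040, e3 q18924 L249104 q21506, e3 q18925 (flp_b L226960) q15299, e3 q18926 (flp_b L249050) q21498, e3 q18927 L226992 q18848, e3 q18928 L249120 q21508, e3 q18929 (flp_b L226986) q15303, e3 q18930 (flp_b L227008) q15304, e3 q18931 L227018 q16567, e3 q18932 L227028 q15317, e3 q18933 L227042 q18909, e3 q18934 (flp_b L242052) q20696, e3 q18935 L249180 q21513,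 e3 q18936 (flp_b L227062) q15309, e3 q18937 L249204 q21517, e3 q18938 (flp_b L227074) q15311, e3 q18939 L249244 q21521, e3 q18940 L249254 q21522, e3 q18941 L227096 q15316, e3 q18942 (flp_b L227110) q18919, e3 q18943 (flp_b L227112) q15313, trivial⟩ (by decide +kernel)

theorem ce_b_296 : ∀ r, r < 64 → sm gb (Qf (18944 + r)) = Qf (tab Gen.b (18944 + r)) :=
  edges_tab (sm gb) Qf (tab Gen.b) 18944 [(18944, 21519), (18945, 21510), (18946, 15315), (18947, 21526), (18948, 15320), (18949, 19463), (18950, 16982), (18951, 15323), (18952, 21527), (18953, 21529), (18954, 20287), (18955, 21089), (18956, 15325), (18957, 15425), (18958, 15332), (18959, 18509), (18960, 20283), (18961, 21531), (18962, 18152), (18963, 15331), (18964, 21536), (18965, 21541), (18966, 21542), (18967, 15338), (18968, 21546), (18969, 15334), (18970, 19032), (18971, 15528), (18972, 15337), (18973, 21548), (18974, 20908), (18975, 21550), (18976, 15339), (18977, 19722), (18978, 18628), (18979, 18979), (18980, 15349), (18981, 18448), (18982, 15351), (18983,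 18463), (18984, 21554), (18985, 18462), (18986, 18459), (18987, 21142), (18988, 15354), (18989, 16486), (18990, 21556), (18991, 15974), (18992, 21560), (18993, 15356), (18994, 15358), (18995, 21562), (18996, 21135), (18997, 18514), (18998, 15387), (18999, 20694), (19000, 17690), (19001, 21565), (19002, 15365), (19003, 21572), (19004, 18576), (19005, 21573), (19006, 21569), (19007, 21036)]
    ⟨e3 q18944 (flp_b L249228) q21519, e3 q18945 (flp_b L249152) q21510, e3 q18946 (flp_b L227137) q15315, e3 q18947 L249285 q21526, e3 q18948 (flp_b L227149) q15320, e3 q18949 (flp_b L231270) q19463, e3 q18950 L227173 q16982, e3 q18951 (flp_b L227177) q15323, e3 q18952 (flp_b L249294) q21527, e3 q18953 L249311 q21529, e3 q18954 (flp_b L238368) q20287, e3 q18955 (flp_b L245575) q21089, e3 q18956 (flp_b L227206) q15325, e3 q18957 L227214 q15425, e3 q18958 L227228 q15332, e3 q18959 L227238 q18509, e3 q18960 (flp_b L238345) q20283, e3 q18961 L249331 q21531, e3 q18962 L227252 q18152, e3 q18963 (flp_b L227256) q15331, e3 q18964 (flp_b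 L249369) q21536, e3 q18965 L249408 q21541, e3 q18966 L249416 q21542, e3 q18967 L227274 q15338, e3 q18968 L249466 q21546, e3 q18969 (flp_b L227282) q15334, e3 q18970 (flp_b L227768) q19032, e3 q18971 L227304 q15528, e3 q18972 (flp_b L227306) q15337, e3 q18973 (flp_b L249486) q21548, e3 q18974 (flp_b L244191) q20908, e3 q18975 L249504 q21550, e3 q18976 (flp_b L227332) q15339, e3 q18977 L233539 q19722, e3 q18978 L227348 q18628, e3 q18979 L227358 q18979, e3 q18980 L227369 q15349, e3 q18981 (flp_b L227381) q18448, e3 q18982 L227389 q15351, e3 q18983 L227405 q18463, e3 q18984 (flp_b L249545) q21554, e3 q18985 (flp_b L227457) q18462, e3 q18986 L227463 q18459, e3 q18987 (flp_b L245988) q21142, e3 q18988 (flp_b L227476) q15354, e3 q18989 L227488 q16486, e3 q18990 (flp_b L249569) q21556, e3 q18991 (flp_b L227510) q15974, e3 q18992 L249599 q21560, e3 q18993 (flp_b L227516) q15356, e3 q18994 L227526 q15358, e3 q18995 (flp_b L249617) q21562, e3 q18996 (flp_b L245932) q21135, e3 q18997 L227546 q18514, e3 q18998 L227552 q15387,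 e3 q18999 (flp_b L242032) q20694, e3 q19000 L227566 q17690, e3 q19001 L249641 q21565, e3 q19002 L227578 q15365, e3 q19003 L249685 q21572, e3 q19004 L227592 q18576, e3 q19005 L249695 q21573, e3 q19006 (flp_b L249669) q21569, e3 q19007 (flp_b L245153) q21036, trivial⟩ (by decide +kernel)

theorem ce_b_297 : ∀ r, r < 64 → sm gb (Qf (19008 + r)) = Qf (tab Gen.b (19008 + r)) :=
  edges_tab (sm gb) Qf (tab Gen.b) 19008 [(19008, 19702), (19009, 15366), (19010, 19194), (19011, 21577), (19012, 19345), (19013, 15372), (19014, 19059), (19015, 15399), (19016, 15374), (19017, 15412), (19018, 15478), (19019, 21584), (19020, 15375), (19021, 15376), (19022, 21587), (19023, 19079), (19024, 15378), (19025, 21592), (19026, 15381), (19027, 15380), (19028, 20692), (19029, 21594), (19030, 15382), (19031, 15384), (19032, 18970), (19033, 19729), (19034, 15385), (19035, 20870), (19036, 21039), (19037, 21597), (19038, 20311), (19039, 15393), (19040, 21600), (19041, 21599), (19042, 19179), (19043, 19180), (19044, 17787), (19045, 19435), (19046,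 21607), (19047, 19571), (19048, 21609), (19049, 21580), (19050, 15398), (19051, 21612), (19052, 21613), (19053, 20312), (19054, 15401), (19055, 15402), (19056, 15403), (19057, 19149), (19058, 15420), (19059, 19014), (19060, 21622), (19061, 21625), (19062, 15408), (19063, 21281), (19064, 21628), (19065, 21626), (19066, 15409), (19067, 21630), (19068, 19068), (19069, 15413), (19070, 21636), (19071, 21581)]
    ⟨e3 q19008 L233363 q19702, e3 q19009 (flp_b L227622) q15366, e3 q19010 (flp_b L228862) q19194, e3 q19011 L249727 q21577, e3 q19012 (flp_b L230206) q19345, e3 q19013 L227642 q15372, e3 q19014 (flp_b L227935) q19059, e3 q19015 L227656 q15399, e3 q19016 L227660 q15374, e3 q19017 L227672 q15412, e3 q19018 L227676 q15478, e3 q19019 L249775 q21584, e3 q19020 (flp_b L227690) q15375, e3 q19021 (flp_b L227694) q15376, e3 q19022 L249793 q21587, e3 q19023 L228058 q19079, e3 q19024 (flp_b L227706) q15378, e3 q19025 L249823 q21592, e3 q19026 L227716 q15381, e3 q19027 (flp_b L227718) q15380, e3 q19028 (flp_b L242006) q20692,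 e3 q19029 L249845 q21594, e3 q19030 (flp_b L227744) q15382, e3 q19031 L227752 q15384, e3 q19032 L227768 q18970, e3 q19033 L233585 q19729, e3 q19034 (flp_b L227778) q15385, e3 q19035 (flp_b L243797) q20870, e3 q19036 (flp_b L245177) q21039, e3 q19037 L249879 q21597, e3 q19038 (flp_b L238561) q20311, e3 q19039 L227811 q15393, e3 q19040 L249889 q21600, e3 q19041 (flp_b L249887) q21599, e3 q19042 (flp_b L228762) q19179, e3 q19043 (flp_b L228770) q19180, e3 q19044 L227843 q17787, e3 q19045 (flp_b L231072) q19435, e3 q19046 L249945 q21607, e3 q19047 (flp_b L232276) q19571, e3 q19048 L249961 q21609, e3 q19049 (flp_b L249745) q21580, e3 q19050 (flp_b L227875) q15398, e3 q19051 L249981 q21612, e3 q19052 L249987 q21613, e3 q19053 (flp_b L238569) q20312, e3 q19054 (flp_b L227899) q15401, e3 q19055 (flp_b L227901) q15402, e3 q19056 (flp_b L227905) q15403, e3 q19057 (flp_b L228553) q19149, e3 q19058 L227915 q15420, e3 q19059 L227935 q19014, e3 q19060 L250061 q21622, e3 q19061 L250079 q21625, e3 q19062 L227949 q15408, e3 q19063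 (flp_b L247168) q21281, e3 q19064 L250101 q21628, e3 q19065 (flp_b L250091) q21626, e3 q19066 (flp_b L227973) q15409, e3 q19067 (flp_b L250118) q21630, e3 q19068 L227985 q19068, e3 q19069 L227994 q15413, e3 q19070 L250169 q21636, e3 q19071 (flp_b L249755) q21581, trivial⟩ (by decide +kernel)

theorem ce_b_298 : ∀ r, r < 64 → sm gb (Qf (19072 + r)) = Qf (tab Gen.b (19072 + r)) :=
  edges_tab (sm gb) Qf (tab Gen.b) 19072 [(19072, 15411), (19073, 21639), (19074, 21641), (19075, 15414), (19076, 21644), (19077, 20751), (19078, 15419), (19079, 19023), (19080, 15416), (19081, 21631), (19082, 21619), (19083, 15418), (19084, 21647), (19085, 18230), (19086, 15423), (19087, 21652), (19088, 15426), (19089, 21655), (19090, 15427), (19091, 15428), (19092, 21658), (19093, 21660), (19094, 20307), (19095, 21054), (19096, 15430), (19097, 17007), (19098, 20303), (19099, 15437), (19100, 18479), (19101, 21662), (19102, 18098), (19103, 15436), (19104, 21666), (19105, 21671), (19106, 21672), (19107, 15442), (19108, 21656), (19109, 15439),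 (19110, 19169), (19111, 15441), (19112, 21677), (19113, 20884), (19114, 21679), (19115, 15443), (19116, 19815), (19117, 18643), (19118, 19118), (19119, 15453), (19120, 18386), (19121, 15455), (19122, 18405), (19123, 21681), (19124, 18404), (19125, 18397), (19126, 21191), (19127, 15458), (19128, 16346), (19129, 21582), (19130, 15748), (19131, 21686), (19132, 15460), (19133, 15462), (19134, 21688), (19135, 21139)]
    ⟨e3 q19072 (flp_b L228006) q15411, e3 q19073 L250192 q21639, e3 q19074 L250206 q21641, e3 q19075 (flp_b L228030) q15414, e3 q19076 L250234 q21644, e3 q19077 (flp_b L242598) q20751, e3 q19078 L228050 q15419, e3 q19079 (flp_b L228058) q19023, e3 q19080 (flp_b L228060) q15416, e3 q19081 (flp_b L250127) q21631, e3 q19082 (flp_b L250037) q21619, e3 q19083 (flp_b L228079) q15418, e3 q19084 L250260 q21647, e3 q19085 L228097 q18230, e3 q19086 (flp_b L228099) q15423, e3 q19087 L250302 q21652, e3 q19088 L228111 q15426, e3 q19089 (flp_b L250332) q21655, e3 q19090 (flp_b L228123) q15427, e3 q19091 (flp_b L228127)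 q15428, e3 q19092 (flp_b L250365) q21658, e3 q19093 L250382 q21660, e3 q19094 (flp_b L238524) q20307, e3 q19095 (flp_b L245279) q21054, e3 q19096 (flp_b L228156) q15430, e3 q19097 L228166 q17007, e3 q19098 (flp_b L238501) q20303, e3 q19099 L228184 q15437, e3 q19100 L228194 q18479, e3 q19101 L250410 q21662, e3 q19102 L228204 q18098, e3 q19103 (flp_b L228208) q15436, e3 q19104 (flp_b L250442) q21666, e3 q19105 L250492 q21671, e3 q19106 L250500 q21672, e3 q19107 L228226 q15442, e3 q19108 (flp_b L250346) q21656, e3 q19109 (flp_b L228234) q15439, e3 q19110 (flp_b L228691) q19169, e3 q19111 (flp_b L228248) q15441, e3 q19112 (flp_b L250558) q21677, e3 q19113 (flp_b L243947) q20884, e3 q19114 L250576 q21679, e3 q19115 (flp_b L228274) q15443, e3 q19116 L234287 q19815, e3 q19117 L228290 q18643, e3 q19118 L228300 q19118, e3 q19119 L228309 q15453, e3 q19120 L228321 q18386, e3 q19121 L228329 q15455, e3 q19122 L228345 q18405, e3 q19123 (flp_b L250601) q21681, e3 q19124 (flp_b L228362) q18404, e3 q19125 L228368 q18397, e3 q19126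 (flp_b L246387) q21191, e3 q19127 (flp_b L228381) q15458, e3 q19128 L228393 q16346, e3 q19129 (flp_b L249763) q21582, e3 q19130 (flp_b L228417) q15748, e3 q19131 L250651 q21686, e3 q19132 (flp_b L228429) q15460, e3 q19133 L228441 q15462, e3 q19134 (flp_b L250673) q21688, e3 q19135 (flp_b L245960) q21139, trivial⟩ (by decide +kernel)

theorem ce_b_299 : ∀ r, r < 64 → sm gb (Qf (19136 + r)) = Qf (tab Gen.b (19136 + r)) :=
  edges_tab (sm gb) Qf (tab Gen.b) 19136 [(19136, 18484), (19137, 15491), (19138, 20729), (19139, 17758), (19140, 21691), (19141, 15469), (19142, 18562), (19143, 21698), (19144, 21699), (19145, 21695), (19146, 19797), (19147, 21073), (19148, 15471), (19149, 19057), (19150, 21617), (19151, 19564), (19152, 15476), (19153, 15502), (19154, 19196), (19155, 15515), (19156, 21635), (19157, 15479), (19158, 15480), (19159, 21707), (19160, 19213), (19161, 15482), (19162, 21710), (19163, 15485), (19164, 15484), (19165, 20727), (19166, 21712), (19167, 15486), (19168, 15488), (19169, 19110), (19170, 19822), (19171,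 15489), (19172, 20894), (19173, 21076), (19174, 21714), (19175, 20291), (19176, 15497), (19177, 21717), (19178, 21716), (19179, 19042), (19180, 19043), (19181, 17767), (19182, 19636), (19183, 19355), (19184, 21574), (19185, 21703), (19186, 21726), (19187, 21728), (19188, 15503), (19189, 21729), (19190, 15504), (19191, 20293), (19192, 15506), (19193, 15507), (19194, 19010), (19195, 15523), (19196, 19154), (19197, 21535), (19198, 21615), (19199, 15512)]
    ⟨e3 q19136 L228461 q18484, e3 q19137 L228467 q15491, e3 q19138 (flp_b L242378) q20729, e3 q19139 L228481 q17758, e3 q19140 L250697 q21691, e3 q19141 L228495 q15469, e3 q19142 L228505 q18562, e3 q19143 L250745 q21698, e3 q19144 L250755 q21699, e3 q19145 (flp_b L250727) q21695, e3 q19146 L234119 q19797, e3 q19147 (flp_b L245469) q21073, e3 q19148 (flp_b L228545) q15471, e3 q19149 L228553 q19057, e3 q19150 (flp_b L250021) q21617, e3 q19151 (flp_b L232214) q19564, e3 q19152 L228569 q15476, e3 q19153 L228579 q15502, e3 q19154 (flp_b L228886) q19196, e3 q19155 L228593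 q15515, e3 q19156 (flp_b L250167) q21635, e3 q19157 (flp_b L228603) q15479, e3 q19158 (flp_b L228607) q15480, e3 q19159 L250817 q21707, e3 q19160 L229017 q19213, e3 q19161 (flp_b L228621) q15482, e3 q19162 L250839 q21710, e3 q19163 L228635 q15485, e3 q19164 (flp_b L228637) q15484, e3 q19165 (flp_b L242352) q20727, e3 q19166 L250863 q21712, e3 q19167 (flp_b L228663) q15486, e3 q19168 L228673 q15488, e3 q19169 L228691 q19110, e3 q19170 (flp_b L234329) q19822, e3 q19171 (flp_b L228701) q15489, e3 q19172 (flp_b L244041) q20894, e3 q19173 (flp_b L245493) q21076, e3 q19174 L250883 q21714, e3 q19175 (flp_b L238405) q20291, e3 q19176 L228734 q15497, e3 q19177 L250909 q21717, e3 q19178 (flp_b L250901) q21716, e3 q19179 L228762 q19042, e3 q19180 L228770 q19043, e3 q19181 L228776 q17767, e3 q19182 (flp_b L232855) q19636, e3 q19183 (flp_b L230960) q19355, e3 q19184 (flp_b L249711) q21574, e3 q19185 (flp_b L250795) q21703, e3 q19186 L250995 q21726, e3 q19187 L251013 q21728, e3 q19188 (flp_b L228818) q15503, e3 q19189 L251023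 q21729, e3 q19190 (flp_b L228832) q15504, e3 q19191 (flp_b L238425) q20293, e3 q19192 (flp_b L228846) q15506, e3 q19193 (flp_b L228852) q15507, e3 q19194 L228862 q19010, e3 q19195 L228866 q15523, e3 q19196 L228886 q19154, e3 q19197 (flp_b L249363) q21535, e3 q19198 L250015 q21615, e3 q19199 L228904 q15512, trivial⟩ (by decide +kernel)

theorem ce_b_300 : ∀ r, r < 64 → sm gb (Qf (19200 + r)) = Qf (tab Gen.b (19200 + r)) :=
  edges_tab (sm gb) Qf (tab Gen.b) 19200 [(19200, 21272), (19201, 21740), (19202, 21738), (19203, 15513), (19204, 21742), (19205, 15516), (19206, 21583), (19207, 21745), (19208, 21747), (19209, 15517), (19210, 21750), (19211, 20763), (19212, 15522), (19213, 19160), (19214, 15519), (19215, 21743), (19216, 21733), (19217, 15521), (19218, 21753), (19219, 18205), (19220, 15526), (19221, 21756), (19222, 15529), (19223, 21759), (19224, 15530), (19225, 17676), (19226, 16785), (19227, 15937), (19228, 17658), (19229, 15571), (19230, 20360), (19231, 19334), (19232, 19738), (19233, 16938), (19234, 18234),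 (19235, 18474), (19236, 20691), (19237, 17631), (19238, 17065), (19239, 18092), (19240, 15554), (19241, 20407), (19242, 15557), (19243, 15550), (19244, 15560), (19245, 21766), (19246, 21166), (19247, 19528), (19248, 15556), (19249, 18066), (19250, 21768), (19251, 18057), (19252, 21771), (19253, 15558), (19254, 17579), (19255, 21772), (19256, 19552), (19257, 17544), (19258, 17691), (19259, 17278), (19260, 16747), (19261, 15566), (19262, 20479), (19263, 20162)]
    ⟨e3 q19200 (flp_b L247101) q21272, e3 q19201 L251123 q21740, e3 q19202 (flp_b L251107) q21738, e3 q19203 (flp_b L228934) q15513, e3 q19204 (flp_b L251146) q21742, e3 q19205 L228953 q15516, e3 q19206 (flp_b L249773) q21583, e3 q19207 L251173 q21745, e3 q19208 L251187 q21747, e3 q19209 (flp_b L228989) q15517, e3 q19210 L251219 q21750, e3 q19211 (flp_b L242723) q20763, e3 q19212 L229009 q15522, e3 q19213 (flp_b L229017) q19160, e3 q19214 (flp_b L229019) q15519, e3 q19215 (flp_b L251155) q21743, e3 q19216 (flp_b L251063) q21733, e3 q19217 (flp_b L229046) q15521,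 e3 q19218 L251249 q21753, e3 q19219 L229068 q18205, e3 q19220 (flp_b L229070) q15526, e3 q19221 L251275 q21756, e3 q19222 L229086 q15529, e3 q19223 (flp_b L251307) q21759, e3 q19224 (flp_b L229098) q15530, e3 q19225 (flp_b L229110) q17676, e3 q19226 L229116 q16785, e3 q19227 L229128 q15937, e3 q19228 L229140 q17658, e3 q19229 L229144 q15571, e3 q19230 (flp_b L239053) q20360, e3 q19231 (flp_b L230112) q19334, e3 q19232 (flp_b L233651) q19738, e3 q19233 L229176 q16938, e3 q19234 L229184 q18234, e3 q19235 L229196 q18474, e3 q19236 (flp_b L242000) q20691, e3 q19237 (flp_b L229214) q17631, e3 q19238 L229218 q17065, e3 q19239 L229230 q18092, e3 q19240 L229236 q15554, e3 q19241 L239467 q20407, e3 q19242 L229252 q15557, e3 q19243 (flp_b L229256) q15550, e3 q19244 L229272 q15560, e3 q19245 L251373 q21766, e3 q19246 (flp_b L246210) q21166, e3 q19247 (flp_b L231874) q19528, e3 q19248 (flp_b L229302) q15556, e3 q19249 L229316 q18066, e3 q19250 (flp_b L251393) q21768, e3 q19251 L229340 q18057, e3 q19252 L251429 q21771, e3 q19253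 (flp_b L229350) q15558, e3 q19254 (flp_b L229364) q17579, e3 q19255 L251441 q21772, e3 q19256 (flp_b L232112) q19552, e3 q19257 L229391 q17544, e3 q19258 L229395 q17691, e3 q19259 L229414 q17278, e3 q19260 L229428 q16747, e3 q19261 (flp_b L229430) q15566, e3 q19262 (flp_b L240101) q20479, e3 q19263 (flp_b L237365) q20162, trivial⟩ (by decide +kernel)

theorem ce_b_301 : ∀ r, r < 64 → sm gb (Qf (19264 + r)) = Qf (tab Gen.b (19264 + r)) :=
  edges_tab (sm gb) Qf (tab Gen.b) 19264 [(19264, 20213), (19265, 17770), (19266, 18072), (19267, 21760), (19268, 20381), (19269, 21777), (19270, 20463), (19271, 15580), (19272, 16841), (19273, 15582), (19274, 21780), (19275, 21779), (19276, 21783), (19277, 15583), (19278, 15584), (19279, 18673), (19280, 17982), (19281, 17994), (19282, 19604), (19283, 15589), (19284, 21785), (19285, 21788), (19286, 19325), (19287, 15591), (19288, 20723), (19289, 15594), (19290, 15595), (19291, 18631), (19292, 15964), (19293, 20620), (19294, 18053), (19295, 21790), (19296, 20718), (19297, 15596),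 (19298, 16023), (19299, 21791), (19300, 19482), (19301, 15604), (19302, 16258), (19303, 19665), (19304, 17433), (19305, 20598), (19306, 20791), (19307, 16594), (19308, 15620), (19309, 18537), (19310, 17116), (19311, 17281), (19312, 17298), (19313, 15940), (19314, 16761), (19315, 15626), (19316, 16143), (19317, 21778), (19318, 17234), (19319, 17252), (19320, 20497), (19321, 17461), (19322, 20203), (19323, 21327), (19324, 15644), (19325, 19286), (19326, 21803), (19327, 20765)]
    ⟨e3 q19264 (flp_b L237835) q20213, e3 q19265 L229466 q17770, e3 q19266 L229478 q18072, e3 q19267 (flp_b L251317) q21760, e3 q19268 (flp_b L239233) q20381, e3 q19269 L251500 q21777, e3 q19270 L239995 q20463, e3 q19271 (flp_b L229506) q15580, e3 q19272 L229522 q16841, e3 q19273 L229530 q15582, e3 q19274 L251534 q21780, e3 q19275 (flp_b L251524) q21779, e3 q19276 L251566 q21783, e3 q19277 (flp_b L229558) q15583, e3 q19278 (flp_b L229570) q15584, e3 q19279 L229586 q18673, e3 q19280 L229598 q17982, e3 q19281 L229616 q17994, e3 q19282 (flp_b L232572)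 q19604, e3 q19283 (flp_b L229626) q15589, e3 q19284 (flp_b L251590) q21785, e3 q19285 L251612 q21788, e3 q19286 (flp_b L230036) q19325, e3 q19287 (flp_b L229656) q15591, e3 q19288 (flp_b L242310) q20723, e3 q19289 L229664 q15594, e3 q19290 L229674 q15595, e3 q19291 (flp_b L229694) q18631, e3 q19292 L229708 q15964, e3 q19293 (flp_b L241372) q20620, e3 q19294 L229730 q18053, e3 q19295 (flp_b L251638) q21790, e3 q19296 L242276 q20718, e3 q19297 (flp_b L229740) q15596, e3 q19298 (flp_b L229758) q16023, e3 q19299 (flp_b L251656) q21791, e3 q19300 (flp_b L231450) q19482, e3 q19301 (flp_b L229772) q15604, e3 q19302 L229810 q16258, e3 q19303 (flp_b L233095) q19665, e3 q19304 L229836 q17433, e3 q19305 (flp_b L241146) q20598, e3 q19306 (flp_b L242975) q20791, e3 q19307 L229866 q16594, e3 q19308 (flp_b L229880) q15620, e3 q19309 L229890 q18537, e3 q19310 L229894 q17116, e3 q19311 L229902 q17281, e3 q19312 (flp_b L229914) q17298, e3 q19313 (flp_b L229928) q15940, e3 q19314 L229940 q16761, e3 q19315 (flp_b L229942) q15626, e3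 q19316 L229958 q16143, e3 q19317 (flp_b L251512) q21778, e3 q19318 L229980 q17234, e3 q19319 L229986 q17252, e3 q19320 (flp_b L240255) q20497, e3 q19321 L230004 q17461, e3 q19322 L237725 q20203, e3 q19323 (flp_b L247577) q21327, e3 q19324 L230022 q15644, e3 q19325 L230036 q19286, e3 q19326 L251792 q21803, e3 q19327 (flp_b L242747) q20765, trivial⟩ (by decide +kernel)

theorem ce_b_302 : ∀ r, r < 64 → sm gb (Qf (19328 + r)) = Qf (tab Gen.b (19328 + r)) :=
  edges_tab (sm gb) Qf (tab Gen.b) 19328 [(19328, 15642), (19329, 15643), (19330, 20710), (19331, 21805), (19332, 15646), (19333, 19468), (19334, 19231), (19335, 20348), (19336, 15948), (19337, 19657), (19338, 19457), (19339, 15723), (19340, 19756), (19341, 20750), (19342, 20752), (19343, 15978), (19344, 17814), (19345, 19012), (19346, 15662), (19347, 15749), (19348, 15663), (19349, 15891), (19350, 15752), (19351, 15660), (19352, 15894), (19353, 19569), (19354, 21812), (19355, 19183), (19356, 21818), (19357, 15664), (19358, 19573), (19359, 15668), (19360, 19421),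 (19361, 20330), (19362, 21163), (19363, 16823), (19364, 15667), (19365, 18296), (19366, 20058), (19367, 21819), (19368, 21824), (19369, 18111), (19370, 20645), (19371, 18129), (19372, 15681), (19373, 18348), (19374, 21825), (19375, 15684), (19376, 15687), (19377, 15688), (19378, 20601), (19379, 17184), (19380, 20665), (19381, 15691), (19382, 15693), (19383, 15694), (19384, 15823), (19385, 17681), (19386, 15700), (19387, 17436), (19388, 15701), (19389, 15705), (19390, 15810), (19391, 17727)]
    ⟨e3 q19328 (flp_b L230052) q15642, e3 q19329 (flp_b L230063) q15643, e3 q19330 (flp_b L242200) q20710, e3 q19331 L251812 q21805, e3 q19332 (flp_b L230088) q15646, e3 q19333 (flp_b L231318) q19468, e3 q19334 L230112 q19231, e3 q19335 (flp_b L238929) q20348, e3 q19336 L230140 q15948, e3 q19337 (flp_b L233023) q19657, e3 q19338 (flp_b L231226) q19457, e3 q19339 L230172 q15723, e3 q19340 (flp_b L233815) q19756, e3 q19341 (flp_b L242594) q20750, e3 q19342 (flp_b L242616) q20752, e3 q19343 (flp_b L230256) q15978, e3 q19344 L230950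 q17814, e3 q19345 L230206 q19012, e3 q19346 L230214 q15662, e3 q19347 L230220 q15749, e3 q19348 L230224 q15663, e3 q19349 L230946 q15891, e3 q19350 L230236 q15752, e3 q19351 (flp_b L230238) q15660, e3 q19352 (flp_b L230936) q15894, e3 q19353 (flp_b L232260) q19569, e3 q19354 (flp_b L251876) q21812, e3 q19355 L230960 q19183, e3 q19356 L251936 q21818, e3 q19357 (flp_b L230278) q15664, e3 q19358 (flp_b L232290) q19573, e3 q19359 L230286 q15668, e3 q19360 (flp_b L230812) q19421, e3 q19361 (flp_b L238741) q20330, e3 q19362 L246164 q21163, e3 q19363 L230316 q16823, e3 q19364 (flp_b L230318) q15667, e3 q19365 (flp_b L230332) q18296, e3 q19366 (flp_b L236405) q20058, e3 q19367 (flp_b L251946) q21819, e3 q19368 L251990 q21824, e3 q19369 L230356 q18111, e3 q19370 (flp_b L241582) q20645, e3 q19371 L230382 q18129, e3 q19372 (flp_b L230384) q15681, e3 q19373 L230402 q18348, e3 q19374 L251998 q21825, e3 q19375 (flp_b L230412) q15684, e3 q19376 (flp_b L230424) q15687, e3 q19377 (flp_b L230432) q15688, e3 q19378 L241192 q20601,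 e3 q19379 L230450 q17184, e3 q19380 L241742 q20665, e3 q19381 (flp_b L230464) q15691, e3 q19382 (flp_b L230476) q15693, e3 q19383 (flp_b L230488) q15694, e3 q19384 L230504 q15823, e3 q19385 L230516 q17681, e3 q19386 (flp_b L230518) q15700, e3 q19387 (flp_b L230538) q17436, e3 q19388 (flp_b L230540) q15701, e3 q19389 (flp_b L230548) q15705, e3 q19390 L230562 q15810, e3 q19391 L230576 q17727, trivial⟩ (by decide +kernel)

theorem ce_b_303 : ∀ r, r < 64 → sm gb (Qf (19392 + r)) = Qf (tab Gen.b (19392 + r)) :=
  edges_tab (sm gb) Qf (tab Gen.b) 19392 [(19392, 15711), (19393, 15796), (19394, 20492), (19395, 15714), (19396, 20429), (19397, 19514), (19398, 16937), (19399, 15716), (19400, 21130), (19401, 15719), (19402, 21834), (19403, 19656), (19404, 20558), (19405, 21837), (19406, 19661), (19407, 15720), (19408, 15721), (19409, 21841), (19410, 17863), (19411, 18620), (19412, 21839), (19413, 20801), (19414, 15728), (19415, 15763), (19416, 19416), (19417, 15732), (19418, 20774), (19419, 15730), (19420, 20773), (19421, 19360),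 (19422, 21845), (19423, 17572), (19424, 15739), (19425, 18012), (19426, 21297), (19427, 15742), (19428, 15743), (19429, 20758), (19430, 21746), (19431, 21850), (19432, 19632), (19433, 19634), (19434, 15744), (19435, 19045), (19436, 21687), (19437, 21848), (19438, 15756), (19439, 21685), (19440, 21813), (19441, 16410), (19442, 21856), (19443, 21708), (19444, 15751), (19445, 16408), (19446, 21815), (19447, 15755), (19448, 21857), (19449, 21859), (19450, 15757), (19451, 15759), (19452, 21741), (19453, 15760), (19454, 15767), (19455, 17020)]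
    ⟨e3 q19392 L230580 q15711, e3 q19393 L230592 q15796, e3 q19394 (flp_b L240211) q20492, e3 q19395 L230608 q15714, e3 q19396 (flp_b L239683) q20429, e3 q19397 (flp_b L231756) q19514, e3 q19398 (flp_b L230640) q16937, e3 q19399 (flp_b L230642) q15716, e3 q19400 (flp_b L245905) q21130, e3 q19401 L230656 q15719, e3 q19402 L252098 q21834, e3 q19403 (flp_b L233011) q19656, e3 q19404 (flp_b L240762) q20558, e3 q19405 L252124 q21837, e3 q19406 (flp_b L233051) q19661, e3 q19407 (flp_b L230688) q15720, e3 q19408 (flp_b L230690) q15721, e3 q19409 L252154 q21841, e3 q19410 (flp_b L230710) q17863, e3 q19411 L230722 q18620, e3 q19412 (flp_b L252146) q21839, e3 q19413 (flp_b L243061) q20801, e3 q19414 (flp_b L230740) q15728, e3 q19415 (flp_b L230934) q15763, e3 q19416 L230755 q19416, e3 q19417 L230764 q15732, e3 q19418 (flp_b L242842) q20774, e3 q19419 (flp_b L230774) q15730, e3 q19420 (flp_b L242828) q20773, e3 q19421 L230812 q19360, e3 q19422 L252197 q21845, e3 q19423 L230986 q17572, e3 q19424 (flp_b L230988) q15739, e3 q19425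 L231002 q18012, e3 q19426 (flp_b L247284) q21297, e3 q19427 L231016 q15742, e3 q19428 L231024 q15743, e3 q19429 (flp_b L242681) q20758, e3 q19430 L251185 q21746, e3 q19431 L252247 q21850, e3 q19432 (flp_b L232825) q19632, e3 q19433 (flp_b L232841) q19634, e3 q19434 (flp_b L231060) q15744, e3 q19435 L231072 q19045, e3 q19436 (flp_b L250667) q21687, e3 q19437 (flp_b L252237) q21848, e3 q19438 L231086 q15756, e3 q19439 (flp_b L250649) q21685, e3 q19440 (flp_b L251888) q21813, e3 q19441 L231104 q16410, e3 q19442 L252295 q21856, e3 q19443 L250829 q21708, e3 q19444 (flp_b L231122) q15751, e3 q19445 (flp_b L231140) q16408, e3 q19446 (flp_b L251910) q21815, e3 q19447 (flp_b L231154) q15755, e3 q19448 L252305 q21857, e3 q19449 L252329 q21859, e3 q19450 (flp_b L231176) q15757, e3 q19451 (flp_b L231184) q15759, e3 q19452 (flp_b L251138) q21741, e3 q19453 (flp_b L231196) q15760, e3 q19454 L231204 q15767, e3 q19455 (flp_b L231214) q17020, trivial⟩ (by decide +kernel)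

theorem ce_b_304 : ∀ r, r < 64 → sm gb (Qf (19456 + r)) = Qf (tab Gen.b (19456 + r)) :=
  edges_tab (sm gb) Qf (tab Gen.b) 19456 [(19456, 19608), (19457, 19338), (19458, 21376), (19459, 20687), (19460, 20567), (19461, 19610), (19462, 21122), (19463, 18949), (19464, 20937), (19465, 17743), (19466, 16811), (19467, 20379), (19468, 19333), (19469, 18501), (19470, 20726), (19471, 17703), (19472, 17064), (19473, 18146), (19474, 19831), (19475, 16953), (19476, 18293), (19477, 20346), (19478, 15797), (19479, 15789), (19480, 15800), (19481, 21116), (19482, 19300), (19483, 18038), (19484, 21830), (19485, 18028), (19486, 21775), (19487, 15798), (19488, 17607), (19489, 21872), (19490, 17549), (19491, 17759), (19492, 17202), (19493, 16750), (19494, 15805), (19495, 20537), (19496, 20163), (19497, 17776), (19498, 18043), (19499, 21829), (19500, 20212), (19501, 20388), (19502, 21875), (19503, 20520), (19504, 15820), (19505, 16834), (19506, 15822), (19507, 21878), (19508, 21877), (19509, 21828), (19510, 15824), (19511, 18668),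 (19512, 17976), (19513, 17986), (19514, 19397), (19515, 15829), (19516, 21882), (19517, 20686), (19518, 15832), (19519, 15833)]
    ⟨e3 q19456 L232606 q19608, e3 q19457 L231226 q19338, e3 q19458 (flp_b L248039) q21376, e3 q19459 (flp_b L241958) q20687, e3 q19460 L240845 q20567, e3 q19461 (flp_b L232622) q19610, e3 q19462 (flp_b L245843) q21122, e3 q19463 L231270 q18949, e3 q19464 (flp_b L244405) q20937, e3 q19465 (flp_b L231288) q17743, e3 q19466 L231300 q16811, e3 q19467 (flp_b L239211) q20379, e3 q19468 L231318 q19333, e3 q19469 (flp_b L231330) q18501, e3 q19470 (flp_b L242346) q20726, e3 q19471 (flp_b L231348) q17703, e3 q19472 L231358 q17064, e3 q19473 L231370 q18146, e3 q19474 (flp_b L234405) q19831, e3 q19475 L231386 q16953, e3 q19476 L231394 q18293, e3 q19477 L238903 q20346, e3 q19478 L231408 q15797, e3 q19479 (flp_b L231412) q15789, e3 q19480 L231430 q15800, e3 q19481 (flp_b L245795) q21116, e3 q19482 L231450 q19300, e3 q19483 L231462 q18038, e3 q19484 (flp_b L252060) q21830, e3 q19485 L231488 q18028, e3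 q19486 (flp_b L251484) q21775, e3 q19487 (flp_b L231500) q15798, e3 q19488 (flp_b L231518) q17607, e3 q19489 L252465 q21872, e3 q19490 L231537 q17549, e3 q19491 L231541 q17759, e3 q19492 L231560 q17202, e3 q19493 L231574 q16750, e3 q19494 (flp_b L231576) q15805, e3 q19495 (flp_b L240589) q20537, e3 q19496 (flp_b L237371) q20163, e3 q19497 L231604 q17776, e3 q19498 L231616 q18043, e3 q19499 (flp_b L252056) q21829, e3 q19500 (flp_b L237825) q20212, e3 q19501 (flp_b L239293) q20388, e3 q19502 L252498 q21875, e3 q19503 L240471 q20520, e3 q19504 (flp_b L231652) q15820, e3 q19505 L231670 q16834, e3 q19506 L231678 q15822, e3 q19507 L252532 q21878, e3 q19508 (flp_b L252522) q21877, e3 q19509 (flp_b L252042) q21828, e3 q19510 (flp_b L231706) q15824, e3 q19511 L231722 q18668, e3 q19512 L231734 q17976, e3 q19513 L231752 q17986, e3 q19514 L231756 q19397, e3 q19515 (flp_b L231764) q15829, e3 q19516 (flp_b L252576) q21882, e3 q19517 (flp_b L241946) q20686, e3 q19518 L231780 q15832, e3 q19519 L231790 q15833, trivial⟩ (by decide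 +kernel)

theorem ce_b_305 : ∀ r, r < 64 → sm gb (Qf (19520 + r)) = Qf (tab Gen.b (19520 + r)) :=
  edges_tab (sm gb) Qf (tab Gen.b) 19520 [(19520, 18616), (19521, 20619), (19522, 18025), (19523, 21884), (19524, 20681), (19525, 15834), (19526, 16098), (19527, 21885), (19528, 19247), (19529, 15841), (19530, 16229), (19531, 19759), (19532, 17456), (19533, 20596), (19534, 16559), (19535, 20795), (19536, 15854), (19537, 18533), (19538, 17023), (19539, 17205), (19540, 17222), (19541, 16753), (19542, 15860), (19543, 16066), (19544, 21876), (19545, 17310), (19546, 17327), (19547, 20439), (19548, 20199), (19549, 21332), (19550, 15878), (19551, 21894), (19552, 19256), (19553, 15875), (19554, 20754), (19555, 15877), (19556, 20743), (19557, 21896), (19558, 15879), (19559, 20349), (19560, 19848), (19561, 20761), (19562, 20746), (19563, 17826), (19564, 19151), (19565, 15892), (19566, 15973), (19567, 15893), (19568, 15976), (19569, 19353), (19570, 21900), (19571, 19047), (19572, 21811), (19573, 19358), (19574, 15898), (19575,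 19623), (19576, 20331), (19577, 21113), (19578, 16797), (19579, 15897), (19580, 18237), (19581, 20075), (19582, 21904), (19583, 21909)]
    ⟨e3 q19520 (flp_b L231810) q18616, e3 q19521 (flp_b L241358) q20619, e3 q19522 L231832 q18025, e3 q19523 (flp_b L252592) q21884, e3 q19524 L241912 q20681, e3 q19525 (flp_b L231842) q15834, e3 q19526 L231860 q16098, e3 q19527 (flp_b L252610) q21885, e3 q19528 L231874 q19247, e3 q19529 (flp_b L231876) q15841, e3 q19530 L231900 q16229, e3 q19531 (flp_b L233843) q19759, e3 q19532 L231926 q17456, e3 q19533 (flp_b L241124) q20596, e3 q19534 L231944 q16559, e3 q19535 (flp_b L243009) q20795, e3 q19536 L231970 q15854, e3 q19537 L231980 q18533, e3 q19538 L231984 q17023, e3 q19539 L231992 q17205, e3 q19540 (flp_b L232006) q17222, e3 q19541 L232018 q16753, e3 q19542 (flp_b L232020) q15860, e3 q19543 L232036 q16066, e3 q19544 (flp_b L252510) q21876, e3 q19545 L232058 q17310, e3 q19546 L232064 q17327, e3 q19547 (flp_b L239777) q20439, e3 q19548 (flp_b L237683) q20199, e3 q19549 (flp_b L247636)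 q21332, e3 q19550 L232088 q15878, e3 q19551 L252706 q21894, e3 q19552 L232112 q19256, e3 q19553 (flp_b L232114) q15875, e3 q19554 (flp_b L242632) q20754, e3 q19555 (flp_b L232135) q15877, e3 q19556 (flp_b L242524) q20743, e3 q19557 L252728 q21896, e3 q19558 (flp_b L232160) q15879, e3 q19559 (flp_b L238941) q20349, e3 q19560 L234567 q19848, e3 q19561 L242709 q20761, e3 q19562 L242560 q20746, e3 q19563 L232210 q17826, e3 q19564 L232214 q19151, e3 q19565 L232222 q15892, e3 q19566 L232228 q15973, e3 q19567 L232232 q15893, e3 q19568 L232248 q15976, e3 q19569 L232260 q19353, e3 q19570 (flp_b L252762) q21900, e3 q19571 L232276 q19047, e3 q19572 (flp_b L251872) q21811, e3 q19573 L232290 q19358, e3 q19574 L232294 q15898, e3 q19575 (flp_b L232745) q19623, e3 q19576 (flp_b L238753) q20331, e3 q19577 L245777 q21113, e3 q19578 L232330 q16797, e3 q19579 (flp_b L232332) q15897, e3 q19580 (flp_b L232346) q18237, e3 q19581 (flp_b L236541) q20075, e3 q19582 (flp_b L252802) q21904, e3 q19583 L252846 q21909, trivial⟩ (by decide +kernel)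

theorem ce_b_306 : ∀ r, r < 64 → sm gb (Qf (19584 + r)) = Qf (tab Gen.b (19584 + r)) :=
  edges_tab (sm gb) Qf (tab Gen.b) 19584 [(19584, 18165), (19585, 20670), (19586, 18181), (19587, 15911), (19588, 18291), (19589, 21910), (19590, 15914), (19591, 15917), (19592, 15918), (19593, 20599), (19594, 17104), (19595, 20640), (19596, 15922), (19597, 15923), (19598, 17749), (19599, 15929), (19600, 15930), (19601, 20433), (19602, 20487), (19603, 16952), (19604, 19282), (19605, 15941), (19606, 21183), (19607, 15945), (19608, 19456), (19609, 20583), (19610, 19461), (19611, 21916), (19612, 15946), (19613, 21918), (19614, 15947), (19615, 18635), (19616, 17875), (19617, 21919), (19618, 20811), (19619, 15954), (19620, 15988), (19621, 15957), (19622, 20788), (19623, 19575), (19624, 21921), (19625, 17600), (19626, 18018), (19627, 21298), (19628, 15967), (19629, 15968), (19630, 20745), (19631, 21640), (19632, 19432), (19633, 21925), (19634, 19433), (19635, 15970), (19636, 19182), (19637, 21817), (19638, 21561), (19639, 15981),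 (19640, 21901), (19641, 21559), (19642, 21806), (19643, 16517), (19644, 21588), (19645, 21809), (19646, 15977), (19647, 16382)]
    ⟨e3 q19584 (flp_b L232370) q18165, e3 q19585 (flp_b L241798) q20670, e3 q19586 L232396 q18181, e3 q19587 (flp_b L232398) q15911, e3 q19588 L232416 q18291, e3 q19589 L252856 q21910, e3 q19590 (flp_b L232426) q15914, e3 q19591 (flp_b L232438) q15917, e3 q19592 (flp_b L232446) q15918, e3 q19593 L241164 q20599, e3 q19594 L232466 q17104, e3 q19595 L241526 q20640, e3 q19596 (flp_b L232480) q15922, e3 q19597 (flp_b L232492) q15923, e3 q19598 L232512 q17749, e3 q19599 (flp_b L232514) q15929, e3 q19600 (flp_b L232524) q15930, e3 q19601 (flp_b L239727) q20433, e3 q19602 (flp_b L240161) q20487, e3 q19603 (flp_b L232562) q16952, e3 q19604 L232572 q19282, e3 q19605 (flp_b L232574) q15941, e3 q19606 (flp_b L246332) q21183, e3 q19607 L232590 q15945, e3 q19608 (flp_b L232606) q19456, e3 q19609 (flp_b L240998) q20583, e3 q19610 L232622 q19461, e3 q19611 L252930 q21916, e3 q19612 (flp_b L232630) q15946,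 e3 q19613 L252946 q21918, e3 q19614 (flp_b L232648) q15947, e3 q19615 L232658 q18635, e3 q19616 (flp_b L232670) q17875, e3 q19617 (flp_b L252960) q21919, e3 q19618 (flp_b L243187) q20811, e3 q19619 (flp_b L232688) q15954, e3 q19620 L232703 q15988, e3 q19621 L232713 q15957, e3 q19622 (flp_b L242951) q20788, e3 q19623 L232745 q19575, e3 q19624 L252974 q21921, e3 q19625 L232765 q17600, e3 q19626 L232769 q18018, e3 q19627 (flp_b L247295) q21298, e3 q19628 L232787 q15967, e3 q19629 L232797 q15968, e3 q19630 (flp_b L242546) q20745, e3 q19631 L250204 q21640, e3 q19632 L232825 q19432, e3 q19633 L253018 q21925, e3 q19634 L232841 q19433, e3 q19635 (flp_b L232843) q15970, e3 q19636 L232855 q19182, e3 q19637 (flp_b L251934) q21817, e3 q19638 (flp_b L249611) q21561, e3 q19639 L232869 q15981, e3 q19640 (flp_b L252774) q21901, e3 q19641 L249597 q21559, e3 q19642 (flp_b L251828) q21806, e3 q19643 L232895 q16517, e3 q19644 L249805 q21588, e3 q19645 (flp_b L251852) q21809, e3 q19646 (flp_b L232915) q15977, e3 q19647 (flp_b L232937)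 q16382, trivial⟩ (by decide +kernel)

theorem ce_b_307 : ∀ r, r < 64 → sm gb (Qf (19648 + r)) = Qf (tab Gen.b (19648 + r)) :=
  edges_tab (sm gb) Qf (tab Gen.b) 19648 [(19648, 21931), (19649, 21933), (19650, 15982), (19651, 15984), (19652, 21629), (19653, 15985), (19654, 15992), (19655, 17110), (19656, 19403), (19657, 19337), (19658, 21419), (19659, 20724), (19660, 20585), (19661, 19406), (19662, 21175), (19663, 18895), (19664, 20964), (19665, 19303), (19666, 21911), (19667, 19864), (19668, 18488), (19669, 16010), (19670, 16011), (19671, 21939), (19672, 21942), (19673, 21943), (19674, 20461), (19675, 16016), (19676, 16017), (19677, 17985), (19678, 18739), (19679, 21237), (19680, 20825), (19681, 20682), (19682, 20107), (19683, 21948), (19684, 20464), (19685, 17800), (19686, 21950), (19687, 19867), (19688, 17783), (19689, 21953), (19690, 19783), (19691, 16028), (19692, 19937), (19693, 20270), (19694, 21256), (19695, 18651), (19696, 16030), (19697, 18250), (19698, 18535), (19699, 18663), (19700, 16036), (19701, 16037),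 (19702, 19008), (19703, 21961), (19704, 20292), (19705, 17959), (19706, 21964), (19707, 21006), (19708, 17683), (19709, 21593), (19710, 16038), (19711, 16039)]
    ⟨e3 q19648 L253080 q21931, e3 q19649 L253104 q21933, e3 q19650 (flp_b L232955) q15982, e3 q19651 (flp_b L232963) q15984, e3 q19652 (flp_b L250114) q21629, e3 q19653 (flp_b L232981) q15985, e3 q19654 L232995 q15992, e3 q19655 (flp_b L233005) q17110, e3 q19656 L233011 q19403, e3 q19657 L233023 q19337, e3 q19658 (flp_b L248401) q21419, e3 q19659 (flp_b L242324) q20724, e3 q19660 L241030 q20585, e3 q19661 L233051 q19406, e3 q19662 (flp_b L246254) q21175, e3 q19663 L233071 q18895, e3 q19664 (flp_b L244603) q20964, e3 q19665 L233095 q19303, e3 q19666 (flp_b L252882) q21911, e3 q19667 (flp_b L234695) q19864, e3 q19668 (flp_b L233117) q18488, e3 q19669 (flp_b L233119) q16010, e3 q19670 (flp_b L233129) q16011, e3 q19671 (flp_b L253174) q21939, e3 q19672 L253208 q21942, e3 q19673 L253222 q21943, e3 q19674 (flp_b L239967) q20461, e3 q19675 L233159 q16016, e3 q19676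 L233169 q16017, e3 q19677 L233179 q17985, e3 q19678 (flp_b L233187) q18739, e3 q19679 (flp_b L246777) q21237, e3 q19680 L243371 q20825, e3 q19681 L241920 q20682, e3 q19682 (flp_b L236841) q20107, e3 q19683 L253272 q21948, e3 q19684 (flp_b L240001) q20464, e3 q19685 (flp_b L234001) q17800, e3 q19686 L253288 q21950, e3 q19687 (flp_b L234723) q19867, e3 q19688 L233243 q17783, e3 q19689 L253306 q21953, e3 q19690 L233999 q19783, e3 q19691 (flp_b L233259) q16028, e3 q19692 (flp_b L235366) q19937, e3 q19693 L238235 q20270, e3 q19694 (flp_b L246953) q21256, e3 q19695 (flp_b L233303) q18651, e3 q19696 (flp_b L233305) q16030, e3 q19697 L233323 q18250, e3 q19698 L233335 q18535, e3 q19699 L233343 q18663, e3 q19700 L233349 q16036, e3 q19701 L233357 q16037, e3 q19702 (flp_b L233363) q19008, e3 q19703 L253383 q21961, e3 q19704 (flp_b L238415) q20292, e3 q19705 L233385 q17959, e3 q19706 L253413 q21964, e3 q19707 (flp_b L244887) q21006, e3 q19708 (flp_b L233407) q17683, e3 q19709 (flp_b L249839) q21593, e3 q19710 (flp_b L233417)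 q16038, e3 q19711 (flp_b L233431) q16039, trivial⟩ (by decide +kernel)

theorem ce_b_308 : ∀ r, r < 64 → sm gb (Qf (19712 + r)) = Qf (tab Gen.b (19712 + r)) :=
  edges_tab (sm gb) Qf (tab Gen.b) 19712 [(19712, 16041), (19713, 17779), (19714, 21169), (19715, 20813), (19716, 16045), (19717, 21968), (19718, 21010), (19719, 21970), (19720, 18388), (19721, 20849), (19722, 18977), (19723, 21008), (19724, 16048), (19725, 16712), (19726, 21596), (19727, 21957), (19728, 16051), (19729, 19033), (19730, 16053), (19731, 20816), (19732, 16055), (19733, 16056), (19734, 16057), (19735, 18168), (19736, 17052), (19737, 20817), (19738, 19232), (19739, 19835), (19740, 18863), (19741, 19833), (19742, 16832), (19743, 20332), (19744, 21199), (19745, 16067), (19746, 20328), (19747, 16069), (19748, 17768), (19749, 19758), (19750, 20261), (19751, 19755), (19752, 16072), (19753, 16073), (19754, 18079), (19755, 19751), (19756, 19340), (19757, 21165), (19758, 19749), (19759, 19531), (19760, 21826), (19761, 19882), (19762, 18515), (19763, 16086),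 (19764, 16087), (19765, 21977), (19766, 21980), (19767, 21981), (19768, 20519), (19769, 16092), (19770, 16093), (19771, 17993), (19772, 18789), (19773, 21238), (19774, 20719), (19775, 20826)]
    ⟨e3 q19712 (flp_b L233433) q16041, e3 q19713 L233451 q17779, e3 q19714 L246208 q21169, e3 q19715 (flp_b L243223) q20813, e3 q19716 (flp_b L233469) q16045, e3 q19717 (flp_b L253459) q21968, e3 q19718 (flp_b L244919) q21010, e3 q19719 L253473 q21970, e3 q19720 L233505 q18388, e3 q19721 (flp_b L243595) q20849, e3 q19722 (flp_b L233539) q18977, e3 q19723 (flp_b L244901) q21008, e3 q19724 (flp_b L233529) q16048, e3 q19725 L233551 q16712, e3 q19726 (flp_b L249877) q21596, e3 q19727 (flp_b L253355) q21957, e3 q19728 (flp_b L233565) q16051, e3 q19729 (flp_b L233585) q19033, e3 q19730 (flp_b L233589) q16053, e3 q19731 (flp_b L243261) q20816, e3 q19732 (flp_b L233595) q16055, e3 q19733 (flp_b L233605) q16056, e3 q19734 (flp_b L233611) q16057, e3 q19735 L233625 q18168, e3 q19736 L233635 q17052, e3 q19737 (flp_b L243279) q20817, e3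 q19738 L233651 q19232, e3 q19739 (flp_b L234439) q19835, e3 q19740 L233665 q18863, e3 q19741 (flp_b L234423) q19833, e3 q19742 L233683 q16832, e3 q19743 (flp_b L238771) q20332, e3 q19744 (flp_b L246463) q21199, e3 q19745 (flp_b L233699) q16067, e3 q19746 (flp_b L238717) q20328, e3 q19747 (flp_b L233717) q16069, e3 q19748 L233733 q17768, e3 q19749 (flp_b L233829) q19758, e3 q19750 (flp_b L238159) q20261, e3 q19751 (flp_b L233805) q19755, e3 q19752 (flp_b L233767) q16072, e3 q19753 (flp_b L233779) q16073, e3 q19754 (flp_b L233797) q18079, e3 q19755 L233805 q19751, e3 q19756 L233815 q19340, e3 q19757 (flp_b L246182) q21165, e3 q19758 L233829 q19749, e3 q19759 L233843 q19531, e3 q19760 (flp_b L252024) q21826, e3 q19761 (flp_b L234841) q19882, e3 q19762 (flp_b L233865) q18515, e3 q19763 (flp_b L233867) q16086, e3 q19764 (flp_b L233877) q16087, e3 q19765 (flp_b L253543) q21977, e3 q19766 L253573 q21980, e3 q19767 L253581 q21981, e3 q19768 (flp_b L240453) q20519, e3 q19769 L233907 q16092, e3 q19770 L233917 q16093, e3 q19771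 L233927 q17993, e3 q19772 (flp_b L233935) q18789, e3 q19773 (flp_b L246783) q21238, e3 q19774 L242284 q20719, e3 q19775 L243381 q20826, trivial⟩ (by decide +kernel)

theorem ce_b_309 : ∀ r, r < 64 → sm gb (Qf (19776 + r)) = Qf (tab Gen.b (19776 + r)) :=
  edges_tab (sm gb) Qf (tab Gen.b) 19776 [(19776, 21986), (19777, 20115), (19778, 20522), (19779, 21988), (19780, 17785), (19781, 17798), (19782, 19886), (19783, 19690), (19784, 21991), (19785, 16104), (19786, 19996), (19787, 21246), (19788, 20281), (19789, 18657), (19790, 18539), (19791, 16107), (19792, 18308), (19793, 18665), (19794, 16112), (19795, 16113), (19796, 21999), (19797, 19146), (19798, 20313), (19799, 22002), (19800, 17964), (19801, 20980), (19802, 21711), (19803, 17751), (19804, 16114), (19805, 16115), (19806, 16116), (19807, 21110), (19808, 17795), (19809, 20803), (19810, 16121), (19811, 22006), (19812, 22008), (19813, 20984), (19814, 18450), (19815, 19116), (19816, 20856), (19817, 16123), (19818, 16703), (19819, 20982), (19820, 21552), (19821, 16126),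 (19822, 19170), (19823, 21994), (19824, 20806), (19825, 16129), (19826, 16131), (19827, 16132), (19828, 16133), (19829, 17141), (19830, 20807), (19831, 19474), (19832, 18114), (19833, 19741), (19834, 18918), (19835, 19739), (19836, 20336), (19837, 16839), (19838, 16142), (19839, 20397)]
    ⟨e3 q19776 L253637 q21986, e3 q19777 (flp_b L236925) q20115, e3 q19778 (flp_b L240487) q20522, e3 q19779 L253653 q21988, e3 q19780 (flp_b L234003) q17785, e3 q19781 L233987 q17798, e3 q19782 (flp_b L234875) q19886, e3 q19783 (flp_b L233999) q19690, e3 q19784 L253673 q21991, e3 q19785 (flp_b L234013) q16104, e3 q19786 (flp_b L235924) q19996, e3 q19787 (flp_b L246857) q21246, e3 q19788 L238331 q20281, e3 q19789 L234057 q18657, e3 q19790 L234067 q18539, e3 q19791 (flp_b L234069) q16107, e3 q19792 L234089 q18308, e3 q19793 L234097 q18665, e3 q19794 L234103 q16112, e3 q19795 L234111 q16113, e3 q19796 L253750 q21999, e3 q19797 (flp_b L234119) q19146, e3 q19798 (flp_b L238579) q20313, e3 q19799 L253780 q22002, e3 q19800 L234147 q17964,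 e3 q19801 L244702 q20980, e3 q19802 (flp_b L250857) q21711, e3 q19803 (flp_b L234169) q17751, e3 q19804 (flp_b L234171) q16114, e3 q19805 (flp_b L234173) q16115, e3 q19806 (flp_b L234187) q16116, e3 q19807 L245761 q21110, e3 q19808 L234211 q17795, e3 q19809 (flp_b L243097) q20803, e3 q19810 (flp_b L234223) q16121, e3 q19811 (flp_b L253826) q22006, e3 q19812 L253840 q22008, e3 q19813 (flp_b L244734) q20984, e3 q19814 L234259 q18450, e3 q19815 (flp_b L234287) q19116, e3 q19816 (flp_b L243663) q20856, e3 q19817 (flp_b L234277) q16123, e3 q19818 (flp_b L234297) q16703, e3 q19819 (flp_b L244716) q20982, e3 q19820 (flp_b L249528) q21552, e3 q19821 (flp_b L234311) q16126, e3 q19822 L234329 q19170, e3 q19823 (flp_b L253711) q21994, e3 q19824 (flp_b L243135) q20806, e3 q19825 (flp_b L234347) q16129, e3 q19826 (flp_b L234357) q16131, e3 q19827 (flp_b L234359) q16132, e3 q19828 (flp_b L234369) q16133, e3 q19829 L234383 q17141, e3 q19830 (flp_b L243153) q20807, e3 q19831 L234405 q19474, e3 q19832 L234411 q18114, e3 q19833 L234423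 q19741, e3 q19834 L234427 q18918, e3 q19835 L234439 q19739, e3 q19836 L238809 q20336, e3 q19837 L234453 q16839, e3 q19838 (flp_b L234455) q16142, e3 q19839 (flp_b L239381) q20397, trivial⟩ (by decide +kernel)

theorem ce_b_310 : ∀ r, r < 64 → sm gb (Qf (19840 + r)) = Qf (tab Gen.b (19840 + r)) :=
  edges_tab (sm gb) Qf (tab Gen.b) 19840 [(19840, 21219), (19841, 16144), (19842, 20272), (19843, 19852), (19844, 17777), (19845, 19850), (19846, 16148), (19847, 16149), (19848, 19560), (19849, 21115), (19850, 19845), (19851, 18133), (19852, 19843), (19853, 17099), (19854, 16154), (19855, 17820), (19856, 22016), (19857, 22017), (19858, 22018), (19859, 22019), (19860, 22020), (19861, 22021), (19862, 16159), (19863, 16160), (19864, 19667), (19865, 17988), (19866, 18368), (19867, 19687), (19868, 17816), (19869, 22028), (19870, 18914), (19871, 16165), (19872, 17180), (19873, 16169), (19874, 22031), (19875, 17806), (19876, 22032), (19877, 22033), (19878, 22034), (19879, 22035), (19880, 16174), (19881, 16175), (19882, 19761),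 (19883, 18429), (19884, 17996), (19885, 17827), (19886, 19782), (19887, 18859), (19888, 22042), (19889, 16181), (19890, 19891), (19891, 19890), (19892, 19893), (19893, 19892), (19894, 16312), (19895, 16210), (19896, 19902), (19897, 17075), (19898, 16510), (19899, 16219), (19900, 16530), (19901, 16766), (19902, 19896), (19903, 17408)]
    ⟨e3 q19840 (flp_b L246629) q21219, e3 q19841 (flp_b L234483) q16144, e3 q19842 (flp_b L238251) q20272, e3 q19843 (flp_b L234601) q19852, e3 q19844 L234525 q17777, e3 q19845 (flp_b L234581) q19850, e3 q19846 (flp_b L234539) q16148, e3 q19847 (flp_b L234547) q16149, e3 q19848 (flp_b L234567) q19560, e3 q19849 L245791 q21115, e3 q19850 L234581 q19845, e3 q19851 L234593 q18133, e3 q19852 L234601 q19843, e3 q19853 L234615 q17099, e3 q19854 (flp_b L234617) q16154, e3 q19855 (flp_b L234639) q17820, e3 q19856 L253920 q22016, e3 q19857 L253930 q22017, e3 q19858 L253942 q22018, e3 q19859 L253952 q22019, e3 q19860 L253960 q22020, e3 q19861 L253964 q22021, e3 q19862 (flp_b L234687) q16159,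 e3 q19863 (flp_b L234689) q16160, e3 q19864 L234695 q19667, e3 q19865 L234707 q17988, e3 q19866 L234717 q18368, e3 q19867 L234723 q19687, e3 q19868 L234729 q17816, e3 q19869 L254042 q22028, e3 q19870 L234745 q18914, e3 q19871 (flp_b L234747) q16165, e3 q19872 L234761 q17180, e3 q19873 (flp_b L234763) q16169, e3 q19874 L254068 q22031, e3 q19875 (flp_b L234795) q17806, e3 q19876 L254080 q22032, e3 q19877 L254092 q22033, e3 q19878 L254100 q22034, e3 q19879 L254110 q22035, e3 q19880 (flp_b L234833) q16174, e3 q19881 (flp_b L234835) q16175, e3 q19882 L234841 q19761, e3 q19883 L234853 q18429, e3 q19884 L234863 q17996, e3 q19885 L234869 q17827, e3 q19886 L234875 q19782, e3 q19887 L234883 q18859, e3 q19888 L254184 q22042, e3 q19889 (flp_b L234893) q16181, e3 q19890 (flp_b L234919) q19891, e3 q19891 L234919 q19890, e3 q19892 (flp_b L234945) q19893, e3 q19893 L234945 q19892, e3 q19894 L234959 q16312, e3 q19895 (flp_b L234961) q16210, e3 q19896 (flp_b L235029) q19902, e3 q19897 (flp_b L234987) q17075, e3 q19898 L235001 q16510,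 e3 q19899 (flp_b L235003) q16219, e3 q19900 L235015 q16530, e3 q19901 L235023 q16766, e3 q19902 L235029 q19896, e3 q19903 L235041 q17408, trivial⟩ (by decide +kernel)

theorem ce_b_311 : ∀ r, r < 64 → sm gb (Qf (19904 + r)) = Qf (tab Gen.b (19904 + r)) :=
  edges_tab (sm gb) Qf (tab Gen.b) 19904 [(19904, 16226), (19905, 20386), (19906, 17614), (19907, 16461), (19908, 16240), (19909, 19915), (19910, 17161), (19911, 16395), (19912, 16249), (19913, 16565), (19914, 16758), (19915, 19909), (19916, 17412), (19917, 16256), (19918, 20370), (19919, 17586), (19920, 16267), (19921, 18178), (19922, 22048), (19923, 17079), (19924, 17480), (19925, 16274), (19926, 16282), (19927, 16291), (19928, 20637), (19929, 17697), (19930, 16307), (19931, 18443), (19932, 16444), (19933, 17879), (19934, 20535), (19935, 20450), (19936, 16582), (19937, 19692), (19938, 18580), (19939, 18225), (19940, 22051), (19941, 16404), (19942, 16341), (19943, 17316), (19944, 19944), (19945, 16347), (19946, 16822), (19947, 19963), (19948, 16668), (19949, 20006),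 (19950, 16367), (19951, 17154), (19952, 21306), (19953, 16374), (19954, 18694), (19955, 16589), (19956, 16394), (19957, 20192), (19958, 20359), (19959, 18706), (19960, 17171), (19961, 16390), (19962, 16393), (19963, 19947), (19964, 18683), (19965, 16511), (19966, 16554), (19967, 22057)]
    ⟨e3 q19904 (flp_b L235043) q16226, e3 q19905 (flp_b L239273) q20386, e3 q19906 L235063 q17614, e3 q19907 L235079 q16461, e3 q19908 (flp_b L235081) q16240, e3 q19909 (flp_b L235149) q19915, e3 q19910 (flp_b L235107) q17161, e3 q19911 L235121 q16395, e3 q19912 (flp_b L235123) q16249, e3 q19913 L235135 q16565, e3 q19914 L235143 q16758, e3 q19915 L235149 q19909, e3 q19916 L235161 q17412, e3 q19917 (flp_b L235163) q16256, e3 q19918 (flp_b L239139) q20370, e3 q19919 L235183 q17586, e3 q19920 (flp_b L235187) q16267, e3 q19921 L235203 q18178, e3 q19922 L254250 q22048, e3 q19923 L235221 q17079, e3 q19924 L235233 q17480, e3 q19925 (flp_b L235235) q16274, e3 q19926 (flp_b L235244) q16282, e3 q19927 (flp_b L235252) q16291, e3 q19928 (flp_b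 L241502) q20637, e3 q19929 L235278 q17697, e3 q19930 L235288 q16307, e3 q19931 L235308 q18443, e3 q19932 L235322 q16444, e3 q19933 L235328 q17879, e3 q19934 (flp_b L240568) q20535, e3 q19935 (flp_b L239867) q20450, e3 q19936 L235360 q16582, e3 q19937 L235366 q19692, e3 q19938 L235380 q18580, e3 q19939 L235388 q18225, e3 q19940 L254286 q22051, e3 q19941 L235404 q16404, e3 q19942 (flp_b L235406) q16341, e3 q19943 L235423 q17316, e3 q19944 L235433 q19944, e3 q19945 (flp_b L235434) q16347, e3 q19946 L235445 q16822, e3 q19947 (flp_b L235609) q19963, e3 q19948 L235467 q16668, e3 q19949 (flp_b L236019) q20006, e3 q19950 L235481 q16367, e3 q19951 L235497 q17154, e3 q19952 (flp_b L247373) q21306, e3 q19953 L235507 q16374, e3 q19954 L235519 q18694, e3 q19955 L235533 q16589, e3 q19956 (flp_b L235543) q16394, e3 q19957 (flp_b L237617) q20192, e3 q19958 (flp_b L239041) q20359, e3 q19959 L235567 q18706, e3 q19960 L235579 q17171, e3 q19961 L235585 q16390, e3 q19962 L235597 q16393, e3 q19963 L235609 q19947, e3 q19964 L235621 q18683,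 e3 q19965 (flp_b L235635) q16511, e3 q19966 L235645 q16554, e3 q19967 (flp_b L254362) q22057, trivial⟩ (by decide +kernel)

theorem ce_b_312 : ∀ r, r < 64 → sm gb (Qf (19968 + r)) = Qf (tab Gen.b (19968 + r)) :=
  edges_tab (sm gb) Qf (tab Gen.b) 19968 [(19968, 22046), (19969, 16501), (19970, 17067), (19971, 20378), (19972, 20176), (19973, 17087), (19974, 18699), (19975, 21255), (19976, 21319), (19977, 16406), (19978, 16411), (19979, 17037), (19980, 17851), (19981, 16422), (19982, 18126), (19983, 22064), (19984, 17165), (19985, 17489), (19986, 16429), (19987, 16437), (19988, 20663), (19989, 17765), (19990, 16456), (19991, 18381), (19992, 17903), (19993, 20477), (19994, 20508), (19995, 16547), (19996, 19786), (19997, 18567), (19998, 18200), (19999, 16512), (20000, 22068), (20001, 17239), (20002, 16483), (20003, 20003), (20004, 16487), (20005, 16795), (20006, 19949), (20007, 16650), (20008, 21317), (20009, 16509), (20010, 22044), (20011, 22060), (20012, 21308), (20013, 21244), (20014, 16514), (20015, 16518), (20016,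 17126), (20017, 17853), (20018, 21467), (20019, 17078), (20020, 18867), (20021, 20688), (20022, 18606), (20023, 16544), (20024, 16546), (20025, 22072), (20026, 20366), (20027, 21343), (20028, 21765), (20029, 22075), (20030, 22078), (20031, 16549)]
    ⟨e3 q19968 (flp_b L254230) q22046, e3 q19969 L235663 q16501, e3 q19970 L235679 q17067, e3 q19971 (flp_b L239193) q20378, e3 q19972 (flp_b L237481) q20176, e3 q19973 L235703 q17087, e3 q19974 L235715 q18699, e3 q19975 (flp_b L246943) q21255, e3 q19976 L247495 q21319, e3 q19977 (flp_b L235733) q16406, e3 q19978 (flp_b L235741) q16411, e3 q19979 L235755 q17037, e3 q19980 L235771 q17851, e3 q19981 (flp_b L235773) q16422, e3 q19982 (flp_b L235789) q18126, e3 q19983 L254440 q22064, e3 q19984 L235807 q17165, e3 q19985 L235819 q17489, e3 q19986 (flp_b L235821) q16429, e3 q19987 (flp_b L235830) q16437, e3 q19988 (flp_b L241728) q20663, e3 q19989 L235850 q17765, e3 q19990 L235860 q16456, e3 q19991 L235880 q18381, e3 q19992 L235886 q17903, e3 q19993 (flp_b L240080) q20477, e3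 q19994 (flp_b L240351) q20508, e3 q19995 L235918 q16547, e3 q19996 L235924 q19786, e3 q19997 L235938 q18567, e3 q19998 L235946 q18200, e3 q19999 L235958 q16512, e3 q20000 L254490 q22068, e3 q20001 (flp_b L235972) q17239, e3 q20002 (flp_b L235974) q16483, e3 q20003 L235993 q20003, e3 q20004 (flp_b L235994) q16487, e3 q20005 L236007 q16795, e3 q20006 L236019 q19949, e3 q20007 L236031 q16650, e3 q20008 (flp_b L247477) q21317, e3 q20009 L236041 q16509, e3 q20010 (flp_b L254206) q22044, e3 q20011 (flp_b L254400) q22060, e3 q20012 L247391 q21308, e3 q20013 (flp_b L246835) q21244, e3 q20014 (flp_b L236079) q16514, e3 q20015 (flp_b L236089) q16518, e3 q20016 L236105 q17126, e3 q20017 L236121 q17853, e3 q20018 (flp_b L248796) q21467, e3 q20019 (flp_b L236137) q17078, e3 q20020 L236143 q18867, e3 q20021 (flp_b L241964) q20688, e3 q20022 L236157 q18606, e3 q20023 L236163 q16544, e3 q20024 L236169 q16546, e3 q20025 (flp_b L254536) q22072, e3 q20026 (flp_b L239107) q20366, e3 q20027 (flp_b L247741) q21343, e3 q20028 (flp_b L251371)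 q21765, e3 q20029 L254566 q22075, e3 q20030 L254582 q22078, e3 q20031 (flp_b L236217) q16549, trivial⟩ (by decide +kernel)

theorem ce_b_313 : ∀ r, r < 64 → sm gb (Qf (20032 + r)) = Qf (tab Gen.b (20032 + r)) :=
  edges_tab (sm gb) Qf (tab Gen.b) 20032 [(20032, 16551), (20033, 22079), (20034, 22081), (20035, 16552), (20036, 22061), (20037, 16561), (20038, 21509), (20039, 17164), (20040, 18923), (20041, 20725), (20042, 18610), (20043, 16579), (20044, 16581), (20045, 22085), (20046, 20416), (20047, 21351), (20048, 21789), (20049, 22088), (20050, 22091), (20051, 16584), (20052, 16586), (20053, 22092), (20054, 22094), (20055, 16587), (20056, 22056), (20057, 16596), (20058, 19366), (20059, 16605), (20060, 22097), (20061, 22100), (20062, 22101), (20063, 16606), (20064, 16607), (20065, 22102), (20066, 22104), (20067, 16612), (20068, 16614), (20069, 21912), (20070, 22108), (20071, 16616), (20072, 22110), (20073, 22112), (20074, 16619), (20075, 19581), (20076, 16628), (20077, 22114), (20078, 22115), (20079, 16631), (20080,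 22119), (20081, 21827), (20082, 16632), (20083, 22121), (20084, 16649), (20085, 16653), (20086, 21024), (20087, 18584), (20088, 22122), (20089, 16656), (20090, 22124), (20091, 18110), (20092, 16667), (20093, 16671), (20094, 21063), (20095, 18595)]
    ⟨e3 q20032 (flp_b L236227) q16551, e3 q20033 (flp_b L254596) q22079, e3 q20034 L254614 q22081, e3 q20035 (flp_b L236241) q16552, e3 q20036 (flp_b L254412) q22061, e3 q20037 (flp_b L236253) q16561, e3 q20038 (flp_b L249142) q21509, e3 q20039 (flp_b L236276) q17164, e3 q20040 L236282 q18923, e3 q20041 (flp_b L242330) q20725, e3 q20042 L236296 q18610, e3 q20043 L236302 q16579, e3 q20044 L236308 q16581, e3 q20045 (flp_b L254646) q22085, e3 q20046 (flp_b L239565) q20416, e3 q20047 (flp_b L247825) q21351, e3 q20048 (flp_b L251630) q21789, e3 q20049 L254676 q22088, e3 q20050 L254692 q22091, e3 q20051 (flp_b L236356) q16584, e3 q20052 (flp_b L236366) q16586, e3 q20053 (flp_b L254706) q22092, e3 q20054 L254724 q22094, e3 q20055 (flp_b L236380) q16587, e3 q20056 (flp_b L254348)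 q22056, e3 q20057 (flp_b L236392) q16596, e3 q20058 L236405 q19366, e3 q20059 L236415 q16605, e3 q20060 L254740 q22097, e3 q20061 L254764 q22100, e3 q20062 L254774 q22101, e3 q20063 (flp_b L236443) q16606, e3 q20064 (flp_b L236454) q16607, e3 q20065 L254786 q22102, e3 q20066 L254806 q22104, e3 q20067 (flp_b L236480) q16612, e3 q20068 (flp_b L236490) q16614, e3 q20069 (flp_b L252890) q21912, e3 q20070 L254836 q22108, e3 q20071 (flp_b L236502) q16616, e3 q20072 L254850 q22110, e3 q20073 L254870 q22112, e3 q20074 (flp_b L236526) q16619, e3 q20075 L236541 q19581, e3 q20076 L236551 q16628, e3 q20077 L254892 q22114, e3 q20078 L254895 q22115, e3 q20079 (flp_b L236569) q16631, e3 q20080 L254921 q22119, e3 q20081 (flp_b L252030) q21827, e3 q20082 (flp_b L236589) q16632, e3 q20083 L254935 q22121, e3 q20084 L236609 q16649, e3 q20085 L236625 q16653, e3 q20086 (flp_b L245043) q21024, e3 q20087 L236643 q18584, e3 q20088 (flp_b L254954) q22122, e3 q20089 L236661 q16656, e3 q20090 (flp_b L254970) q22124, e3 q20091 L236683 q18110,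 e3 q20092 L236691 q16667, e3 q20093 L236707 q16671, e3 q20094 (flp_b L245367) q21063, e3 q20095 L236725 q18595, trivial⟩ (by decide +kernel)

theorem ce_b_314 : ∀ r, r < 64 → sm gb (Qf (20096 + r)) = Qf (tab Gen.b (20096 + r)) :=
  edges_tab (sm gb) Qf (tab Gen.b) 20096 [(20096, 22126), (20097, 16674), (20098, 22128), (20099, 18164), (20100, 17968), (20101, 17971), (20102, 16985), (20103, 16889), (20104, 21731), (20105, 17974), (20106, 17956), (20107, 19682), (20108, 16686), (20109, 22131), (20110, 17011), (20111, 16900), (20112, 21616), (20113, 17980), (20114, 17961), (20115, 19777), (20116, 16692), (20117, 22133), (20118, 16696), (20119, 17732), (20120, 18547), (20121, 21670), (20122, 16700), (20123, 22134), (20124, 21068), (20125, 16705), (20126, 17663), (20127, 18554), (20128, 21540), (20129, 16709), (20130, 22135), (20131, 21031), (20132, 20159), (20133, 20796), (20134, 18583), (20135, 20154), (20136, 20792), (20137, 18594), (20138, 17680), (20139, 22139), (20140, 21400), (20141, 20145), (20142, 17748), (20143,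 22141), (20144, 21354), (20145, 20141), (20146, 16734), (20147, 21992), (20148, 22143), (20149, 16737), (20150, 21954), (20151, 22146), (20152, 21831), (20153, 20194), (20154, 20135), (20155, 20602), (20156, 16759), (20157, 21797), (20158, 20177), (20159, 20132)]
    ⟨e3 q20096 (flp_b L255000) q22126, e3 q20097 L236743 q16674, e3 q20098 (flp_b L255016) q22128, e3 q20099 L236765 q18164, e3 q20100 L236773 q17968, e3 q20101 L236779 q17971, e3 q20102 L236793 q16985, e3 q20103 L236799 q16889, e3 q20104 (flp_b L251043) q21731, e3 q20105 L236821 q17974, e3 q20106 L236829 q17956, e3 q20107 L236841 q19682, e3 q20108 (flp_b L236843) q16686, e3 q20109 L255044 q22131, e3 q20110 L236877 q17011, e3 q20111 L236883 q16900, e3 q20112 (flp_b L250007) q21616, e3 q20113 L236905 q17980, e3 q20114 L236913 q17961, e3 q20115 L236925 q19777, e3 q20116 (flp_b L236927) q16692, e3 q20117 L255068 q22133, e3 q20118 (flp_b L236949) q16696, e3 q20119 L236965 q17732, e3 q20120 L236983 q18547, e3 q20121 L250490 q21670, e3 q20122 (flp_b L236991)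 q16700, e3 q20123 L255082 q22134, e3 q20124 (flp_b L245425) q21068, e3 q20125 (flp_b L237019) q16705, e3 q20126 L237035 q17663, e3 q20127 L237053 q18554, e3 q20128 L249406 q21540, e3 q20129 (flp_b L237061) q16709, e3 q20130 L255096 q22135, e3 q20131 (flp_b L245119) q21031, e3 q20132 (flp_b L237334) q20159, e3 q20133 (flp_b L243019) q20796, e3 q20134 L237121 q18583, e3 q20135 (flp_b L237293) q20154, e3 q20136 (flp_b L242985) q20792, e3 q20137 L237155 q18594, e3 q20138 L237159 q17680, e3 q20139 L255138 q22139, e3 q20140 (flp_b L248243) q21400, e3 q20141 (flp_b L237225) q20145, e3 q20142 L237193 q17748, e3 q20143 L255158 q22141, e3 q20144 (flp_b L247855) q21354, e3 q20145 L237225 q20141, e3 q20146 (flp_b L237227) q16734, e3 q20147 (flp_b L253687) q21992, e3 q20148 L255182 q22143, e3 q20149 (flp_b L237253) q16737, e3 q20150 (flp_b L253320) q21954, e3 q20151 L255208 q22146, e3 q20152 (flp_b L252080) q21831, e3 q20153 (flp_b L237639) q20194, e3 q20154 L237293 q20135, e3 q20155 (flp_b L241206) q20602, e3 q20156 (flp_b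 L237307) q16759, e3 q20157 (flp_b L251722) q21797, e3 q20158 (flp_b L237493) q20177, e3 q20159 L237334 q20132, trivial⟩ (by decide +kernel)

theorem ce_b_315 : ∀ r, r < 64 → sm gb (Qf (20160 + r)) = Qf (tab Gen.b (20160 + r)) :=
  edges_tab (sm gb) Qf (tab Gen.b) 20160 [(20160, 20600), (20161, 16767), (20162, 19263), (20163, 19496), (20164, 20674), (20165, 16780), (20166, 21091), (20167, 22151), (20168, 16930), (20169, 20432), (20170, 16784), (20171, 16789), (20172, 22153), (20173, 22154), (20174, 16791), (20175, 22069), (20176, 19972), (20177, 20158), (20178, 16799), (20179, 22157), (20180, 16801), (20181, 20673), (20182, 16806), (20183, 21146), (20184, 22160), (20185, 16918), (20186, 20491), (20187, 16810), (20188, 16815), (20189, 22162), (20190, 22163), (20191, 16817), (20192, 19957), (20193, 22053), (20194, 20153), (20195, 16825), (20196, 22166), (20197, 16827), (20198, 17194), (20199, 19548), (20200, 20635), (20201, 18172), (20202, 17270), (20203, 19322), (20204, 20639), (20205, 18118), (20206, 16844), (20207,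 17506), (20208, 16846), (20209, 17501), (20210, 16848), (20211, 16850), (20212, 19500), (20213, 19264), (20214, 21340), (20215, 21338), (20216, 20216), (20217, 21348), (20218, 21346), (20219, 20219), (20220, 22168), (20221, 16890), (20222, 21887), (20223, 16894)]
    ⟨e3 q20160 (flp_b L241178) q20600, e3 q20161 (flp_b L237348) q16767, e3 q20162 L237365 q19263, e3 q20163 L237371 q19496, e3 q20164 (flp_b L241842) q20674, e3 q20165 (flp_b L237385) q16780, e3 q20166 (flp_b L245607) q21091, e3 q20167 L255252 q22151, e3 q20168 L237407 q16930, e3 q20169 (flp_b L239713) q20432, e3 q20170 (flp_b L237421) q16784, e3 q20171 (flp_b L237431) q16789, e3 q20172 (flp_b L255267) q22153, e3 q20173 L255273 q22154, e3 q20174 (flp_b L237453) q16791, e3 q20175 (flp_b L254508) q22069, e3 q20176 L237481 q19972, e3 q20177 L237493 q20158, e3 q20178 (flp_b L237495) q16799, e3 q20179 L255303 q22157, e3 q20180 (flp_b L237511) q16801, e3 q20181 (flp_b L241830) q20673, e3 q20182 (flp_b L237531) q16806, e3 q20183 (flp_b L246028) q21146, e3 q20184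 L255333 q22160, e3 q20185 L237553 q16918, e3 q20186 (flp_b L240197) q20491, e3 q20187 (flp_b L237567) q16810, e3 q20188 (flp_b L237577) q16815, e3 q20189 (flp_b L255348) q22162, e3 q20190 L255354 q22163, e3 q20191 (flp_b L237599) q16817, e3 q20192 L237617 q19957, e3 q20193 (flp_b L254314) q22053, e3 q20194 L237639 q20153, e3 q20195 (flp_b L237641) q16825, e3 q20196 L255386 q22166, e3 q20197 (flp_b L237657) q16827, e3 q20198 L237669 q17194, e3 q20199 L237683 q19548, e3 q20200 (flp_b L241476) q20635, e3 q20201 L237705 q18172, e3 q20202 L237711 q17270, e3 q20203 (flp_b L237725) q19322, e3 q20204 (flp_b L241512) q20639, e3 q20205 L237747 q18118, e3 q20206 (flp_b L237749) q16844, e3 q20207 L237768 q17506, e3 q20208 (flp_b L237770) q16846, e3 q20209 L237789 q17501, e3 q20210 (flp_b L237791) q16848, e3 q20211 (flp_b L237804) q16850, e3 q20212 L237825 q19500, e3 q20213 L237835 q19264, e3 q20214 (flp_b L247719) q21340, e3 q20215 (flp_b L247695) q21338, e3 q20216 L237861 q20216, e3 q20217 (flp_b L247803) q21348, e3 q20218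 (flp_b L247779) q21346, e3 q20219 L237886 q20219, e3 q20220 L255402 q22168, e3 q20221 (flp_b L237897) q16890, e3 q20222 (flp_b L252626) q21887, e3 q20223 (flp_b L237909) q16894, trivial⟩ (by decide +kernel)

theorem ce_b_316 : ∀ r, r < 64 → sm gb (Qf (20224 + r)) = Qf (tab Gen.b (20224 + r)) :=
  edges_tab (sm gb) Qf (tab Gen.b) 20224 [(20224, 21374), (20225, 22173), (20226, 16896), (20227, 22175), (20228, 16901), (20229, 21793), (20230, 16905), (20231, 21418), (20232, 22180), (20233, 16907), (20234, 20438), (20235, 20496), (20236, 16913), (20237, 21654), (20238, 16916), (20239, 16917), (20240, 22183), (20241, 22186), (20242, 22187), (20243, 21648), (20244, 16920), (20245, 22188), (20246, 16922), (20247, 21067), (20248, 16925), (20249, 21758), (20250, 16928), (20251, 16929), (20252, 22190), (20253, 22193), (20254, 22194), (20255, 21754), (20256, 16932), (20257, 22195), (20258, 16934), (20259, 21030), (20260, 17212), (20261, 19750), (20262, 20794), (20263, 20274), (20264, 18246), (20265, 21252), (20266, 16945), (20267,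 21387), (20268, 16947), (20269, 21193), (20270, 19693), (20271, 17288), (20272, 19842), (20273, 20798), (20274, 20263), (20275, 18305), (20276, 21241), (20277, 16960), (20278, 21431), (20279, 16962), (20280, 21144), (20281, 19788), (20282, 22206), (20283, 18960), (20284, 21140), (20285, 20285), (20286, 22210), (20287, 18954)]
    ⟨e3 q20224 (flp_b L248025) q21374, e3 q20225 L255432 q22173, e3 q20226 (flp_b L237927) q16896, e3 q20227 L255454 q22175, e3 q20228 (flp_b L237939) q16901, e3 q20229 (flp_b L251672) q21793, e3 q20230 (flp_b L237951) q16905, e3 q20231 (flp_b L248393) q21418, e3 q20232 L255484 q22180, e3 q20233 (flp_b L237969) q16907, e3 q20234 (flp_b L239769) q20438, e3 q20235 (flp_b L240247) q20496, e3 q20236 (flp_b L237991) q16913, e3 q20237 (flp_b L250326) q21654, e3 q20238 (flp_b L237997) q16916, e3 q20239 (flp_b L238003) q16917, e3 q20240 (flp_b L255514) q22183, e3 q20241 L255538 q22186, e3 q20242 L255543 q22187, e3 q20243 (flp_b L250270) q21648, e3 q20244 (flp_b L238037) q16920, e3 q20245 L255557 q22188,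 e3 q20246 (flp_b L238049) q16922, e3 q20247 L245413 q21067, e3 q20248 (flp_b L238065) q16925, e3 q20249 (flp_b L251301) q21758, e3 q20250 (flp_b L238071) q16928, e3 q20251 (flp_b L238077) q16929, e3 q20252 (flp_b L255577) q22190, e3 q20253 L255601 q22193, e3 q20254 L255606 q22194, e3 q20255 (flp_b L251259) q21754, e3 q20256 (flp_b L238117) q16932, e3 q20257 L255620 q22195, e3 q20258 (flp_b L238129) q16934, e3 q20259 L245107 q21030, e3 q20260 L238151 q17212, e3 q20261 L238159 q19750, e3 q20262 (flp_b L243003) q20794, e3 q20263 L238267 q20274, e3 q20264 L238185 q18246, e3 q20265 (flp_b L246919) q21252, e3 q20266 (flp_b L238191) q16945, e3 q20267 (flp_b L248137) q21387, e3 q20268 L238213 q16947, e3 q20269 (flp_b L246405) q21193, e3 q20270 (flp_b L238235) q19693, e3 q20271 L238243 q17288, e3 q20272 L238251 q19842, e3 q20273 (flp_b L243037) q20798, e3 q20274 (flp_b L238267) q20263, e3 q20275 L238279 q18305, e3 q20276 (flp_b L246811) q21241, e3 q20277 (flp_b L238285) q16960, e3 q20278 (flp_b L248507) q21431, e3 q20279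 L238309 q16962, e3 q20280 (flp_b L246006) q21144, e3 q20281 (flp_b L238331) q19788, e3 q20282 L255758 q22206, e3 q20283 L238345 q18960, e3 q20284 (flp_b L245970) q21140, e3 q20285 L238363 q20285, e3 q20286 L255802 q22210, e3 q20287 L238368 q18954, trivial⟩ (by decide +kernel)

theorem ce_b_317 : ∀ r, r < 64 → sm gb (Qf (20288 + r)) = Qf (tab Gen.b (20288 + r)) :=
  edges_tab (sm gb) Qf (tab Gen.b) 20288 [(20288, 18401), (20289, 16972), (20290, 20290), (20291, 19175), (20292, 19704), (20293, 19191), (20294, 21438), (20295, 16980), (20296, 22216), (20297, 18312), (20298, 20712), (20299, 22220), (20300, 16983), (20301, 18675), (20302, 22221), (20303, 19098), (20304, 21189), (20305, 20305), (20306, 22225), (20307, 19094), (20308, 18403), (20309, 16997), (20310, 20310), (20311, 19038), (20312, 19053), (20313, 19798), (20314, 21393), (20315, 17005), (20316, 22231), (20317, 18255), (20318, 20675), (20319, 22235), (20320, 17008), (20321, 18670), (20322, 18552), (20323, 17025), (20324, 17029), (20325, 21784), (20326, 18446),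 (20327, 17031), (20328, 19746), (20329, 17032), (20330, 19361), (20331, 19576), (20332, 19743), (20333, 17034), (20334, 21860), (20335, 17041), (20336, 19836), (20337, 17124), (20338, 20802), (20339, 22240), (20340, 18384), (20341, 18217), (20342, 20649), (20343, 20834), (20344, 17053), (20345, 17149), (20346, 19477), (20347, 17057), (20348, 19335), (20349, 19559), (20350, 21304), (20351, 17060)]
    ⟨e3 q20288 (flp_b L238380) q18401, e3 q20289 (flp_b L238382) q16972, e3 q20290 L238402 q20290, e3 q20291 L238405 q19175, e3 q20292 L238415 q19704, e3 q20293 L238425 q19191, e3 q20294 (flp_b L248559) q21438, e3 q20295 (flp_b L238435) q16980, e3 q20296 (flp_b L255869) q22216, e3 q20297 (flp_b L238457) q18312, e3 q20298 L242222 q20712, e3 q20299 L255905 q22220, e3 q20300 (flp_b L238471) q16983, e3 q20301 L238485 q18675, e3 q20302 L255915 q22221, e3 q20303 L238501 q19098, e3 q20304 (flp_b L246369) q21189, e3 q20305 L238519 q20305, e3 q20306 L255959 q22225, e3 q20307 L238524 q19094, e3 q20308 (flp_b L238536) q18403, e3 q20309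 (flp_b L238538) q16997, e3 q20310 L238558 q20310, e3 q20311 L238561 q19038, e3 q20312 L238569 q19053, e3 q20313 L238579 q19798, e3 q20314 (flp_b L248179) q21393, e3 q20315 (flp_b L238591) q17005, e3 q20316 (flp_b L256026) q22231, e3 q20317 L238613 q18255, e3 q20318 L241860 q20675, e3 q20319 L256064 q22235, e3 q20320 (flp_b L238627) q17008, e3 q20321 (flp_b L238641) q18670, e3 q20322 (flp_b L238653) q18552, e3 q20323 (flp_b L238655) q17025, e3 q20324 L238669 q17029, e3 q20325 (flp_b L251586) q21784, e3 q20326 L238685 q18446, e3 q20327 (flp_b L238693) q17031, e3 q20328 L238717 q19746, e3 q20329 (flp_b L238719) q17032, e3 q20330 L238741 q19361, e3 q20331 L238753 q19576, e3 q20332 L238771 q19743, e3 q20333 (flp_b L238773) q17034, e3 q20334 (flp_b L252347) q21860, e3 q20335 (flp_b L238787) q17041, e3 q20336 (flp_b L238809) q19836, e3 q20337 (flp_b L238817) q17124, e3 q20338 (flp_b L243075) q20802, e3 q20339 L256124 q22240, e3 q20340 L238851 q18384, e3 q20341 L238857 q18217, e3 q20342 L241630 q20649, e3 q20343 (flp_b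 L243465) q20834, e3 q20344 (flp_b L238869) q17053, e3 q20345 L238887 q17149, e3 q20346 (flp_b L238903) q19477, e3 q20347 (flp_b L238905) q17057, e3 q20348 L238929 q19335, e3 q20349 L238941 q19559, e3 q20350 (flp_b L247357) q21304, e3 q20351 (flp_b L238957) q17060, trivial⟩ (by decide +kernel)

theorem ce_b_318 : ∀ r, r < 64 → sm gb (Qf (20352 + r)) = Qf (tab Gen.b (20352 + r)) :=
  edges_tab (sm gb) Qf (tab Gen.b) 20352 [(20352, 17062), (20353, 21119), (20354, 21865), (20355, 20440), (20356, 21761), (20357, 21172), (20358, 20632), (20359, 19958), (20360, 19230), (20361, 17185), (20362, 17072), (20363, 20415), (20364, 21459), (20365, 20413), (20366, 20026), (20367, 22070), (20368, 22045), (20369, 17178), (20370, 19918), (20371, 21250), (20372, 17085), (20373, 18298), (20374, 17300), (20375, 21796), (20376, 22063), (20377, 17086), (20378, 19971), (20379, 19467), (20380, 17106), (20381, 19268), (20382, 21324), (20383, 17095), (20384, 22047), (20385, 17097), (20386, 19905), (20387, 17103), (20388, 19501), (20389, 21329),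 (20390, 18045), (20391, 17158), (20392, 18544), (20393, 17115), (20394, 17120), (20395, 21881), (20396, 17121), (20397, 19839), (20398, 17123), (20399, 21934), (20400, 17131), (20401, 20812), (20402, 22258), (20403, 18191), (20404, 20622), (20405, 20831), (20406, 17142), (20407, 19241), (20408, 17146), (20409, 21315), (20410, 17151), (20411, 20498), (20412, 20659), (20413, 20365), (20414, 21501), (20415, 20363)]
    ⟨e3 q20352 (flp_b L238971) q17062, e3 q20353 (flp_b L245813) q21119, e3 q20354 (flp_b L252399) q21865, e3 q20355 (flp_b L239785) q20440, e3 q20356 (flp_b L251339) q21761, e3 q20357 (flp_b L246224) q21172, e3 q20358 (flp_b L241460) q20632, e3 q20359 L239041 q19958, e3 q20360 L239053 q19230, e3 q20361 L239067 q17185, e3 q20362 (flp_b L239069) q17072, e3 q20363 (flp_b L239553) q20415, e3 q20364 L248738 q21459, e3 q20365 (flp_b L239533) q20413, e3 q20366 L239107 q20026, e3 q20367 L254520 q22070, e3 q20368 (flp_b L254224) q22045, e3 q20369 L239127 q17178, e3 q20370 L239139 q19918, e3 q20371 (flp_b L246897)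 q21250, e3 q20372 L239149 q17085, e3 q20373 (flp_b L239393) q18298, e3 q20374 L239159 q17300, e3 q20375 (flp_b L251706) q21796, e3 q20376 (flp_b L254438) q22063, e3 q20377 (flp_b L239177) q17086, e3 q20378 L239193 q19971, e3 q20379 L239211 q19467, e3 q20380 L239223 q17106, e3 q20381 L239233 q19268, e3 q20382 (flp_b L247545) q21324, e3 q20383 L239243 q17095, e3 q20384 (flp_b L254248) q22047, e3 q20385 L239261 q17097, e3 q20386 L239273 q19905, e3 q20387 L239279 q17103, e3 q20388 L239293 q19501, e3 q20389 (flp_b L247604) q21329, e3 q20390 L239311 q18045, e3 q20391 L239319 q17158, e3 q20392 (flp_b L239329) q18544, e3 q20393 (flp_b L239331) q17115, e3 q20394 L239345 q17120, e3 q20395 (flp_b L252572) q21881, e3 q20396 (flp_b L239357) q17121, e3 q20397 L239381 q19839, e3 q20398 (flp_b L239383) q17123, e3 q20399 (flp_b L253124) q21934, e3 q20400 (flp_b L239403) q17131, e3 q20401 (flp_b L243201) q20812, e3 q20402 L256314 q22258, e3 q20403 L239435 q18191, e3 q20404 L241396 q20622, e3 q20405 (flp_b L243439) q20831, e3 q20406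 (flp_b L239447) q17142, e3 q20407 (flp_b L239467) q19241, e3 q20408 (flp_b L239469) q17146, e3 q20409 (flp_b L247461) q21315, e3 q20410 (flp_b L239493) q17151, e3 q20411 (flp_b L240263) q20498, e3 q20412 (flp_b L241694) q20659, e3 q20413 L239533 q20365, e3 q20414 L249078 q21501, e3 q20415 L239553 q20363, trivial⟩ (by decide +kernel)

theorem ce_b_319 : ∀ r, r < 64 → sm gb (Qf (20416 + r)) = Qf (tab Gen.b (20416 + r)) :=
  edges_tab (sm gb) Qf (tab Gen.b) 20416 [(20416, 20046), (20417, 22083), (20418, 21239), (20419, 17170), (20420, 18240), (20421, 17224), (20422, 22058), (20423, 21890), (20424, 17172), (20425, 17177), (20426, 17183), (20427, 18074), (20428, 18068), (20429, 19396), (20430, 18273), (20431, 20698), (20432, 20169), (20433, 19601), (20434, 22150), (20435, 17195), (20436, 22264), (20437, 18492), (20438, 20234), (20439, 19547), (20440, 20355), (20441, 17206), (20442, 20532), (20443, 21489), (20444, 17796), (20445, 18340), (20446, 20504), (20447, 17210), (20448, 22037), (20449, 21065), (20450, 19935), (20451,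 17215), (20452, 21330), (20453, 20823), (20454, 22263), (20455, 17226), (20456, 21799), (20457, 20551), (20458, 17259), (20459, 22269), (20460, 20517), (20461, 19674), (20462, 22067), (20463, 19270), (20464, 19684), (20465, 17797), (20466, 22270), (20467, 17243), (20468, 17244), (20469, 20546), (20470, 22273), (20471, 22275), (20472, 20565), (20473, 17249), (20474, 22278), (20475, 17250), (20476, 20500), (20477, 19993), (20478, 17696), (20479, 19262)]
    ⟨e3 q20416 L239565 q20046, e3 q20417 L254630 q22083, e3 q20418 (flp_b L246789) q21239, e3 q20419 L239583 q17170, e3 q20420 L239595 q18240, e3 q20421 L239599 q17224, e3 q20422 (flp_b L254376) q22058, e3 q20423 (flp_b L252662) q21890, e3 q20424 (flp_b L239617) q17172, e3 q20425 L239631 q17177, e3 q20426 L239643 q17183, e3 q20427 L239659 q18074, e3 q20428 L239669 q18068, e3 q20429 L239683 q19396, e3 q20430 L239693 q18273, e3 q20431 (flp_b L242076) q20698, e3 q20432 L239713 q20169, e3 q20433 L239727 q19601, e3 q20434 (flp_b L255248) q22150, e3 q20435 (flp_b L239735)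 q17195, e3 q20436 (flp_b L256396) q22264, e3 q20437 L239759 q18492, e3 q20438 L239769 q20234, e3 q20439 L239777 q19547, e3 q20440 L239785 q20355, e3 q20441 L239793 q17206, e3 q20442 L240549 q20532, e3 q20443 (flp_b L248976) q21489, e3 q20444 (flp_b L239811) q17796, e3 q20445 L239821 q18340, e3 q20446 (flp_b L240311) q20504, e3 q20447 (flp_b L239831) q17210, e3 q20448 (flp_b L254128) q22037, e3 q20449 (flp_b L245385) q21065, e3 q20450 L239867 q19935, e3 q20451 (flp_b L239869) q17215, e3 q20452 (flp_b L247618) q21330, e3 q20453 (flp_b L243347) q20823, e3 q20454 (flp_b L256384) q22263, e3 q20455 (flp_b L239905) q17226, e3 q20456 (flp_b L251740) q21799, e3 q20457 (flp_b L240710) q20551, e3 q20458 L239943 q17259, e3 q20459 L256448 q22269, e3 q20460 (flp_b L240437) q20517, e3 q20461 L239967 q19674, e3 q20462 (flp_b L254488) q22067, e3 q20463 (flp_b L239995) q19270, e3 q20464 L240001 q19684, e3 q20465 L240011 q17797, e3 q20466 L256460 q22270, e3 q20467 (flp_b L240019) q17243, e3 q20468 (flp_b L240027) q17244, e3 q20469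 (flp_b L240666) q20546, e3 q20470 L256490 q22273, e3 q20471 L256507 q22275, e3 q20472 (flp_b L240821) q20565, e3 q20473 (flp_b L240051) q17249, e3 q20474 L256533 q22278, e3 q20475 (flp_b L240061) q17250, e3 q20476 (flp_b L240279) q20500, e3 q20477 L240080 q19993, e3 q20478 L240089 q17696, e3 q20479 L240101 q19262, trivial⟩ (by decide +kernel)

theorem ce_b_320 : ∀ r, r < 64 → sm gb (Qf (20480 + r)) = Qf (tab Gen.b (20480 + r)) :=
  edges_tab (sm gb) Qf (tab Gen.b) 20480 [(20480, 17255), (20481, 22282), (20482, 20539), (20483, 22140), (20484, 17256), (20485, 17257), (20486, 18039), (20487, 19602), (20488, 18330), (20489, 22159), (20490, 20731), (20491, 20186), (20492, 19394), (20493, 17271), (20494, 22284), (20495, 18523), (20496, 20235), (20497, 19320), (20498, 20411), (20499, 17282), (20500, 20476), (20501, 21447), (20502, 17781), (20503, 18283), (20504, 20446), (20505, 17286), (20506, 22023), (20507, 21027), (20508, 19994), (20509, 17291), (20510, 21325), (20511, 20824), (20512, 22249), (20513, 17302), (20514,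 21892), (20515, 17334), (20516, 20577), (20517, 20460), (20518, 22289), (20519, 19768), (20520, 19503), (20521, 22052), (20522, 19778), (20523, 22290), (20524, 17780), (20525, 17319), (20526, 17320), (20527, 20572), (20528, 22293), (20529, 22295), (20530, 20584), (20531, 17325), (20532, 20442), (20533, 17326), (20534, 22297), (20535, 19934), (20536, 17764), (20537, 19495), (20538, 17331), (20539, 20482), (20540, 22301), (20541, 22138), (20542, 17332), (20543, 17333)]
    ⟨e3 q20480 L240107 q17255, e3 q20481 L256573 q22282, e3 q20482 (flp_b L240607) q20539, e3 q20483 (flp_b L255156) q22140, e3 q20484 (flp_b L240129) q17256, e3 q20485 (flp_b L240135) q17257, e3 q20486 L240147 q18039, e3 q20487 L240161 q19602, e3 q20488 L240171 q18330, e3 q20489 (flp_b L255329) q22159, e3 q20490 (flp_b L242400) q20731, e3 q20491 L240197 q20186, e3 q20492 L240211 q19394, e3 q20493 (flp_b L240213) q17271, e3 q20494 (flp_b L256597) q22284, e3 q20495 L240237 q18523, e3 q20496 L240247 q20235, e3 q20497 L240255 q19320, e3 q20498 L240263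 q20411, e3 q20499 L240271 q17282, e3 q20500 L240279 q20476, e3 q20501 (flp_b L248640) q21447, e3 q20502 (flp_b L240291) q17781, e3 q20503 L240301 q18283, e3 q20504 L240311 q20446, e3 q20505 (flp_b L240313) q17286, e3 q20506 (flp_b L253986) q22023, e3 q20507 (flp_b L245073) q21027, e3 q20508 L240351 q19994, e3 q20509 (flp_b L240353) q17291, e3 q20510 (flp_b L247559) q21325, e3 q20511 (flp_b L243361) q20824, e3 q20512 (flp_b L256226) q22249, e3 q20513 (flp_b L240389) q17302, e3 q20514 (flp_b L252684) q21892, e3 q20515 L240417 q17334, e3 q20516 (flp_b L240952) q20577, e3 q20517 L240437 q20460, e3 q20518 L256653 q22289, e3 q20519 L240453 q19768, e3 q20520 (flp_b L240471) q19503, e3 q20521 (flp_b L254306) q22052, e3 q20522 L240487 q19778, e3 q20523 L256665 q22290, e3 q20524 L240503 q17780, e3 q20525 (flp_b L240505) q17319, e3 q20526 (flp_b L240511) q17320, e3 q20527 (flp_b L240898) q20572, e3 q20528 L256697 q22293, e3 q20529 L256717 q22295, e3 q20530 (flp_b L241010) q20584, e3 q20531 (flp_b L240537) q17325, e3 q20532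 (flp_b L240549) q20442, e3 q20533 (flp_b L240551) q17326, e3 q20534 L256738 q22297, e3 q20535 L240568 q19934, e3 q20536 L240577 q17764, e3 q20537 L240589 q19495, e3 q20538 L240595 q17331, e3 q20539 L240607 q20482, e3 q20540 L256780 q22301, e3 q20541 (flp_b L255136) q22138, e3 q20542 (flp_b L240623) q17332, e3 q20543 (flp_b L240631) q17333, trivial⟩ (by decide +kernel)

theorem ce_b_321 : ∀ r, r < 64 → sm gb (Qf (20544 + r)) = Qf (tab Gen.b (20544 + r)) :=
  edges_tab (sm gb) Qf (tab Gen.b) 20544 [(20544, 20544), (20545, 21503), (20546, 20469), (20547, 22304), (20548, 21935), (20549, 17345), (20550, 17346), (20551, 20457), (20552, 17365), (20553, 17350), (20554, 22306), (20555, 20579), (20556, 17352), (20557, 17353), (20558, 19404), (20559, 22308), (20560, 22309), (20561, 17358), (20562, 22312), (20563, 20563), (20564, 22314), (20565, 20472), (20566, 22316), (20567, 19460), (20568, 17362), (20569, 17363), (20570, 20570), (20571, 21461), (20572, 20527), (20573, 21861), (20574, 17373), (20575, 17374), (20576, 17389),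 (20577, 20516), (20578, 17378), (20579, 20555), (20580, 22318), (20581, 17380), (20582, 17381), (20583, 19609), (20584, 20530), (20585, 19660), (20586, 17388), (20587, 21941), (20588, 18598), (20589, 17453), (20590, 18600), (20591, 21979), (20592, 18589), (20593, 17478), (20594, 18591), (20595, 20609), (20596, 19533), (20597, 20612), (20598, 19305), (20599, 19593), (20600, 20160), (20601, 19378), (20602, 20155), (20603, 22259), (20604, 22242), (20605, 17527), (20606, 17531), (20607, 17534)]
    ⟨e3 q20544 L240641 q20544, e3 q20545 (flp_b L249090) q21503, e3 q20546 L240666 q20469, e3 q20547 L256808 q22304, e3 q20548 (flp_b L253130) q21935, e3 q20549 (flp_b L240682) q17345, e3 q20550 (flp_b L240694) q17346, e3 q20551 L240710 q20457, e3 q20552 L240722 q17365, e3 q20553 (flp_b L240724) q17350, e3 q20554 L256832 q22306, e3 q20555 L240970 q20579, e3 q20556 (flp_b L240744) q17352, e3 q20557 (flp_b L240752) q17353, e3 q20558 L240762 q19404, e3 q20559 L256858 q22308, e3 q20560 L256866 q22309, e3 q20561 (flp_b L240786) q17358,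 e3 q20562 L256888 q22312, e3 q20563 L240806 q20563, e3 q20564 L256900 q22314, e3 q20565 L240821 q20472, e3 q20566 L256921 q22316, e3 q20567 (flp_b L240845) q19460, e3 q20568 (flp_b L240847) q17362, e3 q20569 (flp_b L240855) q17363, e3 q20570 L240869 q20570, e3 q20571 (flp_b L248750) q21461, e3 q20572 L240898 q20527, e3 q20573 (flp_b L252353) q21861, e3 q20574 (flp_b L240912) q17373, e3 q20575 (flp_b L240918) q17374, e3 q20576 L240940 q17389, e3 q20577 L240952 q20516, e3 q20578 (flp_b L240954) q17378, e3 q20579 (flp_b L240970) q20555, e3 q20580 L256943 q22318, e3 q20581 (flp_b L240978) q17380, e3 q20582 (flp_b L240986) q17381, e3 q20583 L240998 q19609, e3 q20584 L241010 q20530, e3 q20585 (flp_b L241030) q19660, e3 q20586 (flp_b L241032) q17388, e3 q20587 (flp_b L253204) q21941, e3 q20588 L241056 q18598, e3 q20589 (flp_b L241058) q17453, e3 q20590 L241072 q18600, e3 q20591 (flp_b L253569) q21979, e3 q20592 L241088 q18589, e3 q20593 (flp_b L241090) q17478, e3 q20594 L241106 q18591, e3 q20595 (flp_b L241281) q20609,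 e3 q20596 L241124 q19533, e3 q20597 (flp_b L241312) q20612, e3 q20598 L241146 q19305, e3 q20599 (flp_b L241164) q19593, e3 q20600 L241178 q20160, e3 q20601 (flp_b L241192) q19378, e3 q20602 L241206 q20155, e3 q20603 (flp_b L256326) q22259, e3 q20604 (flp_b L256150) q22242, e3 q20605 (flp_b L241224) q17527, e3 q20606 (flp_b L241238) q17531, e3 q20607 (flp_b L241252) q17534, trivial⟩ (by decide +kernel)

theorem ce_b_322 : ∀ r, r < 64 → sm gb (Qf (20608 + r)) = Qf (tab Gen.b (20608 + r)) :=
  edges_tab (sm gb) Qf (tab Gen.b) 20608 [(20608, 17535), (20609, 20595), (20610, 17538), (20611, 17539), (20612, 20597), (20613, 21774), (20614, 22320), (20615, 20742), (20616, 21873), (20617, 22323), (20618, 20709), (20619, 19521), (20620, 19293), (20621, 17562), (20622, 20404), (20623, 17565), (20624, 22325), (20625, 17567), (20626, 22327), (20627, 17569), (20628, 22331), (20629, 17573), (20630, 20677), (20631, 22329), (20632, 20358), (20633, 22335), (20634, 20661), (20635, 20200), (20636, 17581), (20637, 19928), (20638, 18162),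 (20639, 20204), (20640, 19595), (20641, 17583), (20642, 17585), (20643, 20711), (20644, 18113), (20645, 19370), (20646, 17588), (20647, 17856), (20648, 17590), (20649, 20342), (20650, 17593), (20651, 22339), (20652, 17595), (20653, 22341), (20654, 17597), (20655, 22345), (20656, 17601), (20657, 20714), (20658, 22343), (20659, 20412), (20660, 22349), (20661, 20634), (20662, 17609), (20663, 19988), (20664, 18108), (20665, 19380), (20666, 17611), (20667, 17613), (20668, 20744), (20669, 18167), (20670, 19585), (20671, 17616)]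
    ⟨e3 q20608 (flp_b L241261) q17535, e3 q20609 L241281 q20595, e3 q20610 (flp_b L241283) q17538, e3 q20611 (flp_b L241292) q17539, e3 q20612 L241312 q20597, e3 q20613 (flp_b L251465) q21774, e3 q20614 L256961 q22320, e3 q20615 L242519 q20742, e3 q20616 (flp_b L252475) q21873, e3 q20617 L256979 q22323, e3 q20618 L242195 q20709, e3 q20619 L241358 q19521, e3 q20620 L241372 q19293, e3 q20621 (flp_b L241374) q17562, e3 q20622 (flp_b L241396) q20404, e3 q20623 L241402 q17565, e3 q20624 L256997 q22325, e3 q20625 (flp_b L241420) q17567, e3 q20626 L257013 q22327, e3 q20627 (flp_b L241430) q17569, e3 q20628 L257039 q22331, e3 q20629 L241438 q17573, e3 q20630 (flp_b L241872) q20677, e3 q20631 (flp_b L257031) q22329, e3 q20632 L241460 q20358, e3 q20633 L257081 q22335, e3 q20634 L241706 q20661, e3 q20635 L241476 q20200, e3 q20636 L241484 q17581, e3 q20637 L241502 q19928, e3 q20638 L241506 q18162, e3 q20639 L241512 q20204, e3 q20640 (flp_b L241526) q19595, e3 q20641 (flp_b L241528) q17583, e3 q20642 (flp_b L241538) q17585,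 e3 q20643 (flp_b L242210) q20711, e3 q20644 L241572 q18113, e3 q20645 L241582 q19370, e3 q20646 (flp_b L241584) q17588, e3 q20647 L241606 q17856, e3 q20648 (flp_b L241608) q17590, e3 q20649 (flp_b L241630) q20342, e3 q20650 L241636 q17593, e3 q20651 L257117 q22339, e3 q20652 (flp_b L241654) q17595, e3 q20653 L257133 q22341, e3 q20654 (flp_b L241664) q17597, e3 q20655 L257159 q22345, e3 q20656 L241672 q17601, e3 q20657 (flp_b L242234) q20714, e3 q20658 (flp_b L257151) q22343, e3 q20659 L241694 q20412, e3 q20660 L257199 q22349, e3 q20661 (flp_b L241706) q20634, e3 q20662 L241710 q17609, e3 q20663 L241728 q19988, e3 q20664 L241732 q18108, e3 q20665 (flp_b L241742) q19380, e3 q20666 (flp_b L241744) q17611, e3 q20667 (flp_b L241754) q17613, e3 q20668 (flp_b L242534) q20744, e3 q20669 L241788 q18167, e3 q20670 L241798 q19585, e3 q20671 (flp_b L241800) q17616, trivial⟩ (by decide +kernel)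

theorem ce_b_323 : ∀ r, r < 64 → sm gb (Qf (20672 + r)) = Qf (tab Gen.b (20672 + r)) :=
  edges_tab (sm gb) Qf (tab Gen.b) 20672 [(20672, 17868), (20673, 20181), (20674, 20164), (20675, 20318), (20676, 17629), (20677, 20630), (20678, 18396), (20679, 21118), (20680, 17641), (20681, 19524), (20682, 19681), (20683, 20818), (20684, 17643), (20685, 21391), (20686, 19517), (20687, 19459), (20688, 20021), (20689, 18879), (20690, 17738), (20691, 19236), (20692, 19028), (20693, 17666), (20694, 18999), (20695, 20967), (20696, 18934), (20697, 17670), (20698, 20431), (20699, 18335), (20700, 18399), (20701, 21959), (20702, 20708), (20703, 17685), (20704, 20707), (20705, 22357), (20706, 17688), (20707, 20704), (20708, 20702), (20709, 20618), (20710, 19330), (20711, 20643), (20712, 20298), (20713, 17701), (20714, 20657), (20715, 18458), (20716, 21168), (20717, 17713), (20718, 19296), (20719, 19774), (20720, 20808), (20721, 17715), (20722, 21435), (20723, 19288), (20724, 19659), (20725, 20041), (20726, 19470), (20727, 19165),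 (20728, 17735), (20729, 19138), (20730, 20993), (20731, 20490), (20732, 18278), (20733, 18461), (20734, 21998), (20735, 20741)]
    ⟨e3 q20672 L241824 q17868, e3 q20673 L241830 q20181, e3 q20674 L241842 q20164, e3 q20675 (flp_b L241860) q20318, e3 q20676 (flp_b L241862) q17629, e3 q20677 L241872 q20630, e3 q20678 L241884 q18396, e3 q20679 (flp_b L245803) q21118, e3 q20680 (flp_b L241894) q17641, e3 q20681 (flp_b L241912) q19524, e3 q20682 (flp_b L241920) q19681, e3 q20683 L243289 q20818, e3 q20684 (flp_b L241926) q17643, e3 q20685 (flp_b L248161) q21391, e3 q20686 L241946 q19517, e3 q20687 L241958 q19459, e3 q20688 L241964 q20021, e3 q20689 L241978 q18879, e3 q20690 L241988 q17738, e3 q20691 L242000 q19236, e3 q20692 L242006 q19028, e3 q20693 L242018 q17666, e3 q20694 L242032 q18999, e3 q20695 (flp_b L244619) q20967, e3 q20696 L242052 q18934, e3 q20697 L242056 q17670, e3 q20698 L242076 q20431, e3 q20699 L242082 q18335, e3 q20700 L242104 q18399, e3 q20701 (flp_b L253375) q21959, e3 q20702 (flp_b L242188) q20708,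 e3 q20703 (flp_b L242128) q17685, e3 q20704 L242176 q20707, e3 q20705 L257287 q22357, e3 q20706 (flp_b L242158) q17688, e3 q20707 (flp_b L242176) q20704, e3 q20708 L242188 q20702, e3 q20709 (flp_b L242195) q20618, e3 q20710 L242200 q19330, e3 q20711 L242210 q20643, e3 q20712 (flp_b L242222) q20298, e3 q20713 (flp_b L242224) q17701, e3 q20714 L242234 q20657, e3 q20715 L242248 q18458, e3 q20716 (flp_b L246194) q21168, e3 q20717 (flp_b L242258) q17713, e3 q20718 (flp_b L242276) q19296, e3 q20719 (flp_b L242284) q19774, e3 q20720 L243163 q20808, e3 q20721 (flp_b L242290) q17715, e3 q20722 (flp_b L248531) q21435, e3 q20723 L242310 q19288, e3 q20724 L242324 q19659, e3 q20725 L242330 q20041, e3 q20726 L242346 q19470, e3 q20727 L242352 q19165, e3 q20728 L242364 q17735, e3 q20729 L242378 q19138, e3 q20730 (flp_b L244804) q20993, e3 q20731 L242400 q20490, e3 q20732 L242406 q18278, e3 q20733 L242428 q18461, e3 q20734 (flp_b L253748) q21998, e3 q20735 (flp_b L242512) q20741, trivial⟩ (by decide +kernel)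

theorem ce_b_324 : ∀ r, r < 64 → sm gb (Qf (20736 + r)) = Qf (tab Gen.b (20736 + r)) :=
  edges_tab (sm gb) Qf (tab Gen.b) 20736 [(20736, 17754), (20737, 20740), (20738, 22363), (20739, 17756), (20740, 20737), (20741, 20735), (20742, 20615), (20743, 19556), (20744, 20668), (20745, 19630), (20746, 19562), (20747, 17769), (20748, 20779), (20749, 22368), (20750, 19341), (20751, 19077), (20752, 19342), (20753, 17774), (20754, 19554), (20755, 22145), (20756, 22285), (20757, 17784), (20758, 19429), (20759, 17788), (20760, 20789), (20761, 19561), (20762, 22373), (20763, 19211), (20764, 17793), (20765, 19327), (20766, 22265), (20767, 22142), (20768, 17801), (20769, 22294), (20770, 20784), (20771, 17803), (20772, 17804), (20773, 19420), (20774, 19418), (20775, 22375), (20776, 17809), (20777, 22378), (20778, 20778), (20779, 20748), (20780, 22382), (20781, 21808), (20782, 22369), (20783, 17813), (20784, 20770), (20785, 22276), (20786, 17818), (20787, 17819), (20788, 19622), (20789, 20760), (20790, 21898), (20791, 19306),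 (20792, 20136), (20793, 18800), (20794, 20262), (20795, 19535), (20796, 20133), (20797, 18749), (20798, 20273), (20799, 21389)]
    ⟨e3 q20736 (flp_b L242452) q17754, e3 q20737 (flp_b L242502) q20740, e3 q20738 L257357 q22363, e3 q20739 (flp_b L242482) q17756, e3 q20740 L242502 q20737, e3 q20741 L242512 q20735, e3 q20742 (flp_b L242519) q20615, e3 q20743 L242524 q19556, e3 q20744 L242534 q20668, e3 q20745 L242546 q19630, e3 q20746 (flp_b L242560) q19562, e3 q20747 (flp_b L242562) q17769, e3 q20748 (flp_b L242871) q20779, e3 q20749 L257415 q22368, e3 q20750 L242594 q19341, e3 q20751 L242598 q19077, e3 q20752 L242616 q19342, e3 q20753 (flp_b L242618) q17774, e3 q20754 L242632 q19554, e3 q20755 (flp_b L255204) q22145, e3 q20756 (flp_b L256613) q22285, e3 q20757 (flp_b L242658) q17784, e3 q20758 L242681 q19429, e3 q20759 (flp_b L242683) q17788, e3 q20760 (flp_b L242959) q20789, e3 q20761 (flp_b L242709) q19561, e3 q20762 L257470 q22373, e3 q20763 L242723 q19211, e3 q20764 (flp_b L242731) q17793, e3 q20765 L242747 q19327,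 e3 q20766 (flp_b L256412) q22265, e3 q20767 (flp_b L255178) q22142, e3 q20768 (flp_b L242773) q17801, e3 q20769 L256715 q22294, e3 q20770 L242913 q20784, e3 q20771 (flp_b L242804) q17803, e3 q20772 (flp_b L242816) q17804, e3 q20773 L242828 q19420, e3 q20774 L242842 q19418, e3 q20775 L257489 q22375, e3 q20776 (flp_b L242856) q17809, e3 q20777 L257521 q22378, e3 q20778 L242868 q20778, e3 q20779 L242871 q20748, e3 q20780 L257553 q22382, e3 q20781 (flp_b L251840) q21808, e3 q20782 (flp_b L257428) q22369, e3 q20783 (flp_b L242893) q17813, e3 q20784 (flp_b L242913) q20770, e3 q20785 L256525 q22276, e3 q20786 (flp_b L242925) q17818, e3 q20787 (flp_b L242935) q17819, e3 q20788 L242951 q19622, e3 q20789 L242959 q20760, e3 q20790 (flp_b L252748) q21898, e3 q20791 L242975 q19306, e3 q20792 L242985 q20136, e3 q20793 (flp_b L242991) q18800, e3 q20794 L243003 q20262, e3 q20795 L243009 q19535, e3 q20796 L243019 q20133, e3 q20797 (flp_b L243025) q18749, e3 q20798 L243037 q20273, e3 q20799 L248153 q21389, trivial⟩ (by decide +kernel)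

theorem ce_b_325 : ∀ r, r < 64 → sm gb (Qf (20800 + r)) = Qf (tab Gen.b (20800 + r)) :=
  edges_tab (sm gb) Qf (tab Gen.b) 20800 [(20800, 21396), (20801, 19413), (20802, 20338), (20803, 19809), (20804, 18286), (20805, 17899), (20806, 19824), (20807, 19830), (20808, 20720), (20809, 21433), (20810, 21440), (20811, 19618), (20812, 20401), (20813, 19715), (20814, 18343), (20815, 17921), (20816, 19731), (20817, 19737), (20818, 20683), (20819, 18290), (20820, 18347), (20821, 17932), (20822, 17942), (20823, 20453), (20824, 20511), (20825, 19680), (20826, 19775), (20827, 18003), (20828, 18082), (20829, 18007), (20830, 18136), (20831, 20405), (20832, 17973), (20833, 21303), (20834, 20343), (20835, 17979), (20836, 21314), (20837, 21945), (20838, 22025), (20839, 22080), (20840, 17989), (20841, 21983), (20842, 22040), (20843, 22093), (20844, 17997), (20845, 21370), (20846, 21414), (20847, 21127), (20848, 18009), (20849, 19721), (20850, 18011), (20851, 22384), (20852, 21847), (20853, 22387), (20854, 21180), (20855, 18015),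 (20856, 19816), (20857, 18017), (20858, 22385), (20859, 21923), (20860, 22390), (20861, 18473), (20862, 22393), (20863, 21212)]
    ⟨e3 q20800 (flp_b L248207) q21396, e3 q20801 L243061 q19413, e3 q20802 L243075 q20338, e3 q20803 L243097 q19809, e3 q20804 L243103 q18286, e3 q20805 L243117 q17899, e3 q20806 L243135 q19824, e3 q20807 L243153 q19830, e3 q20808 (flp_b L243163) q20720, e3 q20809 L248523 q21433, e3 q20810 (flp_b L248577) q21440, e3 q20811 L243187 q19618, e3 q20812 L243201 q20401, e3 q20813 L243223 q19715, e3 q20814 L243229 q18343, e3 q20815 L243243 q17921, e3 q20816 L243261 q19731, e3 q20817 L243279 q19737, e3 q20818 (flp_b L243289) q20683, e3 q20819 L243295 q18290, e3 q20820 L243309 q18347, e3 q20821 (flp_b L243319) q17932, e3 q20822 (flp_b L243327) q17942, e3 q20823 L243347 q20453, e3 q20824 L243361 q20511, e3 q20825 (flp_b L243371) q19680, e3 q20826 (flp_b L243381) q19775, e3 q20827 L243389 q18003, e3 q20828 L243399 q18082, e3 q20829 L243413 q18007, e3 q20830 L243423 q18136, e3 q20831 L243439 q20405,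 e3 q20832 (flp_b L243441) q17973, e3 q20833 (flp_b L247345) q21303, e3 q20834 L243465 q20343, e3 q20835 (flp_b L243467) q17979, e3 q20836 (flp_b L247449) q21314, e3 q20837 (flp_b L253248) q21945, e3 q20838 (flp_b L254014) q22025, e3 q20839 (flp_b L254612) q22080, e3 q20840 (flp_b L243515) q17989, e3 q20841 (flp_b L253613) q21983, e3 q20842 (flp_b L254170) q22040, e3 q20843 (flp_b L254722) q22093, e3 q20844 (flp_b L243549) q17997, e3 q20845 (flp_b L247987) q21370, e3 q20846 (flp_b L248353) q21414, e3 q20847 (flp_b L245879) q21127, e3 q20848 (flp_b L243581) q18009, e3 q20849 L243595 q19721, e3 q20850 L243607 q18011, e3 q20851 (flp_b L257584) q22384, e3 q20852 (flp_b L252221) q21847, e3 q20853 (flp_b L257610) q22387, e3 q20854 (flp_b L246304) q21180, e3 q20855 (flp_b L243649) q18015, e3 q20856 L243663 q19816, e3 q20857 L243675 q18017, e3 q20858 (flp_b L257596) q22385, e3 q20859 (flp_b L253002) q21923, e3 q20860 (flp_b L257636) q22390, e3 q20861 L243715 q18473, e3 q20862 L257662 q22393, e3 q20863 (flp_b L246563) q21212,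 trivial⟩ (by decide +kernel)

theorem ce_b_326 : ∀ r, r < 64 → sm gb (Qf (20864 + r)) = Qf (tab Gen.b (20864 + r)) :=
  edges_tab (sm gb) Qf (tab Gen.b) 20864 [(20864, 18022), (20865, 18023), (20866, 21270), (20867, 20868), (20868, 20867), (20869, 21871), (20870, 19035), (20871, 18262), (20872, 22174), (20873, 20879), (20874, 21659), (20875, 18684), (20876, 21394), (20877, 18037), (20878, 18040), (20879, 20873), (20880, 18042), (20881, 22012), (20882, 22254), (20883, 18046), (20884, 19113), (20885, 22398), (20886, 18504), (20887, 18050), (20888, 21231), (20889, 21279), (20890, 20892), (20891, 18054), (20892, 20890), (20893, 21770), (20894, 19172), (20895, 18319), (20896, 22181), (20897, 20903), (20898, 21528), (20899, 18695), (20900, 21437), (20901, 18067), (20902, 18069), (20903, 20897), (20904, 18071), (20905, 21974), (20906, 22243), (20907, 18075), (20908, 18974), (20909, 22404), (20910, 18083), (20911, 22405), (20912, 18084), (20913, 18090), (20914, 18094), (20915, 18096), (20916, 21665), (20917, 22105), (20918,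 21401), (20919, 18204), (20920, 18197), (20921, 18100), (20922, 22413), (20923, 18106), (20924, 21021), (20925, 18102), (20926, 22419), (20927, 22170)]
    ⟨e3 q20864 (flp_b L243735) q18022, e3 q20865 (flp_b L243741) q18023, e3 q20866 (flp_b L247083) q21270, e3 q20867 (flp_b L243775) q20868, e3 q20868 L243775 q20867, e3 q20869 (flp_b L252463) q21871, e3 q20870 L243797 q19035, e3 q20871 L243809 q18262, e3 q20872 (flp_b L255452) q22174, e3 q20873 (flp_b L243897) q20879, e3 q20874 (flp_b L250380) q21659, e3 q20875 L243849 q18684, e3 q20876 (flp_b L248189) q21394, e3 q20877 (flp_b L243871) q18037, e3 q20878 (flp_b L243881) q18040, e3 q20879 L243897 q20873, e3 q20880 (flp_b L243899) q18042, e3 q20881 (flp_b L253884) q22012, e3 q20882 (flp_b L256276) q22254, e3 q20883 (flp_b L243931) q18046, e3 q20884 L243947 q19113, e3 q20885 L257718 q22398, e3 q20886 L243967 q18504, e3 q20887 (flp_b L243969) q18050, e3 q20888 (flp_b L246721) q21231, e3 q20889 (flp_b L247150) q21279, e3 q20890 (flp_b L244019) q20892, e3 q20891 (flp_b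 L243999) q18054, e3 q20892 L244019 q20890, e3 q20893 (flp_b L251427) q21770, e3 q20894 L244041 q19172, e3 q20895 L244053 q18319, e3 q20896 (flp_b L255504) q22181, e3 q20897 (flp_b L244141) q20903, e3 q20898 (flp_b L249309) q21528, e3 q20899 L244093 q18695, e3 q20900 (flp_b L248549) q21437, e3 q20901 (flp_b L244115) q18067, e3 q20902 (flp_b L244125) q18069, e3 q20903 L244141 q20897, e3 q20904 (flp_b L244143) q18071, e3 q20905 (flp_b L253513) q21974, e3 q20906 (flp_b L256166) q22243, e3 q20907 (flp_b L244175) q18075, e3 q20908 L244191 q18974, e3 q20909 L257786 q22404, e3 q20910 (flp_b L244203) q18083, e3 q20911 L257798 q22405, e3 q20912 (flp_b L244215) q18084, e3 q20913 (flp_b L244225) q18090, e3 q20914 (flp_b L244237) q18094, e3 q20915 (flp_b L244241) q18096, e3 q20916 (flp_b L250432) q21665, e3 q20917 L254824 q22105, e3 q20918 (flp_b L248247) q21401, e3 q20919 L244271 q18204, e3 q20920 L244279 q18197, e3 q20921 (flp_b L244281) q18100, e3 q20922 L257856 q22413, e3 q20923 L244295 q18106, e3 q20924 (flp_b L245015)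 q21021, e3 q20925 (flp_b L244303) q18102, e3 q20926 L257924 q22419, e3 q20927 L255420 q22170, trivial⟩ (by decide +kernel)

theorem ce_b_327 : ∀ r, r < 64 → sm gb (Qf (20928 + r)) = Qf (tab Gen.b (20928 + r)) :=
  edges_tab (sm gb) Qf (tab Gen.b) 20928 [(20928, 22123), (20929, 18763), (20930, 22336), (20931, 22347), (20932, 18109), (20933, 22422), (20934, 22360), (20935, 18121), (20936, 22352), (20937, 19464), (20938, 22423), (20939, 18137), (20940, 22424), (20941, 18138), (20942, 18144), (20943, 18148), (20944, 18150), (20945, 21534), (20946, 22116), (20947, 21356), (20948, 18229), (20949, 18222), (20950, 18154), (20951, 22418), (20952, 18160), (20953, 21060), (20954, 18156), (20955, 22414), (20956, 22177), (20957, 22127), (20958, 18815), (20959, 22337), (20960, 22333), (20961, 18163), (20962, 22416), (20963, 18174), (20964, 19664), (20965, 18184), (20966, 22436), (20967, 20695), (20968, 18186), (20969, 18810), (20970, 18188), (20971, 18190), (20972, 22442), (20973, 20973), (20974, 22441), (20975, 18193), (20976,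 22444), (20977, 18198), (20978, 21357), (20979, 18195), (20980, 19801), (20981, 22169), (20982, 19819), (20983, 18766), (20984, 19813), (20985, 18638), (20986, 21218), (20987, 18206), (20988, 21739), (20989, 18279), (20990, 18208), (20991, 18209)]
    ⟨e3 q20928 (flp_b L254962) q22123, e3 q20929 (flp_b L244331) q18763, e3 q20930 (flp_b L257091) q22336, e3 q20931 (flp_b L257183) q22347, e3 q20932 (flp_b L244349) q18109, e3 q20933 L257950 q22422, e3 q20934 (flp_b L257333) q22360, e3 q20935 (flp_b L244377) q18121, e3 q20936 (flp_b L257235) q22352, e3 q20937 L244405 q19464, e3 q20938 L257960 q22423, e3 q20939 (flp_b L244417) q18137, e3 q20940 L257972 q22424, e3 q20941 (flp_b L244429) q18138, e3 q20942 (flp_b L244439) q18144, e3 q20943 (flp_b L244451) q18148, e3 q20944 (flp_b L244455) q18150, e3 q20945 (flp_b L249353) q21534, e3 q20946 L254909 q22116, e3 q20947 (flp_b L247871) q21356, e3 q20948 L244485 q18229, e3 q20949 L244493 q18222, e3 q20950 (flp_b L244495) q18154, e3 q20951 L257922 q22418, e3 q20952 L244509 q18160,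 e3 q20953 (flp_b L245339) q21060, e3 q20954 (flp_b L244517) q18156, e3 q20955 (flp_b L257876) q22414, e3 q20956 L255472 q22177, e3 q20957 (flp_b L255008) q22127, e3 q20958 (flp_b L244545) q18815, e3 q20959 (flp_b L257099) q22337, e3 q20960 (flp_b L257067) q22333, e3 q20961 (flp_b L244563) q18163, e3 q20962 (flp_b L257896) q22416, e3 q20963 (flp_b L244583) q18174, e3 q20964 L244603 q19664, e3 q20965 (flp_b L244605) q18184, e3 q20966 (flp_b L258068) q22436, e3 q20967 L244619 q20695, e3 q20968 L244623 q18186, e3 q20969 L244639 q18810, e3 q20970 (flp_b L244641) q18188, e3 q20971 (flp_b L244647) q18190, e3 q20972 L258123 q22442, e3 q20973 L244665 q20973, e3 q20974 (flp_b L258121) q22441, e3 q20975 (flp_b L244668) q18193, e3 q20976 L258141 q22444, e3 q20977 L244684 q18198, e3 q20978 (flp_b L247883) q21357, e3 q20979 (flp_b L244692) q18195, e3 q20980 (flp_b L244702) q19801, e3 q20981 (flp_b L255412) q22169, e3 q20982 L244716 q19819, e3 q20983 L244724 q18766, e3 q20984 L244734 q19813, e3 q20985 L244744 q18638, e3 q20986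 (flp_b L246615) q21218, e3 q20987 (flp_b L244750) q18206, e3 q20988 (flp_b L251119) q21739, e3 q20989 L244780 q18279, e3 q20990 (flp_b L244782) q18208, e3 q20991 (flp_b L244790) q18209, trivial⟩ (by decide +kernel)

theorem ce_b_328 : ∀ r, r < 64 → sm gb (Qf (20992 + r)) = Qf (tab Gen.b (20992 + r)) :=
  edges_tab (sm gb) Qf (tab Gen.b) 20992 [(20992, 22449), (20993, 20730), (20994, 18211), (20995, 18758), (20996, 18213), (20997, 18215), (20998, 22455), (20999, 20999), (21000, 22454), (21001, 18218), (21002, 22457), (21003, 18223), (21004, 21402), (21005, 18220), (21006, 19707), (21007, 22176), (21008, 19723), (21009, 18818), (21010, 19718), (21011, 18623), (21012, 21198), (21013, 18231), (21014, 21627), (21015, 18336), (21016, 18233), (21017, 18235), (21018, 21906), (21019, 22262), (21020, 18241), (21021, 20924), (21022, 18243), (21023, 22464), (21024, 20086), (21025, 21369), (21026, 21889), (21027, 20507), (21028, 21795), (21029, 18253), (21030, 20259), (21031, 20131), (21032, 22255), (21033, 21121), (21034, 18753),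 (21035, 18260), (21036, 19007), (21037, 22467), (21038, 18271), (21039, 19036), (21040, 22411), (21041, 22468), (21042, 18265), (21043, 18268), (21044, 21232), (21045, 18270), (21046, 21544), (21047, 21674), (21048, 21271), (21049, 22471), (21050, 18274), (21051, 21555), (21052, 22473), (21053, 18400), (21054, 19095), (21055, 18288)]
    ⟨e3 q20992 (flp_b L258209) q22449, e3 q20993 L244804 q20730, e3 q20994 L244808 q18211, e3 q20995 L244824 q18758, e3 q20996 (flp_b L244826) q18213, e3 q20997 (flp_b L244832) q18215, e3 q20998 L258264 q22455, e3 q20999 L244850 q20999, e3 q21000 (flp_b L258262) q22454, e3 q21001 (flp_b L244853) q18218, e3 q21002 L258282 q22457, e3 q21003 L244869 q18223, e3 q21004 (flp_b L248261) q21402, e3 q21005 (flp_b L244877) q18220, e3 q21006 L244887 q19707, e3 q21007 (flp_b L255464) q22176, e3 q21008 L244901 q19723, e3 q21009 L244909 q18818, e3 q21010 L244919 q19718, e3 q21011 L244929 q18623, e3 q21012 (flp_b L246449) q21198, e3 q21013 (flp_b L244935) q18231, e3 q21014 (flp_b L250097) q21627,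 e3 q21015 (flp_b L244965) q18336, e3 q21016 (flp_b L244967) q18233, e3 q21017 (flp_b L244977) q18235, e3 q21018 (flp_b L252820) q21906, e3 q21019 (flp_b L256370) q22262, e3 q21020 (flp_b L245001) q18241, e3 q21021 L245015 q20924, e3 q21022 (flp_b L245017) q18243, e3 q21023 L258370 q22464, e3 q21024 L245043 q20086, e3 q21025 (flp_b L247975) q21369, e3 q21026 (flp_b L252646) q21889, e3 q21027 L245073 q20507, e3 q21028 (flp_b L251692) q21795, e3 q21029 (flp_b L245087) q18253, e3 q21030 (flp_b L245107) q20259, e3 q21031 L245119 q20131, e3 q21032 (flp_b L256286) q22255, e3 q21033 L245831 q21121, e3 q21034 L245135 q18753, e3 q21035 (flp_b L245137) q18260, e3 q21036 L245153 q19007, e3 q21037 L258404 q22467, e3 q21038 L245169 q18271, e3 q21039 L245177 q19036, e3 q21040 (flp_b L257844) q22411, e3 q21041 L258410 q22468, e3 q21042 (flp_b L245197) q18265, e3 q21043 (flp_b L245199) q18268, e3 q21044 L246729 q21232, e3 q21045 (flp_b L245211) q18270, e3 q21046 (flp_b L249454) q21544, e3 q21047 (flp_b L250538) q21674, e3 q21048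 L247091 q21271, e3 q21049 L258450 q22471, e3 q21050 (flp_b L245249) q18274, e3 q21051 (flp_b L249565) q21555, e3 q21052 (flp_b L258484) q22473, e3 q21053 L245273 q18400, e3 q21054 L245279 q19095, e3 q21055 (flp_b L245289) q18288, trivial⟩ (by decide +kernel)

theorem ce_b_329 : ∀ r, r < 64 → sm gb (Qf (21056 + r)) = Qf (tab Gen.b (21056 + r)) :=
  edges_tab (sm gb) Qf (tab Gen.b) 21056 [(21056, 18294), (21057, 21821), (21058, 22248), (21059, 18300), (21060, 20953), (21061, 18302), (21062, 22476), (21063, 20094), (21064, 21415), (21065, 20449), (21066, 18310), (21067, 20247), (21068, 20124), (21069, 22236), (21070, 21174), (21071, 18804), (21072, 18317), (21073, 19147), (21074, 22479), (21075, 18328), (21076, 19173), (21077, 22430), (21078, 22480), (21079, 18322), (21080, 18325), (21081, 21208), (21082, 18327), (21083, 21280), (21084, 22483), (21085, 18331), (21086, 21682), (21087, 22485), (21088, 18460), (21089, 18955), (21090, 18345), (21091, 20166), (21092, 18351), (21093, 18353), (21094, 18355), (21095, 18421),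 (21096, 18359), (21097, 21112), (21098, 22490), (21099, 18358), (21100, 18814), (21101, 22492), (21102, 18361), (21103, 18761), (21104, 22488), (21105, 18363), (21106, 18364), (21107, 22026), (21108, 22496), (21109, 18366), (21110, 19807), (21111, 18374), (21112, 21097), (21113, 19577), (21114, 18369), (21115, 19849), (21116, 19481), (21117, 18376), (21118, 20679), (21119, 20353)]
    ⟨e3 q21056 (flp_b L245301) q18294, e3 q21057 (flp_b L251964) q21821, e3 q21058 (flp_b L256212) q22248, e3 q21059 (flp_b L245325) q18300, e3 q21060 L245339 q20953, e3 q21061 (flp_b L245341) q18302, e3 q21062 L258508 q22476, e3 q21063 L245367 q20094, e3 q21064 (flp_b L248365) q21415, e3 q21065 L245385 q20449, e3 q21066 (flp_b L245387) q18310, e3 q21067 (flp_b L245413) q20247, e3 q21068 L245425 q20124, e3 q21069 (flp_b L256082) q22236, e3 q21070 L246242 q21174, e3 q21071 L245451 q18804, e3 q21072 (flp_b L245453) q18317, e3 q21073 L245469 q19147, e3 q21074 L258542 q22479, e3 q21075 L245485 q18328, e3 q21076 L245493 q19173, e3 q21077 (flp_b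 L258018) q22430, e3 q21078 L258548 q22480, e3 q21079 (flp_b L245513) q18322, e3 q21080 (flp_b L245515) q18325, e3 q21081 L246543 q21208, e3 q21082 (flp_b L245527) q18327, e3 q21083 L247158 q21280, e3 q21084 L258588 q22483, e3 q21085 (flp_b L245545) q18331, e3 q21086 (flp_b L250621) q21682, e3 q21087 (flp_b L258622) q22485, e3 q21088 L245569 q18460, e3 q21089 L245575 q18955, e3 q21090 (flp_b L245585) q18345, e3 q21091 L245607 q20166, e3 q21092 (flp_b L245611) q18351, e3 q21093 (flp_b L245617) q18353, e3 q21094 (flp_b L245623) q18355, e3 q21095 L245675 q18421, e3 q21096 L245631 q18359, e3 q21097 (flp_b L245765) q21112, e3 q21098 (flp_b L258674) q22490, e3 q21099 (flp_b L245647) q18358, e3 q21100 L245669 q18814, e3 q21101 (flp_b L258688) q22492, e3 q21102 (flp_b L245693) q18361, e3 q21103 (flp_b L245705) q18761, e3 q21104 (flp_b L258654) q22488, e3 q21105 (flp_b L245713) q18363, e3 q21106 (flp_b L245719) q18364, e3 q21107 (flp_b L254028) q22026, e3 q21108 L258734 q22496, e3 q21109 (flp_b L245743) q18366, e3 q21110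 (flp_b L245761) q19807, e3 q21111 L245755 q18374, e3 q21112 L245765 q21097, e3 q21113 (flp_b L245777) q19577, e3 q21114 (flp_b L245779) q18369, e3 q21115 (flp_b L245791) q19849, e3 q21116 L245795 q19481, e3 q21117 L245799 q18376, e3 q21118 L245803 q20679, e3 q21119 L245813 q20353, trivial⟩ (by decide +kernel)

theorem ce_b_330 : ∀ r, r < 64 → sm gb (Qf (21120 + r)) = Qf (tab Gen.b (21120 + r)) :=
  edges_tab (sm gb) Qf (tab Gen.b) 21120 [(21120, 22499), (21121, 21033), (21122, 19462), (21123, 18383), (21124, 22505), (21125, 18387), (21126, 22223), (21127, 20847), (21128, 18391), (21129, 22506), (21130, 19400), (21131, 22507), (21132, 18395), (21133, 18662), (21134, 21134), (21135, 18996), (21136, 21543), (21137, 22511), (21138, 18664), (21139, 19135), (21140, 20284), (21141, 18408), (21142, 18987), (21143, 18751), (21144, 20280), (21145, 22514), (21146, 20183), (21147, 18413), (21148, 18415), (21149, 18417), (21150, 21171), (21151, 22489), (21152, 18420), (21153, 18764), (21154, 22487), (21155, 18423), (21156, 18812),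 (21157, 22516), (21158, 18425), (21159, 18426), (21160, 22039), (21161, 22521), (21162, 18428), (21163, 19362), (21164, 18430), (21165, 19757), (21166, 19246), (21167, 18436), (21168, 20716), (21169, 19714), (21170, 18439), (21171, 21150), (21172, 20357), (21173, 22524), (21174, 21070), (21175, 19662), (21176, 18445), (21177, 22528), (21178, 18449), (21179, 22208), (21180, 20854), (21181, 18453), (21182, 22529), (21183, 19606)]
    ⟨e3 q21120 (flp_b L258768) q22499, e3 q21121 (flp_b L245831) q21033, e3 q21122 L245843 q19462, e3 q21123 (flp_b L245845) q18383, e3 q21124 L258828 q22505, e3 q21125 (flp_b L245863) q18387, e3 q21126 (flp_b L255946) q22223, e3 q21127 L245879 q20847, e3 q21128 (flp_b L245881) q18391, e3 q21129 (flp_b L258844) q22506, e3 q21130 L245905 q19400, e3 q21131 L258848 q22507, e3 q21132 (flp_b L245911) q18395, e3 q21133 L245919 q18662, e3 q21134 L245927 q21134, e3 q21135 L245932 q18996, e3 q21136 (flp_b L249432) q21543, e3 q21137 L258894 q22511, e3 q21138 L245950 q18664, e3 q21139 L245960 q19135,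 e3 q21140 L245970 q20284, e3 q21141 L245976 q18408, e3 q21142 L245988 q18987, e3 q21143 L245998 q18751, e3 q21144 L246006 q20280, e3 q21145 L258927 q22514, e3 q21146 L246028 q20183, e3 q21147 (flp_b L246032) q18413, e3 q21148 (flp_b L246040) q18415, e3 q21149 (flp_b L246046) q18417, e3 q21150 (flp_b L246214) q21171, e3 q21151 (flp_b L258664) q22489, e3 q21152 (flp_b L246062) q18420, e3 q21153 (flp_b L246084) q18764, e3 q21154 (flp_b L258644) q22487, e3 q21155 (flp_b L246098) q18423, e3 q21156 (flp_b L246110) q18812, e3 q21157 (flp_b L258961) q22516, e3 q21158 (flp_b L246118) q18425, e3 q21159 (flp_b L246124) q18426, e3 q21160 (flp_b L254156) q22039, e3 q21161 L259009 q22521, e3 q21162 (flp_b L246148) q18428, e3 q21163 (flp_b L246164) q19362, e3 q21164 (flp_b L246166) q18430, e3 q21165 L246182 q19757, e3 q21166 L246210 q19246, e3 q21167 L246190 q18436, e3 q21168 L246194 q20716, e3 q21169 (flp_b L246208) q19714, e3 q21170 L246202 q18439, e3 q21171 L246214 q21150, e3 q21172 L246224 q20357, e3 q21173 (flp_b L259049)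 q22524, e3 q21174 (flp_b L246242) q21070, e3 q21175 L246254 q19662, e3 q21176 (flp_b L246256) q18445, e3 q21177 L259087 q22528, e3 q21178 (flp_b L246274) q18449, e3 q21179 (flp_b L255789) q22208, e3 q21180 L246304 q20854, e3 q21181 (flp_b L246306) q18453, e3 q21182 (flp_b L259103) q22529, e3 q21183 L246332 q19606, trivial⟩ (by decide +kernel)

theorem ce_b_331 : ∀ r, r < 64 → sm gb (Qf (21184 + r)) = Qf (tab Gen.b (21184 + r)) :=
  edges_tab (sm gb) Qf (tab Gen.b) 21184 [(21184, 22530), (21185, 18456), (21186, 21186), (21187, 22533), (21188, 21673), (21189, 20304), (21190, 18466), (21191, 19126), (21192, 18802), (21193, 20269), (21194, 22535), (21195, 18470), (21196, 18471), (21197, 18475), (21198, 21012), (21199, 19744), (21200, 18478), (21201, 18678), (21202, 21309), (21203, 18481), (21204, 18483), (21205, 21874), (21206, 22538), (21207, 18486), (21208, 21081), (21209, 18489), (21210, 22541), (21211, 18495), (21212, 20863), (21213, 22543), (21214, 22546), (21215, 18498), (21216, 18499), (21217, 18502), (21218,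 20986), (21219, 19840), (21220, 18506), (21221, 18689), (21222, 21320), (21223, 18508), (21224, 18511), (21225, 21776), (21226, 22540), (21227, 18513), (21228, 18516), (21229, 22550), (21230, 18521), (21231, 20888), (21232, 21044), (21233, 22552), (21234, 22555), (21235, 18532), (21236, 18536), (21237, 19679), (21238, 19773), (21239, 20418), (21240, 18559), (21241, 20276), (21242, 22556), (21243, 21696), (21244, 20013), (21245, 18566), (21246, 19787), (21247, 21291)]
    ⟨e3 q21184 L259107 q22530, e3 q21185 (flp_b L246338) q18456, e3 q21186 L246346 q21186, e3 q21187 L259141 q22533, e3 q21188 (flp_b L250516) q21673, e3 q21189 L246369 q20304, e3 q21190 L246375 q18466, e3 q21191 L246387 q19126, e3 q21192 L246397 q18802, e3 q21193 L246405 q20269, e3 q21194 L259160 q22535, e3 q21195 (flp_b L246417) q18470, e3 q21196 (flp_b L246427) q18471, e3 q21197 L246441 q18475, e3 q21198 L246449 q21012, e3 q21199 L246463 q19744, e3 q21200 (flp_b L246465) q18478, e3 q21201 L246479 q18678, e3 q21202 (flp_b L247401) q21309, e3 q21203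 (flp_b L246499) q18481, e3 q21204 (flp_b L246507) q18483, e3 q21205 (flp_b L252494) q21874, e3 q21206 L259200 q22538, e3 q21207 (flp_b L246531) q18486, e3 q21208 (flp_b L246543) q21081, e3 q21209 (flp_b L246545) q18489, e3 q21210 L259230 q22541, e3 q21211 L246557 q18495, e3 q21212 L246563 q20863, e3 q21213 (flp_b L259256) q22543, e3 q21214 L259282 q22546, e3 q21215 (flp_b L246579) q18498, e3 q21216 (flp_b L246589) q18499, e3 q21217 L246607 q18502, e3 q21218 L246615 q20986, e3 q21219 L246629 q19840, e3 q21220 (flp_b L246631) q18506, e3 q21221 L246645 q18689, e3 q21222 (flp_b L247507) q21320, e3 q21223 (flp_b L246665) q18508, e3 q21224 (flp_b L246673) q18511, e3 q21225 (flp_b L251496) q21776, e3 q21226 (flp_b L259228) q22540, e3 q21227 (flp_b L246697) q18513, e3 q21228 (flp_b L246703) q18516, e3 q21229 L259328 q22550, e3 q21230 L246715 q18521, e3 q21231 L246721 q20888, e3 q21232 (flp_b L246729) q21044, e3 q21233 (flp_b L259354) q22552, e3 q21234 L259382 q22555, e3 q21235 (flp_b L246745) q18532, e3 q21236 (flp_b L246759)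 q18536, e3 q21237 L246777 q19679, e3 q21238 L246783 q19773, e3 q21239 L246789 q20418, e3 q21240 L246799 q18559, e3 q21241 L246811 q20276, e3 q21242 L259390 q22556, e3 q21243 (flp_b L250737) q21696, e3 q21244 L246835 q20013, e3 q21245 L246845 q18566, e3 q21246 L246857 q19787, e3 q21247 L247239 q21291, trivial⟩ (by decide +kernel)

theorem ce_b_332 : ∀ r, r < 64 → sm gb (Qf (21248 + r)) = Qf (tab Gen.b (21248 + r)) :=
  edges_tab (sm gb) Qf (tab Gen.b) 21248 [(21248, 22065), (21249, 18579), (21250, 20371), (21251, 18573), (21252, 20265), (21253, 22558), (21254, 21571), (21255, 19975), (21256, 19694), (21257, 21286), (21258, 22049), (21259, 22298), (21260, 22279), (21261, 18607), (21262, 22071), (21263, 18611), (21264, 22084), (21265, 18621), (21266, 22461), (21267, 21838), (21268, 21302), (21269, 18626), (21270, 20866), (21271, 21048), (21272, 19200), (21273, 18630), (21274, 18636), (21275, 22448), (21276, 21915), (21277, 21313), (21278, 18641), (21279, 20889), (21280, 21083), (21281, 19063), (21282, 18645), (21283,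 18649), (21284, 22203), (21285, 22433), (21286, 21257), (21287, 18650), (21288, 18655), (21289, 22198), (21290, 22417), (21291, 21247), (21292, 18656), (21293, 18715), (21294, 21294), (21295, 18713), (21296, 21296), (21297, 19426), (21298, 19627), (21299, 18722), (21300, 18734), (21301, 18676), (21302, 21268), (21303, 20833), (21304, 20350), (21305, 22570), (21306, 19952), (21307, 18682), (21308, 20012), (21309, 21202), (21310, 21436), (21311, 21395)]
    ⟨e3 q21248 (flp_b L254463) q22065, e3 q21249 L246885 q18579, e3 q21250 L246897 q20371, e3 q21251 L246907 q18573, e3 q21252 L246919 q20265, e3 q21253 L259411 q22558, e3 q21254 (flp_b L249683) q21571, e3 q21255 L246943 q19975, e3 q21256 L246953 q19694, e3 q21257 L247205 q21286, e3 q21258 (flp_b L254273) q22049, e3 q21259 (flp_b L256756) q22298, e3 q21260 (flp_b L256551) q22279, e3 q21261 L247005 q18607, e3 q21262 (flp_b L254524) q22071, e3 q21263 L247027 q18611, e3 q21264 (flp_b L254634) q22084, e3 q21265 (flp_b L247045) q18621, e3 q21266 (flp_b L258338) q22461,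 e3 q21267 L252140 q21838, e3 q21268 (flp_b L247333) q21302, e3 q21269 L247069 q18626, e3 q21270 L247083 q20866, e3 q21271 (flp_b L247091) q21048, e3 q21272 L247101 q19200, e3 q21273 (flp_b L247105) q18630, e3 q21274 (flp_b L247112) q18636, e3 q21275 (flp_b L258197) q22448, e3 q21276 L252928 q21915, e3 q21277 (flp_b L247437) q21313, e3 q21278 L247136 q18641, e3 q21279 L247150 q20889, e3 q21280 (flp_b L247158) q21083, e3 q21281 L247168 q19063, e3 q21282 (flp_b L247172) q18645, e3 q21283 L247181 q18649, e3 q21284 L255732 q22203, e3 q21285 (flp_b L258048) q22433, e3 q21286 (flp_b L247205) q21257, e3 q21287 (flp_b L247207) q18650, e3 q21288 L247215 q18655, e3 q21289 L255668 q22198, e3 q21290 (flp_b L257908) q22417, e3 q21291 (flp_b L247239) q21247, e3 q21292 (flp_b L247241) q18656, e3 q21293 L247253 q18715, e3 q21294 L247257 q21294, e3 q21295 L247267 q18713, e3 q21296 L247271 q21296, e3 q21297 L247284 q19426, e3 q21298 L247295 q19627, e3 q21299 L247301 q18722, e3 q21300 L247309 q18734, e3 q21301 (flp_b L247313) q18676,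 e3 q21302 L247333 q21268, e3 q21303 L247345 q20833, e3 q21304 L247357 q20350, e3 q21305 L259528 q22570, e3 q21306 L247373 q19952, e3 q21307 (flp_b L247375) q18682, e3 q21308 (flp_b L247391) q20012, e3 q21309 L247401 q21202, e3 q21310 (flp_b L248537) q21436, e3 q21311 (flp_b L248197) q21395, trivial⟩ (by decide +kernel)

theorem ce_b_333 : ∀ r, r < 64 → sm gb (Qf (21312 + r)) = Qf (tab Gen.b (21312 + r)) :=
  edges_tab (sm gb) Qf (tab Gen.b) 21312 [(21312, 18687), (21313, 21277), (21314, 20836), (21315, 20409), (21316, 22571), (21317, 20008), (21318, 18693), (21319, 19976), (21320, 21222), (21321, 21392), (21322, 21439), (21323, 22062), (21324, 20382), (21325, 20510), (21326, 18704), (21327, 19323), (21328, 22055), (21329, 20389), (21330, 20452), (21331, 18711), (21332, 19549), (21333, 22572), (21334, 22568), (21335, 22575), (21336, 22566), (21337, 18808), (21338, 20215), (21339, 18724), (21340, 20214), (21341, 21590), (21342, 18726), (21343, 20027), (21344, 21967), (21345, 18757), (21346, 20218), (21347, 18735),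 (21348, 20217), (21349, 21709), (21350, 18737), (21351, 20047), (21352, 22005), (21353, 22578), (21354, 20144), (21355, 18742), (21356, 20947), (21357, 20978), (21358, 18744), (21359, 21451), (21360, 18774), (21361, 22579), (21362, 18752), (21363, 22503), (21364, 21985), (21365, 18755), (21366, 22228), (21367, 18759), (21368, 21870), (21369, 21025), (21370, 20845), (21371, 18793), (21372, 18768), (21373, 21473), (21374, 20224), (21375, 21895)]
    ⟨e3 q21312 (flp_b L247417) q18687, e3 q21313 L247437 q21277, e3 q21314 L247449 q20836, e3 q21315 L247461 q20409, e3 q21316 (flp_b L259550) q22571, e3 q21317 L247477 q20008, e3 q21318 (flp_b L247479) q18693, e3 q21319 (flp_b L247495) q19976, e3 q21320 L247507 q21222, e3 q21321 (flp_b L248167) q21392, e3 q21322 (flp_b L248567) q21439, e3 q21323 (flp_b L254422) q22062, e3 q21324 L247545 q20382, e3 q21325 L247559 q20510, e3 q21326 L247565 q18704, e3 q21327 L247577 q19323, e3 q21328 (flp_b L254334) q22055, e3 q21329 L247604 q20389, e3 q21330 L247618 q20452, e3 q21331 L247624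 q18711, e3 q21332 L247636 q19549, e3 q21333 L259552 q22572, e3 q21334 (flp_b L259516) q22568, e3 q21335 L259577 q22575, e3 q21336 (flp_b L259500) q22566, e3 q21337 L247685 q18808, e3 q21338 L247695 q20215, e3 q21339 L247701 q18724, e3 q21340 L247719 q20214, e3 q21341 L249815 q21590, e3 q21342 L247731 q18726, e3 q21343 L247741 q20027, e3 q21344 (flp_b L253451) q21967, e3 q21345 L247769 q18757, e3 q21346 L247779 q20218, e3 q21347 L247785 q18735, e3 q21348 L247803 q20217, e3 q21349 (flp_b L250837) q21709, e3 q21350 L247815 q18737, e3 q21351 L247825 q20047, e3 q21352 (flp_b L253818) q22005, e3 q21353 L259608 q22578, e3 q21354 L247855 q20144, e3 q21355 (flp_b L247857) q18742, e3 q21356 L247871 q20947, e3 q21357 L247883 q20978, e3 q21358 (flp_b L247885) q18744, e3 q21359 (flp_b L248676) q21451, e3 q21360 L247910 q18774, e3 q21361 L259618 q22579, e3 q21362 (flp_b L247920) q18752, e3 q21363 (flp_b L258814) q22503, e3 q21364 L253635 q21985, e3 q21365 (flp_b L247942) q18755, e3 q21366 (flp_b L255992) q22228, e3 q21367 (flp_b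 L247956) q18759, e3 q21368 (flp_b L252441) q21870, e3 q21369 L247975 q21025, e3 q21370 L247987 q20845, e3 q21371 L247999 q18793, e3 q21372 (flp_b L248001) q18768, e3 q21373 (flp_b L248844) q21473, e3 q21374 L248025 q20224, e3 q21375 L252726 q21895, trivial⟩ (by decide +kernel)

theorem ce_b_334 : ∀ r, r < 64 → sm gb (Qf (21376 + r)) = Qf (tab Gen.b (21376 + r)) :=
  edges_tab (sm gb) Qf (tab Gen.b) 21376 [(21376, 19458), (21377, 18773), (21378, 22256), (21379, 18775), (21380, 22581), (21381, 18777), (21382, 22536), (21383, 21488), (21384, 22253), (21385, 18779), (21386, 18780), (21387, 20267), (21388, 18782), (21389, 20799), (21390, 22582), (21391, 20685), (21392, 21321), (21393, 20314), (21394, 20876), (21395, 21311), (21396, 20800), (21397, 21755), (21398, 21551), (21399, 22591), (21400, 20140), (21401, 20918), (21402, 21004), (21403, 18795), (21404, 18824), (21405, 21493), (21406, 22592), (21407, 18803), (21408, 22504), (21409, 21947), (21410, 18806), (21411, 22213), (21412, 18809), (21413, 21769), (21414, 20846),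 (21415, 21064), (21416, 18819), (21417, 21515), (21418, 20231), (21419, 19658), (21420, 21804), (21421, 22237), (21422, 18825), (21423, 18826), (21424, 22594), (21425, 18828), (21426, 22547), (21427, 21446), (21428, 22250), (21429, 18830), (21430, 18831), (21431, 20278), (21432, 18833), (21433, 20809), (21434, 22595), (21435, 20722), (21436, 21310), (21437, 20900), (21438, 20294), (21439, 21322)]
    ⟨e3 q21376 L248039 q19458, e3 q21377 (flp_b L248041) q18773, e3 q21378 (flp_b L256300) q22256, e3 q21379 (flp_b L248059) q18775, e3 q21380 L259636 q22581, e3 q21381 (flp_b L248073) q18777, e3 q21382 (flp_b L259186) q22536, e3 q21383 (flp_b L248962) q21488, e3 q21384 (flp_b L256258) q22253, e3 q21385 (flp_b L248113) q18779, e3 q21386 (flp_b L248117) q18780, e3 q21387 L248137 q20267, e3 q21388 (flp_b L248139) q18782, e3 q21389 (flp_b L248153) q20799, e3 q21390 (flp_b L259646) q22582, e3 q21391 L248161 q20685, e3 q21392 L248167 q21321, e3 q21393 L248179 q20314, e3 q21394 L248189 q20876, e3 q21395 L248197 q21311, e3 q21396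 L248207 q20800, e3 q21397 (flp_b L251273) q21755, e3 q21398 L249520 q21551, e3 q21399 L259734 q22591, e3 q21400 L248243 q20140, e3 q21401 L248247 q20918, e3 q21402 L248261 q21004, e3 q21403 (flp_b L248263) q18795, e3 q21404 L248282 q18824, e3 q21405 (flp_b L249014) q21493, e3 q21406 L259744 q22592, e3 q21407 (flp_b L248298) q18803, e3 q21408 (flp_b L258826) q22504, e3 q21409 L253270 q21947, e3 q21410 (flp_b L248320) q18806, e3 q21411 (flp_b L255835) q22213, e3 q21412 (flp_b L248334) q18809, e3 q21413 (flp_b L251407) q21769, e3 q21414 L248353 q20846, e3 q21415 L248365 q21064, e3 q21416 (flp_b L248367) q18819, e3 q21417 (flp_b L249192) q21515, e3 q21418 L248393 q20231, e3 q21419 L248401 q19658, e3 q21420 L251810 q21804, e3 q21421 (flp_b L256096) q22237, e3 q21422 (flp_b L248415) q18825, e3 q21423 (flp_b L248427) q18826, e3 q21424 L259766 q22594, e3 q21425 (flp_b L248441) q18828, e3 q21426 (flp_b L259302) q22547, e3 q21427 (flp_b L248630) q21446, e3 q21428 (flp_b L256230) q22250, e3 q21429 (flp_b L248483) q18830, e3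 q21430 (flp_b L248487) q18831, e3 q21431 L248507 q20278, e3 q21432 (flp_b L248509) q18833, e3 q21433 (flp_b L248523) q20809, e3 q21434 (flp_b L259780) q22595, e3 q21435 L248531 q20722, e3 q21436 L248537 q21310, e3 q21437 L248549 q20900, e3 q21438 L248559 q20294, e3 q21439 L248567 q21322, trivial⟩ (by decide +kernel)

theorem ce_b_335 : ∀ r, r < 64 → sm gb (Qf (21440 + r)) = Qf (tab Gen.b (21440 + r)) :=
  edges_tab (sm gb) Qf (tab Gen.b) 21440 [(21440, 20810), (21441, 21650), (21442, 21657), (21443, 22604), (21444, 18842), (21445, 22606), (21446, 21427), (21447, 20501), (21448, 18849), (21449, 21505), (21450, 18851), (21451, 21359), (21452, 22038), (21453, 21469), (21454, 22272), (21455, 18856), (21456, 18872), (21457, 18858), (21458, 18860), (21459, 20364), (21460, 21478), (21461, 20571), (21462, 21474), (21463, 21491), (21464, 18869), (21465, 22610), (21466, 18873), (21467, 20018), (21468, 18890), (21469, 21453), (21470, 22353), (21471, 18880), (21472, 22531), (21473, 21373), (21474, 21462), (21475, 18882), (21476,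 22296), (21477, 18889), (21478, 21460), (21479, 18884), (21480, 18885), (21481, 18892), (21482, 21523), (21483, 22618), (21484, 22252), (21485, 22621), (21486, 18893), (21487, 22620), (21488, 21383), (21489, 20443), (21490, 18904), (21491, 21463), (21492, 18906), (21493, 21405), (21494, 22024), (21495, 21511), (21496, 22291), (21497, 18911), (21498, 18926), (21499, 18913), (21500, 18915), (21501, 20414), (21502, 21520), (21503, 20545)]
    ⟨e3 q21440 L248577 q20810, e3 q21441 L250290 q21650, e3 q21442 (flp_b L250360) q21657, e3 q21443 L259872 q22604, e3 q21444 (flp_b L248605) q18842, e3 q21445 (flp_b L259898) q22606, e3 q21446 L248630 q21427, e3 q21447 L248640 q20501, e3 q21448 (flp_b L248642) q18849, e3 q21449 (flp_b L249102) q21505, e3 q21450 (flp_b L248662) q18851, e3 q21451 L248676 q21359, e3 q21452 (flp_b L254142) q22038, e3 q21453 (flp_b L248822) q21469, e3 q21454 (flp_b L256488) q22272, e3 q21455 L248702 q18856, e3 q21456 L248712 q18872, e3 q21457 L248716 q18858, e3 q21458 (flp_b L248724) q18860, e3 q21459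 (flp_b L248738) q20364, e3 q21460 L248884 q21478, e3 q21461 L248750 q20571, e3 q21462 (flp_b L248850) q21474, e3 q21463 (flp_b L248998) q21491, e3 q21464 (flp_b L248762) q18869, e3 q21465 L259944 q22610, e3 q21466 (flp_b L248778) q18873, e3 q21467 L248796 q20018, e3 q21468 L248806 q18890, e3 q21469 L248822 q21453, e3 q21470 (flp_b L257249) q22353, e3 q21471 (flp_b L248834) q18880, e3 q21472 (flp_b L259129) q22531, e3 q21473 L248844 q21373, e3 q21474 L248850 q21462, e3 q21475 (flp_b L248852) q18882, e3 q21476 (flp_b L256736) q22296, e3 q21477 L248874 q18889, e3 q21478 (flp_b L248884) q21460, e3 q21479 (flp_b L248886) q18884, e3 q21480 (flp_b L248896) q18885, e3 q21481 L248906 q18892, e3 q21482 (flp_b L249268) q21523, e3 q21483 (flp_b L260016) q22618, e3 q21484 (flp_b L256254) q22252, e3 q21485 (flp_b L260048) q22621, e3 q21486 (flp_b L248942) q18893, e3 q21487 (flp_b L260038) q22620, e3 q21488 L248962 q21383, e3 q21489 L248976 q20443, e3 q21490 (flp_b L248978) q18904, e3 q21491 L248998 q21463, e3 q21492 (flp_b L249000)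 q18906, e3 q21493 L249014 q21405, e3 q21494 (flp_b L254000) q22024, e3 q21495 (flp_b L249168) q21511, e3 q21496 (flp_b L256683) q22291, e3 q21497 L249040 q18911, e3 q21498 L249050 q18926, e3 q21499 L249054 q18913, e3 q21500 (flp_b L249062) q18915, e3 q21501 (flp_b L249078) q20414, e3 q21502 L249242 q21520, e3 q21503 L249090 q20545, trivial⟩ (by decide +kernel)

theorem ce_b_336 : ∀ r, r < 64 → sm gb (Qf (21504 + r)) = Qf (tab Gen.b (21504 + r)) :=
  edges_tab (sm gb) Qf (tab Gen.b) 21504 [(21504, 21516), (21505, 21449), (21506, 18924), (21507, 22607), (21508, 18928), (21509, 20038), (21510, 18945), (21511, 21495), (21512, 22356), (21513, 18935), (21514, 22508), (21515, 21417), (21516, 21504), (21517, 18937), (21518, 22274), (21519, 18944), (21520, 21502), (21521, 18939), (21522, 18940), (21523, 21482), (21524, 22632), (21525, 22247), (21526, 18947), (21527, 18952), (21528, 20898), (21529, 18953), (21530, 22470), (21531, 18961), (21532, 21978), (21533, 22425), (21534, 20945), (21535, 19197), (21536, 18964), (21537,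 22207), (21538, 22639), (21539, 22638), (21540, 20128), (21541, 18965), (21542, 18966), (21543, 21136), (21544, 21046), (21545, 21595), (21546, 18968), (21547, 22238), (21548, 18973), (21549, 22634), (21550, 18975), (21551, 21398), (21552, 19820), (21553, 21553), (21554, 18984), (21555, 21051), (21556, 18990), (21557, 21557), (21558, 21858), (21559, 19641), (21560, 18992), (21561, 19638), (21562, 18995), (21563, 22469), (21564, 22354), (21565, 19001), (21566, 22644), (21567, 22459)]
    ⟨e3 q21504 (flp_b L249202) q21516, e3 q21505 L249102 q21449, e3 q21506 (flp_b L249104) q18924, e3 q21507 (flp_b L259916) q22607, e3 q21508 (flp_b L249120) q18928, e3 q21509 L249142 q20038, e3 q21510 L249152 q18945, e3 q21511 L249168 q21495, e3 q21512 (flp_b L257277) q22356, e3 q21513 (flp_b L249180) q18935, e3 q21514 (flp_b L258870) q22508, e3 q21515 L249192 q21417, e3 q21516 L249202 q21504, e3 q21517 (flp_b L249204) q18937, e3 q21518 L256505 q22274, e3 q21519 L249228 q18944, e3 q21520 (flp_b L249242) q21502, e3 q21521 (flp_b L249244)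 q18939, e3 q21522 (flp_b L249254) q18940, e3 q21523 L249268 q21482, e3 q21524 (flp_b L260170) q22632, e3 q21525 (flp_b L256202) q22247, e3 q21526 (flp_b L249285) q18947, e3 q21527 L249294 q18952, e3 q21528 L249309 q20898, e3 q21529 (flp_b L249311) q18953, e3 q21530 (flp_b L258440) q22470, e3 q21531 (flp_b L249331) q18961, e3 q21532 L253563 q21978, e3 q21533 (flp_b L257984) q22425, e3 q21534 L249353 q20945, e3 q21535 L249363 q19197, e3 q21536 L249369 q18964, e3 q21537 (flp_b L255773) q22207, e3 q21538 L260233 q22639, e3 q21539 (flp_b L260221) q22638, e3 q21540 (flp_b L249406) q20128, e3 q21541 (flp_b L249408) q18965, e3 q21542 (flp_b L249416) q18966, e3 q21543 L249432 q21136, e3 q21544 L249454 q21046, e3 q21545 (flp_b L249863) q21595, e3 q21546 (flp_b L249466) q18968, e3 q21547 (flp_b L256102) q22238, e3 q21548 L249486 q18973, e3 q21549 (flp_b L260200) q22634, e3 q21550 (flp_b L249504) q18975, e3 q21551 (flp_b L249520) q21398, e3 q21552 L249528 q19820, e3 q21553 L249536 q21553, e3 q21554 L249545 q18984, e3 q21555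 L249565 q21051, e3 q21556 L249569 q18990, e3 q21557 L249583 q21557, e3 q21558 L252327 q21858, e3 q21559 (flp_b L249597) q19641, e3 q21560 (flp_b L249599) q18992, e3 q21561 L249611 q19638, e3 q21562 L249617 q18995, e3 q21563 (flp_b L258432) q22469, e3 q21564 (flp_b L257263) q22354, e3 q21565 (flp_b L249641) q19001, e3 q21566 (flp_b L260288) q22644, e3 q21567 (flp_b L258320) q22459, trivial⟩ (by decide +kernel)

theorem ce_b_337 : ∀ r, r < 64 → sm gb (Qf (21568 + r)) = Qf (tab Gen.b (21568 + r)) :=
  edges_tab (sm gb) Qf (tab Gen.b) 21568 [(21568, 22648), (21569, 19006), (21570, 22466), (21571, 21254), (21572, 19003), (21573, 19005), (21574, 19184), (21575, 21732), (21576, 22651), (21577, 19011), (21578, 21810), (21579, 21620), (21580, 19049), (21581, 19071), (21582, 19129), (21583, 19206), (21584, 19019), (21585, 22653), (21586, 21643), (21587, 19022), (21588, 19644), (21589, 21649), (21590, 21341), (21591, 21651), (21592, 19025), (21593, 19709), (21594, 19029), (21595, 21545), (21596, 19726), (21597, 19037), (21598,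 22576), (21599, 19041), (21600, 19040), (21601, 22642), (21602, 21719), (21603, 21720), (21604, 21851), (21605, 22661), (21606, 21903), (21607, 19046), (21608, 21724), (21609, 19048), (21610, 22663), (21611, 22664), (21612, 19051), (21613, 19052), (21614, 22229), (21615, 19198), (21616, 20112), (21617, 19150), (21618, 21700), (21619, 19082), (21620, 21579), (21621, 22671), (21622, 19060), (21623, 22672), (21624, 22182), (21625, 19061), (21626, 19065), (21627, 21014), (21628, 19064), (21629, 19652), (21630, 19067), (21631, 19081)]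
    ⟨e3 q21568 L260327 q22648, e3 q21569 L249669 q19006, e3 q21570 (flp_b L258402) q22466, e3 q21571 L249683 q21254, e3 q21572 (flp_b L249685) q19003, e3 q21573 (flp_b L249695) q19005, e3 q21574 L249711 q19184, e3 q21575 (flp_b L251051) q21732, e3 q21576 L260359 q22651, e3 q21577 (flp_b L249727) q19011, e3 q21578 (flp_b L251856) q21810, e3 q21579 (flp_b L250049) q21620, e3 q21580 L249745 q19049, e3 q21581 L249755 q19071, e3 q21582 L249763 q19129, e3 q21583 L249773 q19206, e3 q21584 (flp_b L249775) q19019, e3 q21585 L260376 q22653, e3 q21586 L250232 q21643, e3 q21587 (flp_b L249793) q19022, e3 q21588 (flp_b L249805) q19644, e3 q21589 (flp_b L250284) q21649, e3 q21590 (flp_b L249815) q21341, e3 q21591 (flp_b L250300) q21651, e3 q21592 (flp_b L249823) q19025, e3 q21593 L249839 q19709, e3 q21594 (flp_b L249845) q19029, e3 q21595 L249863 q21545, e3 q21596 L249877 q19726, e3 q21597 (flp_b L249879) q19037, e3 q21598 (flp_b L259593) q22576, e3 q21599 L249887 q19041, e3 q21600 (flp_b L249889) q19040, e3 q21601 (flp_b L260270)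 q22642, e3 q21602 (flp_b L250939) q21719, e3 q21603 (flp_b L250949) q21720, e3 q21604 (flp_b L252261) q21851, e3 q21605 L260446 q22661, e3 q21606 (flp_b L252796) q21903, e3 q21607 (flp_b L249945) q19046, e3 q21608 (flp_b L250985) q21724, e3 q21609 (flp_b L249961) q19048, e3 q21610 L260466 q22663, e3 q21611 L260472 q22664, e3 q21612 (flp_b L249981) q19051, e3 q21613 (flp_b L249987) q19052, e3 q21614 (flp_b L256008) q22229, e3 q21615 (flp_b L250015) q19198, e3 q21616 L250007 q20112, e3 q21617 L250021 q19150, e3 q21618 (flp_b L250769) q21700, e3 q21619 L250037 q19082, e3 q21620 L250049 q21579, e3 q21621 L260538 q22671, e3 q21622 (flp_b L250061) q19060, e3 q21623 (flp_b L260552) q22672, e3 q21624 (flp_b L255508) q22182, e3 q21625 (flp_b L250079) q19061, e3 q21626 L250091 q19065, e3 q21627 L250097 q21014, e3 q21628 (flp_b L250101) q19064, e3 q21629 L250114 q19652, e3 q21630 L250118 q19067, e3 q21631 L250127 q19081, trivial⟩ (by decide +kernel)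

theorem ce_b_338 : ∀ r, r < 64 → sm gb (Qf (21632 + r)) = Qf (tab Gen.b (21632 + r)) :=
  edges_tab (sm gb) Qf (tab Gen.b) 21632 [(21632, 21632), (21633, 22365), (21634, 22678), (21635, 19156), (21636, 19070), (21637, 22679), (21638, 21638), (21639, 19073), (21640, 19631), (21641, 19074), (21642, 22681), (21643, 21586), (21644, 19076), (21645, 21751), (21646, 22683), (21647, 19084), (21648, 20243), (21649, 21589), (21650, 21441), (21651, 21591), (21652, 19087), (21653, 22001), (21654, 20237), (21655, 19089), (21656, 19108), (21657, 21442), (21658, 19092), (21659, 20874), (21660, 19093), (21661, 22482), (21662, 19101), (21663, 21940), (21664, 22406), (21665, 20916), (21666, 19104), (21667, 22222), (21668, 22686), (21669, 22692), (21670, 20121), (21671, 19105), (21672, 19106), (21673, 21188), (21674, 21047), (21675, 21713), (21676, 22257), (21677, 19112), (21678, 22690), (21679, 19114), (21680, 21680), (21681, 19123), (21682, 21086), (21683, 21683), (21684, 21932), (21685, 19439), (21686, 19131), (21687, 19436),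 (21688, 19134), (21689, 22481), (21690, 22361), (21691, 19140), (21692, 22696), (21693, 22446), (21694, 22700), (21695, 19145)]
    ⟨e3 q21632 L250144 q21632, e3 q21633 (flp_b L257385) q22365, e3 q21634 L260602 q22678, e3 q21635 L250167 q19156, e3 q21636 (flp_b L250169) q19070, e3 q21637 L260616 q22679, e3 q21638 L250191 q21638, e3 q21639 (flp_b L250192) q19073, e3 q21640 (flp_b L250204) q19631, e3 q21641 (flp_b L250206) q19074, e3 q21642 L260639 q22681, e3 q21643 (flp_b L250232) q21586, e3 q21644 (flp_b L250234) q19076, e3 q21645 (flp_b L251239) q21751, e3 q21646 L260661 q22683, e3 q21647 (flp_b L250260) q19084, e3 q21648 L250270 q20243, e3 q21649 L250284 q21589, e3 q21650 (flp_b L250290) q21441, e3 q21651 L250300 q21591, e3 q21652 (flp_b L250302) q19087, e3 q21653 (flp_b L253778) q22001, e3 q21654 L250326 q20237, e3 q21655 L250332 q19089, e3 q21656 L250346 q19108, e3 q21657 L250360 q21442, e3 q21658 L250365 q19092, e3 q21659 L250380 q20874, e3 q21660 (flp_b L250382) q19093, e3 q21661 (flp_b L258578) q22482, e3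 q21662 (flp_b L250410) q19101, e3 q21663 L253194 q21940, e3 q21664 (flp_b L257810) q22406, e3 q21665 L250432 q20916, e3 q21666 L250442 q19104, e3 q21667 (flp_b L255930) q22222, e3 q21668 (flp_b L260695) q22686, e3 q21669 (flp_b L260765) q22692, e3 q21670 (flp_b L250490) q20121, e3 q21671 (flp_b L250492) q19105, e3 q21672 (flp_b L250500) q19106, e3 q21673 L250516 q21188, e3 q21674 L250538 q21047, e3 q21675 (flp_b L250881) q21713, e3 q21676 (flp_b L256306) q22257, e3 q21677 L250558 q19112, e3 q21678 (flp_b L260751) q22690, e3 q21679 (flp_b L250576) q19114, e3 q21680 L250592 q21680, e3 q21681 L250601 q19123, e3 q21682 L250621 q21086, e3 q21683 L250631 q21683, e3 q21684 L253102 q21932, e3 q21685 L250649 q19439, e3 q21686 (flp_b L250651) q19131, e3 q21687 L250667 q19436, e3 q21688 L250673 q19134, e3 q21689 (flp_b L258570) q22481, e3 q21690 (flp_b L257347) q22361, e3 q21691 (flp_b L250697) q19140, e3 q21692 (flp_b L260813) q22696, e3 q21693 (flp_b L258179) q22446, e3 q21694 L260854 q22700, e3 q21695 L250727 q19145, trivial⟩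 (by decide +kernel)

theorem ce_b_339 : ∀ r, r < 64 → sm gb (Qf (21696 + r)) = Qf (tab Gen.b (21696 + r)) :=
  edges_tab (sm gb) Qf (tab Gen.b) 21696 [(21696, 21243), (21697, 22478), (21698, 19143), (21699, 19144), (21700, 21618), (21701, 22666), (21702, 21899), (21703, 19185), (21704, 21734), (21705, 22702), (21706, 21749), (21707, 19159), (21708, 19443), (21709, 21349), (21710, 19162), (21711, 19802), (21712, 19166), (21713, 21675), (21714, 19174), (21715, 22573), (21716, 19178), (21717, 19177), (21718, 22694), (21719, 21602), (21720, 21603), (21721, 21926), (21722, 21816), (21723, 22649), (21724, 21608), (21725, 22707), (21726, 19186), (21727, 22708), (21728, 19187), (21729, 19189), (21730, 22215), (21731, 20104), (21732, 21575), (21733, 19216), (21734, 21704), (21735, 22665), (21736, 22635), (21737, 22189), (21738, 19202), (21739, 20988), (21740, 19201), (21741, 19452), (21742, 19204), (21743, 19215), (21744, 22370), (21745, 19207), (21746, 19430), (21747, 19208), (21748, 22714), (21749, 21706), (21750, 19210),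 (21751, 21645), (21752, 22716), (21753, 19218), (21754, 20255), (21755, 21397), (21756, 19221), (21757, 21963), (21758, 20249), (21759, 19223)]
    ⟨e3 q21696 L250737 q21243, e3 q21697 (flp_b L258540) q22478, e3 q21698 (flp_b L250745) q19143, e3 q21699 (flp_b L250755) q19144, e3 q21700 L250769 q21618, e3 q21701 (flp_b L260496) q22666, e3 q21702 (flp_b L252752) q21899, e3 q21703 L250795 q19185, e3 q21704 (flp_b L251079) q21734, e3 q21705 L260878 q22702, e3 q21706 L251217 q21749, e3 q21707 (flp_b L250817) q19159, e3 q21708 (flp_b L250829) q19443, e3 q21709 L250837 q21349, e3 q21710 (flp_b L250839) q19162, e3 q21711 L250857 q19802, e3 q21712 (flp_b L250863) q19166, e3 q21713 L250881 q21675, e3 q21714 (flp_b L250883) q19174, e3 q21715 (flp_b L259562) q22573, e3 q21716 L250901 q19178, e3 q21717 (flp_b L250909) q19177, e3 q21718 (flp_b L260793) q22694, e3 q21719 L250939 q21602, e3 q21720 L250949 q21603, e3 q21721 (flp_b L253034) q21926, e3 q21722 (flp_b L251920) q21816, e3 q21723 (flp_b L260345) q22649, e3 q21724 L250985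 q21608, e3 q21725 L260930 q22707, e3 q21726 (flp_b L250995) q19186, e3 q21727 L260942 q22708, e3 q21728 (flp_b L251013) q19187, e3 q21729 (flp_b L251023) q19189, e3 q21730 (flp_b L255865) q22215, e3 q21731 L251043 q20104, e3 q21732 L251051 q21575, e3 q21733 L251063 q19216, e3 q21734 L251079 q21704, e3 q21735 L260486 q22665, e3 q21736 (flp_b L260206) q22635, e3 q21737 (flp_b L255571) q22189, e3 q21738 L251107 q19202, e3 q21739 L251119 q20988, e3 q21740 (flp_b L251123) q19201, e3 q21741 L251138 q19452, e3 q21742 L251146 q19204, e3 q21743 L251155 q19215, e3 q21744 (flp_b L257434) q22370, e3 q21745 (flp_b L251173) q19207, e3 q21746 (flp_b L251185) q19430, e3 q21747 (flp_b L251187) q19208, e3 q21748 L261012 q22714, e3 q21749 (flp_b L251217) q21706, e3 q21750 (flp_b L251219) q19210, e3 q21751 L251239 q21645, e3 q21752 L261036 q22716, e3 q21753 (flp_b L251249) q19218, e3 q21754 L251259 q20255, e3 q21755 L251273 q21397, e3 q21756 (flp_b L251275) q19221, e3 q21757 (flp_b L253411) q21963, e3 q21758 L251301 q20249, e3 q21759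 L251307 q19223, trivial⟩ (by decide +kernel)

theorem ce_b_340 : ∀ r, r < 64 → sm gb (Qf (21760 + r)) = Qf (tab Gen.b (21760 + r)) :=
  edges_tab (sm gb) Qf (tab Gen.b) 21760 [(21760, 19267), (21761, 20356), (21762, 21866), (21763, 22202), (21764, 22718), (21765, 20028), (21766, 19245), (21767, 22523), (21768, 19250), (21769, 21413), (21770, 20893), (21771, 19252), (21772, 19255), (21773, 22721), (21774, 20613), (21775, 19486), (21776, 21225), (21777, 19269), (21778, 19317), (21779, 19275), (21780, 19274), (21781, 21976), (21782, 22722), (21783, 19276), (21784, 20325), (21785, 19284), (21786, 22525), (21787, 22725), (21788, 19285), (21789, 20048), (21790, 19295), (21791, 19299), (21792, 22726), (21793, 20229), (21794, 22728), (21795, 21028), (21796, 20375), (21797, 20157), (21798, 21800), (21799, 20456), (21800, 21798), (21801, 22087), (21802, 21891), (21803, 19326), (21804, 21420), (21805, 19331), (21806, 19642), (21807, 22367), (21808, 20781), (21809, 19645), (21810, 21578), (21811, 19572), (21812, 19354), (21813,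 19440), (21814, 21902), (21815, 19446), (21816, 21722), (21817, 19637), (21818, 19356), (21819, 19367), (21820, 22059), (21821, 21057), (21822, 22559), (21823, 22526)]
    ⟨e3 q21760 L251317 q19267, e3 q21761 L251339 q20356, e3 q21762 (flp_b L252409) q21866, e3 q21763 (flp_b L255720) q22202, e3 q21764 L261054 q22718, e3 q21765 L251371 q20028, e3 q21766 (flp_b L251373) q19245, e3 q21767 (flp_b L259041) q22523, e3 q21768 L251393 q19250, e3 q21769 L251407 q21413, e3 q21770 L251427 q20893, e3 q21771 (flp_b L251429) q19252, e3 q21772 (flp_b L251441) q19255, e3 q21773 (flp_b L261084) q22721, e3 q21774 L251465 q20613, e3 q21775 L251484 q19486, e3 q21776 L251496 q21225, e3 q21777 (flp_b L251500) q19269, e3 q21778 L251512 q19317, e3 q21779 L251524 q19275, e3 q21780 (flp_b L251534) q19274, e3 q21781 (flp_b L253537) q21976, e3 q21782 L261094 q22722, e3 q21783 (flp_b L251566) q19276, e3 q21784 L251586 q20325, e3 q21785 L251590 q19284, e3 q21786 (flp_b L259059) q22525, e3 q21787 L261128 q22725, e3 q21788 (flp_b L251612) q19285,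 e3 q21789 L251630 q20048, e3 q21790 L251638 q19295, e3 q21791 L251656 q19299, e3 q21792 L261142 q22726, e3 q21793 L251672 q20229, e3 q21794 L261170 q22728, e3 q21795 L251692 q21028, e3 q21796 L251706 q20375, e3 q21797 L251722 q20157, e3 q21798 (flp_b L251754) q21800, e3 q21799 L251740 q20456, e3 q21800 L251754 q21798, e3 q21801 (flp_b L254674) q22087, e3 q21802 (flp_b L252676) q21891, e3 q21803 (flp_b L251792) q19326, e3 q21804 (flp_b L251810) q21420, e3 q21805 (flp_b L251812) q19331, e3 q21806 L251828 q19642, e3 q21807 (flp_b L257413) q22367, e3 q21808 L251840 q20781, e3 q21809 L251852 q19645, e3 q21810 L251856 q21578, e3 q21811 L251872 q19572, e3 q21812 L251876 q19354, e3 q21813 L251888 q19440, e3 q21814 (flp_b L252786) q21902, e3 q21815 L251910 q19446, e3 q21816 L251920 q21722, e3 q21817 L251934 q19637, e3 q21818 (flp_b L251936) q19356, e3 q21819 L251946 q19367, e3 q21820 (flp_b L254382) q22059, e3 q21821 L251964 q21057, e3 q21822 (flp_b L259428) q22559, e3 q21823 (flp_b L259071) q22526, trivial⟩ (by decide +kernel)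

theorem ce_b_341 : ∀ r, r < 64 → sm gb (Qf (21824 + r)) = Qf (tab Gen.b (21824 + r)) :=
  edges_tab (sm gb) Qf (tab Gen.b) 21824 [(21824, 19368), (21825, 19374), (21826, 19760), (21827, 20081), (21828, 19509), (21829, 19499), (21830, 19484), (21831, 20152), (21832, 22732), (21833, 22377), (21834, 19402), (21835, 22733), (21836, 21937), (21837, 19405), (21838, 21267), (21839, 19412), (21840, 21917), (21841, 19409), (21842, 22602), (21843, 21843), (21844, 22374), (21845, 19422), (21846, 22734), (21847, 20852), (21848, 19437), (21849, 21924), (21850, 19431), (21851, 21604), (21852, 22695), (21853, 22713), (21854, 22703), (21855, 22735), (21856, 19442), (21857, 19448), (21858, 21558), (21859, 19449), (21860, 20334), (21861, 20573), (21862, 21936), (21863, 21913), (21864, 22564), (21865, 20354), (21866, 21762), (21867, 22197), (21868, 22736), (21869, 22498), (21870, 21368), (21871, 20869), (21872, 19489), (21873, 20616), (21874, 21205), (21875, 19502), (21876, 19544), (21877, 19508), (21878, 19507), (21879, 22014),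 (21880, 22738), (21881, 20395), (21882, 19516), (21883, 22502), (21884, 19523), (21885, 19527), (21886, 22739), (21887, 20222)]
    ⟨e3 q21824 (flp_b L251990) q19368, e3 q21825 (flp_b L251998) q19374, e3 q21826 L252024 q19760, e3 q21827 L252030 q20081, e3 q21828 L252042 q19509, e3 q21829 L252056 q19499, e3 q21830 L252060 q19484, e3 q21831 L252080 q20152, e3 q21832 L261218 q22732, e3 q21833 (flp_b L257519) q22377, e3 q21834 (flp_b L252098) q19402, e3 q21835 L261222 q22733, e3 q21836 (flp_b L253158) q21937, e3 q21837 (flp_b L252124) q19405, e3 q21838 (flp_b L252140) q21267, e3 q21839 L252146 q19412, e3 q21840 (flp_b L252944) q21917, e3 q21841 (flp_b L252154) q19409, e3 q21842 (flp_b L259856) q22602, e3 q21843 L252184 q21843, e3 q21844 (flp_b L257487) q22374, e3 q21845 (flp_b L252197) q19422, e3 q21846 L261228 q22734, e3 q21847 L252221 q20852, e3 q21848 L252237 q19437, e3 q21849 (flp_b L253016) q21924, e3 q21850 (flp_b L252247) q19431, e3 q21851 L252261 q21604, e3 q21852 (flp_b L260805) q22695, e3 q21853 (flp_b L261010)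 q22713, e3 q21854 L260892 q22703, e3 q21855 L261236 q22735, e3 q21856 (flp_b L252295) q19442, e3 q21857 (flp_b L252305) q19448, e3 q21858 (flp_b L252327) q21558, e3 q21859 (flp_b L252329) q19449, e3 q21860 L252347 q20334, e3 q21861 L252353 q20573, e3 q21862 L253148 q21936, e3 q21863 (flp_b L252904) q21913, e3 q21864 (flp_b L259482) q22564, e3 q21865 L252399 q20354, e3 q21866 L252409 q21762, e3 q21867 (flp_b L255656) q22197, e3 q21868 L261248 q22736, e3 q21869 (flp_b L258762) q22498, e3 q21870 L252441 q21368, e3 q21871 L252463 q20869, e3 q21872 (flp_b L252465) q19489, e3 q21873 L252475 q20616, e3 q21874 L252494 q21205, e3 q21875 (flp_b L252498) q19502, e3 q21876 L252510 q19544, e3 q21877 L252522 q19508, e3 q21878 (flp_b L252532) q19507, e3 q21879 (flp_b L253908) q22014, e3 q21880 L261268 q22738, e3 q21881 L252572 q20395, e3 q21882 L252576 q19516, e3 q21883 (flp_b L258802) q22502, e3 q21884 L252592 q19523, e3 q21885 L252610 q19527, e3 q21886 L261278 q22739, e3 q21887 L252626 q20222, trivial⟩ (by decide +kernel)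

theorem ce_b_342 : ∀ r, r < 64 → sm gb (Qf (21888 + r)) = Qf (tab Gen.b (21888 + r)) :=
  edges_tab (sm gb) Qf (tab Gen.b) 21888 [(21888, 22741), (21889, 21026), (21890, 20423), (21891, 21802), (21892, 20514), (21893, 22074), (21894, 19551), (21895, 21375), (21896, 19557), (21897, 22371), (21898, 20790), (21899, 21702), (21900, 19570), (21901, 19640), (21902, 21814), (21903, 21606), (21904, 19582), (21905, 22054), (21906, 21018), (21907, 22557), (21908, 22500), (21909, 19583), (21910, 19589), (21911, 19666), (21912, 20069), (21913, 21863), (21914, 22743), (21915, 21276), (21916, 19611), (21917, 21840), (21918, 19613), (21919, 19617), (21920, 22589), (21921, 19624), (21922, 22744), (21923, 20859), (21924, 21849), (21925, 19633), (21926, 21721), (21927, 22680), (21928, 22643), (21929, 22654), (21930, 22729), (21931, 19648), (21932, 21684), (21933, 19649), (21934, 20399), (21935, 20548), (21936, 21862), (21937, 21836), (21938, 22561), (21939, 19671), (21940, 21663), (21941, 20587), (21942, 19672), (21943, 19673),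 (21944, 22501), (21945, 20837), (21946, 22397), (21947, 21409), (21948, 19683), (21949, 22745), (21950, 19686), (21951, 22586)]
    ⟨e3 q21888 L261306 q22741, e3 q21889 L252646 q21026, e3 q21890 L252662 q20423, e3 q21891 L252676 q21802, e3 q21892 L252684 q20514, e3 q21893 (flp_b L254564) q22074, e3 q21894 (flp_b L252706) q19551, e3 q21895 (flp_b L252726) q21375, e3 q21896 (flp_b L252728) q19557, e3 q21897 L257456 q22371, e3 q21898 L252748 q20790, e3 q21899 L252752 q21702, e3 q21900 L252762 q19570, e3 q21901 L252774 q19640, e3 q21902 L252786 q21814, e3 q21903 L252796 q21606, e3 q21904 L252802 q19582, e3 q21905 (flp_b L254320) q22054, e3 q21906 L252820 q21018, e3 q21907 (flp_b L259407) q22557, e3 q21908 (flp_b L258780) q22500, e3 q21909 (flp_b L252846) q19583, e3 q21910 (flp_b L252856) q19589, e3 q21911 L252882 q19666, e3 q21912 L252890 q20069, e3 q21913 L252904 q21863, e3 q21914 L261332 q22743, e3 q21915 (flp_b L252928) q21276, e3 q21916 (flp_b L252930) q19611, e3 q21917 L252944 q21840, e3 q21918 (flp_b L252946)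 q19613, e3 q21919 L252960 q19617, e3 q21920 (flp_b L259718) q22589, e3 q21921 (flp_b L252974) q19624, e3 q21922 L261340 q22744, e3 q21923 L253002 q20859, e3 q21924 L253016 q21849, e3 q21925 (flp_b L253018) q19633, e3 q21926 L253034 q21721, e3 q21927 (flp_b L260637) q22680, e3 q21928 (flp_b L260280) q22643, e3 q21929 L260388 q22654, e3 q21930 (flp_b L261186) q22729, e3 q21931 (flp_b L253080) q19648, e3 q21932 (flp_b L253102) q21684, e3 q21933 (flp_b L253104) q19649, e3 q21934 L253124 q20399, e3 q21935 L253130 q20548, e3 q21936 (flp_b L253148) q21862, e3 q21937 L253158 q21836, e3 q21938 (flp_b L259450) q22561, e3 q21939 L253174 q19671, e3 q21940 (flp_b L253194) q21663, e3 q21941 L253204 q20587, e3 q21942 (flp_b L253208) q19672, e3 q21943 (flp_b L253222) q19673, e3 q21944 (flp_b L258794) q22501, e3 q21945 L253248 q20837, e3 q21946 (flp_b L257716) q22397, e3 q21947 (flp_b L253270) q21409, e3 q21948 (flp_b L253272) q19683, e3 q21949 L261352 q22745, e3 q21950 (flp_b L253288) q19686, e3 q21951 (flp_b L259690) q22586, trivial⟩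 (by decide +kernel)

theorem ce_b_343 : ∀ r, r < 64 → sm gb (Qf (21952 + r)) = Qf (tab Gen.b (21952 + r)) :=
  edges_tab (sm gb) Qf (tab Gen.b) 21952 [(21952, 21989), (21953, 19689), (21954, 20150), (21955, 22200), (21956, 21956), (21957, 19727), (21958, 22659), (21959, 20701), (21960, 22647), (21961, 19703), (21962, 22214), (21963, 21757), (21964, 19706), (21965, 21971), (21966, 22519), (21967, 21344), (21968, 19717), (21969, 22239), (21970, 19719), (21971, 21965), (21972, 22011), (21973, 22010), (21974, 20905), (21975, 22522), (21976, 21781), (21977, 19765), (21978, 21532), (21979, 20591), (21980, 19766), (21981, 19767), (21982, 22527), (21983, 20841), (21984, 22403), (21985, 21364), (21986, 19776), (21987, 22748), (21988, 19779), (21989, 21952), (21990, 22599), (21991, 19784), (21992, 20147), (21993, 22205), (21994, 19823), (21995, 21995), (21996, 22689), (21997, 22699), (21998, 20734), (21999, 19796), (22000, 22230), (22001, 21653), (22002, 19799), (22003, 22009), (22004, 22494), (22005, 21352), (22006, 19811),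 (22007, 22241), (22008, 19812), (22009, 22003), (22010, 21973), (22011, 21972), (22012, 20881), (22013, 22497), (22014, 21879), (22015, 22043)]
    ⟨e3 q21952 (flp_b L253661) q21989, e3 q21953 (flp_b L253306) q19689, e3 q21954 L253320 q20150, e3 q21955 L255692 q22200, e3 q21956 L253342 q21956, e3 q21957 L253355 q19727, e3 q21958 (flp_b L260438) q22659, e3 q21959 L253375 q20701, e3 q21960 (flp_b L260325) q22647, e3 q21961 (flp_b L253383) q19703, e3 q21962 (flp_b L255853) q22214, e3 q21963 L253411 q21757, e3 q21964 (flp_b L253413) q19706, e3 q21965 (flp_b L253483) q21971, e3 q21966 L258991 q22519, e3 q21967 L253451 q21344, e3 q21968 L253459 q19717, e3 q21969 (flp_b L256122) q22239, e3 q21970 (flp_b L253473) q19719, e3 q21971 L253483 q21965, e3 q21972 (flp_b L253870) q22011, e3 q21973 (flp_b L253856) q22010, e3 q21974 L253513 q20905, e3 q21975 (flp_b L259033) q22522, e3 q21976 L253537 q21781, e3 q21977 L253543 q19765, e3 q21978 (flp_b L253563) q21532, e3 q21979 L253569 q20591, e3 q21980 (flp_b L253573) q19766, e3 q21981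 (flp_b L253581) q19767, e3 q21982 (flp_b L259085) q22527, e3 q21983 L253613 q20841, e3 q21984 (flp_b L257784) q22403, e3 q21985 (flp_b L253635) q21364, e3 q21986 (flp_b L253637) q19776, e3 q21987 L261380 q22748, e3 q21988 (flp_b L253653) q19779, e3 q21989 L253661 q21952, e3 q21990 (flp_b L259824) q22599, e3 q21991 (flp_b L253673) q19784, e3 q21992 L253687 q20147, e3 q21993 (flp_b L255756) q22205, e3 q21994 L253711 q19823, e3 q21995 L253723 q21995, e3 q21996 (flp_b L260729) q22689, e3 q21997 L260852 q22699, e3 q21998 L253748 q20734, e3 q21999 (flp_b L253750) q19796, e3 q22000 (flp_b L256022) q22230, e3 q22001 L253778 q21653, e3 q22002 (flp_b L253780) q19799, e3 q22003 (flp_b L253850) q22009, e3 q22004 L258716 q22494, e3 q22005 L253818 q21352, e3 q22006 L253826 q19811, e3 q22007 (flp_b L256146) q22241, e3 q22008 (flp_b L253840) q19812, e3 q22009 L253850 q22003, e3 q22010 L253856 q21973, e3 q22011 L253870 q21972, e3 q22012 L253884 q20881, e3 q22013 L258754 q22497, e3 q22014 L253908 q21879, e3 q22015 L254200 q22043,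 trivial⟩ (by decide +kernel)

theorem ce_b_344 : ∀ r, r < 64 → sm gb (Qf (22016 + r)) = Qf (tab Gen.b (22016 + r)) :=
  edges_tab (sm gb) Qf (tab Gen.b) 22016 [(22016, 19856), (22017, 19857), (22018, 19858), (22019, 19859), (22020, 19860), (22021, 19861), (22022, 22036), (22023, 20506), (22024, 21494), (22025, 20838), (22026, 21107), (22027, 22386), (22028, 19869), (22029, 22030), (22030, 22029), (22031, 19874), (22032, 19876), (22033, 19877), (22034, 19878), (22035, 19879), (22036, 22022), (22037, 20448), (22038, 21452), (22039, 21160), (22040, 20842), (22041, 22389), (22042, 19888), (22043, 22015), (22044, 20010), (22045, 20368), (22046, 19968), (22047, 20384), (22048, 19922), (22049, 21258), (22050, 22050), (22051, 19940), (22052, 20521), (22053, 20193), (22054, 21905), (22055, 21328), (22056, 20056), (22057, 19967), (22058, 20422), (22059, 21820), (22060, 20011), (22061, 20036), (22062, 21323), (22063, 20376), (22064, 19983), (22065, 21248), (22066, 22066), (22067, 20462), (22068, 20000), (22069, 20175), (22070,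 20367), (22071, 21262), (22072, 20025), (22073, 22484), (22074, 21893), (22075, 20029), (22076, 22539), (22077, 22752), (22078, 20030), (22079, 20033)]
    ⟨e3 q22016 (flp_b L253920) q19856, e3 q22017 (flp_b L253930) q19857, e3 q22018 (flp_b L253942) q19858, e3 q22019 (flp_b L253952) q19859, e3 q22020 (flp_b L253960) q19860, e3 q22021 (flp_b L253964) q19861, e3 q22022 (flp_b L254118) q22036, e3 q22023 L253986 q20506, e3 q22024 L254000 q21494, e3 q22025 L254014 q20838, e3 q22026 L254028 q21107, e3 q22027 (flp_b L257600) q22386, e3 q22028 (flp_b L254042) q19869, e3 q22029 (flp_b L254066) q22030, e3 q22030 L254066 q22029, e3 q22031 (flp_b L254068) q19874, e3 q22032 (flp_b L254080) q19876, e3 q22033 (flp_b L254092) q19877, e3 q22034 (flp_b L254100) q19878, e3 q22035 (flp_b L254110) q19879, e3 q22036 L254118 q22022, e3 q22037 L254128 q20448, e3 q22038 L254142 q21452, e3 q22039 L254156 q21160, e3 q22040 L254170 q20842, e3 q22041 (flp_b L257626) q22389, e3 q22042 (flp_b L254184) q19888, e3 q22043 (flp_b L254200) q22015,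 e3 q22044 L254206 q20010, e3 q22045 L254224 q20368, e3 q22046 L254230 q19968, e3 q22047 L254248 q20384, e3 q22048 (flp_b L254250) q19922, e3 q22049 L254273 q21258, e3 q22050 L254285 q22050, e3 q22051 (flp_b L254286) q19940, e3 q22052 L254306 q20521, e3 q22053 L254314 q20193, e3 q22054 L254320 q21905, e3 q22055 L254334 q21328, e3 q22056 L254348 q20056, e3 q22057 L254362 q19967, e3 q22058 L254376 q20422, e3 q22059 L254382 q21820, e3 q22060 L254400 q20011, e3 q22061 L254412 q20036, e3 q22062 L254422 q21323, e3 q22063 L254438 q20376, e3 q22064 (flp_b L254440) q19983, e3 q22065 L254463 q21248, e3 q22066 L254475 q22066, e3 q22067 L254488 q20462, e3 q22068 (flp_b L254490) q20000, e3 q22069 L254508 q20175, e3 q22070 (flp_b L254520) q20367, e3 q22071 L254524 q21262, e3 q22072 L254536 q20025, e3 q22073 (flp_b L258602) q22484, e3 q22074 L254564 q21893, e3 q22075 (flp_b L254566) q20029, e3 q22076 (flp_b L259218) q22539, e3 q22077 L261410 q22752, e3 q22078 (flp_b L254582) q20030, e3 q22079 L254596 q20033, trivial⟩ (by decide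 +kernel)

theorem ce_b_345 : ∀ r, r < 64 → sm gb (Qf (22080 + r)) = Qf (tab Gen.b (22080 + r)) :=
  edges_tab (sm gb) Qf (tab Gen.b) 22080 [(22080, 20839), (22081, 20034), (22082, 22754), (22083, 20417), (22084, 21264), (22085, 20045), (22086, 22472), (22087, 21801), (22088, 20049), (22089, 22549), (22090, 22756), (22091, 20050), (22092, 20053), (22093, 20843), (22094, 20054), (22095, 22758), (22096, 22759), (22097, 20060), (22098, 22098), (22099, 22762), (22100, 20061), (22101, 20062), (22102, 20065), (22103, 22766), (22104, 20066), (22105, 20917), (22106, 22338), (22107, 22117), (22108, 20070), (22109, 22346), (22110, 20072), (22111, 22111), (22112, 20073), (22113, 22771), (22114, 20077), (22115, 20078), (22116, 20946), (22117, 22107), (22118, 22350), (22119, 20080), (22120, 22332), (22121, 20083), (22122, 20088), (22123, 20928), (22124, 20090), (22125, 22779), (22126, 20096), (22127, 20957), (22128, 20098), (22129, 22780), (22130, 22710), (22131, 20109), (22132, 22669), (22133, 20117), (22134, 20123), (22135,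 20130), (22136, 22388), (22137, 22391), (22138, 20541), (22139, 20139), (22140, 20483), (22141, 20143), (22142, 20767), (22143, 20148)]
    ⟨e3 q22080 L254612 q20839, e3 q22081 (flp_b L254614) q20034, e3 q22082 (flp_b L261436) q22754, e3 q22083 (flp_b L254630) q20417, e3 q22084 L254634 q21264, e3 q22085 L254646 q20045, e3 q22086 (flp_b L258464) q22472, e3 q22087 L254674 q21801, e3 q22088 (flp_b L254676) q20049, e3 q22089 (flp_b L259326) q22549, e3 q22090 L261452 q22756, e3 q22091 (flp_b L254692) q20050, e3 q22092 L254706 q20053, e3 q22093 L254722 q20843, e3 q22094 (flp_b L254724) q20054, e3 q22095 (flp_b L261478) q22758, e3 q22096 L261482 q22759, e3 q22097 (flp_b L254740) q20060, e3 q22098 L254750 q22098, e3 q22099 L261506 q22762, e3 q22100 (flp_b L254764) q20061, e3 q22101 (flp_b L254774) q20062, e3 q22102 (flp_b L254786) q20065, e3 q22103 L261548 q22766, e3 q22104 (flp_b L254806) q20066, e3 q22105 (flp_b L254824) q20917, e3 q22106 (flp_b L257115) q22338, e3 q22107 L257051 q22117, e3 q22108 (flp_b L254836) q20070,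 e3 q22109 L257173 q22346, e3 q22110 (flp_b L254850) q20072, e3 q22111 L254869 q22111, e3 q22112 (flp_b L254870) q20073, e3 q22113 L261587 q22771, e3 q22114 (flp_b L254892) q20077, e3 q22115 (flp_b L254895) q20078, e3 q22116 (flp_b L254909) q20946, e3 q22117 (flp_b L257051) q22107, e3 q22118 (flp_b L257211) q22350, e3 q22119 (flp_b L254921) q20080, e3 q22120 (flp_b L257049) q22332, e3 q22121 (flp_b L254935) q20083, e3 q22122 L254954 q20088, e3 q22123 L254962 q20928, e3 q22124 L254970 q20090, e3 q22125 L261662 q22779, e3 q22126 L255000 q20096, e3 q22127 L255008 q20957, e3 q22128 L255016 q20098, e3 q22129 L261676 q22780, e3 q22130 (flp_b L260968) q22710, e3 q22131 (flp_b L255044) q20109, e3 q22132 (flp_b L260524) q22669, e3 q22133 (flp_b L255068) q20117, e3 q22134 (flp_b L255082) q20123, e3 q22135 (flp_b L255096) q20130, e3 q22136 (flp_b L257622) q22388, e3 q22137 (flp_b L257648) q22391, e3 q22138 L255136 q20541, e3 q22139 (flp_b L255138) q20139, e3 q22140 L255156 q20483, e3 q22141 (flp_b L255158) q20143, e3 q22142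 L255178 q20767, e3 q22143 (flp_b L255182) q20148, trivial⟩ (by decide +kernel)

theorem ce_b_346 : ∀ r, r < 64 → sm gb (Qf (22144 + r)) = Qf (tab Gen.b (22144 + r)) :=
  edges_tab (sm gb) Qf (tab Gen.b) 22144 [(22144, 22781), (22145, 20755), (22146, 20151), (22147, 22783), (22148, 22784), (22149, 22785), (22150, 20434), (22151, 20167), (22152, 22786), (22153, 20172), (22154, 20173), (22155, 22788), (22156, 22623), (22157, 20179), (22158, 22584), (22159, 20489), (22160, 20184), (22161, 22789), (22162, 20189), (22163, 20190), (22164, 22791), (22165, 22608), (22166, 20196), (22167, 22597), (22168, 20220), (22169, 20981), (22170, 20927), (22171, 22268), (22172, 22486), (22173, 20225), (22174, 20872), (22175, 20227), (22176, 21007), (22177, 20956), (22178, 22288), (22179, 22515), (22180, 20232), (22181, 20896), (22182, 21624), (22183, 20240), (22184, 22560), (22185, 22794), (22186, 20241), (22187, 20242), (22188, 20245), (22189, 21737), (22190, 20252), (22191, 22563), (22192, 22795), (22193, 20253), (22194, 20254), (22195,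 20257), (22196, 22201), (22197, 21867), (22198, 21289), (22199, 22585), (22200, 21955), (22201, 22196), (22202, 21763), (22203, 21284), (22204, 22598), (22205, 21993), (22206, 20282), (22207, 21537)]
    ⟨e3 q22144 (flp_b L261693) q22781, e3 q22145 L255204 q20755, e3 q22146 (flp_b L255208) q20151, e3 q22147 (flp_b L261707) q22783, e3 q22148 L261710 q22784, e3 q22149 L261724 q22785, e3 q22150 L255248 q20434, e3 q22151 (flp_b L255252) q20167, e3 q22152 (flp_b L261742) q22786, e3 q22153 L255267 q20172, e3 q22154 (flp_b L255273) q20173, e3 q22155 (flp_b L261771) q22788, e3 q22156 (flp_b L260072) q22623, e3 q22157 (flp_b L255303) q20179, e3 q22158 (flp_b L259668) q22584, e3 q22159 L255329 q20489, e3 q22160 (flp_b L255333) q20184, e3 q22161 (flp_b L261779) q22789, e3 q22162 L255348 q20189, e3 q22163 (flp_b L255354) q20190, e3 q22164 (flp_b L261810) q22791, e3 q22165 (flp_b L259922) q22608, e3 q22166 (flp_b L255386) q20196, e3 q22167 (flp_b L259802) q22597, e3 q22168 (flp_b L255402) q20220, e3 q22169 L255412 q20981, e3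 q22170 (flp_b L255420) q20927, e3 q22171 (flp_b L256446) q22268, e3 q22172 (flp_b L258632) q22486, e3 q22173 (flp_b L255432) q20225, e3 q22174 L255452 q20872, e3 q22175 (flp_b L255454) q20227, e3 q22176 L255464 q21007, e3 q22177 (flp_b L255472) q20956, e3 q22178 (flp_b L256651) q22288, e3 q22179 (flp_b L258951) q22515, e3 q22180 (flp_b L255484) q20232, e3 q22181 L255504 q20896, e3 q22182 L255508 q21624, e3 q22183 L255514 q20240, e3 q22184 (flp_b L259440) q22560, e3 q22185 L261836 q22794, e3 q22186 (flp_b L255538) q20241, e3 q22187 (flp_b L255543) q20242, e3 q22188 (flp_b L255557) q20245, e3 q22189 L255571 q21737, e3 q22190 L255577 q20252, e3 q22191 (flp_b L259472) q22563, e3 q22192 L261847 q22795, e3 q22193 (flp_b L255601) q20253, e3 q22194 (flp_b L255606) q20254, e3 q22195 (flp_b L255620) q20257, e3 q22196 (flp_b L255706) q22201, e3 q22197 L255656 q21867, e3 q22198 (flp_b L255668) q21289, e3 q22199 (flp_b L259678) q22585, e3 q22200 (flp_b L255692) q21955, e3 q22201 L255706 q22196, e3 q22202 L255720 q21763, e3 q22203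 (flp_b L255732) q21284, e3 q22204 (flp_b L259812) q22598, e3 q22205 L255756 q21993, e3 q22206 (flp_b L255758) q20282, e3 q22207 L255773 q21537, trivial⟩ (by decide +kernel)

theorem ce_b_347 : ∀ r, r < 64 → sm gb (Qf (22208 + r)) = Qf (tab Gen.b (22208 + r)) :=
  edges_tab (sm gb) Qf (tab Gen.b) 22208 [(22208, 21179), (22209, 22209), (22210, 20286), (22211, 22211), (22212, 22603), (22213, 21411), (22214, 21962), (22215, 21730), (22216, 20296), (22217, 22518), (22218, 22796), (22219, 22542), (22220, 20299), (22221, 20302), (22222, 21667), (22223, 21126), (22224, 22224), (22225, 20306), (22226, 22226), (22227, 22590), (22228, 21366), (22229, 21614), (22230, 22000), (22231, 20316), (22232, 22493), (22233, 22797), (22234, 22551), (22235, 20319), (22236, 21069), (22237, 21421), (22238, 21547), (22239, 21969), (22240, 20339), (22241, 22007), (22242, 20604), (22243, 20906), (22244, 22261), (22245, 22260), (22246, 22611), (22247, 21525), (22248, 21058), (22249, 20512), (22250, 21428), (22251, 22625), (22252, 21484), (22253,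 21384), (22254, 20882), (22255, 21032), (22256, 21378), (22257, 21676), (22258, 20402), (22259, 20603), (22260, 22245), (22261, 22244), (22262, 21019), (22263, 20454), (22264, 20436), (22265, 20766), (22266, 22286), (22267, 22477), (22268, 22171), (22269, 20459), (22270, 20466), (22271, 22798)]
    ⟨e3 q22208 L255789 q21179, e3 q22209 L255795 q22209, e3 q22210 (flp_b L255802) q20286, e3 q22211 L255812 q22211, e3 q22212 (flp_b L259870) q22603, e3 q22213 L255835 q21411, e3 q22214 L255853 q21962, e3 q22215 L255865 q21730, e3 q22216 L255869 q20296, e3 q22217 (flp_b L258977) q22518, e3 q22218 (flp_b L261862) q22796, e3 q22219 (flp_b L259248) q22542, e3 q22220 (flp_b L255905) q20299, e3 q22221 (flp_b L255915) q20302, e3 q22222 L255930 q21667, e3 q22223 L255946 q21126, e3 q22224 L255952 q22224, e3 q22225 (flp_b L255959) q20306, e3 q22226 L255969 q22226, e3 q22227 (flp_b L259732) q22590, e3 q22228 L255992 q21366, e3 q22229 L256008 q21614, e3 q22230 L256022 q22000, e3 q22231 L256026 q20316, e3 q22232 (flp_b L258702) q22493,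 e3 q22233 (flp_b L261874) q22797, e3 q22234 (flp_b L259346) q22551, e3 q22235 (flp_b L256064) q20319, e3 q22236 L256082 q21069, e3 q22237 L256096 q21421, e3 q22238 L256102 q21547, e3 q22239 L256122 q21969, e3 q22240 (flp_b L256124) q20339, e3 q22241 L256146 q22007, e3 q22242 L256150 q20604, e3 q22243 L256166 q20906, e3 q22244 (flp_b L256360) q22261, e3 q22245 (flp_b L256338) q22260, e3 q22246 (flp_b L259970) q22611, e3 q22247 L256202 q21525, e3 q22248 L256212 q21058, e3 q22249 L256226 q20512, e3 q22250 L256230 q21428, e3 q22251 (flp_b L260106) q22625, e3 q22252 L256254 q21484, e3 q22253 L256258 q21384, e3 q22254 L256276 q20882, e3 q22255 L256286 q21032, e3 q22256 L256300 q21378, e3 q22257 L256306 q21676, e3 q22258 (flp_b L256314) q20402, e3 q22259 L256326 q20603, e3 q22260 L256338 q22245, e3 q22261 L256360 q22244, e3 q22262 L256370 q21019, e3 q22263 L256384 q20454, e3 q22264 L256396 q20436, e3 q22265 L256412 q20766, e3 q22266 (flp_b L256625) q22286, e3 q22267 (flp_b L258520) q22477, e3 q22268 L256446 q22171, e3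 q22269 (flp_b L256448) q20459, e3 q22270 (flp_b L256460) q20466, e3 q22271 L261884 q22798, trivial⟩ (by decide +kernel)

theorem ce_b_348 : ∀ r, r < 64 → sm gb (Qf (22272 + r)) = Qf (tab Gen.b (22272 + r)) :=
  edges_tab (sm gb) Qf (tab Gen.b) 22272 [(22272, 21454), (22273, 20470), (22274, 21518), (22275, 20471), (22276, 20785), (22277, 22376), (22278, 20474), (22279, 21260), (22280, 22534), (22281, 22299), (22282, 20481), (22283, 22799), (22284, 20494), (22285, 20756), (22286, 22266), (22287, 22465), (22288, 22178), (22289, 20518), (22290, 20523), (22291, 21496), (22292, 22800), (22293, 20528), (22294, 20769), (22295, 20529), (22296, 21476), (22297, 20534), (22298, 21259), (22299, 22281), (22300, 22513), (22301, 20540), (22302, 22801), (22303, 22802), (22304, 20547), (22305, 22317), (22306, 20554), (22307, 22803), (22308, 20559), (22309, 20560), (22310, 22807), (22311, 22804), (22312, 20562), (22313, 22313), (22314, 20564), (22315, 22811), (22316, 20566), (22317, 22305), (22318, 20580), (22319, 22812), (22320,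 20614), (22321, 22815), (22322, 22816), (22323, 20617), (22324, 22817), (22325, 20624), (22326, 22407), (22327, 20626), (22328, 22819), (22329, 20631), (22330, 22351), (22331, 20628), (22332, 22120), (22333, 20960), (22334, 22348), (22335, 20633)]
    ⟨e3 q22272 L256488 q21454, e3 q22273 (flp_b L256490) q20470, e3 q22274 (flp_b L256505) q21518, e3 q22275 (flp_b L256507) q20471, e3 q22276 (flp_b L256525) q20785, e3 q22277 L257509 q22376, e3 q22278 (flp_b L256533) q20474, e3 q22279 L256551 q21260, e3 q22280 L259158 q22534, e3 q22281 (flp_b L256768) q22299, e3 q22282 (flp_b L256573) q20481, e3 q22283 L261891 q22799, e3 q22284 L256597 q20494, e3 q22285 L256613 q20756, e3 q22286 L256625 q22266, e3 q22287 (flp_b L258382) q22465, e3 q22288 L256651 q22178, e3 q22289 (flp_b L256653) q20518, e3 q22290 (flp_b L256665) q20523, e3 q22291 L256683 q21496, e3 q22292 L261899 q22800, e3 q22293 (flp_b L256697) q20528, e3 q22294 (flp_b L256715) q20769, e3 q22295 (flp_b L256717) q20529, e3 q22296 L256736 q21476, e3 q22297 (flp_b L256738)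 q20534, e3 q22298 L256756 q21259, e3 q22299 L256768 q22281, e3 q22300 L258925 q22513, e3 q22301 (flp_b L256780) q20540, e3 q22302 L261910 q22801, e3 q22303 L261920 q22802, e3 q22304 (flp_b L256808) q20547, e3 q22305 (flp_b L256941) q22317, e3 q22306 (flp_b L256832) q20554, e3 q22307 L261933 q22803, e3 q22308 (flp_b L256858) q20559, e3 q22309 (flp_b L256866) q20560, e3 q22310 L261969 q22807, e3 q22311 (flp_b L261949) q22804, e3 q22312 (flp_b L256888) q20562, e3 q22313 L256895 q22313, e3 q22314 (flp_b L256900) q20564, e3 q22315 L262013 q22811, e3 q22316 (flp_b L256921) q20566, e3 q22317 L256941 q22305, e3 q22318 (flp_b L256943) q20580, e3 q22319 L262025 q22812, e3 q22320 (flp_b L256961) q20614, e3 q22321 L262049 q22815, e3 q22322 L262053 q22816, e3 q22323 (flp_b L256979) q20617, e3 q22324 L262065 q22817, e3 q22325 (flp_b L256997) q20624, e3 q22326 (flp_b L257816) q22407, e3 q22327 (flp_b L257013) q20626, e3 q22328 L262085 q22819, e3 q22329 L257031 q20631, e3 q22330 (flp_b L257225) q22351, e3 q22331 (flp_b L257039)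 q20628, e3 q22332 L257049 q22120, e3 q22333 L257067 q20960, e3 q22334 L257197 q22348, e3 q22335 (flp_b L257081) q20633, trivial⟩ (by decide +kernel)

theorem ce_b_349 : ∀ r, r < 64 → sm gb (Qf (22336 + r)) = Qf (tab Gen.b (22336 + r)) :=
  edges_tab (sm gb) Qf (tab Gen.b) 22336 [(22336, 20930), (22337, 20959), (22338, 22106), (22339, 20651), (22340, 22426), (22341, 20653), (22342, 22822), (22343, 20658), (22344, 22359), (22345, 20655), (22346, 22109), (22347, 20931), (22348, 22334), (22349, 20660), (22350, 22118), (22351, 22330), (22352, 20936), (22353, 21470), (22354, 21564), (22355, 22440), (22356, 21512), (22357, 20705), (22358, 22824), (22359, 22344), (22360, 20934), (22361, 21690), (22362, 22453), (22363, 20738), (22364, 22825), (22365, 21633), (22366, 22826), (22367, 21807), (22368, 20749), (22369, 20782), (22370, 21744), (22371, 21897), (22372, 22827), (22373, 20762), (22374, 21844), (22375, 20775), (22376, 22277), (22377, 21833), (22378, 20777), (22379, 22379), (22380, 22830), (22381, 22704), (22382, 20780),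 (22383, 22655), (22384, 20851), (22385, 20858), (22386, 22027), (22387, 20853), (22388, 22136), (22389, 22041), (22390, 20860), (22391, 22137), (22392, 22831), (22393, 20862), (22394, 22562), (22395, 22833), (22396, 22658), (22397, 21946), (22398, 20885), (22399, 22834)]
    ⟨e3 q22336 L257091 q20930, e3 q22337 L257099 q20959, e3 q22338 L257115 q22106, e3 q22339 (flp_b L257117) q20651, e3 q22340 (flp_b L257990) q22426, e3 q22341 (flp_b L257133) q20653, e3 q22342 L262113 q22822, e3 q22343 L257151 q20658, e3 q22344 (flp_b L257323) q22359, e3 q22345 (flp_b L257159) q20655, e3 q22346 (flp_b L257173) q22109, e3 q22347 L257183 q20931, e3 q22348 (flp_b L257197) q22334, e3 q22349 (flp_b L257199) q20660, e3 q22350 L257211 q22118, e3 q22351 L257225 q22330, e3 q22352 L257235 q20936, e3 q22353 L257249 q21470, e3 q22354 L257263 q21564, e3 q22355 (flp_b L258105) q22440, e3 q22356 L257277 q21512, e3 q22357 (flp_b L257287) q20705, e3 q22358 L262131 q22824, e3 q22359 L257323 q22344, e3 q22360 L257333 q20934, e3 q22361 L257347 q21690,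 e3 q22362 (flp_b L258246) q22453, e3 q22363 (flp_b L257357) q20738, e3 q22364 L262143 q22825, e3 q22365 L257385 q21633, e3 q22366 L262155 q22826, e3 q22367 L257413 q21807, e3 q22368 (flp_b L257415) q20749, e3 q22369 L257428 q20782, e3 q22370 L257434 q21744, e3 q22371 (flp_b L257456) q21897, e3 q22372 L262160 q22827, e3 q22373 (flp_b L257470) q20762, e3 q22374 L257487 q21844, e3 q22375 (flp_b L257489) q20775, e3 q22376 (flp_b L257509) q22277, e3 q22377 L257519 q21833, e3 q22378 (flp_b L257521) q20777, e3 q22379 L257538 q22379, e3 q22380 L262190 q22830, e3 q22381 (flp_b L260900) q22704, e3 q22382 (flp_b L257553) q20780, e3 q22383 (flp_b L260396) q22655, e3 q22384 L257584 q20851, e3 q22385 L257596 q20858, e3 q22386 L257600 q22027, e3 q22387 L257610 q20853, e3 q22388 L257622 q22136, e3 q22389 L257626 q22041, e3 q22390 L257636 q20860, e3 q22391 L257648 q22137, e3 q22392 L262199 q22831, e3 q22393 (flp_b L257662) q20862, e3 q22394 (flp_b L259462) q22562, e3 q22395 (flp_b L262231) q22833, e3 q22396 (flp_b L260426) q22658,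 e3 q22397 L257716 q21946, e3 q22398 (flp_b L257718) q20885, e3 q22399 L262235 q22834, trivial⟩ (by decide +kernel)

theorem ce_b_350 : ∀ r, r < 64 → sm gb (Qf (22400 + r)) = Qf (tab Gen.b (22400 + r)) :=
  edges_tab (sm gb) Qf (tab Gen.b) 22400 [(22400, 22565), (22401, 22832), (22402, 22688), (22403, 21984), (22404, 20909), (22405, 20911), (22406, 21664), (22407, 22326), (22408, 22763), (22409, 22451), (22410, 22836), (22411, 21040), (22412, 22462), (22413, 20922), (22414, 20955), (22415, 22624), (22416, 20962), (22417, 21290), (22418, 20951), (22419, 20926), (22420, 22840), (22421, 22749), (22422, 20933), (22423, 20938), (22424, 20940), (22425, 21533), (22426, 22340), (22427, 22774), (22428, 22438), (22429, 22843), (22430, 21077), (22431, 22474), (22432, 22609), (22433, 21285), (22434, 22844), (22435, 22750), (22436, 20966), (22437, 22510), (22438, 22428), (22439, 22846), (22440, 22355), (22441, 20974), (22442, 20972), (22443, 22697), (22444, 20976), (22445, 22675), (22446, 21693), (22447, 22667), (22448, 21275),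 (22449, 20992), (22450, 22512), (22451, 22409), (22452, 22848), (22453, 22362), (22454, 21000), (22455, 20998), (22456, 22645), (22457, 21002), (22458, 22668), (22459, 21567), (22460, 22709), (22461, 21266), (22462, 22412), (22463, 22753)]
    ⟨e3 q22400 (flp_b L259494) q22565, e3 q22401 (flp_b L262217) q22832, e3 q22402 (flp_b L260723) q22688, e3 q22403 L257784 q21984, e3 q22404 (flp_b L257786) q20909, e3 q22405 (flp_b L257798) q20911, e3 q22406 L257810 q21664, e3 q22407 L257816 q22326, e3 q22408 L261524 q22763, e3 q22409 (flp_b L258226) q22451, e3 q22410 L262251 q22836, e3 q22411 L257844 q21040, e3 q22412 (flp_b L258358) q22462, e3 q22413 (flp_b L257856) q20922, e3 q22414 L257876 q20955, e3 q22415 (flp_b L260092) q22624, e3 q22416 L257896 q20962, e3 q22417 L257908 q21290, e3 q22418 (flp_b L257922) q20951, e3 q22419 (flp_b L257924) q20926, e3 q22420 L262299 q22840, e3 q22421 (flp_b L261392) q22749, e3 q22422 (flp_b L257950) q20933, e3 q22423 (flp_b L257960) q20938, e3 q22424 (flp_b L257972) q20940, e3 q22425 L257984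 q21533, e3 q22426 L257990 q22340, e3 q22427 L261621 q22774, e3 q22428 (flp_b L258085) q22438, e3 q22429 L262333 q22843, e3 q22430 L258018 q21077, e3 q22431 (flp_b L258496) q22474, e3 q22432 (flp_b L259942) q22609, e3 q22433 L258048 q21285, e3 q22434 L262341 q22844, e3 q22435 (flp_b L261396) q22750, e3 q22436 L258068 q20966, e3 q22437 (flp_b L258892) q22510, e3 q22438 L258085 q22428, e3 q22439 (flp_b L262369) q22846, e3 q22440 L258105 q22355, e3 q22441 L258121 q20974, e3 q22442 (flp_b L258123) q20972, e3 q22443 (flp_b L260826) q22697, e3 q22444 (flp_b L258141) q20976, e3 q22445 (flp_b L260575) q22675, e3 q22446 L258179 q21693, e3 q22447 (flp_b L260500) q22667, e3 q22448 L258197 q21275, e3 q22449 L258209 q20992, e3 q22450 (flp_b L258913) q22512, e3 q22451 L258226 q22409, e3 q22452 (flp_b L262393) q22848, e3 q22453 L258246 q22362, e3 q22454 L258262 q21000, e3 q22455 (flp_b L258264) q20998, e3 q22456 (flp_b L260301) q22645, e3 q22457 (flp_b L258282) q21002, e3 q22458 (flp_b L260520) q22668, e3 q22459 L258320 q21567,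 e3 q22460 (flp_b L260956) q22709, e3 q22461 L258338 q21266, e3 q22462 L258358 q22412, e3 q22463 (flp_b L261426) q22753, trivial⟩ (by decide +kernel)

theorem ce_b_351 : ∀ r, r < 64 → sm gb (Qf (22464 + r)) = Qf (tab Gen.b (22464 + r)) :=
  edges_tab (sm gb) Qf (tab Gen.b) 22464 [(22464, 21023), (22465, 22287), (22466, 21570), (22467, 21037), (22468, 21041), (22469, 21563), (22470, 21530), (22471, 21049), (22472, 22086), (22473, 21052), (22474, 22431), (22475, 22757), (22476, 21062), (22477, 22267), (22478, 21697), (22479, 21074), (22480, 21078), (22481, 21689), (22482, 21661), (22483, 21084), (22484, 22073), (22485, 21087), (22486, 22172), (22487, 21154), (22488, 21104), (22489, 21151), (22490, 21098), (22491, 22495), (22492, 21101), (22493, 22232), (22494, 22004), (22495, 22491), (22496, 21108), (22497, 22013), (22498, 21869), (22499, 21120), (22500, 21908), (22501, 21944), (22502, 21883), (22503, 21363), (22504, 21408), (22505, 21124), (22506, 21129), (22507, 21131), (22508, 21514), (22509, 22532), (22510, 22437),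 (22511, 21137), (22512, 22450), (22513, 22300), (22514, 21145), (22515, 22179), (22516, 21157), (22517, 22520), (22518, 22217), (22519, 21966), (22520, 22517), (22521, 21161), (22522, 21975), (22523, 21767), (22524, 21173), (22525, 21786), (22526, 21823), (22527, 21982)]
    ⟨e3 q22464 (flp_b L258370) q21023, e3 q22465 L258382 q22287, e3 q22466 L258402 q21570, e3 q22467 (flp_b L258404) q21037, e3 q22468 (flp_b L258410) q21041, e3 q22469 L258432 q21563, e3 q22470 L258440 q21530, e3 q22471 (flp_b L258450) q21049, e3 q22472 L258464 q22086, e3 q22473 L258484 q21052, e3 q22474 L258496 q22431, e3 q22475 (flp_b L261468) q22757, e3 q22476 (flp_b L258508) q21062, e3 q22477 L258520 q22267, e3 q22478 L258540 q21697, e3 q22479 (flp_b L258542) q21074, e3 q22480 (flp_b L258548) q21078, e3 q22481 L258570 q21689, e3 q22482 L258578 q21661, e3 q22483 (flp_b L258588) q21084, e3 q22484 L258602 q22073, e3 q22485 L258622 q21087, e3 q22486 L258632 q22172, e3 q22487 L258644 q21154, e3 q22488 L258654 q21104, e3 q22489 L258664 q21151, e3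 q22490 L258674 q21098, e3 q22491 (flp_b L258730) q22495, e3 q22492 L258688 q21101, e3 q22493 L258702 q22232, e3 q22494 (flp_b L258716) q22004, e3 q22495 L258730 q22491, e3 q22496 (flp_b L258734) q21108, e3 q22497 (flp_b L258754) q22013, e3 q22498 L258762 q21869, e3 q22499 L258768 q21120, e3 q22500 L258780 q21908, e3 q22501 L258794 q21944, e3 q22502 L258802 q21883, e3 q22503 L258814 q21363, e3 q22504 L258826 q21408, e3 q22505 (flp_b L258828) q21124, e3 q22506 L258844 q21129, e3 q22507 (flp_b L258848) q21131, e3 q22508 L258870 q21514, e3 q22509 (flp_b L259139) q22532, e3 q22510 L258892 q22437, e3 q22511 (flp_b L258894) q21137, e3 q22512 L258913 q22450, e3 q22513 (flp_b L258925) q22300, e3 q22514 (flp_b L258927) q21145, e3 q22515 L258951 q22179, e3 q22516 L258961 q21157, e3 q22517 (flp_b L259005) q22520, e3 q22518 L258977 q22217, e3 q22519 (flp_b L258991) q21966, e3 q22520 L259005 q22517, e3 q22521 (flp_b L259009) q21161, e3 q22522 L259033 q21975, e3 q22523 L259041 q21767, e3 q22524 L259049 q21173, e3 q22525 L259059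 q21786, e3 q22526 L259071 q21823, e3 q22527 L259085 q21982, trivial⟩ (by decide +kernel)

theorem ce_b_352 : ∀ r, r < 64 → sm gb (Qf (22528 + r)) = Qf (tab Gen.b (22528 + r)) :=
  edges_tab (sm gb) Qf (tab Gen.b) 22528 [(22528, 21177), (22529, 21182), (22530, 21184), (22531, 21472), (22532, 22509), (22533, 21187), (22534, 22280), (22535, 21194), (22536, 21382), (22537, 22818), (22538, 21206), (22539, 22076), (22540, 21226), (22541, 21210), (22542, 22219), (22543, 21213), (22544, 22851), (22545, 22852), (22546, 21214), (22547, 21426), (22548, 22821), (22549, 22089), (22550, 21229), (22551, 22234), (22552, 21233), (22553, 22853), (22554, 22854), (22555, 21234), (22556, 21242), (22557, 21907), (22558, 21253), (22559, 21822), (22560, 22184), (22561, 21938), (22562, 22394), (22563, 22191), (22564, 21864), (22565, 22400), (22566, 21336), (22567, 22567), (22568, 21334), (22569, 22569), (22570, 21305), (22571, 21316), (22572, 21333), (22573, 21715), (22574, 22641), (22575, 21335), (22576, 21598), (22577, 22693), (22578,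 21353), (22579, 21361), (22580, 22613), (22581, 21380), (22582, 21390), (22583, 22631), (22584, 22158), (22585, 22199), (22586, 21951), (22587, 22717), (22588, 22628), (22589, 21920), (22590, 22227), (22591, 21399)]
    ⟨e3 q22528 (flp_b L259087) q21177, e3 q22529 L259103 q21182, e3 q22530 (flp_b L259107) q21184, e3 q22531 L259129 q21472, e3 q22532 L259139 q22509, e3 q22533 (flp_b L259141) q21187, e3 q22534 (flp_b L259158) q22280, e3 q22535 (flp_b L259160) q21194, e3 q22536 L259186 q21382, e3 q22537 (flp_b L262083) q22818, e3 q22538 (flp_b L259200) q21206, e3 q22539 L259218 q22076, e3 q22540 L259228 q21226, e3 q22541 (flp_b L259230) q21210, e3 q22542 L259248 q22219, e3 q22543 L259256 q21213, e3 q22544 L262427 q22851, e3 q22545 L262439 q22852, e3 q22546 (flp_b L259282) q21214, e3 q22547 L259302 q21426, e3 q22548 (flp_b L262111) q22821, e3 q22549 L259326 q22089, e3 q22550 (flp_b L259328) q21229, e3 q22551 L259346 q22234, e3 q22552 L259354 q21233, e3 q22553 L262453 q22853, e3 q22554 L262465 q22854, e3 q22555 (flp_b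 L259382) q21234, e3 q22556 (flp_b L259390) q21242, e3 q22557 L259407 q21907, e3 q22558 (flp_b L259411) q21253, e3 q22559 L259428 q21822, e3 q22560 L259440 q22184, e3 q22561 L259450 q21938, e3 q22562 L259462 q22394, e3 q22563 L259472 q22191, e3 q22564 L259482 q21864, e3 q22565 L259494 q22400, e3 q22566 L259500 q21336, e3 q22567 L259507 q22567, e3 q22568 L259516 q21334, e3 q22569 L259523 q22569, e3 q22570 (flp_b L259528) q21305, e3 q22571 L259550 q21316, e3 q22572 (flp_b L259552) q21333, e3 q22573 L259562 q21715, e3 q22574 (flp_b L260257) q22641, e3 q22575 (flp_b L259577) q21335, e3 q22576 L259593 q21598, e3 q22577 (flp_b L260780) q22693, e3 q22578 (flp_b L259608) q21353, e3 q22579 (flp_b L259618) q21361, e3 q22580 (flp_b L259980) q22613, e3 q22581 (flp_b L259636) q21380, e3 q22582 L259646 q21390, e3 q22583 (flp_b L260164) q22631, e3 q22584 L259668 q22158, e3 q22585 L259678 q22199, e3 q22586 L259690 q21951, e3 q22587 (flp_b L261048) q22717, e3 q22588 (flp_b L260136) q22628, e3 q22589 L259718 q21920, e3 q22590 L259732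 q22227, e3 q22591 (flp_b L259734) q21399, trivial⟩ (by decide +kernel)

theorem ce_b_353 : ∀ r, r < 64 → sm gb (Qf (22592 + r)) = Qf (tab Gen.b (22592 + r)) :=
  edges_tab (sm gb) Qf (tab Gen.b) 22592 [(22592, 21406), (22593, 22627), (22594, 21424), (22595, 21434), (22596, 22617), (22597, 22167), (22598, 22204), (22599, 21990), (22600, 22687), (22601, 22614), (22602, 21842), (22603, 22212), (22604, 21443), (22605, 22626), (22606, 21445), (22607, 21507), (22608, 22165), (22609, 22432), (22610, 21465), (22611, 22246), (22612, 22622), (22613, 22580), (22614, 22601), (22615, 22760), (22616, 22839), (22617, 22596), (22618, 21483), (22619, 22633), (22620, 21487), (22621, 21485), (22622, 22612), (22623, 22156), (22624, 22415), (22625, 22251), (22626, 22605), (22627, 22593), (22628, 22588), (22629, 22772), (22630, 22837), (22631, 22583), (22632, 21524), (22633, 22619), (22634, 21549), (22635, 21736), (22636, 22787), (22637, 22712), (22638, 21539), (22639, 21538), (22640, 22640), (22641, 22574), (22642, 21601), (22643, 21928),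 (22644, 21566), (22645, 22456), (22646, 22856), (22647, 21960), (22648, 21568), (22649, 21723), (22650, 22863), (22651, 21576), (22652, 22652), (22653, 21585), (22654, 21929), (22655, 22383)]
    ⟨e3 q22592 (flp_b L259744) q21406, e3 q22593 (flp_b L260122) q22627, e3 q22594 (flp_b L259766) q21424, e3 q22595 L259780 q21434, e3 q22596 (flp_b L260010) q22617, e3 q22597 L259802 q22167, e3 q22598 L259812 q22204, e3 q22599 L259824 q21990, e3 q22600 (flp_b L260709) q22687, e3 q22601 (flp_b L259990) q22614, e3 q22602 L259856 q21842, e3 q22603 L259870 q22212, e3 q22604 (flp_b L259872) q21443, e3 q22605 (flp_b L260116) q22626, e3 q22606 L259898 q21445, e3 q22607 L259916 q21507, e3 q22608 L259922 q22165, e3 q22609 L259942 q22432, e3 q22610 (flp_b L259944) q21465, e3 q22611 L259970 q22246, e3 q22612 (flp_b L260058) q22622, e3 q22613 L259980 q22580, e3 q22614 L259990 q22601, e3 q22615 (flp_b L261500) q22760, e3 q22616 (flp_b L262297) q22839, e3 q22617 L260010 q22596, e3 q22618 L260016 q21483, e3 q22619 (flp_b L260186) q22633,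 e3 q22620 L260038 q21487, e3 q22621 L260048 q21485, e3 q22622 L260058 q22612, e3 q22623 L260072 q22156, e3 q22624 L260092 q22415, e3 q22625 L260106 q22251, e3 q22626 L260116 q22605, e3 q22627 L260122 q22593, e3 q22628 L260136 q22588, e3 q22629 (flp_b L261605) q22772, e3 q22630 (flp_b L262271) q22837, e3 q22631 L260164 q22583, e3 q22632 L260170 q21524, e3 q22633 L260186 q22619, e3 q22634 L260200 q21549, e3 q22635 L260206 q21736, e3 q22636 (flp_b L261755) q22787, e3 q22637 (flp_b L260988) q22712, e3 q22638 L260221 q21539, e3 q22639 (flp_b L260233) q21538, e3 q22640 L260249 q22640, e3 q22641 L260257 q22574, e3 q22642 L260270 q21601, e3 q22643 L260280 q21928, e3 q22644 L260288 q21566, e3 q22645 L260301 q22456, e3 q22646 (flp_b L262505) q22856, e3 q22647 L260325 q21960, e3 q22648 (flp_b L260327) q21568, e3 q22649 L260345 q21723, e3 q22650 L262583 q22863, e3 q22651 (flp_b L260359) q21576, e3 q22652 L260375 q22652, e3 q22653 (flp_b L260376) q21585, e3 q22654 (flp_b L260388) q21929, e3 q22655 L260396 q22383, trivial⟩ (by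 decide +kernel)

theorem ce_b_354 : ∀ r, r < 64 → sm gb (Qf (22656 + r)) = Qf (tab Gen.b (22656 + r)) :=
  edges_tab (sm gb) Qf (tab Gen.b) 22656 [(22656, 22684), (22657, 22685), (22658, 22396), (22659, 21958), (22660, 22858), (22661, 21605), (22662, 22706), (22663, 21610), (22664, 21611), (22665, 21735), (22666, 21701), (22667, 22447), (22668, 22458), (22669, 22132), (22670, 22868), (22671, 21621), (22672, 21623), (22673, 22790), (22674, 22691), (22675, 22445), (22676, 22676), (22677, 22869), (22678, 21634), (22679, 21637), (22680, 21927), (22681, 21642), (22682, 22715), (22683, 21646), (22684, 22656), (22685, 22657), (22686, 21668), (22687, 22600), (22688, 22402), (22689, 21996), (22690, 21678), (22691, 22674), (22692, 21669), (22693, 22577), (22694, 21718), (22695, 21852), (22696, 21692), (22697, 22443), (22698, 22855), (22699, 21997), (22700, 21694), (22701, 22867), (22702, 21705), (22703, 21854), (22704, 22381), (22705, 22857), (22706, 22662), (22707, 21725), (22708, 21727), (22709, 22460), (22710, 22130),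 (22711, 22866), (22712, 22637), (22713, 21853), (22714, 21748), (22715, 22682), (22716, 21752), (22717, 22587), (22718, 21764), (22719, 22849)]
    ⟨e3 q22656 (flp_b L260677) q22684, e3 q22657 (flp_b L260689) q22685, e3 q22658 L260426 q22396, e3 q22659 L260438 q21958, e3 q22660 (flp_b L262524) q22858, e3 q22661 (flp_b L260446) q21605, e3 q22662 (flp_b L260928) q22706, e3 q22663 (flp_b L260466) q21610, e3 q22664 (flp_b L260472) q21611, e3 q22665 (flp_b L260486) q21735, e3 q22666 L260496 q21701, e3 q22667 L260500 q22447, e3 q22668 L260520 q22458, e3 q22669 L260524 q22132, e3 q22670 L262627 q22868, e3 q22671 (flp_b L260538) q21621, e3 q22672 L260552 q21623, e3 q22673 (flp_b L261792) q22790, e3 q22674 (flp_b L260757) q22691, e3 q22675 L260575 q22445, e3 q22676 L260589 q22676, e3 q22677 L262639 q22869, e3 q22678 (flp_b L260602) q21634, e3 q22679 (flp_b L260616) q21637, e3 q22680 L260637 q21927, e3 q22681 (flp_b L260639) q21642, e3 q22682 (flp_b L261034) q22715, e3 q22683 (flp_b L260661) q21646, e3 q22684 L260677 q22656,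 e3 q22685 L260689 q22657, e3 q22686 L260695 q21668, e3 q22687 L260709 q22600, e3 q22688 L260723 q22402, e3 q22689 L260729 q21996, e3 q22690 L260751 q21678, e3 q22691 L260757 q22674, e3 q22692 L260765 q21669, e3 q22693 L260780 q22577, e3 q22694 L260793 q21718, e3 q22695 L260805 q21852, e3 q22696 L260813 q21692, e3 q22697 L260826 q22443, e3 q22698 (flp_b L262491) q22855, e3 q22699 (flp_b L260852) q21997, e3 q22700 (flp_b L260854) q21694, e3 q22701 (flp_b L262625) q22867, e3 q22702 (flp_b L260878) q21705, e3 q22703 (flp_b L260892) q21854, e3 q22704 L260900 q22381, e3 q22705 (flp_b L262511) q22857, e3 q22706 L260928 q22662, e3 q22707 (flp_b L260930) q21725, e3 q22708 (flp_b L260942) q21727, e3 q22709 L260956 q22460, e3 q22710 L260968 q22130, e3 q22711 L262615 q22866, e3 q22712 L260988 q22637, e3 q22713 L261010 q21853, e3 q22714 (flp_b L261012) q21748, e3 q22715 L261034 q22682, e3 q22716 (flp_b L261036) q21752, e3 q22717 L261048 q22587, e3 q22718 (flp_b L261054) q21764, e3 q22719 (flp_b L262411) q22849, trivial⟩ (by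 decide +kernel)

theorem ce_b_355 : ∀ r, r < 64 → sm gb (Qf (22720 + r)) = Qf (tab Gen.b (22720 + r)) :=
  edges_tab (sm gb) Qf (tab Gen.b) 22720 [(22720, 22727), (22721, 21773), (22722, 21782), (22723, 22776), (22724, 22850), (22725, 21787), (22726, 21792), (22727, 22720), (22728, 21794), (22729, 21930), (22730, 22742), (22731, 22764), (22732, 21832), (22733, 21835), (22734, 21846), (22735, 21855), (22736, 21868), (22737, 22740), (22738, 21880), (22739, 21886), (22740, 22737), (22741, 21888), (22742, 22730), (22743, 21914), (22744, 21922), (22745, 21949), (22746, 22747), (22747, 22746), (22748, 21987), (22749, 22421), (22750, 22435), (22751, 22873), (22752, 22077), (22753, 22463), (22754, 22082), (22755, 22872), (22756, 22090), (22757, 22475), (22758, 22095), (22759, 22096), (22760, 22615), (22761, 22874), (22762, 22099), (22763, 22408), (22764, 22731), (22765, 22775), (22766, 22103), (22767, 22770), (22768, 22778), (22769, 22861), (22770, 22767), (22771, 22113), (22772, 22629), (22773, 22875), (22774, 22427),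 (22775, 22765), (22776, 22723), (22777, 22862), (22778, 22768), (22779, 22125), (22780, 22129), (22781, 22144), (22782, 22809), (22783, 22147)]
    ⟨e3 q22720 (flp_b L261168) q22727, e3 q22721 L261084 q21773, e3 q22722 (flp_b L261094) q21782, e3 q22723 (flp_b L261645) q22776, e3 q22724 (flp_b L262425) q22850, e3 q22725 (flp_b L261128) q21787, e3 q22726 (flp_b L261142) q21792, e3 q22727 L261168 q22720, e3 q22728 (flp_b L261170) q21794, e3 q22729 L261186 q21930, e3 q22730 (flp_b L261330) q22742, e3 q22731 (flp_b L261534) q22764, e3 q22732 (flp_b L261218) q21832, e3 q22733 (flp_b L261222) q21835, e3 q22734 (flp_b L261228) q21846, e3 q22735 (flp_b L261236) q21855, e3 q22736 (flp_b L261248) q21868, e3 q22737 (flp_b L261304) q22740, e3 q22738 (flp_b L261268) q21880, e3 q22739 (flp_b L261278) q21886, e3 q22740 L261304 q22737, e3 q22741 (flp_b L261306) q21888, e3 q22742 L261330 q22730, e3 q22743 (flp_b L261332) q21914, e3 q22744 (flp_b L261340) q21922, e3 q22745 (flp_b L261352) q21949, e3 q22746 (flp_b L261378) q22747,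 e3 q22747 L261378 q22746, e3 q22748 (flp_b L261380) q21987, e3 q22749 L261392 q22421, e3 q22750 L261396 q22435, e3 q22751 (flp_b L262694) q22873, e3 q22752 (flp_b L261410) q22077, e3 q22753 L261426 q22463, e3 q22754 L261436 q22082, e3 q22755 (flp_b L262682) q22872, e3 q22756 (flp_b L261452) q22090, e3 q22757 L261468 q22475, e3 q22758 L261478 q22095, e3 q22759 (flp_b L261482) q22096, e3 q22760 L261500 q22615, e3 q22761 L262704 q22874, e3 q22762 (flp_b L261506) q22099, e3 q22763 (flp_b L261524) q22408, e3 q22764 L261534 q22731, e3 q22765 (flp_b L261633) q22775, e3 q22766 (flp_b L261548) q22103, e3 q22767 (flp_b L261585) q22770, e3 q22768 (flp_b L261660) q22778, e3 q22769 (flp_b L262567) q22861, e3 q22770 L261585 q22767, e3 q22771 (flp_b L261587) q22113, e3 q22772 L261605 q22629, e3 q22773 (flp_b L262730) q22875, e3 q22774 (flp_b L261621) q22427, e3 q22775 L261633 q22765, e3 q22776 L261645 q22723, e3 q22777 (flp_b L262579) q22862, e3 q22778 L261660 q22768, e3 q22779 (flp_b L261662) q22125, e3 q22780 (flp_b L261676)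 q22129, e3 q22781 L261693 q22144, e3 q22782 (flp_b L261998) q22809, e3 q22783 L261707 q22147, trivial⟩ (by decide +kernel)

theorem ce_b_356 : ∀ r, r < 64 → sm gb (Qf (22784 + r)) = Qf (tab Gen.b (22784 + r)) :=
  edges_tab (sm gb) Qf (tab Gen.b) 22784 [(22784, 22148), (22785, 22149), (22786, 22152), (22787, 22636), (22788, 22155), (22789, 22161), (22790, 22673), (22791, 22164), (22792, 22793), (22793, 22792), (22794, 22185), (22795, 22192), (22796, 22218), (22797, 22233), (22798, 22271), (22799, 22283), (22800, 22292), (22801, 22302), (22802, 22303), (22803, 22307), (22804, 22311), (22805, 22876), (22806, 22877), (22807, 22310), (22808, 22808), (22809, 22782), (22810, 22810), (22811, 22315), (22812, 22319), (22813, 22879), (22814, 22828), (22815, 22321), (22816, 22322), (22817, 22324), (22818, 22537), (22819, 22328), (22820, 22841), (22821, 22548), (22822, 22342), (22823, 22838), (22824, 22358), (22825, 22364), (22826, 22366), (22827, 22372), (22828, 22814), (22829, 22829), (22830, 22380), (22831, 22392), (22832,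 22401), (22833, 22395), (22834, 22399), (22835, 22847), (22836, 22410), (22837, 22630), (22838, 22823), (22839, 22616), (22840, 22420), (22841, 22820), (22842, 22845), (22843, 22429), (22844, 22434), (22845, 22842), (22846, 22439), (22847, 22835)]
    ⟨e3 q22784 (flp_b L261710) q22148, e3 q22785 (flp_b L261724) q22149, e3 q22786 L261742 q22152, e3 q22787 L261755 q22636, e3 q22788 L261771 q22155, e3 q22789 L261779 q22161, e3 q22790 L261792 q22673, e3 q22791 L261810 q22164, e3 q22792 (flp_b L261834) q22793, e3 q22793 L261834 q22792, e3 q22794 (flp_b L261836) q22185, e3 q22795 (flp_b L261847) q22192, e3 q22796 L261862 q22218, e3 q22797 L261874 q22233, e3 q22798 (flp_b L261884) q22271, e3 q22799 (flp_b L261891) q22283, e3 q22800 (flp_b L261899) q22292, e3 q22801 (flp_b L261910) q22302, e3 q22802 (flp_b L261920) q22303, e3 q22803 (flp_b L261933) q22307, e3 q22804 L261949 q22311, e3 q22805 (flp_b L262742) q22876, e3 q22806 (flp_b L262752) q22877, e3 q22807 (flp_b L261969) q22310, e3 q22808 L261987 q22808, e3 q22809 L261998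 q22782, e3 q22810 L262006 q22810, e3 q22811 (flp_b L262013) q22315, e3 q22812 (flp_b L262025) q22319, e3 q22813 L262769 q22879, e3 q22814 (flp_b L262177) q22828, e3 q22815 (flp_b L262049) q22321, e3 q22816 (flp_b L262053) q22322, e3 q22817 (flp_b L262065) q22324, e3 q22818 L262083 q22537, e3 q22819 (flp_b L262085) q22328, e3 q22820 (flp_b L262319) q22841, e3 q22821 L262111 q22548, e3 q22822 (flp_b L262113) q22342, e3 q22823 (flp_b L262285) q22838, e3 q22824 (flp_b L262131) q22358, e3 q22825 (flp_b L262143) q22364, e3 q22826 (flp_b L262155) q22366, e3 q22827 (flp_b L262160) q22372, e3 q22828 L262177 q22814, e3 q22829 L262183 q22829, e3 q22830 (flp_b L262190) q22380, e3 q22831 (flp_b L262199) q22392, e3 q22832 L262217 q22401, e3 q22833 L262231 q22395, e3 q22834 (flp_b L262235) q22399, e3 q22835 (flp_b L262385) q22847, e3 q22836 (flp_b L262251) q22410, e3 q22837 L262271 q22630, e3 q22838 L262285 q22823, e3 q22839 L262297 q22616, e3 q22840 (flp_b L262299) q22420, e3 q22841 L262319 q22820, e3 q22842 (flp_b L262361) q22845,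 e3 q22843 (flp_b L262333) q22429, e3 q22844 (flp_b L262341) q22434, e3 q22845 L262361 q22842, e3 q22846 L262369 q22439, e3 q22847 L262385 q22835, trivial⟩ (by decide +kernel)

theorem ce_b_357 : ∀ r, r < 32 → sm gb (Qf (22848 + r)) = Qf (tab Gen.b (22848 + r)) :=
  edges_tab (sm gb) Qf (tab Gen.b) 22848 [(22848, 22452), (22849, 22719), (22850, 22724), (22851, 22544), (22852, 22545), (22853, 22553), (22854, 22554), (22855, 22698), (22856, 22646), (22857, 22705), (22858, 22660), (22859, 22860), (22860, 22859), (22861, 22769), (22862, 22777), (22863, 22650), (22864, 22870), (22865, 22871), (22866, 22711), (22867, 22701), (22868, 22670), (22869, 22677), (22870, 22864), (22871, 22865), (22872, 22755), (22873, 22751), (22874, 22761), (22875, 22773), (22876, 22805), (22877, 22806), (22878, 22878), (22879, 22813)]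
    ⟨e3 q22848 L262393 q22452, e3 q22849 L262411 q22719, e3 q22850 L262425 q22724, e3 q22851 (flp_b L262427) q22544, e3 q22852 (flp_b L262439) q22545, e3 q22853 (flp_b L262453) q22553, e3 q22854 (flp_b L262465) q22554, e3 q22855 L262491 q22698, e3 q22856 L262505 q22646, e3 q22857 L262511 q22705, e3 q22858 L262524 q22660, e3 q22859 (flp_b L262557) q22860, e3 q22860 L262557 q22859, e3 q22861 L262567 q22769, e3 q22862 L262579 q22777, e3 q22863 (flp_b L262583) q22650, e3 q22864 (flp_b L262662) q22870, e3 q22865 (flp_b L262676) q22871, e3 q22866 (flp_b L262615) q22711, e3 q22867 L262625 q22701, e3 q22868 (flp_b L262627) q22670, e3 q22869 (flp_b L262639) q22677, e3 q22870 L262662 q22864, e3 q22871 L262676 q22865, e3 q22872 L262682 q22755, e3 q22873 L262694 q22751, e3 q22874 (flp_b L262704) q22761, e3 q22875 L262730 q22773, e3 q22876 L262742 q22805, e3 q22877 L262752 q22806, e3 q22878 L262766 q22878, e3 q22879 (flp_b L262769) q22813, trivial⟩ (by decide +kernel)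

theorem cl_b : ∀ i, i < 22880 → sm gb (Qf i) = Qf (tab Gen.b i) :=
  all_of_chunks (fun i => sm gb (Qf i) = Qf (tab Gen.b i)) 357 32
    ⟨ce_b_0, ce_b_1, ce_b_2, ce_b_3, ce_b_4, ce_b_5, ce_b_6, ce_b_7, ce_b_8, ce_b_9, ce_b_10, ce_b_11, ce_b_12, ce_b_13, ce_b_14, ce_b_15, ce_b_16, ce_b_17, ce_b_18, ce_b_19, ce_b_20, ce_b_21, ce_b_22, ce_b_23, ce_b_24, ce_b_25, ce_b_26, ce_b_27, ce_b_28, ce_b_29, ce_b_30, ce_b_31, ce_b_32, ce_b_33, ce_b_34, ce_b_35, ce_b_36, ce_b_37, ce_b_38, ce_b_39, ce_b_40, ce_b_41, ce_b_42, ce_b_43, ce_b_44, ce_b_45, ce_b_46, ce_b_47, ce_b_48, ce_b_49, ce_b_50, ce_b_51, ce_b_52, ce_b_53, ce_b_54, ce_b_55, ce_b_56, ce_b_57, ce_b_58, ce_b_59, ce_b_60, ce_b_61, ce_b_62, ce_b_63, ce_b_64, ce_b_65, ce_b_66, ce_b_67, ce_b_68, ce_b_69, ce_b_70, ce_b_71, ce_b_72, ce_b_73, ce_b_74, ce_b_75, ce_b_76, ce_b_77, ce_b_78, ce_b_79, ce_b_80, ce_b_81, ce_b_82, ce_b_83, ce_b_84, ce_b_85, ce_b_86, ce_b_87, ce_b_88, ce_b_89, ce_b_90, ce_b_91, ce_b_92, ce_b_93, ce_b_94, ce_b_95, ce_b_96, ce_b_97, ce_b_98, ce_b_99,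 ce_b_100, ce_b_101, ce_b_102, ce_b_103, ce_b_104, ce_b_105, ce_b_106, ce_b_107, ce_b_108, ce_b_109, ce_b_110, ce_b_111, ce_b_112, ce_b_113, ce_b_114, ce_b_115, ce_b_116, ce_b_117, ce_b_118, ce_b_119, ce_b_120, ce_b_121, ce_b_122, ce_b_123, ce_b_124, ce_b_125, ce_b_126, ce_b_127, ce_b_128, ce_b_129, ce_b_130, ce_b_131, ce_b_132, ce_b_133, ce_b_134, ce_b_135, ce_b_136, ce_b_137, ce_b_138, ce_b_139, ce_b_140, ce_b_141, ce_b_142, ce_b_143, ce_b_144, ce_b_145, ce_b_146, ce_b_147, ce_b_148, ce_b_149, ce_b_150, ce_b_151, ce_b_152, ce_b_153, ce_b_154, ce_b_155, ce_b_156, ce_b_157, ce_b_158, ce_b_159, ce_b_160, ce_b_161, ce_b_162, ce_b_163, ce_b_164, ce_b_165, ce_b_166, ce_b_167, ce_b_168, ce_b_169, ce_b_170, ce_b_171, ce_b_172, ce_b_173, ce_b_174, ce_b_175, ce_b_176, ce_b_177, ce_b_178, ce_b_179, ce_b_180, ce_b_181, ce_b_182, ce_b_183, ce_b_184, ce_b_185, ce_b_186, ce_b_187, ce_b_188, ce_b_189, ce_b_190, ce_b_191, ce_b_192, ce_b_193, ce_b_194, ce_b_195, ce_b_196, ce_b_197, ce_b_198, ce_b_199, ce_b_200, ce_b_201, ce_b_202,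 ce_b_203, ce_b_204, ce_b_205, ce_b_206, ce_b_207, ce_b_208, ce_b_209, ce_b_210, ce_b_211, ce_b_212, ce_b_213, ce_b_214, ce_b_215, ce_b_216, ce_b_217, ce_b_218, ce_b_219, ce_b_220, ce_b_221, ce_b_222, ce_b_223, ce_b_224, ce_b_225, ce_b_226, ce_b_227, ce_b_228, ce_b_229, ce_b_230, ce_b_231, ce_b_232, ce_b_233, ce_b_234, ce_b_235, ce_b_236, ce_b_237, ce_b_238, ce_b_239, ce_b_240, ce_b_241, ce_b_242, ce_b_243, ce_b_244, ce_b_245, ce_b_246, ce_b_247, ce_b_248, ce_b_249, ce_b_250, ce_b_251, ce_b_252, ce_b_253, ce_b_254, ce_b_255, ce_b_256, ce_b_257, ce_b_258, ce_b_259, ce_b_260, ce_b_261, ce_b_262, ce_b_263, ce_b_264, ce_b_265, ce_b_266, ce_b_267, ce_b_268, ce_b_269, ce_b_270, ce_b_271, ce_b_272, ce_b_273, ce_b_274, ce_b_275, ce_b_276, ce_b_277, ce_b_278, ce_b_279, ce_b_280, ce_b_281, ce_b_282, ce_b_283, ce_b_284, ce_b_285, ce_b_286, ce_b_287, ce_b_288, ce_b_289, ce_b_290, ce_b_291, ce_b_292, ce_b_293, ce_b_294, ce_b_295, ce_b_296, ce_b_297, ce_b_298, ce_b_299, ce_b_300, ce_b_301, ce_b_302, ce_b_303, ce_b_304, ce_b_305,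 ce_b_306, ce_b_307, ce_b_308, ce_b_309, ce_b_310, ce_b_311, ce_b_312, ce_b_313, ce_b_314, ce_b_315, ce_b_316, ce_b_317, ce_b_318, ce_b_319, ce_b_320, ce_b_321, ce_b_322, ce_b_323, ce_b_324, ce_b_325, ce_b_326, ce_b_327, ce_b_328, ce_b_329, ce_b_330, ce_b_331, ce_b_332, ce_b_333, ce_b_334, ce_b_335, ce_b_336, ce_b_337, ce_b_338, ce_b_339, ce_b_340, ce_b_341, ce_b_342, ce_b_343, ce_b_344, ce_b_345, ce_b_346, ce_b_347, ce_b_348, ce_b_349, ce_b_350, ce_b_351, ce_b_352, ce_b_353, ce_b_354, ce_b_355, ce_b_356, trivial⟩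
    ce_b_357


end Cfsg.Agent.Helper28.SzbA
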