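import Cfsg.Agent.Helper28.SzbC0

/-!
# The Suzuki group presentation, cosets of the subgroup generated by a, b, c, d, f, g: the action of the generator c (helper28; generated)
-/

set_option autoImplicit false
set_option maxRecDepth 100000
set_option linter.unusedSimpArgs false
set_option linter.constructorNameAsVariable false

noncomputable section

namespace Cfsg.Agent.Helper28.SzbA

open Cfsg.Spor Cfsg.Spor.Suz Cfsg.Agent.Helper28.CosetTable

theorem ce_c_0 : ∀ r, r < 64 → sm gc (Qf (0 + r)) = Qf (tab Gen.c (0 + r)) :=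
  edges_tab (sm gc) Qf (tab Gen.c) 0 [(0, 0), (1, 1), (2, 3), (3, 2), (4, 4), (5, 5), (6, 6), (7, 15), (8, 8), (9, 9), (10, 10), (11, 21), (12, 25), (13, 13), (14, 14), (15, 7), (16, 32), (17, 33), (18, 34), (19, 19), (20, 20), (21, 11), (22, 44), (23, 42), (24, 43), (25, 12), (26, 54), (27, 55), (28, 56), (29, 62), (30, 65), (31, 53), (32, 16), (33, 17), (34, 18), (35, 71), (36, 72), (37, 74), (38, 76), (39, 82), (40, 85), (41, 87), (42, 23), (43, 24), (44, 22), (45, 95), (46, 96), (47, 97), (48, 61), (49, 51), (50, 64), (51, 49), (52, 93), (53, 31), (54, 26), (55, 27), (56, 28), (57, 117), (58, 118), (59, 124), (60, 127), (61, 48), (62, 29), (63, 131)]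
    ⟨e3 q0 L2 q0, e3 q1 L10 q1, e3 q2 L20 q3, e3 q3 (flp_c L20) q2, e3 q4 L29 q4, e3 q5 L35 q5, e3 q6 L38 q6, e3 q7 L80 q15, e3 q8 L46 q8, e3 q9 L51 q9, e3 q10 L57 q10, e3 q11 L65207 q21, e3 q12 L130 q25, e3 q13 L72 q13, e3 q14 L78 q14, e3 q15 (flp_c L80) q7, e3 q16 (flp_c L163) q32, e3 q17 (flp_c L167) q33, e3 q18 (flp_c L171) q34, e3 q19 L100 q19, e3 q20 L108 q20, e3 q21 (flp_c L65207) q11, e3 q22 L240 q44, e3 q23 L65199 q42, e3 q24 (flp_c L65195) q43, e3 q25 (flp_c L130) q12, e3 q26 (flp_c L289) q54, e3 q27 (flp_c L295) q55, e3 q28 (flp_c L301) q56, e3 q29 L328 q62, e3 q30 L344 q65, e3 q31 L283 q53, e3 q32 L163 q16, e3 q33 L167 q17, e3 q34 L171 q18, e3 q35 (flp_c L367) q71, e3 q36 (flp_c L373) q72, e3 q37 (flp_c L383) q74, e3 q38 (flp_c L395) q76, e3 q39 L429 q82, e3 q40 L443 q85, e3 q41 L475 q87, e3 q42 (flp_c L65199) q23, e3 q43 L65195 q24, e3 q44 (flp_c L240) q22, e3 q45 (flp_c L552) q95, e3 q46 (flp_c L556) q96, e3 q47 (flp_c L560) q97, e3 q48 L334 q61, e3 q49 L65182 q51, e3 q50 (flp_c L65308) q64, e3 q51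 (flp_c L65182) q49, e3 q52 (flp_c L546) q93, e3 q53 (flp_c L283) q31, e3 q54 L289 q26, e3 q55 L295 q27, e3 q56 L301 q28, e3 q57 (flp_c L681) q117, e3 q58 (flp_c L689) q118, e3 q59 L711 q124, e3 q60 L721 q127, e3 q61 (flp_c L334) q48, e3 q62 (flp_c L328) q29, e3 q63 (flp_c L748) q131, trivial⟩ (by decide +kernel)

theorem ce_c_1 : ∀ r, r < 64 → sm gc (Qf (64 + r)) = Qf (tab Gen.c (64 + r)) :=
  edges_tab (sm gc) Qf (tab Gen.c) 64 [(64, 50), (65, 30), (66, 134), (67, 113), (68, 114), (69, 115), (70, 142), (71, 35), (72, 36), (73, 73), (74, 37), (75, 75), (76, 38), (77, 146), (78, 148), (79, 156), (80, 159), (81, 161), (82, 39), (83, 163), (84, 164), (85, 40), (86, 166), (87, 41), (88, 169), (89, 170), (90, 171), (91, 129), (92, 132), (93, 52), (94, 94), (95, 45), (96, 46), (97, 47), (98, 185), (99, 186), (100, 195), (101, 188), (102, 198), (103, 190), (104, 107), (105, 106), (106, 105), (107, 104), (108, 176), (109, 109), (110, 178), (111, 179), (112, 180), (113, 67), (114, 68), (115, 69), (116, 221), (117, 57), (118,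 58), (119, 227), (120, 230), (121, 233), (122, 236), (123, 239), (124, 59), (125, 241), (126, 244), (127, 60)]
    ⟨e3 q64 L65308 q50, e3 q65 (flp_c L344) q30, e3 q66 (flp_c L772) q134, e3 q67 (flp_c L655) q113, e3 q68 (flp_c L661) q114, e3 q69 (flp_c L669) q115, e3 q70 L821 q142, e3 q71 L367 q35, e3 q72 L373 q36, e3 q73 L379 q73, e3 q74 L383 q37, e3 q75 L389 q75, e3 q76 L395 q38, e3 q77 (flp_c L839) q146, e3 q78 (flp_c L855) q148, e3 q79 L896 q156, e3 q80 L910 q159, e3 q81 L922 q161, e3 q82 (flp_c L429) q39, e3 q83 (flp_c L948) q163, e3 q84 L951 q164, e3 q85 (flp_c L443) q40, e3 q86 (flp_c L972) q166, e3 q87 (flp_c L475) q41, e3 q88 (flp_c L1033) q169, e3 q89 (flp_c L1039) q170, e3 q90 (flp_c L1045) q171, e3 q91 (flp_c L65176) q129, e3 q92 L979 q132, e3 q93 L546 q52, e3 q94 L66679 q94, e3 q95 L552 q45, e3 q96 L556 q46, e3 q97 L560 q47, e3 q98 (flp_c L1206) q185, e3 q99 (flp_c L1212) q186, e3 q100 L1264 q195, e3 q101 (flp_c L1220) q188, e3 q102 L1287 q198, e3 q103 (flp_c L1230) q190, e3 q104 (flp_c L634) q107, e3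 q105 L65298 q106, e3 q106 (flp_c L65298) q105, e3 q107 L634 q104, e3 q108 (flp_c L1166) q176, e3 q109 L642 q109, e3 q110 (flp_c L1176) q178, e3 q111 (flp_c L1180) q179, e3 q112 (flp_c L1184) q180, e3 q113 L655 q67, e3 q114 L661 q68, e3 q115 L669 q69, e3 q116 L1426 q221, e3 q117 L681 q57, e3 q118 L689 q58, e3 q119 L1454 q227, e3 q120 L1462 q230, e3 q121 L1473 q233, e3 q122 L1487 q236, e3 q123 L1504 q239, e3 q124 (flp_c L711) q59, e3 q125 (flp_c L1512) q241, e3 q126 L1532 q244, e3 q127 (flp_c L721) q60, trivial⟩ (by decide +kernel)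

theorem ce_c_2 : ∀ r, r < 64 → sm gc (Qf (128 + r)) = Qf (tab Gen.c (128 + r)) :=
  edges_tab (sm gc) Qf (tab Gen.c) 128 [(128, 246), (129, 91), (130, 248), (131, 63), (132, 92), (133, 250), (134, 66), (135, 252), (136, 217), (137, 218), (138, 259), (139, 141), (140, 261), (141, 139), (142, 70), (143, 264), (144, 265), (145, 145), (146, 77), (147, 147), (148, 78), (149, 149), (150, 276), (151, 151), (152, 279), (153, 281), (154, 284), (155, 286), (156, 79), (157, 288), (158, 289), (159, 80), (160, 291), (161, 81), (162, 292), (163, 83), (164, 84), (165, 293), (166, 86), (167, 167), (168, 168), (169, 88), (170, 89), (171, 90), (172, 300), (173, 301), (174, 174), (175, 175), (176, 108), (177, 304), (178, 110), (179, 111), (180, 112), (181, 181), (182, 182), (183, 183), (184, 325), (185, 98), (186, 99), (187, 333), (188, 101), (189, 337), (190, 103), (191, 340)]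
    ⟨e3 q128 (flp_c L1540) q246, e3 q129 L65176 q91, e3 q130 L1552 q248, e3 q131 L748 q63, e3 q132 (flp_c L979) q92, e3 q133 L1572 q250, e3 q134 L772 q66, e3 q135 L1595 q252, e3 q136 (flp_c L1406) q217, e3 q137 (flp_c L1414) q218, e3 q138 L1642 q259, e3 q139 (flp_c L815) q141, e3 q140 L1658 q261, e3 q141 L815 q139, e3 q142 (flp_c L821) q70, e3 q143 (flp_c L1674) q264, e3 q144 (flp_c L1678) q265, e3 q145 L835 q145, e3 q146 L839 q77, e3 q147 L849 q147, e3 q148 L855 q78, e3 q149 L867 q149, e3 q150 L1749 q276, e3 q151 L876 q151, e3 q152 L1772 q279, e3 q153 L1786 q281, e3 q154 L1804 q284, e3 q155 L1816 q286, e3 q156 (flp_c L896) q79, e3 q157 (flp_c L1834) q288, e3 q158 L1836 q289, e3 q159 (flp_c L910) q80, e3 q160 (flp_c L1856) q291, e3 q161 (flp_c L922) q81, e3 q162 (flp_c L1867) q292, e3 q163 L948 q83, e3 q164 (flp_c L951) q84, e3 q165 (flp_c L1902) q293, e3 q166 L972 q86, e3 q167 L1024 q167, e3 q168 L54674 q168, e3 q169 L1033 q88, e3 q170 L1039 q89, e3 q171 L1045 q90, e3 q172 (flp_c L2085) q300, e3 q173 (flp_c L2093)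 q301, e3 q174 L53598 q174, e3 q175 L79089 q175, e3 q176 L1166 q108, e3 q177 L2262 q304, e3 q178 L1176 q110, e3 q179 L1180 q111, e3 q180 L1184 q112, e3 q181 L66634 q181, e3 q182 L66623 q182, e3 q183 L66683 q183, e3 q184 L2392 q325, e3 q185 L1206 q98, e3 q186 L1212 q99, e3 q187 L2430 q333, e3 q188 L1220 q101, e3 q189 L2440 q337, e3 q190 L1230 q103, e3 q191 L2448 q340, trivial⟩ (by decide +kernel)

theorem ce_c_3 : ∀ r, r < 64 → sm gc (Qf (192 + r)) = Qf (tab Gen.c (192 + r)) :=
  edges_tab (sm gc) Qf (tab Gen.c) 192 [(192, 329), (193, 343), (194, 331), (195, 100), (196, 347), (197, 348), (198, 102), (199, 350), (200, 351), (201, 201), (202, 202), (203, 305), (204, 306), (205, 307), (206, 206), (207, 207), (208, 208), (209, 367), (210, 312), (211, 313), (212, 374), (213, 315), (214, 376), (215, 317), (216, 378), (217, 136), (218, 137), (219, 384), (220, 387), (221, 116), (222, 390), (223, 391), (224, 395), (225, 398), (226, 400), (227, 119), (228, 403), (229, 404), (230, 120), (231, 407), (232, 409), (233, 121), (234,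 411), (235, 414), (236, 122), (237, 416), (238, 238), (239, 123), (240, 346), (241, 125), (242, 422), (243, 243), (244, 126), (245, 349), (246, 128), (247, 427), (248, 130), (249, 430), (250, 133), (251, 433), (252, 135), (253, 436), (254, 437), (255, 442)]
    ⟨e3 q192 (flp_c L2408) q329, e3 q193 L2476 q343, e3 q194 (flp_c L2422) q331, e3 q195 (flp_c L1264) q100, e3 q196 (flp_c L2510) q347, e3 q197 L2512 q348, e3 q198 (flp_c L1287) q102, e3 q199 (flp_c L2530) q350, e3 q200 L2534 q351, e3 q201 L70089 q201, e3 q202 L1338 q202, e3 q203 (flp_c L2268) q305, e3 q204 (flp_c L2274) q306, e3 q205 (flp_c L2280) q307, e3 q206 L1355 q206, e3 q207 L1358 q207, e3 q208 L1363 q208, e3 q209 L2669 q367, e3 q210 (flp_c L2300) q312, e3 q211 (flp_c L2306) q313, e3 q212 L2709 q374, e3 q213 (flp_c L2316) q315, e3 q214 L2721 q376, e3 q215 (flp_c L2328) q317, e3 q216 L2729 q378, e3 q217 L1406 q136, e3 q218 L1414 q137, e3 q219 L2763 q384, e3 q220 L2775 q387, e3 q221 (flp_c L1426) q116, e3 q222 (flp_c L2791) q390, e3 q223 (flp_c L2799) q391,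 e3 q224 L2815 q395, e3 q225 L2829 q398, e3 q226 L2841 q400, e3 q227 (flp_c L1454) q119, e3 q228 (flp_c L2857) q403, e3 q229 L2867 q404, e3 q230 (flp_c L1462) q120, e3 q231 (flp_c L2883) q407, e3 q232 L2900 q409, e3 q233 (flp_c L1473) q121, e3 q234 (flp_c L2910) q411, e3 q235 L2934 q414, e3 q236 (flp_c L1487) q122, e3 q237 (flp_c L2944) q416, e3 q238 L53588 q238, e3 q239 (flp_c L1504) q123, e3 q240 (flp_c L2506) q346, e3 q241 L1512 q125, e3 q242 (flp_c L2983) q422, e3 q243 L77127 q243, e3 q244 (flp_c L1532) q126, e3 q245 L65398 q349, e3 q246 L1540 q128, e3 q247 (flp_c L3013) q427, e3 q248 (flp_c L1552) q130, e3 q249 (flp_c L3032) q430, e3 q250 (flp_c L1572) q133, e3 q251 (flp_c L3060) q433, e3 q252 (flp_c L1595) q135, e3 q253 (flp_c L3108) q436, e3 q254 (flp_c L3114) q437, e3 q255 L3155 q442, trivial⟩ (by decide +kernel)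

theorem ce_c_4 : ∀ r, r < 64 → sm gc (Qf (256 + r)) = Qf (tab Gen.c (256 + r)) :=
  edges_tab (sm gc) Qf (tab Gen.c) 256 [(256, 258), (257, 444), (258, 256), (259, 138), (260, 385), (261, 140), (262, 388), (263, 263), (264, 143), (265, 144), (266, 455), (267, 452), (268, 458), (269, 454), (270, 270), (271, 463), (272, 272), (273, 466), (274, 467), (275, 469), (276, 150), (277, 471), (278, 473), (279, 152), (280, 475), (281, 153), (282, 478), (283, 479), (284, 154), (285, 482), (286, 155), (287, 483), (288, 157), (289, 158), (290, 485), (291, 160), (292, 162), (293, 165), (294, 489), (295, 295), (296, 296), (297, 297), (298, 298), (299, 495), (300, 172), (301, 173), (302, 302), (303, 303), (304, 177), (305, 203), (306, 204), (307, 205), (308, 498), (309, 499), (310, 500), (311, 513), (312, 210), (313, 211), (314, 521), (315, 213), (316, 525), (317, 215), (318, 528), (319, 319)]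
    ⟨e3 q256 (flp_c L1631) q258, e3 q257 L3173 q444, e3 q258 L1631 q256, e3 q259 (flp_c L1642) q138, e3 q260 L81212 q385, e3 q261 (flp_c L1658) q140, e3 q262 (flp_c L82387) q388, e3 q263 L1671 q263, e3 q264 L1674 q143, e3 q265 L1678 q144, e3 q266 L3306 q455, e3 q267 (flp_c L3285) q452, e3 q268 L3322 q458, e3 q269 (flp_c L3295) q454, e3 q270 L1712 q270, e3 q271 L3356 q463, e3 q272 L1727 q272, e3 q273 L3391 q466, e3 q274 L3419 q467, e3 q275 L3428 q469, e3 q276 (flp_c L1749) q150, e3 q277 L3468 q471, e3 q278 L3477 q473, e3 q279 (flp_c L1772) q152, e3 q280 L3501 q475, e3 q281 (flp_c L1786) q153, e3 q282 (flp_c L3522) q478, e3 q283 L3526 q479, e3 q284 (flp_c L1804) q154, e3 q285 (flp_c L3549) q482, e3 q286 (flp_c L1816) q155, e3 q287 (flp_c L3564) q483, e3 q288 L1834 q157, e3 q289 (flp_c L1836) q158, e3 q290 (flp_c L3593) q485, e3 q291 L1856 q160, e3 q292 L1867 q162, e3 q293 L1902 q165, e3 q294 L3939 q489, e3 q295 L2054 q295, e3 q296 L54664 q296, e3 q297 L66699 q297, e3 q298 L66615 q298, e3 q299 L4013 q495, e3 q300 L2085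 q172, e3 q301 L2093 q173, e3 q302 L67222 q302, e3 q303 L77172 q303, e3 q304 (flp_c L2262) q177, e3 q305 L2268 q203, e3 q306 L2274 q204, e3 q307 L2280 q205, e3 q308 (flp_c L4349) q498, e3 q309 (flp_c L4355) q499, e3 q310 (flp_c L4363) q500, e3 q311 L4433 q513, e3 q312 L2300 q210, e3 q313 L2306 q211, e3 q314 L4477 q521, e3 q315 L2316 q213, e3 q316 L4491 q525, e3 q317 L2328 q215, e3 q318 L4547 q528, e3 q319 L54628 q319, trivial⟩ (by decide +kernel)

theorem ce_c_5 : ∀ r, r < 64 → sm gc (Qf (320 + r)) = Qf (tab Gen.c (320 + r)) :=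
  edges_tab (sm gc) Qf (tab Gen.c) 320 [(320, 320), (321, 536), (322, 322), (323, 540), (324, 324), (325, 184), (326, 544), (327, 545), (328, 551), (329, 192), (330, 555), (331, 194), (332, 559), (333, 187), (334, 561), (335, 565), (336, 567), (337, 189), (338, 569), (339, 573), (340, 191), (341, 575), (342, 576), (343, 193), (344, 578), (345, 579), (346, 240), (347, 196), (348, 197), (349, 245), (350, 199), (351, 200), (352, 588), (353, 353), (354, 354), (355, 355), (356, 356), (357, 594), (358, 502), (359, 503), (360, 597), (361, 361), (362, 362), (363, 383), (364, 364), (365, 386), (366, 366), (367, 209), (368, 608), (369, 609), (370, 614), (371, 517), (372, 616), (373, 519), (374, 212), (375, 620), (376, 214), (377, 623), (378, 216), (379, 626), (380, 627), (381, 631), (382, 634), (383, 363)]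
    ⟨e3 q320 L66638 q320, e3 q321 L4589 q536, e3 q322 L66619 q322, e3 q323 L4603 q540, e3 q324 L66689 q324, e3 q325 (flp_c L2392) q184, e3 q326 (flp_c L4617) q544, e3 q327 (flp_c L4621) q545, e3 q328 L4649 q551, e3 q329 L2408 q192, e3 q330 L4667 q555, e3 q331 L2422 q194, e3 q332 L4683 q559, e3 q333 (flp_c L2430) q187, e3 q334 (flp_c L4699) q561, e3 q335 L4713 q565, e3 q336 L4723 q567, e3 q337 (flp_c L2440) q189, e3 q338 (flp_c L4739) q569, e3 q339 L4753 q573, e3 q340 (flp_c L2448) q191, e3 q341 (flp_c L4767) q575, e3 q342 L4771 q576, e3 q343 (flp_c L2476) q193, e3 q344 (flp_c L4793) q578, e3 q345 L4799 q579, e3 q346 L2506 q240, e3 q347 L2510 q196, e3 q348 (flp_c L2512) q197, e3 q349 (flp_c L65398) q245, e3 q350 L2530 q199, e3 q351 (flp_c L2534) q200, e3 q352 L4932 q588, e3 q353 L70185 q353, e3 q354 L2590 q354, e3 q355 L2595 q355, e3 q356 L2602 q356, e3 q357 L5007 q594, e3 q358 (flp_c L4375) q502, e3 q359 (flp_c L4383) q503, e3 q360 L5043 q597, e3 q361 L2633 q361, e3 q362 L2638 q362, e3 q363 L69756 q383, e3 q364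 L2649 q364, e3 q365 L82444 q386, e3 q366 L2664 q366, e3 q367 (flp_c L2669) q209, e3 q368 (flp_c L5133) q608, e3 q369 (flp_c L5137) q609, e3 q370 L5171 q614, e3 q371 (flp_c L4451) q517, e3 q372 L5191 q616, e3 q373 (flp_c L4467) q519, e3 q374 (flp_c L2709) q212, e3 q375 L5229 q620, e3 q376 (flp_c L2721) q214, e3 q377 L5257 q623, e3 q378 (flp_c L2729) q216, e3 q379 (flp_c L5278) q626, e3 q380 (flp_c L5286) q627, e3 q381 L5306 q631, e3 q382 L5320 q634, e3 q383 (flp_c L69756) q363, trivial⟩ (by decide +kernel)

theorem ce_c_6 : ∀ r, r < 64 → sm gc (Qf (384 + r)) = Qf (tab Gen.c (384 + r)) :=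
  edges_tab (sm gc) Qf (tab Gen.c) 384 [(384, 219), (385, 260), (386, 365), (387, 220), (388, 262), (389, 606), (390, 222), (391, 223), (392, 644), (393, 647), (394, 649), (395, 224), (396, 652), (397, 653), (398, 225), (399, 656), (400, 226), (401, 659), (402, 618), (403, 228), (404, 229), (405, 665), (406, 621), (407, 231), (408, 408), (409, 232), (410, 670), (411, 234), (412, 674), (413, 413), (414, 235), (415, 676), (416, 237), (417, 680), (418, 429), (419, 580), (420, 581), (421, 486), (422, 242), (423, 432), (424, 584), (425, 585), (426, 484), (427, 247), (428, 428), (429, 418), (430, 249), (431, 431), (432, 423), (433, 251), (434, 434), (435, 435), (436, 253), (437, 254), (438, 715), (439, 712), (440, 718), (441, 714), (442, 255), (443, 632), (444, 257), (445, 635), (446, 636), (447, 637)]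
    ⟨e3 q384 (flp_c L2763) q219, e3 q385 (flp_c L81212) q260, e3 q386 (flp_c L82444) q365, e3 q387 (flp_c L2775) q220, e3 q388 L82387 q262, e3 q389 (flp_c L5127) q606, e3 q390 L2791 q222, e3 q391 L2799 q223, e3 q392 L5418 q644, e3 q393 L5428 q647, e3 q394 L5438 q649, e3 q395 (flp_c L2815) q224, e3 q396 (flp_c L5458) q652, e3 q397 L5474 q653, e3 q398 (flp_c L2829) q225, e3 q399 (flp_c L5494) q656, e3 q400 (flp_c L2841) q226, e3 q401 (flp_c L5527) q659, e3 q402 (flp_c L69605) q618, e3 q403 L2857 q228, e3 q404 (flp_c L2867) q229, e3 q405 (flp_c L5577) q665, e3 q406 (flp_c L82593) q621, e3 q407 L2883 q231, e3 q408 L53578 q408, e3 q409 (flp_c L2900) q232, e3 q410 L5623 q670, e3 q411 L2910 q234, e3 q412 (flp_c L5641) q674, e3 q413 L77155 q413, e3 q414 (flp_c L2934) q235, e3 q415 L5663 q676, e3 q416 L2944 q237, e3 q417 (flp_c L5681) q680, e3 q418 L3026 q429, e3 q419 (flp_c L4811) q580, e3 q420 (flp_c L4817) q581, e3 q421 (flp_c L3609) q486, e3 q422 L2983 q242, e3 q423 L3056 q432, e3 q424 (flp_c L65482) q584, e3 q425 L65381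 q585, e3 q426 (flp_c L3580) q484, e3 q427 L3013 q247, e3 q428 L3019 q428, e3 q429 (flp_c L3026) q418, e3 q430 L3032 q249, e3 q431 L3051 q431, e3 q432 (flp_c L3056) q423, e3 q433 L3060 q251, e3 q434 L3102 q434, e3 q435 L3105 q435, e3 q436 L3108 q253, e3 q437 L3114 q254, e3 q438 L6001 q715, e3 q439 (flp_c L5974) q712, e3 q440 L6025 q718, e3 q441 (flp_c L5988) q714, e3 q442 (flp_c L3155) q255, e3 q443 L81127 q632, e3 q444 (flp_c L3173) q257, e3 q445 L82379 q635, e3 q446 (flp_c L81210) q636, e3 q447 L82422 q637, trivial⟩ (by decide +kernel)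

theorem ce_c_7 : ∀ r, r < 64 → sm gc (Qf (448 + r)) = Qf (tab Gen.c (448 + r)) :=
  edges_tab (sm gc) Qf (tab Gen.c) 448 [(448, 448), (449, 449), (450, 450), (451, 733), (452, 267), (453, 737), (454, 269), (455, 266), (456, 741), (457, 744), (458, 268), (459, 746), (460, 749), (461, 750), (462, 752), (463, 271), (464, 754), (465, 756), (466, 273), (467, 274), (468, 760), (469, 275), (470, 687), (471, 277), (472, 766), (473, 278), (474, 694), (475, 280), (476, 771), (477, 772), (478, 282), (479, 283), (480, 776), (481, 777), (482, 285), (483, 287), (484, 426), (485, 290), (486, 421), (487, 488), (488, 487), (489, 294), (490, 787), (491, 789), (492, 790), (493, 493), (494, 494), (495, 299), (496, 794), (497, 795), (498, 308), (499, 309), (500, 310), (501, 801), (502, 358), (503, 359), (504, 504), (505, 505), (506, 806), (507, 797), (508, 798), (509, 535), (510, 512), (511, 539)]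
    ⟨e3 q448 L3274 q448, e3 q449 L3277 q449, e3 q450 L3280 q450, e3 q451 L6354 q733, e3 q452 L3285 q267, e3 q453 L6364 q737, e3 q454 L3295 q269, e3 q455 (flp_c L3306) q266, e3 q456 (flp_c L6396) q741, e3 q457 L6408 q744, e3 q458 (flp_c L3322) q268, e3 q459 (flp_c L6438) q746, e3 q460 L6450 q749, e3 q461 L6486 q750, e3 q462 L6501 q752, e3 q463 (flp_c L3356) q271, e3 q464 L6561 q754, e3 q465 L6576 q756, e3 q466 (flp_c L3391) q273, e3 q467 (flp_c L3419) q274, e3 q468 L6673 q760, e3 q469 (flp_c L3428) q275, e3 q470 (flp_c L142553) q687, e3 q471 (flp_c L3468) q277, e3 q472 L6790 q766, e3 q473 (flp_c L3477) q278, e3 q474 L140496 q694, e3 q475 (flp_c L3501) q280, e3 q476 (flp_c L6853) q771, e3 q477 L6859 q772, e3 q478 L3522 q282, e3 q479 (flp_c L3526) q283, e3 q480 (flp_c L6890) q776, e3 q481 L6896 q777, e3 q482 L3549 q285, e3 q483 L3564 q287, e3 q484 L3580 q426, e3 q485 L3593 q290, e3 q486 L3609 q421, e3 q487 (flp_c L3715) q488, e3 q488 L3715 q487, e3 q489 (flp_c L3939) q294, e3 q490 (flp_c L7635) q787, e3 q491 L7685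 q789, e3 q492 L7749 q790, e3 q493 L66629 q493, e3 q494 L54652 q494, e3 q495 (flp_c L4013) q299, e3 q496 (flp_c L7807) q794, e3 q497 (flp_c L7815) q795, e3 q498 L4349 q308, e3 q499 L4355 q309, e3 q500 L4363 q310, e3 q501 L8541 q801, e3 q502 L4375 q358, e3 q503 L4383 q359, e3 q504 L64728 q504, e3 q505 L78706 q505, e3 q506 L8587 q806, e3 q507 (flp_c L8521) q797, e3 q508 (flp_c L8529) q798, e3 q509 (flp_c L69391) q535, e3 q510 (flp_c L4427) q512, e3 q511 L82512 q539, trivial⟩ (by decide +kernel)

theorem ce_c_8 : ∀ r, r < 64 → sm gc (Qf (512 + r)) = Qf (tab Gen.c (512 + r)) :=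
  edges_tab (sm gc) Qf (tab Gen.c) 512 [(512, 510), (513, 311), (514, 819), (515, 820), (516, 826), (517, 371), (518, 830), (519, 373), (520, 833), (521, 314), (522, 835), (523, 836), (524, 837), (525, 316), (526, 839), (527, 840), (528, 318), (529, 843), (530, 844), (531, 850), (532, 532), (533, 854), (534, 534), (535, 509), (536, 321), (537, 858), (538, 861), (539, 511), (540, 323), (541, 863), (542, 866), (543, 817), (544, 326), (545, 327), (546, 875), (547, 871), (548, 879), (549, 873), (550, 883), (551, 328), (552, 885), (553, 889), (554, 891), (555, 330), (556, 893), (557, 897), (558, 558), (559, 332), (560, 834), (561, 334), (562, 904), (563, 902), (564, 905), (565, 335), (566, 566), (567, 336), (568, 838), (569, 338), (570, 913), (571, 911), (572, 914), (573, 339), (574, 916), (575, 341)]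
    ⟨e3 q512 L4427 q510, e3 q513 (flp_c L4433) q311, e3 q514 (flp_c L8675) q819, e3 q515 (flp_c L8679) q820, e3 q516 L8713 q826, e3 q517 L4451 q371, e3 q518 L8735 q830, e3 q519 L4467 q373, e3 q520 L8753 q833, e3 q521 (flp_c L4477) q314, e3 q522 (flp_c L8767) q835, e3 q523 L8775 q836, e3 q524 L8785 q837, e3 q525 (flp_c L4491) q316, e3 q526 (flp_c L8799) q839, e3 q527 L8807 q840, e3 q528 (flp_c L4547) q318, e3 q529 (flp_c L8937) q843, e3 q530 (flp_c L8943) q844, e3 q531 L8981 q850, e3 q532 L54640 q532, e3 q533 L8997 q854, e3 q534 L66642 q534, e3 q535 L69391 q509, e3 q536 (flp_c L4589) q321, e3 q537 (flp_c L9029) q858, e3 q538 L9049 q861, e3 q539 (flp_c L82512) q511, e3 q540 (flp_c L4603) q323, e3 q541 (flp_c L9077) q863, e3 q542 L9097 q866, e3 q543 (flp_c L8669) q817, e3 q544 L4617 q326, e3 q545 L4621 q327, e3 q546 L9135 q875, e3 q547 (flp_c L9115) q871, e3 q548 L9149 q879, e3 q549 (flp_c L9125) q873, e3 q550 L9163 q883, e3 q551 (flp_c L4649) q328, e3 q552 (flp_c L9183) q885, e3 q553 L9205 q889, e3 q554 L9221 q891,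 e3 q555 (flp_c L4667) q330, e3 q556 (flp_c L9241) q893, e3 q557 L9263 q897, e3 q558 L64622 q558, e3 q559 (flp_c L4683) q332, e3 q560 L69556 q834, e3 q561 L4699 q334, e3 q562 L9327 q904, e3 q563 (flp_c L9319) q902, e3 q564 L9337 q905, e3 q565 (flp_c L4713) q335, e3 q566 L78716 q566, e3 q567 (flp_c L4723) q336, e3 q568 (flp_c L82581) q838, e3 q569 L4739 q338, e3 q570 L9413 q913, e3 q571 (flp_c L9405) q911, e3 q572 L9423 q914, e3 q573 (flp_c L4753) q339, e3 q574 L9449 q916, e3 q575 L4767 q341, trivial⟩ (by decide +kernel)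

theorem ce_c_9 : ∀ r, r < 64 → sm gc (Qf (576 + r)) = Qf (tab Gen.c (576 + r)) :=
  edges_tab (sm gc) Qf (tab Gen.c) 576 [(576, 342), (577, 921), (578, 344), (579, 345), (580, 419), (581, 420), (582, 586), (583, 691), (584, 424), (585, 425), (586, 582), (587, 684), (588, 352), (589, 937), (590, 939), (591, 940), (592, 592), (593, 593), (594, 357), (595, 945), (596, 946), (597, 360), (598, 949), (599, 950), (600, 630), (601, 601), (602, 633), (603, 603), (604, 958), (605, 960), (606, 389), (607, 965), (608, 368), (609, 369), (610, 973), (611, 970), (612, 975), (613, 972), (614, 370), (615, 979), (616, 372), (617, 982), (618, 402), (619, 906), (620, 375), (621, 406), (622, 915), (623, 377), (624, 947), (625, 625), (626, 379), (627, 380), (628, 994), (629, 997), (630, 600), (631, 381), (632, 443), (633, 602), (634, 382), (635, 445), (636, 446), (637, 447), (638, 961), (639, 963)]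
    ⟨e3 q576 (flp_c L4771) q342, e3 q577 L9484 q921, e3 q578 L4793 q344, e3 q579 (flp_c L4799) q345, e3 q580 L4811 q419, e3 q581 L4817 q420, e3 q582 (flp_c L4854) q586, e3 q583 (flp_c L65522) q691, e3 q584 L65482 q424, e3 q585 (flp_c L65381) q425, e3 q586 L4854 q582, e3 q587 (flp_c L5725) q684, e3 q588 (flp_c L4932) q352, e3 q589 (flp_c L9711) q937, e3 q590 L9759 q939, e3 q591 L9813 q940, e3 q592 L4989 q592, e3 q593 L4996 q593, e3 q594 (flp_c L5007) q357, e3 q595 (flp_c L9877) q945, e3 q596 (flp_c L9883) q946, e3 q597 (flp_c L5043) q360, e3 q598 (flp_c L9975) q949, e3 q599 (flp_c L9981) q950, e3 q600 (flp_c L69746) q630, e3 q601 L5067 q601, e3 q602 (flp_c L82472) q633, e3 q603 L5082 q603, e3 q604 L10090 q958, e3 q605 L10128 q960, e3 q606 L5127 q389, e3 q607 L10153 q965, e3 q608 L5133 q368, e3 q609 L5137 q369, e3 q610 L10193 q973, e3 q611 (flp_c L10173) q970, e3 q612 L10211 q975, e3 q613 (flp_c L10183) q972, e3 q614 (flp_c L5171) q370, e3 q615 L10257 q979, e3 q616 (flp_c L5191) q372, e3 q617 L10299 q982, e3 q618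 L69605 q402, e3 q619 L141705 q906, e3 q620 (flp_c L5229) q375, e3 q621 L82593 q406, e3 q622 L141344 q915, e3 q623 (flp_c L5257) q377, e3 q624 (flp_c L9969) q947, e3 q625 L5273 q625, e3 q626 L5278 q379, e3 q627 L5286 q380, e3 q628 L10513 q994, e3 q629 L10529 q997, e3 q630 L69746 q600, e3 q631 (flp_c L5306) q381, e3 q632 (flp_c L81127) q443, e3 q633 L82472 q602, e3 q634 (flp_c L5320) q382, e3 q635 (flp_c L82379) q445, e3 q636 L81210 q446, e3 q637 (flp_c L82422) q447, e3 q638 (flp_c L10139) q961, e3 q639 (flp_c L10147) q963, trivial⟩ (by decide +kernel)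

theorem ce_c_10 : ∀ r, r < 64 → sm gc (Qf (640 + r)) = Qf (tab Gen.c (640 + r)) :=
  edges_tab (sm gc) Qf (tab Gen.c) 640 [(640, 964), (641, 1011), (642, 1014), (643, 1016), (644, 392), (645, 1019), (646, 1020), (647, 393), (648, 1023), (649, 394), (650, 1026), (651, 1027), (652, 396), (653, 397), (654, 1033), (655, 1034), (656, 399), (657, 657), (658, 758), (659, 401), (660, 983), (661, 762), (662, 668), (663, 663), (664, 764), (665, 405), (666, 984), (667, 768), (668, 662), (669, 1046), (670, 410), (671, 1049), (672, 1050), (673, 779), (674, 412), (675, 1057), (676, 415), (677, 1060), (678, 1061), (679, 774), (680, 417), (681, 698), (682, 926), (683, 1071), (684, 587), (685, 784), (686, 785), (687, 470), (688, 703), (689, 931), (690, 1070), (691, 583), (692, 781), (693, 782), (694, 474), (695, 695), (696, 696), (697, 697), (698, 681), (699, 1080), (700, 700), (701, 701), (702, 702), (703, 688)]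
    ⟨e3 q640 (flp_c L10151) q964, e3 q641 L10779 q1011, e3 q642 L10791 q1014, e3 q643 L10803 q1016, e3 q644 (flp_c L5418) q392, e3 q645 (flp_c L10819) q1019, e3 q646 L10833 q1020, e3 q647 (flp_c L5428) q393, e3 q648 (flp_c L10849) q1023, e3 q649 (flp_c L5438) q394, e3 q650 (flp_c L10890) q1026, e3 q651 L10900 q1027, e3 q652 L5458 q396, e3 q653 (flp_c L5474) q397, e3 q654 (flp_c L10962) q1033, e3 q655 L10972 q1034, e3 q656 L5494 q399, e3 q657 L47714 q657, e3 q658 L80884 q758, e3 q659 L5527 q401, e3 q660 (flp_c L69595) q983, e3 q661 (flp_c L80938) q762, e3 q662 L82023 q668, e3 q663 L82642 q663, e3 q664 (flp_c L82630) q764, e3 q665 L5577 q405, e3 q666 (flp_c L82587) q984, e3 q667 (flp_c L82609) q768, e3 q668 (flp_c L82023) q662, e3 q669 L11314 q1046, e3 q670 (flp_c L5623) q410, e3 q671 (flp_c L11330) q1049, e3 q672 (flp_c L11334) q1050, e3 q673 (flp_c L6912) q779, e3 q674 L5641 q412, e3 q675 L11396 q1057, e3 q676 (flp_c L5663) q415, e3 q677 (flp_c L11412) q1060, e3 q678 (flp_c L11416) q1061, e3 q679 (flp_c L6875) q774,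 e3 q680 L5681 q417, e3 q681 (flp_c L5825) q698, e3 q682 (flp_c L9516) q926, e3 q683 L11533 q1071, e3 q684 L5725 q587, e3 q685 (flp_c L7016) q784, e3 q686 (flp_c L7020) q785, e3 q687 L142553 q470, e3 q688 (flp_c L5869) q703, e3 q689 (flp_c L65477) q931, e3 q690 L83178 q1070, e3 q691 L65522 q583, e3 q692 (flp_c L6961) q781, e3 q693 (flp_c L6965) q782, e3 q694 (flp_c L140496) q474, e3 q695 L64929 q695, e3 q696 L5816 q696, e3 q697 L5819 q697, e3 q698 L5825 q681, e3 q699 L11770 q1080, e3 q700 L82138 q700, e3 q701 L5858 q701, e3 q702 L5861 q702, e3 q703 L5869 q688, trivial⟩ (by decide +kernel)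

theorem ce_c_11 : ∀ r, r < 64 → sm gc (Qf (704 + r)) = Qf (tab Gen.c (704 + r)) :=
  edges_tab (sm gc) Qf (tab Gen.c) 704 [(704, 1085), (705, 705), (706, 1090), (707, 707), (708, 708), (709, 709), (710, 710), (711, 1102), (712, 439), (713, 1106), (714, 441), (715, 438), (716, 1110), (717, 1112), (718, 440), (719, 1114), (720, 1116), (721, 999), (722, 1001), (723, 1120), (724, 1122), (725, 1124), (726, 726), (727, 727), (728, 1130), (729, 729), (730, 1134), (731, 731), (732, 1138), (733, 451), (734, 1141), (735, 1145), (736, 1148), (737, 453), (738, 1151), (739, 1155), (740, 740), (741, 456), (742, 1160), (743, 1162), (744, 457), (745, 745), (746, 459), (747, 1167), (748, 1169), (749, 460), (750, 461), (751, 1173), (752, 462), (753, 1176), (754, 464), (755, 1180), (756, 465), (757, 1183), (758, 658), (759, 1186), (760, 468), (761, 1187), (762, 661), (763, 1056), (764, 664), (765, 1193), (766, 472), (767, 1194)]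
    ⟨e3 q704 L11893 q1085, e3 q705 L5941 q705, e3 q706 L11990 q1090, e3 q707 L5950 q707, e3 q708 L5955 q708, e3 q709 L5960 q709, e3 q710 L5965 q710, e3 q711 L12059 q1102, e3 q712 L5974 q439, e3 q713 L12077 q1106, e3 q714 L5988 q441, e3 q715 (flp_c L6001) q438, e3 q716 (flp_c L12119) q1110, e3 q717 L12137 q1112, e3 q718 (flp_c L6025) q440, e3 q719 (flp_c L12177) q1114, e3 q720 L12195 q1116, e3 q721 L81199 q999, e3 q722 L82461 q1001, e3 q723 L12557 q1120, e3 q724 L12751 q1122, e3 q725 L12817 q1124, e3 q726 L6326 q726, e3 q727 L6331 q727, e3 q728 L12832 q1130, e3 q729 L6338 q729, e3 q730 L12845 q1134, e3 q731 L6349 q731, e3 q732 L12856 q1138, e3 q733 (flp_c L6354) q451, e3 q734 (flp_c L12872) q1141, e3 q735 L12886 q1145, e3 q736 L12896 q1148, e3 q737 (flp_c L6364) q453, e3 q738 (flp_c L12912) q1151, e3 q739 L12930 q1155, e3 q740 L50689 q740, e3 q741 L6396 q456, e3 q742 L12991 q1160, e3 q743 L13003 q1162, e3 q744 (flp_c L6408) q457, e3 q745 L76208 q745, e3 q746 L6438 q459, e3 q747 L13080 q1167, e3 q748 L13092 q1169,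 e3 q749 (flp_c L6450) q460, e3 q750 (flp_c L6486) q461, e3 q751 L13213 q1173, e3 q752 (flp_c L6501) q462, e3 q753 L13253 q1176, e3 q754 (flp_c L6561) q464, e3 q755 L13386 q1180, e3 q756 (flp_c L6576) q465, e3 q757 L13426 q1183, e3 q758 (flp_c L80884) q658, e3 q759 L13608 q1186, e3 q760 (flp_c L6673) q468, e3 q761 (flp_c L13622) q1187, e3 q762 L80938 q661, e3 q763 L142549 q1056, e3 q764 L82630 q664, e3 q765 L13872 q1193, e3 q766 (flp_c L6790) q472, e3 q767 (flp_c L13886) q1194, trivial⟩ (by decide +kernel)

theorem ce_c_12 : ∀ r, r < 64 → sm gc (Qf (768 + r)) = Qf (tab Gen.c (768 + r)) :=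
  edges_tab (sm gc) Qf (tab Gen.c) 768 [(768, 667), (769, 1067), (770, 1199), (771, 476), (772, 477), (773, 1203), (774, 679), (775, 1207), (776, 480), (777, 481), (778, 1211), (779, 673), (780, 783), (781, 692), (782, 693), (783, 780), (784, 685), (785, 686), (786, 786), (787, 490), (788, 1217), (789, 491), (790, 492), (791, 1222), (792, 1223), (793, 1218), (794, 496), (795, 497), (796, 1229), (797, 507), (798, 508), (799, 857), (800, 862), (801, 501), (802, 1235), (803, 1236), (804, 804), (805, 805), (806, 506), (807, 1241), (808, 1242), (809, 849), (810, 812), (811, 853), (812, 810), (813, 816), (814, 815), (815, 814), (816, 813), (817, 543), (818, 944), (819, 514), (820, 515), (821, 1263), (822, 1259), (823, 1267), (824, 1261), (825, 1270), (826, 516), (827, 1272), (828, 1273), (829, 1274), (830, 518), (831, 1276)]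
    ⟨e3 q768 L82609 q667, e3 q769 L140510 q1067, e3 q770 L14005 q1199, e3 q771 L6853 q476, e3 q772 (flp_c L6859) q477, e3 q773 (flp_c L14040) q1203, e3 q774 L6875 q679, e3 q775 L14081 q1207, e3 q776 L6890 q480, e3 q777 (flp_c L6896) q481, e3 q778 (flp_c L14118) q1211, e3 q779 L6912 q673, e3 q780 (flp_c L6993) q783, e3 q781 L6961 q692, e3 q782 L6965 q693, e3 q783 L6993 q780, e3 q784 L7016 q685, e3 q785 L7020 q686, e3 q786 L62705 q786, e3 q787 L7635 q490, e3 q788 L15561 q1217, e3 q789 (flp_c L7685) q491, e3 q790 (flp_c L7749) q492, e3 q791 (flp_c L15804) q1222, e3 q792 (flp_c L15812) q1223, e3 q793 (flp_c L15641) q1218, e3 q794 L7807 q496, e3 q795 L7815 q497, e3 q796 L17471 q1229, e3 q797 L8521 q507, e3 q798 L8529 q508, e3 q799 L69429 q857, e3 q800 L78774 q862, e3 q801 (flp_c L8541) q501, e3 q802 (flp_c L17531) q1235, e3 q803 (flp_c L17537) q1236, e3 q804 L70306 q804, e3 q805 L78764 q805, e3 q806 (flp_c L8587) q506, e3 q807 (flp_c L17646) q1241, e3 q808 (flp_c L17652) q1242, e3 q809 (flp_c L69451) q849, e3 q810 (flp_c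 L8625) q812, e3 q811 (flp_c L78637) q853, e3 q812 L8625 q810, e3 q813 L81503 q816, e3 q814 (flp_c L78837) q815, e3 q815 L78837 q814, e3 q816 (flp_c L81503) q813, e3 q817 L8669 q543, e3 q818 (flp_c L9871) q944, e3 q819 L8675 q514, e3 q820 L8679 q515, e3 q821 L17854 q1263, e3 q822 (flp_c L17834) q1259, e3 q823 L17872 q1267, e3 q824 (flp_c L17844) q1261, e3 q825 L17888 q1270, e3 q826 (flp_c L8713) q516, e3 q827 (flp_c L17904) q1272, e3 q828 L17918 q1273, e3 q829 L17934 q1274, e3 q830 (flp_c L8735) q518, e3 q831 (flp_c L17950) q1276, trivial⟩ (by decide +kernel)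

theorem ce_c_13 : ∀ r, r < 64 → sm gc (Qf (832 + r)) = Qf (tab Gen.c (832 + r)) :=
  edges_tab (sm gc) Qf (tab Gen.c) 832 [(832, 1277), (833, 520), (834, 560), (835, 522), (836, 523), (837, 524), (838, 568), (839, 526), (840, 527), (841, 1239), (842, 1221), (843, 529), (844, 530), (845, 1297), (846, 1293), (847, 1301), (848, 1295), (849, 809), (850, 531), (851, 1306), (852, 1309), (853, 811), (854, 533), (855, 1312), (856, 1315), (857, 799), (858, 537), (859, 1317), (860, 1318), (861, 538), (862, 800), (863, 541), (864, 1320), (865, 1321), (866, 542), (867, 1251), (868, 1253), (869, 1254), (870, 1330), (871, 547), (872, 1334), (873, 549), (874, 1338), (875, 546), (876, 1340), (877, 1344), (878, 1346), (879, 548), (880, 1348), (881, 1352), (882, 882), (883, 550), (884, 1354), (885, 552), (886, 1360), (887, 1358), (888, 1361), (889, 553), (890, 890), (891, 554), (892, 1364), (893, 556), (894, 1370), (895, 1368)]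
    ⟨e3 q832 L17964 q1277, e3 q833 (flp_c L8753) q520, e3 q834 (flp_c L69556) q560, e3 q835 L8767 q522, e3 q836 (flp_c L8775) q523, e3 q837 (flp_c L8785) q524, e3 q838 L82581 q568, e3 q839 L8799 q526, e3 q840 (flp_c L8807) q527, e3 q841 (flp_c L17639) q1239, e3 q842 (flp_c L65839) q1221, e3 q843 L8937 q529, e3 q844 L8943 q530, e3 q845 L18445 q1297, e3 q846 (flp_c L18419) q1293, e3 q847 L18467 q1301, e3 q848 (flp_c L18433) q1295, e3 q849 L69451 q809, e3 q850 (flp_c L8981) q531, e3 q851 (flp_c L18505) q1306, e3 q852 L18527 q1309, e3 q853 L78637 q811, e3 q854 (flp_c L8997) q533, e3 q855 (flp_c L18559) q1312, e3 q856 L18581 q1315, e3 q857 (flp_c L69429) q799, e3 q858 L9029 q537, e3 q859 L18647 q1317, e3 q860 L18663 q1318, e3 q861 (flp_c L9049) q538, e3 q862 (flp_c L78774) q800, e3 q863 L9077 q541, e3 q864 L18745 q1320, e3 q865 L18761 q1321, e3 q866 (flp_c L9097) q542, e3 q867 (flp_c L17806) q1251, e3 q868 (flp_c L17814) q1253, e3 q869 (flp_c L17818) q1254, e3 q870 L18817 q1330, e3 q871 L9115 q547, e3 q872 L18827 q1334,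 e3 q873 L9125 q549, e3 q874 L18841 q1338, e3 q875 (flp_c L9135) q546, e3 q876 (flp_c L18857) q1340, e3 q877 L18877 q1344, e3 q878 L18889 q1346, e3 q879 (flp_c L9149) q548, e3 q880 (flp_c L18905) q1348, e3 q881 L18925 q1352, e3 q882 L64652 q882, e3 q883 (flp_c L9163) q550, e3 q884 L18971 q1354, e3 q885 L9183 q552, e3 q886 L19005 q1360, e3 q887 (flp_c L18993) q1358, e3 q888 L19023 q1361, e3 q889 (flp_c L9205) q553, e3 q890 L78726 q890, e3 q891 (flp_c L9221) q554, e3 q892 L19095 q1364, e3 q893 L9241 q556, e3 q894 L19129 q1370, e3 q895 (flp_c L19117) q1368, trivial⟩ (by decide +kernel)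

theorem ce_c_14 : ∀ r, r < 64 → sm gc (Qf (896 + r)) = Qf (tab Gen.c (896 + r)) :=
  edges_tab (sm gc) Qf (tab Gen.c) 896 [(896, 1371), (897, 557), (898, 1279), (899, 1280), (900, 1215), (901, 934), (902, 563), (903, 1188), (904, 562), (905, 564), (906, 619), (907, 1283), (908, 1284), (909, 1216), (910, 929), (911, 571), (912, 1195), (913, 570), (914, 572), (915, 622), (916, 574), (917, 1386), (918, 1387), (919, 924), (920, 1392), (921, 577), (922, 1395), (923, 1396), (924, 919), (925, 1401), (926, 682), (927, 1383), (928, 933), (929, 910), (930, 1074), (931, 689), (932, 1377), (933, 928), (934, 901), (935, 1069), (936, 936), (937, 589), (938, 1405), (939, 590), (940, 591), (941, 1410), (942, 1411), (943, 1406), (944, 818), (945, 595), (946, 596), (947, 624), (948, 1409), (949, 598), (950, 599), (951, 1431), (952, 1428), (953, 1433), (954, 1430), (955, 1436), (956, 1438), (957, 1439), (958, 604), (959, 1440)]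
    ⟨e3 q896 L19147 q1371, e3 q897 (flp_c L9263) q557, e3 q898 (flp_c L69576) q1279, e3 q899 L69199 q1280, e3 q900 (flp_c L139244) q1215, e3 q901 (flp_c L9593) q934, e3 q902 L9319 q563, e3 q903 (flp_c L139557) q1188, e3 q904 (flp_c L9327) q562, e3 q905 (flp_c L9337) q564, e3 q906 (flp_c L141705) q619, e3 q907 (flp_c L82555) q1283, e3 q908 L82583 q1284, e3 q909 L139632 q1216, e3 q910 (flp_c L9528) q929, e3 q911 L9405 q571, e3 q912 (flp_c L141205) q1195, e3 q913 (flp_c L9413) q570, e3 q914 (flp_c L9423) q572, e3 q915 (flp_c L141344) q622, e3 q916 (flp_c L9449) q574, e3 q917 (flp_c L19595) q1386, e3 q918 (flp_c L19601) q1387, e3 q919 (flp_c L9504) q924, e3 q920 L19625 q1392, e3 q921 (flp_c L9484) q577, e3 q922 (flp_c L19682) q1395, e3 q923 (flp_c L19688) q1396, e3 q924 L9504 q919, e3 q925 L19718 q1401, e3 q926 L9516 q682, e3 q927 (flp_c L141928) q1383, e3 q928 (flp_c L9589) q933, e3 q929 L9528 q910, e3 q930 L65474 q1074, e3 q931 L65477 q689, e3 q932 L141920 q1377, e3 q933 L9589 q928, e3 q934 L9593 q901, e3 q935 (flp_c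 L11523) q1069, e3 q936 L70014 q936, e3 q937 L9711 q589, e3 q938 L20149 q1405, e3 q939 (flp_c L9759) q590, e3 q940 (flp_c L9813) q591, e3 q941 (flp_c L20389) q1410, e3 q942 (flp_c L20397) q1411, e3 q943 (flp_c L20225) q1406, e3 q944 L9871 q818, e3 q945 L9877 q595, e3 q946 L9883 q596, e3 q947 L9969 q624, e3 q948 L20383 q1409, e3 q949 L9975 q598, e3 q950 L9981 q599, e3 q951 L20791 q1431, e3 q952 (flp_c L20763) q1428, e3 q953 L20817 q1433, e3 q954 (flp_c L20777) q1430, e3 q955 L20868 q1436, e3 q956 L20912 q1438, e3 q957 L20986 q1439, e3 q958 (flp_c L10090) q604, e3 q959 L21070 q1440, trivial⟩ (by decide +kernel)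

theorem ce_c_15 : ∀ r, r < 64 → sm gc (Qf (960 + r)) = Qf (tab Gen.c (960 + r)) :=
  edges_tab (sm gc) Qf (tab Gen.c) 960 [(960, 605), (961, 638), (962, 1441), (963, 639), (964, 640), (965, 607), (966, 1450), (967, 1451), (968, 1452), (969, 1460), (970, 611), (971, 1464), (972, 613), (973, 610), (974, 1469), (975, 612), (976, 1472), (977, 1473), (978, 1378), (979, 615), (980, 1476), (981, 1384), (982, 617), (983, 660), (984, 666), (985, 1421), (986, 1483), (987, 1422), (988, 1423), (989, 989), (990, 990), (991, 1493), (992, 1496), (993, 1498), (994, 628), (995, 1501), (996, 1502), (997, 629), (998, 1505), (999, 721), (1000, 1506), (1001, 722), (1002, 1507), (1003, 1509), (1004, 1442), (1005, 1443), (1006, 1515), (1007, 1447), (1008, 1519), (1009, 1449), (1010, 1523), (1011, 641), (1012, 1526), (1013, 1529), (1014, 642), (1015, 1532), (1016, 643), (1017, 1536), (1018, 1537), (1019, 645), (1020, 646), (1021, 1543), (1022, 1544), (1023, 648)]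
    ⟨e3 q960 (flp_c L10128) q605, e3 q961 L10139 q638, e3 q962 L21095 q1441, e3 q963 L10147 q639, e3 q964 L10151 q640, e3 q965 (flp_c L10153) q607, e3 q966 (flp_c L72333) q1450, e3 q967 (flp_c L21157) q1451, e3 q968 (flp_c L21165) q1452, e3 q969 L21201 q1460, e3 q970 L10173 q611, e3 q971 L21211 q1464, e3 q972 L10183 q613, e3 q973 (flp_c L10193) q610, e3 q974 L21247 q1469, e3 q975 (flp_c L10211) q612, e3 q976 L21283 q1472, e3 q977 L21313 q1473, e3 q978 L141718 q1378, e3 q979 (flp_c L10257) q615, e3 q980 L21406 q1476, e3 q981 (flp_c L133285) q1384, e3 q982 (flp_c L10299) q617, e3 q983 L69595 q660, e3 q984 L82587 q666, e3 q985 (flp_c L20725) q1421, e3 q986 L21720 q1483, e3 q987 (flp_c L20735) q1422, e3 q988 (flp_c L20741) q1423, e3 q989 L10485 q989, e3 q990 L10494 q990, e3 q991 L21779 q1493, e3 q992 L21793 q1496, e3 q993 L21809 q1498, e3 q994 (flp_c L10513) q628, e3 q995 (flp_c L21829) q1501, e3 q996 L21849 q1502, e3 q997 (flp_c L10529) q629, e3 q998 (flp_c L21869) q1505, e3 q999 (flp_c L81199) q721, e3 q1000 L21923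 q1506, e3 q1001 (flp_c L82461) q722, e3 q1002 L21995 q1507, e3 q1003 L22303 q1509, e3 q1004 (flp_c L21101) q1442, e3 q1005 (flp_c L21107) q1443, e3 q1006 L22327 q1515, e3 q1007 (flp_c L21127) q1447, e3 q1008 L22345 q1519, e3 q1009 (flp_c L21139) q1449, e3 q1010 L22361 q1523, e3 q1011 (flp_c L10779) q641, e3 q1012 (flp_c L22379) q1526, e3 q1013 L22393 q1529, e3 q1014 (flp_c L10791) q642, e3 q1015 (flp_c L22411) q1532, e3 q1016 (flp_c L10803) q643, e3 q1017 (flp_c L22447) q1536, e3 q1018 L22455 q1537, e3 q1019 L10819 q645, e3 q1020 (flp_c L10833) q646, e3 q1021 (flp_c L22503) q1543, e3 q1022 L22511 q1544, e3 q1023 L10849 q648, trivial⟩ (by decide +kernel)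

theorem ce_c_16 : ∀ r, r < 64 → sm gc (Qf (1024 + r)) = Qf (tab Gen.c (1024 + r)) :=
  edges_tab (sm gc) Qf (tab Gen.c) 1024 [(1024, 1024), (1025, 1549), (1026, 650), (1027, 651), (1028, 1554), (1029, 1555), (1030, 1037), (1031, 1031), (1032, 1560), (1033, 654), (1034, 655), (1035, 1565), (1036, 1566), (1037, 1030), (1038, 1185), (1039, 1191), (1040, 1196), (1041, 1045), (1042, 1192), (1043, 1198), (1044, 1189), (1045, 1041), (1046, 669), (1047, 1573), (1048, 1552), (1049, 671), (1050, 672), (1051, 1579), (1052, 1585), (1053, 1581), (1054, 1213), (1055, 1214), (1056, 763), (1057, 675), (1058, 1590), (1059, 1563), (1060, 677), (1061, 678), (1062, 1596), (1063, 1602), (1064, 1598), (1065, 1205), (1066, 1206), (1067, 769), (1068, 1607), (1069, 935), (1070, 690), (1071, 683), (1072, 1381), (1073, 1606), (1074, 930), (1075, 1375), (1076, 1076), (1077, 1609), (1078, 1078), (1079, 1611), (1080, 699), (1081, 1081), (1082, 1614), (1083, 1083), (1084, 1616), (1085, 704), (1086, 1619), (1087, 1623)]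
    ⟨e3 q1024 L70858 q1024, e3 q1025 L22609 q1549, e3 q1026 L10890 q650, e3 q1027 (flp_c L10900) q651, e3 q1028 (flp_c L22657) q1554, e3 q1029 (flp_c L22661) q1555, e3 q1030 L82061 q1037, e3 q1031 L77814 q1031, e3 q1032 L22786 q1560, e3 q1033 L10962 q654, e3 q1034 (flp_c L10972) q655, e3 q1035 (flp_c L22834) q1565, e3 q1036 (flp_c L22838) q1566, e3 q1037 (flp_c L82061) q1030, e3 q1038 (flp_c L80877) q1185, e3 q1039 (flp_c L80856) q1191, e3 q1040 (flp_c L142125) q1196, e3 q1041 (flp_c L82018) q1045, e3 q1042 (flp_c L79362) q1192, e3 q1043 L79330 q1198, e3 q1044 (flp_c L142161) q1189, e3 q1045 L82018 q1041, e3 q1046 (flp_c L11314) q669, e3 q1047 (flp_c L23501) q1573, e3 q1048 (flp_c L22647) q1552, e3 q1049 L11330 q671, e3 q1050 L11334 q672, e3 q1051 (flp_c L23517) q1579, e3 q1052 L23553 q1585, e3 q1053 (flp_c L23527) q1581, e3 q1054 (flp_c L14132) q1213, e3 q1055 (flp_c L14138) q1214, e3 q1056 (flp_c L142549) q763, e3 q1057 (flp_c L11396) q675, e3 q1058 (flp_c L23705) q1590, e3 q1059 (flp_c L22824) q1563, e3 q1060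 L11412 q677, e3 q1061 L11416 q678, e3 q1062 (flp_c L23721) q1596, e3 q1063 L23757 q1602, e3 q1064 (flp_c L23731) q1598, e3 q1065 (flp_c L14054) q1205, e3 q1066 (flp_c L14060) q1206, e3 q1067 (flp_c L140510) q769, e3 q1068 L23982 q1607, e3 q1069 L11523 q935, e3 q1070 (flp_c L83178) q690, e3 q1071 (flp_c L11533) q683, e3 q1072 L142178 q1381, e3 q1073 (flp_c L83169) q1606, e3 q1074 (flp_c L65474) q930, e3 q1075 (flp_c L141934) q1375, e3 q1076 L64941 q1076, e3 q1077 L24443 q1609, e3 q1078 L11758 q1078, e3 q1079 L24450 q1611, e3 q1080 (flp_c L11770) q699, e3 q1081 L82131 q1081, e3 q1082 L24643 q1614, e3 q1083 L11851 q1083, e3 q1084 L24690 q1616, e3 q1085 (flp_c L11893) q704, e3 q1086 L24864 q1619, e3 q1087 L24881 q1623, trivial⟩ (by decide +kernel)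

theorem ce_c_17 : ∀ r, r < 64 → sm gc (Qf (1088 + r)) = Qf (tab Gen.c (1088 + r)) :=
  edges_tab (sm gc) Qf (tab Gen.c) 1088 [(1088, 1088), (1089, 1089), (1090, 706), (1091, 1629), (1092, 1630), (1093, 1636), (1094, 1094), (1095, 1640), (1096, 1096), (1097, 1644), (1098, 1098), (1099, 1648), (1100, 1100), (1101, 1652), (1102, 711), (1103, 1655), (1104, 1659), (1105, 1662), (1106, 713), (1107, 1665), (1108, 1669), (1109, 1671), (1110, 716), (1111, 1675), (1112, 717), (1113, 1677), (1114, 719), (1115, 1681), (1116, 720), (1117, 1684), (1118, 1686), (1119, 1687), (1120, 723), (1121, 1688), (1122, 724), (1123, 1689), (1124, 725), (1125, 1693), (1126, 1694), (1127, 1700), (1128, 1703), (1129, 1706), (1130, 728), (1131, 1708), (1132, 1711), (1133, 1714), (1134, 730), (1135, 1716), (1136, 1719), (1137, 1722), (1138, 732), (1139, 1727), (1140, 1729), (1141, 734), (1142, 1735), (1143, 1733), (1144, 1739), (1145, 735), (1146, 1742), (1147, 1745), (1148, 736), (1149, 1750), (1150, 1752), (1151, 738)]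
    ⟨e3 q1088 L11980 q1088, e3 q1089 L11987 q1089, e3 q1090 (flp_c L11990) q706, e3 q1091 (flp_c L24910) q1629, e3 q1092 (flp_c L24914) q1630, e3 q1093 L24948 q1636, e3 q1094 L12009 q1094, e3 q1095 L24969 q1640, e3 q1096 L12024 q1096, e3 q1097 L24988 q1644, e3 q1098 L12035 q1098, e3 q1099 L25003 q1648, e3 q1100 L12048 q1100, e3 q1101 L25020 q1652, e3 q1102 (flp_c L12059) q711, e3 q1103 (flp_c L25040) q1655, e3 q1104 L25062 q1659, e3 q1105 L25078 q1662, e3 q1106 (flp_c L12077) q713, e3 q1107 (flp_c L25098) q1665, e3 q1108 L25120 q1669, e3 q1109 L25180 q1671, e3 q1110 L12119 q716, e3 q1111 L25222 q1675, e3 q1112 (flp_c L12137) q717, e3 q1113 L25304 q1677, e3 q1114 L12177 q719, e3 q1115 L25346 q1681, e3 q1116 (flp_c L12195) q720, e3 q1117 L25569 q1684, e3 q1118 L25828 q1686, e3 q1119 L26173 q1687, e3 q1120 (flp_c L12557) q723, e3 q1121 L26542 q1688, e3 q1122 (flp_c L12751) q724, e3 q1123 L26648 q1689, e3 q1124 (flp_c L12817) q725, e3 q1125 (flp_c L26665) q1693, e3 q1126 (flp_c L26669) q1694, e3 q1127 L26691 q1700,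 e3 q1128 L26698 q1703, e3 q1129 L26705 q1706, e3 q1130 (flp_c L12832) q728, e3 q1131 (flp_c L26718) q1708, e3 q1132 L26726 q1711, e3 q1133 L26735 q1714, e3 q1134 (flp_c L12845) q730, e3 q1135 (flp_c L26748) q1716, e3 q1136 L26756 q1719, e3 q1137 L26765 q1722, e3 q1138 (flp_c L12856) q732, e3 q1139 (flp_c L26781) q1727, e3 q1140 L26787 q1729, e3 q1141 L12872 q734, e3 q1142 L26813 q1735, e3 q1143 (flp_c L26805) q1733, e3 q1144 L26823 q1739, e3 q1145 (flp_c L12886) q735, e3 q1146 (flp_c L26839) q1742, e3 q1147 L26849 q1745, e3 q1148 (flp_c L12896) q736, e3 q1149 (flp_c L26865) q1750, e3 q1150 L26871 q1752, e3 q1151 L12912 q738, trivial⟩ (by decide +kernel)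

theorem ce_c_18 : ∀ r, r < 64 → sm gc (Qf (1152 + r)) = Qf (tab Gen.c (1152 + r)) :=
  edges_tab (sm gc) Qf (tab Gen.c) 1152 [(1152, 1758), (1153, 1756), (1154, 1762), (1155, 739), (1156, 1765), (1157, 1157), (1158, 1158), (1159, 1770), (1160, 742), (1161, 1774), (1162, 743), (1163, 1777), (1164, 1164), (1165, 1165), (1166, 1782), (1167, 747), (1168, 1786), (1169, 748), (1170, 1789), (1171, 1791), (1172, 1793), (1173, 751), (1174, 1794), (1175, 1799), (1176, 753), (1177, 1803), (1178, 1804), (1179, 1806), (1180, 755), (1181, 1807), (1182, 1812), (1183, 757), (1184, 1816), (1185, 1038), (1186, 759), (1187, 761), (1188, 903), (1189, 1044), (1190, 1197), (1191, 1039), (1192, 1042), (1193, 765), (1194, 767), (1195, 912), (1196, 1040), (1197, 1190), (1198, 1043), (1199, 770), (1200, 1820), (1201, 1209), (1202, 1801), (1203, 773), (1204, 1827), (1205, 1065), (1206, 1066), (1207, 775), (1208, 1831), (1209, 1201), (1210, 1814), (1211, 778), (1212, 1838), (1213, 1054), (1214, 1055), (1215, 900)]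
    ⟨e3 q1152 L26899 q1758, e3 q1153 (flp_c L26889) q1756, e3 q1154 L26913 q1762, e3 q1155 (flp_c L12930) q739, e3 q1156 (flp_c L26931) q1765, e3 q1157 L50696 q1157, e3 q1158 L50680 q1158, e3 q1159 L27043 q1770, e3 q1160 (flp_c L12991) q742, e3 q1161 L27071 q1774, e3 q1162 (flp_c L13003) q743, e3 q1163 L27105 q1777, e3 q1164 L76221 q1164, e3 q1165 L76217 q1165, e3 q1166 L27233 q1782, e3 q1167 (flp_c L13080) q747, e3 q1168 L27263 q1786, e3 q1169 (flp_c L13092) q748, e3 q1170 L27297 q1789, e3 q1171 L27496 q1791, e3 q1172 L27516 q1793, e3 q1173 (flp_c L13213) q751, e3 q1174 (flp_c L27536) q1794, e3 q1175 L27572 q1799, e3 q1176 (flp_c L13253) q753, e3 q1177 (flp_c L27616) q1803, e3 q1178 L27830 q1804, e3 q1179 L27850 q1806, e3 q1180 (flp_c L13386) q755, e3 q1181 (flp_c L27870) q1807, e3 q1182 L27904 q1812, e3 q1183 (flp_c L13426) q757, e3 q1184 (flp_c L27948) q1816, e3 q1185 L80877 q1038, e3 q1186 (flp_c L13608) q759, e3 q1187 L13622 q761, e3 q1188 L139557 q903, e3 q1189 L142161 q1044, e3 q1190 L81948 q1197, e3 q1191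 L80856 q1039, e3 q1192 L79362 q1042, e3 q1193 (flp_c L13872) q765, e3 q1194 L13886 q767, e3 q1195 L141205 q912, e3 q1196 L142125 q1040, e3 q1197 (flp_c L81948) q1190, e3 q1198 (flp_c L79330) q1043, e3 q1199 (flp_c L14005) q770, e3 q1200 (flp_c L29047) q1820, e3 q1201 (flp_c L14107) q1209, e3 q1202 (flp_c L27606) q1801, e3 q1203 L14040 q773, e3 q1204 L29109 q1827, e3 q1205 L14054 q1065, e3 q1206 L14060 q1066, e3 q1207 (flp_c L14081) q775, e3 q1208 (flp_c L29213) q1831, e3 q1209 L14107 q1201, e3 q1210 (flp_c L27938) q1814, e3 q1211 L14118 q778, e3 q1212 L29279 q1838, e3 q1213 L14132 q1054, e3 q1214 L14138 q1055, e3 q1215 L139244 q900, trivial⟩ (by decide +kernel)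

theorem ce_c_19 : ∀ r, r < 64 → sm gc (Qf (1216 + r)) = Qf (tab Gen.c (1216 + r)) :=
  edges_tab (sm gc) Qf (tab Gen.c) 1216 [(1216, 909), (1217, 788), (1218, 793), (1219, 1219), (1220, 1841), (1221, 842), (1222, 791), (1223, 792), (1224, 1842), (1225, 1844), (1226, 1845), (1227, 1227), (1228, 1228), (1229, 796), (1230, 1866), (1231, 1867), (1232, 1304), (1233, 1310), (1234, 1234), (1235, 802), (1236, 803), (1237, 1875), (1238, 1876), (1239, 841), (1240, 1240), (1241, 807), (1242, 808), (1243, 1887), (1244, 1884), (1245, 1890), (1246, 1886), (1247, 1250), (1248, 1249), (1249, 1248), (1250, 1247), (1251, 867), (1252, 1897), (1253, 868), (1254, 869), (1255, 1416), (1256, 1417), (1257, 1418), (1258, 1912), (1259, 822), (1260, 1916), (1261, 824), (1262, 1919), (1263, 821), (1264, 1921), (1265, 1922), (1266, 1923), (1267, 823), (1268, 1925), (1269, 1926), (1270, 825), (1271, 1929), (1272, 827), (1273, 828), (1274, 829), (1275, 1935), (1276, 831), (1277, 832), (1278, 1278), (1279, 898)]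
    ⟨e3 q1216 (flp_c L139632) q909, e3 q1217 (flp_c L15561) q788, e3 q1218 L15641 q793, e3 q1219 L65922 q1219, e3 q1220 (flp_c L32318) q1841, e3 q1221 L65839 q842, e3 q1222 L15804 q791, e3 q1223 L15812 q792, e3 q1224 (flp_c L32486) q1842, e3 q1225 (flp_c L32494) q1844, e3 q1226 (flp_c L32498) q1845, e3 q1227 L67117 q1227, e3 q1228 L79053 q1228, e3 q1229 (flp_c L17471) q796, e3 q1230 (flp_c L36488) q1866, e3 q1231 (flp_c L36496) q1867, e3 q1232 L69421 q1304, e3 q1233 (flp_c L78804) q1310, e3 q1234 L62449 q1234, e3 q1235 L17531 q802, e3 q1236 L17537 q803, e3 q1237 L36618 q1875, e3 q1238 L36628 q1876, e3 q1239 L17639 q841, e3 q1240 L17643 q1240, e3 q1241 L17646 q807, e3 q1242 L17652 q808, e3 q1243 L36859 q1887, e3 q1244 (flp_c L36831) q1884, e3 q1245 L36885 q1890, e3 q1246 (flp_c L36845) q1886, e3 q1247 (flp_c L81493) q1250, e3 q1248 (flp_c L78823) q1249, e3 q1249 L78823 q1248, e3 q1250 L81493 q1247, e3 q1251 L17806 q867, e3 q1252 L37175 q1897, e3 q1253 L17814 q868, e3 q1254 L17818 q869, e3 q1255 (flp_c L20527) q1416,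 e3 q1256 (flp_c L20533) q1417, e3 q1257 (flp_c L20541) q1418, e3 q1258 L37247 q1912, e3 q1259 L17834 q822, e3 q1260 L37257 q1916, e3 q1261 L17844 q824, e3 q1262 L37269 q1919, e3 q1263 (flp_c L17854) q821, e3 q1264 (flp_c L37281) q1921, e3 q1265 L37293 q1922, e3 q1266 L37305 q1923, e3 q1267 (flp_c L17872) q823, e3 q1268 (flp_c L37317) q1925, e3 q1269 L37329 q1926, e3 q1270 (flp_c L17888) q825, e3 q1271 L37370 q1929, e3 q1272 L17904 q827, e3 q1273 (flp_c L17918) q828, e3 q1274 (flp_c L17934) q829, e3 q1275 L37476 q1935, e3 q1276 L17950 q831, e3 q1277 (flp_c L17964) q832, e3 q1278 L64884 q1278, e3 q1279 L69576 q898, trivial⟩ (by decide +kernel)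

theorem ce_c_20 : ∀ r, r < 64 → sm gc (Qf (1280 + r)) = Qf (tab Gen.c (1280 + r)) :=
  edges_tab (sm gc) Qf (tab Gen.c) 1280 [(1280, 899), (1281, 1382), (1282, 1282), (1283, 907), (1284, 908), (1285, 1376), (1286, 1877), (1287, 1949), (1288, 1879), (1289, 1880), (1290, 1850), (1291, 1851), (1292, 1961), (1293, 846), (1294, 1965), (1295, 848), (1296, 1969), (1297, 845), (1298, 1971), (1299, 1975), (1300, 1977), (1301, 847), (1302, 1979), (1303, 1983), (1304, 1232), (1305, 1984), (1306, 851), (1307, 1986), (1308, 1987), (1309, 852), (1310, 1233), (1311, 1989), (1312, 855), (1313, 1991), (1314, 1992), (1315, 856), (1316, 1994), (1317, 859), (1318, 860), (1319, 1995), (1320, 864), (1321, 865), (1322, 1996), (1323, 1895), (1324, 1896), (1325, 2002), (1326, 1902), (1327, 2006), (1328, 1904), (1329, 2010), (1330, 870), (1331, 2013), (1332, 2017), (1333, 2020), (1334, 872), (1335, 2023), (1336, 2027), (1337, 2029), (1338, 874), (1339, 2032), (1340, 876), (1341, 2038), (1342, 2036), (1343, 2039)]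
    ⟨e3 q1280 (flp_c L69199) q899, e3 q1281 (flp_c L81726) q1382, e3 q1282 L81755 q1282, e3 q1283 L82555 q907, e3 q1284 (flp_c L82583) q908, e3 q1285 (flp_c L78590) q1376, e3 q1286 (flp_c L36790) q1877, e3 q1287 L38680 q1949, e3 q1288 (flp_c L36800) q1879, e3 q1289 (flp_c L36806) q1880, e3 q1290 L65836 q1850, e3 q1291 (flp_c L56088) q1851, e3 q1292 L38744 q1961, e3 q1293 L18419 q846, e3 q1294 L38762 q1965, e3 q1295 L18433 q848, e3 q1296 L38782 q1969, e3 q1297 (flp_c L18445) q845, e3 q1298 (flp_c L38802) q1971, e3 q1299 L38830 q1975, e3 q1300 L38848 q1977, e3 q1301 (flp_c L18467) q847, e3 q1302 (flp_c L38868) q1979, e3 q1303 L38896 q1983, e3 q1304 (flp_c L69421) q1232, e3 q1305 L38946 q1984, e3 q1306 L18505 q851, e3 q1307 L38976 q1986, e3 q1308 L38994 q1987, e3 q1309 (flp_c L18527) q852, e3 q1310 L78804 q1233, e3 q1311 L39062 q1989, e3 q1312 L18559 q855, e3 q1313 L39092 q1991, e3 q1314 L39110 q1992, e3 q1315 (flp_c L18581) q856, e3 q1316 L39268 q1994, e3 q1317 (flp_c L18647) q859, e3 q1318 (flp_c L18663) q860, e3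 q1319 L39483 q1995, e3 q1320 (flp_c L18745) q864, e3 q1321 (flp_c L18761) q865, e3 q1322 (flp_c L88524) q1996, e3 q1323 (flp_c L37167) q1895, e3 q1324 (flp_c L37173) q1896, e3 q1325 L39591 q2002, e3 q1326 (flp_c L37195) q1902, e3 q1327 L39603 q2006, e3 q1328 (flp_c L37207) q1904, e3 q1329 L39613 q2010, e3 q1330 (flp_c L18817) q870, e3 q1331 (flp_c L39629) q2013, e3 q1332 L39643 q2017, e3 q1333 L39653 q2020, e3 q1334 (flp_c L18827) q872, e3 q1335 (flp_c L39669) q2023, e3 q1336 L39687 q2027, e3 q1337 L39701 q2029, e3 q1338 (flp_c L18841) q874, e3 q1339 L39729 q2032, e3 q1340 L18857 q876, e3 q1341 L39753 q2038, e3 q1342 (flp_c L39743) q2036, e3 q1343 L39769 q2039, trivial⟩ (by decide +kernel)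

theorem ce_c_21 : ∀ r, r < 64 → sm gc (Qf (1344 + r)) = Qf (tab Gen.c (1344 + r)) :=
  edges_tab (sm gc) Qf (tab Gen.c) 1344 [(1344, 877), (1345, 2041), (1346, 878), (1347, 2044), (1348, 880), (1349, 2050), (1350, 2048), (1351, 2051), (1352, 881), (1353, 2053), (1354, 884), (1355, 2057), (1356, 2058), (1357, 1400), (1358, 887), (1359, 1817), (1360, 886), (1361, 888), (1362, 2067), (1363, 2069), (1364, 892), (1365, 2073), (1366, 2074), (1367, 1391), (1368, 895), (1369, 1818), (1370, 894), (1371, 896), (1372, 2083), (1373, 1940), (1374, 1829), (1375, 1075), (1376, 1285), (1377, 932), (1378, 978), (1379, 1943), (1380, 1840), (1381, 1072), (1382, 1281), (1383, 927), (1384, 981), (1385, 2055), (1386, 917), (1387, 918), (1388, 2090), (1389, 2094), (1390, 1399), (1391, 1367), (1392, 920), (1393, 2097), (1394, 2071), (1395, 922), (1396, 923), (1397, 2103), (1398, 2107), (1399, 1390), (1400, 1357), (1401, 925), (1402, 2110), (1403, 2078), (1404, 2062), (1405, 938), (1406, 943), (1407, 1407)]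
    ⟨e3 q1344 (flp_c L18877) q877, e3 q1345 L39799 q2041, e3 q1346 (flp_c L18889) q878, e3 q1347 L39827 q2044, e3 q1348 L18905 q880, e3 q1349 L39851 q2050, e3 q1350 (flp_c L39841) q2048, e3 q1351 L39867 q2051, e3 q1352 (flp_c L18925) q881, e3 q1353 L39945 q2053, e3 q1354 (flp_c L18971) q884, e3 q1355 (flp_c L39995) q2057, e3 q1356 (flp_c L39999) q2058, e3 q1357 (flp_c L19712) q1400, e3 q1358 L18993 q887, e3 q1359 L139843 q1817, e3 q1360 (flp_c L19005) q886, e3 q1361 (flp_c L19023) q888, e3 q1362 L40119 q2067, e3 q1363 L40203 q2069, e3 q1364 (flp_c L19095) q892, e3 q1365 (flp_c L40243) q2073, e3 q1366 (flp_c L40247) q2074, e3 q1367 (flp_c L19619) q1391, e3 q1368 L19117 q895, e3 q1369 (flp_c L142206) q1818, e3 q1370 (flp_c L19129) q894, e3 q1371 (flp_c L19147) q896, e3 q1372 L40369 q2083, e3 q1373 (flp_c L69202) q1940, e3 q1374 (flp_c L142223) q1829, e3 q1375 L141934 q1075, e3 q1376 L78590 q1285, e3 q1377 (flp_c L141920) q932, e3 q1378 (flp_c L141718) q978, e3 q1379 (flp_c L82585) q1943, e3 q1380 L141874 q1840, e3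 q1381 (flp_c L142178) q1072, e3 q1382 L81726 q1281, e3 q1383 L141928 q927, e3 q1384 L133285 q981, e3 q1385 (flp_c L39985) q2055, e3 q1386 L19595 q917, e3 q1387 L19601 q918, e3 q1388 (flp_c L41284) q2090, e3 q1389 L41300 q2094, e3 q1390 (flp_c L19706) q1399, e3 q1391 L19619 q1367, e3 q1392 (flp_c L19625) q920, e3 q1393 (flp_c L41330) q2097, e3 q1394 (flp_c L40233) q2071, e3 q1395 L19682 q922, e3 q1396 L19688 q923, e3 q1397 (flp_c L41420) q2103, e3 q1398 L41438 q2107, e3 q1399 L19706 q1390, e3 q1400 L19712 q1357, e3 q1401 (flp_c L19718) q925, e3 q1402 (flp_c L41478) q2110, e3 q1403 (flp_c L141888) q2078, e3 q1404 (flp_c L141861) q2062, e3 q1405 (flp_c L20149) q938, e3 q1406 L20225 q943, e3 q1407 L70114 q1407, trivial⟩ (by decide +kernel)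

theorem ce_c_22 : ∀ r, r < 64 → sm gc (Qf (1408 + r)) = Qf (tab Gen.c (1408 + r)) :=
  edges_tab (sm gc) Qf (tab Gen.c) 1408 [(1408, 2111), (1409, 948), (1410, 941), (1411, 942), (1412, 2112), (1413, 2129), (1414, 2114), (1415, 2115), (1416, 1255), (1417, 1256), (1418, 1257), (1419, 1419), (1420, 1420), (1421, 985), (1422, 987), (1423, 988), (1424, 2120), (1425, 2121), (1426, 2122), (1427, 2158), (1428, 952), (1429, 2162), (1430, 954), (1431, 951), (1432, 2167), (1433, 953), (1434, 2170), (1435, 2171), (1436, 955), (1437, 2173), (1438, 956), (1439, 957), (1440, 959), (1441, 962), (1442, 1004), (1443, 1005), (1444, 2175), (1445, 2176), (1446, 2184), (1447, 1007), (1448, 2188), (1449, 1009), (1450, 966), (1451, 967), (1452, 968), (1453, 2191), (1454, 2192), (1455, 2200), (1456, 1910), (1457, 2204), (1458, 1908), (1459, 2208), (1460, 969), (1461, 2211), (1462, 2215), (1463, 2218), (1464, 971), (1465, 2221), (1466, 2225), (1467, 2227), (1468, 2229), (1469, 974), (1470, 2231), (1471, 2233)]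
    ⟨e3 q1408 (flp_c L42382) q2111, e3 q1409 (flp_c L20383) q948, e3 q1410 L20389 q941, e3 q1411 L20397 q942, e3 q1412 (flp_c L42498) q2112, e3 q1413 L42908 q2129, e3 q1414 (flp_c L42506) q2114, e3 q1415 (flp_c L42510) q2115, e3 q1416 L20527 q1255, e3 q1417 L20533 q1256, e3 q1418 L20541 q1257, e3 q1419 L69978 q1419, e3 q1420 L81072 q1420, e3 q1421 L20725 q985, e3 q1422 L20735 q987, e3 q1423 L20741 q988, e3 q1424 (flp_c L42672) q2120, e3 q1425 (flp_c L42680) q2121, e3 q1426 (flp_c L42688) q2122, e3 q1427 L43388 q2158, e3 q1428 L20763 q952, e3 q1429 L43406 q2162, e3 q1430 L20777 q954, e3 q1431 (flp_c L20791) q951, e3 q1432 L43458 q2167, e3 q1433 (flp_c L20817) q953, e3 q1434 L43508 q2170, e3 q1435 L43593 q2171, e3 q1436 (flp_c L20868) q955, e3 q1437 L43691 q2173, e3 q1438 (flp_c L20912) q956, e3 q1439 (flp_c L20986) q957, e3 q1440 (flp_c L21070) q959, e3 q1441 (flp_c L21095) q962, e3 q1442 L21101 q1004, e3 q1443 L21107 q1005, e3 q1444 (flp_c L43978) q2175, e3 q1445 (flp_c L43986) q2176, e3 q1446 L44034 q2184, e3 q1447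 L21127 q1007, e3 q1448 L44048 q2188, e3 q1449 L21139 q1009, e3 q1450 L72333 q966, e3 q1451 L21157 q967, e3 q1452 L21165 q968, e3 q1453 (flp_c L72354) q2191, e3 q1454 (flp_c L72348) q2192, e3 q1455 L44131 q2200, e3 q1456 (flp_c L37239) q1910, e3 q1457 L44145 q2204, e3 q1458 (flp_c L37225) q1908, e3 q1459 L44157 q2208, e3 q1460 (flp_c L21201) q969, e3 q1461 (flp_c L44173) q2211, e3 q1462 L44187 q2215, e3 q1463 L44197 q2218, e3 q1464 (flp_c L21211) q971, e3 q1465 (flp_c L44213) q2221, e3 q1466 L44227 q2225, e3 q1467 L44258 q2227, e3 q1468 L44296 q2229, e3 q1469 (flp_c L21247) q974, e3 q1470 L44337 q2231, e3 q1471 L44377 q2233, trivial⟩ (by decide +kernel)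

theorem ce_c_23 : ∀ r, r < 64 → sm gc (Qf (1472 + r)) = Qf (tab Gen.c (1472 + r)) :=
  edges_tab (sm gc) Qf (tab Gen.c) 1472 [(1472, 976), (1473, 977), (1474, 2237), (1475, 2238), (1476, 980), (1477, 2241), (1478, 2242), (1479, 2117), (1480, 2247), (1481, 2145), (1482, 2146), (1483, 986), (1484, 2252), (1485, 2253), (1486, 2259), (1487, 2148), (1488, 2263), (1489, 2150), (1490, 2267), (1491, 2270), (1492, 2273), (1493, 991), (1494, 2276), (1495, 2279), (1496, 992), (1497, 2282), (1498, 993), (1499, 2286), (1500, 2165), (1501, 995), (1502, 996), (1503, 2292), (1504, 2168), (1505, 998), (1506, 1000), (1507, 1002), (1508, 2125), (1509, 1003), (1510, 2302), (1511, 2303), (1512, 2309), (1513, 2312), (1514, 2315), (1515, 1006), (1516, 2317), (1517, 2320), (1518, 2323), (1519, 1008), (1520, 2325), (1521, 2328), (1522, 2330), (1523, 1010), (1524, 2335), (1525, 2337), (1526, 1012), (1527, 2341), (1528, 2343), (1529, 1013), (1530, 2348), (1531, 2350), (1532, 1015), (1533, 2354), (1534, 1534), (1535, 1553)]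
    ⟨e3 q1472 (flp_c L21283) q976, e3 q1473 (flp_c L21313) q977, e3 q1474 (flp_c L44424) q2237, e3 q1475 L44490 q2238, e3 q1476 (flp_c L21406) q980, e3 q1477 (flp_c L44585) q2241, e3 q1478 L44653 q2242, e3 q1479 (flp_c L72442) q2117, e3 q1480 L45128 q2247, e3 q1481 (flp_c L43290) q2145, e3 q1482 (flp_c L43298) q2146, e3 q1483 (flp_c L21720) q986, e3 q1484 (flp_c L45163) q2252, e3 q1485 (flp_c L45169) q2253, e3 q1486 L45213 q2259, e3 q1487 (flp_c L43326) q2148, e3 q1488 L45233 q2263, e3 q1489 (flp_c L43342) q2150, e3 q1490 L45253 q2267, e3 q1491 L45270 q2270, e3 q1492 L45285 q2273, e3 q1493 (flp_c L21779) q991, e3 q1494 (flp_c L45305) q2276, e3 q1495 L45321 q2279, e3 q1496 (flp_c L21793) q992, e3 q1497 (flp_c L45341) q2282, e3 q1498 (flp_c L21809) q993, e3 q1499 (flp_c L45389) q2286, e3 q1500 (flp_c L69695) q2165, e3 q1501 L21829 q995, e3 q1502 (flp_c L21849) q996, e3 q1503 (flp_c L45467) q2292, e3 q1504 (flp_c L82459) q2168, e3 q1505 L21869 q998, e3 q1506 (flp_c L21923) q1000, e3 q1507 (flp_c L21995) q1002, e3 q1508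 (flp_c L72245) q2125, e3 q1509 (flp_c L22303) q1003, e3 q1510 (flp_c L46351) q2302, e3 q1511 (flp_c L46355) q2303, e3 q1512 L46387 q2309, e3 q1513 L46397 q2312, e3 q1514 L46407 q2315, e3 q1515 (flp_c L22327) q1006, e3 q1516 (flp_c L46419) q2317, e3 q1517 L46431 q2320, e3 q1518 L46443 q2323, e3 q1519 (flp_c L22345) q1008, e3 q1520 (flp_c L46455) q2325, e3 q1521 L46467 q2328, e3 q1522 (flp_c L91641) q2330, e3 q1523 (flp_c L22361) q1010, e3 q1524 (flp_c L46501) q2335, e3 q1525 L46509 q2337, e3 q1526 L22379 q1012, e3 q1527 (flp_c L46527) q2341, e3 q1528 L102088 q2343, e3 q1529 (flp_c L22393) q1013, e3 q1530 (flp_c L46561) q2348, e3 q1531 L46569 q2350, e3 q1532 L22411 q1015, e3 q1533 (flp_c L46587) q2354, e3 q1534 L48164 q1534, e3 q1535 L22653 q1553, trivial⟩ (by decide +kernel)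

theorem ce_c_24 : ∀ r, r < 64 → sm gc (Qf (1536 + r)) = Qf (tab Gen.c (1536 + r)) :=
  edges_tab (sm gc) Qf (tab Gen.c) 1536 [(1536, 1017), (1537, 1018), (1538, 2364), (1539, 2365), (1540, 1547), (1541, 1541), (1542, 1564), (1543, 1021), (1544, 1022), (1545, 2378), (1546, 2379), (1547, 1540), (1548, 2384), (1549, 1025), (1550, 2386), (1551, 2387), (1552, 1048), (1553, 1535), (1554, 1028), (1555, 1029), (1556, 2396), (1557, 2400), (1558, 1569), (1559, 2401), (1560, 1032), (1561, 2403), (1562, 2404), (1563, 1059), (1564, 1542), (1565, 1035), (1566, 1036), (1567, 2413), (1568, 2417), (1569, 1558), (1570, 1809), (1571, 1796), (1572, 1572), (1573, 1047), (1574, 2388), (1575, 2390), (1576, 2391), (1577, 2392), (1578, 2433), (1579, 1051), (1580, 2438), (1581, 1053), (1582, 2442), (1583, 2436), (1584, 2444), (1585, 1052), (1586, 2446), (1587, 2447), (1588, 2079), (1589, 1589), (1590, 1058), (1591, 2405), (1592, 2407), (1593, 2408), (1594, 2409), (1595, 2463), (1596, 1062), (1597, 2468), (1598, 1064), (1599, 2472)]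
    ⟨e3 q1536 L22447 q1017, e3 q1537 (flp_c L22455) q1018, e3 q1538 (flp_c L46683) q2364, e3 q1539 (flp_c L46687) q2365, e3 q1540 L80491 q1547, e3 q1541 L80429 q1541, e3 q1542 L22830 q1564, e3 q1543 L22503 q1021, e3 q1544 (flp_c L22511) q1022, e3 q1545 (flp_c L46811) q2378, e3 q1546 (flp_c L46815) q2379, e3 q1547 (flp_c L80491) q1540, e3 q1548 L46953 q2384, e3 q1549 (flp_c L22609) q1025, e3 q1550 (flp_c L46981) q2386, e3 q1551 (flp_c L46987) q2387, e3 q1552 L22647 q1048, e3 q1553 (flp_c L22653) q1535, e3 q1554 L22657 q1028, e3 q1555 L22661 q1029, e3 q1556 (flp_c L47073) q2396, e3 q1557 L47111 q2400, e3 q1558 (flp_c L82030) q1569, e3 q1559 L47274 q2401, e3 q1560 (flp_c L22786) q1032, e3 q1561 (flp_c L47318) q2403, e3 q1562 (flp_c L47324) q2404, e3 q1563 L22824 q1059, e3 q1564 (flp_c L22830) q1542, e3 q1565 L22834 q1035, e3 q1566 L22838 q1036, e3 q1567 (flp_c L47412) q2413, e3 q1568 L47450 q2417, e3 q1569 L82030 q1558, e3 q1570 L142120 q1809, e3 q1571 (flp_c L142057) q1796, e3 q1572 L71670 q1572, e3 q1573 L23501 q1047,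 e3 q1574 (flp_c L47035) q2388, e3 q1575 (flp_c L47045) q2390, e3 q1576 (flp_c L47049) q2391, e3 q1577 (flp_c L47053) q2392, e3 q1578 L83879 q2433, e3 q1579 L23517 q1051, e3 q1580 L83909 q2438, e3 q1581 L23527 q1053, e3 q1582 L83925 q2442, e3 q1583 (flp_c L83901) q2436, e3 q1584 L83947 q2444, e3 q1585 (flp_c L23553) q1052, e3 q1586 (flp_c L83955) q2446, e3 q1587 L83957 q2447, e3 q1588 (flp_c L40277) q2079, e3 q1589 L82746 q1589, e3 q1590 L23705 q1058, e3 q1591 (flp_c L47374) q2405, e3 q1592 (flp_c L47384) q2407, e3 q1593 (flp_c L47388) q2408, e3 q1594 (flp_c L47392) q2409, e3 q1595 L84035 q2463, e3 q1596 L23721 q1062, e3 q1597 L84065 q2468, e3 q1598 L23731 q1064, e3 q1599 L84081 q2472, trivial⟩ (by decide +kernel)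

theorem ce_c_25 : ∀ r, r < 64 → sm gc (Qf (1600 + r)) = Qf (tab Gen.c (1600 + r)) :=
  edges_tab (sm gc) Qf (tab Gen.c) 1600 [(1600, 2466), (1601, 2474), (1602, 1063), (1603, 2476), (1604, 2477), (1605, 2063), (1606, 1073), (1607, 1068), (1608, 2478), (1609, 1077), (1610, 2481), (1611, 1079), (1612, 2479), (1613, 2486), (1614, 1082), (1615, 2489), (1616, 1084), (1617, 2487), (1618, 2494), (1619, 1086), (1620, 1946), (1621, 2498), (1622, 2499), (1623, 1087), (1624, 2508), (1625, 2509), (1626, 2513), (1627, 2516), (1628, 2507), (1629, 1091), (1630, 1092), (1631, 2525), (1632, 2521), (1633, 2529), (1634, 2523), (1635, 2533), (1636, 1093), (1637, 2535), (1638, 2538), (1639, 2541), (1640, 1095), (1641, 2543), (1642, 2546), (1643, 2549), (1644, 1097), (1645, 2552), (1646, 2556), (1647, 2559), (1648, 1099), (1649, 2562), (1650, 2566), (1651, 2569), (1652, 1101), (1653, 2574), (1654, 2576), (1655, 1103), (1656, 2582), (1657, 2580), (1658, 2586), (1659, 1104), (1660, 2589), (1661, 2592), (1662, 1105), (1663, 2597)]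
    ⟨e3 q1600 (flp_c L84057) q2466, e3 q1601 L84103 q2474, e3 q1602 (flp_c L23757) q1063, e3 q1603 (flp_c L84111) q2476, e3 q1604 L84113 q2477, e3 q1605 L71381 q2063, e3 q1606 L83169 q1073, e3 q1607 (flp_c L23982) q1068, e3 q1608 L84173 q2478, e3 q1609 (flp_c L24443) q1077, e3 q1610 (flp_c L84199) q2481, e3 q1611 (flp_c L24450) q1079, e3 q1612 (flp_c L84189) q2479, e3 q1613 L84220 q2486, e3 q1614 (flp_c L24643) q1082, e3 q1615 (flp_c L84246) q2489, e3 q1616 (flp_c L24690) q1084, e3 q1617 (flp_c L84236) q2487, e3 q1618 L84267 q2494, e3 q1619 (flp_c L24864) q1086, e3 q1620 (flp_c L84359) q1946, e3 q1621 (flp_c L84294) q2498, e3 q1622 (flp_c L84300) q2499, e3 q1623 (flp_c L24881) q1087, e3 q1624 (flp_c L84365) q2508, e3 q1625 (flp_c L84371) q2509, e3 q1626 L84385 q2513, e3 q1627 L84398 q2516, e3 q1628 L84347 q2507, e3 q1629 L24910 q1091, e3 q1630 L24914 q1092, e3 q1631 L84443 q2525, e3 q1632 (flp_c L84422) q2521, e3 q1633 L84461 q2529, e3 q1634 (flp_c L84433) q2523, e3 q1635 L84477 q2533, e3 q1636 (flp_c L24948) q1093,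 e3 q1637 (flp_c L84492) q2535, e3 q1638 L84506 q2538, e3 q1639 L84521 q2541, e3 q1640 (flp_c L24969) q1095, e3 q1641 (flp_c L84536) q2543, e3 q1642 L84550 q2546, e3 q1643 L84565 q2549, e3 q1644 (flp_c L24988) q1097, e3 q1645 (flp_c L84582) q2552, e3 q1646 L84602 q2556, e3 q1647 L84615 q2559, e3 q1648 (flp_c L25003) q1099, e3 q1649 (flp_c L84632) q2562, e3 q1650 L84656 q2566, e3 q1651 L84673 q2569, e3 q1652 (flp_c L25020) q1101, e3 q1653 (flp_c L84697) q2574, e3 q1654 L84707 q2576, e3 q1655 L25040 q1103, e3 q1656 L84741 q2582, e3 q1657 (flp_c L84729) q2580, e3 q1658 L84759 q2586, e3 q1659 (flp_c L25062) q1104, e3 q1660 (flp_c L84779) q2589, e3 q1661 L84795 q2592, e3 q1662 (flp_c L25078) q1105, e3 q1663 (flp_c L84819) q2597, trivial⟩ (by decide +kernel)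

theorem ce_c_26 : ∀ r, r < 64 → sm gc (Qf (1664 + r)) = Qf (tab Gen.c (1664 + r)) :=
  edges_tab (sm gc) Qf (tab Gen.c) 1664 [(1664, 2599), (1665, 1107), (1666, 2605), (1667, 2603), (1668, 2609), (1669, 1108), (1670, 2612), (1671, 1109), (1672, 2615), (1673, 2296), (1674, 2619), (1675, 1111), (1676, 2622), (1677, 1113), (1678, 2625), (1679, 2298), (1680, 2629), (1681, 1115), (1682, 2632), (1683, 2634), (1684, 1117), (1685, 2636), (1686, 1118), (1687, 1119), (1688, 1121), (1689, 1123), (1690, 2641), (1691, 2642), (1692, 2645), (1693, 1125), (1694, 1126), (1695, 2654), (1696, 2650), (1697, 2658), (1698, 2652), (1699, 2662), (1700, 1127), (1701, 2665), (1702, 2668), (1703, 1128), (1704, 2671), (1705, 2674), (1706, 1129), (1707, 2679), (1708, 1131), (1709, 2684), (1710, 2687), (1711, 1132), (1712, 2690), (1713, 2693), (1714, 1133), (1715, 2698), (1716, 1135), (1717, 2703), (1718, 2706), (1719, 1136), (1720, 2709), (1721, 2333), (1722, 1137), (1723, 2715), (1724, 2716), (1725, 2713), (1726, 2724), (1727, 1139)]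
    ⟨e3 q1664 L84829 q2599, e3 q1665 L25098 q1107, e3 q1666 L84863 q2605, e3 q1667 (flp_c L84851) q2603, e3 q1668 L84881 q2609, e3 q1669 (flp_c L25120) q1108, e3 q1670 (flp_c L84901) q2612, e3 q1671 (flp_c L25180) q1109, e3 q1672 (flp_c L84920) q2615, e3 q1673 L80349 q2296, e3 q1674 L84946 q2619, e3 q1675 (flp_c L25222) q1111, e3 q1676 L84964 q2622, e3 q1677 (flp_c L25304) q1113, e3 q1678 (flp_c L84985) q2625, e3 q1679 L79741 q2298, e3 q1680 L85013 q2629, e3 q1681 (flp_c L25346) q1115, e3 q1682 L85031 q2632, e3 q1683 L85045 q2634, e3 q1684 (flp_c L25569) q1117, e3 q1685 L85059 q2636, e3 q1686 (flp_c L25828) q1118, e3 q1687 (flp_c L26173) q1119, e3 q1688 (flp_c L26542) q1121, e3 q1689 (flp_c L26648) q1123, e3 q1690 (flp_c L85125) q2641, e3 q1691 (flp_c L85131) q2642, e3 q1692 L85137 q2645, e3 q1693 L26665 q1125, e3 q1694 L26669 q1126, e3 q1695 L85176 q2654, e3 q1696 (flp_c L85155) q2650, e3 q1697 L85188 q2658, e3 q1698 (flp_c L85166) q2652, e3 q1699 L85198 q2662, e3 q1700 (flp_c L26691) q1127, e3 q1701 (flp_c L85213)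 q2665, e3 q1702 L85223 q2668, e3 q1703 (flp_c L26698) q1128, e3 q1704 (flp_c L85238) q2671, e3 q1705 L85248 q2674, e3 q1706 (flp_c L26705) q1129, e3 q1707 L85264 q2679, e3 q1708 L26718 q1131, e3 q1709 L85284 q2684, e3 q1710 L85292 q2687, e3 q1711 (flp_c L26726) q1132, e3 q1712 (flp_c L85307) q2690, e3 q1713 L85317 q2693, e3 q1714 (flp_c L26735) q1133, e3 q1715 L85333 q2698, e3 q1716 L26748 q1135, e3 q1717 L85353 q2703, e3 q1718 L85361 q2706, e3 q1719 (flp_c L26756) q1136, e3 q1720 (flp_c L85376) q2709, e3 q1721 (flp_c L91633) q2333, e3 q1722 (flp_c L26765) q1137, e3 q1723 (flp_c L85404) q2715, e3 q1724 (flp_c L85408) q2716, e3 q1725 (flp_c L85398) q2713, e3 q1726 L85435 q2724, e3 q1727 L26781 q1139, trivial⟩ (by decide +kernel)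

theorem ce_c_27 : ∀ r, r < 64 → sm gc (Qf (1728 + r)) = Qf (tab Gen.c (1728 + r)) :=
  edges_tab (sm gc) Qf (tab Gen.c) 1728 [(1728, 2729), (1729, 1140), (1730, 2732), (1731, 2733), (1732, 2738), (1733, 1143), (1734, 2742), (1735, 1142), (1736, 2744), (1737, 2747), (1738, 2750), (1739, 1144), (1740, 2755), (1741, 2757), (1742, 1146), (1743, 2760), (1744, 2346), (1745, 1147), (1746, 2766), (1747, 2767), (1748, 2764), (1749, 2775), (1750, 1149), (1751, 2780), (1752, 1150), (1753, 2783), (1754, 2784), (1755, 2789), (1756, 1153), (1757, 2793), (1758, 1152), (1759, 2795), (1760, 2798), (1761, 2801), (1762, 1154), (1763, 2806), (1764, 2808), (1765, 1156), (1766, 2811), (1767, 1767), (1768, 2815), (1769, 2817), (1770, 1159), (1771, 2820), (1772, 2236), (1773, 2823), (1774, 1161), (1775, 2824), (1776, 1802), (1777, 1163), (1778, 2832), (1779, 1779), (1780, 2835), (1781, 2837), (1782, 1166), (1783, 2840), (1784, 2240), (1785, 2843), (1786, 1168), (1787, 2844), (1788, 1815), (1789, 1170), (1790, 2852), (1791, 1171)]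
    ⟨e3 q1728 L85457 q2729, e3 q1729 (flp_c L26787) q1140, e3 q1730 (flp_c L85473) q2732, e3 q1731 (flp_c L85477) q2733, e3 q1732 L85501 q2738, e3 q1733 L26805 q1143, e3 q1734 L85513 q2742, e3 q1735 (flp_c L26813) q1142, e3 q1736 (flp_c L85525) q2744, e3 q1737 L85533 q2747, e3 q1738 L85541 q2750, e3 q1739 (flp_c L26823) q1144, e3 q1740 (flp_c L85557) q2755, e3 q1741 L85563 q2757, e3 q1742 L26839 q1146, e3 q1743 (flp_c L85577) q2760, e3 q1744 (flp_c L102054) q2346, e3 q1745 (flp_c L26849) q1147, e3 q1746 (flp_c L85605) q2766, e3 q1747 (flp_c L85609) q2767, e3 q1748 (flp_c L85599) q2764, e3 q1749 L85636 q2775, e3 q1750 L26865 q1149, e3 q1751 L85658 q2780, e3 q1752 (flp_c L26871) q1150, e3 q1753 (flp_c L85674) q2783, e3 q1754 (flp_c L85678) q2784, e3 q1755 L85702 q2789, e3 q1756 L26889 q1153, e3 q1757 L85716 q2793, e3 q1758 (flp_c L26899) q1152, e3 q1759 (flp_c L85728) q2795, e3 q1760 L85738 q2798, e3 q1761 L85750 q2801, e3 q1762 (flp_c L26913) q1154, e3 q1763 (flp_c L85770) q2806, e3 q1764 L85778 q2808, e3 q1765 L26931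 q1156, e3 q1766 (flp_c L85792) q2811, e3 q1767 L71007 q1767, e3 q1768 L85810 q2815, e3 q1769 L85820 q2817, e3 q1770 (flp_c L27043) q1159, e3 q1771 (flp_c L85836) q2820, e3 q1772 L80537 q2236, e3 q1773 L85854 q2823, e3 q1774 (flp_c L27071) q1161, e3 q1775 (flp_c L85864) q2824, e3 q1776 L27612 q1802, e3 q1777 (flp_c L27105) q1163, e3 q1778 (flp_c L85892) q2832, e3 q1779 L82687 q1779, e3 q1780 L85902 q2835, e3 q1781 L85912 q2837, e3 q1782 (flp_c L27233) q1166, e3 q1783 (flp_c L85928) q2840, e3 q1784 L80557 q2240, e3 q1785 L85946 q2843, e3 q1786 (flp_c L27263) q1168, e3 q1787 (flp_c L85956) q2844, e3 q1788 L27944 q1815, e3 q1789 (flp_c L27297) q1170, e3 q1790 (flp_c L85984) q2852, e3 q1791 (flp_c L27496) q1171, trivial⟩ (by decide +kernel)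

theorem ce_c_28 : ∀ r, r < 64 → sm gc (Qf (1792 + r)) = Qf (tab Gen.c (1792 + r)) :=
  edges_tab (sm gc) Qf (tab Gen.c) 1792 [(1792, 2854), (1793, 1172), (1794, 1174), (1795, 2857), (1796, 1571), (1797, 2860), (1798, 1811), (1799, 1175), (1800, 2863), (1801, 1202), (1802, 1776), (1803, 1177), (1804, 1178), (1805, 2872), (1806, 1179), (1807, 1181), (1808, 2875), (1809, 1570), (1810, 2878), (1811, 1798), (1812, 1182), (1813, 2881), (1814, 1210), (1815, 1788), (1816, 1184), (1817, 1359), (1818, 1369), (1819, 2866), (1820, 1200), (1821, 2892), (1822, 2864), (1823, 2867), (1824, 2868), (1825, 2899), (1826, 2902), (1827, 1204), (1828, 2904), (1829, 1374), (1830, 2884), (1831, 1208), (1832, 2906), (1833, 2882), (1834, 2885), (1835, 2886), (1836, 2911), (1837, 2914), (1838, 1212), (1839, 2916), (1840, 1380), (1841, 1220), (1842, 1224), (1843, 2924), (1844, 1225), (1845, 1226), (1846, 2917), (1847, 2933), (1848, 2918), (1849, 2919), (1850, 1290), (1851, 1291), (1852, 1852), (1853, 1853), (1854, 2947), (1855, 2922)]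
    ⟨e3 q1792 (flp_c L85993) q2854, e3 q1793 (flp_c L27516) q1172, e3 q1794 L27536 q1174, e3 q1795 L86025 q2857, e3 q1796 L142057 q1571, e3 q1797 L86055 q2860, e3 q1798 (flp_c L81891) q1811, e3 q1799 (flp_c L27572) q1175, e3 q1800 (flp_c L86083) q2863, e3 q1801 L27606 q1202, e3 q1802 (flp_c L27612) q1776, e3 q1803 L27616 q1177, e3 q1804 (flp_c L27830) q1178, e3 q1805 (flp_c L86124) q2872, e3 q1806 (flp_c L27850) q1179, e3 q1807 L27870 q1181, e3 q1808 L86146 q2875, e3 q1809 (flp_c L142120) q1570, e3 q1810 L86164 q2878, e3 q1811 L81891 q1798, e3 q1812 (flp_c L27904) q1182, e3 q1813 (flp_c L86194) q2881, e3 q1814 L27938 q1210, e3 q1815 (flp_c L27944) q1788, e3 q1816 L27948 q1184, e3 q1817 (flp_c L139843) q1359, e3 q1818 L142206 q1369, e3 q1819 L142456 q2866, e3 q1820 L29047 q1200, e3 q1821 L86655 q2892, e3 q1822 (flp_c L86089) q2864, e3 q1823 (flp_c L86103) q2867, e3 q1824 (flp_c L86107) q2868, e3 q1825 L86713 q2899, e3 q1826 L86745 q2902, e3 q1827 (flp_c L29109) q1204, e3 q1828 (flp_c L86757) q2904, e3 q1829 L142223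 q1374, e3 q1830 (flp_c L136985) q2884, e3 q1831 L29213 q1208, e3 q1832 L86902 q2906, e3 q1833 (flp_c L86200) q2882, e3 q1834 (flp_c L86214) q2885, e3 q1835 (flp_c L86218) q2886, e3 q1836 L86960 q2911, e3 q1837 L86992 q2914, e3 q1838 (flp_c L29279) q1212, e3 q1839 (flp_c L87004) q2916, e3 q1840 (flp_c L141874) q1380, e3 q1841 L32318 q1220, e3 q1842 L32486 q1224, e3 q1843 L87977 q2924, e3 q1844 L32494 q1225, e3 q1845 L32498 q1226, e3 q1846 (flp_c L87941) q2917, e3 q1847 L88028 q2933, e3 q1848 (flp_c L87947) q2918, e3 q1849 (flp_c L87954) q2919, e3 q1850 (flp_c L65836) q1290, e3 q1851 L56088 q1291, e3 q1852 L72008 q1852, e3 q1853 L83338 q1853, e3 q1854 L88116 q2947, e3 q1855 (flp_c L87969) q2922, trivial⟩ (by decide +kernel)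

theorem ce_c_29 : ∀ r, r < 64 → sm gc (Qf (1856 + r)) = Qf (tab Gen.c (1856 + r)) :=
  edges_tab (sm gc) Qf (tab Gen.c) 1856 [(1856, 2923), (1857, 1857), (1858, 2927), (1859, 1859), (1860, 2928), (1861, 1861), (1862, 1862), (1863, 1863), (1864, 1864), (1865, 1865), (1866, 1230), (1867, 1231), (1868, 2968), (1869, 2969), (1870, 1870), (1871, 1871), (1872, 1872), (1873, 2978), (1874, 2981), (1875, 1237), (1876, 1238), (1877, 1286), (1878, 2497), (1879, 1288), (1880, 1289), (1881, 1881), (1882, 1882), (1883, 3000), (1884, 1244), (1885, 3004), (1886, 1246), (1887, 1243), (1888, 3008), (1889, 3009), (1890, 1245), (1891, 3011), (1892, 3012), (1893, 2946), (1894, 3016), (1895, 1323), (1896, 1324), (1897, 1252), (1898, 3023), (1899, 3024), (1900, 3025), (1901, 3033), (1902, 1326), (1903, 3037), (1904, 1328), (1905, 2137), (1906, 2138), (1907, 3045), (1908, 1458), (1909, 3049), (1910, 1456), (1911, 3053), (1912, 1258), (1913, 3056), (1914, 3060), (1915, 3063), (1916, 1260), (1917, 3066), (1918, 3070), (1919, 1262)]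
    ⟨e3 q1856 (flp_c L87975) q2923, e3 q1857 L72010 q1857, e3 q1858 (flp_c L87992) q2927, e3 q1859 L83341 q1859, e3 q1860 (flp_c L88000) q2928, e3 q1861 L72009 q1861, e3 q1862 L72011 q1862, e3 q1863 L83339 q1863, e3 q1864 L83340 q1864, e3 q1865 L71912 q1865, e3 q1866 L36488 q1230, e3 q1867 L36496 q1231, e3 q1868 L88236 q2968, e3 q1869 L88242 q2969, e3 q1870 L71914 q1870, e3 q1871 L71915 q1871, e3 q1872 L71916 q1872, e3 q1873 L88294 q2978, e3 q1874 L88302 q2981, e3 q1875 (flp_c L36618) q1237, e3 q1876 (flp_c L36628) q1238, e3 q1877 L36790 q1286, e3 q1878 L84349 q2497, e3 q1879 L36800 q1288, e3 q1880 L36806 q1289, e3 q1881 L36817 q1881, e3 q1882 L36822 q1882, e3 q1883 L88412 q3000, e3 q1884 L36831 q1244, e3 q1885 L88430 q3004, e3 q1886 L36845 q1246, e3 q1887 (flp_c L36859) q1243, e3 q1888 (flp_c L88452) q3008, e3 q1889 L88456 q3009, e3 q1890 (flp_c L36885) q1245, e3 q1891 (flp_c L88472) q3011, e3 q1892 L88478 q3012, e3 q1893 (flp_c L88521) q2946, e3 q1894 L88502 q3016, e3 q1895 L37167 q1323, e3 q1896 L37173 q1324,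 e3 q1897 (flp_c L37175) q1252, e3 q1898 (flp_c L88554) q3023, e3 q1899 (flp_c L88558) q3024, e3 q1900 (flp_c L88562) q3025, e3 q1901 L88602 q3033, e3 q1902 L37195 q1326, e3 q1903 L88616 q3037, e3 q1904 L37207 q1328, e3 q1905 (flp_c L42946) q2137, e3 q1906 (flp_c L42954) q2138, e3 q1907 L88660 q3045, e3 q1908 L37225 q1458, e3 q1909 L88674 q3049, e3 q1910 L37239 q1456, e3 q1911 L88686 q3053, e3 q1912 (flp_c L37247) q1258, e3 q1913 (flp_c L88702) q3056, e3 q1914 L88716 q3060, e3 q1915 L88726 q3063, e3 q1916 (flp_c L37257) q1260, e3 q1917 (flp_c L88742) q3066, e3 q1918 L88756 q3070, e3 q1919 (flp_c L37269) q1262, trivial⟩ (by decide +kernel)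

theorem ce_c_30 : ∀ r, r < 64 → sm gc (Qf (1920 + r)) = Qf (tab Gen.c (1920 + r)) :=
  edges_tab (sm gc) Qf (tab Gen.c) 1920 [(1920, 3074), (1921, 1264), (1922, 1265), (1923, 1266), (1924, 3081), (1925, 1268), (1926, 1269), (1927, 1927), (1928, 3088), (1929, 1271), (1930, 3092), (1931, 3093), (1932, 3094), (1933, 1933), (1934, 3098), (1935, 1275), (1936, 3102), (1937, 3103), (1938, 3104), (1939, 1939), (1940, 1373), (1941, 2080), (1942, 1942), (1943, 1379), (1944, 2064), (1945, 3106), (1946, 1620), (1947, 2987), (1948, 2988), (1949, 1287), (1950, 3114), (1951, 3115), (1952, 3121), (1953, 2992), (1954, 3125), (1955, 2994), (1956, 3129), (1957, 1959), (1958, 3133), (1959, 1957), (1960, 3137), (1961, 1292), (1962, 3140), (1963, 3144), (1964, 3147), (1965, 1294), (1966, 3150), (1967, 3154), (1968, 3156), (1969, 1296), (1970, 3007), (1971, 1298), (1972, 3164), (1973, 3162), (1974, 3165), (1975, 1299), (1976, 3167), (1977, 1300), (1978, 3010), (1979, 1302), (1980, 3175), (1981, 3173), (1982, 3176), (1983, 1303)]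
    ⟨e3 q1920 L88773 q3074, e3 q1921 L37281 q1264, e3 q1922 (flp_c L37293) q1265, e3 q1923 (flp_c L37305) q1266, e3 q1924 L88802 q3081, e3 q1925 L37317 q1268, e3 q1926 (flp_c L37329) q1269, e3 q1927 L71678 q1927, e3 q1928 L88841 q3088, e3 q1929 (flp_c L37370) q1271, e3 q1930 (flp_c L88871) q3092, e3 q1931 (flp_c L88877) q3093, e3 q1932 L88885 q3094, e3 q1933 L83408 q1933, e3 q1934 L88914 q3098, e3 q1935 (flp_c L37476) q1275, e3 q1936 (flp_c L88944) q3102, e3 q1937 (flp_c L88950) q3103, e3 q1938 L88962 q3104, e3 q1939 L71967 q1939, e3 q1940 L69202 q1373, e3 q1941 (flp_c L139785) q2080, e3 q1942 L37985 q1942, e3 q1943 L82585 q1379, e3 q1944 (flp_c L139285) q2064, e3 q1945 L89014 q3106, e3 q1946 L84359 q1620, e3 q1947 (flp_c L88330) q2987, e3 q1948 (flp_c L88338) q2988, e3 q1949 (flp_c L38680) q1287, e3 q1950 (flp_c L89058) q3114, e3 q1951 (flp_c L89066) q3115, e3 q1952 L89102 q3121, e3 q1953 (flp_c L88358) q2992, e3 q1954 L89122 q3125, e3 q1955 (flp_c L88374) q2994, e3 q1956 L89140 q3129, e3 q1957 L71640 q1959, e3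 q1958 L89154 q3133, e3 q1959 (flp_c L71640) q1957, e3 q1960 L89170 q3137, e3 q1961 (flp_c L38744) q1292, e3 q1962 (flp_c L89190) q3140, e3 q1963 L89212 q3144, e3 q1964 L89228 q3147, e3 q1965 (flp_c L38762) q1294, e3 q1966 (flp_c L89248) q3150, e3 q1967 L89270 q3154, e3 q1968 L89282 q3156, e3 q1969 (flp_c L38782) q1296, e3 q1970 (flp_c L88448) q3007, e3 q1971 L38802 q1298, e3 q1972 L89330 q3164, e3 q1973 (flp_c L89314) q3162, e3 q1974 L89336 q3165, e3 q1975 (flp_c L38830) q1299, e3 q1976 L89346 q3167, e3 q1977 (flp_c L38848) q1300, e3 q1978 (flp_c L88468) q3010, e3 q1979 L38868 q1302, e3 q1980 L89396 q3175, e3 q1981 (flp_c L89378) q3173, e3 q1982 L89402 q3176, e3 q1983 (flp_c L38896) q1303, trivial⟩ (by decide +kernel)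

theorem ce_c_31 : ∀ r, r < 64 → sm gc (Qf (1984 + r)) = Qf (tab Gen.c (1984 + r)) :=
  edges_tab (sm gc) Qf (tab Gen.c) 1984 [(1984, 1305), (1985, 3180), (1986, 1307), (1987, 1308), (1988, 3183), (1989, 1311), (1990, 3186), (1991, 1313), (1992, 1314), (1993, 3189), (1994, 1316), (1995, 1319), (1996, 1322), (1997, 3192), (1998, 3193), (1999, 3199), (2000, 3202), (2001, 3205), (2002, 1325), (2003, 3207), (2004, 3210), (2005, 3213), (2006, 1327), (2007, 3215), (2008, 3218), (2009, 3221), (2010, 1329), (2011, 3226), (2012, 3225), (2013, 1331), (2014, 3233), (2015, 3231), (2016, 3237), (2017, 1332), (2018, 3240), (2019, 3243), (2020, 1333), (2021, 3248), (2022, 3247), (2023, 1335), (2024, 3255), (2025, 3253), (2026, 3259), (2027, 1336), (2028, 3262), (2029, 1337), (2030, 3264), (2031, 2056), (2032, 1339), (2033, 3272), (2034, 3273), (2035, 3278), (2036, 1342), (2037, 3281), (2038, 1341), (2039, 1343), (2040, 3285), (2041, 1345), (2042, 3287), (2043, 2072), (2044, 1347), (2045, 3295), (2046, 3296), (2047, 3301)]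
    ⟨e3 q1984 (flp_c L38946) q1305, e3 q1985 L89425 q3180, e3 q1986 (flp_c L38976) q1307, e3 q1987 (flp_c L38994) q1308, e3 q1988 L89444 q3183, e3 q1989 (flp_c L39062) q1311, e3 q1990 L89466 q3186, e3 q1991 (flp_c L39092) q1313, e3 q1992 (flp_c L39110) q1314, e3 q1993 L89489 q3189, e3 q1994 (flp_c L39268) q1316, e3 q1995 (flp_c L39483) q1319, e3 q1996 L88524 q1322, e3 q1997 (flp_c L89586) q3192, e3 q1998 (flp_c L89592) q3193, e3 q1999 L89616 q3199, e3 q2000 L89622 q3202, e3 q2001 L89628 q3205, e3 q2002 (flp_c L39591) q1325, e3 q2003 (flp_c L89640) q3207, e3 q2004 L89648 q3210, e3 q2005 L89656 q3213, e3 q2006 (flp_c L39603) q1327, e3 q2007 (flp_c L89668) q3215, e3 q2008 L89676 q3218, e3 q2009 L89684 q3221, e3 q2010 (flp_c L39613) q1329, e3 q2011 (flp_c L89702) q3226, e3 q2012 L89696 q3225, e3 q2013 L39629 q1331, e3 q2014 L89732 q3233, e3 q2015 (flp_c L89724) q3231, e3 q2016 L89742 q3237, e3 q2017 (flp_c L39643) q1332, e3 q2018 (flp_c L89758) q3240, e3 q2019 L89769 q3243, e3 q2020 (flp_c L39653) q1333, e3 q2021 (flp_c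 L89787) q3248, e3 q2022 L89781 q3247, e3 q2023 L39669 q1335, e3 q2024 L89819 q3255, e3 q2025 (flp_c L89809) q3253, e3 q2026 L89833 q3259, e3 q2027 (flp_c L39687) q1336, e3 q2028 (flp_c L89851) q3262, e3 q2029 (flp_c L39701) q1337, e3 q2030 (flp_c L89864) q3264, e3 q2031 L39991 q2056, e3 q2032 (flp_c L39729) q1339, e3 q2033 (flp_c L89891) q3272, e3 q2034 (flp_c L89895) q3273, e3 q2035 L89917 q3278, e3 q2036 L39743 q1342, e3 q2037 L89925 q3281, e3 q2038 (flp_c L39753) q1341, e3 q2039 (flp_c L39769) q1343, e3 q2040 L89944 q3285, e3 q2041 (flp_c L39799) q1345, e3 q2042 (flp_c L89952) q3287, e3 q2043 L40239 q2072, e3 q2044 (flp_c L39827) q1347, e3 q2045 (flp_c L89979) q3295, e3 q2046 (flp_c L89983) q3296, e3 q2047 L90005 q3301, trivial⟩ (by decide +kernel)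

theorem ce_c_32 : ∀ r, r < 64 → sm gc (Qf (2048 + r)) = Qf (tab Gen.c (2048 + r)) :=
  edges_tab (sm gc) Qf (tab Gen.c) 2048 [(2048, 1350), (2049, 3304), (2050, 1349), (2051, 1351), (2052, 3308), (2053, 1353), (2054, 3311), (2055, 1385), (2056, 2031), (2057, 1355), (2058, 1356), (2059, 3320), (2060, 3326), (2061, 3322), (2062, 1404), (2063, 1605), (2064, 1944), (2065, 3327), (2066, 3328), (2067, 1362), (2068, 3331), (2069, 1363), (2070, 3333), (2071, 1394), (2072, 2043), (2073, 1365), (2074, 1366), (2075, 3342), (2076, 3348), (2077, 3344), (2078, 1403), (2079, 1588), (2080, 1941), (2081, 3349), (2082, 3350), (2083, 1372), (2084, 3353), (2085, 3312), (2086, 3314), (2087, 3315), (2088, 3316), (2089, 2422), (2090, 1388), (2091, 3367), (2092, 3369), (2093, 3370), (2094, 1389), (2095, 3372), (2096, 3329), (2097, 1393), (2098, 3334), (2099, 3336), (2100, 3337), (2101, 3338), (2102, 2452), (2103, 1397), (2104, 3391), (2105, 3393), (2106, 3394), (2107, 1398), (2108, 3396), (2109, 3351), (2110, 1402), (2111, 1408)]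
    ⟨e3 q2048 L39841 q1350, e3 q2049 L90015 q3304, e3 q2050 (flp_c L39851) q1349, e3 q2051 (flp_c L39867) q1351, e3 q2052 L90036 q3308, e3 q2053 (flp_c L39945) q1353, e3 q2054 (flp_c L90051) q3311, e3 q2055 L39985 q1385, e3 q2056 (flp_c L39991) q2031, e3 q2057 L39995 q1355, e3 q2058 L39999 q1356, e3 q2059 (flp_c L90093) q3320, e3 q2060 L90133 q3326, e3 q2061 (flp_c L90103) q3322, e3 q2062 L141861 q1404, e3 q2063 (flp_c L71381) q1605, e3 q2064 L139285 q1944, e3 q2065 L90167 q3327, e3 q2066 L90188 q3328, e3 q2067 (flp_c L40119) q1362, e3 q2068 (flp_c L90215) q3331, e3 q2069 (flp_c L40203) q1363, e3 q2070 (flp_c L90227) q3333, e3 q2071 L40233 q1394, e3 q2072 (flp_c L40239) q2043, e3 q2073 L40243 q1365, e3 q2074 L40247 q1366, e3 q2075 (flp_c L90269) q3342, e3 q2076 L90309 q3348, e3 q2077 (flp_c L90279) q3344, e3 q2078 L141888 q1403, e3 q2079 L40277 q1588, e3 q2080 L139785 q1941, e3 q2081 L90347 q3349, e3 q2082 L90372 q3350, e3 q2083 (flp_c L40369) q1372, e3 q2084 (flp_c L90399) q3353, e3 q2085 (flp_c L90055) q3312,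 e3 q2086 (flp_c L90065) q3314, e3 q2087 (flp_c L90069) q3315, e3 q2088 (flp_c L90073) q3316, e3 q2089 (flp_c L83837) q2422, e3 q2090 L41284 q1388, e3 q2091 L90652 q3367, e3 q2092 L90664 q3369, e3 q2093 L90676 q3370, e3 q2094 (flp_c L41300) q1389, e3 q2095 (flp_c L90692) q3372, e3 q2096 (flp_c L90204) q3329, e3 q2097 L41330 q1393, e3 q2098 (flp_c L90231) q3334, e3 q2099 (flp_c L90241) q3336, e3 q2100 (flp_c L90245) q3337, e3 q2101 (flp_c L90249) q3338, e3 q2102 (flp_c L83993) q2452, e3 q2103 L41420 q1397, e3 q2104 L90776 q3391, e3 q2105 L90790 q3393, e3 q2106 L90802 q3394, e3 q2107 (flp_c L41438) q1398, e3 q2108 (flp_c L90818) q3396, e3 q2109 (flp_c L90388) q3351, e3 q2110 L41478 q1402, e3 q2111 L42382 q1408, trivial⟩ (by decide +kernel)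

theorem ce_c_33 : ∀ r, r < 64 → sm gc (Qf (2112 + r)) = Qf (tab Gen.c (2112 + r)) :=
  edges_tab (sm gc) Qf (tab Gen.c) 2112 [(2112, 1412), (2113, 3408), (2114, 1414), (2115, 1415), (2116, 3402), (2117, 1479), (2118, 3403), (2119, 3404), (2120, 1424), (2121, 1425), (2122, 1426), (2123, 2123), (2124, 2124), (2125, 1508), (2126, 3433), (2127, 3406), (2128, 3407), (2129, 1413), (2130, 3439), (2131, 3440), (2132, 3441), (2133, 2133), (2134, 3411), (2135, 2135), (2136, 3412), (2137, 1905), (2138, 1906), (2139, 3457), (2140, 3460), (2141, 2141), (2142, 2142), (2143, 2143), (2144, 2144), (2145, 1481), (2146, 1482), (2147, 3471), (2148, 1487), (2149, 3475), (2150, 1489), (2151, 3422), (2152, 3423), (2153, 3483), (2154, 2156), (2155, 3487), (2156, 2154), (2157, 3491), (2158, 1427), (2159, 3494), (2160, 3498), (2161, 3501), (2162, 1429), (2163, 3504), (2164, 3508), (2165, 1500), (2166, 3511), (2167, 1432), (2168, 1504), (2169, 3514), (2170, 1434), (2171, 1435), (2172, 3517), (2173, 1437), (2174, 3519), (2175, 1444)]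
    ⟨e3 q2112 L42498 q1412, e3 q2113 L90938 q3408, e3 q2114 L42506 q1414, e3 q2115 L42510 q1415, e3 q2116 (flp_c L90892) q3402, e3 q2117 L72442 q1479, e3 q2118 (flp_c L90902) q3403, e3 q2119 (flp_c L90911) q3404, e3 q2120 L42672 q1424, e3 q2121 L42680 q1425, e3 q2122 L42688 q1426, e3 q2123 L70998 q2123, e3 q2124 L83392 q2124, e3 q2125 L72245 q1508, e3 q2126 L91105 q3433, e3 q2127 (flp_c L90930) q3406, e3 q2128 (flp_c L90936) q3407, e3 q2129 (flp_c L42908) q1413, e3 q2130 (flp_c L91133) q3439, e3 q2131 (flp_c L91137) q3440, e3 q2132 (flp_c L91141) q3441, e3 q2133 L72139 q2133, e3 q2134 (flp_c L90959) q3411, e3 q2135 L83395 q2135, e3 q2136 (flp_c L90967) q3412, e3 q2137 L42946 q1905, e3 q2138 L42954 q1906, e3 q2139 L91213 q3457, e3 q2140 L91225 q3460, e3 q2141 L72138 q2141, e3 q2142 L72140 q2142, e3 q2143 L83393 q2143, e3 q2144 L83394 q2144, e3 q2145 L43290 q1481, e3 q2146 L43298 q1482, e3 q2147 L91287 q3471, e3 q2148 L43326 q1487, e3 q2149 L91309 q3475, e3 q2150 L43342 q1489, e3 q2151 (flp_c L91041) q3422, e3 q2152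 (flp_c L91051) q3423, e3 q2153 L91367 q3483, e3 q2154 (flp_c L43378) q2156, e3 q2155 L91381 q3487, e3 q2156 L43378 q2154, e3 q2157 L91395 q3491, e3 q2158 (flp_c L43388) q1427, e3 q2159 (flp_c L91415) q3494, e3 q2160 L91437 q3498, e3 q2161 L91453 q3501, e3 q2162 (flp_c L43406) q1429, e3 q2163 (flp_c L91473) q3504, e3 q2164 L91495 q3508, e3 q2165 L69695 q1500, e3 q2166 L91515 q3511, e3 q2167 (flp_c L43458) q1432, e3 q2168 L82459 q1504, e3 q2169 L91533 q3514, e3 q2170 (flp_c L43508) q1434, e3 q2171 (flp_c L43593) q1435, e3 q2172 L91550 q3517, e3 q2173 (flp_c L43691) q1437, e3 q2174 L91566 q3519, e3 q2175 L43978 q1444, trivial⟩ (by decide +kernel)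

theorem ce_c_34 : ∀ r, r < 64 → sm gc (Qf (2176 + r)) = Qf (tab Gen.c (2176 + r)) :=
  edges_tab (sm gc) Qf (tab Gen.c) 2176 [(2176, 1445), (2177, 3523), (2178, 3526), (2179, 3529), (2180, 2182), (2181, 3533), (2182, 2180), (2183, 3537), (2184, 1446), (2185, 3539), (2186, 3542), (2187, 3545), (2188, 1448), (2189, 3547), (2190, 3550), (2191, 1453), (2192, 1454), (2193, 3555), (2194, 3558), (2195, 3561), (2196, 3043), (2197, 3565), (2198, 3041), (2199, 3569), (2200, 1455), (2201, 3572), (2202, 3576), (2203, 3579), (2204, 1457), (2205, 3582), (2206, 3586), (2207, 3589), (2208, 1459), (2209, 3594), (2210, 3596), (2211, 1461), (2212, 3601), (2213, 3599), (2214, 3605), (2215, 1462), (2216, 3608), (2217, 3611), (2218, 1463), (2219, 3616), (2220, 3618), (2221, 1465), (2222, 3623), (2223, 3621), (2224, 3627), (2225, 1466), (2226, 3630), (2227, 1467), (2228, 3633), (2229, 1468), (2230, 3636), (2231, 1470), (2232, 3639), (2233, 1471), (2234, 3642), (2235, 3090), (2236, 1772), (2237, 1474), (2238, 1475), (2239, 3100)]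
    ⟨e3 q2176 L43986 q1445, e3 q2177 L91650 q3523, e3 q2178 L91662 q3526, e3 q2179 L91674 q3529, e3 q2180 (flp_c L44024) q2182, e3 q2181 L91692 q3533, e3 q2182 L44024 q2180, e3 q2183 L91708 q3537, e3 q2184 (flp_c L44034) q1446, e3 q2185 (flp_c L91722) q3539, e3 q2186 L91730 q3542, e3 q2187 L91740 q3545, e3 q2188 (flp_c L44048) q1448, e3 q2189 (flp_c L91754) q3547, e3 q2190 L91762 q3550, e3 q2191 L72354 q1453, e3 q2192 L72348 q1454, e3 q2193 L91790 q3555, e3 q2194 L91802 q3558, e3 q2195 L91816 q3561, e3 q2196 (flp_c L88648) q3043, e3 q2197 L91832 q3565, e3 q2198 (flp_c L88632) q3041, e3 q2199 L91848 q3569, e3 q2200 (flp_c L44131) q1455, e3 q2201 (flp_c L91864) q3572, e3 q2202 L91884 q3576, e3 q2203 L91896 q3579, e3 q2204 (flp_c L44145) q1457, e3 q2205 (flp_c L91912) q3582, e3 q2206 L91932 q3586, e3 q2207 L91942 q3589, e3 q2208 (flp_c L44157) q1459, e3 q2209 (flp_c L91958) q3594, e3 q2210 L91964 q3596, e3 q2211 L44173 q1461, e3 q2212 L91986 q3601, e3 q2213 (flp_c L91978) q3599, e3 q2214 L91996 q3605, e3 q2215 (flp_c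 L44187) q1462, e3 q2216 (flp_c L92012) q3608, e3 q2217 L92023 q3611, e3 q2218 (flp_c L44197) q1463, e3 q2219 (flp_c L92039) q3616, e3 q2220 L92045 q3618, e3 q2221 L44213 q1465, e3 q2222 L92067 q3623, e3 q2223 (flp_c L92059) q3621, e3 q2224 L92077 q3627, e3 q2225 (flp_c L44227) q1466, e3 q2226 (flp_c L92093) q3630, e3 q2227 (flp_c L44258) q1467, e3 q2228 (flp_c L92108) q3633, e3 q2229 (flp_c L44296) q1468, e3 q2230 L92123 q3636, e3 q2231 (flp_c L44337) q1470, e3 q2232 (flp_c L92135) q3639, e3 q2233 (flp_c L44377) q1471, e3 q2234 L92150 q3642, e3 q2235 (flp_c L88859) q3090, e3 q2236 (flp_c L80537) q1772, e3 q2237 L44424 q1474, e3 q2238 (flp_c L44490) q1475, e3 q2239 (flp_c L88932) q3100, trivial⟩ (by decide +kernel)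

theorem ce_c_35 : ∀ r, r < 64 → sm gc (Qf (2240 + r)) = Qf (tab Gen.c (2240 + r)) :=
  edges_tab (sm gc) Qf (tab Gen.c) 2240 [(2240, 1784), (2241, 1477), (2242, 1478), (2243, 3413), (2244, 2930), (2245, 3416), (2246, 3417), (2247, 1480), (2248, 3671), (2249, 3672), (2250, 3676), (2251, 3679), (2252, 1484), (2253, 1485), (2254, 3686), (2255, 3682), (2256, 3690), (2257, 3684), (2258, 3694), (2259, 1486), (2260, 3696), (2261, 3699), (2262, 3702), (2263, 1488), (2264, 3704), (2265, 3707), (2266, 3710), (2267, 1490), (2268, 3713), (2269, 3716), (2270, 1491), (2271, 3719), (2272, 3721), (2273, 1492), (2274, 3726), (2275, 3728), (2276, 1494), (2277, 3732), (2278, 3734), (2279, 1495), (2280, 3739), (2281, 3741), (2282, 1497), (2283, 3745), (2284, 2284), (2285, 2297), (2286, 1499), (2287, 3510), (2288, 2621), (2289, 2295), (2290, 2290), (2291, 2299), (2292, 1503), (2293, 3513), (2294, 2631), (2295, 2289), (2296, 1673), (2297, 2285), (2298, 1679), (2299, 2291), (2300, 3431), (2301, 3432), (2302, 1510), (2303, 1511)]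
    ⟨e3 q2240 (flp_c L80557) q1784, e3 q2241 L44585 q1477, e3 q2242 (flp_c L44653) q1478, e3 q2243 (flp_c L90975) q3413, e3 q2244 (flp_c L88014) q2930, e3 q2245 (flp_c L90995) q3416, e3 q2246 (flp_c L91003) q3417, e3 q2247 (flp_c L45128) q1480, e3 q2248 (flp_c L92477) q3671, e3 q2249 (flp_c L92486) q3672, e3 q2250 L92509 q3676, e3 q2251 L92525 q3679, e3 q2252 L45163 q1484, e3 q2253 L45169 q1485, e3 q2254 L92573 q3686, e3 q2255 (flp_c L92541) q3682, e3 q2256 L92599 q3690, e3 q2257 (flp_c L92558) q3684, e3 q2258 L92621 q3694, e3 q2259 (flp_c L45213) q1486, e3 q2260 (flp_c L92635) q3696, e3 q2261 L92649 q3699, e3 q2262 L92663 q3702, e3 q2263 (flp_c L45233) q1488, e3 q2264 (flp_c L92677) q3704, e3 q2265 L92691 q3707, e3 q2266 L92707 q3710, e3 q2267 (flp_c L45253) q1490, e3 q2268 (flp_c L92728) q3713, e3 q2269 L92748 q3716, e3 q2270 (flp_c L45270) q1491, e3 q2271 (flp_c L92769) q3719, e3 q2272 L92789 q3721, e3 q2273 (flp_c L45285) q1492, e3 q2274 (flp_c L92815) q3726, e3 q2275 L92825 q3728, e3 q2276 L45305 q1494, e3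 q2277 (flp_c L92847) q3732, e3 q2278 (flp_c L102019) q3734, e3 q2279 (flp_c L45321) q1495, e3 q2280 (flp_c L92887) q3739, e3 q2281 L92897 q3741, e3 q2282 L45341 q1497, e3 q2283 (flp_c L92919) q3745, e3 q2284 L70899 q2284, e3 q2285 L45629 q2297, e3 q2286 L45389 q1499, e3 q2287 (flp_c L91509) q3510, e3 q2288 (flp_c L84962) q2621, e3 q2289 (flp_c L83374) q2295, e3 q2290 L83365 q2290, e3 q2291 L45805 q2299, e3 q2292 L45467 q1503, e3 q2293 (flp_c L91527) q3513, e3 q2294 (flp_c L85029) q2631, e3 q2295 L83374 q2289, e3 q2296 (flp_c L80349) q1673, e3 q2297 (flp_c L45629) q2285, e3 q2298 (flp_c L79741) q1679, e3 q2299 (flp_c L45805) q2291, e3 q2300 (flp_c L91097) q3431, e3 q2301 (flp_c L91103) q3432, e3 q2302 L46351 q1510, e3 q2303 L46355 q1511, trivial⟩ (by decide +kernel)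

theorem ce_c_36 : ∀ r, r < 64 → sm gc (Qf (2304 + r)) = Qf (tab Gen.c (2304 + r)) :=
  edges_tab (sm gc) Qf (tab Gen.c) 2304 [(2304, 2308), (2305, 3780), (2306, 2311), (2307, 3782), (2308, 2304), (2309, 1512), (2310, 3789), (2311, 2306), (2312, 1513), (2313, 3792), (2314, 3794), (2315, 1514), (2316, 3799), (2317, 1516), (2318, 3804), (2319, 3807), (2320, 1517), (2321, 3810), (2322, 3813), (2323, 1518), (2324, 3818), (2325, 1520), (2326, 3823), (2327, 3826), (2328, 1521), (2329, 3829), (2330, 1522), (2331, 3831), (2332, 3832), (2333, 1721), (2334, 2731), (2335, 1524), (2336, 3843), (2337, 1525), (2338, 3846), (2339, 3847), (2340, 2383), (2341, 1527), (2342, 3855), (2343, 1528), (2344, 3857), (2345, 3858), (2346, 1744), (2347, 2782), (2348, 1530), (2349, 3869), (2350, 1531), (2351, 3872), (2352, 3873), (2353, 2369), (2354, 1533), (2355, 3881), (2356, 2356), (2357, 3887), (2358, 2358), (2359, 2359), (2360, 2393), (2361, 2394), (2362, 3640), (2363, 3845), (2364, 1538), (2365, 1539), (2366, 3903), (2367, 3907)]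
    ⟨e3 q2304 L72420 q2308, e3 q2305 (flp_c L93129) q3780, e3 q2306 L150248 q2311, e3 q2307 (flp_c L93139) q3782, e3 q2308 (flp_c L72420) q2304, e3 q2309 (flp_c L46387) q1512, e3 q2310 (flp_c L93189) q3789, e3 q2311 (flp_c L150248) q2306, e3 q2312 (flp_c L46397) q1513, e3 q2313 (flp_c L93215) q3792, e3 q2314 L93229 q3794, e3 q2315 (flp_c L46407) q1514, e3 q2316 L93249 q3799, e3 q2317 L46419 q1516, e3 q2318 L93269 q3804, e3 q2319 L93281 q3807, e3 q2320 (flp_c L46431) q1517, e3 q2321 (flp_c L93301) q3810, e3 q2322 L93315 q3813, e3 q2323 (flp_c L46443) q1518, e3 q2324 L93335 q3818, e3 q2325 L46455 q1520, e3 q2326 L93355 q3823, e3 q2327 L93367 q3826, e3 q2328 (flp_c L46467) q1521, e3 q2329 (flp_c L93387) q3829, e3 q2330 L91641 q1522, e3 q2331 (flp_c L93401) q3831, e3 q2332 (flp_c L93409) q3832, e3 q2333 L91633 q1721, e3 q2334 L85468 q2731, e3 q2335 L46501 q1524, e3 q2336 L93472 q3843, e3 q2337 (flp_c L46509) q1525, e3 q2338 (flp_c L93488) q3846, e3 q2339 (flp_c L93492) q3847, e3 q2340 (flp_c L83378) q2383, e3 q2341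 L46527 q1527, e3 q2342 L93524 q3855, e3 q2343 (flp_c L102088) q1528, e3 q2344 (flp_c L102043) q3857, e3 q2345 (flp_c L102041) q3858, e3 q2346 L102054 q1744, e3 q2347 L85669 q2782, e3 q2348 L46561 q1530, e3 q2349 L93611 q3869, e3 q2350 (flp_c L46569) q1531, e3 q2351 (flp_c L93627) q3872, e3 q2352 (flp_c L93631) q3873, e3 q2353 L83376 q2369, e3 q2354 L46587 q1533, e3 q2355 L93663 q3881, e3 q2356 L70898 q2356, e3 q2357 L93691 q3887, e3 q2358 L70900 q2358, e3 q2359 L70901 q2359, e3 q2360 (flp_c L47059) q2393, e3 q2361 (flp_c L47065) q2394, e3 q2362 (flp_c L92143) q3640, e3 q2363 (flp_c L93484) q3845, e3 q2364 L46683 q1538, e3 q2365 L46687 q1539, e3 q2366 (flp_c L93753) q3903, e3 q2367 L93769 q3907, trivial⟩ (by decide +kernel)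

theorem ce_c_37 : ∀ r, r < 64 → sm gc (Qf (2368 + r)) = Qf (tab Gen.c (2368 + r)) :=
  edges_tab (sm gc) Qf (tab Gen.c) 2368 [(2368, 2382), (2369, 2353), (2370, 2370), (2371, 3916), (2372, 2372), (2373, 2373), (2374, 2410), (2375, 2411), (2376, 3634), (2377, 3871), (2378, 1545), (2379, 1546), (2380, 3931), (2381, 3935), (2382, 2368), (2383, 2340), (2384, 1548), (2385, 3940), (2386, 1550), (2387, 1551), (2388, 1574), (2389, 3945), (2390, 1575), (2391, 1576), (2392, 1577), (2393, 2360), (2394, 2361), (2395, 3961), (2396, 1556), (2397, 3965), (2398, 3967), (2399, 3968), (2400, 1557), (2401, 1559), (2402, 3970), (2403, 1561), (2404, 1562), (2405, 1591), (2406, 3975), (2407, 1592), (2408, 1593), (2409, 1594), (2410, 2374), (2411, 2375), (2412, 3991), (2413, 1567), (2414, 3995), (2415, 3997), (2416, 3998), (2417, 1568), (2418, 2418), (2419, 2419), (2420, 2420), (2421, 2421), (2422, 2089), (2423, 4005), (2424, 3946), (2425, 3947), (2426, 3948), (2427, 4011), (2428, 3953), (2429, 3954), (2430, 3955), (2431, 4017)]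
    ⟨e3 q2368 (flp_c L83372) q2382, e3 q2369 (flp_c L83376) q2353, e3 q2370 L83364 q2370, e3 q2371 L93811 q3916, e3 q2372 L83366 q2372, e3 q2373 L83367 q2373, e3 q2374 (flp_c L47398) q2410, e3 q2375 (flp_c L47404) q2411, e3 q2376 (flp_c L92116) q3634, e3 q2377 (flp_c L93623) q3871, e3 q2378 L46811 q1545, e3 q2379 L46815 q1546, e3 q2380 (flp_c L93873) q3931, e3 q2381 L93889 q3935, e3 q2382 L83372 q2368, e3 q2383 L83378 q2340, e3 q2384 (flp_c L46953) q1548, e3 q2385 (flp_c L93917) q3940, e3 q2386 L46981 q1550, e3 q2387 L46987 q1551, e3 q2388 L47035 q1574, e3 q2389 L94012 q3945, e3 q2390 L47045 q1575, e3 q2391 L47049 q1576, e3 q2392 L47053 q1577, e3 q2393 L47059 q2360, e3 q2394 L47065 q2361, e3 q2395 L94102 q3961, e3 q2396 L47073 q1556, e3 q2397 L94126 q3965, e3 q2398 L94144 q3967, e3 q2399 L94152 q3968, e3 q2400 (flp_c L47111) q1557, e3 q2401 (flp_c L47274) q1559, e3 q2402 (flp_c L94168) q3970, e3 q2403 L47318 q1561, e3 q2404 L47324 q1562, e3 q2405 L47374 q1591, e3 q2406 L94263 q3975, e3 q2407 L47384 q1592, e3 q2408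 L47388 q1593, e3 q2409 L47392 q1594, e3 q2410 L47398 q2374, e3 q2411 L47404 q2375, e3 q2412 L94353 q3991, e3 q2413 L47412 q1567, e3 q2414 L94377 q3995, e3 q2415 L94395 q3997, e3 q2416 L94403 q3998, e3 q2417 (flp_c L47450) q1568, e3 q2418 L83813 q2418, e3 q2419 L83820 q2419, e3 q2420 L83823 q2420, e3 q2421 L83828 q2421, e3 q2422 L83837 q2089, e3 q2423 L94474 q4005, e3 q2424 (flp_c L94022) q3946, e3 q2425 (flp_c L94028) q3947, e3 q2426 (flp_c L94034) q3948, e3 q2427 L94504 q4011, e3 q2428 (flp_c L94054) q3953, e3 q2429 (flp_c L94060) q3954, e3 q2430 (flp_c L94066) q3955, e3 q2431 L94540 q4017, trivial⟩ (by decide +kernel)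

theorem ce_c_38 : ∀ r, r < 64 → sm gc (Qf (2432 + r)) = Qf (tab Gen.c (2432 + r)) :=
  edges_tab (sm gc) Qf (tab Gen.c) 2432 [(2432, 3957), (2433, 1578), (2434, 4020), (2435, 4023), (2436, 1583), (2437, 4027), (2438, 1580), (2439, 4030), (2440, 4034), (2441, 4036), (2442, 1582), (2443, 4038), (2444, 1584), (2445, 4041), (2446, 1586), (2447, 1587), (2448, 2448), (2449, 2449), (2450, 2450), (2451, 2451), (2452, 2102), (2453, 4051), (2454, 3976), (2455, 3977), (2456, 3978), (2457, 4057), (2458, 3983), (2459, 3984), (2460, 4062), (2461, 3986), (2462, 3987), (2463, 1595), (2464, 4066), (2465, 4069), (2466, 1600), (2467, 4073), (2468, 1597), (2469, 4076), (2470, 4080), (2471, 4082), (2472, 1599), (2473, 4084), (2474, 1601), (2475, 4087), (2476, 1603), (2477, 1604), (2478, 1608), (2479, 1612), (2480, 2480), (2481, 1610), (2482, 4092), (2483, 4094), (2484, 4096), (2485, 4097), (2486, 1613), (2487, 1617), (2488, 2488), (2489, 1615), (2490, 4108), (2491, 4110), (2492, 4112), (2493, 4113), (2494, 1618), (2495, 4125)]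
    ⟨e3 q2432 (flp_c L94078) q3957, e3 q2433 (flp_c L83879) q1578, e3 q2434 (flp_c L94558) q4020, e3 q2435 L94574 q4023, e3 q2436 L83901 q1583, e3 q2437 L94590 q4027, e3 q2438 (flp_c L83909) q1580, e3 q2439 (flp_c L94606) q4030, e3 q2440 L94624 q4034, e3 q2441 L94634 q4036, e3 q2442 (flp_c L83925) q1582, e3 q2443 L94662 q4038, e3 q2444 (flp_c L83947) q1584, e3 q2445 L94674 q4041, e3 q2446 L83955 q1586, e3 q2447 (flp_c L83957) q1587, e3 q2448 L83969 q2448, e3 q2449 L83976 q2449, e3 q2450 L83979 q2450, e3 q2451 L83984 q2451, e3 q2452 L83993 q2102, e3 q2453 L94753 q4051, e3 q2454 (flp_c L94273) q3976, e3 q2455 (flp_c L94279) q3977, e3 q2456 (flp_c L94285) q3978, e3 q2457 L94783 q4057, e3 q2458 (flp_c L94305) q3983, e3 q2459 (flp_c L94311) q3984, e3 q2460 L94817 q4062, e3 q2461 (flp_c L94321) q3986, e3 q2462 (flp_c L94329) q3987, e3 q2463 (flp_c L84035) q1595, e3 q2464 (flp_c L94837) q4066, e3 q2465 L94853 q4069, e3 q2466 L84057 q1600, e3 q2467 L94869 q4073, e3 q2468 (flp_c L84065) q1597, e3 q2469 (flp_c L94885) q4076,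 e3 q2470 L94903 q4080, e3 q2471 L94913 q4082, e3 q2472 (flp_c L84081) q1599, e3 q2473 L94943 q4084, e3 q2474 (flp_c L84103) q1601, e3 q2475 L94955 q4087, e3 q2476 L84111 q1603, e3 q2477 (flp_c L84113) q1604, e3 q2478 (flp_c L84173) q1608, e3 q2479 L84189 q1612, e3 q2480 L84195 q2480, e3 q2481 L84199 q1610, e3 q2482 (flp_c L95035) q4092, e3 q2483 (flp_c L95052) q4094, e3 q2484 (flp_c L95060) q4096, e3 q2485 (flp_c L95065) q4097, e3 q2486 (flp_c L84220) q1613, e3 q2487 L84236 q1617, e3 q2488 L84242 q2488, e3 q2489 L84246 q1615, e3 q2490 (flp_c L95129) q4108, e3 q2491 (flp_c L95146) q4110, e3 q2492 (flp_c L95154) q4112, e3 q2493 (flp_c L95158) q4113, e3 q2494 (flp_c L84267) q1618, e3 q2495 (flp_c L95233) q4125, trivial⟩ (by decide +kernel)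

theorem ce_c_39 : ∀ r, r < 64 → sm gc (Qf (2496 + r)) = Qf (tab Gen.c (2496 + r)) :=
  edges_tab (sm gc) Qf (tab Gen.c) 2496 [(2496, 4126), (2497, 1878), (2498, 1621), (2499, 1622), (2500, 3110), (2501, 3111), (2502, 4141), (2503, 4133), (2504, 4145), (2505, 4135), (2506, 3107), (2507, 1628), (2508, 1624), (2509, 1625), (2510, 4157), (2511, 4160), (2512, 4163), (2513, 1626), (2514, 4166), (2515, 4169), (2516, 1627), (2517, 4172), (2518, 4152), (2519, 4153), (2520, 4178), (2521, 1632), (2522, 4181), (2523, 1634), (2524, 4185), (2525, 1631), (2526, 4187), (2527, 4190), (2528, 4193), (2529, 1633), (2530, 4195), (2531, 4198), (2532, 3482), (2533, 1635), (2534, 4204), (2535, 1637), (2536, 4209), (2537, 4212), (2538, 1638), (2539, 4215), (2540, 3486), (2541, 1639), (2542, 4221), (2543, 1641), (2544, 4226), (2545, 4229), (2546, 1642), (2547, 4232), (2548, 3128), (2549, 1643), (2550, 4238), (2551, 4240), (2552, 1645), (2553, 4246), (2554, 4244), (2555, 4250), (2556, 1646), (2557, 4253), (2558, 3132), (2559, 1647)]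
    ⟨e3 q2496 (flp_c L95241) q4126, e3 q2497 (flp_c L84349) q1878, e3 q2498 L84294 q1621, e3 q2499 L84300 q1622, e3 q2500 (flp_c L89034) q3110, e3 q2501 (flp_c L89042) q3111, e3 q2502 L95338 q4141, e3 q2503 (flp_c L95281) q4133, e3 q2504 L95358 q4145, e3 q2505 (flp_c L95296) q4135, e3 q2506 L89020 q3107, e3 q2507 (flp_c L84347) q1628, e3 q2508 L84365 q1624, e3 q2509 L84371 q1625, e3 q2510 L95410 q4157, e3 q2511 L95420 q4160, e3 q2512 L95430 q4163, e3 q2513 (flp_c L84385) q1626, e3 q2514 (flp_c L95449) q4166, e3 q2515 L95465 q4169, e3 q2516 (flp_c L84398) q1627, e3 q2517 (flp_c L95484) q4172, e3 q2518 (flp_c L95388) q4152, e3 q2519 (flp_c L95397) q4153, e3 q2520 L95529 q4178, e3 q2521 L84422 q1632, e3 q2522 L95541 q4181, e3 q2523 L84433 q1634, e3 q2524 L95554 q4185, e3 q2525 (flp_c L84443) q1631, e3 q2526 (flp_c L95566) q4187, e3 q2527 L95578 q4190, e3 q2528 L95590 q4193, e3 q2529 (flp_c L84461) q1633, e3 q2530 (flp_c L95602) q4195, e3 q2531 L95614 q4198, e3 q2532 (flp_c L91646) q3482, e3 q2533 (flp_c L84477) q1635,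 e3 q2534 L95642 q4204, e3 q2535 L84492 q1637, e3 q2536 L95668 q4209, e3 q2537 L95682 q4212, e3 q2538 (flp_c L84506) q1638, e3 q2539 (flp_c L95701) q4215, e3 q2540 (flp_c L150312) q3486, e3 q2541 (flp_c L84521) q1639, e3 q2542 L95741 q4221, e3 q2543 L84536 q1641, e3 q2544 L95767 q4226, e3 q2545 L95781 q4229, e3 q2546 (flp_c L84550) q1642, e3 q2547 (flp_c L95800) q4232, e3 q2548 (flp_c L96151) q3128, e3 q2549 (flp_c L84565) q1643, e3 q2550 (flp_c L95836) q4238, e3 q2551 L95844 q4240, e3 q2552 L84582 q1645, e3 q2553 L95870 q4246, e3 q2554 (flp_c L95860) q4244, e3 q2555 L95886 q4250, e3 q2556 (flp_c L84602) q1646, e3 q2557 (flp_c L95903) q4253, e3 q2558 (flp_c L96436) q3132, e3 q2559 (flp_c L84615) q1647, trivial⟩ (by decide +kernel)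

theorem ce_c_40 : ∀ r, r < 64 → sm gc (Qf (2560 + r)) = Qf (tab Gen.c (2560 + r)) :=
  edges_tab (sm gc) Qf (tab Gen.c) 2560 [(2560, 4259), (2561, 4261), (2562, 1649), (2563, 4267), (2564, 4265), (2565, 4271), (2566, 1650), (2567, 4274), (2568, 3724), (2569, 1651), (2570, 4280), (2571, 4281), (2572, 4278), (2573, 4289), (2574, 1653), (2575, 4294), (2576, 1654), (2577, 4298), (2578, 4299), (2579, 3770), (2580, 1657), (2581, 4307), (2582, 1656), (2583, 4309), (2584, 4312), (2585, 4315), (2586, 1658), (2587, 4320), (2588, 4322), (2589, 1660), (2590, 4325), (2591, 3737), (2592, 1661), (2593, 4331), (2594, 4332), (2595, 4329), (2596, 4340), (2597, 1663), (2598, 4345), (2599, 1664), (2600, 4349), (2601, 4350), (2602, 3774), (2603, 1667), (2604, 4358), (2605, 1666), (2606, 4360), (2607, 4363), (2608, 4366), (2609, 1668), (2610, 4371), (2611, 4373), (2612, 1670), (2613, 4376), (2614, 4296), (2615, 1672), (2616, 3767), (2617, 3769), (2618, 4384), (2619, 1674), (2620, 4385), (2621, 2288), (2622, 1676), (2623, 4393)]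
    ⟨e3 q2560 (flp_c L95937) q4259, e3 q2561 L95945 q4261, e3 q2562 L84632 q1649, e3 q2563 L95973 q4267, e3 q2564 (flp_c L95961) q4265, e3 q2565 L95995 q4271, e3 q2566 (flp_c L84656) q1650, e3 q2567 (flp_c L96016) q4274, e3 q2568 (flp_c L92803) q3724, e3 q2569 (flp_c L84673) q1651, e3 q2570 (flp_c L96052) q4280, e3 q2571 (flp_c L96058) q4281, e3 q2572 (flp_c L96046) q4278, e3 q2573 L96099 q4289, e3 q2574 L84697 q1653, e3 q2575 L96127 q4294, e3 q2576 (flp_c L84707) q1654, e3 q2577 (flp_c L96161) q4298, e3 q2578 (flp_c L96165) q4299, e3 q2579 (flp_c L93057) q3770, e3 q2580 L84729 q1657, e3 q2581 L96205 q4307, e3 q2582 (flp_c L84741) q1656, e3 q2583 (flp_c L96219) q4309, e3 q2584 L96233 q4312, e3 q2585 L96247 q4315, e3 q2586 (flp_c L84759) q1658, e3 q2587 (flp_c L96271) q4320, e3 q2588 L96281 q4322, e3 q2589 L84779 q1660, e3 q2590 (flp_c L96297) q4325, e3 q2591 (flp_c L102082) q3737, e3 q2592 (flp_c L84795) q1661, e3 q2593 (flp_c L96337) q4331, e3 q2594 (flp_c L96343) q4332, e3 q2595 (flp_c L96331) q4329, e3 q2596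 L96384 q4340, e3 q2597 L84819 q1663, e3 q2598 L96412 q4345, e3 q2599 (flp_c L84829) q1664, e3 q2600 (flp_c L96446) q4349, e3 q2601 (flp_c L96450) q4350, e3 q2602 (flp_c L93087) q3774, e3 q2603 L84851 q1667, e3 q2604 L96490 q4358, e3 q2605 (flp_c L84863) q1666, e3 q2606 (flp_c L96504) q4360, e3 q2607 L96518 q4363, e3 q2608 L96534 q4366, e3 q2609 (flp_c L84881) q1668, e3 q2610 (flp_c L96558) q4371, e3 q2611 L96568 q4373, e3 q2612 L84901 q1670, e3 q2613 (flp_c L96584) q4376, e3 q2614 (flp_c L96139) q4296, e3 q2615 L84920 q1672, e3 q2616 (flp_c L93039) q3767, e3 q2617 (flp_c L93049) q3769, e3 q2618 L96631 q4384, e3 q2619 (flp_c L84946) q1674, e3 q2620 (flp_c L96645) q4385, e3 q2621 L84962 q2288, e3 q2622 (flp_c L84964) q1676, e3 q2623 (flp_c L96687) q4393, trivial⟩ (by decide +kernel)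

theorem ce_c_41 : ∀ r, r < 64 → sm gc (Qf (2624 + r)) = Qf (tab Gen.c (2624 + r)) :=
  edges_tab (sm gc) Qf (tab Gen.c) 2624 [(2624, 4347), (2625, 1678), (2626, 3772), (2627, 3775), (2628, 4400), (2629, 1680), (2630, 4401), (2631, 2294), (2632, 1682), (2633, 4409), (2634, 1683), (2635, 4412), (2636, 1685), (2637, 4415), (2638, 2639), (2639, 2638), (2640, 4416), (2641, 1690), (2642, 1691), (2643, 4423), (2644, 4426), (2645, 1692), (2646, 4430), (2647, 4431), (2648, 4432), (2649, 4439), (2650, 1696), (2651, 4442), (2652, 1698), (2653, 4446), (2654, 1695), (2655, 4448), (2656, 4451), (2657, 4454), (2658, 1697), (2659, 4456), (2660, 4459), (2661, 4462), (2662, 1699), (2663, 4467), (2664, 4447), (2665, 1701), (2666, 4472), (2667, 4474), (2668, 1702), (2669, 4479), (2670, 4455), (2671, 1704), (2672, 4484), (2673, 3478), (2674, 1705), (2675, 3522), (2676, 4487), (2677, 4486), (2678, 4494), (2679, 1707), (2680, 4498), (2681, 4499), (2682, 4502), (2683, 4505), (2684, 1709), (2685, 4507), (2686, 4509), (2687, 1710)]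
    ⟨e3 q2624 (flp_c L96424) q4347, e3 q2625 L84985 q1678, e3 q2626 (flp_c L93077) q3772, e3 q2627 (flp_c L93095) q3775, e3 q2628 L96730 q4400, e3 q2629 (flp_c L85013) q1680, e3 q2630 (flp_c L96744) q4401, e3 q2631 L85029 q2294, e3 q2632 (flp_c L85031) q1682, e3 q2633 (flp_c L96786) q4409, e3 q2634 (flp_c L85045) q1683, e3 q2635 L96807 q4412, e3 q2636 (flp_c L85059) q1685, e3 q2637 L96836 q4415, e3 q2638 (flp_c L85094) q2639, e3 q2639 L85094 q2638, e3 q2640 L96906 q4416, e3 q2641 L85125 q1690, e3 q2642 L85131 q1691, e3 q2643 L96938 q4423, e3 q2644 L96944 q4426, e3 q2645 (flp_c L85137) q1692, e3 q2646 (flp_c L96961) q4430, e3 q2647 (flp_c L96965) q4431, e3 q2648 (flp_c L96969) q4432, e3 q2649 L97006 q4439, e3 q2650 L85155 q1696, e3 q2651 L97018 q4442, e3 q2652 L85166 q1698, e3 q2653 L97037 q4446, e3 q2654 (flp_c L85176) q1695, e3 q2655 (flp_c L97062) q4448, e3 q2656 L97070 q4451, e3 q2657 L97078 q4454, e3 q2658 (flp_c L85188) q1697, e3 q2659 (flp_c L97090) q4456, e3 q2660 L97098 q4459, e3 q2661 L97110 q4462, e3 q2662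 (flp_c L85198) q1699, e3 q2663 (flp_c L97134) q4467, e3 q2664 (flp_c L97058) q4447, e3 q2665 L85213 q1701, e3 q2666 (flp_c L97154) q4472, e3 q2667 L97164 q4474, e3 q2668 (flp_c L85223) q1702, e3 q2669 (flp_c L97180) q4479, e3 q2670 L150210 q4455, e3 q2671 L85238 q1704, e3 q2672 (flp_c L97202) q4484, e3 q2673 L91635 q3478, e3 q2674 (flp_c L85248) q1705, e3 q2675 L91627 q3522, e3 q2676 (flp_c L97220) q4487, e3 q2677 (flp_c L97216) q4486, e3 q2678 L97248 q4494, e3 q2679 (flp_c L85264) q1707, e3 q2680 (flp_c L97276) q4498, e3 q2681 (flp_c L97282) q4499, e3 q2682 L97296 q4502, e3 q2683 L97305 q4505, e3 q2684 (flp_c L85284) q1709, e3 q2685 (flp_c L97317) q4507, e3 q2686 L97323 q4509, e3 q2687 (flp_c L85292) q1710, trivial⟩ (by decide +kernel)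

theorem ce_c_42 : ∀ r, r < 64 → sm gc (Qf (2688 + r)) = Qf (tab Gen.c (2688 + r)) :=
  edges_tab (sm gc) Qf (tab Gen.c) 2688 [(2688, 4513), (2689, 4514), (2690, 1712), (2691, 4518), (2692, 3480), (2693, 1713), (2694, 4522), (2695, 3525), (2696, 4521), (2697, 4529), (2698, 1715), (2699, 4533), (2700, 4534), (2701, 4537), (2702, 4540), (2703, 1717), (2704, 4542), (2705, 4544), (2706, 1718), (2707, 4548), (2708, 4549), (2709, 1720), (2710, 4553), (2711, 3837), (2712, 3838), (2713, 1725), (2714, 2714), (2715, 1723), (2716, 1724), (2717, 4560), (2718, 4565), (2719, 4562), (2720, 3883), (2721, 4571), (2722, 3267), (2723, 4557), (2724, 1726), (2725, 4579), (2726, 4580), (2727, 4584), (2728, 4587), (2729, 1728), (2730, 4590), (2731, 2334), (2732, 1730), (2733, 1731), (2734, 4594), (2735, 4600), (2736, 4596), (2737, 4604), (2738, 1732), (2739, 4606), (2740, 4609), (2741, 4612), (2742, 1734), (2743, 4617), (2744, 1736), (2745, 4622), (2746, 4624), (2747, 1737), (2748, 4627), (2749, 4629), (2750, 1738), (2751, 4634)]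
    ⟨e3 q2688 (flp_c L97341) q4513, e3 q2689 L97345 q4514, e3 q2690 L85307 q1712, e3 q2691 (flp_c L97363) q4518, e3 q2692 L150345 q3480, e3 q2693 (flp_c L85317) q1713, e3 q2694 (flp_c L97391) q4522, e3 q2695 (flp_c L150023) q3525, e3 q2696 (flp_c L97385) q4521, e3 q2697 L97419 q4529, e3 q2698 (flp_c L85333) q1715, e3 q2699 (flp_c L97447) q4533, e3 q2700 (flp_c L97453) q4534, e3 q2701 L97467 q4537, e3 q2702 L97476 q4540, e3 q2703 (flp_c L85353) q1717, e3 q2704 (flp_c L97488) q4542, e3 q2705 L97496 q4544, e3 q2706 (flp_c L85361) q1718, e3 q2707 (flp_c L97514) q4548, e3 q2708 L97518 q4549, e3 q2709 L85376 q1720, e3 q2710 (flp_c L97536) q4553, e3 q2711 (flp_c L93446) q3837, e3 q2712 (flp_c L93452) q3838, e3 q2713 L85398 q1725, e3 q2714 L91643 q2714, e3 q2715 L85404 q1723, e3 q2716 L85408 q1724, e3 q2717 (flp_c L97583) q4560, e3 q2718 L97607 q4565, e3 q2719 (flp_c L97593) q4562, e3 q2720 L93675 q3883, e3 q2721 L97632 q4571, e3 q2722 L119650 q3267, e3 q2723 (flp_c L97564) q4557, e3 q2724 (flp_c L85435) q1726, e3 q2725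 (flp_c L97668) q4579, e3 q2726 (flp_c L97674) q4580, e3 q2727 L97694 q4584, e3 q2728 L97704 q4587, e3 q2729 (flp_c L85457) q1728, e3 q2730 (flp_c L97720) q4590, e3 q2731 (flp_c L85468) q2334, e3 q2732 L85473 q1730, e3 q2733 L85477 q1731, e3 q2734 (flp_c L97742) q4594, e3 q2735 L97777 q4600, e3 q2736 (flp_c L97753) q4596, e3 q2737 L97791 q4604, e3 q2738 (flp_c L85501) q1732, e3 q2739 (flp_c L97805) q4606, e3 q2740 L97813 q4609, e3 q2741 L97823 q4612, e3 q2742 (flp_c L85513) q1734, e3 q2743 L97839 q4617, e3 q2744 L85525 q1736, e3 q2745 L97857 q4622, e3 q2746 L97865 q4624, e3 q2747 (flp_c L85533) q1737, e3 q2748 (flp_c L97925) q4627, e3 q2749 L97933 q4629, e3 q2750 (flp_c L85541) q1738, e3 q2751 (flp_c L97953) q4634, trivial⟩ (by decide +kernel)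

theorem ce_c_43 : ∀ r, r < 64 → sm gc (Qf (2752 + r)) = Qf (tab Gen.c (2752 + r)) :=
  edges_tab (sm gc) Qf (tab Gen.c) 2752 [(2752, 4635), (2753, 4632), (2754, 4642), (2755, 1740), (2756, 4646), (2757, 1741), (2758, 4649), (2759, 4650), (2760, 1743), (2761, 4655), (2762, 3863), (2763, 3864), (2764, 1748), (2765, 2765), (2766, 1746), (2767, 1747), (2768, 4666), (2769, 4663), (2770, 4664), (2771, 3912), (2772, 4672), (2773, 4659), (2774, 3290), (2775, 1749), (2776, 4680), (2777, 4681), (2778, 4685), (2779, 4688), (2780, 1751), (2781, 4690), (2782, 2347), (2783, 1753), (2784, 1754), (2785, 4694), (2786, 4700), (2787, 4696), (2788, 4704), (2789, 1755), (2790, 4706), (2791, 4709), (2792, 4712), (2793, 1757), (2794, 4717), (2795, 1759), (2796, 4722), (2797, 4724), (2798, 1760), (2799, 4727), (2800, 4729), (2801, 1761), (2802, 4734), (2803, 4735), (2804, 4732), (2805, 4648), (2806, 1763), (2807, 4745), (2808, 1764), (2809, 4747), (2810, 4748), (2811, 1766), (2812, 4753), (2813, 4756), (2814, 4758), (2815, 1768)]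
    ⟨e3 q2752 (flp_c L97957) q4635, e3 q2753 (flp_c L97947) q4632, e3 q2754 L97999 q4642, e3 q2755 L85557 q1740, e3 q2756 L98019 q4646, e3 q2757 (flp_c L85563) q1741, e3 q2758 (flp_c L98033) q4649, e3 q2759 (flp_c L98037) q4650, e3 q2760 L85577 q1743, e3 q2761 L98057 q4655, e3 q2762 (flp_c L102076) q3863, e3 q2763 (flp_c L102070) q3864, e3 q2764 L85599 q1748, e3 q2765 L102096 q2765, e3 q2766 L85605 q1746, e3 q2767 L85609 q1747, e3 q2768 L98171 q4666, e3 q2769 (flp_c L98149) q4663, e3 q2770 (flp_c L98159) q4664, e3 q2771 (flp_c L102101) q3912, e3 q2772 L98206 q4672, e3 q2773 (flp_c L98127) q4659, e3 q2774 (flp_c L149858) q3290, e3 q2775 (flp_c L85636) q1749, e3 q2776 (flp_c L98242) q4680, e3 q2777 (flp_c L98248) q4681, e3 q2778 L98268 q4685, e3 q2779 L98282 q4688, e3 q2780 (flp_c L85658) q1751, e3 q2781 (flp_c L98290) q4690, e3 q2782 (flp_c L85669) q2347, e3 q2783 L85674 q1753, e3 q2784 L85678 q1754, e3 q2785 (flp_c L98312) q4694, e3 q2786 L98347 q4700, e3 q2787 (flp_c L98323) q4696, e3 q2788 L98361 q4704, e3 q2789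 (flp_c L85702) q1755, e3 q2790 (flp_c L98375) q4706, e3 q2791 L98383 q4709, e3 q2792 L98397 q4712, e3 q2793 (flp_c L85716) q1757, e3 q2794 L98419 q4717, e3 q2795 L85728 q1759, e3 q2796 L98441 q4722, e3 q2797 L98449 q4724, e3 q2798 (flp_c L85738) q1760, e3 q2799 (flp_c L98469) q4727, e3 q2800 L98493 q4729, e3 q2801 (flp_c L85750) q1761, e3 q2802 (flp_c L98521) q4734, e3 q2803 (flp_c L98525) q4735, e3 q2804 (flp_c L98515) q4732, e3 q2805 L98029 q4648, e3 q2806 L85770 q1763, e3 q2807 L98569 q4745, e3 q2808 (flp_c L85778) q1764, e3 q2809 (flp_c L98577) q4747, e3 q2810 (flp_c L98581) q4748, e3 q2811 L85792 q1766, e3 q2812 L98603 q4753, e3 q2813 L98621 q4756, e3 q2814 L98635 q4758, e3 q2815 (flp_c L85810) q1768, trivial⟩ (by decide +kernel)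

theorem ce_c_44 : ∀ r, r < 64 → sm gc (Qf (2816 + r)) = Qf (tab Gen.c (2816 + r)) :=
  edges_tab (sm gc) Qf (tab Gen.c) 2816 [(2816, 4760), (2817, 1769), (2818, 4764), (2819, 4765), (2820, 1771), (2821, 4768), (2822, 3649), (2823, 1773), (2824, 1775), (2825, 4776), (2826, 4772), (2827, 4782), (2828, 4774), (2829, 4775), (2830, 2869), (2831, 4647), (2832, 1778), (2833, 4794), (2834, 4796), (2835, 1780), (2836, 4798), (2837, 1781), (2838, 4802), (2839, 4803), (2840, 1783), (2841, 4806), (2842, 3658), (2843, 1785), (2844, 1787), (2845, 4814), (2846, 4810), (2847, 4820), (2848, 4812), (2849, 4813), (2850, 2887), (2851, 4746), (2852, 1790), (2853, 2853), (2854, 1792), (2855, 4834), (2856, 4835), (2857, 1795), (2858, 4838), (2859, 4839), (2860, 1797), (2861, 4842), (2862, 4840), (2863, 1800), (2864, 1822), (2865, 4853), (2866, 1819), (2867, 1823), (2868, 1824), (2869, 2830), (2870, 3962), (2871, 2871), (2872, 1805), (2873, 4863), (2874, 4864), (2875, 1808), (2876, 4867), (2877, 4868), (2878, 1810), (2879, 4871)]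
    ⟨e3 q2816 L98665 q4760, e3 q2817 (flp_c L85820) q1769, e3 q2818 (flp_c L98679) q4764, e3 q2819 L98683 q4765, e3 q2820 L85836 q1771, e3 q2821 (flp_c L98699) q4768, e3 q2822 (flp_c L92176) q3649, e3 q2823 (flp_c L85854) q1773, e3 q2824 L85864 q1775, e3 q2825 L98734 q4776, e3 q2826 (flp_c L98718) q4772, e3 q2827 L98756 q4782, e3 q2828 (flp_c L98726) q4774, e3 q2829 (flp_c L98730) q4775, e3 q2830 (flp_c L86113) q2869, e3 q2831 (flp_c L98023) q4647, e3 q2832 L85892 q1778, e3 q2833 L98798 q4794, e3 q2834 L98812 q4796, e3 q2835 (flp_c L85902) q1780, e3 q2836 L98842 q4798, e3 q2837 (flp_c L85912) q1781, e3 q2838 (flp_c L98858) q4802, e3 q2839 L98864 q4803, e3 q2840 L85928 q1783, e3 q2841 (flp_c L98880) q4806, e3 q2842 (flp_c L92249) q3658, e3 q2843 (flp_c L85946) q1785, e3 q2844 L85956 q1787, e3 q2845 L98917 q4814, e3 q2846 (flp_c L98901) q4810, e3 q2847 L98939 q4820, e3 q2848 (flp_c L98909) q4812, e3 q2849 (flp_c L98915) q4813, e3 q2850 (flp_c L86224) q2887, e3 q2851 (flp_c L98573) q4746, e3 q2852 L85984 q1790, e3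 q2853 L85988 q2853, e3 q2854 L85993 q1792, e3 q2855 L98995 q4834, e3 q2856 L99017 q4835, e3 q2857 (flp_c L86025) q1795, e3 q2858 (flp_c L99049) q4838, e3 q2859 L99053 q4839, e3 q2860 (flp_c L86055) q1797, e3 q2861 (flp_c L99097) q4842, e3 q2862 (flp_c L99081) q4840, e3 q2863 L86083 q1800, e3 q2864 L86089 q1822, e3 q2865 L99165 q4853, e3 q2866 (flp_c L142456) q1819, e3 q2867 L86103 q1823, e3 q2868 L86107 q1824, e3 q2869 L86113 q2830, e3 q2870 (flp_c L94114) q3962, e3 q2871 L86119 q2871, e3 q2872 L86124 q1805, e3 q2873 L99235 q4863, e3 q2874 L99257 q4864, e3 q2875 (flp_c L86146) q1808, e3 q2876 (flp_c L99283) q4867, e3 q2877 L99287 q4868, e3 q2878 (flp_c L86164) q1810, e3 q2879 (flp_c L99317) q4871, trivial⟩ (by decide +kernel)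

theorem ce_c_45 : ∀ r, r < 64 → sm gc (Qf (2880 + r)) = Qf (tab Gen.c (2880 + r)) :=
  edges_tab (sm gc) Qf (tab Gen.c) 2880 [(2880, 4869), (2881, 1813), (2882, 1833), (2883, 4880), (2884, 1830), (2885, 1834), (2886, 1835), (2887, 2850), (2888, 3992), (2889, 4850), (2890, 4858), (2891, 4889), (2892, 1821), (2893, 4892), (2894, 4851), (2895, 4852), (2896, 4897), (2897, 4859), (2898, 4900), (2899, 1825), (2900, 4902), (2901, 4904), (2902, 1826), (2903, 4086), (2904, 1828), (2905, 4910), (2906, 1832), (2907, 4913), (2908, 4879), (2909, 4917), (2910, 4919), (2911, 1836), (2912, 4921), (2913, 4923), (2914, 1837), (2915, 4040), (2916, 1839), (2917, 1846), (2918, 1848), (2919, 1849), (2920, 3900), (2921, 3022), (2922, 1855), (2923, 1856), (2924, 1843), (2925, 4934), (2926, 4935), (2927, 1858), (2928, 1860), (2929, 4941), (2930, 2244), (2931, 4928), (2932, 4929), (2933, 1847), (2934, 4949), (2935, 4950), (2936, 2936), (2937, 4930), (2938, 2938), (2939, 4931), (2940, 4962), (2941, 4965), (2942, 2942), (2943, 2943)]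
    ⟨e3 q2880 (flp_c L99305) q4869, e3 q2881 L86194 q1813, e3 q2882 L86200 q1833, e3 q2883 L99393 q4880, e3 q2884 L136985 q1830, e3 q2885 L86214 q1834, e3 q2886 L86218 q1835, e3 q2887 L86224 q2850, e3 q2888 (flp_c L94365) q3992, e3 q2889 (flp_c L142464) q4850, e3 q2890 L142433 q4858, e3 q2891 L99905 q4889, e3 q2892 (flp_c L86655) q1821, e3 q2893 L99923 q4892, e3 q2894 (flp_c L99157) q4851, e3 q2895 (flp_c L99163) q4852, e3 q2896 L99988 q4897, e3 q2897 (flp_c L99199) q4859, e3 q2898 L100029 q4900, e3 q2899 (flp_c L86713) q1825, e3 q2900 (flp_c L100045) q4902, e3 q2901 L100079 q4904, e3 q2902 (flp_c L86745) q1826, e3 q2903 (flp_c L94953) q4086, e3 q2904 L86757 q1828, e3 q2905 L100329 q4910, e3 q2906 (flp_c L86902) q1832, e3 q2907 L100347 q4913, e3 q2908 (flp_c L99385) q4879, e3 q2909 L100415 q4917, e3 q2910 L100453 q4919, e3 q2911 (flp_c L86960) q1836, e3 q2912 (flp_c L100469) q4921, e3 q2913 L100503 q4923, e3 q2914 (flp_c L86992) q1837, e3 q2915 (flp_c L94672) q4040, e3 q2916 L87004 q1839, e3 q2917 L87941 q1846,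 e3 q2918 L87947 q1848, e3 q2919 L87954 q1849, e3 q2920 (flp_c L119339) q3900, e3 q2921 L88550 q3022, e3 q2922 L87969 q1855, e3 q2923 L87975 q1856, e3 q2924 (flp_c L87977) q1843, e3 q2925 (flp_c L101811) q4934, e3 q2926 (flp_c L101815) q4935, e3 q2927 L87992 q1858, e3 q2928 L88000 q1860, e3 q2929 L101845 q4941, e3 q2930 L88014 q2244, e3 q2931 (flp_c L101749) q4928, e3 q2932 (flp_c L101757) q4929, e3 q2933 (flp_c L88028) q1847, e3 q2934 (flp_c L101903) q4949, e3 q2935 (flp_c L101913) q4950, e3 q2936 L88054 q2936, e3 q2937 (flp_c L101763) q4930, e3 q2938 L88067 q2938, e3 q2939 (flp_c L101773) q4931, e3 q2940 L101993 q4962, e3 q2941 L102104 q4965, e3 q2942 L88092 q2942, e3 q2943 L88097 q2943, trivial⟩ (by decide +kernel)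

theorem ce_c_46 : ∀ r, r < 64 → sm gc (Qf (2944 + r)) = Qf (tab Gen.c (2944 + r)) :=
  edges_tab (sm gc) Qf (tab Gen.c) 2944 [(2944, 2944), (2945, 2945), (2946, 1893), (2947, 1854), (2948, 3632), (2949, 3638), (2950, 3538), (2951, 3546), (2952, 2952), (2953, 2953), (2954, 4982), (2955, 2955), (2956, 2956), (2957, 4987), (2958, 4205), (2959, 2959), (2960, 2960), (2961, 4222), (2962, 2962), (2963, 2963), (2964, 2964), (2965, 2965), (2966, 5000), (2967, 5003), (2968, 1868), (2969, 1869), (2970, 4129), (2971, 2971), (2972, 2972), (2973, 5010), (2974, 2974), (2975, 5013), (2976, 2976), (2977, 5016), (2978, 1873), (2979, 5019), (2980, 5022), (2981, 1874), (2982, 5025), (2983, 2983), (2984, 2984), (2985, 4940), (2986, 4124), (2987, 1947), (2988, 1948), (2989, 4130), (2990, 4131), (2991, 5036), (2992, 1953), (2993, 5040), (2994, 1955), (2995, 5044), (2996, 2996), (2997, 5048), (2998, 2998), (2999, 5052), (3000, 1883), (3001, 5055), (3002, 5059), (3003, 5062), (3004, 1885), (3005, 5065), (3006, 5069), (3007, 1970)]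
    ⟨e3 q2944 L88102 q2944, e3 q2945 L88107 q2945, e3 q2946 L88521 q1893, e3 q2947 (flp_c L88116) q1854, e3 q2948 (flp_c L119045) q3632, e3 q2949 L147528 q3638, e3 q2950 (flp_c L119035) q3538, e3 q2951 (flp_c L147561) q3546, e3 q2952 L88136 q2952, e3 q2953 L88143 q2953, e3 q2954 L102261 q4982, e3 q2955 L88152 q2955, e3 q2956 L88159 q2956, e3 q2957 L102283 q4987, e3 q2958 (flp_c L116060) q4205, e3 q2959 L88174 q2959, e3 q2960 L88183 q2960, e3 q2961 L148955 q4222, e3 q2962 L88196 q2962, e3 q2963 L88205 q2963, e3 q2964 L88214 q2964, e3 q2965 L88223 q2965, e3 q2966 L102361 q5000, e3 q2967 L102375 q5003, e3 q2968 (flp_c L88236) q1868, e3 q2969 (flp_c L88242) q1869, e3 q2970 (flp_c L95258) q4129, e3 q2971 L88258 q2971, e3 q2972 L88267 q2972, e3 q2973 L102421 q5010, e3 q2974 L88278 q2974, e3 q2975 L102434 q5013, e3 q2976 L88289 q2976, e3 q2977 L102445 q5016, e3 q2978 (flp_c L88294) q1873, e3 q2979 (flp_c L102461) q5019, e3 q2980 L102471 q5022, e3 q2981 (flp_c L88302) q1874, e3 q2982 (flp_c L102487) q5025, e3 q2983 L88312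 q2983, e3 q2984 L88317 q2984, e3 q2985 L101843 q4940, e3 q2986 L95225 q4124, e3 q2987 L88330 q1947, e3 q2988 L88338 q1948, e3 q2989 (flp_c L95264) q4130, e3 q2990 (flp_c L95270) q4131, e3 q2991 L102565 q5036, e3 q2992 L88358 q1953, e3 q2993 L102587 q5040, e3 q2994 L88374 q1955, e3 q2995 L102607 q5044, e3 q2996 L88386 q2996, e3 q2997 L102624 q5048, e3 q2998 L88401 q2998, e3 q2999 L102641 q5052, e3 q3000 (flp_c L88412) q1883, e3 q3001 (flp_c L102661) q5055, e3 q3002 L102683 q5059, e3 q3003 L102699 q5062, e3 q3004 (flp_c L88430) q1885, e3 q3005 (flp_c L102719) q5065, e3 q3006 L102741 q5069, e3 q3007 L88448 q1970, trivial⟩ (by decide +kernel)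

theorem ce_c_47 : ∀ r, r < 64 → sm gc (Qf (3008 + r)) = Qf (tab Gen.c (3008 + r)) :=
  edges_tab (sm gc) Qf (tab Gen.c) 3008 [(3008, 1888), (3009, 1889), (3010, 1978), (3011, 1891), (3012, 1892), (3013, 3013), (3014, 4971), (3015, 4972), (3016, 1894), (3017, 5081), (3018, 4100), (3019, 4116), (3020, 3650), (3021, 3659), (3022, 2921), (3023, 1898), (3024, 1899), (3025, 1900), (3026, 5086), (3027, 5087), (3028, 5095), (3029, 5089), (3030, 5099), (3031, 5091), (3032, 5103), (3033, 1901), (3034, 5104), (3035, 5107), (3036, 5110), (3037, 1903), (3038, 5111), (3039, 5114), (3040, 5117), (3041, 2198), (3042, 5121), (3043, 2196), (3044, 3358), (3045, 1907), (3046, 5125), (3047, 5129), (3048, 3382), (3049, 1909), (3050, 5132), (3051, 5136), (3052, 3950), (3053, 1911), (3054, 5141), (3055, 3590), (3056, 1913), (3057, 5148), (3058, 5146), (3059, 5152), (3060, 1914), (3061, 5155), (3062, 3981), (3063, 1915), (3064, 5160), (3065, 3613), (3066, 1917), (3067, 5167), (3068, 5165), (3069, 5171), (3070, 1918), (3071, 5174)]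
    ⟨e3 q3008 L88452 q1888, e3 q3009 (flp_c L88456) q1889, e3 q3010 L88468 q1978, e3 q3011 L88472 q1891, e3 q3012 (flp_c L88478) q1892, e3 q3013 L88511 q3013, e3 q3014 (flp_c L102168) q4971, e3 q3015 (flp_c L102176) q4972, e3 q3016 (flp_c L88502) q1894, e3 q3017 (flp_c L102844) q5081, e3 q3018 L142678 q4100, e3 q3019 (flp_c L148240) q4116, e3 q3020 (flp_c L119268) q3650, e3 q3021 L148270 q3659, e3 q3022 (flp_c L88550) q2921, e3 q3023 L88554 q1898, e3 q3024 L88558 q1899, e3 q3025 L88562 q1900, e3 q3026 (flp_c L102932) q5086, e3 q3027 (flp_c L102938) q5087, e3 q3028 L102992 q5095, e3 q3029 (flp_c L102946) q5089, e3 q3030 L103010 q5099, e3 q3031 (flp_c L102956) q5091, e3 q3032 L103024 q5103, e3 q3033 (flp_c L88602) q1901, e3 q3034 (flp_c L103038) q5104, e3 q3035 L103046 q5107, e3 q3036 L103056 q5110, e3 q3037 (flp_c L88616) q1903, e3 q3038 (flp_c L103070) q5111, e3 q3039 L103078 q5114, e3 q3040 L103090 q5117, e3 q3041 L88632 q2198, e3 q3042 L103108 q5121, e3 q3043 L88648 q2196, e3 q3044 L119887 q3358, e3 q3045 (flp_c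 L88660) q1907, e3 q3046 (flp_c L103142) q5125, e3 q3047 L103162 q5129, e3 q3048 L129567 q3382, e3 q3049 (flp_c L88674) q1909, e3 q3050 (flp_c L103192) q5132, e3 q3051 L103212 q5136, e3 q3052 (flp_c L120100) q3950, e3 q3053 (flp_c L88686) q1911, e3 q3054 (flp_c L103240) q5141, e3 q3055 (flp_c L119411) q3590, e3 q3056 L88702 q1913, e3 q3057 L103272 q5148, e3 q3058 (flp_c L103264) q5146, e3 q3059 L103282 q5152, e3 q3060 (flp_c L88716) q1914, e3 q3061 (flp_c L103298) q5155, e3 q3062 L148510 q3981, e3 q3063 (flp_c L88726) q1915, e3 q3064 (flp_c L103326) q5160, e3 q3065 L147930 q3613, e3 q3066 L88742 q1917, e3 q3067 L103358 q5167, e3 q3068 (flp_c L103350) q5165, e3 q3069 L103368 q5171, e3 q3070 (flp_c L88756) q1918, e3 q3071 (flp_c L103384) q5174, trivial⟩ (by decide +kernel)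

theorem ce_c_48 : ∀ r, r < 64 → sm gc (Qf (3072 + r)) = Qf (tab Gen.c (3072 + r)) :=
  edges_tab (sm gc) Qf (tab Gen.c) 3072 [(3072, 3072), (3073, 3091), (3074, 1920), (3075, 5180), (3076, 5181), (3077, 3084), (3078, 3340), (3079, 3079), (3080, 3101), (3081, 1924), (3082, 5191), (3083, 5192), (3084, 3077), (3085, 3318), (3086, 5198), (3087, 3087), (3088, 1928), (3089, 5199), (3090, 2235), (3091, 3073), (3092, 1930), (3093, 1931), (3094, 1932), (3095, 5205), (3096, 5206), (3097, 3097), (3098, 1934), (3099, 5207), (3100, 2239), (3101, 3080), (3102, 1936), (3103, 1937), (3104, 1938), (3105, 5213), (3106, 1945), (3107, 2506), (3108, 5215), (3109, 5216), (3110, 2500), (3111, 2501), (3112, 5226), (3113, 5229), (3114, 1950), (3115, 1951), (3116, 5234), (3117, 4139), (3118, 5238), (3119, 4137), (3120, 5242), (3121, 1952), (3122, 5244), (3123, 5247), (3124, 5250), (3125, 1954), (3126, 5252), (3127, 5255), (3128, 2548), (3129, 1956), (3130, 5259), (3131, 5263), (3132, 2558), (3133, 1958), (3134, 5267), (3135, 5271)]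
    ⟨e3 q3072 L88766 q3072, e3 q3073 L88867 q3091, e3 q3074 (flp_c L88773) q1920, e3 q3075 (flp_c L103419) q5180, e3 q3076 (flp_c L103425) q5181, e3 q3077 (flp_c L88818) q3084, e3 q3078 (flp_c L90261) q3340, e3 q3079 L88795 q3079, e3 q3080 L88940 q3101, e3 q3081 (flp_c L88802) q1924, e3 q3082 (flp_c L103478) q5191, e3 q3083 (flp_c L103484) q5192, e3 q3084 L88818 q3077, e3 q3085 (flp_c L90085) q3318, e3 q3086 L103518 q5198, e3 q3087 L88837 q3087, e3 q3088 (flp_c L88841) q1928, e3 q3089 (flp_c L119868) q5199, e3 q3090 L88859 q2235, e3 q3091 (flp_c L88867) q3073, e3 q3092 L88871 q1930, e3 q3093 L88877 q1931, e3 q3094 (flp_c L88885) q1932, e3 q3095 (flp_c L103610) q5205, e3 q3096 L103614 q5206, e3 q3097 L88910 q3097, e3 q3098 (flp_c L88914) q1934, e3 q3099 (flp_c L129619) q5207, e3 q3100 L88932 q2239, e3 q3101 (flp_c L88940) q3080, e3 q3102 L88944 q1936, e3 q3103 L88950 q1937, e3 q3104 (flp_c L88962) q1938, e3 q3105 (flp_c L103708) q5213, e3 q3106 (flp_c L89014) q1945, e3 q3107 (flp_c L89020) q2506, e3 q3108 (flp_c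 L103738) q5215, e3 q3109 (flp_c L103746) q5216, e3 q3110 L89034 q2500, e3 q3111 L89042 q2501, e3 q3112 L103802 q5226, e3 q3113 L103814 q5229, e3 q3114 L89058 q1950, e3 q3115 L89066 q1951, e3 q3116 L103847 q5234, e3 q3117 (flp_c L95326) q4139, e3 q3118 L103871 q5238, e3 q3119 (flp_c L95310) q4137, e3 q3120 L103891 q5242, e3 q3121 (flp_c L89102) q1952, e3 q3122 (flp_c L103905) q5244, e3 q3123 L103919 q5247, e3 q3124 L103933 q5250, e3 q3125 (flp_c L89122) q1954, e3 q3126 (flp_c L103947) q5252, e3 q3127 L103961 q5255, e3 q3128 L96151 q2548, e3 q3129 (flp_c L89140) q1956, e3 q3130 (flp_c L103991) q5259, e3 q3131 L104013 q5263, e3 q3132 L96436 q2558, e3 q3133 (flp_c L89154) q1958, e3 q3134 (flp_c L104041) q5267, e3 q3135 L104067 q5271, trivial⟩ (by decide +kernel)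

theorem ce_c_49 : ∀ r, r < 64 → sm gc (Qf (3136 + r)) = Qf (tab Gen.c (3136 + r)) :=
  edges_tab (sm gc) Qf (tab Gen.c) 3136 [(3136, 5274), (3137, 1960), (3138, 5279), (3139, 4279), (3140, 1962), (3141, 5286), (3142, 5284), (3143, 5290), (3144, 1963), (3145, 5293), (3146, 5296), (3147, 1964), (3148, 5301), (3149, 4330), (3150, 1966), (3151, 5308), (3152, 5306), (3153, 5312), (3154, 1967), (3155, 5315), (3156, 1968), (3157, 5317), (3158, 3179), (3159, 5071), (3160, 5072), (3161, 5328), (3162, 1973), (3163, 5331), (3164, 1972), (3165, 1974), (3166, 5335), (3167, 1976), (3168, 5337), (3169, 3185), (3170, 5075), (3171, 5076), (3172, 5348), (3173, 1981), (3174, 5351), (3175, 1980), (3176, 1982), (3177, 5355), (3178, 3178), (3179, 3158), (3180, 1985), (3181, 5363), (3182, 5364), (3183, 1988), (3184, 3184), (3185, 3169), (3186, 1990), (3187, 5373), (3188, 5374), (3189, 1993), (3190, 3191), (3191, 3190), (3192, 1997), (3193, 1998), (3194, 5380), (3195, 3197), (3196, 5384), (3197, 3195), (3198, 5388), (3199, 1999)]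
    ⟨e3 q3136 L104085 q5274, e3 q3137 (flp_c L89170) q1960, e3 q3138 (flp_c L104109) q5279, e3 q3139 (flp_c L96147) q4279, e3 q3140 L89190 q1962, e3 q3141 L104151 q5286, e3 q3142 (flp_c L104139) q5284, e3 q3143 L104169 q5290, e3 q3144 (flp_c L89212) q1963, e3 q3145 (flp_c L104189) q5293, e3 q3146 L104206 q5296, e3 q3147 (flp_c L89228) q1964, e3 q3148 (flp_c L104230) q5301, e3 q3149 (flp_c L96432) q4330, e3 q3150 L89248 q1966, e3 q3151 L104272 q5308, e3 q3152 (flp_c L104260) q5306, e3 q3153 L104290 q5312, e3 q3154 (flp_c L89270) q1967, e3 q3155 (flp_c L104310) q5315, e3 q3156 (flp_c L89282) q1968, e3 q3157 (flp_c L104327) q5317, e3 q3158 L89423 q3179, e3 q3159 (flp_c L102755) q5071, e3 q3160 (flp_c L102763) q5072, e3 q3161 L104383 q5328, e3 q3162 L89314 q1973, e3 q3163 L104397 q5331, e3 q3164 (flp_c L89330) q1972, e3 q3165 (flp_c L89336) q1974, e3 q3166 L104420 q5335, e3 q3167 (flp_c L89346) q1976, e3 q3168 (flp_c L104432) q5337, e3 q3169 L89464 q3185, e3 q3170 (flp_c L102779) q5075, e3 q3171 (flp_c L102787) q5076,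 e3 q3172 L104488 q5348, e3 q3173 L89378 q1981, e3 q3174 L104504 q5351, e3 q3175 (flp_c L89396) q1980, e3 q3176 (flp_c L89402) q1982, e3 q3177 L104529 q5355, e3 q3178 L89416 q3178, e3 q3179 (flp_c L89423) q3158, e3 q3180 (flp_c L89425) q1985, e3 q3181 L104581 q5363, e3 q3182 L104591 q5364, e3 q3183 (flp_c L89444) q1988, e3 q3184 L89457 q3184, e3 q3185 (flp_c L89464) q3169, e3 q3186 (flp_c L89466) q1990, e3 q3187 L104670 q5373, e3 q3188 L104682 q5374, e3 q3189 (flp_c L89489) q1993, e3 q3190 (flp_c L89536) q3191, e3 q3191 L89536 q3190, e3 q3192 L89586 q1997, e3 q3193 L89592 q1998, e3 q3194 L104813 q5380, e3 q3195 (flp_c L89610) q3197, e3 q3196 L104825 q5384, e3 q3197 L89610 q3195, e3 q3198 L104835 q5388, e3 q3199 (flp_c L89616) q1999, trivial⟩ (by decide +kernel)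

theorem ce_c_50 : ∀ r, r < 64 → sm gc (Qf (3200 + r)) = Qf (tab Gen.c (3200 + r)) :=
  edges_tab (sm gc) Qf (tab Gen.c) 3200 [(3200, 5390), (3201, 5393), (3202, 2000), (3203, 5395), (3204, 5398), (3205, 2001), (3206, 3592), (3207, 2003), (3208, 5405), (3209, 5408), (3210, 2004), (3211, 5411), (3212, 5414), (3213, 2005), (3214, 3614), (3215, 2007), (3216, 5421), (3217, 5424), (3218, 2008), (3219, 5427), (3220, 5429), (3221, 2009), (3222, 5434), (3223, 5435), (3224, 5432), (3225, 2012), (3226, 2011), (3227, 5446), (3228, 5442), (3229, 5443), (3230, 5452), (3231, 2015), (3232, 5456), (3233, 2014), (3234, 5458), (3235, 5461), (3236, 5464), (3237, 2016), (3238, 5469), (3239, 3263), (3240, 2018), (3241, 3261), (3242, 5473), (3243, 2019), (3244, 5478), (3245, 5479), (3246, 5476), (3247, 2022), (3248, 2021), (3249, 5490), (3250, 5486), (3251, 5487), (3252, 5496), (3253, 2025), (3254, 5457), (3255, 2024), (3256, 5468), (3257, 5502), (3258, 5505), (3259, 2026), (3260, 5509), (3261, 3241), (3262, 2028), (3263, 3239)]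
    ⟨e3 q3200 (flp_c L104849) q5390, e3 q3201 L104859 q5393, e3 q3202 (flp_c L89622) q2000, e3 q3203 (flp_c L104873) q5395, e3 q3204 L104883 q5398, e3 q3205 (flp_c L89628) q2001, e3 q3206 (flp_c L119374) q3592, e3 q3207 L89640 q2003, e3 q3208 L104921 q5405, e3 q3209 L104929 q5408, e3 q3210 (flp_c L89648) q2004, e3 q3211 (flp_c L104943) q5411, e3 q3212 L104953 q5414, e3 q3213 (flp_c L89656) q2005, e3 q3214 (flp_c L147990) q3614, e3 q3215 L89668 q2007, e3 q3216 L104985 q5421, e3 q3217 L104993 q5424, e3 q3218 (flp_c L89676) q2008, e3 q3219 (flp_c L105007) q5427, e3 q3220 L105015 q5429, e3 q3221 (flp_c L89684) q2009, e3 q3222 (flp_c L105035) q5434, e3 q3223 (flp_c L105039) q5435, e3 q3224 (flp_c L105029) q5432, e3 q3225 (flp_c L89696) q2012, e3 q3226 L89702 q2011, e3 q3227 L105093 q5446, e3 q3228 (flp_c L105077) q5442, e3 q3229 (flp_c L105083) q5443, e3 q3230 L105123 q5452, e3 q3231 L89724 q2015, e3 q3232 L105135 q5456, e3 q3233 (flp_c L89732) q2014, e3 q3234 (flp_c L105147) q5458, e3 q3235 L105155 q5461, e3 q3236 L105163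 q5464, e3 q3237 (flp_c L89742) q2016, e3 q3238 (flp_c L105179) q5469, e3 q3239 (flp_c L151534) q3263, e3 q3240 L89758 q2018, e3 q3241 L151492 q3261, e3 q3242 L105208 q5473, e3 q3243 (flp_c L89769) q2019, e3 q3244 (flp_c L105228) q5478, e3 q3245 (flp_c L105232) q5479, e3 q3246 (flp_c L105222) q5476, e3 q3247 (flp_c L89781) q2022, e3 q3248 L89787 q2021, e3 q3249 L105286 q5490, e3 q3250 (flp_c L105270) q5486, e3 q3251 (flp_c L105276) q5487, e3 q3252 L105316 q5496, e3 q3253 L89809 q2025, e3 q3254 (flp_c L151520) q5457, e3 q3255 (flp_c L89819) q2024, e3 q3256 (flp_c L151536) q5468, e3 q3257 L105352 q5502, e3 q3258 L105364 q5505, e3 q3259 (flp_c L89833) q2026, e3 q3260 (flp_c L105384) q5509, e3 q3261 (flp_c L151492) q3241, e3 q3262 L89851 q2028, e3 q3263 L151534 q3239, trivial⟩ (by decide +kernel)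

theorem ce_c_51 : ∀ r, r < 64 → sm gc (Qf (3264 + r)) = Qf (tab Gen.c (3264 + r)) :=
  edges_tab (sm gc) Qf (tab Gen.c) 3264 [(3264, 2030), (3265, 3265), (3266, 5513), (3267, 2722), (3268, 5515), (3269, 5516), (3270, 3317), (3271, 5439), (3272, 2033), (3273, 2034), (3274, 5529), (3275, 5534), (3276, 5202), (3277, 5538), (3278, 2035), (3279, 5541), (3280, 3306), (3281, 2037), (3282, 5548), (3283, 3303), (3284, 3330), (3285, 2040), (3286, 5556), (3287, 2042), (3288, 3288), (3289, 5557), (3290, 2774), (3291, 5559), (3292, 5560), (3293, 3339), (3294, 5483), (3295, 2045), (3296, 2046), (3297, 5573), (3298, 5578), (3299, 5210), (3300, 5582), (3301, 2047), (3302, 5585), (3303, 3283), (3304, 2049), (3305, 5592), (3306, 3280), (3307, 3352), (3308, 2052), (3309, 5600), (3310, 3310), (3311, 2054), (3312, 2085), (3313, 4492), (3314, 2086), (3315, 2087), (3316, 2088), (3317, 3270), (3318, 3085), (3319, 5179), (3320, 2059), (3321, 5623), (3322, 2061), (3323, 5626), (3324, 5621), (3325, 5627), (3326, 2060), (3327, 2065)]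
    ⟨e3 q3264 L89864 q2030, e3 q3265 L89872 q3265, e3 q3266 (flp_c L105419) q5513, e3 q3267 (flp_c L119650) q2722, e3 q3268 (flp_c L105427) q5515, e3 q3269 (flp_c L105432) q5516, e3 q3270 (flp_c L90079) q3317, e3 q3271 L105061 q5439, e3 q3272 L89891 q2033, e3 q3273 L89895 q2034, e3 q3274 (flp_c L105493) q5529, e3 q3275 L105517 q5534, e3 q3276 (flp_c L103584) q5202, e3 q3277 L105529 q5538, e3 q3278 (flp_c L89917) q2035, e3 q3279 (flp_c L105545) q5541, e3 q3280 (flp_c L90029) q3306, e3 q3281 (flp_c L89925) q2037, e3 q3282 L105573 q5548, e3 q3283 (flp_c L90013) q3303, e3 q3284 L90211 q3330, e3 q3285 (flp_c L89944) q2040, e3 q3286 (flp_c L105601) q5556, e3 q3287 L89952 q2042, e3 q3288 L89960 q3288, e3 q3289 (flp_c L105606) q5557, e3 q3290 L149858 q2774, e3 q3291 (flp_c L105614) q5559, e3 q3292 (flp_c L105620) q5560, e3 q3293 (flp_c L90255) q3339, e3 q3294 L105254 q5483, e3 q3295 L89979 q2045, e3 q3296 L89983 q2046, e3 q3297 (flp_c L105680) q5573, e3 q3298 L105704 q5578, e3 q3299 (flp_c L103680) q5210, e3 q3300 L105716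 q5582, e3 q3301 (flp_c L90005) q2047, e3 q3302 (flp_c L105732) q5585, e3 q3303 L90013 q3283, e3 q3304 (flp_c L90015) q2049, e3 q3305 L105768 q5592, e3 q3306 L90029 q3280, e3 q3307 L90395 q3352, e3 q3308 (flp_c L90036) q2052, e3 q3309 (flp_c L105802) q5600, e3 q3310 L90046 q3310, e3 q3311 L90051 q2054, e3 q3312 L90055 q2085, e3 q3313 (flp_c L119652) q4492, e3 q3314 L90065 q2086, e3 q3315 L90069 q2087, e3 q3316 L90073 q2088, e3 q3317 L90079 q3270, e3 q3318 L90085 q3085, e3 q3319 (flp_c L119859) q5179, e3 q3320 L90093 q2059, e3 q3321 L105953 q5623, e3 q3322 L90103 q2061, e3 q3323 L105971 q5626, e3 q3324 (flp_c L105945) q5621, e3 q3325 L105993 q5627, e3 q3326 (flp_c L90133) q2060, e3 q3327 (flp_c L90167) q2065, trivial⟩ (by decide +kernel)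

theorem ce_c_52 : ∀ r, r < 64 → sm gc (Qf (3328 + r)) = Qf (tab Gen.c (3328 + r)) :=
  edges_tab (sm gc) Qf (tab Gen.c) 3328 [(3328, 2066), (3329, 2096), (3330, 3284), (3331, 2068), (3332, 3332), (3333, 2070), (3334, 2098), (3335, 4528), (3336, 2099), (3337, 2100), (3338, 2101), (3339, 3293), (3340, 3078), (3341, 5190), (3342, 2075), (3343, 5656), (3344, 2077), (3345, 5659), (3346, 5654), (3347, 5660), (3348, 2076), (3349, 2081), (3350, 2082), (3351, 2109), (3352, 3307), (3353, 2084), (3354, 5671), (3355, 5607), (3356, 5608), (3357, 5609), (3358, 3044), (3359, 3568), (3360, 5612), (3361, 5613), (3362, 5682), (3363, 5615), (3364, 3401), (3365, 5686), (3366, 5689), (3367, 2091), (3368, 5692), (3369, 2092), (3370, 2093), (3371, 5697), (3372, 2095), (3373, 5632), (3374, 5634), (3375, 5635), (3376, 5636), (3377, 3388), (3378, 5710), (3379, 5644), (3380, 5645), (3381, 5646), (3382, 3048), (3383, 5614), (3384, 3578), (3385, 5679), (3386, 5620), (3387, 5649), (3388, 3377), (3389, 5683), (3390, 5724), (3391, 2104)]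
    ⟨e3 q3328 (flp_c L90188) q2066, e3 q3329 L90204 q2096, e3 q3330 (flp_c L90211) q3284, e3 q3331 L90215 q2068, e3 q3332 L90222 q3332, e3 q3333 L90227 q2070, e3 q3334 L90231 q2098, e3 q3335 (flp_c L149847) q4528, e3 q3336 L90241 q2099, e3 q3337 L90245 q2100, e3 q3338 L90249 q2101, e3 q3339 L90255 q3293, e3 q3340 L90261 q3078, e3 q3341 (flp_c L129610) q5190, e3 q3342 L90269 q2075, e3 q3343 L106272 q5656, e3 q3344 L90279 q2077, e3 q3345 L106290 q5659, e3 q3346 (flp_c L106264) q5654, e3 q3347 L106312 q5660, e3 q3348 (flp_c L90309) q2076, e3 q3349 (flp_c L90347) q2081, e3 q3350 (flp_c L90372) q2082, e3 q3351 L90388 q2109, e3 q3352 (flp_c L90395) q3307, e3 q3353 L90399 q2084, e3 q3354 (flp_c L120505) q5671, e3 q3355 (flp_c L105843) q5607, e3 q3356 (flp_c L105849) q5608, e3 q3357 (flp_c L105855) q5609, e3 q3358 (flp_c L119887) q3044, e3 q3359 L119566 q3568, e3 q3360 (flp_c L105885) q5612, e3 q3361 (flp_c L105891) q5613, e3 q3362 L106689 q5682, e3 q3363 (flp_c L105903) q5615, e3 q3364 (flp_c L90850) q3401, e3 q3365 L106705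 q5686, e3 q3366 L106717 q5689, e3 q3367 (flp_c L90652) q2091, e3 q3368 (flp_c L106733) q5692, e3 q3369 (flp_c L90664) q2092, e3 q3370 (flp_c L90676) q2093, e3 q3371 L106783 q5697, e3 q3372 L90692 q2095, e3 q3373 (flp_c L106093) q5632, e3 q3374 (flp_c L106103) q5634, e3 q3375 (flp_c L106107) q5635, e3 q3376 (flp_c L106112) q5636, e3 q3377 (flp_c L90764) q3388, e3 q3378 (flp_c L149650) q5710, e3 q3379 (flp_c L106162) q5644, e3 q3380 (flp_c L106168) q5645, e3 q3381 (flp_c L106174) q5646, e3 q3382 (flp_c L129567) q3048, e3 q3383 (flp_c L147894) q5614, e3 q3384 L148079 q3578, e3 q3385 (flp_c L150512) q5679, e3 q3386 (flp_c L149291) q5620, e3 q3387 (flp_c L106222) q5649, e3 q3388 L90764 q3377, e3 q3389 (flp_c L150584) q5683, e3 q3390 L106951 q5724, e3 q3391 (flp_c L90776) q2104, trivial⟩ (by decide +kernel)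

theorem ce_c_53 : ∀ r, r < 64 → sm gc (Qf (3392 + r)) = Qf (tab Gen.c (3392 + r)) :=
  edges_tab (sm gc) Qf (tab Gen.c) 3392 [(3392, 5727), (3393, 2105), (3394, 2106), (3395, 5696), (3396, 2108), (3397, 5665), (3398, 5667), (3399, 5668), (3400, 5669), (3401, 3364), (3402, 2116), (3403, 2118), (3404, 2119), (3405, 5082), (3406, 2127), (3407, 2128), (3408, 2113), (3409, 5752), (3410, 5753), (3411, 2134), (3412, 2136), (3413, 2243), (3414, 5743), (3415, 5744), (3416, 2245), (3417, 2246), (3418, 3418), (3419, 5745), (3420, 3420), (3421, 5746), (3422, 2151), (3423, 2152), (3424, 5775), (3425, 5778), (3426, 3426), (3427, 3427), (3428, 3428), (3429, 3429), (3430, 4429), (3431, 2300), (3432, 2301), (3433, 2126), (3434, 5792), (3435, 5793), (3436, 5794), (3437, 5796), (3438, 5798), (3439, 2130), (3440, 2131), (3441, 2132), (3442, 5802), (3443, 5803), (3444, 4103), (3445, 5804), (3446, 4119), (3447, 5805), (3448, 3448), (3449, 3449), (3450, 5816), (3451, 3451), (3452, 3452), (3453, 5820), (3454, 5823), (3455, 5826)]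
    ⟨e3 q3392 (flp_c L106967) q5727, e3 q3393 (flp_c L90790) q2105, e3 q3394 (flp_c L90802) q2106, e3 q3395 (flp_c L106773) q5696, e3 q3396 L90818 q2108, e3 q3397 (flp_c L106416) q5665, e3 q3398 (flp_c L106426) q5667, e3 q3399 (flp_c L106430) q5668, e3 q3400 (flp_c L106434) q5669, e3 q3401 L90850 q3364, e3 q3402 L90892 q2116, e3 q3403 L90902 q2118, e3 q3404 L90911 q2119, e3 q3405 (flp_c L102908) q5082, e3 q3406 L90930 q2127, e3 q3407 L90936 q2128, e3 q3408 (flp_c L90938) q2113, e3 q3409 (flp_c L107156) q5752, e3 q3410 (flp_c L107162) q5753, e3 q3411 L90959 q2134, e3 q3412 L90967 q2136, e3 q3413 L90975 q2243, e3 q3414 (flp_c L107089) q5743, e3 q3415 (flp_c L107099) q5744, e3 q3416 L90995 q2245, e3 q3417 L91003 q2246, e3 q3418 L91013 q3418, e3 q3419 (flp_c L107107) q5745, e3 q3420 L91026 q3420, e3 q3421 (flp_c L107119) q5746, e3 q3422 L91041 q2151, e3 q3423 L91051 q2152, e3 q3424 L107316 q5775, e3 q3425 L107332 q5778, e3 q3426 L91067 q3426, e3 q3427 L91072 q3427, e3 q3428 L91077 q3428, e3 q3429 L91082 q3429, e3 q3430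 L96955 q4429, e3 q3431 L91097 q2300, e3 q3432 L91103 q2301, e3 q3433 (flp_c L91105) q2126, e3 q3434 (flp_c L107421) q5792, e3 q3435 (flp_c L107427) q5793, e3 q3436 L107439 q5794, e3 q3437 L107445 q5796, e3 q3438 L107449 q5798, e3 q3439 L91133 q2130, e3 q3440 L91137 q2131, e3 q3441 L91141 q2132, e3 q3442 (flp_c L107473) q5802, e3 q3443 (flp_c L107479) q5803, e3 q3444 (flp_c L120335) q4103, e3 q3445 (flp_c L107489) q5804, e3 q3446 (flp_c L148591) q4119, e3 q3447 (flp_c L107501) q5805, e3 q3448 L91183 q3448, e3 q3449 L91188 q3449, e3 q3450 L107583 q5816, e3 q3451 L91193 q3451, e3 q3452 L91198 q3452, e3 q3453 L107597 q5820, e3 q3454 L107609 q5823, e3 q3455 L107623 q5826, trivial⟩ (by decide +kernel)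

theorem ce_c_54 : ∀ r, r < 64 → sm gc (Qf (3456 + r)) = Qf (tab Gen.c (3456 + r)) :=
  edges_tab (sm gc) Qf (tab Gen.c) 3456 [(3456, 5829), (3457, 2139), (3458, 5831), (3459, 5834), (3460, 2140), (3461, 5836), (3462, 4759), (3463, 3463), (3464, 3464), (3465, 4797), (3466, 3466), (3467, 3467), (3468, 5847), (3469, 5850), (3470, 5853), (3471, 2147), (3472, 5855), (3473, 5858), (3474, 5861), (3475, 2149), (3476, 5863), (3477, 5866), (3478, 2673), (3479, 3481), (3480, 2692), (3481, 3479), (3482, 2532), (3483, 2153), (3484, 5875), (3485, 5879), (3486, 2540), (3487, 2155), (3488, 5884), (3489, 5888), (3490, 5891), (3491, 2157), (3492, 5896), (3493, 5898), (3494, 2159), (3495, 5903), (3496, 5901), (3497, 5907), (3498, 2160), (3499, 5910), (3500, 5913), (3501, 2161), (3502, 5918), (3503, 5920), (3504, 2163), (3505, 5925), (3506, 5923), (3507, 5929), (3508, 2164), (3509, 5932), (3510, 2287), (3511, 2166), (3512, 5936), (3513, 2293), (3514, 2169), (3515, 5940), (3516, 5942), (3517, 2172), (3518, 5945), (3519, 2174)]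
    ⟨e3 q3456 L107637 q5829, e3 q3457 (flp_c L91213) q2139, e3 q3458 (flp_c L107655) q5831, e3 q3459 L107669 q5834, e3 q3460 (flp_c L91225) q2140, e3 q3461 (flp_c L107687) q5836, e3 q3462 (flp_c L120532) q4759, e3 q3463 L91239 q3463, e3 q3464 L91246 q3464, e3 q3465 (flp_c L112156) q4797, e3 q3466 L91255 q3466, e3 q3467 L91262 q3467, e3 q3468 L107737 q5847, e3 q3469 L107761 q5850, e3 q3470 L107779 q5853, e3 q3471 (flp_c L91287) q2147, e3 q3472 (flp_c L107795) q5855, e3 q3473 L107809 q5858, e3 q3474 L107825 q5861, e3 q3475 (flp_c L91309) q2149, e3 q3476 (flp_c L107841) q5863, e3 q3477 L107859 q5866, e3 q3478 (flp_c L91635) q2673, e3 q3479 (flp_c L91355) q3481, e3 q3480 (flp_c L150345) q2692, e3 q3481 L91355 q3479, e3 q3482 L91646 q2532, e3 q3483 (flp_c L91367) q2153, e3 q3484 (flp_c L107943) q5875, e3 q3485 L107965 q5879, e3 q3486 L150312 q2540, e3 q3487 (flp_c L91381) q2155, e3 q3488 (flp_c L107993) q5884, e3 q3489 L108013 q5888, e3 q3490 L108027 q5891, e3 q3491 (flp_c L91395) q2157, e3 q3492 (flp_c L108051) q5896,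 e3 q3493 L108061 q5898, e3 q3494 L91415 q2159, e3 q3495 L108091 q5903, e3 q3496 (flp_c L108079) q5901, e3 q3497 L108109 q5907, e3 q3498 (flp_c L91437) q2160, e3 q3499 (flp_c L108129) q5910, e3 q3500 L108146 q5913, e3 q3501 (flp_c L91453) q2161, e3 q3502 (flp_c L108170) q5918, e3 q3503 L108180 q5920, e3 q3504 L91473 q2163, e3 q3505 L108210 q5925, e3 q3506 (flp_c L108198) q5923, e3 q3507 L108228 q5929, e3 q3508 (flp_c L91495) q2164, e3 q3509 (flp_c L108248) q5932, e3 q3510 L91509 q2287, e3 q3511 (flp_c L91515) q2166, e3 q3512 L108272 q5936, e3 q3513 L91527 q2293, e3 q3514 (flp_c L91533) q2169, e3 q3515 L108291 q5940, e3 q3516 L108299 q5942, e3 q3517 (flp_c L91550) q2172, e3 q3518 L108330 q5945, e3 q3519 (flp_c L91566) q2174, trivial⟩ (by decide +kernel)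

theorem ce_c_55 : ∀ r, r < 64 → sm gc (Qf (3520 + r)) = Qf (tab Gen.c (3520 + r)) :=
  edges_tab (sm gc) Qf (tab Gen.c) 3520 [(3520, 3644), (3521, 3653), (3522, 2675), (3523, 2177), (3524, 4489), (3525, 2695), (3526, 2178), (3527, 4523), (3528, 3646), (3529, 2179), (3530, 5952), (3531, 5955), (3532, 3655), (3533, 2181), (3534, 5957), (3535, 5960), (3536, 5604), (3537, 2183), (3538, 2950), (3539, 2185), (3540, 5969), (3541, 5972), (3542, 2186), (3543, 5975), (3544, 5641), (3545, 2187), (3546, 2951), (3547, 2189), (3548, 5984), (3549, 5987), (3550, 2190), (3551, 5990), (3552, 3554), (3553, 3557), (3554, 3552), (3555, 2193), (3556, 5995), (3557, 3553), (3558, 2194), (3559, 5997), (3560, 3647), (3561, 2195), (3562, 5999), (3563, 6002), (3564, 3657), (3565, 2197), (3566, 6005), (3567, 6008), (3568, 3359), (3569, 2199), (3570, 6010), (3571, 5379), (3572, 2201), (3573, 6017), (3574, 6015), (3575, 6021), (3576, 2202), (3577, 6024), (3578, 3384), (3579, 2203), (3580, 6026), (3581, 5383), (3582, 2205), (3583, 6033)]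
    ⟨e3 q3520 L119680 q3644, e3 q3521 (flp_c L147847) q3653, e3 q3522 (flp_c L91627) q2675, e3 q3523 (flp_c L91650) q2177, e3 q3524 (flp_c L97232) q4489, e3 q3525 L150023 q2695, e3 q3526 (flp_c L91662) q2178, e3 q3527 (flp_c L150366) q4523, e3 q3528 (flp_c L119686) q3646, e3 q3529 (flp_c L91674) q2179, e3 q3530 (flp_c L108505) q5952, e3 q3531 L108517 q5955, e3 q3532 L148104 q3655, e3 q3533 (flp_c L91692) q2181, e3 q3534 (flp_c L108541) q5957, e3 q3535 L108557 q5960, e3 q3536 (flp_c L119568) q5604, e3 q3537 (flp_c L91708) q2183, e3 q3538 L119035 q2950, e3 q3539 L91722 q2185, e3 q3540 L108617 q5969, e3 q3541 L108625 q5972, e3 q3542 (flp_c L91730) q2186, e3 q3543 (flp_c L108641) q5975, e3 q3544 (flp_c L148070) q5641, e3 q3545 (flp_c L91740) q2187, e3 q3546 L147561 q2951, e3 q3547 L91754 q2189, e3 q3548 L108689 q5984, e3 q3549 L108697 q5987, e3 q3550 (flp_c L91762) q2190, e3 q3551 (flp_c L108713) q5990, e3 q3552 (flp_c L118963) q3554, e3 q3553 L148187 q3557, e3 q3554 L118963 q3552, e3 q3555 (flp_c L91790) q2193, e3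 q3556 (flp_c L108787) q5995, e3 q3557 (flp_c L148187) q3553, e3 q3558 (flp_c L91802) q2194, e3 q3559 (flp_c L108821) q5997, e3 q3560 L119493 q3647, e3 q3561 (flp_c L91816) q2195, e3 q3562 (flp_c L108859) q5999, e3 q3563 L108883 q6002, e3 q3564 (flp_c L148126) q3657, e3 q3565 (flp_c L91832) q2197, e3 q3566 (flp_c L108917) q6005, e3 q3567 L108941 q6008, e3 q3568 (flp_c L119566) q3359, e3 q3569 (flp_c L91848) q2199, e3 q3570 (flp_c L108975) q6010, e3 q3571 (flp_c L119012) q5379, e3 q3572 L91864 q2201, e3 q3573 L109007 q6017, e3 q3574 (flp_c L108997) q6015, e3 q3575 L109023 q6021, e3 q3576 (flp_c L91884) q2202, e3 q3577 (flp_c L109039) q6024, e3 q3578 (flp_c L148079) q3384, e3 q3579 (flp_c L91896) q2203, e3 q3580 (flp_c L109073) q6026, e3 q3581 (flp_c L148189) q5383, e3 q3582 L91912 q2205, e3 q3583 L109105 q6033, trivial⟩ (by decide +kernel)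

theorem ce_c_56 : ∀ r, r < 64 → sm gc (Qf (3584 + r)) = Qf (tab Gen.c (3584 + r)) :=
  edges_tab (sm gc) Qf (tab Gen.c) 3584 [(3584, 6031), (3585, 6037), (3586, 2206), (3587, 6040), (3588, 4762), (3589, 2207), (3590, 3055), (3591, 6043), (3592, 3206), (3593, 6047), (3594, 2209), (3595, 6052), (3596, 2210), (3597, 6054), (3598, 6055), (3599, 2213), (3600, 6060), (3601, 2212), (3602, 6062), (3603, 6065), (3604, 6068), (3605, 2214), (3606, 6073), (3607, 6075), (3608, 2216), (3609, 6078), (3610, 4800), (3611, 2217), (3612, 6081), (3613, 3065), (3614, 3214), (3615, 6085), (3616, 2219), (3617, 6090), (3618, 2220), (3619, 6092), (3620, 6093), (3621, 2223), (3622, 6098), (3623, 2222), (3624, 6100), (3625, 6103), (3626, 6106), (3627, 2224), (3628, 6111), (3629, 6113), (3630, 2226), (3631, 6116), (3632, 2948), (3633, 2228), (3634, 2376), (3635, 3652), (3636, 2230), (3637, 6126), (3638, 2949), (3639, 2232), (3640, 2362), (3641, 3661), (3642, 2234), (3643, 6135), (3644, 3520), (3645, 6138), (3646, 3528), (3647, 3560)]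
    ⟨e3 q3584 (flp_c L109095) q6031, e3 q3585 L109121 q6037, e3 q3586 (flp_c L91932) q2206, e3 q3587 (flp_c L109137) q6040, e3 q3588 (flp_c L119839) q4762, e3 q3589 (flp_c L91942) q2207, e3 q3590 L119411 q3055, e3 q3591 (flp_c L109171) q6043, e3 q3592 L119374 q3206, e3 q3593 L109197 q6047, e3 q3594 L91958 q2209, e3 q3595 L109219 q6052, e3 q3596 (flp_c L91964) q2210, e3 q3597 (flp_c L109237) q6054, e3 q3598 (flp_c L109241) q6055, e3 q3599 L91978 q2213, e3 q3600 L109259 q6060, e3 q3601 (flp_c L91986) q2212, e3 q3602 (flp_c L109271) q6062, e3 q3603 L109279 q6065, e3 q3604 L109287 q6068, e3 q3605 (flp_c L91996) q2214, e3 q3606 (flp_c L109303) q6073, e3 q3607 L109313 q6075, e3 q3608 L92012 q2216, e3 q3609 (flp_c L109328) q6078, e3 q3610 (flp_c L112135) q4800, e3 q3611 (flp_c L92023) q2217, e3 q3612 (flp_c L109356) q6081, e3 q3613 (flp_c L147930) q3065, e3 q3614 L147990 q3214, e3 q3615 L109386 q6085, e3 q3616 L92039 q2219, e3 q3617 L109408 q6090, e3 q3618 (flp_c L92045) q2220, e3 q3619 (flp_c L109426) q6092, e3 q3620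 (flp_c L109430) q6093, e3 q3621 L92059 q2223, e3 q3622 L109448 q6098, e3 q3623 (flp_c L92067) q2222, e3 q3624 (flp_c L109460) q6100, e3 q3625 L109468 q6103, e3 q3626 L109478 q6106, e3 q3627 (flp_c L92077) q2224, e3 q3628 (flp_c L109494) q6111, e3 q3629 L109500 q6113, e3 q3630 L92093 q2226, e3 q3631 (flp_c L109515) q6116, e3 q3632 L119045 q2948, e3 q3633 L92108 q2228, e3 q3634 L92116 q2376, e3 q3635 L92222 q3652, e3 q3636 (flp_c L92123) q2230, e3 q3637 (flp_c L109579) q6126, e3 q3638 (flp_c L147528) q2949, e3 q3639 L92135 q2232, e3 q3640 L92143 q2362, e3 q3641 L92295 q3661, e3 q3642 (flp_c L92150) q2234, e3 q3643 (flp_c L109638) q6135, e3 q3644 (flp_c L119680) q3520, e3 q3645 L109659 q6138, e3 q3646 L119686 q3528, e3 q3647 (flp_c L119493) q3560, trivial⟩ (by decide +kernel)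

theorem ce_c_57 : ∀ r, r < 64 → sm gc (Qf (3648 + r)) = Qf (tab Gen.c (3648 + r)) :=
  edges_tab (sm gc) Qf (tab Gen.c) 3648 [(3648, 5200), (3649, 2822), (3650, 3020), (3651, 5204), (3652, 3635), (3653, 3521), (3654, 6151), (3655, 3532), (3656, 5208), (3657, 3564), (3658, 2842), (3659, 3021), (3660, 5212), (3661, 3641), (3662, 5758), (3663, 5759), (3664, 4945), (3665, 4946), (3666, 3675), (3667, 5763), (3668, 3678), (3669, 5765), (3670, 4942), (3671, 2248), (3672, 2249), (3673, 6178), (3674, 6181), (3675, 3666), (3676, 2250), (3677, 6186), (3678, 3668), (3679, 2251), (3680, 6190), (3681, 6191), (3682, 2255), (3683, 6194), (3684, 2257), (3685, 6198), (3686, 2254), (3687, 6200), (3688, 6203), (3689, 6206), (3690, 2256), (3691, 6208), (3692, 6211), (3693, 6214), (3694, 2258), (3695, 6219), (3696, 2260), (3697, 6224), (3698, 6227), (3699, 2261), (3700, 6230), (3701, 6233), (3702, 2262), (3703, 6238), (3704, 2264), (3705, 6243), (3706, 6246), (3707, 2265), (3708, 6249), (3709, 4961), (3710, 2266), (3711, 6255)]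
    ⟨e3 q3648 (flp_c L103570) q5200, e3 q3649 L92176 q2822, e3 q3650 L119268 q3020, e3 q3651 (flp_c L103604) q5204, e3 q3652 (flp_c L92222) q3635, e3 q3653 L147847 q3521, e3 q3654 L109790 q6151, e3 q3655 (flp_c L148104) q3532, e3 q3656 (flp_c L103660) q5208, e3 q3657 L148126 q3564, e3 q3658 L92249 q2842, e3 q3659 (flp_c L148270) q3021, e3 q3660 (flp_c L103702) q5212, e3 q3661 (flp_c L92295) q3641, e3 q3662 (flp_c L107194) q5758, e3 q3663 (flp_c L107204) q5759, e3 q3664 (flp_c L101875) q4945, e3 q3665 (flp_c L101885) q4946, e3 q3666 L92507 q3675, e3 q3667 (flp_c L107228) q5763, e3 q3668 L150289 q3678, e3 q3669 (flp_c L107248) q5765, e3 q3670 (flp_c L101861) q4942, e3 q3671 L92477 q2248, e3 q3672 L92486 q2249, e3 q3673 L110158 q6178, e3 q3674 L110174 q6181, e3 q3675 (flp_c L92507) q3666, e3 q3676 (flp_c L92509) q2250, e3 q3677 (flp_c L110212) q6186, e3 q3678 (flp_c L150289) q3668, e3 q3679 (flp_c L92525) q2251, e3 q3680 (flp_c L110242) q6190, e3 q3681 L110256 q6191, e3 q3682 L92541 q2255, e3 q3683 L110282 q6194, e3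 q3684 L92558 q2257, e3 q3685 L110305 q6198, e3 q3686 (flp_c L92573) q2254, e3 q3687 (flp_c L110319) q6200, e3 q3688 L110337 q6203, e3 q3689 L110355 q6206, e3 q3690 (flp_c L92599) q2256, e3 q3691 (flp_c L110369) q6208, e3 q3692 L110387 q6211, e3 q3693 L110403 q6214, e3 q3694 (flp_c L92621) q2258, e3 q3695 L110427 q6219, e3 q3696 L92635 q2260, e3 q3697 L110451 q6224, e3 q3698 L110467 q6227, e3 q3699 (flp_c L92649) q2261, e3 q3700 (flp_c L110487) q6230, e3 q3701 L110503 q6233, e3 q3702 (flp_c L92663) q2262, e3 q3703 L110527 q6238, e3 q3704 L92677 q2264, e3 q3705 L110551 q6243, e3 q3706 L110567 q6246, e3 q3707 (flp_c L92691) q2265, e3 q3708 (flp_c L110587) q6249, e3 q3709 L101991 q4961, e3 q3710 (flp_c L92707) q2266, e3 q3711 (flp_c L110623) q6255, trivial⟩ (by decide +kernel)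

theorem ce_c_58 : ∀ r, r < 64 → sm gc (Qf (3712 + r)) = Qf (tab Gen.c (3712 + r)) :=
  edges_tab (sm gc) Qf (tab Gen.c) 3712 [(3712, 6257), (3713, 2268), (3714, 6261), (3715, 4964), (3716, 2269), (3717, 6267), (3718, 6269), (3719, 2271), (3720, 6273), (3721, 2272), (3722, 6275), (3723, 6276), (3724, 2568), (3725, 6283), (3726, 2274), (3727, 6288), (3728, 2275), (3729, 6291), (3730, 6292), (3731, 3766), (3732, 2277), (3733, 6300), (3734, 2278), (3735, 6302), (3736, 6303), (3737, 2591), (3738, 6310), (3739, 2280), (3740, 6315), (3741, 2281), (3742, 6318), (3743, 6319), (3744, 3756), (3745, 2283), (3746, 6327), (3747, 3747), (3748, 6333), (3749, 3749), (3750, 3750), (3751, 3771), (3752, 5938), (3753, 4391), (3754, 6344), (3755, 3765), (3756, 3744), (3757, 3757), (3758, 6353), (3759, 3759), (3760, 3760), (3761, 3776), (3762, 5934), (3763, 4407), (3764, 6364), (3765, 3755), (3766, 3731), (3767, 2616), (3768, 6373), (3769, 2617), (3770, 2579), (3771, 3751), (3772, 2626), (3773, 6383), (3774, 2602), (3775, 2627)]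
    ⟨e3 q3712 L110635 q6257, e3 q3713 L92728 q2268, e3 q3714 (flp_c L110655) q6261, e3 q3715 L102015 q4964, e3 q3716 (flp_c L92748) q2269, e3 q3717 (flp_c L110691) q6267, e3 q3718 L110703 q6269, e3 q3719 L92769 q2271, e3 q3720 (flp_c L110723) q6273, e3 q3721 (flp_c L92789) q2272, e3 q3722 (flp_c L110739) q6275, e3 q3723 (flp_c L110747) q6276, e3 q3724 L92803 q2568, e3 q3725 L110797 q6283, e3 q3726 L92815 q2274, e3 q3727 L110825 q6288, e3 q3728 (flp_c L92825) q2275, e3 q3729 (flp_c L110845) q6291, e3 q3730 (flp_c L110849) q6292, e3 q3731 (flp_c L93031) q3766, e3 q3732 L92847 q2277, e3 q3733 L110891 q6300, e3 q3734 L102019 q2278, e3 q3735 (flp_c L110905) q6302, e3 q3736 (flp_c L110913) q6303, e3 q3737 L102082 q2591, e3 q3738 L110965 q6310, e3 q3739 L92887 q2280, e3 q3740 L110993 q6315, e3 q3741 (flp_c L92897) q2281, e3 q3742 (flp_c L111013) q6318, e3 q3743 (flp_c L111017) q6319, e3 q3744 (flp_c L92976) q3756, e3 q3745 L92919 q2283, e3 q3746 L111059 q6327, e3 q3747 L92931 q3747, e3 q3748 L111095 q6333, e3 q3749 L92940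 q3749, e3 q3750 L92945 q3750, e3 q3751 (flp_c L93067) q3771, e3 q3752 (flp_c L108284) q5938, e3 q3753 (flp_c L96673) q4391, e3 q3754 L111153 q6344, e3 q3755 (flp_c L93025) q3765, e3 q3756 L92976 q3744, e3 q3757 L92984 q3757, e3 q3758 L111211 q6353, e3 q3759 L92993 q3759, e3 q3760 L92998 q3760, e3 q3761 (flp_c L93105) q3776, e3 q3762 (flp_c L108265) q5934, e3 q3763 (flp_c L96772) q4407, e3 q3764 L111269 q6364, e3 q3765 L93025 q3755, e3 q3766 L93031 q3731, e3 q3767 L93039 q2616, e3 q3768 L111325 q6373, e3 q3769 L93049 q2617, e3 q3770 L93057 q2579, e3 q3771 L93067 q3751, e3 q3772 L93077 q2626, e3 q3773 L111389 q6383, e3 q3774 L93087 q2602, e3 q3775 L93095 q2627, trivial⟩ (by decide +kernel)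

theorem ce_c_59 : ∀ r, r < 64 → sm gc (Qf (3776 + r)) = Qf (tab Gen.c (3776 + r)) :=
  edges_tab (sm gc) Qf (tab Gen.c) 3776 [(3776, 3761), (3777, 6389), (3778, 6391), (3779, 3787), (3780, 2305), (3781, 3790), (3782, 2307), (3783, 3788), (3784, 6400), (3785, 3791), (3786, 6402), (3787, 3779), (3788, 3783), (3789, 2310), (3790, 3781), (3791, 3785), (3792, 2313), (3793, 6405), (3794, 2314), (3795, 6408), (3796, 6409), (3797, 6406), (3798, 4497), (3799, 2316), (3800, 6417), (3801, 6418), (3802, 6422), (3803, 6425), (3804, 2318), (3805, 6427), (3806, 6428), (3807, 2319), (3808, 6431), (3809, 6432), (3810, 2321), (3811, 6435), (3812, 6436), (3813, 2322), (3814, 6439), (3815, 6440), (3816, 6437), (3817, 4532), (3818, 2324), (3819, 6448), (3820, 6449), (3821, 6453), (3822, 6456), (3823, 2326), (3824, 6458), (3825, 6459), (3826, 2327), (3827, 6462), (3828, 6463), (3829, 2329), (3830, 6466), (3831, 2331), (3832, 2332), (3833, 3835), (3834, 6468), (3835, 3833), (3836, 3836), (3837, 2711), (3838, 2712), (3839, 4591)]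
    ⟨e3 q3776 L93105 q3761, e3 q3777 L111429 q6389, e3 q3778 L111441 q6391, e3 q3779 (flp_c L93173) q3787, e3 q3780 L93129 q2305, e3 q3781 L150258 q3790, e3 q3782 L93139 q2307, e3 q3783 (flp_c L93179) q3788, e3 q3784 L111483 q6400, e3 q3785 L150144 q3791, e3 q3786 L111509 q6402, e3 q3787 L93173 q3779, e3 q3788 L93179 q3783, e3 q3789 L93189 q2310, e3 q3790 (flp_c L150258) q3781, e3 q3791 (flp_c L150144) q3785, e3 q3792 L93215 q2313, e3 q3793 L111567 q6405, e3 q3794 (flp_c L93229) q2314, e3 q3795 (flp_c L111581) q6408, e3 q3796 (flp_c L111585) q6409, e3 q3797 (flp_c L111573) q6406, e3 q3798 L97272 q4497, e3 q3799 (flp_c L93249) q2316, e3 q3800 (flp_c L111633) q6417, e3 q3801 (flp_c L111639) q6418, e3 q3802 L111655 q6422, e3 q3803 L111669 q6425, e3 q3804 (flp_c L93269) q2318, e3 q3805 (flp_c L111681) q6427, e3 q3806 L111683 q6428, e3 q3807 (flp_c L93281) q2319, e3 q3808 (flp_c L111697) q6431, e3 q3809 L111701 q6432, e3 q3810 L93301 q2321, e3 q3811 (flp_c L111717) q6435, e3 q3812 L111721 q6436, e3 q3813 (flp_c L93315)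 q2322, e3 q3814 (flp_c L111733) q6439, e3 q3815 (flp_c L111737) q6440, e3 q3816 (flp_c L111727) q6437, e3 q3817 L97443 q4532, e3 q3818 (flp_c L93335) q2324, e3 q3819 (flp_c L111779) q6448, e3 q3820 (flp_c L111785) q6449, e3 q3821 L111801 q6453, e3 q3822 L111815 q6456, e3 q3823 (flp_c L93355) q2326, e3 q3824 (flp_c L111827) q6458, e3 q3825 L111829 q6459, e3 q3826 (flp_c L93367) q2327, e3 q3827 (flp_c L111843) q6462, e3 q3828 L111847 q6463, e3 q3829 L93387 q2329, e3 q3830 (flp_c L111859) q6466, e3 q3831 L93401 q2331, e3 q3832 L93409 q2332, e3 q3833 (flp_c L93429) q3835, e3 q3834 L111873 q6468, e3 q3835 L93429 q3833, e3 q3836 L93441 q3836, e3 q3837 L93446 q2711, e3 q3838 L93452 q2712, e3 q3839 (flp_c L97727) q4591, trivial⟩ (by decide +kernel)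

theorem ce_c_60 : ∀ r, r < 64 → sm gc (Qf (3840 + r)) = Qf (tab Gen.c (3840 + r)) :=
  edges_tab (sm gc) Qf (tab Gen.c) 3840 [(3840, 4592), (3841, 6476), (3842, 6479), (3843, 2336), (3844, 6482), (3845, 2363), (3846, 2338), (3847, 2339), (3848, 6487), (3849, 3875), (3850, 6488), (3851, 3938), (3852, 3939), (3853, 6496), (3854, 6498), (3855, 2342), (3856, 6500), (3857, 2344), (3858, 2345), (3859, 6503), (3860, 3861), (3861, 3860), (3862, 3862), (3863, 2762), (3864, 2763), (3865, 4691), (3866, 4692), (3867, 6510), (3868, 6513), (3869, 2349), (3870, 6515), (3871, 2377), (3872, 2351), (3873, 2352), (3874, 6520), (3875, 3849), (3876, 6521), (3877, 3910), (3878, 3911), (3879, 6529), (3880, 6531), (3881, 2355), (3882, 6533), (3883, 2720), (3884, 6536), (3885, 3885), (3886, 3886), (3887, 2357), (3888, 6542), (3889, 5102), (3890, 6543), (3891, 3891), (3892, 6132), (3893, 3893), (3894, 3959), (3895, 5465), (3896, 6129), (3897, 6131), (3898, 6483), (3899, 6484), (3900, 2920), (3901, 6485), (3902, 6143), (3903, 2366)]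
    ⟨e3 q3840 (flp_c L97733) q4592, e3 q3841 L111926 q6476, e3 q3842 L111944 q6479, e3 q3843 (flp_c L93472) q2336, e3 q3844 (flp_c L111962) q6482, e3 q3845 L93484 q2363, e3 q3846 L93488 q2338, e3 q3847 L93492 q2339, e3 q3848 (flp_c L111988) q6487, e3 q3849 (flp_c L149106) q3875, e3 q3850 (flp_c L111998) q6488, e3 q3851 (flp_c L93903) q3938, e3 q3852 (flp_c L93911) q3939, e3 q3853 L112044 q6496, e3 q3854 L112052 q6498, e3 q3855 (flp_c L93524) q2342, e3 q3856 (flp_c L112060) q6500, e3 q3857 L102043 q2344, e3 q3858 L102041 q2345, e3 q3859 L112080 q6503, e3 q3860 (flp_c L102090) q3861, e3 q3861 L102090 q3860, e3 q3862 L93588 q3862, e3 q3863 L102076 q2762, e3 q3864 L102070 q2763, e3 q3865 (flp_c L98297) q4691, e3 q3866 (flp_c L98303) q4692, e3 q3867 L112158 q6510, e3 q3868 L112180 q6513, e3 q3869 (flp_c L93611) q2349, e3 q3870 (flp_c L112192) q6515, e3 q3871 L93623 q2377, e3 q3872 L93627 q2351, e3 q3873 L93631 q2352, e3 q3874 (flp_c L112218) q6520, e3 q3875 L149106 q3849, e3 q3876 (flp_c L112228) q6521, e3 q3877 (flp_c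 L93783) q3910, e3 q3878 (flp_c L93791) q3911, e3 q3879 L112274 q6529, e3 q3880 L112282 q6531, e3 q3881 (flp_c L93663) q2355, e3 q3882 (flp_c L112290) q6533, e3 q3883 (flp_c L93675) q2720, e3 q3884 L112320 q6536, e3 q3885 L93685 q3885, e3 q3886 L93690 q3886, e3 q3887 (flp_c L93691) q2357, e3 q3888 (flp_c L112346) q6542, e3 q3889 (flp_c L120398) q5102, e3 q3890 (flp_c L112354) q6543, e3 q3891 L93707 q3891, e3 q3892 (flp_c L109626) q6132, e3 q3893 L93718 q3893, e3 q3894 (flp_c L94092) q3959, e3 q3895 (flp_c L143447) q5465, e3 q3896 (flp_c L109614) q6129, e3 q3897 (flp_c L109622) q6131, e3 q3898 (flp_c L111968) q6483, e3 q3899 (flp_c L111974) q6484, e3 q3900 L119339 q2920, e3 q3901 (flp_c L111982) q6485, e3 q3902 L109713 q6143, e3 q3903 L93753 q2366, trivial⟩ (by decide +kernel)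

theorem ce_c_61 : ∀ r, r < 64 → sm gc (Qf (3904 + r)) = Qf (tab Gen.c (3904 + r)) :=
  edges_tab (sm gc) Qf (tab Gen.c) 3904 [(3904, 6563), (3905, 6566), (3906, 6569), (3907, 2367), (3908, 5581), (3909, 6067), (3910, 3877), (3911, 3878), (3912, 2771), (3913, 6575), (3914, 3914), (3915, 3915), (3916, 2371), (3917, 6581), (3918, 6582), (3919, 5109), (3920, 6122), (3921, 3921), (3922, 3922), (3923, 3989), (3924, 5507), (3925, 6120), (3926, 6123), (3927, 6516), (3928, 6517), (3929, 6518), (3930, 6156), (3931, 2380), (3932, 6602), (3933, 6605), (3934, 6570), (3935, 2381), (3936, 5537), (3937, 6105), (3938, 3851), (3939, 3852), (3940, 2385), (3941, 3941), (3942, 6612), (3943, 4025), (3944, 6617), (3945, 2389), (3946, 2424), (3947, 2425), (3948, 2426), (3949, 6621), (3950, 3052), (3951, 6622), (3952, 6630), (3953, 2428), (3954, 2429), (3955, 2430), (3956, 6638), (3957, 2432), (3958, 6119), (3959, 3894), (3960, 6643), (3961, 2395), (3962, 2870), (3963, 6647), (3964, 6649), (3965, 2397), (3966, 6652), (3967, 2398)]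
    ⟨e3 q3904 L112480 q6563, e3 q3905 L112492 q6566, e3 q3906 L112506 q6569, e3 q3907 (flp_c L93769) q2367, e3 q3908 (flp_c L151409) q5581, e3 q3909 (flp_c L120553) q6067, e3 q3910 L93783 q3877, e3 q3911 L93791 q3878, e3 q3912 L102101 q2771, e3 q3913 L112564 q6575, e3 q3914 L93805 q3914, e3 q3915 L93810 q3915, e3 q3916 (flp_c L93811) q2371, e3 q3917 (flp_c L112590) q6581, e3 q3918 (flp_c L112594) q6582, e3 q3919 L148494 q5109, e3 q3920 (flp_c L109563) q6122, e3 q3921 L93831 q3921, e3 q3922 L93838 q3922, e3 q3923 (flp_c L94343) q3989, e3 q3924 (flp_c L151278) q5507, e3 q3925 (flp_c L109555) q6120, e3 q3926 (flp_c L109568) q6123, e3 q3927 (flp_c L112198) q6516, e3 q3928 (flp_c L112204) q6517, e3 q3929 (flp_c L112208) q6518, e3 q3930 L109844 q6156, e3 q3931 L93873 q2380, e3 q3932 L112724 q6602, e3 q3933 L112736 q6605, e3 q3934 (flp_c L149104) q6570, e3 q3935 (flp_c L93889) q2381, e3 q3936 (flp_c L149096) q5537, e3 q3937 (flp_c L120555) q6105, e3 q3938 L93903 q3851, e3 q3939 L93911 q3852, e3 q3940 L93917 q2385, e3 q3941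 L93923 q3941, e3 q3942 (flp_c L112813) q6612, e3 q3943 (flp_c L133833) q4025, e3 q3944 (flp_c L112940) q6617, e3 q3945 (flp_c L94012) q2389, e3 q3946 L94022 q2424, e3 q3947 L94028 q2425, e3 q3948 L94034 q2426, e3 q3949 (flp_c L112966) q6621, e3 q3950 L120100 q3052, e3 q3951 (flp_c L112980) q6622, e3 q3952 L113044 q6630, e3 q3953 L94054 q2428, e3 q3954 L94060 q2429, e3 q3955 L94066 q2430, e3 q3956 L113084 q6638, e3 q3957 L94078 q2432, e3 q3958 L109551 q6119, e3 q3959 L94092 q3894, e3 q3960 L113114 q6643, e3 q3961 (flp_c L94102) q2395, e3 q3962 L94114 q2870, e3 q3963 L113136 q6647, e3 q3964 L113150 q6649, e3 q3965 (flp_c L94126) q2397, e3 q3966 (flp_c L113166) q6652, e3 q3967 (flp_c L94144) q2398, trivial⟩ (by decide +kernel)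

theorem ce_c_62 : ∀ r, r < 64 → sm gc (Qf (3968 + r)) = Qf (tab Gen.c (3968 + r)) :=
  edges_tab (sm gc) Qf (tab Gen.c) 3968 [(3968, 2399), (3969, 6657), (3970, 2402), (3971, 3971), (3972, 6660), (3973, 4071), (3974, 6665), (3975, 2406), (3976, 2454), (3977, 2455), (3978, 2456), (3979, 6669), (3980, 6670), (3981, 3062), (3982, 6678), (3983, 2458), (3984, 2459), (3985, 6684), (3986, 2461), (3987, 2462), (3988, 6128), (3989, 3923), (3990, 6688), (3991, 2412), (3992, 2888), (3993, 6692), (3994, 6694), (3995, 2414), (3996, 6696), (3997, 2415), (3998, 2416), (3999, 6656), (4000, 6702), (4001, 4001), (4002, 4002), (4003, 4003), (4004, 5092), (4005, 2423), (4006, 5094), (4007, 5116), (4008, 6708), (4009, 6624), (4010, 6027), (4011, 2427), (4012, 6635), (4013, 6633), (4014, 6720), (4015, 6723), (4016, 6726), (4017, 2431), (4018, 6728), (4019, 6731), (4020, 2434), (4021, 6734), (4022, 6737), (4023, 2435), (4024, 6740), (4025, 3943), (4026, 6745), (4027, 2437), (4028, 6750), (4029, 5428), (4030, 2439), (4031, 6755)]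
    ⟨e3 q3968 (flp_c L94152) q2399, e3 q3969 L113204 q6657, e3 q3970 L94168 q2402, e3 q3971 L94174 q3971, e3 q3972 (flp_c L113236) q6660, e3 q3973 (flp_c L140290) q4071, e3 q3974 (flp_c L113368) q6665, e3 q3975 (flp_c L94263) q2406, e3 q3976 L94273 q2454, e3 q3977 L94279 q2455, e3 q3978 L94285 q2456, e3 q3979 (flp_c L113394) q6669, e3 q3980 (flp_c L113400) q6670, e3 q3981 (flp_c L148510) q3062, e3 q3982 L113472 q6678, e3 q3983 L94305 q2458, e3 q3984 L94311 q2459, e3 q3985 L113510 q6684, e3 q3986 L94321 q2461, e3 q3987 L94329 q2462, e3 q3988 L109610 q6128, e3 q3989 L94343 q3923, e3 q3990 L113542 q6688, e3 q3991 (flp_c L94353) q2412, e3 q3992 L94365 q2888, e3 q3993 L113564 q6692, e3 q3994 L113578 q6694, e3 q3995 (flp_c L94377) q2414, e3 q3996 (flp_c L113594) q6696, e3 q3997 (flp_c L94395) q2415, e3 q3998 (flp_c L94403) q2416, e3 q3999 (flp_c L113202) q6656, e3 q4000 L113634 q6702, e3 q4001 L94437 q4001, e3 q4002 L94453 q4002, e3 q4003 L94458 q4003, e3 q4004 (flp_c L119312) q5092, e3 q4005 (flp_c L94474) q2423, e3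 q4006 (flp_c L119781) q5094, e3 q4007 (flp_c L119787) q5116, e3 q4008 (flp_c L113747) q6708, e3 q4009 (flp_c L113000) q6624, e3 q4010 (flp_c L149508) q6027, e3 q4011 (flp_c L94504) q2427, e3 q4012 (flp_c L120142) q6635, e3 q4013 (flp_c L113056) q6633, e3 q4014 L113867 q6720, e3 q4015 L113883 q6723, e3 q4016 L113891 q6726, e3 q4017 (flp_c L94540) q2431, e3 q4018 (flp_c L113903) q6728, e3 q4019 L113911 q6731, e3 q4020 L94558 q2434, e3 q4021 L113947 q6734, e3 q4022 L113957 q6737, e3 q4023 (flp_c L94574) q2435, e3 q4024 (flp_c L113977) q6740, e3 q4025 L133833 q3943, e3 q4026 L114013 q6745, e3 q4027 (flp_c L94590) q2437, e3 q4028 (flp_c L114029) q6750, e3 q4029 L153412 q5428, e3 q4030 L94606 q2439, e3 q4031 L114063 q6755, trivial⟩ (by decide +kernel)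

theorem ce_c_63 : ∀ r, r < 64 → sm gc (Qf (4032 + r)) = Qf (tab Gen.c (4032 + r)) :=
  edges_tab (sm gc) Qf (tab Gen.c) 4032 [(4032, 5426), (4033, 6758), (4034, 2440), (4035, 5101), (4036, 2441), (4037, 4083), (4038, 2443), (4039, 6764), (4040, 2915), (4041, 2445), (4042, 6772), (4043, 4089), (4044, 4844), (4045, 4847), (4046, 6778), (4047, 4047), (4048, 4048), (4049, 4049), (4050, 5093), (4051, 2453), (4052, 5098), (4053, 6784), (4054, 5120), (4055, 6672), (4056, 6011), (4057, 2457), (4058, 6682), (4059, 6795), (4060, 6636), (4061, 6798), (4062, 2460), (4063, 6800), (4064, 6803), (4065, 6718), (4066, 2464), (4067, 6808), (4068, 6811), (4069, 2465), (4070, 6814), (4071, 3973), (4072, 6819), (4073, 2467), (4074, 6824), (4075, 5412), (4076, 2469), (4077, 6829), (4078, 5410), (4079, 6832), (4080, 2470), (4081, 5097), (4082, 2471), (4083, 4037), (4084, 2473), (4085, 6838), (4086, 2903), (4087, 2475), (4088, 6846), (4089, 4043), (4090, 4873), (4091, 4876), (4092, 2482), (4093, 4093), (4094, 2483), (4095, 6857)]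
    ⟨e3 q4032 L153451 q5426, e3 q4033 L114077 q6758, e3 q4034 (flp_c L94624) q2440, e3 q4035 (flp_c L133810) q5101, e3 q4036 (flp_c L94634) q2441, e3 q4037 (flp_c L94921) q4083, e3 q4038 (flp_c L94662) q2443, e3 q4039 (flp_c L114139) q6764, e3 q4040 L94672 q2915, e3 q4041 (flp_c L94674) q2445, e3 q4042 (flp_c L114169) q6772, e3 q4043 (flp_c L94967) q4089, e3 q4044 L141060 q4844, e3 q4045 L140995 q4847, e3 q4046 L114201 q6778, e3 q4047 L94709 q4047, e3 q4048 L94727 q4048, e3 q4049 L94746 q4049, e3 q4050 L148336 q5093, e3 q4051 (flp_c L94753) q2453, e3 q4052 L148418 q5098, e3 q4053 (flp_c L114310) q6784, e3 q4054 (flp_c L146474) q5120, e3 q4055 (flp_c L113420) q6672, e3 q4056 (flp_c L150762) q6011, e3 q4057 (flp_c L94783) q2457, e3 q4058 L146294 q6682, e3 q4059 L114424 q6795, e3 q4060 (flp_c L149031) q6636, e3 q4061 L114444 q6798, e3 q4062 (flp_c L94817) q2460, e3 q4063 (flp_c L114456) q6800, e3 q4064 L114464 q6803, e3 q4065 (flp_c L149764) q6718, e3 q4066 L94837 q2464, e3 q4067 L114508 q6808, e3 q4068 L114518 q6811,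 e3 q4069 (flp_c L94853) q2465, e3 q4070 (flp_c L114538) q6814, e3 q4071 L140290 q3973, e3 q4072 L114574 q6819, e3 q4073 (flp_c L94869) q2467, e3 q4074 (flp_c L114590) q6824, e3 q4075 L152975 q5412, e3 q4076 L94885 q2469, e3 q4077 L114624 q6829, e3 q4078 L153008 q5410, e3 q4079 L114638 q6832, e3 q4080 (flp_c L94903) q2470, e3 q4081 L147405 q5097, e3 q4082 (flp_c L94913) q2471, e3 q4083 L94921 q4037, e3 q4084 (flp_c L94943) q2473, e3 q4085 (flp_c L114704) q6838, e3 q4086 L94953 q2903, e3 q4087 (flp_c L94955) q2475, e3 q4088 (flp_c L114736) q6846, e3 q4089 L94967 q4043, e3 q4090 (flp_c L137004) q4873, e3 q4091 L137031 q4876, e3 q4092 L95035 q2482, e3 q4093 L95041 q4093, e3 q4094 L95052 q2483, e3 q4095 L114871 q6857, trivial⟩ (by decide +kernel)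

theorem ce_c_64 : ∀ r, r < 64 → sm gc (Qf (4096 + r)) = Qf (tab Gen.c (4096 + r)) :=
  edges_tab (sm gc) Qf (tab Gen.c) 4096 [(4096, 2484), (4097, 2485), (4098, 4098), (4099, 4099), (4100, 3018), (4101, 6851), (4102, 6853), (4103, 3444), (4104, 5088), (4105, 6856), (4106, 6861), (4107, 6862), (4108, 2490), (4109, 4109), (4110, 2491), (4111, 6878), (4112, 2492), (4113, 2493), (4114, 4114), (4115, 4115), (4116, 3019), (4117, 6872), (4118, 6874), (4119, 3446), (4120, 6877), (4121, 5090), (4122, 6882), (4123, 6883), (4124, 2986), (4125, 2495), (4126, 2496), (4127, 6894), (4128, 6897), (4129, 2970), (4130, 2989), (4131, 2990), (4132, 6903), (4133, 2503), (4134, 6906), (4135, 2505), (4136, 6910), (4137, 3119), (4138, 6914), (4139, 3117), (4140, 6918), (4141, 2502), (4142, 6920), (4143, 6923), (4144, 6926), (4145, 2504), (4146, 6928), (4147, 6931), (4148, 5214), (4149, 4149), (4150, 5217), (4151, 5218), (4152, 2518), (4153, 2519), (4154, 6946), (4155, 6949), (4156, 6952), (4157, 2510), (4158, 6955), (4159, 6958)]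
    ⟨e3 q4096 L95060 q2484, e3 q4097 L95065 q2485, e3 q4098 L95070 q4098, e3 q4099 L95075 q4099, e3 q4100 (flp_c L142678) q3018, e3 q4101 (flp_c L114814) q6851, e3 q4102 (flp_c L114831) q6853, e3 q4103 L120335 q3444, e3 q4104 (flp_c L119709) q5088, e3 q4105 (flp_c L114869) q6856, e3 q4106 (flp_c L114889) q6861, e3 q4107 (flp_c L114901) q6862, e3 q4108 L95129 q2490, e3 q4109 L95135 q4109, e3 q4110 L95146 q2491, e3 q4111 L115044 q6878, e3 q4112 L95154 q2492, e3 q4113 L95158 q2493, e3 q4114 L95164 q4114, e3 q4115 L95169 q4115, e3 q4116 L148240 q3019, e3 q4117 (flp_c L114987) q6872, e3 q4118 (flp_c L114997) q6874, e3 q4119 L148591 q3446, e3 q4120 (flp_c L115036) q6877, e3 q4121 L146722 q5090, e3 q4122 (flp_c L115066) q6882, e3 q4123 (flp_c L115074) q6883, e3 q4124 (flp_c L95225) q2986, e3 q4125 L95233 q2495, e3 q4126 L95241 q2496, e3 q4127 L115192 q6894, e3 q4128 L115206 q6897, e3 q4129 L95258 q2970, e3 q4130 L95264 q2989, e3 q4131 L95270 q2990, e3 q4132 L115263 q6903, e3 q4133 L95281 q2503, e3 q4134 L115286 q6906,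 e3 q4135 L95296 q2505, e3 q4136 L115309 q6910, e3 q4137 L95310 q3119, e3 q4138 L115327 q6914, e3 q4139 L95326 q3117, e3 q4140 L115347 q6918, e3 q4141 (flp_c L95338) q2502, e3 q4142 (flp_c L115363) q6920, e3 q4143 L115379 q6923, e3 q4144 L115399 q6926, e3 q4145 (flp_c L95358) q2504, e3 q4146 (flp_c L115413) q6928, e3 q4147 L115429 q6931, e3 q4148 L103732 q5214, e3 q4149 L95379 q4149, e3 q4150 (flp_c L103752) q5217, e3 q4151 (flp_c L103758) q5218, e3 q4152 L95388 q2518, e3 q4153 L95397 q2519, e3 q4154 L115501 q6946, e3 q4155 L115509 q6949, e3 q4156 L115519 q6952, e3 q4157 (flp_c L95410) q2510, e3 q4158 (flp_c L115535) q6955, e3 q4159 L115549 q6958, trivial⟩ (by decide +kernel)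

theorem ce_c_65 : ∀ r, r < 64 → sm gc (Qf (4160 + r)) = Qf (tab Gen.c (4160 + r)) :=
  edges_tab (sm gc) Qf (tab Gen.c) 4160 [(4160, 2511), (4161, 6961), (4162, 5774), (4163, 2512), (4164, 6967), (4165, 6969), (4166, 2514), (4167, 6973), (4168, 5777), (4169, 2515), (4170, 6978), (4171, 6980), (4172, 2517), (4173, 6984), (4174, 6985), (4175, 4177), (4176, 6987), (4177, 4175), (4178, 2520), (4179, 6990), (4180, 6993), (4181, 2522), (4182, 6995), (4183, 6998), (4184, 6999), (4185, 2524), (4186, 7002), (4187, 2526), (4188, 7007), (4189, 7010), (4190, 2527), (4191, 7013), (4192, 7015), (4193, 2528), (4194, 7018), (4195, 2530), (4196, 7023), (4197, 7026), (4198, 2531), (4199, 7029), (4200, 5846), (4201, 5873), (4202, 5872), (4203, 7037), (4204, 2534), (4205, 2958), (4206, 7040), (4207, 7043), (4208, 7046), (4209, 2536), (4210, 7048), (4211, 5887), (4212, 2537), (4213, 7052), (4214, 7053), (4215, 2539), (4216, 7057), (4217, 5882), (4218, 5849), (4219, 5881), (4220, 7065), (4221, 2542), (4222, 2961), (4223, 7068)]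
    ⟨e3 q4160 (flp_c L95420) q2511, e3 q4161 (flp_c L115565) q6961, e3 q4162 L107314 q5774, e3 q4163 (flp_c L95430) q2512, e3 q4164 (flp_c L115601) q6967, e3 q4165 L115613 q6969, e3 q4166 L95449 q2514, e3 q4167 (flp_c L115633) q6973, e3 q4168 (flp_c L150948) q5777, e3 q4169 (flp_c L95465) q2515, e3 q4170 (flp_c L115675) q6978, e3 q4171 L115687 q6980, e3 q4172 L95484 q2517, e3 q4173 (flp_c L115707) q6984, e3 q4174 L115713 q6985, e3 q4175 (flp_c L95519) q4177, e3 q4176 L115736 q6987, e3 q4177 L95519 q4175, e3 q4178 (flp_c L95529) q2520, e3 q4179 (flp_c L115759) q6990, e3 q4180 L115768 q6993, e3 q4181 (flp_c L95541) q2522, e3 q4182 (flp_c L115796) q6995, e3 q4183 L115804 q6998, e3 q4184 L115812 q6999, e3 q4185 (flp_c L95554) q2524, e3 q4186 L115836 q7002, e3 q4187 L95566 q2526, e3 q4188 L115858 q7007, e3 q4189 L115870 q7010, e3 q4190 (flp_c L95578) q2527, e3 q4191 (flp_c L115886) q7013, e3 q4192 L115900 q7015, e3 q4193 (flp_c L95590) q2528, e3 q4194 L115920 q7018, e3 q4195 L95602 q2530, e3 q4196 L115940 q7023, e3 q4197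 L115952 q7026, e3 q4198 (flp_c L95614) q2531, e3 q4199 (flp_c L115968) q7029, e3 q4200 L107735 q5846, e3 q4201 (flp_c L107927) q5873, e3 q4202 (flp_c L107921) q5872, e3 q4203 L116014 q7037, e3 q4204 (flp_c L95642) q2534, e3 q4205 L116060 q2958, e3 q4206 (flp_c L116086) q7040, e3 q4207 L116108 q7043, e3 q4208 L116123 q7046, e3 q4209 (flp_c L95668) q2536, e3 q4210 (flp_c L116137) q7048, e3 q4211 (flp_c L151199) q5887, e3 q4212 (flp_c L95682) q2537, e3 q4213 (flp_c L116171) q7052, e3 q4214 L116177 q7053, e3 q4215 L95701 q2539, e3 q4216 (flp_c L116199) q7057, e3 q4217 (flp_c L150323) q5882, e3 q4218 (flp_c L150370) q5849, e3 q4219 (flp_c L150442) q5881, e3 q4220 L116287 q7065, e3 q4221 (flp_c L95741) q2542, e3 q4222 (flp_c L148955) q2961, e3 q4223 (flp_c L116322) q7068, trivial⟩ (by decide +kernel)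

theorem ce_c_66 : ∀ r, r < 64 → sm gc (Qf (4224 + r)) = Qf (tab Gen.c (4224 + r)) :=
  edges_tab (sm gc) Qf (tab Gen.c) 4224 [(4224, 7071), (4225, 7074), (4226, 2544), (4227, 7076), (4228, 5878), (4229, 2545), (4230, 7080), (4231, 7081), (4232, 2547), (4233, 7085), (4234, 5233), (4235, 5258), (4236, 5257), (4237, 4297), (4238, 2550), (4239, 7096), (4240, 2551), (4241, 7099), (4242, 7100), (4243, 7104), (4244, 2554), (4245, 7108), (4246, 2553), (4247, 7110), (4248, 7113), (4249, 5270), (4250, 2555), (4251, 7119), (4252, 7121), (4253, 2557), (4254, 7125), (4255, 5266), (4256, 5237), (4257, 5265), (4258, 4348), (4259, 2560), (4260, 7136), (4261, 2561), (4262, 7139), (4263, 7140), (4264, 7144), (4265, 2564), (4266, 7148), (4267, 2563), (4268, 7150), (4269, 7153), (4270, 5262), (4271, 2565), (4272, 7159), (4273, 7161), (4274, 2567), (4275, 7165), (4276, 6281), (4277, 6282), (4278, 2572), (4279, 3139), (4280, 2570), (4281, 2571), (4282, 7174), (4283, 7179), (4284, 7176), (4285, 6329), (4286, 5043), (4287, 5521)]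
    ⟨e3 q4224 L116340 q7071, e3 q4225 L116355 q7074, e3 q4226 (flp_c L95767) q2544, e3 q4227 (flp_c L116369) q7076, e3 q4228 (flp_c L151307) q5878, e3 q4229 (flp_c L95781) q2545, e3 q4230 (flp_c L116405) q7080, e3 q4231 L116411 q7081, e3 q4232 L95800 q2547, e3 q4233 (flp_c L116433) q7085, e3 q4234 L103837 q5233, e3 q4235 (flp_c L103981) q5258, e3 q4236 (flp_c L103975) q5257, e3 q4237 L96145 q4297, e3 q4238 L95836 q2550, e3 q4239 L116497 q7096, e3 q4240 (flp_c L95844) q2551, e3 q4241 (flp_c L116510) q7099, e3 q4242 (flp_c L116514) q7100, e3 q4243 L116540 q7104, e3 q4244 L95860 q2554, e3 q4245 L116553 q7108, e3 q4246 (flp_c L95870) q2553, e3 q4247 (flp_c L116565) q7110, e3 q4248 L116577 q7113, e3 q4249 (flp_c L156813) q5270, e3 q4250 (flp_c L95886) q2555, e3 q4251 (flp_c L116609) q7119, e3 q4252 L116617 q7121, e3 q4253 L95903 q2557, e3 q4254 (flp_c L116635) q7125, e3 q4255 (flp_c L104031) q5266, e3 q4256 L103869 q5237, e3 q4257 (flp_c L104025) q5265, e3 q4258 L96430 q4348, e3 q4259 L95937 q2560, e3 q4260 L116697 q7136,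 e3 q4261 (flp_c L95945) q2561, e3 q4262 (flp_c L116710) q7139, e3 q4263 (flp_c L116714) q7140, e3 q4264 L116736 q7144, e3 q4265 L95961 q2564, e3 q4266 L116753 q7148, e3 q4267 (flp_c L95973) q2563, e3 q4268 (flp_c L116767) q7150, e3 q4269 L116783 q7153, e3 q4270 (flp_c L156830) q5262, e3 q4271 (flp_c L95995) q2565, e3 q4272 (flp_c L116827) q7159, e3 q4273 L116839 q7161, e3 q4274 L96016 q2567, e3 q4275 (flp_c L116861) q7165, e3 q4276 (flp_c L110785) q6281, e3 q4277 (flp_c L110793) q6282, e3 q4278 L96046 q2572, e3 q4279 L96147 q3139, e3 q4280 L96052 q2570, e3 q4281 L96058 q2571, e3 q4282 (flp_c L116937) q7174, e3 q4283 L116973 q7179, e3 q4284 (flp_c L116951) q7176, e3 q4285 L111075 q6329, e3 q4286 (flp_c L116899) q5043, e3 q4287 (flp_c L119643) q5521, trivial⟩ (by decide +kernel)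

theorem ce_c_67 : ∀ r, r < 64 → sm gc (Qf (4288 + r)) = Qf (tab Gen.c (4288 + r)) :=
  edges_tab (sm gc) Qf (tab Gen.c) 4288 [(4288, 7170), (4289, 2573), (4290, 7191), (4291, 7192), (4292, 7196), (4293, 7199), (4294, 2575), (4295, 7202), (4296, 2614), (4297, 4237), (4298, 2577), (4299, 2578), (4300, 7210), (4301, 7207), (4302, 7212), (4303, 6372), (4304, 6378), (4305, 7221), (4306, 7224), (4307, 2581), (4308, 7229), (4309, 2583), (4310, 7234), (4311, 7236), (4312, 2584), (4313, 7239), (4314, 7241), (4315, 2585), (4316, 7246), (4317, 7247), (4318, 7244), (4319, 7254), (4320, 2587), (4321, 7258), (4322, 2588), (4323, 7261), (4324, 7262), (4325, 2590), (4326, 7267), (4327, 6308), (4328, 6309), (4329, 2595), (4330, 3149), (4331, 2593), (4332, 2594), (4333, 7280), (4334, 7277), (4335, 7278), (4336, 6349), (4337, 5047), (4338, 7272), (4339, 5565), (4340, 2596), (4341, 7292), (4342, 7293), (4343, 7297), (4344, 7300), (4345, 2598), (4346, 7302), (4347, 2624), (4348, 4258), (4349, 2600), (4350, 2601), (4351, 7310)]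
    ⟨e3 q4288 (flp_c L116909) q7170, e3 q4289 (flp_c L96099) q2573, e3 q4290 (flp_c L117047) q7191, e3 q4291 (flp_c L117057) q7192, e3 q4292 L117081 q7196, e3 q4293 L117099 q7199, e3 q4294 (flp_c L96127) q2575, e3 q4295 (flp_c L117119) q7202, e3 q4296 L96139 q2614, e3 q4297 (flp_c L96145) q4237, e3 q4298 L96161 q2577, e3 q4299 L96165 q2578, e3 q4300 (flp_c L117173) q7210, e3 q4301 (flp_c L117151) q7207, e3 q4302 (flp_c L117185) q7212, e3 q4303 (flp_c L111321) q6372, e3 q4304 (flp_c L111359) q6378, e3 q4305 L117235 q7221, e3 q4306 L117253 q7224, e3 q4307 (flp_c L96205) q2581, e3 q4308 L117281 q7229, e3 q4309 L96219 q2583, e3 q4310 L117307 q7234, e3 q4311 L117319 q7236, e3 q4312 (flp_c L96233) q2584, e3 q4313 (flp_c L117339) q7239, e3 q4314 L117351 q7241, e3 q4315 (flp_c L96247) q2585, e3 q4316 (flp_c L117383) q7246, e3 q4317 (flp_c L117389) q7247, e3 q4318 (flp_c L117377) q7244, e3 q4319 L117427 q7254, e3 q4320 L96271 q2587, e3 q4321 L117451 q7258, e3 q4322 (flp_c L96281) q2588, e3 q4323 (flp_c L117467) q7261, e3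 q4324 (flp_c L117471) q7262, e3 q4325 L96297 q2590, e3 q4326 L117497 q7267, e3 q4327 (flp_c L110953) q6308, e3 q4328 (flp_c L110961) q6309, e3 q4329 L96331 q2595, e3 q4330 L96432 q3149, e3 q4331 L96337 q2593, e3 q4332 L96343 q2594, e3 q4333 L117603 q7280, e3 q4334 (flp_c L117575) q7277, e3 q4335 (flp_c L117589) q7278, e3 q4336 L111191 q6349, e3 q4337 (flp_c L117537) q5047, e3 q4338 (flp_c L117541) q7272, e3 q4339 (flp_c L150432) q5565, e3 q4340 (flp_c L96384) q2596, e3 q4341 (flp_c L117681) q7292, e3 q4342 (flp_c L117687) q7293, e3 q4343 L117711 q7297, e3 q4344 L117731 q7300, e3 q4345 (flp_c L96412) q2598, e3 q4346 (flp_c L117741) q7302, e3 q4347 L96424 q2624, e3 q4348 (flp_c L96430) q4258, e3 q4349 L96446 q2600, e3 q4350 L96450 q2601, e3 q4351 (flp_c L117785) q7310, trivial⟩ (by decide +kernel)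

theorem ce_c_68 : ∀ r, r < 64 → sm gc (Qf (4352 + r)) = Qf (tab Gen.c (4352 + r)) :=
  edges_tab (sm gc) Qf (tab Gen.c) 4352 [(4352, 7306), (4353, 7312), (4354, 6381), (4355, 6387), (4356, 7321), (4357, 7324), (4358, 2604), (4359, 7329), (4360, 2606), (4361, 7334), (4362, 7336), (4363, 2607), (4364, 7339), (4365, 7341), (4366, 2608), (4367, 7346), (4368, 7347), (4369, 7344), (4370, 7354), (4371, 2610), (4372, 7358), (4373, 2611), (4374, 7361), (4375, 7362), (4376, 2613), (4377, 7367), (4378, 7203), (4379, 7205), (4380, 7206), (4381, 7375), (4382, 6371), (4383, 6377), (4384, 2618), (4385, 2620), (4386, 7384), (4387, 7380), (4388, 7390), (4389, 7382), (4390, 7383), (4391, 3753), (4392, 7259), (4393, 2623), (4394, 7303), (4395, 7305), (4396, 7307), (4397, 7406), (4398, 6382), (4399, 6388), (4400, 2628), (4401, 2630), (4402, 7415), (4403, 7411), (4404, 7421), (4405, 7413), (4406, 7414), (4407, 3763), (4408, 7359), (4409, 2633), (4410, 4413), (4411, 7432), (4412, 2635), (4413, 4410), (4414, 7436), (4415, 2637)]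
    ⟨e3 q4352 (flp_c L117761) q7306, e3 q4353 (flp_c L117795) q7312, e3 q4354 (flp_c L111377) q6381, e3 q4355 (flp_c L111413) q6387, e3 q4356 L117845 q7321, e3 q4357 L117863 q7324, e3 q4358 (flp_c L96490) q2604, e3 q4359 L117891 q7329, e3 q4360 L96504 q2606, e3 q4361 L117917 q7334, e3 q4362 L117929 q7336, e3 q4363 (flp_c L96518) q2607, e3 q4364 (flp_c L117951) q7339, e3 q4365 L117965 q7341, e3 q4366 (flp_c L96534) q2608, e3 q4367 (flp_c L117997) q7346, e3 q4368 (flp_c L118003) q7347, e3 q4369 (flp_c L117991) q7344, e3 q4370 L118041 q7354, e3 q4371 L96558 q2610, e3 q4372 L118065 q7358, e3 q4373 (flp_c L96568) q2611, e3 q4374 (flp_c L118081) q7361, e3 q4375 (flp_c L118085) q7362, e3 q4376 L96584 q2613, e3 q4377 L118111 q7367, e3 q4378 (flp_c L117125) q7203, e3 q4379 (flp_c L117135) q7205, e3 q4380 (flp_c L117143) q7206, e3 q4381 L118217 q7375, e3 q4382 (flp_c L111313) q6371, e3 q4383 (flp_c L111349) q6377, e3 q4384 (flp_c L96631) q2618, e3 q4385 L96645 q2620, e3 q4386 L118266 q7384, e3 q4387 (flp_c L118244) q7380,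 e3 q4388 L118296 q7390, e3 q4389 (flp_c L118254) q7382, e3 q4390 (flp_c L118260) q7383, e3 q4391 L96673 q3753, e3 q4392 (flp_c L117457) q7259, e3 q4393 L96687 q2623, e3 q4394 (flp_c L117747) q7303, e3 q4395 (flp_c L117757) q7305, e3 q4396 (flp_c L117765) q7307, e3 q4397 L118392 q7406, e3 q4398 (flp_c L111385) q6382, e3 q4399 (flp_c L111423) q6388, e3 q4400 (flp_c L96730) q2628, e3 q4401 L96744 q2630, e3 q4402 L118455 q7415, e3 q4403 (flp_c L118433) q7411, e3 q4404 L118485 q7421, e3 q4405 (flp_c L118443) q7413, e3 q4406 (flp_c L118451) q7414, e3 q4407 L96772 q3763, e3 q4408 (flp_c L118071) q7359, e3 q4409 L96786 q2633, e3 q4410 (flp_c L96821) q4413, e3 q4411 L118546 q7432, e3 q4412 (flp_c L96807) q2635, e3 q4413 L96821 q4410, e3 q4414 L118593 q7436, e3 q4415 (flp_c L96836) q2637, trivial⟩ (by decide +kernel)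

theorem ce_c_69 : ∀ r, r < 64 → sm gc (Qf (4416 + r)) = Qf (tab Gen.c (4416 + r)) :=
  edges_tab (sm gc) Qf (tab Gen.c) 4416 [(4416, 2640), (4417, 7439), (4418, 7440), (4419, 7441), (4420, 7442), (4421, 7444), (4422, 7446), (4423, 2643), (4424, 7448), (4425, 7449), (4426, 2644), (4427, 7451), (4428, 4428), (4429, 3430), (4430, 2646), (4431, 2647), (4432, 2648), (4433, 7457), (4434, 7458), (4435, 4435), (4436, 7459), (4437, 4437), (4438, 7460), (4439, 2649), (4440, 7470), (4441, 7473), (4442, 2651), (4443, 7475), (4444, 7478), (4445, 7479), (4446, 2653), (4447, 2664), (4448, 2655), (4449, 7483), (4450, 7484), (4451, 2656), (4452, 7486), (4453, 7488), (4454, 2657), (4455, 2670), (4456, 2659), (4457, 7492), (4458, 7493), (4459, 2660), (4460, 7495), (4461, 5772), (4462, 2661), (4463, 6393), (4464, 7498), (4465, 7497), (4466, 7480), (4467, 2663), (4468, 7505), (4469, 7481), (4470, 7482), (4471, 4552), (4472, 2666), (4473, 5773), (4474, 2667), (4475, 7512), (4476, 6396), (4477, 7511), (4478, 7489), (4479, 2669)]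
    ⟨e3 q4416 (flp_c L96906) q2640, e3 q4417 (flp_c L118693) q7439, e3 q4418 (flp_c L118701) q7440, e3 q4419 (flp_c L118709) q7441, e3 q4420 L118740 q7442, e3 q4421 L118748 q7444, e3 q4422 L118760 q7446, e3 q4423 (flp_c L96938) q2643, e3 q4424 (flp_c L118770) q7448, e3 q4425 L118772 q7449, e3 q4426 (flp_c L96944) q2644, e3 q4427 (flp_c L118782) q7451, e3 q4428 L96950 q4428, e3 q4429 (flp_c L96955) q3430, e3 q4430 L96961 q2646, e3 q4431 L96965 q2647, e3 q4432 L96969 q2648, e3 q4433 (flp_c L118842) q7457, e3 q4434 (flp_c L118848) q7458, e3 q4435 L118935 q4435, e3 q4436 (flp_c L118856) q7459, e3 q4437 L122018 q4437, e3 q4438 (flp_c L118866) q7460, e3 q4439 (flp_c L97006) q2649, e3 q4440 (flp_c L120606) q7470, e3 q4441 L120637 q7473, e3 q4442 (flp_c L97018) q2651, e3 q4443 (flp_c L120661) q7475, e3 q4444 L120714 q7478, e3 q4445 L120718 q7479, e3 q4446 (flp_c L97037) q2653, e3 q4447 L97058 q2664, e3 q4448 L97062 q2655, e3 q4449 L120752 q7483, e3 q4450 L120756 q7484, e3 q4451 (flp_c L97070) q2656, e3 q4452 (flp_c L120768)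 q7486, e3 q4453 L120778 q7488, e3 q4454 (flp_c L97078) q2657, e3 q4455 (flp_c L150210) q2670, e3 q4456 L97090 q2659, e3 q4457 L120806 q7492, e3 q4458 L120810 q7493, e3 q4459 (flp_c L97098) q2660, e3 q4460 (flp_c L120822) q7495, e3 q4461 (flp_c L107294) q5772, e3 q4462 (flp_c L97110) q2661, e3 q4463 (flp_c L111455) q6393, e3 q4464 (flp_c L120842) q7498, e3 q4465 (flp_c L120834) q7497, e3 q4466 L120736 q7480, e3 q4467 L97134 q2663, e3 q4468 L120886 q7505, e3 q4469 (flp_c L120740) q7481, e3 q4470 (flp_c L120746) q7482, e3 q4471 (flp_c L97529) q4552, e3 q4472 L97154 q2666, e3 q4473 (flp_c L150265) q5773, e3 q4474 (flp_c L97164) q2667, e3 q4475 (flp_c L120957) q7512, e3 q4476 (flp_c L150267) q6396, e3 q4477 (flp_c L120951) q7511, e3 q4478 (flp_c L150189) q7489, e3 q4479 L97180 q2669, trivial⟩ (by decide +kernel)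

theorem ce_c_70 : ∀ r, r < 64 → sm gc (Qf (4480 + r)) = Qf (tab Gen.c (4480 + r)) :=
  edges_tab (sm gc) Qf (tab Gen.c) 4480 [(4480, 7519), (4481, 7490), (4482, 7491), (4483, 4517), (4484, 2672), (4485, 5868), (4486, 2677), (4487, 2676), (4488, 5950), (4489, 3524), (4490, 7525), (4491, 7532), (4492, 3313), (4493, 7526), (4494, 2678), (4495, 7538), (4496, 4496), (4497, 3798), (4498, 2680), (4499, 2681), (4500, 7466), (4501, 7542), (4502, 2682), (4503, 7545), (4504, 7546), (4505, 2683), (4506, 7550), (4507, 2685), (4508, 5871), (4509, 2686), (4510, 6074), (4511, 7554), (4512, 7559), (4513, 2688), (4514, 2689), (4515, 5050), (4516, 7563), (4517, 4483), (4518, 2691), (4519, 7569), (4520, 5870), (4521, 2696), (4522, 2694), (4523, 3527), (4524, 5951), (4525, 7570), (4526, 7577), (4527, 7571), (4528, 3335), (4529, 2697), (4530, 7583), (4531, 4531), (4532, 3817), (4533, 2699), (4534, 2700), (4535, 7468), (4536, 7587), (4537, 2701), (4538, 7590), (4539, 7591), (4540, 2702), (4541, 7595), (4542, 2704), (4543, 5869)]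
    ⟨e3 q4480 L120995 q7519, e3 q4481 (flp_c L150207) q7490, e3 q4482 (flp_c L150205) q7491, e3 q4483 (flp_c L97356) q4517, e3 q4484 L97202 q2672, e3 q4485 (flp_c L107877) q5868, e3 q4486 L97216 q2677, e3 q4487 L97220 q2676, e3 q4488 (flp_c L108453) q5950, e3 q4489 L97232 q3524, e3 q4490 (flp_c L121042) q7525, e3 q4491 L121091 q7532, e3 q4492 L119652 q3313, e3 q4493 (flp_c L121052) q7526, e3 q4494 (flp_c L97248) q2678, e3 q4495 (flp_c L121141) q7538, e3 q4496 L97264 q4496, e3 q4497 (flp_c L97272) q3798, e3 q4498 L97276 q2680, e3 q4499 L97282 q2681, e3 q4500 (flp_c L120625) q7466, e3 q4501 L121166 q7542, e3 q4502 (flp_c L97296) q2682, e3 q4503 (flp_c L121180) q7545, e3 q4504 L121182 q7546, e3 q4505 (flp_c L97305) q2683, e3 q4506 L121202 q7550, e3 q4507 L97317 q2685, e3 q4508 (flp_c L150968) q5871, e3 q4509 (flp_c L97323) q2686, e3 q4510 L109309 q6074, e3 q4511 (flp_c L121224) q7554, e3 q4512 L121244 q7559, e3 q4513 L97341 q2688, e3 q4514 (flp_c L97345) q2689, e3 q4515 L163241 q5050, e3 q4516 (flp_c L121279) q7563,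 e3 q4517 L97356 q4483, e3 q4518 L97363 q2691, e3 q4519 L121309 q7569, e3 q4520 (flp_c L150047) q5870, e3 q4521 L97385 q2696, e3 q4522 L97391 q2694, e3 q4523 L150366 q3527, e3 q4524 (flp_c L150039) q5951, e3 q4525 (flp_c L121335) q7570, e3 q4526 L121396 q7577, e3 q4527 (flp_c L121343) q7571, e3 q4528 L149847 q3335, e3 q4529 (flp_c L97419) q2697, e3 q4530 (flp_c L121430) q7583, e3 q4531 L97435 q4531, e3 q4532 (flp_c L97443) q3817, e3 q4533 L97447 q2699, e3 q4534 L97453 q2700, e3 q4535 (flp_c L149152) q7468, e3 q4536 L121482 q7587, e3 q4537 (flp_c L97467) q2701, e3 q4538 (flp_c L121509) q7590, e3 q4539 L121511 q7591, e3 q4540 (flp_c L97476) q2702, e3 q4541 L121531 q7595, e3 q4542 L97488 q2704, e3 q4543 (flp_c L151224) q5869, trivial⟩ (by decide +kernel)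

theorem ce_c_71 : ∀ r, r < 64 → sm gc (Qf (4544 + r)) = Qf (tab Gen.c (4544 + r)) :=
  edges_tab (sm gc) Qf (tab Gen.c) 4544 [(4544, 2705), (4545, 6112), (4546, 7599), (4547, 7604), (4548, 2707), (4549, 2708), (4550, 5046), (4551, 7608), (4552, 4471), (4553, 2710), (4554, 7614), (4555, 7615), (4556, 7616), (4557, 2723), (4558, 4558), (4559, 4559), (4560, 2717), (4561, 7624), (4562, 2719), (4563, 7627), (4564, 7628), (4565, 2718), (4566, 7630), (4567, 7631), (4568, 7632), (4569, 5518), (4570, 6535), (4571, 2721), (4572, 7639), (4573, 7640), (4574, 7641), (4575, 5522), (4576, 7649), (4577, 7618), (4578, 7637), (4579, 2725), (4580, 2726), (4581, 7650), (4582, 4683), (4583, 7655), (4584, 2727), (4585, 7658), (4586, 7660), (4587, 2728), (4588, 7663), (4589, 7664), (4590, 2730), (4591, 3839), (4592, 3840), (4593, 6540), (4594, 2734), (4595, 7675), (4596, 2736), (4597, 7679), (4598, 7673), (4599, 4601), (4600, 2735), (4601, 4599), (4602, 7685), (4603, 7688), (4604, 2737), (4605, 7693), (4606, 2739), (4607, 7697)]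
    ⟨e3 q4544 (flp_c L97496) q2705, e3 q4545 (flp_c L155512) q6112, e3 q4546 (flp_c L121553) q7599, e3 q4547 L121575 q7604, e3 q4548 L97514 q2707, e3 q4549 (flp_c L97518) q2708, e3 q4550 L163388 q5046, e3 q4551 (flp_c L121610) q7608, e3 q4552 L97529 q4471, e3 q4553 L97536 q2710, e3 q4554 L121641 q7614, e3 q4555 L121647 q7615, e3 q4556 L121655 q7616, e3 q4557 L97564 q2723, e3 q4558 L97568 q4558, e3 q4559 L97576 q4559, e3 q4560 L97583 q2717, e3 q4561 L121701 q7624, e3 q4562 L97593 q2719, e3 q4563 L121709 q7627, e3 q4564 L121715 q7628, e3 q4565 (flp_c L97607) q2718, e3 q4566 (flp_c L121731) q7630, e3 q4567 L121733 q7631, e3 q4568 L121739 q7632, e3 q4569 (flp_c L119654) q5518, e3 q4570 (flp_c L112318) q6535, e3 q4571 (flp_c L97632) q2721, e3 q4572 (flp_c L121793) q7639, e3 q4573 (flp_c L121799) q7640, e3 q4574 (flp_c L121803) q7641, e3 q4575 (flp_c L120299) q5522, e3 q4576 L121841 q7649, e3 q4577 (flp_c L121667) q7618, e3 q4578 (flp_c L121773) q7637, e3 q4579 L97668 q2725, e3 q4580 L97674 q2726, e3 q4581 (flp_c L121849)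 q7650, e3 q4582 (flp_c L149064) q4683, e3 q4583 L121879 q7655, e3 q4584 (flp_c L97694) q2727, e3 q4585 (flp_c L121897) q7658, e3 q4586 L121907 q7660, e3 q4587 (flp_c L97704) q2728, e3 q4588 (flp_c L121921) q7663, e3 q4589 L121925 q7664, e3 q4590 L97720 q2730, e3 q4591 L97727 q3839, e3 q4592 L97733 q3840, e3 q4593 L120557 q6540, e3 q4594 L97742 q2734, e3 q4595 L121985 q7675, e3 q4596 L97753 q2736, e3 q4597 L122002 q7679, e3 q4598 (flp_c L121974) q7673, e3 q4599 (flp_c L118194) q4601, e3 q4600 (flp_c L97777) q2735, e3 q4601 L118194 q4599, e3 q4602 L122062 q7685, e3 q4603 L122072 q7688, e3 q4604 (flp_c L97791) q2737, e3 q4605 L122088 q7693, e3 q4606 L97805 q2739, e3 q4607 L122110 q7697, trivial⟩ (by decide +kernel)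

theorem ce_c_72 : ∀ r, r < 64 → sm gc (Qf (4608 + r)) = Qf (tab Gen.c (4608 + r)) :=
  edges_tab (sm gc) Qf (tab Gen.c) 4608 [(4608, 7698), (4609, 2740), (4610, 7701), (4611, 7703), (4612, 2741), (4613, 7706), (4614, 7707), (4615, 7704), (4616, 7712), (4617, 2743), (4618, 7716), (4619, 7717), (4620, 7721), (4621, 7723), (4622, 2745), (4623, 7725), (4624, 2746), (4625, 7727), (4626, 7728), (4627, 2748), (4628, 7732), (4629, 2749), (4630, 7734), (4631, 7735), (4632, 2753), (4633, 4736), (4634, 2751), (4635, 2752), (4636, 7744), (4637, 4733), (4638, 7736), (4639, 7749), (4640, 7738), (4641, 7739), (4642, 2754), (4643, 7757), (4644, 7758), (4645, 7760), (4646, 2756), (4647, 2831), (4648, 2805), (4649, 2758), (4650, 2759), (4651, 7771), (4652, 7772), (4653, 7776), (4654, 7778), (4655, 2761), (4656, 7780), (4657, 7781), (4658, 7782), (4659, 2773), (4660, 4660), (4661, 4661), (4662, 7789), (4663, 2769), (4664, 2770), (4665, 7793), (4666, 2768), (4667, 7795), (4668, 7796), (4669, 7797), (4670, 6574), (4671, 5562)]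
    ⟨e3 q4608 L122114 q7698, e3 q4609 (flp_c L97813) q2740, e3 q4610 (flp_c L122132) q7701, e3 q4611 L122140 q7703, e3 q4612 (flp_c L97823) q2741, e3 q4613 (flp_c L122156) q7706, e3 q4614 (flp_c L122162) q7707, e3 q4615 (flp_c L122148) q7704, e3 q4616 L122176 q7712, e3 q4617 (flp_c L97839) q2743, e3 q4618 (flp_c L122202) q7716, e3 q4619 (flp_c L122208) q7717, e3 q4620 L122220 q7721, e3 q4621 L122226 q7723, e3 q4622 (flp_c L97857) q2745, e3 q4623 (flp_c L122238) q7725, e3 q4624 (flp_c L97865) q2746, e3 q4625 (flp_c L122250) q7727, e3 q4626 L122254 q7728, e3 q4627 L97925 q2748, e3 q4628 (flp_c L122270) q7732, e3 q4629 (flp_c L97933) q2749, e3 q4630 (flp_c L122284) q7734, e3 q4631 (flp_c L122290) q7735, e3 q4632 L97947 q2753, e3 q4633 (flp_c L163931) q4736, e3 q4634 L97953 q2751, e3 q4635 L97957 q2752, e3 q4636 L122334 q7744, e3 q4637 L163945 q4733, e3 q4638 (flp_c L122296) q7736, e3 q4639 L122356 q7749, e3 q4640 (flp_c L122304) q7738, e3 q4641 (flp_c L122308) q7739, e3 q4642 (flp_c L97999) q2754, e3 q4643 (flp_c L122392)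 q7757, e3 q4644 (flp_c L122398) q7758, e3 q4645 L122412 q7760, e3 q4646 (flp_c L98019) q2756, e3 q4647 L98023 q2831, e3 q4648 (flp_c L98029) q2805, e3 q4649 L98033 q2758, e3 q4650 L98037 q2759, e3 q4651 (flp_c L122462) q7771, e3 q4652 (flp_c L122472) q7772, e3 q4653 L122490 q7776, e3 q4654 L122498 q7778, e3 q4655 (flp_c L98057) q2761, e3 q4656 (flp_c L122510) q7780, e3 q4657 L122514 q7781, e3 q4658 L122522 q7782, e3 q4659 L98127 q2773, e3 q4660 L102103 q4660, e3 q4661 L102093 q4661, e3 q4662 L122603 q7789, e3 q4663 L98149 q2769, e3 q4664 L98159 q2770, e3 q4665 L122617 q7793, e3 q4666 (flp_c L98171) q2768, e3 q4667 (flp_c L122633) q7795, e3 q4668 L122637 q7796, e3 q4669 L122643 q7797, e3 q4670 (flp_c L112556) q6574, e3 q4671 (flp_c L150436) q5562, trivial⟩ (by decide +kernel)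

theorem ce_c_73 : ∀ r, r < 64 → sm gc (Qf (4672 + r)) = Qf (tab Gen.c (4672 + r)) :=
  edges_tab (sm gc) Qf (tab Gen.c) 4672 [(4672, 2772), (4673, 7804), (4674, 7805), (4675, 7806), (4676, 7813), (4677, 7784), (4678, 5566), (4679, 7802), (4680, 2776), (4681, 2777), (4682, 7815), (4683, 4582), (4684, 7820), (4685, 2778), (4686, 7823), (4687, 7825), (4688, 2779), (4689, 7828), (4690, 2781), (4691, 3865), (4692, 3866), (4693, 6580), (4694, 2785), (4695, 7839), (4696, 2787), (4697, 7843), (4698, 7837), (4699, 4701), (4700, 2786), (4701, 4699), (4702, 7849), (4703, 7852), (4704, 2788), (4705, 7857), (4706, 2790), (4707, 7861), (4708, 7862), (4709, 2791), (4710, 7865), (4711, 7867), (4712, 2792), (4713, 7870), (4714, 7871), (4715, 7868), (4716, 7769), (4717, 2794), (4718, 7878), (4719, 7879), (4720, 7883), (4721, 7885), (4722, 2796), (4723, 7887), (4724, 2797), (4725, 7889), (4726, 7890), (4727, 2799), (4728, 7894), (4729, 2800), (4730, 7896), (4731, 7741), (4732, 2804), (4733, 4637), (4734, 2802), (4735, 2803)]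
    ⟨e3 q4672 (flp_c L98206) q2772, e3 q4673 (flp_c L122692) q7804, e3 q4674 (flp_c L122698) q7805, e3 q4675 (flp_c L122702) q7806, e3 q4676 L122736 q7813, e3 q4677 (flp_c L122551) q7784, e3 q4678 (flp_c L150428) q5566, e3 q4679 (flp_c L122680) q7802, e3 q4680 L98242 q2776, e3 q4681 L98248 q2777, e3 q4682 (flp_c L122772) q7815, e3 q4683 L149064 q4582, e3 q4684 L122800 q7820, e3 q4685 (flp_c L98268) q2778, e3 q4686 (flp_c L122816) q7823, e3 q4687 L122824 q7825, e3 q4688 (flp_c L98282) q2779, e3 q4689 L122844 q7828, e3 q4690 L98290 q2781, e3 q4691 L98297 q3865, e3 q4692 L98303 q3866, e3 q4693 (flp_c L150922) q6580, e3 q4694 L98312 q2785, e3 q4695 L122900 q7839, e3 q4696 L98323 q2787, e3 q4697 L122915 q7843, e3 q4698 (flp_c L122891) q7837, e3 q4699 L149430 q4701, e3 q4700 (flp_c L98347) q2786, e3 q4701 (flp_c L149430) q4699, e3 q4702 L122957 q7849, e3 q4703 L122967 q7852, e3 q4704 (flp_c L98361) q2788, e3 q4705 L122983 q7857, e3 q4706 L98375 q2790, e3 q4707 L123005 q7861, e3 q4708 L123013 q7862, e3 q4709 (flp_c L98383)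 q2791, e3 q4710 (flp_c L123035) q7865, e3 q4711 L123043 q7867, e3 q4712 (flp_c L98397) q2792, e3 q4713 (flp_c L123057) q7870, e3 q4714 (flp_c L123063) q7871, e3 q4715 (flp_c L123051) q7868, e3 q4716 (flp_c L122454) q7769, e3 q4717 (flp_c L98419) q2794, e3 q4718 (flp_c L123089) q7878, e3 q4719 (flp_c L123095) q7879, e3 q4720 L123111 q7883, e3 q4721 L123117 q7885, e3 q4722 (flp_c L98441) q2796, e3 q4723 (flp_c L123131) q7887, e3 q4724 (flp_c L98449) q2797, e3 q4725 (flp_c L123143) q7889, e3 q4726 L123147 q7890, e3 q4727 L98469 q2799, e3 q4728 (flp_c L123163) q7894, e3 q4729 (flp_c L98493) q2800, e3 q4730 (flp_c L123179) q7896, e3 q4731 (flp_c L163927) q7741, e3 q4732 L98515 q2804, e3 q4733 (flp_c L163945) q4637, e3 q4734 L98521 q2802, e3 q4735 L98525 q2803, trivial⟩ (by decide +kernel)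

theorem ce_c_74 : ∀ r, r < 64 → sm gc (Qf (4736 + r)) = Qf (tab Gen.c (4736 + r)) :=
  edges_tab (sm gc) Qf (tab Gen.c) 4736 [(4736, 4633), (4737, 7904), (4738, 7897), (4739, 7909), (4740, 7899), (4741, 7900), (4742, 7768), (4743, 7715), (4744, 7917), (4745, 2807), (4746, 2851), (4747, 2809), (4748, 2810), (4749, 7925), (4750, 7926), (4751, 7930), (4752, 7932), (4753, 2812), (4754, 7934), (4755, 7936), (4756, 2813), (4757, 7500), (4758, 2814), (4759, 3462), (4760, 2816), (4761, 7941), (4762, 3588), (4763, 4767), (4764, 2818), (4765, 2819), (4766, 7945), (4767, 4763), (4768, 2821), (4769, 7950), (4770, 4808), (4771, 4837), (4772, 2826), (4773, 7959), (4774, 2828), (4775, 2829), (4776, 2825), (4777, 7966), (4778, 7905), (4779, 7970), (4780, 7957), (4781, 7958), (4782, 2827), (4783, 7977), (4784, 5467), (4785, 7978), (4786, 7963), (4787, 7964), (4788, 7763), (4789, 7765), (4790, 7766), (4791, 7767), (4792, 6560), (4793, 7994), (4794, 2833), (4795, 7514), (4796, 2834), (4797, 3465), (4798, 2836), (4799, 7999)]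
    ⟨e3 q4736 L163931 q4633, e3 q4737 L123229 q7904, e3 q4738 (flp_c L123191) q7897, e3 q4739 L123251 q7909, e3 q4740 (flp_c L123199) q7899, e3 q4741 (flp_c L123203) q7900, e3 q4742 (flp_c L122448) q7768, e3 q4743 L122198 q7715, e3 q4744 L123293 q7917, e3 q4745 (flp_c L98569) q2807, e3 q4746 L98573 q2851, e3 q4747 L98577 q2809, e3 q4748 L98581 q2810, e3 q4749 (flp_c L123325) q7925, e3 q4750 (flp_c L123335) q7926, e3 q4751 L123355 q7930, e3 q4752 L123363 q7932, e3 q4753 (flp_c L98603) q2812, e3 q4754 (flp_c L123375) q7934, e3 q4755 L123383 q7936, e3 q4756 (flp_c L98621) q2813, e3 q4757 L120858 q7500, e3 q4758 (flp_c L98635) q2814, e3 q4759 L120532 q3462, e3 q4760 (flp_c L98665) q2816, e3 q4761 (flp_c L123420) q7941, e3 q4762 L119839 q3588, e3 q4763 L118196 q4767, e3 q4764 L98679 q2818, e3 q4765 (flp_c L98683) q2819, e3 q4766 (flp_c L123446) q7945, e3 q4767 (flp_c L118196) q4763, e3 q4768 L98699 q2821, e3 q4769 L123477 q7950, e3 q4770 (flp_c L98889) q4808, e3 q4771 L99045 q4837, e3 q4772 L98718 q2826, e3 q4773 L123524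 q7959, e3 q4774 L98726 q2828, e3 q4775 L98730 q2829, e3 q4776 (flp_c L98734) q2825, e3 q4777 (flp_c L123558) q7966, e3 q4778 (flp_c L123975) q7905, e3 q4779 L123572 q7970, e3 q4780 (flp_c L123516) q7957, e3 q4781 (flp_c L123522) q7958, e3 q4782 (flp_c L98756) q2827, e3 q4783 (flp_c L123600) q7977, e3 q4784 (flp_c L143415) q5467, e3 q4785 (flp_c L123608) q7978, e3 q4786 (flp_c L123542) q7963, e3 q4787 (flp_c L123550) q7964, e3 q4788 (flp_c L122424) q7763, e3 q4789 (flp_c L122434) q7765, e3 q4790 (flp_c L122438) q7766, e3 q4791 (flp_c L122442) q7767, e3 q4792 (flp_c L112466) q6560, e3 q4793 L123680 q7994, e3 q4794 (flp_c L98798) q2833, e3 q4795 (flp_c L150756) q7514, e3 q4796 (flp_c L98812) q2834, e3 q4797 L112156 q3465, e3 q4798 (flp_c L98842) q2836, e3 q4799 (flp_c L123794) q7999, trivial⟩ (by decide +kernel)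

theorem ce_c_75 : ∀ r, r < 64 → sm gc (Qf (4800 + r)) = Qf (tab Gen.c (4800 + r)) :=
  edges_tab (sm gc) Qf (tab Gen.c) 4800 [(4800, 3610), (4801, 4805), (4802, 2838), (4803, 2839), (4804, 8003), (4805, 4801), (4806, 2841), (4807, 8008), (4808, 4770), (4809, 4866), (4810, 2846), (4811, 8017), (4812, 2848), (4813, 2849), (4814, 2845), (4815, 8024), (4816, 7745), (4817, 8028), (4818, 8015), (4819, 8016), (4820, 2847), (4821, 8035), (4822, 8036), (4823, 5508), (4824, 8021), (4825, 8022), (4826, 7920), (4827, 7921), (4828, 7922), (4829, 7923), (4830, 6599), (4831, 4831), (4832, 4832), (4833, 4833), (4834, 2855), (4835, 2856), (4836, 8052), (4837, 4771), (4838, 2858), (4839, 2859), (4840, 2862), (4841, 6698), (4842, 2861), (4843, 8060), (4844, 4044), (4845, 8062), (4846, 8063), (4847, 4045), (4848, 8075), (4849, 8078), (4850, 2889), (4851, 2894), (4852, 2895), (4853, 2865), (4854, 8085), (4855, 8086), (4856, 8087), (4857, 8092), (4858, 2890), (4859, 2897), (4860, 6641), (4861, 4861), (4862, 4862), (4863, 2873)]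
    ⟨e3 q4800 L112135 q3610, e3 q4801 (flp_c L149476) q4805, e3 q4802 L98858 q2838, e3 q4803 (flp_c L98864) q2839, e3 q4804 (flp_c L123882) q8003, e3 q4805 L149476 q4801, e3 q4806 L98880 q2841, e3 q4807 L123909 q8008, e3 q4808 L98889 q4770, e3 q4809 L99279 q4866, e3 q4810 L98901 q2846, e3 q4811 L123987 q8017, e3 q4812 L98909 q2848, e3 q4813 L98915 q2849, e3 q4814 (flp_c L98917) q2845, e3 q4815 (flp_c L124021) q8024, e3 q4816 L123962 q7745, e3 q4817 L124033 q8028, e3 q4818 (flp_c L123954) q8015, e3 q4819 (flp_c L123985) q8016, e3 q4820 (flp_c L98939) q2847, e3 q4821 (flp_c L124069) q8035, e3 q4822 (flp_c L124073) q8036, e3 q4823 (flp_c L151421) q5508, e3 q4824 (flp_c L124005) q8021, e3 q4825 (flp_c L124013) q8022, e3 q4826 (flp_c L123305) q7920, e3 q4827 (flp_c L123311) q7921, e3 q4828 (flp_c L123315) q7922, e3 q4829 (flp_c L123319) q7923, e3 q4830 (flp_c L112710) q6599, e3 q4831 L98979 q4831, e3 q4832 L98987 q4832, e3 q4833 L98992 q4833, e3 q4834 (flp_c L98995) q2855, e3 q4835 (flp_c L99017) q2856, e3 q4836 (flp_c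 L124185) q8052, e3 q4837 (flp_c L99045) q4771, e3 q4838 L99049 q2858, e3 q4839 (flp_c L99053) q2859, e3 q4840 L99081 q2862, e3 q4841 (flp_c L141025) q6698, e3 q4842 L99097 q2861, e3 q4843 (flp_c L124285) q8060, e3 q4844 (flp_c L141060) q4044, e3 q4845 (flp_c L124299) q8062, e3 q4846 (flp_c L124303) q8063, e3 q4847 (flp_c L140995) q4045, e3 q4848 L124401 q8075, e3 q4849 L124417 q8078, e3 q4850 L142464 q2889, e3 q4851 L99157 q2894, e3 q4852 L99163 q2895, e3 q4853 (flp_c L99165) q2865, e3 q4854 (flp_c L124469) q8085, e3 q4855 (flp_c L124473) q8086, e3 q4856 (flp_c L124477) q8087, e3 q4857 L124507 q8092, e3 q4858 (flp_c L142433) q2890, e3 q4859 L99199 q2897, e3 q4860 (flp_c L113098) q6641, e3 q4861 L99219 q4861, e3 q4862 L99227 q4862, e3 q4863 (flp_c L99235) q2873, trivial⟩ (by decide +kernel)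

theorem ce_c_76 : ∀ r, r < 64 → sm gc (Qf (4864 + r)) = Qf (tab Gen.c (4864 + r)) :=
  edges_tab (sm gc) Qf (tab Gen.c) 4864 [(4864, 2874), (4865, 8096), (4866, 4809), (4867, 2876), (4868, 2877), (4869, 2880), (4870, 6654), (4871, 2879), (4872, 8104), (4873, 4090), (4874, 8106), (4875, 8107), (4876, 4091), (4877, 8119), (4878, 8121), (4879, 2908), (4880, 2883), (4881, 8126), (4882, 8127), (4883, 8128), (4884, 8132), (4885, 6686), (4886, 8133), (4887, 8136), (4888, 8138), (4889, 2891), (4890, 8140), (4891, 8109), (4892, 2893), (4893, 8144), (4894, 8147), (4895, 8149), (4896, 8152), (4897, 2896), (4898, 8154), (4899, 8156), (4900, 2898), (4901, 8160), (4902, 2900), (4903, 8164), (4904, 2901), (4905, 8166), (4906, 6844), (4907, 4926), (4908, 8058), (4909, 8173), (4910, 2905), (4911, 8175), (4912, 8065), (4913, 2907), (4914, 8179), (4915, 8181), (4916, 8183), (4917, 2909), (4918, 8186), (4919, 2910), (4920, 8190), (4921, 2912), (4922, 8194), (4923, 2913), (4924, 8196), (4925, 6770), (4926, 4907), (4927, 8102)]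
    ⟨e3 q4864 (flp_c L99257) q2874, e3 q4865 (flp_c L124602) q8096, e3 q4866 (flp_c L99279) q4809, e3 q4867 L99283 q2876, e3 q4868 (flp_c L99287) q2877, e3 q4869 L99305 q2880, e3 q4870 L141006 q6654, e3 q4871 L99317 q2879, e3 q4872 (flp_c L124666) q8104, e3 q4873 L137004 q4090, e3 q4874 (flp_c L124680) q8106, e3 q4875 (flp_c L124684) q8107, e3 q4876 (flp_c L137031) q4091, e3 q4877 L124794 q8119, e3 q4878 L124810 q8121, e3 q4879 L99385 q2908, e3 q4880 (flp_c L99393) q2883, e3 q4881 (flp_c L124862) q8126, e3 q4882 (flp_c L124866) q8127, e3 q4883 (flp_c L124870) q8128, e3 q4884 L124900 q8132, e3 q4885 (flp_c L113526) q6686, e3 q4886 L125404 q8133, e3 q4887 L125487 q8136, e3 q4888 L125530 q8138, e3 q4889 (flp_c L99905) q2891, e3 q4890 (flp_c L125548) q8140, e3 q4891 (flp_c L124702) q8109, e3 q4892 (flp_c L99923) q2893, e3 q4893 (flp_c L125586) q8144, e3 q4894 L125648 q8147, e3 q4895 L125654 q8149, e3 q4896 L125719 q8152, e3 q4897 (flp_c L99988) q2896, e3 q4898 L125739 q8154, e3 q4899 L125820 q8156, e3 q4900 (flp_c L100029)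 q2898, e3 q4901 L125842 q8160, e3 q4902 L100045 q2900, e3 q4903 (flp_c L125860) q8164, e3 q4904 (flp_c L100079) q2901, e3 q4905 (flp_c L125908) q8166, e3 q4906 (flp_c L114726) q6844, e3 q4907 (flp_c L100513) q4926, e3 q4908 (flp_c L124245) q8058, e3 q4909 L126342 q8173, e3 q4910 (flp_c L100329) q2905, e3 q4911 (flp_c L126360) q8175, e3 q4912 (flp_c L124323) q8065, e3 q4913 (flp_c L100347) q2907, e3 q4914 (flp_c L126402) q8179, e3 q4915 L126460 q8181, e3 q4916 L126541 q8183, e3 q4917 (flp_c L100415) q2909, e3 q4918 L126632 q8186, e3 q4919 (flp_c L100453) q2910, e3 q4920 L126654 q8190, e3 q4921 L100469 q2912, e3 q4922 (flp_c L126672) q8194, e3 q4923 (flp_c L100503) q2913, e3 q4924 (flp_c L126704) q8196, e3 q4925 (flp_c L114159) q6770, e3 q4926 L100513 q4907, e3 q4927 (flp_c L124646) q8102, trivial⟩ (by decide +kernel)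

theorem ce_c_77 : ∀ r, r < 64 → sm gc (Qf (4928 + r)) = Qf (tab Gen.c (4928 + r)) :=
  edges_tab (sm gc) Qf (tab Gen.c) 4928 [(4928, 2931), (4929, 2932), (4930, 2937), (4931, 2939), (4932, 5083), (4933, 5084), (4934, 2925), (4935, 2926), (4936, 8205), (4937, 8206), (4938, 8207), (4939, 8209), (4940, 2985), (4941, 2929), (4942, 3670), (4943, 6118), (4944, 6127), (4945, 3664), (4946, 3665), (4947, 5965), (4948, 5980), (4949, 2934), (4950, 2935), (4951, 8227), (4952, 6167), (4953, 8231), (4954, 6165), (4955, 4955), (4956, 4956), (4957, 8236), (4958, 4958), (4959, 4959), (4960, 8240), (4961, 3709), (4962, 2940), (4963, 8243), (4964, 3715), (4965, 2941), (4966, 8246), (4967, 4967), (4968, 4968), (4969, 4969), (4970, 4970), (4971, 3014), (4972, 3015), (4973, 5080), (4974, 5079), (4975, 5964), (4976, 5966), (4977, 5979), (4978, 5981), (4979, 7372), (4980, 8263), (4981, 8266), (4982, 2954), (4983, 8269), (4984, 7403), (4985, 8274), (4986, 8277), (4987, 2957), (4988, 8280), (4989, 7038), (4990, 7041), (4991, 8286)]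
    ⟨e3 q4928 L101749 q2931, e3 q4929 L101757 q2932, e3 q4930 L101763 q2937, e3 q4931 L101773 q2939, e3 q4932 (flp_c L102914) q5083, e3 q4933 (flp_c L102922) q5084, e3 q4934 L101811 q2925, e3 q4935 L101815 q2926, e3 q4936 (flp_c L128601) q8205, e3 q4937 (flp_c L128615) q8206, e3 q4938 L128636 q8207, e3 q4939 L128648 q8209, e3 q4940 (flp_c L101843) q2985, e3 q4941 (flp_c L101845) q2929, e3 q4942 L101861 q3670, e3 q4943 L119699 q6118, e3 q4944 (flp_c L147517) q6127, e3 q4945 L101875 q3664, e3 q4946 L101885 q3665, e3 q4947 L119431 q5965, e3 q4948 (flp_c L147575) q5980, e3 q4949 L101903 q2934, e3 q4950 L101913 q2935, e3 q4951 L128789 q8227, e3 q4952 (flp_c L110091) q6167, e3 q4953 L128821 q8231, e3 q4954 (flp_c L110071) q6165, e3 q4955 L101955 q4955, e3 q4956 L101962 q4956, e3 q4957 L128853 q8236, e3 q4958 L101971 q4958, e3 q4959 L101978 q4959, e3 q4960 L128877 q8240, e3 q4961 (flp_c L101991) q3709, e3 q4962 (flp_c L101993) q2940, e3 q4963 (flp_c L128903) q8243, e3 q4964 (flp_c L102015) q3715, e3 q4965 (flp_c L102104)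 q2941, e3 q4966 (flp_c L128943) q8246, e3 q4967 L102128 q4967, e3 q4968 L102137 q4968, e3 q4969 L102150 q4969, e3 q4970 L102159 q4970, e3 q4971 L102168 q3014, e3 q4972 L102176 q3015, e3 q4973 (flp_c L102835) q5080, e3 q4974 (flp_c L102823) q5079, e3 q4975 L119429 q5964, e3 q4976 L119433 q5966, e3 q4977 (flp_c L147699) q5979, e3 q4978 (flp_c L147573) q5981, e3 q4979 (flp_c L118145) q7372, e3 q4980 L129092 q8263, e3 q4981 L129105 q8266, e3 q4982 (flp_c L102261) q2954, e3 q4983 (flp_c L129125) q8269, e3 q4984 (flp_c L149544) q7403, e3 q4985 L129158 q8274, e3 q4986 L129171 q8277, e3 q4987 (flp_c L102283) q2957, e3 q4988 (flp_c L129191) q8280, e3 q4989 (flp_c L116070) q7038, e3 q4990 (flp_c L116092) q7041, e3 q4991 L129235 q8286, trivial⟩ (by decide +kernel)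

theorem ce_c_78 : ∀ r, r < 64 → sm gc (Qf (4992 + r)) = Qf (tab Gen.c (4992 + r)) :=
  edges_tab (sm gc) Qf (tab Gen.c) 4992 [(4992, 8289), (4993, 7066), (4994, 7069), (4995, 8295), (4996, 8298), (4997, 8301), (4998, 8304), (4999, 8307), (5000, 2966), (5001, 8310), (5002, 8313), (5003, 2967), (5004, 8316), (5005, 5318), (5006, 5338), (5007, 8321), (5008, 8324), (5009, 8326), (5010, 2973), (5011, 8328), (5012, 8329), (5013, 2975), (5014, 8331), (5015, 6407), (5016, 2977), (5017, 8335), (5018, 8327), (5019, 2979), (5020, 8338), (5021, 6438), (5022, 2980), (5023, 8343), (5024, 8330), (5025, 2982), (5026, 8346), (5027, 5027), (5028, 5028), (5029, 8212), (5030, 8213), (5031, 8351), (5032, 6900), (5033, 8355), (5034, 6902), (5035, 8359), (5036, 2991), (5037, 8361), (5038, 8364), (5039, 8367), (5040, 2993), (5041, 8369), (5042, 8372), (5043, 4286), (5044, 2995), (5045, 8376), (5046, 4550), (5047, 4337), (5048, 2997), (5049, 8383), (5050, 4515), (5051, 6626), (5052, 2999), (5053, 8391), (5054, 7169), (5055, 3001)]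
    ⟨e3 q4992 L129250 q8289, e3 q4993 (flp_c L148963) q7066, e3 q4994 (flp_c L148952) q7069, e3 q4995 L129312 q8295, e3 q4996 L129327 q8298, e3 q4997 L129348 q8301, e3 q4998 L129373 q8304, e3 q4999 L129392 q8307, e3 q5000 (flp_c L102361) q2966, e3 q5001 (flp_c L129424) q8310, e3 q5002 L129442 q8313, e3 q5003 (flp_c L102375) q2967, e3 q5004 (flp_c L129462) q8316, e3 q5005 (flp_c L104335) q5318, e3 q5006 (flp_c L104440) q5338, e3 q5007 L129514 q8321, e3 q5008 L129646 q8324, e3 q5009 L129661 q8326, e3 q5010 (flp_c L102421) q2973, e3 q5011 (flp_c L129686) q8328, e3 q5012 L129703 q8329, e3 q5013 (flp_c L102434) q2975, e3 q5014 (flp_c L129716) q8331, e3 q5015 L118974 q6407, e3 q5016 (flp_c L102445) q2977, e3 q5017 (flp_c L129761) q8335, e3 q5018 (flp_c L129682) q8327, e3 q5019 L102461 q2979, e3 q5020 (flp_c L129787) q8338, e3 q5021 (flp_c L150932) q6438, e3 q5022 (flp_c L102471) q2980, e3 q5023 (flp_c L129817) q8343, e3 q5024 (flp_c L149523) q8330, e3 q5025 L102487 q2982, e3 q5026 (flp_c L129838) q8346, e3 q5027 L102498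 q5027, e3 q5028 L102503 q5028, e3 q5029 (flp_c L128673) q8212, e3 q5030 (flp_c L128681) q8213, e3 q5031 L129900 q8351, e3 q5032 (flp_c L115242) q6900, e3 q5033 L129924 q8355, e3 q5034 (flp_c L115257) q6902, e3 q5035 L129952 q8359, e3 q5036 (flp_c L102565) q2991, e3 q5037 (flp_c L129970) q8361, e3 q5038 L129984 q8364, e3 q5039 L130000 q8367, e3 q5040 (flp_c L102587) q2993, e3 q5041 (flp_c L130016) q8369, e3 q5042 L130030 q8372, e3 q5043 L116899 q4286, e3 q5044 (flp_c L102607) q2995, e3 q5045 (flp_c L130066) q8376, e3 q5046 (flp_c L163388) q4550, e3 q5047 L117537 q4337, e3 q5048 (flp_c L102624) q2997, e3 q5049 (flp_c L130127) q8383, e3 q5050 (flp_c L163241) q4515, e3 q5051 L120451 q6626, e3 q5052 (flp_c L102641) q2999, e3 q5053 (flp_c L130184) q8391, e3 q5054 (flp_c L116893) q7169, e3 q5055 L102661 q3001, trivial⟩ (by decide +kernel)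

theorem ce_c_79 : ∀ r, r < 64 → sm gc (Qf (5056 + r)) = Qf (tab Gen.c (5056 + r)) :=
  edges_tab (sm gc) Qf (tab Gen.c) 5056 [(5056, 8398), (5057, 8396), (5058, 8402), (5059, 3002), (5060, 8405), (5061, 6675), (5062, 3003), (5063, 8410), (5064, 7271), (5065, 3005), (5066, 8417), (5067, 8415), (5068, 8421), (5069, 3006), (5070, 8424), (5071, 3159), (5072, 3160), (5073, 5077), (5074, 5346), (5075, 3170), (5076, 3171), (5077, 5073), (5078, 5326), (5079, 4974), (5080, 4973), (5081, 3017), (5082, 3405), (5083, 4932), (5084, 4933), (5085, 5799), (5086, 3026), (5087, 3027), (5088, 4104), (5089, 3029), (5090, 4121), (5091, 3031), (5092, 4004), (5093, 4050), (5094, 4006), (5095, 3028), (5096, 8445), (5097, 4081), (5098, 4052), (5099, 3030), (5100, 8448), (5101, 4035), (5102, 3889), (5103, 3032), (5104, 3034), (5105, 8455), (5106, 8457), (5107, 3035), (5108, 8460), (5109, 3919), (5110, 3036), (5111, 3038), (5112, 8466), (5113, 8468), (5114, 3039), (5115, 8471), (5116, 4007), (5117, 3040), (5118, 6712), (5119, 6461)]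
    ⟨e3 q5056 L130226 q8398, e3 q5057 (flp_c L130214) q8396, e3 q5058 L130244 q8402, e3 q5059 (flp_c L102683) q3002, e3 q5060 (flp_c L130264) q8405, e3 q5061 (flp_c L148502) q6675, e3 q5062 (flp_c L102699) q3003, e3 q5063 (flp_c L130304) q8410, e3 q5064 (flp_c L117531) q7271, e3 q5065 L102719 q3005, e3 q5066 L130346 q8417, e3 q5067 (flp_c L130334) q8415, e3 q5068 L130364 q8421, e3 q5069 (flp_c L102741) q3006, e3 q5070 (flp_c L130386) q8424, e3 q5071 L102755 q3159, e3 q5072 L102763 q3160, e3 q5073 (flp_c L102797) q5077, e3 q5074 (flp_c L104478) q5346, e3 q5075 L102779 q3170, e3 q5076 L102787 q3171, e3 q5077 L102797 q5073, e3 q5078 (flp_c L104373) q5326, e3 q5079 L102823 q4974, e3 q5080 L102835 q4973, e3 q5081 L102844 q3017, e3 q5082 L102908 q3405, e3 q5083 L102914 q4932, e3 q5084 L102922 q4933, e3 q5085 (flp_c L107461) q5799, e3 q5086 L102932 q3026, e3 q5087 L102938 q3027, e3 q5088 L119709 q4104, e3 q5089 L102946 q3029, e3 q5090 (flp_c L146722) q4121, e3 q5091 L102956 q3031, e3 q5092 L119312 q4004, e3 q5093 (flp_c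 L148336) q4050, e3 q5094 L119781 q4006, e3 q5095 (flp_c L102992) q3028, e3 q5096 (flp_c L142855) q8445, e3 q5097 (flp_c L147405) q4081, e3 q5098 (flp_c L148418) q4052, e3 q5099 (flp_c L103010) q3030, e3 q5100 (flp_c L142887) q8448, e3 q5101 L133810 q4035, e3 q5102 L120398 q3889, e3 q5103 (flp_c L103024) q3032, e3 q5104 L103038 q3034, e3 q5105 L142931 q8455, e3 q5106 L142939 q8457, e3 q5107 (flp_c L103046) q3035, e3 q5108 (flp_c L142955) q8460, e3 q5109 (flp_c L148494) q3919, e3 q5110 (flp_c L103056) q3036, e3 q5111 L103070 q3038, e3 q5112 L143005 q8466, e3 q5113 L143013 q8468, e3 q5114 (flp_c L103078) q3039, e3 q5115 (flp_c L143031) q8471, e3 q5116 L119787 q4007, e3 q5117 (flp_c L103090) q3040, e3 q5118 (flp_c L120369) q6712, e3 q5119 L163399 q6461, trivial⟩ (by decide +kernel)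

theorem ce_c_80 : ∀ r, r < 64 → sm gc (Qf (5120 + r)) = Qf (tab Gen.c (5120 + r)) :=
  edges_tab (sm gc) Qf (tab Gen.c) 5120 [(5120, 4054), (5121, 3042), (5122, 6787), (5123, 6430), (5124, 5677), (5125, 3046), (5126, 8481), (5127, 6709), (5128, 6464), (5129, 3047), (5130, 8485), (5131, 5716), (5132, 3050), (5133, 8489), (5134, 6785), (5135, 6433), (5136, 3051), (5137, 8493), (5138, 6628), (5139, 6140), (5140, 6042), (5141, 3054), (5142, 8500), (5143, 5892), (5144, 6044), (5145, 5196), (5146, 3058), (5147, 8507), (5148, 3057), (5149, 8509), (5150, 8512), (5151, 8515), (5152, 3059), (5153, 8518), (5154, 8519), (5155, 3061), (5156, 8522), (5157, 6677), (5158, 6154), (5159, 6080), (5160, 3064), (5161, 8529), (5162, 5915), (5163, 6084), (5164, 5185), (5165, 3068), (5166, 8536), (5167, 3067), (5168, 8538), (5169, 8541), (5170, 8544), (5171, 3069), (5172, 8547), (5173, 8548), (5174, 3071), (5175, 8551), (5176, 5176), (5177, 5177), (5178, 5201), (5179, 3319), (5180, 3075), (5181, 3076), (5182, 8556), (5183, 7853)]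
    ⟨e3 q5120 L146474 q4054, e3 q5121 (flp_c L103108) q3042, e3 q5122 (flp_c L146458) q6787, e3 q5123 L163202 q6430, e3 q5124 L120422 q5677, e3 q5125 L103142 q3046, e3 q5126 L143153 q8481, e3 q5127 (flp_c L120363) q6709, e3 q5128 L163326 q6464, e3 q5129 (flp_c L103162) q3047, e3 q5130 (flp_c L143181) q8485, e3 q5131 (flp_c L129596) q5716, e3 q5132 L103192 q3050, e3 q5133 L143237 q8489, e3 q5134 (flp_c L148430) q6785, e3 q5135 (flp_c L163163) q6433, e3 q5136 (flp_c L103212) q3051, e3 q5137 (flp_c L143285) q8493, e3 q5138 L120092 q6628, e3 q5139 (flp_c L120359) q6140, e3 q5140 L119849 q6042, e3 q5141 L103240 q3054, e3 q5142 L143325 q8500, e3 q5143 L119851 q5892, e3 q5144 L119853 q6044, e3 q5145 (flp_c L103506) q5196, e3 q5146 L103264 q3058, e3 q5147 L143357 q8507, e3 q5148 (flp_c L103272) q3057, e3 q5149 (flp_c L143369) q8509, e3 q5150 L143377 q8512, e3 q5151 L143385 q8515, e3 q5152 (flp_c L103282) q3059, e3 q5153 (flp_c L143405) q8518, e3 q5154 L143459 q8519, e3 q5155 L103298 q3061, e3 q5156 (flp_c L143475) q8522,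 e3 q5157 (flp_c L148498) q6677, e3 q5158 (flp_c L148506) q6154, e3 q5159 (flp_c L148075) q6080, e3 q5160 L103326 q3064, e3 q5161 L143543 q8529, e3 q5162 (flp_c L147923) q5915, e3 q5163 (flp_c L147903) q6084, e3 q5164 (flp_c L103443) q5185, e3 q5165 L103350 q3068, e3 q5166 L143595 q8536, e3 q5167 (flp_c L103358) q3067, e3 q5168 (flp_c L143617) q8538, e3 q5169 L143625 q8541, e3 q5170 L143635 q8544, e3 q5171 (flp_c L103368) q3069, e3 q5172 (flp_c L143655) q8547, e3 q5173 L143667 q8548, e3 q5174 L103384 q3071, e3 q5175 (flp_c L143693) q8551, e3 q5176 L103396 q5176, e3 q5177 L103408 q5177, e3 q5178 (flp_c L103576) q5201, e3 q5179 L119859 q3319, e3 q5180 L103419 q3075, e3 q5181 L103425 q3076, e3 q5182 (flp_c L143731) q8556, e3 q5183 (flp_c L123800) q7853, trivial⟩ (by decide +kernel)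

theorem ce_c_81 : ∀ r, r < 64 → sm gc (Qf (5184 + r)) = Qf (tab Gen.c (5184 + r)) :=
  edges_tab (sm gc) Qf (tab Gen.c) 5184 [(5184, 5195), (5185, 5164), (5186, 5651), (5187, 5187), (5188, 5188), (5189, 5209), (5190, 3341), (5191, 3082), (5192, 3083), (5193, 8565), (5194, 7690), (5195, 5184), (5196, 5145), (5197, 5617), (5198, 3086), (5199, 3089), (5200, 3648), (5201, 5178), (5202, 3276), (5203, 8066), (5204, 3651), (5205, 3095), (5206, 3096), (5207, 3099), (5208, 3656), (5209, 5189), (5210, 3299), (5211, 8110), (5212, 3660), (5213, 3105), (5214, 4148), (5215, 3108), (5216, 3109), (5217, 4150), (5218, 4151), (5219, 8598), (5220, 5222), (5221, 8602), (5222, 5220), (5223, 8606), (5224, 8609), (5225, 8612), (5226, 3112), (5227, 8614), (5228, 8617), (5229, 3113), (5230, 8619), (5231, 8622), (5232, 8625), (5233, 4234), (5234, 3116), (5235, 7089), (5236, 8630), (5237, 4256), (5238, 3118), (5239, 7128), (5240, 8635), (5241, 8638), (5242, 3120), (5243, 7172), (5244, 3122), (5245, 8646), (5246, 8649), (5247, 3123)]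
    ⟨e3 q5184 (flp_c L103502) q5195, e3 q5185 L103443 q5164, e3 q5186 (flp_c L106236) q5651, e3 q5187 L103455 q5187, e3 q5188 L103462 q5188, e3 q5189 (flp_c L103672) q5209, e3 q5190 L129610 q3341, e3 q5191 L103478 q3082, e3 q5192 L103484 q3083, e3 q5193 (flp_c L143829) q8565, e3 q5194 (flp_c L151244) q7690, e3 q5195 L103502 q5184, e3 q5196 L103506 q5145, e3 q5197 (flp_c L105917) q5617, e3 q5198 (flp_c L103518) q3086, e3 q5199 L119868 q3089, e3 q5200 L103570 q3648, e3 q5201 L103576 q5178, e3 q5202 L103584 q3276, e3 q5203 (flp_c L124347) q8066, e3 q5204 L103604 q3651, e3 q5205 L103610 q3095, e3 q5206 (flp_c L103614) q3096, e3 q5207 L129619 q3099, e3 q5208 L103660 q3656, e3 q5209 L103672 q5189, e3 q5210 L103680 q3299, e3 q5211 (flp_c L124738) q8110, e3 q5212 L103702 q3660, e3 q5213 L103708 q3105, e3 q5214 (flp_c L103732) q4148, e3 q5215 L103738 q3108, e3 q5216 L103746 q3109, e3 q5217 L103752 q4150, e3 q5218 L103758 q4151, e3 q5219 L144155 q8598, e3 q5220 (flp_c L103784) q5222, e3 q5221 L144177 q8602, e3 q5222 L103784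 q5220, e3 q5223 L144195 q8606, e3 q5224 L144207 q8609, e3 q5225 L144219 q8612, e3 q5226 (flp_c L103802) q3112, e3 q5227 (flp_c L144237) q8614, e3 q5228 L144253 q8617, e3 q5229 (flp_c L103814) q3113, e3 q5230 (flp_c L144271) q8619, e3 q5231 L144291 q8622, e3 q5232 L144317 q8625, e3 q5233 (flp_c L103837) q4234, e3 q5234 (flp_c L103847) q3116, e3 q5235 (flp_c L116465) q7089, e3 q5236 L144347 q8630, e3 q5237 (flp_c L103869) q4256, e3 q5238 (flp_c L103871) q3118, e3 q5239 (flp_c L116653) q7128, e3 q5240 L144369 q8635, e3 q5241 L144381 q8638, e3 q5242 (flp_c L103891) q3120, e3 q5243 (flp_c L116921) q7172, e3 q5244 L103905 q3122, e3 q5245 L144429 q8646, e3 q5246 L144443 q8649, e3 q5247 (flp_c L103919) q3123, trivial⟩ (by decide +kernel)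

theorem ce_c_82 : ∀ r, r < 64 → sm gc (Qf (5248 + r)) = Qf (tab Gen.c (5248 + r)) :=
  edges_tab (sm gc) Qf (tab Gen.c) 5248 [(5248, 8651), (5249, 8654), (5250, 3124), (5251, 7275), (5252, 3126), (5253, 8662), (5254, 8665), (5255, 3127), (5256, 8667), (5257, 4236), (5258, 4235), (5259, 3130), (5260, 8674), (5261, 7087), (5262, 4270), (5263, 3131), (5264, 8679), (5265, 4257), (5266, 4255), (5267, 3134), (5268, 8686), (5269, 7129), (5270, 4249), (5271, 3135), (5272, 8691), (5273, 8693), (5274, 3136), (5275, 8698), (5276, 8699), (5277, 8696), (5278, 6280), (5279, 3138), (5280, 8710), (5281, 7171), (5282, 7173), (5283, 8716), (5284, 3142), (5285, 8720), (5286, 3141), (5287, 8722), (5288, 8725), (5289, 8728), (5290, 3143), (5291, 8733), (5292, 7345), (5293, 3145), (5294, 5511), (5295, 8738), (5296, 3146), (5297, 8743), (5298, 8744), (5299, 8741), (5300, 6307), (5301, 3148), (5302, 8755), (5303, 7273), (5304, 7274), (5305, 8761), (5306, 3152), (5307, 8765), (5308, 3151), (5309, 8767), (5310, 8770), (5311, 8773)]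
    ⟨e3 q5248 (flp_c L144461) q8651, e3 q5249 L144477 q8654, e3 q5250 (flp_c L103933) q3124, e3 q5251 (flp_c L117565) q7275, e3 q5252 L103947 q3126, e3 q5253 L144521 q8662, e3 q5254 L144535 q8665, e3 q5255 (flp_c L103961) q3127, e3 q5256 (flp_c L144553) q8667, e3 q5257 L103975 q4236, e3 q5258 L103981 q4235, e3 q5259 L103991 q3130, e3 q5260 L144597 q8674, e3 q5261 (flp_c L116449) q7087, e3 q5262 L156830 q4270, e3 q5263 (flp_c L104013) q3131, e3 q5264 (flp_c L144629) q8679, e3 q5265 L104025 q4257, e3 q5266 L104031 q4255, e3 q5267 L104041 q3134, e3 q5268 L144673 q8686, e3 q5269 (flp_c L116663) q7129, e3 q5270 L156813 q4249, e3 q5271 (flp_c L104067) q3135, e3 q5272 (flp_c L144717) q8691, e3 q5273 L144731 q8693, e3 q5274 (flp_c L104085) q3136, e3 q5275 (flp_c L144765) q8698, e3 q5276 (flp_c L144771) q8699, e3 q5277 (flp_c L144757) q8696, e3 q5278 L110779 q6280, e3 q5279 L104109 q3138, e3 q5280 L144829 q8710, e3 q5281 (flp_c L116915) q7171, e3 q5282 (flp_c L116927) q7173, e3 q5283 L144865 q8716, e3 q5284 L104139 q3142,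 e3 q5285 L144885 q8720, e3 q5286 (flp_c L104151) q3141, e3 q5287 (flp_c L144899) q8722, e3 q5288 L144913 q8725, e3 q5289 L144927 q8728, e3 q5290 (flp_c L104169) q3143, e3 q5291 (flp_c L144961) q8733, e3 q5292 (flp_c L156794) q7345, e3 q5293 L104189 q3145, e3 q5294 (flp_c L151486) q5511, e3 q5295 L145000 q8738, e3 q5296 (flp_c L104206) q3146, e3 q5297 (flp_c L145032) q8743, e3 q5298 (flp_c L145038) q8744, e3 q5299 (flp_c L145024) q8741, e3 q5300 L110947 q6307, e3 q5301 L104230 q3148, e3 q5302 L145096 q8755, e3 q5303 (flp_c L117553) q7273, e3 q5304 (flp_c L117559) q7274, e3 q5305 L145132 q8761, e3 q5306 L104260 q3152, e3 q5307 L145152 q8765, e3 q5308 (flp_c L104272) q3151, e3 q5309 (flp_c L145166) q8767, e3 q5310 L145180 q8770, e3 q5311 L145196 q8773, trivial⟩ (by decide +kernel)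

theorem ce_c_83 : ∀ r, r < 64 → sm gc (Qf (5312 + r)) = Qf (tab Gen.c (5312 + r)) :=
  edges_tab (sm gc) Qf (tab Gen.c) 5312 [(5312, 3153), (5313, 8778), (5314, 7245), (5315, 3155), (5316, 5471), (5317, 3157), (5318, 5005), (5319, 7034), (5320, 8788), (5321, 8783), (5322, 8784), (5323, 5360), (5324, 8426), (5325, 8797), (5326, 5078), (5327, 8801), (5328, 3161), (5329, 8804), (5330, 5353), (5331, 3163), (5332, 8811), (5333, 5350), (5334, 5366), (5335, 3166), (5336, 8819), (5337, 3168), (5338, 5006), (5339, 7062), (5340, 8825), (5341, 8820), (5342, 8821), (5343, 5370), (5344, 8431), (5345, 8834), (5346, 5074), (5347, 8838), (5348, 3172), (5349, 8841), (5350, 5333), (5351, 3174), (5352, 8848), (5353, 5330), (5354, 5376), (5355, 3177), (5356, 8856), (5357, 5357), (5358, 8642), (5359, 5359), (5360, 5323), (5361, 5371), (5362, 8862), (5363, 3181), (5364, 3182), (5365, 5365), (5366, 5334), (5367, 5367), (5368, 8658), (5369, 5369), (5370, 5343), (5371, 5361), (5372, 8876), (5373, 3187), (5374, 3188), (5375, 5375)]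
    ⟨e3 q5312 (flp_c L104290) q3153, e3 q5313 (flp_c L145220) q8778, e3 q5314 (flp_c L156844) q7245, e3 q5315 L104310 q3155, e3 q5316 (flp_c L151528) q5471, e3 q5317 L104327 q3157, e3 q5318 L104335 q5005, e3 q5319 L116078 q7034, e3 q5320 L145292 q8788, e3 q5321 (flp_c L145261) q8783, e3 q5322 (flp_c L145268) q8784, e3 q5323 (flp_c L104562) q5360, e3 q5324 (flp_c L130402) q8426, e3 q5325 L145362 q8797, e3 q5326 L104373 q5078, e3 q5327 L145380 q8801, e3 q5328 (flp_c L104383) q3161, e3 q5329 (flp_c L145400) q8804, e3 q5330 (flp_c L104522) q5353, e3 q5331 (flp_c L104397) q3163, e3 q5332 L145440 q8811, e3 q5333 (flp_c L104502) q5350, e3 q5334 L104613 q5366, e3 q5335 (flp_c L104420) q3166, e3 q5336 (flp_c L145478) q8819, e3 q5337 L104432 q3168, e3 q5338 L104440 q5006, e3 q5339 (flp_c L149727) q7062, e3 q5340 L145532 q8825, e3 q5341 (flp_c L145493) q8820, e3 q5342 (flp_c L145501) q8821, e3 q5343 (flp_c L104645) q5370, e3 q5344 (flp_c L130434) q8431, e3 q5345 L145584 q8834, e3 q5346 L104478 q5074, e3 q5347 L145598 q8838,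 e3 q5348 (flp_c L104488) q3172, e3 q5349 (flp_c L145618) q8841, e3 q5350 L104502 q5333, e3 q5351 (flp_c L104504) q3174, e3 q5352 L145666 q8848, e3 q5353 L104522 q5330, e3 q5354 L104706 q5376, e3 q5355 (flp_c L104529) q3177, e3 q5356 (flp_c L145710) q8856, e3 q5357 L104539 q5357, e3 q5358 (flp_c L144409) q8642, e3 q5359 L104555 q5359, e3 q5360 L104562 q5323, e3 q5361 (flp_c L104655) q5371, e3 q5362 L145750 q8862, e3 q5363 (flp_c L104581) q3181, e3 q5364 (flp_c L104591) q3182, e3 q5365 L104607 q5365, e3 q5366 (flp_c L104613) q5334, e3 q5367 L104622 q5367, e3 q5368 (flp_c L150906) q8658, e3 q5369 L104631 q5369, e3 q5370 L104645 q5343, e3 q5371 L104655 q5361, e3 q5372 L145870 q8876, e3 q5373 (flp_c L104670) q3187, e3 q5374 (flp_c L104682) q3188, e3 q5375 L104700 q5375, trivial⟩ (by decide +kernel)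

theorem ce_c_84 : ∀ r, r < 64 → sm gc (Qf (5376 + r)) = Qf (tab Gen.c (5376 + r)) :=
  edges_tab (sm gc) Qf (tab Gen.c) 5376 [(5376, 5354), (5377, 6631), (5378, 6680), (5379, 3571), (5380, 3194), (5381, 8889), (5382, 8892), (5383, 3581), (5384, 3196), (5385, 8895), (5386, 8898), (5387, 8901), (5388, 3198), (5389, 8904), (5390, 3200), (5391, 6013), (5392, 8908), (5393, 3201), (5394, 8911), (5395, 3203), (5396, 6029), (5397, 5399), (5398, 3204), (5399, 5397), (5400, 8915), (5401, 5894), (5402, 5450), (5403, 8920), (5404, 6799), (5405, 3208), (5406, 6823), (5407, 8924), (5408, 3209), (5409, 8927), (5410, 4078), (5411, 3211), (5412, 4075), (5413, 5416), (5414, 3212), (5415, 8931), (5416, 5413), (5417, 5916), (5418, 5494), (5419, 8936), (5420, 6727), (5421, 3216), (5422, 6749), (5423, 8940), (5424, 3217), (5425, 8943), (5426, 4032), (5427, 3219), (5428, 4029), (5429, 3220), (5430, 8947), (5431, 8948), (5432, 3224), (5433, 5749), (5434, 3222), (5435, 3223), (5436, 8955), (5437, 8960), (5438, 8957), (5439, 3271)]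
    ⟨e3 q5376 (flp_c L104706) q5354, e3 q5377 L120361 q6631, e3 q5378 (flp_c L146207) q6680, e3 q5379 L119012 q3571, e3 q5380 (flp_c L104813) q3194, e3 q5381 (flp_c L145959) q8889, e3 q5382 L145971 q8892, e3 q5383 L148189 q3581, e3 q5384 (flp_c L104825) q3196, e3 q5385 (flp_c L145991) q8895, e3 q5386 L146050 q8898, e3 q5387 L146104 q8901, e3 q5388 (flp_c L104835) q3198, e3 q5389 (flp_c L146124) q8904, e3 q5390 L104849 q3200, e3 q5391 (flp_c L119421) q6013, e3 q5392 L146146 q8908, e3 q5393 (flp_c L104859) q3201, e3 q5394 (flp_c L146162) q8911, e3 q5395 L104873 q3203, e3 q5396 (flp_c L149208) q6029, e3 q5397 (flp_c L104891) q5399, e3 q5398 (flp_c L104883) q3204, e3 q5399 L104891 q5397, e3 q5400 (flp_c L151600) q8915, e3 q5401 L119815 q5894, e3 q5402 (flp_c L105113) q5450, e3 q5403 L151622 q8920, e3 q5404 (flp_c L153016) q6799, e3 q5405 (flp_c L104921) q3208, e3 q5406 (flp_c L153020) q6823, e3 q5407 L151648 q8924, e3 q5408 (flp_c L104929) q3209, e3 q5409 (flp_c L151666) q8927, e3 q5410 (flp_c L153008) q4078, e3 q5411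 L104943 q3211, e3 q5412 (flp_c L152975) q4075, e3 q5413 L149709 q5416, e3 q5414 (flp_c L104953) q3212, e3 q5415 (flp_c L151708) q8931, e3 q5416 (flp_c L149709) q5413, e3 q5417 L149307 q5916, e3 q5418 (flp_c L105306) q5494, e3 q5419 L151730 q8936, e3 q5420 (flp_c L153422) q6727, e3 q5421 (flp_c L104985) q3216, e3 q5422 (flp_c L153457) q6749, e3 q5423 L151758 q8940, e3 q5424 (flp_c L104993) q3217, e3 q5425 (flp_c L151776) q8943, e3 q5426 (flp_c L153451) q4032, e3 q5427 L105007 q3219, e3 q5428 (flp_c L153412) q4029, e3 q5429 (flp_c L105015) q3220, e3 q5430 (flp_c L151838) q8947, e3 q5431 (flp_c L151848) q8948, e3 q5432 L105029 q3224, e3 q5433 L120538 q5749, e3 q5434 L105035 q3222, e3 q5435 L105039 q3223, e3 q5436 (flp_c L151890) q8955, e3 q5437 L151926 q8960, e3 q5438 (flp_c L151900) q8957, e3 q5439 (flp_c L105061) q3271, trivial⟩ (by decide +kernel)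

theorem ce_c_85 : ∀ r, r < 64 → sm gc (Qf (5440 + r)) = Qf (tab Gen.c (5440 + r)) :=
  edges_tab (sm gc) Qf (tab Gen.c) 5440 [(5440, 8951), (5441, 8952), (5442, 3228), (5443, 3229), (5444, 8971), (5445, 8974), (5446, 3227), (5447, 8977), (5448, 8968), (5449, 8981), (5450, 5402), (5451, 8984), (5452, 3230), (5453, 8986), (5454, 8989), (5455, 8992), (5456, 3232), (5457, 3254), (5458, 3234), (5459, 8998), (5460, 9000), (5461, 3235), (5462, 9002), (5463, 8559), (5464, 3236), (5465, 3895), (5466, 9006), (5467, 4784), (5468, 3256), (5469, 3238), (5470, 6644), (5471, 5316), (5472, 5599), (5473, 3242), (5474, 9014), (5475, 9015), (5476, 3246), (5477, 5750), (5478, 3244), (5479, 3245), (5480, 9026), (5481, 9023), (5482, 9024), (5483, 3294), (5484, 9018), (5485, 9019), (5486, 3250), (5487, 3251), (5488, 9037), (5489, 9040), (5490, 3249), (5491, 9042), (5492, 9034), (5493, 9046), (5494, 5418), (5495, 9049), (5496, 3252), (5497, 9050), (5498, 9053), (5499, 9056), (5500, 9060), (5501, 9062), (5502, 3257), (5503, 9064)]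
    ⟨e3 q5440 (flp_c L151870) q8951, e3 q5441 (flp_c L151876) q8952, e3 q5442 L105077 q3228, e3 q5443 L105083 q3229, e3 q5444 L151984 q8971, e3 q5445 L151996 q8974, e3 q5446 (flp_c L105093) q3227, e3 q5447 (flp_c L152016) q8977, e3 q5448 (flp_c L151972) q8968, e3 q5449 L152040 q8981, e3 q5450 L105113 q5402, e3 q5451 L152060 q8984, e3 q5452 (flp_c L105123) q3230, e3 q5453 (flp_c L152076) q8986, e3 q5454 L152084 q8989, e3 q5455 L152100 q8992, e3 q5456 (flp_c L105135) q3232, e3 q5457 L151520 q3254, e3 q5458 L105147 q3234, e3 q5459 L152130 q8998, e3 q5460 L152140 q9000, e3 q5461 (flp_c L105155) q3235, e3 q5462 (flp_c L152172) q9002, e3 q5463 L146078 q8559, e3 q5464 (flp_c L105163) q3236, e3 q5465 L143447 q3895, e3 q5466 (flp_c L152196) q9006, e3 q5467 L143415 q4784, e3 q5468 L151536 q3256, e3 q5469 L105179 q3238, e3 q5470 L143411 q6644, e3 q5471 L151528 q5316, e3 q5472 (flp_c L151556) q5599, e3 q5473 (flp_c L105208) q3242, e3 q5474 (flp_c L152278) q9014, e3 q5475 (flp_c L152288) q9015, e3 q5476 L105222 q3246, e3 q5477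 (flp_c L149180) q5750, e3 q5478 L105228 q3244, e3 q5479 L105232 q3245, e3 q5480 L152360 q9026, e3 q5481 (flp_c L152336) q9023, e3 q5482 (flp_c L152344) q9024, e3 q5483 (flp_c L105254) q3294, e3 q5484 (flp_c L152314) q9018, e3 q5485 (flp_c L152320) q9019, e3 q5486 L105270 q3250, e3 q5487 L105276 q3251, e3 q5488 L152428 q9037, e3 q5489 L152442 q9040, e3 q5490 (flp_c L105286) q3249, e3 q5491 (flp_c L152454) q9042, e3 q5492 (flp_c L152416) q9034, e3 q5493 L152478 q9046, e3 q5494 L105306 q5418, e3 q5495 L152498 q9049, e3 q5496 (flp_c L105316) q3252, e3 q5497 (flp_c L152508) q9050, e3 q5498 L152516 q9053, e3 q5499 L152532 q9056, e3 q5500 L152554 q9060, e3 q5501 L152564 q9062, e3 q5502 (flp_c L105352) q3257, e3 q5503 (flp_c L152582) q9064, trivial⟩ (by decide +kernel)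

theorem ce_c_86 : ∀ r, r < 64 → sm gc (Qf (5504 + r)) = Qf (tab Gen.c (5504 + r)) :=
  edges_tab (sm gc) Qf (tab Gen.c) 5504 [(5504, 8568), (5505, 3258), (5506, 9068), (5507, 3924), (5508, 4823), (5509, 3260), (5510, 6689), (5511, 5294), (5512, 5555), (5513, 3266), (5514, 9076), (5515, 3268), (5516, 3269), (5517, 5517), (5518, 4569), (5519, 9074), (5520, 9075), (5521, 4287), (5522, 4575), (5523, 9079), (5524, 9080), (5525, 8963), (5526, 5963), (5527, 8964), (5528, 5852), (5529, 3274), (5530, 6571), (5531, 9094), (5532, 8572), (5533, 5535), (5534, 3275), (5535, 5533), (5536, 9099), (5537, 3936), (5538, 3277), (5539, 9101), (5540, 9103), (5541, 3279), (5542, 5596), (5543, 9106), (5544, 5594), (5545, 5597), (5546, 5590), (5547, 5630), (5548, 3282), (5549, 9117), (5550, 5588), (5551, 8287), (5552, 5589), (5553, 5586), (5554, 5637), (5555, 5512), (5556, 3286), (5557, 3289), (5558, 9130), (5559, 3291), (5560, 3292), (5561, 5561), (5562, 4671), (5563, 9128), (5564, 9129), (5565, 4339), (5566, 4678), (5567, 9133)]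
    ⟨e3 q5504 (flp_c L146086) q8568, e3 q5505 (flp_c L105364) q3258, e3 q5506 (flp_c L152612) q9068, e3 q5507 L151278 q3924, e3 q5508 L151421 q4823, e3 q5509 L105384 q3260, e3 q5510 (flp_c L151272) q6689, e3 q5511 L151486 q5294, e3 q5512 (flp_c L151562) q5555, e3 q5513 L105419 q3266, e3 q5514 L152664 q9076, e3 q5515 L105427 q3268, e3 q5516 L105432 q3269, e3 q5517 L105439 q5517, e3 q5518 L119654 q4569, e3 q5519 (flp_c L152656) q9074, e3 q5520 (flp_c L152662) q9075, e3 q5521 L119643 q4287, e3 q5522 L120299 q4575, e3 q5523 (flp_c L152688) q9079, e3 q5524 (flp_c L152696) q9080, e3 q5525 (flp_c L151944) q8963, e3 q5526 (flp_c L120277) q5963, e3 q5527 (flp_c L151948) q8964, e3 q5528 (flp_c L120275) q5852, e3 q5529 L105493 q3274, e3 q5530 (flp_c L120559) q6571, e3 q5531 L152774 q9094, e3 q5532 (flp_c L143883) q8572, e3 q5533 L120579 q5535, e3 q5534 (flp_c L105517) q3275, e3 q5535 (flp_c L120579) q5533, e3 q5536 L152810 q9099, e3 q5537 L149096 q3936, e3 q5538 (flp_c L105529) q3277, e3 q5539 (flp_c L152826) q9101, e3 q5540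 L152836 q9103, e3 q5541 L105545 q3279, e3 q5542 (flp_c L105786) q5596, e3 q5543 (flp_c L152854) q9106, e3 q5544 (flp_c L105778) q5594, e3 q5545 (flp_c L105790) q5597, e3 q5546 (flp_c L105758) q5590, e3 q5547 L106055 q5630, e3 q5548 (flp_c L105573) q3282, e3 q5549 (flp_c L152902) q9117, e3 q5550 (flp_c L105748) q5588, e3 q5551 (flp_c L153050) q8287, e3 q5552 (flp_c L105752) q5589, e3 q5553 L105738 q5586, e3 q5554 (flp_c L106118) q5637, e3 q5555 L151562 q5512, e3 q5556 L105601 q3286, e3 q5557 L105606 q3289, e3 q5558 L153079 q9130, e3 q5559 L105614 q3291, e3 q5560 L105620 q3292, e3 q5561 L105626 q5561, e3 q5562 L150436 q4671, e3 q5563 (flp_c L153071) q9128, e3 q5564 (flp_c L153077) q9129, e3 q5565 L150432 q4339, e3 q5566 L150428 q4678, e3 q5567 (flp_c L153103) q9133, trivial⟩ (by decide +kernel)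

theorem ce_c_87 : ∀ r, r < 64 → sm gc (Qf (5568 + r)) = Qf (tab Gen.c (5568 + r)) :=
  edges_tab (sm gc) Qf (tab Gen.c) 5568 [(5568, 9134), (5569, 9029), (5570, 9030), (5571, 5978), (5572, 5860), (5573, 3297), (5574, 6609), (5575, 9148), (5576, 8581), (5577, 5579), (5578, 3298), (5579, 5577), (5580, 9153), (5581, 3908), (5582, 3300), (5583, 9155), (5584, 9157), (5585, 3302), (5586, 5553), (5587, 9160), (5588, 5550), (5589, 5552), (5590, 5546), (5591, 5663), (5592, 3305), (5593, 9171), (5594, 5544), (5595, 8296), (5596, 5542), (5597, 5545), (5598, 5670), (5599, 5472), (5600, 3309), (5601, 5601), (5602, 5602), (5603, 5603), (5604, 3536), (5605, 6867), (5606, 7530), (5607, 3355), (5608, 3356), (5609, 3357), (5610, 7035), (5611, 7536), (5612, 3360), (5613, 3361), (5614, 3383), (5615, 3363), (5616, 8554), (5617, 5197), (5618, 8001), (5619, 8555), (5620, 3386), (5621, 3324), (5622, 5717), (5623, 3321), (5624, 5714), (5625, 9199), (5626, 3323), (5627, 3325), (5628, 5729), (5629, 5733), (5630, 5547), (5631, 8577)]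
    ⟨e3 q5568 (flp_c L153111) q9134, e3 q5569 (flp_c L152388) q9029, e3 q5570 (flp_c L152392) q9030, e3 q5571 (flp_c L149494) q5978, e3 q5572 (flp_c L148060) q5860, e3 q5573 L105680 q3297, e3 q5574 (flp_c L150996) q6609, e3 q5575 L153189 q9148, e3 q5576 (flp_c L144033) q8581, e3 q5577 L151393 q5579, e3 q5578 (flp_c L105704) q3298, e3 q5579 (flp_c L151393) q5577, e3 q5580 L153225 q9153, e3 q5581 L151409 q3908, e3 q5582 (flp_c L105716) q3300, e3 q5583 (flp_c L153241) q9155, e3 q5584 L153251 q9157, e3 q5585 L105732 q3302, e3 q5586 (flp_c L105738) q5553, e3 q5587 (flp_c L153271) q9160, e3 q5588 L105748 q5550, e3 q5589 L105752 q5552, e3 q5590 L105758 q5546, e3 q5591 L106376 q5663, e3 q5592 (flp_c L105768) q3305, e3 q5593 (flp_c L153331) q9171, e3 q5594 L105778 q5544, e3 q5595 (flp_c L153487) q8296, e3 q5596 L105786 q5542, e3 q5597 L105790 q5545, e3 q5598 (flp_c L106441) q5670, e3 q5599 L151556 q5472, e3 q5600 L105802 q3309, e3 q5601 L105807 q5601, e3 q5602 L105814 q5602, e3 q5603 L105822 q5603, e3 q5604 L119568 q3536,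 e3 q5605 L120499 q6867, e3 q5606 (flp_c L121082) q7530, e3 q5607 L105843 q3355, e3 q5608 L105849 q3356, e3 q5609 L105855 q3357, e3 q5610 (flp_c L120297) q7035, e3 q5611 (flp_c L121125) q7536, e3 q5612 L105885 q3360, e3 q5613 L105891 q3361, e3 q5614 L147894 q3383, e3 q5615 L105903 q3363, e3 q5616 (flp_c L143713) q8554, e3 q5617 L105917 q5197, e3 q5618 (flp_c L123836) q8001, e3 q5619 (flp_c L143723) q8555, e3 q5620 L149291 q3386, e3 q5621 L105945 q3324, e3 q5622 (flp_c L149303) q5717, e3 q5623 (flp_c L105953) q3321, e3 q5624 L149313 q5714, e3 q5625 (flp_c L153654) q9199, e3 q5626 (flp_c L105971) q3323, e3 q5627 (flp_c L105993) q3325, e3 q5628 L142694 q5729, e3 q5629 (flp_c L107019) q5733, e3 q5630 (flp_c L106055) q5547, e3 q5631 (flp_c L143919) q8577, trivial⟩ (by decide +kernel)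

theorem ce_c_88 : ∀ r, r < 64 → sm gc (Qf (5632 + r)) = Qf (tab Gen.c (5632 + r)) :=
  edges_tab (sm gc) Qf (tab Gen.c) 5632 [(5632, 3373), (5633, 8264), (5634, 3374), (5635, 3375), (5636, 3376), (5637, 5554), (5638, 5638), (5639, 5639), (5640, 5640), (5641, 3544), (5642, 6888), (5643, 7576), (5644, 3379), (5645, 3380), (5646, 3381), (5647, 7064), (5648, 7582), (5649, 3387), (5650, 8563), (5651, 5186), (5652, 7943), (5653, 8564), (5654, 3346), (5655, 5678), (5656, 3343), (5657, 5674), (5658, 9235), (5659, 3345), (5660, 3347), (5661, 5694), (5662, 5700), (5663, 5591), (5664, 8586), (5665, 3397), (5666, 8275), (5667, 3398), (5668, 3399), (5669, 3400), (5670, 5598), (5671, 3354), (5672, 9258), (5673, 9259), (5674, 5657), (5675, 9189), (5676, 9265), (5677, 5124), (5678, 5655), (5679, 3385), (5680, 9271), (5681, 9274), (5682, 3362), (5683, 3389), (5684, 9277), (5685, 5728), (5686, 3365), (5687, 5725), (5688, 6499), (5689, 3366), (5690, 5722), (5691, 9282), (5692, 3368), (5693, 5721), (5694, 5661), (5695, 8095)]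
    ⟨e3 q5632 L106093 q3373, e3 q5633 L153028 q8264, e3 q5634 L106103 q3374, e3 q5635 L106107 q3375, e3 q5636 L106112 q3376, e3 q5637 L106118 q5554, e3 q5638 L106126 q5638, e3 q5639 L106133 q5639, e3 q5640 L106136 q5640, e3 q5641 L148070 q3544, e3 q5642 L150602 q6888, e3 q5643 L150876 q7576, e3 q5644 L106162 q3379, e3 q5645 L106168 q3380, e3 q5646 L106174 q3381, e3 q5647 (flp_c L150500) q7064, e3 q5648 L150878 q7582, e3 q5649 L106222 q3387, e3 q5650 (flp_c L143811) q8563, e3 q5651 L106236 q5186, e3 q5652 L150494 q7943, e3 q5653 (flp_c L143821) q8564, e3 q5654 L106264 q3346, e3 q5655 L150530 q5678, e3 q5656 (flp_c L106272) q3343, e3 q5657 L150544 q5674, e3 q5658 (flp_c L153922) q9235, e3 q5659 (flp_c L106290) q3345, e3 q5660 (flp_c L106312) q3347, e3 q5661 L142756 q5694, e3 q5662 (flp_c L106797) q5700, e3 q5663 (flp_c L106376) q5591, e3 q5664 (flp_c L144061) q8586, e3 q5665 L106416 q3397, e3 q5666 L153465 q8275, e3 q5667 L106426 q3398, e3 q5668 L106430 q3399, e3 q5669 L106434 q3400, e3 q5670 L106441 q5598, e3 q5671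 L120505 q3354, e3 q5672 (flp_c L154088) q9258, e3 q5673 (flp_c L154098) q9259, e3 q5674 (flp_c L150544) q5657, e3 q5675 (flp_c L153572) q9189, e3 q5676 L154130 q9265, e3 q5677 (flp_c L120422) q5124, e3 q5678 (flp_c L150530) q5655, e3 q5679 L150512 q3385, e3 q5680 L154172 q9271, e3 q5681 L154188 q9274, e3 q5682 (flp_c L106689) q3362, e3 q5683 L150584 q3389, e3 q5684 L154214 q9277, e3 q5685 (flp_c L151044) q5728, e3 q5686 (flp_c L106705) q3365, e3 q5687 (flp_c L151050) q5725, e3 q5688 (flp_c L163528) q6499, e3 q5689 (flp_c L106717) q3366, e3 q5690 (flp_c L151060) q5722, e3 q5691 L154230 q9282, e3 q5692 L106733 q3368, e3 q5693 (flp_c L151058) q5721, e3 q5694 (flp_c L142756) q5661, e3 q5695 (flp_c L124588) q8095, trivial⟩ (by decide +kernel)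

theorem ce_c_89 : ∀ r, r < 64 → sm gc (Qf (5696 + r)) = Qf (tab Gen.c (5696 + r)) :=
  edges_tab (sm gc) Qf (tab Gen.c) 5696 [(5696, 3395), (5697, 3371), (5698, 9294), (5699, 9239), (5700, 5662), (5701, 9270), (5702, 9214), (5703, 9215), (5704, 9216), (5705, 9306), (5706, 9219), (5707, 9220), (5708, 8268), (5709, 9221), (5710, 3378), (5711, 9311), (5712, 9312), (5713, 9195), (5714, 5624), (5715, 9318), (5716, 5131), (5717, 5622), (5718, 9269), (5719, 9323), (5720, 9325), (5721, 5693), (5722, 5690), (5723, 6532), (5724, 3390), (5725, 5687), (5726, 9329), (5727, 3392), (5728, 5685), (5729, 5628), (5730, 8051), (5731, 9292), (5732, 9203), (5733, 5629), (5734, 9322), (5735, 9250), (5736, 9251), (5737, 9252), (5738, 9348), (5739, 9255), (5740, 9256), (5741, 9257), (5742, 8279), (5743, 3414), (5744, 3415), (5745, 3419), (5746, 3421), (5747, 8437), (5748, 8438), (5749, 5433), (5750, 5477), (5751, 5791), (5752, 3409), (5753, 3410), (5754, 9358), (5755, 9359), (5756, 9363), (5757, 9366), (5758, 3662), (5759, 3663)]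
    ⟨e3 q5696 L106773 q3395, e3 q5697 (flp_c L106783) q3371, e3 q5698 (flp_c L154300) q9294, e3 q5699 L153958 q9239, e3 q5700 L106797 q5662, e3 q5701 (flp_c L154510) q9270, e3 q5702 (flp_c L153761) q9214, e3 q5703 (flp_c L153767) q9215, e3 q5704 (flp_c L153773) q9216, e3 q5705 L154376 q9306, e3 q5706 (flp_c L153795) q9219, e3 q5707 (flp_c L153802) q9220, e3 q5708 L153044 q8268, e3 q5709 (flp_c L153810) q9221, e3 q5710 L149650 q3378, e3 q5711 (flp_c L154418) q9311, e3 q5712 (flp_c L154428) q9312, e3 q5713 (flp_c L153612) q9195, e3 q5714 (flp_c L149313) q5624, e3 q5715 L154478 q9318, e3 q5716 L129596 q5131, e3 q5717 L149303 q5622, e3 q5718 (flp_c L154158) q9269, e3 q5719 L154540 q9323, e3 q5720 L154578 q9325, e3 q5721 L151058 q5693, e3 q5722 L151060 q5690, e3 q5723 (flp_c L163702) q6532, e3 q5724 (flp_c L106951) q3390, e3 q5725 L151050 q5687, e3 q5726 L154604 q9329, e3 q5727 L106967 q3392, e3 q5728 L151044 q5685, e3 q5729 (flp_c L142694) q5628, e3 q5730 (flp_c L124171) q8051, e3 q5731 (flp_c L154288) q9292, e3 q5732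 L153686 q9203, e3 q5733 L107019 q5629, e3 q5734 (flp_c L154548) q9322, e3 q5735 (flp_c L154027) q9250, e3 q5736 (flp_c L154033) q9251, e3 q5737 (flp_c L154045) q9252, e3 q5738 L154742 q9348, e3 q5739 (flp_c L154063) q9255, e3 q5740 (flp_c L154069) q9256, e3 q5741 (flp_c L154078) q9257, e3 q5742 L153481 q8279, e3 q5743 L107089 q3414, e3 q5744 L107099 q3415, e3 q5745 L107107 q3419, e3 q5746 L107119 q3421, e3 q5747 (flp_c L130602) q8437, e3 q5748 (flp_c L130610) q8438, e3 q5749 (flp_c L120538) q5433, e3 q5750 L149180 q5477, e3 q5751 (flp_c L107415) q5791, e3 q5752 L107156 q3409, e3 q5753 L107162 q3410, e3 q5754 (flp_c L154828) q9358, e3 q5755 (flp_c L154838) q9359, e3 q5756 L154869 q9363, e3 q5757 L154885 q9366, e3 q5758 L107194 q3662, e3 q5759 L107204 q3663, trivial⟩ (by decide +kernel)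

theorem ce_c_90 : ∀ r, r < 64 → sm gc (Qf (5760 + r)) = Qf (tab Gen.c (5760 + r)) :=
  edges_tab (sm gc) Qf (tab Gen.c) 5760 [(5760, 9370), (5761, 9372), (5762, 6183), (5763, 3667), (5764, 6187), (5765, 3669), (5766, 5766), (5767, 5767), (5768, 9382), (5769, 5769), (5770, 5770), (5771, 9386), (5772, 4461), (5773, 4473), (5774, 4162), (5775, 3424), (5776, 9393), (5777, 4168), (5778, 3425), (5779, 9398), (5780, 7374), (5781, 5781), (5782, 5782), (5783, 7405), (5784, 5784), (5785, 5785), (5786, 7454), (5787, 7455), (5788, 9408), (5789, 9409), (5790, 7452), (5791, 5751), (5792, 3434), (5793, 3435), (5794, 3436), (5795, 9413), (5796, 3437), (5797, 9414), (5798, 3438), (5799, 5085), (5800, 9415), (5801, 9416), (5802, 3442), (5803, 3443), (5804, 3445), (5805, 3447), (5806, 6864), (5807, 9421), (5808, 6885), (5809, 9422), (5810, 6868), (5811, 9431), (5812, 6889), (5813, 9435), (5814, 9438), (5815, 9441), (5816, 3450), (5817, 9444), (5818, 9447), (5819, 9450), (5820, 3453), (5821, 9453), (5822, 9456), (5823, 3454)]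
    ⟨e3 q5760 L154914 q9370, e3 q5761 L154928 q9372, e3 q5762 (flp_c L110188) q6183, e3 q5763 L107228 q3667, e3 q5764 (flp_c L150942) q6187, e3 q5765 L107248 q3669, e3 q5766 L107258 q5766, e3 q5767 L107265 q5767, e3 q5768 L154996 q9382, e3 q5769 L107274 q5769, e3 q5770 L107281 q5770, e3 q5771 L155016 q9386, e3 q5772 L107294 q4461, e3 q5773 L150265 q4473, e3 q5774 (flp_c L107314) q4162, e3 q5775 (flp_c L107316) q3424, e3 q5776 (flp_c L155088) q9393, e3 q5777 L150948 q4168, e3 q5778 (flp_c L107332) q3425, e3 q5779 (flp_c L155142) q9398, e3 q5780 L120544 q7374, e3 q5781 L107348 q5781, e3 q5782 L107357 q5782, e3 q5783 L118390 q7405, e3 q5784 L107370 q5784, e3 q5785 L107379 q5785, e3 q5786 (flp_c L118818) q7454, e3 q5787 (flp_c L118828) q7455, e3 q5788 L155206 q9408, e3 q5789 L155216 q9409, e3 q5790 L118793 q7452, e3 q5791 L107415 q5751, e3 q5792 L107421 q3434, e3 q5793 L107427 q3435, e3 q5794 (flp_c L107439) q3436, e3 q5795 (flp_c L155256) q9413, e3 q5796 (flp_c L107445) q3437, e3 q5797 (flp_c L155264) q9414, e3 q5798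 (flp_c L107449) q3438, e3 q5799 L107461 q5085, e3 q5800 (flp_c L155272) q9415, e3 q5801 (flp_c L155284) q9416, e3 q5802 L107473 q3442, e3 q5803 L107479 q3443, e3 q5804 L107489 q3445, e3 q5805 L107501 q3447, e3 q5806 L120497 q6864, e3 q5807 (flp_c L155328) q9421, e3 q5808 L149642 q6885, e3 q5809 (flp_c L155340) q9422, e3 q5810 L120501 q6868, e3 q5811 L155388 q9431, e3 q5812 L149646 q6889, e3 q5813 L155406 q9435, e3 q5814 L155418 q9438, e3 q5815 L155427 q9441, e3 q5816 (flp_c L107583) q3450, e3 q5817 (flp_c L155451) q9444, e3 q5818 L155463 q9447, e3 q5819 L155472 q9450, e3 q5820 (flp_c L107597) q3453, e3 q5821 (flp_c L155534) q9453, e3 q5822 L155554 q9456, e3 q5823 (flp_c L107609) q3454, trivial⟩ (by decide +kernel)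

theorem ce_c_91 : ∀ r, r < 64 → sm gc (Qf (5824 + r)) = Qf (tab Gen.c (5824 + r)) :=
  edges_tab (sm gc) Qf (tab Gen.c) 5824 [(5824, 9458), (5825, 9461), (5826, 3455), (5827, 9463), (5828, 9455), (5829, 3456), (5830, 9465), (5831, 3458), (5832, 9468), (5833, 9460), (5834, 3459), (5835, 9470), (5836, 3461), (5837, 9473), (5838, 7499), (5839, 7939), (5840, 9479), (5841, 9481), (5842, 7997), (5843, 7513), (5844, 9487), (5845, 9489), (5846, 4200), (5847, 3468), (5848, 7032), (5849, 4218), (5850, 3469), (5851, 7059), (5852, 5528), (5853, 3470), (5854, 9496), (5855, 3472), (5856, 9501), (5857, 9504), (5858, 3473), (5859, 9507), (5860, 5572), (5861, 3474), (5862, 9512), (5863, 3476), (5864, 9517), (5865, 9520), (5866, 3477), (5867, 9523), (5868, 4485), (5869, 4543), (5870, 4520), (5871, 4508), (5872, 4202), (5873, 4201), (5874, 9530), (5875, 3484), (5876, 9534), (5877, 7031), (5878, 4228), (5879, 3485), (5880, 6278), (5881, 4219), (5882, 4217), (5883, 9543), (5884, 3488), (5885, 9547), (5886, 7060), (5887, 4211)]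
    ⟨e3 q5824 (flp_c L155574) q9458, e3 q5825 L155600 q9461, e3 q5826 (flp_c L107623) q3455, e3 q5827 (flp_c L155620) q9463, e3 q5828 L155552 q9455, e3 q5829 (flp_c L107637) q3456, e3 q5830 (flp_c L155638) q9465, e3 q5831 L107655 q3458, e3 q5832 (flp_c L155658) q9468, e3 q5833 L155598 q9460, e3 q5834 (flp_c L107669) q3459, e3 q5835 (flp_c L155674) q9470, e3 q5836 L107687 q3461, e3 q5837 (flp_c L155694) q9473, e3 q5838 (flp_c L120848) q7499, e3 q5839 (flp_c L123406) q7939, e3 q5840 L155732 q9479, e3 q5841 L155743 q9481, e3 q5842 (flp_c L123774) q7997, e3 q5843 (flp_c L150678) q7513, e3 q5844 L155778 q9487, e3 q5845 L155789 q9489, e3 q5846 (flp_c L107735) q4200, e3 q5847 (flp_c L107737) q3468, e3 q5848 (flp_c L115990) q7032, e3 q5849 L150370 q4218, e3 q5850 (flp_c L107761) q3469, e3 q5851 (flp_c L150910) q7059, e3 q5852 L120275 q5528, e3 q5853 (flp_c L107779) q3470, e3 q5854 L155838 q9496, e3 q5855 L107795 q3472, e3 q5856 L155866 q9501, e3 q5857 L155880 q9504, e3 q5858 (flp_c L107809) q3473, e3 q5859 (flp_c L155900)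 q9507, e3 q5860 L148060 q5572, e3 q5861 (flp_c L107825) q3474, e3 q5862 L155936 q9512, e3 q5863 L107841 q3476, e3 q5864 L155966 q9517, e3 q5865 L155984 q9520, e3 q5866 (flp_c L107859) q3477, e3 q5867 (flp_c L156006) q9523, e3 q5868 L107877 q4485, e3 q5869 L151224 q4543, e3 q5870 L150047 q4520, e3 q5871 L150968 q4508, e3 q5872 L107921 q4202, e3 q5873 L107927 q4201, e3 q5874 L156088 q9530, e3 q5875 L107943 q3484, e3 q5876 L156118 q9534, e3 q5877 (flp_c L115980) q7031, e3 q5878 L151307 q4228, e3 q5879 (flp_c L107965) q3485, e3 q5880 (flp_c L151311) q6278, e3 q5881 L150442 q4219, e3 q5882 L150323 q4217, e3 q5883 L156198 q9543, e3 q5884 L107993 q3488, e3 q5885 L156228 q9547, e3 q5886 (flp_c L150908) q7060, e3 q5887 L151199 q4211, trivial⟩ (by decide +kernel)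

theorem ce_c_92 : ∀ r, r < 64 → sm gc (Qf (5888 + r)) = Qf (tab Gen.c (5888 + r)) :=
  edges_tab (sm gc) Qf (tab Gen.c) 5888 [(5888, 3489), (5889, 6304), (5890, 6369), (5891, 3490), (5892, 5143), (5893, 9554), (5894, 5401), (5895, 9559), (5896, 3492), (5897, 9564), (5898, 3493), (5899, 9566), (5900, 9567), (5901, 3496), (5902, 9572), (5903, 3495), (5904, 9574), (5905, 9577), (5906, 9580), (5907, 3497), (5908, 9585), (5909, 9586), (5910, 3499), (5911, 9589), (5912, 6379), (5913, 3500), (5914, 9592), (5915, 5162), (5916, 5417), (5917, 9597), (5918, 3502), (5919, 9602), (5920, 3503), (5921, 9604), (5922, 9605), (5923, 3506), (5924, 9610), (5925, 3505), (5926, 9612), (5927, 9615), (5928, 9618), (5929, 3507), (5930, 9623), (5931, 9624), (5932, 3509), (5933, 9627), (5934, 3762), (5935, 5944), (5936, 3512), (5937, 9635), (5938, 3752), (5939, 5947), (5940, 3515), (5941, 9642), (5942, 3516), (5943, 5943), (5944, 5935), (5945, 3518), (5946, 5946), (5947, 5939), (5948, 6137), (5949, 6150), (5950, 4488), (5951, 4524)]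
    ⟨e3 q5888 (flp_c L108013) q3489, e3 q5889 (flp_c L151303) q6304, e3 q5890 L120408 q6369, e3 q5891 (flp_c L108027) q3490, e3 q5892 (flp_c L119851) q5143, e3 q5893 (flp_c L156296) q9554, e3 q5894 (flp_c L119815) q5401, e3 q5895 L156338 q9559, e3 q5896 L108051 q3492, e3 q5897 L156372 q9564, e3 q5898 (flp_c L108061) q3493, e3 q5899 (flp_c L156386) q9566, e3 q5900 (flp_c L156390) q9567, e3 q5901 L108079 q3496, e3 q5902 L156414 q9572, e3 q5903 (flp_c L108091) q3495, e3 q5904 (flp_c L156428) q9574, e3 q5905 L156444 q9577, e3 q5906 L156462 q9580, e3 q5907 (flp_c L108109) q3497, e3 q5908 (flp_c L156494) q9585, e3 q5909 L156500 q9586, e3 q5910 L108129 q3499, e3 q5911 (flp_c L156517) q9589, e3 q5912 L112145 q6379, e3 q5913 (flp_c L108146) q3500, e3 q5914 (flp_c L156543) q9592, e3 q5915 L147923 q5162, e3 q5916 (flp_c L149307) q5417, e3 q5917 L156585 q9597, e3 q5918 L108170 q3502, e3 q5919 L156619 q9602, e3 q5920 (flp_c L108180) q3503, e3 q5921 (flp_c L156633) q9604, e3 q5922 (flp_c L156637) q9605, e3 q5923 L108198 q3506,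 e3 q5924 L156661 q9610, e3 q5925 (flp_c L108210) q3505, e3 q5926 (flp_c L156675) q9612, e3 q5927 L156693 q9615, e3 q5928 L156713 q9618, e3 q5929 (flp_c L108228) q3507, e3 q5930 (flp_c L156747) q9623, e3 q5931 L156753 q9624, e3 q5932 L108248 q3509, e3 q5933 (flp_c L156770) q9627, e3 q5934 L108265 q3762, e3 q5935 L108323 q5944, e3 q5936 (flp_c L108272) q3512, e3 q5937 (flp_c L156899) q9635, e3 q5938 L108284 q3752, e3 q5939 L108354 q5947, e3 q5940 (flp_c L108291) q3515, e3 q5941 (flp_c L156938) q9642, e3 q5942 (flp_c L108299) q3516, e3 q5943 L108317 q5943, e3 q5944 (flp_c L108323) q5935, e3 q5945 (flp_c L108330) q3518, e3 q5946 L108348 q5946, e3 q5947 (flp_c L108354) q5939, e3 q5948 L120255 q6137, e3 q5949 L148100 q6150, e3 q5950 L108453 q4488, e3 q5951 L150039 q4524, trivial⟩ (by decide +kernel)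

theorem ce_c_93 : ∀ r, r < 64 → sm gc (Qf (5952 + r)) = Qf (tab Gen.c (5952 + r)) :=
  edges_tab (sm gc) Qf (tab Gen.c) 5952 [(5952, 3530), (5953, 9657), (5954, 8083), (5955, 3531), (5956, 9661), (5957, 3534), (5958, 9664), (5959, 8124), (5960, 3535), (5961, 9668), (5962, 8588), (5963, 5526), (5964, 4975), (5965, 4947), (5966, 4976), (5967, 9675), (5968, 9678), (5969, 3540), (5970, 9680), (5971, 9682), (5972, 3541), (5973, 9686), (5974, 9687), (5975, 3543), (5976, 9690), (5977, 8579), (5978, 5571), (5979, 4977), (5980, 4948), (5981, 4978), (5982, 9697), (5983, 9700), (5984, 3548), (5985, 9702), (5986, 9704), (5987, 3549), (5988, 9708), (5989, 9709), (5990, 3551), (5991, 9712), (5992, 5994), (5993, 5996), (5994, 5992), (5995, 3556), (5996, 5993), (5997, 3559), (5998, 6142), (5999, 3562), (6000, 9716), (6001, 9719), (6002, 3563), (6003, 9721), (6004, 6155), (6005, 3566), (6006, 9724), (6007, 9727), (6008, 3567), (6009, 9729), (6010, 3570), (6011, 4056), (6012, 8597), (6013, 5391), (6014, 9734), (6015, 3574)]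
    ⟨e3 q5952 L108505 q3530, e3 q5953 L157047 q9657, e3 q5954 (flp_c L157075) q8083, e3 q5955 (flp_c L108517) q3531, e3 q5956 (flp_c L157095) q9661, e3 q5957 L108541 q3534, e3 q5958 L157113 q9664, e3 q5959 L157079 q8124, e3 q5960 (flp_c L108557) q3535, e3 q5961 (flp_c L157141) q9668, e3 q5962 L144087 q8588, e3 q5963 L120277 q5526, e3 q5964 (flp_c L119429) q4975, e3 q5965 (flp_c L119431) q4947, e3 q5966 (flp_c L119433) q4976, e3 q5967 L157189 q9675, e3 q5968 L157199 q9678, e3 q5969 (flp_c L108617) q3540, e3 q5970 (flp_c L157211) q9680, e3 q5971 L157217 q9682, e3 q5972 (flp_c L108625) q3541, e3 q5973 (flp_c L157237) q9686, e3 q5974 L157241 q9687, e3 q5975 L108641 q3543, e3 q5976 (flp_c L157255) q9690, e3 q5977 L148052 q8579, e3 q5978 L149494 q5571, e3 q5979 L147699 q4977, e3 q5980 L147575 q4948, e3 q5981 L147573 q4978, e3 q5982 L157299 q9697, e3 q5983 L157309 q9700, e3 q5984 (flp_c L108689) q3548, e3 q5985 (flp_c L157321) q9702, e3 q5986 L157329 q9704, e3 q5987 (flp_c L108697) q3549, e3 q5988 (flp_c L157349) q9708,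 e3 q5989 L157353 q9709, e3 q5990 L108713 q3551, e3 q5991 (flp_c L157367) q9712, e3 q5992 L119005 q5994, e3 q5993 L149529 q5996, e3 q5994 (flp_c L119005) q5992, e3 q5995 L108787 q3556, e3 q5996 (flp_c L149529) q5993, e3 q5997 L108821 q3559, e3 q5998 (flp_c L120249) q6142, e3 q5999 L108859 q3562, e3 q6000 L157411 q9716, e3 q6001 L157433 q9719, e3 q6002 (flp_c L108883) q3563, e3 q6003 (flp_c L157455) q9721, e3 q6004 L148085 q6155, e3 q6005 L108917 q3566, e3 q6006 L157493 q9724, e3 q6007 L157515 q9727, e3 q6008 (flp_c L108941) q3567, e3 q6009 (flp_c L157537) q9729, e3 q6010 L108975 q3570, e3 q6011 L150762 q4056, e3 q6012 L144149 q8597, e3 q6013 L119421 q5391, e3 q6014 L157573 q9734, e3 q6015 L108997 q3574, trivial⟩ (by decide +kernel)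

theorem ce_c_94 : ∀ r, r < 64 → sm gc (Qf (6016 + r)) = Qf (tab Gen.c (6016 + r)) :=
  edges_tab (sm gc) Qf (tab Gen.c) 6016 [(6016, 9737), (6017, 3573), (6018, 9739), (6019, 8169), (6020, 9742), (6021, 3575), (6022, 9745), (6023, 9746), (6024, 3577), (6025, 6822), (6026, 3580), (6027, 4010), (6028, 8601), (6029, 5396), (6030, 9754), (6031, 3584), (6032, 9757), (6033, 3583), (6034, 9759), (6035, 8198), (6036, 9762), (6037, 3585), (6038, 9765), (6039, 9766), (6040, 3587), (6041, 6748), (6042, 5140), (6043, 3591), (6044, 5144), (6045, 6475), (6046, 8498), (6047, 3593), (6048, 9773), (6049, 8256), (6050, 9776), (6051, 6472), (6052, 3595), (6053, 9780), (6054, 3597), (6055, 3598), (6056, 9782), (6057, 8255), (6058, 9787), (6059, 9790), (6060, 3600), (6061, 9795), (6062, 3602), (6063, 7558), (6064, 9800), (6065, 3603), (6066, 9802), (6067, 3909), (6068, 3604), (6069, 9806), (6070, 9807), (6071, 9804), (6072, 9812), (6073, 3606), (6074, 4510), (6075, 3607), (6076, 9818), (6077, 6541), (6078, 3609), (6079, 9823)]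
    ⟨e3 q6016 L157591 q9737, e3 q6017 (flp_c L109007) q3573, e3 q6018 (flp_c L157607) q9739, e3 q6019 (flp_c L142770) q8169, e3 q6020 L157637 q9742, e3 q6021 (flp_c L109023) q3575, e3 q6022 (flp_c L157653) q9745, e3 q6023 L157657 q9746, e3 q6024 L109039 q3577, e3 q6025 (flp_c L157397) q6822, e3 q6026 L109073 q3580, e3 q6027 L149508 q4010, e3 q6028 L149539 q8601, e3 q6029 L149208 q5396, e3 q6030 L157705 q9754, e3 q6031 L109095 q3584, e3 q6032 L157725 q9757, e3 q6033 (flp_c L109105) q3583, e3 q6034 (flp_c L157741) q9759, e3 q6035 (flp_c L149212) q8198, e3 q6036 L157771 q9762, e3 q6037 (flp_c L109121) q3585, e3 q6038 (flp_c L157787) q9765, e3 q6039 L157791 q9766, e3 q6040 L109137 q3587, e3 q6041 (flp_c L157479) q6748, e3 q6042 (flp_c L119849) q5140, e3 q6043 L109171 q3591, e3 q6044 (flp_c L119853) q5144, e3 q6045 (flp_c L155500) q6475, e3 q6046 (flp_c L143315) q8498, e3 q6047 (flp_c L109197) q3593, e3 q6048 (flp_c L157829) q9773, e3 q6049 (flp_c L129042) q8256, e3 q6050 L157843 q9776, e3 q6051 L155496 q6472, e3 q6052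 (flp_c L109219) q3595, e3 q6053 (flp_c L157863) q9780, e3 q6054 L109237 q3597, e3 q6055 L109241 q3598, e3 q6056 (flp_c L157877) q9782, e3 q6057 (flp_c L129032) q8255, e3 q6058 L157905 q9787, e3 q6059 L157921 q9790, e3 q6060 (flp_c L109259) q3600, e3 q6061 L157941 q9795, e3 q6062 L109271 q3602, e3 q6063 (flp_c L121240) q7558, e3 q6064 L157963 q9800, e3 q6065 (flp_c L109279) q3603, e3 q6066 (flp_c L157985) q9802, e3 q6067 L120553 q3909, e3 q6068 (flp_c L109287) q3604, e3 q6069 (flp_c L158013) q9806, e3 q6070 (flp_c L158019) q9807, e3 q6071 (flp_c L158001) q9804, e3 q6072 L158033 q9812, e3 q6073 L109303 q3606, e3 q6074 (flp_c L109309) q4510, e3 q6075 (flp_c L109313) q3607, e3 q6076 (flp_c L158075) q9818, e3 q6077 (flp_c L175466) q6541, e3 q6078 L109328 q3609, e3 q6079 L158105 q9823, trivial⟩ (by decide +kernel)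

theorem ce_c_95 : ∀ r, r < 64 → sm gc (Qf (6080 + r)) = Qf (tab Gen.c (6080 + r)) :=
  edges_tab (sm gc) Qf (tab Gen.c) 6080 [(6080, 5159), (6081, 3612), (6082, 6509), (6083, 8527), (6084, 5163), (6085, 3615), (6086, 9827), (6087, 8259), (6088, 9830), (6089, 6506), (6090, 3617), (6091, 9833), (6092, 3619), (6093, 3620), (6094, 9835), (6095, 8258), (6096, 9840), (6097, 9843), (6098, 3622), (6099, 9848), (6100, 3624), (6101, 7602), (6102, 9853), (6103, 3625), (6104, 9855), (6105, 3937), (6106, 3626), (6107, 9859), (6108, 9860), (6109, 9857), (6110, 9865), (6111, 3628), (6112, 4545), (6113, 3629), (6114, 9871), (6115, 6579), (6116, 3631), (6117, 9876), (6118, 4943), (6119, 3958), (6120, 3925), (6121, 6551), (6122, 3920), (6123, 3926), (6124, 6148), (6125, 9816), (6126, 3637), (6127, 4944), (6128, 3988), (6129, 3896), (6130, 6589), (6131, 3897), (6132, 3892), (6133, 6161), (6134, 9869), (6135, 3643), (6136, 9896), (6137, 5948), (6138, 3645), (6139, 9900), (6140, 5139), (6141, 9901), (6142, 5998), (6143, 3902)]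
    ⟨e3 q6080 L148075 q5159, e3 q6081 L109356 q3612, e3 q6082 L112129 q6509, e3 q6083 L149285 q8527, e3 q6084 L147903 q5163, e3 q6085 (flp_c L109386) q3615, e3 q6086 (flp_c L158135) q9827, e3 q6087 (flp_c L149053) q8259, e3 q6088 L158149 q9830, e3 q6089 L112137 q6506, e3 q6090 (flp_c L109408) q3617, e3 q6091 (flp_c L158161) q9833, e3 q6092 L109426 q3619, e3 q6093 L109430 q3620, e3 q6094 (flp_c L158175) q9835, e3 q6095 (flp_c L149051) q8258, e3 q6096 L158203 q9840, e3 q6097 L158219 q9843, e3 q6098 (flp_c L109448) q3622, e3 q6099 L158239 q9848, e3 q6100 L109460 q3624, e3 q6101 L155520 q7602, e3 q6102 L158261 q9853, e3 q6103 (flp_c L109468) q3625, e3 q6104 (flp_c L158283) q9855, e3 q6105 L120555 q3937, e3 q6106 (flp_c L109478) q3626, e3 q6107 (flp_c L158313) q9859, e3 q6108 (flp_c L158319) q9860, e3 q6109 (flp_c L158301) q9857, e3 q6110 L158333 q9865, e3 q6111 L109494 q3628, e3 q6112 L155512 q4545, e3 q6113 (flp_c L109500) q3629, e3 q6114 (flp_c L158375) q9871, e3 q6115 L163738 q6579, e3 q6116 L109515 q3631, e3 q6117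 L158405 q9876, e3 q6118 (flp_c L119699) q4943, e3 q6119 (flp_c L109551) q3958, e3 q6120 L109555 q3925, e3 q6121 (flp_c L152200) q6551, e3 q6122 L109563 q3920, e3 q6123 L109568 q3926, e3 q6124 (flp_c L109766) q6148, e3 q6125 (flp_c L158065) q9816, e3 q6126 L109579 q3637, e3 q6127 L147517 q4944, e3 q6128 (flp_c L109610) q3988, e3 q6129 L109614 q3896, e3 q6130 L152208 q6589, e3 q6131 L109622 q3897, e3 q6132 L109626 q3892, e3 q6133 (flp_c L109897) q6161, e3 q6134 (flp_c L158365) q9869, e3 q6135 L109638 q3643, e3 q6136 L158523 q9896, e3 q6137 (flp_c L120255) q5948, e3 q6138 (flp_c L109659) q3645, e3 q6139 (flp_c L158561) q9900, e3 q6140 L120359 q5139, e3 q6141 (flp_c L158567) q9901, e3 q6142 L120249 q5998, e3 q6143 (flp_c L109713) q3902, trivial⟩ (by decide +kernel)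

theorem ce_c_96 : ∀ r, r < 64 → sm gc (Qf (6144 + r)) = Qf (tab Gen.c (6144 + r)) :=
  edges_tab (sm gc) Qf (tab Gen.c) 6144 [(6144, 8576), (6145, 9908), (6146, 8578), (6147, 8575), (6148, 6124), (6149, 9913), (6150, 5949), (6151, 3654), (6152, 9917), (6153, 9918), (6154, 5158), (6155, 6004), (6156, 3930), (6157, 8585), (6158, 9925), (6159, 8584), (6160, 8587), (6161, 6133), (6162, 9930), (6163, 9932), (6164, 9934), (6165, 4954), (6166, 9937), (6167, 4952), (6168, 6184), (6169, 9941), (6170, 6188), (6171, 9943), (6172, 8211), (6173, 8214), (6174, 8215), (6175, 9952), (6176, 9955), (6177, 9958), (6178, 3673), (6179, 9961), (6180, 9964), (6181, 3674), (6182, 9967), (6183, 5762), (6184, 6168), (6185, 9970), (6186, 3677), (6187, 5764), (6188, 6170), (6189, 9972), (6190, 3680), (6191, 3681), (6192, 9973), (6193, 9976), (6194, 3683), (6195, 9977), (6196, 9980), (6197, 9981), (6198, 3685), (6199, 9986), (6200, 3687), (6201, 9990), (6202, 9993), (6203, 3688), (6204, 9996), (6205, 9998), (6206, 3689), (6207, 10003)]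
    ⟨e3 q6144 (flp_c L143913) q8576, e3 q6145 L158617 q9908, e3 q6146 (flp_c L143923) q8578, e3 q6147 (flp_c L149223) q8575, e3 q6148 L109766 q6124, e3 q6149 L158650 q9913, e3 q6150 (flp_c L148100) q5949, e3 q6151 (flp_c L109790) q3654, e3 q6152 (flp_c L158688) q9917, e3 q6153 (flp_c L158694) q9918, e3 q6154 L148506 q5158, e3 q6155 (flp_c L148085) q6004, e3 q6156 (flp_c L109844) q3930, e3 q6157 (flp_c L144051) q8585, e3 q6158 L158744 q9925, e3 q6159 (flp_c L149231) q8584, e3 q6160 (flp_c L144075) q8587, e3 q6161 L109897 q6133, e3 q6162 L158777 q9930, e3 q6163 L158791 q9932, e3 q6164 L158805 q9934, e3 q6165 L110071 q4954, e3 q6166 L158823 q9937, e3 q6167 L110091 q4952, e3 q6168 (flp_c L110196) q6184, e3 q6169 L158851 q9941, e3 q6170 (flp_c L150914) q6188, e3 q6171 L158865 q9943, e3 q6172 L128667 q8211, e3 q6173 (flp_c L128697) q8214, e3 q6174 (flp_c L128705) q8215, e3 q6175 L158931 q9952, e3 q6176 L158950 q9955, e3 q6177 L158973 q9958, e3 q6178 (flp_c L110158) q3673, e3 q6179 (flp_c L158993) q9961, e3 q6180 L159017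 q9964, e3 q6181 (flp_c L110174) q3674, e3 q6182 (flp_c L159037) q9967, e3 q6183 L110188 q5762, e3 q6184 L110196 q6168, e3 q6185 L159065 q9970, e3 q6186 L110212 q3677, e3 q6187 L150942 q5764, e3 q6188 L150914 q6170, e3 q6189 L159083 q9972, e3 q6190 L110242 q3680, e3 q6191 (flp_c L110256) q3681, e3 q6192 (flp_c L159210) q9973, e3 q6193 L159121 q9976, e3 q6194 (flp_c L110282) q3683, e3 q6195 (flp_c L167033) q9977, e3 q6196 L159159 q9980, e3 q6197 L159165 q9981, e3 q6198 (flp_c L110305) q3685, e3 q6199 L159203 q9986, e3 q6200 L110319 q3687, e3 q6201 L159245 q9990, e3 q6202 L159265 q9993, e3 q6203 (flp_c L110337) q3688, e3 q6204 (flp_c L159287) q9996, e3 q6205 L159301 q9998, e3 q6206 (flp_c L110355) q3689, e3 q6207 L159339 q10003, trivial⟩ (by decide +kernel)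

theorem ce_c_97 : ∀ r, r < 64 → sm gc (Qf (6208 + r)) = Qf (tab Gen.c (6208 + r)) :=
  edges_tab (sm gc) Qf (tab Gen.c) 6208 [(6208, 3691), (6209, 10007), (6210, 10010), (6211, 3692), (6212, 10013), (6213, 10015), (6214, 3693), (6215, 10018), (6216, 10019), (6217, 10016), (6218, 10026), (6219, 3695), (6220, 10030), (6221, 10031), (6222, 10035), (6223, 10038), (6224, 3697), (6225, 10040), (6226, 10041), (6227, 3698), (6228, 10044), (6229, 10045), (6230, 3700), (6231, 10048), (6232, 10049), (6233, 3701), (6234, 10052), (6235, 10053), (6236, 10050), (6237, 10060), (6238, 3703), (6239, 10064), (6240, 10065), (6241, 10069), (6242, 10072), (6243, 3705), (6244, 10074), (6245, 10075), (6246, 3706), (6247, 10078), (6248, 10079), (6249, 3708), (6250, 10082), (6251, 8226), (6252, 8242), (6253, 7039), (6254, 6290), (6255, 3711), (6256, 10089), (6257, 3712), (6258, 10092), (6259, 10093), (6260, 7164), (6261, 3714), (6262, 10100), (6263, 8245), (6264, 8230), (6265, 7067), (6266, 6317), (6267, 3717), (6268, 10108), (6269, 3718),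 (6270, 10111), (6271, 10112)]
    ⟨e3 q6208 L110369 q3691, e3 q6209 L159367 q10007, e3 q6210 L159387 q10010, e3 q6211 (flp_c L110387) q3692, e3 q6212 (flp_c L159409) q10013, e3 q6213 L159423 q10015, e3 q6214 (flp_c L110403) q3693, e3 q6215 (flp_c L159441) q10018, e3 q6216 (flp_c L159447) q10019, e3 q6217 (flp_c L159435) q10016, e3 q6218 L159493 q10026, e3 q6219 (flp_c L110427) q3695, e3 q6220 (flp_c L159521) q10030, e3 q6221 (flp_c L159527) q10031, e3 q6222 L159543 q10035, e3 q6223 L159561 q10038, e3 q6224 (flp_c L110451) q3697, e3 q6225 (flp_c L159575) q10040, e3 q6226 L159579 q10041, e3 q6227 (flp_c L110467) q3698, e3 q6228 (flp_c L159597) q10044, e3 q6229 L159603 q10045, e3 q6230 L110487 q3700, e3 q6231 (flp_c L159617) q10048, e3 q6232 L159623 q10049, e3 q6233 (flp_c L110503) q3701, e3 q6234 (flp_c L159641) q10052, e3 q6235 (flp_c L159647) q10053, e3 q6236 (flp_c L159635) q10050, e3 q6237 L159693 q10060, e3 q6238 (flp_c L110527) q3703, e3 q6239 (flp_c L159721) q10064, e3 q6240 (flp_c L159727) q10065, e3 q6241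 L159743 q10069, e3 q6242 L159761 q10072, e3 q6243 (flp_c L110551) q3705, e3 q6244 (flp_c L159775) q10074, e3 q6245 L159779 q10075, e3 q6246 (flp_c L110567) q3706, e3 q6247 (flp_c L159797) q10078, e3 q6248 L159803 q10079, e3 q6249 L110587 q3708, e3 q6250 (flp_c L159817) q10082, e3 q6251 L128787 q8226, e3 q6252 (flp_c L128891) q8242, e3 q6253 L116039 q7039, e3 q6254 L110841 q6290, e3 q6255 L110623 q3711, e3 q6256 L159875 q10089, e3 q6257 (flp_c L110635) q3712, e3 q6258 (flp_c L159894) q10092, e3 q6259 (flp_c L159898) q10093, e3 q6260 (flp_c L116854) q7164, e3 q6261 L110655 q3714, e3 q6262 L159940 q10100, e3 q6263 (flp_c L128931) q8245, e3 q6264 L128819 q8230, e3 q6265 L148990 q7067, e3 q6266 L111009 q6317, e3 q6267 L110691 q3717, e3 q6268 L160004 q10108, e3 q6269 (flp_c L110703) q3718, e3 q6270 (flp_c L160023) q10111, e3 q6271 (flp_c L160027) q10112, trivial⟩ (by decide +kernel)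

theorem ce_c_98 : ∀ r, r < 64 → sm gc (Qf (6272 + r)) = Qf (tab Gen.c (6272 + r)) :=
  edges_tab (sm gc) Qf (tab Gen.c) 6272 [(6272, 7124), (6273, 3720), (6274, 10119), (6275, 3722), (6276, 3723), (6277, 6279), (6278, 5880), (6279, 6277), (6280, 5278), (6281, 4276), (6282, 4277), (6283, 3725), (6284, 10126), (6285, 10127), (6286, 10131), (6287, 9535), (6288, 3727), (6289, 9533), (6290, 6254), (6291, 3729), (6292, 3730), (6293, 10137), (6294, 10143), (6295, 10139), (6296, 6367), (6297, 6368), (6298, 10149), (6299, 10151), (6300, 3733), (6301, 10152), (6302, 3735), (6303, 3736), (6304, 5889), (6305, 6306), (6306, 6305), (6307, 5300), (6308, 4327), (6309, 4328), (6310, 3738), (6311, 10159), (6312, 10160), (6313, 10164), (6314, 9548), (6315, 3740), (6316, 9546), (6317, 6266), (6318, 3742), (6319, 3743), (6320, 10170), (6321, 10176), (6322, 10172), (6323, 6347), (6324, 6348), (6325, 10182), (6326, 10184), (6327, 3746), (6328, 10185), (6329, 4285), (6330, 10189), (6331, 6331), (6332, 6332), (6333, 3748), (6334, 10196),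 (6335, 10197)]
    ⟨e3 q6272 (flp_c L116628) q7124, e3 q6273 L110723 q3720, e3 q6274 L160070 q10119, e3 q6275 L110739 q3722, e3 q6276 L110747 q3723, e3 q6277 (flp_c L110767) q6279, e3 q6278 L151311 q5880, e3 q6279 L110767 q6277, e3 q6280 (flp_c L110779) q5278, e3 q6281 L110785 q4276, e3 q6282 L110793 q4277, e3 q6283 (flp_c L110797) q3725, e3 q6284 (flp_c L160132) q10126, e3 q6285 (flp_c L160138) q10127, e3 q6286 L160166 q10131, e3 q6287 (flp_c L156134) q9535, e3 q6288 (flp_c L110825) q3727, e3 q6289 L156116 q9533, e3 q6290 (flp_c L110841) q6254, e3 q6291 L110845 q3729, e3 q6292 L110849 q3730, e3 q6293 (flp_c L160214) q10137, e3 q6294 L160252 q10143, e3 q6295 (flp_c L160224) q10139, e3 q6296 (flp_c L111285) q6367, e3 q6297 (flp_c L111295) q6368, e3 q6298 L160278 q10149, e3 q6299 L160290 q10151, e3 q6300 (flp_c L110891) q3733, e3 q6301 (flp_c L160300) q10152, e3 q6302 L110905 q3735, e3 q6303 L110913 q3736, e3 q6304 L151303 q5889, e3 q6305 (flp_c L110933) q6306, e3 q6306 L110933 q6305, e3 q6307 (flp_c L110947) q5300,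 e3 q6308 L110953 q4327, e3 q6309 L110961 q4328, e3 q6310 (flp_c L110965) q3738, e3 q6311 (flp_c L160362) q10159, e3 q6312 (flp_c L160368) q10160, e3 q6313 L160396 q10164, e3 q6314 (flp_c L156244) q9548, e3 q6315 (flp_c L110993) q3740, e3 q6316 L156226 q9546, e3 q6317 (flp_c L111009) q6266, e3 q6318 L111013 q3742, e3 q6319 L111017 q3743, e3 q6320 (flp_c L160444) q10170, e3 q6321 L160482 q10176, e3 q6322 (flp_c L160454) q10172, e3 q6323 (flp_c L111169) q6347, e3 q6324 (flp_c L111179) q6348, e3 q6325 L160508 q10182, e3 q6326 L160520 q10184, e3 q6327 (flp_c L111059) q3746, e3 q6328 (flp_c L160530) q10185, e3 q6329 (flp_c L111075) q4285, e3 q6330 L160562 q10189, e3 q6331 L111085 q6331, e3 q6332 L111092 q6332, e3 q6333 (flp_c L111095) q3748, e3 q6334 (flp_c L160598) q10196, e3 q6335 (flp_c L160602) q10197, trivial⟩ (by decide +kernel)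

theorem ce_c_99 : ∀ r, r < 64 → sm gc (Qf (6336 + r)) = Qf (tab Gen.c (6336 + r)) :=
  edges_tab (sm gc) Qf (tab Gen.c) 6336 [(6336, 10198), (6337, 6337), (6338, 9639), (6339, 6339), (6340, 9636), (6341, 9638), (6342, 10211), (6343, 10214), (6344, 3754), (6345, 10217), (6346, 9579), (6347, 6323), (6348, 6324), (6349, 4336), (6350, 10224), (6351, 6351), (6352, 6352), (6353, 3758), (6354, 10231), (6355, 10232), (6356, 10233), (6357, 9631), (6358, 6358), (6359, 6359), (6360, 9629), (6361, 9632), (6362, 10246), (6363, 10249), (6364, 3764), (6365, 10252), (6366, 9617), (6367, 6296), (6368, 6297), (6369, 5890), (6370, 10259), (6371, 4382), (6372, 4303), (6373, 3768), (6374, 10266), (6375, 10267), (6376, 10268), (6377, 4383), (6378, 4304), (6379, 5912), (6380, 10277), (6381, 4354), (6382, 4398), (6383, 3773), (6384, 10284), (6385, 10285), (6386, 10286), (6387, 4355), (6388, 4399), (6389, 3777), (6390, 10294), (6391, 3778), (6392, 10296), (6393, 4463), (6394, 6403), (6395, 10297), (6396, 4476), (6397, 6404), (6398, 10299),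 (6399, 7898)]
    ⟨e3 q6336 (flp_c L160606) q10198, e3 q6337 L111113 q6337, e3 q6338 (flp_c L156922) q9639, e3 q6339 L111128 q6339, e3 q6340 (flp_c L156906) q9636, e3 q6341 (flp_c L156916) q9638, e3 q6342 L160680 q10211, e3 q6343 L160696 q10214, e3 q6344 (flp_c L111153) q3754, e3 q6345 (flp_c L160712) q10217, e3 q6346 L156458 q9579, e3 q6347 L111169 q6323, e3 q6348 L111179 q6324, e3 q6349 (flp_c L111191) q4336, e3 q6350 L160758 q10224, e3 q6351 L111201 q6351, e3 q6352 L111208 q6352, e3 q6353 (flp_c L111211) q3758, e3 q6354 (flp_c L160794) q10231, e3 q6355 (flp_c L160798) q10232, e3 q6356 (flp_c L160802) q10233, e3 q6357 (flp_c L156877) q9631, e3 q6358 L111235 q6358, e3 q6359 L111244 q6359, e3 q6360 (flp_c L156784) q9629, e3 q6361 (flp_c L156884) q9632, e3 q6362 L160876 q10246, e3 q6363 L160892 q10249, e3 q6364 (flp_c L111269) q3764, e3 q6365 (flp_c L160908) q10252, e3 q6366 L156709 q9617, e3 q6367 L111285 q6296, e3 q6368 L111295 q6297, e3 q6369 (flp_c L120408) q5890, e3 q6370 L160954 q10259, e3 q6371 L111313 q4382,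 e3 q6372 L111321 q4303, e3 q6373 (flp_c L111325) q3768, e3 q6374 (flp_c L160998) q10266, e3 q6375 (flp_c L161002) q10267, e3 q6376 (flp_c L161006) q10268, e3 q6377 L111349 q4383, e3 q6378 L111359 q4304, e3 q6379 (flp_c L112145) q5912, e3 q6380 L161068 q10277, e3 q6381 L111377 q4354, e3 q6382 L111385 q4398, e3 q6383 (flp_c L111389) q3773, e3 q6384 (flp_c L161112) q10284, e3 q6385 (flp_c L161116) q10285, e3 q6386 (flp_c L161120) q10286, e3 q6387 L111413 q4355, e3 q6388 L111423 q4399, e3 q6389 (flp_c L111429) q3777, e3 q6390 (flp_c L161176) q10294, e3 q6391 (flp_c L111441) q3778, e3 q6392 (flp_c L161190) q10296, e3 q6393 L111455 q4463, e3 q6394 (flp_c L111515) q6403, e3 q6395 L161192 q10297, e3 q6396 L150267 q4476, e3 q6397 (flp_c L150944) q6404, e3 q6398 L161204 q10299, e3 q6399 (flp_c L163879) q7898, trivial⟩ (by decide +kernel)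

theorem ce_c_100 : ∀ r, r < 64 → sm gc (Qf (6400 + r)) = Qf (tab Gen.c (6400 + r)) :=
  edges_tab (sm gc) Qf (tab Gen.c) 6400 [(6400, 3784), (6401, 7737), (6402, 3786), (6403, 6394), (6404, 6397), (6405, 3793), (6406, 3797), (6407, 5015), (6408, 3795), (6409, 3796), (6410, 10305), (6411, 10307), (6412, 6414), (6413, 10310), (6414, 6412), (6415, 10302), (6416, 7540), (6417, 3800), (6418, 3801), (6419, 10314), (6420, 8192), (6421, 10318), (6422, 3802), (6423, 10320), (6424, 10322), (6425, 3803), (6426, 8094), (6427, 3805), (6428, 3806), (6429, 10327), (6430, 5123), (6431, 3808), (6432, 3809), (6433, 5135), (6434, 10334), (6435, 3811), (6436, 3812), (6437, 3816), (6438, 5021), (6439, 3814), (6440, 3815), (6441, 10343), (6442, 10344), (6443, 6446), (6444, 10347), (6445, 10339), (6446, 6443), (6447, 7585), (6448, 3819), (6449, 3820), (6450, 10351), (6451, 8162), (6452, 10355), (6453, 3821), (6454, 10357), (6455, 10359), (6456, 3822), (6457, 8076), (6458, 3824), (6459, 3825), (6460, 10328), (6461, 5119), (6462, 3827),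 (6463, 3828)]
    ⟨e3 q6400 (flp_c L111483) q3784, e3 q6401 (flp_c L163935) q7737, e3 q6402 (flp_c L111509) q3786, e3 q6403 L111515 q6394, e3 q6404 L150944 q6397, e3 q6405 (flp_c L111567) q3793, e3 q6406 L111573 q3797, e3 q6407 (flp_c L118974) q5015, e3 q6408 L111581 q3795, e3 q6409 L111585 q3796, e3 q6410 (flp_c L161280) q10305, e3 q6411 (flp_c L161290) q10307, e3 q6412 (flp_c L111617) q6414, e3 q6413 L161308 q10310, e3 q6414 L111617 q6412, e3 q6415 (flp_c L161258) q10302, e3 q6416 (flp_c L121157) q7540, e3 q6417 L111633 q3800, e3 q6418 L111639 q3801, e3 q6419 (flp_c L161338) q10314, e3 q6420 (flp_c L163427) q8192, e3 q6421 L161360 q10318, e3 q6422 (flp_c L111655) q3802, e3 q6423 (flp_c L161384) q10320, e3 q6424 L161394 q10322, e3 q6425 (flp_c L111669) q3803, e3 q6426 (flp_c L163151) q8094, e3 q6427 L111681 q3805, e3 q6428 (flp_c L111683) q3806, e3 q6429 (flp_c L161432) q10327, e3 q6430 (flp_c L163202) q5123, e3 q6431 L111697 q3808, e3 q6432 (flp_c L111701) q3809, e3 q6433 L163163 q5135, e3 q6434 (flp_c L161474)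 q10334, e3 q6435 L111717 q3811, e3 q6436 (flp_c L111721) q3812, e3 q6437 L111727 q3816, e3 q6438 L150932 q5021, e3 q6439 L111733 q3814, e3 q6440 L111737 q3815, e3 q6441 (flp_c L161533) q10343, e3 q6442 (flp_c L161543) q10344, e3 q6443 L151185 q6446, e3 q6444 L161559 q10347, e3 q6445 (flp_c L161509) q10339, e3 q6446 (flp_c L151185) q6443, e3 q6447 (flp_c L121456) q7585, e3 q6448 L111779 q3819, e3 q6449 L111785 q3820, e3 q6450 (flp_c L161589) q10351, e3 q6451 (flp_c L163568) q8162, e3 q6452 L161611 q10355, e3 q6453 (flp_c L111801) q3821, e3 q6454 (flp_c L161635) q10357, e3 q6455 L161645 q10359, e3 q6456 (flp_c L111815) q3822, e3 q6457 (flp_c L163344) q8076, e3 q6458 L111827 q3824, e3 q6459 (flp_c L111829) q3825, e3 q6460 L163291 q10328, e3 q6461 (flp_c L163399) q5119, e3 q6462 L111843 q3827, e3 q6463 (flp_c L111847) q3828, trivial⟩ (by decide +kernel)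

theorem ce_c_101 : ∀ r, r < 64 → sm gc (Qf (6464 + r)) = Qf (tab Gen.c (6464 + r)) :=
  edges_tab (sm gc) Qf (tab Gen.c) 6464 [(6464, 5128), (6465, 10369), (6466, 3830), (6467, 9389), (6468, 3834), (6469, 9526), (6470, 6470), (6471, 6471), (6472, 6051), (6473, 7669), (6474, 10377), (6475, 6045), (6476, 3841), (6477, 9449), (6478, 10382), (6479, 3842), (6480, 9525), (6481, 10383), (6482, 3844), (6483, 3898), (6484, 3899), (6485, 3901), (6486, 10385), (6487, 3848), (6488, 3850), (6489, 6522), (6490, 10387), (6491, 6524), (6492, 6598), (6493, 9151), (6494, 10396), (6495, 10399), (6496, 3853), (6497, 10402), (6498, 3854), (6499, 5688), (6500, 3856), (6501, 6739), (6502, 9388), (6503, 3859), (6504, 6504), (6505, 6505), (6506, 6089), (6507, 7833), (6508, 10411), (6509, 6082), (6510, 3867), (6511, 9440), (6512, 10416), (6513, 3868), (6514, 10417), (6515, 3870), (6516, 3927), (6517, 3928), (6518, 3929), (6519, 10419), (6520, 3874), (6521, 3876), (6522, 6489), (6523, 10421), (6524, 6491), (6525, 6559), (6526, 9097), (6527,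 10430)]
    ⟨e3 q6464 (flp_c L163326) q5128, e3 q6465 (flp_c L161725) q10369, e3 q6466 L111859 q3830, e3 q6467 (flp_c L155044) q9389, e3 q6468 (flp_c L111873) q3834, e3 q6469 (flp_c L156046) q9526, e3 q6470 L111893 q6470, e3 q6471 L111905 q6471, e3 q6472 (flp_c L155496) q6051, e3 q6473 (flp_c L121948) q7669, e3 q6474 L161766 q10377, e3 q6475 L155500 q6045, e3 q6476 (flp_c L111926) q3841, e3 q6477 L155492 q9449, e3 q6478 L161798 q10382, e3 q6479 (flp_c L111944) q3842, e3 q6480 (flp_c L156026) q9525, e3 q6481 L161808 q10383, e3 q6482 L111962 q3844, e3 q6483 L111968 q3898, e3 q6484 L111974 q3899, e3 q6485 L111982 q3901, e3 q6486 L161826 q10385, e3 q6487 L111988 q3848, e3 q6488 L111998 q3850, e3 q6489 L149776 q6522, e3 q6490 (flp_c L161848) q10387, e3 q6491 (flp_c L149788) q6524, e3 q6492 L149554 q6598, e3 q6493 (flp_c L153211) q9151, e3 q6494 L161902 q10396, e3 q6495 L161918 q10399, e3 q6496 (flp_c L112044) q3853, e3 q6497 (flp_c L161934) q10402, e3 q6498 (flp_c L112052) q3854, e3 q6499 L163528 q5688, e3 q6500 L112060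 q3856, e3 q6501 (flp_c L163594) q6739, e3 q6502 (flp_c L155030) q9388, e3 q6503 (flp_c L112080) q3859, e3 q6504 L112092 q6504, e3 q6505 L112097 q6505, e3 q6506 (flp_c L112137) q6089, e3 q6507 (flp_c L122867) q7833, e3 q6508 L161996 q10411, e3 q6509 (flp_c L112129) q6082, e3 q6510 (flp_c L112158) q3867, e3 q6511 (flp_c L155443) q9440, e3 q6512 L162028 q10416, e3 q6513 (flp_c L112180) q3868, e3 q6514 L162038 q10417, e3 q6515 L112192 q3870, e3 q6516 L112198 q3927, e3 q6517 L112204 q3928, e3 q6518 L112208 q3929, e3 q6519 L162056 q10419, e3 q6520 L112218 q3874, e3 q6521 L112228 q3876, e3 q6522 (flp_c L149776) q6489, e3 q6523 (flp_c L162080) q10421, e3 q6524 L149788 q6491, e3 q6525 (flp_c L149800) q6559, e3 q6526 (flp_c L152796) q9097, e3 q6527 L162134 q10430, trivial⟩ (by decide +kernel)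

theorem ce_c_102 : ∀ r, r < 64 → sm gc (Qf (6528 + r)) = Qf (tab Gen.c (6528 + r)) :=
  edges_tab (sm gc) Qf (tab Gen.c) 6528 [(6528, 10433), (6529, 3879), (6530, 10436), (6531, 3880), (6532, 5723), (6533, 3882), (6534, 6813), (6535, 4570), (6536, 3884), (6537, 10442), (6538, 8451), (6539, 10443), (6540, 4593), (6541, 6077), (6542, 3888), (6543, 3890), (6544, 8358), (6545, 10450), (6546, 8452), (6547, 8912), (6548, 10451), (6549, 9887), (6550, 9890), (6551, 6121), (6552, 9910), (6553, 8729), (6554, 9004), (6555, 9808), (6556, 9883), (6557, 9879), (6558, 10468), (6559, 6525), (6560, 4792), (6561, 10473), (6562, 10475), (6563, 3904), (6564, 9048), (6565, 10479), (6566, 3905), (6567, 8837), (6568, 10482), (6569, 3906), (6570, 3934), (6571, 5530), (6572, 8582), (6573, 10489), (6574, 4670), (6575, 3913), (6576, 10492), (6577, 10493), (6578, 8462), (6579, 6115), (6580, 4693), (6581, 3917), (6582, 3918), (6583, 10500), (6584, 8366), (6585, 8905), (6586, 10501), (6587, 8463), (6588, 9880), (6589, 6130), (6590, 9928), (6591,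 9895)]
    ⟨e3 q6528 L162146 q10433, e3 q6529 (flp_c L112274) q3879, e3 q6530 (flp_c L162162) q10436, e3 q6531 (flp_c L112282) q3880, e3 q6532 L163702 q5723, e3 q6533 L112290 q3882, e3 q6534 (flp_c L163667) q6813, e3 q6535 L112318 q4570, e3 q6536 (flp_c L112320) q3884, e3 q6537 (flp_c L162212) q10442, e3 q6538 (flp_c L142911) q8451, e3 q6539 (flp_c L162220) q10443, e3 q6540 (flp_c L120557) q4593, e3 q6541 L175466 q6077, e3 q6542 L112346 q3888, e3 q6543 L112354 q3890, e3 q6544 L129950 q8358, e3 q6545 (flp_c L162269) q10450, e3 q6546 (flp_c L142921) q8452, e3 q6547 (flp_c L151572) q8912, e3 q6548 (flp_c L162277) q10451, e3 q6549 (flp_c L175493) q9887, e3 q6550 (flp_c L158492) q9890, e3 q6551 L152200 q6121, e3 q6552 (flp_c L158631) q9910, e3 q6553 (flp_c L144937) q8729, e3 q6554 (flp_c L152184) q9004, e3 q6555 (flp_c L158023) q9808, e3 q6556 (flp_c L158451) q9883, e3 q6557 L158421 q9879, e3 q6558 L162366 q10468, e3 q6559 L149800 q6525, e3 q6560 L112466 q4792, e3 q6561 L162394 q10473, e3 q6562 L162408 q10475, e3 q6563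 (flp_c L112480) q3904, e3 q6564 L152496 q9048, e3 q6565 L162436 q10479, e3 q6566 (flp_c L112492) q3905, e3 q6567 L151447 q8837, e3 q6568 L162462 q10482, e3 q6569 (flp_c L112506) q3906, e3 q6570 L149104 q3934, e3 q6571 L120559 q5530, e3 q6572 (flp_c L151004) q8582, e3 q6573 L162508 q10489, e3 q6574 L112556 q4670, e3 q6575 (flp_c L112564) q3913, e3 q6576 (flp_c L162530) q10492, e3 q6577 (flp_c L162538) q10493, e3 q6578 (flp_c L149584) q8462, e3 q6579 (flp_c L163738) q6115, e3 q6580 L150922 q4693, e3 q6581 L112590 q3917, e3 q6582 L112594 q3918, e3 q6583 (flp_c L162587) q10500, e3 q6584 (flp_c L149586) q8366, e3 q6585 L150766 q8905, e3 q6586 (flp_c L162595) q10501, e3 q6587 (flp_c L149588) q8463, e3 q6588 (flp_c L158429) q9880, e3 q6589 (flp_c L152208) q6130, e3 q6590 (flp_c L158762) q9928, e3 q6591 (flp_c L163804) q9895, trivial⟩ (by decide +kernel)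

theorem ce_c_103 : ∀ r, r < 64 → sm gc (Qf (6592 + r)) = Qf (tab Gen.c (6592 + r)) :=
  edges_tab (sm gc) Qf (tab Gen.c) 6592 [(6592, 8775), (6593, 9067), (6594, 9861), (6595, 9881), (6596, 9884), (6597, 10518), (6598, 6492), (6599, 4830), (6600, 10523), (6601, 10525), (6602, 3932), (6603, 8983), (6604, 10481), (6605, 3933), (6606, 8800), (6607, 10530), (6608, 8573), (6609, 5574), (6610, 10535), (6611, 10537), (6612, 3942), (6613, 6613), (6614, 6743), (6615, 6742), (6616, 6741), (6617, 3944), (6618, 6619), (6619, 6618), (6620, 10543), (6621, 3949), (6622, 3951), (6623, 8949), (6624, 4009), (6625, 10548), (6626, 5051), (6627, 10546), (6628, 5138), (6629, 8896), (6630, 3952), (6631, 5377), (6632, 10554), (6633, 4013), (6634, 10559), (6635, 4012), (6636, 4060), (6637, 10563), (6638, 3956), (6639, 10565), (6640, 10566), (6641, 4860), (6642, 10568), (6643, 3960), (6644, 5470), (6645, 10572), (6646, 10573), (6647, 3963), (6648, 10576), (6649, 3964), (6650, 10579), (6651, 10580), (6652, 3966), (6653, 10583), (6654, 4870),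 (6655, 8098)]
    ⟨e3 q6592 L151362 q8775, e3 q6593 (flp_c L152606) q9067, e3 q6594 (flp_c L158323) q9861, e3 q6595 (flp_c L158435) q9881, e3 q6596 (flp_c L158461) q9884, e3 q6597 L162684 q10518, e3 q6598 (flp_c L149554) q6492, e3 q6599 L112710 q4830, e3 q6600 L162716 q10523, e3 q6601 L162730 q10525, e3 q6602 (flp_c L112724) q3932, e3 q6603 L152058 q8983, e3 q6604 (flp_c L162456) q10481, e3 q6605 (flp_c L112736) q3933, e3 q6606 L149782 q8800, e3 q6607 L162764 q10530, e3 q6608 L143897 q8573, e3 q6609 L150996 q5574, e3 q6610 L162804 q10535, e3 q6611 L162814 q10537, e3 q6612 L112813 q3942, e3 q6613 L112818 q6613, e3 q6614 (flp_c L142706) q6743, e3 q6615 L142712 q6742, e3 q6616 L142708 q6741, e3 q6617 L112940 q3944, e3 q6618 L120515 q6619, e3 q6619 (flp_c L120515) q6618, e3 q6620 (flp_c L162869) q10543, e3 q6621 L112966 q3949, e3 q6622 L112980 q3951, e3 q6623 (flp_c L151858) q8949, e3 q6624 L113000 q4009, e3 q6625 L162933 q10548, e3 q6626 (flp_c L120451) q5051, e3 q6627 (flp_c L162919) q10546, e3 q6628 (flp_c L120092)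 q5138, e3 q6629 L145999 q8896, e3 q6630 (flp_c L113044) q3952, e3 q6631 (flp_c L120361) q5377, e3 q6632 (flp_c L162987) q10554, e3 q6633 L113056 q4013, e3 q6634 L163033 q10559, e3 q6635 L120142 q4012, e3 q6636 L149031 q4060, e3 q6637 L163071 q10563, e3 q6638 (flp_c L113084) q3956, e3 q6639 (flp_c L163085) q10565, e3 q6640 L163087 q10566, e3 q6641 L113098 q4860, e3 q6642 L163101 q10568, e3 q6643 (flp_c L113114) q3960, e3 q6644 (flp_c L143411) q5470, e3 q6645 L164015 q10572, e3 q6646 L164019 q10573, e3 q6647 (flp_c L113136) q3963, e3 q6648 (flp_c L164041) q10576, e3 q6649 (flp_c L113150) q3964, e3 q6650 (flp_c L164073) q10579, e3 q6651 L164079 q10580, e3 q6652 L113166 q3966, e3 q6653 (flp_c L164095) q10583, e3 q6654 (flp_c L141006) q4870, e3 q6655 (flp_c L142808) q8098, trivial⟩ (by decide +kernel)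

theorem ce_c_104 : ∀ r, r < 64 → sm gc (Qf (6656 + r)) = Qf (tab Gen.c (6656 + r)) :=
  edges_tab (sm gc) Qf (tab Gen.c) 6656 [(6656, 3999), (6657, 3969), (6658, 10591), (6659, 10592), (6660, 3972), (6661, 6661), (6662, 6817), (6663, 6816), (6664, 6815), (6665, 3974), (6666, 6668), (6667, 10598), (6668, 6666), (6669, 3979), (6670, 3980), (6671, 9017), (6672, 4055), (6673, 10603), (6674, 10601), (6675, 5061), (6676, 8890), (6677, 5157), (6678, 3982), (6679, 10608), (6680, 5378), (6681, 10612), (6682, 4058), (6683, 10615), (6684, 3985), (6685, 10617), (6686, 4885), (6687, 10619), (6688, 3990), (6689, 5510), (6690, 10623), (6691, 10624), (6692, 3993), (6693, 10626), (6694, 3994), (6695, 10629), (6696, 3996), (6697, 10632), (6698, 4841), (6699, 8054), (6700, 10589), (6701, 8441), (6702, 4000), (6703, 10638), (6704, 10641), (6705, 10644), (6706, 8443), (6707, 10646), (6708, 4008), (6709, 5127), (6710, 8473), (6711, 9751), (6712, 5118), (6713, 9722), (6714, 9750), (6715, 9200), (6716, 8884), (6717, 7724), (6718, 4065),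 (6719, 7933)]
    ⟨e3 q6656 L113202 q3999, e3 q6657 (flp_c L113204) q3969, e3 q6658 (flp_c L164153) q10591, e3 q6659 L164159 q10592, e3 q6660 L113236 q3972, e3 q6661 L113246 q6661, e3 q6662 L142738 q6817, e3 q6663 L142740 q6816, e3 q6664 L142722 q6815, e3 q6665 L113368 q3974, e3 q6666 (flp_c L149562) q6668, e3 q6667 (flp_c L164216) q10598, e3 q6668 L149562 q6666, e3 q6669 L113394 q3979, e3 q6670 L113400 q3980, e3 q6671 (flp_c L152300) q9017, e3 q6672 L113420 q4055, e3 q6673 L164266 q10603, e3 q6674 (flp_c L164250) q10601, e3 q6675 L148502 q5061, e3 q6676 (flp_c L149570) q8890, e3 q6677 L148498 q5157, e3 q6678 (flp_c L113472) q3982, e3 q6679 (flp_c L164312) q10608, e3 q6680 L146207 q5378, e3 q6681 L164348 q10612, e3 q6682 (flp_c L146294) q4058, e3 q6683 L164382 q10615, e3 q6684 (flp_c L113510) q3985, e3 q6685 (flp_c L164396) q10617, e3 q6686 L113526 q4885, e3 q6687 L164406 q10619, e3 q6688 (flp_c L113542) q3990, e3 q6689 L151272 q5510, e3 q6690 L164440 q10623, e3 q6691 L164444 q10624, e3 q6692 (flp_c L113564) q3993,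 e3 q6693 (flp_c L164456) q10626, e3 q6694 (flp_c L113578) q3994, e3 q6695 L164482 q10629, e3 q6696 L113594 q3996, e3 q6697 (flp_c L164498) q10632, e3 q6698 L141025 q4841, e3 q6699 (flp_c L142804) q8054, e3 q6700 (flp_c L164139) q10589, e3 q6701 (flp_c L130632) q8441, e3 q6702 (flp_c L113634) q4000, e3 q6703 (flp_c L164541) q10638, e3 q6704 L164557 q10641, e3 q6705 L164576 q10644, e3 q6706 (flp_c L142821) q8443, e3 q6707 L164593 q10646, e3 q6708 L113747 q4008, e3 q6709 L120363 q5127, e3 q6710 (flp_c L143045) q8473, e3 q6711 (flp_c L157685) q9751, e3 q6712 L120369 q5118, e3 q6713 (flp_c L157465) q9722, e3 q6714 (flp_c L157675) q9750, e3 q6715 L153664 q9200, e3 q6716 (flp_c L145927) q8884, e3 q6717 (flp_c L163409) q7724, e3 q6718 L149764 q4065, e3 q6719 L163495 q7933, trivial⟩ (by decide +kernel)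

theorem ce_c_105 : ∀ r, r < 64 → sm gc (Qf (6720 + r)) = Qf (tab Gen.c (6720 + r)) :=
  edges_tab (sm gc) Qf (tab Gen.c) 6720 [(6720, 4014), (6721, 10405), (6722, 9300), (6723, 4015), (6724, 9320), (6725, 10660), (6726, 4016), (6727, 5420), (6728, 4018), (6729, 7729), (6730, 10667), (6731, 4019), (6732, 10670), (6733, 10673), (6734, 4021), (6735, 10675), (6736, 10415), (6737, 4022), (6738, 10676), (6739, 6501), (6740, 4024), (6741, 6616), (6742, 6615), (6743, 6614), (6744, 9232), (6745, 4026), (6746, 9469), (6747, 10683), (6748, 6041), (6749, 5422), (6750, 4028), (6751, 10690), (6752, 8668), (6753, 8071), (6754, 10562), (6755, 4031), (6756, 10694), (6757, 7726), (6758, 4033), (6759, 8450), (6760, 8449), (6761, 9202), (6762, 6836), (6763, 6837), (6764, 4039), (6765, 6839), (6766, 10701), (6767, 10378), (6768, 10703), (6769, 10704), (6770, 4925), (6771, 8945), (6772, 4042), (6773, 6847), (6774, 10720), (6775, 8067), (6776, 8072), (6777, 8442), (6778, 4046), (6779, 10725), (6780, 10712), (6781, 10729), (6782, 8444),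 (6783, 10731)]
    ⟨e3 q6720 (flp_c L113867) q4014, e3 q6721 L163542 q10405, e3 q6722 L154502 q9300, e3 q6723 (flp_c L113883) q4015, e3 q6724 (flp_c L154486) q9320, e3 q6725 L164709 q10660, e3 q6726 (flp_c L113891) q4016, e3 q6727 L153422 q5420, e3 q6728 L113903 q4018, e3 q6729 L163657 q7729, e3 q6730 L164757 q10667, e3 q6731 (flp_c L113911) q4019, e3 q6732 L164773 q10670, e3 q6733 L164795 q10673, e3 q6734 (flp_c L113947) q4021, e3 q6735 (flp_c L164819) q10675, e3 q6736 L162026 q10415, e3 q6737 (flp_c L113957) q4022, e3 q6738 (flp_c L164829) q10676, e3 q6739 L163594 q6501, e3 q6740 L113977 q4024, e3 q6741 (flp_c L142708) q6616, e3 q6742 (flp_c L142712) q6615, e3 q6743 L142706 q6614, e3 q6744 L154558 q9232, e3 q6745 (flp_c L114013) q4026, e3 q6746 L157471 q9469, e3 q6747 (flp_c L164897) q10683, e3 q6748 L157479 q6041, e3 q6749 L153457 q5422, e3 q6750 L114029 q4028, e3 q6751 L164945 q10690, e3 q6752 (flp_c L153463) q8668, e3 q6753 (flp_c L133821) q8071, e3 q6754 L163069 q10562, e3 q6755 (flp_c L114063) q4031, e3 q6756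 (flp_c L164969) q10694, e3 q6757 L163435 q7726, e3 q6758 (flp_c L114077) q4033, e3 q6759 (flp_c L142903) q8450, e3 q6760 L142899 q8449, e3 q6761 (flp_c L153676) q9202, e3 q6762 L114674 q6836, e3 q6763 (flp_c L114678) q6837, e3 q6764 L114139 q4039, e3 q6765 (flp_c L114710) q6839, e3 q6766 (flp_c L165015) q10701, e3 q6767 (flp_c L163604) q10378, e3 q6768 (flp_c L165025) q10703, e3 q6769 (flp_c L165033) q10704, e3 q6770 L114159 q4925, e3 q6771 (flp_c L153402) q8945, e3 q6772 L114169 q4042, e3 q6773 (flp_c L114742) q6847, e3 q6774 L165116 q10720, e3 q6775 (flp_c L140974) q8067, e3 q6776 (flp_c L140965) q8072, e3 q6777 (flp_c L148603) q8442, e3 q6778 (flp_c L114201) q4046, e3 q6779 (flp_c L165151) q10725, e3 q6780 (flp_c L165065) q10712, e3 q6781 L165183 q10729, e3 q6782 (flp_c L148554) q8444, e3 q6783 L165204 q10731, trivial⟩ (by decide +kernel)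

theorem ce_c_106 : ∀ r, r < 64 → sm gc (Qf (6784 + r)) = Qf (tab Gen.c (6784 + r)) :=
  edges_tab (sm gc) Qf (tab Gen.c) 6784 [(6784, 4053), (6785, 5134), (6786, 9731), (6787, 5122), (6788, 8476), (6789, 9714), (6790, 9730), (6791, 9236), (6792, 8886), (6793, 7886), (6794, 7779), (6795, 4059), (6796, 10439), (6797, 10742), (6798, 4061), (6799, 5404), (6800, 4063), (6801, 7891), (6802, 10749), (6803, 4064), (6804, 9341), (6805, 9268), (6806, 10754), (6807, 10757), (6808, 4067), (6809, 10759), (6810, 10381), (6811, 4068), (6812, 10760), (6813, 6534), (6814, 4070), (6815, 6664), (6816, 6663), (6817, 6662), (6818, 9194), (6819, 4072), (6820, 10767), (6821, 9474), (6822, 6025), (6823, 5406), (6824, 4074), (6825, 10774), (6826, 8652), (6827, 8116), (6828, 10614), (6829, 4077), (6830, 10778), (6831, 7888), (6832, 4079), (6833, 8447), (6834, 8446), (6835, 9238), (6836, 6762), (6837, 6763), (6838, 4085), (6839, 6765), (6840, 10785), (6841, 10412), (6842, 10786), (6843, 10642), (6844, 4906), (6845, 8929), (6846, 4088), (6847,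 6773)]
    ⟨e3 q6784 L114310 q4053, e3 q6785 L148430 q5134, e3 q6786 (flp_c L157553) q9731, e3 q6787 L146458 q5122, e3 q6788 L146452 q8476, e3 q6789 (flp_c L157383) q9714, e3 q6790 (flp_c L157543) q9730, e3 q6791 L153936 q9236, e3 q6792 L146182 q8886, e3 q6793 L163820 q7886, e3 q6794 L163762 q7779, e3 q6795 (flp_c L114424) q4059, e3 q6796 L163716 q10439, e3 q6797 L165304 q10742, e3 q6798 (flp_c L114444) q4061, e3 q6799 L153016 q5404, e3 q6800 L114456 q4063, e3 q6801 L163840 q7891, e3 q6802 L165352 q10749, e3 q6803 (flp_c L114464) q4064, e3 q6804 (flp_c L154696) q9341, e3 q6805 (flp_c L154152) q9268, e3 q6806 L165382 q10754, e3 q6807 L165408 q10757, e3 q6808 (flp_c L114508) q4067, e3 q6809 (flp_c L165432) q10759, e3 q6810 L161796 q10381, e3 q6811 (flp_c L114518) q4068, e3 q6812 (flp_c L165442) q10760, e3 q6813 L163667 q6534, e3 q6814 L114538 q4070, e3 q6815 (flp_c L142722) q6664, e3 q6816 (flp_c L142740) q6663, e3 q6817 (flp_c L142738) q6662, e3 q6818 L154516 q9194, e3 q6819 (flp_c L114574) q4072, e3 q6820 (flp_c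 L165512) q10767, e3 q6821 L157389 q9474, e3 q6822 L157397 q6025, e3 q6823 L153020 q5406, e3 q6824 L114590 q4074, e3 q6825 L165566 q10774, e3 q6826 (flp_c L153026) q8652, e3 q6827 (flp_c L137015) q8116, e3 q6828 L164380 q10614, e3 q6829 (flp_c L114624) q4077, e3 q6830 (flp_c L165590) q10778, e3 q6831 L163649 q7888, e3 q6832 (flp_c L114638) q4079, e3 q6833 (flp_c L149015) q8447, e3 q6834 (flp_c L149017) q8446, e3 q6835 (flp_c L153948) q9238, e3 q6836 (flp_c L114674) q6762, e3 q6837 L114678 q6763, e3 q6838 L114704 q4085, e3 q6839 L114710 q6765, e3 q6840 (flp_c L165642) q10785, e3 q6841 (flp_c L163693) q10412, e3 q6842 (flp_c L165654) q10786, e3 q6843 L164566 q10642, e3 q6844 L114726 q4906, e3 q6845 (flp_c L152965) q8929, e3 q6846 L114736 q4088, e3 q6847 L114742 q6773, trivial⟩ (by decide +kernel)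

theorem ce_c_107 : ∀ r, r < 64 → sm gc (Qf (6848 + r)) = Qf (tab Gen.c (6848 + r)) :=
  edges_tab (sm gc) Qf (tab Gen.c) 6848 [(6848, 10801), (6849, 8111), (6850, 8115), (6851, 4101), (6852, 7633), (6853, 4102), (6854, 6854), (6855, 7534), (6856, 4105), (6857, 4095), (6858, 9077), (6859, 7529), (6860, 10810), (6861, 4106), (6862, 4107), (6863, 6863), (6864, 5806), (6865, 10805), (6866, 10807), (6867, 5605), (6868, 5810), (6869, 10821), (6870, 10824), (6871, 6891), (6872, 4117), (6873, 7798), (6874, 4118), (6875, 6875), (6876, 7580), (6877, 4120), (6878, 4111), (6879, 9132), (6880, 10831), (6881, 7574), (6882, 4122), (6883, 4123), (6884, 6884), (6885, 5808), (6886, 10826), (6887, 10828), (6888, 5642), (6889, 5812), (6890, 10842), (6891, 6871), (6892, 10845), (6893, 10847), (6894, 4127), (6895, 10849), (6896, 10850), (6897, 4128), (6898, 10852), (6899, 10853), (6900, 5032), (6901, 10855), (6902, 5034), (6903, 4132), (6904, 10858), (6905, 10861), (6906, 4134), (6907, 10863), (6908, 10866), (6909, 10868), (6910, 4136),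 (6911, 10870)]
    ⟨e3 q6848 L165748 q10801, e3 q6849 (flp_c L137024) q8111, e3 q6850 (flp_c L137022) q8115, e3 q6851 L114814 q4101, e3 q6852 (flp_c L121754) q7633, e3 q6853 L114831 q4102, e3 q6854 L114838 q6854, e3 q6855 (flp_c L121113) q7534, e3 q6856 L114869 q4105, e3 q6857 (flp_c L114871) q4095, e3 q6858 (flp_c L152673) q9077, e3 q6859 (flp_c L121074) q7529, e3 q6860 (flp_c L165818) q10810, e3 q6861 L114889 q4106, e3 q6862 L114901 q4107, e3 q6863 L114908 q6863, e3 q6864 (flp_c L120497) q5806, e3 q6865 (flp_c L165784) q10805, e3 q6866 (flp_c L165800) q10807, e3 q6867 (flp_c L120499) q5605, e3 q6868 (flp_c L120501) q5810, e3 q6869 L165903 q10821, e3 q6870 L165925 q10824, e3 q6871 L148576 q6891, e3 q6872 L114987 q4117, e3 q6873 (flp_c L122658) q7798, e3 q6874 L114997 q4118, e3 q6875 L115011 q6875, e3 q6876 L150456 q7580, e3 q6877 L115036 q4120, e3 q6878 (flp_c L115044) q4111, e3 q6879 (flp_c L153094) q9132, e3 q6880 (flp_c L165989) q10831, e3 q6881 L149821 q7574, e3 q6882 L115066 q4122, e3 q6883 L115074 q4123,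 e3 q6884 L115081 q6884, e3 q6885 (flp_c L149642) q5808, e3 q6886 (flp_c L165953) q10826, e3 q6887 (flp_c L165969) q10828, e3 q6888 (flp_c L150602) q5642, e3 q6889 (flp_c L149646) q5812, e3 q6890 L166088 q10842, e3 q6891 (flp_c L148576) q6871, e3 q6892 L166110 q10845, e3 q6893 L166134 q10847, e3 q6894 (flp_c L115192) q4127, e3 q6895 (flp_c L166146) q10849, e3 q6896 L166150 q10850, e3 q6897 (flp_c L115206) q4128, e3 q6898 (flp_c L166162) q10852, e3 q6899 L166166 q10853, e3 q6900 L115242 q5032, e3 q6901 L166182 q10855, e3 q6902 L115257 q5034, e3 q6903 (flp_c L115263) q4132, e3 q6904 (flp_c L166211) q10858, e3 q6905 L166240 q10861, e3 q6906 (flp_c L115286) q4134, e3 q6907 (flp_c L166259) q10863, e3 q6908 L166288 q10866, e3 q6909 L166304 q10868, e3 q6910 (flp_c L115309) q4136, e3 q6911 (flp_c L166318) q10870, trivial⟩ (by decide +kernel)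

theorem ce_c_108 : ∀ r, r < 64 → sm gc (Qf (6912 + r)) = Qf (tab Gen.c (6912 + r)) :=
  edges_tab (sm gc) Qf (tab Gen.c) 6912 [(6912, 10873), (6913, 10876), (6914, 4138), (6915, 10878), (6916, 10881), (6917, 10263), (6918, 4140), (6919, 10311), (6920, 4142), (6921, 10885), (6922, 10886), (6923, 4143), (6924, 10888), (6925, 10282), (6926, 4144), (6927, 10348), (6928, 4146), (6929, 10892), (6930, 10893), (6931, 4147), (6932, 10895), (6933, 9944), (6934, 6934), (6935, 8589), (6936, 8590), (6937, 6937), (6938, 6938), (6939, 10904), (6940, 8594), (6941, 10906), (6942, 8596), (6943, 10909), (6944, 10912), (6945, 10914), (6946, 4154), (6947, 10917), (6948, 10918), (6949, 4155), (6950, 10921), (6951, 9392), (6952, 4156), (6953, 10925), (6954, 10927), (6955, 4158), (6956, 10931), (6957, 9397), (6958, 4159), (6959, 10935), (6960, 10937), (6961, 4161), (6962, 10941), (6963, 9374), (6964, 9391), (6965, 9390), (6966, 10943), (6967, 4164), (6968, 10946), (6969, 4165), (6970, 8553), (6971, 10948), (6972, 7084), (6973, 4167),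 (6974, 9396), (6975, 9377)]
    ⟨e3 q6912 L166332 q10873, e3 q6913 L166354 q10876, e3 q6914 (flp_c L115327) q4138, e3 q6915 (flp_c L166368) q10878, e3 q6916 L166382 q10881, e3 q6917 (flp_c L160980) q10263, e3 q6918 (flp_c L115347) q4140, e3 q6919 (flp_c L161320) q10311, e3 q6920 L115363 q4142, e3 q6921 L166406 q10885, e3 q6922 L166412 q10886, e3 q6923 (flp_c L115379) q4143, e3 q6924 (flp_c L166426) q10888, e3 q6925 (flp_c L161098) q10282, e3 q6926 (flp_c L115399) q4144, e3 q6927 (flp_c L161571) q10348, e3 q6928 L115413 q4146, e3 q6929 L166452 q10892, e3 q6930 L166458 q10893, e3 q6931 (flp_c L115429) q4147, e3 q6932 (flp_c L166472) q10895, e3 q6933 (flp_c L158874) q9944, e3 q6934 L115449 q6934, e3 q6935 (flp_c L144093) q8589, e3 q6936 (flp_c L144101) q8590, e3 q6937 L115460 q6937, e3 q6938 L115466 q6938, e3 q6939 L166544 q10904, e3 q6940 (flp_c L144121) q8594, e3 q6941 L166551 q10906, e3 q6942 (flp_c L144137) q8596, e3 q6943 L166564 q10909, e3 q6944 L166603 q10912, e3 q6945 L166638 q10914, e3 q6946 (flp_c L115501)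 q4154, e3 q6947 (flp_c L166654) q10917, e3 q6948 L166658 q10918, e3 q6949 (flp_c L115509) q4155, e3 q6950 (flp_c L166674) q10921, e3 q6951 L155082 q9392, e3 q6952 (flp_c L115519) q4156, e3 q6953 (flp_c L166708) q10925, e3 q6954 L166722 q10927, e3 q6955 L115535 q4158, e3 q6956 (flp_c L166736) q10931, e3 q6957 L155136 q9397, e3 q6958 (flp_c L115549) q4159, e3 q6959 (flp_c L166770) q10935, e3 q6960 L166784 q10937, e3 q6961 L115565 q4161, e3 q6962 (flp_c L166798) q10941, e3 q6963 (flp_c L154944) q9374, e3 q6964 (flp_c L155068) q9391, e3 q6965 (flp_c L155060) q9390, e3 q6966 L166806 q10943, e3 q6967 L115601 q4164, e3 q6968 L166830 q10946, e3 q6969 (flp_c L115613) q4165, e3 q6970 (flp_c L161248) q8553, e3 q6971 (flp_c L166848) q10948, e3 q6972 (flp_c L116426) q7084, e3 q6973 L115633 q4167, e3 q6974 (flp_c L155122) q9396, e3 q6975 (flp_c L154966) q9377, trivial⟩ (by decide +kernel)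

theorem ce_c_109 : ∀ r, r < 64 → sm gc (Qf (6976 + r)) = Qf (tab Gen.c (6976 + r)) :=
  edges_tab (sm gc) Qf (tab Gen.c) 6976 [(6976, 9395), (6977, 10955), (6978, 4170), (6979, 10958), (6980, 4171), (6981, 8562), (6982, 10960), (6983, 7056), (6984, 4173), (6985, 4174), (6986, 10910), (6987, 4176), (6988, 10913), (6989, 10968), (6990, 4179), (6991, 10969), (6992, 10971), (6993, 4180), (6994, 10973), (6995, 4182), (6996, 10974), (6997, 10976), (6998, 4183), (6999, 4184), (7000, 10978), (7001, 10979), (7002, 4186), (7003, 8669), (7004, 10982), (7005, 10985), (7006, 10988), (7007, 4188), (7008, 10990), (7009, 10991), (7010, 4189), (7011, 10995), (7012, 10996), (7013, 4191), (7014, 11000), (7015, 4192), (7016, 11002), (7017, 11003), (7018, 4194), (7019, 8681), (7020, 11006), (7021, 11009), (7022, 11012), (7023, 4196), (7024, 11014), (7025, 11015), (7026, 4197), (7027, 11019), (7028, 11020), (7029, 4199), (7030, 11024), (7031, 5877), (7032, 5848), (7033, 9527), (7034, 5319), (7035, 5610), (7036, 9528), (7037, 4203),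 (7038, 4989), (7039, 6253)]
    ⟨e3 q6976 (flp_c L155114) q9395, e3 q6977 L166889 q10955, e3 q6978 L115675 q4170, e3 q6979 L166913 q10958, e3 q6980 (flp_c L115687) q4171, e3 q6981 (flp_c L161499) q8562, e3 q6982 (flp_c L166931) q10960, e3 q6983 (flp_c L116192) q7056, e3 q6984 L115707 q4173, e3 q6985 (flp_c L115713) q4174, e3 q6986 (flp_c L166590) q10910, e3 q6987 (flp_c L115736) q4176, e3 q6988 L166617 q10913, e3 q6989 L166982 q10968, e3 q6990 L115759 q4179, e3 q6991 L166994 q10969, e3 q6992 L167006 q10971, e3 q6993 (flp_c L115768) q4180, e3 q6994 L167016 q10973, e3 q6995 L115796 q4182, e3 q6996 L167048 q10974, e3 q6997 L167060 q10976, e3 q6998 (flp_c L115804) q4183, e3 q6999 (flp_c L115812) q4184, e3 q7000 (flp_c L167072) q10978, e3 q7001 (flp_c L167078) q10979, e3 q7002 (flp_c L115836) q4186, e3 q7003 (flp_c L144567) q8669, e3 q7004 (flp_c L167098) q10982, e3 q7005 L167124 q10985, e3 q7006 L167140 q10988, e3 q7007 (flp_c L115858) q4188, e3 q7008 (flp_c L167152) q10990, e3 q7009 L167154 q10991, e3 q7010 (flp_c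 L115870) q4189, e3 q7011 (flp_c L167176) q10995, e3 q7012 L167180 q10996, e3 q7013 L115886 q4191, e3 q7014 (flp_c L167196) q11000, e3 q7015 (flp_c L115900) q4192, e3 q7016 (flp_c L167210) q11002, e3 q7017 (flp_c L167216) q11003, e3 q7018 (flp_c L115920) q4194, e3 q7019 L149739 q8681, e3 q7020 (flp_c L167236) q11006, e3 q7021 L167262 q11009, e3 q7022 L167278 q11012, e3 q7023 (flp_c L115940) q4196, e3 q7024 (flp_c L167290) q11014, e3 q7025 L167292 q11015, e3 q7026 (flp_c L115952) q4197, e3 q7027 (flp_c L167314) q11019, e3 q7028 L167318 q11020, e3 q7029 L115968 q4199, e3 q7030 (flp_c L167334) q11024, e3 q7031 L115980 q5877, e3 q7032 L115990 q5848, e3 q7033 (flp_c L156062) q9527, e3 q7034 (flp_c L116078) q5319, e3 q7035 L120297 q5610, e3 q7036 (flp_c L156074) q9528, e3 q7037 (flp_c L116014) q4203, e3 q7038 L116070 q4989, e3 q7039 (flp_c L116039) q6253, trivial⟩ (by decide +kernel)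

theorem ce_c_110 : ∀ r, r < 64 → sm gc (Qf (7040 + r)) = Qf (tab Gen.c (7040 + r)) :=
  edges_tab (sm gc) Qf (tab Gen.c) 7040 [(7040, 4206), (7041, 4990), (7042, 11035), (7043, 4207), (7044, 11038), (7045, 11039), (7046, 4208), (7047, 11043), (7048, 4210), (7049, 9551), (7050, 9550), (7051, 11051), (7052, 4213), (7053, 4214), (7054, 11056), (7055, 11057), (7056, 6983), (7057, 4216), (7058, 11063), (7059, 5851), (7060, 5886), (7061, 9540), (7062, 5339), (7063, 9541), (7064, 5647), (7065, 4220), (7066, 4993), (7067, 6265), (7068, 4223), (7069, 4994), (7070, 11073), (7071, 4224), (7072, 11076), (7073, 11077), (7074, 4225), (7075, 11081), (7076, 4227), (7077, 9538), (7078, 9537), (7079, 11089), (7080, 4230), (7081, 4231), (7082, 11094), (7083, 11095), (7084, 6972), (7085, 4233), (7086, 11101), (7087, 5261), (7088, 11104), (7089, 5235), (7090, 11107), (7091, 7208), (7092, 8670), (7093, 7209), (7094, 11112), (7095, 11115), (7096, 4239), (7097, 11118), (7098, 7098), (7099, 4241), (7100, 4242), (7101, 11122), (7102, 11125),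 (7103, 11032)]
    ⟨e3 q7040 L116086 q4206, e3 q7041 L116092 q4990, e3 q7042 L167428 q11035, e3 q7043 (flp_c L116108) q4207, e3 q7044 (flp_c L167442) q11038, e3 q7045 L167446 q11039, e3 q7046 (flp_c L116123) q4208, e3 q7047 L167470 q11043, e3 q7048 L116137 q4210, e3 q7049 (flp_c L156266) q9551, e3 q7050 (flp_c L156260) q9550, e3 q7051 L167508 q11051, e3 q7052 L116171 q4213, e3 q7053 (flp_c L116177) q4214, e3 q7054 (flp_c L167543) q11056, e3 q7055 (flp_c L167547) q11057, e3 q7056 L116192 q6983, e3 q7057 L116199 q4216, e3 q7058 L167578 q11063, e3 q7059 L150910 q5851, e3 q7060 L150908 q5886, e3 q7061 (flp_c L156172) q9540, e3 q7062 L149727 q5339, e3 q7063 (flp_c L156184) q9541, e3 q7064 L150500 q5647, e3 q7065 (flp_c L116287) q4220, e3 q7066 L148963 q4993, e3 q7067 (flp_c L148990) q6265, e3 q7068 L116322 q4223, e3 q7069 L148952 q4994, e3 q7070 L167668 q11073, e3 q7071 (flp_c L116340) q4224, e3 q7072 (flp_c L167686) q11076, e3 q7073 L167692 q11077, e3 q7074 (flp_c L116355) q4225, e3 q7075 L167716 q11081, e3 q7076 L116369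 q4227, e3 q7077 (flp_c L156156) q9538, e3 q7078 (flp_c L156150) q9537, e3 q7079 L167754 q11089, e3 q7080 L116405 q4230, e3 q7081 (flp_c L116411) q4231, e3 q7082 (flp_c L167789) q11094, e3 q7083 (flp_c L167793) q11095, e3 q7084 L116426 q6972, e3 q7085 L116433 q4233, e3 q7086 L167830 q11101, e3 q7087 L116449 q5261, e3 q7088 L167858 q11104, e3 q7089 L116465 q5235, e3 q7090 L167878 q11107, e3 q7091 (flp_c L117157) q7208, e3 q7092 (flp_c L144579) q8670, e3 q7093 (flp_c L117167) q7209, e3 q7094 L167904 q11112, e3 q7095 L167924 q11115, e3 q7096 (flp_c L116497) q4239, e3 q7097 (flp_c L167942) q11118, e3 q7098 L116507 q7098, e3 q7099 L116510 q4241, e3 q7100 L116514 q4242, e3 q7101 (flp_c L167963) q11122, e3 q7102 L167983 q11125, e3 q7103 (flp_c L167407) q11032, trivial⟩ (by decide +kernel)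

theorem ce_c_111 : ∀ r, r < 64 → sm gc (Qf (7104 + r)) = Qf (tab Gen.c (7104 + r)) :=
  edges_tab (sm gc) Qf (tab Gen.c) 7104 [(7104, 4243), (7105, 11129), (7106, 11132), (7107, 11135), (7108, 4245), (7109, 11140), (7110, 4247), (7111, 11145), (7112, 11147), (7113, 4248), (7114, 11150), (7115, 8685), (7116, 8690), (7117, 8689), (7118, 7260), (7119, 4251), (7120, 11161), (7121, 4252), (7122, 11163), (7123, 11164), (7124, 6272), (7125, 4254), (7126, 11171), (7127, 11174), (7128, 5239), (7129, 5269), (7130, 11177), (7131, 8682), (7132, 7308), (7133, 7309), (7134, 11182), (7135, 11185), (7136, 4260), (7137, 11187), (7138, 7138), (7139, 4262), (7140, 4263), (7141, 11191), (7142, 11194), (7143, 11070), (7144, 4264), (7145, 11198), (7146, 11201), (7147, 11204), (7148, 4266), (7149, 11209), (7150, 4268), (7151, 11214), (7152, 11216), (7153, 4269), (7154, 11219), (7155, 8678), (7156, 8673), (7157, 8677), (7158, 7360), (7159, 4272), (7160, 11230), (7161, 4273), (7162, 11232), (7163, 11233), (7164, 6260), (7165, 4275), (7166,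 11240), (7167, 11242)]
    ⟨e3 q7104 (flp_c L116540) q4243, e3 q7105 (flp_c L168018) q11129, e3 q7106 L168026 q11132, e3 q7107 L168088 q11135, e3 q7108 (flp_c L116553) q4245, e3 q7109 L168114 q11140, e3 q7110 L116565 q4247, e3 q7111 L168136 q11145, e3 q7112 L168146 q11147, e3 q7113 (flp_c L116577) q4248, e3 q7114 (flp_c L168166) q11150, e3 q7115 L156836 q8685, e3 q7116 L156838 q8690, e3 q7117 L156840 q8689, e3 q7118 L117463 q7260, e3 q7119 L116609 q4251, e3 q7120 L168222 q11161, e3 q7121 (flp_c L116617) q4252, e3 q7122 (flp_c L168229) q11163, e3 q7123 (flp_c L168233) q11164, e3 q7124 L116628 q6272, e3 q7125 L116635 q4254, e3 q7126 L168264 q11171, e3 q7127 L168286 q11174, e3 q7128 L116653 q5239, e3 q7129 L116663 q5269, e3 q7130 L168312 q11177, e3 q7131 (flp_c L144647) q8682, e3 q7132 L149703 q7308, e3 q7133 (flp_c L117777) q7309, e3 q7134 L168338 q11182, e3 q7135 L168358 q11185, e3 q7136 (flp_c L116697) q4260, e3 q7137 (flp_c L168366) q11187, e3 q7138 L116707 q7138, e3 q7139 L116710 q4262, e3 q7140 L116714 q4263,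 e3 q7141 (flp_c L168387) q11191, e3 q7142 L168402 q11194, e3 q7143 (flp_c L167647) q11070, e3 q7144 (flp_c L116736) q4264, e3 q7145 (flp_c L168428) q11198, e3 q7146 L168440 q11201, e3 q7147 L168470 q11204, e3 q7148 (flp_c L116753) q4266, e3 q7149 L168502 q11209, e3 q7150 L116767 q4268, e3 q7151 L168530 q11214, e3 q7152 L168544 q11216, e3 q7153 (flp_c L116783) q4269, e3 q7154 (flp_c L168564) q11219, e3 q7155 L156861 q8678, e3 q7156 L156863 q8673, e3 q7157 L156865 q8677, e3 q7158 L118077 q7360, e3 q7159 L116827 q4272, e3 q7160 L168634 q11230, e3 q7161 (flp_c L116839) q4273, e3 q7162 (flp_c L168643) q11232, e3 q7163 (flp_c L168647) q11233, e3 q7164 L116854 q6260, e3 q7165 L116861 q4275, e3 q7166 L168692 q11240, e3 q7167 L168708 q11242, trivial⟩ (by decide +kernel)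

theorem ce_c_112 : ∀ r, r < 64 → sm gc (Qf (7168 + r)) = Qf (tab Gen.c (7168 + r)) :=
  edges_tab (sm gc) Qf (tab Gen.c) 7168 [(7168, 9399), (7169, 5054), (7170, 4288), (7171, 5281), (7172, 5243), (7173, 5282), (7174, 4282), (7175, 11252), (7176, 4284), (7177, 11255), (7178, 11256), (7179, 4283), (7180, 11258), (7181, 11259), (7182, 9081), (7183, 10188), (7184, 8320), (7185, 8350), (7186, 8375), (7187, 9083), (7188, 11267), (7189, 11245), (7190, 8374), (7191, 4290), (7192, 4291), (7193, 8284), (7194, 11273), (7195, 11276), (7196, 4292), (7197, 11279), (7198, 11281), (7199, 4293), (7200, 11284), (7201, 11285), (7202, 4295), (7203, 4378), (7204, 11292), (7205, 4379), (7206, 4380), (7207, 4301), (7208, 7091), (7209, 7093), (7210, 4300), (7211, 11298), (7212, 4302), (7213, 11296), (7214, 8282), (7215, 11291), (7216, 11299), (7217, 11309), (7218, 11312), (7219, 11316), (7220, 11317), (7221, 4305), (7222, 11320), (7223, 11322), (7224, 4306), (7225, 11325), (7226, 11326), (7227, 11323), (7228, 11331), (7229, 4308), (7230,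 11335), (7231, 11336)]
    ⟨e3 q7168 (flp_c L155154) q9399, e3 q7169 L116893 q5054, e3 q7170 L116909 q4288, e3 q7171 L116915 q5281, e3 q7172 L116921 q5243, e3 q7173 L116927 q5282, e3 q7174 L116937 q4282, e3 q7175 L168784 q11252, e3 q7176 L116951 q4284, e3 q7177 L168798 q11255, e3 q7178 L168806 q11256, e3 q7179 (flp_c L116973) q4283, e3 q7180 (flp_c L168824) q11258, e3 q7181 L168828 q11259, e3 q7182 (flp_c L152704) q9081, e3 q7183 (flp_c L160556) q10188, e3 q7184 (flp_c L129510) q8320, e3 q7185 L129898 q8350, e3 q7186 (flp_c L130056) q8375, e3 q7187 (flp_c L152716) q9083, e3 q7188 L168883 q11267, e3 q7189 (flp_c L168734) q11245, e3 q7190 (flp_c L130050) q8374, e3 q7191 L117047 q4290, e3 q7192 L117057 q4291, e3 q7193 (flp_c L129223) q8284, e3 q7194 L168919 q11273, e3 q7195 L168931 q11276, e3 q7196 (flp_c L117081) q4292, e3 q7197 (flp_c L168953) q11279, e3 q7198 L168967 q11281, e3 q7199 (flp_c L117099) q4293, e3 q7200 (flp_c L168985) q11284, e3 q7201 L168991 q11285, e3 q7202 L117119 q4295, e3 q7203 L117125 q4378, e3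 q7204 L169027 q11292, e3 q7205 L117135 q4379, e3 q7206 L117143 q4380, e3 q7207 L117151 q4301, e3 q7208 L117157 q7091, e3 q7209 L117167 q7093, e3 q7210 L117173 q4300, e3 q7211 (flp_c L169079) q11298, e3 q7212 L117185 q4302, e3 q7213 (flp_c L169057) q11296, e3 q7214 (flp_c L129205) q8282, e3 q7215 (flp_c L169025) q11291, e3 q7216 (flp_c L169089) q11299, e3 q7217 L169149 q11309, e3 q7218 L169161 q11312, e3 q7219 L169185 q11316, e3 q7220 L169191 q11317, e3 q7221 (flp_c L117235) q4305, e3 q7222 (flp_c L169215) q11320, e3 q7223 L169227 q11322, e3 q7224 (flp_c L117253) q4306, e3 q7225 (flp_c L169247) q11325, e3 q7226 (flp_c L169255) q11326, e3 q7227 (flp_c L169239) q11323, e3 q7228 L169283 q11331, e3 q7229 (flp_c L117281) q4308, e3 q7230 (flp_c L169311) q11335, e3 q7231 (flp_c L169317) q11336, trivial⟩ (by decide +kernel)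

theorem ce_c_113 : ∀ r, r < 64 → sm gc (Qf (7232 + r)) = Qf (tab Gen.c (7232 + r)) :=
  edges_tab (sm gc) Qf (tab Gen.c) 7232 [(7232, 11340), (7233, 11342), (7234, 4310), (7235, 11344), (7236, 4311), (7237, 11346), (7238, 11347), (7239, 4313), (7240, 11351), (7241, 4314), (7242, 11354), (7243, 11355), (7244, 4318), (7245, 5314), (7246, 4316), (7247, 4317), (7248, 11365), (7249, 7901), (7250, 11356), (7251, 11370), (7252, 11358), (7253, 11359), (7254, 4319), (7255, 11378), (7256, 11379), (7257, 11382), (7258, 4321), (7259, 4392), (7260, 7118), (7261, 4323), (7262, 4324), (7263, 11393), (7264, 11395), (7265, 11399), (7266, 11401), (7267, 4326), (7268, 11402), (7269, 9394), (7270, 11403), (7271, 5064), (7272, 4338), (7273, 5303), (7274, 5304), (7275, 5251), (7276, 11412), (7277, 4334), (7278, 4335), (7279, 11416), (7280, 4333), (7281, 11418), (7282, 11419), (7283, 10223), (7284, 9135), (7285, 8323), (7286, 8382), (7287, 8354), (7288, 11426), (7289, 11406), (7290, 9137), (7291, 8381), (7292, 4341), (7293, 4342), (7294,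 8293), (7295, 11433)]
    ⟨e3 q7232 L169333 q11340, e3 q7233 L169343 q11342, e3 q7234 (flp_c L117307) q4310, e3 q7235 (flp_c L169361) q11344, e3 q7236 (flp_c L117319) q4311, e3 q7237 (flp_c L169375) q11346, e3 q7238 L169381 q11347, e3 q7239 L117339 q4313, e3 q7240 (flp_c L169403) q11351, e3 q7241 (flp_c L117351) q4314, e3 q7242 (flp_c L169425) q11354, e3 q7243 (flp_c L169435) q11355, e3 q7244 L117377 q4318, e3 q7245 L156844 q5314, e3 q7246 L117383 q4316, e3 q7247 L117389 q4317, e3 q7248 L169493 q11365, e3 q7249 (flp_c L163991) q7901, e3 q7250 (flp_c L169443) q11356, e3 q7251 L169525 q11370, e3 q7252 (flp_c L169457) q11358, e3 q7253 (flp_c L169463) q11359, e3 q7254 (flp_c L117427) q4319, e3 q7255 (flp_c L169569) q11378, e3 q7256 (flp_c L169575) q11379, e3 q7257 L169595 q11382, e3 q7258 (flp_c L117451) q4321, e3 q7259 L117457 q4392, e3 q7260 (flp_c L117463) q7118, e3 q7261 L117467 q4323, e3 q7262 L117471 q4324, e3 q7263 (flp_c L169649) q11393, e3 q7264 (flp_c L169659) q11395, e3 q7265 L169681 q11399, e3 q7266 L169693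 q11401, e3 q7267 (flp_c L117497) q4326, e3 q7268 (flp_c L169709) q11402, e3 q7269 (flp_c L155100) q9394, e3 q7270 L169717 q11403, e3 q7271 L117531 q5064, e3 q7272 L117541 q4338, e3 q7273 L117553 q5303, e3 q7274 L117559 q5304, e3 q7275 L117565 q5251, e3 q7276 L169789 q11412, e3 q7277 L117575 q4334, e3 q7278 L117589 q4335, e3 q7279 L169809 q11416, e3 q7280 (flp_c L117603) q4333, e3 q7281 (flp_c L169827) q11418, e3 q7282 L169833 q11419, e3 q7283 (flp_c L160752) q10223, e3 q7284 (flp_c L153119) q9135, e3 q7285 L129535 q8323, e3 q7286 (flp_c L130117) q8382, e3 q7287 L129922 q8354, e3 q7288 L169884 q11426, e3 q7289 (flp_c L169745) q11406, e3 q7290 (flp_c L153131) q9137, e3 q7291 (flp_c L130111) q8381, e3 q7292 L117681 q4341, e3 q7293 L117687 q4342, e3 q7294 (flp_c L149684) q8293, e3 q7295 L169924 q11433, trivial⟩ (by decide +kernel)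

theorem ce_c_114 : ∀ r, r < 64 → sm gc (Qf (7296 + r)) = Qf (tab Gen.c (7296 + r)) :=
  edges_tab (sm gc) Qf (tab Gen.c) 7296 [(7296, 11436), (7297, 4343), (7298, 11439), (7299, 11441), (7300, 4344), (7301, 11444), (7302, 4346), (7303, 4394), (7304, 11451), (7305, 4395), (7306, 4352), (7307, 4396), (7308, 7132), (7309, 7133), (7310, 4351), (7311, 11456), (7312, 4353), (7313, 11455), (7314, 8291), (7315, 11449), (7316, 11457), (7317, 11468), (7318, 11471), (7319, 11475), (7320, 11476), (7321, 4356), (7322, 11479), (7323, 11481), (7324, 4357), (7325, 11484), (7326, 11485), (7327, 11482), (7328, 11490), (7329, 4359), (7330, 11494), (7331, 11495), (7332, 11499), (7333, 11501), (7334, 4361), (7335, 11503), (7336, 4362), (7337, 11505), (7338, 11506), (7339, 4364), (7340, 11510), (7341, 4365), (7342, 11513), (7343, 11514), (7344, 4369), (7345, 5292), (7346, 4367), (7347, 4368), (7348, 7740), (7349, 11524), (7350, 11515), (7351, 11529), (7352, 11517), (7353, 11518), (7354, 4370), (7355, 11537), (7356, 11538), (7357, 11541),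 (7358, 4372), (7359, 4408)]
    ⟨e3 q7296 L169936 q11436, e3 q7297 (flp_c L117711) q4343, e3 q7298 (flp_c L169958) q11439, e3 q7299 L169972 q11441, e3 q7300 (flp_c L117731) q4344, e3 q7301 L169996 q11444, e3 q7302 L117741 q4346, e3 q7303 L117747 q4394, e3 q7304 L170032 q11451, e3 q7305 L117757 q4395, e3 q7306 L117761 q4352, e3 q7307 L117765 q4396, e3 q7308 (flp_c L149703) q7132, e3 q7309 L117777 q7133, e3 q7310 L117785 q4351, e3 q7311 (flp_c L170076) q11456, e3 q7312 L117795 q4353, e3 q7313 (flp_c L170062) q11455, e3 q7314 (flp_c L149688) q8291, e3 q7315 (flp_c L170022) q11449, e3 q7316 (flp_c L170084) q11457, e3 q7317 L170154 q11468, e3 q7318 L170166 q11471, e3 q7319 L170190 q11475, e3 q7320 L170196 q11476, e3 q7321 (flp_c L117845) q4356, e3 q7322 (flp_c L170220) q11479, e3 q7323 L170232 q11481, e3 q7324 (flp_c L117863) q4357, e3 q7325 (flp_c L170250) q11484, e3 q7326 (flp_c L170258) q11485, e3 q7327 (flp_c L170244) q11482, e3 q7328 L170282 q11490, e3 q7329 (flp_c L117891) q4359, e3 q7330 (flp_c L170310) q11494,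 e3 q7331 (flp_c L170316) q11495, e3 q7332 L170332 q11499, e3 q7333 L170342 q11501, e3 q7334 (flp_c L117917) q4361, e3 q7335 (flp_c L170360) q11503, e3 q7336 (flp_c L117929) q4362, e3 q7337 (flp_c L170374) q11505, e3 q7338 L170380 q11506, e3 q7339 L117951 q4364, e3 q7340 (flp_c L170402) q11510, e3 q7341 (flp_c L117965) q4365, e3 q7342 (flp_c L170426) q11513, e3 q7343 (flp_c L170436) q11514, e3 q7344 L117991 q4369, e3 q7345 L156794 q5292, e3 q7346 L117997 q4367, e3 q7347 L118003 q4368, e3 q7348 (flp_c L163983) q7740, e3 q7349 L170504 q11524, e3 q7350 (flp_c L170444) q11515, e3 q7351 L170540 q11529, e3 q7352 (flp_c L170460) q11517, e3 q7353 (flp_c L170468) q11518, e3 q7354 (flp_c L118041) q4370, e3 q7355 (flp_c L170584) q11537, e3 q7356 (flp_c L170590) q11538, e3 q7357 L170610 q11541, e3 q7358 (flp_c L118065) q4372, e3 q7359 L118071 q4408, trivial⟩ (by decide +kernel)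

theorem ce_c_115 : ∀ r, r < 64 → sm gc (Qf (7360 + r)) = Qf (tab Gen.c (7360 + r)) :=
  edges_tab (sm gc) Qf (tab Gen.c) 7360 [(7360, 7158), (7361, 4374), (7362, 4375), (7363, 11552), (7364, 11554), (7365, 11558), (7366, 11560), (7367, 4377), (7368, 11561), (7369, 8300), (7370, 8888), (7371, 11290), (7372, 4979), (7373, 11297), (7374, 5780), (7375, 4381), (7376, 11567), (7377, 11570), (7378, 7409), (7379, 7434), (7380, 4387), (7381, 11579), (7382, 4389), (7383, 4390), (7384, 4386), (7385, 11586), (7386, 11525), (7387, 11590), (7388, 11577), (7389, 11578), (7390, 4388), (7391, 11597), (7392, 11598), (7393, 11599), (7394, 11583), (7395, 11584), (7396, 11385), (7397, 11387), (7398, 11388), (7399, 11389), (7400, 8303), (7401, 8894), (7402, 11450), (7403, 4984), (7404, 11458), (7405, 5783), (7406, 4397), (7407, 11619), (7408, 11622), (7409, 7378), (7410, 7438), (7411, 4403), (7412, 11631), (7413, 4405), (7414, 4406), (7415, 4402), (7416, 11638), (7417, 11366), (7418, 11642), (7419, 11629), (7420, 11630), (7421, 4404),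 (7422, 11649), (7423, 11650)]
    ⟨e3 q7360 (flp_c L118077) q7158, e3 q7361 L118081 q4374, e3 q7362 L118085 q4375, e3 q7363 (flp_c L170664) q11552, e3 q7364 (flp_c L170674) q11554, e3 q7365 L170696 q11558, e3 q7366 L170708 q11560, e3 q7367 (flp_c L118111) q4377, e3 q7368 (flp_c L170724) q11561, e3 q7369 (flp_c L129346) q8300, e3 q7370 (flp_c L145949) q8888, e3 q7371 (flp_c L169017) q11290, e3 q7372 L118145 q4979, e3 q7373 (flp_c L169069) q11297, e3 q7374 (flp_c L120544) q5780, e3 q7375 (flp_c L118217) q4381, e3 q7376 (flp_c L170785) q11567, e3 q7377 L170808 q11570, e3 q7378 (flp_c L118421) q7409, e3 q7379 L118576 q7434, e3 q7380 L118244 q4387, e3 q7381 L170867 q11579, e3 q7382 L118254 q4389, e3 q7383 L118260 q4390, e3 q7384 (flp_c L118266) q4386, e3 q7385 (flp_c L170907) q11586, e3 q7386 (flp_c L170516) q11525, e3 q7387 L170925 q11590, e3 q7388 (flp_c L170853) q11577, e3 q7389 (flp_c L170861) q11578, e3 q7390 (flp_c L118296) q4388, e3 q7391 (flp_c L170971) q11597, e3 q7392 (flp_c L170975) q11598, e3 q7393 (flp_c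 L170979) q11599, e3 q7394 (flp_c L170887) q11583, e3 q7395 (flp_c L170897) q11584, e3 q7396 (flp_c L169611) q11385, e3 q7397 (flp_c L169621) q11387, e3 q7398 (flp_c L169625) q11388, e3 q7399 (flp_c L169629) q11389, e3 q7400 L151016 q8303, e3 q7401 L150744 q8894, e3 q7402 (flp_c L170028) q11450, e3 q7403 L149544 q4984, e3 q7404 (flp_c L170096) q11458, e3 q7405 (flp_c L118390) q5783, e3 q7406 (flp_c L118392) q4397, e3 q7407 (flp_c L171124) q11619, e3 q7408 L171147 q11622, e3 q7409 L118421 q7378, e3 q7410 L118623 q7438, e3 q7411 L118433 q4403, e3 q7412 L171210 q11631, e3 q7413 L118443 q4405, e3 q7414 L118451 q4406, e3 q7415 (flp_c L118455) q4402, e3 q7416 (flp_c L171250) q11638, e3 q7417 (flp_c L169505) q11366, e3 q7418 L171268 q11642, e3 q7419 (flp_c L171196) q11629, e3 q7420 (flp_c L171206) q11630, e3 q7421 (flp_c L118485) q4404, e3 q7422 (flp_c L171314) q11649, e3 q7423 (flp_c L171318) q11650, trivial⟩ (by decide +kernel)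

theorem ce_c_116 : ∀ r, r < 64 → sm gc (Qf (7424 + r)) = Qf (tab Gen.c (7424 + r)) :=
  edges_tab (sm gc) Qf (tab Gen.c) 7424 [(7424, 11651), (7425, 11635), (7426, 11636), (7427, 11544), (7428, 11546), (7429, 11547), (7430, 11548), (7431, 11666), (7432, 4411), (7433, 9649), (7434, 7379), (7435, 11673), (7436, 4414), (7437, 9643), (7438, 7410), (7439, 4417), (7440, 4418), (7441, 4419), (7442, 4420), (7443, 11680), (7444, 4421), (7445, 11681), (7446, 4422), (7447, 8900), (7448, 4424), (7449, 4425), (7450, 8907), (7451, 4427), (7452, 5790), (7453, 7453), (7454, 5786), (7455, 5787), (7456, 8436), (7457, 4433), (7458, 4434), (7459, 4436), (7460, 4438), (7461, 7461), (7462, 11689), (7463, 7463), (7464, 11690), (7465, 7465), (7466, 4500), (7467, 7467), (7468, 4535), (7469, 7469), (7470, 4440), (7471, 8946), (7472, 8954), (7473, 4441), (7474, 7474), (7475, 4443), (7476, 9013), (7477, 9021), (7478, 4444), (7479, 4445), (7480, 4466), (7481, 4469), (7482, 4470), (7483, 4449), (7484, 4450), (7485, 11700), (7486, 4452), (7487,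 7975)]
    ⟨e3 q7424 (flp_c L171322) q11651, e3 q7425 (flp_c L171230) q11635, e3 q7426 (flp_c L171240) q11636, e3 q7427 (flp_c L170626) q11544, e3 q7428 (flp_c L170636) q11546, e3 q7429 (flp_c L170640) q11547, e3 q7430 (flp_c L170644) q11548, e3 q7431 L171414 q11666, e3 q7432 (flp_c L118546) q4411, e3 q7433 (flp_c L156986) q9649, e3 q7434 (flp_c L118576) q7379, e3 q7435 L171443 q11673, e3 q7436 (flp_c L118593) q4414, e3 q7437 (flp_c L156949) q9643, e3 q7438 (flp_c L118623) q7410, e3 q7439 L118693 q4417, e3 q7440 L118701 q4418, e3 q7441 L118709 q4419, e3 q7442 (flp_c L118740) q4420, e3 q7443 (flp_c L171480) q11680, e3 q7444 (flp_c L118748) q4421, e3 q7445 (flp_c L171490) q11681, e3 q7446 (flp_c L118760) q4422, e3 q7447 L146100 q8900, e3 q7448 L118770 q4424, e3 q7449 (flp_c L118772) q4425, e3 q7450 L150807 q8907, e3 q7451 L118782 q4427, e3 q7452 (flp_c L118793) q5790, e3 q7453 L118805 q7453, e3 q7454 L118818 q5786, e3 q7455 L118828 q5787, e3 q7456 L130543 q8436, e3 q7457 L118842 q4433, e3 q7458 L118848 q4434, e3 q7459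 L118856 q4436, e3 q7460 L118866 q4438, e3 q7461 L118937 q7461, e3 q7462 (flp_c L171540) q11689, e3 q7463 L122028 q7463, e3 q7464 (flp_c L171552) q11690, e3 q7465 L118938 q7465, e3 q7466 L120625 q4500, e3 q7467 L122030 q7467, e3 q7468 L149152 q4535, e3 q7469 L118931 q7469, e3 q7470 L120606 q4440, e3 q7471 L151810 q8946, e3 q7472 (flp_c L151884) q8954, e3 q7473 (flp_c L120637) q4441, e3 q7474 L122031 q7474, e3 q7475 L120661 q4443, e3 q7476 L152268 q9013, e3 q7477 (flp_c L152328) q9021, e3 q7478 (flp_c L120714) q4444, e3 q7479 (flp_c L120718) q4445, e3 q7480 (flp_c L120736) q4466, e3 q7481 L120740 q4469, e3 q7482 L120746 q4470, e3 q7483 (flp_c L120752) q4449, e3 q7484 (flp_c L120756) q4450, e3 q7485 L171634 q11700, e3 q7486 L120768 q4452, e3 q7487 L151820 q7975, trivial⟩ (by decide +kernel)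

theorem ce_c_117 : ∀ r, r < 64 → sm gc (Qf (7488 + r)) = Qf (tab Gen.c (7488 + r)) :=
  edges_tab (sm gc) Qf (tab Gen.c) 7488 [(7488, 4453), (7489, 4478), (7490, 4481), (7491, 4482), (7492, 4457), (7493, 4458), (7494, 11706), (7495, 4460), (7496, 8032), (7497, 4465), (7498, 4464), (7499, 5838), (7500, 4757), (7501, 9477), (7502, 11697), (7503, 7508), (7504, 11712), (7505, 4468), (7506, 11698), (7507, 11715), (7508, 7503), (7509, 7612), (7510, 10438), (7511, 4477), (7512, 4475), (7513, 5843), (7514, 4795), (7515, 9484), (7516, 11703), (7517, 7522), (7518, 11721), (7519, 4480), (7520, 11704), (7521, 11724), (7522, 7517), (7523, 7567), (7524, 10404), (7525, 4490), (7526, 4493), (7527, 7731), (7528, 8318), (7529, 6859), (7530, 5606), (7531, 9193), (7532, 4491), (7533, 11728), (7534, 6855), (7535, 10813), (7536, 5611), (7537, 9188), (7538, 4495), (7539, 11733), (7540, 6416), (7541, 11691), (7542, 4501), (7543, 11736), (7544, 11737), (7545, 4503), (7546, 4504), (7547, 9815), (7548, 8014), (7549, 11744), (7550, 4506),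 (7551, 8387)]
    ⟨e3 q7488 (flp_c L120778) q4453, e3 q7489 L150189 q4478, e3 q7490 L150207 q4481, e3 q7491 L150205 q4482, e3 q7492 (flp_c L120806) q4457, e3 q7493 (flp_c L120810) q4458, e3 q7494 L171678 q11706, e3 q7495 L120822 q4460, e3 q7496 (flp_c L124055) q8032, e3 q7497 L120834 q4465, e3 q7498 L120842 q4464, e3 q7499 L120848 q5838, e3 q7500 (flp_c L120858) q4757, e3 q7501 (flp_c L155724) q9477, e3 q7502 (flp_c L171612) q11697, e3 q7503 (flp_c L120903) q7508, e3 q7504 L171714 q11712, e3 q7505 (flp_c L120886) q4468, e3 q7506 (flp_c L171618) q11698, e3 q7507 L171741 q11715, e3 q7508 L120903 q7503, e3 q7509 (flp_c L121635) q7612, e3 q7510 (flp_c L162172) q10438, e3 q7511 L120951 q4477, e3 q7512 L120957 q4475, e3 q7513 L150678 q5843, e3 q7514 L150756 q4795, e3 q7515 (flp_c L155758) q9484, e3 q7516 (flp_c L171656) q11703, e3 q7517 (flp_c L150916) q7522, e3 q7518 L171784 q11721, e3 q7519 (flp_c L120995) q4480, e3 q7520 (flp_c L171662) q11704, e3 q7521 L171811 q11724, e3 q7522 L150916 q7517, e3 q7523 (flp_c L121305)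 q7567, e3 q7524 (flp_c L161944) q10404, e3 q7525 L121042 q4490, e3 q7526 L121052 q4493, e3 q7527 (flp_c L122264) q7731, e3 q7528 (flp_c L129481) q8318, e3 q7529 L121074 q6859, e3 q7530 L121082 q5606, e3 q7531 (flp_c L153600) q9193, e3 q7532 (flp_c L121091) q4491, e3 q7533 (flp_c L171850) q11728, e3 q7534 L121113 q6855, e3 q7535 (flp_c L165840) q10813, e3 q7536 L121125 q5611, e3 q7537 (flp_c L153562) q9188, e3 q7538 L121141 q4495, e3 q7539 L171905 q11733, e3 q7540 L121157 q6416, e3 q7541 (flp_c L171564) q11691, e3 q7542 (flp_c L121166) q4501, e3 q7543 (flp_c L171924) q11736, e3 q7544 L171928 q11737, e3 q7545 L121180 q4503, e3 q7546 (flp_c L121182) q4504, e3 q7547 (flp_c L158053) q9815, e3 q7548 L163870 q8014, e3 q7549 L171968 q11744, e3 q7550 (flp_c L121202) q4506, e3 q7551 (flp_c L163413) q8387, trivial⟩ (by decide +kernel)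

theorem ce_c_118 : ∀ r, r < 64 → sm gc (Qf (7552 + r)) = Qf (tab Gen.c (7552 + r)) :=
  edges_tab (sm gc) Qf (tab Gen.c) 7552 [(7552, 11746), (7553, 7667), (7554, 4511), (7555, 9803), (7556, 8999), (7557, 9801), (7558, 6063), (7559, 4512), (7560, 8386), (7561, 11756), (7562, 10368), (7563, 4516), (7564, 8384), (7565, 11764), (7566, 11761), (7567, 7523), (7568, 11769), (7569, 4519), (7570, 4525), (7571, 4527), (7572, 7893), (7573, 8319), (7574, 6881), (7575, 9198), (7576, 5643), (7577, 4526), (7578, 11771), (7579, 10833), (7580, 6876), (7581, 9228), (7582, 5648), (7583, 4530), (7584, 11776), (7585, 6447), (7586, 11692), (7587, 4536), (7588, 11779), (7589, 11780), (7590, 4538), (7591, 4539), (7592, 9868), (7593, 7956), (7594, 11787), (7595, 4541), (7596, 8380), (7597, 11789), (7598, 7831), (7599, 4546), (7600, 9856), (7601, 9061), (7602, 6101), (7603, 9854), (7604, 4547), (7605, 8379), (7606, 11799), (7607, 10333), (7608, 4551), (7609, 8377), (7610, 11807), (7611, 11804), (7612, 7509), (7613, 11812), (7614, 4554),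 (7615, 4555)]
    ⟨e3 q7552 (flp_c L171986) q11746, e3 q7553 (flp_c L121935) q7667, e3 q7554 L121224 q4511, e3 q7555 (flp_c L157995) q9803, e3 q7556 (flp_c L153745) q8999, e3 q7557 (flp_c L157975) q9801, e3 q7558 L121240 q6063, e3 q7559 (flp_c L121244) q4512, e3 q7560 (flp_c L163248) q8386, e3 q7561 (flp_c L172045) q11756, e3 q7562 (flp_c L161715) q10368, e3 q7563 L121279 q4516, e3 q7564 (flp_c L163415) q8384, e3 q7565 L172098 q11764, e3 q7566 (flp_c L172081) q11761, e3 q7567 L121305 q7523, e3 q7568 L172121 q11769, e3 q7569 (flp_c L121309) q4519, e3 q7570 L121335 q4525, e3 q7571 L121343 q4527, e3 q7572 (flp_c L123157) q7893, e3 q7573 L151146 q8319, e3 q7574 (flp_c L149821) q6881, e3 q7575 L153648 q9198, e3 q7576 (flp_c L150876) q5643, e3 q7577 (flp_c L121396) q4526, e3 q7578 (flp_c L172141) q11771, e3 q7579 (flp_c L166003) q10833, e3 q7580 (flp_c L150456) q6876, e3 q7581 (flp_c L153874) q9228, e3 q7582 (flp_c L150878) q5648, e3 q7583 L121430 q4530, e3 q7584 L172196 q11776, e3 q7585 L121456 q6447, e3 q7586 (flp_c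 L171571) q11692, e3 q7587 (flp_c L121482) q4536, e3 q7588 (flp_c L172215) q11779, e3 q7589 L172219 q11780, e3 q7590 L121509 q4538, e3 q7591 (flp_c L121511) q4539, e3 q7592 (flp_c L158353) q9868, e3 q7593 (flp_c L163842) q7956, e3 q7594 L172267 q11787, e3 q7595 (flp_c L121531) q4541, e3 q7596 (flp_c L163481) q8380, e3 q7597 (flp_c L172285) q11789, e3 q7598 (flp_c L122854) q7831, e3 q7599 L121553 q4546, e3 q7600 (flp_c L158293) q9856, e3 q7601 (flp_c L155528) q9061, e3 q7602 (flp_c L155520) q6101, e3 q7603 (flp_c L158273) q9854, e3 q7604 (flp_c L121575) q4547, e3 q7605 (flp_c L163473) q8379, e3 q7606 (flp_c L172350) q11799, e3 q7607 (flp_c L161464) q10333, e3 q7608 L121610 q4551, e3 q7609 (flp_c L163479) q8377, e3 q7610 L172405 q11807, e3 q7611 (flp_c L172386) q11804, e3 q7612 L121635 q7509, e3 q7613 L172434 q11812, e3 q7614 (flp_c L121641) q4554, e3 q7615 (flp_c L121647) q4555, trivial⟩ (by decide +kernel)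

theorem ce_c_119 : ∀ r, r < 64 → sm gc (Qf (7616 + r)) = Qf (tab Gen.c (7616 + r)) :=
  edges_tab (sm gc) Qf (tab Gen.c) 7616 [(7616, 4556), (7617, 11815), (7618, 4577), (7619, 7619), (7620, 11819), (7621, 7621), (7622, 11823), (7623, 11826), (7624, 4561), (7625, 11829), (7626, 11831), (7627, 4563), (7628, 4564), (7629, 11834), (7630, 4566), (7631, 4567), (7632, 4568), (7633, 6852), (7634, 11839), (7635, 11840), (7636, 11845), (7637, 4578), (7638, 11729), (7639, 4572), (7640, 4573), (7641, 4574), (7642, 11848), (7643, 11849), (7644, 11850), (7645, 7818), (7646, 11851), (7647, 11857), (7648, 11859), (7649, 4576), (7650, 4581), (7651, 7816), (7652, 7817), (7653, 7809), (7654, 11866), (7655, 4583), (7656, 11869), (7657, 11870), (7658, 4585), (7659, 8010), (7660, 4586), (7661, 7908), (7662, 11873), (7663, 4588), (7664, 4589), (7665, 11879), (7666, 10331), (7667, 7553), (7668, 10193), (7669, 6473), (7670, 11885), (7671, 10447), (7672, 11887), (7673, 4598), (7674, 11890), (7675, 4595), (7676, 11891), (7677, 11892), (7678,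 7680), (7679, 4597)]
    ⟨e3 q7616 (flp_c L121655) q4556, e3 q7617 L172452 q11815, e3 q7618 L121667 q4577, e3 q7619 L121677 q7619, e3 q7620 L172476 q11819, e3 q7621 L121688 q7621, e3 q7622 L172495 q11823, e3 q7623 L172519 q11826, e3 q7624 (flp_c L121701) q4561, e3 q7625 (flp_c L172535) q11829, e3 q7626 L172545 q11831, e3 q7627 (flp_c L121709) q4563, e3 q7628 (flp_c L121715) q4564, e3 q7629 L172567 q11834, e3 q7630 L121731 q4566, e3 q7631 (flp_c L121733) q4567, e3 q7632 (flp_c L121739) q4568, e3 q7633 L121754 q6852, e3 q7634 (flp_c L172601) q11839, e3 q7635 (flp_c L172612) q11840, e3 q7636 L172644 q11845, e3 q7637 L121773 q4578, e3 q7638 (flp_c L171860) q11729, e3 q7639 L121793 q4572, e3 q7640 L121799 q4573, e3 q7641 L121803 q4574, e3 q7642 (flp_c L172671) q11848, e3 q7643 (flp_c L172683) q11849, e3 q7644 (flp_c L172691) q11850, e3 q7645 L149772 q7818, e3 q7646 (flp_c L172699) q11851, e3 q7647 L172737 q11857, e3 q7648 L172753 q11859, e3 q7649 (flp_c L121841) q4576, e3 q7650 L121849 q4581, e3 q7651 L149766 q7816,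 e3 q7652 L149768 q7817, e3 q7653 L149770 q7809, e3 q7654 L172809 q11866, e3 q7655 (flp_c L121879) q4583, e3 q7656 (flp_c L172827) q11869, e3 q7657 L172831 q11870, e3 q7658 L121897 q4585, e3 q7659 L163740 q8010, e3 q7660 (flp_c L121907) q4586, e3 q7661 (flp_c L151830) q7908, e3 q7662 L172853 q11873, e3 q7663 L121921 q4588, e3 q7664 (flp_c L121925) q4589, e3 q7665 (flp_c L172897) q11879, e3 q7666 L163403 q10331, e3 q7667 L121935 q7553, e3 q7668 L160588 q10193, e3 q7669 L121948 q6473, e3 q7670 L172944 q11885, e3 q7671 (flp_c L162244) q10447, e3 q7672 L172965 q11887, e3 q7673 L121974 q4598, e3 q7674 L172984 q11890, e3 q7675 (flp_c L121985) q4595, e3 q7676 (flp_c L173002) q11891, e3 q7677 L173006 q11892, e3 q7678 (flp_c L122040) q7680, e3 q7679 (flp_c L122002) q4597, trivial⟩ (by decide +kernel)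

theorem ce_c_120 : ∀ r, r < 64 → sm gc (Qf (7680 + r)) = Qf (tab Gen.c (7680 + r)) :=
  edges_tab (sm gc) Qf (tab Gen.c) 7680 [(7680, 7678), (7681, 11896), (7682, 11899), (7683, 11903), (7684, 11726), (7685, 4602), (7686, 7850), (7687, 11905), (7688, 4603), (7689, 10354), (7690, 5194), (7691, 8508), (7692, 7947), (7693, 4605), (7694, 11912), (7695, 11914), (7696, 11916), (7697, 4607), (7698, 4608), (7699, 11918), (7700, 11919), (7701, 4610), (7702, 11923), (7703, 4611), (7704, 4615), (7705, 7913), (7706, 4613), (7707, 4614), (7708, 11926), (7709, 11934), (7710, 11928), (7711, 11929), (7712, 4616), (7713, 11939), (7714, 11911), (7715, 4743), (7716, 4618), (7717, 4619), (7718, 11946), (7719, 11942), (7720, 11952), (7721, 4620), (7722, 11955), (7723, 4621), (7724, 6717), (7725, 4623), (7726, 6757), (7727, 4625), (7728, 4626), (7729, 6729), (7730, 10674), (7731, 7527), (7732, 4628), (7733, 7895), (7734, 4630), (7735, 4631), (7736, 4638), (7737, 6401), (7738, 4640), (7739, 4641), (7740, 7348), (7741, 4731), (7742, 11975),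 (7743, 11931)]
    ⟨e3 q7680 L122040 q7678, e3 q7681 L173024 q11896, e3 q7682 L173040 q11899, e3 q7683 L173066 q11903, e3 q7684 (flp_c L171832) q11726, e3 q7685 (flp_c L122062) q4602, e3 q7686 (flp_c L166011) q7850, e3 q7687 L173088 q11905, e3 q7688 (flp_c L122072) q4603, e3 q7689 (flp_c L161623) q10354, e3 q7690 L151244 q5194, e3 q7691 L151327 q8508, e3 q7692 (flp_c L123464) q7947, e3 q7693 (flp_c L122088) q4605, e3 q7694 (flp_c L173142) q11912, e3 q7695 L173154 q11914, e3 q7696 L173164 q11916, e3 q7697 (flp_c L122110) q4607, e3 q7698 (flp_c L122114) q4608, e3 q7699 (flp_c L173184) q11918, e3 q7700 L173190 q11919, e3 q7701 L122132 q4610, e3 q7702 (flp_c L173242) q11923, e3 q7703 (flp_c L122140) q4611, e3 q7704 L122148 q4615, e3 q7705 L164005 q7913, e3 q7706 L122156 q4613, e3 q7707 L122162 q4614, e3 q7708 (flp_c L173270) q11926, e3 q7709 L173325 q11934, e3 q7710 (flp_c L173284) q11928, e3 q7711 (flp_c L173292) q11929, e3 q7712 (flp_c L122176) q4616, e3 q7713 (flp_c L173353) q11939, e3 q7714 (flp_c L173136) q11911,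 e3 q7715 (flp_c L122198) q4743, e3 q7716 L122202 q4618, e3 q7717 L122208 q4619, e3 q7718 (flp_c L173385) q11946, e3 q7719 (flp_c L173365) q11942, e3 q7720 L173411 q11952, e3 q7721 (flp_c L122220) q4620, e3 q7722 (flp_c L173443) q11955, e3 q7723 (flp_c L122226) q4621, e3 q7724 L163409 q6717, e3 q7725 L122238 q4623, e3 q7726 (flp_c L163435) q6757, e3 q7727 L122250 q4625, e3 q7728 (flp_c L122254) q4626, e3 q7729 (flp_c L163657) q6729, e3 q7730 (flp_c L164807) q10674, e3 q7731 L122264 q7527, e3 q7732 L122270 q4628, e3 q7733 (flp_c L123169) q7895, e3 q7734 L122284 q4630, e3 q7735 L122290 q4631, e3 q7736 L122296 q4638, e3 q7737 L163935 q6401, e3 q7738 L122304 q4640, e3 q7739 L122308 q4641, e3 q7740 L163983 q7348, e3 q7741 L163927 q4731, e3 q7742 L173605 q11975, e3 q7743 (flp_c L173304) q11931, trivial⟩ (by decide +kernel)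

theorem ce_c_121 : ∀ r, r < 64 → sm gc (Qf (7744 + r)) = Qf (tab Gen.c (7744 + r)) :=
  edges_tab (sm gc) Qf (tab Gen.c) 7744 [(7744, 4636), (7745, 4816), (7746, 9136), (7747, 7826), (7748, 11968), (7749, 4639), (7750, 11984), (7751, 11705), (7752, 11985), (7753, 11990), (7754, 11971), (7755, 7869), (7756, 11983), (7757, 4643), (7758, 4644), (7759, 11997), (7760, 4645), (7761, 10432), (7762, 11988), (7763, 4788), (7764, 12006), (7765, 4789), (7766, 4790), (7767, 4791), (7768, 4742), (7769, 4716), (7770, 12017), (7771, 4651), (7772, 4652), (7773, 12019), (7774, 12023), (7775, 12024), (7776, 4653), (7777, 12027), (7778, 4654), (7779, 6794), (7780, 4656), (7781, 4657), (7782, 4658), (7783, 11976), (7784, 4677), (7785, 7785), (7786, 12034), (7787, 7787), (7788, 12038), (7789, 4662), (7790, 12041), (7791, 11876), (7792, 12045), (7793, 4665), (7794, 12048), (7795, 4667), (7796, 4668), (7797, 4669), (7798, 6873), (7799, 12052), (7800, 12053), (7801, 12058), (7802, 4679), (7803, 11773), (7804, 4673), (7805, 4674), (7806,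 4675), (7807, 12061)]
    ⟨e3 q7744 (flp_c L122334) q4636, e3 q7745 (flp_c L123962) q4816, e3 q7746 L163963 q9136, e3 q7747 L122834 q7826, e3 q7748 (flp_c L173552) q11968, e3 q7749 (flp_c L122356) q4639, e3 q7750 (flp_c L173657) q11984, e3 q7751 (flp_c L171676) q11705, e3 q7752 (flp_c L173663) q11985, e3 q7753 L173697 q11990, e3 q7754 (flp_c L173580) q11971, e3 q7755 L164007 q7869, e3 q7756 (flp_c L173653) q11983, e3 q7757 L122392 q4643, e3 q7758 L122398 q4644, e3 q7759 (flp_c L173737) q11997, e3 q7760 (flp_c L122412) q4645, e3 q7761 (flp_c L162802) q10432, e3 q7762 (flp_c L173681) q11988, e3 q7763 L122424 q4788, e3 q7764 L173793 q12006, e3 q7765 L122434 q4789, e3 q7766 L122438 q4790, e3 q7767 L122442 q4791, e3 q7768 L122448 q4742, e3 q7769 L122454 q4716, e3 q7770 L173853 q12017, e3 q7771 L122462 q4651, e3 q7772 L122472 q4652, e3 q7773 (flp_c L173863) q12019, e3 q7774 L173883 q12023, e3 q7775 L173891 q12024, e3 q7776 (flp_c L122490) q4653, e3 q7777 (flp_c L173911) q12027, e3 q7778 (flp_c L122498) q4654, e3 q7779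 (flp_c L163762) q6794, e3 q7780 L122510 q4656, e3 q7781 (flp_c L122514) q4657, e3 q7782 (flp_c L122522) q4658, e3 q7783 (flp_c L173613) q11976, e3 q7784 L122551 q4677, e3 q7785 L122569 q7785, e3 q7786 L173955 q12034, e3 q7787 L122583 q7787, e3 q7788 L173974 q12038, e3 q7789 (flp_c L122603) q4662, e3 q7790 (flp_c L174010) q12041, e3 q7791 (flp_c L172879) q11876, e3 q7792 L174040 q12045, e3 q7793 (flp_c L122617) q4665, e3 q7794 L174068 q12048, e3 q7795 L122633 q4667, e3 q7796 (flp_c L122637) q4668, e3 q7797 (flp_c L122643) q4669, e3 q7798 L122658 q6873, e3 q7799 (flp_c L174102) q12052, e3 q7800 (flp_c L174112) q12053, e3 q7801 L174145 q12058, e3 q7802 L122680 q4679, e3 q7803 (flp_c L172159) q11773, e3 q7804 L122692 q4673, e3 q7805 L122698 q4674, e3 q7806 L122702 q4675, e3 q7807 (flp_c L174176) q12061, trivial⟩ (by decide +kernel)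

theorem ce_c_122 : ∀ r, r < 64 → sm gc (Qf (7808 + r)) = Qf (tab Gen.c (7808 + r)) :=
  edges_tab (sm gc) Qf (tab Gen.c) 7808 [(7808, 12062), (7809, 7653), (7810, 12063), (7811, 12064), (7812, 12071), (7813, 4676), (7814, 12073), (7815, 4682), (7816, 7651), (7817, 7652), (7818, 7645), (7819, 12079), (7820, 4684), (7821, 12081), (7822, 11868), (7823, 4686), (7824, 7952), (7825, 4687), (7826, 7747), (7827, 12084), (7828, 4689), (7829, 12088), (7830, 10365), (7831, 7598), (7832, 10229), (7833, 6507), (7834, 12094), (7835, 10498), (7836, 12096), (7837, 4698), (7838, 12099), (7839, 4695), (7840, 12100), (7841, 12101), (7842, 7844), (7843, 4697), (7844, 7842), (7845, 12105), (7846, 12108), (7847, 11902), (7848, 11717), (7849, 4702), (7850, 7686), (7851, 12112), (7852, 4703), (7853, 5183), (7854, 10317), (7855, 8537), (7856, 8005), (7857, 4705), (7858, 12118), (7859, 12120), (7860, 12122), (7861, 4707), (7862, 4708), (7863, 12124), (7864, 12125), (7865, 4710), (7866, 12129), (7867, 4711), (7868, 4715), (7869, 7755), (7870,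 4713), (7871, 4714)]
    ⟨e3 q7808 (flp_c L174186) q12062, e3 q7809 (flp_c L149770) q7653, e3 q7810 (flp_c L174196) q12063, e3 q7811 (flp_c L174206) q12064, e3 q7812 L174258 q12071, e3 q7813 (flp_c L122736) q4676, e3 q7814 L174280 q12073, e3 q7815 L122772 q4682, e3 q7816 (flp_c L149766) q7651, e3 q7817 (flp_c L149768) q7652, e3 q7818 (flp_c L149772) q7645, e3 q7819 L174330 q12079, e3 q7820 (flp_c L122800) q4684, e3 q7821 (flp_c L174340) q12081, e3 q7822 (flp_c L172821) q11868, e3 q7823 L122816 q4686, e3 q7824 (flp_c L163754) q7952, e3 q7825 (flp_c L122824) q4687, e3 q7826 (flp_c L122834) q7747, e3 q7827 L174360 q12084, e3 q7828 (flp_c L122844) q4689, e3 q7829 (flp_c L174392) q12088, e3 q7830 L163439 q10365, e3 q7831 L122854 q7598, e3 q7832 L160788 q10229, e3 q7833 L122867 q6507, e3 q7834 L174441 q12094, e3 q7835 (flp_c L162569) q10498, e3 q7836 L174464 q12096, e3 q7837 L122891 q4698, e3 q7838 L174493 q12099, e3 q7839 (flp_c L122900) q4695, e3 q7840 (flp_c L174515) q12100, e3 q7841 L174521 q12101, e3 q7842 (flp_c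 L150742) q7844, e3 q7843 (flp_c L122915) q4697, e3 q7844 L150742 q7842, e3 q7845 L174547 q12105, e3 q7846 L174569 q12108, e3 q7847 L173064 q11902, e3 q7848 (flp_c L171762) q11717, e3 q7849 (flp_c L122957) q4702, e3 q7850 L166011 q7686, e3 q7851 L174607 q12112, e3 q7852 (flp_c L122967) q4703, e3 q7853 L123800 q5183, e3 q7854 L161372 q10317, e3 q7855 L143613 q8537, e3 q7856 (flp_c L150614) q8005, e3 q7857 (flp_c L122983) q4705, e3 q7858 (flp_c L174657) q12118, e3 q7859 L174667 q12120, e3 q7860 L174677 q12122, e3 q7861 (flp_c L123005) q4707, e3 q7862 (flp_c L123013) q4708, e3 q7863 (flp_c L174701) q12124, e3 q7864 L174707 q12125, e3 q7865 L123035 q4710, e3 q7866 (flp_c L174761) q12129, e3 q7867 (flp_c L123043) q4711, e3 q7868 L123051 q4715, e3 q7869 (flp_c L164007) q7755, e3 q7870 L123057 q4713, e3 q7871 L123063 q4714, trivial⟩ (by decide +kernel)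

theorem ce_c_123 : ∀ r, r < 64 → sm gc (Qf (7872 + r)) = Qf (tab Gen.c (7872 + r)) :=
  edges_tab (sm gc) Qf (tab Gen.c) 7872 [(7872, 12131), (7873, 12139), (7874, 12133), (7875, 12134), (7876, 12016), (7877, 12117), (7878, 4718), (7879, 4719), (7880, 12149), (7881, 12147), (7882, 12155), (7883, 4720), (7884, 12158), (7885, 4721), (7886, 6793), (7887, 4723), (7888, 6831), (7889, 4725), (7890, 4726), (7891, 6801), (7892, 10758), (7893, 7572), (7894, 4728), (7895, 7733), (7896, 4730), (7897, 4738), (7898, 6399), (7899, 4740), (7900, 4741), (7901, 7249), (7902, 12136), (7903, 11816), (7904, 4737), (7905, 4778), (7906, 9082), (7907, 12170), (7908, 7661), (7909, 4739), (7910, 12181), (7911, 12182), (7912, 11699), (7913, 7705), (7914, 11907), (7915, 11925), (7916, 11944), (7917, 4744), (7918, 10398), (7919, 12186), (7920, 4826), (7921, 4827), (7922, 4828), (7923, 4829), (7924, 12200), (7925, 4749), (7926, 4750), (7927, 12202), (7928, 12206), (7929, 12207), (7930, 4751), (7931, 12210), (7932, 4752), (7933, 6719), (7934,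 4754), (7935, 8334)]
    ⟨e3 q7872 (flp_c L174781) q12131, e3 q7873 L174842 q12139, e3 q7874 (flp_c L174797) q12133, e3 q7875 (flp_c L174807) q12134, e3 q7876 (flp_c L173849) q12016, e3 q7877 (flp_c L174651) q12117, e3 q7878 L123089 q4718, e3 q7879 L123095 q4719, e3 q7880 (flp_c L174886) q12149, e3 q7881 (flp_c L174878) q12147, e3 q7882 L174912 q12155, e3 q7883 (flp_c L123111) q4720, e3 q7884 (flp_c L174944) q12158, e3 q7885 (flp_c L123117) q4721, e3 q7886 (flp_c L163820) q6793, e3 q7887 L123131 q4723, e3 q7888 (flp_c L163649) q6831, e3 q7889 L123143 q4725, e3 q7890 (flp_c L123147) q4726, e3 q7891 (flp_c L163840) q6801, e3 q7892 (flp_c L165420) q10758, e3 q7893 L123157 q7572, e3 q7894 L123163 q4728, e3 q7895 L123169 q7733, e3 q7896 L123179 q4730, e3 q7897 L123191 q4738, e3 q7898 L163879 q6399, e3 q7899 L123199 q4740, e3 q7900 L123203 q4741, e3 q7901 L163991 q7249, e3 q7902 (flp_c L174825) q12136, e3 q7903 (flp_c L172462) q11816, e3 q7904 (flp_c L123229) q4737, e3 q7905 L123975 q4778, e3 q7906 (flp_c L163953) q9082,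 e3 q7907 (flp_c L175057) q12170, e3 q7908 L151830 q7661, e3 q7909 (flp_c L123251) q4739, e3 q7910 (flp_c L175144) q12181, e3 q7911 (flp_c L175150) q12182, e3 q7912 (flp_c L171632) q11699, e3 q7913 (flp_c L164005) q7705, e3 q7914 (flp_c L173110) q11907, e3 q7915 L173264 q11925, e3 q7916 (flp_c L173375) q11944, e3 q7917 (flp_c L123293) q4744, e3 q7918 L161916 q10398, e3 q7919 (flp_c L175178) q12186, e3 q7920 L123305 q4826, e3 q7921 L123311 q4827, e3 q7922 L123315 q4828, e3 q7923 L123319 q4829, e3 q7924 L175264 q12200, e3 q7925 L123325 q4749, e3 q7926 L123335 q4750, e3 q7927 (flp_c L175274) q12202, e3 q7928 L175296 q12206, e3 q7929 L175304 q12207, e3 q7930 (flp_c L123355) q4751, e3 q7931 (flp_c L175324) q12210, e3 q7932 (flp_c L123363) q4752, e3 q7933 (flp_c L163495) q6719, e3 q7934 L123375 q4754, e3 q7935 L129755 q8334, trivial⟩ (by decide +kernel)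

theorem ce_c_124 : ∀ r, r < 64 → sm gc (Qf (7936 + r)) = Qf (tab Gen.c (7936 + r)) :=
  edges_tab (sm gc) Qf (tab Gen.c) 7936 [(7936, 4755), (7937, 8336), (7938, 11709), (7939, 5839), (7940, 9190), (7941, 4761), (7942, 9475), (7943, 5652), (7944, 7946), (7945, 4766), (7946, 7944), (7947, 7692), (7948, 12220), (7949, 12222), (7950, 4769), (7951, 12224), (7952, 7824), (7953, 8011), (7954, 8012), (7955, 8057), (7956, 7593), (7957, 4780), (7958, 4781), (7959, 4773), (7960, 12228), (7961, 11783), (7962, 12229), (7963, 4786), (7964, 4787), (7965, 11759), (7966, 4777), (7967, 12235), (7968, 12177), (7969, 11687), (7970, 4779), (7971, 12244), (7972, 9008), (7973, 12245), (7974, 12248), (7975, 7487), (7976, 11784), (7977, 4783), (7978, 4785), (7979, 8731), (7980, 12252), (7981, 9010), (7982, 12254), (7983, 12259), (7984, 12262), (7985, 12003), (7986, 12004), (7987, 12005), (7988, 12267), (7989, 12011), (7990, 12012), (7991, 12013), (7992, 12014), (7993, 8342), (7994, 4793), (7995, 8344), (7996, 11718), (7997, 5842), (7998,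 9230), (7999, 4799)]
    ⟨e3 q7936 (flp_c L123383) q4755, e3 q7937 (flp_c L129773) q8336, e3 q7938 (flp_c L171696) q11709, e3 q7939 L123406 q5839, e3 q7940 (flp_c L153586) q9190, e3 q7941 L123420 q4761, e3 q7942 (flp_c L155708) q9475, e3 q7943 (flp_c L150494) q5652, e3 q7944 (flp_c L123454) q7946, e3 q7945 L123446 q4766, e3 q7946 L123454 q7944, e3 q7947 L123464 q7692, e3 q7948 L175400 q12220, e3 q7949 L175410 q12222, e3 q7950 (flp_c L123477) q4769, e3 q7951 (flp_c L175420) q12224, e3 q7952 L163754 q7824, e3 q7953 (flp_c L123926) q8011, e3 q7954 (flp_c L123932) q8012, e3 q7955 (flp_c L124233) q8057, e3 q7956 L163842 q7593, e3 q7957 L123516 q4780, e3 q7958 L123522 q4781, e3 q7959 (flp_c L123524) q4773, e3 q7960 (flp_c L175448) q12228, e3 q7961 (flp_c L172243) q11783, e3 q7962 (flp_c L175454) q12229, e3 q7963 L123542 q4786, e3 q7964 L123550 q4787, e3 q7965 (flp_c L172067) q11759, e3 q7966 L123558 q4777, e3 q7967 L175529 q12235, e3 q7968 (flp_c L175120) q12177, e3 q7969 (flp_c L171522) q11687, e3 q7970 (flp_c L123572)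 q4779, e3 q7971 (flp_c L175585) q12244, e3 q7972 (flp_c L152222) q9008, e3 q7973 (flp_c L175591) q12245, e3 q7974 L175609 q12248, e3 q7975 (flp_c L151820) q7487, e3 q7976 (flp_c L172253) q11784, e3 q7977 L123600 q4783, e3 q7978 L123608 q4785, e3 q7979 (flp_c L144949) q8731, e3 q7980 (flp_c L175629) q12252, e3 q7981 (flp_c L152234) q9010, e3 q7982 (flp_c L175641) q12254, e3 q7983 L175675 q12259, e3 q7984 L175703 q12262, e3 q7985 (flp_c L173779) q12003, e3 q7986 (flp_c L173785) q12004, e3 q7987 (flp_c L173791) q12005, e3 q7988 L175735 q12267, e3 q7989 (flp_c L173815) q12011, e3 q7990 (flp_c L173821) q12012, e3 q7991 (flp_c L173827) q12013, e3 q7992 (flp_c L173835) q12014, e3 q7993 (flp_c L149527) q8342, e3 q7994 (flp_c L123680) q4793, e3 q7995 L151115 q8344, e3 q7996 (flp_c L171766) q11718, e3 q7997 L123774 q5842, e3 q7998 (flp_c L153888) q9230, e3 q7999 L123794 q4799, trivial⟩ (by decide +kernel)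

theorem ce_c_125 : ∀ r, r < 64 → sm gc (Qf (8000 + r)) = Qf (tab Gen.c (8000 + r)) :=
  edges_tab (sm gc) Qf (tab Gen.c) 8000 [(8000, 9485), (8001, 5618), (8002, 8004), (8003, 4804), (8004, 8002), (8005, 7856), (8006, 12279), (8007, 12281), (8008, 4807), (8009, 12283), (8010, 7659), (8011, 7953), (8012, 7954), (8013, 8101), (8014, 7548), (8015, 4818), (8016, 4819), (8017, 4811), (8018, 12287), (8019, 12288), (8020, 11740), (8021, 4824), (8022, 4825), (8023, 11802), (8024, 4815), (8025, 12294), (8026, 11684), (8027, 11979), (8028, 4817), (8029, 12303), (8030, 12304), (8031, 9070), (8032, 7496), (8033, 12307), (8034, 11741), (8035, 4821), (8036, 4822), (8037, 12311), (8038, 8776), (8039, 12313), (8040, 9071), (8041, 12319), (8042, 12321), (8043, 12192), (8044, 12193), (8045, 12194), (8046, 12326), (8047, 12196), (8048, 12197), (8049, 12198), (8050, 12199), (8051, 5730), (8052, 4836), (8053, 8059), (8054, 6699), (8055, 11921), (8056, 8099), (8057, 7955), (8058, 4908), (8059, 8053), (8060, 4843), (8061, 12342), (8062,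 4845), (8063, 4846)]
    ⟨e3 q8000 (flp_c L155766) q9485, e3 q8001 L123836 q5618, e3 q8002 L150610 q8004, e3 q8003 L123882 q4804, e3 q8004 (flp_c L150610) q8002, e3 q8005 L150614 q7856, e3 q8006 L175823 q12279, e3 q8007 L175833 q12281, e3 q8008 (flp_c L123909) q4807, e3 q8009 (flp_c L175851) q12283, e3 q8010 (flp_c L163740) q7659, e3 q8011 L123926 q7953, e3 q8012 L123932 q7954, e3 q8013 (flp_c L124634) q8101, e3 q8014 (flp_c L163870) q7548, e3 q8015 L123954 q4818, e3 q8016 L123985 q4819, e3 q8017 (flp_c L123987) q4811, e3 q8018 (flp_c L175879) q12287, e3 q8019 (flp_c L175885) q12288, e3 q8020 (flp_c L171944) q11740, e3 q8021 L124005 q4824, e3 q8022 L124013 q4825, e3 q8023 (flp_c L172372) q11802, e3 q8024 L124021 q4815, e3 q8025 L175919 q12294, e3 q8026 (flp_c L171506) q11684, e3 q8027 (flp_c L173635) q11979, e3 q8028 (flp_c L124033) q4817, e3 q8029 (flp_c L175979) q12303, e3 q8030 (flp_c L175985) q12304, e3 q8031 (flp_c L152628) q9070, e3 q8032 L124055 q7496, e3 q8033 L176003 q12307, e3 q8034 (flp_c L171954) q11741,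 e3 q8035 L124069 q4821, e3 q8036 L124073 q4822, e3 q8037 (flp_c L176023) q12311, e3 q8038 L151544 q8776, e3 q8039 (flp_c L176035) q12313, e3 q8040 (flp_c L152634) q9071, e3 q8041 L176081 q12319, e3 q8042 L176091 q12321, e3 q8043 (flp_c L175220) q12192, e3 q8044 (flp_c L175226) q12193, e3 q8045 (flp_c L175232) q12194, e3 q8046 L176127 q12326, e3 q8047 (flp_c L175240) q12196, e3 q8048 (flp_c L175246) q12197, e3 q8049 (flp_c L175252) q12198, e3 q8050 (flp_c L175260) q12199, e3 q8051 L124171 q5730, e3 q8052 L124185 q4836, e3 q8053 (flp_c L124253) q8059, e3 q8054 L142804 q6699, e3 q8055 (flp_c L173216) q11921, e3 q8056 L150466 q8099, e3 q8057 L124233 q7955, e3 q8058 L124245 q4908, e3 q8059 L124253 q8053, e3 q8060 L124285 q4843, e3 q8061 L176282 q12342, e3 q8062 L124299 q4845, e3 q8063 L124303 q4846, trivial⟩ (by decide +kernel)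

theorem ce_c_126 : ∀ r, r < 64 → sm gc (Qf (8064 + r)) = Qf (tab Gen.c (8064 + r)) :=
  edges_tab (sm gc) Qf (tab Gen.c) 8064 [(8064, 10633), (8065, 4912), (8066, 5203), (8067, 6775), (8068, 12340), (8069, 12341), (8070, 12350), (8071, 6753), (8072, 6776), (8073, 12345), (8074, 12346), (8075, 4848), (8076, 6457), (8077, 12354), (8078, 4849), (8079, 12358), (8080, 12359), (8081, 12360), (8082, 8084), (8083, 5954), (8084, 8082), (8085, 4854), (8086, 4855), (8087, 4856), (8088, 12372), (8089, 12369), (8090, 12370), (8091, 8125), (8092, 4857), (8093, 12375), (8094, 6426), (8095, 5695), (8096, 4865), (8097, 8103), (8098, 6655), (8099, 8056), (8100, 12127), (8101, 8013), (8102, 4927), (8103, 8097), (8104, 4872), (8105, 12388), (8106, 4874), (8107, 4875), (8108, 10584), (8109, 4891), (8110, 5211), (8111, 6849), (8112, 12386), (8113, 12387), (8114, 12396), (8115, 6850), (8116, 6827), (8117, 12391), (8118, 12392), (8119, 4877), (8120, 12400), (8121, 4878), (8122, 12403), (8123, 12367), (8124, 5959), (8125, 8091), (8126,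 4881), (8127, 4882)]
    ⟨e3 q8064 (flp_c L164506) q10633, e3 q8065 L124323 q4912, e3 q8066 L124347 q5203, e3 q8067 L140974 q6775, e3 q8068 (flp_c L176266) q12340, e3 q8069 (flp_c L176278) q12341, e3 q8070 L176348 q12350, e3 q8071 L133821 q6753, e3 q8072 L140965 q6776, e3 q8073 (flp_c L176302) q12345, e3 q8074 (flp_c L176312) q12346, e3 q8075 (flp_c L124401) q4848, e3 q8076 L163344 q6457, e3 q8077 (flp_c L176390) q12354, e3 q8078 (flp_c L124417) q4849, e3 q8079 (flp_c L176432) q12358, e3 q8080 (flp_c L176438) q12359, e3 q8081 (flp_c L176446) q12360, e3 q8082 L142453 q8084, e3 q8083 L157075 q5954, e3 q8084 (flp_c L142453) q8082, e3 q8085 L124469 q4854, e3 q8086 L124473 q4855, e3 q8087 L124477 q4856, e3 q8088 L176532 q12372, e3 q8089 (flp_c L176514) q12369, e3 q8090 (flp_c L176522) q12370, e3 q8091 L147258 q8125, e3 q8092 (flp_c L124507) q4857, e3 q8093 (flp_c L176562) q12375, e3 q8094 L163151 q6426, e3 q8095 L124588 q5695, e3 q8096 L124602 q4865, e3 q8097 (flp_c L124654) q8103, e3 q8098 L142808 q6655, e3 q8099 (flp_c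 L150466) q8056, e3 q8100 (flp_c L174735) q12127, e3 q8101 L124634 q8013, e3 q8102 L124646 q4927, e3 q8103 L124654 q8097, e3 q8104 L124666 q4872, e3 q8105 L176703 q12388, e3 q8106 L124680 q4874, e3 q8107 L124684 q4875, e3 q8108 (flp_c L164103) q10584, e3 q8109 L124702 q4891, e3 q8110 L124738 q5211, e3 q8111 L137024 q6849, e3 q8112 (flp_c L176687) q12386, e3 q8113 (flp_c L176695) q12387, e3 q8114 L176771 q12396, e3 q8115 L137022 q6850, e3 q8116 L137015 q6827, e3 q8117 (flp_c L176723) q12391, e3 q8118 (flp_c L176733) q12392, e3 q8119 (flp_c L124794) q4877, e3 q8120 (flp_c L176813) q12400, e3 q8121 (flp_c L124810) q4878, e3 q8122 (flp_c L176845) q12403, e3 q8123 (flp_c L176502) q12367, e3 q8124 (flp_c L157079) q5959, e3 q8125 (flp_c L147258) q8091, e3 q8126 L124862 q4881, e3 q8127 L124866 q4882, trivial⟩ (by decide +kernel)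

theorem ce_c_127 : ∀ r, r < 64 → sm gc (Qf (8128 + r)) = Qf (tab Gen.c (8128 + r)) :=
  edges_tab (sm gc) Qf (tab Gen.c) 8128 [(8128, 4883), (8129, 12412), (8130, 12409), (8131, 12410), (8132, 4884), (8133, 4886), (8134, 12413), (8135, 12415), (8136, 4887), (8137, 12418), (8138, 4888), (8139, 10356), (8140, 4890), (8141, 12422), (8142, 10717), (8143, 10353), (8144, 4893), (8145, 12427), (8146, 12429), (8147, 4894), (8148, 12432), (8149, 4895), (8150, 12434), (8151, 12437), (8152, 4896), (8153, 12442), (8154, 4898), (8155, 12444), (8156, 4899), (8157, 12446), (8158, 12445), (8159, 12451), (8160, 4901), (8161, 12453), (8162, 6451), (8163, 12336), (8164, 4903), (8165, 9305), (8166, 4905), (8167, 12460), (8168, 12461), (8169, 6019), (8170, 8200), (8171, 11886), (8172, 12338), (8173, 4909), (8174, 10319), (8175, 4911), (8176, 12467), (8177, 10798), (8178, 10316), (8179, 4914), (8180, 12473), (8181, 4915), (8182, 12474), (8183, 4916), (8184, 12478), (8185, 12480), (8186, 4918), (8187, 12482), (8188, 12481), (8189, 12487),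 (8190, 4920), (8191, 12489)]
    ⟨e3 q8128 L124870 q4883, e3 q8129 L176913 q12412, e3 q8130 (flp_c L176891) q12409, e3 q8131 (flp_c L176899) q12410, e3 q8132 (flp_c L124900) q4884, e3 q8133 (flp_c L125404) q4886, e3 q8134 (flp_c L176923) q12413, e3 q8135 L176939 q12415, e3 q8136 (flp_c L125487) q4887, e3 q8137 L176969 q12418, e3 q8138 (flp_c L125530) q4888, e3 q8139 (flp_c L163691) q10356, e3 q8140 L125548 q4890, e3 q8141 (flp_c L177009) q12422, e3 q8142 (flp_c L165106) q10717, e3 q8143 (flp_c L163564) q10353, e3 q8144 L125586 q4893, e3 q8145 L177045 q12427, e3 q8146 L177063 q12429, e3 q8147 (flp_c L125648) q4894, e3 q8148 L177084 q12432, e3 q8149 (flp_c L125654) q4895, e3 q8150 (flp_c L177104) q12434, e3 q8151 L177130 q12437, e3 q8152 (flp_c L125719) q4896, e3 q8153 L177156 q12442, e3 q8154 (flp_c L125739) q4898, e3 q8155 L177166 q12444, e3 q8156 (flp_c L125820) q4899, e3 q8157 (flp_c L177186) q12446, e3 q8158 (flp_c L177180) q12445, e3 q8159 L177208 q12451, e3 q8160 (flp_c L125842) q4901, e3 q8161 (flp_c L177224)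 q12453, e3 q8162 L163568 q6451, e3 q8163 (flp_c L176213) q12336, e3 q8164 L125860 q4903, e3 q8165 (flp_c L164061) q9305, e3 q8166 L125908 q4905, e3 q8167 (flp_c L177289) q12460, e3 q8168 (flp_c L177303) q12461, e3 q8169 L142770 q6019, e3 q8170 (flp_c L126720) q8200, e3 q8171 (flp_c L172959) q11886, e3 q8172 (flp_c L176241) q12338, e3 q8173 (flp_c L126342) q4909, e3 q8174 (flp_c L163602) q10319, e3 q8175 L126360 q4911, e3 q8176 (flp_c L177346) q12467, e3 q8177 L165738 q10798, e3 q8178 (flp_c L163423) q10316, e3 q8179 L126402 q4914, e3 q8180 L177395 q12473, e3 q8181 (flp_c L126460) q4915, e3 q8182 L177407 q12474, e3 q8183 (flp_c L126541) q4916, e3 q8184 L177431 q12478, e3 q8185 L177441 q12480, e3 q8186 (flp_c L126632) q4918, e3 q8187 (flp_c L177461) q12482, e3 q8188 (flp_c L177455) q12481, e3 q8189 L177483 q12487, e3 q8190 (flp_c L126654) q4920, e3 q8191 (flp_c L177499) q12489, trivial⟩ (by decide +kernel)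

theorem ce_c_128 : ∀ r, r < 64 → sm gc (Qf (8192 + r)) = Qf (tab Gen.c (8192 + r)) :=
  edges_tab (sm gc) Qf (tab Gen.c) 8192 [(8192, 6420), (8193, 12382), (8194, 4922), (8195, 9346), (8196, 4924), (8197, 12494), (8198, 6035), (8199, 12495), (8200, 8170), (8201, 12095), (8202, 12384), (8203, 12499), (8204, 12501), (8205, 4936), (8206, 4937), (8207, 4938), (8208, 12455), (8209, 4939), (8210, 12491), (8211, 6172), (8212, 5029), (8213, 5030), (8214, 6173), (8215, 6174), (8216, 8349), (8217, 8348), (8218, 12510), (8219, 12513), (8220, 9671), (8221, 9672), (8222, 9693), (8223, 9694), (8224, 8621), (8225, 8624), (8226, 6251), (8227, 4951), (8228, 10085), (8229, 12525), (8230, 6264), (8231, 4953), (8232, 10103), (8233, 12529), (8234, 12532), (8235, 12535), (8236, 4957), (8237, 12538), (8238, 12541), (8239, 12544), (8240, 4960), (8241, 12547), (8242, 6252), (8243, 4963), (8244, 10083), (8245, 6263), (8246, 4966), (8247, 10104), (8248, 12556), (8249, 12559), (8250, 12562), (8251, 12565), (8252, 12371), (8253, 12411), (8254,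 10293), (8255, 6057)]
    ⟨e3 q8192 L163427 q6420, e3 q8193 (flp_c L176634) q12382, e3 q8194 L126672 q4922, e3 q8195 (flp_c L154736) q9346, e3 q8196 L126704 q4924, e3 q8197 (flp_c L177550) q12494, e3 q8198 L149212 q6035, e3 q8199 (flp_c L177564) q12495, e3 q8200 L126720 q8170, e3 q8201 (flp_c L174456) q12095, e3 q8202 (flp_c L176662) q12384, e3 q8203 L177591 q12499, e3 q8204 L177606 q12501, e3 q8205 L128601 q4936, e3 q8206 L128615 q4937, e3 q8207 (flp_c L128636) q4938, e3 q8208 (flp_c L177240) q12455, e3 q8209 (flp_c L128648) q4939, e3 q8210 (flp_c L177515) q12491, e3 q8211 (flp_c L128667) q6172, e3 q8212 L128673 q5029, e3 q8213 L128681 q5030, e3 q8214 L128697 q6173, e3 q8215 L128705 q6174, e3 q8216 (flp_c L129862) q8349, e3 q8217 (flp_c L129846) q8348, e3 q8218 L177677 q12510, e3 q8219 L177695 q12513, e3 q8220 (flp_c L157169) q9671, e3 q8221 (flp_c L157175) q9672, e3 q8222 (flp_c L157279) q9693, e3 q8223 (flp_c L157285) q9694, e3 q8224 (flp_c L144289) q8621, e3 q8225 (flp_c L144315) q8624, e3 q8226 (flp_c L128787)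 q6251, e3 q8227 (flp_c L128789) q4951, e3 q8228 (flp_c L159849) q10085, e3 q8229 L177793 q12525, e3 q8230 (flp_c L128819) q6264, e3 q8231 (flp_c L128821) q4953, e3 q8232 (flp_c L159964) q10103, e3 q8233 L177819 q12529, e3 q8234 L177837 q12532, e3 q8235 L177858 q12535, e3 q8236 (flp_c L128853) q4957, e3 q8237 (flp_c L177884) q12538, e3 q8238 L177902 q12541, e3 q8239 L177923 q12544, e3 q8240 (flp_c L128877) q4960, e3 q8241 (flp_c L177949) q12547, e3 q8242 L128891 q6252, e3 q8243 L128903 q4963, e3 q8244 (flp_c L159825) q10083, e3 q8245 L128931 q6263, e3 q8246 L128943 q4966, e3 q8247 (flp_c L159976) q10104, e3 q8248 L178017 q12556, e3 q8249 L178040 q12559, e3 q8250 L178057 q12562, e3 q8251 L178080 q12565, e3 q8252 (flp_c L176528) q12371, e3 q8253 (flp_c L176909) q12411, e3 q8254 L161170 q10293, e3 q8255 L129032 q6057, trivial⟩ (by decide +kernel)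

theorem ce_c_129 : ∀ r, r < 64 → sm gc (Qf (8256 + r)) = Qf (tab Gen.c (8256 + r)) :=
  edges_tab (sm gc) Qf (tab Gen.c) 8256 [(8256, 6049), (8257, 10295), (8258, 6095), (8259, 6087), (8260, 11563), (8261, 11564), (8262, 12571), (8263, 4980), (8264, 5633), (8265, 12572), (8266, 4981), (8267, 9218), (8268, 5708), (8269, 4983), (8270, 9213), (8271, 11615), (8272, 11616), (8273, 12577), (8274, 4985), (8275, 5666), (8276, 12578), (8277, 4986), (8278, 9254), (8279, 5742), (8280, 4988), (8281, 9249), (8282, 7214), (8283, 12582), (8284, 7193), (8285, 12585), (8286, 4991), (8287, 5551), (8288, 10797), (8289, 4992), (8290, 10795), (8291, 7314), (8292, 12589), (8293, 7294), (8294, 12591), (8295, 4995), (8296, 5595), (8297, 10716), (8298, 4996), (8299, 10714), (8300, 7369), (8301, 4997), (8302, 12593), (8303, 7400), (8304, 4998), (8305, 12594), (8306, 10303), (8307, 4999), (8308, 12596), (8309, 9400), (8310, 5001), (8311, 11562), (8312, 10340), (8313, 5002), (8314, 12598), (8315, 9405), (8316, 5004), (8317, 11614), (8318,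 7528), (8319, 7573)]
    ⟨e3 q8256 L129042 q6049, e3 q8257 L161184 q10295, e3 q8258 L149051 q6095, e3 q8259 L149053 q6087, e3 q8260 (flp_c L170746) q11563, e3 q8261 (flp_c L170758) q11564, e3 q8262 L178139 q12571, e3 q8263 (flp_c L129092) q4980, e3 q8264 (flp_c L153028) q5633, e3 q8265 L178149 q12572, e3 q8266 (flp_c L129105) q4981, e3 q8267 (flp_c L153787) q9218, e3 q8268 (flp_c L153044) q5708, e3 q8269 L129125 q4983, e3 q8270 L153753 q9213, e3 q8271 (flp_c L171085) q11615, e3 q8272 (flp_c L171097) q11616, e3 q8273 L178197 q12577, e3 q8274 (flp_c L129158) q4985, e3 q8275 (flp_c L153465) q5666, e3 q8276 L178207 q12578, e3 q8277 (flp_c L129171) q4986, e3 q8278 (flp_c L154055) q9254, e3 q8279 (flp_c L153481) q5742, e3 q8280 L129191 q4988, e3 q8281 L154019 q9249, e3 q8282 L129205 q7214, e3 q8283 L178243 q12582, e3 q8284 L129223 q7193, e3 q8285 L178289 q12585, e3 q8286 (flp_c L129235) q4991, e3 q8287 L153050 q5551, e3 q8288 (flp_c L165722) q10797, e3 q8289 (flp_c L129250) q4992, e3 q8290 (flp_c L165708) q10795, e3 q8291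 L149688 q7314, e3 q8292 L178333 q12589, e3 q8293 L149684 q7294, e3 q8294 L178353 q12591, e3 q8295 (flp_c L129312) q4995, e3 q8296 L153487 q5595, e3 q8297 (flp_c L165092) q10716, e3 q8298 (flp_c L129327) q4996, e3 q8299 (flp_c L165078) q10714, e3 q8300 L129346 q7369, e3 q8301 (flp_c L129348) q4997, e3 q8302 (flp_c L178375) q12593, e3 q8303 (flp_c L151016) q7400, e3 q8304 (flp_c L129373) q4998, e3 q8305 (flp_c L178385) q12594, e3 q8306 (flp_c L161266) q10303, e3 q8307 (flp_c L129392) q4999, e3 q8308 (flp_c L178405) q12596, e3 q8309 (flp_c L155166) q9400, e3 q8310 L129424 q5001, e3 q8311 (flp_c L170734) q11562, e3 q8312 (flp_c L161517) q10340, e3 q8313 (flp_c L129442) q5002, e3 q8314 (flp_c L178427) q12598, e3 q8315 (flp_c L155192) q9405, e3 q8316 L129462 q5004, e3 q8317 (flp_c L171073) q11614, e3 q8318 L129481 q7528, e3 q8319 (flp_c L151146) q7573, trivial⟩ (by decide +kernel)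

theorem ce_c_130 : ∀ r, r < 64 → sm gc (Qf (8320 + r)) = Qf (tab Gen.c (8320 + r)) :=
  edges_tab (sm gc) Qf (tab Gen.c) 8320 [(8320, 7184), (8321, 5007), (8322, 12600), (8323, 7285), (8324, 5008), (8325, 12602), (8326, 5009), (8327, 5018), (8328, 5011), (8329, 5012), (8330, 5024), (8331, 5014), (8332, 10304), (8333, 10301), (8334, 7935), (8335, 5017), (8336, 7937), (8337, 12603), (8338, 5020), (8339, 12610), (8340, 10341), (8341, 10338), (8342, 7993), (8343, 5023), (8344, 7995), (8345, 12604), (8346, 5026), (8347, 12616), (8348, 8217), (8349, 8216), (8350, 7185), (8351, 5031), (8352, 11264), (8353, 10389), (8354, 7287), (8355, 5033), (8356, 11423), (8357, 10423), (8358, 6544), (8359, 5035), (8360, 8789), (8361, 5037), (8362, 12626), (8363, 12628), (8364, 5038), (8365, 12630), (8366, 6584), (8367, 5039), (8368, 8826), (8369, 5041), (8370, 12637), (8371, 12639), (8372, 5042), (8373, 12641), (8374, 7190), (8375, 7186), (8376, 5045), (8377, 7609), (8378, 11262), (8379, 7605), (8380, 7596), (8381, 7291), (8382, 7286),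 (8383, 5049)]
    ⟨e3 q8320 L129510 q7184, e3 q8321 (flp_c L129514) q5007, e3 q8322 (flp_c L178453) q12600, e3 q8323 (flp_c L129535) q7285, e3 q8324 (flp_c L129646) q5008, e3 q8325 (flp_c L178479) q12602, e3 q8326 (flp_c L129661) q5009, e3 q8327 L129682 q5018, e3 q8328 L129686 q5011, e3 q8329 (flp_c L129703) q5012, e3 q8330 L149523 q5024, e3 q8331 L129716 q5014, e3 q8332 (flp_c L161272) q10304, e3 q8333 (flp_c L161246) q10301, e3 q8334 (flp_c L129755) q7935, e3 q8335 L129761 q5017, e3 q8336 L129773 q7937, e3 q8337 (flp_c L178491) q12603, e3 q8338 L129787 q5020, e3 q8339 L178545 q12610, e3 q8340 (flp_c L161523) q10341, e3 q8341 (flp_c L161497) q10338, e3 q8342 L149527 q7993, e3 q8343 L129817 q5023, e3 q8344 (flp_c L151115) q7995, e3 q8345 (flp_c L178501) q12604, e3 q8346 L129838 q5026, e3 q8347 L178591 q12616, e3 q8348 L129846 q8217, e3 q8349 L129862 q8216, e3 q8350 (flp_c L129898) q7185, e3 q8351 (flp_c L129900) q5031, e3 q8352 (flp_c L168865) q11264, e3 q8353 (flp_c L161868) q10389, e3 q8354 (flp_c L129922) q7287,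 e3 q8355 (flp_c L129924) q5033, e3 q8356 (flp_c L169860) q11423, e3 q8357 (flp_c L162102) q10423, e3 q8358 (flp_c L129950) q6544, e3 q8359 (flp_c L129952) q5035, e3 q8360 (flp_c L145306) q8789, e3 q8361 L129970 q5037, e3 q8362 L178663 q12626, e3 q8363 L178673 q12628, e3 q8364 (flp_c L129984) q5038, e3 q8365 (flp_c L178691) q12630, e3 q8366 L149586 q6584, e3 q8367 (flp_c L130000) q5039, e3 q8368 (flp_c L150898) q8826, e3 q8369 L130016 q5041, e3 q8370 L178741 q12637, e3 q8371 L178751 q12639, e3 q8372 (flp_c L130030) q5042, e3 q8373 (flp_c L178769) q12641, e3 q8374 L130050 q7190, e3 q8375 L130056 q7186, e3 q8376 L130066 q5045, e3 q8377 L163479 q7609, e3 q8378 (flp_c L168849) q11262, e3 q8379 L163473 q7605, e3 q8380 L163481 q7596, e3 q8381 L130111 q7291, e3 q8382 L130117 q7286, e3 q8383 L130127 q5049, trivial⟩ (by decide +kernel)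

theorem ce_c_131 : ∀ r, r < 64 → sm gc (Qf (8384 + r)) = Qf (tab Gen.c (8384 + r)) :=
  edges_tab (sm gc) Qf (tab Gen.c) 8384 [(8384, 7564), (8385, 11424), (8386, 7560), (8387, 7551), (8388, 10551), (8389, 9902), (8390, 10187), (8391, 5053), (8392, 12667), (8393, 8790), (8394, 11243), (8395, 8434), (8396, 5057), (8397, 12674), (8398, 5056), (8399, 12676), (8400, 9522), (8401, 12680), (8402, 5058), (8403, 12684), (8404, 12685), (8405, 5060), (8406, 12688), (8407, 10607), (8408, 9920), (8409, 10222), (8410, 5063), (8411, 12696), (8412, 8828), (8413, 11404), (8414, 8429), (8415, 5067), (8416, 12703), (8417, 5066), (8418, 12705), (8419, 9506), (8420, 12709), (8421, 5068), (8422, 12713), (8423, 12714), (8424, 5070), (8425, 12717), (8426, 5324), (8427, 12721), (8428, 8433), (8429, 8414), (8430, 8832), (8431, 5344), (8432, 12728), (8433, 8428), (8434, 8395), (8435, 8795), (8436, 7456), (8437, 5747), (8438, 5748), (8439, 9417), (8440, 9418), (8441, 6701), (8442, 6777), (8443, 6706), (8444, 6782), (8445, 5096), (8446, 6834),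 (8447, 6833)]
    ⟨e3 q8384 L163415 q7564, e3 q8385 (flp_c L169872) q11424, e3 q8386 L163248 q7560, e3 q8387 L163413 q7551, e3 q8388 (flp_c L162963) q10551, e3 q8389 (flp_c L158573) q9902, e3 q8390 L160550 q10187, e3 q8391 L130184 q5053, e3 q8392 L179005 q12667, e3 q8393 (flp_c L145314) q8790, e3 q8394 (flp_c L168720) q11243, e3 q8395 (flp_c L130454) q8434, e3 q8396 L130214 q5057, e3 q8397 L179051 q12674, e3 q8398 (flp_c L130226) q5056, e3 q8399 (flp_c L179067) q12676, e3 q8400 (flp_c L163689) q9522, e3 q8401 L179087 q12680, e3 q8402 (flp_c L130244) q5058, e3 q8403 (flp_c L179123) q12684, e3 q8404 L179129 q12685, e3 q8405 L130264 q5060, e3 q8406 (flp_c L179149) q12688, e3 q8407 (flp_c L164302) q10607, e3 q8408 (flp_c L158708) q9920, e3 q8409 L160746 q10222, e3 q8410 L130304 q5063, e3 q8411 L179201 q12696, e3 q8412 (flp_c L150978) q8828, e3 q8413 (flp_c L169731) q11404, e3 q8414 (flp_c L130418) q8429, e3 q8415 L130334 q5067, e3 q8416 L179247 q12703, e3 q8417 (flp_c L130346) q5066, e3 q8418 (flp_c L179263) q12705,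 e3 q8419 L163606 q9506, e3 q8420 L179285 q12709, e3 q8421 (flp_c L130364) q5068, e3 q8422 (flp_c L179321) q12713, e3 q8423 L179327 q12714, e3 q8424 L130386 q5070, e3 q8425 (flp_c L179347) q12717, e3 q8426 L130402 q5324, e3 q8427 L179373 q12721, e3 q8428 (flp_c L130448) q8433, e3 q8429 L130418 q8414, e3 q8430 (flp_c L145572) q8832, e3 q8431 L130434 q5344, e3 q8432 L179423 q12728, e3 q8433 L130448 q8428, e3 q8434 L130454 q8395, e3 q8435 (flp_c L145350) q8795, e3 q8436 (flp_c L130543) q7456, e3 q8437 L130602 q5747, e3 q8438 L130610 q5748, e3 q8439 (flp_c L155294) q9417, e3 q8440 (flp_c L155304) q9418, e3 q8441 L130632 q6701, e3 q8442 L148603 q6777, e3 q8443 L142821 q6706, e3 q8444 L148554 q6782, e3 q8445 L142855 q5096, e3 q8446 L149017 q6834, e3 q8447 L149015 q6833, trivial⟩ (by decide +kernel)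

theorem ce_c_132 : ∀ r, r < 64 → sm gc (Qf (8448 + r)) = Qf (tab Gen.c (8448 + r)) :=
  edges_tab (sm gc) Qf (tab Gen.c) 8448 [(8448, 5100), (8449, 6760), (8450, 6759), (8451, 6538), (8452, 6546), (8453, 12734), (8454, 12736), (8455, 5105), (8456, 12738), (8457, 5106), (8458, 12739), (8459, 9286), (8460, 5108), (8461, 12741), (8462, 6578), (8463, 6587), (8464, 12743), (8465, 12745), (8466, 5112), (8467, 12747), (8468, 5113), (8469, 12748), (8470, 9333), (8471, 5115), (8472, 12750), (8473, 6710), (8474, 10367), (8475, 10361), (8476, 6788), (8477, 10332), (8478, 10324), (8479, 9205), (8480, 10370), (8481, 5126), (8482, 9662), (8483, 12752), (8484, 12188), (8485, 5130), (8486, 12754), (8487, 9241), (8488, 10335), (8489, 5133), (8490, 9669), (8491, 12756), (8492, 11998), (8493, 5137), (8494, 12758), (8495, 8893), (8496, 9904), (8497, 9553), (8498, 6046), (8499, 8959), (8500, 5142), (8501, 12576), (8502, 9555), (8503, 11775), (8504, 8569), (8505, 8570), (8506, 10080), (8507, 5147), (8508, 7691), (8509, 5149), (8510,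 12770), (8511, 12771)]
    ⟨e3 q8448 L142887 q5100, e3 q8449 (flp_c L142899) q6760, e3 q8450 L142903 q6759, e3 q8451 L142911 q6538, e3 q8452 L142921 q6546, e3 q8453 L179467 q12734, e3 q8454 L179481 q12736, e3 q8455 (flp_c L142931) q5105, e3 q8456 (flp_c L179499) q12738, e3 q8457 (flp_c L142939) q5106, e3 q8458 (flp_c L179507) q12739, e3 q8459 (flp_c L154252) q9286, e3 q8460 L142955 q5108, e3 q8461 (flp_c L179527) q12741, e3 q8462 L149584 q6578, e3 q8463 L149588 q6587, e3 q8464 L179535 q12743, e3 q8465 L179549 q12745, e3 q8466 (flp_c L143005) q5112, e3 q8467 (flp_c L179567) q12747, e3 q8468 (flp_c L143013) q5113, e3 q8469 (flp_c L179575) q12748, e3 q8470 (flp_c L154634) q9333, e3 q8471 L143031 q5115, e3 q8472 (flp_c L179595) q12750, e3 q8473 L143045 q6710, e3 q8474 (flp_c L163477) q10367, e3 q8475 (flp_c L163471) q10361, e3 q8476 (flp_c L146452) q6788, e3 q8477 (flp_c L163411) q10332, e3 q8478 (flp_c L163250) q10324, e3 q8479 L154260 q9205, e3 q8480 (flp_c L163467) q10370, e3 q8481 (flp_c L143153) q5126, e3 q8482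 (flp_c L162895) q9662, e3 q8483 L179603 q12752, e3 q8484 L175198 q12188, e3 q8485 L143181 q5130, e3 q8486 (flp_c L179621) q12754, e3 q8487 L154464 q9241, e3 q8488 L163260 q10335, e3 q8489 (flp_c L143237) q5133, e3 q8490 L162901 q9669, e3 q8491 L179631 q12756, e3 q8492 L173749 q11998, e3 q8493 L143285 q5137, e3 q8494 (flp_c L179649) q12758, e3 q8495 (flp_c L146062) q8893, e3 q8496 (flp_c L158593) q9904, e3 q8497 (flp_c L156286) q9553, e3 q8498 L143315 q6046, e3 q8499 L151924 q8959, e3 q8500 (flp_c L143325) q5142, e3 q8501 L178195 q12576, e3 q8502 (flp_c L156302) q9555, e3 q8503 (flp_c L172182) q11775, e3 q8504 (flp_c L143861) q8569, e3 q8505 (flp_c L143869) q8570, e3 q8506 L163459 q10080, e3 q8507 (flp_c L143357) q5147, e3 q8508 (flp_c L151327) q7691, e3 q8509 L143369 q5149, e3 q8510 L179753 q12770, e3 q8511 L179761 q12771, trivial⟩ (by decide +kernel)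

theorem ce_c_133 : ∀ r, r < 64 → sm gc (Qf (8512 + r)) = Qf (tab Gen.c (8512 + r)) :=
  edges_tab (sm gc) Qf (tab Gen.c) 8512 [(8512, 5150), (8513, 12773), (8514, 12774), (8515, 5151), (8516, 12776), (8517, 12777), (8518, 5153), (8519, 5154), (8520, 12778), (8521, 12779), (8522, 5156), (8523, 12782), (8524, 8899), (8525, 9921), (8526, 9591), (8527, 6083), (8528, 9025), (8529, 5161), (8530, 12570), (8531, 9595), (8532, 11732), (8533, 8560), (8534, 8561), (8535, 10046), (8536, 5166), (8537, 7855), (8538, 5168), (8539, 12795), (8540, 12796), (8541, 5169), (8542, 12798), (8543, 12799), (8544, 5170), (8545, 12801), (8546, 12802), (8547, 5172), (8548, 5173), (8549, 12803), (8550, 12804), (8551, 5175), (8552, 12807), (8553, 6970), (8554, 5616), (8555, 5619), (8556, 5182), (8557, 11472), (8558, 12070), (8559, 5463), (8560, 8533), (8561, 8534), (8562, 6981), (8563, 5650), (8564, 5653), (8565, 5193), (8566, 11314), (8567, 11858), (8568, 5504), (8569, 8504), (8570, 8505), (8571, 9907), (8572, 5532), (8573, 6608), (8574, 9912),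 (8575, 6147)]
    ⟨e3 q8512 (flp_c L143377) q5150, e3 q8513 (flp_c L179777) q12773, e3 q8514 L179779 q12774, e3 q8515 (flp_c L143385) q5151, e3 q8516 (flp_c L179799) q12776, e3 q8517 (flp_c L179807) q12777, e3 q8518 L143405 q5153, e3 q8519 (flp_c L143459) q5154, e3 q8520 (flp_c L179819) q12778, e3 q8521 (flp_c L179827) q12779, e3 q8522 L143475 q5156, e3 q8523 L179849 q12782, e3 q8524 (flp_c L146070) q8899, e3 q8525 (flp_c L158720) q9921, e3 q8526 (flp_c L156533) q9591, e3 q8527 (flp_c L149285) q6083, e3 q8528 (flp_c L152356) q9025, e3 q8529 (flp_c L143543) q5161, e3 q8530 L178137 q12570, e3 q8531 (flp_c L156563) q9595, e3 q8532 (flp_c L171888) q11732, e3 q8533 (flp_c L143751) q8560, e3 q8534 (flp_c L143759) q8561, e3 q8535 (flp_c L163262) q10046, e3 q8536 (flp_c L143595) q5166, e3 q8537 (flp_c L143613) q7855, e3 q8538 L143617 q5168, e3 q8539 L179971 q12795, e3 q8540 L179979 q12796, e3 q8541 (flp_c L143625) q5169, e3 q8542 (flp_c L179995) q12798, e3 q8543 L179997 q12799, e3 q8544 (flp_c L143635) q5170, e3 q8545 (flp_c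 L180017) q12801, e3 q8546 (flp_c L180025) q12802, e3 q8547 L143655 q5172, e3 q8548 (flp_c L143667) q5173, e3 q8549 (flp_c L180037) q12803, e3 q8550 (flp_c L180045) q12804, e3 q8551 L143693 q5175, e3 q8552 L180067 q12807, e3 q8553 L161248 q6970, e3 q8554 L143713 q5616, e3 q8555 L143723 q5619, e3 q8556 L143731 q5182, e3 q8557 (flp_c L170174) q11472, e3 q8558 (flp_c L174256) q12070, e3 q8559 (flp_c L146078) q5463, e3 q8560 L143751 q8533, e3 q8561 L143759 q8534, e3 q8562 L161499 q6981, e3 q8563 L143811 q5650, e3 q8564 L143821 q5653, e3 q8565 L143829 q5193, e3 q8566 (flp_c L169173) q11314, e3 q8567 L172751 q11858, e3 q8568 L146086 q5504, e3 q8569 L143861 q8504, e3 q8570 L143869 q8505, e3 q8571 (flp_c L158609) q9907, e3 q8572 L143883 q5532, e3 q8573 (flp_c L143897) q6608, e3 q8574 (flp_c L158644) q9912, e3 q8575 L149223 q6147, trivial⟩ (by decide +kernel)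

theorem ce_c_134 : ∀ r, r < 64 → sm gc (Qf (8576 + r)) = Qf (tab Gen.c (8576 + r)) :=
  edges_tab (sm gc) Qf (tab Gen.c) 8576 [(8576, 6144), (8577, 5631), (8578, 6146), (8579, 5977), (8580, 9924), (8581, 5576), (8582, 6572), (8583, 9929), (8584, 6159), (8585, 6157), (8586, 5664), (8587, 6160), (8588, 5962), (8589, 6935), (8590, 6936), (8591, 10549), (8592, 10605), (8593, 12824), (8594, 6940), (8595, 12828), (8596, 6942), (8597, 6012), (8598, 5219), (8599, 12831), (8600, 12834), (8601, 6028), (8602, 5221), (8603, 12836), (8604, 12839), (8605, 12842), (8606, 5223), (8607, 12845), (8608, 12848), (8609, 5224), (8610, 12851), (8611, 12854), (8612, 5225), (8613, 12857), (8614, 5227), (8615, 9732), (8616, 12860), (8617, 5228), (8618, 12863), (8619, 5230), (8620, 9752), (8621, 8224), (8622, 5231), (8623, 11184), (8624, 8225), (8625, 5232), (8626, 11114), (8627, 12868), (8628, 12871), (8629, 12874), (8630, 5236), (8631, 12877), (8632, 12880), (8633, 12883), (8634, 12886), (8635, 5240), (8636, 12889), (8637, 8639), (8638,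 5241), (8639, 8637)]
    ⟨e3 q8576 L143913 q6144, e3 q8577 L143919 q5631, e3 q8578 L143923 q6146, e3 q8579 (flp_c L148052) q5977, e3 q8580 (flp_c L158736) q9924, e3 q8581 L144033 q5576, e3 q8582 L151004 q6572, e3 q8583 (flp_c L158771) q9929, e3 q8584 L149231 q6159, e3 q8585 L144051 q6157, e3 q8586 L144061 q5664, e3 q8587 L144075 q6160, e3 q8588 (flp_c L144087) q5962, e3 q8589 L144093 q6935, e3 q8590 L144101 q6936, e3 q8591 (flp_c L162945) q10549, e3 q8592 (flp_c L164284) q10605, e3 q8593 L180223 q12824, e3 q8594 L144121 q6940, e3 q8595 L180245 q12828, e3 q8596 L144137 q6942, e3 q8597 (flp_c L144149) q6012, e3 q8598 (flp_c L144155) q5219, e3 q8599 (flp_c L180263) q12831, e3 q8600 L180287 q12834, e3 q8601 (flp_c L149539) q6028, e3 q8602 (flp_c L144177) q5221, e3 q8603 (flp_c L180315) q12836, e3 q8604 L180339 q12839, e3 q8605 L180369 q12842, e3 q8606 (flp_c L144195) q5223, e3 q8607 (flp_c L180387) q12845, e3 q8608 L180401 q12848, e3 q8609 (flp_c L144207) q5224, e3 q8610 (flp_c L180419) q12851, e3 q8611 L180441 q12854,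 e3 q8612 (flp_c L144219) q5225, e3 q8613 (flp_c L180465) q12857, e3 q8614 L144237 q5227, e3 q8615 (flp_c L157561) q9732, e3 q8616 L180493 q12860, e3 q8617 (flp_c L144253) q5228, e3 q8618 (flp_c L180517) q12863, e3 q8619 L144271 q5230, e3 q8620 (flp_c L157693) q9752, e3 q8621 L144289 q8224, e3 q8622 (flp_c L144291) q5231, e3 q8623 L168356 q11184, e3 q8624 L144315 q8225, e3 q8625 (flp_c L144317) q5232, e3 q8626 (flp_c L167922) q11114, e3 q8627 L180567 q12868, e3 q8628 L180583 q12871, e3 q8629 L180595 q12874, e3 q8630 (flp_c L144347) q5236, e3 q8631 (flp_c L180619) q12877, e3 q8632 L180635 q12880, e3 q8633 L180651 q12883, e3 q8634 L180663 q12886, e3 q8635 (flp_c L144369) q5240, e3 q8636 (flp_c L180687) q12889, e3 q8637 (flp_c L144391) q8639, e3 q8638 (flp_c L144381) q5241, e3 q8639 L144391 q8637, trivial⟩ (by decide +kernel)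

theorem ce_c_135 : ∀ r, r < 64 → sm gc (Qf (8640 + r)) = Qf (tab Gen.c (8640 + r)) :=
  edges_tab (sm gc) Qf (tab Gen.c) 8640 [(8640, 12892), (8641, 10122), (8642, 5358), (8643, 11247), (8644, 12896), (8645, 10745), (8646, 5245), (8647, 10771), (8648, 12900), (8649, 5246), (8650, 12903), (8651, 5248), (8652, 6826), (8653, 8656), (8654, 5249), (8655, 12907), (8656, 8653), (8657, 10156), (8658, 5368), (8659, 11410), (8660, 12911), (8661, 10663), (8662, 5253), (8663, 10687), (8664, 12915), (8665, 5254), (8666, 12918), (8667, 5256), (8668, 6752), (8669, 7003), (8670, 7092), (8671, 12924), (8672, 12926), (8673, 7156), (8674, 5260), (8675, 11221), (8676, 12930), (8677, 7157), (8678, 7155), (8679, 5264), (8680, 10926), (8681, 7019), (8682, 7131), (8683, 12940), (8684, 12942), (8685, 7115), (8686, 5268), (8687, 11153), (8688, 12946), (8689, 7117), (8690, 7116), (8691, 5272), (8692, 10936), (8693, 5273), (8694, 12954), (8695, 12955), (8696, 5277), (8697, 12960), (8698, 5275), (8699, 5276), (8700, 12964), (8701, 12968),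 (8702, 12966), (8703, 10125)]
    ⟨e3 q8640 (flp_c L180709) q12892, e3 q8641 (flp_c L160098) q10122, e3 q8642 L144409 q5358, e3 q8643 (flp_c L168752) q11247, e3 q8644 L180731 q12896, e3 q8645 (flp_c L165324) q10745, e3 q8646 (flp_c L144429) q5245, e3 q8647 (flp_c L165550) q10771, e3 q8648 L180755 q12900, e3 q8649 (flp_c L144443) q5246, e3 q8650 (flp_c L180777) q12903, e3 q8651 L144461 q5248, e3 q8652 L153026 q6826, e3 q8653 (flp_c L150805) q8656, e3 q8654 (flp_c L144477) q5249, e3 q8655 (flp_c L180817) q12907, e3 q8656 L150805 q8653, e3 q8657 (flp_c L160336) q10156, e3 q8658 L150906 q5368, e3 q8659 (flp_c L169777) q11410, e3 q8660 L180839 q12911, e3 q8661 (flp_c L164729) q10663, e3 q8662 (flp_c L144521) q5253, e3 q8663 (flp_c L164929) q10687, e3 q8664 L180865 q12915, e3 q8665 (flp_c L144535) q5254, e3 q8666 (flp_c L180887) q12918, e3 q8667 L144553 q5256, e3 q8668 L153463 q6752, e3 q8669 L144567 q7003, e3 q8670 L144579 q7092, e3 q8671 L180937 q12924, e3 q8672 (flp_c L180957) q12926, e3 q8673 (flp_c L156863) q7156,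 e3 q8674 (flp_c L144597) q5260, e3 q8675 (flp_c L168580) q11221, e3 q8676 L180975 q12930, e3 q8677 (flp_c L156865) q7157, e3 q8678 (flp_c L156861) q7155, e3 q8679 L144629 q5264, e3 q8680 L166720 q10926, e3 q8681 (flp_c L149739) q7019, e3 q8682 L144647 q7131, e3 q8683 L181033 q12940, e3 q8684 (flp_c L181053) q12942, e3 q8685 (flp_c L156836) q7115, e3 q8686 (flp_c L144673) q5268, e3 q8687 (flp_c L168188) q11153, e3 q8688 L181075 q12946, e3 q8689 (flp_c L156840) q7117, e3 q8690 (flp_c L156838) q7116, e3 q8691 L144717 q5272, e3 q8692 L166782 q10936, e3 q8693 (flp_c L144731) q5273, e3 q8694 (flp_c L181133) q12954, e3 q8695 (flp_c L181143) q12955, e3 q8696 L144757 q5277, e3 q8697 L181179 q12960, e3 q8698 L144765 q5275, e3 q8699 L144771 q5276, e3 q8700 (flp_c L181195) q12964, e3 q8701 L181227 q12968, e3 q8702 (flp_c L181209) q12966, e3 q8703 (flp_c L160126) q10125, trivial⟩ (by decide +kernel)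

theorem ce_c_136 : ∀ r, r < 64 → sm gc (Qf (8704 + r)) = Qf (tab Gen.c (8704 + r)) :=
  edges_tab (sm gc) Qf (tab Gen.c) 8704 [(8704, 12958), (8705, 12959), (8706, 10121), (8707, 10123), (8708, 12980), (8709, 12983), (8710, 5280), (8711, 12986), (8712, 11246), (8713, 12990), (8714, 11249), (8715, 12994), (8716, 5283), (8717, 12996), (8718, 12999), (8719, 13002), (8720, 5285), (8721, 11521), (8722, 5287), (8723, 13011), (8724, 13013), (8725, 5288), (8726, 13016), (8727, 12723), (8728, 5289), (8729, 6553), (8730, 13020), (8731, 7979), (8732, 11512), (8733, 5291), (8734, 10569), (8735, 11519), (8736, 11520), (8737, 9180), (8738, 5295), (8739, 13030), (8740, 13031), (8741, 5299), (8742, 13036), (8743, 5297), (8744, 5298), (8745, 13044), (8746, 13041), (8747, 13042), (8748, 10158), (8749, 13034), (8750, 13035), (8751, 10154), (8752, 10155), (8753, 13055), (8754, 13058), (8755, 5302), (8756, 13060), (8757, 11407), (8758, 13064), (8759, 11409), (8760, 13068), (8761, 5305), (8762, 13070), (8763, 13073), (8764, 13076),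 (8765, 5307), (8766, 11361), (8767, 5309)]
    ⟨e3 q8704 (flp_c L181167) q12958, e3 q8705 (flp_c L181175) q12959, e3 q8706 (flp_c L160088) q10121, e3 q8707 (flp_c L160108) q10123, e3 q8708 L181303 q12980, e3 q8709 L181323 q12983, e3 q8710 (flp_c L144829) q5280, e3 q8711 (flp_c L181347) q12986, e3 q8712 (flp_c L168744) q11246, e3 q8713 L181375 q12990, e3 q8714 (flp_c L168768) q11249, e3 q8715 L181395 q12994, e3 q8716 (flp_c L144865) q5283, e3 q8717 (flp_c L181413) q12996, e3 q8718 L181427 q12999, e3 q8719 L181445 q13002, e3 q8720 (flp_c L144885) q5285, e3 q8721 (flp_c L170492) q11521, e3 q8722 L144899 q5287, e3 q8723 L181511 q13011, e3 q8724 L181527 q13013, e3 q8725 (flp_c L144913) q5288, e3 q8726 (flp_c L181547) q13016, e3 q8727 L179389 q12723, e3 q8728 (flp_c L144927) q5289, e3 q8729 L144937 q6553, e3 q8730 (flp_c L181579) q13020, e3 q8731 L144949 q7979, e3 q8732 L170420 q11512, e3 q8733 L144961 q5291, e3 q8734 (flp_c L163111) q10569, e3 q8735 (flp_c L170474) q11519, e3 q8736 (flp_c L170482) q11520, e3 q8737 (flp_c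 L153392) q9180, e3 q8738 (flp_c L145000) q5295, e3 q8739 (flp_c L181655) q13030, e3 q8740 (flp_c L181665) q13031, e3 q8741 L145024 q5299, e3 q8742 L181701 q13036, e3 q8743 L145032 q5297, e3 q8744 L145038 q5298, e3 q8745 L181749 q13044, e3 q8746 (flp_c L181721) q13041, e3 q8747 (flp_c L181731) q13042, e3 q8748 (flp_c L160356) q10158, e3 q8749 (flp_c L181689) q13034, e3 q8750 (flp_c L181697) q13035, e3 q8751 (flp_c L160318) q10154, e3 q8752 (flp_c L160328) q10155, e3 q8753 L181821 q13055, e3 q8754 L181841 q13058, e3 q8755 (flp_c L145096) q5302, e3 q8756 (flp_c L181855) q13060, e3 q8757 (flp_c L169755) q11407, e3 q8758 L181883 q13064, e3 q8759 (flp_c L169767) q11409, e3 q8760 L181903 q13068, e3 q8761 (flp_c L145132) q5305, e3 q8762 (flp_c L181921) q13070, e3 q8763 L181935 q13073, e3 q8764 L181953 q13076, e3 q8765 (flp_c L145152) q5307, e3 q8766 (flp_c L169475) q11361, e3 q8767 L145166 q5309, trivial⟩ (by decide +kernel)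

theorem ce_c_137 : ∀ r, r < 64 → sm gc (Qf (8768 + r)) = Qf (tab Gen.c (8768 + r)) :=
  edges_tab (sm gc) Qf (tab Gen.c) 8768 [(8768, 13082), (8769, 13084), (8770, 5310), (8771, 13087), (8772, 12730), (8773, 5311), (8774, 13091), (8775, 6592), (8776, 8038), (8777, 11353), (8778, 5313), (8779, 10620), (8780, 11360), (8781, 11362), (8782, 9126), (8783, 5321), (8784, 5322), (8785, 10257), (8786, 11028), (8787, 11029), (8788, 5320), (8789, 8360), (8790, 8393), (8791, 13105), (8792, 13099), (8793, 13100), (8794, 13112), (8795, 8435), (8796, 13116), (8797, 5325), (8798, 13119), (8799, 13123), (8800, 6606), (8801, 5327), (8802, 13126), (8803, 13128), (8804, 5329), (8805, 8852), (8806, 13132), (8807, 8850), (8808, 8853), (8809, 8846), (8810, 8864), (8811, 5332), (8812, 13143), (8813, 8844), (8814, 13148), (8815, 8845), (8816, 8842), (8817, 8870), (8818, 11516), (8819, 5336), (8820, 5341), (8821, 5342), (8822, 10275), (8823, 11066), (8824, 11067), (8825, 5340), (8826, 8368), (8827, 13164), (8828, 8412), (8829, 13158), (8830,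 13159), (8831, 13171)]
    ⟨e3 q8768 L181991 q13082, e3 q8769 L182007 q13084, e3 q8770 (flp_c L145180) q5310, e3 q8771 (flp_c L182027) q13087, e3 q8772 (flp_c L179437) q12730, e3 q8773 (flp_c L145196) q5311, e3 q8774 (flp_c L182061) q13091, e3 q8775 (flp_c L151362) q6592, e3 q8776 (flp_c L151544) q8038, e3 q8777 L169419 q11353, e3 q8778 L145220 q5313, e3 q8779 (flp_c L164416) q10620, e3 q8780 (flp_c L169469) q11360, e3 q8781 (flp_c L169481) q11362, e3 q8782 (flp_c L152955) q9126, e3 q8783 L145261 q5321, e3 q8784 L145268 q5322, e3 q8785 L160942 q10257, e3 q8786 (flp_c L167369) q11028, e3 q8787 (flp_c L167381) q11029, e3 q8788 (flp_c L145292) q5320, e3 q8789 L145306 q8360, e3 q8790 L145314 q8393, e3 q8791 (flp_c L182183) q13105, e3 q8792 (flp_c L182123) q13099, e3 q8793 (flp_c L182135) q13100, e3 q8794 L182233 q13112, e3 q8795 L145350 q8435, e3 q8796 L182261 q13116, e3 q8797 (flp_c L145362) q5325, e3 q8798 (flp_c L182277) q13119, e3 q8799 L182297 q13123, e3 q8800 (flp_c L149782) q6606, e3 q8801 (flp_c L145380) q5327,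 e3 q8802 (flp_c L182317) q13126, e3 q8803 L182329 q13128, e3 q8804 L145400 q5329, e3 q8805 (flp_c L145688) q8852, e3 q8806 (flp_c L182351) q13132, e3 q8807 (flp_c L145678) q8850, e3 q8808 (flp_c L145694) q8853, e3 q8809 (flp_c L145656) q8846, e3 q8810 L145774 q8864, e3 q8811 (flp_c L145440) q5332, e3 q8812 (flp_c L182415) q13143, e3 q8813 (flp_c L145640) q8844, e3 q8814 L182441 q13148, e3 q8815 (flp_c L145646) q8845, e3 q8816 L145628 q8842, e3 q8817 (flp_c L145798) q8870, e3 q8818 (flp_c L170456) q11516, e3 q8819 L145478 q5336, e3 q8820 L145493 q5341, e3 q8821 L145501 q5342, e3 q8822 L161056 q10275, e3 q8823 (flp_c L167609) q11066, e3 q8824 (flp_c L167619) q11067, e3 q8825 (flp_c L145532) q5340, e3 q8826 L150898 q8368, e3 q8827 (flp_c L182545) q13164, e3 q8828 L150978 q8412, e3 q8829 (flp_c L182485) q13158, e3 q8830 (flp_c L182497) q13159, e3 q8831 L182595 q13171, trivial⟩ (by decide +kernel)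

theorem ce_c_138 : ∀ r, r < 64 → sm gc (Qf (8832 + r)) = Qf (tab Gen.c (8832 + r)) :=
  edges_tab (sm gc) Qf (tab Gen.c) 8832 [(8832, 8430), (8833, 13175), (8834, 5345), (8835, 13178), (8836, 13182), (8837, 6567), (8838, 5347), (8839, 13185), (8840, 13187), (8841, 5349), (8842, 8816), (8843, 13191), (8844, 8813), (8845, 8815), (8846, 8809), (8847, 8878), (8848, 5352), (8849, 13202), (8850, 8807), (8851, 13207), (8852, 8805), (8853, 8808), (8854, 8883), (8855, 11357), (8856, 5356), (8857, 9558), (8858, 8858), (8859, 12893), (8860, 8860), (8861, 13221), (8862, 5362), (8863, 8879), (8864, 8810), (8865, 8877), (8866, 8866), (8867, 13233), (8868, 8868), (8869, 8869), (8870, 8817), (8871, 9596), (8872, 8872), (8873, 12908), (8874, 8874), (8875, 13241), (8876, 5372), (8877, 8865), (8878, 8847), (8879, 8863), (8880, 8880), (8881, 13252), (8882, 8882), (8883, 8854), (8884, 6716), (8885, 10555), (8886, 6792), (8887, 10553), (8888, 7370), (8889, 5381), (8890, 6676), (8891, 10621), (8892, 5382), (8893, 8495), (8894, 7401),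 (8895, 5385)]
    ⟨e3 q8832 L145572 q8430, e3 q8833 L182623 q13175, e3 q8834 (flp_c L145584) q5345, e3 q8835 (flp_c L182639) q13178, e3 q8836 L182659 q13182, e3 q8837 (flp_c L151447) q6567, e3 q8838 (flp_c L145598) q5347, e3 q8839 (flp_c L182679) q13185, e3 q8840 L182691 q13187, e3 q8841 L145618 q5349, e3 q8842 (flp_c L145628) q8816, e3 q8843 (flp_c L182715) q13191, e3 q8844 L145640 q8813, e3 q8845 L145646 q8815, e3 q8846 L145656 q8809, e3 q8847 L145896 q8878, e3 q8848 (flp_c L145666) q5352, e3 q8849 (flp_c L182797) q13202, e3 q8850 L145678 q8807, e3 q8851 L182827 q13207, e3 q8852 L145688 q8805, e3 q8853 L145694 q8808, e3 q8854 (flp_c L145922) q8883, e3 q8855 (flp_c L169453) q11357, e3 q8856 L145710 q5356, e3 q8857 L156336 q9558, e3 q8858 L145725 q8858, e3 q8859 (flp_c L180717) q12893, e3 q8860 L145738 q8860, e3 q8861 L182907 q13221, e3 q8862 (flp_c L145750) q5362, e3 q8863 (flp_c L145902) q8879, e3 q8864 (flp_c L145774) q8810, e3 q8865 (flp_c L145886) q8877, e3 q8866 L145782 q8866, e3 q8867 L182983 q13233, e3 q8868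 L145789 q8868, e3 q8869 L145793 q8869, e3 q8870 L145798 q8817, e3 q8871 L156583 q9596, e3 q8872 L145813 q8872, e3 q8873 (flp_c L180825) q12908, e3 q8874 L145845 q8874, e3 q8875 L183046 q13241, e3 q8876 (flp_c L145870) q5372, e3 q8877 L145886 q8865, e3 q8878 (flp_c L145896) q8847, e3 q8879 L145902 q8863, e3 q8880 L145906 q8880, e3 q8881 L183138 q13252, e3 q8882 L145913 q8882, e3 q8883 L145922 q8854, e3 q8884 L145927 q6716, e3 q8885 (flp_c L162995) q10555, e3 q8886 (flp_c L146182) q6792, e3 q8887 (flp_c L162979) q10553, e3 q8888 L145949 q7370, e3 q8889 L145959 q5381, e3 q8890 L149570 q6676, e3 q8891 (flp_c L164426) q10621, e3 q8892 (flp_c L145971) q5382, e3 q8893 L146062 q8495, e3 q8894 (flp_c L150744) q7401, e3 q8895 L145991 q5385, trivial⟩ (by decide +kernel)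

theorem ce_c_139 : ∀ r, r < 64 → sm gc (Qf (8896 + r)) = Qf (tab Gen.c (8896 + r)) :=
  edges_tab (sm gc) Qf (tab Gen.c) 8896 [(8896, 6629), (8897, 10570), (8898, 5386), (8899, 8524), (8900, 7447), (8901, 5387), (8902, 11813), (8903, 13255), (8904, 5389), (8905, 6585), (8906, 8944), (8907, 7450), (8908, 5392), (8909, 13256), (8910, 12030), (8911, 5394), (8912, 6547), (8913, 8928), (8914, 8916), (8915, 5400), (8916, 8914), (8917, 8979), (8918, 13258), (8919, 13259), (8920, 5403), (8921, 13261), (8922, 13263), (8923, 13264), (8924, 5407), (8925, 13266), (8926, 13265), (8927, 5409), (8928, 8913), (8929, 6845), (8930, 8932), (8931, 5415), (8932, 8930), (8933, 9044), (8934, 13271), (8935, 13272), (8936, 5419), (8937, 13274), (8938, 13276), (8939, 13277), (8940, 5423), (8941, 13279), (8942, 13278), (8943, 5425), (8944, 8906), (8945, 6771), (8946, 7471), (8947, 5430), (8948, 5431), (8949, 6623), (8950, 11872), (8951, 5440), (8952, 5441), (8953, 9352), (8954, 7472), (8955, 5436), (8956, 13286), (8957, 5438), (8958, 11463),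 (8959, 8499)]
    ⟨e3 q8896 (flp_c L145999) q6629, e3 q8897 (flp_c L163121) q10570, e3 q8898 (flp_c L146050) q5386, e3 q8899 L146070 q8524, e3 q8900 (flp_c L146100) q7447, e3 q8901 (flp_c L146104) q5387, e3 q8902 L172446 q11813, e3 q8903 (flp_c L183171) q13255, e3 q8904 L146124 q5389, e3 q8905 (flp_c L150766) q6585, e3 q8906 (flp_c L151790) q8944, e3 q8907 (flp_c L150807) q7450, e3 q8908 (flp_c L146146) q5392, e3 q8909 (flp_c L183179) q13256, e3 q8910 L173939 q12030, e3 q8911 L146162 q5394, e3 q8912 L151572 q6547, e3 q8913 (flp_c L151680) q8928, e3 q8914 (flp_c L151608) q8916, e3 q8915 L151600 q5400, e3 q8916 L151608 q8914, e3 q8917 (flp_c L152028) q8979, e3 q8918 L183191 q13258, e3 q8919 L183201 q13259, e3 q8920 (flp_c L151622) q5403, e3 q8921 (flp_c L183223) q13261, e3 q8922 L183235 q13263, e3 q8923 L183239 q13264, e3 q8924 (flp_c L151648) q5407, e3 q8925 (flp_c L183261) q13266, e3 q8926 (flp_c L183253) q13265, e3 q8927 L151666 q5409, e3 q8928 L151680 q8913, e3 q8929 L152965 q6845, e3 q8930 (flp_c L151716) q8932,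 e3 q8931 L151708 q5415, e3 q8932 L151716 q8930, e3 q8933 (flp_c L152466) q9044, e3 q8934 L183285 q13271, e3 q8935 L183293 q13272, e3 q8936 (flp_c L151730) q5419, e3 q8937 (flp_c L183305) q13274, e3 q8938 L183317 q13276, e3 q8939 L183321 q13277, e3 q8940 (flp_c L151758) q5423, e3 q8941 (flp_c L183343) q13279, e3 q8942 (flp_c L183335) q13278, e3 q8943 L151776 q5425, e3 q8944 L151790 q8906, e3 q8945 L153402 q6771, e3 q8946 (flp_c L151810) q7471, e3 q8947 L151838 q5430, e3 q8948 L151848 q5431, e3 q8949 L151858 q6623, e3 q8950 L172851 q11872, e3 q8951 L151870 q5440, e3 q8952 L151876 q5441, e3 q8953 L154784 q9352, e3 q8954 L151884 q7472, e3 q8955 L151890 q5436, e3 q8956 L183389 q13286, e3 q8957 L151900 q5438, e3 q8958 (flp_c L170128) q11463, e3 q8959 (flp_c L151924) q8499, trivial⟩ (by decide +kernel)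

theorem ce_c_140 : ∀ r, r < 64 → sm gc (Qf (8960 + r)) = Qf (tab Gen.c (8960 + r)) :=
  edges_tab (sm gc) Qf (tab Gen.c) 8960 [(8960, 5437), (8961, 10390), (8962, 13289), (8963, 5525), (8964, 5527), (8965, 8967), (8966, 13295), (8967, 8965), (8968, 5448), (8969, 13300), (8970, 12258), (8971, 5444), (8972, 13304), (8973, 10602), (8974, 5445), (8975, 13306), (8976, 12044), (8977, 5447), (8978, 13310), (8979, 8917), (8980, 9098), (8981, 5449), (8982, 13301), (8983, 6603), (8984, 5451), (8985, 13316), (8986, 5453), (8987, 13320), (8988, 13323), (8989, 5454), (8990, 13325), (8991, 13327), (8992, 5455), (8993, 13330), (8994, 13331), (8995, 13328), (8996, 13335), (8997, 13336), (8998, 5459), (8999, 7556), (9000, 5460), (9001, 11754), (9002, 5462), (9003, 11751), (9004, 6554), (9005, 10457), (9006, 5466), (9007, 10456), (9008, 7972), (9009, 13342), (9010, 7981), (9011, 9179), (9012, 9181), (9013, 7476), (9014, 5474), (9015, 5475), (9016, 12083), (9017, 6671), (9018, 5484), (9019, 5485), (9020, 9353), (9021, 7477), (9022,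 13346), (9023, 5481)]
    ⟨e3 q8960 (flp_c L151926) q5437, e3 q8961 L161874 q10390, e3 q8962 L183449 q13289, e3 q8963 L151944 q5525, e3 q8964 L151948 q5527, e3 q8965 (flp_c L151964) q8967, e3 q8966 L183499 q13295, e3 q8967 L151964 q8965, e3 q8968 L151972 q5448, e3 q8969 L183523 q13300, e3 q8970 L175701 q12258, e3 q8971 (flp_c L151984) q5444, e3 q8972 (flp_c L183575) q13304, e3 q8973 (flp_c L164258) q10602, e3 q8974 (flp_c L151996) q5445, e3 q8975 (flp_c L183593) q13306, e3 q8976 (flp_c L174038) q12044, e3 q8977 L152016 q5447, e3 q8978 L183615 q13310, e3 q8979 L152028 q8917, e3 q8980 (flp_c L152804) q9098, e3 q8981 (flp_c L152040) q5449, e3 q8982 (flp_c L183535) q13301, e3 q8983 (flp_c L152058) q6603, e3 q8984 (flp_c L152060) q5451, e3 q8985 L183667 q13316, e3 q8986 L152076 q5453, e3 q8987 L183697 q13320, e3 q8988 L183713 q13323, e3 q8989 (flp_c L152084) q5454, e3 q8990 (flp_c L183727) q13325, e3 q8991 L183739 q13327, e3 q8992 (flp_c L152100) q5455, e3 q8993 (flp_c L183761) q13330, e3 q8994 (flp_c L183767) q13331,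 e3 q8995 (flp_c L183747) q13328, e3 q8996 L183797 q13335, e3 q8997 L183805 q13336, e3 q8998 (flp_c L152130) q5459, e3 q8999 L153745 q7556, e3 q9000 (flp_c L152140) q5460, e3 q9001 (flp_c L172031) q11754, e3 q9002 L152172 q5462, e3 q9003 L172011 q11751, e3 q9004 L152184 q6554, e3 q9005 (flp_c L162323) q10457, e3 q9006 L152196 q5466, e3 q9007 (flp_c L162311) q10456, e3 q9008 L152222 q7972, e3 q9009 L183855 q13342, e3 q9010 L152234 q7981, e3 q9011 (flp_c L153386) q9179, e3 q9012 (flp_c L153396) q9181, e3 q9013 (flp_c L152268) q7476, e3 q9014 L152278 q5474, e3 q9015 L152288 q5475, e3 q9016 L174358 q12083, e3 q9017 L152300 q6671, e3 q9018 L152314 q5484, e3 q9019 L152320 q5485, e3 q9020 L154794 q9353, e3 q9021 L152328 q7477, e3 q9022 L183889 q13346, e3 q9023 L152336 q5481, trivial⟩ (by decide +kernel)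

theorem ce_c_141 : ∀ r, r < 64 → sm gc (Qf (9024 + r)) = Qf (tab Gen.c (9024 + r)) :=
  edges_tab (sm gc) Qf (tab Gen.c) 9024 [(9024, 5482), (9025, 8528), (9026, 5480), (9027, 10424), (9028, 11304), (9029, 5569), (9030, 5570), (9031, 13354), (9032, 9033), (9033, 9032), (9034, 5492), (9035, 13360), (9036, 12316), (9037, 5488), (9038, 13364), (9039, 10547), (9040, 5489), (9041, 11822), (9042, 5491), (9043, 13369), (9044, 8933), (9045, 9152), (9046, 5493), (9047, 13361), (9048, 6564), (9049, 5495), (9050, 5497), (9051, 13375), (9052, 13378), (9053, 5498), (9054, 13337), (9055, 13381), (9056, 5499), (9057, 13383), (9058, 13384), (9059, 13338), (9060, 5500), (9061, 7601), (9062, 5501), (9063, 11797), (9064, 5503), (9065, 11794), (9066, 10506), (9067, 6593), (9068, 5506), (9069, 10505), (9070, 8031), (9071, 8040), (9072, 9125), (9073, 9127), (9074, 5519), (9075, 5520), (9076, 5514), (9077, 6858), (9078, 13388), (9079, 5523), (9080, 5524), (9081, 7182), (9082, 7906), (9083, 7187), (9084, 13394), (9085, 13396), (9086,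 9494), (9087, 13290)]
    ⟨e3 q9024 L152344 q5482, e3 q9025 L152356 q8528, e3 q9026 (flp_c L152360) q5480, e3 q9027 (flp_c L162108) q10424, e3 q9028 (flp_c L169123) q11304, e3 q9029 L152388 q5569, e3 q9030 L152392 q5570, e3 q9031 L183961 q13354, e3 q9032 (flp_c L152408) q9033, e3 q9033 L152408 q9032, e3 q9034 L152416 q5492, e3 q9035 L183991 q13360, e3 q9036 L176079 q12316, e3 q9037 (flp_c L152428) q5488, e3 q9038 (flp_c L184029) q13364, e3 q9039 (flp_c L162927) q10547, e3 q9040 (flp_c L152442) q5489, e3 q9041 (flp_c L172493) q11822, e3 q9042 L152454 q5491, e3 q9043 L184057 q13369, e3 q9044 L152466 q8933, e3 q9045 (flp_c L153219) q9152, e3 q9046 (flp_c L152478) q5493, e3 q9047 (flp_c L184003) q13361, e3 q9048 (flp_c L152496) q6564, e3 q9049 (flp_c L152498) q5495, e3 q9050 L152508 q5497, e3 q9051 L184105 q13375, e3 q9052 L184121 q13378, e3 q9053 (flp_c L152516) q5498, e3 q9054 (flp_c L183819) q13337, e3 q9055 L184141 q13381, e3 q9056 (flp_c L152532) q5499, e3 q9057 (flp_c L184153) q13383, e3 q9058 (flp_c L184161)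 q13384, e3 q9059 (flp_c L183827) q13338, e3 q9060 (flp_c L152554) q5500, e3 q9061 L155528 q7601, e3 q9062 (flp_c L152564) q5501, e3 q9063 (flp_c L172336) q11797, e3 q9064 L152582 q5503, e3 q9065 L172316 q11794, e3 q9066 (flp_c L162637) q10506, e3 q9067 L152606 q6593, e3 q9068 L152612 q5506, e3 q9069 (flp_c L162625) q10505, e3 q9070 L152628 q8031, e3 q9071 L152634 q8040, e3 q9072 (flp_c L152949) q9125, e3 q9073 (flp_c L152959) q9127, e3 q9074 L152656 q5519, e3 q9075 L152662 q5520, e3 q9076 (flp_c L152664) q5514, e3 q9077 L152673 q6858, e3 q9078 (flp_c L184193) q13388, e3 q9079 L152688 q5523, e3 q9080 L152696 q5524, e3 q9081 L152704 q7182, e3 q9082 L163953 q7906, e3 q9083 L152716 q7187, e3 q9084 L184236 q13394, e3 q9085 L184246 q13396, e3 q9086 (flp_c L155828) q9494, e3 q9087 (flp_c L183463) q13290, trivial⟩ (by decide +kernel)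

theorem ce_c_142 : ∀ r, r < 64 → sm gc (Qf (9088 + r)) = Qf (tab Gen.c (9088 + r)) :=
  edges_tab (sm gc) Qf (tab Gen.c) 9088 [(9088, 9670), (9089, 10486), (9090, 13292), (9091, 9493), (9092, 10219), (9093, 9095), (9094, 5531), (9095, 9093), (9096, 13404), (9097, 6526), (9098, 8980), (9099, 5536), (9100, 13406), (9101, 5539), (9102, 13410), (9103, 5540), (9104, 13413), (9105, 9168), (9106, 5543), (9107, 9174), (9108, 9177), (9109, 10750), (9110, 9175), (9111, 9178), (9112, 9166), (9113, 13281), (9114, 9159), (9115, 9209), (9116, 13412), (9117, 5549), (9118, 13386), (9119, 12586), (9120, 9164), (9121, 9161), (9122, 12557), (9123, 9165), (9124, 9162), (9125, 9072), (9126, 8782), (9127, 9073), (9128, 5563), (9129, 5564), (9130, 5558), (9131, 13440), (9132, 6879), (9133, 5567), (9134, 5568), (9135, 7284), (9136, 7746), (9137, 7290), (9138, 13445), (9139, 13447), (9140, 9510), (9141, 13350), (9142, 10533), (9143, 13352), (9144, 9692), (9145, 9509), (9146, 10255), (9147, 9149), (9148, 5575), (9149, 9147), (9150, 13456),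 (9151, 6493)]
    ⟨e3 q9088 (flp_c L157157) q9670, e3 q9089 (flp_c L162482) q10486, e3 q9090 (flp_c L183479) q13292, e3 q9091 (flp_c L155816) q9493, e3 q9092 (flp_c L160724) q10219, e3 q9093 (flp_c L152784) q9095, e3 q9094 (flp_c L152774) q5531, e3 q9095 L152784 q9093, e3 q9096 L184322 q13404, e3 q9097 L152796 q6526, e3 q9098 L152804 q8980, e3 q9099 (flp_c L152810) q5536, e3 q9100 L184342 q13406, e3 q9101 L152826 q5539, e3 q9102 L184374 q13410, e3 q9103 (flp_c L152836) q5540, e3 q9104 (flp_c L184394) q13413, e3 q9105 (flp_c L153313) q9168, e3 q9106 L152854 q5543, e3 q9107 (flp_c L153347) q9174, e3 q9108 (flp_c L153372) q9177, e3 q9109 (flp_c L183549) q10750, e3 q9110 (flp_c L153353) q9175, e3 q9111 (flp_c L153380) q9178, e3 q9112 (flp_c L153305) q9166, e3 q9113 (flp_c L183353) q13281, e3 q9114 (flp_c L153263) q9159, e3 q9115 (flp_c L153710) q9209, e3 q9116 (flp_c L184388) q13412, e3 q9117 L152902 q5549, e3 q9118 (flp_c L184175) q13386, e3 q9119 (flp_c L178301) q12586, e3 q9120 (flp_c L153291) q9164, e3 q9121 (flp_c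 L153277) q9161, e3 q9122 (flp_c L178026) q12557, e3 q9123 (flp_c L153299) q9165, e3 q9124 (flp_c L153283) q9162, e3 q9125 L152949 q9072, e3 q9126 L152955 q8782, e3 q9127 L152959 q9073, e3 q9128 L153071 q5563, e3 q9129 L153077 q5564, e3 q9130 (flp_c L153079) q5558, e3 q9131 (flp_c L184563) q13440, e3 q9132 L153094 q6879, e3 q9133 L153103 q5567, e3 q9134 L153111 q5568, e3 q9135 L153119 q7284, e3 q9136 (flp_c L163963) q7746, e3 q9137 L153131 q7290, e3 q9138 L184600 q13445, e3 q9139 L184616 q13447, e3 q9140 (flp_c L155926) q9510, e3 q9141 (flp_c L183931) q13350, e3 q9142 (flp_c L162782) q10533, e3 q9143 (flp_c L183947) q13352, e3 q9144 (flp_c L157267) q9692, e3 q9145 (flp_c L155914) q9509, e3 q9146 (flp_c L160924) q10255, e3 q9147 (flp_c L153199) q9149, e3 q9148 (flp_c L153189) q5575, e3 q9149 L153199 q9147, e3 q9150 L184698 q13456, e3 q9151 L153211 q6493, trivial⟩ (by decide +kernel)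

theorem ce_c_143 : ∀ r, r < 64 → sm gc (Qf (9152 + r)) = Qf (tab Gen.c (9152 + r)) :=
  edges_tab (sm gc) Qf (tab Gen.c) 9152 [(9152, 9045), (9153, 5580), (9154, 13458), (9155, 5583), (9156, 13462), (9157, 5584), (9158, 13465), (9159, 9114), (9160, 5587), (9161, 9121), (9162, 9124), (9163, 10668), (9164, 9120), (9165, 9123), (9166, 9112), (9167, 13267), (9168, 9105), (9169, 9245), (9170, 13464), (9171, 5593), (9172, 13340), (9173, 12583), (9174, 9107), (9175, 9110), (9176, 12563), (9177, 9108), (9178, 9111), (9179, 9011), (9180, 8737), (9181, 9012), (9182, 9182), (9183, 9183), (9184, 9184), (9185, 9185), (9186, 10815), (9187, 11026), (9188, 7537), (9189, 5675), (9190, 7940), (9191, 10685), (9192, 11030), (9193, 7531), (9194, 6818), (9195, 5713), (9196, 12810), (9197, 10276), (9198, 7575), (9199, 5625), (9200, 6715), (9201, 13500), (9202, 6761), (9203, 5732), (9204, 9334), (9205, 8479), (9206, 13505), (9207, 9339), (9208, 9332), (9209, 9115), (9210, 9740), (9211, 9741), (9212, 13510), (9213, 8270), (9214, 5702),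 (9215, 5703)]
    ⟨e3 q9152 L153219 q9045, e3 q9153 (flp_c L153225) q5580, e3 q9154 L184718 q13458, e3 q9155 L153241 q5583, e3 q9156 L184750 q13462, e3 q9157 (flp_c L153251) q5584, e3 q9158 (flp_c L184770) q13465, e3 q9159 L153263 q9114, e3 q9160 L153271 q5587, e3 q9161 L153277 q9121, e3 q9162 L153283 q9124, e3 q9163 (flp_c L175844) q10668, e3 q9164 L153291 q9120, e3 q9165 L153299 q9123, e3 q9166 L153305 q9112, e3 q9167 (flp_c L183269) q13267, e3 q9168 L153313 q9105, e3 q9169 (flp_c L153982) q9245, e3 q9170 (flp_c L184764) q13464, e3 q9171 L153331 q5593, e3 q9172 (flp_c L183845) q13340, e3 q9173 L178261 q12583, e3 q9174 L153347 q9107, e3 q9175 L153353 q9110, e3 q9176 (flp_c L178066) q12563, e3 q9177 L153372 q9108, e3 q9178 L153380 q9111, e3 q9179 L153386 q9011, e3 q9180 L153392 q8737, e3 q9181 L153396 q9012, e3 q9182 L153510 q9182, e3 q9183 L153519 q9183, e3 q9184 L153524 q9184, e3 q9185 L153535 q9185, e3 q9186 (flp_c L165851) q10815, e3 q9187 (flp_c L167350) q11026, e3 q9188 L153562 q7537, e3 q9189 L153572 q5675,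 e3 q9190 L153586 q7940, e3 q9191 (flp_c L164911) q10685, e3 q9192 (flp_c L167389) q11030, e3 q9193 L153600 q7531, e3 q9194 (flp_c L154516) q6818, e3 q9195 L153612 q5713, e3 q9196 (flp_c L180103) q12810, e3 q9197 (flp_c L161062) q10276, e3 q9198 (flp_c L153648) q7575, e3 q9199 L153654 q5625, e3 q9200 (flp_c L153664) q6715, e3 q9201 (flp_c L185057) q13500, e3 q9202 L153676 q6761, e3 q9203 (flp_c L153686) q5732, e3 q9204 (flp_c L154644) q9334, e3 q9205 (flp_c L154260) q8479, e3 q9206 L185103 q13505, e3 q9207 (flp_c L154678) q9339, e3 q9208 (flp_c L154622) q9332, e3 q9209 L153710 q9115, e3 q9210 (flp_c L157621) q9740, e3 q9211 (flp_c L157625) q9741, e3 q9212 L185135 q13510, e3 q9213 (flp_c L153753) q8270, e3 q9214 L153761 q5702, e3 q9215 L153767 q5703, trivial⟩ (by decide +kernel)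

theorem ce_c_144 : ∀ r, r < 64 → sm gc (Qf (9216 + r)) = Qf (tab Gen.c (9216 + r)) :=
  edges_tab (sm gc) Qf (tab Gen.c) 9216 [(9216, 5704), (9217, 12533), (9218, 8267), (9219, 5706), (9220, 5707), (9221, 5709), (9222, 9222), (9223, 9223), (9224, 9224), (9225, 9225), (9226, 10836), (9227, 11065), (9228, 7581), (9229, 10769), (9230, 7998), (9231, 11069), (9232, 6744), (9233, 12814), (9234, 10258), (9235, 5658), (9236, 6791), (9237, 13524), (9238, 6835), (9239, 5699), (9240, 9287), (9241, 8487), (9242, 13529), (9243, 9285), (9244, 9297), (9245, 9169), (9246, 9760), (9247, 9761), (9248, 13534), (9249, 8281), (9250, 5735), (9251, 5736), (9252, 5737), (9253, 12542), (9254, 8278), (9255, 5739), (9256, 5740), (9257, 5741), (9258, 5672), (9259, 5673), (9260, 9262), (9261, 13548), (9262, 9260), (9263, 13550), (9264, 9266), (9265, 5676), (9266, 9264), (9267, 10627), (9268, 6805), (9269, 5718), (9270, 5701), (9271, 5680), (9272, 13555), (9273, 10542), (9274, 5681), (9275, 10577), (9276, 12737), (9277, 5684), (9278, 13556),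 (9279, 10401)]
    ⟨e3 q9216 L153773 q5704, e3 q9217 (flp_c L177848) q12533, e3 q9218 L153787 q8267, e3 q9219 L153795 q5706, e3 q9220 L153802 q5707, e3 q9221 L153810 q5709, e3 q9222 L153822 q9222, e3 q9223 L153831 q9223, e3 q9224 L153836 q9224, e3 q9225 L153847 q9225, e3 q9226 (flp_c L166034) q10836, e3 q9227 (flp_c L167598) q11065, e3 q9228 L153874 q7581, e3 q9229 (flp_c L165526) q10769, e3 q9230 L153888 q7998, e3 q9231 (flp_c L167637) q11069, e3 q9232 (flp_c L154558) q6744, e3 q9233 (flp_c L180135) q12814, e3 q9234 (flp_c L160948) q10258, e3 q9235 L153922 q5658, e3 q9236 (flp_c L153936) q6791, e3 q9237 (flp_c L185257) q13524, e3 q9238 L153948 q6835, e3 q9239 (flp_c L153958) q5699, e3 q9240 (flp_c L154266) q9287, e3 q9241 (flp_c L154464) q8487, e3 q9242 L185305 q13529, e3 q9243 (flp_c L154242) q9285, e3 q9244 (flp_c L154322) q9297, e3 q9245 L153982 q9169, e3 q9246 (flp_c L157755) q9760, e3 q9247 (flp_c L157759) q9761, e3 q9248 L185337 q13534, e3 q9249 (flp_c L154019) q8281, e3 q9250 L154027 q5735, e3 q9251 L154033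 q5736, e3 q9252 L154045 q5737, e3 q9253 (flp_c L177913) q12542, e3 q9254 L154055 q8278, e3 q9255 L154063 q5739, e3 q9256 L154069 q5740, e3 q9257 L154078 q5741, e3 q9258 L154088 q5672, e3 q9259 L154098 q5673, e3 q9260 (flp_c L154116) q9262, e3 q9261 L185435 q13548, e3 q9262 L154116 q9260, e3 q9263 L185445 q13550, e3 q9264 (flp_c L154138) q9266, e3 q9265 (flp_c L154130) q5676, e3 q9266 L154138 q9264, e3 q9267 (flp_c L164464) q10627, e3 q9268 L154152 q6805, e3 q9269 L154158 q5718, e3 q9270 L154510 q5701, e3 q9271 (flp_c L154172) q5680, e3 q9272 (flp_c L185509) q13555, e3 q9273 (flp_c L162859) q10542, e3 q9274 (flp_c L154188) q5681, e3 q9275 (flp_c L164049) q10577, e3 q9276 L179495 q12737, e3 q9277 (flp_c L154214) q5684, e3 q9278 (flp_c L185521) q13556, e3 q9279 L163608 q10401, trivial⟩ (by decide +kernel)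

theorem ce_c_145 : ∀ r, r < 64 → sm gc (Qf (9280 + r)) = Qf (tab Gen.c (9280 + r)) :=
  edges_tab (sm gc) Qf (tab Gen.c) 9280 [(9280, 12749), (9281, 12333), (9282, 5691), (9283, 13558), (9284, 13517), (9285, 9243), (9286, 8459), (9287, 9240), (9288, 12377), (9289, 13537), (9290, 12378), (9291, 12379), (9292, 5731), (9293, 13513), (9294, 5698), (9295, 13526), (9296, 13564), (9297, 9244), (9298, 13554), (9299, 10658), (9300, 6722), (9301, 13569), (9302, 13515), (9303, 13516), (9304, 13560), (9305, 8165), (9306, 5705), (9307, 13575), (9308, 12574), (9309, 13519), (9310, 12746), (9311, 5711), (9312, 5712), (9313, 9315), (9314, 13579), (9315, 9313), (9316, 13565), (9317, 9319), (9318, 5715), (9319, 9317), (9320, 6724), (9321, 10597), (9322, 5734), (9323, 5719), (9324, 13582), (9325, 5720), (9326, 13583), (9327, 10435), (9328, 12740), (9329, 5726), (9330, 13584), (9331, 13541), (9332, 9208), (9333, 8470), (9334, 9204), (9335, 12331), (9336, 12332), (9337, 13502), (9338, 13551), (9339, 9207), (9340, 13568), (9341, 6804),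 (9342, 10752), (9343, 13591)]
    ⟨e3 q9280 (flp_c L179585) q12749, e3 q9281 (flp_c L176181) q12333, e3 q9282 (flp_c L154230) q5691, e3 q9283 (flp_c L185537) q13558, e3 q9284 L185193 q13517, e3 q9285 L154242 q9243, e3 q9286 L154252 q8459, e3 q9287 L154266 q9240, e3 q9288 (flp_c L176582) q12377, e3 q9289 (flp_c L185355) q13537, e3 q9290 (flp_c L176592) q12378, e3 q9291 (flp_c L176602) q12379, e3 q9292 L154288 q5731, e3 q9293 (flp_c L185153) q13513, e3 q9294 L154300 q5698, e3 q9295 (flp_c L185283) q13526, e3 q9296 L185585 q13564, e3 q9297 L154322 q9244, e3 q9298 (flp_c L185495) q13554, e3 q9299 (flp_c L164695) q10658, e3 q9300 (flp_c L154502) q6722, e3 q9301 L185653 q13569, e3 q9302 (flp_c L185169) q13515, e3 q9303 (flp_c L185177) q13516, e3 q9304 (flp_c L185553) q13560, e3 q9305 L164061 q8165, e3 q9306 (flp_c L154376) q5705, e3 q9307 (flp_c L185709) q13575, e3 q9308 (flp_c L178165) q12574, e3 q9309 (flp_c L185209) q13519, e3 q9310 L179563 q12746, e3 q9311 L154418 q5711, e3 q9312 L154428 q5712, e3 q9313 (flp_c L154446)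 q9315, e3 q9314 L185743 q13579, e3 q9315 L154446 q9313, e3 q9316 (flp_c L185601) q13565, e3 q9317 (flp_c L165538) q9319, e3 q9318 (flp_c L154478) q5715, e3 q9319 L165538 q9317, e3 q9320 L154486 q6724, e3 q9321 (flp_c L164206) q10597, e3 q9322 L154548 q5734, e3 q9323 (flp_c L154540) q5719, e3 q9324 (flp_c L185777) q13582, e3 q9325 (flp_c L154578) q5720, e3 q9326 (flp_c L185791) q13583, e3 q9327 L163764 q10435, e3 q9328 (flp_c L179517) q12740, e3 q9329 (flp_c L154604) q5726, e3 q9330 (flp_c L185799) q13584, e3 q9331 L185395 q13541, e3 q9332 L154622 q9208, e3 q9333 L154634 q8470, e3 q9334 L154644 q9204, e3 q9335 (flp_c L176161) q12331, e3 q9336 (flp_c L176171) q12332, e3 q9337 (flp_c L185081) q13502, e3 q9338 (flp_c L185459) q13551, e3 q9339 L154678 q9207, e3 q9340 (flp_c L185645) q13568, e3 q9341 L154696 q6804, e3 q9342 (flp_c L165364) q10752, e3 q9343 L185873 q13591, trivial⟩ (by decide +kernel)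

theorem ce_c_146 : ∀ r, r < 64 → sm gc (Qf (9344 + r)) = Qf (tab Gen.c (9344 + r)) :=
  edges_tab (sm gc) Qf (tab Gen.c) 9344 [(9344, 13539), (9345, 13540), (9346, 8195), (9347, 13586), (9348, 5738), (9349, 13596), (9350, 13543), (9351, 12580), (9352, 8953), (9353, 9020), (9354, 13598), (9355, 13601), (9356, 9411), (9357, 9412), (9358, 5754), (9359, 5755), (9360, 13605), (9361, 13606), (9362, 13607), (9363, 5756), (9364, 13610), (9365, 13611), (9366, 5757), (9367, 13614), (9368, 13615), (9369, 13616), (9370, 5760), (9371, 13618), (9372, 5761), (9373, 13620), (9374, 6963), (9375, 9969), (9376, 13623), (9377, 6975), (9378, 9971), (9379, 13627), (9380, 13630), (9381, 13633), (9382, 5768), (9383, 13636), (9384, 13639), (9385, 13642), (9386, 5771), (9387, 13645), (9388, 6502), (9389, 6467), (9390, 6965), (9391, 6964), (9392, 6951), (9393, 5776), (9394, 7269), (9395, 6976), (9396, 6974), (9397, 6957), (9398, 5779), (9399, 7168), (9400, 8309), (9401, 11566), (9402, 13653), (9403, 13655), (9404, 11618), (9405, 8315), (9406,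 13659), (9407, 13661)]
    ⟨e3 q9344 (flp_c L185371) q13539, e3 q9345 (flp_c L185383) q13540, e3 q9346 L154736 q8195, e3 q9347 (flp_c L185819) q13586, e3 q9348 (flp_c L154742) q5738, e3 q9349 (flp_c L185927) q13596, e3 q9350 (flp_c L185411) q13543, e3 q9351 (flp_c L178223) q12580, e3 q9352 (flp_c L154784) q8953, e3 q9353 (flp_c L154794) q9020, e3 q9354 L185942 q13598, e3 q9355 L185966 q13601, e3 q9356 (flp_c L155238) q9411, e3 q9357 (flp_c L155247) q9412, e3 q9358 L154828 q5754, e3 q9359 L154838 q5755, e3 q9360 L186007 q13605, e3 q9361 L186018 q13606, e3 q9362 L186029 q13607, e3 q9363 (flp_c L154869) q5756, e3 q9364 (flp_c L186051) q13610, e3 q9365 L186053 q13611, e3 q9366 (flp_c L154885) q5757, e3 q9367 (flp_c L186077) q13614, e3 q9368 L186079 q13615, e3 q9369 L186089 q13616, e3 q9370 (flp_c L154914) q5760, e3 q9371 (flp_c L186111) q13618, e3 q9372 (flp_c L154928) q5761, e3 q9373 (flp_c L186129) q13620, e3 q9374 L154944 q6963, e3 q9375 (flp_c L159057) q9969, e3 q9376 L186153 q13623, e3 q9377 L154966 q6975, e3 q9378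 (flp_c L159075) q9971, e3 q9379 L186185 q13627, e3 q9380 L186209 q13630, e3 q9381 L186230 q13633, e3 q9382 (flp_c L154996) q5768, e3 q9383 (flp_c L186250) q13636, e3 q9384 L186272 q13639, e3 q9385 L186293 q13642, e3 q9386 (flp_c L155016) q5771, e3 q9387 (flp_c L186317) q13645, e3 q9388 L155030 q6502, e3 q9389 L155044 q6467, e3 q9390 L155060 q6965, e3 q9391 L155068 q6964, e3 q9392 (flp_c L155082) q6951, e3 q9393 L155088 q5776, e3 q9394 L155100 q7269, e3 q9395 L155114 q6976, e3 q9396 L155122 q6974, e3 q9397 (flp_c L155136) q6957, e3 q9398 L155142 q5779, e3 q9399 L155154 q7168, e3 q9400 L155166 q8309, e3 q9401 (flp_c L170775) q11566, e3 q9402 L186385 q13653, e3 q9403 L186398 q13655, e3 q9404 (flp_c L171114) q11618, e3 q9405 L155192 q8315, e3 q9406 L186431 q13659, e3 q9407 L186444 q13661, trivial⟩ (by decide +kernel)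

theorem ce_c_147 : ∀ r, r < 64 → sm gc (Qf (9408 + r)) = Qf (tab Gen.c (9408 + r)) :=
  edges_tab (sm gc) Qf (tab Gen.c) 9408 [(9408, 5788), (9409, 5789), (9410, 9410), (9411, 9356), (9412, 9357), (9413, 5795), (9414, 5797), (9415, 5800), (9416, 5801), (9417, 8439), (9418, 8440), (9419, 13604), (9420, 13603), (9421, 5807), (9422, 5809), (9423, 13669), (9424, 13670), (9425, 10816), (9426, 13673), (9427, 10837), (9428, 13676), (9429, 13678), (9430, 13681), (9431, 5811), (9432, 13684), (9433, 13687), (9434, 13690), (9435, 5813), (9436, 13693), (9437, 10363), (9438, 5814), (9439, 13683), (9440, 6511), (9441, 5815), (9442, 13695), (9443, 13685), (9444, 5817), (9445, 13697), (9446, 10326), (9447, 5818), (9448, 13692), (9449, 6477), (9450, 5819), (9451, 13698), (9452, 13694), (9453, 5821), (9454, 13700), (9455, 5828), (9456, 5822), (9457, 13701), (9458, 5824), (9459, 13702), (9460, 5833), (9461, 5825), (9462, 13703), (9463, 5827), (9464, 13704), (9465, 5830), (9466, 12419), (9467, 9769), (9468, 5832), (9469, 6746), (9470,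 5835), (9471, 12435)]
    ⟨e3 q9408 (flp_c L155206) q5788, e3 q9409 (flp_c L155216) q5789, e3 q9410 L155233 q9410, e3 q9411 L155238 q9356, e3 q9412 L155247 q9357, e3 q9413 L155256 q5795, e3 q9414 L155264 q5797, e3 q9415 L155272 q5800, e3 q9416 L155284 q5801, e3 q9417 L155294 q8439, e3 q9418 L155304 q8440, e3 q9419 (flp_c L185997) q13604, e3 q9420 (flp_c L185983) q13603, e3 q9421 L155328 q5807, e3 q9422 L155340 q5809, e3 q9423 L186518 q13669, e3 q9424 L186526 q13670, e3 q9425 (flp_c L165863) q10816, e3 q9426 L186555 q13673, e3 q9427 (flp_c L166046) q10837, e3 q9428 L186585 q13676, e3 q9429 L186601 q13678, e3 q9430 L186633 q13681, e3 q9431 (flp_c L155388) q5811, e3 q9432 (flp_c L186655) q13684, e3 q9433 L186686 q13687, e3 q9434 L186718 q13690, e3 q9435 (flp_c L155406) q5813, e3 q9436 (flp_c L186740) q13693, e3 q9437 (flp_c L161675) q10363, e3 q9438 (flp_c L155418) q5814, e3 q9439 L186649 q13683, e3 q9440 L155443 q6511, e3 q9441 (flp_c L155427) q5815, e3 q9442 (flp_c L186765) q13695, e3 q9443 (flp_c L186666) q13685,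 e3 q9444 L155451 q5817, e3 q9445 (flp_c L186785) q13697, e3 q9446 (flp_c L161424) q10326, e3 q9447 (flp_c L155463) q5818, e3 q9448 L186734 q13692, e3 q9449 (flp_c L155492) q6477, e3 q9450 (flp_c L155472) q5819, e3 q9451 (flp_c L186795) q13698, e3 q9452 (flp_c L186751) q13694, e3 q9453 L155534 q5821, e3 q9454 (flp_c L186815) q13700, e3 q9455 (flp_c L155552) q5828, e3 q9456 (flp_c L155554) q5822, e3 q9457 (flp_c L186825) q13701, e3 q9458 L155574 q5824, e3 q9459 (flp_c L186837) q13702, e3 q9460 (flp_c L155598) q5833, e3 q9461 (flp_c L155600) q5825, e3 q9462 (flp_c L186851) q13703, e3 q9463 L155620 q5827, e3 q9464 (flp_c L186863) q13704, e3 q9465 L155638 q5830, e3 q9466 (flp_c L176983) q12419, e3 q9467 (flp_c L157801) q9769, e3 q9468 L155658 q5832, e3 q9469 (flp_c L157471) q6746, e3 q9470 L155674 q5835, e3 q9471 (flp_c L177116) q12435, trivial⟩ (by decide +kernel)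

theorem ce_c_148 : ∀ r, r < 64 → sm gc (Qf (9472 + r)) = Qf (tab Gen.c (9472 + r)) :=
  edges_tab (sm gc) Qf (tab Gen.c) 9472 [(9472, 9749), (9473, 5837), (9474, 6821), (9475, 7942), (9476, 13709), (9477, 7501), (9478, 11967), (9479, 5840), (9480, 13712), (9481, 5841), (9482, 13713), (9483, 13715), (9484, 7515), (9485, 8000), (9486, 12169), (9487, 5844), (9488, 13716), (9489, 5845), (9490, 13717), (9491, 13719), (9492, 13720), (9493, 9091), (9494, 9086), (9495, 13723), (9496, 5854), (9497, 13726), (9498, 13727), (9499, 13731), (9500, 13734), (9501, 5856), (9502, 13736), (9503, 13738), (9504, 5857), (9505, 13742), (9506, 8419), (9507, 5859), (9508, 13744), (9509, 9145), (9510, 9140), (9511, 13748), (9512, 5862), (9513, 13751), (9514, 13752), (9515, 13756), (9516, 13759), (9517, 5864), (9518, 13761), (9519, 13763), (9520, 5865), (9521, 13767), (9522, 8400), (9523, 5867), (9524, 13769), (9525, 6480), (9526, 6469), (9527, 7033), (9528, 7036), (9529, 11350), (9530, 5874), (9531, 13772), (9532, 13773), (9533, 6289),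 (9534, 5876), (9535, 6287)]
    ⟨e3 q9472 (flp_c L157667) q9749, e3 q9473 L155694 q5837, e3 q9474 (flp_c L157389) q6821, e3 q9475 L155708 q7942, e3 q9476 L186921 q13709, e3 q9477 L155724 q7501, e3 q9478 (flp_c L173544) q11967, e3 q9479 (flp_c L155732) q5840, e3 q9480 (flp_c L186943) q13712, e3 q9481 (flp_c L155743) q5841, e3 q9482 (flp_c L186951) q13713, e3 q9483 L186969 q13715, e3 q9484 L155758 q7515, e3 q9485 L155766 q8000, e3 q9486 (flp_c L175047) q12169, e3 q9487 (flp_c L155778) q5844, e3 q9488 (flp_c L186977) q13716, e3 q9489 (flp_c L155789) q5845, e3 q9490 (flp_c L186987) q13717, e3 q9491 L187007 q13719, e3 q9492 L187013 q13720, e3 q9493 L155816 q9091, e3 q9494 L155828 q9086, e3 q9495 L187035 q13723, e3 q9496 (flp_c L155838) q5854, e3 q9497 (flp_c L187063) q13726, e3 q9498 (flp_c L187069) q13727, e3 q9499 L187089 q13731, e3 q9500 L187111 q13734, e3 q9501 (flp_c L155866) q5856, e3 q9502 (flp_c L187129) q13736, e3 q9503 L187139 q13738, e3 q9504 (flp_c L155880) q5857, e3 q9505 (flp_c L187169) q13742, e3 q9506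 (flp_c L163606) q8419, e3 q9507 L155900 q5859, e3 q9508 (flp_c L187187) q13744, e3 q9509 L155914 q9145, e3 q9510 L155926 q9140, e3 q9511 L187219 q13748, e3 q9512 (flp_c L155936) q5862, e3 q9513 (flp_c L187247) q13751, e3 q9514 (flp_c L187253) q13752, e3 q9515 L187273 q13756, e3 q9516 L187295 q13759, e3 q9517 (flp_c L155966) q5864, e3 q9518 (flp_c L187313) q13761, e3 q9519 L187327 q13763, e3 q9520 (flp_c L155984) q5865, e3 q9521 (flp_c L187357) q13767, e3 q9522 L163689 q8400, e3 q9523 L156006 q5867, e3 q9524 (flp_c L187375) q13769, e3 q9525 L156026 q6480, e3 q9526 L156046 q6469, e3 q9527 L156062 q7033, e3 q9528 L156074 q7036, e3 q9529 (flp_c L169397) q11350, e3 q9530 (flp_c L156088) q5874, e3 q9531 (flp_c L187407) q13772, e3 q9532 (flp_c L187413) q13773, e3 q9533 (flp_c L156116) q6289, e3 q9534 (flp_c L156118) q5876, e3 q9535 L156134 q6287, trivial⟩ (by decide +kernel)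

theorem ce_c_149 : ∀ r, r < 64 → sm gc (Qf (9536 + r)) = Qf (tab Gen.c (9536 + r)) :=
  edges_tab (sm gc) Qf (tab Gen.c) 9536 [(9536, 13775), (9537, 7078), (9538, 7077), (9539, 13778), (9540, 7061), (9541, 7063), (9542, 11509), (9543, 5883), (9544, 13780), (9545, 13781), (9546, 6316), (9547, 5885), (9548, 6314), (9549, 13783), (9550, 7050), (9551, 7049), (9552, 13786), (9553, 8497), (9554, 5893), (9555, 8502), (9556, 10130), (9557, 12760), (9558, 8857), (9559, 5895), (9560, 13790), (9561, 13791), (9562, 13795), (9563, 10124), (9564, 5897), (9565, 13799), (9566, 5899), (9567, 5900), (9568, 13801), (9569, 13803), (9570, 13807), (9571, 13809), (9572, 5902), (9573, 13813), (9574, 5904), (9575, 11050), (9576, 13817), (9577, 5905), (9578, 13819), (9579, 6346), (9580, 5906), (9581, 13822), (9582, 13823), (9583, 13820), (9584, 13826), (9585, 5908), (9586, 5909), (9587, 13831), (9588, 13832), (9589, 5911), (9590, 13836), (9591, 8526), (9592, 5914), (9593, 10163), (9594, 12785), (9595, 8531), (9596, 8871), (9597, 5917),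 (9598, 13840), (9599, 13841)]
    ⟨e3 q9536 L187427 q13775, e3 q9537 L156150 q7078, e3 q9538 L156156 q7077, e3 q9539 L187459 q13778, e3 q9540 L156172 q7061, e3 q9541 L156184 q7063, e3 q9542 (flp_c L170396) q11509, e3 q9543 (flp_c L156198) q5883, e3 q9544 (flp_c L187479) q13780, e3 q9545 (flp_c L187485) q13781, e3 q9546 (flp_c L156226) q6316, e3 q9547 (flp_c L156228) q5885, e3 q9548 L156244 q6314, e3 q9549 L187499 q13783, e3 q9550 L156260 q7050, e3 q9551 L156266 q7049, e3 q9552 L187533 q13786, e3 q9553 L156286 q8497, e3 q9554 L156296 q5893, e3 q9555 L156302 q8502, e3 q9556 L160164 q10130, e3 q9557 (flp_c L179669) q12760, e3 q9558 (flp_c L156336) q8857, e3 q9559 (flp_c L156338) q5895, e3 q9560 (flp_c L187563) q13790, e3 q9561 (flp_c L187569) q13791, e3 q9562 L187593 q13795, e3 q9563 (flp_c L160116) q10124, e3 q9564 (flp_c L156372) q5897, e3 q9565 (flp_c L187621) q13799, e3 q9566 L156386 q5899, e3 q9567 L156390 q5900, e3 q9568 (flp_c L187633) q13801, e3 q9569 (flp_c L187645) q13803, e3 q9570 L187667 q13807, e3 q9571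 L187679 q13809, e3 q9572 (flp_c L156414) q5902, e3 q9573 L187703 q13813, e3 q9574 L156428 q5904, e3 q9575 (flp_c L167502) q11050, e3 q9576 L187725 q13817, e3 q9577 (flp_c L156444) q5905, e3 q9578 (flp_c L187741) q13819, e3 q9579 (flp_c L156458) q6346, e3 q9580 (flp_c L156462) q5906, e3 q9581 (flp_c L187763) q13822, e3 q9582 (flp_c L187773) q13823, e3 q9583 (flp_c L187751) q13820, e3 q9584 L187797 q13826, e3 q9585 L156494 q5908, e3 q9586 (flp_c L156500) q5909, e3 q9587 (flp_c L187859) q13831, e3 q9588 (flp_c L187863) q13832, e3 q9589 L156517 q5911, e3 q9590 L187885 q13836, e3 q9591 L156533 q8526, e3 q9592 L156543 q5914, e3 q9593 L160394 q10163, e3 q9594 (flp_c L179887) q12785, e3 q9595 L156563 q8531, e3 q9596 (flp_c L156583) q8871, e3 q9597 (flp_c L156585) q5917, e3 q9598 (flp_c L187921) q13840, e3 q9599 (flp_c L187927) q13841, trivial⟩ (by decide +kernel)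

theorem ce_c_150 : ∀ r, r < 64 → sm gc (Qf (9600 + r)) = Qf (tab Gen.c (9600 + r)) :=
  edges_tab (sm gc) Qf (tab Gen.c) 9600 [(9600, 13845), (9601, 10157), (9602, 5919), (9603, 13848), (9604, 5921), (9605, 5922), (9606, 13850), (9607, 13852), (9608, 13856), (9609, 13858), (9610, 5924), (9611, 13862), (9612, 5926), (9613, 11087), (9614, 13866), (9615, 5927), (9616, 13868), (9617, 6366), (9618, 5928), (9619, 13871), (9620, 13872), (9621, 13869), (9622, 13875), (9623, 5930), (9624, 5931), (9625, 13880), (9626, 13881), (9627, 5933), (9628, 13885), (9629, 6360), (9630, 13891), (9631, 6357), (9632, 6361), (9633, 9648), (9634, 13830), (9635, 5937), (9636, 6340), (9637, 13904), (9638, 6341), (9639, 6338), (9640, 9653), (9641, 13879), (9642, 5941), (9643, 7437), (9644, 9644), (9645, 13918), (9646, 9646), (9647, 9647), (9648, 9633), (9649, 7433), (9650, 9650), (9651, 13926), (9652, 9652), (9653, 9640), (9654, 10532), (9655, 10487), (9656, 12356), (9657, 5953), (9658, 10733), (9659, 12365), (9660, 13930), (9661, 5956), (9662,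 8482), (9663, 12401)]
    ⟨e3 q9600 L187951 q13845, e3 q9601 (flp_c L160346) q10157, e3 q9602 (flp_c L156619) q5919, e3 q9603 (flp_c L187967) q13848, e3 q9604 L156633 q5921, e3 q9605 L156637 q5922, e3 q9606 (flp_c L187979) q13850, e3 q9607 (flp_c L187991) q13852, e3 q9608 L188013 q13856, e3 q9609 L188025 q13858, e3 q9610 (flp_c L156661) q5924, e3 q9611 L188049 q13862, e3 q9612 L156675 q5926, e3 q9613 (flp_c L167744) q11087, e3 q9614 L188071 q13866, e3 q9615 (flp_c L156693) q5927, e3 q9616 (flp_c L188087) q13868, e3 q9617 (flp_c L156709) q6366, e3 q9618 (flp_c L156713) q5928, e3 q9619 (flp_c L188109) q13871, e3 q9620 (flp_c L188117) q13872, e3 q9621 (flp_c L188097) q13869, e3 q9622 L188143 q13875, e3 q9623 L156747 q5930, e3 q9624 (flp_c L156753) q5931, e3 q9625 (flp_c L188205) q13880, e3 q9626 (flp_c L188209) q13881, e3 q9627 L156770 q5933, e3 q9628 L188231 q13885, e3 q9629 L156784 q6360, e3 q9630 L188273 q13891, e3 q9631 L156877 q6357, e3 q9632 L156884 q6361, e3 q9633 (flp_c L156975) q9648, e3 q9634 (flp_c L187855)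 q13830, e3 q9635 L156899 q5937, e3 q9636 L156906 q6340, e3 q9637 L188339 q13904, e3 q9638 L156916 q6341, e3 q9639 L156922 q6338, e3 q9640 (flp_c L157012) q9653, e3 q9641 (flp_c L188201) q13879, e3 q9642 L156938 q5941, e3 q9643 L156949 q7437, e3 q9644 L156953 q9644, e3 q9645 L188432 q13918, e3 q9646 L156962 q9646, e3 q9647 L156968 q9647, e3 q9648 L156975 q9633, e3 q9649 L156986 q7433, e3 q9650 L156990 q9650, e3 q9651 L188514 q13926, e3 q9652 L156999 q9652, e3 q9653 L157012 q9640, e3 q9654 (flp_c L162772) q10532, e3 q9655 (flp_c L162490) q10487, e3 q9656 L176418 q12356, e3 q9657 (flp_c L157047) q5953, e3 q9658 (flp_c L165234) q10733, e3 q9659 (flp_c L176488) q12365, e3 q9660 L188563 q13930, e3 q9661 L157095 q5956, e3 q9662 L162895 q8482, e3 q9663 L176831 q12401, trivial⟩ (by decide +kernel)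

theorem ce_c_151 : ∀ r, r < 64 → sm gc (Qf (9664 + r)) = Qf (tab Gen.c (9664 + r)) :=
  edges_tab (sm gc) Qf (tab Gen.c) 9664 [(9664, 5958), (9665, 10648), (9666, 12406), (9667, 13933), (9668, 5961), (9669, 8490), (9670, 9088), (9671, 8220), (9672, 8221), (9673, 12492), (9674, 13937), (9675, 5967), (9676, 12430), (9677, 11828), (9678, 5968), (9679, 12426), (9680, 5970), (9681, 13942), (9682, 5971), (9683, 13945), (9684, 13943), (9685, 13949), (9686, 5973), (9687, 5974), (9688, 13954), (9689, 13955), (9690, 5976), (9691, 12166), (9692, 9144), (9693, 8222), (9694, 8223), (9695, 12456), (9696, 13961), (9697, 5982), (9698, 12416), (9699, 12040), (9700, 5983), (9701, 12471), (9702, 5985), (9703, 13944), (9704, 5986), (9705, 13966), (9706, 13965), (9707, 13970), (9708, 5988), (9709, 5989), (9710, 13940), (9711, 13975), (9712, 5991), (9713, 11963), (9714, 6789), (9715, 13979), (9716, 6000), (9717, 11878), (9718, 12497), (9719, 6001), (9720, 13981), (9721, 6003), (9722, 6713), (9723, 13983), (9724, 6006), (9725, 12087),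 (9726, 12463), (9727, 6007)]
    ⟨e3 q9664 (flp_c L157113) q5958, e3 q9665 (flp_c L164623) q10648, e3 q9666 (flp_c L176869) q12406, e3 q9667 L188585 q13933, e3 q9668 L157141 q5961, e3 q9669 (flp_c L162901) q8490, e3 q9670 L157157 q9088, e3 q9671 L157169 q8220, e3 q9672 L157175 q8221, e3 q9673 (flp_c L177527) q12492, e3 q9674 L188615 q13937, e3 q9675 (flp_c L157189) q5967, e3 q9676 L177079 q12430, e3 q9677 L172565 q11828, e3 q9678 (flp_c L157199) q5968, e3 q9679 L177043 q12426, e3 q9680 L157211 q5970, e3 q9681 L188659 q13942, e3 q9682 (flp_c L157217) q5971, e3 q9683 (flp_c L188683) q13945, e3 q9684 (flp_c L188669) q13943, e3 q9685 L188697 q13949, e3 q9686 L157237 q5973, e3 q9687 (flp_c L157241) q5974, e3 q9688 (flp_c L188731) q13954, e3 q9689 (flp_c L188739) q13955, e3 q9690 L157255 q5976, e3 q9691 (flp_c L175027) q12166, e3 q9692 L157267 q9144, e3 q9693 L157279 q8222, e3 q9694 L157285 q8223, e3 q9695 (flp_c L177252) q12456, e3 q9696 L188779 q13961, e3 q9697 (flp_c L157299) q5982, e3 q9698 L176955 q12416, e3 q9699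 (flp_c L174076) q12040, e3 q9700 (flp_c L157309) q5983, e3 q9701 (flp_c L177378) q12471, e3 q9702 L157321 q5985, e3 q9703 L188677 q13944, e3 q9704 (flp_c L157329) q5986, e3 q9705 (flp_c L188821) q13966, e3 q9706 (flp_c L188815) q13965, e3 q9707 L188835 q13970, e3 q9708 L157349 q5988, e3 q9709 (flp_c L157353) q5989, e3 q9710 (flp_c L188641) q13940, e3 q9711 (flp_c L188881) q13975, e3 q9712 L157367 q5991, e3 q9713 (flp_c L173520) q11963, e3 q9714 L157383 q6789, e3 q9715 L188917 q13979, e3 q9716 (flp_c L157411) q6000, e3 q9717 L172891 q11878, e3 q9718 (flp_c L177581) q12497, e3 q9719 (flp_c L157433) q6001, e3 q9720 (flp_c L188935) q13981, e3 q9721 L157455 q6003, e3 q9722 L157465 q6713, e3 q9723 L188955 q13983, e3 q9724 (flp_c L157493) q6006, e3 q9725 L174386 q12087, e3 q9726 (flp_c L177318) q12463, e3 q9727 (flp_c L157515) q6007, trivial⟩ (by decide +kernel)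

theorem ce_c_152 : ∀ r, r < 64 → sm gc (Qf (9728 + r)) = Qf (tab Gen.c (9728 + r)) :=
  edges_tab (sm gc) Qf (tab Gen.c) 9728 [(9728, 13985), (9729, 6009), (9730, 6790), (9731, 6786), (9732, 8615), (9733, 10802), (9734, 6014), (9735, 10804), (9736, 13988), (9737, 6016), (9738, 12806), (9739, 6018), (9740, 9210), (9741, 9211), (9742, 6020), (9743, 13993), (9744, 9817), (9745, 6022), (9746, 6023), (9747, 14002), (9748, 14003), (9749, 9472), (9750, 6714), (9751, 6711), (9752, 8620), (9753, 10721), (9754, 6030), (9755, 10723), (9756, 14007), (9757, 6032), (9758, 12781), (9759, 6034), (9760, 9246), (9761, 9247), (9762, 6036), (9763, 14012), (9764, 9870), (9765, 6038), (9766, 6039), (9767, 14021), (9768, 14022), (9769, 9467), (9770, 10379), (9771, 10380), (9772, 10408), (9773, 6048), (9774, 12517), (9775, 14028), (9776, 6050), (9777, 11951), (9778, 10374), (9779, 14031), (9780, 6053), (9781, 14034), (9782, 6056), (9783, 12253), (9784, 12516), (9785, 13303), (9786, 14038), (9787, 6058), (9788, 14040), (9789, 11973), (9790,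 6059), (9791, 14043)]
    ⟨e3 q9728 (flp_c L188973) q13985, e3 q9729 L157537 q6009, e3 q9730 L157543 q6790, e3 q9731 L157553 q6786, e3 q9732 L157561 q8615, e3 q9733 (flp_c L165760) q10802, e3 q9734 (flp_c L157573) q6014, e3 q9735 (flp_c L165776) q10804, e3 q9736 L189003 q13988, e3 q9737 (flp_c L157591) q6016, e3 q9738 L180065 q12806, e3 q9739 L157607 q6018, e3 q9740 L157621 q9210, e3 q9741 L157625 q9211, e3 q9742 (flp_c L157637) q6020, e3 q9743 (flp_c L189039) q13993, e3 q9744 L158071 q9817, e3 q9745 L157653 q6022, e3 q9746 (flp_c L157657) q6023, e3 q9747 (flp_c L189087) q14002, e3 q9748 (flp_c L189093) q14003, e3 q9749 L157667 q9472, e3 q9750 L157675 q6714, e3 q9751 L157685 q6711, e3 q9752 L157693 q8620, e3 q9753 (flp_c L165126) q10721, e3 q9754 (flp_c L157705) q6030, e3 q9755 (flp_c L165140) q10723, e3 q9756 L189125 q14007, e3 q9757 (flp_c L157725) q6032, e3 q9758 L179847 q12781, e3 q9759 L157741 q6034, e3 q9760 L157755 q9246, e3 q9761 L157759 q9247, e3 q9762 (flp_c L157771) q6036, e3 q9763 (flp_c L189161) q14012,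 e3 q9764 L158371 q9870, e3 q9765 L157787 q6038, e3 q9766 (flp_c L157791) q6039, e3 q9767 (flp_c L189209) q14021, e3 q9768 (flp_c L189215) q14022, e3 q9769 L157801 q9467, e3 q9770 (flp_c L161776) q10379, e3 q9771 (flp_c L161782) q10380, e3 q9772 (flp_c L161984) q10408, e3 q9773 L157829 q6048, e3 q9774 (flp_c L177725) q12517, e3 q9775 L189267 q14028, e3 q9776 (flp_c L157843) q6050, e3 q9777 L173409 q11951, e3 q9778 (flp_c L161754) q10374, e3 q9779 L189303 q14031, e3 q9780 L157863 q6053, e3 q9781 L189323 q14034, e3 q9782 L157877 q6056, e3 q9783 (flp_c L175635) q12253, e3 q9784 (flp_c L177715) q12516, e3 q9785 (flp_c L183563) q13303, e3 q9786 L189349 q14038, e3 q9787 (flp_c L157905) q6058, e3 q9788 (flp_c L189365) q14040, e3 q9789 (flp_c L173595) q11973, e3 q9790 (flp_c L157921) q6059, e3 q9791 (flp_c L189389) q14043, trivial⟩ (by decide +kernel)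

theorem ce_c_153 : ∀ r, r < 64 → sm gc (Qf (9792 + r)) = Qf (tab Gen.c (9792 + r)) :=
  edges_tab (sm gc) Qf (tab Gen.c) 9792 [(9792, 14044), (9793, 14042), (9794, 14049), (9795, 6061), (9796, 14052), (9797, 14053), (9798, 11743), (9799, 11752), (9800, 6064), (9801, 7557), (9802, 6066), (9803, 7555), (9804, 6071), (9805, 12790), (9806, 6069), (9807, 6070), (9808, 6555), (9809, 14064), (9810, 14057), (9811, 11825), (9812, 6072), (9813, 14069), (9814, 10448), (9815, 7547), (9816, 6125), (9817, 9744), (9818, 6076), (9819, 10194), (9820, 10441), (9821, 14079), (9822, 11922), (9823, 6079), (9824, 14081), (9825, 10413), (9826, 10414), (9827, 6086), (9828, 12520), (9829, 14085), (9830, 6088), (9831, 12154), (9832, 14088), (9833, 6091), (9834, 14091), (9835, 6094), (9836, 12312), (9837, 12519), (9838, 13363), (9839, 14095), (9840, 6096), (9841, 14055), (9842, 11966), (9843, 6097), (9844, 14099), (9845, 14100), (9846, 14098), (9847, 14103), (9848, 6099), (9849, 14106), (9850, 14107), (9851, 11785), (9852, 11795), (9853,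 6102), (9854, 7603), (9855, 6104)]
    ⟨e3 q9792 (flp_c L189397) q14044, e3 q9793 (flp_c L189383) q14042, e3 q9794 L189425 q14049, e3 q9795 (flp_c L157941) q6061, e3 q9796 (flp_c L189459) q14052, e3 q9797 (flp_c L189467) q14053, e3 q9798 (flp_c L171964) q11743, e3 q9799 (flp_c L172017) q11752, e3 q9800 (flp_c L157963) q6064, e3 q9801 L157975 q7557, e3 q9802 L157985 q6066, e3 q9803 L157995 q7555, e3 q9804 L158001 q6071, e3 q9805 L183911 q12790, e3 q9806 L158013 q6069, e3 q9807 L158019 q6070, e3 q9808 L158023 q6555, e3 q9809 L189543 q14064, e3 q9810 (flp_c L189501) q14057, e3 q9811 L172517 q11825, e3 q9812 (flp_c L158033) q6072, e3 q9813 (flp_c L189583) q14069, e3 q9814 L175480 q10448, e3 q9815 L158053 q7547, e3 q9816 L158065 q6125, e3 q9817 (flp_c L158071) q9744, e3 q9818 L158075 q6076, e3 q9819 L175482 q10194, e3 q9820 L175458 q10441, e3 q9821 L189650 q14079, e3 q9822 (flp_c L173230) q11922, e3 q9823 (flp_c L158105) q6079, e3 q9824 (flp_c L189663) q14081, e3 q9825 (flp_c L162006) q10413, e3 q9826 (flp_c L162012)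 q10414, e3 q9827 L158135 q6086, e3 q9828 (flp_c L177751) q12520, e3 q9829 L189699 q14085, e3 q9830 (flp_c L158149) q6088, e3 q9831 L174962 q12154, e3 q9832 L189735 q14088, e3 q9833 L158161 q6091, e3 q9834 L189755 q14091, e3 q9835 L158175 q6094, e3 q9836 (flp_c L176029) q12312, e3 q9837 (flp_c L177741) q12519, e3 q9838 (flp_c L184017) q13363, e3 q9839 L189783 q14095, e3 q9840 (flp_c L158203) q6096, e3 q9841 (flp_c L189485) q14055, e3 q9842 (flp_c L173536) q11966, e3 q9843 (flp_c L158219) q6097, e3 q9844 (flp_c L189823) q14099, e3 q9845 (flp_c L189829) q14100, e3 q9846 (flp_c L189815) q14098, e3 q9847 L189857 q14103, e3 q9848 (flp_c L158239) q6099, e3 q9849 (flp_c L189891) q14106, e3 q9850 (flp_c L189899) q14107, e3 q9851 (flp_c L172259) q11785, e3 q9852 (flp_c L172322) q11795, e3 q9853 (flp_c L158261) q6102, e3 q9854 L158273 q7603, e3 q9855 L158283 q6104, trivial⟩ (by decide +kernel)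

theorem ce_c_154 : ∀ r, r < 64 → sm gc (Qf (9856 + r)) = Qf (tab Gen.c (9856 + r)) :=
  edges_tab (sm gc) Qf (tab Gen.c) 9856 [(9856, 7600), (9857, 6109), (9858, 12765), (9859, 6107), (9860, 6108), (9861, 6594), (9862, 14117), (9863, 12037), (9864, 14110), (9865, 6110), (9866, 14120), (9867, 10497), (9868, 7592), (9869, 6134), (9870, 9764), (9871, 6114), (9872, 10228), (9873, 10491), (9874, 14130), (9875, 12128), (9876, 6117), (9877, 14132), (9878, 14113), (9879, 6557), (9880, 6588), (9881, 6595), (9882, 10205), (9883, 6556), (9884, 6596), (9885, 14071), (9886, 14073), (9887, 6549), (9888, 14074), (9889, 14060), (9890, 6550), (9891, 10239), (9892, 14122), (9893, 14124), (9894, 14125), (9895, 6591), (9896, 6136), (9897, 14153), (9898, 12759), (9899, 10599), (9900, 6139), (9901, 6141), (9902, 8389), (9903, 14156), (9904, 8496), (9905, 14160), (9906, 14164), (9907, 8571), (9908, 6145), (9909, 14168), (9910, 6552), (9911, 14169), (9912, 8574), (9913, 6149), (9914, 14174), (9915, 12784), (9916, 10544), (9917, 6152),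 (9918, 6153), (9919, 14177)]
    ⟨e3 q9856 L158293 q7600, e3 q9857 L158301 q6109, e3 q9858 L183427 q12765, e3 q9859 L158313 q6107, e3 q9860 L158319 q6108, e3 q9861 L158323 q6594, e3 q9862 L189979 q14117, e3 q9863 L173972 q12037, e3 q9864 (flp_c L189925) q14110, e3 q9865 (flp_c L158333) q6110, e3 q9866 (flp_c L190009) q14120, e3 q9867 (flp_c L163806) q10497, e3 q9868 L158353 q7592, e3 q9869 L158365 q6134, e3 q9870 (flp_c L158371) q9764, e3 q9871 L158375 q6114, e3 q9872 (flp_c L163808) q10228, e3 q9873 (flp_c L163810) q10491, e3 q9874 L190076 q14130, e3 q9875 (flp_c L174749) q12128, e3 q9876 (flp_c L158405) q6117, e3 q9877 (flp_c L190091) q14132, e3 q9878 (flp_c L189945) q14113, e3 q9879 (flp_c L158421) q6557, e3 q9880 L158429 q6588, e3 q9881 L158435 q6595, e3 q9882 (flp_c L160646) q10205, e3 q9883 L158451 q6556, e3 q9884 L158461 q6596, e3 q9885 (flp_c L189595) q14071, e3 q9886 (flp_c L189617) q14073, e3 q9887 L175493 q6549, e3 q9888 (flp_c L189625) q14074, e3 q9889 (flp_c L189521) q14060, e3 q9890 L158492 q6550,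 e3 q9891 (flp_c L160838) q10239, e3 q9892 (flp_c L190021) q14122, e3 q9893 (flp_c L190043) q14124, e3 q9894 (flp_c L190051) q14125, e3 q9895 L163804 q6591, e3 q9896 (flp_c L158523) q6136, e3 q9897 (flp_c L190255) q14153, e3 q9898 (flp_c L179659) q12759, e3 q9899 (flp_c L164226) q10599, e3 q9900 L158561 q6139, e3 q9901 L158567 q6141, e3 q9902 L158573 q8389, e3 q9903 (flp_c L190275) q14156, e3 q9904 L158593 q8496, e3 q9905 L190301 q14160, e3 q9906 L190323 q14164, e3 q9907 L158609 q8571, e3 q9908 (flp_c L158617) q6145, e3 q9909 (flp_c L190367) q14168, e3 q9910 L158631 q6552, e3 q9911 (flp_c L190373) q14169, e3 q9912 L158644 q8574, e3 q9913 (flp_c L158650) q6149, e3 q9914 (flp_c L190421) q14174, e3 q9915 (flp_c L179877) q12784, e3 q9916 (flp_c L162879) q10544, e3 q9917 L158688 q6152, e3 q9918 L158694 q6153, e3 q9919 (flp_c L190441) q14177, trivial⟩ (by decide +kernel)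

theorem ce_c_155 : ∀ r, r < 64 → sm gc (Qf (9920 + r)) = Qf (tab Gen.c (9920 + r)) :=
  edges_tab (sm gc) Qf (tab Gen.c) 9920 [(9920, 8408), (9921, 8525), (9922, 14181), (9923, 14185), (9924, 8580), (9925, 6158), (9926, 14189), (9927, 14190), (9928, 6590), (9929, 8583), (9930, 6162), (9931, 14196), (9932, 6163), (9933, 14198), (9934, 6164), (9935, 14200), (9936, 14202), (9937, 6166), (9938, 14204), (9939, 14206), (9940, 12171), (9941, 6169), (9942, 11969), (9943, 6171), (9944, 6933), (9945, 12503), (9946, 12504), (9947, 14209), (9948, 12505), (9949, 14211), (9950, 12506), (9951, 14213), (9952, 6175), (9953, 14216), (9954, 14217), (9955, 6176), (9956, 14220), (9957, 10922), (9958, 6177), (9959, 14222), (9960, 14199), (9961, 6179), (9962, 14226), (9963, 10933), (9964, 6180), (9965, 14228), (9966, 14203), (9967, 6182), (9968, 14232), (9969, 9375), (9970, 6185), (9971, 9378), (9972, 6189), (9973, 6192), (9974, 14237), (9975, 14239), (9976, 6193), (9977, 6195), (9978, 14241), (9979, 14243), (9980, 6196), (9981, 6197),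 (9982, 14246), (9983, 14247)]
    ⟨e3 q9920 L158708 q8408, e3 q9921 L158720 q8525, e3 q9922 L190467 q14181, e3 q9923 L190519 q14185, e3 q9924 L158736 q8580, e3 q9925 (flp_c L158744) q6158, e3 q9926 (flp_c L190563) q14189, e3 q9927 (flp_c L190569) q14190, e3 q9928 L158762 q6590, e3 q9929 L158771 q8583, e3 q9930 (flp_c L158777) q6162, e3 q9931 (flp_c L190621) q14196, e3 q9932 (flp_c L158791) q6163, e3 q9933 (flp_c L190635) q14198, e3 q9934 (flp_c L158805) q6164, e3 q9935 (flp_c L190647) q14200, e3 q9936 L190663 q14202, e3 q9937 (flp_c L158823) q6166, e3 q9938 (flp_c L190677) q14204, e3 q9939 L190693 q14206, e3 q9940 (flp_c L175071) q12171, e3 q9941 (flp_c L158851) q6169, e3 q9942 (flp_c L173564) q11969, e3 q9943 (flp_c L158865) q6171, e3 q9944 L158874 q6933, e3 q9945 (flp_c L177625) q12503, e3 q9946 (flp_c L177635) q12504, e3 q9947 L190703 q14209, e3 q9948 (flp_c L177643) q12505, e3 q9949 L190717 q14211, e3 q9950 (flp_c L177655) q12506, e3 q9951 L190731 q14213, e3 q9952 (flp_c L158931) q6175, e3 q9953 (flp_c L190752)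 q14216, e3 q9954 L190758 q14217, e3 q9955 (flp_c L158950) q6176, e3 q9956 (flp_c L190779) q14220, e3 q9957 (flp_c L166682) q10922, e3 q9958 (flp_c L158973) q6177, e3 q9959 (flp_c L190793) q14222, e3 q9960 (flp_c L190643) q14199, e3 q9961 L158993 q6179, e3 q9962 (flp_c L190815) q14226, e3 q9963 (flp_c L166750) q10933, e3 q9964 (flp_c L159017) q6180, e3 q9965 (flp_c L190829) q14228, e3 q9966 (flp_c L190673) q14203, e3 q9967 L159037 q6182, e3 q9968 (flp_c L190851) q14232, e3 q9969 L159057 q9375, e3 q9970 (flp_c L159065) q6185, e3 q9971 L159075 q9378, e3 q9972 (flp_c L159083) q6189, e3 q9973 L159210 q6192, e3 q9974 L190877 q14237, e3 q9975 L190896 q14239, e3 q9976 (flp_c L159121) q6193, e3 q9977 L167033 q6195, e3 q9978 L190908 q14241, e3 q9979 L190927 q14243, e3 q9980 (flp_c L159159) q6196, e3 q9981 (flp_c L159165) q6197, e3 q9982 (flp_c L190945) q14246, e3 q9983 (flp_c L190951) q14247, trivial⟩ (by decide +kernel)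

theorem ce_c_156 : ∀ r, r < 64 → sm gc (Qf (9984 + r)) = Qf (tab Gen.c (9984 + r)) :=
  edges_tab (sm gc) Qf (tab Gen.c) 9984 [(9984, 10134), (9985, 10029), (9986, 6199), (9987, 14250), (9988, 14251), (9989, 14253), (9990, 6201), (9991, 14255), (9992, 14256), (9993, 6202), (9994, 14259), (9995, 14260), (9996, 6204), (9997, 14264), (9998, 6205), (9999, 14266), (10000, 14267), (10001, 10167), (10002, 10063), (10003, 6207), (10004, 14270), (10005, 14271), (10006, 14273), (10007, 6209), (10008, 14275), (10009, 14276), (10010, 6210), (10011, 14279), (10012, 14280), (10013, 6212), (10014, 14284), (10015, 6213), (10016, 6217), (10017, 14288), (10018, 6215), (10019, 6216), (10020, 14292), (10021, 14294), (10022, 10024), (10023, 14297), (10024, 10022), (10025, 14287), (10026, 6218), (10027, 14303), (10028, 13725), (10029, 9985), (10030, 6220), (10031, 6221), (10032, 14310), (10033, 14314), (10034, 14317), (10035, 6222), (10036, 14319), (10037, 14321), (10038, 6223), (10039, 14324), (10040, 6225), (10041, 6226), (10042,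 14327), (10043, 14332), (10044, 6228), (10045, 6229), (10046, 8535), (10047, 14336)]
    ⟨e3 q9984 (flp_c L160200) q10134, e3 q9985 L159517 q10029, e3 q9986 (flp_c L159203) q6199, e3 q9987 (flp_c L190983) q14250, e3 q9988 (flp_c L190993) q14251, e3 q9989 L191013 q14253, e3 q9990 (flp_c L159245) q6201, e3 q9991 (flp_c L191029) q14255, e3 q9992 L191033 q14256, e3 q9993 (flp_c L159265) q6202, e3 q9994 (flp_c L191051) q14259, e3 q9995 L191057 q14260, e3 q9996 L159287 q6204, e3 q9997 (flp_c L191077) q14264, e3 q9998 (flp_c L159301) q6205, e3 q9999 (flp_c L191089) q14266, e3 q10000 (flp_c L191095) q14267, e3 q10001 (flp_c L160430) q10167, e3 q10002 L159717 q10063, e3 q10003 (flp_c L159339) q6207, e3 q10004 (flp_c L191127) q14270, e3 q10005 (flp_c L191137) q14271, e3 q10006 L191157 q14273, e3 q10007 (flp_c L159367) q6209, e3 q10008 (flp_c L191173) q14275, e3 q10009 L191177 q14276, e3 q10010 (flp_c L159387) q6210, e3 q10011 (flp_c L191195) q14279, e3 q10012 L191201 q14280, e3 q10013 L159409 q6212, e3 q10014 (flp_c L191221)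 q14284, e3 q10015 (flp_c L159423) q6213, e3 q10016 L159435 q6217, e3 q10017 L191251 q14288, e3 q10018 L159441 q6215, e3 q10019 L159447 q6216, e3 q10020 (flp_c L191271) q14292, e3 q10021 (flp_c L191289) q14294, e3 q10022 (flp_c L159483) q10024, e3 q10023 L191309 q14297, e3 q10024 L159483 q10022, e3 q10025 (flp_c L191245) q14287, e3 q10026 (flp_c L159493) q6218, e3 q10027 (flp_c L191353) q14303, e3 q10028 (flp_c L187057) q13725, e3 q10029 (flp_c L159517) q9985, e3 q10030 L159521 q6220, e3 q10031 L159527 q6221, e3 q10032 (flp_c L191393) q14310, e3 q10033 L191409 q14314, e3 q10034 L191423 q14317, e3 q10035 (flp_c L159543) q6222, e3 q10036 (flp_c L191447) q14319, e3 q10037 L191463 q14321, e3 q10038 (flp_c L159561) q6223, e3 q10039 L191487 q14324, e3 q10040 L159575 q6225, e3 q10041 (flp_c L159579) q6226, e3 q10042 (flp_c L191513) q14327, e3 q10043 L191543 q14332, e3 q10044 L159597 q6228, e3 q10045 (flp_c L159603) q6229, e3 q10046 L163262 q8535, e3 q10047 (flp_c L191581) q14336, trivial⟩ (by decide +kernel)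

theorem ce_c_157 : ∀ r, r < 64 → sm gc (Qf (10048 + r)) = Qf (tab Gen.c (10048 + r)) :=
  edges_tab (sm gc) Qf (tab Gen.c) 10048 [(10048, 6231), (10049, 6232), (10050, 6236), (10051, 14343), (10052, 6234), (10053, 6235), (10054, 14348), (10055, 14349), (10056, 10059), (10057, 14352), (10058, 14342), (10059, 10056), (10060, 6237), (10061, 14358), (10062, 13750), (10063, 10002), (10064, 6239), (10065, 6240), (10066, 14365), (10067, 14369), (10068, 14372), (10069, 6241), (10070, 14374), (10071, 14376), (10072, 6242), (10073, 14379), (10074, 6244), (10075, 6245), (10076, 14382), (10077, 14387), (10078, 6247), (10079, 6248), (10080, 8506), (10081, 14391), (10082, 6250), (10083, 8244), (10084, 14395), (10085, 8228), (10086, 10135), (10087, 14397), (10088, 14398), (10089, 6256), (10090, 14400), (10091, 10091), (10092, 6258), (10093, 6259), (10094, 14406), (10095, 14409), (10096, 14308), (10097, 11237), (10098, 14414), (10099, 12888), (10100, 6262), (10101, 14415), (10102, 14417), (10103, 8232), (10104, 8247), (10105,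 10168), (10106, 14419), (10107, 14420), (10108, 6268), (10109, 14422), (10110, 10110), (10111, 6270)]
    ⟨e3 q10048 L159617 q6231, e3 q10049 (flp_c L159623) q6232, e3 q10050 L159635 q6236, e3 q10051 L191634 q14343, e3 q10052 L159641 q6234, e3 q10053 L159647 q6235, e3 q10054 (flp_c L191660) q14348, e3 q10055 (flp_c L191670) q14349, e3 q10056 (flp_c L159687) q10059, e3 q10057 L191692 q14352, e3 q10058 (flp_c L191628) q14342, e3 q10059 L159687 q10056, e3 q10060 (flp_c L159693) q6237, e3 q10061 (flp_c L191736) q14358, e3 q10062 (flp_c L187241) q13750, e3 q10063 (flp_c L159717) q10002, e3 q10064 L159721 q6239, e3 q10065 L159727 q6240, e3 q10066 (flp_c L191774) q14365, e3 q10067 L191790 q14369, e3 q10068 L191804 q14372, e3 q10069 (flp_c L159743) q6241, e3 q10070 (flp_c L191828) q14374, e3 q10071 L191844 q14376, e3 q10072 (flp_c L159761) q6242, e3 q10073 L191868 q14379, e3 q10074 L159775 q6244, e3 q10075 (flp_c L159779) q6245, e3 q10076 (flp_c L191894) q14382, e3 q10077 L191924 q14387, e3 q10078 L159797 q6247, e3 q10079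 (flp_c L159803) q6248, e3 q10080 (flp_c L163459) q8506, e3 q10081 (flp_c L191962) q14391, e3 q10082 L159817 q6250, e3 q10083 L159825 q8244, e3 q10084 L191991 q14395, e3 q10085 L159849 q8228, e3 q10086 (flp_c L160206) q10135, e3 q10087 L192007 q14397, e3 q10088 L192013 q14398, e3 q10089 (flp_c L159875) q6256, e3 q10090 (flp_c L192027) q14400, e3 q10091 L159891 q10091, e3 q10092 L159894 q6258, e3 q10093 L159898 q6259, e3 q10094 (flp_c L192067) q14406, e3 q10095 L192082 q14409, e3 q10096 (flp_c L191381) q14308, e3 q10097 (flp_c L168674) q11237, e3 q10098 L192115 q14414, e3 q10099 L180681 q12888, e3 q10100 (flp_c L159940) q6262, e3 q10101 (flp_c L192123) q14415, e3 q10102 L192137 q14417, e3 q10103 L159964 q8232, e3 q10104 L159976 q8247, e3 q10105 (flp_c L160436) q10168, e3 q10106 L192153 q14419, e3 q10107 L192159 q14420, e3 q10108 (flp_c L160004) q6268, e3 q10109 (flp_c L192173) q14422, e3 q10110 L160020 q10110, e3 q10111 L160023 q6270, trivial⟩ (by decide +kernel)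

theorem ce_c_158 : ∀ r, r < 64 → sm gc (Qf (10112 + r)) = Qf (tab Gen.c (10112 + r)) :=
  edges_tab (sm gc) Qf (tab Gen.c) 10112 [(10112, 6271), (10113, 14428), (10114, 14431), (10115, 14363), (10116, 11168), (10117, 14436), (10118, 12876), (10119, 6274), (10120, 14437), (10121, 8706), (10122, 8641), (10123, 8707), (10124, 9563), (10125, 8703), (10126, 6284), (10127, 6285), (10128, 14446), (10129, 14450), (10130, 9556), (10131, 6286), (10132, 13641), (10133, 14454), (10134, 9984), (10135, 10086), (10136, 14458), (10137, 6293), (10138, 14463), (10139, 6295), (10140, 14466), (10141, 14461), (10142, 14469), (10143, 6294), (10144, 14471), (10145, 14474), (10146, 13454), (10147, 14479), (10148, 14482), (10149, 6298), (10150, 14484), (10151, 6299), (10152, 6301), (10153, 10678), (10154, 8751), (10155, 8752), (10156, 8657), (10157, 9601), (10158, 8748), (10159, 6311), (10160, 6312), (10161, 14495), (10162, 14499), (10163, 9593), (10164, 6313), (10165, 13632), (10166, 14503), (10167, 10001), (10168, 10105), (10169, 14507),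 (10170, 6320), (10171, 14512), (10172, 6322), (10173, 14515), (10174, 14510), (10175, 14518)]
    ⟨e3 q10112 L160027 q6271, e3 q10113 (flp_c L192213) q14428, e3 q10114 L192228 q14431, e3 q10115 (flp_c L191762) q14363, e3 q10116 (flp_c L168254) q11168, e3 q10117 L192261 q14436, e3 q10118 L180613 q12876, e3 q10119 (flp_c L160070) q6274, e3 q10120 (flp_c L192269) q14437, e3 q10121 L160088 q8706, e3 q10122 L160098 q8641, e3 q10123 L160108 q8707, e3 q10124 L160116 q9563, e3 q10125 L160126 q8703, e3 q10126 L160132 q6284, e3 q10127 L160138 q6285, e3 q10128 (flp_c L192335) q14446, e3 q10129 L192357 q14450, e3 q10130 (flp_c L160164) q9556, e3 q10131 (flp_c L160166) q6286, e3 q10132 L186289 q13641, e3 q10133 L192381 q14454, e3 q10134 L160200 q9984, e3 q10135 L160206 q10086, e3 q10136 L192415 q14458, e3 q10137 L160214 q6293, e3 q10138 L192441 q14463, e3 q10139 L160224 q6295, e3 q10140 L192455 q14466, e3 q10141 (flp_c L192433) q14461, e3 q10142 L192471 q14469, e3 q10143 (flp_c L160252) q6294, e3 q10144 (flp_c L192483) q14471,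 e3 q10145 L192495 q14474, e3 q10146 (flp_c L184684) q13454, e3 q10147 L192521 q14479, e3 q10148 L192543 q14482, e3 q10149 (flp_c L160278) q6298, e3 q10150 (flp_c L192561) q14484, e3 q10151 (flp_c L160290) q6299, e3 q10152 L160300 q6301, e3 q10153 (flp_c L164847) q10678, e3 q10154 L160318 q8751, e3 q10155 L160328 q8752, e3 q10156 L160336 q8657, e3 q10157 L160346 q9601, e3 q10158 L160356 q8748, e3 q10159 L160362 q6311, e3 q10160 L160368 q6312, e3 q10161 (flp_c L192645) q14495, e3 q10162 L192667 q14499, e3 q10163 (flp_c L160394) q9593, e3 q10164 (flp_c L160396) q6313, e3 q10165 L186226 q13632, e3 q10166 L192691 q14503, e3 q10167 L160430 q10001, e3 q10168 L160436 q10105, e3 q10169 L192725 q14507, e3 q10170 L160444 q6320, e3 q10171 L192751 q14512, e3 q10172 L160454 q6322, e3 q10173 L192765 q14515, e3 q10174 (flp_c L192743) q14510, e3 q10175 L192785 q14518, trivial⟩ (by decide +kernel)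

theorem ce_c_159 : ∀ r, r < 64 → sm gc (Qf (10176 + r)) = Qf (tab Gen.c (10176 + r)) :=
  edges_tab (sm gc) Qf (tab Gen.c) 10176 [(10176, 6321), (10177, 14520), (10178, 14523), (10179, 13402), (10180, 14528), (10181, 14531), (10182, 6325), (10183, 14533), (10184, 6326), (10185, 6328), (10186, 10762), (10187, 8390), (10188, 7183), (10189, 6330), (10190, 14541), (10191, 14542), (10192, 14543), (10193, 7668), (10194, 9819), (10195, 14540), (10196, 6334), (10197, 6335), (10198, 6336), (10199, 14551), (10200, 14552), (10201, 14553), (10202, 14555), (10203, 14141), (10204, 13903), (10205, 9882), (10206, 14170), (10207, 13118), (10208, 13902), (10209, 13908), (10210, 14568), (10211, 6342), (10212, 14570), (10213, 14572), (10214, 6343), (10215, 14577), (10216, 14578), (10217, 6345), (10218, 14582), (10219, 9092), (10220, 12819), (10221, 14586), (10222, 8409), (10223, 7283), (10224, 6350), (10225, 14592), (10226, 14593), (10227, 14594), (10228, 9872), (10229, 7832), (10230, 14591), (10231, 6354), (10232, 6355), (10233,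 6356), (10234, 14603), (10235, 14602), (10236, 14605), (10237, 14606), (10238, 13889), (10239, 9891)]
    ⟨e3 q10176 (flp_c L160482) q6321, e3 q10177 (flp_c L192797) q14520, e3 q10178 L192813 q14523, e3 q10179 (flp_c L184308) q13402, e3 q10180 L192843 q14528, e3 q10181 L192865 q14531, e3 q10182 (flp_c L160508) q6325, e3 q10183 (flp_c L192883) q14533, e3 q10184 (flp_c L160520) q6326, e3 q10185 L160530 q6328, e3 q10186 (flp_c L165460) q10762, e3 q10187 (flp_c L160550) q8390, e3 q10188 L160556 q7183, e3 q10189 (flp_c L160562) q6330, e3 q10190 (flp_c L192951) q14541, e3 q10191 (flp_c L192957) q14542, e3 q10192 (flp_c L192963) q14543, e3 q10193 (flp_c L160588) q7668, e3 q10194 (flp_c L175482) q9819, e3 q10195 L192945 q14540, e3 q10196 L160598 q6334, e3 q10197 L160602 q6335, e3 q10198 L160606 q6336, e3 q10199 L193015 q14551, e3 q10200 (flp_c L193029) q14552, e3 q10201 (flp_c L193035) q14553, e3 q10202 (flp_c L193045) q14555, e3 q10203 (flp_c L190151) q14141, e3 q10204 (flp_c L188335) q13903, e3 q10205 L160646 q9882, e3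 q10206 (flp_c L190381) q14170, e3 q10207 (flp_c L187819) q13118, e3 q10208 (flp_c L188325) q13902, e3 q10209 (flp_c L188366) q13908, e3 q10210 L193115 q14568, e3 q10211 (flp_c L160680) q6342, e3 q10212 (flp_c L193125) q14570, e3 q10213 L193139 q14572, e3 q10214 (flp_c L160696) q6343, e3 q10215 (flp_c L193165) q14577, e3 q10216 L193169 q14578, e3 q10217 L160712 q6345, e3 q10218 (flp_c L193189) q14582, e3 q10219 L160724 q9092, e3 q10220 L180191 q12819, e3 q10221 L193217 q14586, e3 q10222 (flp_c L160746) q8409, e3 q10223 L160752 q7283, e3 q10224 (flp_c L160758) q6350, e3 q10225 (flp_c L193265) q14592, e3 q10226 (flp_c L193271) q14593, e3 q10227 (flp_c L193277) q14594, e3 q10228 L163808 q9872, e3 q10229 (flp_c L160788) q7832, e3 q10230 L193259 q14591, e3 q10231 L160794 q6354, e3 q10232 L160798 q6355, e3 q10233 L160802 q6356, e3 q10234 (flp_c L193343) q14603, e3 q10235 L193329 q14602, e3 q10236 (flp_c L193351) q14605, e3 q10237 (flp_c L193361) q14606, e3 q10238 (flp_c L188259) q13889, e3 q10239 L160838 q9891, trivial⟩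 (by decide +kernel)

theorem ce_c_160 : ∀ r, r < 64 → sm gc (Qf (10240 + r)) = Qf (tab Gen.c (10240 + r)) :=
  edges_tab (sm gc) Qf (tab Gen.c) 10240 [(10240, 14192), (10241, 14151), (10242, 13177), (10243, 13890), (10244, 13895), (10245, 14619), (10246, 6362), (10247, 14621), (10248, 14623), (10249, 6363), (10250, 14627), (10251, 14576), (10252, 6365), (10253, 14631), (10254, 12817), (10255, 9146), (10256, 14635), (10257, 8785), (10258, 9234), (10259, 6370), (10260, 14639), (10261, 14640), (10262, 14641), (10263, 6917), (10264, 12767), (10265, 11289), (10266, 6374), (10267, 6375), (10268, 6376), (10269, 14651), (10270, 14652), (10271, 14654), (10272, 14656), (10273, 12537), (10274, 14664), (10275, 8822), (10276, 9197), (10277, 6380), (10278, 14668), (10279, 14669), (10280, 14670), (10281, 12792), (10282, 6925), (10283, 11448), (10284, 6384), (10285, 6385), (10286, 6386), (10287, 14680), (10288, 14681), (10289, 14683), (10290, 14685), (10291, 14691), (10292, 12546), (10293, 8254), (10294, 6390), (10295, 8257), (10296,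 6392), (10297, 6395), (10298, 14699), (10299, 6398), (10300, 14700), (10301, 8333), (10302, 6415), (10303, 8306)]
    ⟨e3 q10240 (flp_c L190583) q14192, e3 q10241 (flp_c L190230) q14151, e3 q10242 (flp_c L188165) q13177, e3 q10243 (flp_c L188267) q13890, e3 q10244 (flp_c L188294) q13895, e3 q10245 L193431 q14619, e3 q10246 (flp_c L160876) q6362, e3 q10247 (flp_c L193441) q14621, e3 q10248 L193455 q14623, e3 q10249 (flp_c L160892) q6363, e3 q10250 (flp_c L193475) q14627, e3 q10251 (flp_c L193159) q14576, e3 q10252 L160908 q6365, e3 q10253 (flp_c L193493) q14631, e3 q10254 L180167 q12817, e3 q10255 L160924 q9146, e3 q10256 L193521 q14635, e3 q10257 (flp_c L160942) q8785, e3 q10258 L160948 q9234, e3 q10259 (flp_c L160954) q6370, e3 q10260 (flp_c L193565) q14639, e3 q10261 (flp_c L193573) q14640, e3 q10262 (flp_c L193579) q14641, e3 q10263 L160980 q6917, e3 q10264 (flp_c L179727) q12767, e3 q10265 (flp_c L169011) q11289, e3 q10266 L160998 q6374, e3 q10267 L161002 q6375, e3 q10268 L161006 q6376, e3 q10269 (flp_c L193645)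 q14651, e3 q10270 (flp_c L193651) q14652, e3 q10271 (flp_c L193665) q14654, e3 q10272 (flp_c L193679) q14656, e3 q10273 L177880 q12537, e3 q10274 L193733 q14664, e3 q10275 (flp_c L161056) q8822, e3 q10276 L161062 q9197, e3 q10277 (flp_c L161068) q6380, e3 q10278 (flp_c L193777) q14668, e3 q10279 (flp_c L193785) q14669, e3 q10280 (flp_c L193791) q14670, e3 q10281 (flp_c L179945) q12792, e3 q10282 L161098 q6925, e3 q10283 (flp_c L170016) q11448, e3 q10284 L161112 q6384, e3 q10285 L161116 q6385, e3 q10286 L161120 q6386, e3 q10287 (flp_c L193861) q14680, e3 q10288 (flp_c L193867) q14681, e3 q10289 (flp_c L193879) q14683, e3 q10290 (flp_c L193895) q14685, e3 q10291 L193937 q14691, e3 q10292 L177945 q12546, e3 q10293 (flp_c L161170) q8254, e3 q10294 L161176 q6390, e3 q10295 (flp_c L161184) q8257, e3 q10296 L161190 q6392, e3 q10297 (flp_c L161192) q6395, e3 q10298 (flp_c L194003) q14699, e3 q10299 (flp_c L161204) q6398, e3 q10300 (flp_c L194015) q14700, e3 q10301 L161246 q8333, e3 q10302 L161258 q6415, e3 q10303 L161266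 q8306, trivial⟩ (by decide +kernel)

theorem ce_c_161 : ∀ r, r < 64 → sm gc (Qf (10304 + r)) = Qf (tab Gen.c (10304 + r)) :=
  edges_tab (sm gc) Qf (tab Gen.c) 10304 [(10304, 8332), (10305, 6410), (10306, 10406), (10307, 6411), (10308, 12605), (10309, 10313), (10310, 6413), (10311, 6919), (10312, 14707), (10313, 10309), (10314, 6419), (10315, 12490), (10316, 8178), (10317, 7854), (10318, 6421), (10319, 8174), (10320, 6423), (10321, 14711), (10322, 6424), (10323, 12322), (10324, 8478), (10325, 12376), (10326, 9446), (10327, 6429), (10328, 6460), (10329, 11836), (10330, 11833), (10331, 7666), (10332, 8477), (10333, 7607), (10334, 6434), (10335, 8488), (10336, 12395), (10337, 11960), (10338, 8341), (10339, 6445), (10340, 8312), (10341, 8340), (10342, 10440), (10343, 6441), (10344, 6442), (10345, 12612), (10346, 10350), (10347, 6444), (10348, 6927), (10349, 14726), (10350, 10346), (10351, 6450), (10352, 12454), (10353, 8143), (10354, 7689), (10355, 6452), (10356, 8139), (10357, 6454), (10358, 14730), (10359, 6455),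 (10360, 12260), (10361, 8475), (10362, 12355), (10363, 9437), (10364, 12050), (10365, 7830), (10366, 12047), (10367, 8474)]
    ⟨e3 q10304 L161272 q8332, e3 q10305 L161280 q6410, e3 q10306 (flp_c L161962) q10406, e3 q10307 L161290 q6411, e3 q10308 (flp_c L178511) q12605, e3 q10309 (flp_c L161332) q10313, e3 q10310 (flp_c L161308) q6413, e3 q10311 L161320 q6919, e3 q10312 (flp_c L194075) q14707, e3 q10313 L161332 q10309, e3 q10314 L161338 q6419, e3 q10315 (flp_c L177507) q12490, e3 q10316 L163423 q8178, e3 q10317 (flp_c L161372) q7854, e3 q10318 (flp_c L161360) q6421, e3 q10319 L163602 q8174, e3 q10320 L161384 q6423, e3 q10321 (flp_c L194111) q14711, e3 q10322 (flp_c L161394) q6424, e3 q10323 (flp_c L176101) q12322, e3 q10324 L163250 q8478, e3 q10325 (flp_c L176570) q12376, e3 q10326 L161424 q9446, e3 q10327 L161432 q6429, e3 q10328 (flp_c L163291) q6460, e3 q10329 (flp_c L172585) q11836, e3 q10330 L172563 q11833, e3 q10331 (flp_c L163403) q7666, e3 q10332 L163411 q8477, e3 q10333 L161464 q7607, e3 q10334 L161474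 q6434, e3 q10335 (flp_c L163260) q8488, e3 q10336 L176769 q12395, e3 q10337 (flp_c L173493) q11960, e3 q10338 L161497 q8341, e3 q10339 L161509 q6445, e3 q10340 L161517 q8312, e3 q10341 L161523 q8340, e3 q10342 (flp_c L162190) q10440, e3 q10343 L161533 q6441, e3 q10344 L161543 q6442, e3 q10345 (flp_c L178565) q12612, e3 q10346 (flp_c L161583) q10350, e3 q10347 (flp_c L161559) q6444, e3 q10348 L161571 q6927, e3 q10349 (flp_c L194237) q14726, e3 q10350 L161583 q10346, e3 q10351 L161589 q6450, e3 q10352 (flp_c L177232) q12454, e3 q10353 L163564 q8143, e3 q10354 L161623 q7689, e3 q10355 (flp_c L161611) q6452, e3 q10356 L163691 q8139, e3 q10357 L161635 q6454, e3 q10358 (flp_c L194273) q14730, e3 q10359 (flp_c L161645) q6455, e3 q10360 (flp_c L175685) q12260, e3 q10361 L163471 q8475, e3 q10362 (flp_c L176400) q12355, e3 q10363 L161675 q9437, e3 q10364 (flp_c L174088) q12050, e3 q10365 (flp_c L163439) q7830, e3 q10366 L174066 q12047, e3 q10367 L163477 q8474, trivial⟩ (by decide +kernel)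

theorem ce_c_162 : ∀ r, r < 64 → sm gc (Qf (10368 + r)) = Qf (tab Gen.c (10368 + r)) :=
  edges_tab (sm gc) Qf (tab Gen.c) 10368 [(10368, 7562), (10369, 6465), (10370, 8480), (10371, 12349), (10372, 12163), (10373, 14739), (10374, 9778), (10375, 14741), (10376, 14743), (10377, 6474), (10378, 6767), (10379, 9770), (10380, 9771), (10381, 6810), (10382, 6478), (10383, 6481), (10384, 14745), (10385, 6486), (10386, 14747), (10387, 6490), (10388, 10422), (10389, 8353), (10390, 8961), (10391, 10520), (10392, 10521), (10393, 12299), (10394, 13457), (10395, 12161), (10396, 6494), (10397, 14753), (10398, 7918), (10399, 6495), (10400, 14755), (10401, 9279), (10402, 6497), (10403, 14758), (10404, 7524), (10405, 6721), (10406, 10306), (10407, 14760), (10408, 9772), (10409, 14762), (10410, 14764), (10411, 6508), (10412, 6841), (10413, 9825), (10414, 9826), (10415, 6736), (10416, 6512), (10417, 6514), (10418, 14766), (10419, 6519), (10420, 14768), (10421, 6523), (10422, 10388), (10423, 8357), (10424, 9027), (10425, 10470), (10426,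 10471), (10427, 12239), (10428, 13405), (10429, 11958), (10430, 6527), (10431, 14774)]
    ⟨e3 q10368 L161715 q7562, e3 q10369 L161725 q6465, e3 q10370 L163467 q8480, e3 q10371 L176346 q12349, e3 q10372 (flp_c L175000) q12163, e3 q10373 L194357 q14739, e3 q10374 L161754 q9778, e3 q10375 L194372 q14741, e3 q10376 L194386 q14743, e3 q10377 (flp_c L161766) q6474, e3 q10378 L163604 q6767, e3 q10379 L161776 q9770, e3 q10380 L161782 q9771, e3 q10381 (flp_c L161796) q6810, e3 q10382 (flp_c L161798) q6478, e3 q10383 (flp_c L161808) q6481, e3 q10384 L194406 q14745, e3 q10385 (flp_c L161826) q6486, e3 q10386 (flp_c L194432) q14747, e3 q10387 L161848 q6490, e3 q10388 (flp_c L162092) q10422, e3 q10389 L161868 q8353, e3 q10390 (flp_c L161874) q8961, e3 q10391 (flp_c L162700) q10520, e3 q10392 (flp_c L162706) q10521, e3 q10393 L175955 q12299, e3 q10394 (flp_c L184710) q13457, e3 q10395 (flp_c L174982) q12161, e3 q10396 (flp_c L161902) q6494, e3 q10397 (flp_c L194484) q14753, e3 q10398 (flp_c L161916) q7918, e3 q10399 (flp_c L161918)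 q6495, e3 q10400 (flp_c L194506) q14755, e3 q10401 (flp_c L163608) q9279, e3 q10402 L161934 q6497, e3 q10403 (flp_c L194538) q14758, e3 q10404 L161944 q7524, e3 q10405 (flp_c L163542) q6721, e3 q10406 L161962 q10306, e3 q10407 L194550 q14760, e3 q10408 L161984 q9772, e3 q10409 L194565 q14762, e3 q10410 L194579 q14764, e3 q10411 (flp_c L161996) q6508, e3 q10412 L163693 q6841, e3 q10413 L162006 q9825, e3 q10414 L162012 q9826, e3 q10415 (flp_c L162026) q6736, e3 q10416 (flp_c L162028) q6512, e3 q10417 (flp_c L162038) q6514, e3 q10418 L194599 q14766, e3 q10419 (flp_c L162056) q6519, e3 q10420 (flp_c L194625) q14768, e3 q10421 L162080 q6523, e3 q10422 L162092 q10388, e3 q10423 L162102 q8357, e3 q10424 L162108 q9027, e3 q10425 (flp_c L162380) q10470, e3 q10426 (flp_c L162386) q10471, e3 q10427 L175557 q12239, e3 q10428 (flp_c L184334) q13405, e3 q10429 (flp_c L173475) q11958, e3 q10430 (flp_c L162134) q6527, e3 q10431 (flp_c L194677) q14774, trivial⟩ (by decide +kernel)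

theorem ce_c_163 : ∀ r, r < 64 → sm gc (Qf (10432 + r)) = Qf (tab Gen.c (10432 + r)) :=
  edges_tab (sm gc) Qf (tab Gen.c) 10432 [(10432, 7761), (10433, 6528), (10434, 14776), (10435, 9327), (10436, 6530), (10437, 14779), (10438, 7510), (10439, 6796), (10440, 10342), (10441, 9820), (10442, 6537), (10443, 6539), (10444, 10449), (10445, 14781), (10446, 14000), (10447, 7671), (10448, 9814), (10449, 10444), (10450, 6545), (10451, 6548), (10452, 12621), (10453, 12864), (10454, 14784), (10455, 14789), (10456, 9007), (10457, 9005), (10458, 14791), (10459, 14139), (10460, 13312), (10461, 14166), (10462, 14172), (10463, 13018), (10464, 14794), (10465, 14062), (10466, 14063), (10467, 14798), (10468, 6558), (10469, 14800), (10470, 10425), (10471, 10426), (10472, 14801), (10473, 6561), (10474, 13067), (10475, 6562), (10476, 13372), (10477, 13373), (10478, 14805), (10479, 6565), (10480, 14808), (10481, 6604), (10482, 6568), (10483, 13348), (10484, 13347), (10485, 13287), (10486, 9089), (10487, 9655), (10488, 14812), (10489,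 6573), (10490, 14814), (10491, 9873), (10492, 6576), (10493, 6577), (10494, 14815), (10495, 10499)]
    ⟨e3 q10432 L162802 q7761, e3 q10433 (flp_c L162146) q6528, e3 q10434 (flp_c L194699) q14776, e3 q10435 (flp_c L163764) q9327, e3 q10436 L162162 q6530, e3 q10437 (flp_c L194731) q14779, e3 q10438 L162172 q7510, e3 q10439 (flp_c L163716) q6796, e3 q10440 L162190 q10342, e3 q10441 (flp_c L175458) q9820, e3 q10442 L162212 q6537, e3 q10443 L162220 q6539, e3 q10444 L162265 q10449, e3 q10445 (flp_c L194747) q14781, e3 q10446 (flp_c L189065) q14000, e3 q10447 L162244 q7671, e3 q10448 (flp_c L175480) q9814, e3 q10449 (flp_c L162265) q10444, e3 q10450 L162269 q6545, e3 q10451 L162277 q6548, e3 q10452 (flp_c L178633) q12621, e3 q10453 (flp_c L180529) q12864, e3 q10454 (flp_c L194779) q14784, e3 q10455 L194819 q14789, e3 q10456 L162311 q9007, e3 q10457 L162323 q9005, e3 q10458 L194837 q14791, e3 q10459 (flp_c L190133) q14139, e3 q10460 (flp_c L183631) q13312, e3 q10461 (flp_c L190343) q14166, e3 q10462 (flp_c L190398) q14172,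 e3 q10463 (flp_c L181563) q13018, e3 q10464 L194865 q14794, e3 q10465 (flp_c L189533) q14062, e3 q10466 (flp_c L189539) q14063, e3 q10467 L194905 q14798, e3 q10468 (flp_c L162366) q6558, e3 q10469 (flp_c L194929) q14800, e3 q10470 L162380 q10425, e3 q10471 L162386 q10426, e3 q10472 L194939 q14801, e3 q10473 (flp_c L162394) q6561, e3 q10474 L181901 q13067, e3 q10475 (flp_c L162408) q6562, e3 q10476 (flp_c L184083) q13372, e3 q10477 (flp_c L184095) q13373, e3 q10478 L194979 q14805, e3 q10479 (flp_c L162436) q6565, e3 q10480 L194995 q14808, e3 q10481 L162456 q6604, e3 q10482 (flp_c L162462) q6568, e3 q10483 (flp_c L183917) q13348, e3 q10484 (flp_c L183901) q13347, e3 q10485 (flp_c L183401) q13287, e3 q10486 L162482 q9089, e3 q10487 L162490 q9655, e3 q10488 L195033 q14812, e3 q10489 (flp_c L162508) q6573, e3 q10490 (flp_c L195049) q14814, e3 q10491 L163810 q9873, e3 q10492 L162530 q6576, e3 q10493 L162538 q6577, e3 q10494 (flp_c L195057) q14815, e3 q10495 L162583 q10499, trivial⟩ (by decide +kernel)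

theorem ce_c_164 : ∀ r, r < 64 → sm gc (Qf (10496 + r)) = Qf (tab Gen.c (10496 + r)) :=
  edges_tab (sm gc) Qf (tab Gen.c) 10496 [(10496, 14019), (10497, 9867), (10498, 7835), (10499, 10495), (10500, 6583), (10501, 6586), (10502, 12858), (10503, 14818), (10504, 12632), (10505, 9069), (10506, 9066), (10507, 14811), (10508, 14824), (10509, 13371), (10510, 14187), (10511, 14193), (10512, 14149), (10513, 13090), (10514, 14826), (10515, 14115), (10516, 14116), (10517, 14830), (10518, 6597), (10519, 14832), (10520, 10391), (10521, 10392), (10522, 14833), (10523, 6600), (10524, 12993), (10525, 6601), (10526, 13313), (10527, 13314), (10528, 14837), (10529, 14839), (10530, 6607), (10531, 13288), (10532, 9654), (10533, 9142), (10534, 14840), (10535, 6610), (10536, 14842), (10537, 6611), (10538, 13664), (10539, 10680), (10540, 10681), (10541, 10679), (10542, 9273), (10543, 6620), (10544, 9916), (10545, 11268), (10546, 6627), (10547, 9039), (10548, 6625), (10549, 8591), (10550, 14845), (10551, 8388), (10552, 12837), (10553,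 8887), (10554, 6632), (10555, 8885), (10556, 14849), (10557, 12590), (10558, 14850), (10559, 6634)]
    ⟨e3 q10496 (flp_c L189187) q14019, e3 q10497 L163806 q9867, e3 q10498 L162569 q7835, e3 q10499 (flp_c L162583) q10495, e3 q10500 L162587 q6583, e3 q10501 L162595 q6586, e3 q10502 (flp_c L180477) q12858, e3 q10503 (flp_c L195089) q14818, e3 q10504 (flp_c L178711) q12632, e3 q10505 L162625 q9069, e3 q10506 L162637 q9066, e3 q10507 (flp_c L195025) q14811, e3 q10508 L195139 q14824, e3 q10509 (flp_c L184073) q13371, e3 q10510 (flp_c L190539) q14187, e3 q10511 (flp_c L190594) q14193, e3 q10512 (flp_c L190218) q14149, e3 q10513 (flp_c L182055) q13090, e3 q10514 L195151 q14826, e3 q10515 (flp_c L189963) q14115, e3 q10516 (flp_c L189973) q14116, e3 q10517 L195191 q14830, e3 q10518 (flp_c L162684) q6597, e3 q10519 (flp_c L195215) q14832, e3 q10520 L162700 q10391, e3 q10521 L162706 q10392, e3 q10522 L195225 q14833, e3 q10523 (flp_c L162716) q6600, e3 q10524 L181393 q12993, e3 q10525 (flp_c L162730) q6601, e3 q10526 (flp_c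 L183641) q13313, e3 q10527 (flp_c L183653) q13314, e3 q10528 L195265 q14837, e3 q10529 L195273 q14839, e3 q10530 (flp_c L162764) q6607, e3 q10531 (flp_c L183447) q13288, e3 q10532 L162772 q9654, e3 q10533 L162782 q9142, e3 q10534 L195279 q14840, e3 q10535 (flp_c L162804) q6610, e3 q10536 (flp_c L195295) q14842, e3 q10537 (flp_c L162814) q6611, e3 q10538 (flp_c L186473) q13664, e3 q10539 (flp_c L164865) q10680, e3 q10540 (flp_c L164879) q10681, e3 q10541 (flp_c L164855) q10679, e3 q10542 L162859 q9273, e3 q10543 L162869 q6620, e3 q10544 L162879 q9916, e3 q10545 (flp_c L168893) q11268, e3 q10546 L162919 q6627, e3 q10547 L162927 q9039, e3 q10548 (flp_c L162933) q6625, e3 q10549 L162945 q8591, e3 q10550 (flp_c L195326) q14845, e3 q10551 L162963 q8388, e3 q10552 (flp_c L180325) q12837, e3 q10553 L162979 q8887, e3 q10554 L162987 q6632, e3 q10555 L162995 q8885, e3 q10556 L195372 q14849, e3 q10557 L178351 q12590, e3 q10558 L195382 q14850, e3 q10559 (flp_c L163033) q6634, trivial⟩ (by decide +kernel)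

theorem ce_c_165 : ∀ r, r < 64 → sm gc (Qf (10560 + r)) = Qf (tab Gen.c (10560 + r)) :=
  edges_tab (sm gc) Qf (tab Gen.c) 10560 [(10560, 14851), (10561, 11954), (10562, 6754), (10563, 6637), (10564, 14854), (10565, 6639), (10566, 6640), (10567, 14859), (10568, 6642), (10569, 8734), (10570, 8897), (10571, 14861), (10572, 6645), (10573, 6646), (10574, 12157), (10575, 12156), (10576, 6648), (10577, 9275), (10578, 14863), (10579, 6650), (10580, 6651), (10581, 14868), (10582, 14869), (10583, 6653), (10584, 8108), (10585, 11920), (10586, 14872), (10587, 10636), (10588, 12381), (10589, 6700), (10590, 14866), (10591, 6658), (10592, 6659), (10593, 13663), (10594, 10764), (10595, 10765), (10596, 10763), (10597, 9321), (10598, 6667), (10599, 9899), (10600, 11429), (10601, 6674), (10602, 8973), (10603, 6673), (10604, 14879), (10605, 8592), (10606, 12832), (10607, 8407), (10608, 6679), (10609, 14881), (10610, 12584), (10611, 14882), (10612, 6681), (10613, 14883), (10614, 6828), (10615, 6683), (10616, 14886), (10617, 6685),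 (10618, 14890), (10619, 6687), (10620, 8779), (10621, 8891), (10622, 14892), (10623, 6690)]
    ⟨e3 q10560 (flp_c L195396) q14851, e3 q10561 L173427 q11954, e3 q10562 (flp_c L163069) q6754, e3 q10563 (flp_c L163071) q6637, e3 q10564 L195418 q14854, e3 q10565 L163085 q6639, e3 q10566 (flp_c L163087) q6640, e3 q10567 L195460 q14859, e3 q10568 (flp_c L163101) q6642, e3 q10569 L163111 q8734, e3 q10570 L163121 q8897, e3 q10571 L195472 q14861, e3 q10572 (flp_c L164015) q6645, e3 q10573 (flp_c L164019) q6646, e3 q10574 L174934 q12157, e3 q10575 (flp_c L174922) q12156, e3 q10576 L164041 q6648, e3 q10577 L164049 q9275, e3 q10578 L195484 q14863, e3 q10579 L164073 q6650, e3 q10580 (flp_c L164079) q6651, e3 q10581 (flp_c L195536) q14868, e3 q10582 (flp_c L195542) q14869, e3 q10583 L164095 q6653, e3 q10584 L164103 q8108, e3 q10585 (flp_c L173208) q11920, e3 q10586 L195562 q14872, e3 q10587 (flp_c L164526) q10636, e3 q10588 (flp_c L176624) q12381, e3 q10589 L164139 q6700, e3 q10590 (flp_c L195514) q14866, e3 q10591 L164153 q6658,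 e3 q10592 (flp_c L164159) q6659, e3 q10593 (flp_c L186459) q13663, e3 q10594 (flp_c L165478) q10764, e3 q10595 (flp_c L165492) q10765, e3 q10596 (flp_c L165468) q10763, e3 q10597 L164206 q9321, e3 q10598 L164216 q6667, e3 q10599 L164226 q9899, e3 q10600 (flp_c L169902) q11429, e3 q10601 L164250 q6674, e3 q10602 L164258 q8973, e3 q10603 (flp_c L164266) q6673, e3 q10604 (flp_c L195637) q14879, e3 q10605 L164284 q8592, e3 q10606 (flp_c L180273) q12832, e3 q10607 L164302 q8407, e3 q10608 L164312 q6679, e3 q10609 L195657 q14881, e3 q10610 L178277 q12584, e3 q10611 L195667 q14882, e3 q10612 (flp_c L164348) q6681, e3 q10613 (flp_c L195681) q14883, e3 q10614 (flp_c L164380) q6828, e3 q10615 (flp_c L164382) q6683, e3 q10616 L195703 q14886, e3 q10617 L164396 q6685, e3 q10618 L195739 q14890, e3 q10619 (flp_c L164406) q6687, e3 q10620 L164416 q8779, e3 q10621 L164426 q8891, e3 q10622 L195751 q14892, e3 q10623 (flp_c L164440) q6690, trivial⟩ (by decide +kernel)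

theorem ce_c_166 : ∀ r, r < 64 → sm gc (Qf (10624 + r)) = Qf (tab Gen.c (10624 + r)) :=
  edges_tab (sm gc) Qf (tab Gen.c) 10624 [(10624, 6691), (10625, 11953), (10626, 6693), (10627, 9267), (10628, 14894), (10629, 6695), (10630, 14897), (10631, 14898), (10632, 6697), (10633, 8064), (10634, 12126), (10635, 12335), (10636, 10587), (10637, 11841), (10638, 6703), (10639, 10790), (10640, 10794), (10641, 6704), (10642, 6843), (10643, 11962), (10644, 6705), (10645, 10783), (10646, 6707), (10647, 14905), (10648, 9665), (10649, 13494), (10650, 14775), (10651, 13493), (10652, 13680), (10653, 10689), (10654, 13501), (10655, 11957), (10656, 14908), (10657, 12439), (10658, 9299), (10659, 10688), (10660, 6725), (10661, 13504), (10662, 14910), (10663, 8661), (10664, 11959), (10665, 11961), (10666, 14915), (10667, 6730), (10668, 9163), (10669, 14773), (10670, 6732), (10671, 14917), (10672, 10791), (10673, 6733), (10674, 7730), (10675, 6735), (10676, 6738), (10677, 14922), (10678, 10153), (10679, 10541), (10680, 10539), (10681,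 10540), (10682, 13495), (10683, 6747), (10684, 13706), (10685, 9191), (10686, 13367), (10687, 8663)]
    ⟨e3 q10624 (flp_c L164444) q6691, e3 q10625 L173437 q11953, e3 q10626 L164456 q6693, e3 q10627 L164464 q9267, e3 q10628 L195763 q14894, e3 q10629 (flp_c L164482) q6695, e3 q10630 (flp_c L195793) q14897, e3 q10631 (flp_c L195799) q14898, e3 q10632 L164498 q6697, e3 q10633 L164506 q8064, e3 q10634 (flp_c L174727) q12126, e3 q10635 (flp_c L176203) q12335, e3 q10636 L164526 q10587, e3 q10637 (flp_c L172622) q11841, e3 q10638 L164541 q6703, e3 q10639 (flp_c L165680) q10790, e3 q10640 (flp_c L165702) q10794, e3 q10641 (flp_c L164557) q6704, e3 q10642 (flp_c L164566) q6843, e3 q10643 L173516 q11962, e3 q10644 (flp_c L164576) q6705, e3 q10645 (flp_c L165626) q10783, e3 q10646 (flp_c L164593) q6707, e3 q10647 (flp_c L195856) q14905, e3 q10648 L164623 q9665, e3 q10649 (flp_c L184985) q13494, e3 q10650 L194691 q14775, e3 q10651 L184981 q13493, e3 q10652 (flp_c L186631) q13680, e3 q10653 (flp_c L164951) q10689, e3 q10654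 (flp_c L185069) q13501, e3 q10655 L173467 q11957, e3 q10656 L195884 q14908, e3 q10657 L185635 q12439, e3 q10658 L164695 q9299, e3 q10659 L164939 q10688, e3 q10660 (flp_c L164709) q6725, e3 q10661 (flp_c L185099) q13504, e3 q10662 (flp_c L195902) q14910, e3 q10663 L164729 q8661, e3 q10664 (flp_c L173487) q11959, e3 q10665 (flp_c L173500) q11961, e3 q10666 L195948 q14915, e3 q10667 (flp_c L164757) q6730, e3 q10668 L175844 q9163, e3 q10669 L194673 q14773, e3 q10670 (flp_c L164773) q6732, e3 q10671 (flp_c L195968) q14917, e3 q10672 (flp_c L165688) q10791, e3 q10673 (flp_c L164795) q6733, e3 q10674 L164807 q7730, e3 q10675 L164819 q6735, e3 q10676 L164829 q6738, e3 q10677 L196015 q14922, e3 q10678 L164847 q10153, e3 q10679 L164855 q10541, e3 q10680 L164865 q10539, e3 q10681 L164879 q10540, e3 q10682 (flp_c L185001) q13495, e3 q10683 L164897 q6747, e3 q10684 (flp_c L186889) q13706, e3 q10685 L164911 q9191, e3 q10686 (flp_c L184047) q13367, e3 q10687 L164929 q8663, trivial⟩ (by decide +kernel)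

theorem ce_c_167 : ∀ r, r < 64 → sm gc (Qf (10688 + r)) = Qf (tab Gen.c (10688 + r)) :=
  edges_tab (sm gc) Qf (tab Gen.c) 10688 [(10688, 10659), (10689, 10653), (10690, 6751), (10691, 14903), (10692, 12352), (10693, 14852), (10694, 6756), (10695, 14777), (10696, 10846), (10697, 13714), (10698, 10730), (10699, 10844), (10700, 10784), (10701, 6766), (10702, 13525), (10703, 6768), (10704, 6769), (10705, 10787), (10706, 14930), (10707, 14744), (10708, 10756), (10709, 10726), (10710, 14742), (10711, 14033), (10712, 6780), (10713, 10727), (10714, 8299), (10715, 12920), (10716, 8297), (10717, 8142), (10718, 14944), (10719, 12783), (10720, 6774), (10721, 9753), (10722, 12348), (10723, 9755), (10724, 12055), (10725, 6779), (10726, 10709), (10727, 10713), (10728, 12165), (10729, 6781), (10730, 10698), (10731, 6783), (10732, 14953), (10733, 9658), (10734, 13523), (10735, 13498), (10736, 13689), (10737, 14754), (10738, 10773), (10739, 12160), (10740, 14956), (10741, 10772), (10742, 6797), (10743, 13528), (10744, 14957), (10745,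 8645), (10746, 12162), (10747, 12164), (10748, 14962), (10749, 6802), (10750, 9109), (10751, 12475)]
    ⟨e3 q10688 (flp_c L164939) q10659, e3 q10689 L164951 q10653, e3 q10690 (flp_c L164945) q6751, e3 q10691 (flp_c L195840) q14903, e3 q10692 (flp_c L176372) q12352, e3 q10693 (flp_c L195408) q14852, e3 q10694 L164969 q6756, e3 q10695 (flp_c L194709) q14777, e3 q10696 (flp_c L166126) q10846, e3 q10697 (flp_c L186963) q13714, e3 q10698 (flp_c L165194) q10730, e3 q10699 L166108 q10844, e3 q10700 (flp_c L165636) q10784, e3 q10701 L165015 q6766, e3 q10702 (flp_c L185269) q13525, e3 q10703 L165025 q6768, e3 q10704 L165033 q6769, e3 q10705 (flp_c L165666) q10787, e3 q10706 L196099 q14930, e3 q10707 (flp_c L194400) q14744, e3 q10708 L165406 q10756, e3 q10709 L165163 q10726, e3 q10710 (flp_c L194380) q14742, e3 q10711 (flp_c L189317) q14033, e3 q10712 L165065 q6780, e3 q10713 (flp_c L165171) q10727, e3 q10714 L165078 q8299, e3 q10715 (flp_c L180909) q12920, e3 q10716 L165092 q8297, e3 q10717 L165106 q8142, e3 q10718 L196187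 q14944, e3 q10719 (flp_c L179865) q12783, e3 q10720 (flp_c L165116) q6774, e3 q10721 L165126 q9753, e3 q10722 (flp_c L176328) q12348, e3 q10723 L165140 q9755, e3 q10724 (flp_c L174131) q12055, e3 q10725 L165151 q6779, e3 q10726 (flp_c L165163) q10709, e3 q10727 L165171 q10713, e3 q10728 L175023 q12165, e3 q10729 (flp_c L165183) q6781, e3 q10730 L165194 q10698, e3 q10731 (flp_c L165204) q6783, e3 q10732 (flp_c L196265) q14953, e3 q10733 L165234 q9658, e3 q10734 (flp_c L185243) q13523, e3 q10735 L185039 q13498, e3 q10736 (flp_c L186716) q13689, e3 q10737 L194498 q14754, e3 q10738 (flp_c L165572) q10773, e3 q10739 L174974 q12160, e3 q10740 L196295 q14956, e3 q10741 L165558 q10772, e3 q10742 (flp_c L165304) q6797, e3 q10743 (flp_c L185301) q13528, e3 q10744 (flp_c L196303) q14957, e3 q10745 L165324 q8645, e3 q10746 (flp_c L174994) q12162, e3 q10747 (flp_c L175007) q12164, e3 q10748 L196347 q14962, e3 q10749 (flp_c L165352) q6802, e3 q10750 L183549 q9109, e3 q10751 L185633 q12475, trivial⟩ (by decide +kernel)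

theorem ce_c_168 : ∀ r, r < 64 → sm gc (Qf (10752 + r)) = Qf (tab Gen.c (10752 + r)) :=
  edges_tab (sm gc) Qf (tab Gen.c) 10752 [(10752, 9342), (10753, 14752), (10754, 6806), (10755, 14965), (10756, 10708), (10757, 6807), (10758, 7892), (10759, 6809), (10760, 6812), (10761, 14970), (10762, 10186), (10763, 10596), (10764, 10594), (10765, 10595), (10766, 13497), (10767, 6820), (10768, 13708), (10769, 9229), (10770, 13308), (10771, 8647), (10772, 10741), (10773, 10738), (10774, 6825), (10775, 14951), (10776, 12398), (10777, 14884), (10778, 6830), (10779, 14756), (10780, 10825), (10781, 13718), (10782, 10823), (10783, 10645), (10784, 10700), (10785, 6840), (10786, 6842), (10787, 10705), (10788, 14978), (10789, 14765), (10790, 10639), (10791, 10672), (10792, 14763), (10793, 14090), (10794, 10640), (10795, 8290), (10796, 12905), (10797, 8288), (10798, 8177), (10799, 14992), (10800, 12808), (10801, 6848), (10802, 9733), (10803, 12394), (10804, 9735), (10805, 6865), (10806, 11842), (10807, 6866), (10808, 11731), (10809,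 15001), (10810, 6860), (10811, 13389), (10812, 11727), (10813, 7535), (10814, 15004), (10815, 9186)]
    ⟨e3 q10752 L165364 q9342, e3 q10753 L194480 q14752, e3 q10754 (flp_c L165382) q6806, e3 q10755 (flp_c L196379) q14965, e3 q10756 (flp_c L165406) q10708, e3 q10757 (flp_c L165408) q6807, e3 q10758 L165420 q7892, e3 q10759 L165432 q6809, e3 q10760 L165442 q6812, e3 q10761 L196428 q14970, e3 q10762 L165460 q10186, e3 q10763 L165468 q10596, e3 q10764 L165478 q10594, e3 q10765 L165492 q10595, e3 q10766 (flp_c L185023) q13497, e3 q10767 L165512 q6820, e3 q10768 (flp_c L186913) q13708, e3 q10769 L165526 q9229, e3 q10770 (flp_c L183605) q13308, e3 q10771 L165550 q8647, e3 q10772 (flp_c L165558) q10741, e3 q10773 L165572 q10738, e3 q10774 (flp_c L165566) q6825, e3 q10775 (flp_c L196249) q14951, e3 q10776 (flp_c L176795) q12398, e3 q10777 (flp_c L195693) q14884, e3 q10778 L165590 q6830, e3 q10779 (flp_c L194516) q14756, e3 q10780 (flp_c L165941) q10825, e3 q10781 (flp_c L186999) q13718, e3 q10782 L165923 q10823, e3 q10783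 L165626 q10645, e3 q10784 L165636 q10700, e3 q10785 L165642 q6840, e3 q10786 L165654 q6842, e3 q10787 L165666 q10705, e3 q10788 L196514 q14978, e3 q10789 (flp_c L194593) q14765, e3 q10790 L165680 q10639, e3 q10791 L165688 q10672, e3 q10792 (flp_c L194573) q14763, e3 q10793 (flp_c L189749) q14090, e3 q10794 L165702 q10640, e3 q10795 L165708 q8290, e3 q10796 (flp_c L180799) q12905, e3 q10797 L165722 q8288, e3 q10798 (flp_c L165738) q8177, e3 q10799 L196608 q14992, e3 q10800 (flp_c L180083) q12808, e3 q10801 (flp_c L165748) q6848, e3 q10802 L165760 q9733, e3 q10803 (flp_c L176749) q12394, e3 q10804 L165776 q9735, e3 q10805 L165784 q6865, e3 q10806 (flp_c L172632) q11842, e3 q10807 L165800 q6866, e3 q10808 (flp_c L171880) q11731, e3 q10809 L196683 q15001, e3 q10810 L165818 q6860, e3 q10811 (flp_c L184203) q13389, e3 q10812 (flp_c L171838) q11727, e3 q10813 L165840 q7535, e3 q10814 L196708 q15004, e3 q10815 L165851 q9186, trivial⟩ (by decide +kernel)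

theorem ce_c_169 : ∀ r, r < 64 → sm gc (Qf (10816 + r)) = Qf (tab Gen.c (10816 + r)) :=
  edges_tab (sm gc) Qf (tab Gen.c) 10816 [(10816, 9425), (10817, 15006), (10818, 10839), (10819, 15007), (10820, 15008), (10821, 6869), (10822, 15010), (10823, 10782), (10824, 6870), (10825, 10780), (10826, 6886), (10827, 12054), (10828, 6887), (10829, 11774), (10830, 15014), (10831, 6880), (10832, 13442), (10833, 7579), (10834, 11770), (10835, 15017), (10836, 9226), (10837, 9427), (10838, 15018), (10839, 10818), (10840, 15019), (10841, 15020), (10842, 6890), (10843, 15022), (10844, 10699), (10845, 6892), (10846, 10696), (10847, 6893), (10848, 14195), (10849, 6895), (10850, 6896), (10851, 14197), (10852, 6898), (10853, 6899), (10854, 10857), (10855, 6901), (10856, 10862), (10857, 10854), (10858, 6904), (10859, 13283), (10860, 13284), (10861, 6905), (10862, 10856), (10863, 6907), (10864, 13344), (10865, 13345), (10866, 6908), (10867, 15033), (10868, 6909), (10869, 15036), (10870, 6911), (10871, 15040), (10872, 15041), (10873,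 6912), (10874, 15043), (10875, 15045), (10876, 6913), (10877, 15048), (10878, 6915), (10879, 15052)]
    ⟨e3 q10816 L165863 q9425, e3 q10817 L196727 q15006, e3 q10818 (flp_c L166066) q10839, e3 q10819 L196735 q15007, e3 q10820 L196741 q15008, e3 q10821 (flp_c L165903) q6869, e3 q10822 (flp_c L196757) q15010, e3 q10823 (flp_c L165923) q10782, e3 q10824 (flp_c L165925) q6870, e3 q10825 L165941 q10780, e3 q10826 L165953 q6886, e3 q10827 (flp_c L174123) q12054, e3 q10828 L165969 q6887, e3 q10829 (flp_c L172171) q11774, e3 q10830 L196791 q15014, e3 q10831 L165989 q6880, e3 q10832 (flp_c L184585) q13442, e3 q10833 L166003 q7579, e3 q10834 (flp_c L172129) q11770, e3 q10835 L196818 q15017, e3 q10836 L166034 q9226, e3 q10837 L166046 q9427, e3 q10838 L196829 q15018, e3 q10839 L166066 q10818, e3 q10840 L196837 q15019, e3 q10841 L196843 q15020, e3 q10842 (flp_c L166088) q6890, e3 q10843 (flp_c L196859) q15022, e3 q10844 (flp_c L166108) q10699, e3 q10845 (flp_c L166110) q6892, e3 q10846 L166126 q10696, e3 q10847 (flp_c L166134)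 q6893, e3 q10848 (flp_c L190615) q14195, e3 q10849 L166146 q6895, e3 q10850 (flp_c L166150) q6896, e3 q10851 (flp_c L190629) q14197, e3 q10852 L166162 q6898, e3 q10853 (flp_c L166166) q6899, e3 q10854 L166204 q10857, e3 q10855 (flp_c L166182) q6901, e3 q10856 L166252 q10862, e3 q10857 (flp_c L166204) q10854, e3 q10858 L166211 q6904, e3 q10859 (flp_c L183369) q13283, e3 q10860 (flp_c L183379) q13284, e3 q10861 (flp_c L166240) q6905, e3 q10862 (flp_c L166252) q10856, e3 q10863 L166259 q6907, e3 q10864 (flp_c L183875) q13344, e3 q10865 (flp_c L183885) q13345, e3 q10866 (flp_c L166288) q6908, e3 q10867 L196927 q15033, e3 q10868 (flp_c L166304) q6909, e3 q10869 L196949 q15036, e3 q10870 L166318 q6911, e3 q10871 L196973 q15040, e3 q10872 L196977 q15041, e3 q10873 (flp_c L166332) q6912, e3 q10874 (flp_c L196991) q15043, e3 q10875 L197005 q15045, e3 q10876 (flp_c L166354) q6913, e3 q10877 L197027 q15048, e3 q10878 L166368 q6915, e3 q10879 L197051 q15052, trivial⟩ (by decide +kernel)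

theorem ce_c_170 : ∀ r, r < 64 → sm gc (Qf (10880 + r)) = Qf (tab Gen.c (10880 + r)) :=
  edges_tab (sm gc) Qf (tab Gen.c) 10880 [(10880, 15053), (10881, 6916), (10882, 15055), (10883, 14705), (10884, 14708), (10885, 6921), (10886, 6922), (10887, 15059), (10888, 6924), (10889, 11595), (10890, 14724), (10891, 14727), (10892, 6929), (10893, 6930), (10894, 15064), (10895, 6932), (10896, 11646), (10897, 15067), (10898, 10898), (10899, 10899), (10900, 10908), (10901, 10901), (10902, 10911), (10903, 10903), (10904, 6939), (10905, 15072), (10906, 6941), (10907, 15075), (10908, 10900), (10909, 6943), (10910, 6986), (10911, 10902), (10912, 6944), (10913, 6988), (10914, 6945), (10915, 15079), (10916, 15070), (10917, 6947), (10918, 6948), (10919, 15084), (10920, 15073), (10921, 6950), (10922, 9957), (10923, 12553), (10924, 10947), (10925, 6953), (10926, 8680), (10927, 6954), (10928, 14286), (10929, 15091), (10930, 11023), (10931, 6956), (10932, 12550), (10933, 9963), (10934, 10959), (10935, 6959), (10936, 8692), (10937, 6960),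 (10938, 14341), (10939, 15101), (10940, 10999), (10941, 6962), (10942, 13647), (10943, 6966)]
    ⟨e3 q10880 L197055 q15053, e3 q10881 (flp_c L166382) q6916, e3 q10882 (flp_c L197069) q15055, e3 q10883 (flp_c L194059) q14705, e3 q10884 (flp_c L194085) q14708, e3 q10885 (flp_c L166406) q6921, e3 q10886 (flp_c L166412) q6922, e3 q10887 L197093 q15059, e3 q10888 L166426 q6924, e3 q10889 (flp_c L170957) q11595, e3 q10890 (flp_c L194221) q14724, e3 q10891 (flp_c L194247) q14727, e3 q10892 (flp_c L166452) q6929, e3 q10893 (flp_c L166458) q6930, e3 q10894 L197115 q15064, e3 q10895 L166472 q6932, e3 q10896 (flp_c L171294) q11646, e3 q10897 L197127 q15067, e3 q10898 L166498 q10898, e3 q10899 L166507 q10899, e3 q10900 (flp_c L166573) q10908, e3 q10901 L166521 q10901, e3 q10902 (flp_c L166636) q10911, e3 q10903 L166538 q10903, e3 q10904 (flp_c L166544) q6939, e3 q10905 L197156 q15072, e3 q10906 (flp_c L166551) q6941, e3 q10907 L197168 q15075, e3 q10908 L166573 q10900, e3 q10909 (flp_c L166564) q6943, e3 q10910 L166590 q6986,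 e3 q10911 L166636 q10902, e3 q10912 (flp_c L166603) q6944, e3 q10913 (flp_c L166617) q6988, e3 q10914 (flp_c L166638) q6945, e3 q10915 (flp_c L197203) q15079, e3 q10916 (flp_c L197151) q15070, e3 q10917 L166654 q6947, e3 q10918 (flp_c L166658) q6948, e3 q10919 (flp_c L197236) q15084, e3 q10920 (flp_c L197163) q15073, e3 q10921 L166674 q6950, e3 q10922 L166682 q9957, e3 q10923 (flp_c L177999) q12553, e3 q10924 L166844 q10947, e3 q10925 L166708 q6953, e3 q10926 (flp_c L166720) q8680, e3 q10927 (flp_c L166722) q6954, e3 q10928 L191241 q14286, e3 q10929 (flp_c L197285) q15091, e3 q10930 (flp_c L167328) q11023, e3 q10931 L166736 q6956, e3 q10932 (flp_c L177973) q12550, e3 q10933 L166750 q9963, e3 q10934 L166927 q10959, e3 q10935 L166770 q6959, e3 q10936 (flp_c L166782) q8692, e3 q10937 (flp_c L166784) q6960, e3 q10938 L191624 q14341, e3 q10939 (flp_c L197335) q15101, e3 q10940 (flp_c L167190) q10999, e3 q10941 L166798 q6962, e3 q10942 (flp_c L186331) q13647, e3 q10943 (flp_c L166806) q6966, trivial⟩ (by decide +kernel)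

theorem ce_c_171 : ∀ r, r < 64 → sm gc (Qf (10944 + r)) = Qf (tab Gen.c (10944 + r)) :=
  edges_tab (sm gc) Qf (tab Gen.c) 10944 [(10944, 15108), (10945, 15110), (10946, 6968), (10947, 10924), (10948, 6971), (10949, 12809), (10950, 15117), (10951, 15114), (10952, 11099), (10953, 14535), (10954, 13649), (10955, 6977), (10956, 15120), (10957, 15122), (10958, 6979), (10959, 10934), (10960, 6982), (10961, 12813), (10962, 15129), (10963, 15126), (10964, 11061), (10965, 14486), (10966, 15076), (10967, 15077), (10968, 6989), (10969, 6991), (10970, 15136), (10971, 6992), (10972, 15139), (10973, 6994), (10974, 6996), (10975, 15143), (10976, 6997), (10977, 15146), (10978, 7000), (10979, 7001), (10980, 15148), (10981, 15150), (10982, 7004), (10983, 12921), (10984, 15153), (10985, 7005), (10986, 14456), (10987, 15155), (10988, 7006), (10989, 15159), (10990, 7008), (10991, 7009), (10992, 15164), (10993, 15163), (10994, 11055), (10995, 7011), (10996, 7012), (10997, 15173), (10998, 15174), (10999, 10940), (11000, 7014), (11001,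 15181), (11002, 7016), (11003, 7017), (11004, 15183), (11005, 15184), (11006, 7020), (11007, 12937)]
    ⟨e3 q10944 (flp_c L197365) q15108, e3 q10945 L197379 q15110, e3 q10946 (flp_c L166830) q6968, e3 q10947 (flp_c L166844) q10924, e3 q10948 L166848 q6971, e3 q10949 (flp_c L180093) q12809, e3 q10950 L197442 q15117, e3 q10951 (flp_c L197415) q15114, e3 q10952 (flp_c L167820) q11099, e3 q10953 (flp_c L192903) q14535, e3 q10954 (flp_c L186349) q13649, e3 q10955 (flp_c L166889) q6977, e3 q10956 (flp_c L197465) q15120, e3 q10957 L197479 q15122, e3 q10958 (flp_c L166913) q6979, e3 q10959 (flp_c L166927) q10934, e3 q10960 L166931 q6982, e3 q10961 (flp_c L180125) q12813, e3 q10962 L197542 q15129, e3 q10963 (flp_c L197515) q15126, e3 q10964 (flp_c L167570) q11061, e3 q10965 (flp_c L192581) q14486, e3 q10966 (flp_c L197175) q15076, e3 q10967 (flp_c L197186) q15077, e3 q10968 (flp_c L166982) q6989, e3 q10969 (flp_c L166994) q6991, e3 q10970 L197603 q15136, e3 q10971 (flp_c L167006) q6992, e3 q10972 L197617 q15139, e3 q10973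 (flp_c L167016) q6994, e3 q10974 (flp_c L167048) q6996, e3 q10975 L197651 q15143, e3 q10976 (flp_c L167060) q6997, e3 q10977 L197665 q15146, e3 q10978 L167072 q7000, e3 q10979 L167078 q7001, e3 q10980 (flp_c L197681) q15148, e3 q10981 (flp_c L197697) q15150, e3 q10982 L167098 q7004, e3 q10983 (flp_c L180919) q12921, e3 q10984 L197715 q15153, e3 q10985 (flp_c L167124) q7005, e3 q10986 (flp_c L192405) q14456, e3 q10987 L197733 q15155, e3 q10988 (flp_c L167140) q7006, e3 q10989 L197755 q15159, e3 q10990 L167152 q7008, e3 q10991 (flp_c L167154) q7009, e3 q10992 (flp_c L197779) q15164, e3 q10993 (flp_c L197773) q15163, e3 q10994 L167539 q11055, e3 q10995 L167176 q7011, e3 q10996 (flp_c L167180) q7012, e3 q10997 (flp_c L197813) q15173, e3 q10998 (flp_c L197817) q15174, e3 q10999 L167190 q10940, e3 q11000 L167196 q7014, e3 q11001 L197851 q15181, e3 q11002 L167210 q7016, e3 q11003 L167216 q7017, e3 q11004 (flp_c L197867) q15183, e3 q11005 (flp_c L197877) q15184, e3 q11006 L167236 q7020, e3 q11007 (flp_c L181015) q12937,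 trivial⟩ (by decide +kernel)

theorem ce_c_172 : ∀ r, r < 64 → sm gc (Qf (11008 + r)) = Qf (tab Gen.c (11008 + r)) :=
  edges_tab (sm gc) Qf (tab Gen.c) 11008 [(11008, 15187), (11009, 7021), (11010, 14505), (11011, 15189), (11012, 7022), (11013, 15193), (11014, 7024), (11015, 7025), (11016, 15198), (11017, 15197), (11018, 11093), (11019, 7027), (11020, 7028), (11021, 15207), (11022, 15208), (11023, 10930), (11024, 7030), (11025, 15215), (11026, 9187), (11027, 13496), (11028, 8786), (11029, 8787), (11030, 9192), (11031, 13492), (11032, 7103), (11033, 15218), (11034, 15219), (11035, 7042), (11036, 15222), (11037, 15223), (11038, 7044), (11039, 7045), (11040, 13829), (11041, 12285), (11042, 15231), (11043, 7047), (11044, 15235), (11045, 15236), (11046, 11288), (11047, 13784), (11048, 15243), (11049, 13785), (11050, 9575), (11051, 7051), (11052, 15249), (11053, 15250), (11054, 14389), (11055, 10994), (11056, 7054), (11057, 7055), (11058, 15258), (11059, 15263), (11060, 15260), (11061, 10964), (11062, 15268), (11063,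 7058), (11064, 13499), (11065, 9227), (11066, 8823), (11067, 8824), (11068, 13522), (11069, 9231), (11070, 7143), (11071, 15271)]
    ⟨e3 q11008 L197895 q15187, e3 q11009 (flp_c L167262) q7021, e3 q11010 (flp_c L192715) q14505, e3 q11011 L197913 q15189, e3 q11012 (flp_c L167278) q7022, e3 q11013 L197935 q15193, e3 q11014 L167290 q7024, e3 q11015 (flp_c L167292) q7025, e3 q11016 (flp_c L197959) q15198, e3 q11017 (flp_c L197953) q15197, e3 q11018 L167785 q11093, e3 q11019 L167314 q7027, e3 q11020 (flp_c L167318) q7028, e3 q11021 (flp_c L197993) q15207, e3 q11022 (flp_c L197997) q15208, e3 q11023 L167328 q10930, e3 q11024 L167334 q7030, e3 q11025 L198031 q15215, e3 q11026 L167350 q9187, e3 q11027 (flp_c L185009) q13496, e3 q11028 L167369 q8786, e3 q11029 L167381 q8787, e3 q11030 L167389 q9192, e3 q11031 (flp_c L184963) q13492, e3 q11032 L167407 q7103, e3 q11033 L198057 q15218, e3 q11034 L198065 q15219, e3 q11035 (flp_c L167428) q7042, e3 q11036 (flp_c L198085) q15222, e3 q11037 L198087 q15223, e3 q11038 L167442 q7044,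 e3 q11039 (flp_c L167446) q7045, e3 q11040 (flp_c L187845) q13829, e3 q11041 (flp_c L175869) q12285, e3 q11042 L198133 q15231, e3 q11043 (flp_c L167470) q7047, e3 q11044 (flp_c L198161) q15235, e3 q11045 (flp_c L198167) q15236, e3 q11046 (flp_c L169005) q11288, e3 q11047 (flp_c L187507) q13784, e3 q11048 L198212 q15243, e3 q11049 (flp_c L187523) q13785, e3 q11050 L167502 q9575, e3 q11051 (flp_c L167508) q7051, e3 q11052 (flp_c L198248) q15249, e3 q11053 (flp_c L198256) q15250, e3 q11054 (flp_c L191948) q14389, e3 q11055 (flp_c L167539) q10994, e3 q11056 L167543 q7054, e3 q11057 L167547 q7055, e3 q11058 (flp_c L198332) q15258, e3 q11059 L198363 q15263, e3 q11060 (flp_c L198342) q15260, e3 q11061 L167570 q10964, e3 q11062 L198390 q15268, e3 q11063 (flp_c L167578) q7058, e3 q11064 L185051 q13499, e3 q11065 L167598 q9227, e3 q11066 L167609 q8823, e3 q11067 L167619 q8824, e3 q11068 (flp_c L185233) q13522, e3 q11069 L167637 q9231, e3 q11070 L167647 q7143, e3 q11071 L198414 q15271, trivial⟩ (by decide +kernel)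

theorem ce_c_173 : ∀ r, r < 64 → sm gc (Qf (11072 + r)) = Qf (tab Gen.c (11072 + r)) :=
  edges_tab (sm gc) Qf (tab Gen.c) 11072 [(11072, 15272), (11073, 7070), (11074, 15275), (11075, 15276), (11076, 7072), (11077, 7073), (11078, 13878), (11079, 12226), (11080, 15284), (11081, 7075), (11082, 15288), (11083, 15289), (11084, 11447), (11085, 13776), (11086, 15296), (11087, 9613), (11088, 13777), (11089, 7079), (11090, 15302), (11091, 15303), (11092, 14334), (11093, 11018), (11094, 7082), (11095, 7083), (11096, 15311), (11097, 15316), (11098, 15313), (11099, 10952), (11100, 15321), (11101, 7086), (11102, 15322), (11103, 15323), (11104, 7088), (11105, 15325), (11106, 15326), (11107, 7090), (11108, 11300), (11109, 15328), (11110, 15330), (11111, 15331), (11112, 7094), (11113, 15334), (11114, 8626), (11115, 7095), (11116, 15336), (11117, 15337), (11118, 7097), (11119, 11119), (11120, 11120), (11121, 11121), (11122, 7101), (11123, 15347), (11124, 15349), (11125, 7102), (11126, 15352), (11127, 15353), (11128, 15354), (11129,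 7105), (11130, 15358), (11131, 15359), (11132, 7106), (11133, 15362), (11134, 15363), (11135, 7107)]
    ⟨e3 q11072 L198422 q15272, e3 q11073 (flp_c L167668) q7070, e3 q11074 (flp_c L198442) q15275, e3 q11075 L198444 q15276, e3 q11076 L167686 q7072, e3 q11077 (flp_c L167692) q7073, e3 q11078 (flp_c L188191) q13878, e3 q11079 (flp_c L175438) q12226, e3 q11080 L198498 q15284, e3 q11081 (flp_c L167716) q7075, e3 q11082 (flp_c L198526) q15288, e3 q11083 (flp_c L198532) q15289, e3 q11084 (flp_c L170010) q11447, e3 q11085 (flp_c L187435) q13776, e3 q11086 L198583 q15296, e3 q11087 L167744 q9613, e3 q11088 (flp_c L187449) q13777, e3 q11089 (flp_c L167754) q7079, e3 q11090 (flp_c L198619) q15302, e3 q11091 (flp_c L198627) q15303, e3 q11092 (flp_c L191567) q14334, e3 q11093 (flp_c L167785) q11018, e3 q11094 L167789 q7082, e3 q11095 L167793 q7083, e3 q11096 (flp_c L198703) q15311, e3 q11097 L198736 q15316, e3 q11098 (flp_c L198713) q15313, e3 q11099 L167820 q10952, e3 q11100 L198769 q15321, e3 q11101 (flp_c L167830) q7086,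 e3 q11102 L198775 q15322, e3 q11103 L198785 q15323, e3 q11104 (flp_c L167858) q7088, e3 q11105 (flp_c L198803) q15325, e3 q11106 L198807 q15326, e3 q11107 (flp_c L167878) q7090, e3 q11108 (flp_c L169101) q11300, e3 q11109 L198825 q15328, e3 q11110 L198833 q15330, e3 q11111 L198835 q15331, e3 q11112 (flp_c L167904) q7094, e3 q11113 (flp_c L198851) q15334, e3 q11114 L167922 q8626, e3 q11115 (flp_c L167924) q7095, e3 q11116 (flp_c L198863) q15336, e3 q11117 L198869 q15337, e3 q11118 L167942 q7097, e3 q11119 L167946 q11119, e3 q11120 L167955 q11120, e3 q11121 L167960 q11121, e3 q11122 L167963 q7101, e3 q11123 L198940 q15347, e3 q11124 L198952 q15349, e3 q11125 (flp_c L167983) q7102, e3 q11126 (flp_c L198968) q15352, e3 q11127 L198970 q15353, e3 q11128 L198976 q15354, e3 q11129 L168018 q7105, e3 q11130 L198992 q15358, e3 q11131 L198998 q15359, e3 q11132 (flp_c L168026) q7106, e3 q11133 (flp_c L199022) q15362, e3 q11134 L199028 q15363, e3 q11135 (flp_c L168088) q7107, trivial⟩ (by decide +kernel)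

theorem ce_c_174 : ∀ r, r < 64 → sm gc (Qf (11136 + r)) = Qf (tab Gen.c (11136 + r)) :=
  edges_tab (sm gc) Qf (tab Gen.c) 11136 [(11136, 15366), (11137, 15367), (11138, 15364), (11139, 11334), (11140, 7109), (11141, 15374), (11142, 15375), (11143, 15379), (11144, 15380), (11145, 7111), (11146, 15382), (11147, 7112), (11148, 15385), (11149, 15386), (11150, 7114), (11151, 15390), (11152, 15391), (11153, 8687), (11154, 12948), (11155, 15396), (11156, 12949), (11157, 12950), (11158, 11390), (11159, 11391), (11160, 15406), (11161, 7120), (11162, 11162), (11163, 7122), (11164, 7123), (11165, 15414), (11166, 15419), (11167, 15416), (11168, 10116), (11169, 15424), (11170, 15425), (11171, 7126), (11172, 15427), (11173, 15428), (11174, 7127), (11175, 15430), (11176, 15431), (11177, 7130), (11178, 15432), (11179, 11459), (11180, 15435), (11181, 15436), (11182, 7134), (11183, 15439), (11184, 8623), (11185, 7135), (11186, 15441), (11187, 7137), (11188, 11188), (11189, 11189), (11190, 11190), (11191, 7141), (11192, 15451),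 (11193, 15453), (11194, 7142), (11195, 15456), (11196, 15457), (11197, 15458), (11198, 7145), (11199, 15462)]
    ⟨e3 q11136 (flp_c L199048) q15366, e3 q11137 (flp_c L199056) q15367, e3 q11138 (flp_c L199040) q15364, e3 q11139 L169307 q11334, e3 q11140 (flp_c L168114) q7109, e3 q11141 (flp_c L199080) q15374, e3 q11142 (flp_c L199086) q15375, e3 q11143 L199102 q15379, e3 q11144 L199108 q15380, e3 q11145 (flp_c L168136) q7111, e3 q11146 (flp_c L199120) q15382, e3 q11147 (flp_c L168146) q7112, e3 q11148 (flp_c L199134) q15385, e3 q11149 L199140 q15386, e3 q11150 L168166 q7114, e3 q11151 (flp_c L199156) q15390, e3 q11152 L199160 q15391, e3 q11153 L168188 q8687, e3 q11154 (flp_c L181085) q12948, e3 q11155 L199181 q15396, e3 q11156 (flp_c L181095) q12949, e3 q11157 (flp_c L181103) q12950, e3 q11158 (flp_c L169635) q11390, e3 q11159 (flp_c L169641) q11391, e3 q11160 L199223 q15406, e3 q11161 (flp_c L168222) q7120, e3 q11162 L168226 q11162, e3 q11163 L168229 q7122, e3 q11164 L168233 q7123, e3 q11165 (flp_c L199251) q15414,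 e3 q11166 L199280 q15419, e3 q11167 (flp_c L199261) q15416, e3 q11168 L168254 q10116, e3 q11169 L199317 q15424, e3 q11170 L199321 q15425, e3 q11171 (flp_c L168264) q7126, e3 q11172 (flp_c L199339) q15427, e3 q11173 L199343 q15428, e3 q11174 (flp_c L168286) q7127, e3 q11175 (flp_c L199361) q15430, e3 q11176 L199367 q15431, e3 q11177 (flp_c L168312) q7130, e3 q11178 L199377 q15432, e3 q11179 (flp_c L170106) q11459, e3 q11180 L199395 q15435, e3 q11181 L199397 q15436, e3 q11182 (flp_c L168338) q7134, e3 q11183 (flp_c L199413) q15439, e3 q11184 (flp_c L168356) q8623, e3 q11185 (flp_c L168358) q7135, e3 q11186 L199421 q15441, e3 q11187 L168366 q7137, e3 q11188 L168370 q11188, e3 q11189 L168379 q11189, e3 q11190 L168384 q11190, e3 q11191 L168387 q7141, e3 q11192 L199492 q15451, e3 q11193 L199506 q15453, e3 q11194 (flp_c L168402) q7142, e3 q11195 (flp_c L199522) q15456, e3 q11196 L199524 q15457, e3 q11197 L199530 q15458, e3 q11198 L168428 q7145, e3 q11199 L199558 q15462, trivial⟩ (by decide +kernel)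

theorem ce_c_175 : ∀ r, r < 64 → sm gc (Qf (11200 + r)) = Qf (tab Gen.c (11200 + r)) :=
  edges_tab (sm gc) Qf (tab Gen.c) 11200 [(11200, 15463), (11201, 7146), (11202, 15466), (11203, 15467), (11204, 7147), (11205, 15470), (11206, 15471), (11207, 15468), (11208, 11493), (11209, 7149), (11210, 15478), (11211, 15479), (11212, 15483), (11213, 15484), (11214, 7151), (11215, 15486), (11216, 7152), (11217, 15489), (11218, 15490), (11219, 7154), (11220, 15494), (11221, 8675), (11222, 15495), (11223, 12932), (11224, 15500), (11225, 12933), (11226, 12934), (11227, 11549), (11228, 11550), (11229, 15510), (11230, 7160), (11231, 11231), (11232, 7162), (11233, 7163), (11234, 15517), (11235, 15522), (11236, 15519), (11237, 10097), (11238, 15527), (11239, 15528), (11240, 7166), (11241, 15530), (11242, 7167), (11243, 8394), (11244, 15535), (11245, 7189), (11246, 8712), (11247, 8643), (11248, 15540), (11249, 8714), (11250, 15544), (11251, 15547), (11252, 7175), (11253, 15550), (11254, 15552), (11255, 7177), (11256, 7178), (11257,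 15556), (11258, 7180), (11259, 7181), (11260, 15562), (11261, 12599), (11262, 8378), (11263, 15567)]
    ⟨e3 q11200 L199564 q15463, e3 q11201 (flp_c L168440) q7146, e3 q11202 (flp_c L199588) q15466, e3 q11203 L199594 q15467, e3 q11204 (flp_c L168470) q7147, e3 q11205 (flp_c L199614) q15470, e3 q11206 (flp_c L199622) q15471, e3 q11207 (flp_c L199608) q15468, e3 q11208 L170306 q11493, e3 q11209 (flp_c L168502) q7149, e3 q11210 (flp_c L199666) q15478, e3 q11211 (flp_c L199672) q15479, e3 q11212 L199694 q15483, e3 q11213 L199700 q15484, e3 q11214 (flp_c L168530) q7151, e3 q11215 (flp_c L199714) q15486, e3 q11216 (flp_c L168544) q7152, e3 q11217 (flp_c L199730) q15489, e3 q11218 L199736 q15490, e3 q11219 L168564 q7154, e3 q11220 (flp_c L199752) q15494, e3 q11221 L168580 q8675, e3 q11222 L199756 q15495, e3 q11223 (flp_c L180985) q12932, e3 q11224 L199795 q15500, e3 q11225 (flp_c L180991) q12933, e3 q11226 (flp_c L180997) q12934, e3 q11227 (flp_c L170650) q11549, e3 q11228 (flp_c L170656) q11550, e3 q11229 L199851 q15510,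 e3 q11230 (flp_c L168634) q7160, e3 q11231 L168640 q11231, e3 q11232 L168643 q7162, e3 q11233 L168647 q7163, e3 q11234 (flp_c L199885) q15517, e3 q11235 L199920 q15522, e3 q11236 (flp_c L199895) q15519, e3 q11237 L168674 q10097, e3 q11238 L199953 q15527, e3 q11239 L199959 q15528, e3 q11240 (flp_c L168692) q7166, e3 q11241 (flp_c L199979) q15530, e3 q11242 (flp_c L168708) q7167, e3 q11243 L168720 q8394, e3 q11244 L200023 q15535, e3 q11245 L168734 q7189, e3 q11246 L168744 q8712, e3 q11247 L168752 q8643, e3 q11248 L200059 q15540, e3 q11249 L168768 q8714, e3 q11250 L200079 q15544, e3 q11251 L200105 q15547, e3 q11252 (flp_c L168784) q7175, e3 q11253 (flp_c L200127) q15550, e3 q11254 L200141 q15552, e3 q11255 (flp_c L168798) q7177, e3 q11256 (flp_c L168806) q7178, e3 q11257 L200169 q15556, e3 q11258 L168824 q7180, e3 q11259 (flp_c L168828) q7181, e3 q11260 L200204 q15562, e3 q11261 (flp_c L178439) q12599, e3 q11262 L168849 q8378, e3 q11263 L200239 q15567, trivial⟩ (by decide +kernel)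

theorem ce_c_176 : ∀ r, r < 64 → sm gc (Qf (11264 + r)) = Qf (tab Gen.c (11264 + r)) :=
  edges_tab (sm gc) Qf (tab Gen.c) 11264 [(11264, 8352), (11265, 15568), (11266, 15570), (11267, 7188), (11268, 10545), (11269, 12643), (11270, 13482), (11271, 13479), (11272, 15575), (11273, 7194), (11274, 15578), (11275, 15580), (11276, 7195), (11277, 15583), (11278, 15584), (11279, 7197), (11280, 12284), (11281, 7198), (11282, 11528), (11283, 15589), (11284, 7200), (11285, 7201), (11286, 15595), (11287, 15596), (11288, 11046), (11289, 10265), (11290, 7371), (11291, 7215), (11292, 7204), (11293, 14305), (11294, 15603), (11295, 15604), (11296, 7213), (11297, 7373), (11298, 7211), (11299, 7216), (11300, 11108), (11301, 15610), (11302, 15611), (11303, 12569), (11304, 9028), (11305, 15615), (11306, 15617), (11307, 15621), (11308, 15622), (11309, 7217), (11310, 15625), (11311, 15627), (11312, 7218), (11313, 14371), (11314, 8566), (11315, 15630), (11316, 7219), (11317, 7220), (11318, 15632), (11319, 15633), (11320, 7222), (11321,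 15636), (11322, 7223), (11323, 7227), (11324, 15643), (11325, 7225), (11326, 7226), (11327, 15639)]
    ⟨e3 q11264 L168865 q8352, e3 q11265 L200243 q15568, e3 q11266 L200261 q15570, e3 q11267 (flp_c L168883) q7188, e3 q11268 L168893 q10545, e3 q11269 (flp_c L178789) q12643, e3 q11270 (flp_c L184898) q13482, e3 q11271 (flp_c L184884) q13479, e3 q11272 L200299 q15575, e3 q11273 (flp_c L168919) q7194, e3 q11274 (flp_c L200319) q15578, e3 q11275 L200331 q15580, e3 q11276 (flp_c L168931) q7195, e3 q11277 (flp_c L200349) q15583, e3 q11278 L200355 q15584, e3 q11279 L168953 q7197, e3 q11280 (flp_c L175859) q12284, e3 q11281 (flp_c L168967) q7198, e3 q11282 (flp_c L170534) q11528, e3 q11283 L200375 q15589, e3 q11284 L168985 q7200, e3 q11285 (flp_c L168991) q7201, e3 q11286 (flp_c L200411) q15595, e3 q11287 (flp_c L200415) q15596, e3 q11288 L169005 q11046, e3 q11289 L169011 q10265, e3 q11290 L169017 q7371, e3 q11291 L169025 q7215, e3 q11292 (flp_c L169027) q7204, e3 q11293 L191367 q14305, e3 q11294 (flp_c L200471) q15603,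 e3 q11295 (flp_c L200483) q15604, e3 q11296 L169057 q7213, e3 q11297 L169069 q7373, e3 q11298 L169079 q7211, e3 q11299 L169089 q7216, e3 q11300 L169101 q11108, e3 q11301 L200535 q15610, e3 q11302 L200539 q15611, e3 q11303 (flp_c L178117) q12569, e3 q11304 L169123 q9028, e3 q11305 L200577 q15615, e3 q11306 L200597 q15617, e3 q11307 L200623 q15621, e3 q11308 L200631 q15622, e3 q11309 (flp_c L169149) q7217, e3 q11310 (flp_c L200661) q15625, e3 q11311 L200675 q15627, e3 q11312 (flp_c L169161) q7218, e3 q11313 L191800 q14371, e3 q11314 L169173 q8566, e3 q11315 L200703 q15630, e3 q11316 (flp_c L169185) q7219, e3 q11317 (flp_c L169191) q7220, e3 q11318 (flp_c L200725) q15632, e3 q11319 L200731 q15633, e3 q11320 L169215 q7222, e3 q11321 (flp_c L200765) q15636, e3 q11322 (flp_c L169227) q7223, e3 q11323 L169239 q7227, e3 q11324 L200817 q15643, e3 q11325 L169247 q7225, e3 q11326 L169255 q7226, e3 q11327 (flp_c L200793) q15639, trivial⟩ (by decide +kernel)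

theorem ce_c_177 : ∀ r, r < 64 → sm gc (Qf (11328 + r)) = Qf (tab Gen.c (11328 + r)) :=
  edges_tab (sm gc) Qf (tab Gen.c) 11328 [(11328, 15650), (11329, 15641), (11330, 15642), (11331, 7228), (11332, 15656), (11333, 14655), (11334, 11139), (11335, 7230), (11336, 7231), (11337, 15664), (11338, 15668), (11339, 15671), (11340, 7232), (11341, 15674), (11342, 7233), (11343, 13194), (11344, 7235), (11345, 15679), (11346, 7237), (11347, 7238), (11348, 13468), (11349, 15684), (11350, 9529), (11351, 7240), (11352, 11511), (11353, 8777), (11354, 7242), (11355, 7243), (11356, 7250), (11357, 8855), (11358, 7252), (11359, 7253), (11360, 8780), (11361, 8766), (11362, 8781), (11363, 15709), (11364, 15647), (11365, 7248), (11366, 7417), (11367, 13224), (11368, 11442), (11369, 15698), (11370, 7251), (11371, 15719), (11372, 15720), (11373, 15721), (11374, 14674), (11375, 15703), (11376, 12135), (11377, 15718), (11378, 7255), (11379, 7256), (11380, 15733), (11381, 15735), (11382, 7257), (11383, 14530), (11384, 15739), (11385, 7396),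 (11386, 15746), (11387, 7397), (11388, 7398), (11389, 7399), (11390, 11158), (11391, 11159)]
    ⟨e3 q11328 L200864 q15650, e3 q11329 (flp_c L200807) q15641, e3 q11330 (flp_c L200813) q15642, e3 q11331 (flp_c L169283) q7228, e3 q11332 (flp_c L200900) q15656, e3 q11333 (flp_c L193671) q14655, e3 q11334 (flp_c L169307) q11139, e3 q11335 L169311 q7230, e3 q11336 L169317 q7231, e3 q11337 (flp_c L200936) q15664, e3 q11338 L200952 q15668, e3 q11339 L200966 q15671, e3 q11340 (flp_c L169333) q7232, e3 q11341 (flp_c L201000) q15674, e3 q11342 (flp_c L169343) q7233, e3 q11343 L182739 q13194, e3 q11344 L169361 q7235, e3 q11345 L201046 q15679, e3 q11346 L169375 q7237, e3 q11347 (flp_c L169381) q7238, e3 q11348 L184794 q13468, e3 q11349 (flp_c L201101) q15684, e3 q11350 L169397 q9529, e3 q11351 L169403 q7240, e3 q11352 (flp_c L170412) q11511, e3 q11353 (flp_c L169419) q8777, e3 q11354 L169425 q7242, e3 q11355 L169435 q7243, e3 q11356 L169443 q7250, e3 q11357 L169453 q8855, e3 q11358 L169457 q7252, e3 q11359 L169463 q7253, e3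 q11360 L169469 q8780, e3 q11361 L169475 q8766, e3 q11362 L169481 q8781, e3 q11363 L201294 q15709, e3 q11364 (flp_c L200845) q15647, e3 q11365 (flp_c L169493) q7248, e3 q11366 L169505 q7417, e3 q11367 L182930 q13224, e3 q11368 (flp_c L169986) q11442, e3 q11369 (flp_c L201213) q15698, e3 q11370 (flp_c L169525) q7251, e3 q11371 (flp_c L201364) q15719, e3 q11372 (flp_c L201368) q15720, e3 q11373 (flp_c L201372) q15721, e3 q11374 (flp_c L193817) q14674, e3 q11375 (flp_c L201255) q15703, e3 q11376 (flp_c L174815) q12135, e3 q11377 (flp_c L201360) q15718, e3 q11378 L169569 q7255, e3 q11379 L169575 q7256, e3 q11380 (flp_c L201438) q15733, e3 q11381 L201448 q15735, e3 q11382 (flp_c L169595) q7257, e3 q11383 L192863 q14530, e3 q11384 L201480 q15739, e3 q11385 L169611 q7396, e3 q11386 L201516 q15746, e3 q11387 L169621 q7397, e3 q11388 L169625 q7398, e3 q11389 L169629 q7399, e3 q11390 L169635 q11158, e3 q11391 L169641 q11159, trivial⟩ (by decide +kernel)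

theorem ce_c_178 : ∀ r, r < 64 → sm gc (Qf (11392 + r)) = Qf (tab Gen.c (11392 + r)) :=
  edges_tab (sm gc) Qf (tab Gen.c) 11392 [(11392, 15759), (11393, 7263), (11394, 14581), (11395, 7264), (11396, 15762), (11397, 15767), (11398, 15769), (11399, 7265), (11400, 15771), (11401, 7266), (11402, 7268), (11403, 7270), (11404, 8413), (11405, 15710), (11406, 7289), (11407, 8757), (11408, 15781), (11409, 8759), (11410, 8659), (11411, 15786), (11412, 7276), (11413, 15789), (11414, 15592), (11415, 15793), (11416, 7279), (11417, 15796), (11418, 7281), (11419, 7282), (11420, 15802), (11421, 12601), (11422, 15806), (11423, 8356), (11424, 8385), (11425, 15809), (11426, 7288), (11427, 15811), (11428, 12652), (11429, 10600), (11430, 13430), (11431, 13427), (11432, 15815), (11433, 7295), (11434, 15818), (11435, 15820), (11436, 7296), (11437, 15823), (11438, 15824), (11439, 7298), (11440, 12225), (11441, 7299), (11442, 11368), (11443, 15829), (11444, 7301), (11445, 15833), (11446, 15834), (11447, 11084), (11448, 10283), (11449,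 7315), (11450, 7402), (11451, 7304), (11452, 14360), (11453, 15841), (11454, 15842), (11455, 7313)]
    ⟨e3 q11392 L201584 q15759, e3 q11393 L169649 q7263, e3 q11394 (flp_c L193183) q14581, e3 q11395 L169659 q7264, e3 q11396 (flp_c L201598) q15762, e3 q11397 L201620 q15767, e3 q11398 L201628 q15769, e3 q11399 (flp_c L169681) q7265, e3 q11400 (flp_c L201646) q15771, e3 q11401 (flp_c L169693) q7266, e3 q11402 L169709 q7268, e3 q11403 (flp_c L169717) q7270, e3 q11404 L169731 q8413, e3 q11405 (flp_c L201304) q15710, e3 q11406 L169745 q7289, e3 q11407 L169755 q8757, e3 q11408 L201732 q15781, e3 q11409 L169767 q8759, e3 q11410 L169777 q8659, e3 q11411 L201762 q15786, e3 q11412 (flp_c L169789) q7276, e3 q11413 (flp_c L201790) q15789, e3 q11414 (flp_c L200399) q15592, e3 q11415 L201824 q15793, e3 q11416 (flp_c L169809) q7279, e3 q11417 L201848 q15796, e3 q11418 L169827 q7281, e3 q11419 (flp_c L169833) q7282, e3 q11420 L201887 q15802, e3 q11421 (flp_c L178465) q12601, e3 q11422 L201918 q15806, e3 q11423 L169860 q8356, e3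 q11424 L169872 q8385, e3 q11425 L201936 q15809, e3 q11426 (flp_c L169884) q7288, e3 q11427 L201952 q15811, e3 q11428 (flp_c L178880) q12652, e3 q11429 L169902 q10600, e3 q11430 (flp_c L184506) q13430, e3 q11431 L184492 q13427, e3 q11432 L201978 q15815, e3 q11433 (flp_c L169924) q7295, e3 q11434 (flp_c L202002) q15818, e3 q11435 L202014 q15820, e3 q11436 (flp_c L169936) q7296, e3 q11437 (flp_c L202032) q15823, e3 q11438 L202038 q15824, e3 q11439 L169958 q7298, e3 q11440 (flp_c L175428) q12225, e3 q11441 (flp_c L169972) q7299, e3 q11442 L169986 q11368, e3 q11443 L202066 q15829, e3 q11444 (flp_c L169996) q7301, e3 q11445 (flp_c L202088) q15833, e3 q11446 (flp_c L202092) q15834, e3 q11447 L170010 q11084, e3 q11448 L170016 q10283, e3 q11449 L170022 q7315, e3 q11450 L170028 q7402, e3 q11451 (flp_c L170032) q7304, e3 q11452 L191748 q14360, e3 q11453 (flp_c L202150) q15841, e3 q11454 (flp_c L202158) q15842, e3 q11455 L170062 q7313, trivial⟩ (by decide +kernel)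

theorem ce_c_179 : ∀ r, r < 64 → sm gc (Qf (11456 + r)) = Qf (tab Gen.c (11456 + r)) :=
  edges_tab (sm gc) Qf (tab Gen.c) 11456 [(11456, 7311), (11457, 7316), (11458, 7404), (11459, 11179), (11460, 15844), (11461, 15845), (11462, 12575), (11463, 8958), (11464, 15849), (11465, 15851), (11466, 15855), (11467, 15856), (11468, 7317), (11469, 15859), (11470, 15861), (11471, 7318), (11472, 8557), (11473, 14316), (11474, 15864), (11475, 7319), (11476, 7320), (11477, 15866), (11478, 15867), (11479, 7322), (11480, 15870), (11481, 7323), (11482, 7327), (11483, 15877), (11484, 7325), (11485, 7326), (11486, 15873), (11487, 15651), (11488, 15875), (11489, 15876), (11490, 7328), (11491, 15655), (11492, 14682), (11493, 11208), (11494, 7330), (11495, 7331), (11496, 15894), (11497, 15898), (11498, 15901), (11499, 7332), (11500, 15904), (11501, 7333), (11502, 13135), (11503, 7335), (11504, 15909), (11505, 7337), (11506, 7338), (11507, 13416), (11508, 15914), (11509, 9542), (11510, 7340), (11511, 11352), (11512, 8732), (11513, 7342),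 (11514, 7343), (11515, 7350), (11516, 8818), (11517, 7352), (11518, 7353), (11519, 8735)]
    ⟨e3 q11456 L170076 q7311, e3 q11457 L170084 q7316, e3 q11458 L170096 q7404, e3 q11459 L170106 q11179, e3 q11460 L202176 q15844, e3 q11461 L202180 q15845, e3 q11462 (flp_c L178175) q12575, e3 q11463 L170128 q8958, e3 q11464 L202218 q15849, e3 q11465 L202238 q15851, e3 q11466 L202264 q15855, e3 q11467 L202272 q15856, e3 q11468 (flp_c L170154) q7317, e3 q11469 (flp_c L202302) q15859, e3 q11470 L202316 q15861, e3 q11471 (flp_c L170166) q7318, e3 q11472 L170174 q8557, e3 q11473 L191419 q14316, e3 q11474 L202344 q15864, e3 q11475 (flp_c L170190) q7319, e3 q11476 (flp_c L170196) q7320, e3 q11477 (flp_c L202366) q15866, e3 q11478 L202372 q15867, e3 q11479 L170220 q7322, e3 q11480 (flp_c L202406) q15870, e3 q11481 (flp_c L170232) q7323, e3 q11482 L170244 q7327, e3 q11483 L202458 q15877, e3 q11484 L170250 q7325, e3 q11485 L170258 q7326, e3 q11486 (flp_c L202434) q15873, e3 q11487 (flp_c L223829) q15651, e3 q11488 (flp_c L202446)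 q15875, e3 q11489 (flp_c L202454) q15876, e3 q11490 (flp_c L170282) q7328, e3 q11491 (flp_c L223797) q15655, e3 q11492 (flp_c L193873) q14682, e3 q11493 (flp_c L170306) q11208, e3 q11494 L170310 q7330, e3 q11495 L170316 q7331, e3 q11496 (flp_c L202583) q15894, e3 q11497 L202599 q15898, e3 q11498 L202613 q15901, e3 q11499 (flp_c L170332) q7332, e3 q11500 (flp_c L202647) q15904, e3 q11501 (flp_c L170342) q7333, e3 q11502 (flp_c L183551) q13135, e3 q11503 L170360 q7335, e3 q11504 L202693 q15909, e3 q11505 L170374 q7337, e3 q11506 (flp_c L170380) q7338, e3 q11507 L184416 q13416, e3 q11508 (flp_c L202748) q15914, e3 q11509 L170396 q9542, e3 q11510 L170402 q7340, e3 q11511 L170412 q11352, e3 q11512 (flp_c L170420) q8732, e3 q11513 L170426 q7342, e3 q11514 L170436 q7343, e3 q11515 L170444 q7350, e3 q11516 L170456 q8818, e3 q11517 L170460 q7352, e3 q11518 L170468 q7353, e3 q11519 L170474 q8735, trivial⟩ (by decide +kernel)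

theorem ce_c_180 : ∀ r, r < 64 → sm gc (Qf (11520 + r)) = Qf (tab Gen.c (11520 + r)) :=
  edges_tab (sm gc) Qf (tab Gen.c) 11520 [(11520, 8736), (11521, 8721), (11522, 15881), (11523, 15536), (11524, 7349), (11525, 7386), (11526, 13244), (11527, 15927), (11528, 11282), (11529, 7351), (11530, 15945), (11531, 15946), (11532, 15947), (11533, 11930), (11534, 14645), (11535, 15933), (11536, 15944), (11537, 7355), (11538, 7356), (11539, 15958), (11540, 15960), (11541, 7357), (11542, 14481), (11543, 15964), (11544, 7427), (11545, 15971), (11546, 7428), (11547, 7429), (11548, 7430), (11549, 11227), (11550, 11228), (11551, 15984), (11552, 7363), (11553, 14630), (11554, 7364), (11555, 15987), (11556, 15992), (11557, 15994), (11558, 7365), (11559, 15996), (11560, 7366), (11561, 7368), (11562, 8311), (11563, 8260), (11564, 8261), (11565, 16002), (11566, 9401), (11567, 7376), (11568, 13651), (11569, 16004), (11570, 7377), (11571, 16005), (11572, 16006), (11573, 11625), (11574, 11626), (11575, 11672), (11576, 16011), (11577,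 7388), (11578, 7389), (11579, 7381), (11580, 16017), (11581, 16018), (11582, 16019), (11583, 7394)]
    ⟨e3 q11520 L170482 q8736, e3 q11521 L170492 q8721, e3 q11522 (flp_c L202492) q15881, e3 q11523 (flp_c L200035) q15536, e3 q11524 (flp_c L170504) q7349, e3 q11525 L170516 q7386, e3 q11526 L183075 q13244, e3 q11527 (flp_c L202858) q15927, e3 q11528 L170534 q11282, e3 q11529 (flp_c L170540) q7351, e3 q11530 (flp_c L203001) q15945, e3 q11531 (flp_c L203005) q15946, e3 q11532 (flp_c L203009) q15947, e3 q11533 (flp_c L173296) q11930, e3 q11534 (flp_c L193605) q14645, e3 q11535 (flp_c L202921) q15933, e3 q11536 (flp_c L202997) q15944, e3 q11537 L170584 q7355, e3 q11538 L170590 q7356, e3 q11539 (flp_c L203075) q15958, e3 q11540 L203085 q15960, e3 q11541 (flp_c L170610) q7357, e3 q11542 L192541 q14481, e3 q11543 L203117 q15964, e3 q11544 L170626 q7427, e3 q11545 L203153 q15971, e3 q11546 L170636 q7428, e3 q11547 L170640 q7429, e3 q11548 L170644 q7430, e3 q11549 L170650 q11227, e3 q11550 L170656 q11228, e3 q11551 L203221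 q15984, e3 q11552 L170664 q7363, e3 q11553 (flp_c L193487) q14630, e3 q11554 L170674 q7364, e3 q11555 (flp_c L203235) q15987, e3 q11556 L203257 q15992, e3 q11557 L203265 q15994, e3 q11558 (flp_c L170696) q7365, e3 q11559 (flp_c L203283) q15996, e3 q11560 (flp_c L170708) q7366, e3 q11561 L170724 q7368, e3 q11562 L170734 q8311, e3 q11563 L170746 q8260, e3 q11564 L170758 q8261, e3 q11565 L203339 q16002, e3 q11566 L170775 q9401, e3 q11567 L170785 q7376, e3 q11568 (flp_c L186369) q13651, e3 q11569 L203352 q16004, e3 q11570 (flp_c L170808) q7377, e3 q11571 (flp_c L203361) q16005, e3 q11572 L203367 q16006, e3 q11573 (flp_c L171164) q11625, e3 q11574 (flp_c L171172) q11626, e3 q11575 (flp_c L171437) q11672, e3 q11576 L203403 q16011, e3 q11577 L170853 q7388, e3 q11578 L170861 q7389, e3 q11579 (flp_c L170867) q7381, e3 q11580 (flp_c L203437) q16017, e3 q11581 (flp_c L203441) q16018, e3 q11582 (flp_c L203445) q16019, e3 q11583 L170887 q7394, trivial⟩ (by decide +kernel)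

theorem ce_c_181 : ∀ r, r < 64 → sm gc (Qf (11584 + r)) = Qf (tab Gen.c (11584 + r)) :=
  edges_tab (sm gc) Qf (tab Gen.c) 11584 [(11584, 7395), (11585, 16015), (11586, 7385), (11587, 16028), (11588, 15939), (11589, 15030), (11590, 7387), (11591, 16037), (11592, 16038), (11593, 16039), (11594, 16044), (11595, 10889), (11596, 16045), (11597, 7391), (11598, 7392), (11599, 7393), (11600, 16050), (11601, 16051), (11602, 16053), (11603, 16055), (11604, 16060), (11605, 16063), (11606, 13125), (11607, 15743), (11608, 15744), (11609, 15745), (11610, 15751), (11611, 15752), (11612, 15754), (11613, 15755), (11614, 8317), (11615, 8271), (11616, 8272), (11617, 16078), (11618, 9404), (11619, 7407), (11620, 13658), (11621, 16080), (11622, 7408), (11623, 16081), (11624, 16082), (11625, 11573), (11626, 11574), (11627, 11679), (11628, 16087), (11629, 7419), (11630, 7420), (11631, 7412), (11632, 16093), (11633, 16094), (11634, 16095), (11635, 7425), (11636, 7426), (11637, 16091), (11638, 7416), (11639, 16104), (11640, 15026), (11641,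 15713), (11642, 7418), (11643, 16113), (11644, 16114), (11645, 16115), (11646, 10896), (11647, 16120)]
    ⟨e3 q11584 L170897 q7395, e3 q11585 (flp_c L203431) q16015, e3 q11586 L170907 q7385, e3 q11587 L203495 q16028, e3 q11588 (flp_c L202965) q15939, e3 q11589 (flp_c L196913) q15030, e3 q11590 (flp_c L170925) q7387, e3 q11591 (flp_c L203559) q16037, e3 q11592 (flp_c L203565) q16038, e3 q11593 (flp_c L203571) q16039, e3 q11594 L203607 q16044, e3 q11595 L170957 q10889, e3 q11596 L203617 q16045, e3 q11597 L170971 q7391, e3 q11598 L170975 q7392, e3 q11599 L170979 q7393, e3 q11600 (flp_c L203641) q16050, e3 q11601 (flp_c L203647) q16051, e3 q11602 (flp_c L203659) q16053, e3 q11603 (flp_c L203673) q16055, e3 q11604 L203705 q16060, e3 q11605 L203731 q16063, e3 q11606 L187823 q13125, e3 q11607 (flp_c L201502) q15743, e3 q11608 (flp_c L201508) q15744, e3 q11609 (flp_c L201514) q15745, e3 q11610 (flp_c L201538) q15751, e3 q11611 (flp_c L201544) q15752, e3 q11612 (flp_c L201554) q15754, e3 q11613 (flp_c L201562) q15755, e3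 q11614 L171073 q8317, e3 q11615 L171085 q8271, e3 q11616 L171097 q8272, e3 q11617 L203839 q16078, e3 q11618 L171114 q9404, e3 q11619 L171124 q7407, e3 q11620 (flp_c L186421) q13658, e3 q11621 L203852 q16080, e3 q11622 (flp_c L171147) q7408, e3 q11623 (flp_c L203861) q16081, e3 q11624 L203867 q16082, e3 q11625 L171164 q11573, e3 q11626 L171172 q11574, e3 q11627 (flp_c L171470) q11679, e3 q11628 L203903 q16087, e3 q11629 L171196 q7419, e3 q11630 L171206 q7420, e3 q11631 (flp_c L171210) q7412, e3 q11632 (flp_c L203937) q16093, e3 q11633 (flp_c L203941) q16094, e3 q11634 (flp_c L203945) q16095, e3 q11635 L171230 q7425, e3 q11636 L171240 q7426, e3 q11637 (flp_c L203931) q16091, e3 q11638 L171250 q7416, e3 q11639 L203995 q16104, e3 q11640 (flp_c L196887) q15026, e3 q11641 (flp_c L201330) q15713, e3 q11642 (flp_c L171268) q7418, e3 q11643 (flp_c L204063) q16113, e3 q11644 (flp_c L204069) q16114, e3 q11645 (flp_c L204075) q16115, e3 q11646 L171294 q10896, e3 q11647 L204111 q16120, trivial⟩ (by decide +kernel)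

theorem ce_c_182 : ∀ r, r < 64 → sm gc (Qf (11648 + r)) = Qf (tab Gen.c (11648 + r)) :=
  edges_tab (sm gc) Qf (tab Gen.c) 11648 [(11648, 16121), (11649, 7422), (11650, 7423), (11651, 7424), (11652, 16126), (11653, 16127), (11654, 16129), (11655, 16131), (11656, 16137), (11657, 16139), (11658, 13184), (11659, 15968), (11660, 15969), (11661, 15970), (11662, 15976), (11663, 15977), (11664, 15978), (11665, 15980), (11666, 7431), (11667, 16152), (11668, 13922), (11669, 16161), (11670, 13923), (11671, 13924), (11672, 11575), (11673, 7435), (11674, 16167), (11675, 13913), (11676, 16176), (11677, 13914), (11678, 13915), (11679, 11627), (11680, 7443), (11681, 7445), (11682, 12853), (11683, 12588), (11684, 8026), (11685, 12859), (11686, 12581), (11687, 7969), (11688, 11688), (11689, 7462), (11690, 7464), (11691, 7541), (11692, 7586), (11693, 11693), (11694, 11694), (11695, 11695), (11696, 11696), (11697, 7502), (11698, 7506), (11699, 7912), (11700, 7485), (11701, 16189), (11702, 12185), (11703, 7516), (11704, 7520), (11705,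 7751), (11706, 7494), (11707, 16192), (11708, 11989), (11709, 7938), (11710, 11714), (11711, 12078)]
    ⟨e3 q11648 L204121 q16121, e3 q11649 L171314 q7422, e3 q11650 L171318 q7423, e3 q11651 L171322 q7424, e3 q11652 (flp_c L204145) q16126, e3 q11653 (flp_c L204151) q16127, e3 q11654 (flp_c L204163) q16129, e3 q11655 (flp_c L204177) q16131, e3 q11656 L204217 q16137, e3 q11657 L204231 q16139, e3 q11658 L188169 q13184, e3 q11659 (flp_c L203139) q15968, e3 q11660 (flp_c L203145) q15969, e3 q11661 (flp_c L203151) q15970, e3 q11662 (flp_c L203175) q15976, e3 q11663 (flp_c L203181) q15977, e3 q11664 (flp_c L203187) q15978, e3 q11665 (flp_c L203199) q15980, e3 q11666 (flp_c L171414) q7431, e3 q11667 (flp_c L204327) q16152, e3 q11668 (flp_c L188469) q13922, e3 q11669 L204370 q16161, e3 q11670 (flp_c L188477) q13923, e3 q11671 (flp_c L188485) q13924, e3 q11672 L171437 q11575, e3 q11673 (flp_c L171443) q7435, e3 q11674 (flp_c L204408) q16167, e3 q11675 (flp_c L188387) q13913, e3 q11676 L204457 q16176, e3 q11677 (flp_c L188395)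 q13914, e3 q11678 (flp_c L188404) q13915, e3 q11679 L171470 q11627, e3 q11680 L171480 q7443, e3 q11681 L171490 q7445, e3 q11682 L180435 q12853, e3 q11683 L178331 q12588, e3 q11684 L171506 q8026, e3 q11685 L180487 q12859, e3 q11686 L178241 q12581, e3 q11687 L171522 q7969, e3 q11688 L171537 q11688, e3 q11689 L171540 q7462, e3 q11690 L171552 q7464, e3 q11691 L171564 q7541, e3 q11692 L171571 q7586, e3 q11693 L171579 q11693, e3 q11694 L171584 q11694, e3 q11695 L171595 q11695, e3 q11696 L171600 q11696, e3 q11697 L171612 q7502, e3 q11698 L171618 q7506, e3 q11699 L171632 q7912, e3 q11700 (flp_c L171634) q7485, e3 q11701 (flp_c L204571) q16189, e3 q11702 (flp_c L175168) q12185, e3 q11703 L171656 q7516, e3 q11704 L171662 q7520, e3 q11705 L171676 q7751, e3 q11706 (flp_c L171678) q7494, e3 q11707 (flp_c L204597) q16192, e3 q11708 (flp_c L173691) q11989, e3 q11709 L171696 q7938, e3 q11710 (flp_c L171735) q11714, e3 q11711 (flp_c L174322) q12078, trivial⟩ (by decide +kernel)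

theorem ce_c_183 : ∀ r, r < 64 → sm gc (Qf (11712 + r)) = Qf (tab Gen.c (11712 + r)) :=
  edges_tab (sm gc) Qf (tab Gen.c) 11712 [(11712, 7504), (11713, 16182), (11714, 11710), (11715, 7507), (11716, 16198), (11717, 7848), (11718, 7996), (11719, 11723), (11720, 11865), (11721, 7518), (11722, 16184), (11723, 11719), (11724, 7521), (11725, 16203), (11726, 7684), (11727, 10812), (11728, 7533), (11729, 7638), (11730, 15002), (11731, 10808), (11732, 8532), (11733, 7539), (11734, 16183), (11735, 16205), (11736, 7543), (11737, 7544), (11738, 16208), (11739, 16209), (11740, 8020), (11741, 8034), (11742, 11882), (11743, 9798), (11744, 7549), (11745, 12659), (11746, 7552), (11747, 12660), (11748, 16216), (11749, 11881), (11750, 11793), (11751, 9003), (11752, 9799), (11753, 13012), (11754, 9001), (11755, 14736), (11756, 7561), (11757, 12655), (11758, 16223), (11759, 7965), (11760, 14735), (11761, 7566), (11762, 12654), (11763, 12656), (11764, 7565), (11765, 16229), (11766, 16232), (11767, 12233), (11768, 16234), (11769, 7568),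 (11770, 10834), (11771, 7578), (11772, 15015), (11773, 7803), (11774, 10829), (11775, 8503)]
    ⟨e3 q11712 (flp_c L171714) q7504, e3 q11713 (flp_c L204493) q16182, e3 q11714 L171735 q11710, e3 q11715 (flp_c L171741) q7507, e3 q11716 (flp_c L204644) q16198, e3 q11717 L171762 q7848, e3 q11718 L171766 q7996, e3 q11719 (flp_c L171805) q11723, e3 q11720 (flp_c L172801) q11865, e3 q11721 (flp_c L171784) q7518, e3 q11722 (flp_c L204514) q16184, e3 q11723 L171805 q11719, e3 q11724 (flp_c L171811) q7521, e3 q11725 (flp_c L204685) q16203, e3 q11726 L171832 q7684, e3 q11727 L171838 q10812, e3 q11728 L171850 q7533, e3 q11729 L171860 q7638, e3 q11730 (flp_c L196693) q15002, e3 q11731 L171880 q10808, e3 q11732 L171888 q8532, e3 q11733 (flp_c L171905) q7539, e3 q11734 (flp_c L204504) q16183, e3 q11735 L204703 q16205, e3 q11736 L171924 q7543, e3 q11737 (flp_c L171928) q7544, e3 q11738 (flp_c L204735) q16208, e3 q11739 (flp_c L204744) q16209, e3 q11740 L171944 q8020, e3 q11741 L171954 q8034, e3 q11742 (flp_c L172921) q11882, e3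 q11743 L171964 q9798, e3 q11744 (flp_c L171968) q7549, e3 q11745 (flp_c L178945) q12659, e3 q11746 L171986 q7552, e3 q11747 (flp_c L178959) q12660, e3 q11748 L204796 q16216, e3 q11749 (flp_c L172907) q11881, e3 q11750 (flp_c L172303) q11793, e3 q11751 (flp_c L172011) q9003, e3 q11752 L172017 q9799, e3 q11753 (flp_c L181521) q13012, e3 q11754 L172031 q9001, e3 q11755 (flp_c L194343) q14736, e3 q11756 L172045 q7561, e3 q11757 (flp_c L178907) q12655, e3 q11758 L204855 q16223, e3 q11759 L172067 q7965, e3 q11760 (flp_c L194331) q14735, e3 q11761 L172081 q7566, e3 q11762 (flp_c L178902) q12654, e3 q11763 (flp_c L178919) q12656, e3 q11764 (flp_c L172098) q7565, e3 q11765 (flp_c L204898) q16229, e3 q11766 L204916 q16232, e3 q11767 (flp_c L175519) q12233, e3 q11768 L204924 q16234, e3 q11769 (flp_c L172121) q7568, e3 q11770 L172129 q10834, e3 q11771 L172141 q7578, e3 q11772 (flp_c L196801) q15015, e3 q11773 L172159 q7803, e3 q11774 L172171 q10829, e3 q11775 L172182 q8503, trivial⟩ (by decide +kernel)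

theorem ce_c_184 : ∀ r, r < 64 → sm gc (Qf (11776 + r)) = Qf (tab Gen.c (11776 + r)) :=
  edges_tab (sm gc) Qf (tab Gen.c) 11776 [(11776, 7584), (11777, 16185), (11778, 16228), (11779, 7588), (11780, 7589), (11781, 16238), (11782, 16239), (11783, 7961), (11784, 7976), (11785, 9851), (11786, 12091), (11787, 7594), (11788, 12650), (11789, 7597), (11790, 12651), (11791, 16246), (11792, 12090), (11793, 11750), (11794, 9065), (11795, 9852), (11796, 13083), (11797, 9063), (11798, 14717), (11799, 7606), (11800, 12646), (11801, 16253), (11802, 8023), (11803, 14716), (11804, 7611), (11805, 12645), (11806, 12647), (11807, 7610), (11808, 16258), (11809, 16261), (11810, 12293), (11811, 16263), (11812, 7613), (11813, 8902), (11814, 16265), (11815, 7617), (11816, 7903), (11817, 16268), (11818, 16271), (11819, 7620), (11820, 16274), (11821, 16276), (11822, 9041), (11823, 7622), (11824, 12786), (11825, 9811), (11826, 7623), (11827, 12173), (11828, 9677), (11829, 7625), (11830, 12174), (11831, 7626), (11832, 12132), (11833, 10330),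 (11834, 7629), (11835, 16281), (11836, 10329), (11837, 12051), (11838, 14734), (11839, 7634)]
    ⟨e3 q11776 (flp_c L172196) q7584, e3 q11777 (flp_c L204525) q16185, e3 q11778 L204894 q16228, e3 q11779 L172215 q7588, e3 q11780 (flp_c L172219) q7589, e3 q11781 (flp_c L204969) q16238, e3 q11782 (flp_c L204980) q16239, e3 q11783 L172243 q7961, e3 q11784 L172253 q7976, e3 q11785 L172259 q9851, e3 q11786 (flp_c L174416) q12091, e3 q11787 (flp_c L172267) q7594, e3 q11788 (flp_c L178854) q12650, e3 q11789 L172285 q7597, e3 q11790 (flp_c L178868) q12651, e3 q11791 L205038 q16246, e3 q11792 (flp_c L174402) q12090, e3 q11793 L172303 q11750, e3 q11794 (flp_c L172316) q9065, e3 q11795 L172322 q9852, e3 q11796 (flp_c L182001) q13083, e3 q11797 L172336 q9063, e3 q11798 (flp_c L194171) q14717, e3 q11799 L172350 q7606, e3 q11800 (flp_c L178816) q12646, e3 q11801 L205103 q16253, e3 q11802 L172372 q8023, e3 q11803 (flp_c L194159) q14716, e3 q11804 L172386 q7611, e3 q11805 (flp_c L178811) q12645, e3 q11806 (flp_c L178828) q12647,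 e3 q11807 (flp_c L172405) q7610, e3 q11808 (flp_c L205143) q16258, e3 q11809 L205163 q16261, e3 q11810 (flp_c L175913) q12293, e3 q11811 L205171 q16263, e3 q11812 (flp_c L172434) q7613, e3 q11813 (flp_c L172446) q8902, e3 q11814 L205191 q16265, e3 q11815 (flp_c L172452) q7617, e3 q11816 L172462 q7903, e3 q11817 L205229 q16268, e3 q11818 L205250 q16271, e3 q11819 (flp_c L172476) q7620, e3 q11820 (flp_c L205281) q16274, e3 q11821 L205295 q16276, e3 q11822 L172493 q9041, e3 q11823 (flp_c L172495) q7622, e3 q11824 (flp_c L179897) q12786, e3 q11825 (flp_c L172517) q9811, e3 q11826 (flp_c L172519) q7623, e3 q11827 (flp_c L175088) q12173, e3 q11828 (flp_c L172565) q9677, e3 q11829 L172535 q7625, e3 q11830 (flp_c L175098) q12174, e3 q11831 (flp_c L172545) q7626, e3 q11832 L174789 q12132, e3 q11833 (flp_c L172563) q10330, e3 q11834 (flp_c L172567) q7629, e3 q11835 (flp_c L205346) q16281, e3 q11836 L172585 q10329, e3 q11837 (flp_c L174096) q12051, e3 q11838 (flp_c L194319) q14734, e3 q11839 L172601 q7634, trivial⟩ (by decide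 +kernel)

theorem ce_c_185 : ∀ r, r < 64 → sm gc (Qf (11840 + r)) = Qf (tab Gen.c (11840 + r)) :=
  edges_tab (sm gc) Qf (tab Gen.c) 11840 [(11840, 7635), (11841, 10637), (11842, 10806), (11843, 13666), (11844, 16288), (11845, 7636), (11846, 16289), (11847, 13390), (11848, 7642), (11849, 7643), (11850, 7644), (11851, 7646), (11852, 14998), (11853, 12075), (11854, 14901), (11855, 12069), (11856, 12077), (11857, 7647), (11858, 8567), (11859, 7648), (11860, 12168), (11861, 12074), (11862, 12065), (11863, 16296), (11864, 12068), (11865, 11720), (11866, 7654), (11867, 16297), (11868, 7822), (11869, 7656), (11870, 7657), (11871, 16010), (11872, 8950), (11873, 7662), (11874, 15774), (11875, 14715), (11876, 7791), (11877, 16301), (11878, 9717), (11879, 7665), (11880, 14331), (11881, 11749), (11882, 11742), (11883, 14547), (11884, 16308), (11885, 7670), (11886, 8171), (11887, 7672), (11888, 16310), (11889, 16311), (11890, 7674), (11891, 7676), (11892, 7677), (11893, 16313), (11894, 16317), (11895, 16201), (11896, 7681),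 (11897, 12106), (11898, 16235), (11899, 7682), (11900, 12110), (11901, 16320), (11902, 7847), (11903, 7683)]
    ⟨e3 q11840 L172612 q7635, e3 q11841 L172622 q10637, e3 q11842 L172632 q10806, e3 q11843 (flp_c L186498) q13666, e3 q11844 L205409 q16288, e3 q11845 (flp_c L172644) q7636, e3 q11846 (flp_c L205426) q16289, e3 q11847 (flp_c L184215) q13390, e3 q11848 L172671 q7642, e3 q11849 L172683 q7643, e3 q11850 L172691 q7644, e3 q11851 L172699 q7646, e3 q11852 (flp_c L196663) q14998, e3 q11853 (flp_c L174296) q12075, e3 q11854 (flp_c L195821) q14901, e3 q11855 (flp_c L174248) q12069, e3 q11856 (flp_c L174310) q12077, e3 q11857 (flp_c L172737) q7647, e3 q11858 (flp_c L172751) q8567, e3 q11859 (flp_c L172753) q7648, e3 q11860 (flp_c L175037) q12168, e3 q11861 (flp_c L174290) q12074, e3 q11862 L174218 q12065, e3 q11863 L205488 q16296, e3 q11864 (flp_c L174238) q12068, e3 q11865 L172801 q11720, e3 q11866 (flp_c L172809) q7654, e3 q11867 (flp_c L205500) q16297, e3 q11868 L172821 q7822, e3 q11869 L172827 q7656, e3 q11870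 (flp_c L172831) q7657, e3 q11871 (flp_c L203397) q16010, e3 q11872 (flp_c L172851) q8950, e3 q11873 (flp_c L172853) q7662, e3 q11874 (flp_c L201676) q15774, e3 q11875 (flp_c L194147) q14715, e3 q11876 L172879 q7791, e3 q11877 (flp_c L205540) q16301, e3 q11878 (flp_c L172891) q9717, e3 q11879 L172897 q7665, e3 q11880 (flp_c L191535) q14331, e3 q11881 L172907 q11749, e3 q11882 L172921 q11742, e3 q11883 (flp_c L192989) q14547, e3 q11884 L205598 q16308, e3 q11885 (flp_c L172944) q7670, e3 q11886 L172959 q8171, e3 q11887 (flp_c L172965) q7672, e3 q11888 (flp_c L205623) q16310, e3 q11889 L205627 q16311, e3 q11890 (flp_c L172984) q7674, e3 q11891 L173002 q7676, e3 q11892 (flp_c L173006) q7677, e3 q11893 L205641 q16313, e3 q11894 L205671 q16317, e3 q11895 L204670 q16201, e3 q11896 (flp_c L173024) q7681, e3 q11897 (flp_c L174555) q12106, e3 q11898 L204944 q16235, e3 q11899 (flp_c L173040) q7682, e3 q11900 (flp_c L174587) q12110, e3 q11901 (flp_c L205705) q16320, e3 q11902 (flp_c L173064) q7847, e3 q11903 (flp_c L173066)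 q7683, trivial⟩ (by decide +kernel)

theorem ce_c_186 : ∀ r, r < 64 → sm gc (Qf (11904 + r)) = Qf (tab Gen.c (11904 + r)) :=
  edges_tab (sm gc) Qf (tab Gen.c) 11904 [(11904, 12111), (11905, 7687), (11906, 12789), (11907, 7914), (11908, 14392), (11909, 12189), (11910, 12217), (11911, 7714), (11912, 7694), (11913, 13941), (11914, 7695), (11915, 12029), (11916, 7696), (11917, 12123), (11918, 7699), (11919, 7700), (11920, 10585), (11921, 8055), (11922, 9822), (11923, 7702), (11924, 12337), (11925, 7915), (11926, 7708), (11927, 12043), (11928, 7710), (11929, 7711), (11930, 11533), (11931, 7743), (11932, 16330), (11933, 14145), (11934, 7709), (11935, 16332), (11936, 12020), (11937, 16333), (11938, 16328), (11939, 7713), (11940, 16324), (11941, 16325), (11942, 7719), (11943, 14157), (11944, 7916), (11945, 16346), (11946, 7718), (11947, 16343), (11948, 16341), (11949, 13484), (11950, 12402), (11951, 9777), (11952, 7720), (11953, 10625), (11954, 10561), (11955, 7722), (11956, 16354), (11957, 10655), (11958, 10429), (11959,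 10664), (11960, 10337), (11961, 10665), (11962, 10643), (11963, 9713), (11964, 12167), (11965, 12072), (11966, 9842), (11967, 9478)]
    ⟨e3 q11904 (flp_c L174599) q12111, e3 q11905 (flp_c L173088) q7687, e3 q11906 (flp_c L179923) q12789, e3 q11907 L173110 q7914, e3 q11908 (flp_c L191972) q14392, e3 q11909 (flp_c L175204) q12189, e3 q11910 (flp_c L175384) q12217, e3 q11911 L173136 q7714, e3 q11912 L173142 q7694, e3 q11913 (flp_c L188653) q13941, e3 q11914 (flp_c L173154) q7695, e3 q11915 (flp_c L173923) q12029, e3 q11916 (flp_c L173164) q7696, e3 q11917 L174695 q12123, e3 q11918 L173184 q7699, e3 q11919 (flp_c L173190) q7700, e3 q11920 L173208 q10585, e3 q11921 L173216 q8055, e3 q11922 L173230 q9822, e3 q11923 L173242 q7702, e3 q11924 L176233 q12337, e3 q11925 (flp_c L173264) q7915, e3 q11926 L173270 q7708, e3 q11927 (flp_c L174026) q12043, e3 q11928 L173284 q7710, e3 q11929 L173292 q7711, e3 q11930 L173296 q11533, e3 q11931 L173304 q7743, e3 q11932 L205796 q16330, e3 q11933 (flp_c L190186) q14145, e3 q11934 (flp_c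 L173325) q7709, e3 q11935 (flp_c L205812) q16332, e3 q11936 L183419 q12020, e3 q11937 (flp_c L205816) q16333, e3 q11938 (flp_c L205781) q16328, e3 q11939 L173353 q7713, e3 q11940 (flp_c L205741) q16324, e3 q11941 (flp_c L205753) q16325, e3 q11942 L173365 q7719, e3 q11943 (flp_c L190283) q14157, e3 q11944 L173375 q7916, e3 q11945 L205909 q16346, e3 q11946 L173385 q7718, e3 q11947 (flp_c L205886) q16343, e3 q11948 (flp_c L205874) q16341, e3 q11949 (flp_c L184904) q13484, e3 q11950 (flp_c L176837) q12402, e3 q11951 (flp_c L173409) q9777, e3 q11952 (flp_c L173411) q7720, e3 q11953 (flp_c L173437) q10625, e3 q11954 (flp_c L173427) q10561, e3 q11955 L173443 q7722, e3 q11956 (flp_c L205963) q16354, e3 q11957 (flp_c L173467) q10655, e3 q11958 L173475 q10429, e3 q11959 L173487 q10664, e3 q11960 L173493 q10337, e3 q11961 L173500 q10665, e3 q11962 (flp_c L173516) q10643, e3 q11963 L173520 q9713, e3 q11964 (flp_c L175031) q12167, e3 q11965 L174278 q12072, e3 q11966 L173536 q9842, e3 q11967 L173544 q9478, trivial⟩ (by decide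 +kernel)

theorem ce_c_187 : ∀ r, r < 64 → sm gc (Qf (11968 + r)) = Qf (tab Gen.c (11968 + r)) :=
  edges_tab (sm gc) Qf (tab Gen.c) 11968 [(11968, 7748), (11969, 9942), (11970, 12039), (11971, 7754), (11972, 16329), (11973, 9789), (11974, 12042), (11975, 7742), (11976, 7783), (11977, 11981), (11978, 13439), (11979, 8027), (11980, 13163), (11981, 11977), (11982, 14783), (11983, 7756), (11984, 7750), (11985, 7752), (11986, 16191), (11987, 16368), (11988, 7762), (11989, 11708), (11990, 7753), (11991, 16372), (11992, 16364), (11993, 16365), (11994, 16366), (11995, 12317), (11996, 16382), (11997, 7759), (11998, 8492), (11999, 12115), (12000, 16369), (12001, 12614), (12002, 16389), (12003, 7985), (12004, 7986), (12005, 7987), (12006, 7764), (12007, 16396), (12008, 12257), (12009, 16397), (12010, 16074), (12011, 7989), (12012, 7990), (12013, 7991), (12014, 7992), (12015, 16408), (12016, 7876), (12017, 7770), (12018, 15966), (12019, 7773), (12020, 11936), (12021, 16414), (12022, 16415), (12023, 7774), (12024, 7775), (12025,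 16417), (12026, 16418), (12027, 7777), (12028, 16420), (12029, 11915), (12030, 8910), (12031, 16360)]
    ⟨e3 q11968 L173552 q7748, e3 q11969 L173564 q9942, e3 q11970 (flp_c L173984) q12039, e3 q11971 L173580 q7754, e3 q11972 (flp_c L205789) q16329, e3 q11973 L173595 q9789, e3 q11974 (flp_c L174018) q12042, e3 q11975 (flp_c L173605) q7742, e3 q11976 L173613 q7783, e3 q11977 (flp_c L173645) q11981, e3 q11978 (flp_c L184555) q13439, e3 q11979 L173635 q8027, e3 q11980 L182541 q13163, e3 q11981 L173645 q11977, e3 q11982 (flp_c L194767) q14783, e3 q11983 L173653 q7756, e3 q11984 L173657 q7750, e3 q11985 L173663 q7752, e3 q11986 (flp_c L204587) q16191, e3 q11987 (flp_c L206080) q16368, e3 q11988 L173681 q7762, e3 q11989 L173691 q11708, e3 q11990 (flp_c L173697) q7753, e3 q11991 (flp_c L206122) q16372, e3 q11992 (flp_c L206050) q16364, e3 q11993 (flp_c L206062) q16365, e3 q11994 (flp_c L206068) q16366, e3 q11995 L176065 q12317, e3 q11996 L206194 q16382, e3 q11997 L173737 q7759, e3 q11998 (flp_c L173749) q8492, e3 q11999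 (flp_c L174637) q12115, e3 q12000 (flp_c L206090) q16369, e3 q12001 (flp_c L178587) q12614, e3 q12002 L206264 q16389, e3 q12003 L173779 q7985, e3 q12004 L173785 q7986, e3 q12005 L173791 q7987, e3 q12006 (flp_c L173793) q7764, e3 q12007 (flp_c L206324) q16396, e3 q12008 L175665 q12257, e3 q12009 (flp_c L206330) q16397, e3 q12010 (flp_c L206382) q16074, e3 q12011 L173815 q7989, e3 q12012 L173821 q7990, e3 q12013 L173827 q7991, e3 q12014 L173835 q7992, e3 q12015 L206418 q16408, e3 q12016 L173849 q7876, e3 q12017 (flp_c L173853) q7770, e3 q12018 (flp_c L203127) q15966, e3 q12019 L173863 q7773, e3 q12020 (flp_c L183419) q11936, e3 q12021 L206464 q16414, e3 q12022 L206472 q16415, e3 q12023 (flp_c L173883) q7774, e3 q12024 (flp_c L173891) q7775, e3 q12025 (flp_c L206496) q16417, e3 q12026 L206502 q16418, e3 q12027 L173911 q7777, e3 q12028 (flp_c L206528) q16420, e3 q12029 L173923 q11915, e3 q12030 (flp_c L173939) q8910, e3 q12031 (flp_c L206014) q16360, trivial⟩ (by decide +kernel)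

theorem ce_c_188 : ∀ r, r < 64 → sm gc (Qf (12032 + r)) = Qf (tab Gen.c (12032 + r)) :=
  edges_tab (sm gc) Qf (tab Gen.c) 12032 [(12032, 16423), (12033, 16426), (12034, 7786), (12035, 16429), (12036, 16431), (12037, 9863), (12038, 7788), (12039, 11970), (12040, 9699), (12041, 7790), (12042, 11974), (12043, 11927), (12044, 8976), (12045, 7792), (12046, 12761), (12047, 10366), (12048, 7794), (12049, 16436), (12050, 10364), (12051, 11837), (12052, 7799), (12053, 7800), (12054, 10827), (12055, 10724), (12056, 13665), (12057, 16442), (12058, 7801), (12059, 16443), (12060, 13441), (12061, 7807), (12062, 7808), (12063, 7810), (12064, 7811), (12065, 11862), (12066, 14949), (12067, 15012), (12068, 11864), (12069, 11855), (12070, 8558), (12071, 7812), (12072, 11965), (12073, 7814), (12074, 11861), (12075, 11853), (12076, 16449), (12077, 11856), (12078, 11711), (12079, 7819), (12080, 16450), (12081, 7821), (12082, 16086), (12083, 9016), (12084, 7827), (12085, 15999), (12086, 16299), (12087, 9725), (12088, 7829), (12089,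 14385), (12090, 11792), (12091, 11786), (12092, 14599), (12093, 16457), (12094, 7834), (12095, 8201)]
    ⟨e3 q12032 L206548 q16423, e3 q12033 L206569 q16426, e3 q12034 (flp_c L173955) q7786, e3 q12035 (flp_c L206602) q16429, e3 q12036 L206616 q16431, e3 q12037 (flp_c L173972) q9863, e3 q12038 (flp_c L173974) q7788, e3 q12039 L173984 q11970, e3 q12040 L174076 q9699, e3 q12041 L174010 q7790, e3 q12042 L174018 q11974, e3 q12043 L174026 q11927, e3 q12044 L174038 q8976, e3 q12045 (flp_c L174040) q7792, e3 q12046 (flp_c L179679) q12761, e3 q12047 (flp_c L174066) q10366, e3 q12048 (flp_c L174068) q7794, e3 q12049 (flp_c L206667) q16436, e3 q12050 L174088 q10364, e3 q12051 L174096 q11837, e3 q12052 L174102 q7799, e3 q12053 L174112 q7800, e3 q12054 L174123 q10827, e3 q12055 L174131 q10724, e3 q12056 (flp_c L186489) q13665, e3 q12057 L206728 q16442, e3 q12058 (flp_c L174145) q7801, e3 q12059 (flp_c L206743) q16443, e3 q12060 (flp_c L184573) q13441, e3 q12061 L174176 q7807, e3 q12062 L174186 q7808, e3 q12063 L174196 q7810,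 e3 q12064 L174206 q7811, e3 q12065 (flp_c L174218) q11862, e3 q12066 (flp_c L196228) q14949, e3 q12067 (flp_c L196775) q15012, e3 q12068 L174238 q11864, e3 q12069 L174248 q11855, e3 q12070 L174256 q8558, e3 q12071 (flp_c L174258) q7812, e3 q12072 (flp_c L174278) q11965, e3 q12073 (flp_c L174280) q7814, e3 q12074 L174290 q11861, e3 q12075 L174296 q11853, e3 q12076 L206799 q16449, e3 q12077 L174310 q11856, e3 q12078 L174322 q11711, e3 q12079 (flp_c L174330) q7819, e3 q12080 (flp_c L206813) q16450, e3 q12081 L174340 q7821, e3 q12082 (flp_c L203897) q16086, e3 q12083 (flp_c L174358) q9016, e3 q12084 (flp_c L174360) q7827, e3 q12085 (flp_c L203313) q15999, e3 q12086 L205522 q16299, e3 q12087 (flp_c L174386) q9725, e3 q12088 L174392 q7829, e3 q12089 (flp_c L191910) q14385, e3 q12090 L174402 q11792, e3 q12091 L174416 q11786, e3 q12092 (flp_c L193311) q14599, e3 q12093 L206873 q16457, e3 q12094 (flp_c L174441) q7834, e3 q12095 L174456 q8201, trivial⟩ (by decide +kernel)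

theorem ce_c_189 : ∀ r, r < 64 → sm gc (Qf (12096 + r)) = Qf (tab Gen.c (12096 + r)) :=
  edges_tab (sm gc) Qf (tab Gen.c) 12096 [(12096, 7836), (12097, 16459), (12098, 16460), (12099, 7838), (12100, 7840), (12101, 7841), (12102, 16462), (12103, 16316), (12104, 16196), (12105, 7845), (12106, 11897), (12107, 16204), (12108, 7846), (12109, 16292), (12110, 11900), (12111, 11904), (12112, 7851), (12113, 12764), (12114, 14337), (12115, 11999), (12116, 12276), (12117, 7877), (12118, 7858), (12119, 13964), (12120, 7859), (12121, 12212), (12122, 7860), (12123, 11917), (12124, 7863), (12125, 7864), (12126, 10634), (12127, 8100), (12128, 9875), (12129, 7866), (12130, 12383), (12131, 7872), (12132, 11832), (12133, 7874), (12134, 7875), (12135, 11376), (12136, 7902), (12137, 16472), (12138, 14135), (12139, 7873), (12140, 16474), (12141, 16475), (12142, 12203), (12143, 16326), (12144, 16468), (12145, 16469), (12146, 14178), (12147, 7881), (12148, 16486), (12149, 7880), (12150, 16485), (12151, 16483), (12152, 13431), (12153,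 12357), (12154, 9831), (12155, 7882), (12156, 10575), (12157, 10574), (12158, 7884), (12159, 16494)]
    ⟨e3 q12096 (flp_c L174464) q7836, e3 q12097 (flp_c L206902) q16459, e3 q12098 L206908 q16460, e3 q12099 (flp_c L174493) q7838, e3 q12100 L174515 q7840, e3 q12101 (flp_c L174521) q7841, e3 q12102 L206926 q16462, e3 q12103 (flp_c L205669) q16316, e3 q12104 L204629 q16196, e3 q12105 (flp_c L174547) q7845, e3 q12106 L174555 q11897, e3 q12107 L204701 q16204, e3 q12108 (flp_c L174569) q7846, e3 q12109 (flp_c L205448) q16292, e3 q12110 L174587 q11900, e3 q12111 L174599 q11904, e3 q12112 (flp_c L174607) q7851, e3 q12113 (flp_c L179705) q12764, e3 q12114 (flp_c L191591) q14337, e3 q12115 L174637 q11999, e3 q12116 (flp_c L175807) q12276, e3 q12117 L174651 q7877, e3 q12118 L174657 q7858, e3 q12119 (flp_c L188807) q13964, e3 q12120 (flp_c L174667) q7859, e3 q12121 (flp_c L175336) q12212, e3 q12122 (flp_c L174677) q7860, e3 q12123 (flp_c L174695) q11917, e3 q12124 L174701 q7863, e3 q12125 (flp_c L174707) q7864, e3 q12126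 L174727 q10634, e3 q12127 L174735 q8100, e3 q12128 L174749 q9875, e3 q12129 L174761 q7866, e3 q12130 L176654 q12383, e3 q12131 L174781 q7872, e3 q12132 (flp_c L174789) q11832, e3 q12133 L174797 q7874, e3 q12134 L174807 q7875, e3 q12135 L174815 q11376, e3 q12136 L174825 q7902, e3 q12137 L207019 q16472, e3 q12138 (flp_c L190109) q14135, e3 q12139 (flp_c L174842) q7873, e3 q12140 (flp_c L207035) q16474, e3 q12141 (flp_c L207039) q16475, e3 q12142 L183425 q12203, e3 q12143 (flp_c L205765) q16326, e3 q12144 (flp_c L206982) q16468, e3 q12145 (flp_c L206994) q16469, e3 q12146 (flp_c L190449) q14178, e3 q12147 L174878 q7881, e3 q12148 L207118 q16486, e3 q12149 L174886 q7880, e3 q12150 (flp_c L207113) q16485, e3 q12151 (flp_c L207095) q16483, e3 q12152 L184512 q13431, e3 q12153 (flp_c L176424) q12357, e3 q12154 (flp_c L174962) q9831, e3 q12155 (flp_c L174912) q7882, e3 q12156 L174922 q10575, e3 q12157 (flp_c L174934) q10574, e3 q12158 L174944 q7884, e3 q12159 (flp_c L207180) q16494, trivial⟩ (by decide +kernel)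

theorem ce_c_190 : ∀ r, r < 64 → sm gc (Qf (12160 + r)) = Qf (tab Gen.c (12160 + r)) :=
  edges_tab (sm gc) Qf (tab Gen.c) 12160 [(12160, 10739), (12161, 10395), (12162, 10746), (12163, 10372), (12164, 10747), (12165, 10728), (12166, 9691), (12167, 11964), (12168, 11860), (12169, 9486), (12170, 7907), (12171, 9940), (12172, 16471), (12173, 11827), (12174, 11830), (12175, 12179), (12176, 13387), (12177, 7968), (12178, 13104), (12179, 12175), (12180, 14817), (12181, 7910), (12182, 7911), (12183, 16502), (12184, 16188), (12185, 11702), (12186, 7919), (12187, 16322), (12188, 8484), (12189, 11909), (12190, 16504), (12191, 12608), (12192, 8043), (12193, 8044), (12194, 8045), (12195, 16151), (12196, 8047), (12197, 8048), (12198, 8049), (12199, 8050), (12200, 7924), (12201, 15741), (12202, 7927), (12203, 12142), (12204, 16521), (12205, 16522), (12206, 7928), (12207, 7929), (12208, 16524), (12209, 16525), (12210, 7931), (12211, 16527), (12212, 12121), (12213, 12607), (12214, 12215), (12215, 12214), (12216, 16528), (12217,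 11910), (12218, 15910), (12219, 14143), (12220, 7948), (12221, 14140), (12222, 7949), (12223, 12457)]
    ⟨e3 q12160 (flp_c L174974) q10739, e3 q12161 L174982 q10395, e3 q12162 L174994 q10746, e3 q12163 L175000 q10372, e3 q12164 L175007 q10747, e3 q12165 (flp_c L175023) q10728, e3 q12166 L175027 q9691, e3 q12167 L175031 q11964, e3 q12168 L175037 q11860, e3 q12169 L175047 q9486, e3 q12170 L175057 q7907, e3 q12171 L175071 q9940, e3 q12172 (flp_c L207012) q16471, e3 q12173 L175088 q11827, e3 q12174 L175098 q11830, e3 q12175 (flp_c L175130) q12179, e3 q12176 (flp_c L184185) q13387, e3 q12177 L175120 q7968, e3 q12178 L182179 q13104, e3 q12179 L175130 q12175, e3 q12180 (flp_c L195077) q14817, e3 q12181 L175144 q7910, e3 q12182 L175150 q7911, e3 q12183 (flp_c L207237) q16502, e3 q12184 (flp_c L204561) q16188, e3 q12185 L175168 q11702, e3 q12186 L175178 q7919, e3 q12187 (flp_c L205727) q16322, e3 q12188 (flp_c L175198) q8484, e3 q12189 L175204 q11909, e3 q12190 (flp_c L207259) q16504, e3 q12191 (flp_c L178541) q12608, e3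 q12192 L175220 q8043, e3 q12193 L175226 q8044, e3 q12194 L175232 q8045, e3 q12195 L206392 q16151, e3 q12196 L175240 q8047, e3 q12197 L175246 q8048, e3 q12198 L175252 q8049, e3 q12199 L175260 q8050, e3 q12200 (flp_c L175264) q7924, e3 q12201 (flp_c L201490) q15741, e3 q12202 L175274 q7927, e3 q12203 (flp_c L183425) q12142, e3 q12204 L207401 q16521, e3 q12205 L207409 q16522, e3 q12206 (flp_c L175296) q7928, e3 q12207 (flp_c L175304) q7929, e3 q12208 (flp_c L207433) q16524, e3 q12209 L207439 q16525, e3 q12210 L175324 q7931, e3 q12211 (flp_c L207465) q16527, e3 q12212 L175336 q12121, e3 q12213 (flp_c L178531) q12607, e3 q12214 (flp_c L175362) q12215, e3 q12215 L175362 q12214, e3 q12216 L207469 q16528, e3 q12217 L175384 q11910, e3 q12218 (flp_c L202717) q15910, e3 q12219 (flp_c L190170) q14143, e3 q12220 (flp_c L175400) q7948, e3 q12221 (flp_c L190141) q14140, e3 q12222 (flp_c L175410) q7949, e3 q12223 (flp_c L177264) q12457, trivial⟩ (by decide +kernel)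

theorem ce_c_191 : ∀ r, r < 64 → sm gc (Qf (12224 + r)) = Qf (tab Gen.c (12224 + r)) :=
  edges_tab (sm gc) Qf (tab Gen.c) 12224 [(12224, 7951), (12225, 11440), (12226, 11079), (12227, 12243), (12228, 7960), (12229, 7962), (12230, 15279), (12231, 16533), (12232, 15253), (12233, 11767), (12234, 16225), (12235, 7967), (12236, 15857), (12237, 15848), (12238, 16537), (12239, 10427), (12240, 12300), (12241, 12298), (12242, 16536), (12243, 12227), (12244, 7971), (12245, 7973), (12246, 13022), (12247, 16547), (12248, 7974), (12249, 16242), (12250, 16243), (12251, 16551), (12252, 7980), (12253, 9783), (12254, 7982), (12255, 13024), (12256, 16554), (12257, 12008), (12258, 8970), (12259, 7983), (12260, 10360), (12261, 16557), (12262, 7984), (12263, 16558), (12264, 16559), (12265, 16394), (12266, 16395), (12267, 7988), (12268, 16561), (12269, 12919), (12270, 16405), (12271, 16406), (12272, 12613), (12273, 12274), (12274, 12273), (12275, 16563), (12276, 12116), (12277, 15680), (12278, 14152), (12279, 8006), (12280, 14148),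 (12281, 8007), (12282, 12493), (12283, 8009), (12284, 11280), (12285, 11041), (12286, 12302), (12287, 8018)]
    ⟨e3 q12224 L175420 q7951, e3 q12225 L175428 q11440, e3 q12226 L175438 q11079, e3 q12227 L175579 q12243, e3 q12228 L175448 q7960, e3 q12229 L175454 q7962, e3 q12230 (flp_c L198470) q15279, e3 q12231 (flp_c L207507) q16533, e3 q12232 (flp_c L198278) q15253, e3 q12233 L175519 q11767, e3 q12234 (flp_c L204875) q16225, e3 q12235 (flp_c L175529) q7967, e3 q12236 (flp_c L202286) q15857, e3 q12237 L202216 q15848, e3 q12238 (flp_c L207547) q16537, e3 q12239 (flp_c L175557) q10427, e3 q12240 (flp_c L175961) q12300, e3 q12241 (flp_c L175939) q12298, e3 q12242 (flp_c L207535) q16536, e3 q12243 (flp_c L175579) q12227, e3 q12244 L175585 q7971, e3 q12245 L175591 q7973, e3 q12246 (flp_c L181595) q13022, e3 q12247 (flp_c L207636) q16547, e3 q12248 (flp_c L175609) q7974, e3 q12249 (flp_c L205014) q16242, e3 q12250 (flp_c L205018) q16243, e3 q12251 L207660 q16551, e3 q12252 L175629 q7980, e3 q12253 L175635 q9783, e3 q12254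 L175641 q7982, e3 q12255 (flp_c L181609) q13024, e3 q12256 (flp_c L207676) q16554, e3 q12257 (flp_c L175665) q12008, e3 q12258 (flp_c L175701) q8970, e3 q12259 (flp_c L175675) q7983, e3 q12260 L175685 q10360, e3 q12261 L207700 q16557, e3 q12262 (flp_c L175703) q7984, e3 q12263 (flp_c L207712) q16558, e3 q12264 L207714 q16559, e3 q12265 (flp_c L206308) q16394, e3 q12266 (flp_c L206316) q16395, e3 q12267 (flp_c L175735) q7988, e3 q12268 (flp_c L207734) q16561, e3 q12269 (flp_c L180899) q12919, e3 q12270 (flp_c L206396) q16405, e3 q12271 (flp_c L206406) q16406, e3 q12272 (flp_c L178577) q12613, e3 q12273 (flp_c L175785) q12274, e3 q12274 L175785 q12273, e3 q12275 L207754 q16563, e3 q12276 L175807 q12116, e3 q12277 (flp_c L201070) q15680, e3 q12278 (flp_c L190243) q14152, e3 q12279 (flp_c L175823) q8006, e3 q12280 (flp_c L190206) q14148, e3 q12281 (flp_c L175833) q8007, e3 q12282 (flp_c L177539) q12493, e3 q12283 L175851 q8009, e3 q12284 L175859 q11280, e3 q12285 L175869 q11041, e3 q12286 L175973 q12302, e3 q12287 L175879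 q8018, trivial⟩ (by decide +kernel)

theorem ce_c_192 : ∀ r, r < 64 → sm gc (Qf (12288 + r)) = Qf (tab Gen.c (12288 + r)) :=
  edges_tab (sm gc) Qf (tab Gen.c) 12288 [(12288, 8019), (12289, 16568), (12290, 15226), (12291, 15306), (12292, 16255), (12293, 11810), (12294, 8025), (12295, 15623), (12296, 16572), (12297, 15614), (12298, 12241), (12299, 10393), (12300, 12240), (12301, 16571), (12302, 12286), (12303, 8029), (12304, 8030), (12305, 16582), (12306, 13093), (12307, 8033), (12308, 16212), (12309, 16213), (12310, 16586), (12311, 8037), (12312, 9836), (12313, 8039), (12314, 16589), (12315, 13095), (12316, 9036), (12317, 11995), (12318, 16592), (12319, 8041), (12320, 16593), (12321, 8042), (12322, 10323), (12323, 16594), (12324, 16510), (12325, 16511), (12326, 8046), (12327, 12904), (12328, 16596), (12329, 16514), (12330, 16515), (12331, 9335), (12332, 9336), (12333, 9281), (12334, 12339), (12335, 10635), (12336, 8163), (12337, 11924), (12338, 8172), (12339, 12334), (12340, 8068), (12341, 8069), (12342, 8061),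 (12343, 16601), (12344, 14799), (12345, 8073), (12346, 8074), (12347, 14710), (12348, 10722), (12349, 10371), (12350, 8070), (12351, 14946)]
    ⟨e3 q12288 L175885 q8019, e3 q12289 (flp_c L207792) q16568, e3 q12290 (flp_c L198105) q15226, e3 q12291 (flp_c L198649) q15306, e3 q12292 (flp_c L205123) q16255, e3 q12293 L175913 q11810, e3 q12294 (flp_c L175919) q8025, e3 q12295 (flp_c L200645) q15623, e3 q12296 (flp_c L207832) q16572, e3 q12297 L200575 q15614, e3 q12298 L175939 q12241, e3 q12299 (flp_c L175955) q10393, e3 q12300 L175961 q12240, e3 q12301 (flp_c L207820) q16571, e3 q12302 (flp_c L175973) q12286, e3 q12303 L175979 q8029, e3 q12304 L175985 q8030, e3 q12305 (flp_c L207921) q16582, e3 q12306 (flp_c L182077) q13093, e3 q12307 (flp_c L176003) q8033, e3 q12308 (flp_c L204772) q16212, e3 q12309 (flp_c L204776) q16213, e3 q12310 L207945 q16586, e3 q12311 L176023 q8037, e3 q12312 L176029 q9836, e3 q12313 L176035 q8039, e3 q12314 (flp_c L207961) q16589, e3 q12315 (flp_c L182091) q13095, e3 q12316 (flp_c L176079)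 q9036, e3 q12317 (flp_c L176065) q11995, e3 q12318 L207985 q16592, e3 q12319 (flp_c L176081) q8041, e3 q12320 (flp_c L207999) q16593, e3 q12321 (flp_c L176091) q8042, e3 q12322 L176101 q10323, e3 q12323 L208003 q16594, e3 q12324 (flp_c L207319) q16510, e3 q12325 (flp_c L207327) q16511, e3 q12326 (flp_c L176127) q8046, e3 q12327 (flp_c L180789) q12904, e3 q12328 (flp_c L208023) q16596, e3 q12329 (flp_c L207343) q16514, e3 q12330 (flp_c L207353) q16515, e3 q12331 L176161 q9335, e3 q12332 L176171 q9336, e3 q12333 L176181 q9281, e3 q12334 (flp_c L176254) q12339, e3 q12335 L176203 q10635, e3 q12336 L176213 q8163, e3 q12337 (flp_c L176233) q11924, e3 q12338 L176241 q8172, e3 q12339 L176254 q12334, e3 q12340 L176266 q8068, e3 q12341 L176278 q8069, e3 q12342 (flp_c L176282) q8061, e3 q12343 (flp_c L208088) q16601, e3 q12344 (flp_c L194919) q14799, e3 q12345 L176302 q8073, e3 q12346 L176312 q8074, e3 q12347 (flp_c L194099) q14710, e3 q12348 L176328 q10722, e3 q12349 (flp_c L176346) q10371, e3 q12350 (flp_c L176348) q8070,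 e3 q12351 (flp_c L196207) q14946, trivial⟩ (by decide +kernel)

theorem ce_c_193 : ∀ r, r < 64 → sm gc (Qf (12352 + r)) = Qf (tab Gen.c (12352 + r)) :=
  edges_tab (sm gc) Qf (tab Gen.c) 12352 [(12352, 10692), (12353, 12766), (12354, 8077), (12355, 10362), (12356, 9656), (12357, 12153), (12358, 8079), (12359, 8080), (12360, 8081), (12361, 12366), (12362, 16606), (12363, 16607), (12364, 13953), (12365, 9659), (12366, 12361), (12367, 8123), (12368, 16614), (12369, 8089), (12370, 8090), (12371, 8252), (12372, 8088), (12373, 16619), (12374, 12407), (12375, 8093), (12376, 10325), (12377, 9288), (12378, 9290), (12379, 9291), (12380, 12385), (12381, 10588), (12382, 8193), (12383, 12130), (12384, 8202), (12385, 12380), (12386, 8112), (12387, 8113), (12388, 8105), (12389, 16624), (12390, 14831), (12391, 8117), (12392, 8118), (12393, 14729), (12394, 10803), (12395, 10336), (12396, 8114), (12397, 14994), (12398, 10776), (12399, 12791), (12400, 8120), (12401, 9663), (12402, 11950), (12403, 8122), (12404, 16612), (12405, 13974),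 (12406, 9666), (12407, 12374), (12408, 16631), (12409, 8130), (12410, 8131), (12411, 8253), (12412, 8129), (12413, 8134), (12414, 14909), (12415, 8135)]
    ⟨e3 q12352 L176372 q10692, e3 q12353 (flp_c L179717) q12766, e3 q12354 L176390 q8077, e3 q12355 L176400 q10362, e3 q12356 (flp_c L176418) q9656, e3 q12357 L176424 q12153, e3 q12358 L176432 q8079, e3 q12359 L176438 q8080, e3 q12360 L176446 q8081, e3 q12361 (flp_c L176496) q12366, e3 q12362 (flp_c L208124) q16606, e3 q12363 (flp_c L208134) q16607, e3 q12364 L188725 q13953, e3 q12365 L176488 q9659, e3 q12366 L176496 q12361, e3 q12367 L176502 q8123, e3 q12368 L208193 q16614, e3 q12369 L176514 q8089, e3 q12370 L176522 q8090, e3 q12371 L176528 q8252, e3 q12372 (flp_c L176532) q8088, e3 q12373 (flp_c L208223) q16619, e3 q12374 (flp_c L176881) q12407, e3 q12375 L176562 q8093, e3 q12376 L176570 q10325, e3 q12377 L176582 q9288, e3 q12378 L176592 q9290, e3 q12379 L176602 q9291, e3 q12380 (flp_c L176675) q12385, e3 q12381 L176624 q10588, e3 q12382 L176634 q8193, e3 q12383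 (flp_c L176654) q12130, e3 q12384 L176662 q8202, e3 q12385 L176675 q12380, e3 q12386 L176687 q8112, e3 q12387 L176695 q8113, e3 q12388 (flp_c L176703) q8105, e3 q12389 (flp_c L208285) q16624, e3 q12390 (flp_c L195205) q14831, e3 q12391 L176723 q8117, e3 q12392 L176733 q8118, e3 q12393 (flp_c L194261) q14729, e3 q12394 L176749 q10803, e3 q12395 (flp_c L176769) q10336, e3 q12396 (flp_c L176771) q8114, e3 q12397 (flp_c L196632) q14994, e3 q12398 L176795 q10776, e3 q12399 (flp_c L179935) q12791, e3 q12400 L176813 q8120, e3 q12401 (flp_c L176831) q9663, e3 q12402 L176837 q11950, e3 q12403 L176845 q8122, e3 q12404 (flp_c L208177) q16612, e3 q12405 L188875 q13974, e3 q12406 L176869 q9666, e3 q12407 L176881 q12374, e3 q12408 L208335 q16631, e3 q12409 L176891 q8130, e3 q12410 L176899 q8131, e3 q12411 L176909 q8253, e3 q12412 (flp_c L176913) q8129, e3 q12413 L176923 q8134, e3 q12414 (flp_c L195892) q14909, e3 q12415 (flp_c L176939) q8135, trivial⟩ (by decide +kernel)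

theorem ce_c_194 : ∀ r, r < 64 → sm gc (Qf (12416 + r)) = Qf (tab Gen.c (12416 + r)) :=
  edges_tab (sm gc) Qf (tab Gen.c) 12416 [(12416, 9698), (12417, 16639), (12418, 8137), (12419, 9466), (12420, 13679), (12421, 14373), (12422, 8141), (12423, 13571), (12424, 14728), (12425, 12768), (12426, 9679), (12427, 8145), (12428, 14964), (12429, 8146), (12430, 9676), (12431, 12472), (12432, 8148), (12433, 16644), (12434, 8150), (12435, 9471), (12436, 13590), (12437, 8151), (12438, 13593), (12439, 10657), (12440, 16645), (12441, 13960), (12442, 8153), (12443, 16650), (12444, 8155), (12445, 8158), (12446, 8157), (12447, 12818), (12448, 13393), (12449, 13671), (12450, 13929), (12451, 8159), (12452, 16656), (12453, 8161), (12454, 10352), (12455, 8208), (12456, 9695), (12457, 12223), (12458, 13573), (12459, 13567), (12460, 8167), (12461, 8168), (12462, 13609), (12463, 9726), (12464, 16309), (12465, 13688), (12466, 14318), (12467, 8176), (12468, 13592), (12469, 14709), (12470, 12793), (12471, 9701), (12472, 12431), (12473, 8180),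 (12474, 8182), (12475, 10751), (12476, 16663), (12477, 13936), (12478, 8184), (12479, 16668)]
    ⟨e3 q12416 (flp_c L176955) q9698, e3 q12417 L208407 q16639, e3 q12418 (flp_c L176969) q8137, e3 q12419 L176983 q9466, e3 q12420 (flp_c L186611) q13679, e3 q12421 (flp_c L191818) q14373, e3 q12422 L177009 q8141, e3 q12423 (flp_c L185677) q13571, e3 q12424 (flp_c L194253) q14728, e3 q12425 L179741 q12768, e3 q12426 (flp_c L177043) q9679, e3 q12427 (flp_c L177045) q8145, e3 q12428 (flp_c L196367) q14964, e3 q12429 (flp_c L177063) q8146, e3 q12430 (flp_c L177079) q9676, e3 q12431 (flp_c L177403) q12472, e3 q12432 (flp_c L177084) q8148, e3 q12433 (flp_c L208473) q16644, e3 q12434 L177104 q8150, e3 q12435 L177116 q9471, e3 q12436 (flp_c L185867) q13590, e3 q12437 (flp_c L177130) q8151, e3 q12438 (flp_c L185897) q13593, e3 q12439 (flp_c L185635) q10657, e3 q12440 (flp_c L208489) q16645, e3 q12441 (flp_c L188771) q13960, e3 q12442 (flp_c L177156) q8153, e3 q12443 (flp_c L208541) q16650, e3 q12444 (flp_c L177166) q8155, e3 q12445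 L177180 q8158, e3 q12446 L177186 q8157, e3 q12447 L180177 q12818, e3 q12448 (flp_c L205205) q13393, e3 q12449 L186543 q13671, e3 q12450 (flp_c L188555) q13929, e3 q12451 (flp_c L177208) q8159, e3 q12452 (flp_c L208598) q16656, e3 q12453 L177224 q8161, e3 q12454 L177232 q10352, e3 q12455 L177240 q8208, e3 q12456 L177252 q9695, e3 q12457 L177264 q12223, e3 q12458 (flp_c L185691) q13573, e3 q12459 L185629 q13567, e3 q12460 L177289 q8167, e3 q12461 L177303 q8168, e3 q12462 (flp_c L186047) q13609, e3 q12463 L177318 q9726, e3 q12464 (flp_c L205615) q16309, e3 q12465 (flp_c L186696) q13688, e3 q12466 (flp_c L191437) q14318, e3 q12467 L177346 q8176, e3 q12468 (flp_c L185889) q13592, e3 q12469 (flp_c L194091) q14709, e3 q12470 L179959 q12793, e3 q12471 L177378 q9701, e3 q12472 L177403 q12431, e3 q12473 (flp_c L177395) q8180, e3 q12474 (flp_c L177407) q8182, e3 q12475 (flp_c L185633) q10751, e3 q12476 (flp_c L208662) q16663, e3 q12477 (flp_c L188607) q13936, e3 q12478 (flp_c L177431) q8184, e3 q12479 (flp_c L208714) q16668,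 trivial⟩ (by decide +kernel)

theorem ce_c_195 : ∀ r, r < 64 → sm gc (Qf (12480 + r)) = Qf (tab Gen.c (12480 + r)) :=
  edges_tab (sm gc) Qf (tab Gen.c) 12480 [(12480, 8185), (12481, 8188), (12482, 8187), (12483, 12820), (12484, 13446), (12485, 13932), (12486, 13674), (12487, 8189), (12488, 16674), (12489, 8191), (12490, 10315), (12491, 8210), (12492, 9673), (12493, 12282), (12494, 8197), (12495, 8199), (12496, 13613), (12497, 9718), (12498, 16458), (12499, 8203), (12500, 16658), (12501, 8204), (12502, 16676), (12503, 9945), (12504, 9946), (12505, 9948), (12506, 9950), (12507, 16617), (12508, 16634), (12509, 16683), (12510, 8218), (12511, 16686), (12512, 16689), (12513, 8219), (12514, 16692), (12515, 14695), (12516, 9784), (12517, 9774), (12518, 14697), (12519, 9837), (12520, 9828), (12521, 12865), (12522, 12866), (12523, 16697), (12524, 16700), (12525, 8229), (12526, 16703), (12527, 16706), (12528, 16709), (12529, 8233), (12530, 16712), (12531, 16715), (12532, 8234), (12533, 9217), (12534, 16716), (12535, 8235),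 (12536, 13518), (12537, 10273), (12538, 8237), (12539, 13514), (12540, 16721), (12541, 8238), (12542, 9253), (12543, 16722)]
    ⟨e3 q12480 (flp_c L177441) q8185, e3 q12481 L177455 q8188, e3 q12482 L177461 q8187, e3 q12483 L180201 q12820, e3 q12484 (flp_c L184614) q13446, e3 q12485 (flp_c L188577) q13932, e3 q12486 L186573 q13674, e3 q12487 (flp_c L177483) q8189, e3 q12488 (flp_c L208771) q16674, e3 q12489 L177499 q8191, e3 q12490 L177507 q10315, e3 q12491 L177515 q8210, e3 q12492 L177527 q9673, e3 q12493 L177539 q12282, e3 q12494 L177550 q8197, e3 q12495 L177564 q8199, e3 q12496 (flp_c L186073) q13613, e3 q12497 L177581 q9718, e3 q12498 (flp_c L206890) q16458, e3 q12499 (flp_c L177591) q8203, e3 q12500 (flp_c L208614) q16658, e3 q12501 (flp_c L177606) q8204, e3 q12502 (flp_c L208787) q16676, e3 q12503 L177625 q9945, e3 q12504 L177635 q9946, e3 q12505 L177643 q9948, e3 q12506 L177655 q9950, e3 q12507 (flp_c L208209) q16617, e3 q12508 (flp_c L208357) q16634, e3 q12509 L208843 q16683, e3 q12510 (flp_c L177677) q8218,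 e3 q12511 (flp_c L208871) q16686, e3 q12512 L208893 q16689, e3 q12513 (flp_c L177695) q8219, e3 q12514 (flp_c L208915) q16692, e3 q12515 (flp_c L193967) q14695, e3 q12516 L177715 q9784, e3 q12517 L177725 q9774, e3 q12518 (flp_c L193985) q14697, e3 q12519 L177741 q9837, e3 q12520 L177751 q9828, e3 q12521 (flp_c L180537) q12865, e3 q12522 (flp_c L180551) q12866, e3 q12523 L208959 q16697, e3 q12524 L208981 q16700, e3 q12525 (flp_c L177793) q8229, e3 q12526 (flp_c L209009) q16703, e3 q12527 L209031 q16706, e3 q12528 L209053 q16709, e3 q12529 (flp_c L177819) q8233, e3 q12530 (flp_c L209081) q16712, e3 q12531 L209107 q16715, e3 q12532 (flp_c L177837) q8234, e3 q12533 L177848 q9217, e3 q12534 L209117 q16716, e3 q12535 (flp_c L177858) q8235, e3 q12536 (flp_c L185199) q13518, e3 q12537 (flp_c L177880) q10273, e3 q12538 L177884 q8237, e3 q12539 (flp_c L185161) q13514, e3 q12540 L209165 q16721, e3 q12541 (flp_c L177902) q8238, e3 q12542 L177913 q9253, e3 q12543 L209175 q16722, trivial⟩ (by decide +kernel)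

theorem ce_c_196 : ∀ r, r < 64 → sm gc (Qf (12544 + r)) = Qf (tab Gen.c (12544 + r)) :=
  edges_tab (sm gc) Qf (tab Gen.c) 12544 [(12544, 8239), (12545, 13542), (12546, 10292), (12547, 8241), (12548, 13538), (12549, 16726), (12550, 10932), (12551, 16728), (12552, 16730), (12553, 10923), (12554, 16732), (12555, 16734), (12556, 8248), (12557, 9122), (12558, 14990), (12559, 8249), (12560, 14988), (12561, 16737), (12562, 8250), (12563, 9176), (12564, 14942), (12565, 8251), (12566, 14940), (12567, 14696), (12568, 14698), (12569, 11303), (12570, 8530), (12571, 8262), (12572, 8265), (12573, 12744), (12574, 9308), (12575, 11462), (12576, 8501), (12577, 8273), (12578, 8276), (12579, 12735), (12580, 9351), (12581, 11686), (12582, 8283), (12583, 9173), (12584, 10610), (12585, 8285), (12586, 9119), (12587, 13437), (12588, 11683), (12589, 8292), (12590, 10557), (12591, 8294), (12592, 13489), (12593, 8302), (12594, 8305), (12595, 14703), (12596, 8308), (12597, 14722), (12598, 8314), (12599, 11261), (12600, 8322), (12601, 11421),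 (12602, 8325), (12603, 8337), (12604, 8345), (12605, 10308), (12606, 14701), (12607, 12213)]
    ⟨e3 q12544 (flp_c L177923) q8239, e3 q12545 (flp_c L185401) q13542, e3 q12546 (flp_c L177945) q10292, e3 q12547 L177949 q8241, e3 q12548 (flp_c L185363) q13538, e3 q12549 L209211 q16726, e3 q12550 L177973 q10932, e3 q12551 L209225 q16728, e3 q12552 L209241 q16730, e3 q12553 L177999 q10923, e3 q12554 L209255 q16732, e3 q12555 L209271 q16734, e3 q12556 (flp_c L178017) q8248, e3 q12557 L178026 q9122, e3 q12558 (flp_c L196592) q14990, e3 q12559 (flp_c L178040) q8249, e3 q12560 (flp_c L196576) q14988, e3 q12561 L209294 q16737, e3 q12562 (flp_c L178057) q8250, e3 q12563 L178066 q9176, e3 q12564 (flp_c L196173) q14942, e3 q12565 (flp_c L178080) q8251, e3 q12566 (flp_c L196157) q14940, e3 q12567 (flp_c L193975) q14696, e3 q12568 (flp_c L193993) q14698, e3 q12569 L178117 q11303, e3 q12570 (flp_c L178137) q8530, e3 q12571 (flp_c L178139) q8262, e3 q12572 (flp_c L178149) q8265, e3 q12573 L179545 q12744, e3 q12574 L178165 q9308,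 e3 q12575 L178175 q11462, e3 q12576 (flp_c L178195) q8501, e3 q12577 (flp_c L178197) q8273, e3 q12578 (flp_c L178207) q8276, e3 q12579 L179477 q12735, e3 q12580 L178223 q9351, e3 q12581 (flp_c L178241) q11686, e3 q12582 (flp_c L178243) q8283, e3 q12583 (flp_c L178261) q9173, e3 q12584 (flp_c L178277) q10610, e3 q12585 (flp_c L178289) q8285, e3 q12586 L178301 q9119, e3 q12587 (flp_c L184535) q13437, e3 q12588 (flp_c L178331) q11683, e3 q12589 (flp_c L178333) q8292, e3 q12590 (flp_c L178351) q10557, e3 q12591 (flp_c L178353) q8294, e3 q12592 (flp_c L184935) q13489, e3 q12593 L178375 q8302, e3 q12594 L178385 q8305, e3 q12595 (flp_c L194043) q14703, e3 q12596 L178405 q8308, e3 q12597 (flp_c L194205) q14722, e3 q12598 L178427 q8314, e3 q12599 L178439 q11261, e3 q12600 L178453 q8322, e3 q12601 L178465 q11421, e3 q12602 L178479 q8325, e3 q12603 L178491 q8337, e3 q12604 L178501 q8345, e3 q12605 L178511 q10308, e3 q12606 (flp_c L194027) q14701, e3 q12607 L178531 q12213, trivial⟩ (by decide +kernel)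

theorem ce_c_197 : ∀ r, r < 64 → sm gc (Qf (12608 + r)) = Qf (tab Gen.c (12608 + r)) :=
  edges_tab (sm gc) Qf (tab Gen.c) 12608 [(12608, 12191), (12609, 16748), (12610, 8339), (12611, 14720), (12612, 10345), (12613, 12272), (12614, 12001), (12615, 16751), (12616, 8347), (12617, 14750), (12618, 14749), (12619, 14771), (12620, 14770), (12621, 10452), (12622, 13101), (12623, 13106), (12624, 16754), (12625, 16756), (12626, 8362), (12627, 16757), (12628, 8363), (12629, 16758), (12630, 8365), (12631, 16759), (12632, 10504), (12633, 13160), (12634, 13165), (12635, 16762), (12636, 16764), (12637, 8370), (12638, 16765), (12639, 8371), (12640, 16766), (12641, 8373), (12642, 16767), (12643, 11269), (12644, 16769), (12645, 11805), (12646, 11800), (12647, 11806), (12648, 13741), (12649, 12833), (12650, 11788), (12651, 11790), (12652, 11428), (12653, 16774), (12654, 11762), (12655, 11757), (12656, 11763), (12657, 13766), (12658, 12838), (12659, 11745), (12660, 11747), (12661, 12835), (12662, 14539), (12663, 14158), (12664,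 13102), (12665, 14537), (12666, 12967), (12667, 8392), (12668, 16720), (12669, 13107), (12670, 16785), (12671, 15533)]
    ⟨e3 q12608 L178541 q12191, e3 q12609 L209393 q16748, e3 q12610 (flp_c L178545) q8339, e3 q12611 (flp_c L194189) q14720, e3 q12612 L178565 q10345, e3 q12613 L178577 q12272, e3 q12614 L178587 q12001, e3 q12615 L209415 q16751, e3 q12616 (flp_c L178591) q8347, e3 q12617 (flp_c L194456) q14750, e3 q12618 (flp_c L194448) q14749, e3 q12619 (flp_c L194649) q14771, e3 q12620 (flp_c L194641) q14770, e3 q12621 L178633 q10452, e3 q12622 (flp_c L182147) q13101, e3 q12623 (flp_c L182191) q13106, e3 q12624 L209435 q16754, e3 q12625 L209455 q16756, e3 q12626 (flp_c L178663) q8362, e3 q12627 (flp_c L209469) q16757, e3 q12628 (flp_c L178673) q8363, e3 q12629 (flp_c L209479) q16758, e3 q12630 L178691 q8365, e3 q12631 (flp_c L209489) q16759, e3 q12632 L178711 q10504, e3 q12633 (flp_c L182509) q13160, e3 q12634 (flp_c L182553) q13165, e3 q12635 L209507 q16762, e3 q12636 L209527 q16764, e3 q12637 (flp_c L178741)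 q8370, e3 q12638 (flp_c L209541) q16765, e3 q12639 (flp_c L178751) q8371, e3 q12640 (flp_c L209551) q16766, e3 q12641 L178769 q8373, e3 q12642 (flp_c L209561) q16767, e3 q12643 L178789 q11269, e3 q12644 L209579 q16769, e3 q12645 L178811 q11805, e3 q12646 L178816 q11800, e3 q12647 L178828 q11806, e3 q12648 (flp_c L187161) q13741, e3 q12649 L180285 q12833, e3 q12650 L178854 q11788, e3 q12651 L178868 q11790, e3 q12652 L178880 q11428, e3 q12653 L209637 q16774, e3 q12654 L178902 q11762, e3 q12655 L178907 q11757, e3 q12656 L178919 q11763, e3 q12657 L187349 q13766, e3 q12658 L180337 q12838, e3 q12659 L178945 q11745, e3 q12660 L178959 q11747, e3 q12661 (flp_c L180303) q12835, e3 q12662 (flp_c L192939) q14539, e3 q12663 (flp_c L190291) q14158, e3 q12664 (flp_c L182157) q13102, e3 q12665 (flp_c L192921) q14537, e3 q12666 L181225 q12967, e3 q12667 (flp_c L179005) q8392, e3 q12668 L209163 q16720, e3 q12669 (flp_c L182199) q13107, e3 q12670 L209733 q16785, e3 q12671 (flp_c L200005) q15533, trivial⟩ (by decide +kernel)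

theorem ce_c_198 : ∀ r, r < 64 → sm gc (Qf (12672 + r)) = Qf (tab Gen.c (12672 + r)) :=
  edges_tab (sm gc) Qf (tab Gen.c) 12672 [(12672, 12731), (12673, 12732), (12674, 8397), (12675, 16789), (12676, 8399), (12677, 13760), (12678, 13768), (12679, 16793), (12680, 8401), (12681, 16795), (12682, 16796), (12683, 15310), (12684, 8403), (12685, 8404), (12686, 16798), (12687, 16799), (12688, 8406), (12689, 16803), (12690, 12840), (12691, 14590), (12692, 14179), (12693, 13162), (12694, 14588), (12695, 13043), (12696, 8411), (12697, 16714), (12698, 13167), (12699, 16811), (12700, 15777), (12701, 12724), (12702, 12725), (12703, 8416), (12704, 16815), (12705, 8418), (12706, 13735), (12707, 13743), (12708, 16819), (12709, 8420), (12710, 16821), (12711, 16822), (12712, 15257), (12713, 8422), (12714, 8423), (12715, 16824), (12716, 16825), (12717, 8425), (12718, 16829), (12719, 16830), (12720, 16831), (12721, 8427), (12722, 16834), (12723, 8727), (12724, 12701), (12725, 12702), (12726, 16837), (12727, 16838), (12728, 8432),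 (12729, 16841), (12730, 8772), (12731, 12672), (12732, 12673), (12733, 16844), (12734, 8453), (12735, 12579)]
    ⟨e3 q12672 (flp_c L179447) q12731, e3 q12673 (flp_c L179457) q12732, e3 q12674 (flp_c L179051) q8397, e3 q12675 L209759 q16789, e3 q12676 L179067 q8399, e3 q12677 L187309 q13760, e3 q12678 (flp_c L187365) q13768, e3 q12679 L209789 q16793, e3 q12680 (flp_c L179087) q8401, e3 q12681 (flp_c L209805) q16795, e3 q12682 (flp_c L209813) q16796, e3 q12683 L198699 q15310, e3 q12684 L179123 q8403, e3 q12685 (flp_c L179129) q8404, e3 q12686 (flp_c L209835) q16798, e3 q12687 (flp_c L209841) q16799, e3 q12688 L179149 q8406, e3 q12689 L209871 q16803, e3 q12690 (flp_c L180357) q12840, e3 q12691 (flp_c L193253) q14590, e3 q12692 (flp_c L190457) q14179, e3 q12693 (flp_c L182525) q13162, e3 q12694 (flp_c L193235) q14588, e3 q12695 L181747 q13043, e3 q12696 (flp_c L179201) q8411, e3 q12697 L209105 q16714, e3 q12698 (flp_c L182569) q13167, e3 q12699 L209935 q16811, e3 q12700 (flp_c L201704) q15777, e3 q12701 (flp_c L179397)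 q12724, e3 q12702 (flp_c L179407) q12725, e3 q12703 (flp_c L179247) q8416, e3 q12704 L209961 q16815, e3 q12705 L179263 q8418, e3 q12706 L187125 q13735, e3 q12707 (flp_c L187177) q13743, e3 q12708 L209991 q16819, e3 q12709 (flp_c L179285) q8420, e3 q12710 (flp_c L210007) q16821, e3 q12711 (flp_c L210017) q16822, e3 q12712 L198328 q15257, e3 q12713 L179321 q8422, e3 q12714 (flp_c L179327) q8423, e3 q12715 (flp_c L210037) q16824, e3 q12716 (flp_c L210043) q16825, e3 q12717 L179347 q8425, e3 q12718 L210073 q16829, e3 q12719 L210087 q16830, e3 q12720 L210093 q16831, e3 q12721 (flp_c L179373) q8427, e3 q12722 (flp_c L210121) q16834, e3 q12723 (flp_c L179389) q8727, e3 q12724 L179397 q12701, e3 q12725 L179407 q12702, e3 q12726 L210137 q16837, e3 q12727 L210143 q16838, e3 q12728 (flp_c L179423) q8432, e3 q12729 (flp_c L210171) q16841, e3 q12730 L179437 q8772, e3 q12731 L179447 q12672, e3 q12732 L179457 q12673, e3 q12733 L210187 q16844, e3 q12734 (flp_c L179467) q8453, e3 q12735 (flp_c L179477) q12579, trivial⟩ (by decide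 +kernel)

theorem ce_c_199 : ∀ r, r < 64 → sm gc (Qf (12736 + r)) = Qf (tab Gen.c (12736 + r)) :=
  edges_tab (sm gc) Qf (tab Gen.c) 12736 [(12736, 8454), (12737, 9276), (12738, 8456), (12739, 8458), (12740, 9328), (12741, 8461), (12742, 16846), (12743, 8464), (12744, 12573), (12745, 8465), (12746, 9310), (12747, 8467), (12748, 8469), (12749, 9280), (12750, 8472), (12751, 16321), (12752, 8483), (12753, 14751), (12754, 8486), (12755, 16371), (12756, 8491), (12757, 14772), (12758, 8494), (12759, 9898), (12760, 9557), (12761, 12046), (12762, 14896), (12763, 15269), (12764, 12113), (12765, 9858), (12766, 12353), (12767, 10264), (12768, 12425), (12769, 16856), (12770, 8510), (12771, 8511), (12772, 16858), (12773, 8513), (12774, 8514), (12775, 16745), (12776, 8516), (12777, 8517), (12778, 8520), (12779, 8521), (12780, 16860), (12781, 9758), (12782, 8523), (12783, 10719), (12784, 9915), (12785, 9594), (12786, 11824), (12787, 14867), (12788, 15216), (12789, 11906), (12790, 9805), (12791, 12399), (12792, 10281), (12793,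 12470), (12794, 16865), (12795, 8539), (12796, 8540), (12797, 16867), (12798, 8542), (12799, 8543)]
    ⟨e3 q12736 (flp_c L179481) q8454, e3 q12737 (flp_c L179495) q9276, e3 q12738 L179499 q8456, e3 q12739 L179507 q8458, e3 q12740 L179517 q9328, e3 q12741 L179527 q8461, e3 q12742 L210198 q16846, e3 q12743 (flp_c L179535) q8464, e3 q12744 (flp_c L179545) q12573, e3 q12745 (flp_c L179549) q8465, e3 q12746 (flp_c L179563) q9310, e3 q12747 L179567 q8467, e3 q12748 L179575 q8469, e3 q12749 L179585 q9280, e3 q12750 L179595 q8472, e3 q12751 L205721 q16321, e3 q12752 (flp_c L179603) q8483, e3 q12753 (flp_c L194466) q14751, e3 q12754 L179621 q8486, e3 q12755 L206116 q16371, e3 q12756 (flp_c L179631) q8491, e3 q12757 (flp_c L194659) q14772, e3 q12758 L179649 q8494, e3 q12759 L179659 q9898, e3 q12760 L179669 q9557, e3 q12761 L179679 q12046, e3 q12762 L195787 q14896, e3 q12763 (flp_c L198400) q15269, e3 q12764 L179705 q12113, e3 q12765 (flp_c L183427) q9858, e3 q12766 L179717 q12353, e3 q12767 L179727 q10264, e3 q12768 (flp_c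 L179741) q12425, e3 q12769 L210293 q16856, e3 q12770 (flp_c L179753) q8510, e3 q12771 (flp_c L179761) q8511, e3 q12772 (flp_c L210311) q16858, e3 q12773 L179777 q8513, e3 q12774 (flp_c L179779) q8514, e3 q12775 (flp_c L209371) q16745, e3 q12776 L179799 q8516, e3 q12777 L179807 q8517, e3 q12778 L179819 q8520, e3 q12779 L179827 q8521, e3 q12780 (flp_c L210333) q16860, e3 q12781 (flp_c L179847) q9758, e3 q12782 (flp_c L179849) q8523, e3 q12783 L179865 q10719, e3 q12784 L179877 q9915, e3 q12785 L179887 q9594, e3 q12786 L179897 q11824, e3 q12787 L195530 q14867, e3 q12788 (flp_c L198043) q15216, e3 q12789 L179923 q11906, e3 q12790 (flp_c L183911) q9805, e3 q12791 L179935 q12399, e3 q12792 L179945 q10281, e3 q12793 (flp_c L179959) q12470, e3 q12794 L210381 q16865, e3 q12795 (flp_c L179971) q8539, e3 q12796 (flp_c L179979) q8540, e3 q12797 (flp_c L210399) q16867, e3 q12798 L179995 q8542, e3 q12799 (flp_c L179997) q8543, trivial⟩ (by decide +kernel)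

theorem ce_c_200 : ∀ r, r < 64 → sm gc (Qf (12800 + r)) = Qf (tab Gen.c (12800 + r)) :=
  edges_tab (sm gc) Qf (tab Gen.c) 12800 [(12800, 16744), (12801, 8545), (12802, 8546), (12803, 8549), (12804, 8550), (12805, 16869), (12806, 9738), (12807, 8552), (12808, 10800), (12809, 10949), (12810, 9196), (12811, 15808), (12812, 14056), (12813, 10961), (12814, 9233), (12815, 15569), (12816, 14109), (12817, 10254), (12818, 12447), (12819, 10220), (12820, 12483), (12821, 14846), (12822, 14848), (12823, 16872), (12824, 8593), (12825, 16874), (12826, 16877), (12827, 16879), (12828, 8595), (12829, 16881), (12830, 16884), (12831, 8599), (12832, 10606), (12833, 12649), (12834, 8600), (12835, 12661), (12836, 8603), (12837, 10552), (12838, 12658), (12839, 8604), (12840, 12690), (12841, 16682), (12842, 8605), (12843, 16890), (12844, 16892), (12845, 8607), (12846, 16896), (12847, 16688), (12848, 8608), (12849, 16901), (12850, 16903), (12851, 8610), (12852, 16907), (12853, 11682), (12854, 8611), (12855, 16264), (12856, 16909), (12857,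 8613), (12858, 10502), (12859, 11685), (12860, 8616), (12861, 16911), (12862, 16421), (12863, 8618)]
    ⟨e3 q12800 (flp_c L209359) q16744, e3 q12801 L180017 q8545, e3 q12802 L180025 q8546, e3 q12803 L180037 q8549, e3 q12804 L180045 q8550, e3 q12805 (flp_c L210421) q16869, e3 q12806 (flp_c L180065) q9738, e3 q12807 (flp_c L180067) q8552, e3 q12808 L180083 q10800, e3 q12809 L180093 q10949, e3 q12810 L180103 q9196, e3 q12811 L201934 q15808, e3 q12812 L189495 q14056, e3 q12813 L180125 q10961, e3 q12814 L180135 q9233, e3 q12815 L200259 q15569, e3 q12816 L189919 q14109, e3 q12817 (flp_c L180167) q10254, e3 q12818 (flp_c L180177) q12447, e3 q12819 (flp_c L180191) q10220, e3 q12820 (flp_c L180201) q12483, e3 q12821 (flp_c L195338) q14846, e3 q12822 (flp_c L195366) q14848, e3 q12823 L210451 q16872, e3 q12824 (flp_c L180223) q8593, e3 q12825 (flp_c L210475) q16874, e3 q12826 L210491 q16877, e3 q12827 L210505 q16879, e3 q12828 (flp_c L180245) q8595, e3 q12829 (flp_c L210529) q16881, e3 q12830 L210545 q16884, e3 q12831 L180263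 q8599, e3 q12832 L180273 q10606, e3 q12833 (flp_c L180285) q12649, e3 q12834 (flp_c L180287) q8600, e3 q12835 L180303 q12661, e3 q12836 L180315 q8603, e3 q12837 L180325 q10552, e3 q12838 (flp_c L180337) q12658, e3 q12839 (flp_c L180339) q8604, e3 q12840 L180357 q12690, e3 q12841 (flp_c L208851) q16682, e3 q12842 (flp_c L180369) q8605, e3 q12843 (flp_c L210599) q16890, e3 q12844 L210611 q16892, e3 q12845 L180387 q8607, e3 q12846 (flp_c L210641) q16896, e3 q12847 (flp_c L210677) q16688, e3 q12848 (flp_c L180401) q8608, e3 q12849 (flp_c L210695) q16901, e3 q12850 L210707 q16903, e3 q12851 L180419 q8610, e3 q12852 (flp_c L210737) q16907, e3 q12853 (flp_c L180435) q11682, e3 q12854 (flp_c L180441) q8611, e3 q12855 (flp_c L205187) q16264, e3 q12856 (flp_c L210753) q16909, e3 q12857 L180465 q8613, e3 q12858 L180477 q10502, e3 q12859 (flp_c L180487) q11685, e3 q12860 (flp_c L180493) q8616, e3 q12861 (flp_c L210769) q16911, e3 q12862 (flp_c L206538) q16421, e3 q12863 L180517 q8618, trivial⟩ (by decide +kernel)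

theorem ce_c_201 : ∀ r, r < 64 → sm gc (Qf (12864 + r)) = Qf (tab Gen.c (12864 + r)) :=
  edges_tab (sm gc) Qf (tab Gen.c) 12864 [(12864, 10453), (12865, 12521), (12866, 12522), (12867, 16912), (12868, 8627), (12869, 16913), (12870, 15426), (12871, 8628), (12872, 16916), (12873, 16917), (12874, 8629), (12875, 16920), (12876, 10118), (12877, 8631), (12878, 16922), (12879, 16924), (12880, 8632), (12881, 16925), (12882, 15529), (12883, 8633), (12884, 16928), (12885, 16929), (12886, 8634), (12887, 16932), (12888, 10099), (12889, 8636), (12890, 16934), (12891, 14647), (12892, 8640), (12893, 8859), (12894, 16938), (12895, 16940), (12896, 8644), (12897, 16942), (12898, 16944), (12899, 16945), (12900, 8648), (12901, 16948), (12902, 16946), (12903, 8650), (12904, 12327), (12905, 10796), (12906, 14676), (12907, 8655), (12908, 8873), (12909, 16953), (12910, 16955), (12911, 8660), (12912, 16957), (12913, 16959), (12914, 16960), (12915, 8664), (12916, 16963), (12917, 16961), (12918, 8666), (12919, 12269), (12920, 10715), (12921,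 10983), (12922, 16968), (12923, 16970), (12924, 8671), (12925, 16972), (12926, 8672), (12927, 16974)]
    ⟨e3 q12864 L180529 q10453, e3 q12865 L180537 q12521, e3 q12866 L180551 q12522, e3 q12867 L210773 q16912, e3 q12868 (flp_c L180567) q8627, e3 q12869 (flp_c L210791) q16913, e3 q12870 L199335 q15426, e3 q12871 (flp_c L180583) q8628, e3 q12872 (flp_c L210809) q16916, e3 q12873 L210811 q16917, e3 q12874 (flp_c L180595) q8629, e3 q12875 (flp_c L210829) q16920, e3 q12876 (flp_c L180613) q10118, e3 q12877 L180619 q8631, e3 q12878 (flp_c L210843) q16922, e3 q12879 L210857 q16924, e3 q12880 (flp_c L180635) q8632, e3 q12881 (flp_c L210875) q16925, e3 q12882 L199975 q15529, e3 q12883 (flp_c L180651) q8633, e3 q12884 (flp_c L210893) q16928, e3 q12885 L210895 q16929, e3 q12886 (flp_c L180663) q8634, e3 q12887 (flp_c L210913) q16932, e3 q12888 (flp_c L180681) q10099, e3 q12889 L180687 q8636, e3 q12890 (flp_c L210927) q16934, e3 q12891 (flp_c L193623) q14647, e3 q12892 L180709 q8640, e3 q12893 L180717 q8859, e3 q12894 L210951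 q16938, e3 q12895 L210957 q16940, e3 q12896 (flp_c L180731) q8644, e3 q12897 (flp_c L210975) q16942, e3 q12898 L210991 q16944, e3 q12899 L210997 q16945, e3 q12900 (flp_c L180755) q8648, e3 q12901 (flp_c L211025) q16948, e3 q12902 (flp_c L211011) q16946, e3 q12903 L180777 q8650, e3 q12904 L180789 q12327, e3 q12905 L180799 q10796, e3 q12906 (flp_c L193835) q14676, e3 q12907 L180817 q8655, e3 q12908 L180825 q8873, e3 q12909 L211059 q16953, e3 q12910 L211065 q16955, e3 q12911 (flp_c L180839) q8660, e3 q12912 (flp_c L211083) q16957, e3 q12913 L211099 q16959, e3 q12914 L211105 q16960, e3 q12915 (flp_c L180865) q8664, e3 q12916 (flp_c L211133) q16963, e3 q12917 (flp_c L211119) q16961, e3 q12918 L180887 q8666, e3 q12919 L180899 q12269, e3 q12920 L180909 q10715, e3 q12921 L180919 q10983, e3 q12922 L211181 q16968, e3 q12923 L211197 q16970, e3 q12924 (flp_c L180937) q8671, e3 q12925 (flp_c L211208) q16972, e3 q12926 L180957 q8672, e3 q12927 L211220 q16974, trivial⟩ (by decide +kernel)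

theorem ce_c_202 : ∀ r, r < 64 → sm gc (Qf (12928 + r)) = Qf (tab Gen.c (12928 + r)) :=
  edges_tab (sm gc) Qf (tab Gen.c) 12928 [(12928, 16978), (12929, 16980), (12930, 8676), (12931, 16983), (12932, 11223), (12933, 11225), (12934, 11226), (12935, 16988), (12936, 15090), (12937, 11007), (12938, 16993), (12939, 16995), (12940, 8683), (12941, 16997), (12942, 8684), (12943, 16999), (12944, 17003), (12945, 17005), (12946, 8688), (12947, 17008), (12948, 11154), (12949, 11156), (12950, 11157), (12951, 17013), (12952, 15100), (12953, 14638), (12954, 8694), (12955, 8695), (12956, 16302), (12957, 14441), (12958, 8704), (12959, 8705), (12960, 8697), (12961, 17021), (12962, 14405), (12963, 15154), (12964, 8700), (12965, 17026), (12966, 8702), (12967, 12666), (12968, 8701), (12969, 14748), (12970, 17030), (12971, 14442), (12972, 14443), (12973, 14444), (12974, 12976), (12975, 17037), (12976, 12974), (12977, 13219), (12978, 17042), (12979, 16556), (12980, 8708), (12981, 17047), (12982, 14877), (12983, 8709), (12984, 17050),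 (12985, 17051), (12986, 8711), (12987, 17056), (12988, 13217), (12989, 17060), (12990, 8713), (12991, 17062)]
    ⟨e3 q12928 L211250 q16978, e3 q12929 L211264 q16980, e3 q12930 (flp_c L180975) q8676, e3 q12931 (flp_c L211284) q16983, e3 q12932 L180985 q11223, e3 q12933 L180991 q11225, e3 q12934 L180997 q11226, e3 q12935 L211328 q16988, e3 q12936 (flp_c L197281) q15090, e3 q12937 L181015 q11007, e3 q12938 L211372 q16993, e3 q12939 L211390 q16995, e3 q12940 (flp_c L181033) q8683, e3 q12941 (flp_c L211401) q16997, e3 q12942 L181053 q8684, e3 q12943 L211413 q16999, e3 q12944 L211447 q17003, e3 q12945 L211463 q17005, e3 q12946 (flp_c L181075) q8688, e3 q12947 (flp_c L211483) q17008, e3 q12948 L181085 q11154, e3 q12949 L181095 q11156, e3 q12950 L181103 q11157, e3 q12951 L211533 q17013, e3 q12952 (flp_c L197331) q15100, e3 q12953 (flp_c L193551) q14638, e3 q12954 L181133 q8694, e3 q12955 L181143 q8695, e3 q12956 (flp_c L205550) q16302, e3 q12957 (flp_c L192303) q14441, e3 q12958 L181167 q8704, e3 q12959 L181175 q8705,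 e3 q12960 (flp_c L181179) q8697, e3 q12961 (flp_c L211611) q17021, e3 q12962 (flp_c L192063) q14405, e3 q12963 (flp_c L197731) q15154, e3 q12964 L181195 q8700, e3 q12965 L211643 q17026, e3 q12966 L181209 q8702, e3 q12967 (flp_c L181225) q12666, e3 q12968 (flp_c L181227) q8701, e3 q12969 L194442 q14748, e3 q12970 L211679 q17030, e3 q12971 (flp_c L192311) q14442, e3 q12972 (flp_c L192315) q14443, e3 q12973 (flp_c L192321) q14444, e3 q12974 (flp_c L181279) q12976, e3 q12975 L211731 q17037, e3 q12976 L181279 q12974, e3 q12977 (flp_c L182893) q13219, e3 q12978 L211759 q17042, e3 q12979 L207698 q16556, e3 q12980 (flp_c L181303) q8708, e3 q12981 (flp_c L211791) q17047, e3 q12982 (flp_c L195612) q14877, e3 q12983 (flp_c L181323) q8709, e3 q12984 (flp_c L211817) q17050, e3 q12985 L211825 q17051, e3 q12986 L181347 q8711, e3 q12987 L211851 q17056, e3 q12988 (flp_c L182877) q13217, e3 q12989 L211879 q17060, e3 q12990 (flp_c L181375) q8713, e3 q12991 (flp_c L211907) q17062, trivial⟩ (by decide +kernel)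

theorem ce_c_203 : ∀ r, r < 64 → sm gc (Qf (12992 + r)) = Qf (tab Gen.c (12992 + r)) :=
  edges_tab (sm gc) Qf (tab Gen.c) 12992 [(12992, 17065), (12993, 10524), (12994, 8715), (12995, 17070), (12996, 8717), (12997, 17075), (12998, 17078), (12999, 8718), (13000, 17081), (13001, 17083), (13002, 8719), (13003, 17086), (13004, 17087), (13005, 17084), (13006, 15705), (13007, 15693), (13008, 15111), (13009, 17093), (13010, 17094), (13011, 8723), (13012, 11753), (13013, 8724), (13014, 16219), (13015, 17098), (13016, 8726), (13017, 16218), (13018, 10463), (13019, 14787), (13020, 8730), (13021, 14786), (13022, 12246), (13023, 17104), (13024, 12255), (13025, 15123), (13026, 15923), (13027, 13488), (13028, 13490), (13029, 14667), (13030, 8739), (13031, 8740), (13032, 16452), (13033, 14490), (13034, 8749), (13035, 8750), (13036, 8742), (13037, 17112), (13038, 15188), (13039, 14427), (13040, 17117), (13041, 8746), (13042, 8747), (13043, 12695), (13044, 8745), (13045, 14769), (13046, 14491), (13047, 14492), (13048, 14493),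 (13049, 17126), (13050, 13051), (13051, 13050), (13052, 13239), (13053, 17132), (13054, 16590), (13055, 8753)]
    ⟨e3 q12992 L211919 q17065, e3 q12993 (flp_c L181393) q10524, e3 q12994 (flp_c L181395) q8715, e3 q12995 L211959 q17070, e3 q12996 L181413 q8717, e3 q12997 L211993 q17075, e3 q12998 L212011 q17078, e3 q12999 (flp_c L181427) q8718, e3 q13000 (flp_c L212031) q17081, e3 q13001 L212045 q17083, e3 q13002 (flp_c L181445) q8719, e3 q13003 (flp_c L212067) q17086, e3 q13004 (flp_c L212075) q17087, e3 q13005 (flp_c L212057) q17084, e3 q13006 (flp_c L201272) q15705, e3 q13007 (flp_c L201163) q15693, e3 q13008 L197397 q15111, e3 q13009 L212125 q17093, e3 q13010 L212133 q17094, e3 q13011 (flp_c L181511) q8723, e3 q13012 L181521 q11753, e3 q13013 (flp_c L181527) q8724, e3 q13014 (flp_c L204831) q16219, e3 q13015 L212165 q17098, e3 q13016 L181547 q8726, e3 q13017 (flp_c L204821) q16218, e3 q13018 L181563 q10463, e3 q13019 (flp_c L194809) q14787, e3 q13020 L181579 q8730, e3 q13021 (flp_c L194797) q14786, e3 q13022 L181595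 q12246, e3 q13023 L212211 q17104, e3 q13024 L181609 q12255, e3 q13025 L197497 q15123, e3 q13026 (flp_c L202816) q15923, e3 q13027 (flp_c L184929) q13488, e3 q13028 (flp_c L184943) q13490, e3 q13029 (flp_c L193763) q14667, e3 q13030 L181655 q8739, e3 q13031 L181665 q8740, e3 q13032 (flp_c L206833) q16452, e3 q13033 (flp_c L192613) q14490, e3 q13034 L181689 q8749, e3 q13035 L181697 q8750, e3 q13036 (flp_c L181701) q8742, e3 q13037 (flp_c L212279) q17112, e3 q13038 (flp_c L197911) q15188, e3 q13039 (flp_c L192209) q14427, e3 q13040 L212311 q17117, e3 q13041 L181721 q8746, e3 q13042 L181731 q8747, e3 q13043 (flp_c L181747) q12695, e3 q13044 (flp_c L181749) q8745, e3 q13045 (flp_c L194635) q14769, e3 q13046 (flp_c L192621) q14491, e3 q13047 (flp_c L192625) q14492, e3 q13048 (flp_c L192631) q14493, e3 q13049 L212381 q17126, e3 q13050 (flp_c L181797) q13051, e3 q13051 L181797 q13050, e3 q13052 (flp_c L183032) q13239, e3 q13053 L212415 q17132, e3 q13054 L207975 q16590, e3 q13055 (flp_c L181821) q8753, trivial⟩ (by decide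 +kernel)

theorem ce_c_204 : ∀ r, r < 64 → sm gc (Qf (13056 + r)) = Qf (tab Gen.c (13056 + r)) :=
  edges_tab (sm gc) Qf (tab Gen.c) 13056 [(13056, 17137), (13057, 14843), (13058, 8754), (13059, 17140), (13060, 8756), (13061, 17145), (13062, 13237), (13063, 17149), (13064, 8758), (13065, 17151), (13066, 17064), (13067, 10474), (13068, 8760), (13069, 17157), (13070, 8762), (13071, 17161), (13072, 17164), (13073, 8763), (13074, 17096), (13075, 17168), (13076, 8764), (13077, 17171), (13078, 17172), (13079, 17169), (13080, 17176), (13081, 17100), (13082, 8768), (13083, 11796), (13084, 8769), (13085, 16249), (13086, 17179), (13087, 8771), (13088, 16248), (13089, 14820), (13090, 10513), (13091, 8774), (13092, 14819), (13093, 12306), (13094, 17184), (13095, 12315), (13096, 15694), (13097, 13436), (13098, 13438), (13099, 8792), (13100, 8793), (13101, 12622), (13102, 12664), (13103, 14637), (13104, 12178), (13105, 8791), (13106, 12623), (13107, 12669), (13108, 16780), (13109, 13635), (13110, 16307), (13111, 17193), (13112,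 8794), (13113, 17195), (13114, 17198), (13115, 17199), (13116, 8796), (13117, 17200), (13118, 10207), (13119, 8798)]
    ⟨e3 q13056 (flp_c L212447) q17137, e3 q13057 (flp_c L195303) q14843, e3 q13058 (flp_c L181841) q8754, e3 q13059 L212469 q17140, e3 q13060 L181855 q8756, e3 q13061 L212495 q17145, e3 q13062 (flp_c L183016) q13237, e3 q13063 L212523 q17149, e3 q13064 (flp_c L181883) q8758, e3 q13065 (flp_c L212551) q17151, e3 q13066 (flp_c L222543) q17064, e3 q13067 (flp_c L181901) q10474, e3 q13068 (flp_c L181903) q8760, e3 q13069 L212603 q17157, e3 q13070 L181921 q8762, e3 q13071 L212629 q17161, e3 q13072 L212647 q17164, e3 q13073 (flp_c L181935) q8763, e3 q13074 (flp_c L212157) q17096, e3 q13075 L212673 q17168, e3 q13076 (flp_c L181953) q8764, e3 q13077 (flp_c L212693) q17171, e3 q13078 (flp_c L212703) q17172, e3 q13079 (flp_c L212685) q17169, e3 q13080 L212737 q17176, e3 q13081 (flp_c L212181) q17100, e3 q13082 (flp_c L181991) q8768, e3 q13083 L182001 q11796, e3 q13084 (flp_c L182007) q8769, e3 q13085 (flp_c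 L205079) q16249, e3 q13086 L212757 q17179, e3 q13087 L182027 q8771, e3 q13088 (flp_c L205069) q16248, e3 q13089 (flp_c L195113) q14820, e3 q13090 L182055 q10513, e3 q13091 L182061 q8774, e3 q13092 (flp_c L195101) q14819, e3 q13093 L182077 q12306, e3 q13094 L212791 q17184, e3 q13095 L182091 q12315, e3 q13096 (flp_c L201175) q15694, e3 q13097 (flp_c L184529) q13436, e3 q13098 (flp_c L184543) q13438, e3 q13099 L182123 q8792, e3 q13100 L182135 q8793, e3 q13101 L182147 q12622, e3 q13102 L182157 q12664, e3 q13103 (flp_c L193539) q14637, e3 q13104 (flp_c L182179) q12178, e3 q13105 L182183 q8791, e3 q13106 L182191 q12623, e3 q13107 L182199 q12669, e3 q13108 (flp_c L209703) q16780, e3 q13109 L205211 q13635, e3 q13110 L205596 q16307, e3 q13111 L212853 q17193, e3 q13112 (flp_c L182233) q8794, e3 q13113 (flp_c L212871) q17195, e3 q13114 L212893 q17198, e3 q13115 L212899 q17199, e3 q13116 (flp_c L182261) q8796, e3 q13117 (flp_c L212915) q17200, e3 q13118 L187819 q10207, e3 q13119 L182277 q8798, trivial⟩ (by decide +kernel)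

theorem ce_c_205 : ∀ r, r < 64 → sm gc (Qf (13120 + r)) = Qf (tab Gen.c (13120 + r)) :=
  edges_tab (sm gc) Qf (tab Gen.c) 13120 [(13120, 17206), (13121, 17204), (13122, 17209), (13123, 8799), (13124, 17212), (13125, 11606), (13126, 8802), (13127, 17218), (13128, 8803), (13129, 17220), (13130, 17221), (13131, 13199), (13132, 8806), (13133, 13205), (13134, 13211), (13135, 11502), (13136, 13206), (13137, 13212), (13138, 13197), (13139, 15712), (13140, 13190), (13141, 13227), (13142, 13821), (13143, 8812), (13144, 17182), (13145, 17241), (13146, 13195), (13147, 13192), (13148, 8814), (13149, 17248), (13150, 17249), (13151, 17250), (13152, 13196), (13153, 13193), (13154, 15926), (13155, 15928), (13156, 15929), (13157, 15930), (13158, 8829), (13159, 8830), (13160, 12633), (13161, 14666), (13162, 12693), (13163, 11980), (13164, 8827), (13165, 12634), (13166, 16806), (13167, 12698), (13168, 16456), (13169, 13644), (13170, 17269), (13171, 8831), (13172, 17271), (13173, 17274), (13174, 17275), (13175, 8833), (13176, 17276),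 (13177, 10242), (13178, 8835), (13179, 17282), (13180, 17280), (13181, 17285), (13182, 8836), (13183, 17288)]
    ⟨e3 q13120 L212957 q17206, e3 q13121 (flp_c L212947) q17204, e3 q13122 L212973 q17209, e3 q13123 (flp_c L182297) q8799, e3 q13124 (flp_c L212993) q17212, e3 q13125 (flp_c L187823) q11606, e3 q13126 L182317 q8802, e3 q13127 L213037 q17218, e3 q13128 (flp_c L182329) q8803, e3 q13129 (flp_c L213053) q17220, e3 q13130 (flp_c L213059) q17221, e3 q13131 (flp_c L182777) q13199, e3 q13132 L182351 q8806, e3 q13133 (flp_c L182815) q13205, e3 q13134 (flp_c L182846) q13211, e3 q13135 L183551 q11502, e3 q13136 (flp_c L182823) q13206, e3 q13137 (flp_c L182856) q13212, e3 q13138 (flp_c L182767) q13197, e3 q13139 L201324 q15712, e3 q13140 (flp_c L182707) q13190, e3 q13141 (flp_c L182946) q13227, e3 q13142 (flp_c L187825) q13821, e3 q13143 L182415 q8812, e3 q13144 (flp_c L212781) q17182, e3 q13145 L213179 q17241, e3 q13146 (flp_c L182749) q13195, e3 q13147 (flp_c L182723) q13192, e3 q13148 (flp_c L182441) q8814, e3 q13149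 (flp_c L213225) q17248, e3 q13150 (flp_c L213229) q17249, e3 q13151 (flp_c L213233) q17250, e3 q13152 (flp_c L182759) q13196, e3 q13153 (flp_c L182731) q13193, e3 q13154 L202852 q15926, e3 q13155 (flp_c L202870) q15928, e3 q13156 (flp_c L202880) q15929, e3 q13157 (flp_c L202892) q15930, e3 q13158 L182485 q8829, e3 q13159 L182497 q8830, e3 q13160 L182509 q12633, e3 q13161 (flp_c L193751) q14666, e3 q13162 L182525 q12693, e3 q13163 (flp_c L182541) q11980, e3 q13164 L182545 q8827, e3 q13165 L182553 q12634, e3 q13166 (flp_c L209905) q16806, e3 q13167 L182569 q12698, e3 q13168 L206871 q16456, e3 q13169 L186313 q13644, e3 q13170 L213355 q17269, e3 q13171 (flp_c L182595) q8831, e3 q13172 (flp_c L213373) q17271, e3 q13173 L213395 q17274, e3 q13174 L213401 q17275, e3 q13175 (flp_c L182623) q8833, e3 q13176 (flp_c L213417) q17276, e3 q13177 L188165 q10242, e3 q13178 L182639 q8835, e3 q13179 L213459 q17282, e3 q13180 (flp_c L213449) q17280, e3 q13181 L213475 q17285, e3 q13182 (flp_c L182659) q8836, e3 q13183 (flp_c L213495)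 q17288, trivial⟩ (by decide +kernel)

theorem ce_c_206 : ∀ r, r < 64 → sm gc (Qf (13184 + r)) = Qf (tab Gen.c (13184 + r)) :=
  edges_tab (sm gc) Qf (tab Gen.c) 13184 [(13184, 11658), (13185, 8839), (13186, 17294), (13187, 8840), (13188, 17296), (13189, 17297), (13190, 13140), (13191, 8843), (13192, 13147), (13193, 13153), (13194, 11343), (13195, 13146), (13196, 13152), (13197, 13138), (13198, 15938), (13199, 13131), (13200, 13247), (13201, 13870), (13202, 8849), (13203, 17102), (13204, 17317), (13205, 13133), (13206, 13136), (13207, 8851), (13208, 17324), (13209, 17325), (13210, 17326), (13211, 13134), (13212, 13137), (13213, 15697), (13214, 15699), (13215, 15700), (13216, 15701), (13217, 12988), (13218, 17339), (13219, 12977), (13220, 17341), (13221, 8861), (13222, 15294), (13223, 13248), (13224, 11367), (13225, 13249), (13226, 13250), (13227, 13141), (13228, 13243), (13229, 13245), (13230, 13246), (13231, 17356), (13232, 13232), (13233, 8867), (13234, 17361), (13235, 17362), (13236, 17363), (13237, 13062), (13238,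 17367), (13239, 13052), (13240, 17369), (13241, 8875), (13242, 15241), (13243, 13228), (13244, 11526), (13245, 13229), (13246, 13230), (13247, 13200)]
    ⟨e3 q13184 (flp_c L188169) q11658, e3 q13185 L182679 q8839, e3 q13186 L213539 q17294, e3 q13187 (flp_c L182691) q8840, e3 q13188 (flp_c L213555) q17296, e3 q13189 (flp_c L213561) q17297, e3 q13190 L182707 q13140, e3 q13191 L182715 q8843, e3 q13192 L182723 q13147, e3 q13193 L182731 q13153, e3 q13194 (flp_c L182739) q11343, e3 q13195 L182749 q13146, e3 q13196 L182759 q13152, e3 q13197 L182767 q13138, e3 q13198 L202959 q15938, e3 q13199 L182777 q13131, e3 q13200 (flp_c L183095) q13247, e3 q13201 (flp_c L188171) q13870, e3 q13202 L182797 q8849, e3 q13203 (flp_c L212201) q17102, e3 q13204 L213689 q17317, e3 q13205 L182815 q13133, e3 q13206 L182823 q13136, e3 q13207 (flp_c L182827) q8851, e3 q13208 (flp_c L213735) q17324, e3 q13209 (flp_c L213739) q17325, e3 q13210 (flp_c L213743) q17326, e3 q13211 L182846 q13134, e3 q13212 L182856 q13137, e3 q13213 L201207 q15697,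 e3 q13214 (flp_c L201225) q15699, e3 q13215 (flp_c L201233) q15700, e3 q13216 (flp_c L201241) q15701, e3 q13217 L182877 q12988, e3 q13218 L213817 q17339, e3 q13219 L182893 q12977, e3 q13220 L213834 q17341, e3 q13221 (flp_c L182907) q8861, e3 q13222 (flp_c L198569) q15294, e3 q13223 (flp_c L183105) q13248, e3 q13224 (flp_c L182930) q11367, e3 q13225 (flp_c L183111) q13249, e3 q13226 (flp_c L183117) q13250, e3 q13227 L182946 q13141, e3 q13228 (flp_c L183063) q13243, e3 q13229 (flp_c L183079) q13245, e3 q13230 (flp_c L183087) q13246, e3 q13231 L213970 q17356, e3 q13232 L182977 q13232, e3 q13233 (flp_c L182983) q8867, e3 q13234 (flp_c L214078) q17361, e3 q13235 (flp_c L214082) q17362, e3 q13236 (flp_c L214086) q17363, e3 q13237 L183016 q13062, e3 q13238 L214122 q17367, e3 q13239 L183032 q13052, e3 q13240 L214139 q17369, e3 q13241 (flp_c L183046) q8875, e3 q13242 (flp_c L198198) q15241, e3 q13243 L183063 q13228, e3 q13244 (flp_c L183075) q11526, e3 q13245 L183079 q13229, e3 q13246 L183087 q13230, e3 q13247 L183095 q13200,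 trivial⟩ (by decide +kernel)

theorem ce_c_207 : ∀ r, r < 64 → sm gc (Qf (13248 + r)) = Qf (tab Gen.c (13248 + r)) :=
  edges_tab (sm gc) Qf (tab Gen.c) 13248 [(13248, 13223), (13249, 13225), (13250, 13226), (13251, 17384), (13252, 8881), (13253, 17387), (13254, 17388), (13255, 8903), (13256, 8909), (13257, 17390), (13258, 8918), (13259, 8919), (13260, 16743), (13261, 8921), (13262, 16742), (13263, 8922), (13264, 8923), (13265, 8926), (13266, 8925), (13267, 9167), (13268, 17393), (13269, 13531), (13270, 17394), (13271, 8934), (13272, 8935), (13273, 16741), (13274, 8937), (13275, 16740), (13276, 8938), (13277, 8939), (13278, 8942), (13279, 8941), (13280, 17397), (13281, 9113), (13282, 13507), (13283, 10859), (13284, 10860), (13285, 15847), (13286, 8956), (13287, 10485), (13288, 10531), (13289, 8962), (13290, 9087), (13291, 14029), (13292, 9090), (13293, 13296), (13294, 13418), (13295, 8966), (13296, 13293), (13297, 14795), (13298, 17402), (13299, 14030), (13300, 8969), (13301, 8982), (13302, 16392), (13303, 9785),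 (13304, 8972), (13305, 17400), (13306, 8975), (13307, 15792), (13308, 10770), (13309, 13403), (13310, 8978), (13311, 17403)]
    ⟨e3 q13248 L183105 q13223, e3 q13249 L183111 q13225, e3 q13250 L183117 q13226, e3 q13251 L214291 q17384, e3 q13252 (flp_c L183138) q8881, e3 q13253 (flp_c L214399) q17387, e3 q13254 (flp_c L214403) q17388, e3 q13255 L183171 q8903, e3 q13256 L183179 q8909, e3 q13257 L214437 q17390, e3 q13258 (flp_c L183191) q8918, e3 q13259 (flp_c L183201) q8919, e3 q13260 (flp_c L209347) q16743, e3 q13261 L183223 q8921, e3 q13262 (flp_c L209339) q16742, e3 q13263 (flp_c L183235) q8922, e3 q13264 (flp_c L183239) q8923, e3 q13265 L183253 q8926, e3 q13266 L183261 q8925, e3 q13267 L183269 q9167, e3 q13268 (flp_c L214465) q17393, e3 q13269 (flp_c L185323) q13531, e3 q13270 L214473 q17394, e3 q13271 (flp_c L183285) q8934, e3 q13272 (flp_c L183293) q8935, e3 q13273 (flp_c L209329) q16741, e3 q13274 L183305 q8937, e3 q13275 (flp_c L209321) q16740, e3 q13276 (flp_c L183317) q8938, e3 q13277 (flp_c L183321) q8939,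 e3 q13278 L183335 q8942, e3 q13279 L183343 q8941, e3 q13280 (flp_c L214503) q17397, e3 q13281 L183353 q9113, e3 q13282 (flp_c L185121) q13507, e3 q13283 L183369 q10859, e3 q13284 L183379 q10860, e3 q13285 (flp_c L202204) q15847, e3 q13286 (flp_c L183389) q8956, e3 q13287 L183401 q10485, e3 q13288 L183447 q10531, e3 q13289 (flp_c L183449) q8962, e3 q13290 L183463 q9087, e3 q13291 (flp_c L189283) q14029, e3 q13292 L183479 q9090, e3 q13293 (flp_c L183507) q13296, e3 q13294 L184430 q13418, e3 q13295 (flp_c L183499) q8966, e3 q13296 L183507 q13293, e3 q13297 (flp_c L194879) q14795, e3 q13298 L214547 q17402, e3 q13299 (flp_c L189295) q14030, e3 q13300 (flp_c L183523) q8969, e3 q13301 L183535 q8982, e3 q13302 (flp_c L206294) q16392, e3 q13303 L183563 q9785, e3 q13304 L183575 q8972, e3 q13305 (flp_c L214531) q17400, e3 q13306 L183593 q8975, e3 q13307 L201822 q15792, e3 q13308 L183605 q10770, e3 q13309 (flp_c L184316) q13403, e3 q13310 (flp_c L183615) q8978, e3 q13311 (flp_c L214559) q17403, trivial⟩ (by decide +kernel)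

theorem ce_c_208 : ∀ r, r < 64 → sm gc (Qf (13312 + r)) = Qf (tab Gen.c (13312 + r)) :=
  edges_tab (sm gc) Qf (tab Gen.c) 13312 [(13312, 10460), (13313, 10526), (13314, 10527), (13315, 13317), (13316, 8985), (13317, 13315), (13318, 16215), (13319, 17405), (13320, 8987), (13321, 17406), (13322, 17407), (13323, 8988), (13324, 17408), (13325, 8990), (13326, 17409), (13327, 8991), (13328, 8995), (13329, 14858), (13330, 8993), (13331, 8994), (13332, 13333), (13333, 13332), (13334, 16211), (13335, 8996), (13336, 8997), (13337, 9054), (13338, 9059), (13339, 16401), (13340, 9172), (13341, 16241), (13342, 9009), (13343, 16245), (13344, 10864), (13345, 10865), (13346, 9022), (13347, 10484), (13348, 10483), (13349, 15613), (13350, 9141), (13351, 14086), (13352, 9143), (13353, 13470), (13354, 9031), (13355, 13357), (13356, 14827), (13357, 13355), (13358, 17420), (13359, 14087), (13360, 9035), (13361, 9047), (13362, 16375), (13363, 9838), (13364, 9038), (13365, 17418), (13366, 15543), (13367, 10686), (13368, 13455), (13369,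 9043), (13370, 17421), (13371, 10509), (13372, 10476), (13373, 10477), (13374, 17423), (13375, 9051)]
    ⟨e3 q13312 L183631 q10460, e3 q13313 L183641 q10526, e3 q13314 L183653 q10527, e3 q13315 (flp_c L183681) q13317, e3 q13316 (flp_c L183667) q8985, e3 q13317 L183681 q13315, e3 q13318 (flp_c L204792) q16215, e3 q13319 L214577 q17405, e3 q13320 (flp_c L183697) q8987, e3 q13321 (flp_c L214587) q17406, e3 q13322 L214591 q17407, e3 q13323 (flp_c L183713) q8988, e3 q13324 (flp_c L214607) q17408, e3 q13325 L183727 q8990, e3 q13326 (flp_c L214615) q17409, e3 q13327 (flp_c L183739) q8991, e3 q13328 L183747 q8995, e3 q13329 (flp_c L195458) q14858, e3 q13330 L183761 q8993, e3 q13331 L183767 q8994, e3 q13332 (flp_c L183785) q13333, e3 q13333 L183785 q13332, e3 q13334 L204762 q16211, e3 q13335 (flp_c L183797) q8996, e3 q13336 (flp_c L183805) q8997, e3 q13337 L183819 q9054, e3 q13338 L183827 q9059, e3 q13339 (flp_c L206352) q16401, e3 q13340 L183845 q9172, e3 q13341 L205008 q16241, e3 q13342 (flp_c L183855) q9009, e3 q13343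 (flp_c L205034) q16245, e3 q13344 L183875 q10864, e3 q13345 L183885 q10865, e3 q13346 (flp_c L183889) q9022, e3 q13347 L183901 q10484, e3 q13348 L183917 q10483, e3 q13349 (flp_c L200563) q15613, e3 q13350 L183931 q9141, e3 q13351 (flp_c L189715) q14086, e3 q13352 L183947 q9143, e3 q13353 (flp_c L184804) q13470, e3 q13354 (flp_c L183961) q9031, e3 q13355 L183977 q13357, e3 q13356 (flp_c L195165) q14827, e3 q13357 (flp_c L183977) q13355, e3 q13358 L214719 q17420, e3 q13359 (flp_c L189727) q14087, e3 q13360 (flp_c L183991) q9035, e3 q13361 L184003 q9047, e3 q13362 (flp_c L206146) q16375, e3 q13363 L184017 q9838, e3 q13364 L184029 q9038, e3 q13365 (flp_c L214703) q17418, e3 q13366 L200077 q15543, e3 q13367 L184047 q10686, e3 q13368 (flp_c L184692) q13455, e3 q13369 (flp_c L184057) q9043, e3 q13370 (flp_c L214731) q17421, e3 q13371 L184073 q10509, e3 q13372 L184083 q10476, e3 q13373 L184095 q10477, e3 q13374 L214749 q17423, e3 q13375 (flp_c L184105) q9051, trivial⟩ (by decide +kernel)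

theorem ce_c_209 : ∀ r, r < 64 → sm gc (Qf (13376 + r)) = Qf (tab Gen.c (13376 + r)) :=
  edges_tab (sm gc) Qf (tab Gen.c) 13376 [(13376, 17424), (13377, 17425), (13378, 9052), (13379, 17412), (13380, 17413), (13381, 9055), (13382, 14865), (13383, 9057), (13384, 9058), (13385, 16381), (13386, 9118), (13387, 12176), (13388, 9078), (13389, 10811), (13390, 11847), (13391, 17431), (13392, 17434), (13393, 12448), (13394, 9084), (13395, 17395), (13396, 9085), (13397, 13722), (13398, 14584), (13399, 17399), (13400, 15295), (13401, 17436), (13402, 10179), (13403, 13309), (13404, 9096), (13405, 10428), (13406, 9100), (13407, 17439), (13408, 16478), (13409, 14188), (13410, 9102), (13411, 14823), (13412, 9116), (13413, 9104), (13414, 13473), (13415, 13475), (13416, 11507), (13417, 13574), (13418, 13294), (13419, 14935), (13420, 14874), (13421, 13466), (13422, 16964), (13423, 13467), (13424, 13485), (13425, 17441), (13426, 17427), (13427, 11431), (13428, 16373), (13429, 17429), (13430, 11430), (13431, 12152), (13432, 17446),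 (13433, 17449), (13434, 13476), (13435, 15846), (13436, 13097), (13437, 12587), (13438, 13098), (13439, 11978)]
    ⟨e3 q13376 (flp_c L214765) q17424, e3 q13377 L214773 q17425, e3 q13378 (flp_c L184121) q9052, e3 q13379 (flp_c L214649) q17412, e3 q13380 (flp_c L214655) q17413, e3 q13381 (flp_c L184141) q9055, e3 q13382 (flp_c L195504) q14865, e3 q13383 L184153 q9057, e3 q13384 L184161 q9058, e3 q13385 (flp_c L206186) q16381, e3 q13386 L184175 q9118, e3 q13387 L184185 q12176, e3 q13388 L184193 q9078, e3 q13389 L184203 q10811, e3 q13390 L184215 q11847, e3 q13391 L214845 q17431, e3 q13392 L214868 q17434, e3 q13393 L205205 q12448, e3 q13394 (flp_c L184236) q9084, e3 q13395 (flp_c L214485) q17395, e3 q13396 (flp_c L184246) q9085, e3 q13397 (flp_c L187029) q13722, e3 q13398 (flp_c L193203) q14584, e3 q13399 (flp_c L214523) q17399, e3 q13400 (flp_c L198575) q15295, e3 q13401 L214890 q17436, e3 q13402 L184308 q10179, e3 q13403 L184316 q13309, e3 q13404 (flp_c L184322) q9096, e3 q13405 L184334 q10428, e3 q13406 (flp_c L184342)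 q9100, e3 q13407 (flp_c L214922) q17439, e3 q13408 (flp_c L207061) q16478, e3 q13409 L190555 q14188, e3 q13410 (flp_c L184374) q9102, e3 q13411 (flp_c L195131) q14823, e3 q13412 L184388 q9116, e3 q13413 L184394 q9104, e3 q13414 (flp_c L184834) q13473, e3 q13415 (flp_c L184846) q13475, e3 q13416 (flp_c L184416) q11507, e3 q13417 L185703 q13574, e3 q13418 (flp_c L184430) q13294, e3 q13419 (flp_c L196127) q14935, e3 q13420 (flp_c L195582) q14874, e3 q13421 (flp_c L184776) q13466, e3 q13422 (flp_c L211143) q16964, e3 q13423 (flp_c L184782) q13467, e3 q13424 (flp_c L184914) q13485, e3 q13425 (flp_c L214946) q17441, e3 q13426 (flp_c L214801) q17427, e3 q13427 (flp_c L184492) q11431, e3 q13428 L206134 q16373, e3 q13429 (flp_c L214825) q17429, e3 q13430 L184506 q11430, e3 q13431 (flp_c L184512) q12152, e3 q13432 L214998 q17446, e3 q13433 L215025 q17449, e3 q13434 (flp_c L184852) q13476, e3 q13435 (flp_c L202194) q15846, e3 q13436 L184529 q13097, e3 q13437 L184535 q12587, e3 q13438 L184543 q13098, e3 q13439 L184555 q11978,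 trivial⟩ (by decide +kernel)

theorem ce_c_210 : ∀ r, r < 64 → sm gc (Qf (13440 + r)) = Qf (tab Gen.c (13440 + r)) :=
  edges_tab (sm gc) Qf (tab Gen.c) 13440 [(13440, 9131), (13441, 12060), (13442, 10832), (13443, 17457), (13444, 17459), (13445, 9138), (13446, 12484), (13447, 9139), (13448, 17391), (13449, 13747), (13450, 14633), (13451, 17417), (13452, 15242), (13453, 17461), (13454, 10146), (13455, 13368), (13456, 9150), (13457, 10394), (13458, 9154), (13459, 17464), (13460, 16336), (13461, 14167), (13462, 9156), (13463, 14790), (13464, 9170), (13465, 9158), (13466, 13421), (13467, 13423), (13468, 11348), (13469, 13595), (13470, 13353), (13471, 14983), (13472, 14876), (13473, 13414), (13474, 16949), (13475, 13415), (13476, 13434), (13477, 17466), (13478, 17411), (13479, 11271), (13480, 17415), (13481, 16385), (13482, 11270), (13483, 17471), (13484, 11949), (13485, 13424), (13486, 17474), (13487, 15612), (13488, 13027), (13489, 12592), (13490, 13028), (13491, 16428), (13492, 11031), (13493, 10651), (13494, 10649),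 (13495, 10682), (13496, 11027), (13497, 10766), (13498, 10735), (13499, 11064), (13500, 9201), (13501, 10654), (13502, 9337), (13503, 17480)]
    ⟨e3 q13440 L184563 q9131, e3 q13441 L184573 q12060, e3 q13442 L184585 q10832, e3 q13443 L215088 q17457, e3 q13444 L215114 q17459, e3 q13445 (flp_c L184600) q9138, e3 q13446 L184614 q12484, e3 q13447 (flp_c L184616) q9139, e3 q13448 (flp_c L214449) q17391, e3 q13449 (flp_c L187213) q13747, e3 q13450 (flp_c L193507) q14633, e3 q13451 (flp_c L214695) q17417, e3 q13452 (flp_c L198204) q15242, e3 q13453 L215129 q17461, e3 q13454 L184684 q10146, e3 q13455 L184692 q13368, e3 q13456 (flp_c L184698) q9150, e3 q13457 L184710 q10394, e3 q13458 (flp_c L184718) q9154, e3 q13459 (flp_c L215161) q17464, e3 q13460 (flp_c L205838) q16336, e3 q13461 L190359 q14167, e3 q13462 (flp_c L184750) q9156, e3 q13463 (flp_c L194833) q14790, e3 q13464 L184764 q9170, e3 q13465 L184770 q9158, e3 q13466 L184776 q13421, e3 q13467 L184782 q13423, e3 q13468 (flp_c L184794) q11348, e3 q13469 L185921 q13595,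 e3 q13470 L184804 q13353, e3 q13471 (flp_c L196548) q14983, e3 q13472 (flp_c L195600) q14876, e3 q13473 L184834 q13414, e3 q13474 (flp_c L211035) q16949, e3 q13475 L184846 q13415, e3 q13476 L184852 q13434, e3 q13477 (flp_c L215185) q17466, e3 q13478 (flp_c L214639) q17411, e3 q13479 L184884 q11271, e3 q13480 (flp_c L214677) q17415, e3 q13481 (flp_c L206234) q16385, e3 q13482 L184898 q11270, e3 q13483 L215239 q17471, e3 q13484 L184904 q11949, e3 q13485 L184914 q13424, e3 q13486 L215268 q17474, e3 q13487 (flp_c L200553) q15612, e3 q13488 L184929 q13027, e3 q13489 L184935 q12592, e3 q13490 L184943 q13028, e3 q13491 L206596 q16428, e3 q13492 L184963 q11031, e3 q13493 (flp_c L184981) q10651, e3 q13494 L184985 q10649, e3 q13495 L185001 q10682, e3 q13496 L185009 q11027, e3 q13497 L185023 q10766, e3 q13498 (flp_c L185039) q10735, e3 q13499 (flp_c L185051) q11064, e3 q13500 L185057 q9201, e3 q13501 L185069 q10654, e3 q13502 L185081 q9337, e3 q13503 L215315 q17480, trivial⟩ (by decide +kernel)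

theorem ce_c_211 : ∀ r, r < 64 → sm gc (Qf (13504 + r)) = Qf (tab Gen.c (13504 + r)) :=
  edges_tab (sm gc) Qf (tab Gen.c) 13504 [(13504, 10661), (13505, 9206), (13506, 17482), (13507, 13282), (13508, 13992), (13509, 14977), (13510, 9212), (13511, 16220), (13512, 13552), (13513, 9293), (13514, 12539), (13515, 9302), (13516, 9303), (13517, 9284), (13518, 12536), (13519, 9309), (13520, 14913), (13521, 16273), (13522, 11068), (13523, 10734), (13524, 9237), (13525, 10702), (13526, 9295), (13527, 17489), (13528, 10743), (13529, 9242), (13530, 17491), (13531, 13269), (13532, 14011), (13533, 14929), (13534, 9248), (13535, 16250), (13536, 13581), (13537, 9289), (13538, 12548), (13539, 9344), (13540, 9345), (13541, 9331), (13542, 12545), (13543, 9350), (13544, 14960), (13545, 14923), (13546, 13594), (13547, 13553), (13548, 9261), (13549, 14906), (13550, 9263), (13551, 9338), (13552, 13512), (13553, 13547), (13554, 9298), (13555, 9272), (13556, 9278), (13557, 13986), (13558, 9283), (13559, 17486), (13560, 9304), (13561,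 13982), (13562, 16621), (13563, 14969), (13564, 9296), (13565, 9316), (13566, 14927), (13567, 12459)]
    ⟨e3 q13504 L185099 q10661, e3 q13505 (flp_c L185103) q9206, e3 q13506 (flp_c L215337) q17482, e3 q13507 L185121 q13282, e3 q13508 (flp_c L189033) q13992, e3 q13509 L196512 q14977, e3 q13510 (flp_c L185135) q9212, e3 q13511 (flp_c L204841) q16220, e3 q13512 (flp_c L185477) q13552, e3 q13513 L185153 q9293, e3 q13514 L185161 q12539, e3 q13515 L185169 q9302, e3 q13516 L185177 q9303, e3 q13517 (flp_c L185193) q9284, e3 q13518 L185199 q12536, e3 q13519 L185209 q9309, e3 q13520 (flp_c L195928) q14913, e3 q13521 L205275 q16273, e3 q13522 L185233 q11068, e3 q13523 L185243 q10734, e3 q13524 L185257 q9237, e3 q13525 L185269 q10702, e3 q13526 L185283 q9295, e3 q13527 L215403 q17489, e3 q13528 L185301 q10743, e3 q13529 (flp_c L185305) q9242, e3 q13530 (flp_c L215425) q17491, e3 q13531 L185323 q13269, e3 q13532 (flp_c L189155) q14011, e3 q13533 L196097 q14929, e3 q13534 (flp_c L185337) q9248, e3 q13535 (flp_c L205089) q16250,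 e3 q13536 L185771 q13581, e3 q13537 L185355 q9289, e3 q13538 L185363 q12548, e3 q13539 L185371 q9344, e3 q13540 L185383 q9345, e3 q13541 (flp_c L185395) q9331, e3 q13542 L185401 q12545, e3 q13543 L185411 q9350, e3 q13544 (flp_c L196329) q14960, e3 q13545 (flp_c L196033) q14923, e3 q13546 (flp_c L185905) q13594, e3 q13547 (flp_c L185483) q13553, e3 q13548 (flp_c L185435) q9261, e3 q13549 (flp_c L195868) q14906, e3 q13550 (flp_c L185445) q9263, e3 q13551 L185459 q9338, e3 q13552 L185477 q13512, e3 q13553 L185483 q13547, e3 q13554 L185495 q9298, e3 q13555 L185509 q9272, e3 q13556 L185521 q9278, e3 q13557 (flp_c L188987) q13986, e3 q13558 L185537 q9283, e3 q13559 (flp_c L215375) q17486, e3 q13560 L185553 q9304, e3 q13561 (flp_c L188949) q13982, e3 q13562 (flp_c L208244) q16621, e3 q13563 L196424 q14969, e3 q13564 (flp_c L185585) q9296, e3 q13565 L185601 q9316, e3 q13566 (flp_c L196073) q14927, e3 q13567 (flp_c L185629) q12459, trivial⟩ (by decide +kernel)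

theorem ce_c_212 : ∀ r, r < 64 → sm gc (Qf (13568 + r)) = Qf (tab Gen.c (13568 + r)) :=
  edges_tab (sm gc) Qf (tab Gen.c) 13568 [(13568, 9340), (13569, 9301), (13570, 13578), (13571, 12423), (13572, 13577), (13573, 12458), (13574, 13417), (13575, 9307), (13576, 14971), (13577, 13572), (13578, 13570), (13579, 9314), (13580, 14954), (13581, 13536), (13582, 9324), (13583, 9326), (13584, 9330), (13585, 17495), (13586, 9347), (13587, 16598), (13588, 14921), (13589, 14975), (13590, 12436), (13591, 9343), (13592, 12468), (13593, 12438), (13594, 13546), (13595, 13469), (13596, 9349), (13597, 17508), (13598, 9354), (13599, 17511), (13600, 17512), (13601, 9355), (13602, 17515), (13603, 9420), (13604, 9419), (13605, 9360), (13606, 9361), (13607, 9362), (13608, 17516), (13609, 12462), (13610, 9364), (13611, 9365), (13612, 17518), (13613, 12496), (13614, 9367), (13615, 9368), (13616, 9369), (13617, 17522), (13618, 9371), (13619, 17524), (13620, 9373), (13621, 15695), (13622, 17527), (13623, 9376), (13624, 17529), (13625, 15925),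 (13626, 17531), (13627, 9379), (13628, 17533), (13629, 14381), (13630, 9380), (13631, 17534)]
    ⟨e3 q13568 L185645 q9340, e3 q13569 (flp_c L185653) q9301, e3 q13570 L185741 q13578, e3 q13571 L185677 q12423, e3 q13572 L185729 q13577, e3 q13573 L185691 q12458, e3 q13574 (flp_c L185703) q13417, e3 q13575 L185709 q9307, e3 q13576 (flp_c L196446) q14971, e3 q13577 (flp_c L185729) q13572, e3 q13578 (flp_c L185741) q13570, e3 q13579 (flp_c L185743) q9314, e3 q13580 (flp_c L196277) q14954, e3 q13581 (flp_c L185771) q13536, e3 q13582 L185777 q9324, e3 q13583 L185791 q9326, e3 q13584 L185799 q9330, e3 q13585 (flp_c L215463) q17495, e3 q13586 L185819 q9347, e3 q13587 (flp_c L208047) q16598, e3 q13588 L196013 q14921, e3 q13589 (flp_c L196486) q14975, e3 q13590 L185867 q12436, e3 q13591 (flp_c L185873) q9343, e3 q13592 L185889 q12468, e3 q13593 L185897 q12438, e3 q13594 L185905 q13546, e3 q13595 (flp_c L185921) q13469, e3 q13596 L185927 q9349, e3 q13597 L215591 q17508, e3 q13598 (flp_c L185942) q9354, e3 q13599 (flp_c L215623)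 q17511, e3 q13600 L215627 q17512, e3 q13601 (flp_c L185966) q9355, e3 q13602 (flp_c L215661) q17515, e3 q13603 L185983 q9420, e3 q13604 L185997 q9419, e3 q13605 (flp_c L186007) q9360, e3 q13606 (flp_c L186018) q9361, e3 q13607 (flp_c L186029) q9362, e3 q13608 (flp_c L215669) q17516, e3 q13609 L186047 q12462, e3 q13610 L186051 q9364, e3 q13611 (flp_c L186053) q9365, e3 q13612 (flp_c L215685) q17518, e3 q13613 L186073 q12496, e3 q13614 L186077 q9367, e3 q13615 (flp_c L186079) q9368, e3 q13616 (flp_c L186089) q9369, e3 q13617 L215717 q17522, e3 q13618 L186111 q9371, e3 q13619 L215733 q17524, e3 q13620 L186129 q9373, e3 q13621 (flp_c L201185) q15695, e3 q13622 L215761 q17527, e3 q13623 (flp_c L186153) q9376, e3 q13624 (flp_c L215779) q17529, e3 q13625 (flp_c L202836) q15925, e3 q13626 L215795 q17531, e3 q13627 (flp_c L186185) q9379, e3 q13628 (flp_c L215813) q17533, e3 q13629 (flp_c L191884) q14381, e3 q13630 (flp_c L186209) q9380, e3 q13631 (flp_c L215819) q17534, trivial⟩ (by decide +kernel)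

theorem ce_c_213 : ∀ r, r < 64 → sm gc (Qf (13632 + r)) = Qf (tab Gen.c (13632 + r)) :=
  edges_tab (sm gc) Qf (tab Gen.c) 13632 [(13632, 10165), (13633, 9381), (13634, 17535), (13635, 13109), (13636, 9383), (13637, 17537), (13638, 14326), (13639, 9384), (13640, 17538), (13641, 10132), (13642, 9385), (13643, 17539), (13644, 13169), (13645, 9387), (13646, 17541), (13647, 10942), (13648, 15924), (13649, 10954), (13650, 15696), (13651, 11568), (13652, 17544), (13653, 9402), (13654, 17546), (13655, 9403), (13656, 17547), (13657, 17549), (13658, 11620), (13659, 9406), (13660, 17551), (13661, 9407), (13662, 17552), (13663, 10593), (13664, 10538), (13665, 12056), (13666, 11843), (13667, 17554), (13668, 17555), (13669, 9423), (13670, 9424), (13671, 12449), (13672, 16654), (13673, 9426), (13674, 12486), (13675, 16672), (13676, 9428), (13677, 13696), (13678, 9429), (13679, 12420), (13680, 10652), (13681, 9430), (13682, 14732), (13683, 9439), (13684, 9432), (13685, 9443), (13686, 13699), (13687, 9433), (13688, 12465), (13689,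 10736), (13690, 9434), (13691, 14713), (13692, 9448), (13693, 9436), (13694, 9452), (13695, 9442)]
    ⟨e3 q13632 (flp_c L186226) q10165, e3 q13633 (flp_c L186230) q9381, e3 q13634 (flp_c L215827) q17535, e3 q13635 (flp_c L205211) q13109, e3 q13636 L186250 q9383, e3 q13637 (flp_c L215847) q17537, e3 q13638 (flp_c L191503) q14326, e3 q13639 (flp_c L186272) q9384, e3 q13640 (flp_c L215855) q17538, e3 q13641 (flp_c L186289) q10132, e3 q13642 (flp_c L186293) q9385, e3 q13643 (flp_c L215863) q17539, e3 q13644 (flp_c L186313) q13169, e3 q13645 L186317 q9387, e3 q13646 (flp_c L215883) q17541, e3 q13647 L186331 q10942, e3 q13648 (flp_c L202828) q15924, e3 q13649 L186349 q10954, e3 q13650 (flp_c L201195) q15696, e3 q13651 L186369 q11568, e3 q13652 L215913 q17544, e3 q13653 (flp_c L186385) q9402, e3 q13654 (flp_c L215924) q17546, e3 q13655 (flp_c L186398) q9403, e3 q13656 (flp_c L215934) q17547, e3 q13657 L215956 q17549, e3 q13658 L186421 q11620, e3 q13659 (flp_c L186431) q9406, e3 q13660 (flp_c L215969) q17551, e3 q13661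 (flp_c L186444) q9407, e3 q13662 (flp_c L215979) q17552, e3 q13663 L186459 q10593, e3 q13664 L186473 q10538, e3 q13665 L186489 q12056, e3 q13666 L186498 q11843, e3 q13667 L216003 q17554, e3 q13668 L216012 q17555, e3 q13669 (flp_c L186518) q9423, e3 q13670 (flp_c L186526) q9424, e3 q13671 (flp_c L186543) q12449, e3 q13672 (flp_c L208574) q16654, e3 q13673 (flp_c L186555) q9426, e3 q13674 (flp_c L186573) q12486, e3 q13675 (flp_c L208747) q16672, e3 q13676 (flp_c L186585) q9428, e3 q13677 (flp_c L186775) q13696, e3 q13678 (flp_c L186601) q9429, e3 q13679 L186611 q12420, e3 q13680 L186631 q10652, e3 q13681 (flp_c L186633) q9430, e3 q13682 (flp_c L194291) q14732, e3 q13683 (flp_c L186649) q9439, e3 q13684 L186655 q9432, e3 q13685 L186666 q9443, e3 q13686 (flp_c L186805) q13699, e3 q13687 (flp_c L186686) q9433, e3 q13688 L186696 q12465, e3 q13689 L186716 q10736, e3 q13690 (flp_c L186718) q9434, e3 q13691 (flp_c L194129) q14713, e3 q13692 (flp_c L186734) q9448, e3 q13693 L186740 q9436, e3 q13694 L186751 q9452, e3 q13695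 L186765 q9442, trivial⟩ (by decide +kernel)

theorem ce_c_214 : ∀ r, r < 64 → sm gc (Qf (13696 + r)) = Qf (tab Gen.c (13696 + r)) :=
  edges_tab (sm gc) Qf (tab Gen.c) 13696 [(13696, 13677), (13697, 9445), (13698, 9451), (13699, 13686), (13700, 9454), (13701, 9457), (13702, 9459), (13703, 9462), (13704, 9464), (13705, 16636), (13706, 10684), (13707, 16640), (13708, 10768), (13709, 9476), (13710, 16300), (13711, 16358), (13712, 9480), (13713, 9482), (13714, 10697), (13715, 9483), (13716, 9488), (13717, 9490), (13718, 10781), (13719, 9491), (13720, 9492), (13721, 17562), (13722, 13397), (13723, 9495), (13724, 17565), (13725, 10028), (13726, 9497), (13727, 9498), (13728, 17569), (13729, 17573), (13730, 17575), (13731, 9499), (13732, 16643), (13733, 16278), (13734, 9500), (13735, 12706), (13736, 9502), (13737, 17579), (13738, 9503), (13739, 17582), (13740, 17580), (13741, 12648), (13742, 9505), (13743, 12707), (13744, 9508), (13745, 15918), (13746, 17590), (13747, 13449), (13748, 9511), (13749, 17593), (13750, 10062),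 (13751, 9513), (13752, 9514), (13753, 17597), (13754, 17601), (13755, 17603), (13756, 9515), (13757, 16638), (13758, 16433), (13759, 9516)]
    ⟨e3 q13696 L186775 q13677, e3 q13697 L186785 q9445, e3 q13698 L186795 q9451, e3 q13699 L186805 q13686, e3 q13700 L186815 q9454, e3 q13701 L186825 q9457, e3 q13702 L186837 q9459, e3 q13703 L186851 q9462, e3 q13704 L186863 q9464, e3 q13705 (flp_c L208373) q16636, e3 q13706 L186889 q10684, e3 q13707 (flp_c L208423) q16640, e3 q13708 L186913 q10768, e3 q13709 (flp_c L186921) q9476, e3 q13710 (flp_c L205528) q16300, e3 q13711 (flp_c L205990) q16358, e3 q13712 L186943 q9480, e3 q13713 L186951 q9482, e3 q13714 L186963 q10697, e3 q13715 (flp_c L186969) q9483, e3 q13716 L186977 q9488, e3 q13717 L186987 q9490, e3 q13718 L186999 q10781, e3 q13719 (flp_c L187007) q9491, e3 q13720 (flp_c L187013) q9492, e3 q13721 L216067 q17562, e3 q13722 L187029 q13397, e3 q13723 (flp_c L187035) q9495, e3 q13724 (flp_c L216091) q17565, e3 q13725 L187057 q10028, e3 q13726 L187063 q9497, e3 q13727 L187069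 q9498, e3 q13728 (flp_c L216119) q17569, e3 q13729 L216139 q17573, e3 q13730 L216147 q17575, e3 q13731 (flp_c L187089) q9499, e3 q13732 (flp_c L208461) q16643, e3 q13733 (flp_c L205316) q16278, e3 q13734 (flp_c L187111) q9500, e3 q13735 (flp_c L187125) q12706, e3 q13736 L187129 q9502, e3 q13737 L216187 q17579, e3 q13738 (flp_c L187139) q9503, e3 q13739 (flp_c L216207) q17582, e3 q13740 (flp_c L216199) q17580, e3 q13741 L187161 q12648, e3 q13742 L187169 q9505, e3 q13743 L187177 q12707, e3 q13744 L187187 q9508, e3 q13745 (flp_c L202778) q15918, e3 q13746 L216265 q17590, e3 q13747 L187213 q13449, e3 q13748 (flp_c L187219) q9511, e3 q13749 (flp_c L216289) q17593, e3 q13750 L187241 q10062, e3 q13751 L187247 q9513, e3 q13752 L187253 q9514, e3 q13753 (flp_c L216317) q17597, e3 q13754 L216337 q17601, e3 q13755 L216345 q17603, e3 q13756 (flp_c L187273) q9515, e3 q13757 (flp_c L208399) q16638, e3 q13758 (flp_c L206637) q16433, e3 q13759 (flp_c L187295) q9516, trivial⟩ (by decide +kernel)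

theorem ce_c_215 : ∀ r, r < 64 → sm gc (Qf (13760 + r)) = Qf (tab Gen.c (13760 + r)) :=
  edges_tab (sm gc) Qf (tab Gen.c) 13760 [(13760, 12677), (13761, 9518), (13762, 17607), (13763, 9519), (13764, 17610), (13765, 17608), (13766, 12657), (13767, 9521), (13768, 12678), (13769, 9524), (13770, 15688), (13771, 15635), (13772, 9531), (13773, 9532), (13774, 17619), (13775, 9536), (13776, 11085), (13777, 11088), (13778, 9539), (13779, 15869), (13780, 9544), (13781, 9545), (13782, 17623), (13783, 9549), (13784, 11047), (13785, 11049), (13786, 9552), (13787, 14452), (13788, 14453), (13789, 14489), (13790, 9560), (13791, 9561), (13792, 17629), (13793, 17632), (13794, 17634), (13795, 9562), (13796, 15670), (13797, 14440), (13798, 17368), (13799, 9565), (13800, 17640), (13801, 9568), (13802, 16054), (13803, 9569), (13804, 17643), (13805, 17649), (13806, 17651), (13807, 9570), (13808, 17654), (13809, 9571), (13810, 17658), (13811, 17656), (13812, 17663), (13813, 9573), (13814, 17666), (13815, 14399), (13816, 15230), (13817,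 9576), (13818, 17671), (13819, 9578), (13820, 9583), (13821, 13142), (13822, 9581), (13823, 9582)]
    ⟨e3 q13760 (flp_c L187309) q12677, e3 q13761 L187313 q9518, e3 q13762 L216385 q17607, e3 q13763 (flp_c L187327) q9519, e3 q13764 (flp_c L216405) q17610, e3 q13765 (flp_c L216397) q17608, e3 q13766 (flp_c L187349) q12657, e3 q13767 L187357 q9521, e3 q13768 L187365 q12678, e3 q13769 L187375 q9524, e3 q13770 (flp_c L201131) q15688, e3 q13771 (flp_c L200753) q15635, e3 q13772 L187407 q9531, e3 q13773 L187413 q9532, e3 q13774 L216469 q17619, e3 q13775 (flp_c L187427) q9536, e3 q13776 L187435 q11085, e3 q13777 L187449 q11088, e3 q13778 (flp_c L187459) q9539, e3 q13779 (flp_c L202394) q15869, e3 q13780 L187479 q9544, e3 q13781 L187485 q9545, e3 q13782 L216495 q17623, e3 q13783 (flp_c L187499) q9549, e3 q13784 L187507 q11047, e3 q13785 L187523 q11049, e3 q13786 (flp_c L187533) q9552, e3 q13787 (flp_c L192369) q14452, e3 q13788 (flp_c L192375) q14453, e3 q13789 (flp_c L192607) q14489, e3 q13790 L187563 q9560, e3 q13791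 L187569 q9561, e3 q13792 (flp_c L216547) q17629, e3 q13793 L216561 q17632, e3 q13794 L216569 q17634, e3 q13795 (flp_c L187593) q9562, e3 q13796 L200964 q15670, e3 q13797 (flp_c L192297) q14440, e3 q13798 L214137 q17368, e3 q13799 L187621 q9565, e3 q13800 L216645 q17640, e3 q13801 L187633 q9568, e3 q13802 (flp_c L203665) q16054, e3 q13803 L187645 q9569, e3 q13804 (flp_c L216663) q17643, e3 q13805 L216687 q17649, e3 q13806 L216695 q17651, e3 q13807 (flp_c L187667) q9570, e3 q13808 (flp_c L216719) q17654, e3 q13809 (flp_c L187679) q9571, e3 q13810 (flp_c L216755) q17658, e3 q13811 (flp_c L216739) q17656, e3 q13812 L216801 q17663, e3 q13813 (flp_c L187703) q9573, e3 q13814 (flp_c L216823) q17666, e3 q13815 L192021 q14399, e3 q13816 (flp_c L198127) q15230, e3 q13817 (flp_c L187725) q9576, e3 q13818 L216861 q17671, e3 q13819 L187741 q9578, e3 q13820 L187751 q9583, e3 q13821 L187825 q13142, e3 q13822 L187763 q9581, e3 q13823 L187773 q9582, trivial⟩ (by decide +kernel)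

theorem ce_c_216 : ∀ r, r < 64 → sm gc (Qf (13824 + r)) = Qf (tab Gen.c (13824 + r)) :=
  edges_tab (sm gc) Qf (tab Gen.c) 13824 [(13824, 17673), (13825, 15546), (13826, 9584), (13827, 17679), (13828, 17680), (13829, 11040), (13830, 9634), (13831, 9587), (13832, 9588), (13833, 17688), (13834, 17690), (13835, 17694), (13836, 9590), (13837, 17697), (13838, 14501), (13839, 14502), (13840, 9598), (13841, 9599), (13842, 17701), (13843, 17704), (13844, 17706), (13845, 9600), (13846, 15900), (13847, 17340), (13848, 9603), (13849, 17712), (13850, 9606), (13851, 16128), (13852, 9607), (13853, 17715), (13854, 17648), (13855, 17721), (13856, 9608), (13857, 17669), (13858, 9609), (13859, 17727), (13860, 17725), (13861, 17732), (13862, 9611), (13863, 17735), (13864, 14421), (13865, 15282), (13866, 9614), (13867, 17739), (13868, 9616), (13869, 9621), (13870, 13201), (13871, 9619), (13872, 9620), (13873, 15785), (13874, 17741), (13875, 9622), (13876, 17747), (13877, 17748), (13878, 11078), (13879, 9641), (13880, 9625), (13881,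 9626), (13882, 17756), (13883, 17758), (13884, 17762), (13885, 9628), (13886, 17765), (13887, 16840)]
    ⟨e3 q13824 (flp_c L216883) q17673, e3 q13825 L200103 q15546, e3 q13826 (flp_c L187797) q9584, e3 q13827 (flp_c L216954) q17679, e3 q13828 (flp_c L216960) q17680, e3 q13829 L187845 q11040, e3 q13830 L187855 q9634, e3 q13831 L187859 q9587, e3 q13832 L187863 q9588, e3 q13833 (flp_c L217014) q17688, e3 q13834 (flp_c L217025) q17690, e3 q13835 L217053 q17694, e3 q13836 (flp_c L187885) q9590, e3 q13837 (flp_c L217082) q17697, e3 q13838 (flp_c L192679) q14501, e3 q13839 (flp_c L192685) q14502, e3 q13840 L187921 q9598, e3 q13841 L187927 q9599, e3 q13842 (flp_c L217120) q17701, e3 q13843 L217134 q17704, e3 q13844 L217142 q17706, e3 q13845 (flp_c L187951) q9600, e3 q13846 L202611 q15900, e3 q13847 L213832 q17340, e3 q13848 L187967 q9603, e3 q13849 L217218 q17712, e3 q13850 L187979 q9606, e3 q13851 (flp_c L204157) q16128, e3 q13852 L187991 q9607, e3 q13853 (flp_c L217236) q17715, e3 q13854 (flp_c L222537) q17648, e3 q13855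 L217268 q17721, e3 q13856 (flp_c L188013) q9608, e3 q13857 (flp_c L216849) q17669, e3 q13858 (flp_c L188025) q9609, e3 q13859 (flp_c L217320) q17727, e3 q13860 (flp_c L217304) q17725, e3 q13861 L217366 q17732, e3 q13862 (flp_c L188049) q9611, e3 q13863 (flp_c L217394) q17735, e3 q13864 L192167 q14421, e3 q13865 (flp_c L198486) q15282, e3 q13866 (flp_c L188071) q9614, e3 q13867 L217424 q17739, e3 q13868 L188087 q9616, e3 q13869 L188097 q9621, e3 q13870 L188171 q13201, e3 q13871 L188109 q9619, e3 q13872 L188117 q9620, e3 q13873 L201760 q15785, e3 q13874 (flp_c L217446) q17741, e3 q13875 (flp_c L188143) q9622, e3 q13876 (flp_c L217510) q17747, e3 q13877 (flp_c L217516) q17748, e3 q13878 L188191 q11078, e3 q13879 L188201 q9641, e3 q13880 L188205 q9625, e3 q13881 L188209 q9626, e3 q13882 (flp_c L217570) q17756, e3 q13883 (flp_c L217581) q17758, e3 q13884 L217609 q17762, e3 q13885 (flp_c L188231) q9628, e3 q13886 (flp_c L217638) q17765, e3 q13887 L210165 q16840, trivial⟩ (by decide +kernel)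

theorem ce_c_217 : ∀ r, r < 64 → sm gc (Qf (13888 + r)) = Qf (tab Gen.c (13888 + r)) :=
  edges_tab (sm gc) Qf (tab Gen.c) 13888 [(13888, 17767), (13889, 10238), (13890, 10243), (13891, 9630), (13892, 17773), (13893, 17774), (13894, 17775), (13895, 10244), (13896, 17683), (13897, 17684), (13898, 17685), (13899, 17686), (13900, 16833), (13901, 17787), (13902, 10208), (13903, 10204), (13904, 9637), (13905, 17791), (13906, 17792), (13907, 17793), (13908, 10209), (13909, 17751), (13910, 17752), (13911, 17753), (13912, 17754), (13913, 11675), (13914, 11677), (13915, 11678), (13916, 17807), (13917, 13917), (13918, 9645), (13919, 17812), (13920, 17813), (13921, 17814), (13922, 11668), (13923, 11670), (13924, 11671), (13925, 17822), (13926, 9651), (13927, 17825), (13928, 17826), (13929, 12450), (13930, 9660), (13931, 17616), (13932, 12485), (13933, 9667), (13934, 17588), (13935, 16677), (13936, 12477), (13937, 9674), (13938, 16266), (13939, 14020), (13940, 9710), (13941, 11913), (13942, 9681), (13943, 9684), (13944, 9703),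 (13945, 9683), (13946, 16438), (13947, 14163), (13948, 17831), (13949, 9685), (13950, 13977), (13951, 13976)]
    ⟨e3 q13888 L217654 q17767, e3 q13889 L188259 q10238, e3 q13890 L188267 q10243, e3 q13891 (flp_c L188273) q9630, e3 q13892 (flp_c L217702) q17773, e3 q13893 (flp_c L217706) q17774, e3 q13894 (flp_c L217710) q17775, e3 q13895 L188294 q10244, e3 q13896 (flp_c L216988) q17683, e3 q13897 (flp_c L216994) q17684, e3 q13898 (flp_c L217000) q17685, e3 q13899 (flp_c L217004) q17686, e3 q13900 L210117 q16833, e3 q13901 L217781 q17787, e3 q13902 L188325 q10208, e3 q13903 L188335 q10204, e3 q13904 (flp_c L188339) q9637, e3 q13905 (flp_c L217815) q17791, e3 q13906 (flp_c L217821) q17792, e3 q13907 (flp_c L217827) q17793, e3 q13908 L188366 q10209, e3 q13909 (flp_c L217544) q17751, e3 q13910 (flp_c L217550) q17752, e3 q13911 (flp_c L217556) q17753, e3 q13912 (flp_c L217560) q17754, e3 q13913 L188387 q11675, e3 q13914 L188395 q11677, e3 q13915 L188404 q11678, e3 q13916 L217926 q17807, e3 q13917 L188422 q13917, e3 q13918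 (flp_c L188432) q9645, e3 q13919 (flp_c L217974) q17812, e3 q13920 (flp_c L217978) q17813, e3 q13921 (flp_c L217982) q17814, e3 q13922 L188469 q11668, e3 q13923 L188477 q11670, e3 q13924 L188485 q11671, e3 q13925 L218072 q17822, e3 q13926 (flp_c L188514) q9651, e3 q13927 (flp_c L218120) q17825, e3 q13928 (flp_c L218124) q17826, e3 q13929 L188555 q12450, e3 q13930 (flp_c L188563) q9660, e3 q13931 (flp_c L216449) q17616, e3 q13932 L188577 q12485, e3 q13933 (flp_c L188585) q9667, e3 q13934 (flp_c L216251) q17588, e3 q13935 (flp_c L208799) q16677, e3 q13936 L188607 q12477, e3 q13937 (flp_c L188615) q9674, e3 q13938 L205223 q16266, e3 q13939 (flp_c L189197) q14020, e3 q13940 L188641 q9710, e3 q13941 L188653 q11913, e3 q13942 (flp_c L188659) q9681, e3 q13943 L188669 q9684, e3 q13944 (flp_c L188677) q9703, e3 q13945 L188683 q9683, e3 q13946 (flp_c L206689) q16438, e3 q13947 (flp_c L190321) q14163, e3 q13948 (flp_c L218198) q17831, e3 q13949 (flp_c L188697) q9685, e3 q13950 (flp_c L188905) q13977, e3 q13951 (flp_c L188891)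 q13976, trivial⟩ (by decide +kernel)

theorem ce_c_218 : ∀ r, r < 64 → sm gc (Qf (13952 + r)) = Qf (tab Gen.c (13952 + r)) :=
  edges_tab (sm gc) Qf (tab Gen.c) 13952 [(13952, 17559), (13953, 12364), (13954, 9688), (13955, 9689), (13956, 13972), (13957, 13971), (13958, 16496), (13959, 16659), (13960, 12441), (13961, 9696), (13962, 16359), (13963, 14001), (13964, 12119), (13965, 9706), (13966, 9705), (13967, 16283), (13968, 14183), (13969, 17841), (13970, 9707), (13971, 13957), (13972, 13956), (13973, 17558), (13974, 12405), (13975, 9711), (13976, 13951), (13977, 13950), (13978, 16356), (13979, 9715), (13980, 16679), (13981, 9720), (13982, 13561), (13983, 9723), (13984, 16661), (13985, 9728), (13986, 13557), (13987, 14993), (13988, 9736), (13989, 14959), (13990, 14051), (13991, 16828), (13992, 13508), (13993, 9743), (13994, 14810), (13995, 17838), (13996, 17858), (13997, 17850), (13998, 17855), (13999, 14075), (14000, 10446), (14001, 13963), (14002, 9747), (14003, 9748), (14004, 17864), (14005, 14958), (14006, 14945),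 (14007, 9756), (14008, 14912), (14009, 14105), (14010, 16802), (14011, 13532), (14012, 9763), (14013, 14792), (14014, 17848), (14015, 17870)]
    ⟨e3 q13952 (flp_c L216051) q17559, e3 q13953 (flp_c L188725) q12364, e3 q13954 L188731 q9688, e3 q13955 L188739 q9689, e3 q13956 (flp_c L188859) q13972, e3 q13957 (flp_c L188849) q13971, e3 q13958 (flp_c L207197) q16496, e3 q13959 (flp_c L208626) q16659, e3 q13960 L188771 q12441, e3 q13961 (flp_c L188779) q9696, e3 q13962 (flp_c L206002) q16359, e3 q13963 (flp_c L189075) q14001, e3 q13964 L188807 q12119, e3 q13965 L188815 q9706, e3 q13966 L188821 q9705, e3 q13967 (flp_c L205374) q16283, e3 q13968 (flp_c L190497) q14183, e3 q13969 (flp_c L218300) q17841, e3 q13970 (flp_c L188835) q9707, e3 q13971 L188849 q13957, e3 q13972 L188859 q13956, e3 q13973 (flp_c L216043) q17558, e3 q13974 (flp_c L188875) q12405, e3 q13975 L188881 q9711, e3 q13976 L188891 q13951, e3 q13977 L188905 q13950, e3 q13978 (flp_c L205980) q16356, e3 q13979 (flp_c L188917) q9715, e3 q13980 (flp_c L208813)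 q16679, e3 q13981 L188935 q9720, e3 q13982 L188949 q13561, e3 q13983 (flp_c L188955) q9723, e3 q13984 (flp_c L208640) q16661, e3 q13985 L188973 q9728, e3 q13986 L188987 q13557, e3 q13987 (flp_c L196622) q14993, e3 q13988 (flp_c L189003) q9736, e3 q13989 (flp_c L196319) q14959, e3 q13990 L189451 q14051, e3 q13991 L210071 q16828, e3 q13992 L189033 q13508, e3 q13993 L189039 q9743, e3 q13994 L195019 q14810, e3 q13995 L218274 q17838, e3 q13996 L218456 q17858, e3 q13997 (flp_c L218390) q17850, e3 q13998 (flp_c L218434) q17855, e3 q13999 (flp_c L189635) q14075, e3 q14000 L189065 q10446, e3 q14001 L189075 q13963, e3 q14002 L189087 q9747, e3 q14003 L189093 q9748, e3 q14004 (flp_c L218506) q17864, e3 q14005 L196315 q14958, e3 q14006 (flp_c L196199) q14945, e3 q14007 (flp_c L189125) q9756, e3 q14008 (flp_c L195918) q14912, e3 q14009 L189883 q14105, e3 q14010 L209869 q16802, e3 q14011 L189155 q13532, e3 q14012 L189161 q9763, e3 q14013 (flp_c L194853) q14792, e3 q14014 (flp_c L218370) q17848, e3 q14015 L218560 q17870, trivial⟩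 (by decide +kernel)

theorem ce_c_219 : ∀ r, r < 64 → sm gc (Qf (14016 + r)) = Qf (tab Gen.c (14016 + r)) :=
  edges_tab (sm gc) Qf (tab Gen.c) 14016 [(14016, 17867), (14017, 17852), (14018, 14126), (14019, 10496), (14020, 13939), (14021, 9767), (14022, 9768), (14023, 17876), (14024, 14911), (14025, 14026), (14026, 14025), (14027, 17878), (14028, 9775), (14029, 13291), (14030, 13299), (14031, 9779), (14032, 15916), (14033, 10711), (14034, 9781), (14035, 17881), (14036, 16553), (14037, 17045), (14038, 9786), (14039, 17883), (14040, 9788), (14041, 16262), (14042, 9793), (14043, 9791), (14044, 9792), (14045, 14048), (14046, 14829), (14047, 14114), (14048, 14045), (14049, 9794), (14050, 17885), (14051, 13990), (14052, 9796), (14053, 9797), (14054, 17888), (14055, 9841), (14056, 12812), (14057, 9810), (14058, 16813), (14059, 16655), (14060, 9889), (14061, 14102), (14062, 10465), (14063, 10466), (14064, 9809), (14065, 17893), (14066, 14101), (14067, 14797), (14068, 14796), (14069, 9813), (14070, 14548), (14071, 9885),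 (14072, 17500), (14073, 9886), (14074, 9888), (14075, 13999), (14076, 17900), (14077, 14538), (14078, 17557), (14079, 9821)]
    ⟨e3 q14016 (flp_c L218538) q17867, e3 q14017 (flp_c L218406) q17852, e3 q14018 (flp_c L190061) q14126, e3 q14019 L189187 q10496, e3 q14020 L189197 q13939, e3 q14021 L189209 q9767, e3 q14022 L189215 q9768, e3 q14023 (flp_c L218610) q17876, e3 q14024 L195914 q14911, e3 q14025 (flp_c L189251) q14026, e3 q14026 L189251 q14025, e3 q14027 L218628 q17878, e3 q14028 (flp_c L189267) q9775, e3 q14029 L189283 q13291, e3 q14030 L189295 q13299, e3 q14031 (flp_c L189303) q9779, e3 q14032 L202766 q15916, e3 q14033 L189317 q10711, e3 q14034 (flp_c L189323) q9781, e3 q14035 (flp_c L218660) q17881, e3 q14036 (flp_c L207670) q16553, e3 q14037 (flp_c L211775) q17045, e3 q14038 (flp_c L189349) q9786, e3 q14039 (flp_c L218680) q17883, e3 q14040 L189365 q9788, e3 q14041 L205169 q16262, e3 q14042 L189383 q9793, e3 q14043 L189389 q9791, e3 q14044 L189397 q9792, e3 q14045 L189419 q14048, e3 q14046 (flp_c L195187)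 q14829, e3 q14047 (flp_c L189957) q14114, e3 q14048 (flp_c L189419) q14045, e3 q14049 (flp_c L189425) q9794, e3 q14050 (flp_c L218704) q17885, e3 q14051 (flp_c L189451) q13990, e3 q14052 L189459 q9796, e3 q14053 L189467 q9797, e3 q14054 (flp_c L218732) q17888, e3 q14055 L189485 q9841, e3 q14056 (flp_c L189495) q12812, e3 q14057 L189501 q9810, e3 q14058 L209949 q16813, e3 q14059 (flp_c L208586) q16655, e3 q14060 L189521 q9889, e3 q14061 (flp_c L189851) q14102, e3 q14062 L189533 q10465, e3 q14063 L189539 q10466, e3 q14064 (flp_c L189543) q9809, e3 q14065 (flp_c L218788) q17893, e3 q14066 (flp_c L189837) q14101, e3 q14067 (flp_c L194897) q14797, e3 q14068 (flp_c L194889) q14796, e3 q14069 L189583 q9813, e3 q14070 (flp_c L192997) q14548, e3 q14071 L189595 q9885, e3 q14072 L215516 q17500, e3 q14073 L189617 q9886, e3 q14074 L189625 q9888, e3 q14075 L189635 q13999, e3 q14076 L218852 q17900, e3 q14077 L192935 q14538, e3 q14078 L216037 q17557, e3 q14079 (flp_c L189650) q9821, trivial⟩ (by decide +kernel)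

theorem ce_c_220 : ∀ r, r < 64 → sm gc (Qf (14080 + r)) = Qf (tab Gen.c (14080 + r)) :=
  edges_tab (sm gc) Qf (tab Gen.c) 14080 [(14080, 17901), (14081, 9824), (14082, 14083), (14083, 14082), (14084, 17902), (14085, 9829), (14086, 13351), (14087, 13359), (14088, 9832), (14089, 15686), (14090, 10793), (14091, 9834), (14092, 17905), (14093, 16588), (14094, 17135), (14095, 9839), (14096, 17889), (14097, 16233), (14098, 9846), (14099, 9844), (14100, 9845), (14101, 14066), (14102, 14061), (14103, 9847), (14104, 17908), (14105, 14009), (14106, 9849), (14107, 9850), (14108, 17911), (14109, 12816), (14110, 9864), (14111, 16787), (14112, 16673), (14113, 9878), (14114, 14047), (14115, 10515), (14116, 10516), (14117, 9862), (14118, 17915), (14119, 14828), (14120, 9866), (14121, 14598), (14122, 9892), (14123, 17505), (14124, 9893), (14125, 9894), (14126, 14018), (14127, 17922), (14128, 14589), (14129, 17556), (14130, 9874), (14131, 17923), (14132, 9877), (14133, 16455), (14134, 16434), (14135, 12138), (14136, 16306), (14137,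 17926), (14138, 17895), (14139, 10459), (14140, 12221), (14141, 10203), (14142, 17898), (14143, 12219)]
    ⟨e3 q14080 (flp_c L218856) q17901, e3 q14081 L189663 q9824, e3 q14082 (flp_c L189683) q14083, e3 q14083 L189683 q14082, e3 q14084 L218860 q17902, e3 q14085 (flp_c L189699) q9829, e3 q14086 L189715 q13351, e3 q14087 L189727 q13359, e3 q14088 (flp_c L189735) q9832, e3 q14089 L201119 q15686, e3 q14090 L189749 q10793, e3 q14091 (flp_c L189755) q9834, e3 q14092 (flp_c L218892) q17905, e3 q14093 (flp_c L207955) q16588, e3 q14094 (flp_c L212431) q17135, e3 q14095 (flp_c L189783) q9839, e3 q14096 (flp_c L218742) q17889, e3 q14097 L204922 q16233, e3 q14098 L189815 q9846, e3 q14099 L189823 q9844, e3 q14100 L189829 q9845, e3 q14101 L189837 q14066, e3 q14102 L189851 q14061, e3 q14103 (flp_c L189857) q9847, e3 q14104 (flp_c L218926) q17908, e3 q14105 (flp_c L189883) q14009, e3 q14106 L189891 q9849, e3 q14107 L189899 q9850, e3 q14108 (flp_c L218954) q17911, e3 q14109 (flp_c L189919) q12816, e3 q14110 L189925 q9864, e3 q14111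 L209747 q16787, e3 q14112 (flp_c L208759) q16673, e3 q14113 L189945 q9878, e3 q14114 L189957 q14047, e3 q14115 L189963 q10515, e3 q14116 L189973 q10516, e3 q14117 (flp_c L189979) q9862, e3 q14118 (flp_c L219000) q17915, e3 q14119 (flp_c L195175) q14828, e3 q14120 L190009 q9866, e3 q14121 (flp_c L193303) q14598, e3 q14122 L190021 q9892, e3 q14123 L215566 q17505, e3 q14124 L190043 q9893, e3 q14125 L190051 q9894, e3 q14126 L190061 q14018, e3 q14127 L219064 q17922, e3 q14128 L193249 q14589, e3 q14129 L216028 q17556, e3 q14130 (flp_c L190076) q9874, e3 q14131 (flp_c L219068) q17923, e3 q14132 L190091 q9877, e3 q14133 (flp_c L206855) q16455, e3 q14134 (flp_c L206641) q16434, e3 q14135 L190109 q12138, e3 q14136 (flp_c L205580) q16306, e3 q14137 L219096 q17926, e3 q14138 (flp_c L218810) q17895, e3 q14139 L190133 q10459, e3 q14140 L190141 q12221, e3 q14141 L190151 q10203, e3 q14142 (flp_c L218838) q17898, e3 q14143 L190170 q12219, trivial⟩ (by decide +kernel)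

theorem ce_c_221 : ∀ r, r < 64 → sm gc (Qf (14144 + r)) = Qf (tab Gen.c (14144 + r)) :=
  edges_tab (sm gc) Qf (tab Gen.c) 14144 [(14144, 16279), (14145, 11933), (14146, 17929), (14147, 17917), (14148, 12280), (14149, 10512), (14150, 17920), (14151, 10241), (14152, 12278), (14153, 9897), (14154, 16779), (14155, 16889), (14156, 9903), (14157, 11943), (14158, 12663), (14159, 14974), (14160, 9905), (14161, 17924), (14162, 14184), (14163, 13947), (14164, 9906), (14165, 17936), (14166, 10461), (14167, 13461), (14168, 9909), (14169, 9911), (14170, 10206), (14171, 17939), (14172, 10462), (14173, 16651), (14174, 9914), (14175, 16805), (14176, 16900), (14177, 9919), (14178, 12146), (14179, 12692), (14180, 14926), (14181, 9922), (14182, 17925), (14183, 13968), (14184, 14162), (14185, 9923), (14186, 17946), (14187, 10510), (14188, 13409), (14189, 9926), (14190, 9927), (14191, 17949), (14192, 10240), (14193, 10511), (14194, 16669), (14195, 10848), (14196, 9931), (14197, 10851), (14198, 9933), (14199, 9960), (14200, 9935),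 (14201, 17959), (14202, 9936), (14203, 9966), (14204, 9938), (14205, 17964), (14206, 9939), (14207, 17259)]
    ⟨e3 q14144 (flp_c L205320) q16279, e3 q14145 L190186 q11933, e3 q14146 L219126 q17929, e3 q14147 (flp_c L219022) q17917, e3 q14148 L190206 q12280, e3 q14149 L190218 q10512, e3 q14150 (flp_c L219050) q17920, e3 q14151 L190230 q10241, e3 q14152 L190243 q12278, e3 q14153 L190255 q9897, e3 q14154 (flp_c L209693) q16779, e3 q14155 (flp_c L210593) q16889, e3 q14156 L190275 q9903, e3 q14157 L190283 q11943, e3 q14158 L190291 q12663, e3 q14159 L196480 q14974, e3 q14160 (flp_c L190301) q9905, e3 q14161 (flp_c L219076) q17924, e3 q14162 (flp_c L190513) q14184, e3 q14163 L190321 q13947, e3 q14164 (flp_c L190323) q9906, e3 q14165 (flp_c L219194) q17936, e3 q14166 L190343 q10461, e3 q14167 (flp_c L190359) q13461, e3 q14168 L190367 q9909, e3 q14169 L190373 q9911, e3 q14170 L190381 q10206, e3 q14171 (flp_c L219226) q17939, e3 q14172 L190398 q10462, e3 q14173 (flp_c L208549) q16651, e3 q14174 L190421 q9914, e3 q14175 (flp_c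 L209895) q16805, e3 q14176 (flp_c L210689) q16900, e3 q14177 L190441 q9919, e3 q14178 L190449 q12146, e3 q14179 L190457 q12692, e3 q14180 L196067 q14926, e3 q14181 (flp_c L190467) q9922, e3 q14182 (flp_c L219088) q17925, e3 q14183 L190497 q13968, e3 q14184 L190513 q14162, e3 q14185 (flp_c L190519) q9923, e3 q14186 (flp_c L219298) q17946, e3 q14187 L190539 q10510, e3 q14188 (flp_c L190555) q13409, e3 q14189 L190563 q9926, e3 q14190 L190569 q9927, e3 q14191 (flp_c L219330) q17949, e3 q14192 L190583 q10240, e3 q14193 L190594 q10511, e3 q14194 (flp_c L208722) q16669, e3 q14195 L190615 q10848, e3 q14196 L190621 q9931, e3 q14197 L190629 q10851, e3 q14198 L190635 q9933, e3 q14199 L190643 q9960, e3 q14200 L190647 q9935, e3 q14201 L219420 q17959, e3 q14202 (flp_c L190663) q9936, e3 q14203 L190673 q9966, e3 q14204 L190677 q9938, e3 q14205 L219452 q17964, e3 q14206 (flp_c L190693) q9939, e3 q14207 (flp_c L213283) q17259, trivial⟩ (by decide +kernel)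

theorem ce_c_222 : ∀ r, r < 64 → sm gc (Qf (14208 + r)) = Qf (tab Gen.c (14208 + r)) :=
  edges_tab (sm gc) Qf (tab Gen.c) 14208 [(14208, 17334), (14209, 9947), (14210, 17968), (14211, 9949), (14212, 17971), (14213, 9951), (14214, 17973), (14215, 17974), (14216, 9953), (14217, 9954), (14218, 17979), (14219, 17980), (14220, 9956), (14221, 14234), (14222, 9959), (14223, 17956), (14224, 17957), (14225, 14283), (14226, 9962), (14227, 14236), (14228, 9965), (14229, 17961), (14230, 17962), (14231, 14263), (14232, 9968), (14233, 17560), (14234, 14221), (14235, 17561), (14236, 14227), (14237, 9974), (14238, 18009), (14239, 9975), (14240, 18012), (14241, 9978), (14242, 18015), (14243, 9979), (14244, 18018), (14245, 18020), (14246, 9982), (14247, 9983), (14248, 18023), (14249, 18025), (14250, 9987), (14251, 9988), (14252, 18026), (14253, 9989), (14254, 18029), (14255, 9991), (14256, 9992), (14257, 18033), (14258, 14335), (14259, 9994), (14260, 9995), (14261, 15737), (14262, 18042), (14263, 14231), (14264, 9997), (14265,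 18049), (14266, 9999), (14267, 10000), (14268, 18053), (14269, 18054), (14270, 10004), (14271, 10005)]
    ⟨e3 q14208 (flp_c L213784) q17334, e3 q14209 (flp_c L190703) q9947, e3 q14210 L219482 q17968, e3 q14211 (flp_c L190717) q9949, e3 q14212 L219503 q17971, e3 q14213 (flp_c L190731) q9951, e3 q14214 (flp_c L219520) q17973, e3 q14215 L219526 q17974, e3 q14216 L190752 q9953, e3 q14217 (flp_c L190758) q9954, e3 q14218 (flp_c L219560) q17979, e3 q14219 L219566 q17980, e3 q14220 L190779 q9956, e3 q14221 L190865 q14234, e3 q14222 L190793 q9959, e3 q14223 (flp_c L219404) q17956, e3 q14224 (flp_c L219412) q17957, e3 q14225 (flp_c L191215) q14283, e3 q14226 L190815 q9962, e3 q14227 L190875 q14236, e3 q14228 L190829 q9965, e3 q14229 (flp_c L219436) q17961, e3 q14230 (flp_c L219444) q17962, e3 q14231 (flp_c L191071) q14263, e3 q14232 L190851 q9968, e3 q14233 (flp_c L216057) q17560, e3 q14234 (flp_c L190865) q14221, e3 q14235 (flp_c L216063) q17561, e3 q14236 (flp_c L190875) q14227, e3 q14237 (flp_c L190877) q9974, e3 q14238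 L219769 q18009, e3 q14239 (flp_c L190896) q9975, e3 q14240 L219785 q18012, e3 q14241 (flp_c L190908) q9978, e3 q14242 L219804 q18015, e3 q14243 (flp_c L190927) q9979, e3 q14244 L219820 q18018, e3 q14245 L219828 q18020, e3 q14246 L190945 q9982, e3 q14247 L190951 q9983, e3 q14248 (flp_c L219848) q18023, e3 q14249 (flp_c L219862) q18025, e3 q14250 L190983 q9987, e3 q14251 L190993 q9988, e3 q14252 L219868 q18026, e3 q14253 (flp_c L191013) q9989, e3 q14254 L219886 q18029, e3 q14255 L191029 q9991, e3 q14256 (flp_c L191033) q9992, e3 q14257 (flp_c L219918) q18033, e3 q14258 L191577 q14335, e3 q14259 L191051 q9994, e3 q14260 (flp_c L191057) q9995, e3 q14261 (flp_c L201466) q15737, e3 q14262 (flp_c L219984) q18042, e3 q14263 L191071 q14231, e3 q14264 L191077 q9997, e3 q14265 L220044 q18049, e3 q14266 L191089 q9999, e3 q14267 L191095 q10000, e3 q14268 (flp_c L220068) q18053, e3 q14269 (flp_c L220078) q18054, e3 q14270 L191127 q10004, e3 q14271 L191137 q10005, trivial⟩ (by decide +kernel)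

theorem ce_c_223 : ∀ r, r < 64 → sm gc (Qf (14272 + r)) = Qf (tab Gen.c (14272 + r)) :=
  edges_tab (sm gc) Qf (tab Gen.c) 14272 [(14272, 18055), (14273, 10006), (14274, 18058), (14275, 10008), (14276, 10009), (14277, 18062), (14278, 14390), (14279, 10011), (14280, 10012), (14281, 15962), (14282, 18071), (14283, 14225), (14284, 10014), (14285, 18078), (14286, 10928), (14287, 10025), (14288, 10017), (14289, 16873), (14290, 16893), (14291, 18083), (14292, 10020), (14293, 14487), (14294, 10021), (14295, 15037), (14296, 14301), (14297, 10023), (14298, 15035), (14299, 15088), (14300, 18090), (14301, 14296), (14302, 18089), (14303, 10027), (14304, 14653), (14305, 11293), (14306, 17566), (14307, 17567), (14308, 10096), (14309, 17016), (14310, 10032), (14311, 18103), (14312, 18106), (14313, 18108), (14314, 10033), (14315, 18110), (14316, 11473), (14317, 10034), (14318, 12466), (14319, 10036), (14320, 18113), (14321, 10037), (14322, 16140), (14323, 18116), (14324, 10039), (14325, 18118), (14326, 13638), (14327, 10042),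 (14328, 18121), (14329, 16282), (14330, 16280), (14331, 11880), (14332, 10043), (14333, 18126), (14334, 11092), (14335, 14258)]
    ⟨e3 q14272 L220084 q18055, e3 q14273 (flp_c L191157) q10006, e3 q14274 L220102 q18058, e3 q14275 L191173 q10008, e3 q14276 (flp_c L191177) q10009, e3 q14277 (flp_c L220134) q18062, e3 q14278 L191958 q14390, e3 q14279 L191195 q10011, e3 q14280 (flp_c L191201) q10012, e3 q14281 (flp_c L203103) q15962, e3 q14282 (flp_c L220200) q18071, e3 q14283 L191215 q14225, e3 q14284 L191221 q10014, e3 q14285 L220242 q18078, e3 q14286 (flp_c L191241) q10928, e3 q14287 L191245 q10025, e3 q14288 (flp_c L191251) q10017, e3 q14289 L210469 q16873, e3 q14290 (flp_c L210625) q16893, e3 q14291 (flp_c L220290) q18083, e3 q14292 L191271 q10020, e3 q14293 (flp_c L192591) q14487, e3 q14294 L191289 q10021, e3 q14295 (flp_c L196963) q15037, e3 q14296 (flp_c L191337) q14301, e3 q14297 (flp_c L191309) q10023, e3 q14298 (flp_c L196945) q15035, e3 q14299 (flp_c L197267) q15088, e3 q14300 (flp_c L220342) q18090, e3 q14301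 L191337 q14296, e3 q14302 (flp_c L220336) q18089, e3 q14303 L191353 q10027, e3 q14304 (flp_c L193657) q14653, e3 q14305 (flp_c L191367) q11293, e3 q14306 (flp_c L216099) q17566, e3 q14307 (flp_c L216107) q17567, e3 q14308 L191381 q10096, e3 q14309 (flp_c L211565) q17016, e3 q14310 L191393 q10032, e3 q14311 L220424 q18103, e3 q14312 L220438 q18106, e3 q14313 L220452 q18108, e3 q14314 (flp_c L191409) q10033, e3 q14315 (flp_c L220466) q18110, e3 q14316 (flp_c L191419) q11473, e3 q14317 (flp_c L191423) q10034, e3 q14318 L191437 q12466, e3 q14319 L191447 q10036, e3 q14320 (flp_c L220492) q18113, e3 q14321 (flp_c L191463) q10037, e3 q14322 (flp_c L204243) q16140, e3 q14323 L220520 q18116, e3 q14324 (flp_c L191487) q10039, e3 q14325 (flp_c L220544) q18118, e3 q14326 L191503 q13638, e3 q14327 L191513 q10042, e3 q14328 L220568 q18121, e3 q14329 (flp_c L205356) q16282, e3 q14330 (flp_c L205334) q16280, e3 q14331 L191535 q11880, e3 q14332 (flp_c L191543) q10043, e3 q14333 (flp_c L220620) q18126, e3 q14334 L191567 q11092, e3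 q14335 (flp_c L191577) q14258, trivial⟩ (by decide +kernel)

theorem ce_c_224 : ∀ r, r < 64 → sm gc (Qf (14336 + r)) = Qf (tab Gen.c (14336 + r)) :=
  edges_tab (sm gc) Qf (tab Gen.c) 14336 [(14336, 10047), (14337, 12114), (14338, 18129), (14339, 15682), (14340, 18132), (14341, 10938), (14342, 10058), (14343, 10051), (14344, 16880), (14345, 18137), (14346, 16904), (14347, 14536), (14348, 10054), (14349, 10055), (14350, 15049), (14351, 14356), (14352, 10057), (14353, 15047), (14354, 18144), (14355, 15098), (14356, 14351), (14357, 18143), (14358, 10061), (14359, 14684), (14360, 11452), (14361, 17594), (14362, 17595), (14363, 10115), (14364, 17107), (14365, 10066), (14366, 18157), (14367, 18160), (14368, 18162), (14369, 10067), (14370, 18164), (14371, 11313), (14372, 10068), (14373, 12421), (14374, 10070), (14375, 18167), (14376, 10071), (14377, 16061), (14378, 18170), (14379, 10073), (14380, 18172), (14381, 13629), (14382, 10076), (14383, 18174), (14384, 16437), (14385, 12089), (14386, 16435), (14387, 10077), (14388,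 18178), (14389, 11054), (14390, 14278), (14391, 10081), (14392, 11908), (14393, 18181), (14394, 15912), (14395, 10084), (14396, 18184), (14397, 10087), (14398, 10088), (14399, 13815)]
    ⟨e3 q14336 L191581 q10047, e3 q14337 L191591 q12114, e3 q14338 (flp_c L220654) q18129, e3 q14339 (flp_c L201088) q15682, e3 q14340 L220672 q18132, e3 q14341 (flp_c L191624) q10938, e3 q14342 L191628 q10058, e3 q14343 (flp_c L191634) q10051, e3 q14344 L210523 q16880, e3 q14345 (flp_c L220720) q18137, e3 q14346 (flp_c L210721) q16904, e3 q14347 (flp_c L192913) q14536, e3 q14348 L191660 q10054, e3 q14349 L191670 q10055, e3 q14350 (flp_c L197041) q15049, e3 q14351 (flp_c L191720) q14356, e3 q14352 (flp_c L191692) q10057, e3 q14353 (flp_c L197023) q15047, e3 q14354 (flp_c L220772) q18144, e3 q14355 (flp_c L197317) q15098, e3 q14356 L191720 q14351, e3 q14357 (flp_c L220766) q18143, e3 q14358 L191736 q10061, e3 q14359 (flp_c L193885) q14684, e3 q14360 (flp_c L191748) q11452, e3 q14361 (flp_c L216297) q17594, e3 q14362 (flp_c L216305)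 q17595, e3 q14363 L191762 q10115, e3 q14364 (flp_c L212233) q17107, e3 q14365 L191774 q10066, e3 q14366 L220854 q18157, e3 q14367 L220868 q18160, e3 q14368 L220882 q18162, e3 q14369 (flp_c L191790) q10067, e3 q14370 (flp_c L220896) q18164, e3 q14371 (flp_c L191800) q11313, e3 q14372 (flp_c L191804) q10068, e3 q14373 L191818 q12421, e3 q14374 L191828 q10070, e3 q14375 (flp_c L220922) q18167, e3 q14376 (flp_c L191844) q10071, e3 q14377 (flp_c L203717) q16061, e3 q14378 L220950 q18170, e3 q14379 (flp_c L191868) q10073, e3 q14380 (flp_c L220974) q18172, e3 q14381 L191884 q13629, e3 q14382 L191894 q10076, e3 q14383 L220990 q18174, e3 q14384 (flp_c L206677) q16437, e3 q14385 L191910 q12089, e3 q14386 (flp_c L206655) q16435, e3 q14387 (flp_c L191924) q10077, e3 q14388 (flp_c L221034) q18178, e3 q14389 L191948 q11054, e3 q14390 (flp_c L191958) q14278, e3 q14391 L191962 q10081, e3 q14392 L191972 q11908, e3 q14393 (flp_c L221068) q18181, e3 q14394 (flp_c L202735) q15912, e3 q14395 (flp_c L191991) q10084, e3 q14396 L221086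 q18184, e3 q14397 (flp_c L192007) q10087, e3 q14398 (flp_c L192013) q10088, e3 q14399 (flp_c L192021) q13815, trivial⟩ (by decide +kernel)

theorem ce_c_225 : ∀ r, r < 64 → sm gc (Qf (14400 + r)) = Qf (tab Gen.c (14400 + r)) :=
  edges_tab (sm gc) Qf (tab Gen.c) 14400 [(14400, 10090), (14401, 14401), (14402, 14402), (14403, 14403), (14404, 14404), (14405, 12962), (14406, 10094), (14407, 18196), (14408, 18198), (14409, 10095), (14410, 18201), (14411, 18204), (14412, 18205), (14413, 18206), (14414, 10098), (14415, 10101), (14416, 18208), (14417, 10102), (14418, 18209), (14419, 10106), (14420, 10107), (14421, 13864), (14422, 10109), (14423, 14423), (14424, 14424), (14425, 14425), (14426, 14426), (14427, 13039), (14428, 10113), (14429, 18221), (14430, 18223), (14431, 10114), (14432, 18226), (14433, 18229), (14434, 18230), (14435, 18231), (14436, 10117), (14437, 10120), (14438, 18233), (14439, 17710), (14440, 13797), (14441, 12957), (14442, 12971), (14443, 12972), (14444, 12973), (14445, 14746), (14446, 10128), (14447,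 18244), (14448, 17711), (14449, 18249), (14450, 10129), (14451, 18251), (14452, 13787), (14453, 13788), (14454, 10133), (14455, 17017), (14456, 10986), (14457, 18256), (14458, 10136), (14459, 18257), (14460, 18261), (14461, 10141), (14462, 18264), (14463, 10138)]
    ⟨e3 q14400 L192027 q10090, e3 q14401 L192037 q14401, e3 q14402 L192044 q14402, e3 q14403 L192051 q14403, e3 q14404 L192058 q14404, e3 q14405 L192063 q12962, e3 q14406 L192067 q10094, e3 q14407 L221161 q18196, e3 q14408 L221167 q18198, e3 q14409 (flp_c L192082) q10095, e3 q14410 (flp_c L221193) q18201, e3 q14411 L221217 q18204, e3 q14412 L221219 q18205, e3 q14413 L221229 q18206, e3 q14414 (flp_c L192115) q10098, e3 q14415 L192123 q10101, e3 q14416 (flp_c L221247) q18208, e3 q14417 (flp_c L192137) q10102, e3 q14418 L221255 q18209, e3 q14419 (flp_c L192153) q10106, e3 q14420 (flp_c L192159) q10107, e3 q14421 (flp_c L192167) q13864, e3 q14422 L192173 q10109, e3 q14423 L192183 q14423, e3 q14424 L192190 q14424, e3 q14425 L192195 q14425, e3 q14426 L192200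 q14426, e3 q14427 L192209 q13039, e3 q14428 L192213 q10113, e3 q14429 L221330 q18221, e3 q14430 L221336 q18223, e3 q14431 (flp_c L192228) q10114, e3 q14432 (flp_c L221362) q18226, e3 q14433 L221386 q18229, e3 q14434 L221388 q18230, e3 q14435 L221398 q18231, e3 q14436 (flp_c L192261) q10117, e3 q14437 L192269 q10120, e3 q14438 (flp_c L221416) q18233, e3 q14439 (flp_c L217202) q17710, e3 q14440 L192297 q13797, e3 q14441 L192303 q12957, e3 q14442 L192311 q12971, e3 q14443 L192315 q12972, e3 q14444 L192321 q12973, e3 q14445 L194426 q14746, e3 q14446 L192335 q10128, e3 q14447 L221498 q18244, e3 q14448 (flp_c L217210) q17711, e3 q14449 L221532 q18249, e3 q14450 (flp_c L192357) q10129, e3 q14451 (flp_c L221552) q18251, e3 q14452 L192369 q13787, e3 q14453 L192375 q13788, e3 q14454 (flp_c L192381) q10133, e3 q14455 (flp_c L211577) q17017, e3 q14456 L192405 q10986, e3 q14457 L221598 q18256, e3 q14458 (flp_c L192415) q10136, e3 q14459 (flp_c L221608) q18257, e3 q14460 L221638 q18261, e3 q14461 L192433 q10141, e3 q14462 L221650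 q18264, e3 q14463 (flp_c L192441) q10138, trivial⟩ (by decide +kernel)

theorem ce_c_226 : ∀ r, r < 64 → sm gc (Qf (14464 + r)) = Qf (tab Gen.c (14464 + r)) :=
  edges_tab (sm gc) Qf (tab Gen.c) 14464 [(14464, 18267), (14465, 18270), (14466, 10140), (14467, 14522), (14468, 18274), (14469, 10142), (14470, 18278), (14471, 10144), (14472, 18283), (14473, 14516), (14474, 10145), (14475, 18287), (14476, 16109), (14477, 17462), (14478, 15908), (14479, 10147), (14480, 18289), (14481, 11542), (14482, 10148), (14483, 18290), (14484, 10150), (14485, 18291), (14486, 10965), (14487, 14293), (14488, 17638), (14489, 13789), (14490, 13033), (14491, 13046), (14492, 13047), (14493, 13048), (14494, 14767), (14495, 10161), (14496, 18303), (14497, 17639), (14498, 18307), (14499, 10162), (14500, 18247), (14501, 13838), (14502, 13839), (14503, 10166), (14504, 17109), (14505, 11010), (14506, 18313), (14507, 10169), (14508, 18314), (14509, 18318), (14510, 10174), (14511, 18321), (14512, 10171), (14513, 18324), (14514, 18327), (14515, 10173),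 (14516, 14473), (14517, 18331), (14518, 10175), (14519, 18335), (14520, 10177), (14521, 18340), (14522, 14467), (14523, 10178), (14524, 18344), (14525, 16032), (14526, 17437), (14527, 15678)]
    ⟨e3 q14464 (flp_c L221666) q18267, e3 q14465 L221702 q18270, e3 q14466 (flp_c L192455) q10140, e3 q14467 (flp_c L192811) q14522, e3 q14468 L221726 q18274, e3 q14469 (flp_c L192471) q10142, e3 q14470 L221746 q18278, e3 q14471 L192483 q10144, e3 q14472 L221778 q18283, e3 q14473 (flp_c L192777) q14516, e3 q14474 (flp_c L192495) q10145, e3 q14475 (flp_c L221820) q18287, e3 q14476 L204037 q16109, e3 q14477 (flp_c L215141) q17462, e3 q14478 (flp_c L202687) q15908, e3 q14479 (flp_c L192521) q10147, e3 q14480 (flp_c L221834) q18289, e3 q14481 (flp_c L192541) q11542, e3 q14482 (flp_c L192543) q10148, e3 q14483 (flp_c L221846) q18290, e3 q14484 L192561 q10150, e3 q14485 (flp_c L221858) q18291, e3 q14486 L192581 q10965, e3 q14487 L192591 q14293, e3 q14488 (flp_c L216629) q17638, e3 q14489 L192607 q13789, e3 q14490 L192613 q13033,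 e3 q14491 L192621 q13046, e3 q14492 L192625 q13047, e3 q14493 L192631 q13048, e3 q14494 L194619 q14767, e3 q14495 L192645 q10161, e3 q14496 L221954 q18303, e3 q14497 (flp_c L216637) q17639, e3 q14498 L221978 q18307, e3 q14499 (flp_c L192667) q10162, e3 q14500 (flp_c L221518) q18247, e3 q14501 L192679 q13838, e3 q14502 L192685 q13839, e3 q14503 (flp_c L192691) q10166, e3 q14504 (flp_c L212255) q17109, e3 q14505 L192715 q11010, e3 q14506 L222034 q18313, e3 q14507 (flp_c L192725) q10169, e3 q14508 (flp_c L222044) q18314, e3 q14509 L222074 q18318, e3 q14510 L192743 q10174, e3 q14511 L222090 q18321, e3 q14512 (flp_c L192751) q10171, e3 q14513 (flp_c L222110) q18324, e3 q14514 L222132 q18327, e3 q14515 (flp_c L192765) q10173, e3 q14516 L192777 q14473, e3 q14517 L222160 q18331, e3 q14518 (flp_c L192785) q10175, e3 q14519 L222180 q18335, e3 q14520 L192797 q10177, e3 q14521 L222255 q18340, e3 q14522 L192811 q14467, e3 q14523 (flp_c L192813) q10178, e3 q14524 (flp_c L222303) q18344, e3 q14525 L203527 q16032, e3 q14526 (flp_c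 L214902) q17437, e3 q14527 (flp_c L201040) q15678, trivial⟩ (by decide +kernel)

theorem ce_c_227 : ∀ r, r < 64 → sm gc (Qf (14528 + r)) = Qf (tab Gen.c (14528 + r)) :=
  edges_tab (sm gc) Qf (tab Gen.c) 14528 [(14528, 10180), (14529, 18346), (14530, 11383), (14531, 10181), (14532, 18347), (14533, 10183), (14534, 18348), (14535, 10953), (14536, 14347), (14537, 12665), (14538, 14077), (14539, 12662), (14540, 10195), (14541, 10190), (14542, 10191), (14543, 10192), (14544, 18354), (14545, 18355), (14546, 18359), (14547, 11883), (14548, 14070), (14549, 18352), (14550, 18353), (14551, 10199), (14552, 10200), (14553, 10201), (14554, 15661), (14555, 10202), (14556, 18364), (14557, 18366), (14558, 18374), (14559, 18376), (14560, 17928), (14561, 17404), (14562, 17937), (14563, 17940), (14564, 17202), (14565, 17061), (14566, 18381), (14567, 18383), (14568, 10210), (14569, 18387), (14570, 10212), (14571, 18391), (14572, 10213), (14573, 18394), (14574, 18395), (14575, 18393), (14576, 10251), (14577, 10215), (14578, 10216),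 (14579, 18403), (14580, 18334), (14581, 11394), (14582, 10218), (14583, 18408), (14584, 13398), (14585, 18410), (14586, 10221), (14587, 18411), (14588, 12694), (14589, 14128), (14590, 12691), (14591, 10230)]
    ⟨e3 q14528 (flp_c L192843) q10180, e3 q14529 (flp_c L222319) q18346, e3 q14530 (flp_c L192863) q11383, e3 q14531 (flp_c L192865) q10181, e3 q14532 (flp_c L222331) q18347, e3 q14533 L192883 q10183, e3 q14534 (flp_c L222343) q18348, e3 q14535 L192903 q10953, e3 q14536 L192913 q14347, e3 q14537 L192921 q12665, e3 q14538 (flp_c L192935) q14077, e3 q14539 L192939 q12662, e3 q14540 (flp_c L192945) q10195, e3 q14541 L192951 q10190, e3 q14542 L192957 q10191, e3 q14543 L192963 q10192, e3 q14544 L222405 q18354, e3 q14545 (flp_c L222413) q18355, e3 q14546 L222435 q18359, e3 q14547 L192989 q11883, e3 q14548 L192997 q14070, e3 q14549 (flp_c L222383) q18352, e3 q14550 (flp_c L222393) q18353, e3 q14551 (flp_c L193015) q10199, e3 q14552 L193029 q10200, e3 q14553 L193035 q10201, e3 q14554 (flp_c L200918) q15661, e3 q14555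 L193045 q10202, e3 q14556 (flp_c L222477) q18364, e3 q14557 (flp_c L222493) q18366, e3 q14558 L222922 q18374, e3 q14559 L222936 q18376, e3 q14560 (flp_c L219118) q17928, e3 q14561 (flp_c L214569) q17404, e3 q14562 (flp_c L219202) q17937, e3 q14563 (flp_c L219236) q17940, e3 q14564 (flp_c L212935) q17202, e3 q14565 L211893 q17061, e3 q14566 L222978 q18381, e3 q14567 L223002 q18383, e3 q14568 (flp_c L193115) q10210, e3 q14569 L223024 q18387, e3 q14570 L193125 q10212, e3 q14571 (flp_c L223046) q18391, e3 q14572 (flp_c L193139) q10213, e3 q14573 (flp_c L223070) q18394, e3 q14574 (flp_c L223076) q18395, e3 q14575 (flp_c L223064) q18393, e3 q14576 L193159 q10251, e3 q14577 L193165 q10215, e3 q14578 (flp_c L193169) q10216, e3 q14579 (flp_c L223110) q18403, e3 q14580 (flp_c L222178) q18334, e3 q14581 L193183 q11394, e3 q14582 L193189 q10218, e3 q14583 L223145 q18408, e3 q14584 L193203 q13398, e3 q14585 L223155 q18410, e3 q14586 (flp_c L193217) q10221, e3 q14587 (flp_c L223167) q18411, e3 q14588 L193235 q12694, e3 q14589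 (flp_c L193249) q14128, e3 q14590 L193253 q12691, e3 q14591 (flp_c L193259) q10230, trivial⟩ (by decide +kernel)

theorem ce_c_228 : ∀ r, r < 64 → sm gc (Qf (14592 + r)) = Qf (tab Gen.c (14592 + r)) :=
  edges_tab (sm gc) Qf (tab Gen.c) 14592 [(14592, 10225), (14593, 10226), (14594, 10227), (14595, 18417), (14596, 18416), (14597, 18421), (14598, 14121), (14599, 12092), (14600, 18414), (14601, 18415), (14602, 10235), (14603, 10234), (14604, 15890), (14605, 10236), (14606, 10237), (14607, 18428), (14608, 18426), (14609, 18436), (14610, 18439), (14611, 17422), (14612, 17947), (14613, 17950), (14614, 17931), (14615, 17150), (14616, 17278), (14617, 18443), (14618, 18445), (14619, 10245), (14620, 18449), (14621, 10247), (14622, 18453), (14623, 10248), (14624, 18456), (14625, 18457), (14626, 18455), (14627, 10250), (14628, 18401), (14629, 18277), (14630, 11553), (14631, 10253), (14632, 18466), (14633, 13450), (14634, 18468), (14635, 10256), (14636, 18469), (14637, 13103), (14638, 12953), (14639, 10260), (14640, 10261),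 (14641, 10262), (14642, 18471), (14643, 18473), (14644, 18475), (14645, 11534), (14646, 15963), (14647, 12891), (14648, 15601), (14649, 15602), (14650, 18482), (14651, 10269), (14652, 10270), (14653, 14304), (14654, 10271), (14655, 11333)]
    ⟨e3 q14592 L193265 q10225, e3 q14593 L193271 q10226, e3 q14594 L193277 q10227, e3 q14595 (flp_c L223227) q18417, e3 q14596 L223219 q18416, e3 q14597 L223249 q18421, e3 q14598 L193303 q14121, e3 q14599 L193311 q12092, e3 q14600 (flp_c L223197) q18414, e3 q14601 (flp_c L223207) q18415, e3 q14602 (flp_c L193329) q10235, e3 q14603 L193343 q10234, e3 q14604 (flp_c L202563) q15890, e3 q14605 L193351 q10236, e3 q14606 L193361 q10237, e3 q14607 (flp_c L223307) q18428, e3 q14608 (flp_c L223291) q18426, e3 q14609 L223349 q18436, e3 q14610 L223367 q18439, e3 q14611 (flp_c L214741) q17422, e3 q14612 (flp_c L219306) q17947, e3 q14613 (flp_c L219340) q17950, e3 q14614 (flp_c L219148) q17931, e3 q14615 L212537 q17150, e3 q14616 (flp_c L213437) q17278, e3 q14617 L223405 q18443, e3 q14618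 L223429 q18445, e3 q14619 (flp_c L193431) q10245, e3 q14620 L223451 q18449, e3 q14621 L193441 q10247, e3 q14622 (flp_c L223481) q18453, e3 q14623 (flp_c L193455) q10248, e3 q14624 (flp_c L223507) q18456, e3 q14625 (flp_c L223513) q18457, e3 q14626 (flp_c L223501) q18455, e3 q14627 L193475 q10250, e3 q14628 (flp_c L223100) q18401, e3 q14629 (flp_c L221744) q18277, e3 q14630 L193487 q11553, e3 q14631 L193493 q10253, e3 q14632 L223555 q18466, e3 q14633 L193507 q13450, e3 q14634 L223565 q18468, e3 q14635 (flp_c L193521) q10256, e3 q14636 (flp_c L223577) q18469, e3 q14637 L193539 q13103, e3 q14638 L193551 q12953, e3 q14639 L193565 q10260, e3 q14640 L193573 q10261, e3 q14641 L193579 q10262, e3 q14642 (flp_c L223601) q18471, e3 q14643 L223609 q18473, e3 q14644 L223627 q18475, e3 q14645 L193605 q11534, e3 q14646 (flp_c L203109) q15963, e3 q14647 L193623 q12891, e3 q14648 (flp_c L200453) q15601, e3 q14649 (flp_c L200463) q15602, e3 q14650 L223693 q18482, e3 q14651 L193645 q10269, e3 q14652 L193651 q10270, e3 q14653 L193657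 q14304, e3 q14654 L193665 q10271, e3 q14655 L193671 q11333, trivial⟩ (by decide +kernel)

theorem ce_c_229 : ∀ r, r < 64 → sm gc (Qf (14656 + r)) = Qf (tab Gen.c (14656 + r)) :=
  edges_tab (sm gc) Qf (tab Gen.c) 14656 [(14656, 10272), (14657, 18484), (14658, 18486), (14659, 15491), (14660, 18495), (14661, 16718), (14662, 16719), (14663, 17578), (14664, 10274), (14665, 15773), (14666, 13161), (14667, 13029), (14668, 10278), (14669, 10279), (14670, 10280), (14671, 18499), (14672, 18502), (14673, 18504), (14674, 11374), (14675, 15738), (14676, 12906), (14677, 15839), (14678, 15840), (14679, 18510), (14680, 10287), (14681, 10288), (14682, 11492), (14683, 10289), (14684, 14359), (14685, 10290), (14686, 18513), (14687, 18514), (14688, 18521), (14689, 15387), (14690, 17606), (14691, 10291), (14692, 15998), (14693, 16724), (14694, 16725), (14695, 12515), (14696, 12567), (14697, 12518), (14698, 12568), (14699, 10298), (14700, 10300), (14701, 12606), (14702, 14757), (14703, 12595), (14704, 16391), (14705, 10883), (14706,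 15116), (14707, 10312), (14708, 10884), (14709, 12469), (14710, 12347), (14711, 10321), (14712, 14780), (14713, 13691), (14714, 17842), (14715, 11875), (14716, 11803), (14717, 11798), (14718, 16623), (14719, 16355)]
    ⟨e3 q14656 L193679 q10272, e3 q14657 (flp_c L223715) q18484, e3 q14658 (flp_c L223733) q18486, e3 q14659 (flp_c L202709) q15491, e3 q14660 L223843 q18495, e3 q14661 L209139 q16718, e3 q14662 (flp_c L209145) q16719, e3 q14663 (flp_c L216181) q17578, e3 q14664 (flp_c L193733) q10274, e3 q14665 (flp_c L201664) q15773, e3 q14666 L193751 q13161, e3 q14667 L193763 q13029, e3 q14668 L193777 q10278, e3 q14669 L193785 q10279, e3 q14670 L193791 q10280, e3 q14671 (flp_c L223883) q18499, e3 q14672 L223901 q18502, e3 q14673 L223915 q18504, e3 q14674 L193817 q11374, e3 q14675 (flp_c L201472) q15738, e3 q14676 L193835 q12906, e3 q14677 (flp_c L202130) q15839, e3 q14678 (flp_c L202138) q15840, e3 q14679 L223975 q18510, e3 q14680 L193861 q10287, e3 q14681 L193867 q10288, e3 q14682 L193873 q11492, e3 q14683 L193879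 q10289, e3 q14684 L193885 q14359, e3 q14685 L193895 q10290, e3 q14686 (flp_c L224005) q18513, e3 q14687 (flp_c L224015) q18514, e3 q14688 L224059 q18521, e3 q14689 (flp_c L201062) q15387, e3 q14690 (flp_c L216379) q17606, e3 q14691 (flp_c L193937) q10291, e3 q14692 (flp_c L203301) q15998, e3 q14693 L209197 q16724, e3 q14694 (flp_c L209203) q16725, e3 q14695 L193967 q12515, e3 q14696 L193975 q12567, e3 q14697 L193985 q12518, e3 q14698 L193993 q12568, e3 q14699 L194003 q10298, e3 q14700 L194015 q10300, e3 q14701 L194027 q12606, e3 q14702 (flp_c L194528) q14757, e3 q14703 L194043 q12595, e3 q14704 (flp_c L206284) q16391, e3 q14705 L194059 q10883, e3 q14706 (flp_c L197434) q15116, e3 q14707 L194075 q10312, e3 q14708 L194085 q10884, e3 q14709 L194091 q12469, e3 q14710 L194099 q12347, e3 q14711 L194111 q10321, e3 q14712 L194741 q14780, e3 q14713 L194129 q13691, e3 q14714 (flp_c L218308) q17842, e3 q14715 L194147 q11875, e3 q14716 L194159 q11803, e3 q14717 L194171 q11798, e3 q14718 (flp_c L208274) q16623, e3 q14719 (flp_c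 L205972) q16355, trivial⟩ (by decide +kernel)

theorem ce_c_230 : ∀ r, r < 64 → sm gc (Qf (14720 + r)) = Qf (tab Gen.c (14720 + r)) :=
  edges_tab (sm gc) Qf (tab Gen.c) 14720 [(14720, 12611), (14721, 14778), (14722, 12597), (14723, 16376), (14724, 10890), (14725, 15128), (14726, 10349), (14727, 10891), (14728, 12424), (14729, 12393), (14730, 10358), (14731, 14759), (14732, 13682), (14733, 17832), (14734, 11838), (14735, 11760), (14736, 11755), (14737, 16600), (14738, 16495), (14739, 10373), (14740, 18532), (14741, 10375), (14742, 10710), (14743, 10376), (14744, 10707), (14745, 10384), (14746, 14445), (14747, 10386), (14748, 12969), (14749, 12618), (14750, 12617), (14751, 12753), (14752, 10753), (14753, 10397), (14754, 10737), (14755, 10400), (14756, 10779), (14757, 14702), (14758, 10403), (14759, 14731), (14760, 10407), (14761, 18536), (14762, 10409), (14763, 10792), (14764, 10410), (14765, 10789), (14766, 10418), (14767, 14494), (14768, 10420), (14769, 13045), (14770, 12620), (14771, 12619), (14772, 12757), (14773,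 10669), (14774, 10431), (14775, 10650), (14776, 10434), (14777, 10695), (14778, 14721), (14779, 10437), (14780, 14712), (14781, 10445), (14782, 17862), (14783, 11982)]
    ⟨e3 q14720 L194189 q12611, e3 q14721 (flp_c L194721) q14778, e3 q14722 L194205 q12597, e3 q14723 (flp_c L206156) q16376, e3 q14724 L194221 q10890, e3 q14725 (flp_c L197534) q15128, e3 q14726 L194237 q10349, e3 q14727 L194247 q10891, e3 q14728 L194253 q12424, e3 q14729 L194261 q12393, e3 q14730 L194273 q10358, e3 q14731 L194548 q14759, e3 q14732 L194291 q13682, e3 q14733 (flp_c L218206) q17832, e3 q14734 L194319 q11838, e3 q14735 L194331 q11760, e3 q14736 L194343 q11755, e3 q14737 (flp_c L208077) q16600, e3 q14738 (flp_c L207189) q16495, e3 q14739 (flp_c L194357) q10373, e3 q14740 L224155 q18532, e3 q14741 (flp_c L194372) q10375, e3 q14742 L194380 q10710, e3 q14743 (flp_c L194386) q10376, e3 q14744 L194400 q10707, e3 q14745 (flp_c L194406) q10384, e3 q14746 (flp_c L194426) q14445, e3 q14747 L194432 q10386, e3 q14748 (flp_c L194442) q12969, e3 q14749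 L194448 q12618, e3 q14750 L194456 q12617, e3 q14751 L194466 q12753, e3 q14752 (flp_c L194480) q10753, e3 q14753 L194484 q10397, e3 q14754 (flp_c L194498) q10737, e3 q14755 L194506 q10400, e3 q14756 L194516 q10779, e3 q14757 L194528 q14702, e3 q14758 L194538 q10403, e3 q14759 (flp_c L194548) q14731, e3 q14760 (flp_c L194550) q10407, e3 q14761 L224201 q18536, e3 q14762 (flp_c L194565) q10409, e3 q14763 L194573 q10792, e3 q14764 (flp_c L194579) q10410, e3 q14765 L194593 q10789, e3 q14766 (flp_c L194599) q10418, e3 q14767 (flp_c L194619) q14494, e3 q14768 L194625 q10420, e3 q14769 L194635 q13045, e3 q14770 L194641 q12620, e3 q14771 L194649 q12619, e3 q14772 L194659 q12757, e3 q14773 (flp_c L194673) q10669, e3 q14774 L194677 q10431, e3 q14775 (flp_c L194691) q10650, e3 q14776 L194699 q10434, e3 q14777 L194709 q10695, e3 q14778 L194721 q14721, e3 q14779 L194731 q10437, e3 q14780 (flp_c L194741) q14712, e3 q14781 L194747 q10445, e3 q14782 (flp_c L218490) q17862, e3 q14783 L194767 q11982, trivial⟩ (by decide +kernel)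

theorem ce_c_231 : ∀ r, r < 64 → sm gc (Qf (14784 + r)) = Qf (tab Gen.c (14784 + r)) :=
  edges_tab (sm gc) Qf (tab Gen.c) 14784 [(14784, 10454), (14785, 15906), (14786, 13021), (14787, 13019), (14788, 18541), (14789, 10455), (14790, 13463), (14791, 10458), (14792, 14013), (14793, 18542), (14794, 10464), (14795, 13297), (14796, 14068), (14797, 14067), (14798, 10467), (14799, 12344), (14800, 10469), (14801, 10472), (14802, 17154), (14803, 18286), (14804, 17155), (14805, 10478), (14806, 17119), (14807, 17118), (14808, 10480), (14809, 17027), (14810, 13994), (14811, 10507), (14812, 10488), (14813, 17496), (14814, 10490), (14815, 10494), (14816, 17874), (14817, 12180), (14818, 10503), (14819, 13092), (14820, 13089), (14821, 18545), (14822, 15676), (14823, 13411), (14824, 10508), (14825, 18550), (14826, 10514), (14827, 13356), (14828, 14119), (14829, 14046), (14830, 10517), (14831, 12390), (14832, 10519), (14833, 10522), (14834, 17067), (14835, 18343), (14836, 17068), (14837, 10528), (14838, 17028), (14839, 10529),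 (14840, 10534), (14841, 17487), (14842, 10536), (14843, 13057), (14844, 14844), (14845, 10550), (14846, 12821), (14847, 18556)]
    ⟨e3 q14784 L194779 q10454, e3 q14785 L202675 q15906, e3 q14786 L194797 q13021, e3 q14787 L194809 q13019, e3 q14788 L224257 q18541, e3 q14789 (flp_c L194819) q10455, e3 q14790 L194833 q13463, e3 q14791 (flp_c L194837) q10458, e3 q14792 L194853 q14013, e3 q14793 L224269 q18542, e3 q14794 (flp_c L194865) q10464, e3 q14795 L194879 q13297, e3 q14796 L194889 q14068, e3 q14797 L194897 q14067, e3 q14798 (flp_c L194905) q10467, e3 q14799 L194919 q12344, e3 q14800 L194929 q10469, e3 q14801 (flp_c L194939) q10472, e3 q14802 (flp_c L212575) q17154, e3 q14803 (flp_c L221810) q18286, e3 q14804 (flp_c L212587) q17155, e3 q14805 (flp_c L194979) q10478, e3 q14806 (flp_c L212335) q17119, e3 q14807 (flp_c L212323) q17118, e3 q14808 (flp_c L194995) q10480, e3 q14809 (flp_c L211655) q17027, e3 q14810 (flp_c L195019) q13994, e3 q14811 L195025 q10507, e3 q14812 (flp_c L195033) q10488, e3 q14813 (flp_c L215477)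 q17496, e3 q14814 L195049 q10490, e3 q14815 L195057 q10494, e3 q14816 (flp_c L218594) q17874, e3 q14817 L195077 q12180, e3 q14818 L195089 q10503, e3 q14819 L195101 q13092, e3 q14820 L195113 q13089, e3 q14821 (flp_c L224297) q18545, e3 q14822 L201028 q15676, e3 q14823 L195131 q13411, e3 q14824 (flp_c L195139) q10508, e3 q14825 L224337 q18550, e3 q14826 (flp_c L195151) q10514, e3 q14827 L195165 q13356, e3 q14828 L195175 q14119, e3 q14829 L195187 q14046, e3 q14830 (flp_c L195191) q10517, e3 q14831 L195205 q12390, e3 q14832 L195215 q10519, e3 q14833 (flp_c L195225) q10522, e3 q14834 (flp_c L211931) q17067, e3 q14835 (flp_c L222291) q18343, e3 q14836 (flp_c L211943) q17068, e3 q14837 (flp_c L195265) q10528, e3 q14838 L211671 q17028, e3 q14839 (flp_c L195273) q10529, e3 q14840 (flp_c L195279) q10534, e3 q14841 (flp_c L215389) q17487, e3 q14842 L195295 q10536, e3 q14843 L195303 q13057, e3 q14844 L195321 q14844, e3 q14845 L195326 q10550, e3 q14846 L195338 q12821, e3 q14847 L224383 q18556, trivial⟩ (by decide +kernel)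

theorem ce_c_232 : ∀ r, r < 64 → sm gc (Qf (14848 + r)) = Qf (tab Gen.c (14848 + r)) :=
  edges_tab (sm gc) Qf (tab Gen.c) 14848 [(14848, 12822), (14849, 10556), (14850, 10558), (14851, 10560), (14852, 10693), (14853, 16585), (14854, 10564), (14855, 18560), (14856, 17426), (14857, 14889), (14858, 13329), (14859, 10567), (14860, 18562), (14861, 10571), (14862, 15902), (14863, 10578), (14864, 18563), (14865, 13382), (14866, 10590), (14867, 12787), (14868, 10581), (14869, 10582), (14870, 18567), (14871, 16609), (14872, 10586), (14873, 18569), (14874, 13420), (14875, 18564), (14876, 13472), (14877, 12982), (14878, 14878), (14879, 10604), (14880, 18570), (14881, 10609), (14882, 10611), (14883, 10613), (14884, 10777), (14885, 16550), (14886, 10616), (14887, 18574), (14888, 17410), (14889, 14857), (14890, 10618), (14891, 18576), (14892, 10622), (14893, 15672), (14894, 10628), (14895, 18577), (14896, 12762), (14897, 10630), (14898, 10631), (14899, 18580), (14900, 16613), (14901, 11854), (14902, 14984), (14903, 10691),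 (14904, 14919), (14905, 10647), (14906, 13549), (14907, 16646), (14908, 10656), (14909, 12414), (14910, 10662), (14911, 14024)]
    ⟨e3 q14848 L195366 q12822, e3 q14849 (flp_c L195372) q10556, e3 q14850 (flp_c L195382) q10558, e3 q14851 L195396 q10560, e3 q14852 L195408 q10693, e3 q14853 L207943 q16585, e3 q14854 (flp_c L195418) q10564, e3 q14855 (flp_c L224429) q18560, e3 q14856 (flp_c L214789) q17426, e3 q14857 (flp_c L195731) q14889, e3 q14858 L195458 q13329, e3 q14859 (flp_c L195460) q10567, e3 q14860 L224437 q18562, e3 q14861 (flp_c L195472) q10571, e3 q14862 (flp_c L202627) q15902, e3 q14863 (flp_c L195484) q10578, e3 q14864 (flp_c L224447) q18563, e3 q14865 L195504 q13382, e3 q14866 L195514 q10590, e3 q14867 (flp_c L195530) q12787, e3 q14868 L195536 q10581, e3 q14869 L195542 q10582, e3 q14870 (flp_c L224479) q18567, e3 q14871 (flp_c L208153) q16609, e3 q14872 (flp_c L195562) q10586, e3 q14873 (flp_c L224501) q18569, e3 q14874 L195582 q13420, e3 q14875 (flp_c L224457) q18564, e3 q14876 L195600 q13472, e3 q14877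 L195612 q12982, e3 q14878 L195632 q14878, e3 q14879 L195637 q10604, e3 q14880 L224505 q18570, e3 q14881 (flp_c L195657) q10609, e3 q14882 (flp_c L195667) q10611, e3 q14883 L195681 q10613, e3 q14884 L195693 q10777, e3 q14885 L207658 q16550, e3 q14886 (flp_c L195703) q10616, e3 q14887 (flp_c L224551) q18574, e3 q14888 (flp_c L214627) q17410, e3 q14889 L195731 q14857, e3 q14890 (flp_c L195739) q10618, e3 q14891 L224559 q18576, e3 q14892 (flp_c L195751) q10622, e3 q14893 (flp_c L200980) q15672, e3 q14894 (flp_c L195763) q10628, e3 q14895 (flp_c L224569) q18577, e3 q14896 (flp_c L195787) q12762, e3 q14897 L195793 q10630, e3 q14898 L195799 q10631, e3 q14899 (flp_c L224591) q18580, e3 q14900 (flp_c L208187) q16613, e3 q14901 L195821 q11854, e3 q14902 (flp_c L196556) q14984, e3 q14903 L195840 q10691, e3 q14904 (flp_c L195986) q14919, e3 q14905 L195856 q10647, e3 q14906 L195868 q13549, e3 q14907 (flp_c L208499) q16646, e3 q14908 (flp_c L195884) q10656, e3 q14909 L195892 q12414, e3 q14910 L195902 q10662, e3 q14911 (flp_c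 L195914) q14024, trivial⟩ (by decide +kernel)

theorem ce_c_233 : ∀ r, r < 64 → sm gc (Qf (14912 + r)) = Qf (tab Gen.c (14912 + r)) :=
  edges_tab (sm gc) Qf (tab Gen.c) 14912 [(14912, 14008), (14913, 13520), (14914, 16637), (14915, 10666), (14916, 18557), (14917, 10671), (14918, 14985), (14919, 14904), (14920, 18585), (14921, 13588), (14922, 10677), (14923, 13545), (14924, 17143), (14925, 16648), (14926, 14180), (14927, 13566), (14928, 17548), (14929, 13533), (14930, 10706), (14931, 17456), (14932, 17833), (14933, 14980), (14934, 18533), (14935, 13419), (14936, 14966), (14937, 14950), (14938, 17879), (14939, 16076), (14940, 12566), (14941, 18166), (14942, 12564), (14943, 16562), (14944, 10718), (14945, 14006), (14946, 12351), (14947, 16849), (14948, 14996), (14949, 12066), (14950, 14937), (14951, 10775), (14952, 14967), (14953, 10732), (14954, 13580), (14955, 16664), (14956, 10740), (14957, 10744), (14958, 14005), (14959, 13989), (14960, 13544), (14961, 16642), (14962, 10748), (14963, 18571), (14964, 12428), (14965,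 10755), (14966, 14936), (14967, 14952), (14968, 18596), (14969, 13563), (14970, 10761), (14971, 13576), (14972, 17054), (14973, 16666), (14974, 14159), (14975, 13589)]
    ⟨e3 q14912 L195918 q14008, e3 q14913 L195928 q13520, e3 q14914 (flp_c L208387) q16637, e3 q14915 (flp_c L195948) q10666, e3 q14916 (flp_c L224401) q18557, e3 q14917 L195968 q10671, e3 q14918 (flp_c L196561) q14985, e3 q14919 L195986 q14904, e3 q14920 (flp_c L224641) q18585, e3 q14921 (flp_c L196013) q13588, e3 q14922 (flp_c L196015) q10677, e3 q14923 L196033 q13545, e3 q14924 (flp_c L212483) q17143, e3 q14925 (flp_c L208525) q16648, e3 q14926 (flp_c L196067) q14180, e3 q14927 L196073 q13566, e3 q14928 (flp_c L215948) q17548, e3 q14929 (flp_c L196097) q13533, e3 q14930 (flp_c L196099) q10706, e3 q14931 L215086 q17456, e3 q14932 (flp_c L218218) q17833, e3 q14933 (flp_c L196530) q14980, e3 q14934 (flp_c L224171) q18533, e3 q14935 L196127 q13419, e3 q14936 (flp_c L196391) q14966, e3 q14937 (flp_c L196240) q14950, e3 q14938 (flp_c L218642) q17879,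 e3 q14939 (flp_c L203825) q16076, e3 q14940 L196157 q12566, e3 q14941 (flp_c L220910) q18166, e3 q14942 L196173 q12564, e3 q14943 (flp_c L207744) q16562, e3 q14944 (flp_c L196187) q10718, e3 q14945 L196199 q14006, e3 q14946 L196207 q12351, e3 q14947 (flp_c L210225) q16849, e3 q14948 (flp_c L196645) q14996, e3 q14949 L196228 q12066, e3 q14950 L196240 q14937, e3 q14951 L196249 q10775, e3 q14952 (flp_c L196399) q14967, e3 q14953 L196265 q10732, e3 q14954 L196277 q13580, e3 q14955 (flp_c L208672) q16664, e3 q14956 (flp_c L196295) q10740, e3 q14957 L196303 q10744, e3 q14958 (flp_c L196315) q14005, e3 q14959 L196319 q13989, e3 q14960 L196329 q13544, e3 q14961 (flp_c L208449) q16642, e3 q14962 (flp_c L196347) q10748, e3 q14963 (flp_c L224523) q18571, e3 q14964 L196367 q12428, e3 q14965 L196379 q10755, e3 q14966 L196391 q14936, e3 q14967 L196399 q14952, e3 q14968 (flp_c L224745) q18596, e3 q14969 (flp_c L196424) q13563, e3 q14970 (flp_c L196428) q10761, e3 q14971 L196446 q13576, e3 q14972 (flp_c L211839) q17054, e3 q14973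 (flp_c L208698) q16666, e3 q14974 (flp_c L196480) q14159, e3 q14975 L196486 q13589, trivial⟩ (by decide +kernel)

theorem ce_c_234 : ∀ r, r < 64 → sm gc (Qf (14976 + r)) = Qf (tab Gen.c (14976 + r)) :=
  edges_tab (sm gc) Qf (tab Gen.c) 14976 [(14976, 17553), (14977, 13509), (14978, 10788), (14979, 17433), (14980, 14933), (14981, 17843), (14982, 18537), (14983, 13471), (14984, 14902), (14985, 14918), (14986, 17903), (14987, 16000), (14988, 12560), (14989, 18112), (14990, 12558), (14991, 16597), (14992, 10799), (14993, 13987), (14994, 12397), (14995, 16851), (14996, 14948), (14997, 18602), (14998, 11852), (14999, 16441), (15000, 18603), (15001, 10809), (15002, 11730), (15003, 16286), (15004, 10814), (15005, 18605), (15006, 10817), (15007, 10819), (15008, 10820), (15009, 17844), (15010, 10822), (15011, 18608), (15012, 12067), (15013, 16287), (15014, 10830), (15015, 11772), (15016, 16440), (15017, 10835), (15018, 10838), (15019, 10840), (15020, 10841), (15021, 17834), (15022, 10843), (15023, 15531), (15024, 17952),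 (15025, 17953), (15026, 11640), (15027, 15775), (15028, 17954), (15029, 17955), (15030, 11589), (15031, 18100), (15032, 18154), (15033, 10867), (15034, 18001), (15035, 14298), (15036, 10869), (15037, 14295), (15038, 18620), (15039, 18624)]
    ⟨e3 q14976 (flp_c L215993) q17553, e3 q14977 (flp_c L196512) q13509, e3 q14978 (flp_c L196514) q10788, e3 q14979 L214866 q17433, e3 q14980 L196530 q14933, e3 q14981 (flp_c L218320) q17843, e3 q14982 (flp_c L224217) q18537, e3 q14983 L196548 q13471, e3 q14984 L196556 q14902, e3 q14985 L196561 q14918, e3 q14986 (flp_c L218874) q17903, e3 q14987 (flp_c L203325) q16000, e3 q14988 L196576 q12560, e3 q14989 (flp_c L220480) q18112, e3 q14990 L196592 q12558, e3 q14991 (flp_c L208033) q16597, e3 q14992 (flp_c L196608) q10799, e3 q14993 L196622 q13987, e3 q14994 L196632 q12397, e3 q14995 (flp_c L210246) q16851, e3 q14996 L196645 q14948, e3 q14997 L224785 q18602, e3 q14998 L196663 q11852, e3 q14999 (flp_c L206720) q16441, e3 q15000 L224797 q18603, e3 q15001 (flp_c L196683) q10809, e3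 q15002 L196693 q11730, e3 q15003 (flp_c L205386) q16286, e3 q15004 (flp_c L196708) q10814, e3 q15005 (flp_c L224827) q18605, e3 q15006 (flp_c L196727) q10817, e3 q15007 (flp_c L196735) q10819, e3 q15008 (flp_c L196741) q10820, e3 q15009 L218338 q17844, e3 q15010 L196757 q10822, e3 q15011 L224847 q18608, e3 q15012 L196775 q12067, e3 q15013 (flp_c L205401) q16287, e3 q15014 (flp_c L196791) q10830, e3 q15015 L196801 q11772, e3 q15016 (flp_c L206705) q16440, e3 q15017 (flp_c L196818) q10835, e3 q15018 (flp_c L196829) q10838, e3 q15019 (flp_c L196837) q10840, e3 q15020 (flp_c L196843) q10841, e3 q15021 L218236 q17834, e3 q15022 L196859 q10843, e3 q15023 L199993 q15531, e3 q15024 (flp_c L219366) q17952, e3 q15025 (flp_c L219376) q17953, e3 q15026 L196887 q11640, e3 q15027 L201692 q15775, e3 q15028 (flp_c L219386) q17954, e3 q15029 (flp_c L219396) q17955, e3 q15030 L196913 q11589, e3 q15031 (flp_c L220414) q18100, e3 q15032 (flp_c L220844) q18154, e3 q15033 (flp_c L196927) q10867, e3 q15034 (flp_c L219716) q18001, e3 q15035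 L196945 q14298, e3 q15036 (flp_c L196949) q10869, e3 q15037 L196963 q14295, e3 q15038 (flp_c L224961) q18620, e3 q15039 L224983 q18624, trivial⟩ (by decide +kernel)

theorem ce_c_235 : ∀ r, r < 64 → sm gc (Qf (15040 + r)) = Qf (tab Gen.c (15040 + r)) :=
  edges_tab (sm gc) Qf (tab Gen.c) 15040 [(15040, 10871), (15041, 10872), (15042, 15107), (15043, 10874), (15044, 18630), (15045, 10875), (15046, 18006), (15047, 14353), (15048, 10877), (15049, 14350), (15050, 18635), (15051, 18639), (15052, 10879), (15053, 10880), (15054, 15097), (15055, 10882), (15056, 18645), (15057, 18065), (15058, 18646), (15059, 10887), (15060, 18649), (15061, 18650), (15062, 18036), (15063, 18652), (15064, 10894), (15065, 18655), (15066, 18656), (15067, 10897), (15068, 18659), (15069, 18661), (15070, 10916), (15071, 18662), (15072, 10905), (15073, 10920), (15074, 18664), (15075, 10907), (15076, 10966), (15077, 10967), (15078, 15134), (15079, 10915), (15080, 18081), (15081, 15138), (15082, 15087), (15083, 15141), (15084, 10919), (15085, 18135),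 (15086, 15145), (15087, 15082), (15088, 14299), (15089, 15112), (15090, 12936), (15091, 10929), (15092, 18079), (15093, 18683), (15094, 18091), (15095, 15212), (15096, 15213), (15097, 15054), (15098, 14355), (15099, 15124), (15100, 12952), (15101, 10939), (15102, 18133), (15103, 18694)]
    ⟨e3 q15040 (flp_c L196973) q10871, e3 q15041 (flp_c L196977) q10872, e3 q15042 (flp_c L197359) q15107, e3 q15043 L196991 q10874, e3 q15044 (flp_c L225025) q18630, e3 q15045 (flp_c L197005) q10875, e3 q15046 (flp_c L219744) q18006, e3 q15047 L197023 q14353, e3 q15048 (flp_c L197027) q10877, e3 q15049 L197041 q14350, e3 q15050 (flp_c L225069) q18635, e3 q15051 L225091 q18639, e3 q15052 (flp_c L197051) q10879, e3 q15053 (flp_c L197055) q10880, e3 q15054 (flp_c L197309) q15097, e3 q15055 L197069 q10882, e3 q15056 (flp_c L225133) q18645, e3 q15057 (flp_c L220160) q18065, e3 q15058 L225137 q18646, e3 q15059 (flp_c L197093) q10887, e3 q15060 (flp_c L225163) q18649, e3 q15061 (flp_c L225169) q18650, e3 q15062 (flp_c L219944) q18036,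 e3 q15063 L225179 q18652, e3 q15064 (flp_c L197115) q10894, e3 q15065 (flp_c L225205) q18655, e3 q15066 (flp_c L225211) q18656, e3 q15067 (flp_c L197127) q10897, e3 q15068 L225229 q18659, e3 q15069 L225242 q18661, e3 q15070 L197151 q10916, e3 q15071 L225247 q18662, e3 q15072 (flp_c L197156) q10905, e3 q15073 L197163 q10920, e3 q15074 L225255 q18664, e3 q15075 (flp_c L197168) q10907, e3 q15076 L197175 q10966, e3 q15077 L197186 q10967, e3 q15078 L197585 q15134, e3 q15079 L197203 q10915, e3 q15080 (flp_c L220276) q18081, e3 q15081 (flp_c L197615) q15138, e3 q15082 (flp_c L197255) q15087, e3 q15083 L197641 q15141, e3 q15084 L197236 q10919, e3 q15085 (flp_c L220706) q18135, e3 q15086 (flp_c L197663) q15145, e3 q15087 L197255 q15082, e3 q15088 L197267 q14299, e3 q15089 (flp_c L197403) q15112, e3 q15090 L197281 q12936, e3 q15091 L197285 q10929, e3 q15092 (flp_c L220254) q18079, e3 q15093 L225357 q18683, e3 q15094 (flp_c L220350) q18091, e3 q15095 (flp_c L198017) q15212, e3 q15096 (flp_c L198025) q15213, e3 q15097 L197309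 q15054, e3 q15098 L197317 q14355, e3 q15099 (flp_c L197503) q15124, e3 q15100 L197331 q12952, e3 q15101 L197335 q10939, e3 q15102 (flp_c L220684) q18133, e3 q15103 L225411 q18694, trivial⟩ (by decide +kernel)

theorem ce_c_236 : ∀ r, r < 64 → sm gc (Qf (15104 + r)) = Qf (tab Gen.c (15104 + r)) :=
  edges_tab (sm gc) Qf (tab Gen.c) 15104 [(15104, 18145), (15105, 15178), (15106, 15179), (15107, 15042), (15108, 10944), (15109, 18699), (15110, 10945), (15111, 13008), (15112, 15089), (15113, 18703), (15114, 10951), (15115, 16578), (15116, 14706), (15117, 10950), (15118, 16577), (15119, 16573), (15120, 10956), (15121, 18706), (15122, 10957), (15123, 13025), (15124, 15099), (15125, 18710), (15126, 10963), (15127, 16543), (15128, 14725), (15129, 10962), (15130, 16542), (15131, 16538), (15132, 18713), (15133, 18715), (15134, 15078), (15135, 18717), (15136, 10970), (15137, 18718), (15138, 15081), (15139, 10972), (15140, 18726), (15141, 15083), (15142, 18728), (15143, 10975), (15144, 18729), (15145, 15086), (15146, 10977),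 (15147, 18737), (15148, 10980), (15149, 15389), (15150, 10981), (15151, 16966), (15152, 18742), (15153, 10984), (15154, 12963), (15155, 10987), (15156, 18744), (15157, 17755), (15158, 15234), (15159, 10989), (15160, 18751), (15161, 18752), (15162, 15340), (15163, 10993), (15164, 10992), (15165, 18757), (15166, 16158), (15167, 18758)]
    ⟨e3 q15104 (flp_c L220780) q18145, e3 q15105 (flp_c L197837) q15178, e3 q15106 (flp_c L197845) q15179, e3 q15107 L197359 q15042, e3 q15108 L197365 q10944, e3 q15109 L225439 q18699, e3 q15110 (flp_c L197379) q10945, e3 q15111 (flp_c L197397) q13008, e3 q15112 L197403 q15089, e3 q15113 L225477 q18703, e3 q15114 L197415 q10951, e3 q15115 (flp_c L207892) q16578, e3 q15116 L197434 q14706, e3 q15117 (flp_c L197442) q10950, e3 q15118 (flp_c L207882) q16577, e3 q15119 (flp_c L207844) q16573, e3 q15120 L197465 q10956, e3 q15121 L225502 q18706, e3 q15122 (flp_c L197479) q10957, e3 q15123 (flp_c L197497) q13025, e3 q15124 L197503 q15099, e3 q15125 L225540 q18710, e3 q15126 L197515 q10963,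 e3 q15127 (flp_c L207607) q16543, e3 q15128 L197534 q14725, e3 q15129 (flp_c L197542) q10962, e3 q15130 (flp_c L207597) q16542, e3 q15131 (flp_c L207559) q16538, e3 q15132 L225564 q18713, e3 q15133 L225580 q18715, e3 q15134 (flp_c L197585) q15078, e3 q15135 L225599 q18717, e3 q15136 (flp_c L197603) q10970, e3 q15137 (flp_c L225609) q18718, e3 q15138 L197615 q15081, e3 q15139 (flp_c L197617) q10972, e3 q15140 (flp_c L225675) q18726, e3 q15141 (flp_c L197641) q15083, e3 q15142 L225695 q18728, e3 q15143 (flp_c L197651) q10975, e3 q15144 (flp_c L225709) q18729, e3 q15145 L197663 q15086, e3 q15146 (flp_c L197665) q10977, e3 q15147 (flp_c L225775) q18737, e3 q15148 L197681 q10980, e3 q15149 (flp_c L199150) q15389, e3 q15150 L197697 q10981, e3 q15151 (flp_c L211163) q16966, e3 q15152 L225801 q18742, e3 q15153 (flp_c L197715) q10984, e3 q15154 L197731 q12963, e3 q15155 (flp_c L197733) q10987, e3 q15156 (flp_c L225815) q18744, e3 q15157 L217566 q17755, e3 q15158 L198157 q15234, e3 q15159 (flp_c L197755) q10989, e3 q15160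 (flp_c L225857) q18751, e3 q15161 (flp_c L225863) q18752, e3 q15162 (flp_c L198879) q15340, e3 q15163 L197773 q10993, e3 q15164 L197779 q10992, e3 q15165 (flp_c L225883) q18757, e3 q15166 L204360 q16158, e3 q15167 (flp_c L225895) q18758, trivial⟩ (by decide +kernel)

theorem ce_c_237 : ∀ r, r < 64 → sm gc (Qf (15168 + r)) = Qf (tab Gen.c (15168 + r)) :=
  edges_tab (sm gc) Qf (tab Gen.c) 15168 [(15168, 18759), (15169, 15255), (15170, 15256), (15171, 18070), (15172, 18725), (15173, 10997), (15174, 10998), (15175, 18775), (15176, 18781), (15177, 18777), (15178, 15105), (15179, 15106), (15180, 18787), (15181, 11001), (15182, 15493), (15183, 11004), (15184, 11005), (15185, 16991), (15186, 18793), (15187, 11008), (15188, 13038), (15189, 11011), (15190, 18795), (15191, 17687), (15192, 15287), (15193, 11013), (15194, 18802), (15195, 18803), (15196, 15444), (15197, 11017), (15198, 11016), (15199, 18808), (15200, 16173), (15201, 18809), (15202, 18810), (15203, 15308), (15204, 15309), (15205, 18041), (15206, 18736), (15207,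 11021), (15208, 11022), (15209, 18826), (15210, 18832), (15211, 18828), (15212, 15095), (15213, 15096), (15214, 18838), (15215, 11025), (15216, 12788), (15217, 18840), (15218, 11033), (15219, 11034), (15220, 16575), (15221, 18842), (15222, 11036), (15223, 11037), (15224, 18847), (15225, 18848), (15226, 12290), (15227, 17331), (15228, 18851), (15229, 15600), (15230, 13816), (15231, 11042)]
    ⟨e3 q15168 (flp_c L225903) q18759, e3 q15169 (flp_c L198314) q15255, e3 q15170 (flp_c L198320) q15256, e3 q15171 (flp_c L220196) q18070, e3 q15172 (flp_c L225669) q18725, e3 q15173 L197813 q10997, e3 q15174 L197817 q10998, e3 q15175 (flp_c L225977) q18775, e3 q15176 L226011 q18781, e3 q15177 (flp_c L225987) q18777, e3 q15178 L197837 q15105, e3 q15179 L197845 q15106, e3 q15180 L226043 q18787, e3 q15181 (flp_c L197851) q11001, e3 q15182 (flp_c L199746) q15493, e3 q15183 L197867 q11004, e3 q15184 L197877 q11005, e3 q15185 (flp_c L211354) q16991, e3 q15186 L226073 q18793, e3 q15187 (flp_c L197895) q11008, e3 q15188 L197911 q13038,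 e3 q15189 (flp_c L197913) q11011, e3 q15190 (flp_c L226087) q18795, e3 q15191 L217010 q17687, e3 q15192 L198522 q15287, e3 q15193 (flp_c L197935) q11013, e3 q15194 (flp_c L226129) q18802, e3 q15195 (flp_c L226135) q18803, e3 q15196 (flp_c L199431) q15444, e3 q15197 L197953 q11017, e3 q15198 L197959 q11016, e3 q15199 (flp_c L226155) q18808, e3 q15200 L204447 q16173, e3 q15201 (flp_c L226165) q18809, e3 q15202 (flp_c L226173) q18810, e3 q15203 (flp_c L198685) q15308, e3 q15204 (flp_c L198691) q15309, e3 q15205 (flp_c L219980) q18041, e3 q15206 (flp_c L225769) q18736, e3 q15207 L197993 q11021, e3 q15208 L197997 q11022, e3 q15209 (flp_c L226263) q18826, e3 q15210 L226297 q18832, e3 q15211 (flp_c L226273) q18828, e3 q15212 L198017 q15095, e3 q15213 L198025 q15096, e3 q15214 L226329 q18838, e3 q15215 (flp_c L198031) q11025, e3 q15216 L198043 q12788, e3 q15217 L226339 q18840, e3 q15218 (flp_c L198057) q11033, e3 q15219 (flp_c L198065) q11034, e3 q15220 (flp_c L207864) q16575, e3 q15221 L226355 q18842, e3 q15222 L198085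 q11036, e3 q15223 (flp_c L198087) q11037, e3 q15224 (flp_c L226394) q18847, e3 q15225 (flp_c L226399) q18848, e3 q15226 L198105 q12290, e3 q15227 (flp_c L213770) q17331, e3 q15228 L226415 q18851, e3 q15229 (flp_c L200443) q15600, e3 q15230 L198127 q13816, e3 q15231 (flp_c L198133) q11042, trivial⟩ (by decide +kernel)

theorem ce_c_238 : ∀ r, r < 64 → sm gc (Qf (15232 + r)) = Qf (tab Gen.c (15232 + r)) :=
  edges_tab (sm gc) Qf (tab Gen.c) 15232 [(15232, 18856), (15233, 17354), (15234, 15158), (15235, 11044), (15236, 11045), (15237, 18860), (15238, 18864), (15239, 15599), (15240, 15293), (15241, 13242), (15242, 13452), (15243, 11048), (15244, 16169), (15245, 18867), (15246, 18868), (15247, 18179), (15248, 18866), (15249, 11052), (15250, 11053), (15251, 18873), (15252, 18877), (15253, 12232), (15254, 18177), (15255, 15169), (15256, 15170), (15257, 12712), (15258, 11058), (15259, 18886), (15260, 11060), (15261, 18889), (15262, 18884), (15263, 11059), (15264, 18874), (15265, 18878), (15266, 16534), (15267, 18895), (15268,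 11062), (15269, 12763), (15270, 18896), (15271, 11071), (15272, 11072), (15273, 16540), (15274, 18892), (15275, 11074), (15276, 11075), (15277, 18902), (15278, 18903), (15279, 12230), (15280, 17255), (15281, 18906), (15282, 13865), (15283, 15838), (15284, 11080), (15285, 18911), (15286, 17383), (15287, 15192), (15288, 11082), (15289, 11083), (15290, 18915), (15291, 18919), (15292, 15837), (15293, 15240), (15294, 13222), (15295, 13400)]
    ⟨e3 q15232 (flp_c L226445) q18856, e3 q15233 L222777 q17354, e3 q15234 (flp_c L198157) q15158, e3 q15235 L198161 q11044, e3 q15236 L198167 q11045, e3 q15237 (flp_c L226479) q18860, e3 q15238 L226497 q18864, e3 q15239 (flp_c L200429) q15599, e3 q15240 (flp_c L198554) q15293, e3 q15241 L198198 q13242, e3 q15242 L198204 q13452, e3 q15243 (flp_c L198212) q11048, e3 q15244 (flp_c L204423) q16169, e3 q15245 (flp_c L226521) q18867, e3 q15246 (flp_c L226529) q18868, e3 q15247 (flp_c L221046) q18179, e3 q15248 (flp_c L226515) q18866, e3 q15249 L198248 q11052, e3 q15250 L198256 q11053,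 e3 q15251 (flp_c L226567) q18873, e3 q15252 L226593 q18877, e3 q15253 L198278 q12232, e3 q15254 (flp_c L221022) q18177, e3 q15255 L198314 q15169, e3 q15256 L198320 q15170, e3 q15257 (flp_c L198328) q12712, e3 q15258 L198332 q11058, e3 q15259 L226667 q18886, e3 q15260 L198342 q11060, e3 q15261 L226687 q18889, e3 q15262 (flp_c L226659) q18884, e3 q15263 (flp_c L198363) q11059, e3 q15264 L226605 q18874, e3 q15265 (flp_c L226611) q18878, e3 q15266 (flp_c L207515) q16534, e3 q15267 L226725 q18895, e3 q15268 (flp_c L198390) q11062, e3 q15269 L198400 q12763, e3 q15270 L226737 q18896, e3 q15271 (flp_c L198414) q11071, e3 q15272 (flp_c L198422) q11072, e3 q15273 (flp_c L207579) q16540, e3 q15274 L226709 q18892, e3 q15275 L198442 q11074, e3 q15276 (flp_c L198444) q11075, e3 q15277 (flp_c L226795) q18902, e3 q15278 (flp_c L226802) q18903, e3 q15279 L198470 q12230, e3 q15280 (flp_c L213260) q17255, e3 q15281 L226826 q18906, e3 q15282 L198486 q13865, e3 q15283 (flp_c L202120) q15838, e3 q15284 (flp_c L198498) q11080, e3 q15285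 (flp_c L226856) q18911, e3 q15286 L222838 q17383, e3 q15287 (flp_c L198522) q15192, e3 q15288 L198526 q11082, e3 q15289 L198532 q11083, e3 q15290 (flp_c L226890) q18915, e3 q15291 L226908 q18919, e3 q15292 (flp_c L202106) q15837, e3 q15293 L198554 q15240, e3 q15294 L198569 q13222, e3 q15295 L198575 q13400, trivial⟩ (by decide +kernel)

theorem ce_c_239 : ∀ r, r < 64 → sm gc (Qf (15296 + r)) = Qf (tab Gen.c (15296 + r)) :=
  edges_tab (sm gc) Qf (tab Gen.c) 15296 [(15296, 11086), (15297, 16154), (15298, 18922), (15299, 18923), (15300, 18127), (15301, 18921), (15302, 11090), (15303, 11091), (15304, 18928), (15305, 18932), (15306, 12291), (15307, 18125), (15308, 15203), (15309, 15204), (15310, 12683), (15311, 11096), (15312, 18941), (15313, 11098), (15314, 18944), (15315, 18939), (15316, 11097), (15317, 18929), (15318, 18933), (15319, 16570), (15320, 18949), (15321, 11100), (15322, 11102), (15323, 11103), (15324, 18953), (15325, 11105), (15326, 11106), (15327, 18959), (15328, 11109), (15329, 18961), (15330, 11110),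 (15331, 11111), (15332, 18965), (15333, 18966), (15334, 11113), (15335, 15594), (15336, 11116), (15337, 11117), (15338, 18973), (15339, 18974), (15340, 15162), (15341, 15341), (15342, 15342), (15343, 18979), (15344, 15344), (15345, 18980), (15346, 18981), (15347, 11123), (15348, 18983), (15349, 11124), (15350, 18985), (15351, 15988), (15352, 11126), (15353, 11127), (15354, 11128), (15355, 18990), (15356, 18991), (15357, 18994), (15358, 11130), (15359, 11131)]
    ⟨e3 q15296 (flp_c L198583) q11086, e3 q15297 (flp_c L204336) q16154, e3 q15298 (flp_c L226932) q18922, e3 q15299 (flp_c L226946) q18923, e3 q15300 (flp_c L220632) q18127, e3 q15301 (flp_c L226926) q18921, e3 q15302 L198619 q11090, e3 q15303 L198627 q11091, e3 q15304 (flp_c L226978) q18928, e3 q15305 L227022 q18932, e3 q15306 L198649 q12291, e3 q15307 (flp_c L220608) q18125, e3 q15308 L198685 q15203, e3 q15309 L198691 q15204, e3 q15310 (flp_c L198699) q12683, e3 q15311 L198703 q11096, e3 q15312 L227094 q18941, e3 q15313 L198713 q11098, e3 q15314 L227120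 q18944, e3 q15315 (flp_c L227084) q18939, e3 q15316 (flp_c L198736) q11097, e3 q15317 L226994 q18929, e3 q15318 (flp_c L227036) q18933, e3 q15319 (flp_c L207806) q16570, e3 q15320 L227157 q18949, e3 q15321 (flp_c L198769) q11100, e3 q15322 (flp_c L198775) q11102, e3 q15323 (flp_c L198785) q11103, e3 q15324 L227192 q18953, e3 q15325 L198803 q11105, e3 q15326 (flp_c L198807) q11106, e3 q15327 L227230 q18959, e3 q15328 (flp_c L198825) q11109, e3 q15329 L227246 q18961, e3 q15330 (flp_c L198833) q11110, e3 q15331 (flp_c L198835) q11111, e3 q15332 (flp_c L227266) q18965, e3 q15333 L227270 q18966, e3 q15334 L198851 q11113, e3 q15335 L200407 q15594, e3 q15336 L198863 q11116, e3 q15337 (flp_c L198869) q11117, e3 q15338 (flp_c L227310) q18973, e3 q15339 (flp_c L227314) q18974, e3 q15340 L198879 q15162, e3 q15341 L198885 q15341, e3 q15342 L198890 q15342, e3 q15343 L227350 q18979, e3 q15344 L198913 q15344, e3 q15345 L227361 q18980, e3 q15346 L227371 q18981, e3 q15347 (flp_c L198940) q11123, e3 q15348 (flp_c L227399) q18983,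 e3 q15349 (flp_c L198952) q11124, e3 q15350 (flp_c L227453) q18985, e3 q15351 (flp_c L222226) q15988, e3 q15352 L198968 q11126, e3 q15353 (flp_c L198970) q11127, e3 q15354 (flp_c L198976) q11128, e3 q15355 (flp_c L227497) q18990, e3 q15356 (flp_c L227504) q18991, e3 q15357 L227522 q18994, e3 q15358 (flp_c L198992) q11130, e3 q15359 (flp_c L198998) q11131, trivial⟩ (by decide +kernel)

theorem ce_c_240 : ∀ r, r < 64 → sm gc (Qf (15360 + r)) = Qf (tab Gen.c (15360 + r)) :=
  edges_tab (sm gc) Qf (tab Gen.c) 15360 [(15360, 18996), (15361, 18997), (15362, 11133), (15363, 11134), (15364, 11138), (15365, 19005), (15366, 11136), (15367, 11137), (15368, 19001), (15369, 19012), (15370, 19003), (15371, 19004), (15372, 15662), (15373, 18988), (15374, 11141), (15375, 11142), (15376, 19019), (15377, 19023), (15378, 19025), (15379, 11143), (15380, 11144), (15381, 18434), (15382, 11146), (15383, 17999), (15384, 15683), (15385, 11148), (15386, 11149), (15387, 14689), (15388, 19035), (15389, 15149), (15390, 11151), (15391, 11152),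 (15392, 15496), (15393, 19040), (15394, 17010), (15395, 17011), (15396, 11155), (15397, 19045), (15398, 19046), (15399, 19047), (15400, 19053), (15401, 17012), (15402, 16891), (15403, 15757), (15404, 19058), (15405, 19060), (15406, 11160), (15407, 19063), (15408, 19064), (15409, 15409), (15410, 15410), (15411, 15411), (15412, 15412), (15413, 19073), (15414, 11165), (15415, 19078), (15416, 11167), (15417, 19081), (15418, 19076), (15419, 11166), (15420, 15758), (15421, 19059), (15422, 19085), (15423, 19087)]
    ⟨e3 q15360 (flp_c L227538) q18996, e3 q15361 L227544 q18997, e3 q15362 L199022 q11133, e3 q15363 (flp_c L199028) q11134, e3 q15364 L199040 q11138, e3 q15365 L227594 q19005, e3 q15366 L199048 q11136, e3 q15367 L199056 q11137, e3 q15368 (flp_c L227572) q19001, e3 q15369 L227638 q19012, e3 q15370 (flp_c L227582) q19003, e3 q15371 (flp_c L227590) q19004, e3 q15372 (flp_c L200926) q15662, e3 q15373 (flp_c L227478) q18988, e3 q15374 L199080 q11141, e3 q15375 L199086 q11142, e3 q15376 (flp_c L227684) q19019, e3 q15377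 L227704 q19023, e3 q15378 L227708 q19025, e3 q15379 (flp_c L199102) q11143, e3 q15380 (flp_c L199108) q11144, e3 q15381 L223339 q18434, e3 q15382 L199120 q11146, e3 q15383 (flp_c L219706) q17999, e3 q15384 L201097 q15683, e3 q15385 L199134 q11148, e3 q15386 (flp_c L199140) q11149, e3 q15387 L201062 q14689, e3 q15388 (flp_c L227786) q19035, e3 q15389 L199150 q15149, e3 q15390 L199156 q11151, e3 q15391 (flp_c L199160) q11152, e3 q15392 (flp_c L199768) q15496, e3 q15393 L227813 q19040, e3 q15394 (flp_c L211499) q17010, e3 q15395 (flp_c L211513) q17011, e3 q15396 (flp_c L199181) q11155, e3 q15397 (flp_c L227853) q19045, e3 q15398 (flp_c L227857) q19046, e3 q15399 (flp_c L227863) q19047, e3 q15400 L227895 q19053, e3 q15401 (flp_c L211523) q17012, e3 q15402 L210609 q16891, e3 q15403 (flp_c L201576) q15757, e3 q15404 L227913 q19058, e3 q15405 L227937 q19060, e3 q15406 (flp_c L199223) q11160, e3 q15407 (flp_c L227953) q19063, e3 q15408 L227957 q19064, e3 q15409 L199235 q15409, e3 q15410 L199240 q15410, e3 q15411 L199243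 q15411, e3 q15412 L199246 q15412, e3 q15413 L228022 q19073, e3 q15414 L199251 q11165, e3 q15415 L228048 q19078, e3 q15416 L199261 q11167, e3 q15417 L228070 q19081, e3 q15418 (flp_c L228038) q19076, e3 q15419 (flp_c L199280) q11166, e3 q15420 L227430 q15758, e3 q15421 (flp_c L227929) q19059, e3 q15422 L228089 q19085, e3 q15423 L228103 q19087, trivial⟩ (by decide +kernel)

theorem ce_c_241 : ∀ r, r < 64 → sm gc (Qf (15424 + r)) = Qf (tab Gen.c (15424 + r)) :=
  edges_tab (sm gc) Qf (tab Gen.c) 15424 [(15424, 11169), (15425, 11170), (15426, 12870), (15427, 11172), (15428, 11173), (15429, 19093), (15430, 11175), (15431, 11176), (15432, 11178), (15433, 19100), (15434, 19101), (15435, 11180), (15436, 11181), (15437, 19105), (15438, 19106), (15439, 11183), (15440, 15832), (15441, 11186), (15442, 19112), (15443, 19113), (15444, 15196), (15445, 15445), (15446, 15446), (15447, 19118), (15448, 15448), (15449, 19119), (15450, 19120), (15451, 11192), (15452, 19122), (15453, 11193), (15454, 19124), (15455, 15763), (15456, 11195),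 (15457, 11196), (15458, 11197), (15459, 19129), (15460, 19130), (15461, 19133), (15462, 11199), (15463, 11200), (15464, 19135), (15465, 19136), (15466, 11202), (15467, 11203), (15468, 11207), (15469, 19144), (15470, 11205), (15471, 11206), (15472, 19140), (15473, 19151), (15474, 19142), (15475, 19143), (15476, 15892), (15477, 19127), (15478, 11210), (15479, 11211), (15480, 19156), (15481, 19160), (15482, 19162), (15483, 11212), (15484, 11213), (15485, 18371), (15486, 11215), (15487, 17991)]
    ⟨e3 q15424 (flp_c L199317) q11169, e3 q15425 (flp_c L199321) q11170, e3 q15426 (flp_c L199335) q12870, e3 q15427 L199339 q11172, e3 q15428 (flp_c L199343) q11173, e3 q15429 L228140 q19093, e3 q15430 L199361 q11175, e3 q15431 (flp_c L199367) q11176, e3 q15432 (flp_c L199377) q11178, e3 q15433 L228186 q19100, e3 q15434 L228198 q19101, e3 q15435 (flp_c L199395) q11180, e3 q15436 (flp_c L199397) q11181, e3 q15437 (flp_c L228218) q19105, e3 q15438 L228222 q19106, e3 q15439 L199413 q11183, e3 q15440 L202084 q15832, e3 q15441 (flp_c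 L199421) q11186, e3 q15442 (flp_c L228252) q19112, e3 q15443 (flp_c L228256) q19113, e3 q15444 L199431 q15196, e3 q15445 L199437 q15445, e3 q15446 L199442 q15446, e3 q15447 L228292 q19118, e3 q15448 L199465 q15448, e3 q15449 L228301 q19119, e3 q15450 L228311 q19120, e3 q15451 (flp_c L199492) q11192, e3 q15452 (flp_c L228339) q19122, e3 q15453 (flp_c L199506) q11193, e3 q15454 (flp_c L228358) q19124, e3 q15455 L227425 q15763, e3 q15456 L199522 q11195, e3 q15457 (flp_c L199524) q11196, e3 q15458 (flp_c L199530) q11197, e3 q15459 (flp_c L228404) q19129, e3 q15460 (flp_c L228411) q19130, e3 q15461 L228435 q19133, e3 q15462 (flp_c L199558) q11199, e3 q15463 (flp_c L199564) q11200, e3 q15464 (flp_c L228453) q19135, e3 q15465 L228459 q19136, e3 q15466 L199588 q11202, e3 q15467 (flp_c L199594) q11203, e3 q15468 L199608 q11207, e3 q15469 L228515 q19144, e3 q15470 L199614 q11205, e3 q15471 L199622 q11206, e3 q15472 (flp_c L228487) q19140, e3 q15473 L228565 q19151, e3 q15474 (flp_c L228501) q19142, e3 q15475 (flp_c L228509)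 q19143, e3 q15476 (flp_c L202573) q15892, e3 q15477 (flp_c L228383) q19127, e3 q15478 L199666 q11210, e3 q15479 L199672 q11211, e3 q15480 (flp_c L228597) q19156, e3 q15481 L228619 q19160, e3 q15482 L228625 q19162, e3 q15483 (flp_c L199694) q11212, e3 q15484 (flp_c L199700) q11213, e3 q15485 L222521 q18371, e3 q15486 L199714 q11215, e3 q15487 (flp_c L219638) q17991, trivial⟩ (by decide +kernel)

theorem ce_c_242 : ∀ r, r < 64 → sm gc (Qf (15488 + r)) = Qf (tab Gen.c (15488 + r)) :=
  edges_tab (sm gc) Qf (tab Gen.c) 15488 [(15488, 15913), (15489, 11217), (15490, 11218), (15491, 14659), (15492, 19172), (15493, 15182), (15494, 11220), (15495, 11222), (15496, 15392), (15497, 19177), (15498, 16985), (15499, 16986), (15500, 11224), (15501, 19182), (15502, 19183), (15503, 19184), (15504, 16902), (15505, 19191), (15506, 16987), (15507, 15982), (15508, 19195), (15509, 19197), (15510, 11229), (15511, 19200), (15512, 19201), (15513, 15513), (15514, 15514), (15515, 15515), (15516, 19207), (15517, 11234), (15518, 19212), (15519,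 11236), (15520, 19215), (15521, 19210), (15522, 11235), (15523, 15983), (15524, 19196), (15525, 19219), (15526, 19221), (15527, 11238), (15528, 11239), (15529, 12882), (15530, 11241), (15531, 15023), (15532, 19226), (15533, 12671), (15534, 19228), (15535, 11244), (15536, 11523), (15537, 17726), (15538, 19233), (15539, 15935), (15540, 11248), (15541, 19236), (15542, 19238), (15543, 13366), (15544, 11250), (15545, 16861), (15546, 13825), (15547, 11251), (15548, 15932), (15549, 19227), (15550, 11253), (15551, 15936)]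
    ⟨e3 q15488 L202744 q15913, e3 q15489 L199730 q11217, e3 q15490 (flp_c L199736) q11218, e3 q15491 L202709 q14659, e3 q15492 (flp_c L228709) q19172, e3 q15493 L199746 q15182, e3 q15494 L199752 q11220, e3 q15495 (flp_c L199756) q11222, e3 q15496 L199768 q15392, e3 q15497 L228740 q19177, e3 q15498 (flp_c L211298) q16985, e3 q15499 (flp_c L211306) q16986, e3 q15500 (flp_c L199795) q11224, e3 q15501 (flp_c L228786) q19182, e3 q15502 (flp_c L228792) q19183, e3 q15503 (flp_c L228798) q19184, e3 q15504 L210705 q16902, e3 q15505 L228840 q19191, e3 q15506 (flp_c L211318) q16987, e3 q15507 (flp_c L203213) q15982, e3 q15508 L228864 q19195, e3 q15509 L228888 q19197, e3 q15510 (flp_c L199851) q11229, e3 q15511 (flp_c L228908) q19200, e3 q15512 L228914 q19201, e3 q15513 L199869 q15513, e3 q15514 L199874 q15514, e3 q15515 L199877 q15515, e3 q15516 L228981 q19207, e3 q15517 L199885 q11234, e3 q15518 L229007 q19212, e3 q15519 L199895 q11236, e3 q15520 L229029 q19215, e3 q15521 (flp_c L228997) q19210, e3 q15522 (flp_c L199920)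 q11235, e3 q15523 L222218 q15983, e3 q15524 (flp_c L228880) q19196, e3 q15525 L229058 q19219, e3 q15526 L229076 q19221, e3 q15527 (flp_c L199953) q11238, e3 q15528 (flp_c L199959) q11239, e3 q15529 (flp_c L199975) q12882, e3 q15530 L199979 q11241, e3 q15531 (flp_c L199993) q15023, e3 q15532 L229112 q19226, e3 q15533 L200005 q12671, e3 q15534 L229130 q19228, e3 q15535 (flp_c L200023) q11244, e3 q15536 L200035 q11523, e3 q15537 (flp_c L217316) q17726, e3 q15538 L229170 q19233, e3 q15539 (flp_c L211903) q15935, e3 q15540 (flp_c L200059) q11248, e3 q15541 (flp_c L229202) q19236, e3 q15542 L229216 q19238, e3 q15543 (flp_c L200077) q13366, e3 q15544 (flp_c L200079) q11250, e3 q15545 (flp_c L210343) q16861, e3 q15546 (flp_c L200103) q13825, e3 q15547 (flp_c L200105) q11251, e3 q15548 (flp_c L202909) q15932, e3 q15549 (flp_c L229124) q19227, e3 q15550 L200127 q11253, e3 q15551 (flp_c L202941) q15936, trivial⟩ (by decide +kernel)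

theorem ce_c_243 : ∀ r, r < 64 → sm gc (Qf (15552 + r)) = Qf (tab Gen.c (15552 + r)) :=
  edges_tab (sm gc) Qf (tab Gen.c) 15552 [(15552, 11254), (15553, 16470), (15554, 19245), (15555, 19246), (15556, 11257), (15557, 19250), (15558, 19251), (15559, 15799), (15560, 19255), (15561, 19257), (15562, 11260), (15563, 19259), (15564, 17470), (15565, 17584), (15566, 19262), (15567, 11263), (15568, 11265), (15569, 12815), (15570, 11266), (15571, 19266), (15572, 16507), (15573, 16505), (15574, 16210), (15575, 11272), (15576, 16506), (15577, 19269), (15578, 11274), (15579, 17246), (15580, 11275), (15581, 19271), (15582, 19274), (15583, 11277), (15584, 11278), (15585, 19280), (15586, 19281), (15587, 18252), (15588, 17257), (15589, 11283), (15590, 19284), (15591, 19285), (15592, 11414), (15593, 19278), (15594, 15335), (15595, 11286), (15596, 11287), (15597, 19296), (15598, 19299), (15599, 15239), (15600, 15229), (15601, 14648), (15602, 14649), (15603, 11294), (15604, 11295), (15605, 18095), (15606, 18481), (15607, 18149),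 (15608, 18479), (15609, 18509), (15610, 11301), (15611, 11302), (15612, 13487), (15613, 13349), (15614, 12297), (15615, 11305)]
    ⟨e3 q15552 (flp_c L200141) q11254, e3 q15553 (flp_c L207002) q16470, e3 q15554 L229274 q19245, e3 q15555 L229282 q19246, e3 q15556 (flp_c L200169) q11257, e3 q15557 (flp_c L229328) q19250, e3 q15558 (flp_c L229336) q19251, e3 q15559 (flp_c L201870) q15799, e3 q15560 L229366 q19255, e3 q15561 L229382 q19257, e3 q15562 (flp_c L200204) q11260, e3 q15563 (flp_c L229406) q19259, e3 q15564 (flp_c L215229) q17470, e3 q15565 L216225 q17584, e3 q15566 L229440 q19262, e3 q15567 (flp_c L200239) q11263, e3 q15568 (flp_c L200243) q11265, e3 q15569 (flp_c L200259) q12815, e3 q15570 (flp_c L200261) q11266, e3 q15571 L229474 q19266, e3 q15572 (flp_c L207295) q16507, e3 q15573 (flp_c L207269) q16505, e3 q15574 (flp_c L204752) q16210, e3 q15575 (flp_c L200299) q11272, e3 q15576 (flp_c L207287) q16506, e3 q15577 L229500 q19269, e3 q15578 L200319 q11274, e3 q15579 (flp_c L213217) q17246, e3 q15580 (flp_c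 L200331) q11275, e3 q15581 (flp_c L229510) q19271, e3 q15582 L229536 q19274, e3 q15583 L200349 q11277, e3 q15584 (flp_c L200355) q11278, e3 q15585 (flp_c L229600) q19280, e3 q15586 (flp_c L229610) q19281, e3 q15587 L221572 q18252, e3 q15588 (flp_c L213270) q17257, e3 q15589 (flp_c L200375) q11283, e3 q15590 (flp_c L229634) q19284, e3 q15591 (flp_c L229640) q19285, e3 q15592 L200399 q11414, e3 q15593 (flp_c L229572) q19278, e3 q15594 (flp_c L200407) q15335, e3 q15595 L200411 q11286, e3 q15596 L200415 q11287, e3 q15597 (flp_c L229736) q19296, e3 q15598 L229760 q19299, e3 q15599 L200429 q15239, e3 q15600 L200443 q15229, e3 q15601 L200453 q14648, e3 q15602 L200463 q14649, e3 q15603 L200471 q11294, e3 q15604 L200483 q11295, e3 q15605 (flp_c L220382) q18095, e3 q15606 (flp_c L223685) q18481, e3 q15607 (flp_c L220812) q18149, e3 q15608 (flp_c L223667) q18479, e3 q15609 (flp_c L223967) q18509, e3 q15610 (flp_c L200535) q11301, e3 q15611 (flp_c L200539) q11302, e3 q15612 L200553 q13487, e3 q15613 L200563 q13349, e3 q15614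 (flp_c L200575) q12297, e3 q15615 (flp_c L200577) q11305, trivial⟩ (by decide +kernel)

theorem ce_c_244 : ∀ r, r < 64 → sm gc (Qf (15616 + r)) = Qf (tab Gen.c (15616 + r)) :=
  edges_tab (sm gc) Qf (tab Gen.c) 15616 [(15616, 19305), (15617, 11306), (15618, 19306), (15619, 19307), (15620, 19309), (15621, 11307), (15622, 11308), (15623, 12295), (15624, 19312), (15625, 11310), (15626, 19314), (15627, 11311), (15628, 19317), (15629, 16863), (15630, 11315), (15631, 19318), (15632, 11318), (15633, 11319), (15634, 17468), (15635, 13771), (15636, 11321), (15637, 16599), (15638, 19320), (15639, 11327), (15640, 19323), (15641, 11329), (15642, 11330), (15643, 11324), (15644, 17260), (15645, 19331), (15646, 17258), (15647, 11364), (15648, 19333), (15649, 17789), (15650, 11328), (15651, 11487), (15652, 19336), (15653, 19337), (15654, 19327), (15655, 11491), (15656, 11332), (15657, 18488), (15658, 19345), (15659, 18485), (15660, 18489), (15661, 14554), (15662, 15372), (15663, 19355), (15664, 11337), (15665, 19359), (15666, 19362),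 (15667, 19365), (15668, 11338), (15669, 19368), (15670, 13796), (15671, 11339), (15672, 14893), (15673, 17303), (15674, 11341), (15675, 19370), (15676, 14822), (15677, 17304), (15678, 14527), (15679, 11345)]
    ⟨e3 q15616 L229838 q19305, e3 q15617 (flp_c L200597) q11306, e3 q15618 (flp_c L229852) q19306, e3 q15619 (flp_c L229862) q19307, e3 q15620 L229882 q19309, e3 q15621 (flp_c L200623) q11307, e3 q15622 (flp_c L200631) q11308, e3 q15623 L200645 q12295, e3 q15624 L229908 q19312, e3 q15625 L200661 q11310, e3 q15626 (flp_c L229934) q19314, e3 q15627 (flp_c L200675) q11311, e3 q15628 L229966 q19317, e3 q15629 (flp_c L210363) q16863, e3 q15630 (flp_c L200703) q11315, e3 q15631 L229972 q19318, e3 q15632 L200725 q11318, e3 q15633 (flp_c L200731) q11319, e3 q15634 (flp_c L215209) q17468, e3 q15635 L200753 q13771, e3 q15636 L200765 q11321, e3 q15637 (flp_c L208063) q16599, e3 q15638 L229990 q19320, e3 q15639 L200793 q11327, e3 q15640 L230018 q19323, e3 q15641 L200807 q11329, e3 q15642 L200813 q11330, e3 q15643 (flp_c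 L200817) q11324, e3 q15644 (flp_c L213289) q17260, e3 q15645 (flp_c L230082) q19331, e3 q15646 (flp_c L213274) q17258, e3 q15647 L200845 q11364, e3 q15648 L230096 q19333, e3 q15649 (flp_c L217801) q17789, e3 q15650 (flp_c L200864) q11328, e3 q15651 L223829 q11487, e3 q15652 (flp_c L230132) q19336, e3 q15653 (flp_c L230146) q19337, e3 q15654 (flp_c L230046) q19327, e3 q15655 L223797 q11491, e3 q15656 L200900 q11332, e3 q15657 (flp_c L223743) q18488, e3 q15658 L230204 q19345, e3 q15659 (flp_c L223725) q18485, e3 q15660 (flp_c L223749) q18489, e3 q15661 L200918 q14554, e3 q15662 L200926 q15372, e3 q15663 L230266 q19355, e3 q15664 L200936 q11337, e3 q15665 L230284 q19359, e3 q15666 L230302 q19362, e3 q15667 L230324 q19365, e3 q15668 (flp_c L200952) q11338, e3 q15669 (flp_c L230346) q19368, e3 q15670 (flp_c L200964) q13796, e3 q15671 (flp_c L200966) q11339, e3 q15672 L200980 q14893, e3 q15673 (flp_c L213603) q17303, e3 q15674 L201000 q11341, e3 q15675 (flp_c L230362) q19370, e3 q15676 (flp_c L201028) q14822, e3 q15677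 (flp_c L213607) q17304, e3 q15678 L201040 q14527, e3 q15679 (flp_c L201046) q11345, trivial⟩ (by decide +kernel)

theorem ce_c_245 : ∀ r, r < 64 → sm gc (Qf (15680 + r)) = Qf (tab Gen.c (15680 + r)) :=
  edges_tab (sm gc) Qf (tab Gen.c) 15680 [(15680, 12277), (15681, 19371), (15682, 14339), (15683, 15384), (15684, 11349), (15685, 17467), (15686, 14089), (15687, 17918), (15688, 13770), (15689, 15919), (15690, 19379), (15691, 15921), (15692, 15922), (15693, 13007), (15694, 13096), (15695, 13621), (15696, 13650), (15697, 13213), (15698, 11369), (15699, 13214), (15700, 13215), (15701, 13216), (15702, 15787), (15703, 11375), (15704, 19328), (15705, 13006), (15706, 15780), (15707, 15707), (15708, 15790), (15709, 11363), (15710, 11405), (15711, 19393), (15712, 13139), (15713, 11641), (15714, 17347), (15715, 17348), (15716, 17349), (15717, 18360), (15718, 11377), (15719, 11371), (15720, 11372), (15721, 11373), (15722, 19405), (15723, 19406), (15724, 19412), (15725, 18912), (15726, 19409), (15727, 18505), (15728, 19400),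 (15729, 19401), (15730, 19402), (15731, 19403), (15732, 16410), (15733, 11380), (15734, 17808), (15735, 11381), (15736, 19422), (15737, 14261), (15738, 14675), (15739, 11384), (15740, 19425), (15741, 12201), (15742, 17790), (15743, 11607)]
    ⟨e3 q15680 L201070 q12277, e3 q15681 (flp_c L230374) q19371, e3 q15682 L201088 q14339, e3 q15683 (flp_c L201097) q15384, e3 q15684 L201101 q11349, e3 q15685 (flp_c L215193) q17467, e3 q15686 (flp_c L201119) q14089, e3 q15687 (flp_c L219034) q17918, e3 q15688 L201131 q13770, e3 q15689 (flp_c L202786) q15919, e3 q15690 L230444 q19379, e3 q15691 (flp_c L202798) q15921, e3 q15692 (flp_c L202806) q15922, e3 q15693 L201163 q13007, e3 q15694 L201175 q13096, e3 q15695 L201185 q13621, e3 q15696 L201195 q13650, e3 q15697 (flp_c L201207) q13213, e3 q15698 L201213 q11369, e3 q15699 L201225 q13214, e3 q15700 L201233 q13215, e3 q15701 L201241 q13216, e3 q15702 (flp_c L201774) q15787, e3 q15703 L201255 q11375, e3 q15704 (flp_c L230056) q19328, e3 q15705 L201272 q13006, e3 q15706 (flp_c L212547)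 q15780, e3 q15707 L201288 q15707, e3 q15708 (flp_c L201800) q15790, e3 q15709 (flp_c L201294) q11363, e3 q15710 L201304 q11405, e3 q15711 L230586 q19393, e3 q15712 (flp_c L201324) q13139, e3 q15713 L201330 q11641, e3 q15714 (flp_c L213889) q17347, e3 q15715 (flp_c L213897) q17348, e3 q15716 (flp_c L213907) q17349, e3 q15717 (flp_c L222443) q18360, e3 q15718 L201360 q11377, e3 q15719 L201364 q11371, e3 q15720 L201368 q11372, e3 q15721 L201372 q11373, e3 q15722 (flp_c L230678) q19405, e3 q15723 (flp_c L230684) q19406, e3 q15724 L230724 q19412, e3 q15725 L226870 q18912, e3 q15726 (flp_c L230696) q19409, e3 q15727 (flp_c L223927) q18505, e3 q15728 (flp_c L230652) q19400, e3 q15729 (flp_c L230658) q19401, e3 q15730 (flp_c L230662) q19402, e3 q15731 (flp_c L230666) q19403, e3 q15732 L206438 q16410, e3 q15733 L201438 q11380, e3 q15734 (flp_c L217940) q17808, e3 q15735 (flp_c L201448) q11381, e3 q15736 (flp_c L230970) q19422, e3 q15737 L201466 q14261, e3 q15738 L201472 q14675, e3 q15739 (flp_c L201480) q11384, e3 q15740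 (flp_c L231004) q19425, e3 q15741 L201490 q12201, e3 q15742 L217811 q17790, e3 q15743 L201502 q11607, trivial⟩ (by decide +kernel)

theorem ce_c_246 : ∀ r, r < 64 → sm gc (Qf (15744 + r)) = Qf (tab Gen.c (15744 + r)) :=
  edges_tab (sm gc) Qf (tab Gen.c) 15744 [(15744, 11608), (15745, 11609), (15746, 11386), (15747, 19435), (15748, 19436), (15749, 19437), (15750, 19179), (15751, 11610), (15752, 11611), (15753, 16052), (15754, 11612), (15755, 11613), (15756, 19448), (15757, 15403), (15758, 15420), (15759, 11392), (15760, 19452), (15761, 18390), (15762, 11396), (15763, 15455), (15764, 19454), (15765, 19456), (15766, 19458), (15767, 11397), (15768, 19461), (15769, 11398), (15770, 19463), (15771, 11400), (15772, 19464), (15773, 14665), (15774, 11874), (15775, 15027), (15776, 19466), (15777, 12700), (15778, 19391), (15779, 17657), (15780, 15706), (15781, 11408), (15782, 19470), (15783, 19472), (15784, 19475), (15785, 13873), (15786, 11411), (15787, 15702), (15788, 19392), (15789, 11413), (15790, 15708), (15791, 16327),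 (15792, 13307), (15793, 11415), (15794, 16852), (15795, 19481), (15796, 11417), (15797, 19484), (15798, 19485), (15799, 15559), (15800, 19489), (15801, 19490), (15802, 11420), (15803, 19492), (15804, 17445), (15805, 19495), (15806, 11422), (15807, 17612)]
    ⟨e3 q15744 L201508 q11608, e3 q15745 L201514 q11609, e3 q15746 (flp_c L201516) q11386, e3 q15747 (flp_c L231074) q19435, e3 q15748 (flp_c L231078) q19436, e3 q15749 (flp_c L231082) q19437, e3 q15750 (flp_c L228758) q19179, e3 q15751 L201538 q11610, e3 q15752 L201544 q11611, e3 q15753 (flp_c L203653) q16052, e3 q15754 L201554 q11612, e3 q15755 L201562 q11613, e3 q15756 L231160 q19448, e3 q15757 L201576 q15403, e3 q15758 (flp_c L227430) q15420, e3 q15759 (flp_c L201584) q11392, e3 q15760 (flp_c L231194) q19452, e3 q15761 (flp_c L223040) q18390, e3 q15762 L201598 q11396, e3 q15763 (flp_c L227425) q15455, e3 q15764 L231202 q19454, e3 q15765 L231216 q19456, e3 q15766 L231228 q19458, e3 q15767 (flp_c L201620) q11397, e3 q15768 (flp_c L231250) q19461, e3 q15769 (flp_c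 L201628) q11398, e3 q15770 (flp_c L231264) q19463, e3 q15771 L201646 q11400, e3 q15772 (flp_c L231276) q19464, e3 q15773 L201664 q14665, e3 q15774 L201676 q11874, e3 q15775 (flp_c L201692) q15027, e3 q15776 L231292 q19466, e3 q15777 L201704 q12700, e3 q15778 (flp_c L230570) q19391, e3 q15779 (flp_c L216751) q17657, e3 q15780 L212547 q15706, e3 q15781 (flp_c L201732) q11408, e3 q15782 (flp_c L231336) q19470, e3 q15783 L231350 q19472, e3 q15784 L231380 q19475, e3 q15785 (flp_c L201760) q13873, e3 q15786 (flp_c L201762) q11411, e3 q15787 L201774 q15702, e3 q15788 (flp_c L230584) q19392, e3 q15789 L201790 q11413, e3 q15790 L201800 q15708, e3 q15791 (flp_c L205771) q16327, e3 q15792 (flp_c L201822) q13307, e3 q15793 (flp_c L201824) q11415, e3 q15794 (flp_c L210255) q16852, e3 q15795 L231436 q19481, e3 q15796 (flp_c L201848) q11417, e3 q15797 (flp_c L231474) q19484, e3 q15798 (flp_c L231482) q19485, e3 q15799 L201870 q15559, e3 q15800 L231520 q19489, e3 q15801 L231528 q19490, e3 q15802 (flp_c L201887) q11420, e3 q15803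 (flp_c L231552) q19492, e3 q15804 (flp_c L214988) q17445, e3 q15805 L231586 q19495, e3 q15806 (flp_c L201918) q11422, e3 q15807 L216423 q17612, trivial⟩ (by decide +kernel)

theorem ce_c_247 : ∀ r, r < 64 → sm gc (Qf (15808 + r)) = Qf (tab Gen.c (15808 + r)) :=
  edges_tab (sm gc) Qf (tab Gen.c) 15808 [(15808, 12811), (15809, 11425), (15810, 19498), (15811, 11427), (15812, 16388), (15813, 16384), (15814, 16240), (15815, 11432), (15816, 16386), (15817, 19502), (15818, 11434), (15819, 17321), (15820, 11435), (15821, 19504), (15822, 19507), (15823, 11437), (15824, 11438), (15825, 19512), (15826, 19513), (15827, 18309), (15828, 17332), (15829, 11443), (15830, 19516), (15831, 19510), (15832, 15440), (15833, 11445), (15834, 11446), (15835, 19524), (15836, 19527), (15837, 15292), (15838, 15283), (15839, 14677), (15840, 14678), (15841, 11453), (15842, 11454), (15843, 18508), (15844, 11460), (15845, 11461), (15846, 13435), (15847, 13285), (15848, 12237), (15849, 11464), (15850, 19533), (15851, 11465), (15852, 19534), (15853,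 19535), (15854, 19537), (15855, 11466), (15856, 11467), (15857, 12236), (15858, 19540), (15859, 11469), (15860, 19541), (15861, 11470), (15862, 19544), (15863, 16854), (15864, 11474), (15865, 19545), (15866, 11477), (15867, 11478), (15868, 17443), (15869, 13779), (15870, 11480), (15871, 16622)]
    ⟨e3 q15808 (flp_c L201934) q12811, e3 q15809 (flp_c L201936) q11425, e3 q15810 L231612 q19498, e3 q15811 (flp_c L201952) q11427, e3 q15812 (flp_c L206256) q16388, e3 q15813 (flp_c L206214) q16384, e3 q15814 (flp_c L204992) q16240, e3 q15815 (flp_c L201978) q11432, e3 q15816 (flp_c L206242) q16386, e3 q15817 L231646 q19502, e3 q15818 L202002 q11434, e3 q15819 (flp_c L213717) q17321, e3 q15820 (flp_c L202014) q11435, e3 q15821 (flp_c L231656) q19504, e3 q15822 L231684 q19507, e3 q15823 L202032 q11437, e3 q15824 (flp_c L202038) q11438, e3 q15825 (flp_c L231736) q19512, e3 q15826 (flp_c L231746) q19513, e3 q15827 L222008 q18309, e3 q15828 (flp_c L213776) q17332, e3 q15829 (flp_c L202066) q11443, e3 q15830 (flp_c L231772)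 q19516, e3 q15831 (flp_c L231708) q19510, e3 q15832 (flp_c L202084) q15440, e3 q15833 L202088 q11445, e3 q15834 L202092 q11446, e3 q15835 (flp_c L231838) q19524, e3 q15836 L231862 q19527, e3 q15837 L202106 q15292, e3 q15838 L202120 q15283, e3 q15839 L202130 q14677, e3 q15840 L202138 q14678, e3 q15841 L202150 q11453, e3 q15842 L202158 q11454, e3 q15843 (flp_c L223955) q18508, e3 q15844 (flp_c L202176) q11460, e3 q15845 (flp_c L202180) q11461, e3 q15846 L202194 q13435, e3 q15847 L202204 q13285, e3 q15848 (flp_c L202216) q12237, e3 q15849 (flp_c L202218) q11464, e3 q15850 L231928 q19533, e3 q15851 (flp_c L202238) q11465, e3 q15852 (flp_c L231940) q19534, e3 q15853 (flp_c L231950) q19535, e3 q15854 L231972 q19537, e3 q15855 (flp_c L202264) q11466, e3 q15856 (flp_c L202272) q11467, e3 q15857 L202286 q12236, e3 q15858 L231998 q19540, e3 q15859 L202302 q11469, e3 q15860 (flp_c L232012) q19541, e3 q15861 (flp_c L202316) q11470, e3 q15862 L232044 q19544, e3 q15863 (flp_c L210275) q16854, e3 q15864 (flp_c L202344) q11474,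 e3 q15865 L232050 q19545, e3 q15866 L202366 q11477, e3 q15867 (flp_c L202372) q11478, e3 q15868 (flp_c L214970) q17443, e3 q15869 L202394 q13779, e3 q15870 L202406 q11480, e3 q15871 (flp_c L208260) q16622, trivial⟩ (by decide +kernel)

theorem ce_c_248 : ∀ r, r < 64 → sm gc (Qf (15872 + r)) = Qf (tab Gen.c (15872 + r)) :=
  edges_tab (sm gc) Qf (tab Gen.c) 15872 [(15872, 19547), (15873, 11486), (15874, 19549), (15875, 11488), (15876, 11489), (15877, 11483), (15878, 17337), (15879, 17335), (15880, 19557), (15881, 11522), (15882, 19334), (15883, 17771), (15884, 19338), (15885, 19339), (15886, 19554), (15887, 18515), (15888, 19564), (15889, 18512), (15890, 14604), (15891, 18516), (15892, 15476), (15893, 19571), (15894, 11496), (15895, 19574), (15896, 19577), (15897, 19580), (15898, 11497), (15899, 19583), (15900, 13846), (15901, 11498), (15902, 14862), (15903, 17227), (15904, 11500), (15905, 19585), (15906, 14785), (15907, 17228), (15908, 14478), (15909, 11504), (15910, 12218), (15911, 19586), (15912, 14394), (15913,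 15488), (15914, 11508), (15915, 17442), (15916, 14032), (15917, 17896), (15918, 13745), (15919, 15689), (15920, 19594), (15921, 15691), (15922, 15692), (15923, 13026), (15924, 13648), (15925, 13625), (15926, 13154), (15927, 11527), (15928, 13155), (15929, 13156), (15930, 13157), (15931, 19553), (15932, 15548), (15933, 11535), (15934, 15934), (15935, 15539)]
    ⟨e3 q15872 L232068 q19547, e3 q15873 L202434 q11486, e3 q15874 L232084 q19549, e3 q15875 L202446 q11488, e3 q15876 L202454 q11489, e3 q15877 (flp_c L202458) q11483, e3 q15878 (flp_c L213805) q17337, e3 q15879 (flp_c L213790) q17335, e3 q15880 (flp_c L232154) q19557, e3 q15881 L202492 q11522, e3 q15882 (flp_c L230114) q19334, e3 q15883 (flp_c L217688) q17771, e3 q15884 (flp_c L230156) q19338, e3 q15885 (flp_c L230164) q19339, e3 q15886 (flp_c L232129) q19554, e3 q15887 (flp_c L224023) q18515, e3 q15888 L232212 q19564, e3 q15889 (flp_c L223999) q18512, e3 q15890 L202563 q14604, e3 q15891 (flp_c L224029) q18516, e3 q15892 L202573 q15476, e3 q15893 L232270 q19571,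 e3 q15894 L202583 q11496, e3 q15895 L232292 q19574, e3 q15896 L232316 q19577, e3 q15897 L232338 q19580, e3 q15898 (flp_c L202599) q11497, e3 q15899 (flp_c L232360) q19583, e3 q15900 (flp_c L202611) q13846, e3 q15901 (flp_c L202613) q11498, e3 q15902 L202627 q14862, e3 q15903 (flp_c L213097) q17227, e3 q15904 L202647 q11500, e3 q15905 (flp_c L232376) q19585, e3 q15906 (flp_c L202675) q14785, e3 q15907 (flp_c L213101) q17228, e3 q15908 L202687 q14478, e3 q15909 (flp_c L202693) q11504, e3 q15910 L202717 q12218, e3 q15911 (flp_c L232388) q19586, e3 q15912 L202735 q14394, e3 q15913 (flp_c L202744) q15488, e3 q15914 L202748 q11508, e3 q15915 (flp_c L214954) q17442, e3 q15916 (flp_c L202766) q14032, e3 q15917 (flp_c L218822) q17896, e3 q15918 L202778 q13745, e3 q15919 L202786 q15689, e3 q15920 L232460 q19594, e3 q15921 L202798 q15691, e3 q15922 L202806 q15692, e3 q15923 L202816 q13026, e3 q15924 L202828 q13648, e3 q15925 L202836 q13625, e3 q15926 (flp_c L202852) q13154, e3 q15927 L202858 q11527, e3 q15928 L202870 q13155,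 e3 q15929 L202880 q13156, e3 q15930 L202892 q13157, e3 q15931 (flp_c L232118) q19553, e3 q15932 L202909 q15548, e3 q15933 L202921 q11535, e3 q15934 L202933 q15934, e3 q15935 L211903 q15539, trivial⟩ (by decide +kernel)

theorem ce_c_249 : ∀ r, r < 64 → sm gc (Qf (15936 + r)) = Qf (tab Gen.c (15936 + r)) :=
  edges_tab (sm gc) Qf (tab Gen.c) 15936 [(15936, 15551), (15937, 19248), (15938, 13198), (15939, 11588), (15940, 17375), (15941, 17376), (15942, 17377), (15943, 18422), (15944, 11536), (15945, 11530), (15946, 11531), (15947, 11532), (15948, 19610), (15949, 19611), (15950, 19613), (15951, 19617), (15952, 18857), (15953, 18477), (15954, 19606), (15955, 19607), (15956, 19608), (15957, 16517), (15958, 11539), (15959, 17823), (15960, 11540), (15961, 19624), (15962, 14281), (15963, 14646), (15964, 11543), (15965, 19626), (15966, 12018), (15967, 17772), (15968, 11659), (15969, 11660), (15970, 11661), (15971, 11545), (15972, 19636), (15973, 19637), (15974, 19638), (15975, 19043), (15976, 11662), (15977, 11663), (15978,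 11664), (15979, 16130), (15980, 11665), (15981, 19648), (15982, 15507), (15983, 15523), (15984, 11551), (15985, 19652), (15986, 18452), (15987, 11555), (15988, 15351), (15989, 19654), (15990, 19656), (15991, 19658), (15992, 11556), (15993, 19661), (15994, 11557), (15995, 19663), (15996, 11559), (15997, 19664), (15998, 14692), (15999, 12085)]
    ⟨e3 q15936 L202941 q15551, e3 q15937 (flp_c L229304) q19248, e3 q15938 (flp_c L202959) q13198, e3 q15939 L202965 q11588, e3 q15940 (flp_c L214198) q17375, e3 q15941 (flp_c L214206) q17376, e3 q15942 (flp_c L214216) q17377, e3 q15943 (flp_c L223257) q18422, e3 q15944 L202997 q11536, e3 q15945 L203001 q11530, e3 q15946 L203005 q11531, e3 q15947 L203009 q11532, e3 q15948 (flp_c L232618) q19610, e3 q15949 (flp_c L232626) q19611, e3 q15950 (flp_c L232642) q19613, e3 q15951 L232672 q19617, e3 q15952 L226459 q18857, e3 q15953 (flp_c L223645) q18477, e3 q15954 (flp_c L232584) q19606, e3 q15955 (flp_c L232592) q19607, e3 q15956 (flp_c L232600) q19608, e3 q15957 L207373 q16517, e3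 q15958 L203075 q11539, e3 q15959 (flp_c L218086) q17823, e3 q15960 (flp_c L203085) q11540, e3 q15961 (flp_c L232749) q19624, e3 q15962 L203103 q14281, e3 q15963 L203109 q14646, e3 q15964 (flp_c L203117) q11543, e3 q15965 (flp_c L232771) q19626, e3 q15966 L203127 q12018, e3 q15967 L217698 q17772, e3 q15968 L203139 q11659, e3 q15969 L203145 q11660, e3 q15970 L203151 q11661, e3 q15971 (flp_c L203153) q11545, e3 q15972 (flp_c L232857) q19636, e3 q15973 (flp_c L232861) q19637, e3 q15974 (flp_c L232865) q19638, e3 q15975 (flp_c L227835) q19043, e3 q15976 L203175 q11662, e3 q15977 L203181 q11663, e3 q15978 L203187 q11664, e3 q15979 (flp_c L204169) q16130, e3 q15980 L203199 q11665, e3 q15981 L232939 q19648, e3 q15982 L203213 q15507, e3 q15983 (flp_c L222218) q15523, e3 q15984 (flp_c L203221) q11551, e3 q15985 (flp_c L232977) q19652, e3 q15986 (flp_c L223475) q18452, e3 q15987 L203235 q11555, e3 q15988 L222226 q15351, e3 q15989 L232987 q19654, e3 q15990 L233007 q19656, e3 q15991 L233025 q19658, e3 q15992 (flp_c L203257)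 q11556, e3 q15993 (flp_c L233047) q19661, e3 q15994 (flp_c L203265) q11557, e3 q15995 (flp_c L233065) q19663, e3 q15996 L203283 q11559, e3 q15997 (flp_c L233077) q19664, e3 q15998 L203301 q14692, e3 q15999 L203313 q12085, trivial⟩ (by decide +kernel)

theorem ce_c_250 : ∀ r, r < 64 → sm gc (Qf (16000 + r)) = Qf (tab Gen.c (16000 + r)) :=
  edges_tab (sm gc) Qf (tab Gen.c) 16000 [(16000, 14987), (16001, 17510), (16002, 11565), (16003, 19666), (16004, 11569), (16005, 11571), (16006, 11572), (16007, 19667), (16008, 17987), (16009, 19668), (16010, 11871), (16011, 11576), (16012, 19671), (16013, 19672), (16014, 19673), (16015, 11585), (16016, 16036), (16017, 11580), (16018, 11581), (16019, 11582), (16020, 19680), (16021, 19681), (16022, 19682), (16023, 19683), (16024, 19674), (16025, 19676), (16026, 19677), (16027, 18263), (16028, 11587), (16029, 19692), (16030, 19693), (16031, 19694), (16032, 14525), (16033, 16110), (16034, 16108), (16035, 19691), (16036, 16016), (16037, 11591), (16038, 11592), (16039, 11593), (16040,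 19708), (16041, 19709), (16042, 19713), (16043, 19714), (16044, 11594), (16045, 11596), (16046, 19717), (16047, 19718), (16048, 19719), (16049, 18722), (16050, 11600), (16051, 11601), (16052, 15753), (16053, 11602), (16054, 13802), (16055, 11603), (16056, 19727), (16057, 19729), (16058, 16404), (16059, 19737), (16060, 11604), (16061, 14377), (16062, 19739), (16063, 11605)]
    ⟨e3 q16000 L203325 q14987, e3 q16001 L215619 q17510, e3 q16002 (flp_c L203339) q11565, e3 q16003 (flp_c L233099) q19666, e3 q16004 (flp_c L203352) q11569, e3 q16005 L203361 q11571, e3 q16006 (flp_c L203367) q11572, e3 q16007 (flp_c L233105) q19667, e3 q16008 L219650 q17987, e3 q16009 (flp_c L233113) q19668, e3 q16010 L203397 q11871, e3 q16011 (flp_c L203403) q11576, e3 q16012 (flp_c L233139) q19671, e3 q16013 (flp_c L233145) q19672, e3 q16014 (flp_c L233151) q19673, e3 q16015 L203431 q11585, e3 q16016 (flp_c L203553) q16036, e3 q16017 L203437 q11580, e3 q16018 L203441 q11581, e3 q16019 L203445 q11582, e3 q16020 (flp_c L233193) q19680, e3 q16021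 (flp_c L233201) q19681, e3 q16022 (flp_c L233207) q19682, e3 q16023 (flp_c L233217) q19683, e3 q16024 (flp_c L233155) q19674, e3 q16025 (flp_c L233171) q19676, e3 q16026 (flp_c L233175) q19677, e3 q16027 L221686 q18263, e3 q16028 (flp_c L203495) q11587, e3 q16029 (flp_c L233271) q19692, e3 q16030 (flp_c L233281) q19693, e3 q16031 (flp_c L233291) q19694, e3 q16032 (flp_c L203527) q14525, e3 q16033 (flp_c L204043) q16110, e3 q16034 (flp_c L204019) q16108, e3 q16035 (flp_c L233263) q19691, e3 q16036 L203553 q16016, e3 q16037 L203559 q11591, e3 q16038 L203565 q11592, e3 q16039 L203571 q11593, e3 q16040 (flp_c L233403) q19708, e3 q16041 (flp_c L233413) q19709, e3 q16042 L233445 q19713, e3 q16043 L233453 q19714, e3 q16044 (flp_c L203607) q11594, e3 q16045 (flp_c L203617) q11596, e3 q16046 (flp_c L233481) q19717, e3 q16047 (flp_c L233489) q19718, e3 q16048 (flp_c L233499) q19719, e3 q16049 (flp_c L225649) q18722, e3 q16050 L203641 q11600, e3 q16051 L203647 q11601, e3 q16052 L203653 q15753, e3 q16053 L203659 q11602, e3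 q16054 L203665 q13802, e3 q16055 L203673 q11603, e3 q16056 (flp_c L233559) q19727, e3 q16057 (flp_c L233577) q19729, e3 q16058 L206378 q16404, e3 q16059 L233639 q19737, e3 q16060 (flp_c L203705) q11604, e3 q16061 L203717 q14377, e3 q16062 L233653 q19739, e3 q16063 (flp_c L203731) q11605, trivial⟩ (by decide +kernel)

theorem ce_c_251 : ∀ r, r < 64 → sm gc (Qf (16064 + r)) = Qf (tab Gen.c (16064 + r)) :=
  edges_tab (sm gc) Qf (tab Gen.c) 16064 [(16064, 19741), (16065, 17214), (16066, 17215), (16067, 17069), (16068, 19181), (16069, 19433), (16070, 19748), (16071, 16146), (16072, 19445), (16073, 19446), (16074, 12010), (16075, 19757), (16076, 14939), (16077, 17514), (16078, 11617), (16079, 19760), (16080, 11621), (16081, 11623), (16082, 11624), (16083, 19761), (16084, 19762), (16085, 17995), (16086, 12082), (16087, 11628), (16088, 19765), (16089, 19766), (16090, 19767), (16091, 11637), (16092, 16112), (16093, 11632), (16094, 11633), (16095, 11634), (16096, 19774), (16097, 19775), (16098, 19776), (16099, 19777), (16100,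 19768), (16101, 19770), (16102, 18320), (16103, 19771), (16104, 11639), (16105, 19786), (16106, 19787), (16107, 19788), (16108, 16034), (16109, 14476), (16110, 16033), (16111, 19785), (16112, 16092), (16113, 11643), (16114, 11644), (16115, 11645), (16116, 19802), (16117, 19803), (16118, 19807), (16119, 19808), (16120, 11647), (16121, 11648), (16122, 19811), (16123, 19812), (16124, 19813), (16125, 18734), (16126, 11652), (16127, 11653)]
    ⟨e3 q16064 (flp_c L233673) q19741, e3 q16065 (flp_c L213009) q17214, e3 q16066 (flp_c L213017) q17215, e3 q16067 (flp_c L211957) q17069, e3 q16068 L228778 q19181, e3 q16069 (flp_c L231056) q19433, e3 q16070 L233727 q19748, e3 q16071 (flp_c L206388) q16146, e3 q16072 (flp_c L231134) q19445, e3 q16073 (flp_c L231146) q19446, e3 q16074 L206382 q12010, e3 q16075 L233817 q19757, e3 q16076 L203825 q14939, e3 q16077 L215657 q17514, e3 q16078 (flp_c L203839) q11617, e3 q16079 (flp_c L233847) q19760, e3 q16080 (flp_c L203852) q11621, e3 q16081 L203861 q11623, e3 q16082 (flp_c L203867)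 q11624, e3 q16083 (flp_c L233853) q19761, e3 q16084 (flp_c L233861) q19762, e3 q16085 (flp_c L220030) q17995, e3 q16086 L203897 q12082, e3 q16087 (flp_c L203903) q11628, e3 q16088 (flp_c L233887) q19765, e3 q16089 (flp_c L233893) q19766, e3 q16090 (flp_c L233899) q19767, e3 q16091 L203931 q11637, e3 q16092 (flp_c L204057) q16112, e3 q16093 L203937 q11632, e3 q16094 L203941 q11633, e3 q16095 L203945 q11634, e3 q16096 (flp_c L233941) q19774, e3 q16097 (flp_c L233947) q19775, e3 q16098 (flp_c L233955) q19776, e3 q16099 (flp_c L233963) q19777, e3 q16100 (flp_c L233903) q19768, e3 q16101 (flp_c L233919) q19770, e3 q16102 L222088 q18320, e3 q16103 (flp_c L233923) q19771, e3 q16104 (flp_c L203995) q11639, e3 q16105 (flp_c L234025) q19786, e3 q16106 (flp_c L234035) q19787, e3 q16107 (flp_c L234043) q19788, e3 q16108 L204019 q16034, e3 q16109 (flp_c L204037) q14476, e3 q16110 L204043 q16033, e3 q16111 (flp_c L234017) q19785, e3 q16112 L204057 q16092, e3 q16113 L204063 q11643, e3 q16114 L204069 q11644, e3 q16115 L204075 q11645,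 e3 q16116 (flp_c L234157) q19802, e3 q16117 (flp_c L234165) q19803, e3 q16118 L234199 q19807, e3 q16119 L234205 q19808, e3 q16120 (flp_c L204111) q11647, e3 q16121 (flp_c L204121) q11648, e3 q16122 (flp_c L234235) q19811, e3 q16123 (flp_c L234243) q19812, e3 q16124 (flp_c L234251) q19813, e3 q16125 (flp_c L225755) q18734, e3 q16126 L204145 q11652, e3 q16127 L204151 q11653, trivial⟩ (by decide +kernel)

theorem ce_c_252 : ∀ r, r < 64 → sm gc (Qf (16128 + r)) = Qf (tab Gen.c (16128 + r)) :=
  edges_tab (sm gc) Qf (tab Gen.c) 16128 [(16128, 13851), (16129, 11654), (16130, 15979), (16131, 11655), (16132, 19822), (16133, 19823), (16134, 19830), (16135, 16512), (16136, 19833), (16137, 11656), (16138, 19835), (16139, 11657), (16140, 14322), (16141, 17290), (16142, 17156), (16143, 17291), (16144, 19634), (16145, 19044), (16146, 16071), (16147, 19844), (16148, 19645), (16149, 19647), (16150, 19849), (16151, 12195), (16152, 11667), (16153, 16168), (16154, 15297), (16155, 19853), (16156, 17180), (16157, 17360), (16158, 15166),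 (16159, 17818), (16160, 17819), (16161, 11669), (16162, 19864), (16163, 19865), (16164, 19866), (16165, 17820), (16166, 17821), (16167, 11674), (16168, 16153), (16169, 15244), (16170, 17099), (16171, 19872), (16172, 17386), (16173, 15200), (16174, 17803), (16175, 17804), (16176, 11676), (16177, 19882), (16178, 19883), (16179, 19884), (16180, 17805), (16181, 17806), (16182, 11713), (16183, 11734), (16184, 11722), (16185, 11777), (16186, 16186), (16187, 16187), (16188, 12184), (16189, 11701), (16190, 16503), (16191, 11986)]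
    ⟨e3 q16128 L204157 q13851, e3 q16129 L204163 q11654, e3 q16130 L204169 q15979, e3 q16131 L204177 q11655, e3 q16132 (flp_c L234321) q19822, e3 q16133 (flp_c L234337) q19823, e3 q16134 L234387 q19830, e3 q16135 (flp_c L207333) q16512, e3 q16136 L234413 q19833, e3 q16137 (flp_c L204217) q11656, e3 q16138 (flp_c L234435) q19835, e3 q16139 (flp_c L204231) q11657, e3 q16140 L204243 q14322, e3 q16141 (flp_c L213511) q17290, e3 q16142 (flp_c L212601) q17156, e3 q16143 (flp_c L213519) q17291, e3 q16144 (flp_c L232837) q19634, e3 q16145 L227845 q19044, e3 q16146 L206388 q16071, e3 q16147 L234519 q19844, e3 q16148 (flp_c L232907) q19645, e3 q16149 (flp_c L232929) q19647, e3 q16150 L234569 q19849, e3 q16151 (flp_c L206392) q12195, e3 q16152 L204327 q11667, e3 q16153 (flp_c L204419) q16168, e3 q16154 L204336 q15297, e3 q16155 (flp_c L234607) q19853, e3 q16156 L212765 q17180, e3 q16157 (flp_c L213998) q17360, e3 q16158 (flp_c L204360) q15166, e3 q16159 (flp_c L218034) q17818, e3 q16160 (flp_c L218044) q17819, e3 q16161 (flp_c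 L204370) q11669, e3 q16162 (flp_c L234697) q19864, e3 q16163 (flp_c L234703) q19865, e3 q16164 (flp_c L234713) q19866, e3 q16165 (flp_c L218052) q17820, e3 q16166 (flp_c L218064) q17821, e3 q16167 L204408 q11674, e3 q16168 L204419 q16153, e3 q16169 L204423 q15244, e3 q16170 (flp_c L212173) q17099, e3 q16171 (flp_c L234753) q19872, e3 q16172 (flp_c L214319) q17386, e3 q16173 (flp_c L204447) q15200, e3 q16174 (flp_c L217888) q17803, e3 q16175 (flp_c L217898) q17804, e3 q16176 (flp_c L204457) q11676, e3 q16177 (flp_c L234843) q19882, e3 q16178 (flp_c L234849) q19883, e3 q16179 (flp_c L234859) q19884, e3 q16180 (flp_c L217906) q17805, e3 q16181 (flp_c L217918) q17806, e3 q16182 L204493 q11713, e3 q16183 L204504 q11734, e3 q16184 L204514 q11722, e3 q16185 L204525 q11777, e3 q16186 L204536 q16186, e3 q16187 L204547 q16187, e3 q16188 L204561 q12184, e3 q16189 L204571 q11701, e3 q16190 (flp_c L207247) q16503, e3 q16191 L204587 q11986, trivial⟩ (by decide +kernel)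

theorem ce_c_253 : ∀ r, r < 64 → sm gc (Qf (16192 + r)) = Qf (tab Gen.c (16192 + r)) :=
  edges_tab (sm gc) Qf (tab Gen.c) 16192 [(16192, 11707), (16193, 16370), (16194, 16448), (16195, 19890), (16196, 12104), (16197, 16207), (16198, 11716), (16199, 16295), (16200, 19891), (16201, 11895), (16202, 16237), (16203, 11725), (16204, 12107), (16205, 11735), (16206, 19894), (16207, 16197), (16208, 11738), (16209, 11739), (16210, 15574), (16211, 13334), (16212, 12308), (16213, 12309), (16214, 19898), (16215, 13318), (16216, 11748), (16217, 16247), (16218, 13017), (16219, 13014), (16220, 13511), (16221, 19901), (16222, 18606), (16223, 11758), (16224, 18558), (16225, 12234), (16226, 16775), (16227, 19906), (16228, 11778), (16229, 11765), (16230, 17484), (16231, 16647), (16232, 11766), (16233, 14097), (16234, 11768), (16235, 11898), (16236, 19907), (16237, 16202), (16238, 11781), (16239, 11782), (16240, 15814), (16241, 13341), (16242, 12249), (16243, 12250), (16244, 19911), (16245, 13343), (16246, 11791), (16247, 16217),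 (16248, 13088), (16249, 13085), (16250, 13535), (16251, 19914), (16252, 18610), (16253, 11801), (16254, 18572), (16255, 12292)]
    ⟨e3 q16192 L204597 q11707, e3 q16193 (flp_c L206102) q16370, e3 q16194 (flp_c L206791) q16448, e3 q16195 (flp_c L234899) q19890, e3 q16196 (flp_c L204629) q12104, e3 q16197 L204727 q16207, e3 q16198 L204644 q11716, e3 q16199 (flp_c L205480) q16295, e3 q16200 (flp_c L234911) q19891, e3 q16201 (flp_c L204670) q11895, e3 q16202 L204961 q16237, e3 q16203 L204685 q11725, e3 q16204 (flp_c L204701) q12107, e3 q16205 (flp_c L204703) q11735, e3 q16206 (flp_c L234951) q19894, e3 q16207 (flp_c L204727) q16197, e3 q16208 L204735 q11738, e3 q16209 L204744 q11739, e3 q16210 L204752 q15574, e3 q16211 (flp_c L204762) q13334, e3 q16212 L204772 q12308, e3 q16213 L204776 q12309, e3 q16214 L234991 q19898, e3 q16215 L204792 q13318, e3 q16216 (flp_c L204796) q11748, e3 q16217 L205061 q16247, e3 q16218 L204821 q13017, e3 q16219 L204831 q13014, e3 q16220 L204841 q13511, e3 q16221 L235017 q19901, e3 q16222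 L224843 q18606, e3 q16223 (flp_c L204855) q11758, e3 q16224 (flp_c L224417) q18558, e3 q16225 L204875 q12234, e3 q16226 (flp_c L209649) q16775, e3 q16227 L235059 q19906, e3 q16228 (flp_c L204894) q11778, e3 q16229 L204898 q11765, e3 q16230 L215363 q17484, e3 q16231 L208519 q16647, e3 q16232 (flp_c L204916) q11766, e3 q16233 (flp_c L204922) q14097, e3 q16234 (flp_c L204924) q11768, e3 q16235 (flp_c L204944) q11898, e3 q16236 (flp_c L235071) q19907, e3 q16237 (flp_c L204961) q16202, e3 q16238 L204969 q11781, e3 q16239 L204980 q11782, e3 q16240 L204992 q15814, e3 q16241 (flp_c L205008) q13341, e3 q16242 L205014 q12249, e3 q16243 L205018 q12250, e3 q16244 L235111 q19911, e3 q16245 L205034 q13343, e3 q16246 (flp_c L205038) q11791, e3 q16247 (flp_c L205061) q16217, e3 q16248 L205069 q13088, e3 q16249 L205079 q13085, e3 q16250 L205089 q13535, e3 q16251 L235137 q19914, e3 q16252 L224877 q18610, e3 q16253 (flp_c L205103) q11801, e3 q16254 (flp_c L224539) q18572, e3 q16255 L205123 q12292, trivial⟩ (by decide +kernel)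

theorem ce_c_254 : ∀ r, r < 64 → sm gc (Qf (16256 + r)) = Qf (tab Gen.c (16256 + r)) :=
  edges_tab (sm gc) Qf (tab Gen.c) 16256 [(16256, 16770), (16257, 19919), (16258, 11808), (16259, 17493), (16260, 16665), (16261, 11809), (16262, 14041), (16263, 11811), (16264, 12855), (16265, 11814), (16266, 13938), (16267, 18173), (16268, 11817), (16269, 19922), (16270, 16870), (16271, 11818), (16272, 19924), (16273, 13521), (16274, 11820), (16275, 16653), (16276, 11821), (16277, 17465), (16278, 13733), (16279, 14144), (16280, 14330), (16281, 11835), (16282, 14329), (16283, 13967), (16284, 16439), (16285, 18176), (16286, 15003), (16287, 15013), (16288, 11844), (16289, 11846), (16290, 16445), (16291, 16447), (16292, 12109), (16293, 19892), (16294, 16444), (16295, 16199), (16296, 11863), (16297, 11867), (16298, 18609), (16299, 12086), (16300, 13710), (16301, 11877), (16302, 12956), (16303, 18124), (16304, 17884), (16305, 19669), (16306, 14136), (16307, 13110), (16308, 11884), (16309, 12464), (16310, 11888), (16311, 11889),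 (16312, 17455), (16313, 11893), (16314, 16464), (16315, 19932), (16316, 12103), (16317, 11894), (16318, 16465), (16319, 16362)]
    ⟨e3 q16256 (flp_c L209591) q16770, e3 q16257 L235179 q19919, e3 q16258 L205143 q11808, e3 q16259 L215451 q17493, e3 q16260 L208692 q16665, e3 q16261 (flp_c L205163) q11809, e3 q16262 (flp_c L205169) q14041, e3 q16263 (flp_c L205171) q11811, e3 q16264 L205187 q12855, e3 q16265 (flp_c L205191) q11814, e3 q16266 (flp_c L205223) q13938, e3 q16267 L220988 q18173, e3 q16268 (flp_c L205229) q11817, e3 q16269 (flp_c L235207) q19922, e3 q16270 (flp_c L210431) q16870, e3 q16271 (flp_c L205250) q11818, e3 q16272 (flp_c L235227) q19924, e3 q16273 (flp_c L205275) q13521, e3 q16274 L205281 q11820, e3 q16275 (flp_c L208564) q16653, e3 q16276 (flp_c L205295) q11821, e3 q16277 (flp_c L215169) q17465, e3 q16278 L205316 q13733, e3 q16279 L205320 q14144, e3 q16280 L205334 q14330, e3 q16281 L205346 q11835, e3 q16282 L205356 q14329, e3 q16283 L205374 q13967, e3 q16284 (flp_c L206693) q16439, e3 q16285 (flp_c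 L221006) q18176, e3 q16286 L205386 q15003, e3 q16287 L205401 q15013, e3 q16288 (flp_c L205409) q11844, e3 q16289 L205426 q11846, e3 q16290 (flp_c L206763) q16445, e3 q16291 (flp_c L206777) q16447, e3 q16292 L205448 q12109, e3 q16293 (flp_c L234925) q19892, e3 q16294 (flp_c L206753) q16444, e3 q16295 L205480 q16199, e3 q16296 (flp_c L205488) q11863, e3 q16297 L205500 q11867, e3 q16298 L224869 q18609, e3 q16299 (flp_c L205522) q12086, e3 q16300 L205528 q13710, e3 q16301 L205540 q11877, e3 q16302 L205550 q12956, e3 q16303 (flp_c L220592) q18124, e3 q16304 (flp_c L218692) q17884, e3 q16305 (flp_c L233123) q19669, e3 q16306 L205580 q14136, e3 q16307 (flp_c L205596) q13110, e3 q16308 (flp_c L205598) q11884, e3 q16309 L205615 q12464, e3 q16310 L205623 q11888, e3 q16311 (flp_c L205627) q11889, e3 q16312 L215078 q17455, e3 q16313 (flp_c L205641) q11893, e3 q16314 (flp_c L206946) q16464, e3 q16315 (flp_c L235314) q19932, e3 q16316 L205669 q12103, e3 q16317 (flp_c L205671) q11894, e3 q16318 (flp_c L206958) q16465, e3 q16319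 (flp_c L206032) q16362, trivial⟩ (by decide +kernel)

theorem ce_c_255 : ∀ r, r < 64 → sm gc (Qf (16320 + r)) = Qf (tab Gen.c (16320 + r)) :=
  edges_tab (sm gc) Qf (tab Gen.c) 16320 [(16320, 11901), (16321, 12751), (16322, 12187), (16323, 16848), (16324, 11940), (16325, 11941), (16326, 12143), (16327, 15791), (16328, 11938), (16329, 11972), (16330, 11932), (16331, 19934), (16332, 11935), (16333, 11937), (16334, 16412), (16335, 19936), (16336, 13460), (16337, 19428), (16338, 19933), (16339, 16353), (16340, 19939), (16341, 11948), (16342, 17933), (16343, 11947), (16344, 16352), (16345, 19426), (16346, 11945), (16347, 19944), (16348, 19942), (16349, 16620), (16350, 17322), (16351, 16627), (16352, 16344), (16353, 16339), (16354, 11956), (16355, 14719), (16356, 13978), (16357, 16497), (16358, 13711), (16359, 13962), (16360, 12031), (16361, 16363), (16362, 16319), (16363, 16361), (16364, 11992), (16365, 11993), (16366, 11994), (16367, 19952), (16368, 11987), (16369, 12000), (16370, 16193), (16371, 12755), (16372, 11991),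 (16373, 13428), (16374, 19949), (16375, 13362), (16376, 14723), (16377, 19847), (16378, 19951), (16379, 16591), (16380, 17428), (16381, 13385), (16382, 11996), (16383, 19627)]
    ⟨e3 q16320 L205705 q11901, e3 q16321 (flp_c L205721) q12751, e3 q16322 L205727 q12187, e3 q16323 (flp_c L210213) q16848, e3 q16324 L205741 q11940, e3 q16325 L205753 q11941, e3 q16326 L205765 q12143, e3 q16327 L205771 q15791, e3 q16328 L205781 q11938, e3 q16329 L205789 q11972, e3 q16330 (flp_c L205796) q11932, e3 q16331 (flp_c L235340) q19934, e3 q16332 L205812 q11935, e3 q16333 L205816 q11937, e3 q16334 L206452 q16412, e3 q16335 (flp_c L235354) q19936, e3 q16336 L205838 q13460, e3 q16337 (flp_c L231026) q19428, e3 q16338 (flp_c L235330) q19933, e3 q16339 (flp_c L205951) q16353, e3 q16340 L235382 q19939, e3 q16341 L205874 q11948, e3 q16342 (flp_c L219164) q17933, e3 q16343 L205886 q11947, e3 q16344 (flp_c L205941) q16352, e3 q16345 (flp_c L231008) q19426, e3 q16346 (flp_c L205909) q11945, e3 q16347 (flp_c L235429) q19944, e3 q16348 (flp_c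 L235410) q19942, e3 q16349 (flp_c L208233) q16620, e3 q16350 (flp_c L213725) q17322, e3 q16351 (flp_c L208309) q16627, e3 q16352 L205941 q16344, e3 q16353 L205951 q16339, e3 q16354 L205963 q11956, e3 q16355 L205972 q14719, e3 q16356 L205980 q13978, e3 q16357 (flp_c L207203) q16497, e3 q16358 L205990 q13711, e3 q16359 L206002 q13962, e3 q16360 L206014 q12031, e3 q16361 (flp_c L206042) q16363, e3 q16362 L206032 q16319, e3 q16363 L206042 q16361, e3 q16364 L206050 q11992, e3 q16365 L206062 q11993, e3 q16366 L206068 q11994, e3 q16367 L235499 q19952, e3 q16368 L206080 q11987, e3 q16369 L206090 q12000, e3 q16370 L206102 q16193, e3 q16371 (flp_c L206116) q12755, e3 q16372 L206122 q11991, e3 q16373 (flp_c L206134) q13428, e3 q16374 (flp_c L235473) q19949, e3 q16375 L206146 q13362, e3 q16376 L206156 q14723, e3 q16377 (flp_c L234553) q19847, e3 q16378 (flp_c L235491) q19951, e3 q16379 L207983 q16591, e3 q16380 (flp_c L214811) q17428, e3 q16381 L206186 q13385, e3 q16382 (flp_c L206194) q11996, e3 q16383 (flp_c L232775) q19627,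 trivial⟩ (by decide +kernel)

theorem ce_c_256 : ∀ r, r < 64 → sm gc (Qf (16384 + r)) = Qf (tab Gen.c (16384 + r)) :=
  edges_tab (sm gc) Qf (tab Gen.c) 16384 [(16384, 15813), (16385, 13481), (16386, 15816), (16387, 16749), (16388, 15812), (16389, 12002), (16390, 19963), (16391, 14704), (16392, 13302), (16393, 19754), (16394, 12265), (16395, 12266), (16396, 12007), (16397, 12009), (16398, 19752), (16399, 16555), (16400, 19970), (16401, 13339), (16402, 17414), (16403, 19755), (16404, 16058), (16405, 12270), (16406, 12271), (16407, 16516), (16408, 12015), (16409, 19629), (16410, 15732), (16411, 19630), (16412, 16334), (16413, 19979), (16414, 12021), (16415, 12022), (16416, 16419), (16417, 12025), (16418, 12026), (16419, 16416), (16420, 12028), (16421, 12862), (16422, 18119), (16423, 12032), (16424, 19983), (16425, 16871), (16426, 12033), (16427, 19985), (16428, 13491), (16429, 12035), (16430, 16671), (16431, 12036), (16432, 17440), (16433, 13758), (16434, 14134), (16435, 14386), (16436, 12049), (16437, 14384), (16438,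 13946), (16439, 16284), (16440, 15016), (16441, 14999), (16442, 12057), (16443, 12059), (16444, 16294), (16445, 16290), (16446, 19893), (16447, 16291)]
    ⟨e3 q16384 L206214 q15813, e3 q16385 L206234 q13481, e3 q16386 L206242 q15816, e3 q16387 L209411 q16749, e3 q16388 L206256 q15812, e3 q16389 (flp_c L206264) q12002, e3 q16390 (flp_c L235611) q19963, e3 q16391 L206284 q14704, e3 q16392 L206294 q13302, e3 q16393 (flp_c L233789) q19754, e3 q16394 L206308 q12265, e3 q16395 L206316 q12266, e3 q16396 L206324 q12007, e3 q16397 L206330 q12009, e3 q16398 (flp_c L233773) q19752, e3 q16399 L207688 q16555, e3 q16400 (flp_c L235673) q19970, e3 q16401 L206352 q13339, e3 q16402 (flp_c L214663) q17414, e3 q16403 (flp_c L233801) q19755, e3 q16404 (flp_c L206378) q16058, e3 q16405 L206396 q12270, e3 q16406 L206406 q12271, e3 q16407 (flp_c L207363) q16516, e3 q16408 (flp_c L206418) q12015, e3 q16409 (flp_c L232799) q19629, e3 q16410 (flp_c L206438) q15732, e3 q16411 (flp_c L232809) q19630, e3 q16412 (flp_c L206452) q16334, e3 q16413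 L235747 q19979, e3 q16414 (flp_c L206464) q12021, e3 q16415 (flp_c L206472) q12022, e3 q16416 (flp_c L206516) q16419, e3 q16417 L206496 q12025, e3 q16418 (flp_c L206502) q12026, e3 q16419 L206516 q16416, e3 q16420 L206528 q12028, e3 q16421 L206538 q12862, e3 q16422 L220558 q18119, e3 q16423 (flp_c L206548) q12032, e3 q16424 (flp_c L235793) q19983, e3 q16425 (flp_c L210443) q16871, e3 q16426 (flp_c L206569) q12033, e3 q16427 (flp_c L235813) q19985, e3 q16428 (flp_c L206596) q13491, e3 q16429 L206602 q12035, e3 q16430 (flp_c L208737) q16671, e3 q16431 (flp_c L206616) q12036, e3 q16432 (flp_c L214930) q17440, e3 q16433 L206637 q13758, e3 q16434 L206641 q14134, e3 q16435 L206655 q14386, e3 q16436 L206667 q12049, e3 q16437 L206677 q14384, e3 q16438 L206689 q13946, e3 q16439 L206693 q16284, e3 q16440 L206705 q15016, e3 q16441 L206720 q14999, e3 q16442 (flp_c L206728) q12057, e3 q16443 L206743 q12059, e3 q16444 L206753 q16294, e3 q16445 L206763 q16290, e3 q16446 (flp_c L234937) q19893, e3 q16447 L206777 q16291, trivial⟩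 (by decide +kernel)

theorem ce_c_257 : ∀ r, r < 64 → sm gc (Qf (16448 + r)) = Qf (tab Gen.c (16448 + r)) :=
  edges_tab (sm gc) Qf (tab Gen.c) 16448 [(16448, 16194), (16449, 12076), (16450, 12080), (16451, 18604), (16452, 13032), (16453, 17907), (16454, 19763), (16455, 14133), (16456, 13168), (16457, 12093), (16458, 12498), (16459, 12097), (16460, 12098), (16461, 17430), (16462, 12102), (16463, 19927), (16464, 16314), (16465, 16318), (16466, 16499), (16467, 16850), (16468, 12144), (16469, 12145), (16470, 15553), (16471, 12172), (16472, 12137), (16473, 19993), (16474, 12140), (16475, 12141), (16476, 19995), (16477, 16519), (16478, 13408), (16479, 19992), (16480, 16493), (16481, 19998), (16482, 17943), (16483, 12151), (16484, 16492), (16485, 12150), (16486, 12148), (16487, 20003), (16488, 20002), (16489, 16608), (16490, 17245), (16491, 16604), (16492, 16484), (16493, 16480), (16494, 12159), (16495, 14738), (16496, 13958), (16497, 16357), (16498, 16500), (16499, 16466), (16500, 16498), (16501, 20008), (16502, 12183),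 (16503, 16190), (16504, 12190), (16505, 15573), (16506, 15576), (16507, 15572), (16508, 16746), (16509, 19851), (16510, 12324), (16511, 12325)]
    ⟨e3 q16448 L206791 q16194, e3 q16449 (flp_c L206799) q12076, e3 q16450 L206813 q12080, e3 q16451 L224821 q18604, e3 q16452 L206833 q13032, e3 q16453 (flp_c L218912) q17907, e3 q16454 (flp_c L233871) q19763, e3 q16455 L206855 q14133, e3 q16456 (flp_c L206871) q13168, e3 q16457 (flp_c L206873) q12093, e3 q16458 L206890 q12498, e3 q16459 L206902 q12097, e3 q16460 (flp_c L206908) q12098, e3 q16461 L214843 q17430, e3 q16462 (flp_c L206926) q12102, e3 q16463 (flp_c L235258) q19927, e3 q16464 L206946 q16314, e3 q16465 L206958 q16318, e3 q16466 (flp_c L207215) q16499, e3 q16467 (flp_c L210234) q16850, e3 q16468 L206982 q12144, e3 q16469 L206994 q12145, e3 q16470 L207002 q15553, e3 q16471 L207012 q12172, e3 q16472 (flp_c L207019) q12137, e3 q16473 (flp_c L235898) q19993, e3 q16474 L207035 q12140, e3 q16475 L207039 q12141, e3 q16476 (flp_c L235912) q19995, e3 q16477 L207389 q16519,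 e3 q16478 L207061 q13408, e3 q16479 (flp_c L235888) q19992, e3 q16480 (flp_c L207168) q16493, e3 q16481 L235940 q19998, e3 q16482 (flp_c L219266) q17943, e3 q16483 L207095 q12151, e3 q16484 (flp_c L207156) q16492, e3 q16485 L207113 q12150, e3 q16486 (flp_c L207118) q12148, e3 q16487 (flp_c L235987) q20003, e3 q16488 (flp_c L235978) q20002, e3 q16489 (flp_c L208142) q16608, e3 q16490 L213209 q17245, e3 q16491 (flp_c L208112) q16604, e3 q16492 L207156 q16484, e3 q16493 L207168 q16480, e3 q16494 L207180 q12159, e3 q16495 L207189 q14738, e3 q16496 L207197 q13958, e3 q16497 L207203 q16357, e3 q16498 (flp_c L207225) q16500, e3 q16499 L207215 q16466, e3 q16500 L207225 q16498, e3 q16501 L236033 q20008, e3 q16502 L207237 q12183, e3 q16503 L207247 q16190, e3 q16504 L207259 q12190, e3 q16505 L207269 q15573, e3 q16506 L207287 q15576, e3 q16507 L207295 q15572, e3 q16508 L209389 q16746, e3 q16509 (flp_c L234585) q19851, e3 q16510 L207319 q12324, e3 q16511 L207327 q12325, trivial⟩ (by decide +kernel)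

theorem ce_c_258 : ∀ r, r < 64 → sm gc (Qf (16512 + r)) = Qf (tab Gen.c (16512 + r)) :=
  edges_tab (sm gc) Qf (tab Gen.c) 16512 [(16512, 16135), (16513, 19852), (16514, 12329), (16515, 12330), (16516, 16407), (16517, 15957), (16518, 19429), (16519, 16477), (16520, 20016), (16521, 12204), (16522, 12205), (16523, 16526), (16524, 12208), (16525, 12209), (16526, 16523), (16527, 12211), (16528, 12216), (16529, 17501), (16530, 16544), (16531, 16545), (16532, 20020), (16533, 12231), (16534, 15266), (16535, 18879), (16536, 12242), (16537, 12238), (16538, 15131), (16539, 19532), (16540, 15273), (16541, 20022), (16542, 15130), (16543, 15127), (16544, 16530), (16545, 16531), (16546, 20027), (16547, 12247), (16548, 20029), (16549, 19909), (16550, 14885), (16551, 12251), (16552, 20034), (16553, 14036), (16554, 12256), (16555, 16399), (16556, 12979), (16557, 12261), (16558, 12263), (16559, 12264), (16560, 18080), (16561, 12268), (16562, 14943), (16563, 12275), (16564, 17506), (16565, 16579), (16566, 16580), (16567, 20040),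 (16568, 12289), (16569, 18934), (16570, 15319), (16571, 12301), (16572, 12296), (16573, 15119), (16574, 19304), (16575, 15220)]
    ⟨e3 q16512 L207333 q16135, e3 q16513 (flp_c L234597) q19852, e3 q16514 L207343 q12329, e3 q16515 L207353 q12330, e3 q16516 L207363 q16407, e3 q16517 (flp_c L207373) q15957, e3 q16518 (flp_c L231034) q19429, e3 q16519 (flp_c L207389) q16477, e3 q16520 L236097 q20016, e3 q16521 (flp_c L207401) q12204, e3 q16522 (flp_c L207409) q12205, e3 q16523 (flp_c L207453) q16526, e3 q16524 L207433 q12208, e3 q16525 (flp_c L207439) q12209, e3 q16526 L207453 q16523, e3 q16527 L207465 q12211, e3 q16528 (flp_c L207469) q12216, e3 q16529 (flp_c L215522) q17501, e3 q16530 (flp_c L207616) q16544, e3 q16531 (flp_c L207622) q16545, e3 q16532 L236139 q20020, e3 q16533 L207507 q12231, e3 q16534 L207515 q15266, e3 q16535 (flp_c L226623) q18879, e3 q16536 L207535 q12242, e3 q16537 L207547 q12238, e3 q16538 L207559 q15131, e3 q16539 (flp_c L231916) q19532, e3 q16540 L207579 q15273, e3 q16541 L236153 q20022, e3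 q16542 L207597 q15130, e3 q16543 L207607 q15127, e3 q16544 L207616 q16530, e3 q16545 L207622 q16531, e3 q16546 L236191 q20027, e3 q16547 L207636 q12247, e3 q16548 L236207 q20029, e3 q16549 (flp_c L235095) q19909, e3 q16550 (flp_c L207658) q14885, e3 q16551 (flp_c L207660) q12251, e3 q16552 (flp_c L236239) q20034, e3 q16553 L207670 q14036, e3 q16554 L207676 q12256, e3 q16555 (flp_c L207688) q16399, e3 q16556 (flp_c L207698) q12979, e3 q16557 (flp_c L207700) q12261, e3 q16558 L207712 q12263, e3 q16559 (flp_c L207714) q12264, e3 q16560 (flp_c L220266) q18080, e3 q16561 L207734 q12268, e3 q16562 L207744 q14943, e3 q16563 (flp_c L207754) q12275, e3 q16564 (flp_c L215572) q17506, e3 q16565 (flp_c L207901) q16579, e3 q16566 (flp_c L207907) q16580, e3 q16567 L236278 q20040, e3 q16568 L207792 q12289, e3 q16569 (flp_c L227048) q18934, e3 q16570 L207806 q15319, e3 q16571 L207820 q12301, e3 q16572 L207832 q12296, e3 q16573 L207844 q15119, e3 q16574 (flp_c L229826) q19304, e3 q16575 L207864 q15220, trivial⟩ (by decide +kernel)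

theorem ce_c_259 : ∀ r, r < 64 → sm gc (Qf (16576 + r)) = Qf (tab Gen.c (16576 + r)) :=
  edges_tab (sm gc) Qf (tab Gen.c) 16576 [(16576, 20042), (16577, 15118), (16578, 15115), (16579, 16565), (16580, 16566), (16581, 20047), (16582, 12305), (16583, 20049), (16584, 19896), (16585, 14853), (16586, 12310), (16587, 20054), (16588, 14093), (16589, 12314), (16590, 13054), (16591, 16379), (16592, 12318), (16593, 12320), (16594, 12323), (16595, 18134), (16596, 12328), (16597, 14991), (16598, 13587), (16599, 15637), (16600, 14737), (16601, 12343), (16602, 18382), (16603, 16855), (16604, 16491), (16605, 20060), (16606, 12362), (16607, 12363), (16608, 16489), (16609, 14871), (16610, 17605), (16611, 20065), (16612, 12404), (16613, 14900), (16614, 12368), (16615, 20069), (16616, 20070), (16617, 12507), (16618, 20072), (16619, 12373), (16620, 16349), (16621, 13562), (16622, 15871), (16623, 14718), (16624, 12389), (16625, 18444), (16626, 16864), (16627, 16351), (16628, 20077), (16629, 17577), (16630, 20078), (16631, 12408),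 (16632, 20080), (16633, 20081), (16634, 12508), (16635, 20083), (16636, 13705), (16637, 14914), (16638, 13757), (16639, 12417)]
    ⟨e3 q16576 L236292 q20042, e3 q16577 L207882 q15118, e3 q16578 L207892 q15115, e3 q16579 L207901 q16565, e3 q16580 L207907 q16566, e3 q16581 L236330 q20047, e3 q16582 L207921 q12305, e3 q16583 L236346 q20049, e3 q16584 (flp_c L234975) q19896, e3 q16585 (flp_c L207943) q14853, e3 q16586 (flp_c L207945) q12310, e3 q16587 (flp_c L236378) q20054, e3 q16588 L207955 q14093, e3 q16589 L207961 q12314, e3 q16590 (flp_c L207975) q13054, e3 q16591 (flp_c L207983) q16379, e3 q16592 (flp_c L207985) q12318, e3 q16593 L207999 q12320, e3 q16594 (flp_c L208003) q12323, e3 q16595 (flp_c L220696) q18134, e3 q16596 L208023 q12328, e3 q16597 L208033 q14991, e3 q16598 L208047 q13587, e3 q16599 L208063 q15637, e3 q16600 L208077 q14737, e3 q16601 L208088 q12343, e3 q16602 (flp_c L222994) q18382, e3 q16603 (flp_c L210287) q16855, e3 q16604 L208112 q16491, e3 q16605 L236421 q20060, e3 q16606 L208124 q12362,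 e3 q16607 L208134 q12363, e3 q16608 L208142 q16489, e3 q16609 L208153 q14871, e3 q16610 (flp_c L216369) q17605, e3 q16611 L236464 q20065, e3 q16612 L208177 q12404, e3 q16613 L208187 q14900, e3 q16614 (flp_c L208193) q12368, e3 q16615 (flp_c L236496) q20069, e3 q16616 (flp_c L236500) q20070, e3 q16617 L208209 q12507, e3 q16618 L236508 q20072, e3 q16619 L208223 q12373, e3 q16620 L208233 q16349, e3 q16621 L208244 q13562, e3 q16622 L208260 q15871, e3 q16623 L208274 q14718, e3 q16624 L208285 q12389, e3 q16625 (flp_c L223421) q18444, e3 q16626 (flp_c L210375) q16864, e3 q16627 L208309 q16351, e3 q16628 L236557 q20077, e3 q16629 (flp_c L216171) q17577, e3 q16630 L236561 q20078, e3 q16631 (flp_c L208335) q12408, e3 q16632 (flp_c L236575) q20080, e3 q16633 (flp_c L236581) q20081, e3 q16634 L208357 q12508, e3 q16635 L236595 q20083, e3 q16636 L208373 q13705, e3 q16637 L208387 q14914, e3 q16638 L208399 q13757, e3 q16639 (flp_c L208407) q12417, trivial⟩ (by decide +kernel)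

theorem ce_c_260 : ∀ r, r < 64 → sm gc (Qf (16640 + r)) = Qf (tab Gen.c (16640 + r)) :=
  edges_tab (sm gc) Qf (tab Gen.c) 16640 [(16640, 13707), (16641, 16792), (16642, 14961), (16643, 13732), (16644, 12433), (16645, 12440), (16646, 14907), (16647, 16231), (16648, 14925), (16649, 17840), (16650, 12443), (16651, 14173), (16652, 17191), (16653, 16275), (16654, 13672), (16655, 14059), (16656, 12452), (16657, 20091), (16658, 12500), (16659, 13959), (16660, 17517), (16661, 13984), (16662, 16818), (16663, 12476), (16664, 14955), (16665, 16260), (16666, 14973), (16667, 17830), (16668, 12479), (16669, 14194), (16670, 17267), (16671, 16430), (16672, 13675), (16673, 14112), (16674, 12488), (16675, 20099), (16676, 12502), (16677, 13935), (16678, 17519), (16679, 13980), (16680, 20100), (16681, 20101), (16682, 12841), (16683, 12509), (16684, 20104), (16685, 20105), (16686, 12511), (16687, 20109), (16688, 12847), (16689, 12512), (16690, 20112), (16691, 20113), (16692, 12514), (16693, 20117), (16694, 18526), (16695, 18527),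 (16696, 19089), (16697, 12523), (16698, 20120), (16699, 20121), (16700, 12524), (16701, 20123), (16702, 18492), (16703, 12526)]
    ⟨e3 q16640 L208423 q13707, e3 q16641 (flp_c L209781) q16792, e3 q16642 L208449 q14961, e3 q16643 L208461 q13732, e3 q16644 L208473 q12433, e3 q16645 L208489 q12440, e3 q16646 L208499 q14907, e3 q16647 (flp_c L208519) q16231, e3 q16648 L208525 q14925, e3 q16649 (flp_c L218290) q17840, e3 q16650 L208541 q12443, e3 q16651 L208549 q14173, e3 q16652 (flp_c L212841) q17191, e3 q16653 L208564 q16275, e3 q16654 L208574 q13672, e3 q16655 L208586 q14059, e3 q16656 L208598 q12452, e3 q16657 L236677 q20091, e3 q16658 L208614 q12500, e3 q16659 L208626 q13959, e3 q16660 (flp_c L215677) q17517, e3 q16661 L208640 q13984, e3 q16662 (flp_c L209983) q16818, e3 q16663 L208662 q12476, e3 q16664 L208672 q14955, e3 q16665 (flp_c L208692) q16260, e3 q16666 L208698 q14973, e3 q16667 (flp_c L218188) q17830, e3 q16668 L208714 q12479, e3 q16669 L208722 q14194, e3 q16670 (flp_c L213343) q17267, e3 q16671 L208737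 q16430, e3 q16672 L208747 q13675, e3 q16673 L208759 q14112, e3 q16674 L208771 q12488, e3 q16675 L236759 q20099, e3 q16676 L208787 q12502, e3 q16677 L208799 q13935, e3 q16678 (flp_c L215693) q17519, e3 q16679 L208813 q13980, e3 q16680 L236769 q20100, e3 q16681 L236775 q20101, e3 q16682 L208851 q12841, e3 q16683 (flp_c L208843) q12509, e3 q16684 (flp_c L236809) q20104, e3 q16685 L236815 q20105, e3 q16686 L208871 q12511, e3 q16687 (flp_c L236859) q20109, e3 q16688 L210677 q12847, e3 q16689 (flp_c L208893) q12512, e3 q16690 (flp_c L236893) q20112, e3 q16691 L236899 q20113, e3 q16692 L208915 q12514, e3 q16693 (flp_c L236943) q20117, e3 q16694 (flp_c L224103) q18526, e3 q16695 (flp_c L224113) q18527, e3 q16696 (flp_c L228117) q19089, e3 q16697 (flp_c L208959) q12523, e3 q16698 (flp_c L236977) q20120, e3 q16699 L236985 q20121, e3 q16700 (flp_c L208981) q12524, e3 q16701 (flp_c L237001) q20123, e3 q16702 (flp_c L223767) q18492, e3 q16703 L209009 q12526, trivial⟩ (by decide +kernel)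

theorem ce_c_261 : ∀ r, r < 64 → sm gc (Qf (16704 + r)) = Qf (tab Gen.c (16704 + r)) :=
  edges_tab (sm gc) Qf (tab Gen.c) 16704 [(16704, 20124), (16705, 19223), (16706, 12527), (16707, 20127), (16708, 20128), (16709, 12528), (16710, 20130), (16711, 18523), (16712, 12530), (16713, 20131), (16714, 12697), (16715, 12531), (16716, 12534), (16717, 16763), (16718, 14661), (16719, 14662), (16720, 12668), (16721, 12540), (16722, 12543), (16723, 16755), (16724, 14693), (16725, 14694), (16726, 12549), (16727, 20139), (16728, 12551), (16729, 20140), (16730, 12552), (16731, 20143), (16732, 12554), (16733, 20144), (16734, 12555), (16735, 20148), (16736, 17453), (16737, 12561), (16738, 20151), (16739, 17478), (16740, 13275), (16741, 13273), (16742, 13262), (16743, 13260), (16744, 12800), (16745, 12775), (16746, 16508), (16747, 18598), (16748, 12609), (16749, 16387), (16750, 18589), (16751, 12615), (16752, 20153), (16753, 20155), (16754, 12624), (16755, 16723), (16756, 12625), (16757, 12627), (16758, 12629), (16759, 12631),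 (16760, 20158), (16761, 20160), (16762, 12635), (16763, 16717), (16764, 12636), (16765, 12638), (16766, 12640), (16767, 12642)]
    ⟨e3 q16704 (flp_c L237013) q20124, e3 q16705 (flp_c L229092) q19223, e3 q16706 (flp_c L209031) q12527, e3 q16707 (flp_c L237047) q20127, e3 q16708 L237055 q20128, e3 q16709 (flp_c L209053) q12528, e3 q16710 (flp_c L237071) q20130, e3 q16711 (flp_c L224075) q18523, e3 q16712 L209081 q12530, e3 q16713 (flp_c L237083) q20131, e3 q16714 (flp_c L209105) q12697, e3 q16715 (flp_c L209107) q12531, e3 q16716 (flp_c L209117) q12534, e3 q16717 (flp_c L209521) q16763, e3 q16718 (flp_c L209139) q14661, e3 q16719 L209145 q14662, e3 q16720 (flp_c L209163) q12668, e3 q16721 (flp_c L209165) q12540, e3 q16722 (flp_c L209175) q12543, e3 q16723 (flp_c L209449) q16755, e3 q16724 (flp_c L209197) q14693, e3 q16725 L209203 q14694, e3 q16726 (flp_c L209211) q12549, e3 q16727 L237165 q20139, e3 q16728 (flp_c L209225) q12551, e3 q16729 (flp_c L237177) q20140, e3 q16730 (flp_c L209241) q12552, e3 q16731 L237199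 q20143, e3 q16732 (flp_c L209255) q12554, e3 q16733 (flp_c L237211) q20144, e3 q16734 (flp_c L209271) q12555, e3 q16735 L237247 q20148, e3 q16736 (flp_c L215056) q17453, e3 q16737 (flp_c L209294) q12561, e3 q16738 L237273 q20151, e3 q16739 (flp_c L215303) q17478, e3 q16740 L209321 q13275, e3 q16741 L209329 q13273, e3 q16742 L209339 q13262, e3 q16743 L209347 q13260, e3 q16744 L209359 q12800, e3 q16745 L209371 q12775, e3 q16746 (flp_c L209389) q16508, e3 q16747 (flp_c L224760) q18598, e3 q16748 (flp_c L209393) q12609, e3 q16749 (flp_c L209411) q16387, e3 q16750 (flp_c L224684) q18589, e3 q16751 (flp_c L209415) q12615, e3 q16752 L237285 q20153, e3 q16753 L237295 q20155, e3 q16754 (flp_c L209435) q12624, e3 q16755 L209449 q16723, e3 q16756 (flp_c L209455) q12625, e3 q16757 L209469 q12627, e3 q16758 L209479 q12629, e3 q16759 L209489 q12631, e3 q16760 L237326 q20158, e3 q16761 L237336 q20160, e3 q16762 (flp_c L209507) q12635, e3 q16763 L209521 q16717, e3 q16764 (flp_c L209527) q12636, e3 q16765 L209541 q12638, e3 q16766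 L209551 q12640, e3 q16767 L209561 q12642, trivial⟩ (by decide +kernel)

theorem ce_c_262 : ∀ r, r < 64 → sm gc (Qf (16768 + r)) = Qf (tab Gen.c (16768 + r)) :=
  edges_tab (sm gc) Qf (tab Gen.c) 16768 [(16768, 20149), (16769, 12644), (16770, 16256), (16771, 17586), (16772, 17576), (16773, 20146), (16774, 12653), (16775, 16226), (16776, 17614), (16777, 17604), (16778, 18351), (16779, 14154), (16780, 13108), (16781, 20166), (16782, 20167), (16783, 20169), (16784, 19273), (16785, 12670), (16786, 19253), (16787, 14111), (16788, 18937), (16789, 12675), (16790, 20172), (16791, 20173), (16792, 16641), (16793, 12679), (16794, 19699), (16795, 12681), (16796, 12682), (16797, 18914), (16798, 12686), (16799, 12687), (16800, 20177), (16801, 20179), (16802, 14010), (16803, 12689), (16804, 18413), (16805, 14175), (16806, 13166), (16807, 20183), (16808, 20184), (16809, 20186), (16810, 19506), (16811, 12699), (16812, 19487), (16813, 14058), (16814, 18882), (16815, 12704), (16816, 20189), (16817, 20190), (16818, 16662), (16819, 12708),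 (16820, 19793), (16821, 12710), (16822, 12711), (16823, 18859), (16824, 12715), (16825, 12716), (16826, 20194), (16827, 20196), (16828, 13991), (16829, 12718), (16830, 12719), (16831, 12720)]
    ⟨e3 q16768 (flp_c L237257) q20149, e3 q16769 (flp_c L209579) q12644, e3 q16770 L209591 q16256, e3 q16771 (flp_c L216235) q17586, e3 q16772 (flp_c L216167) q17576, e3 q16773 (flp_c L237231) q20146, e3 q16774 (flp_c L209637) q12653, e3 q16775 L209649 q16226, e3 q16776 (flp_c L216433) q17614, e3 q16777 L216365 q17604, e3 q16778 (flp_c L222371) q18351, e3 q16779 L209693 q14154, e3 q16780 L209703 q13108, e3 q16781 L237397 q20166, e3 q16782 L237399 q20167, e3 q16783 L237415 q20169, e3 q16784 L229534 q19273, e3 q16785 (flp_c L209733) q12670, e3 q16786 (flp_c L229354) q19253, e3 q16787 (flp_c L209747) q14111, e3 q16788 (flp_c L227070) q18937, e3 q16789 (flp_c L209759) q12675, e3 q16790 (flp_c L237439) q20172, e3 q16791 (flp_c L237447) q20173, e3 q16792 L209781 q16641, e3 q16793 (flp_c L209789) q12679, e3 q16794 (flp_c L233339)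 q19699, e3 q16795 L209805 q12681, e3 q16796 L209813 q12682, e3 q16797 L226886 q18914, e3 q16798 L209835 q12686, e3 q16799 L209841 q12687, e3 q16800 (flp_c L237487) q20177, e3 q16801 (flp_c L237505) q20179, e3 q16802 (flp_c L209869) q14010, e3 q16803 (flp_c L209871) q12689, e3 q16804 (flp_c L223185) q18413, e3 q16805 L209895 q14175, e3 q16806 L209905 q13166, e3 q16807 L237543 q20183, e3 q16808 L237545 q20184, e3 q16809 L237561 q20186, e3 q16810 L231682 q19506, e3 q16811 (flp_c L209935) q12699, e3 q16812 (flp_c L231504) q19487, e3 q16813 (flp_c L209949) q14058, e3 q16814 (flp_c L226645) q18882, e3 q16815 (flp_c L209961) q12704, e3 q16816 (flp_c L237585) q20189, e3 q16817 (flp_c L237593) q20190, e3 q16818 L209983 q16662, e3 q16819 (flp_c L209991) q12708, e3 q16820 (flp_c L234093) q19793, e3 q16821 L210007 q12710, e3 q16822 L210017 q12711, e3 q16823 L226475 q18859, e3 q16824 L210037 q12715, e3 q16825 L210043 q12716, e3 q16826 (flp_c L237633) q20194, e3 q16827 (flp_c L237651) q20196, e3 q16828 (flp_c L210071) q13991,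 e3 q16829 (flp_c L210073) q12718, e3 q16830 (flp_c L210087) q12719, e3 q16831 (flp_c L210093) q12720, trivial⟩ (by decide +kernel)

theorem ce_c_263 : ∀ r, r < 64 → sm gc (Qf (16832 + r)) = Qf (tab Gen.c (16832 + r)) :=
  edges_tab (sm gc) Qf (tab Gen.c) 16832 [(16832, 20199), (16833, 13900), (16834, 12722), (16835, 20200), (16836, 17890), (16837, 12726), (16838, 12727), (16839, 20203), (16840, 13887), (16841, 12729), (16842, 20204), (16843, 17912), (16844, 12733), (16845, 18601), (16846, 12742), (16847, 18592), (16848, 16323), (16849, 14947), (16850, 16467), (16851, 14995), (16852, 15794), (16853, 18578), (16854, 15863), (16855, 16603), (16856, 12769), (16857, 17458), (16858, 12772), (16859, 18068), (16860, 12780), (16861, 15545), (16862, 18565), (16863, 15629), (16864, 16626), (16865, 12794), (16866, 17435), (16867, 12797), (16868, 18039), (16869, 12805), (16870, 16270), (16871, 16425), (16872, 12823), (16873, 14289), (16874, 12825), (16875, 20215), (16876, 19700), (16877, 12826), (16878, 20216), (16879, 12827),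 (16880, 14344), (16881, 12829), (16882, 20218), (16883, 19794), (16884, 12830), (16885, 20219), (16886, 16887), (16887, 16886), (16888, 20102), (16889, 14155), (16890, 12843), (16891, 15402), (16892, 12844), (16893, 14290), (16894, 20164), (16895, 16933)]
    ⟨e3 q16832 (flp_c L237677) q20199, e3 q16833 (flp_c L210117) q13900, e3 q16834 L210121 q12722, e3 q16835 (flp_c L237689) q20200, e3 q16836 (flp_c L218758) q17890, e3 q16837 (flp_c L210137) q12726, e3 q16838 (flp_c L210143) q12727, e3 q16839 (flp_c L237719) q20203, e3 q16840 (flp_c L210165) q13887, e3 q16841 L210171 q12729, e3 q16842 (flp_c L237731) q20204, e3 q16843 (flp_c L218968) q17912, e3 q16844 (flp_c L210187) q12733, e3 q16845 (flp_c L224780) q18601, e3 q16846 (flp_c L210198) q12742, e3 q16847 (flp_c L224702) q18592, e3 q16848 L210213 q16323, e3 q16849 L210225 q14947, e3 q16850 L210234 q16467, e3 q16851 L210246 q14995, e3 q16852 L210255 q15794, e3 q16853 (flp_c L224579) q18578, e3 q16854 L210275 q15863, e3 q16855 L210287 q16603, e3 q16856 (flp_c L210293)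 q12769, e3 q16857 (flp_c L215106) q17458, e3 q16858 L210311 q12772, e3 q16859 (flp_c L220180) q18068, e3 q16860 L210333 q12780, e3 q16861 L210343 q15545, e3 q16862 (flp_c L224467) q18565, e3 q16863 L210363 q15629, e3 q16864 L210375 q16626, e3 q16865 (flp_c L210381) q12794, e3 q16866 (flp_c L214882) q17435, e3 q16867 L210399 q12797, e3 q16868 (flp_c L219964) q18039, e3 q16869 L210421 q12805, e3 q16870 L210431 q16270, e3 q16871 L210443 q16425, e3 q16872 (flp_c L210451) q12823, e3 q16873 (flp_c L210469) q14289, e3 q16874 L210475 q12825, e3 q16875 L237847 q20215, e3 q16876 L233351 q19700, e3 q16877 (flp_c L210491) q12826, e3 q16878 (flp_c L237857) q20216, e3 q16879 (flp_c L210505) q12827, e3 q16880 (flp_c L210523) q14344, e3 q16881 L210529 q12829, e3 q16882 L237872 q20218, e3 q16883 L234105 q19794, e3 q16884 (flp_c L210545) q12830, e3 q16885 (flp_c L237882) q20219, e3 q16886 (flp_c L210573) q16887, e3 q16887 L210573 q16886, e3 q16888 (flp_c L236785) q20102, e3 q16889 L210593 q14155, e3 q16890 L210599 q12843, e3 q16891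 (flp_c L210609) q15402, e3 q16892 (flp_c L210611) q12844, e3 q16893 L210625 q14290, e3 q16894 (flp_c L237377) q20164, e3 q16895 (flp_c L210921) q16933, trivial⟩ (by decide +kernel)

theorem ce_c_264 : ∀ r, r < 64 → sm gc (Qf (16896 + r)) = Qf (tab Gen.c (16896 + r)) :=
  edges_tab (sm gc) Qf (tab Gen.c) 16896 [(16896, 12846), (16897, 16899), (16898, 20110), (16899, 16897), (16900, 14176), (16901, 12849), (16902, 15504), (16903, 12850), (16904, 14346), (16905, 20181), (16906, 16921), (16907, 12852), (16908, 18619), (16909, 12856), (16910, 18634), (16911, 12861), (16912, 12867), (16913, 12869), (16914, 18478), (16915, 20237), (16916, 12872), (16917, 12873), (16918, 20241), (16919, 20239), (16920, 12875), (16921, 16906), (16922, 12878), (16923, 20247), (16924, 12879), (16925, 12881), (16926, 18506), (16927, 20249), (16928, 12884), (16929, 12885), (16930, 20253), (16931, 20251), (16932, 12887), (16933, 16895), (16934, 12890), (16935, 20259), (16936, 20260), (16937, 19460), (16938, 12894), (16939, 20263), (16940, 12895),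 (16941, 20137), (16942, 12897), (16943, 20136), (16944, 12898), (16945, 12899), (16946, 12902), (16947, 20269), (16948, 12901), (16949, 13474), (16950, 17492), (16951, 20271), (16952, 19660), (16953, 12909), (16954, 20274), (16955, 12910), (16956, 20134), (16957, 12912), (16958, 20133), (16959, 12913)]
    ⟨e3 q16896 L210641 q12846, e3 q16897 L210673 q16899, e3 q16898 (flp_c L236869) q20110, e3 q16899 (flp_c L210673) q16897, e3 q16900 L210689 q14176, e3 q16901 L210695 q12849, e3 q16902 (flp_c L210705) q15504, e3 q16903 (flp_c L210707) q12850, e3 q16904 L210721 q14346, e3 q16905 (flp_c L237523) q20181, e3 q16906 (flp_c L210837) q16921, e3 q16907 L210737 q12852, e3 q16908 (flp_c L224951) q18619, e3 q16909 L210753 q12856, e3 q16910 (flp_c L225059) q18634, e3 q16911 L210769 q12861, e3 q16912 (flp_c L210773) q12867, e3 q16913 L210791 q12869, e3 q16914 (flp_c L223657) q18478, e3 q16915 L237995 q20237, e3 q16916 L210809 q12872, e3 q16917 (flp_c L210811) q12873, e3 q16918 (flp_c L238019) q20241, e3 q16919 (flp_c L238005)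 q20239, e3 q16920 L210829 q12875, e3 q16921 L210837 q16906, e3 q16922 L210843 q12878, e3 q16923 L238057 q20247, e3 q16924 (flp_c L210857) q12879, e3 q16925 L210875 q12881, e3 q16926 (flp_c L223939) q18506, e3 q16927 L238069 q20249, e3 q16928 L210893 q12884, e3 q16929 (flp_c L210895) q12885, e3 q16930 (flp_c L238093) q20253, e3 q16931 (flp_c L238079) q20251, e3 q16932 L210913 q12887, e3 q16933 L210921 q16895, e3 q16934 L210927 q12890, e3 q16935 L238137 q20259, e3 q16936 L238145 q20260, e3 q16937 L231246 q19460, e3 q16938 (flp_c L210951) q12894, e3 q16939 (flp_c L238173) q20263, e3 q16940 (flp_c L210957) q12895, e3 q16941 (flp_c L237147) q20137, e3 q16942 L210975 q12897, e3 q16943 (flp_c L237135) q20136, e3 q16944 (flp_c L210991) q12898, e3 q16945 (flp_c L210997) q12899, e3 q16946 L211011 q12902, e3 q16947 L238219 q20269, e3 q16948 L211025 q12901, e3 q16949 L211035 q13474, e3 q16950 (flp_c L215435) q17492, e3 q16951 L238237 q20271, e3 q16952 L233043 q19660, e3 q16953 (flp_c L211059) q12909, e3 q16954 (flp_c L238265)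 q20274, e3 q16955 (flp_c L211065) q12910, e3 q16956 (flp_c L237113) q20134, e3 q16957 L211083 q12912, e3 q16958 (flp_c L237101) q20133, e3 q16959 (flp_c L211099) q12913, trivial⟩ (by decide +kernel)

theorem ce_c_265 : ∀ r, r < 64 → sm gc (Qf (16960 + r)) = Qf (tab Gen.c (16960 + r)) :=
  edges_tab (sm gc) Qf (tab Gen.c) 16960 [(16960, 12914), (16961, 12917), (16962, 20280), (16963, 12916), (16964, 13422), (16965, 17483), (16966, 15151), (16967, 20282), (16968, 12922), (16969, 20284), (16970, 12923), (16971, 20286), (16972, 12925), (16973, 20290), (16974, 12927), (16975, 20292), (16976, 20293), (16977, 20294), (16978, 12928), (16979, 19769), (16980, 12929), (16981, 20297), (16982, 19784), (16983, 12931), (16984, 20301), (16985, 15498), (16986, 15499), (16987, 15506), (16988, 12935), (16989, 18678), (16990, 18679), (16991, 15185), (16992, 20302), (16993, 12938), (16994, 20304), (16995, 12939), (16996, 20306), (16997, 12941), (16998, 20310), (16999, 12943), (17000, 20312), (17001, 20313), (17002, 20314), (17003, 12944),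 (17004, 19675), (17005, 12945), (17006, 20317), (17007, 19689), (17008, 12947), (17009, 20321), (17010, 15394), (17011, 15395), (17012, 15401), (17013, 12951), (17014, 18689), (17015, 18690), (17016, 14309), (17017, 14455), (17018, 18470), (17019, 18189), (17020, 18235), (17021, 12961), (17022, 18259), (17023, 18193)]
    ⟨e3 q16960 (flp_c L211105) q12914, e3 q16961 L211119 q12917, e3 q16962 L238315 q20280, e3 q16963 L211133 q12916, e3 q16964 L211143 q13422, e3 q16965 (flp_c L215347) q17483, e3 q16966 L211163 q15151, e3 q16967 L238333 q20282, e3 q16968 (flp_c L211181) q12922, e3 q16969 (flp_c L238353) q20284, e3 q16970 (flp_c L211197) q12923, e3 q16971 L238364 q20286, e3 q16972 L211208 q12925, e3 q16973 L238394 q20290, e3 q16974 (flp_c L211220) q12927, e3 q16975 (flp_c L238411) q20292, e3 q16976 (flp_c L238421) q20293, e3 q16977 L238427 q20294, e3 q16978 (flp_c L211250) q12928, e3 q16979 L233909 q19769, e3 q16980 (flp_c L211264) q12929, e3 q16981 (flp_c L238449) q20297, e3 q16982 (flp_c L234009) q19784, e3 q16983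 L211284 q12931, e3 q16984 (flp_c L238479) q20301, e3 q16985 L211298 q15498, e3 q16986 L211306 q15499, e3 q16987 L211318 q15506, e3 q16988 (flp_c L211328) q12935, e3 q16989 (flp_c L225339) q18678, e3 q16990 (flp_c L225343) q18679, e3 q16991 L211354 q15185, e3 q16992 L238489 q20302, e3 q16993 (flp_c L211372) q12938, e3 q16994 (flp_c L238509) q20304, e3 q16995 (flp_c L211390) q12939, e3 q16996 L238520 q20306, e3 q16997 L211401 q12941, e3 q16998 L238550 q20310, e3 q16999 (flp_c L211413) q12943, e3 q17000 (flp_c L238565) q20312, e3 q17001 (flp_c L238575) q20313, e3 q17002 L238583 q20314, e3 q17003 (flp_c L211447) q12944, e3 q17004 L233161 q19675, e3 q17005 (flp_c L211463) q12945, e3 q17006 (flp_c L238605) q20317, e3 q17007 (flp_c L233247) q19689, e3 q17008 L211483 q12947, e3 q17009 (flp_c L238635) q20321, e3 q17010 L211499 q15394, e3 q17011 L211513 q15395, e3 q17012 L211523 q15401, e3 q17013 (flp_c L211533) q12951, e3 q17014 (flp_c L225393) q18689, e3 q17015 (flp_c L225397) q18690, e3 q17016 L211565 q14309, e3 q17017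 L211577 q14455, e3 q17018 (flp_c L223589) q18470, e3 q17019 L221127 q18189, e3 q17020 (flp_c L221434) q18235, e3 q17021 L211611 q12961, e3 q17022 (flp_c L221624) q18259, e3 q17023 (flp_c L221151) q18193, trivial⟩ (by decide +kernel)

theorem ce_c_266 : ∀ r, r < 64 → sm gc (Qf (17024 + r)) = Qf (tab Gen.c (17024 + r)) :=
  edges_tab (sm gc) Qf (tab Gen.c) 17024 [(17024, 18750), (17025, 18253), (17026, 12965), (17027, 14809), (17028, 14838), (17029, 20325), (17030, 12970), (17031, 18237), (17032, 18238), (17033, 20331), (17034, 18240), (17035, 17038), (17036, 17229), (17037, 12975), (17038, 17035), (17039, 18543), (17040, 17708), (17041, 20336), (17042, 12978), (17043, 17133), (17044, 19966), (17045, 14037), (17046, 20337), (17047, 12981), (17048, 19590), (17049, 20339), (17050, 12984), (17051, 12985), (17052, 20342), (17053, 20343), (17054, 14972), (17055, 20345), (17056, 12987), (17057, 20346), (17058, 20349), (17059, 18341), (17060, 12989), (17061, 14565), (17062, 12991), (17063, 20354), (17064, 13066), (17065,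 12992), (17066, 20357), (17067, 14834), (17068, 14836), (17069, 16067), (17070, 12995), (17071, 20360), (17072, 19744), (17073, 19897), (17074, 20363), (17075, 12997), (17076, 20365), (17077, 20366), (17078, 12998), (17079, 20368), (17080, 17166), (17081, 13000), (17082, 20370), (17083, 13001), (17084, 13005), (17085, 20373), (17086, 13003), (17087, 13004)]
    ⟨e3 q17024 (flp_c L225853) q18750, e3 q17025 (flp_c L221578) q18253, e3 q17026 (flp_c L211643) q12965, e3 q17027 L211655 q14809, e3 q17028 (flp_c L211671) q14838, e3 q17029 L238675 q20325, e3 q17030 (flp_c L211679) q12970, e3 q17031 (flp_c L221452) q18237, e3 q17032 (flp_c L221458) q18238, e3 q17033 L238745 q20331, e3 q17034 (flp_c L221474) q18240, e3 q17035 (flp_c L211741) q17038, e3 q17036 L213115 q17229, e3 q17037 (flp_c L211731) q12975, e3 q17038 L211741 q17035, e3 q17039 (flp_c L224283) q18543, e3 q17040 (flp_c L217172) q17708, e3 q17041 L238797 q20336, e3 q17042 (flp_c L211759) q12978, e3 q17043 L216605 q17133, e3 q17044 (flp_c L235641) q19966, e3 q17045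 L211775 q14037, e3 q17046 L238811 q20337, e3 q17047 L211791 q12981, e3 q17048 (flp_c L232430) q19590, e3 q17049 L238833 q20339, e3 q17050 L211817 q12984, e3 q17051 (flp_c L211825) q12985, e3 q17052 (flp_c L238863) q20342, e3 q17053 (flp_c L238867) q20343, e3 q17054 L211839 q14972, e3 q17055 L238877 q20345, e3 q17056 (flp_c L211851) q12987, e3 q17057 (flp_c L238895) q20346, e3 q17058 L238931 q20349, e3 q17059 (flp_c L222269) q18341, e3 q17060 (flp_c L211879) q12989, e3 q17061 (flp_c L211893) q14565, e3 q17062 L211907 q12991, e3 q17063 L238991 q20354, e3 q17064 L222543 q13066, e3 q17065 (flp_c L211919) q12992, e3 q17066 (flp_c L239021) q20357, e3 q17067 L211931 q14834, e3 q17068 L211943 q14836, e3 q17069 L211957 q16067, e3 q17070 (flp_c L211959) q12995, e3 q17071 (flp_c L239055) q20360, e3 q17072 (flp_c L233693) q19744, e3 q17073 L234989 q19897, e3 q17074 L239077 q20363, e3 q17075 (flp_c L211993) q12997, e3 q17076 (flp_c L239093) q20365, e3 q17077 L239097 q20366, e3 q17078 (flp_c L212011) q12998, e3 q17079 (flp_c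 L239117) q20368, e3 q17080 (flp_c L222523) q17166, e3 q17081 L212031 q13000, e3 q17082 (flp_c L239133) q20370, e3 q17083 (flp_c L212045) q13001, e3 q17084 L212057 q13005, e3 q17085 L239155 q20373, e3 q17086 L212067 q13003, e3 q17087 L212075 q13004, trivial⟩ (by decide +kernel)

theorem ce_c_267 : ∀ r, r < 64 → sm gc (Qf (17088 + r)) = Qf (tab Gen.c (17088 + r)) :=
  edges_tab (sm gc) Qf (tab Gen.c) 17088 [(17088, 17090), (17089, 20379), (17090, 17088), (17091, 20382), (17092, 19895), (17093, 13009), (17094, 13010), (17095, 19875), (17096, 13074), (17097, 19876), (17098, 13015), (17099, 16170), (17100, 13081), (17101, 19973), (17102, 13203), (17103, 18721), (17104, 13023), (17105, 20389), (17106, 20390), (17107, 14364), (17108, 18498), (17109, 14504), (17110, 18294), (17111, 18214), (17112, 13037), (17113, 18316), (17114, 18801), (17115, 18310), (17116, 18218), (17117, 13040), (17118, 14807), (17119, 14806), (17120, 20395), (17121, 18296), (17122, 20330), (17123, 18298), (17124, 18299), (17125, 17305), (17126, 13049),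 (17127, 17129), (17128, 18551), (17129, 17127), (17130, 17636), (17131, 20332), (17132, 13053), (17133, 17043), (17134, 19955), (17135, 14094), (17136, 20329), (17137, 13056), (17138, 19375), (17139, 20402), (17140, 13059), (17141, 20404), (17142, 20405), (17143, 14924), (17144, 20351), (17145, 13061), (17146, 20407), (17147, 20348), (17148, 18284), (17149, 13063), (17150, 14615), (17151, 13065)]
    ⟨e3 q17088 (flp_c L212103) q17090, e3 q17089 L239203 q20379, e3 q17090 L212103 q17088, e3 q17091 L239235 q20382, e3 q17092 (flp_c L234965) q19895, e3 q17093 (flp_c L212125) q13009, e3 q17094 (flp_c L212133) q13010, e3 q17095 (flp_c L234787) q19875, e3 q17096 L212157 q13074, e3 q17097 (flp_c L234801) q19876, e3 q17098 (flp_c L212165) q13015, e3 q17099 L212173 q16170, e3 q17100 L212181 q13081, e3 q17101 (flp_c L235697) q19973, e3 q17102 L212201 q13203, e3 q17103 (flp_c L225627) q18721, e3 q17104 (flp_c L212211) q13023, e3 q17105 (flp_c L239301) q20389, e3 q17106 (flp_c L239307) q20390, e3 q17107 L212233 q14364, e3 q17108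 (flp_c L223871) q18498, e3 q17109 L212255 q14504, e3 q17110 (flp_c L221890) q18294, e3 q17111 L221296 q18214, e3 q17112 L212279 q13037, e3 q17113 (flp_c L222060) q18316, e3 q17114 (flp_c L226125) q18801, e3 q17115 (flp_c L222014) q18310, e3 q17116 (flp_c L221320) q18218, e3 q17117 (flp_c L212311) q13040, e3 q17118 L212323 q14807, e3 q17119 L212335 q14806, e3 q17120 L239351 q20395, e3 q17121 (flp_c L221908) q18296, e3 q17122 L238743 q20330, e3 q17123 (flp_c L221920) q18298, e3 q17124 (flp_c L221930) q18299, e3 q17125 (flp_c L213617) q17305, e3 q17126 (flp_c L212381) q13049, e3 q17127 L212403 q17129, e3 q17128 (flp_c L224351) q18551, e3 q17129 (flp_c L212403) q17127, e3 q17130 (flp_c L216597) q17636, e3 q17131 (flp_c L238763) q20332, e3 q17132 (flp_c L212415) q13053, e3 q17133 (flp_c L216605) q17043, e3 q17134 (flp_c L235529) q19955, e3 q17135 L212431 q14094, e3 q17136 L238727 q20329, e3 q17137 L212447 q13056, e3 q17138 (flp_c L230416) q19375, e3 q17139 L239423 q20402, e3 q17140 (flp_c L212469) q13059, e3 q17141 (flp_c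 L239441) q20404, e3 q17142 (flp_c L239445) q20405, e3 q17143 L212483 q14924, e3 q17144 (flp_c L238963) q20351, e3 q17145 (flp_c L212495) q13061, e3 q17146 (flp_c L239459) q20407, e3 q17147 (flp_c L238927) q20348, e3 q17148 (flp_c L221788) q18284, e3 q17149 (flp_c L212523) q13063, e3 q17150 (flp_c L212537) q14615, e3 q17151 L212551 q13065, trivial⟩ (by decide +kernel)

theorem ce_c_268 : ∀ r, r < 64 → sm gc (Qf (17152 + r)) = Qf (tab Gen.c (17152 + r)) :=
  edges_tab (sm gc) Qf (tab Gen.c) 17152 [(17152, 20356), (17153, 20353), (17154, 14802), (17155, 14804), (17156, 16142), (17157, 13069), (17158, 19840), (17159, 19910), (17160, 20413), (17161, 13071), (17162, 20415), (17163, 20416), (17164, 13072), (17165, 20384), (17166, 17080), (17167, 20386), (17168, 13075), (17169, 13079), (17170, 20420), (17171, 13077), (17172, 13078), (17173, 17174), (17174, 17173), (17175, 19908), (17176, 13080), (17177, 19855), (17178, 19857), (17179, 13086), (17180, 16156), (17181, 19960), (17182, 13144), (17183, 18732), (17184, 13094),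 (17185, 20427), (17186, 19930), (17187, 20428), (17188, 20195), (17189, 20432), (17190, 20434), (17191, 16652), (17192, 17536), (17193, 13111), (17194, 17731), (17195, 13113), (17196, 20436), (17197, 17729), (17198, 13114), (17199, 13115), (17200, 13117), (17201, 20439), (17202, 14564), (17203, 20441), (17204, 13121), (17205, 20442), (17206, 13120), (17207, 20444), (17208, 19165), (17209, 13122), (17210, 20446), (17211, 19873), (17212, 13124), (17213, 20449), (17214, 16065), (17215, 16066)]
    ⟨e3 q17152 (flp_c L239009) q20356, e3 q17153 L238989 q20353, e3 q17154 L212575 q14802, e3 q17155 L212587 q14804, e3 q17156 L212601 q16142, e3 q17157 (flp_c L212603) q13069, e3 q17158 (flp_c L234477) q19840, e3 q17159 L235109 q19910, e3 q17160 L239523 q20413, e3 q17161 (flp_c L212629) q13071, e3 q17162 (flp_c L239547) q20415, e3 q17163 L239555 q20416, e3 q17164 (flp_c L212647) q13072, e3 q17165 (flp_c L239253) q20384, e3 q17166 L222523 q17080, e3 q17167 (flp_c L239269) q20386, e3 q17168 (flp_c L212673) q13075, e3 q17169 L212685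 q13079, e3 q17170 L239593 q20420, e3 q17171 L212693 q13077, e3 q17172 L212703 q13078, e3 q17173 (flp_c L212723) q17174, e3 q17174 L212723 q17173, e3 q17175 (flp_c L235085) q19908, e3 q17176 (flp_c L212737) q13080, e3 q17177 (flp_c L234631) q19855, e3 q17178 (flp_c L234655) q19857, e3 q17179 (flp_c L212757) q13086, e3 q17180 (flp_c L212765) q16156, e3 q17181 (flp_c L235573) q19960, e3 q17182 L212781 q13144, e3 q17183 L225745 q18732, e3 q17184 (flp_c L212791) q13094, e3 q17185 (flp_c L239655) q20427, e3 q17186 L235294 q19930, e3 q17187 L239661 q20428, e3 q17188 (flp_c L237645) q20195, e3 q17189 L239705 q20432, e3 q17190 L239729 q20434, e3 q17191 L212841 q16652, e3 q17192 (flp_c L215835) q17536, e3 q17193 (flp_c L212853) q13111, e3 q17194 (flp_c L217358) q17731, e3 q17195 L212871 q13113, e3 q17196 L239743 q20436, e3 q17197 L217340 q17729, e3 q17198 (flp_c L212893) q13114, e3 q17199 (flp_c L212899) q13115, e3 q17200 L212915 q13117, e3 q17201 L239771 q20439, e3 q17202 L212935 q14564, e3 q17203 L239787 q20441, e3 q17204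 L212947 q13121, e3 q17205 L239795 q20442, e3 q17206 (flp_c L212957) q13120, e3 q17207 (flp_c L239809) q20444, e3 q17208 L228655 q19165, e3 q17209 (flp_c L212973) q13122, e3 q17210 (flp_c L239827) q20446, e3 q17211 (flp_c L234769) q19873, e3 q17212 L212993 q13124, e3 q17213 (flp_c L239851) q20449, e3 q17214 L213009 q16065, e3 q17215 L213017 q16066, trivial⟩ (by decide +kernel)

theorem ce_c_269 : ∀ r, r < 64 → sm gc (Qf (17216 + r)) = Qf (tab Gen.c (17216 + r)) :=
  edges_tab (sm gc) Qf (tab Gen.c) 17216 [(17216, 18709), (17217, 17948), (17218, 13127), (17219, 18549), (17220, 13129), (17221, 13130), (17222, 20453), (17223, 18613), (17224, 19746), (17225, 17307), (17226, 17310), (17227, 15903), (17228, 15907), (17229, 17036), (17230, 17764), (17231, 17301), (17232, 19395), (17233, 19396), (17234, 17302), (17235, 17674), (17236, 17675), (17237, 17676), (17238, 20461), (17239, 19953), (17240, 18845), (17241, 13145), (17242, 20464), (17243, 20465), (17244, 20466), (17245, 16490), (17246, 15579), (17247, 17817), (17248,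 13149), (17249, 13150), (17250, 13151), (17251, 20474), (17252, 20476), (17253, 20478), (17254, 19670), (17255, 15280), (17256, 19598), (17257, 15588), (17258, 15646), (17259, 14207), (17260, 15644), (17261, 19321), (17262, 19990), (17263, 20486), (17264, 20178), (17265, 20489), (17266, 20491), (17267, 16670), (17268, 17540), (17269, 13170), (17270, 17661), (17271, 13172), (17272, 20494), (17273, 17660), (17274, 13173), (17275, 13174), (17276, 13176), (17277, 20497), (17278, 14616), (17279, 20499)]
    ⟨e3 q17216 L225538 q18709, e3 q17217 (flp_c L219322) q17948, e3 q17218 (flp_c L213037) q13127, e3 q17219 (flp_c L224329) q18549, e3 q17220 L213053 q13129, e3 q17221 L213059 q13130, e3 q17222 (flp_c L239889) q20453, e3 q17223 (flp_c L224895) q18613, e3 q17224 (flp_c L233711) q19746, e3 q17225 (flp_c L213633) q17307, e3 q17226 (flp_c L213655) q17310, e3 q17227 L213097 q15903, e3 q17228 L213101 q15907, e3 q17229 (flp_c L213115) q17036, e3 q17230 L217632 q17764, e3 q17231 (flp_c L213585) q17301, e3 q17232 (flp_c L230610)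 q19395, e3 q17233 (flp_c L230620) q19396, e3 q17234 (flp_c L213595) q17302, e3 q17235 (flp_c L216897) q17674, e3 q17236 (flp_c L216905) q17675, e3 q17237 (flp_c L216922) q17676, e3 q17238 L239961 q20461, e3 q17239 (flp_c L235509) q19953, e3 q17240 (flp_c L226375) q18845, e3 q17241 (flp_c L213179) q13145, e3 q17242 (flp_c L240003) q20464, e3 q17243 (flp_c L240009) q20465, e3 q17244 (flp_c L240017) q20466, e3 q17245 (flp_c L213209) q16490, e3 q17246 L213217 q15579, e3 q17247 (flp_c L218026) q17817, e3 q17248 L213225 q13149, e3 q17249 L213229 q13150, e3 q17250 L213233 q13151, e3 q17251 (flp_c L240057) q20474, e3 q17252 (flp_c L240071) q20476, e3 q17253 L240084 q20478, e3 q17254 (flp_c L233131) q19670, e3 q17255 L213260 q15280, e3 q17256 (flp_c L232504) q19598, e3 q17257 L213270 q15588, e3 q17258 L213274 q15646, e3 q17259 L213283 q14207, e3 q17260 L213289 q15644, e3 q17261 (flp_c L230006) q19321, e3 q17262 L235866 q19990, e3 q17263 L240139 q20486, e3 q17264 (flp_c L237499) q20178, e3 q17265 L240173 q20489, e3 q17266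 L240189 q20491, e3 q17267 L213343 q16670, e3 q17268 (flp_c L215871) q17540, e3 q17269 (flp_c L213355) q13170, e3 q17270 (flp_c L216781) q17661, e3 q17271 L213373 q13172, e3 q17272 L240221 q20494, e3 q17273 L216773 q17660, e3 q17274 (flp_c L213395) q13173, e3 q17275 (flp_c L213401) q13174, e3 q17276 L213417 q13176, e3 q17277 L240249 q20497, e3 q17278 L213437 q14616, e3 q17279 L240265 q20499, trivial⟩ (by decide +kernel)

theorem ce_c_270 : ∀ r, r < 64 → sm gc (Qf (17280 + r)) = Qf (tab Gen.c (17280 + r)) :=
  edges_tab (sm gc) Qf (tab Gen.c) 17280 [(17280, 13180), (17281, 20500), (17282, 13179), (17283, 20502), (17284, 19028), (17285, 13181), (17286, 20504), (17287, 19854), (17288, 13183), (17289, 20507), (17290, 16141), (17291, 16143), (17292, 18702), (17293, 17938), (17294, 13186), (17295, 18540), (17296, 13188), (17297, 13189), (17298, 20511), (17299, 18615), (17300, 19839), (17301, 17231), (17302, 17234), (17303, 15673), (17304, 15677), (17305, 17125), (17306, 17696), (17307, 17225), (17308, 19313), (17309, 19602),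 (17310, 17226), (17311, 17742), (17312, 17743), (17313, 17744), (17314, 20519), (17315, 18900), (17316, 19961), (17317, 13204), (17318, 20522), (17319, 20523), (17320, 20524), (17321, 15819), (17322, 16350), (17323, 17802), (17324, 13208), (17325, 13209), (17326, 13210), (17327, 20532), (17328, 20534), (17329, 20536), (17330, 19764), (17331, 15227), (17332, 15828), (17333, 19385), (17334, 14208), (17335, 15879), (17336, 19387), (17337, 15878), (17338, 19559), (17339, 13218), (17340, 13847), (17341, 13220), (17342, 18920), (17343, 17740)]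
    ⟨e3 q17280 L213449 q13180, e3 q17281 L240273 q20500, e3 q17282 (flp_c L213459) q13179, e3 q17283 (flp_c L240289) q20502, e3 q17284 L227736 q19028, e3 q17285 (flp_c L213475) q13181, e3 q17286 (flp_c L240307) q20504, e3 q17287 (flp_c L234623) q19854, e3 q17288 L213495 q13183, e3 q17289 (flp_c L240335) q20507, e3 q17290 L213511 q16141, e3 q17291 L213519 q16143, e3 q17292 L225475 q18702, e3 q17293 (flp_c L219218) q17938, e3 q17294 (flp_c L213539) q13186, e3 q17295 L224255 q18540, e3 q17296 L213555 q13188, e3 q17297 L213561 q13189, e3 q17298 (flp_c L240373) q20511, e3 q17299 (flp_c L224915) q18615, e3 q17300 (flp_c L234467) q19839, e3 q17301 L213585 q17231, e3 q17302 L213595 q17234, e3 q17303 L213603 q15673, e3 q17304 L213607 q15677, e3 q17305 L213617 q17125, e3 q17306 L217076 q17696, e3 q17307 L213633 q17225, e3 q17308 (flp_c L229922) q19313, e3 q17309 (flp_c L232550) q19602, e3 q17310 L213655 q17226, e3 q17311 (flp_c L217460) q17742, e3 q17312 (flp_c L217468) q17743, e3 q17313 (flp_c L217476) q17744, e3 q17314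 L240447 q20519, e3 q17315 (flp_c L226774) q18900, e3 q17316 (flp_c L235587) q19961, e3 q17317 (flp_c L213689) q13204, e3 q17318 (flp_c L240489) q20522, e3 q17319 (flp_c L240495) q20523, e3 q17320 (flp_c L240501) q20524, e3 q17321 L213717 q15819, e3 q17322 L213725 q16350, e3 q17323 (flp_c L217880) q17802, e3 q17324 L213735 q13208, e3 q17325 L213739 q13209, e3 q17326 L213743 q13210, e3 q17327 (flp_c L240545) q20532, e3 q17328 (flp_c L240559) q20534, e3 q17329 L240572 q20536, e3 q17330 (flp_c L233879) q19764, e3 q17331 L213770 q15227, e3 q17332 L213776 q15828, e3 q17333 (flp_c L230510) q19385, e3 q17334 L213784 q14208, e3 q17335 L213790 q15879, e3 q17336 (flp_c L230530) q19387, e3 q17337 L213805 q15878, e3 q17338 (flp_c L232174) q19559, e3 q17339 (flp_c L213817) q13218, e3 q17340 (flp_c L213832) q13847, e3 q17341 (flp_c L213834) q13220, e3 q17342 (flp_c L226914) q18920, e3 q17343 (flp_c L217434) q17740, trivial⟩ (by decide +kernel)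

theorem ce_c_271 : ∀ r, r < 64 → sm gc (Qf (17344 + r)) = Qf (tab Gen.c (17344 + r)) :=
  edges_tab (sm gc) Qf (tab Gen.c) 17344 [(17344, 20546), (17345, 17380), (17346, 17381), (17347, 15714), (17348, 15715), (17349, 15716), (17350, 17382), (17351, 20527), (17352, 17373), (17353, 17374), (17354, 15233), (17355, 17378), (17356, 13231), (17357, 20558), (17358, 20559), (17359, 20563), (17360, 16157), (17361, 13234), (17362, 13235), (17363, 13236), (17364, 20566), (17365, 20567), (17366, 19335), (17367, 13238), (17368, 13798), (17369, 13240), (17370, 17672), (17371, 18865), (17372, 20572), (17373, 17352), (17374, 17353), (17375, 15940), (17376, 15941), (17377, 15942), (17378, 17355), (17379, 20469), (17380, 17345), (17381, 17346), (17382, 17350), (17383, 15286), (17384, 13251), (17385, 20583), (17386, 16172), (17387, 13253), (17388, 13254), (17389, 20585), (17390, 13257), (17391, 13448), (17392, 17396), (17393, 13268), (17394, 13270), (17395, 13395), (17396, 17392), (17397, 13280), (17398, 17635), (17399, 13399),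 (17400, 13305), (17401, 17637), (17402, 13298), (17403, 13311), (17404, 14561), (17405, 13319), (17406, 13321), (17407, 13322)]
    ⟨e3 q17344 (flp_c L240664) q20546, e3 q17345 (flp_c L214248) q17380, e3 q17346 (flp_c L214256) q17381, e3 q17347 L213889 q15714, e3 q17348 L213897 q15715, e3 q17349 L213907 q15716, e3 q17350 (flp_c L214262) q17382, e3 q17351 (flp_c L240523) q20527, e3 q17352 (flp_c L214176) q17373, e3 q17353 (flp_c L214186) q17374, e3 q17354 (flp_c L222777) q15233, e3 q17355 (flp_c L214234) q17378, e3 q17356 (flp_c L213970) q13231, e3 q17357 (flp_c L240764) q20558, e3 q17358 (flp_c L240772) q20559, e3 q17359 L240800 q20563, e3 q17360 L213998 q16157, e3 q17361 L214078 q13234, e3 q17362 L214082 q13235, e3 q17363 L214086 q13236, e3 q17364 (flp_c L240831) q20566, e3 q17365 (flp_c L240839) q20567, e3 q17366 (flp_c L230124) q19335, e3 q17367 (flp_c L214122) q13238, e3 q17368 (flp_c L214137) q13798, e3 q17369 (flp_c L214139) q13240, e3 q17370 (flp_c L216871) q17672, e3 q17371 (flp_c L226503) q18865, e3 q17372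 (flp_c L240896) q20572, e3 q17373 L214176 q17352, e3 q17374 L214186 q17353, e3 q17375 L214198 q15940, e3 q17376 L214206 q15941, e3 q17377 L214216 q15942, e3 q17378 L214234 q17355, e3 q17379 (flp_c L240037) q20469, e3 q17380 L214248 q17345, e3 q17381 L214256 q17346, e3 q17382 L214262 q17350, e3 q17383 (flp_c L222838) q15286, e3 q17384 (flp_c L214291) q13251, e3 q17385 (flp_c L241000) q20583, e3 q17386 L214319 q16172, e3 q17387 L214399 q13253, e3 q17388 L214403 q13254, e3 q17389 (flp_c L241022) q20585, e3 q17390 (flp_c L214437) q13257, e3 q17391 L214449 q13448, e3 q17392 (flp_c L214495) q17396, e3 q17393 L214465 q13268, e3 q17394 (flp_c L214473) q13270, e3 q17395 L214485 q13395, e3 q17396 L214495 q17392, e3 q17397 L214503 q13280, e3 q17398 (flp_c L216585) q17635, e3 q17399 L214523 q13399, e3 q17400 L214531 q13305, e3 q17401 (flp_c L216615) q17637, e3 q17402 (flp_c L214547) q13298, e3 q17403 L214559 q13311, e3 q17404 L214569 q14561, e3 q17405 (flp_c L214577) q13319, e3 q17406 L214587 q13321, e3 q17407 (flp_c L214591)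 q13322, trivial⟩ (by decide +kernel)

theorem ce_c_272 : ∀ r, r < 64 → sm gc (Qf (17408 + r)) = Qf (tab Gen.c (17408 + r)) :=
  edges_tab (sm gc) Qf (tab Gen.c) 17408 [(17408, 13324), (17409, 13326), (17410, 14888), (17411, 13478), (17412, 13379), (17413, 13380), (17414, 16402), (17415, 13480), (17416, 17707), (17417, 13451), (17418, 13365), (17419, 17709), (17420, 13358), (17421, 13370), (17422, 14611), (17423, 13374), (17424, 13376), (17425, 13377), (17426, 14856), (17427, 13426), (17428, 16380), (17429, 13429), (17430, 16461), (17431, 13391), (17432, 20208), (17433, 14979), (17434, 13392), (17435, 16866), (17436, 13401), (17437, 14526), (17438, 20587), (17439, 13407), (17440, 16432), (17441, 13425), (17442, 15915), (17443, 15868), (17444, 20424), (17445, 15804), (17446, 13432), (17447, 19260), (17448, 19986), (17449, 13433), (17450, 20588), (17451, 19530), (17452, 19531), (17453, 16736), (17454, 17479), (17455, 16312), (17456, 14931), (17457, 13443), (17458, 16857), (17459, 13444), (17460, 20206), (17461, 13453),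 (17462, 14477), (17463, 20591), (17464, 13459), (17465, 16277), (17466, 13477), (17467, 15685), (17468, 15634), (17469, 20377), (17470, 15564), (17471, 13483)]
    ⟨e3 q17408 L214607 q13324, e3 q17409 L214615 q13326, e3 q17410 L214627 q14888, e3 q17411 L214639 q13478, e3 q17412 L214649 q13379, e3 q17413 L214655 q13380, e3 q17414 L214663 q16402, e3 q17415 L214677 q13480, e3 q17416 (flp_c L217158) q17707, e3 q17417 L214695 q13451, e3 q17418 L214703 q13365, e3 q17419 (flp_c L217186) q17709, e3 q17420 (flp_c L214719) q13358, e3 q17421 L214731 q13370, e3 q17422 L214741 q14611, e3 q17423 (flp_c L214749) q13374, e3 q17424 L214765 q13376, e3 q17425 (flp_c L214773) q13377, e3 q17426 L214789 q14856, e3 q17427 L214801 q13426, e3 q17428 L214811 q16380, e3 q17429 L214825 q13429, e3 q17430 (flp_c L214843) q16461, e3 q17431 (flp_c L214845) q13391, e3 q17432 (flp_c L237774) q20208, e3 q17433 (flp_c L214866) q14979, e3 q17434 (flp_c L214868) q13392, e3 q17435 L214882 q16866, e3 q17436 (flp_c L214890) q13401, e3 q17437 L214902 q14526,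 e3 q17438 L241042 q20587, e3 q17439 L214922 q13407, e3 q17440 L214930 q16432, e3 q17441 L214946 q13425, e3 q17442 L214954 q15915, e3 q17443 L214970 q15868, e3 q17444 (flp_c L239621) q20424, e3 q17445 L214988 q15804, e3 q17446 (flp_c L214998) q13432, e3 q17447 (flp_c L229418) q19260, e3 q17448 (flp_c L235825) q19986, e3 q17449 (flp_c L215025) q13433, e3 q17450 (flp_c L241050) q20588, e3 q17451 (flp_c L231890) q19530, e3 q17452 (flp_c L231906) q19531, e3 q17453 L215056 q16736, e3 q17454 (flp_c L215313) q17479, e3 q17455 (flp_c L215078) q16312, e3 q17456 (flp_c L215086) q14931, e3 q17457 (flp_c L215088) q13443, e3 q17458 L215106 q16857, e3 q17459 (flp_c L215114) q13444, e3 q17460 (flp_c L237753) q20206, e3 q17461 (flp_c L215129) q13453, e3 q17462 L215141 q14477, e3 q17463 L241074 q20591, e3 q17464 L215161 q13459, e3 q17465 L215169 q16277, e3 q17466 L215185 q13477, e3 q17467 L215193 q15685, e3 q17468 L215209 q15634, e3 q17469 (flp_c L239181) q20377, e3 q17470 L215229 q15564, e3 q17471 (flp_c L215239) q13483, trivial⟩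 (by decide +kernel)

theorem ce_c_273 : ∀ r, r < 64 → sm gc (Qf (17472 + r)) = Qf (tab Gen.c (17472 + r)) :=
  edges_tab (sm gc) Qf (tab Gen.c) 17472 [(17472, 19493), (17473, 19925), (17474, 13486), (17475, 20592), (17476, 19302), (17477, 19303), (17478, 16739), (17479, 17454), (17480, 13503), (17481, 20595), (17482, 13506), (17483, 16965), (17484, 16230), (17485, 19899), (17486, 13559), (17487, 14841), (17488, 18584), (17489, 13527), (17490, 20597), (17491, 13530), (17492, 16950), (17493, 16259), (17494, 19912), (17495, 13585), (17496, 14813), (17497, 18595), (17498, 17507), (17499, 18587), (17500, 14072), (17501, 16529), (17502, 17503), (17503, 17502), (17504, 18586), (17505, 14123), (17506, 16564), (17507, 17498), (17508, 13597), (17509, 20599), (17510, 16001), (17511, 13599), (17512, 13600), (17513, 20601), (17514, 16077), (17515, 13602), (17516, 13608), (17517, 16660), (17518, 13612), (17519, 16678), (17520, 18236), (17521, 18295), (17522, 13617), (17523, 20603), (17524, 13619), (17525, 20604), (17526, 19381),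 (17527, 13622), (17528, 20431), (17529, 13624), (17530, 19596), (17531, 13626), (17532, 20490), (17533, 13628), (17534, 13631), (17535, 13634)]
    ⟨e3 q17472 (flp_c L231564) q19493, e3 q17473 (flp_c L235239) q19925, e3 q17474 (flp_c L215268) q13486, e3 q17475 (flp_c L241082) q20592, e3 q17476 (flp_c L229800) q19302, e3 q17477 (flp_c L229816) q19303, e3 q17478 L215303 q16739, e3 q17479 L215313 q17454, e3 q17480 (flp_c L215315) q13503, e3 q17481 (flp_c L241112) q20595, e3 q17482 L215337 q13506, e3 q17483 L215347 q16965, e3 q17484 (flp_c L215363) q16230, e3 q17485 (flp_c L235007) q19899, e3 q17486 L215375 q13559, e3 q17487 L215389 q14841, e3 q17488 (flp_c L224627) q18584, e3 q17489 (flp_c L215403) q13527, e3 q17490 (flp_c L241134) q20597, e3 q17491 L215425 q13530, e3 q17492 L215435 q16950, e3 q17493 (flp_c L215451) q16259, e3 q17494 (flp_c L235127) q19912, e3 q17495 L215463 q13585, e3 q17496 L215477 q14813, e3 q17497 (flp_c L224731) q18595, e3 q17498 (flp_c L215584) q17507, e3 q17499 (flp_c L224668) q18587, e3 q17500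 (flp_c L215516) q14072, e3 q17501 L215522 q16529, e3 q17502 (flp_c L215541) q17503, e3 q17503 L215541 q17502, e3 q17504 (flp_c L224652) q18586, e3 q17505 (flp_c L215566) q14123, e3 q17506 L215572 q16564, e3 q17507 L215584 q17498, e3 q17508 (flp_c L215591) q13597, e3 q17509 (flp_c L241156) q20599, e3 q17510 (flp_c L215619) q16001, e3 q17511 L215623 q13599, e3 q17512 (flp_c L215627) q13600, e3 q17513 (flp_c L241184) q20601, e3 q17514 (flp_c L215657) q16077, e3 q17515 L215661 q13602, e3 q17516 L215669 q13608, e3 q17517 L215677 q16660, e3 q17518 L215685 q13612, e3 q17519 L215693 q16678, e3 q17520 L221448 q18236, e3 q17521 L221904 q18295, e3 q17522 (flp_c L215717) q13617, e3 q17523 (flp_c L241212) q20603, e3 q17524 (flp_c L215733) q13619, e3 q17525 (flp_c L241220) q20604, e3 q17526 (flp_c L230468) q19381, e3 q17527 (flp_c L215761) q13622, e3 q17528 (flp_c L239703) q20431, e3 q17529 L215779 q13624, e3 q17530 (flp_c L232484) q19596, e3 q17531 (flp_c L215795) q13626, e3 q17532 (flp_c L240187) q20490, e3 q17533 L215813 q13628,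 e3 q17534 L215819 q13631, e3 q17535 L215827 q13634, trivial⟩ (by decide +kernel)

theorem ce_c_274 : ∀ r, r < 64 → sm gc (Qf (17536 + r)) = Qf (tab Gen.c (17536 + r)) :=
  edges_tab (sm gc) Qf (tab Gen.c) 17536 [(17536, 17192), (17537, 13637), (17538, 13640), (17539, 13643), (17540, 17268), (17541, 13646), (17542, 19277), (17543, 19384), (17544, 13652), (17545, 20614), (17546, 13654), (17547, 13656), (17548, 14928), (17549, 13657), (17550, 20617), (17551, 13660), (17552, 13662), (17553, 14976), (17554, 13667), (17555, 13668), (17556, 14129), (17557, 14078), (17558, 13973), (17559, 13952), (17560, 14233), (17561, 14235), (17562, 13721), (17563, 20622), (17564, 20621), (17565, 13724), (17566, 14306), (17567, 14307), (17568, 20103), (17569, 13728), (17570, 20629), (17571, 20631), (17572, 20633), (17573, 13729), (17574, 20634), (17575, 13730), (17576, 16772), (17577, 16629), (17578, 14663), (17579, 13737), (17580, 13740), (17581, 20638), (17582, 13739), (17583, 19987), (17584, 15565), (17585, 20637), (17586, 16771),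 (17587, 20611), (17588, 13934), (17589, 19592), (17590, 13746), (17591, 20649), (17592, 20648), (17593, 13749), (17594, 14361), (17595, 14362), (17596, 20111), (17597, 13753), (17598, 20656), (17599, 20658)]
    ⟨e3 q17536 L215835 q17192, e3 q17537 L215847 q13637, e3 q17538 L215855 q13640, e3 q17539 L215863 q13643, e3 q17540 L215871 q17268, e3 q17541 L215883 q13646, e3 q17542 (flp_c L229562) q19277, e3 q17543 (flp_c L230498) q19384, e3 q17544 (flp_c L215913) q13652, e3 q17545 L241318 q20614, e3 q17546 L215924 q13654, e3 q17547 L215934 q13656, e3 q17548 L215948 q14928, e3 q17549 (flp_c L215956) q13657, e3 q17550 L241332 q20617, e3 q17551 L215969 q13660, e3 q17552 L215979 q13662, e3 q17553 L215993 q14976, e3 q17554 (flp_c L216003) q13667, e3 q17555 (flp_c L216012) q13668, e3 q17556 (flp_c L216028) q14129, e3 q17557 (flp_c L216037) q14078, e3 q17558 L216043 q13973, e3 q17559 L216051 q13952, e3 q17560 L216057 q14233, e3 q17561 L216063 q14235, e3 q17562 (flp_c L216067) q13721, e3 q17563 (flp_c L241388) q20622, e3 q17564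 (flp_c L241380) q20621, e3 q17565 L216091 q13724, e3 q17566 L216099 q14306, e3 q17567 L216107 q14307, e3 q17568 (flp_c L236803) q20103, e3 q17569 L216119 q13728, e3 q17570 L241436 q20629, e3 q17571 L241442 q20631, e3 q17572 L241462 q20633, e3 q17573 (flp_c L216139) q13729, e3 q17574 (flp_c L241470) q20634, e3 q17575 (flp_c L216147) q13730, e3 q17576 L216167 q16772, e3 q17577 L216171 q16629, e3 q17578 L216181 q14663, e3 q17579 (flp_c L216187) q13737, e3 q17580 L216199 q13740, e3 q17581 L241504 q20638, e3 q17582 L216207 q13739, e3 q17583 L235836 q19987, e3 q17584 (flp_c L216225) q15565, e3 q17585 (flp_c L241494) q20637, e3 q17586 L216235 q16771, e3 q17587 (flp_c L241296) q20611, e3 q17588 L216251 q13934, e3 q17589 (flp_c L232450) q19592, e3 q17590 (flp_c L216265) q13746, e3 q17591 (flp_c L241622) q20649, e3 q17592 (flp_c L241614) q20648, e3 q17593 L216289 q13749, e3 q17594 L216297 q14361, e3 q17595 L216305 q14362, e3 q17596 (flp_c L236887) q20111, e3 q17597 L216317 q13753, e3 q17598 L241670 q20656, e3 q17599 L241676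 q20658, trivial⟩ (by decide +kernel)

theorem ce_c_275 : ∀ r, r < 64 → sm gc (Qf (17600 + r)) = Qf (tab Gen.c (17600 + r)) :=
  edges_tab (sm gc) Qf (tab Gen.c) 17600 [(17600, 20660), (17601, 13754), (17602, 20661), (17603, 13755), (17604, 16777), (17605, 16610), (17606, 14690), (17607, 13762), (17608, 13765), (17609, 20664), (17610, 13764), (17611, 19926), (17612, 15807), (17613, 20663), (17614, 16776), (17615, 20608), (17616, 13931), (17617, 19377), (17618, 18082), (17619, 13774), (17620, 20518), (17621, 17625), (17622, 18136), (17623, 13782), (17624, 20459), (17625, 17621), (17626, 17627), (17627, 17626), (17628, 17880), (17629, 13792), (17630, 18435), (17631, 20408), (17632, 13793), (17633, 17705), (17634, 13794), (17635, 17398), (17636, 17130), (17637, 17401), (17638, 14488), (17639, 14497), (17640, 13800), (17641, 20679), (17642, 19728), (17643, 13804), (17644, 17665), (17645, 19731), (17646, 17910), (17647, 20401), (17648, 13854), (17649, 13805), (17650, 19829), (17651, 13806), (17652, 20689), (17653, 17723),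 (17654, 13808), (17655, 18948), (17656, 13811), (17657, 15779), (17658, 13810), (17659, 17662), (17660, 17273), (17661, 17270), (17662, 17659), (17663, 13812)]
    ⟨e3 q17600 L241696 q20660, e3 q17601 (flp_c L216337) q13754, e3 q17602 (flp_c L241704) q20661, e3 q17603 (flp_c L216345) q13755, e3 q17604 (flp_c L216365) q16777, e3 q17605 L216369 q16610, e3 q17606 L216379 q14690, e3 q17607 (flp_c L216385) q13762, e3 q17608 L216397 q13765, e3 q17609 L241730 q20664, e3 q17610 L216405 q13764, e3 q17611 L235250 q19926, e3 q17612 (flp_c L216423) q15807, e3 q17613 (flp_c L241720) q20663, e3 q17614 L216433 q16776, e3 q17615 (flp_c L241265) q20608, e3 q17616 L216449 q13931, e3 q17617 (flp_c L230436) q19377, e3 q17618 L220286 q18082, e3 q17619 (flp_c L216469) q13774, e3 q17620 (flp_c L240443) q20518, e3 q17621 (flp_c L216515) q17625, e3 q17622 L220716 q18136, e3 q17623 (flp_c L216495) q13782, e3 q17624 (flp_c L239947) q20459, e3 q17625 L216515 q17621, e3 q17626 (flp_c L216531) q17627, e3 q17627 L216531 q17626, e3 q17628 L218656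 q17880, e3 q17629 L216547 q13792, e3 q17630 (flp_c L223345) q18435, e3 q17631 (flp_c L239475) q20408, e3 q17632 (flp_c L216561) q13793, e3 q17633 (flp_c L217178) q17705, e3 q17634 (flp_c L216569) q13794, e3 q17635 L216585 q17398, e3 q17636 L216597 q17130, e3 q17637 L216615 q17401, e3 q17638 L216629 q14488, e3 q17639 L216637 q14497, e3 q17640 (flp_c L216645) q13800, e3 q17641 (flp_c L241888) q20679, e3 q17642 (flp_c L233569) q19728, e3 q17643 L216663 q13804, e3 q17644 L221670 q17665, e3 q17645 (flp_c L233593) q19731, e3 q17646 (flp_c L222864) q17910, e3 q17647 (flp_c L239417) q20401, e3 q17648 L222537 q13854, e3 q17649 (flp_c L216687) q13805, e3 q17650 L234385 q19829, e3 q17651 (flp_c L216695) q13806, e3 q17652 (flp_c L241972) q20689, e3 q17653 L222517 q17723, e3 q17654 L216719 q13808, e3 q17655 L227155 q18948, e3 q17656 L216739 q13811, e3 q17657 L216751 q15779, e3 q17658 L216755 q13810, e3 q17659 (flp_c L216793) q17662, e3 q17660 (flp_c L216773) q17273, e3 q17661 L216781 q17270, e3 q17662 L216793 q17659, e3 q17663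 (flp_c L216801) q13812, trivial⟩ (by decide +kernel)

theorem ce_c_276 : ∀ r, r < 64 → sm gc (Qf (17664 + r)) = Qf (tab Gen.c (17664 + r)) :=
  edges_tab (sm gc) Qf (tab Gen.c) 17664 [(17664, 20692), (17665, 17644), (17666, 13814), (17667, 18186), (17668, 20695), (17669, 13857), (17670, 20571), (17671, 13818), (17672, 17370), (17673, 13824), (17674, 17235), (17675, 17236), (17676, 17237), (17677, 18380), (17678, 18379), (17679, 13827), (17680, 13828), (17681, 20700), (17682, 20541), (17683, 13896), (17684, 13897), (17685, 13898), (17686, 13899), (17687, 15191), (17688, 13833), (17689, 17689), (17690, 13834), (17691, 20707), (17692, 20710), (17693, 20610), (17694, 13835), (17695, 20711), (17696, 17306), (17697, 13837), (17698, 17699), (17699, 17698), (17700, 17904), (17701, 13842), (17702, 18375), (17703, 20347), (17704, 13843), (17705, 17633), (17706, 13844), (17707, 17416), (17708, 17040), (17709, 17419), (17710, 14439), (17711, 14448), (17712, 13849), (17713, 20716), (17714, 19821), (17715, 13853), (17716, 17734),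 (17717, 19824), (17718, 17887), (17719, 20338), (17720, 19736), (17721, 13855), (17722, 20696), (17723, 17653), (17724, 18894), (17725, 13860), (17726, 15537), (17727, 13859)]
    ⟨e3 q17664 (flp_c L242008) q20692, e3 q17665 (flp_c L221670) q17644, e3 q17666 L216823 q13814, e3 q17667 (flp_c L221100) q18186, e3 q17668 L242034 q20695, e3 q17669 L216849 q13857, e3 q17670 (flp_c L240880) q20571, e3 q17671 (flp_c L216861) q13818, e3 q17672 L216871 q17370, e3 q17673 L216883 q13824, e3 q17674 L216897 q17235, e3 q17675 L216905 q17236, e3 q17676 L216922 q17237, e3 q17677 (flp_c L222970) q18380, e3 q17678 (flp_c L222960) q18379, e3 q17679 L216954 q13827, e3 q17680 L216960 q13828, e3 q17681 (flp_c L242096) q20700, e3 q17682 (flp_c L240617) q20541, e3 q17683 L216988 q13896, e3 q17684 L216994 q13897, e3 q17685 L217000 q13898, e3 q17686 L217004 q13899, e3 q17687 (flp_c L217010) q15191, e3 q17688 L217014 q13833, e3 q17689 L217020 q17689, e3 q17690 L217025 q13834, e3 q17691 (flp_c L242168) q20707, e3 q17692 L242197 q20710, e3 q17693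 (flp_c L241287) q20610, e3 q17694 (flp_c L217053) q13835, e3 q17695 (flp_c L242206) q20711, e3 q17696 (flp_c L217076) q17306, e3 q17697 L217082 q13837, e3 q17698 (flp_c L217104) q17699, e3 q17699 L217104 q17698, e3 q17700 L218888 q17904, e3 q17701 L217120 q13842, e3 q17702 (flp_c L222932) q18375, e3 q17703 (flp_c L238911) q20347, e3 q17704 (flp_c L217134) q13843, e3 q17705 L217178 q17633, e3 q17706 (flp_c L217142) q13844, e3 q17707 L217158 q17416, e3 q17708 L217172 q17040, e3 q17709 L217186 q17419, e3 q17710 L217202 q14439, e3 q17711 L217210 q14448, e3 q17712 (flp_c L217218) q13849, e3 q17713 (flp_c L242252) q20716, e3 q17714 (flp_c L234315) q19821, e3 q17715 L217236 q13853, e3 q17716 L217388 q17734, e3 q17717 (flp_c L234345) q19824, e3 q17718 L222866 q17887, e3 q17719 (flp_c L238827) q20338, e3 q17720 L233637 q19736, e3 q17721 (flp_c L217268) q13855, e3 q17722 (flp_c L242044) q20696, e3 q17723 (flp_c L222517) q17653, e3 q17724 L226723 q18894, e3 q17725 L217304 q13860, e3 q17726 L217316 q15537, e3 q17727 L217320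 q13859, trivial⟩ (by decide +kernel)

theorem ce_c_277 : ∀ r, r < 64 → sm gc (Qf (17728 + r)) = Qf (tab Gen.c (17728 + r)) :=
  edges_tab (sm gc) Qf (tab Gen.c) 17728 [(17728, 17730), (17729, 17197), (17730, 17728), (17731, 17194), (17732, 13861), (17733, 20727), (17734, 17716), (17735, 13863), (17736, 18211), (17737, 20730), (17738, 20545), (17739, 13867), (17740, 17343), (17741, 13874), (17742, 17311), (17743, 17312), (17744, 17313), (17745, 18442), (17746, 18441), (17747, 13876), (17748, 13877), (17749, 20733), (17750, 20483), (17751, 13909), (17752, 13910), (17753, 13911), (17754, 13912), (17755, 15157), (17756, 13882), (17757, 17757), (17758, 13883), (17759, 20740), (17760, 20743), (17761, 20607), (17762, 13884), (17763, 20744), (17764, 17230), (17765, 13886), (17766, 19479), (17767, 13888), (17768, 19434), (17769, 20745), (17770, 20746), (17771, 15883), (17772, 15967), (17773, 13892), (17774, 13893), (17775, 13894), (17776, 20752), (17777, 19635), (17778, 19931), (17779, 19710), (17780, 20701), (17781, 19031),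 (17782, 20702), (17783, 19007), (17784, 20704), (17785, 19006), (17786, 19243), (17787, 13901), (17788, 20758), (17789, 15649), (17790, 15742), (17791, 13905)]
    ⟨e3 q17728 (flp_c L217348) q17730, e3 q17729 (flp_c L217340) q17197, e3 q17730 L217348 q17728, e3 q17731 L217358 q17194, e3 q17732 (flp_c L217366) q13861, e3 q17733 (flp_c L242354) q20727, e3 q17734 (flp_c L217388) q17716, e3 q17735 L217394 q13863, e3 q17736 (flp_c L221269) q18211, e3 q17737 L242380 q20730, e3 q17738 (flp_c L240650) q20545, e3 q17739 (flp_c L217424) q13867, e3 q17740 L217434 q17343, e3 q17741 L217446 q13874, e3 q17742 L217460 q17311, e3 q17743 L217468 q17312, e3 q17744 L217476 q17313, e3 q17745 (flp_c L223399) q18442, e3 q17746 (flp_c L223387) q18441, e3 q17747 L217510 q13876, e3 q17748 L217516 q13877, e3 q17749 (flp_c L242420) q20733, e3 q17750 (flp_c L240123) q20483, e3 q17751 L217544 q13909, e3 q17752 L217550 q13910, e3 q17753 L217556 q13911, e3 q17754 L217560 q13912, e3 q17755 (flp_c L217566) q15157, e3 q17756 L217570 q13882, e3 q17757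 L217576 q17757, e3 q17758 L217581 q13883, e3 q17759 (flp_c L242494) q20740, e3 q17760 L242521 q20743, e3 q17761 (flp_c L241256) q20607, e3 q17762 (flp_c L217609) q13884, e3 q17763 (flp_c L242530) q20744, e3 q17764 (flp_c L217632) q17230, e3 q17765 L217638 q13886, e3 q17766 (flp_c L231418) q19479, e3 q17767 (flp_c L217654) q13888, e3 q17768 L231066 q19434, e3 q17769 (flp_c L242540) q20745, e3 q17770 (flp_c L242552) q20746, e3 q17771 L217688 q15883, e3 q17772 (flp_c L217698) q15967, e3 q17773 L217702 q13892, e3 q17774 L217706 q13893, e3 q17775 L217710 q13894, e3 q17776 (flp_c L242608) q20752, e3 q17777 L232851 q19635, e3 q17778 (flp_c L235300) q19931, e3 q17779 L233429 q19710, e3 q17780 (flp_c L242110) q20701, e3 q17781 L227758 q19031, e3 q17782 (flp_c L242120) q20702, e3 q17783 (flp_c L227604) q19007, e3 q17784 (flp_c L242138) q20704, e3 q17785 L227616 q19006, e3 q17786 (flp_c L229262) q19243, e3 q17787 (flp_c L217781) q13901, e3 q17788 (flp_c L242673) q20758, e3 q17789 L217801 q15649, e3 q17790 (flp_c L217811) q15742,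 e3 q17791 L217815 q13905, trivial⟩ (by decide +kernel)

theorem ce_c_278 : ∀ r, r < 64 → sm gc (Qf (17792 + r)) = Qf (tab Gen.c (17792 + r)) :=
  edges_tab (sm gc) Qf (tab Gen.c) 17792 [(17792, 13906), (17793, 13907), (17794, 19991), (17795, 19805), (17796, 19168), (17797, 20734), (17798, 19147), (17799, 20735), (17800, 19145), (17801, 20737), (17802, 17323), (17803, 16174), (17804, 16175), (17805, 16180), (17806, 16181), (17807, 13916), (17808, 15734), (17809, 20774), (17810, 20778), (17811, 20773), (17812, 13919), (17813, 13920), (17814, 13921), (17815, 20782), (17816, 19623), (17817, 17247), (17818, 16159), (17819, 16160), (17820, 16165), (17821, 16166), (17822, 13925), (17823, 15959), (17824, 20788), (17825, 13927), (17826, 13928), (17827, 19421), (17828, 17829), (17829, 17828), (17830, 16667), (17831, 13948), (17832, 14733), (17833, 14932), (17834, 15021), (17835, 17914), (17836, 17837), (17837, 17836), (17838, 13995), (17839, 18531), (17840, 16649), (17841, 13969), (17842, 14714), (17843, 14981), (17844, 15009),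 (17845, 17892), (17846, 17847), (17847, 17846), (17848, 14014), (17849, 18529), (17850, 13997), (17851, 17861), (17852, 14017), (17853, 17873), (17854, 17886), (17855, 13998)]
    ⟨e3 q17792 L217821 q13906, e3 q17793 L217827 q13907, e3 q17794 (flp_c L235872) q19991, e3 q17795 L234185 q19805, e3 q17796 L228679 q19168, e3 q17797 (flp_c L242434) q20734, e3 q17798 (flp_c L228537) q19147, e3 q17799 (flp_c L242444) q20735, e3 q17800 (flp_c L228523) q19145, e3 q17801 (flp_c L242462) q20737, e3 q17802 L217880 q17323, e3 q17803 L217888 q16174, e3 q17804 L217898 q16175, e3 q17805 L217906 q16180, e3 q17806 L217918 q16181, e3 q17807 (flp_c L217926) q13916, e3 q17808 L217940 q15734, e3 q17809 (flp_c L242836) q20774, e3 q17810 L242864 q20778, e3 q17811 L242830 q20773, e3 q17812 L217974 q13919, e3 q17813 L217978 q13920, e3 q17814 L217982 q13921, e3 q17815 (flp_c L242887) q20782, e3 q17816 (flp_c L232737) q19623, e3 q17817 L218026 q17247, e3 q17818 L218034 q16159, e3 q17819 L218044 q16160, e3 q17820 L218052 q16165, e3 q17821 L218064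 q16166, e3 q17822 (flp_c L218072) q13925, e3 q17823 L218086 q15959, e3 q17824 L242955 q20788, e3 q17825 L218120 q13927, e3 q17826 L218124 q13928, e3 q17827 (flp_c L230806) q19421, e3 q17828 (flp_c L218178) q17829, e3 q17829 L218178 q17828, e3 q17830 L218188 q16667, e3 q17831 L218198 q13948, e3 q17832 L218206 q14733, e3 q17833 L218218 q14932, e3 q17834 (flp_c L218236) q15021, e3 q17835 L218992 q17914, e3 q17836 (flp_c L218258) q17837, e3 q17837 L218258 q17836, e3 q17838 (flp_c L218274) q13995, e3 q17839 (flp_c L224147) q18531, e3 q17840 L218290 q16649, e3 q17841 L218300 q13969, e3 q17842 L218308 q14714, e3 q17843 L218320 q14981, e3 q17844 (flp_c L218338) q15009, e3 q17845 L218780 q17892, e3 q17846 (flp_c L218360) q17847, e3 q17847 L218360 q17846, e3 q17848 L218370 q14014, e3 q17849 (flp_c L224129) q18529, e3 q17850 L218390 q13997, e3 q17851 (flp_c L218478) q17861, e3 q17852 L218406 q14017, e3 q17853 (flp_c L218582) q17873, e3 q17854 (flp_c L218716) q17886, e3 q17855 L218434 q13998, trivial⟩ (by decide +kernel)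

theorem ce_c_279 : ∀ r, r < 64 → sm gc (Qf (17856 + r)) = Qf (tab Gen.c (17856 + r)) :=
  edges_tab (sm gc) Qf (tab Gen.c) 17856 [(17856, 18440), (17857, 20590), (17858, 13996), (17859, 19591), (17860, 18534), (17861, 17851), (17862, 14782), (17863, 20793), (17864, 14004), (17865, 18594), (17866, 17909), (17867, 14016), (17868, 18378), (17869, 20594), (17870, 14015), (17871, 19376), (17872, 18538), (17873, 17853), (17874, 14816), (17875, 20797), (17876, 14023), (17877, 18583), (17878, 14027), (17879, 14938), (17880, 17628), (17881, 14035), (17882, 20800), (17883, 14039), (17884, 16304), (17885, 14050), (17886, 17854), (17887, 17718), (17888, 14054), (17889, 14096), (17890, 16836), (17891, 20089), (17892, 17845), (17893, 14065), (17894, 18797), (17895, 14138), (17896, 15917), (17897, 20806), (17898, 14142), (17899, 20808), (17900, 14076), (17901, 14080), (17902, 14084), (17903, 14986), (17904, 17700), (17905, 14092), (17906, 20810), (17907, 16453), (17908, 14104), (17909, 17866), (17910, 17646), (17911, 14108),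 (17912, 16843), (17913, 20097), (17914, 17835), (17915, 14118), (17916, 18746), (17917, 14147), (17918, 15687), (17919, 20816)]
    ⟨e3 q17856 (flp_c L223377) q18440, e3 q17857 (flp_c L241066) q20590, e3 q17858 (flp_c L218456) q13996, e3 q17859 (flp_c L232444) q19591, e3 q17860 (flp_c L224181) q18534, e3 q17861 L218478 q17851, e3 q17862 L218490 q14782, e3 q17863 L242987 q20793, e3 q17864 L218506 q14004, e3 q17865 (flp_c L224723) q18594, e3 q17866 (flp_c L218938) q17909, e3 q17867 L218538 q14016, e3 q17868 (flp_c L222950) q18378, e3 q17869 (flp_c L241100) q20594, e3 q17870 (flp_c L218560) q14015, e3 q17871 (flp_c L230430) q19376, e3 q17872 (flp_c L224227) q18538, e3 q17873 L218582 q17853, e3 q17874 L218594 q14816, e3 q17875 L243021 q20797, e3 q17876 L218610 q14023, e3 q17877 (flp_c L224619) q18583, e3 q17878 (flp_c L218628) q14027, e3 q17879 L218642 q14938, e3 q17880 (flp_c L218656) q17628, e3 q17881 L218660 q14035, e3 q17882 L243047 q20800, e3 q17883 L218680 q14039, e3 q17884 L218692 q16304, e3 q17885 L218704 q14050,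 e3 q17886 L218716 q17854, e3 q17887 (flp_c L222866) q17718, e3 q17888 L218732 q14054, e3 q17889 L218742 q14096, e3 q17890 L218758 q16836, e3 q17891 (flp_c L236663) q20089, e3 q17892 (flp_c L218780) q17845, e3 q17893 L218788 q14065, e3 q17894 L226107 q18797, e3 q17895 L218810 q14138, e3 q17896 L218822 q15917, e3 q17897 L243127 q20806, e3 q17898 L218838 q14142, e3 q17899 L243155 q20808, e3 q17900 (flp_c L218852) q14076, e3 q17901 L218856 q14080, e3 q17902 (flp_c L218860) q14084, e3 q17903 L218874 q14986, e3 q17904 (flp_c L218888) q17700, e3 q17905 L218892 q14092, e3 q17906 L243173 q20810, e3 q17907 L218912 q16453, e3 q17908 L218926 q14104, e3 q17909 L218938 q17866, e3 q17910 L222864 q17646, e3 q17911 L218954 q14108, e3 q17912 L218968 q16843, e3 q17913 (flp_c L236745) q20097, e3 q17914 (flp_c L218992) q17835, e3 q17915 L219000 q14118, e3 q17916 L225835 q18746, e3 q17917 L219022 q14147, e3 q17918 L219034 q15687, e3 q17919 L243253 q20816, trivial⟩ (by decide +kernel)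

theorem ce_c_280 : ∀ r, r < 64 → sm gc (Qf (17920 + r)) = Qf (tab Gen.c (17920 + r)) :=
  edges_tab (sm gc) Qf (tab Gen.c) 17920 [(17920, 14150), (17921, 20818), (17922, 14127), (17923, 14131), (17924, 14161), (17925, 14182), (17926, 14137), (17927, 20819), (17928, 14560), (17929, 14146), (17930, 20820), (17931, 14614), (17932, 20220), (17933, 16342), (17934, 17944), (17935, 20765), (17936, 14165), (17937, 14562), (17938, 17293), (17939, 14171), (17940, 14563), (17941, 20087), (17942, 20227), (17943, 16482), (17944, 17934), (17945, 20754), (17946, 14186), (17947, 14612), (17948, 17217), (17949, 14191), (17950, 14613), (17951, 20095), (17952, 15024), (17953, 15025), (17954, 15028), (17955, 15029), (17956, 14223), (17957, 14224), (17958, 19705), (17959, 14201), (17960, 20756), (17961, 14229), (17962, 14230), (17963, 19800), (17964, 14205), (17965, 20766), (17966, 20827), (17967, 19123), (17968, 14210), (17969, 20829), (17970, 18984), (17971, 14212), (17972, 20623), (17973, 14214), (17974, 14215), (17975, 19520),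 (17976, 19519), (17977, 17983), (17978, 20650), (17979, 14218), (17980, 14219), (17981, 19291), (17982, 19290), (17983, 17977)]
    ⟨e3 q17920 L219050 q14150, e3 q17921 L243281 q20818, e3 q17922 (flp_c L219064) q14127, e3 q17923 L219068 q14131, e3 q17924 L219076 q14161, e3 q17925 L219088 q14182, e3 q17926 (flp_c L219096) q14137, e3 q17927 (flp_c L243297) q20819, e3 q17928 L219118 q14560, e3 q17929 (flp_c L219126) q14146, e3 q17930 (flp_c L243311) q20820, e3 q17931 L219148 q14614, e3 q17932 (flp_c L237891) q20220, e3 q17933 L219164 q16342, e3 q17934 (flp_c L219274) q17944, e3 q17935 (flp_c L242741) q20765, e3 q17936 L219194 q14165, e3 q17937 L219202 q14562, e3 q17938 L219218 q17293, e3 q17939 L219226 q14171, e3 q17940 L219236 q14563, e3 q17941 (flp_c L236637) q20087, e3 q17942 (flp_c L237933) q20227, e3 q17943 L219266 q16482, e3 q17944 L219274 q17934, e3 q17945 (flp_c L242626) q20754, e3 q17946 L219298 q14186, e3 q17947 L219306 q14612, e3 q17948 L219322 q17217, e3 q17949 L219330 q14191, e3 q17950 L219340 q14613,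 e3 q17951 (flp_c L236719) q20095, e3 q17952 L219366 q15024, e3 q17953 L219376 q15025, e3 q17954 L219386 q15028, e3 q17955 L219396 q15029, e3 q17956 L219404 q14223, e3 q17957 L219412 q14224, e3 q17958 (flp_c L233379) q19705, e3 q17959 (flp_c L219420) q14201, e3 q17960 (flp_c L242650) q20756, e3 q17961 L219436 q14229, e3 q17962 L219444 q14230, e3 q17963 (flp_c L234141) q19800, e3 q17964 (flp_c L219452) q14205, e3 q17965 (flp_c L242753) q20766, e3 q17966 L243383 q20827, e3 q17967 L228352 q19123, e3 q17968 (flp_c L219482) q14210, e3 q17969 L243407 q20829, e3 q17970 L227447 q18984, e3 q17971 (flp_c L219503) q14212, e3 q17972 (flp_c L241404) q20623, e3 q17973 L219520 q14214, e3 q17974 (flp_c L219526) q14215, e3 q17975 (flp_c L231802) q19520, e3 q17976 (flp_c L231792) q19519, e3 q17977 (flp_c L219584) q17983, e3 q17978 (flp_c L241638) q20650, e3 q17979 L219560 q14218, e3 q17980 (flp_c L219566) q14219, e3 q17981 (flp_c L229684) q19291, e3 q17982 (flp_c L229676) q19290, e3 q17983 L219584 q17977, trivial⟩ (by decide +kernel)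

theorem ce_c_281 : ∀ r, r < 64 → sm gc (Qf (17984 + r)) = Qf (tab Gen.c (17984 + r)) :=
  edges_tab (sm gc) Qf (tab Gen.c) 17984 [(17984, 18003), (17985, 17988), (17986, 20825), (17987, 16008), (17988, 17985), (17989, 18075), (17990, 18076), (17991, 15487), (17992, 18007), (17993, 17996), (17994, 20826), (17995, 16085), (17996, 17993), (17997, 18046), (17998, 18047), (17999, 15383), (18000, 20828), (18001, 15034), (18002, 20619), (18003, 17984), (18004, 20830), (18005, 20620), (18006, 15046), (18007, 17992), (18008, 20847), (18009, 14238), (18010, 20848), (18011, 20852), (18012, 14240), (18013, 19424), (18014, 20854), (18015, 14242), (18016, 20855), (18017, 20859), (18018, 14244), (18019, 19292), (18020, 14245), (18021, 20861), (18022, 20862), (18023, 14248), (18024, 18207), (18025, 14249), (18026, 14252), (18027, 18034), (18028, 18117), (18029, 14254), (18030, 18342), (18031, 20870), (18032, 18187), (18033, 14257), (18034, 18027), (18035, 18641), (18036, 15062), (18037, 18643), (18038, 20874), (18039, 16868),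 (18040, 18128), (18041, 15205), (18042, 14262), (18043, 18501), (18044, 19499), (18045, 20881), (18046, 17997), (18047, 17998)]
    ⟨e3 q17984 (flp_c L219728) q18003, e3 q17985 (flp_c L219620) q17988, e3 q17986 (flp_c L243365) q20825, e3 q17987 (flp_c L219650) q16008, e3 q17988 L219620 q17985, e3 q17989 (flp_c L220222) q18075, e3 q17990 (flp_c L220232) q18076, e3 q17991 L219638 q15487, e3 q17992 (flp_c L219754) q18007, e3 q17993 (flp_c L219688) q17996, e3 q17994 (flp_c L243375) q20826, e3 q17995 L220030 q16085, e3 q17996 L219688 q17993, e3 q17997 (flp_c L220006) q18046, e3 q17998 (flp_c L220016) q18047, e3 q17999 L219706 q15383, e3 q18000 (flp_c L243401) q20828, e3 q18001 L219716 q15034, e3 q18002 (flp_c L241350) q20619, e3 q18003 L219728 q17984, e3 q18004 (flp_c L243425) q20830, e3 q18005 (flp_c L241364) q20620, e3 q18006 L219744 q15046, e3 q18007 L219754 q17992, e3 q18008 L243569 q20847, e3 q18009 (flp_c L219769) q14238, e3 q18010 (flp_c L243585) q20848, e3 q18011 L243617 q20852, e3 q18012 (flp_c L219785) q14240,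 e3 q18013 (flp_c L230992) q19424, e3 q18014 L243637 q20854, e3 q18015 (flp_c L219804) q14242, e3 q18016 (flp_c L243653) q20855, e3 q18017 L243685 q20859, e3 q18018 (flp_c L219820) q14244, e3 q18019 (flp_c L229700) q19292, e3 q18020 (flp_c L219828) q14245, e3 q18021 (flp_c L243709) q20861, e3 q18022 (flp_c L243719) q20862, e3 q18023 L219848 q14248, e3 q18024 (flp_c L221241) q18207, e3 q18025 L219862 q14249, e3 q18026 (flp_c L219868) q14252, e3 q18027 L219930 q18034, e3 q18028 L220540 q18117, e3 q18029 (flp_c L219886) q14254, e3 q18030 (flp_c L222283) q18342, e3 q18031 (flp_c L243789) q20870, e3 q18032 (flp_c L221112) q18187, e3 q18033 L219918 q14257, e3 q18034 (flp_c L219930) q18027, e3 q18035 L225107 q18641, e3 q18036 L219944 q15062, e3 q18037 L225119 q18643, e3 q18038 (flp_c L243837) q20874, e3 q18039 L219964 q16868, e3 q18040 (flp_c L220642) q18128, e3 q18041 L219980 q15205, e3 q18042 L219984 q14262, e3 q18043 L223899 q18501, e3 q18044 (flp_c L231626) q19499, e3 q18045 (flp_c L243915) q20881, e3 q18046 L220006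 q17997, e3 q18047 L220016 q17998, trivial⟩ (by decide +kernel)

theorem ce_c_282 : ∀ r, r < 64 → sm gc (Qf (18048 + r)) = Qf (tab Gen.c (18048 + r)) :=
  edges_tab (sm gc) Qf (tab Gen.c) 18048 [(18048, 19034), (18049, 14265), (18050, 20885), (18051, 20886), (18052, 18232), (18053, 14268), (18054, 14269), (18055, 14272), (18056, 18063), (18057, 18171), (18058, 14274), (18059, 18285), (18060, 20894), (18061, 18212), (18062, 14277), (18063, 18056), (18064, 18626), (18065, 15057), (18066, 20898), (18067, 18628), (18068, 16859), (18069, 18180), (18070, 15171), (18071, 14282), (18072, 18474), (18073, 19267), (18074, 20905), (18075, 17989), (18076, 17990), (18077, 19171), (18078, 14285), (18079, 15092), (18080, 16560), (18081, 15080), (18082, 17618), (18083, 14291), (18084, 20214), (18085, 20222), (18086, 19968), (18087, 20911), (18088, 18621), (18089, 14302), (18090, 14300), (18091, 15094), (18092, 18676), (18093, 18617), (18094, 18098), (18095, 15605), (18096, 20624), (18097, 20917), (18098, 18094), (18099, 20919), (18100,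 15031), (18101, 20923), (18102, 20926), (18103, 14311), (18104, 20928), (18105, 20930), (18106, 14312), (18107, 20662), (18108, 14313), (18109, 20931), (18110, 14315), (18111, 20933)]
    ⟨e3 q18048 (flp_c L227782) q19034, e3 q18049 (flp_c L220044) q14265, e3 q18050 (flp_c L243951) q20885, e3 q18051 (flp_c L243961) q20886, e3 q18052 (flp_c L221410) q18232, e3 q18053 L220068 q14268, e3 q18054 L220078 q14269, e3 q18055 (flp_c L220084) q14272, e3 q18056 L220146 q18063, e3 q18057 L220970 q18171, e3 q18058 (flp_c L220102) q14274, e3 q18059 (flp_c L221802) q18285, e3 q18060 (flp_c L244033) q20894, e3 q18061 (flp_c L221281) q18212, e3 q18062 L220134 q14277, e3 q18063 (flp_c L220146) q18056, e3 q18064 L224999 q18626, e3 q18065 L220160 q15057, e3 q18066 (flp_c L244081) q20898, e3 q18067 L225011 q18628, e3 q18068 L220180 q16859, e3 q18069 (flp_c L221056) q18180, e3 q18070 L220196 q15171, e3 q18071 L220200 q14282, e3 q18072 L223625 q18474, e3 q18073 (flp_c L229488) q19267, e3 q18074 (flp_c L244159) q20905, e3 q18075 L220222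 q17989, e3 q18076 L220232 q17990, e3 q18077 (flp_c L228705) q19171, e3 q18078 (flp_c L220242) q14285, e3 q18079 L220254 q15092, e3 q18080 L220266 q16560, e3 q18081 L220276 q15080, e3 q18082 (flp_c L220286) q17618, e3 q18083 L220290 q14291, e3 q18084 (flp_c L237841) q20214, e3 q18085 (flp_c L237903) q20222, e3 q18086 (flp_c L235657) q19968, e3 q18087 (flp_c L244209) q20911, e3 q18088 (flp_c L224973) q18621, e3 q18089 L220336 q14302, e3 q18090 L220342 q14300, e3 q18091 L220350 q15094, e3 q18092 (flp_c L225325) q18676, e3 q18093 L224937 q18617, e3 q18094 (flp_c L220402) q18098, e3 q18095 L220382 q15605, e3 q18096 (flp_c L241412) q20624, e3 q18097 L244259 q20917, e3 q18098 L220402 q18094, e3 q18099 L244265 q20919, e3 q18100 L220414 q15031, e3 q18101 L244291 q20923, e3 q18102 L244309 q20926, e3 q18103 (flp_c L220424) q14311, e3 q18104 (flp_c L244321) q20928, e3 q18105 L244333 q20930, e3 q18106 (flp_c L220438) q14312, e3 q18107 L241714 q20662, e3 q18108 (flp_c L220452) q14313, e3 q18109 (flp_c L244345) q20931, e3 q18110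 L220466 q14315, e3 q18111 (flp_c L244365) q20933, trivial⟩ (by decide +kernel)

theorem ce_c_283 : ∀ r, r < 64 → sm gc (Qf (18112 + r)) = Qf (tab Gen.c (18112 + r)) :=
  edges_tab (sm gc) Qf (tab Gen.c) 18112 [(18112, 14989), (18113, 14320), (18114, 20875), (18115, 18349), (18116, 14323), (18117, 18028), (18118, 14325), (18119, 16422), (18120, 20934), (18121, 14328), (18122, 20936), (18123, 20666), (18124, 16303), (18125, 15307), (18126, 14333), (18127, 15300), (18128, 18040), (18129, 14338), (18130, 19372), (18131, 19373), (18132, 14340), (18133, 15102), (18134, 16595), (18135, 15085), (18136, 17622), (18137, 14345), (18138, 20217), (18139, 20010), (18140, 20940), (18141, 20229), (18142, 18636), (18143, 14357), (18144, 14354), (18145, 15104), (18146, 18687), (18147, 18632), (18148, 18152), (18149, 15607), (18150, 20651), (18151, 20946), (18152, 18148), (18153, 20948), (18154, 15032), (18155, 20952), (18156, 20955), (18157, 14366), (18158, 20957), (18159, 20959), (18160, 14367), (18161, 20636), (18162, 14368), (18163,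 20960), (18164, 14370), (18165, 20962), (18166, 14941), (18167, 14375), (18168, 20899), (18169, 18292), (18170, 14378), (18171, 18057), (18172, 14380), (18173, 16267), (18174, 14383), (18175, 20641)]
    ⟨e3 q18112 L220480 q14989, e3 q18113 L220492 q14320, e3 q18114 L243855 q20875, e3 q18115 L222359 q18349, e3 q18116 (flp_c L220520) q14323, e3 q18117 (flp_c L220540) q18028, e3 q18118 L220544 q14325, e3 q18119 (flp_c L220558) q16422, e3 q18120 L244369 q20934, e3 q18121 (flp_c L220568) q14328, e3 q18122 (flp_c L244387) q20936, e3 q18123 (flp_c L241748) q20666, e3 q18124 L220592 q16303, e3 q18125 L220608 q15307, e3 q18126 L220620 q14333, e3 q18127 L220632 q15300, e3 q18128 L220642 q18040, e3 q18129 L220654 q14338, e3 q18130 (flp_c L230388) q19372, e3 q18131 (flp_c L230396) q19373, e3 q18132 (flp_c L220672) q14340, e3 q18133 L220684 q15102, e3 q18134 L220696 q16595, e3 q18135 L220706 q15085, e3 q18136 (flp_c L220716) q17622, e3 q18137 L220720 q14345, e3 q18138 (flp_c L237866) q20217, e3 q18139 (flp_c L236053) q20010,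 e3 q18140 (flp_c L244423) q20940, e3 q18141 (flp_c L237945) q20229, e3 q18142 (flp_c L225081) q18636, e3 q18143 L220766 q14357, e3 q18144 L220772 q14354, e3 q18145 L220780 q15104, e3 q18146 (flp_c L225379) q18687, e3 q18147 L225045 q18632, e3 q18148 (flp_c L220832) q18152, e3 q18149 L220812 q15607, e3 q18150 (flp_c L241646) q20651, e3 q18151 L244473 q20946, e3 q18152 L220832 q18148, e3 q18153 L244479 q20948, e3 q18154 L220844 q15032, e3 q18155 L244505 q20952, e3 q18156 L244523 q20955, e3 q18157 (flp_c L220854) q14366, e3 q18158 (flp_c L244535) q20957, e3 q18159 L244547 q20959, e3 q18160 (flp_c L220868) q14367, e3 q18161 L241488 q20636, e3 q18162 (flp_c L220882) q14368, e3 q18163 (flp_c L244559) q20960, e3 q18164 L220896 q14370, e3 q18165 (flp_c L244579) q20962, e3 q18166 L220910 q14941, e3 q18167 L220922 q14375, e3 q18168 L244099 q20899, e3 q18169 L221874 q18292, e3 q18170 (flp_c L220950) q14378, e3 q18171 (flp_c L220970) q18057, e3 q18172 L220974 q14380, e3 q18173 (flp_c L220988) q16267, e3 q18174 (flp_c L220990)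 q14383, e3 q18175 (flp_c L241532) q20641, trivial⟩ (by decide +kernel)

theorem ce_c_284 : ∀ r, r < 64 → sm gc (Qf (18176 + r)) = Qf (tab Gen.c (18176 + r)) :=
  edges_tab (sm gc) Qf (tab Gen.c) 18176 [(18176, 16285), (18177, 15254), (18178, 14388), (18179, 15247), (18180, 18069), (18181, 14393), (18182, 19587), (18183, 19588), (18184, 14396), (18185, 20967), (18186, 17667), (18187, 18032), (18188, 18188), (18189, 17019), (18190, 18190), (18191, 18191), (18192, 20973), (18193, 17023), (18194, 20977), (18195, 20980), (18196, 14407), (18197, 20982), (18198, 14408), (18199, 20856), (18200, 18989), (18201, 14410), (18202, 20984), (18203, 20985), (18204, 14411), (18205, 14412), (18206, 14413), (18207, 18024), (18208, 14416), (18209, 14418), (18210, 20993), (18211, 17736), (18212, 18061), (18213, 18213), (18214, 17111), (18215, 18215), (18216, 20999), (18217, 18217), (18218, 17116), (18219, 21003), (18220, 21006), (18221, 14429), (18222, 21008), (18223, 14430), (18224, 20849), (18225, 19128), (18226, 14432), (18227, 21010),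 (18228, 21011), (18229, 14433), (18230, 14434), (18231, 14435), (18232, 18052), (18233, 14438), (18234, 18305), (18235, 17020), (18236, 17520), (18237, 17031), (18238, 17032), (18239, 19576)]
    ⟨e3 q18176 L221006 q16285, e3 q18177 L221022 q15254, e3 q18178 L221034 q14388, e3 q18179 L221046 q15247, e3 q18180 L221056 q18069, e3 q18181 L221068 q14393, e3 q18182 (flp_c L232402) q19587, e3 q18183 (flp_c L232410) q19588, e3 q18184 (flp_c L221086) q14396, e3 q18185 L244617 q20967, e3 q18186 L221100 q17667, e3 q18187 L221112 q18032, e3 q18188 L221118 q18188, e3 q18189 (flp_c L221127) q17019, e3 q18190 L221131 q18190, e3 q18191 L221140 q18191, e3 q18192 L244661 q20973, e3 q18193 L221151 q17023, e3 q18194 L244680 q20977, e3 q18195 L244696 q20980, e3 q18196 (flp_c L221161) q14407, e3 q18197 (flp_c L244712) q20982, e3 q18198 (flp_c L221167) q14408, e3 q18199 L243671 q20856, e3 q18200 L227491 q18989, e3 q18201 L221193 q14410, e3 q18202 L244726 q20984, e3 q18203 L244736 q20985, e3 q18204 (flp_c L221217) q14411, e3 q18205 (flp_c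 L221219) q14412, e3 q18206 (flp_c L221229) q14413, e3 q18207 L221241 q18024, e3 q18208 L221247 q14416, e3 q18209 (flp_c L221255) q14418, e3 q18210 L244802 q20993, e3 q18211 L221269 q17736, e3 q18212 L221281 q18061, e3 q18213 L221287 q18213, e3 q18214 (flp_c L221296) q17111, e3 q18215 L221300 q18215, e3 q18216 L244846 q20999, e3 q18217 L221313 q18217, e3 q18218 L221320 q17116, e3 q18219 L244865 q21003, e3 q18220 L244881 q21006, e3 q18221 (flp_c L221330) q14429, e3 q18222 (flp_c L244897) q21008, e3 q18223 (flp_c L221336) q14430, e3 q18224 L243603 q20849, e3 q18225 L228396 q19128, e3 q18226 L221362 q14432, e3 q18227 L244911 q21010, e3 q18228 L244921 q21011, e3 q18229 (flp_c L221386) q14433, e3 q18230 (flp_c L221388) q14434, e3 q18231 (flp_c L221398) q14435, e3 q18232 L221410 q18052, e3 q18233 L221416 q14438, e3 q18234 (flp_c L221966) q18305, e3 q18235 L221434 q17020, e3 q18236 (flp_c L221448) q17520, e3 q18237 L221452 q17031, e3 q18238 L221458 q17032, e3 q18239 L232314 q19576, trivial⟩ (by decide +kernel)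

theorem ce_c_285 : ∀ r, r < 64 → sm gc (Qf (18240 + r)) = Qf (tab Gen.c (18240 + r)) :=
  edges_tab (sm gc) Qf (tab Gen.c) 18240 [(18240, 17034), (18241, 18535), (18242, 18520), (18243, 18519), (18244, 14447), (18245, 21024), (18246, 18293), (18247, 14500), (18248, 21027), (18249, 14449), (18250, 21028), (18251, 14451), (18252, 15587), (18253, 17025), (18254, 18969), (18255, 21031), (18256, 14457), (18257, 14459), (18258, 21033), (18259, 17022), (18260, 21036), (18261, 14460), (18262, 21039), (18263, 16027), (18264, 14462), (18265, 21041), (18266, 18740), (18267, 14464), (18268, 20694), (18269, 21044), (18270, 14465), (18271, 21047), (18272, 18339), (18273, 21049), (18274, 14468), (18275, 21052), (18276, 21050), (18277, 14629), (18278, 14470), (18279, 21054), (18280, 18337), (18281, 20503), (18282, 18329), (18283, 14472), (18284, 17148), (18285, 18059), (18286, 14803), (18287, 14475), (18288, 20409), (18289, 14480), (18290, 14483), (18291, 14485), (18292, 18169), (18293, 18246), (18294, 17110), (18295, 17521),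 (18296, 17121), (18297, 19361), (18298, 17123), (18299, 17124), (18300, 18539), (18301, 18494), (18302, 18491), (18303, 14496)]
    ⟨e3 q18240 L221474 q17034, e3 q18241 (flp_c L224193) q18535, e3 q18242 L224057 q18520, e3 q18243 L224045 q18519, e3 q18244 (flp_c L221498) q14447, e3 q18245 (flp_c L245035) q21024, e3 q18246 (flp_c L221880) q18293, e3 q18247 L221518 q14500, e3 q18248 L245069 q21027, e3 q18249 (flp_c L221532) q14449, e3 q18250 (flp_c L245079) q21028, e3 q18251 L221552 q14451, e3 q18252 (flp_c L221572) q15587, e3 q18253 L221578 q17025, e3 q18254 (flp_c L227286) q18969, e3 q18255 L245109 q21031, e3 q18256 (flp_c L221598) q14457, e3 q18257 L221608 q14459, e3 q18258 L245127 q21033, e3 q18259 L221624 q17022, e3 q18260 L245145 q21036, e3 q18261 (flp_c L221638) q14460, e3 q18262 (flp_c L245173) q21039, e3 q18263 (flp_c L221686) q16027, e3 q18264 (flp_c L221650) q14462, e3 q18265 (flp_c L245191) q21041, e3 q18266 (flp_c L225793) q18740, e3 q18267 L221666 q14464, e3 q18268 (flp_c L242026) q20694, e3 q18269 L245205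 q21044, e3 q18270 (flp_c L221702) q14465, e3 q18271 L245227 q21047, e3 q18272 (flp_c L222251) q18339, e3 q18273 L245245 q21049, e3 q18274 (flp_c L221726) q14468, e3 q18275 (flp_c L245259) q21052, e3 q18276 (flp_c L245251) q21050, e3 q18277 L221744 q14629, e3 q18278 (flp_c L221746) q14470, e3 q18279 (flp_c L245281) q21054, e3 q18280 (flp_c L222196) q18337, e3 q18281 (flp_c L240295) q20503, e3 q18282 (flp_c L222148) q18329, e3 q18283 (flp_c L221778) q14472, e3 q18284 L221788 q17148, e3 q18285 L221802 q18059, e3 q18286 L221810 q14803, e3 q18287 L221820 q14475, e3 q18288 (flp_c L239483) q20409, e3 q18289 L221834 q14480, e3 q18290 L221846 q14483, e3 q18291 L221858 q14485, e3 q18292 (flp_c L221874) q18169, e3 q18293 L221880 q18246, e3 q18294 L221890 q17110, e3 q18295 (flp_c L221904) q17521, e3 q18296 L221908 q17121, e3 q18297 L230300 q19361, e3 q18298 L221920 q17123, e3 q18299 L221930 q17124, e3 q18300 (flp_c L224239) q18539, e3 q18301 L223791 q18494, e3 q18302 L223763 q18491, e3 q18303 (flp_c L221954) q14496, trivial⟩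 (by decide +kernel)

theorem ce_c_286 : ∀ r, r < 64 → sm gc (Qf (18304 + r)) = Qf (tab Gen.c (18304 + r)) :=
  edges_tab (sm gc) Qf (tab Gen.c) 18304 [(18304, 21063), (18305, 18234), (18306, 21065), (18307, 14498), (18308, 21026), (18309, 15827), (18310, 17115), (18311, 19109), (18312, 21068), (18313, 14506), (18314, 14508), (18315, 21070), (18316, 17113), (18317, 21073), (18318, 14509), (18319, 21076), (18320, 16102), (18321, 14511), (18322, 21078), (18323, 18790), (18324, 14513), (18325, 20729), (18326, 21081), (18327, 14514), (18328, 21046), (18329, 18282), (18330, 21084), (18331, 14517), (18332, 21087), (18333, 21085), (18334, 14580), (18335, 14519), (18336, 21089), (18337, 18280), (18338, 20445), (18339, 18272), (18340, 14521), (18341, 17059), (18342, 18030), (18343, 14835), (18344, 14524), (18345, 20350), (18346, 14529), (18347, 14532), (18348, 14534), (18349, 18115), (18350, 21091), (18351, 16778), (18352, 14549), (18353, 14550), (18354, 14544), (18355, 14545), (18356, 21096), (18357, 21098), (18358, 21100),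 (18359, 14546), (18360, 15717), (18361, 18363), (18362, 21104), (18363, 18361), (18364, 14556), (18365, 19350), (18366, 14557), (18367, 21111)]
    ⟨e3 q18304 (flp_c L245359) q21063, e3 q18305 L221966 q18234, e3 q18306 L245381 q21065, e3 q18307 (flp_c L221978) q14498, e3 q18308 (flp_c L245061) q21026, e3 q18309 (flp_c L222008) q15827, e3 q18310 L222014 q17115, e3 q18311 (flp_c L228238) q19109, e3 q18312 L245415 q21068, e3 q18313 (flp_c L222034) q14506, e3 q18314 L222044 q14508, e3 q18315 L245437 q21070, e3 q18316 L222060 q17113, e3 q18317 L245461 q21073, e3 q18318 (flp_c L222074) q14509, e3 q18319 (flp_c L245489) q21076, e3 q18320 (flp_c L222088) q16102, e3 q18321 (flp_c L222090) q14511, e3 q18322 (flp_c L245507) q21078, e3 q18323 (flp_c L226061) q18790, e3 q18324 L222110 q14513, e3 q18325 (flp_c L242372) q20729, e3 q18326 L245521 q21081, e3 q18327 (flp_c L222132) q14514, e3 q18328 (flp_c L245225) q21046, e3 q18329 L222148 q18282, e3 q18330 L245541 q21084, e3 q18331 (flp_c L222160) q14517, e3 q18332 (flp_c L245555)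 q21087, e3 q18333 (flp_c L245547) q21085, e3 q18334 L222178 q14580, e3 q18335 (flp_c L222180) q14519, e3 q18336 (flp_c L245577) q21089, e3 q18337 L222196 q18280, e3 q18338 (flp_c L239815) q20445, e3 q18339 L222251 q18272, e3 q18340 (flp_c L222255) q14521, e3 q18341 L222269 q17059, e3 q18342 L222283 q18030, e3 q18343 L222291 q14835, e3 q18344 L222303 q14524, e3 q18345 (flp_c L238947) q20350, e3 q18346 L222319 q14529, e3 q18347 L222331 q14532, e3 q18348 L222343 q14534, e3 q18349 (flp_c L222359) q18115, e3 q18350 L245597 q21091, e3 q18351 L222371 q16778, e3 q18352 L222383 q14549, e3 q18353 L222393 q14550, e3 q18354 (flp_c L222405) q14544, e3 q18355 L222413 q14545, e3 q18356 L245629 q21096, e3 q18357 L245639 q21098, e3 q18358 L245659 q21100, e3 q18359 (flp_c L222435) q14546, e3 q18360 L222443 q15717, e3 q18361 (flp_c L222467) q18363, e3 q18362 L245707 q21104, e3 q18363 L222467 q18361, e3 q18364 L222477 q14556, e3 q18365 (flp_c L230232) q19350, e3 q18366 L222493 q14557, e3 q18367 L245751 q21111, trivial⟩ (by decide +kernel)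

theorem ce_c_287 : ∀ r, r < 64 → sm gc (Qf (18368 + r)) = Qf (tab Gen.c (18368 + r)) :=
  edges_tab (sm gc) Qf (tab Gen.c) 18368 [(18368, 19344), (18369, 19353), (18370, 21117), (18371, 15485), (18372, 21120), (18373, 20119), (18374, 14558), (18375, 17702), (18376, 14559), (18377, 21121), (18378, 17868), (18379, 17678), (18380, 17677), (18381, 14566), (18382, 16602), (18383, 14567), (18384, 21124), (18385, 21123), (18386, 18547), (18387, 14569), (18388, 21126), (18389, 18451), (18390, 15761), (18391, 14571), (18392, 21129), (18393, 14575), (18394, 14573), (18395, 14574), (18396, 20460), (18397, 21130), (18398, 19810), (18399, 20543), (18400, 21131), (18401, 14628), (18402, 19716), (18403, 14579), (18404, 21013), (18405, 18463), (18406, 21141), (18407, 21143), (18408, 14583), (18409, 21145), (18410, 14585), (18411, 14587), (18412, 21146), (18413, 16804), (18414, 14600), (18415, 14601), (18416, 14596), (18417, 14595), (18418, 21095), (18419, 21151), (18420, 21153), (18421, 14597), (18422, 15943), (18423, 18425),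 (18424, 21157), (18425, 18423), (18426, 14608), (18427, 19568), (18428, 14607), (18429, 19563), (18430, 19569), (18431, 21167)]
    ⟨e3 q18368 (flp_c L230202) q19344, e3 q18369 (flp_c L230252) q19353, e3 q18370 L245797 q21117, e3 q18371 (flp_c L222521) q15485, e3 q18372 L245817 q21120, e3 q18373 L236971 q20119, e3 q18374 (flp_c L222922) q14558, e3 q18375 L222932 q17702, e3 q18376 (flp_c L222936) q14559, e3 q18377 (flp_c L245827) q21121, e3 q18378 L222950 q17868, e3 q18379 L222960 q17678, e3 q18380 L222970 q17677, e3 q18381 (flp_c L222978) q14566, e3 q18382 L222994 q16602, e3 q18383 (flp_c L223002) q14567, e3 q18384 (flp_c L245859) q21124, e3 q18385 (flp_c L245851) q21123, e3 q18386 L224317 q18547, e3 q18387 (flp_c L223024) q14569, e3 q18388 (flp_c L245869) q21126, e3 q18389 (flp_c L223465) q18451, e3 q18390 L223040 q15761, e3 q18391 L223046 q14571, e3 q18392 L245889 q21129, e3 q18393 L223064 q14575, e3 q18394 L223070 q14573, e3 q18395 L223076 q14574, e3 q18396 (flp_c L239955) q20460, e3 q18397 (flp_c L245899) q21130,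 e3 q18398 (flp_c L234227) q19810, e3 q18399 L240635 q20543, e3 q18400 (flp_c L245909) q21131, e3 q18401 L223100 q14628, e3 q18402 (flp_c L233473) q19716, e3 q18403 L223110 q14579, e3 q18404 (flp_c L244939) q21013, e3 q18405 (flp_c L223537) q18463, e3 q18406 L245972 q21141, e3 q18407 L245990 q21143, e3 q18408 (flp_c L223145) q14583, e3 q18409 (flp_c L246016) q21145, e3 q18410 (flp_c L223155) q14585, e3 q18411 L223167 q14587, e3 q18412 L246018 q21146, e3 q18413 L223185 q16804, e3 q18414 L223197 q14600, e3 q18415 L223207 q14601, e3 q18416 (flp_c L223219) q14596, e3 q18417 L223227 q14595, e3 q18418 L245673 q21095, e3 q18419 L246054 q21151, e3 q18420 L246074 q21153, e3 q18421 (flp_c L223249) q14597, e3 q18422 L223257 q15943, e3 q18423 (flp_c L223281) q18425, e3 q18424 L246112 q21157, e3 q18425 L223281 q18423, e3 q18426 L223291 q14608, e3 q18427 (flp_c L232242) q19568, e3 q18428 L223307 q14607, e3 q18429 (flp_c L232204) q19563, e3 q18430 (flp_c L232254) q19569, e3 q18431 L246186 q21167, trivial⟩ (by decide +kernel)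

theorem ce_c_288 : ∀ r, r < 64 → sm gc (Qf (18432 + r)) = Qf (tab Gen.c (18432 + r)) :=
  edges_tab (sm gc) Qf (tab Gen.c) 18432 [(18432, 21170), (18433, 21173), (18434, 15381), (18435, 17630), (18436, 14609), (18437, 21174), (18438, 20126), (18439, 14610), (18440, 17856), (18441, 17746), (18442, 17745), (18443, 14617), (18444, 16625), (18445, 14618), (18446, 21177), (18447, 21176), (18448, 18554), (18449, 14620), (18450, 21179), (18451, 18389), (18452, 15986), (18453, 14622), (18454, 21182), (18455, 14626), (18456, 14624), (18457, 14625), (18458, 20517), (18459, 21183), (18460, 21184), (18461, 20484), (18462, 20987), (18463, 18405), (18464, 21190), (18465, 21192), (18466, 14632), (18467, 21194), (18468, 14634), (18469, 14636), (18470, 17018), (18471, 14642), (18472, 21197), (18473, 14643), (18474, 18072), (18475, 14644), (18476, 20895), (18477, 15953), (18478, 16914), (18479, 15608), (18480, 21201), (18481, 15606), (18482, 14650), (18483, 20916), (18484, 14657), (18485, 15659), (18486, 14658), (18487, 19137),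 (18488, 15657), (18489, 15660), (18490, 21211), (18491, 18302), (18492, 16702), (18493, 19173), (18494, 18301), (18495, 14660)]
    ⟨e3 q18432 L246198 q21170, e3 q18433 L246228 q21173, e3 q18434 (flp_c L223339) q15381, e3 q18435 L223345 q17630, e3 q18436 (flp_c L223349) q14609, e3 q18437 (flp_c L246238) q21174, e3 q18438 L237041 q20126, e3 q18439 (flp_c L223367) q14610, e3 q18440 L223377 q17856, e3 q18441 L223387 q17746, e3 q18442 L223399 q17745, e3 q18443 (flp_c L223405) q14617, e3 q18444 L223421 q16625, e3 q18445 (flp_c L223429) q14618, e3 q18446 (flp_c L246270) q21177, e3 q18447 (flp_c L246262) q21176, e3 q18448 L224373 q18554, e3 q18449 (flp_c L223451) q14620, e3 q18450 (flp_c L246286) q21179, e3 q18451 L223465 q18389, e3 q18452 L223475 q15986, e3 q18453 L223481 q14622, e3 q18454 L246316 q21182, e3 q18455 L223501 q14626, e3 q18456 L223507 q14624, e3 q18457 L223513 q14625, e3 q18458 (flp_c L240431) q20517, e3 q18459 (flp_c L246326) q21183, e3 q18460 (flp_c L246336) q21184, e3 q18461 L240133 q20484, e3 q18462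 (flp_c L244754) q20987, e3 q18463 L223537 q18405, e3 q18464 L246371 q21190, e3 q18465 L246389 q21192, e3 q18466 (flp_c L223555) q14632, e3 q18467 (flp_c L246415) q21194, e3 q18468 (flp_c L223565) q14634, e3 q18469 L223577 q14636, e3 q18470 L223589 q17018, e3 q18471 L223601 q14642, e3 q18472 L246437 q21197, e3 q18473 (flp_c L223609) q14643, e3 q18474 (flp_c L223625) q18072, e3 q18475 (flp_c L223627) q14644, e3 q18476 (flp_c L244045) q20895, e3 q18477 L223645 q15953, e3 q18478 L223657 q16914, e3 q18479 L223667 q15608, e3 q18480 L246475 q21201, e3 q18481 L223685 q15606, e3 q18482 (flp_c L223693) q14650, e3 q18483 (flp_c L244251) q20916, e3 q18484 L223715 q14657, e3 q18485 L223725 q15659, e3 q18486 L223733 q14658, e3 q18487 (flp_c L228469) q19137, e3 q18488 L223743 q15657, e3 q18489 L223749 q15660, e3 q18490 L246553 q21211, e3 q18491 (flp_c L223763) q18302, e3 q18492 L223767 q16702, e3 q18493 (flp_c L228715) q19173, e3 q18494 (flp_c L223791) q18301, e3 q18495 (flp_c L223843) q14660, trivial⟩ (by decide +kernel)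

theorem ce_c_289 : ∀ r, r < 64 → sm gc (Qf (18496 + r)) = Qf (tab Gen.c (18496 + r)) :=
  edges_tab (sm gc) Qf (tab Gen.c) 18496 [(18496, 21214), (18497, 20513), (18498, 17108), (18499, 14671), (18500, 21217), (18501, 18043), (18502, 14672), (18503, 20871), (18504, 14673), (18505, 15727), (18506, 16926), (18507, 21221), (18508, 15843), (18509, 15609), (18510, 14679), (18511, 20945), (18512, 15889), (18513, 14686), (18514, 14687), (18515, 15887), (18516, 15891), (18517, 21230), (18518, 18998), (18519, 18243), (18520, 18242), (18521, 14688), (18522, 21234), (18523, 16711), (18524, 19036), (18525, 20455), (18526, 16694), (18527, 16695), (18528, 19965), (18529, 17849), (18530, 19956), (18531, 17839), (18532, 14740), (18533, 14934), (18534, 17860), (18535, 18241), (18536, 14761), (18537, 14982), (18538, 17872), (18539, 18300), (18540, 17295), (18541, 14788), (18542, 14793), (18543, 17039), (18544, 21237), (18545, 14821), (18546, 20804), (18547, 18386), (18548, 19980), (18549, 17219), (18550, 14825), (18551, 17128),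 (18552, 21238), (18553, 20814), (18554, 18448), (18555, 20017), (18556, 14847), (18557, 14916), (18558, 16224), (18559, 20051)]
    ⟨e3 q18496 (flp_c L246575) q21214, e3 q18497 (flp_c L240393) q20513, e3 q18498 L223871 q17108, e3 q18499 L223883 q14671, e3 q18500 L246601 q21217, e3 q18501 (flp_c L223899) q18043, e3 q18502 (flp_c L223901) q14672, e3 q18503 (flp_c L243801) q20871, e3 q18504 (flp_c L223915) q14673, e3 q18505 L223927 q15727, e3 q18506 L223939 q16926, e3 q18507 L246641 q21221, e3 q18508 L223955 q15843, e3 q18509 L223967 q15609, e3 q18510 (flp_c L223975) q14679, e3 q18511 (flp_c L244465) q20945, e3 q18512 L223999 q15889, e3 q18513 L224005 q14686, e3 q18514 L224015 q14687, e3 q18515 L224023 q15887, e3 q18516 L224029 q15891, e3 q18517 L246711 q21230, e3 q18518 (flp_c L227554) q18998, e3 q18519 (flp_c L224045) q18243, e3 q18520 (flp_c L224057) q18242, e3 q18521 (flp_c L224059) q14688, e3 q18522 (flp_c L246741) q21234, e3 q18523 L224075 q16711, e3 q18524 (flp_c L227792) q19036, e3 q18525 (flp_c L239909) q20455,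 e3 q18526 L224103 q16694, e3 q18527 L224113 q16695, e3 q18528 (flp_c L235631) q19965, e3 q18529 L224129 q17849, e3 q18530 (flp_c L235539) q19956, e3 q18531 L224147 q17839, e3 q18532 (flp_c L224155) q14740, e3 q18533 L224171 q14934, e3 q18534 L224181 q17860, e3 q18535 L224193 q18241, e3 q18536 (flp_c L224201) q14761, e3 q18537 L224217 q14982, e3 q18538 L224227 q17872, e3 q18539 L224239 q18300, e3 q18540 (flp_c L224255) q17295, e3 q18541 (flp_c L224257) q14788, e3 q18542 (flp_c L224269) q14793, e3 q18543 L224283 q17039, e3 q18544 L246773 q21237, e3 q18545 L224297 q14821, e3 q18546 (flp_c L243111) q20804, e3 q18547 (flp_c L224317) q18386, e3 q18548 (flp_c L235763) q19980, e3 q18549 L224329 q17219, e3 q18550 (flp_c L224337) q14825, e3 q18551 L224351 q17128, e3 q18552 L246779 q21238, e3 q18553 (flp_c L243237) q20814, e3 q18554 (flp_c L224373) q18448, e3 q18555 (flp_c L236113) q20017, e3 q18556 (flp_c L224383) q14847, e3 q18557 L224401 q14916, e3 q18558 L224417 q16224, e3 q18559 L236364 q20051, trivial⟩ (by decide +kernel)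

theorem ce_c_290 : ∀ r, r < 64 → sm gc (Qf (18560 + r)) = Qf (tab Gen.c (18560 + r)) :=
  edges_tab (sm gc) Qf (tab Gen.c) 18560 [(18560, 14855), (18561, 21242), (18562, 14860), (18563, 14864), (18564, 14875), (18565, 16862), (18566, 21247), (18567, 14870), (18568, 20064), (18569, 14873), (18570, 14880), (18571, 14963), (18572, 16254), (18573, 20031), (18574, 14887), (18575, 21253), (18576, 14891), (18577, 14895), (18578, 16853), (18579, 21257), (18580, 14899), (18581, 20067), (18582, 18599), (18583, 17877), (18584, 17488), (18585, 14920), (18586, 17504), (18587, 17499), (18588, 19536), (18589, 16750), (18590, 18593), (18591, 19759), (18592, 16847), (18593, 18590), (18594, 17865), (18595, 17497), (18596, 14968), (18597, 19308), (18598, 16747), (18599, 18582), (18600, 19665), (18601, 16845), (18602, 14997), (18603, 15000), (18604, 16451), (18605, 15005), (18606, 16222), (18607, 20667), (18608, 15011), (18609, 16298), (18610, 16252), (18611, 20642), (18612, 20823), (18613, 17223), (18614, 20824), (18615, 17299),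 (18616, 20106), (18617, 18093), (18618, 19518), (18619, 16908), (18620, 15038), (18621, 18088), (18622, 21267), (18623, 19721)]
    ⟨e3 q18560 L224429 q14855, e3 q18561 L246817 q21242, e3 q18562 (flp_c L224437) q14860, e3 q18563 L224447 q14864, e3 q18564 L224457 q14875, e3 q18565 L224467 q16862, e3 q18566 L246865 q21247, e3 q18567 L224479 q14870, e3 q18568 (flp_c L236458) q20064, e3 q18569 L224501 q14873, e3 q18570 (flp_c L224505) q14880, e3 q18571 L224523 q14963, e3 q18572 L224539 q16254, e3 q18573 L236225 q20031, e3 q18574 L224551 q14887, e3 q18575 L246925 q21253, e3 q18576 (flp_c L224559) q14891, e3 q18577 L224569 q14895, e3 q18578 L224579 q16853, e3 q18579 L246961 q21257, e3 q18580 L224591 q14899, e3 q18581 (flp_c L236484) q20067, e3 q18582 (flp_c L224768) q18599, e3 q18583 L224619 q17877, e3 q18584 L224627 q17488, e3 q18585 L224641 q14920, e3 q18586 L224652 q17504, e3 q18587 L224668 q17499, e3 q18588 (flp_c L231962) q19536, e3 q18589 L224684 q16750, e3 q18590 (flp_c L224711) q18593, e3 q18591 (flp_c L233835)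 q19759, e3 q18592 L224702 q16847, e3 q18593 L224711 q18590, e3 q18594 L224723 q17865, e3 q18595 L224731 q17497, e3 q18596 L224745 q14968, e3 q18597 (flp_c L229872) q19308, e3 q18598 L224760 q16747, e3 q18599 L224768 q18582, e3 q18600 (flp_c L233087) q19665, e3 q18601 L224780 q16845, e3 q18602 (flp_c L224785) q14997, e3 q18603 (flp_c L224797) q15000, e3 q18604 (flp_c L224821) q16451, e3 q18605 L224827 q15005, e3 q18606 (flp_c L224843) q16222, e3 q18607 L241766 q20667, e3 q18608 (flp_c L224847) q15011, e3 q18609 (flp_c L224869) q16298, e3 q18610 (flp_c L224877) q16252, e3 q18611 L241550 q20642, e3 q18612 (flp_c L243339) q20823, e3 q18613 L224895 q17223, e3 q18614 (flp_c L243353) q20824, e3 q18615 L224915 q17299, e3 q18616 (flp_c L236831) q20106, e3 q18617 (flp_c L224937) q18093, e3 q18618 (flp_c L231784) q19518, e3 q18619 L224951 q16908, e3 q18620 L224961 q15038, e3 q18621 L224973 q18088, e3 q18622 L247057 q21267, e3 q18623 (flp_c L233513) q19721, trivial⟩ (by decide +kernel)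

theorem ce_c_291 : ∀ r, r < 64 → sm gc (Qf (18624 + r)) = Qf (tab Gen.c (18624 + r)) :=
  edges_tab (sm gc) Qf (tab Gen.c) 18624 [(18624, 15039), (18625, 19704), (18626, 18064), (18627, 19167), (18628, 18067), (18629, 18697), (18630, 15044), (18631, 20114), (18632, 18147), (18633, 19289), (18634, 16910), (18635, 15050), (18636, 18142), (18637, 21276), (18638, 19816), (18639, 15051), (18640, 19798), (18641, 18035), (18642, 19030), (18643, 18037), (18644, 18686), (18645, 15056), (18646, 15058), (18647, 20942), (18648, 20921), (18649, 15060), (18650, 15061), (18651, 21286), (18652, 15063), (18653, 20913), (18654, 20950), (18655, 15065), (18656, 15066), (18657, 21291), (18658, 21293), (18659, 15068), (18660, 21295), (18661, 15069), (18662, 15071), (18663, 21297), (18664, 15074), (18665, 21298), (18666, 18716), (18667, 21138), (18668, 18724), (18669, 20387), (18670, 18675), (18671, 18727), (18672, 21133), (18673, 18735), (18674, 20426), (18675, 18670), (18676, 18092), (18677, 19848), (18678, 16989), (18679, 16990),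 (18680, 19964), (18681, 19962), (18682, 20463), (18683, 15093), (18684, 21308), (18685, 21310), (18686, 18644), (18687, 18146)]
    ⟨e3 q18624 (flp_c L224983) q15039, e3 q18625 (flp_c L233371) q19704, e3 q18626 (flp_c L224999) q18064, e3 q18627 (flp_c L228667) q19167, e3 q18628 (flp_c L225011) q18067, e3 q18629 (flp_c L225421) q18697, e3 q18630 L225025 q15044, e3 q18631 (flp_c L236915) q20114, e3 q18632 (flp_c L225045) q18147, e3 q18633 L229666 q19289, e3 q18634 L225059 q16910, e3 q18635 L225069 q15050, e3 q18636 L225081 q18142, e3 q18637 L247124 q21276, e3 q18638 (flp_c L234273) q19816, e3 q18639 (flp_c L225091) q15051, e3 q18640 (flp_c L234125) q19798, e3 q18641 (flp_c L225107) q18035, e3 q18642 (flp_c L227746) q19030, e3 q18643 (flp_c L225119) q18037, e3 q18644 (flp_c L225367) q18686, e3 q18645 L225133 q15056, e3 q18646 (flp_c L225137) q15058, e3 q18647 (flp_c L244443) q20942, e3 q18648 (flp_c L244285) q20921, e3 q18649 L225163 q15060, e3 q18650 L225169 q15061, e3 q18651 (flp_c L247201) q21286, e3 q18652 (flp_c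 L225179) q15063, e3 q18653 (flp_c L244229) q20913, e3 q18654 (flp_c L244499) q20950, e3 q18655 L225205 q15065, e3 q18656 L225211 q15066, e3 q18657 (flp_c L247235) q21291, e3 q18658 L247247 q21293, e3 q18659 (flp_c L225229) q15068, e3 q18660 L247261 q21295, e3 q18661 (flp_c L225242) q15069, e3 q18662 (flp_c L225247) q15071, e3 q18663 L247275 q21297, e3 q18664 (flp_c L225255) q15074, e3 q18665 L247286 q21298, e3 q18666 (flp_c L225591) q18716, e3 q18667 (flp_c L245946) q21138, e3 q18668 (flp_c L225661) q18724, e3 q18669 (flp_c L239287) q20387, e3 q18670 (flp_c L225315) q18675, e3 q18671 (flp_c L225687) q18727, e3 q18672 L245921 q21133, e3 q18673 (flp_c L225761) q18735, e3 q18674 L239651 q20426, e3 q18675 L225315 q18670, e3 q18676 L225325 q18092, e3 q18677 (flp_c L234565) q19848, e3 q18678 L225339 q16989, e3 q18679 L225343 q16990, e3 q18680 L235625 q19964, e3 q18681 L235603 q19962, e3 q18682 (flp_c L239989) q20463, e3 q18683 (flp_c L225357) q15093, e3 q18684 (flp_c L247385) q21308, e3 q18685 L247405 q21310, e3 q18686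 L225367 q18644, e3 q18687 L225379 q18146, trivial⟩ (by decide +kernel)

theorem ce_c_292 : ∀ r, r < 64 → sm gc (Qf (18688 + r)) = Qf (tab Gen.c (18688 + r)) :=
  edges_tab (sm gc) Qf (tab Gen.c) 18688 [(18688, 19756), (18689, 17014), (18690, 17015), (18691, 19954), (18692, 20009), (18693, 20520), (18694, 15103), (18695, 21319), (18696, 21321), (18697, 18629), (18698, 19974), (18699, 15109), (18700, 21324), (18701, 19560), (18702, 17292), (18703, 15113), (18704, 18846), (18705, 19959), (18706, 15121), (18707, 21329), (18708, 19340), (18709, 17216), (18710, 15125), (18711, 18901), (18712, 21333), (18713, 15132), (18714, 21335), (18715, 15133), (18716, 18666), (18717, 15135), (18718, 15137), (18719, 19444), (18720, 21337), (18721, 17103), (18722, 16049), (18723, 21338), (18724, 18668), (18725, 15172), (18726, 15140), (18727, 18671), (18728, 15142), (18729, 15144), (18730, 19646), (18731, 21345), (18732, 17183), (18733, 21346), (18734, 16125), (18735, 18673), (18736, 15206), (18737, 15147), (18738, 20891), (18739, 19037),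 (18740, 18266), (18741, 19164), (18742, 15152), (18743, 21355), (18744, 15156), (18745, 20732), (18746, 17916), (18747, 19114), (18748, 20738), (18749, 18858), (18750, 17024), (18751, 15160)]
    ⟨e3 q18688 (flp_c L233813) q19756, e3 q18689 L225393 q17014, e3 q18690 L225397 q17015, e3 q18691 L235523 q19954, e3 q18692 L236047 q20009, e3 q18693 (flp_c L240465) q20520, e3 q18694 (flp_c L225411) q15103, e3 q18695 (flp_c L247489) q21319, e3 q18696 L247511 q21321, e3 q18697 L225421 q18629, e3 q18698 (flp_c L235709) q19974, e3 q18699 (flp_c L225439) q15109, e3 q18700 L247537 q21324, e3 q18701 (flp_c L232184) q19560, e3 q18702 (flp_c L225475) q17292, e3 q18703 (flp_c L225477) q15113, e3 q18704 L226388 q18846, e3 q18705 (flp_c L235561) q19959, e3 q18706 (flp_c L225502) q15121, e3 q18707 L247596 q21329, e3 q18708 (flp_c L230178) q19340, e3 q18709 (flp_c L225538) q17216, e3 q18710 (flp_c L225540) q15125, e3 q18711 L226787 q18901, e3 q18712 L247643 q21333, e3 q18713 (flp_c L225564) q15132, e3 q18714 L247658 q21335, e3 q18715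 (flp_c L225580) q15133, e3 q18716 L225591 q18666, e3 q18717 (flp_c L225599) q15135, e3 q18718 L225609 q15137, e3 q18719 (flp_c L231126) q19444, e3 q18720 (flp_c L247675) q21337, e3 q18721 L225627 q17103, e3 q18722 L225649 q16049, e3 q18723 (flp_c L247691) q21338, e3 q18724 L225661 q18668, e3 q18725 L225669 q15172, e3 q18726 L225675 q15140, e3 q18727 L225687 q18671, e3 q18728 (flp_c L225695) q15142, e3 q18729 L225709 q15144, e3 q18730 (flp_c L232919) q19646, e3 q18731 (flp_c L247759) q21345, e3 q18732 (flp_c L225745) q17183, e3 q18733 (flp_c L247775) q21346, e3 q18734 L225755 q16125, e3 q18735 L225761 q18673, e3 q18736 L225769 q15206, e3 q18737 L225775 q15147, e3 q18738 (flp_c L244003) q20891, e3 q18739 (flp_c L227800) q19037, e3 q18740 L225793 q18266, e3 q18741 (flp_c L228641) q19164, e3 q18742 (flp_c L225801) q15152, e3 q18743 (flp_c L247861) q21355, e3 q18744 L225815 q15156, e3 q18745 L242412 q20732, e3 q18746 (flp_c L225835) q17916, e3 q18747 (flp_c L228266) q19114, e3 q18748 (flp_c L242474) q20738, e3 q18749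 (flp_c L226465) q18858, e3 q18750 L225853 q17024, e3 q18751 L225857 q15160, trivial⟩ (by decide +kernel)

theorem ce_c_293 : ∀ r, r < 64 → sm gc (Qf (18752 + r)) = Qf (tab Gen.c (18752 + r)) :=
  edges_tab (sm gc) Qf (tab Gen.c) 18752 [(18752, 15161), (18753, 21361), (18754, 21364), (18755, 18977), (18756, 18978), (18757, 15165), (18758, 15167), (18759, 15168), (18760, 21358), (18761, 21366), (18762, 19404), (18763, 19860), (18764, 19861), (18765, 20903), (18766, 19065), (18767, 19169), (18768, 18880), (18769, 21373), (18770, 19529), (18771, 20901), (18772, 21342), (18773, 21343), (18774, 21017), (18775, 15175), (18776, 18899), (18777, 15177), (18778, 21383), (18779, 21380), (18780, 20462), (18781, 15176), (18782, 21387), (18783, 21390), (18784, 21392), (18785, 21269), (18786, 21396), (18787, 15180), (18788, 21398), (18789, 19174), (18790, 18323), (18791, 19027), (18792, 20865), (18793, 15186), (18794, 21371), (18795, 15190), (18796, 20699), (18797, 17894), (18798, 20705), (18799, 18975), (18800, 18913), (18801,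 17114), (18802, 15194), (18803, 15195), (18804, 21406), (18805, 21409), (18806, 19116), (18807, 19117), (18808, 15199), (18809, 15201), (18810, 15202), (18811, 21403), (18812, 21411), (18813, 19609), (18814, 19878), (18815, 19879)]
    ⟨e3 q18752 L225863 q15161, e3 q18753 (flp_c L247914) q21361, e3 q18754 L247934 q21364, e3 q18755 (flp_c L227340) q18977, e3 q18756 (flp_c L227344) q18978, e3 q18757 L225883 q15165, e3 q18758 L225895 q15167, e3 q18759 L225903 q15168, e3 q18760 (flp_c L247891) q21358, e3 q18761 (flp_c L247948) q21366, e3 q18762 (flp_c L230674) q19404, e3 q18763 (flp_c L234675) q19860, e3 q18764 (flp_c L234683) q19861, e3 q18765 (flp_c L244137) q20903, e3 q18766 (flp_c L227969) q19065, e3 q18767 (flp_c L228685) q19169, e3 q18768 (flp_c L226633) q18880, e3 q18769 L248011 q21373, e3 q18770 (flp_c L231882) q19529, e3 q18771 (flp_c L244121) q20901, e3 q18772 (flp_c L247733) q21342, e3 q18773 (flp_c L247737) q21343, e3 q18774 L244983 q21017, e3 q18775 L225977 q15175, e3 q18776 (flp_c L226762) q18899, e3 q18777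 L225987 q15177, e3 q18778 L248089 q21383, e3 q18779 (flp_c L248067) q21380, e3 q18780 (flp_c L239979) q20462, e3 q18781 (flp_c L226011) q15176, e3 q18782 (flp_c L248129) q21387, e3 q18783 L248155 q21390, e3 q18784 L248163 q21392, e3 q18785 (flp_c L247073) q21269, e3 q18786 L248199 q21396, e3 q18787 (flp_c L226043) q15180, e3 q18788 (flp_c L248221) q21398, e3 q18789 (flp_c L228723) q19174, e3 q18790 L226061 q18323, e3 q18791 (flp_c L227722) q19027, e3 q18792 (flp_c L243745) q20865, e3 q18793 (flp_c L226073) q15186, e3 q18794 (flp_c L247991) q21371, e3 q18795 L226087 q15190, e3 q18796 L242088 q20699, e3 q18797 (flp_c L226107) q17894, e3 q18798 (flp_c L242150) q20705, e3 q18799 (flp_c L227324) q18975, e3 q18800 (flp_c L226876) q18913, e3 q18801 L226125 q17114, e3 q18802 L226129 q15194, e3 q18803 L226135 q15195, e3 q18804 (flp_c L248292) q21406, e3 q18805 L248312 q21409, e3 q18806 (flp_c L228282) q19116, e3 q18807 (flp_c L228286) q19117, e3 q18808 L226155 q15199, e3 q18809 L226165 q15201, e3 q18810 L226173 q15202, e3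 q18811 (flp_c L248269) q21403, e3 q18812 (flp_c L248326) q21411, e3 q18813 (flp_c L232614) q19609, e3 q18814 (flp_c L234821) q19878, e3 q18815 (flp_c L234829) q19879, trivial⟩ (by decide +kernel)

theorem ce_c_294 : ∀ r, r < 64 → sm gc (Qf (18816 + r)) = Qf (tab Gen.c (18816 + r)) :=
  edges_tab (sm gc) Qf (tab Gen.c) 18816 [(18816, 19032), (18817, 20879), (18818, 19202), (18819, 18935), (18820, 21417), (18821, 19301), (18822, 20877), (18823, 21350), (18824, 21056), (18825, 21351), (18826, 15209), (18827, 18844), (18828, 15211), (18829, 21427), (18830, 21424), (18831, 20521), (18832, 15210), (18833, 21431), (18834, 21434), (18835, 21436), (18836, 21278), (18837, 21440), (18838, 15214), (18839, 21442), (18840, 15217), (18841, 21443), (18842, 15221), (18843, 21445), (18844, 18827), (18845, 17240), (18846, 18704), (18847, 15224), (18848, 15225), (18849, 21447), (18850, 21449), (18851, 15228), (18852, 21452), (18853, 18888), (18854, 20578), (18855, 21450), (18856, 15232), (18857, 15952), (18858, 18749), (18859, 16823),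 (18860, 15237), (18861, 18887), (18862, 21460), (18863, 21461), (18864, 15238), (18865, 17371), (18866, 15248), (18867, 15245), (18868, 15246), (18869, 19874), (18870, 18876), (18871, 21463), (18872, 20556), (18873, 15251), (18874, 15264), (18875, 21468), (18876, 18870), (18877, 15252), (18878, 15265), (18879, 16535)]
    ⟨e3 q18816 (flp_c L227762) q19032, e3 q18817 (flp_c L243893) q20879, e3 q18818 (flp_c L228928) q19202, e3 q18819 (flp_c L227058) q18935, e3 q18820 L248377 q21417, e3 q18821 (flp_c L229776) q19301, e3 q18822 (flp_c L243877) q20877, e3 q18823 (flp_c L247817) q21350, e3 q18824 L245307 q21056, e3 q18825 (flp_c L247821) q21351, e3 q18826 L226263 q15209, e3 q18827 L227000 q18844, e3 q18828 L226273 q15211, e3 q18829 L248459 q21427, e3 q18830 (flp_c L248435) q21424, e3 q18831 (flp_c L240477) q20521, e3 q18832 (flp_c L226297) q15210, e3 q18833 (flp_c L248499) q21431, e3 q18834 L248525 q21434, e3 q18835 L248533 q21436, e3 q18836 (flp_c L247140) q21278, e3 q18837 L248569 q21440, e3 q18838 (flp_c L226329)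 q15214, e3 q18839 (flp_c L248591) q21442, e3 q18840 (flp_c L226339) q15217, e3 q18841 L248599 q21443, e3 q18842 (flp_c L226355) q15221, e3 q18843 (flp_c L248617) q21445, e3 q18844 (flp_c L227000) q18827, e3 q18845 L226375 q17240, e3 q18846 (flp_c L226388) q18704, e3 q18847 L226394 q15224, e3 q18848 L226399 q15225, e3 q18849 (flp_c L248634) q21447, e3 q18850 L248654 q21449, e3 q18851 (flp_c L226415) q15228, e3 q18852 (flp_c L248684) q21452, e3 q18853 (flp_c L226681) q18888, e3 q18854 (flp_c L240958) q20578, e3 q18855 (flp_c L248664) q21450, e3 q18856 L226445 q15232, e3 q18857 (flp_c L226459) q15952, e3 q18858 L226465 q18749, e3 q18859 (flp_c L226475) q16823, e3 q18860 L226479 q15237, e3 q18861 (flp_c L226675) q18887, e3 q18862 L248740 q21460, e3 q18863 L248744 q21461, e3 q18864 (flp_c L226497) q15238, e3 q18865 L226503 q17371, e3 q18866 L226515 q15248, e3 q18867 L226521 q15245, e3 q18868 L226529 q15246, e3 q18869 (flp_c L234777) q19874, e3 q18870 L226591 q18876, e3 q18871 (flp_c L248758) q21463, e3 q18872 L240750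 q20556, e3 q18873 L226567 q15251, e3 q18874 (flp_c L226605) q15264, e3 q18875 L248798 q21468, e3 q18876 (flp_c L226591) q18870, e3 q18877 (flp_c L226593) q15252, e3 q18878 L226611 q15265, e3 q18879 L226623 q16535, trivial⟩ (by decide +kernel)

theorem ce_c_295 : ∀ r, r < 64 → sm gc (Qf (18880 + r)) = Qf (tab Gen.c (18880 + r)) :=
  edges_tab (sm gc) Qf (tab Gen.c) 18880 [(18880, 18768), (18881, 21473), (18882, 16814), (18883, 21477), (18884, 15262), (18885, 20549), (18886, 15259), (18887, 18861), (18888, 18853), (18889, 15261), (18890, 21466), (18891, 21469), (18892, 15274), (18893, 21470), (18894, 17724), (18895, 15267), (18896, 15270), (18897, 21487), (18898, 21485), (18899, 18776), (18900, 17315), (18901, 18711), (18902, 15277), (18903, 15278), (18904, 21489), (18905, 21491), (18906, 15281), (18907, 21494), (18908, 20553), (18909, 18943), (18910, 21492), (18911, 15285), (18912, 15725), (18913, 18800), (18914, 16797), (18915, 15290), (18916, 18942), (18917, 21502), (18918, 21503), (18919, 15291), (18920, 17342),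 (18921, 15301), (18922, 15298), (18923, 15299), (18924, 19856), (18925, 18931), (18926, 20582), (18927, 21505), (18928, 15304), (18929, 15317), (18930, 21510), (18931, 18925), (18932, 15305), (18933, 15318), (18934, 16569), (18935, 18819), (18936, 21515), (18937, 16788), (18938, 21519), (18939, 15315), (18940, 20575), (18941, 15312), (18942, 18916), (18943, 18909)]
    ⟨e3 q18880 L226633 q18768, e3 q18881 L248842 q21473, e3 q18882 L226645 q16814, e3 q18883 L248866 q21477, e3 q18884 L226659 q15262, e3 q18885 L240692 q20549, e3 q18886 (flp_c L226667) q15259, e3 q18887 L226675 q18861, e3 q18888 L226681 q18853, e3 q18889 (flp_c L226687) q15261, e3 q18890 L248784 q21466, e3 q18891 (flp_c L248814) q21469, e3 q18892 (flp_c L226709) q15274, e3 q18893 (flp_c L248828) q21470, e3 q18894 (flp_c L226723) q17724, e3 q18895 (flp_c L226725) q15267, e3 q18896 (flp_c L226737) q15270, e3 q18897 L248948 q21487, e3 q18898 (flp_c L248937) q21485, e3 q18899 L226762 q18776, e3 q18900 L226774 q17315, e3 q18901 (flp_c L226787) q18711, e3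 q18902 L226795 q15277, e3 q18903 L226802 q15278, e3 q18904 (flp_c L248968) q21489, e3 q18905 L248990 q21491, e3 q18906 (flp_c L226826) q15281, e3 q18907 (flp_c L249022) q21494, e3 q18908 (flp_c L240728) q20553, e3 q18909 (flp_c L227114) q18943, e3 q18910 (flp_c L249002) q21492, e3 q18911 L226856 q15285, e3 q18912 (flp_c L226870) q15725, e3 q18913 L226876 q18800, e3 q18914 (flp_c L226886) q16797, e3 q18915 L226890 q15290, e3 q18916 (flp_c L227104) q18942, e3 q18917 L249080 q21502, e3 q18918 L249084 q21503, e3 q18919 (flp_c L226908) q15291, e3 q18920 L226914 q17342, e3 q18921 L226926 q15301, e3 q18922 L226932 q15298, e3 q18923 L226946 q15299, e3 q18924 (flp_c L234645) q19856, e3 q18925 L227020 q18931, e3 q18926 L240992 q20582, e3 q18927 (flp_c L249098) q21505, e3 q18928 L226978 q15304, e3 q18929 (flp_c L226994) q15317, e3 q18930 L249144 q21510, e3 q18931 (flp_c L227020) q18925, e3 q18932 (flp_c L227022) q15305, e3 q18933 L227036 q15318, e3 q18934 L227048 q16569, e3 q18935 L227058 q18819, e3 q18936 L249190 q21515,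 e3 q18937 L227070 q16788, e3 q18938 L249220 q21519, e3 q18939 L227084 q15315, e3 q18940 L240928 q20575, e3 q18941 (flp_c L227094) q15312, e3 q18942 L227104 q18916, e3 q18943 L227114 q18909, trivial⟩ (by decide +kernel)

theorem ce_c_296 : ∀ r, r < 64 → sm gc (Qf (18944 + r)) = Qf (tab Gen.c (18944 + r)) :=
  edges_tab (sm gc) Qf (tab Gen.c) 18944 [(18944, 15314), (18945, 21508), (18946, 21511), (18947, 21512), (18948, 17655), (18949, 15320), (18950, 20938), (18951, 21273), (18952, 19249), (18953, 15324), (18954, 21101), (18955, 20892), (18956, 19096), (18957, 19522), (18958, 21530), (18959, 15327), (18960, 18967), (18961, 15329), (18962, 21533), (18963, 20965), (18964, 21538), (18965, 15332), (18966, 15333), (18967, 18960), (18968, 21544), (18969, 18254), (18970, 19293), (18971, 19294), (18972, 21542), (18973, 15338), (18974, 15339), (18975, 18799), (18976, 21552), (18977, 18755), (18978, 18756), (18979, 15343), (18980, 15345), (18981, 15346), (18982, 20530), (18983, 15348), (18984, 17970), (18985, 15350), (18986,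 19619), (18987, 21555), (18988, 15373), (18989, 18200), (18990, 15355), (18991, 15356), (18992, 21559), (18993, 21561), (18994, 15357), (18995, 21534), (18996, 15360), (18997, 15361), (18998, 18518), (18999, 21563), (19000, 19330), (19001, 15368), (19002, 21568), (19003, 15370), (19004, 15371), (19005, 15365), (19006, 17785), (19007, 17783)]
    ⟨e3 q18944 (flp_c L227120) q15314, e3 q18945 L249130 q21508, e3 q18946 (flp_c L249160) q21511, e3 q18947 (flp_c L249174) q21512, e3 q18948 (flp_c L227155) q17655, e3 q18949 (flp_c L227157) q15320, e3 q18950 (flp_c L244411) q20938, e3 q18951 (flp_c L247107) q21273, e3 q18952 L229320 q19249, e3 q18953 (flp_c L227192) q15324, e3 q18954 L245689 q21101, e3 q18955 (flp_c L244009) q20892, e3 q18956 (flp_c L228160) q19096, e3 q18957 (flp_c L231826) q19522, e3 q18958 L249319 q21530, e3 q18959 (flp_c L227230) q15327, e3 q18960 L238103 q18967, e3 q18961 (flp_c L227246) q15329, e3 q18962 L249345 q21533, e3 q18963 (flp_c L244609) q20965, e3 q18964 L249374 q21538, e3 q18965 L227266 q15332,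 e3 q18966 (flp_c L227270) q15333, e3 q18967 (flp_c L238103) q18960, e3 q18968 (flp_c L249446) q21544, e3 q18969 L227286 q18254, e3 q18970 (flp_c L229714) q19293, e3 q18971 (flp_c L229724) q19294, e3 q18972 (flp_c L249420) q21542, e3 q18973 L227310 q15338, e3 q18974 L227314 q15339, e3 q18975 L227324 q18799, e3 q18976 L249522 q21552, e3 q18977 L227340 q18755, e3 q18978 L227344 q18756, e3 q18979 (flp_c L227350) q15343, e3 q18980 (flp_c L227361) q15345, e3 q18981 (flp_c L227371) q15346, e3 q18982 L240535 q20530, e3 q18983 L227399 q15348, e3 q18984 (flp_c L227447) q17970, e3 q18985 L227453 q15350, e3 q18986 L232695 q19619, e3 q18987 L249553 q21555, e3 q18988 L227478 q15373, e3 q18989 (flp_c L227491) q18200, e3 q18990 L227497 q15355, e3 q18991 L227504 q15356, e3 q18992 (flp_c L249591) q21559, e3 q18993 L249605 q21561, e3 q18994 (flp_c L227522) q15357, e3 q18995 (flp_c L249355) q21534, e3 q18996 L227538 q15360, e3 q18997 (flp_c L227544) q15361, e3 q18998 L227554 q18518, e3 q18999 (flp_c L249625) q21563, e3 q19000 L230076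 q19330, e3 q19001 L227572 q15368, e3 q19002 L249665 q21568, e3 q19003 L227582 q15370, e3 q19004 L227590 q15371, e3 q19005 (flp_c L227594) q15365, e3 q19006 (flp_c L227616) q17785, e3 q19007 L227604 q17783, trivial⟩ (by decide +kernel)

theorem ce_c_297 : ∀ r, r < 64 → sm gc (Qf (19008 + r)) = Qf (tab Gen.c (19008 + r)) :=
  edges_tab (sm gc) Qf (tab Gen.c) 19008 [(19008, 20755), (19009, 19090), (19010, 21574), (19011, 21567), (19012, 15369), (19013, 21578), (19014, 19080), (19015, 19567), (19016, 21556), (19017, 21557), (19018, 21582), (19019, 15376), (19020, 19079), (19021, 21586), (19022, 21588), (19023, 15377), (19024, 21590), (19025, 15378), (19026, 21159), (19027, 18791), (19028, 17284), (19029, 20815), (19030, 18642), (19031, 17781), (19032, 18816), (19033, 19374), (19034, 18048), (19035, 15388), (19036, 18524), (19037, 18739), (19038, 20876), (19039, 21598), (19040, 15393), (19041, 21601), (19042, 19451), (19043, 15975), (19044, 16145), (19045, 15397), (19046, 15398), (19047, 15399), (19048, 21605), (19049,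 21606), (19050, 19057), (19051, 19644), (19052, 21608), (19053, 15400), (19054, 21616), (19055, 20221), (19056, 21619), (19057, 19050), (19058, 15404), (19059, 15421), (19060, 15405), (19061, 21624), (19062, 21614), (19063, 15407), (19064, 15408), (19065, 18766), (19066, 21294), (19067, 19067), (19068, 19068), (19069, 21633), (19070, 19070), (19071, 19071)]
    ⟨e3 q19008 (flp_c L242638) q20755, e3 q19009 (flp_c L228125) q19090, e3 q19010 L249705 q21574, e3 q19011 (flp_c L249661) q21567, e3 q19012 (flp_c L227638) q15369, e3 q19013 (flp_c L249731) q21578, e3 q19014 (flp_c L228064) q19080, e3 q19015 L232236 q19567, e3 q19016 (flp_c L249571) q21556, e3 q19017 (flp_c L249577) q21557, e3 q19018 L249757 q21582, e3 q19019 L227684 q15376, e3 q19020 (flp_c L228056) q19079, e3 q19021 L249789 q21586, e3 q19022 L249797 q21588, e3 q19023 (flp_c L227704) q15377, e3 q19024 L249811 q21590, e3 q19025 (flp_c L227708) q15378, e3 q19026 (flp_c L246130) q21159, e3 q19027 L227722 q18791, e3 q19028 (flp_c L227736) q17284, e3 q19029 L243251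 q20815, e3 q19030 L227746 q18642, e3 q19031 (flp_c L227758) q17781, e3 q19032 L227762 q18816, e3 q19033 (flp_c L230408) q19374, e3 q19034 L227782 q18048, e3 q19035 L227786 q15388, e3 q19036 L227792 q18524, e3 q19037 L227800 q18739, e3 q19038 (flp_c L243863) q20876, e3 q19039 L249881 q21598, e3 q19040 (flp_c L227813) q15393, e3 q19041 (flp_c L249901) q21601, e3 q19042 (flp_c L231186) q19451, e3 q19043 L227835 q15975, e3 q19044 (flp_c L227845) q16145, e3 q19045 L227853 q15397, e3 q19046 L227857 q15398, e3 q19047 L227863 q15399, e3 q19048 (flp_c L249931) q21605, e3 q19049 (flp_c L249939) q21606, e3 q19050 L227925 q19057, e3 q19051 (flp_c L232899) q19644, e3 q19052 (flp_c L249955) q21608, e3 q19053 (flp_c L227895) q15400, e3 q19054 L250001 q21616, e3 q19055 (flp_c L237899) q20221, e3 q19056 L250029 q21619, e3 q19057 (flp_c L227925) q19050, e3 q19058 (flp_c L227913) q15404, e3 q19059 L227929 q15421, e3 q19060 (flp_c L227937) q15405, e3 q19061 (flp_c L250075) q21624, e3 q19062 (flp_c L249997) q21614, e3 q19063 L227953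 q15407, e3 q19064 (flp_c L227957) q15408, e3 q19065 L227969 q18766, e3 q19066 L247259 q21294, e3 q19067 L227979 q19067, e3 q19068 L227984 q19068, e3 q19069 L250145 q21633, e3 q19070 L227998 q19070, e3 q19071 L228003 q19071, trivial⟩ (by decide +kernel)

theorem ce_c_298 : ∀ r, r < 64 → sm gc (Qf (19072 + r)) = Qf (tab Gen.c (19072 + r)) :=
  edges_tab (sm gc) Qf (tab Gen.c) 19072 [(19072, 21638), (19073, 15413), (19074, 21640), (19075, 21631), (19076, 15418), (19077, 19417), (19078, 15415), (19079, 19020), (19080, 19014), (19081, 15417), (19082, 19450), (19083, 21620), (19084, 21621), (19085, 15422), (19086, 21650), (19087, 15423), (19088, 21654), (19089, 16696), (19090, 19009), (19091, 21282), (19092, 19483), (19093, 15429), (19094, 21154), (19095, 20868), (19096, 18956), (19097, 20909), (19098, 19107), (19099, 21661), (19100, 15433), (19101, 15434), (19102, 21664), (19103, 20991), (19104, 21668), (19105, 15437), (19106, 15438), (19107, 19098), (19108, 21674), (19109, 18311), (19110, 19521), (19111, 21672), (19112,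 15442), (19113, 15443), (19114, 18747), (19115, 21596), (19116, 18806), (19117, 18807), (19118, 15447), (19119, 15449), (19120, 15450), (19121, 20472), (19122, 15452), (19123, 17967), (19124, 15454), (19125, 19414), (19126, 21682), (19127, 15477), (19128, 18225), (19129, 15459), (19130, 15460), (19131, 21685), (19132, 21687), (19133, 15461), (19134, 21665), (19135, 15464)]
    ⟨e3 q19072 L250185 q21638, e3 q19073 (flp_c L228022) q15413, e3 q19074 (flp_c L250200) q21640, e3 q19075 L250133 q21631, e3 q19076 L228038 q15418, e3 q19077 L230930 q19417, e3 q19078 (flp_c L228048) q15415, e3 q19079 L228056 q19020, e3 q19080 L228064 q19014, e3 q19081 (flp_c L228070) q15417, e3 q19082 L231180 q19450, e3 q19083 (flp_c L250043) q21620, e3 q19084 (flp_c L250055) q21621, e3 q19085 (flp_c L228089) q15422, e3 q19086 L250286 q21650, e3 q19087 (flp_c L228103) q15423, e3 q19088 L250318 q21654, e3 q19089 L228117 q16696, e3 q19090 L228125 q19009, e3 q19091 (flp_c L247174) q21282, e3 q19092 L231466 q19483, e3 q19093 (flp_c L228140) q15429,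 e3 q19094 L246094 q21154, e3 q19095 (flp_c L243765) q20868, e3 q19096 L228160 q18956, e3 q19097 (flp_c L244197) q20909, e3 q19098 (flp_c L250464) q19107, e3 q19099 L250398 q21661, e3 q19100 (flp_c L228186) q15433, e3 q19101 (flp_c L228198) q15434, e3 q19102 L250424 q21664, e3 q19103 (flp_c L244794) q20991, e3 q19104 L250447 q21668, e3 q19105 L228218 q15437, e3 q19106 (flp_c L228222) q15438, e3 q19107 L250464 q19098, e3 q19108 (flp_c L250530) q21674, e3 q19109 L228238 q18311, e3 q19110 (flp_c L231816) q19521, e3 q19111 (flp_c L250504) q21672, e3 q19112 L228252 q15442, e3 q19113 L228256 q15443, e3 q19114 L228266 q18747, e3 q19115 (flp_c L249869) q21596, e3 q19116 L228282 q18806, e3 q19117 L228286 q18807, e3 q19118 (flp_c L228292) q15447, e3 q19119 (flp_c L228301) q15449, e3 q19120 (flp_c L228311) q15450, e3 q19121 L240049 q20472, e3 q19122 L228339 q15452, e3 q19123 (flp_c L228352) q17967, e3 q19124 L228358 q15454, e3 q19125 L230938 q19414, e3 q19126 L250609 q21682, e3 q19127 L228383 q15477, e3 q19128 (flp_c L228396)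 q18225, e3 q19129 L228404 q15459, e3 q19130 L228411 q15460, e3 q19131 (flp_c L250643) q21685, e3 q19132 L250659 q21687, e3 q19133 (flp_c L228435) q15461, e3 q19134 (flp_c L250434) q21665, e3 q19135 L228453 q15464, trivial⟩ (by decide +kernel)

theorem ce_c_299 : ∀ r, r < 64 → sm gc (Qf (19136 + r)) = Qf (tab Gen.c (19136 + r)) :=
  edges_tab (sm gc) Qf (tab Gen.c) 19136 [(19136, 15465), (19137, 18487), (19138, 21689), (19139, 19556), (19140, 15472), (19141, 21694), (19142, 15474), (19143, 15475), (19144, 15469), (19145, 17800), (19146, 20767), (19147, 17798), (19148, 19224), (19149, 21607), (19150, 21693), (19151, 15473), (19152, 21702), (19153, 19348), (19154, 19214), (19155, 21683), (19156, 15480), (19157, 19213), (19158, 21706), (19159, 21708), (19160, 15481), (19161, 21709), (19162, 15482), (19163, 21106), (19164, 18741), (19165, 17208), (19166, 20805), (19167, 18627), (19168, 17796), (19169, 18767), (19170, 19589), (19171, 18077), (19172, 15492), (19173, 18493), (19174, 18789), (19175, 20900), (19176, 21715),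 (19177, 15497), (19178, 21718), (19179, 15750), (19180, 19651), (19181, 16068), (19182, 15501), (19183, 15502), (19184, 15503), (19185, 21722), (19186, 21723), (19187, 21724), (19188, 19194), (19189, 19443), (19190, 20228), (19191, 15505), (19192, 21731), (19193, 21733), (19194, 19188), (19195, 15508), (19196, 15524), (19197, 15509), (19198, 21737), (19199, 21730)]
    ⟨e3 q19136 (flp_c L228459) q15465, e3 q19137 L228469 q18487, e3 q19138 (flp_c L250681) q21689, e3 q19139 L232148 q19556, e3 q19140 L228487 q15472, e3 q19141 L250723 q21694, e3 q19142 L228501 q15474, e3 q19143 L228509 q15475, e3 q19144 (flp_c L228515) q15469, e3 q19145 L228523 q17800, e3 q19146 (flp_c L242765) q20767, e3 q19147 L228537 q17798, e3 q19148 (flp_c L229102) q19224, e3 q19149 (flp_c L249947) q21607, e3 q19150 (flp_c L250717) q21693, e3 q19151 (flp_c L228565) q15473, e3 q19152 (flp_c L250785) q21702, e3 q19153 (flp_c L230966) q19348, e3 q19154 (flp_c L229023) q19214, e3 q19155 (flp_c L250625) q21683, e3 q19156 L228597 q15480, e3 q19157 (flp_c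 L229015) q19213, e3 q19158 L250813 q21706, e3 q19159 L250821 q21708, e3 q19160 (flp_c L228619) q15481, e3 q19161 L250831 q21709, e3 q19162 (flp_c L228625) q15482, e3 q19163 (flp_c L245725) q21106, e3 q19164 L228641 q18741, e3 q19165 (flp_c L228655) q17208, e3 q19166 L243125 q20805, e3 q19167 L228667 q18627, e3 q19168 (flp_c L228679) q17796, e3 q19169 L228685 q18767, e3 q19170 (flp_c L232422) q19589, e3 q19171 L228705 q18077, e3 q19172 L228709 q15492, e3 q19173 L228715 q18493, e3 q19174 L228723 q18789, e3 q19175 (flp_c L244107) q20900, e3 q19176 L250891 q21715, e3 q19177 (flp_c L228740) q15497, e3 q19178 (flp_c L250923) q21718, e3 q19179 L228758 q15750, e3 q19180 (flp_c L232967) q19651, e3 q19181 (flp_c L228778) q16068, e3 q19182 L228786 q15501, e3 q19183 L228792 q15502, e3 q19184 L228798 q15503, e3 q19185 (flp_c L250963) q21722, e3 q19186 (flp_c L250971) q21723, e3 q19187 (flp_c L250979) q21724, e3 q19188 L228876 q19194, e3 q19189 (flp_c L231116) q19443, e3 q19190 (flp_c L237941) q20228, e3 q19191 (flp_c L228840)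 q15505, e3 q19192 L251037 q21731, e3 q19193 L251055 q21733, e3 q19194 (flp_c L228876) q19188, e3 q19195 (flp_c L228864) q15508, e3 q19196 L228880 q15524, e3 q19197 (flp_c L228888) q15509, e3 q19198 (flp_c L251099) q21737, e3 q19199 (flp_c L251035) q21730, trivial⟩ (by decide +kernel)

theorem ce_c_300 : ∀ r, r < 64 → sm gc (Qf (19200 + r)) = Qf (tab Gen.c (19200 + r)) :=
  edges_tab (sm gc) Qf (tab Gen.c) 19200 [(19200, 15511), (19201, 15512), (19202, 18818), (19203, 21296), (19204, 19204), (19205, 21744), (19206, 19206), (19207, 15516), (19208, 21746), (19209, 21743), (19210, 15521), (19211, 19621), (19212, 15518), (19213, 19157), (19214, 19154), (19215, 15520), (19216, 19650), (19217, 21734), (19218, 21735), (19219, 15525), (19220, 21755), (19221, 15526), (19222, 21758), (19223, 16705), (19224, 19148), (19225, 19600), (19226, 15532), (19227, 15549), (19228, 15534), (19229, 19235), (19230, 19382), (19231, 20726), (19232, 21762), (19233, 15538), (19234, 21763), (19235, 19229), (19236, 15541), (19237, 19241), (19238,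 15542), (19239, 21330), (19240, 21764), (19241, 19237), (19242, 20433), (19243, 17786), (19244, 21765), (19245, 15554), (19246, 15555), (19247, 21767), (19248, 15937), (19249, 18952), (19250, 15557), (19251, 15558), (19252, 21770), (19253, 16786), (19254, 19488), (19255, 15560), (19256, 21773), (19257, 15561), (19258, 20757), (19259, 15563), (19260, 17447), (19261, 21260), (19262, 15566), (19263, 21426)]
    ⟨e3 q19200 L228908 q15511, e3 q19201 (flp_c L228914) q15512, e3 q19202 L228928 q18818, e3 q19203 L247273 q21296, e3 q19204 L228940 q19204, e3 q19205 L251163 q21744, e3 q19206 L228957 q19206, e3 q19207 (flp_c L228981) q15516, e3 q19208 (flp_c L251181) q21746, e3 q19209 L251161 q21743, e3 q19210 L228997 q15521, e3 q19211 L232719 q19621, e3 q19212 (flp_c L229007) q15518, e3 q19213 L229015 q19157, e3 q19214 L229023 q19154, e3 q19215 (flp_c L229029) q15520, e3 q19216 L232959 q19650, e3 q19217 (flp_c L251071) q21734, e3 q19218 (flp_c L251085) q21735, e3 q19219 (flp_c L229058) q15525, e3 q19220 L251267 q21755, e3 q19221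 (flp_c L229076) q15526, e3 q19222 L251293 q21758, e3 q19223 L229092 q16705, e3 q19224 L229102 q19148, e3 q19225 (flp_c L232530) q19600, e3 q19226 (flp_c L229112) q15532, e3 q19227 L229124 q15549, e3 q19228 (flp_c L229130) q15534, e3 q19229 (flp_c L229190) q19235, e3 q19230 L230486 q19382, e3 q19231 (flp_c L242338) q20726, e3 q19232 L251341 q21762, e3 q19233 (flp_c L229170) q15538, e3 q19234 (flp_c L251351) q21763, e3 q19235 L229190 q19229, e3 q19236 L229202 q15541, e3 q19237 L229248 q19241, e3 q19238 (flp_c L229216) q15542, e3 q19239 (flp_c L247608) q21330, e3 q19240 L251355 q21764, e3 q19241 (flp_c L229248) q19237, e3 q19242 (flp_c L239721) q20433, e3 q19243 L229262 q17786, e3 q19244 L251363 q21765, e3 q19245 (flp_c L229274) q15554, e3 q19246 (flp_c L229282) q15555, e3 q19247 (flp_c L251383) q21767, e3 q19248 L229304 q15937, e3 q19249 (flp_c L229320) q18952, e3 q19250 L229328 q15557, e3 q19251 L229336 q15558, e3 q19252 (flp_c L251421) q21770, e3 q19253 L229354 q16786, e3 q19254 (flp_c L231510) q19488, e3 q19255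 (flp_c L229366) q15560, e3 q19256 (flp_c L251457) q21773, e3 q19257 (flp_c L229382) q15561, e3 q19258 (flp_c L242664) q20757, e3 q19259 L229406 q15563, e3 q19260 L229418 q17447, e3 q19261 (flp_c L246993) q21260, e3 q19262 (flp_c L229440) q15566, e3 q19263 (flp_c L248457) q21426, trivial⟩ (by decide +kernel)

theorem ce_c_301 : ∀ r, r < 64 → sm gc (Qf (19264 + r)) = Qf (tab Gen.c (19264 + r)) :=
  edges_tab (sm gc) Qf (tab Gen.c) 19264 [(19264, 21775), (19265, 21776), (19266, 15571), (19267, 18073), (19268, 19279), (19269, 15577), (19270, 21316), (19271, 15581), (19272, 20171), (19273, 16784), (19274, 15582), (19275, 21781), (19276, 21782), (19277, 17542), (19278, 15593), (19279, 19268), (19280, 15585), (19281, 15586), (19282, 20235), (19283, 20485), (19284, 15590), (19285, 15591), (19286, 21787), (19287, 21789), (19288, 21352), (19289, 18633), (19290, 17982), (19291, 17981), (19292, 18019), (19293, 18970), (19294, 18971), (19295, 20344), (19296, 15597), (19297, 21791), (19298, 21792), (19299, 15598), (19300, 21794),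 (19301, 18821), (19302, 17476), (19303, 17477), (19304, 16574), (19305, 15616), (19306, 15618), (19307, 15619), (19308, 18597), (19309, 15620), (19310, 21796), (19311, 19319), (19312, 15624), (19313, 17308), (19314, 15626), (19315, 20600), (19316, 21798), (19317, 15628), (19318, 15631), (19319, 19311), (19320, 15638), (19321, 17261), (19322, 19994), (19323, 15640), (19324, 21326), (19325, 21801), (19326, 20570), (19327, 15654)]
    ⟨e3 q19264 L251474 q21775, e3 q19265 L251486 q21776, e3 q19266 (flp_c L229474) q15571, e3 q19267 L229488 q18073, e3 q19268 L229590 q19279, e3 q19269 (flp_c L229500) q15577, e3 q19270 (flp_c L247465) q21316, e3 q19271 L229510 q15581, e3 q19272 (flp_c L237433) q20171, e3 q19273 (flp_c L229534) q16784, e3 q19274 (flp_c L229536) q15582, e3 q19275 (flp_c L251546) q21781, e3 q19276 (flp_c L251558) q21782, e3 q19277 L229562 q17542, e3 q19278 L229572 q15593, e3 q19279 (flp_c L229590) q19268, e3 q19280 L229600 q15585, e3 q19281 L229610 q15586, e3 q19282 (flp_c L237985) q20235, e3 q19283 (flp_c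 L240137) q20485, e3 q19284 L229634 q15590, e3 q19285 L229640 q15591, e3 q19286 (flp_c L251606) q21787, e3 q19287 L251624 q21789, e3 q19288 L247839 q21352, e3 q19289 (flp_c L229666) q18633, e3 q19290 L229676 q17982, e3 q19291 L229684 q17981, e3 q19292 L229700 q18019, e3 q19293 L229714 q18970, e3 q19294 L229724 q18971, e3 q19295 L238875 q20344, e3 q19296 L229736 q15597, e3 q19297 L251648 q21791, e3 q19298 L251660 q21792, e3 q19299 (flp_c L229760) q15598, e3 q19300 (flp_c L251682) q21794, e3 q19301 L229776 q18821, e3 q19302 L229800 q17476, e3 q19303 L229816 q17477, e3 q19304 L229826 q16574, e3 q19305 (flp_c L229838) q15616, e3 q19306 L229852 q15618, e3 q19307 L229862 q15619, e3 q19308 L229872 q18597, e3 q19309 (flp_c L229882) q15620, e3 q19310 L251698 q21796, e3 q19311 L229988 q19319, e3 q19312 (flp_c L229908) q15624, e3 q19313 L229922 q17308, e3 q19314 L229934 q15626, e3 q19315 (flp_c L241170) q20600, e3 q19316 L251724 q21798, e3 q19317 (flp_c L229966) q15628, e3 q19318 (flp_c L229972) q15631, e3 q19319 (flp_c L229988)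 q19311, e3 q19320 (flp_c L229990) q15638, e3 q19321 L230006 q17261, e3 q19322 L235908 q19994, e3 q19323 (flp_c L230018) q15640, e3 q19324 (flp_c L247571) q21326, e3 q19325 (flp_c L251772) q21801, e3 q19326 (flp_c L240874) q20570, e3 q19327 L230046 q15654, trivial⟩ (by decide +kernel)

theorem ce_c_302 : ∀ r, r < 64 → sm gc (Qf (19328 + r)) = Qf (tab Gen.c (19328 + r)) :=
  edges_tab (sm gc) Qf (tab Gen.c) 19328 [(19328, 15704), (19329, 21327), (19330, 19000), (19331, 15645), (19332, 19332), (19333, 15648), (19334, 15882), (19335, 17366), (19336, 15652), (19337, 15653), (19338, 15884), (19339, 15885), (19340, 18708), (19341, 21806), (19342, 21205), (19343, 21115), (19344, 18368), (19345, 15658), (19346, 21810), (19347, 21811), (19348, 19153), (19349, 21206), (19350, 18365), (19351, 21226), (19352, 21113), (19353, 18369), (19354, 21816), (19355, 15663), (19356, 21817), (19357, 21163), (19358, 21161), (19359, 15665), (19360, 21160), (19361, 18297), (19362, 15666), (19363, 21064), (19364, 20396), (19365, 15667), (19366,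 21822), (19367, 21258), (19368, 15669), (19369, 21060), (19370, 15675), (19371, 15681), (19372, 18130), (19373, 18131), (19374, 19033), (19375, 17138), (19376, 17871), (19377, 17617), (19378, 19593), (19379, 15690), (19380, 20843), (19381, 17526), (19382, 19230), (19383, 21827), (19384, 17543), (19385, 17333), (19386, 19465), (19387, 17336), (19388, 19388), (19389, 19467), (19390, 19469), (19391, 15778)]
    ⟨e3 q19328 L230056 q15704, e3 q19329 (flp_c L247579) q21327, e3 q19330 (flp_c L230076) q19000, e3 q19331 L230082 q15645, e3 q19332 L230092 q19332, e3 q19333 (flp_c L230096) q15648, e3 q19334 L230114 q15882, e3 q19335 L230124 q17366, e3 q19336 L230132 q15652, e3 q19337 L230146 q15653, e3 q19338 L230156 q15884, e3 q19339 L230164 q15885, e3 q19340 L230178 q18708, e3 q19341 L251820 q21806, e3 q19342 (flp_c L246517) q21205, e3 q19343 (flp_c L245787) q21115, e3 q19344 L230202 q18368, e3 q19345 (flp_c L230204) q15658, e3 q19346 (flp_c L251858) q21810, e3 q19347 (flp_c L251866) q21811, e3 q19348 L230966 q19153, e3 q19349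 (flp_c L246525) q21206, e3 q19350 L230232 q18365, e3 q19351 (flp_c L246691) q21226, e3 q19352 (flp_c L245771) q21113, e3 q19353 L230252 q18369, e3 q19354 L251912 q21816, e3 q19355 (flp_c L230266) q15663, e3 q19356 (flp_c L251928) q21817, e3 q19357 (flp_c L246158) q21163, e3 q19358 (flp_c L246144) q21161, e3 q19359 (flp_c L230284) q15665, e3 q19360 (flp_c L246134) q21160, e3 q19361 (flp_c L230300) q18297, e3 q19362 (flp_c L230302) q15666, e3 q19363 (flp_c L245373) q21064, e3 q19364 (flp_c L239363) q20396, e3 q19365 (flp_c L230324) q15667, e3 q19366 (flp_c L251976) q21822, e3 q19367 (flp_c L246971) q21258, e3 q19368 L230346 q15669, e3 q19369 (flp_c L245333) q21060, e3 q19370 L230362 q15675, e3 q19371 L230374 q15681, e3 q19372 L230388 q18130, e3 q19373 L230396 q18131, e3 q19374 L230408 q19033, e3 q19375 L230416 q17138, e3 q19376 L230430 q17871, e3 q19377 L230436 q17617, e3 q19378 (flp_c L232456) q19593, e3 q19379 (flp_c L230444) q15690, e3 q19380 (flp_c L243543) q20843, e3 q19381 L230468 q17526, e3 q19382 (flp_c L230486)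 q19230, e3 q19383 L252026 q21827, e3 q19384 L230498 q17543, e3 q19385 L230510 q17333, e3 q19386 L231290 q19465, e3 q19387 L230530 q17336, e3 q19388 L230544 q19388, e3 q19389 (flp_c L231306) q19467, e3 q19390 (flp_c L231324) q19469, e3 q19391 L230570 q15778, trivial⟩ (by decide +kernel)

theorem ce_c_303 : ∀ r, r < 64 → sm gc (Qf (19392 + r)) = Qf (tab Gen.c (19392 + r)) :=
  edges_tab (sm gc) Qf (tab Gen.c) 19392 [(19392, 15788), (19393, 15711), (19394, 21830), (19395, 17232), (19396, 17233), (19397, 20551), (19398, 20552), (19399, 20569), (19400, 15728), (19401, 15729), (19402, 15730), (19403, 15731), (19404, 18762), (19405, 15722), (19406, 15723), (19407, 21839), (19408, 19657), (19409, 15726), (19410, 21499), (19411, 21838), (19412, 15724), (19413, 21842), (19414, 19125), (19415, 20565), (19416, 21832), (19417, 19077), (19418, 21833), (19419, 20775), (19420, 19628), (19421, 17827), (19422, 15736), (19423, 21846), (19424, 18013), (19425, 15740), (19426, 16345), (19427, 19622), (19428, 16337), (19429, 16518), (19430,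 20760), (19431, 20761), (19432, 20762), (19433, 16069), (19434, 17768), (19435, 15747), (19436, 15748), (19437, 15749), (19438, 21719), (19439, 21852), (19440, 21853), (19441, 20751), (19442, 21850), (19443, 19189), (19444, 18719), (19445, 16072), (19446, 16073), (19447, 21165), (19448, 15756), (19449, 21858), (19450, 19082), (19451, 19042), (19452, 15760), (19453, 21334), (19454, 15764), (19455, 21360)]
    ⟨e3 q19392 L230584 q15788, e3 q19393 (flp_c L230586) q15711, e3 q19394 (flp_c L252062) q21830, e3 q19395 L230610 q17232, e3 q19396 L230620 q17233, e3 q19397 (flp_c L240704) q20551, e3 q19398 (flp_c L240716) q20552, e3 q19399 (flp_c L240859) q20569, e3 q19400 L230652 q15728, e3 q19401 L230658 q15729, e3 q19402 L230662 q15730, e3 q19403 L230666 q15731, e3 q19404 L230674 q18762, e3 q19405 L230678 q15722, e3 q19406 L230684 q15723, e3 q19407 L252142 q21839, e3 q19408 (flp_c L233017) q19657, e3 q19409 L230696 q15726, e3 q19410 (flp_c L249056) q21499, e3 q19411 (flp_c L252134) q21838, e3 q19412 (flp_c L230724) q15724,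 e3 q19413 (flp_c L252166) q21842, e3 q19414 (flp_c L230938) q19125, e3 q19415 L240825 q20565, e3 q19416 (flp_c L252086) q21832, e3 q19417 (flp_c L230930) q19077, e3 q19418 (flp_c L252092) q21833, e3 q19419 (flp_c L242848) q20775, e3 q19420 L232791 q19628, e3 q19421 L230806 q17827, e3 q19422 L230970 q15736, e3 q19423 (flp_c L252211) q21846, e3 q19424 L230992 q18013, e3 q19425 L231004 q15740, e3 q19426 L231008 q16345, e3 q19427 (flp_c L232725) q19622, e3 q19428 L231026 q16337, e3 q19429 L231034 q16518, e3 q19430 (flp_c L242699) q20760, e3 q19431 (flp_c L242705) q20761, e3 q19432 (flp_c L242715) q20762, e3 q19433 L231056 q16069, e3 q19434 (flp_c L231066) q17768, e3 q19435 L231074 q15747, e3 q19436 L231078 q15748, e3 q19437 L231082 q15749, e3 q19438 (flp_c L250933) q21719, e3 q19439 (flp_c L252265) q21852, e3 q19440 (flp_c L252271) q21853, e3 q19441 L242600 q20751, e3 q19442 L252255 q21850, e3 q19443 L231116 q19189, e3 q19444 L231126 q18719, e3 q19445 L231134 q16072, e3 q19446 L231146 q16073, e3 q19447 (flp_c L246178)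 q21165, e3 q19448 (flp_c L231160) q15756, e3 q19449 (flp_c L252321) q21858, e3 q19450 (flp_c L231180) q19082, e3 q19451 L231186 q19042, e3 q19452 L231194 q15760, e3 q19453 (flp_c L247656) q21334, e3 q19454 (flp_c L231202) q15764, e3 q19455 (flp_c L247906) q21360, trivial⟩ (by decide +kernel)

theorem ce_c_304 : ∀ r, r < 64 → sm gc (Qf (19456 + r)) = Qf (tab Gen.c (19456 + r)) :=
  edges_tab (sm gc) Qf (tab Gen.c) 19456 [(19456, 15765), (19457, 19612), (19458, 15766), (19459, 21862), (19460, 16937), (19461, 15768), (19462, 21864), (19463, 15770), (19464, 15772), (19465, 19386), (19466, 15776), (19467, 19389), (19468, 20691), (19469, 19390), (19470, 15782), (19471, 19477), (19472, 15783), (19473, 21325), (19474, 21866), (19475, 15784), (19476, 21867), (19477, 19471), (19478, 20492), (19479, 17766), (19480, 21868), (19481, 15795), (19482, 21869), (19483, 19092), (19484, 15797), (19485, 15798), (19486, 21871), (19487, 16812), (19488, 19254), (19489, 15800), (19490, 15801), (19491, 20768), (19492, 15803), (19493, 17472),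 (19494, 21259), (19495, 15805), (19496, 21382), (19497, 21874), (19498, 15810), (19499, 18044), (19500, 21771), (19501, 19511), (19502, 15817), (19503, 21305), (19504, 15821), (19505, 20188), (19506, 16810), (19507, 15822), (19508, 21879), (19509, 21880), (19510, 15831), (19511, 19501), (19512, 15825), (19513, 15826), (19514, 20234), (19515, 20542), (19516, 15830), (19517, 21344), (19518, 18618), (19519, 17976)]
    ⟨e3 q19456 (flp_c L231216) q15765, e3 q19457 (flp_c L232634) q19612, e3 q19458 (flp_c L231228) q15766, e3 q19459 (flp_c L252363) q21862, e3 q19460 (flp_c L231246) q16937, e3 q19461 L231250 q15768, e3 q19462 (flp_c L252381) q21864, e3 q19463 L231264 q15770, e3 q19464 L231276 q15772, e3 q19465 (flp_c L231290) q19386, e3 q19466 (flp_c L231292) q15776, e3 q19467 L231306 q19389, e3 q19468 (flp_c L241992) q20691, e3 q19469 L231324 q19390, e3 q19470 L231336 q15782, e3 q19471 L231404 q19477, e3 q19472 (flp_c L231350) q15783, e3 q19473 (flp_c L247549) q21325, e3 q19474 L252401 q21866, e3 q19475 (flp_c L231380)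 q15784, e3 q19476 (flp_c L252413) q21867, e3 q19477 (flp_c L231404) q19471, e3 q19478 (flp_c L240205) q20492, e3 q19479 L231418 q17766, e3 q19480 L252417 q21868, e3 q19481 (flp_c L231436) q15795, e3 q19482 (flp_c L252429) q21869, e3 q19483 (flp_c L231466) q19092, e3 q19484 L231474 q15797, e3 q19485 L231482 q15798, e3 q19486 (flp_c L252455) q21871, e3 q19487 L231504 q16812, e3 q19488 L231510 q19254, e3 q19489 (flp_c L231520) q15800, e3 q19490 (flp_c L231528) q15801, e3 q19491 (flp_c L242779) q20768, e3 q19492 L231552 q15803, e3 q19493 L231564 q17472, e3 q19494 (flp_c L246981) q21259, e3 q19495 (flp_c L231586) q15805, e3 q19496 (flp_c L248087) q21382, e3 q19497 L252484 q21874, e3 q19498 (flp_c L231612) q15810, e3 q19499 L231626 q18044, e3 q19500 (flp_c L251435) q21771, e3 q19501 L231726 q19511, e3 q19502 (flp_c L231646) q15817, e3 q19503 (flp_c L247361) q21305, e3 q19504 L231656 q15821, e3 q19505 (flp_c L237579) q20188, e3 q19506 (flp_c L231682) q16810, e3 q19507 (flp_c L231684) q15822, e3 q19508 (flp_c L252544) q21879,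 e3 q19509 (flp_c L252556) q21880, e3 q19510 L231708 q15831, e3 q19511 (flp_c L231726) q19501, e3 q19512 L231736 q15825, e3 q19513 L231746 q15826, e3 q19514 (flp_c L237975) q20234, e3 q19515 (flp_c L240625) q20542, e3 q19516 L231772 q15830, e3 q19517 L247755 q21344, e3 q19518 L231784 q18618, e3 q19519 L231792 q17976, trivial⟩ (by decide +kernel)

theorem ce_c_305 : ∀ r, r < 64 → sm gc (Qf (19520 + r)) = Qf (tab Gen.c (19520 + r)) :=
  edges_tab (sm gc) Qf (tab Gen.c) 19520 [(19520, 17975), (19521, 19110), (19522, 18957), (19523, 20406), (19524, 15835), (19525, 21885), (19526, 21886), (19527, 15836), (19528, 21888), (19529, 18770), (19530, 17451), (19531, 17452), (19532, 16539), (19533, 15850), (19534, 15852), (19535, 15853), (19536, 18588), (19537, 15854), (19538, 21890), (19539, 19546), (19540, 15858), (19541, 15860), (19542, 20602), (19543, 21891), (19544, 15862), (19545, 15865), (19546, 19539), (19547, 15872), (19548, 19935), (19549, 15874), (19550, 21331), (19551, 20544), (19552, 21893), (19553, 15931), (19554,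 15886), (19555, 21332), (19556, 19139), (19557, 15880), (19558, 19558), (19559, 17338), (19560, 18701), (19561, 21856), (19562, 21225), (19563, 18429), (19564, 15888), (19565, 21899), (19566, 21818), (19567, 19015), (19568, 18427), (19569, 18430), (19570, 21903), (19571, 15893), (19572, 21848), (19573, 21108), (19574, 15895), (19575, 21107), (19576, 18239), (19577, 15896), (19578, 21025), (19579, 20327), (19580, 15897), (19581, 21907), (19582, 21248), (19583, 15899)]
    ⟨e3 q19520 L231802 q17975, e3 q19521 L231816 q19110, e3 q19522 L231826 q18957, e3 q19523 L239453 q20406, e3 q19524 L231838 q15835, e3 q19525 L252602 q21885, e3 q19526 L252614 q21886, e3 q19527 (flp_c L231862) q15836, e3 q19528 (flp_c L252636) q21888, e3 q19529 L231882 q18770, e3 q19530 L231890 q17451, e3 q19531 L231906 q17452, e3 q19532 L231916 q16539, e3 q19533 (flp_c L231928) q15850, e3 q19534 L231940 q15852, e3 q19535 L231950 q15853, e3 q19536 L231962 q18588, e3 q19537 (flp_c L231972) q15854, e3 q19538 L252654 q21890, e3 q19539 L232066 q19546,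 e3 q19540 (flp_c L231998) q15858, e3 q19541 L232012 q15860, e3 q19542 (flp_c L241198) q20602, e3 q19543 L252666 q21891, e3 q19544 (flp_c L232044) q15862, e3 q19545 (flp_c L232050) q15865, e3 q19546 (flp_c L232066) q19539, e3 q19547 (flp_c L232068) q15872, e3 q19548 L235350 q19935, e3 q19549 (flp_c L232084) q15874, e3 q19550 (flp_c L247630) q21331, e3 q19551 (flp_c L240644) q20544, e3 q19552 (flp_c L252698) q21893, e3 q19553 L232118 q15931, e3 q19554 L232129 q15886, e3 q19555 (flp_c L247638) q21332, e3 q19556 (flp_c L232148) q19139, e3 q19557 L232154 q15880, e3 q19558 L232166 q19558, e3 q19559 L232174 q17338, e3 q19560 L232184 q18701, e3 q19561 (flp_c L252299) q21856, e3 q19562 (flp_c L246683) q21225, e3 q19563 L232204 q18429, e3 q19564 (flp_c L232212) q15888, e3 q19565 (flp_c L252754) q21899, e3 q19566 (flp_c L251940) q21818, e3 q19567 (flp_c L232236) q19015, e3 q19568 L232242 q18427, e3 q19569 L232254 q18430, e3 q19570 L252788 q21903, e3 q19571 (flp_c L232270) q15893, e3 q19572 (flp_c L252231) q21848, e3 q19573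 (flp_c L245739) q21108, e3 q19574 (flp_c L232292) q15895, e3 q19575 (flp_c L245729) q21107, e3 q19576 (flp_c L232314) q18239, e3 q19577 (flp_c L232316) q15896, e3 q19578 (flp_c L245049) q21025, e3 q19579 (flp_c L238699) q20327, e3 q19580 (flp_c L232338) q15897, e3 q19581 (flp_c L252832) q21907, e3 q19582 (flp_c L246875) q21248, e3 q19583 L232360 q15899, trivial⟩ (by decide +kernel)

theorem ce_c_306 : ∀ r, r < 64 → sm gc (Qf (19584 + r)) = Qf (tab Gen.c (19584 + r)) :=
  edges_tab (sm gc) Qf (tab Gen.c) 19584 [(19584, 21021), (19585, 15905), (19586, 15911), (19587, 18182), (19588, 18183), (19589, 19170), (19590, 17048), (19591, 17859), (19592, 17589), (19593, 19378), (19594, 15920), (19595, 20839), (19596, 17530), (19597, 21912), (19598, 17256), (19599, 19599), (19600, 19225), (19601, 21768), (19602, 17309), (19603, 20576), (19604, 20577), (19605, 20586), (19606, 15954), (19607, 15955), (19608, 15956), (19609, 18813), (19610, 15948), (19611, 15949), (19612, 19457), (19613, 15950), (19614, 21919), (19615, 21915),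 (19616, 21457), (19617, 15951), (19618, 21920), (19619, 18986), (19620, 20584), (19621, 19211), (19622, 19427), (19623, 17816), (19624, 15961), (19625, 21922), (19626, 15965), (19627, 16383), (19628, 19420), (19629, 16409), (19630, 16411), (19631, 20748), (19632, 20749), (19633, 20750), (19634, 16144), (19635, 17777), (19636, 15972), (19637, 15973), (19638, 15974), (19639, 21603), (19640, 21927), (19641, 21928), (19642, 21925), (19643, 20763), (19644, 19051), (19645, 16148), (19646, 18730), (19647, 16149)]
    ⟨e3 q19584 (flp_c L245009) q21021, e3 q19585 L232376 q15905, e3 q19586 L232388 q15911, e3 q19587 L232402 q18182, e3 q19588 L232410 q18183, e3 q19589 L232422 q19170, e3 q19590 L232430 q17048, e3 q19591 L232444 q17859, e3 q19592 L232450 q17589, e3 q19593 L232456 q19378, e3 q19594 (flp_c L232460) q15920, e3 q19595 (flp_c L243509) q20839, e3 q19596 L232484 q17530, e3 q19597 L252884 q21912, e3 q19598 L232504 q17256, e3 q19599 L232520 q19599, e3 q19600 L232530 q19225, e3 q19601 (flp_c L251395) q21768, e3 q19602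 L232550 q17309, e3 q19603 (flp_c L240934) q20576, e3 q19604 (flp_c L240946) q20577, e3 q19605 (flp_c L241036) q20586, e3 q19606 L232584 q15954, e3 q19607 L232592 q15955, e3 q19608 L232600 q15956, e3 q19609 L232614 q18813, e3 q19610 L232618 q15948, e3 q19611 L232626 q15949, e3 q19612 L232634 q19457, e3 q19613 L232642 q15950, e3 q19614 L252956 q21919, e3 q19615 (flp_c L252922) q21915, e3 q19616 (flp_c L248718) q21457, e3 q19617 (flp_c L232672) q15951, e3 q19618 (flp_c L252966) q21920, e3 q19619 (flp_c L232695) q18986, e3 q19620 L241014 q20584, e3 q19621 (flp_c L232719) q19211, e3 q19622 L232725 q19427, e3 q19623 L232737 q17816, e3 q19624 L232749 q15961, e3 q19625 (flp_c L252990) q21922, e3 q19626 L232771 q15965, e3 q19627 L232775 q16383, e3 q19628 (flp_c L232791) q19420, e3 q19629 L232799 q16409, e3 q19630 L232809 q16411, e3 q19631 (flp_c L242576) q20748, e3 q19632 (flp_c L242582) q20749, e3 q19633 (flp_c L242590) q20750, e3 q19634 L232837 q16144, e3 q19635 (flp_c L232851) q17777, e3 q19636 L232857 q15972, e3 q19637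 L232861 q15973, e3 q19638 L232865 q15974, e3 q19639 (flp_c L249917) q21603, e3 q19640 (flp_c L253044) q21927, e3 q19641 (flp_c L253054) q21928, e3 q19642 (flp_c L253024) q21925, e3 q19643 L242729 q20763, e3 q19644 L232899 q19051, e3 q19645 L232907 q16148, e3 q19646 L232919 q18730, e3 q19647 L232929 q16149, trivial⟩ (by decide +kernel)

theorem ce_c_307 : ∀ r, r < 64 → sm gc (Qf (19648 + r)) = Qf (tab Gen.c (19648 + r)) :=
  edges_tab (sm gc) Qf (tab Gen.c) 19648 [(19648, 15981), (19649, 21932), (19650, 19216), (19651, 19180), (19652, 15985), (19653, 21336), (19654, 15989), (19655, 21404), (19656, 15990), (19657, 19408), (19658, 15991), (19659, 21936), (19660, 16952), (19661, 15993), (19662, 21938), (19663, 15995), (19664, 15997), (19665, 18600), (19666, 16003), (19667, 16007), (19668, 16009), (19669, 16305), (19670, 17254), (19671, 16012), (19672, 16013), (19673, 16014), (19674, 16024), (19675, 17004), (19676, 16025), (19677, 16026), (19678, 19706), (19679, 21493), (19680, 16020), (19681, 16021), (19682, 16022),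 (19683, 16023), (19684, 21875), (19685, 21944), (19686, 20319), (19687, 21945), (19688, 21035), (19689, 17007), (19690, 20316), (19691, 16035), (19692, 16029), (19693, 16030), (19694, 16031), (19695, 21249), (19696, 21955), (19697, 20456), (19698, 20454), (19699, 16794), (19700, 16876), (19701, 19937), (19702, 21954), (19703, 21250), (19704, 18625), (19705, 17958), (19706, 19678), (19707, 20033), (19708, 16040), (19709, 16041), (19710, 17779), (19711, 21169)]
    ⟨e3 q19648 (flp_c L232939) q15981, e3 q19649 (flp_c L253096) q21932, e3 q19650 (flp_c L232959) q19216, e3 q19651 L232967 q19180, e3 q19652 L232977 q15985, e3 q19653 (flp_c L247671) q21336, e3 q19654 (flp_c L232987) q15989, e3 q19655 (flp_c L248278) q21404, e3 q19656 (flp_c L233007) q15990, e3 q19657 L233017 q19408, e3 q19658 (flp_c L233025) q15991, e3 q19659 (flp_c L253140) q21936, e3 q19660 (flp_c L233043) q16952, e3 q19661 L233047 q15993, e3 q19662 (flp_c L253164) q21938, e3 q19663 L233065 q15995, e3 q19664 L233077 q15997, e3 q19665 L233087 q18600, e3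 q19666 L233099 q16003, e3 q19667 L233105 q16007, e3 q19668 L233113 q16009, e3 q19669 L233123 q16305, e3 q19670 L233131 q17254, e3 q19671 L233139 q16012, e3 q19672 L233145 q16013, e3 q19673 L233151 q16014, e3 q19674 L233155 q16024, e3 q19675 (flp_c L233161) q17004, e3 q19676 L233171 q16025, e3 q19677 L233175 q16026, e3 q19678 (flp_c L233391) q19706, e3 q19679 (flp_c L249018) q21493, e3 q19680 L233193 q16020, e3 q19681 L233201 q16021, e3 q19682 L233207 q16022, e3 q19683 L233217 q16023, e3 q19684 (flp_c L252502) q21875, e3 q19685 (flp_c L253234) q21944, e3 q19686 (flp_c L238621) q20319, e3 q19687 (flp_c L253242) q21945, e3 q19688 L245143 q21035, e3 q19689 L233247 q17007, e3 q19690 L238597 q20316, e3 q19691 L233263 q16035, e3 q19692 L233271 q16029, e3 q19693 L233281 q16030, e3 q19694 L233291 q16031, e3 q19695 (flp_c L246891) q21249, e3 q19696 L253322 q21955, e3 q19697 (flp_c L239921) q20456, e3 q19698 (flp_c L239899) q20454, e3 q19699 L233339 q16794, e3 q19700 (flp_c L233351) q16876, e3 q19701 L235370 q19937, e3 q19702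 (flp_c L253312) q21954, e3 q19703 L246903 q21250, e3 q19704 L233371 q18625, e3 q19705 L233379 q17958, e3 q19706 L233391 q19678, e3 q19707 L236235 q20033, e3 q19708 L233403 q16040, e3 q19709 L233413 q16041, e3 q19710 (flp_c L233429) q17779, e3 q19711 (flp_c L246206) q21169, trivial⟩ (by decide +kernel)

theorem ce_c_308 : ∀ r, r < 64 → sm gc (Qf (19712 + r)) = Qf (tab Gen.c (19712 + r)) :=
  edges_tab (sm gc) Qf (tab Gen.c) 19712 [(19712, 21966), (19713, 16042), (19714, 16043), (19715, 21967), (19716, 18402), (19717, 16046), (19718, 16047), (19719, 16048), (19720, 20851), (19721, 18623), (19722, 20225), (19723, 21946), (19724, 20872), (19725, 20108), (19726, 20884), (19727, 16056), (19728, 17642), (19729, 16057), (19730, 19941), (19731, 17645), (19732, 20817), (19733, 19972), (19734, 21825), (19735, 19976), (19736, 17720), (19737, 16059), (19738, 19831), (19739, 16062), (19740, 20697), (19741, 16064), (19742, 20450), (19743, 20359), (19744, 17072), (19745, 19843), (19746, 17224), (19747, 19841), (19748, 16070), (19749,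 21779), (19750, 19842), (19751, 19838), (19752, 16398), (19753, 21975), (19754, 16393), (19755, 16403), (19756, 18688), (19757, 16075), (19758, 21976), (19759, 18591), (19760, 16079), (19761, 16083), (19762, 16084), (19763, 16454), (19764, 17330), (19765, 16088), (19766, 16089), (19767, 16090), (19768, 16100), (19769, 16979), (19770, 16101), (19771, 16103), (19772, 19799), (19773, 21451), (19774, 16096), (19775, 16097)]
    ⟨e3 q19712 L253431 q21966, e3 q19713 (flp_c L233445) q16042, e3 q19714 (flp_c L233453) q16043, e3 q19715 L253441 q21967, e3 q19716 L233473 q18402, e3 q19717 L233481 q16046, e3 q19718 L233489 q16047, e3 q19719 L233499 q16048, e3 q19720 (flp_c L243611) q20851, e3 q19721 L233513 q18623, e3 q19722 (flp_c L237921) q20225, e3 q19723 (flp_c L253256) q21946, e3 q19724 (flp_c L243813) q20872, e3 q19725 (flp_c L236849) q20108, e3 q19726 (flp_c L243941) q20884, e3 q19727 L233559 q16056, e3 q19728 L233569 q17642, e3 q19729 L233577 q16057, e3 q19730 (flp_c L235400) q19941, e3 q19731 L233593 q17645, e3 q19732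 (flp_c L243271) q20817, e3 q19733 (flp_c L235689) q19972, e3 q19734 (flp_c L252004) q21825, e3 q19735 (flp_c L235727) q19976, e3 q19736 (flp_c L233637) q17720, e3 q19737 (flp_c L233639) q16059, e3 q19738 (flp_c L234399) q19831, e3 q19739 (flp_c L233653) q16062, e3 q19740 (flp_c L242062) q20697, e3 q19741 L233673 q16064, e3 q19742 (flp_c L239859) q20450, e3 q19743 (flp_c L239043) q20359, e3 q19744 L233693 q17072, e3 q19745 (flp_c L234511) q19843, e3 q19746 L233711 q17224, e3 q19747 (flp_c L234489) q19841, e3 q19748 (flp_c L233727) q16070, e3 q19749 (flp_c L251526) q21779, e3 q19750 (flp_c L234497) q19842, e3 q19751 (flp_c L234459) q19838, e3 q19752 L233773 q16398, e3 q19753 L253515 q21975, e3 q19754 L233789 q16393, e3 q19755 L233801 q16403, e3 q19756 L233813 q18688, e3 q19757 (flp_c L233817) q16075, e3 q19758 (flp_c L253529) q21976, e3 q19759 L233835 q18591, e3 q19760 L233847 q16079, e3 q19761 L233853 q16083, e3 q19762 L233861 q16084, e3 q19763 L233871 q16454, e3 q19764 L233879 q17330, e3 q19765 L233887 q16088, e3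 q19766 L233893 q16089, e3 q19767 L233899 q16090, e3 q19768 L233903 q16100, e3 q19769 (flp_c L233909) q16979, e3 q19770 L233919 q16101, e3 q19771 L233923 q16103, e3 q19772 (flp_c L234133) q19799, e3 q19773 (flp_c L248680) q21451, e3 q19774 L233941 q16096, e3 q19775 L233947 q16097, trivial⟩ (by decide +kernel)

theorem ce_c_309 : ∀ r, r < 64 → sm gc (Qf (19776 + r)) = Qf (tab Gen.c (19776 + r)) :=
  edges_tab (sm gc) Qf (tab Gen.c) 19776 [(19776, 16098), (19777, 16099), (19778, 21777), (19779, 20299), (19780, 21982), (19781, 21072), (19782, 21983), (19783, 20296), (19784, 16982), (19785, 16111), (19786, 16105), (19787, 16106), (19788, 16107), (19789, 21245), (19790, 20512), (19791, 21993), (19792, 20514), (19793, 16820), (19794, 16883), (19795, 19996), (19796, 21239), (19797, 21992), (19798, 18640), (19799, 19772), (19800, 17963), (19801, 20053), (19802, 16116), (19803, 16117), (19804, 21110), (19805, 17795), (19806, 22004), (19807, 16118), (19808, 16119), (19809, 22005), (19810, 18398), (19811, 16122), (19812, 16123),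 (19813, 16124), (19814, 20858), (19815, 20232), (19816, 18638), (19817, 20896), (19818, 20116), (19819, 21984), (19820, 20908), (19821, 17714), (19822, 16132), (19823, 16133), (19824, 17717), (19825, 20807), (19826, 19999), (19827, 21910), (19828, 19957), (19829, 17650), (19830, 16134), (19831, 19738), (19832, 20012), (19833, 16136), (19834, 20690), (19835, 16138), (19836, 20378), (19837, 20508), (19838, 19751), (19839, 17300)]
    ⟨e3 q19776 L233955 q16098, e3 q19777 L233963 q16099, e3 q19778 (flp_c L251504) q21777, e3 q19779 (flp_c L238465) q20299, e3 q19780 (flp_c L253599) q21982, e3 q19781 L245459 q21072, e3 q19782 (flp_c L253607) q21983, e3 q19783 L238441 q20296, e3 q19784 L234009 q16982, e3 q19785 L234017 q16111, e3 q19786 L234025 q16105, e3 q19787 L234035 q16106, e3 q19788 L234043 q16107, e3 q19789 (flp_c L246851) q21245, e3 q19790 (flp_c L240383) q20512, e3 q19791 L253689 q21993, e3 q19792 (flp_c L240405) q20514, e3 q19793 L234093 q16820, e3 q19794 (flp_c L234105) q16883, e3 q19795 L235928 q19996, e3 q19796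 L246795 q21239, e3 q19797 (flp_c L253679) q21992, e3 q19798 L234125 q18640, e3 q19799 L234133 q19772, e3 q19800 L234141 q17963, e3 q19801 L236374 q20053, e3 q19802 L234157 q16116, e3 q19803 L234165 q16117, e3 q19804 (flp_c L245759) q21110, e3 q19805 (flp_c L234185) q17795, e3 q19806 L253798 q22004, e3 q19807 (flp_c L234199) q16118, e3 q19808 (flp_c L234205) q16119, e3 q19809 L253808 q22005, e3 q19810 L234227 q18398, e3 q19811 L234235 q16122, e3 q19812 L234243 q16123, e3 q19813 L234251 q16124, e3 q19814 (flp_c L243679) q20858, e3 q19815 (flp_c L237963) q20232, e3 q19816 L234273 q18638, e3 q19817 (flp_c L244057) q20896, e3 q19818 (flp_c L236933) q20116, e3 q19819 (flp_c L253621) q21984, e3 q19820 (flp_c L244185) q20908, e3 q19821 L234315 q17714, e3 q19822 L234321 q16132, e3 q19823 L234337 q16133, e3 q19824 L234345 q17717, e3 q19825 (flp_c L243145) q20807, e3 q19826 (flp_c L235954) q19999, e3 q19827 (flp_c L252862) q21910, e3 q19828 (flp_c L235547) q19957, e3 q19829 (flp_c L234385) q17650, e3 q19830 (flp_c L234387)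 q16134, e3 q19831 L234399 q19738, e3 q19832 (flp_c L236065) q20012, e3 q19833 (flp_c L234413) q16136, e3 q19834 (flp_c L241982) q20690, e3 q19835 L234435 q16138, e3 q19836 L239201 q20378, e3 q19837 (flp_c L240343) q20508, e3 q19838 L234459 q19751, e3 q19839 L234467 q17300, trivial⟩ (by decide +kernel)

theorem ce_c_310 : ∀ r, r < 64 → sm gc (Qf (19840 + r)) = Qf (tab Gen.c (19840 + r)) :=
  edges_tab (sm gc) Qf (tab Gen.c) 19840 [(19840, 17158), (19841, 19747), (19842, 19750), (19843, 19745), (19844, 16147), (19845, 21877), (19846, 22013), (19847, 16377), (19848, 18677), (19849, 16150), (19850, 22014), (19851, 16509), (19852, 16513), (19853, 16155), (19854, 17287), (19855, 17177), (19856, 18924), (19857, 17178), (19858, 20564), (19859, 19877), (19860, 18763), (19861, 18764), (19862, 21476), (19863, 22023), (19864, 16162), (19865, 16163), (19866, 16164), (19867, 22025), (19868, 22026), (19869, 21370), (19870, 21369), (19871, 20425), (19872, 16171), (19873, 17211), (19874, 18869), (19875, 17095), (19876, 17097), (19877,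 19859), (19878, 18814), (19879, 18815), (19880, 22037), (19881, 21518), (19882, 16177), (19883, 16178), (19884, 16179), (19885, 22039), (19886, 22040), (19887, 21415), (19888, 21414), (19889, 20383), (19890, 16195), (19891, 16200), (19892, 16293), (19893, 16446), (19894, 16206), (19895, 17092), (19896, 16584), (19897, 17073), (19898, 16214), (19899, 17485), (19900, 21262), (19901, 16221), (19902, 21240), (19903, 20085)]
    ⟨e3 q19840 L234477 q17158, e3 q19841 L234489 q19747, e3 q19842 L234497 q19750, e3 q19843 L234511 q19745, e3 q19844 (flp_c L234519) q16147, e3 q19845 (flp_c L252524) q21877, e3 q19846 L253886 q22013, e3 q19847 L234553 q16377, e3 q19848 L234565 q18677, e3 q19849 (flp_c L234569) q16150, e3 q19850 (flp_c L253900) q22014, e3 q19851 L234585 q16509, e3 q19852 L234597 q16513, e3 q19853 L234607 q16155, e3 q19854 L234623 q17287, e3 q19855 L234631 q17177, e3 q19856 L234645 q18924, e3 q19857 L234655 q17178, e3 q19858 (flp_c L240811) q20564, e3 q19859 (flp_c L234811) q19877, e3 q19860 L234675 q18763, e3 q19861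 L234683 q18764, e3 q19862 L248864 q21476, e3 q19863 L253978 q22023, e3 q19864 L234697 q16162, e3 q19865 L234703 q16163, e3 q19866 L234713 q16164, e3 q19867 (flp_c L254006) q22025, e3 q19868 (flp_c L254020) q22026, e3 q19869 (flp_c L247981) q21370, e3 q19870 (flp_c L247969) q21369, e3 q19871 L239637 q20425, e3 q19872 L234753 q16171, e3 q19873 L234769 q17211, e3 q19874 L234777 q18869, e3 q19875 L234787 q17095, e3 q19876 L234801 q17097, e3 q19877 L234811 q19859, e3 q19878 L234821 q18814, e3 q19879 L234829 q18815, e3 q19880 L254120 q22037, e3 q19881 L249218 q21518, e3 q19882 L234843 q16177, e3 q19883 L234849 q16178, e3 q19884 L234859 q16179, e3 q19885 (flp_c L254148) q22039, e3 q19886 (flp_c L254162) q22040, e3 q19887 (flp_c L248359) q21415, e3 q19888 (flp_c L248347) q21414, e3 q19889 L239249 q20383, e3 q19890 L234899 q16195, e3 q19891 L234911 q16200, e3 q19892 L234925 q16293, e3 q19893 L234937 q16446, e3 q19894 L234951 q16206, e3 q19895 L234965 q17092, e3 q19896 L234975 q16584, e3 q19897 (flp_c L234989) q17073, e3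 q19898 (flp_c L234991) q16214, e3 q19899 L235007 q17485, e3 q19900 (flp_c L247017) q21262, e3 q19901 (flp_c L235017) q16221, e3 q19902 (flp_c L246801) q21240, e3 q19903 (flp_c L236619) q20085, trivial⟩ (by decide +kernel)

theorem ce_c_311 : ∀ r, r < 64 → sm gc (Qf (19904 + r)) = Qf (tab Gen.c (19904 + r)) :=
  edges_tab (sm gc) Qf (tab Gen.c) 19904 [(19904, 20596), (19905, 20084), (19906, 16227), (19907, 16236), (19908, 17175), (19909, 16549), (19910, 17159), (19911, 16244), (19912, 17494), (19913, 21264), (19914, 16251), (19915, 21251), (19916, 20093), (19917, 20598), (19918, 20092), (19919, 16257), (19920, 20201), (19921, 20609), (19922, 16269), (19923, 20088), (19924, 16272), (19925, 17473), (19926, 17611), (19927, 16463), (19928, 21263), (19929, 20606), (19930, 17186), (19931, 17778), (19932, 16315), (19933, 16338), (19934, 16331), (19935, 19548), (19936, 16335), (19937, 19701), (19938, 19948), (19939, 16340), (19940, 22050), (19941, 19730), (19942, 16348), (19943, 19947), (19944, 16347), (19945, 19945), (19946,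 20074), (19947, 19943), (19948, 19938), (19949, 16374), (19950, 22055), (19951, 16378), (19952, 16367), (19953, 17239), (19954, 18691), (19955, 17134), (19956, 18530), (19957, 19828), (19958, 20400), (19959, 18705), (19960, 17181), (19961, 17316), (19962, 18681), (19963, 16390), (19964, 18680), (19965, 18528), (19966, 17044), (19967, 21055)]
    ⟨e3 q19904 (flp_c L241126) q20596, e3 q19905 (flp_c L236611) q20084, e3 q19906 (flp_c L235059) q16227, e3 q19907 L235071 q16236, e3 q19908 L235085 q17175, e3 q19909 L235095 q16549, e3 q19910 (flp_c L235109) q17159, e3 q19911 (flp_c L235111) q16244, e3 q19912 L235127 q17494, e3 q19913 (flp_c L247039) q21264, e3 q19914 (flp_c L235137) q16251, e3 q19915 (flp_c L246909) q21251, e3 q19916 (flp_c L236701) q20093, e3 q19917 (flp_c L241148) q20598, e3 q19918 (flp_c L236693) q20092, e3 q19919 (flp_c L235179) q16257, e3 q19920 (flp_c L237699) q20201, e3 q19921 (flp_c L241273) q20609, e3 q19922 L235207 q16269, e3 q19923 (flp_c L236649) q20088, e3 q19924 L235227 q16272, e3 q19925 L235239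 q17473, e3 q19926 (flp_c L235250) q17611, e3 q19927 L235258 q16463, e3 q19928 (flp_c L247029) q21263, e3 q19929 (flp_c L241244) q20606, e3 q19930 (flp_c L235294) q17186, e3 q19931 L235300 q17778, e3 q19932 L235314 q16315, e3 q19933 L235330 q16338, e3 q19934 L235340 q16331, e3 q19935 (flp_c L235350) q19548, e3 q19936 L235354 q16335, e3 q19937 (flp_c L235370) q19701, e3 q19938 (flp_c L235461) q19948, e3 q19939 (flp_c L235382) q16340, e3 q19940 (flp_c L254279) q22050, e3 q19941 L235400 q19730, e3 q19942 L235410 q16348, e3 q19943 (flp_c L235451) q19947, e3 q19944 L235429 q16347, e3 q19945 L235438 q19945, e3 q19946 (flp_c L236530) q20074, e3 q19947 L235451 q19943, e3 q19948 L235461 q19938, e3 q19949 L235473 q16374, e3 q19950 L254328 q22055, e3 q19951 L235491 q16378, e3 q19952 (flp_c L235499) q16367, e3 q19953 L235509 q17239, e3 q19954 (flp_c L235523) q18691, e3 q19955 L235529 q17134, e3 q19956 L235539 q18530, e3 q19957 L235547 q19828, e3 q19958 (flp_c L239409) q20400, e3 q19959 L235561 q18705, e3 q19960 L235573 q17181,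 e3 q19961 L235587 q17316, e3 q19962 (flp_c L235603) q18681, e3 q19963 L235611 q16390, e3 q19964 (flp_c L235625) q18680, e3 q19965 L235631 q18528, e3 q19966 L235641 q17044, e3 q19967 L245299 q21055, trivial⟩ (by decide +kernel)

theorem ce_c_312 : ∀ r, r < 64 → sm gc (Qf (19968 + r)) = Qf (tab Gen.c (19968 + r)) :=
  edges_tab (sm gc) Qf (tab Gen.c) 19968 [(19968, 18086), (19969, 22062), (19970, 16400), (19971, 20335), (19972, 19733), (19973, 17101), (19974, 18698), (19975, 20058), (19976, 19735), (19977, 20014), (19978, 20747), (19979, 16413), (19980, 18548), (19981, 20205), (19982, 20612), (19983, 16424), (19984, 20096), (19985, 16427), (19986, 17448), (19987, 17583), (19988, 21261), (19989, 20605), (19990, 17262), (19991, 17794), (19992, 16479), (19993, 16473), (19994, 19322), (19995, 16476), (19996, 19795), (19997, 20007), (19998, 16481), (19999, 19826), (20000, 22066), (20001, 20006), (20002, 16488), (20003, 16487), (20004, 20004), (20005, 20063), (20006, 20001), (20007, 19997), (20008, 16501), (20009, 18692),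 (20010, 18139), (20011, 21090), (20012, 19832), (20013, 20075), (20014, 19977), (20015, 20759), (20016, 16520), (20017, 18555), (20018, 22031), (20019, 20026), (20020, 16532), (20021, 21523), (20022, 16541), (20023, 22071), (20024, 21377), (20025, 22073), (20026, 20019), (20027, 16546), (20028, 21772), (20029, 16548), (20030, 22077), (20031, 18573)]
    ⟨e3 q19968 L235657 q18086, e3 q19969 L254414 q22062, e3 q19970 L235673 q16400, e3 q19971 L238795 q20335, e3 q19972 L235689 q19733, e3 q19973 L235697 q17101, e3 q19974 L235709 q18698, e3 q19975 L236411 q20058, e3 q19976 L235727 q19735, e3 q19977 (flp_c L236083) q20014, e3 q19978 (flp_c L242566) q20747, e3 q19979 (flp_c L235747) q16413, e3 q19980 L235763 q18548, e3 q19981 (flp_c L237741) q20205, e3 q19982 (flp_c L241304) q20612, e3 q19983 L235793 q16424, e3 q19984 (flp_c L236731) q20096, e3 q19985 L235813 q16427, e3 q19986 L235825 q17448, e3 q19987 (flp_c L235836) q17583, e3 q19988 (flp_c L247007) q21261, e3 q19989 (flp_c L241230) q20605, e3 q19990 (flp_c L235866)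 q17262, e3 q19991 L235872 q17794, e3 q19992 L235888 q16479, e3 q19993 L235898 q16473, e3 q19994 (flp_c L235908) q19322, e3 q19995 L235912 q16476, e3 q19996 (flp_c L235928) q19795, e3 q19997 (flp_c L236025) q20007, e3 q19998 (flp_c L235940) q16481, e3 q19999 L235954 q19826, e3 q20000 (flp_c L254469) q22066, e3 q20001 (flp_c L236013) q20006, e3 q20002 L235978 q16488, e3 q20003 L235987 q16487, e3 q20004 L236000 q20004, e3 q20005 (flp_c L236447) q20063, e3 q20006 L236013 q20001, e3 q20007 L236025 q19997, e3 q20008 (flp_c L236033) q16501, e3 q20009 (flp_c L236047) q18692, e3 q20010 L236053 q18139, e3 q20011 L245595 q21090, e3 q20012 L236065 q19832, e3 q20013 L236547 q20075, e3 q20014 L236083 q19977, e3 q20015 (flp_c L242689) q20759, e3 q20016 (flp_c L236097) q16520, e3 q20017 L236113 q18555, e3 q20018 (flp_c L254074) q22031, e3 q20019 (flp_c L236185) q20026, e3 q20020 (flp_c L236139) q16532, e3 q20021 (flp_c L249262) q21523, e3 q20022 (flp_c L236153) q16541, e3 q20023 (flp_c L254526) q22071, e3 q20024 (flp_c L248045)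 q21377, e3 q20025 L254546 q22073, e3 q20026 L236185 q20019, e3 q20027 (flp_c L236191) q16546, e3 q20028 (flp_c L251445) q21772, e3 q20029 (flp_c L236207) q16548, e3 q20030 (flp_c L254576) q22077, e3 q20031 (flp_c L236225) q18573, trivial⟩ (by decide +kernel)

theorem ce_c_313 : ∀ r, r < 64 → sm gc (Qf (20032 + r)) = Qf (tab Gen.c (20032 + r)) :=
  edges_tab (sm gc) Qf (tab Gen.c) 20032 [(20032, 20068), (20033, 19707), (20034, 16552), (20035, 22082), (20036, 21340), (20037, 20161), (20038, 22016), (20039, 20046), (20040, 16567), (20041, 21482), (20042, 16576), (20043, 22084), (20044, 21422), (20045, 22086), (20046, 20039), (20047, 16581), (20048, 21788), (20049, 16583), (20050, 22090), (20051, 18559), (20052, 20079), (20053, 19801), (20054, 16587), (20055, 22095), (20056, 21348), (20057, 20156), (20058, 19975), (20059, 22096), (20060, 16605), (20061, 22098), (20062, 22099), (20063, 20005), (20064, 18568), (20065, 16611), (20066, 22103), (20067, 18581), (20068, 20032), (20069, 16615), (20070, 16616), (20071, 22109),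 (20072, 16618), (20073, 22111), (20074, 19946), (20075, 20013), (20076, 22113), (20077, 16628), (20078, 16630), (20079, 20052), (20080, 16632), (20081, 16633), (20082, 22120), (20083, 16635), (20084, 19905), (20085, 19903), (20086, 22123), (20087, 17941), (20088, 19923), (20089, 17891), (20090, 22125), (20091, 16657), (20092, 19918), (20093, 19916), (20094, 22127), (20095, 17951)]
    ⟨e3 q20032 (flp_c L236492) q20068, e3 q20033 (flp_c L236235) q19707, e3 q20034 L236239 q16552, e3 q20035 L254618 q22082, e3 q20036 (flp_c L247711) q21340, e3 q20037 (flp_c L237354) q20161, e3 q20038 (flp_c L253926) q22016, e3 q20039 (flp_c L236324) q20046, e3 q20040 (flp_c L236278) q16567, e3 q20041 (flp_c L248912) q21482, e3 q20042 (flp_c L236292) q16576, e3 q20043 (flp_c L254636) q22084, e3 q20044 (flp_c L248419) q21422, e3 q20045 L254656 q22086, e3 q20046 L236324 q20039, e3 q20047 (flp_c L236330) q16581, e3 q20048 L251622 q21788, e3 q20049 (flp_c L236346) q16583, e3 q20050 (flp_c L254686) q22090, e3 q20051 (flp_c L236364) q18559,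 e3 q20052 (flp_c L236571) q20079, e3 q20053 (flp_c L236374) q19801, e3 q20054 L236378 q16587, e3 q20055 L254728 q22095, e3 q20056 (flp_c L247795) q21348, e3 q20057 (flp_c L237313) q20156, e3 q20058 (flp_c L236411) q19975, e3 q20059 L254730 q22096, e3 q20060 (flp_c L236421) q16605, e3 q20061 (flp_c L254746) q22098, e3 q20062 (flp_c L254756) q22099, e3 q20063 L236447 q20005, e3 q20064 L236458 q18568, e3 q20065 (flp_c L236464) q16611, e3 q20066 (flp_c L254798) q22103, e3 q20067 L236484 q18581, e3 q20068 L236492 q20032, e3 q20069 L236496 q16615, e3 q20070 L236500 q16616, e3 q20071 L254838 q22109, e3 q20072 (flp_c L236508) q16618, e3 q20073 (flp_c L254861) q22111, e3 q20074 L236530 q19946, e3 q20075 (flp_c L236547) q20013, e3 q20076 L254882 q22113, e3 q20077 (flp_c L236557) q16628, e3 q20078 (flp_c L236561) q16630, e3 q20079 L236571 q20052, e3 q20080 L236575 q16632, e3 q20081 L236581 q16633, e3 q20082 L254923 q22120, e3 q20083 (flp_c L236595) q16635, e3 q20084 L236611 q19905, e3 q20085 L236619 q19903, e3 q20086 L254956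 q22123, e3 q20087 L236637 q17941, e3 q20088 L236649 q19923, e3 q20089 L236663 q17891, e3 q20090 L254978 q22125, e3 q20091 (flp_c L236677) q16657, e3 q20092 L236693 q19918, e3 q20093 L236701 q19916, e3 q20094 L255002 q22127, e3 q20095 L236719 q17951, trivial⟩ (by decide +kernel)

theorem ce_c_314 : ∀ r, r < 64 → sm gc (Qf (20096 + r)) = Qf (tab Gen.c (20096 + r)) :=
  edges_tab (sm gc) Qf (tab Gen.c) 20096 [(20096, 19984), (20097, 17913), (20098, 22129), (20099, 16675), (20100, 16680), (20101, 16681), (20102, 16888), (20103, 17568), (20104, 16684), (20105, 16685), (20106, 18616), (20107, 20681), (20108, 19725), (20109, 16687), (20110, 16898), (20111, 17596), (20112, 16690), (20113, 16691), (20114, 18631), (20115, 20718), (20116, 19818), (20117, 16693), (20118, 21996), (20119, 18373), (20120, 16698), (20121, 16699), (20122, 21670), (20123, 16701), (20124, 16704), (20125, 21958), (20126, 18438), (20127, 16707), (20128, 16708), (20129, 21540), (20130, 16710), (20131, 16713), (20132, 22136), (20133, 16958), (20134, 16956),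 (20135, 22137), (20136, 16943), (20137, 16941), (20138, 22138), (20139, 16727), (20140, 16729), (20141, 21314), (20142, 22140), (20143, 16731), (20144, 16733), (20145, 21303), (20146, 16773), (20147, 22142), (20148, 16735), (20149, 16768), (20150, 22145), (20151, 16738), (20152, 21144), (20153, 16752), (20154, 22148), (20155, 16753), (20156, 20057), (20157, 21193), (20158, 16760), (20159, 22149)]
    ⟨e3 q20096 L236731 q19984, e3 q20097 L236745 q17913, e3 q20098 L255024 q22129, e3 q20099 (flp_c L236759) q16675, e3 q20100 (flp_c L236769) q16680, e3 q20101 (flp_c L236775) q16681, e3 q20102 L236785 q16888, e3 q20103 L236803 q17568, e3 q20104 L236809 q16684, e3 q20105 (flp_c L236815) q16685, e3 q20106 L236831 q18616, e3 q20107 (flp_c L241904) q20681, e3 q20108 L236849 q19725, e3 q20109 L236859 q16687, e3 q20110 L236869 q16898, e3 q20111 L236887 q17596, e3 q20112 L236893 q16690, e3 q20113 (flp_c L236899) q16691, e3 q20114 L236915 q18631, e3 q20115 (flp_c L242268) q20718, e3 q20116 L236933 q19818, e3 q20117 L236943 q16693,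 e3 q20118 (flp_c L253728) q21996, e3 q20119 (flp_c L236971) q18373, e3 q20120 L236977 q16698, e3 q20121 (flp_c L236985) q16699, e3 q20122 (flp_c L250482) q21670, e3 q20123 L237001 q16701, e3 q20124 L237013 q16704, e3 q20125 (flp_c L253361) q21958, e3 q20126 (flp_c L237041) q18438, e3 q20127 L237047 q16707, e3 q20128 (flp_c L237055) q16708, e3 q20129 (flp_c L249398) q21540, e3 q20130 L237071 q16710, e3 q20131 L237083 q16713, e3 q20132 L255110 q22136, e3 q20133 L237101 q16958, e3 q20134 L237113 q16956, e3 q20135 L255120 q22137, e3 q20136 L237135 q16943, e3 q20137 L237147 q16941, e3 q20138 L255130 q22138, e3 q20139 (flp_c L237165) q16727, e3 q20140 L237177 q16729, e3 q20141 (flp_c L247443) q21314, e3 q20142 L255150 q22140, e3 q20143 (flp_c L237199) q16731, e3 q20144 L237211 q16733, e3 q20145 (flp_c L247339) q21303, e3 q20146 L237231 q16773, e3 q20147 L255170 q22142, e3 q20148 (flp_c L237247) q16735, e3 q20149 L237257 q16768, e3 q20150 L255196 q22145, e3 q20151 (flp_c L237273) q16738, e3 q20152 L246010 q21144, e3 q20153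 (flp_c L237285) q16752, e3 q20154 (flp_c L255224) q22148, e3 q20155 (flp_c L237295) q16753, e3 q20156 L237313 q20057, e3 q20157 L246409 q21193, e3 q20158 (flp_c L237326) q16760, e3 q20159 (flp_c L255232) q22149, trivial⟩ (by decide +kernel)

theorem ce_c_315 : ∀ r, r < 64 → sm gc (Qf (20160 + r)) = Qf (tab Gen.c (20160 + r)) :=
  edges_tab (sm gc) Qf (tab Gen.c) 20160 [(20160, 16761), (20161, 20037), (20162, 21254), (20163, 21243), (20164, 16894), (20165, 22150), (20166, 16781), (20167, 16782), (20168, 22152), (20169, 16783), (20170, 21780), (20171, 19272), (20172, 16790), (20173, 16791), (20174, 22155), (20175, 21956), (20176, 21957), (20177, 16800), (20178, 17264), (20179, 16801), (20180, 22158), (20181, 16905), (20182, 22159), (20183, 16807), (20184, 16808), (20185, 22161), (20186, 16809), (20187, 21878), (20188, 19505), (20189, 16816), (20190, 16817), (20191, 22164), (20192, 21994), (20193, 21995), (20194, 16826), (20195, 17188), (20196, 16827), (20197, 22167), (20198, 20668), (20199, 16832), (20200, 16835),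 (20201, 19920), (20202, 20643), (20203, 16839), (20204, 16842), (20205, 19981), (20206, 17460), (20207, 20211), (20208, 17432), (20209, 20210), (20210, 20209), (20211, 20207), (20212, 20893), (20213, 20869), (20214, 18084), (20215, 16875), (20216, 16878), (20217, 18138), (20218, 16882), (20219, 16885), (20220, 17932), (20221, 19055), (20222, 18085), (20223, 22171)]
    ⟨e3 q20160 (flp_c L237336) q16761, e3 q20161 L237354 q20037, e3 q20162 L246937 q21254, e3 q20163 L246829 q21243, e3 q20164 L237377 q16894, e3 q20165 L255238 q22150, e3 q20166 (flp_c L237397) q16781, e3 q20167 (flp_c L237399) q16782, e3 q20168 (flp_c L255259) q22152, e3 q20169 (flp_c L237415) q16783, e3 q20170 (flp_c L251538) q21780, e3 q20171 L237433 q19272, e3 q20172 L237439 q16790, e3 q20173 L237447 q16791, e3 q20174 L255279 q22155, e3 q20175 (flp_c L253336) q21956, e3 q20176 (flp_c L253347) q21957, e3 q20177 L237487 q16800, e3 q20178 L237499 q17264, e3 q20179 L237505 q16801, e3 q20180 L255307 q22158, e3 q20181 L237523 q16905, e3 q20182 L255319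 q22159, e3 q20183 (flp_c L237543) q16807, e3 q20184 (flp_c L237545) q16808, e3 q20185 (flp_c L255340) q22161, e3 q20186 (flp_c L237561) q16809, e3 q20187 (flp_c L252536) q21878, e3 q20188 L237579 q19505, e3 q20189 L237585 q16816, e3 q20190 L237593 q16817, e3 q20191 L255362 q22164, e3 q20192 (flp_c L253703) q21994, e3 q20193 (flp_c L253717) q21995, e3 q20194 L237633 q16826, e3 q20195 L237645 q17188, e3 q20196 L237651 q16827, e3 q20197 L255390 q22167, e3 q20198 (flp_c L241772) q20668, e3 q20199 L237677 q16832, e3 q20200 L237689 q16835, e3 q20201 L237699 q19920, e3 q20202 (flp_c L241556) q20643, e3 q20203 L237719 q16839, e3 q20204 L237731 q16842, e3 q20205 L237741 q19981, e3 q20206 L237753 q17460, e3 q20207 (flp_c L237810) q20211, e3 q20208 L237774 q17432, e3 q20209 (flp_c L237797) q20210, e3 q20210 L237797 q20209, e3 q20211 L237810 q20207, e3 q20212 (flp_c L244025) q20893, e3 q20213 (flp_c L243781) q20869, e3 q20214 L237841 q18084, e3 q20215 (flp_c L237847) q16875, e3 q20216 L237857 q16878, e3 q20217 L237866 q18138,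 e3 q20218 (flp_c L237872) q16882, e3 q20219 L237882 q16885, e3 q20220 L237891 q17932, e3 q20221 L237899 q19055, e3 q20222 L237903 q18085, e3 q20223 L255422 q22171, trivial⟩ (by decide +kernel)

theorem ce_c_316 : ∀ r, r < 64 → sm gc (Qf (20224 + r)) = Qf (tab Gen.c (20224 + r)) :=
  edges_tab (sm gc) Qf (tab Gen.c) 20224 [(20224, 20257), (20225, 19722), (20226, 22141), (20227, 17942), (20228, 19190), (20229, 18141), (20230, 22178), (20231, 20245), (20232, 19815), (20233, 22139), (20234, 19514), (20235, 19282), (20236, 20300), (20237, 16915), (20238, 20289), (20239, 16919), (20240, 22184), (20241, 16918), (20242, 21675), (20243, 21669), (20244, 22135), (20245, 20231), (20246, 21067), (20247, 16923), (20248, 20320), (20249, 16927), (20250, 20309), (20251, 16931), (20252, 22191), (20253, 16930), (20254, 21545), (20255, 21539), (20256, 22134), (20257, 20224), (20258, 21030), (20259, 16935), (20260, 16936), (20261, 22196), (20262, 21863), (20263, 16939), (20264, 22197), (20265, 22198), (20266, 20277), (20267, 22199),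 (20268, 21797), (20269, 16947), (20270, 22200), (20271, 16951), (20272, 22201), (20273, 21937), (20274, 16954), (20275, 22202), (20276, 22203), (20277, 20266), (20278, 22204), (20279, 21831), (20280, 16962), (20281, 22205), (20282, 16967), (20283, 21548), (20284, 16969), (20285, 20341), (20286, 16971), (20287, 21549)]
    ⟨e3 q20224 (flp_c L238123) q20257, e3 q20225 L237921 q19722, e3 q20226 (flp_c L255164) q22141, e3 q20227 L237933 q17942, e3 q20228 L237941 q19190, e3 q20229 L237945 q18141, e3 q20230 L255474 q22178, e3 q20231 (flp_c L238043) q20245, e3 q20232 L237963 q19815, e3 q20233 (flp_c L255144) q22139, e3 q20234 L237975 q19514, e3 q20235 L237985 q19282, e3 q20236 (flp_c L238473) q20300, e3 q20237 (flp_c L237995) q16915, e3 q20238 (flp_c L238388) q20289, e3 q20239 L238005 q16919, e3 q20240 L255520 q22184, e3 q20241 L238019 q16918, e3 q20242 (flp_c L250544) q21675, e3 q20243 (flp_c L250472) q21669, e3 q20244 (flp_c L255102) q22135, e3 q20245 L238043 q20231, e3 q20246 (flp_c L245403) q21067, e3 q20247 (flp_c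 L238057) q16923, e3 q20248 (flp_c L238629) q20320, e3 q20249 (flp_c L238069) q16927, e3 q20250 (flp_c L238544) q20309, e3 q20251 L238079 q16931, e3 q20252 L255583 q22191, e3 q20253 L238093 q16930, e3 q20254 (flp_c L249460) q21545, e3 q20255 (flp_c L249388) q21539, e3 q20256 (flp_c L255088) q22134, e3 q20257 L238123 q20224, e3 q20258 (flp_c L245099) q21030, e3 q20259 (flp_c L238137) q16935, e3 q20260 (flp_c L238145) q16936, e3 q20261 (flp_c L255636) q22196, e3 q20262 (flp_c L252373) q21863, e3 q20263 L238173 q16939, e3 q20264 (flp_c L255648) q22197, e3 q20265 L255658 q22198, e3 q20266 (flp_c L238289) q20277, e3 q20267 L255670 q22199, e3 q20268 (flp_c L251714) q21797, e3 q20269 (flp_c L238219) q16947, e3 q20270 (flp_c L255686) q22200, e3 q20271 (flp_c L238237) q16951, e3 q20272 (flp_c L255698) q22201, e3 q20273 (flp_c L253154) q21937, e3 q20274 L238265 q16954, e3 q20275 (flp_c L255712) q22202, e3 q20276 L255722 q22203, e3 q20277 L238289 q20266, e3 q20278 L255734 q22204, e3 q20279 (flp_c L252074) q21831, e3 q20280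 (flp_c L238315) q16962, e3 q20281 (flp_c L255750) q22205, e3 q20282 (flp_c L238333) q16967, e3 q20283 (flp_c L249488) q21548, e3 q20284 L238353 q16969, e3 q20285 L238859 q20341, e3 q20286 (flp_c L238364) q16971, e3 q20287 (flp_c L249498) q21549, trivial⟩ (by decide +kernel)

theorem ce_c_317 : ∀ r, r < 64 → sm gc (Qf (20288 + r)) = Qf (tab Gen.c (20288 + r)) :=
  edges_tab (sm gc) Qf (tab Gen.c) 20288 [(20288, 22006), (20289, 20238), (20290, 16973), (20291, 22212), (20292, 16975), (20293, 16976), (20294, 16977), (20295, 22133), (20296, 19783), (20297, 16981), (20298, 21990), (20299, 19779), (20300, 20236), (20301, 16984), (20302, 16992), (20303, 21677), (20304, 16994), (20305, 20403), (20306, 16996), (20307, 21678), (20308, 21968), (20309, 20250), (20310, 16998), (20311, 22227), (20312, 17000), (20313, 17001), (20314, 17002), (20315, 22131), (20316, 19690), (20317, 17006), (20318, 21951), (20319, 19686), (20320, 20248), (20321, 17009), (20322, 21359), (20323, 22236), (20324, 22237), (20325, 17029), (20326, 22239),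 (20327, 19579), (20328, 21018), (20329, 17136), (20330, 17122), (20331, 17033), (20332, 17131), (20333, 20419), (20334, 20399), (20335, 19971), (20336, 17041), (20337, 17046), (20338, 17719), (20339, 17049), (20340, 22241), (20341, 20285), (20342, 17052), (20343, 17053), (20344, 19295), (20345, 17055), (20346, 17057), (20347, 17703), (20348, 17147), (20349, 17058), (20350, 18345), (20351, 17144)]
    ⟨e3 q20288 (flp_c L253828) q22006, e3 q20289 L238388 q20238, e3 q20290 (flp_c L238394) q16973, e3 q20291 L255819 q22212, e3 q20292 L238411 q16975, e3 q20293 L238421 q16976, e3 q20294 (flp_c L238427) q16977, e3 q20295 (flp_c L255074) q22133, e3 q20296 (flp_c L238441) q19783, e3 q20297 L238449 q16981, e3 q20298 (flp_c L253667) q21990, e3 q20299 L238465 q19779, e3 q20300 L238473 q20236, e3 q20301 L238479 q16984, e3 q20302 (flp_c L238489) q16992, e3 q20303 (flp_c L250560) q21677, e3 q20304 L238509 q16994, e3 q20305 L239437 q20403, e3 q20306 (flp_c L238520) q16996, e3 q20307 (flp_c L250570) q21678, e3 q20308 (flp_c L253461)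 q21968, e3 q20309 L238544 q20250, e3 q20310 (flp_c L238550) q16998, e3 q20311 L255976 q22227, e3 q20312 L238565 q17000, e3 q20313 L238575 q17001, e3 q20314 (flp_c L238583) q17002, e3 q20315 (flp_c L255050) q22131, e3 q20316 (flp_c L238597) q19690, e3 q20317 L238605 q17006, e3 q20318 (flp_c L253292) q21951, e3 q20319 L238621 q19686, e3 q20320 L238629 q20248, e3 q20321 L238635 q17009, e3 q20322 (flp_c L247898) q21359, e3 q20323 L256074 q22236, e3 q20324 L256086 q22237, e3 q20325 (flp_c L238675) q17029, e3 q20326 L256110 q22239, e3 q20327 L238699 q19579, e3 q20328 (flp_c L244989) q21018, e3 q20329 (flp_c L238727) q17136, e3 q20330 (flp_c L238743) q17122, e3 q20331 (flp_c L238745) q17033, e3 q20332 L238763 q17131, e3 q20333 (flp_c L239591) q20419, e3 q20334 (flp_c L239401) q20399, e3 q20335 (flp_c L238795) q19971, e3 q20336 (flp_c L238797) q17041, e3 q20337 (flp_c L238811) q17046, e3 q20338 L238827 q17719, e3 q20339 (flp_c L238833) q17049, e3 q20340 (flp_c L256138) q22241, e3 q20341 (flp_c L238859) q20285, e3 q20342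 L238863 q17052, e3 q20343 L238867 q17053, e3 q20344 (flp_c L238875) q19295, e3 q20345 (flp_c L238877) q17055, e3 q20346 L238895 q17057, e3 q20347 L238911 q17703, e3 q20348 L238927 q17147, e3 q20349 (flp_c L238931) q17058, e3 q20350 L238947 q18345, e3 q20351 L238963 q17144, trivial⟩ (by decide +kernel)

theorem ce_c_318 : ∀ r, r < 64 → sm gc (Qf (20352 + r)) = Qf (tab Gen.c (20352 + r)) :=
  edges_tab (sm gc) Qf (tab Gen.c) 20352 [(20352, 21865), (20353, 17153), (20354, 17063), (20355, 20411), (20356, 17152), (20357, 17066), (20358, 20412), (20359, 19743), (20360, 17071), (20361, 21974), (20362, 22243), (20363, 17074), (20364, 20385), (20365, 17076), (20366, 17077), (20367, 20417), (20368, 17079), (20369, 20414), (20370, 17082), (20371, 21823), (20372, 20398), (20373, 17085), (20374, 21821), (20375, 21001), (20376, 22248), (20377, 17469), (20378, 19836), (20379, 17089), (20380, 22012), (20381, 21347), (20382, 17091), (20383, 19889), (20384, 17165), (20385, 20364), (20386, 17167), (20387, 18669), (20388, 21339), (20389,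 17105), (20390, 17106), (20391, 22254), (20392, 21405), (20393, 22255), (20394, 22256), (20395, 17120), (20396, 19364), (20397, 21057), (20398, 20372), (20399, 20334), (20400, 19958), (20401, 17647), (20402, 17139), (20403, 20305), (20404, 17141), (20405, 17142), (20406, 19523), (20407, 17146), (20408, 17631), (20409, 18288), (20410, 21761), (20411, 20355), (20412, 20358), (20413, 17160), (20414, 20369), (20415, 17162)]
    ⟨e3 q20352 (flp_c L252391) q21865, e3 q20353 (flp_c L238989) q17153, e3 q20354 (flp_c L238991) q17063, e3 q20355 (flp_c L239505) q20411, e3 q20356 L239009 q17152, e3 q20357 L239021 q17066, e3 q20358 (flp_c L239515) q20412, e3 q20359 L239043 q19743, e3 q20360 L239055 q17071, e3 q20361 (flp_c L253505) q21974, e3 q20362 L256158 q22243, e3 q20363 (flp_c L239077) q17074, e3 q20364 (flp_c L239265) q20385, e3 q20365 L239093 q17076, e3 q20366 (flp_c L239097) q17077, e3 q20367 L239571 q20417, e3 q20368 L239117 q17079, e3 q20369 (flp_c L239541) q20414, e3 q20370 L239133 q17082, e3 q20371 (flp_c L251986)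 q21823, e3 q20372 L239391 q20398, e3 q20373 (flp_c L239155) q17085, e3 q20374 L251970 q21821, e3 q20375 L244859 q21001, e3 q20376 (flp_c L256208) q22248, e3 q20377 L239181 q17469, e3 q20378 (flp_c L239201) q19836, e3 q20379 (flp_c L239203) q17089, e3 q20380 (flp_c L253876) q22012, e3 q20381 (flp_c L247787) q21347, e3 q20382 (flp_c L239235) q17091, e3 q20383 (flp_c L239249) q19889, e3 q20384 L239253 q17165, e3 q20385 L239265 q20364, e3 q20386 L239269 q17167, e3 q20387 L239287 q18669, e3 q20388 (flp_c L247703) q21339, e3 q20389 L239301 q17105, e3 q20390 L239307 q17106, e3 q20391 (flp_c L256270) q22254, e3 q20392 (flp_c L248286) q21405, e3 q20393 L256278 q22255, e3 q20394 L256290 q22256, e3 q20395 (flp_c L239351) q17120, e3 q20396 L239363 q19364, e3 q20397 (flp_c L245313) q21057, e3 q20398 (flp_c L239391) q20372, e3 q20399 L239401 q20334, e3 q20400 L239409 q19958, e3 q20401 L239417 q17647, e3 q20402 (flp_c L239423) q17139, e3 q20403 (flp_c L239437) q20305, e3 q20404 L239441 q17141, e3 q20405 L239445 q17142, e3 q20406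 (flp_c L239453) q19523, e3 q20407 L239459 q17146, e3 q20408 L239475 q17631, e3 q20409 L239483 q18288, e3 q20410 (flp_c L251331) q21761, e3 q20411 L239505 q20355, e3 q20412 L239515 q20358, e3 q20413 (flp_c L239523) q17160, e3 q20414 L239541 q20369, e3 q20415 L239547 q17162, trivial⟩ (by decide +kernel)

theorem ce_c_319 : ∀ r, r < 64 → sm gc (Qf (20416 + r)) = Qf (tab Gen.c (20416 + r)) :=
  edges_tab (sm gc) Qf (tab Gen.c) 20416 [(20416, 17163), (20417, 20367), (20418, 21908), (20419, 20333), (20420, 17170), (20421, 21906), (20422, 22262), (20423, 20975), (20424, 17444), (20425, 19871), (20426, 18674), (20427, 17185), (20428, 17187), (20429, 20475), (20430, 22165), (20431, 17528), (20432, 17189), (20433, 19242), (20434, 17190), (20435, 22264), (20436, 17196), (20437, 22265), (20438, 20457), (20439, 17201), (20440, 22266), (20441, 17203), (20442, 17205), (20443, 22030), (20444, 17207), (20445, 18338), (20446, 17210), (20447, 20505), (20448, 20771), (20449, 17213), (20450, 19742), (20451, 21802), (20452, 21301), (20453,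 17222), (20454, 19698), (20455, 18525), (20456, 19697), (20457, 20438), (20458, 20698), (20459, 17624), (20460, 18396), (20461, 17238), (20462, 18780), (20463, 18682), (20464, 17242), (20465, 17243), (20466, 17244), (20467, 21998), (20468, 21428), (20469, 17379), (20470, 20784), (20471, 20785), (20472, 19121), (20473, 20473), (20474, 17251), (20475, 20429), (20476, 17252), (20477, 22064), (20478, 17253), (20479, 22279)]
    ⟨e3 q20416 (flp_c L239555) q17163, e3 q20417 (flp_c L239571) q20367, e3 q20418 (flp_c L252842) q21908, e3 q20419 L239591 q20333, e3 q20420 (flp_c L239593) q17170, e3 q20421 L252826 q21906, e3 q20422 (flp_c L256366) q22262, e3 q20423 L244674 q20975, e3 q20424 L239621 q17444, e3 q20425 (flp_c L239637) q19871, e3 q20426 (flp_c L239651) q18674, e3 q20427 L239655 q17185, e3 q20428 (flp_c L239661) q17187, e3 q20429 (flp_c L240063) q20475, e3 q20430 (flp_c L255378) q22165, e3 q20431 L239703 q17528, e3 q20432 (flp_c L239705) q17189, e3 q20433 L239721 q19242, e3 q20434 (flp_c L239729) q17190, e3 q20435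 L256386 q22264, e3 q20436 (flp_c L239743) q17196, e3 q20437 (flp_c L256404) q22265, e3 q20438 (flp_c L239931) q20457, e3 q20439 (flp_c L239771) q17201, e3 q20440 (flp_c L256416) q22266, e3 q20441 (flp_c L239787) q17203, e3 q20442 (flp_c L239795) q17205, e3 q20443 (flp_c L254060) q22030, e3 q20444 L239809 q17207, e3 q20445 L239815 q18338, e3 q20446 L239827 q17210, e3 q20447 (flp_c L240319) q20505, e3 q20448 L242814 q20771, e3 q20449 L239851 q17213, e3 q20450 L239859 q19742, e3 q20451 (flp_c L251784) q21802, e3 q20452 L247321 q21301, e3 q20453 L239889 q17222, e3 q20454 L239899 q19698, e3 q20455 L239909 q18525, e3 q20456 L239921 q19697, e3 q20457 L239931 q20438, e3 q20458 (flp_c L242068) q20698, e3 q20459 L239947 q17624, e3 q20460 L239955 q18396, e3 q20461 (flp_c L239961) q17238, e3 q20462 L239979 q18780, e3 q20463 L239989 q18682, e3 q20464 L240003 q17242, e3 q20465 L240009 q17243, e3 q20466 L240017 q17244, e3 q20467 (flp_c L253744) q21998, e3 q20468 (flp_c L248475) q21428, e3 q20469 L240037 q17379, e3 q20470 (flp_c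 L242905) q20784, e3 q20471 (flp_c L242919) q20785, e3 q20472 (flp_c L240049) q19121, e3 q20473 L240053 q20473, e3 q20474 L240057 q17251, e3 q20475 L240063 q20429, e3 q20476 L240071 q17252, e3 q20477 (flp_c L254446) q22064, e3 q20478 (flp_c L240084) q17253, e3 q20479 (flp_c L256543) q22279, trivial⟩ (by decide +kernel)

theorem ce_c_320 : ∀ r, r < 64 → sm gc (Qf (20480 + r)) = Qf (tab Gen.c (20480 + r)) :=
  edges_tab (sm gc) Qf (tab Gen.c) 20480 [(20480, 21939), (20481, 21940), (20482, 21883), (20483, 17750), (20484, 18461), (20485, 19283), (20486, 17263), (20487, 20531), (20488, 22156), (20489, 17265), (20490, 17532), (20491, 17266), (20492, 19478), (20493, 22284), (20494, 17272), (20495, 22285), (20496, 20516), (20497, 17277), (20498, 22286), (20499, 17279), (20500, 17281), (20501, 22015), (20502, 17283), (20503, 18281), (20504, 17286), (20505, 20447), (20506, 20787), (20507, 17289), (20508, 19837), (20509, 21800), (20510, 21312), (20511, 17298), (20512, 19790), (20513, 18497), (20514, 19792), (20515, 20731),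 (20516, 20496), (20517, 18458), (20518, 17620), (20519, 17314), (20520, 18693), (20521, 18831), (20522, 17318), (20523, 17319), (20524, 17320), (20525, 21384), (20526, 21959), (20527, 17351), (20528, 20769), (20529, 20770), (20530, 18982), (20531, 20487), (20532, 17327), (20533, 20533), (20534, 17328), (20535, 22048), (20536, 17329), (20537, 22298), (20538, 21977), (20539, 21786), (20540, 21978), (20541, 17682), (20542, 19515), (20543, 18399)]
    ⟨e3 q20480 (flp_c L253176) q21939, e3 q20481 (flp_c L253186) q21940, e3 q20482 (flp_c L252582) q21883, e3 q20483 L240123 q17750, e3 q20484 (flp_c L240133) q18461, e3 q20485 L240137 q19283, e3 q20486 (flp_c L240139) q17263, e3 q20487 (flp_c L240539) q20531, e3 q20488 (flp_c L255295) q22156, e3 q20489 (flp_c L240173) q17265, e3 q20490 L240187 q17532, e3 q20491 (flp_c L240189) q17266, e3 q20492 L240205 q19478, e3 q20493 L256587 q22284, e3 q20494 (flp_c L240221) q17272, e3 q20495 (flp_c L256605) q22285, e3 q20496 (flp_c L240423) q20516, e3 q20497 (flp_c L240249) q17277, e3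 q20498 (flp_c L256617) q22286, e3 q20499 (flp_c L240265) q17279, e3 q20500 (flp_c L240273) q17281, e3 q20501 (flp_c L253914) q22015, e3 q20502 L240289 q17283, e3 q20503 L240295 q18281, e3 q20504 L240307 q17286, e3 q20505 L240319 q20447, e3 q20506 L242945 q20787, e3 q20507 L240335 q17289, e3 q20508 L240343 q19837, e3 q20509 (flp_c L251756) q21800, e3 q20510 L247425 q21312, e3 q20511 L240373 q17298, e3 q20512 L240383 q19790, e3 q20513 L240393 q18497, e3 q20514 L240405 q19792, e3 q20515 (flp_c L242392) q20731, e3 q20516 L240423 q20496, e3 q20517 L240431 q18458, e3 q20518 L240443 q17620, e3 q20519 (flp_c L240447) q17314, e3 q20520 L240465 q18693, e3 q20521 L240477 q18831, e3 q20522 L240489 q17318, e3 q20523 L240495 q17319, e3 q20524 L240501 q17320, e3 q20525 (flp_c L248105) q21384, e3 q20526 (flp_c L253371) q21959, e3 q20527 L240523 q17351, e3 q20528 (flp_c L242788) q20769, e3 q20529 (flp_c L242798) q20770, e3 q20530 (flp_c L240535) q18982, e3 q20531 L240539 q20487, e3 q20532 L240545 q17327, e3 q20533 L240553 q20533,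 e3 q20534 L240559 q17328, e3 q20535 (flp_c L254256) q22048, e3 q20536 (flp_c L240572) q17329, e3 q20537 (flp_c L256748) q22298, e3 q20538 (flp_c L253545) q21977, e3 q20539 (flp_c L251596) q21786, e3 q20540 (flp_c L253555) q21978, e3 q20541 L240617 q17682, e3 q20542 L240625 q19515, e3 q20543 (flp_c L240635) q18399, trivial⟩ (by decide +kernel)

theorem ce_c_321 : ∀ r, r < 64 → sm gc (Qf (20544 + r)) = Qf (tab Gen.c (20544 + r)) :=
  edges_tab (sm gc) Qf (tab Gen.c) 20544 [(20544, 19551), (20545, 17738), (20546, 17344), (20547, 22303), (20548, 20573), (20549, 18885), (20550, 21498), (20551, 19397), (20552, 19398), (20553, 18908), (20554, 22291), (20555, 22292), (20556, 18872), (20557, 21522), (20558, 17357), (20559, 17358), (20560, 22307), (20561, 22311), (20562, 22304), (20563, 17359), (20564, 19858), (20565, 19415), (20566, 17364), (20567, 17365), (20568, 20568), (20569, 19399), (20570, 19326), (20571, 17670), (20572, 17372), (20573, 20548), (20574, 21456), (20575, 18940), (20576, 19603), (20577, 19604), (20578,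 18854), (20579, 22271), (20580, 22272), (20581, 21480), (20582, 18926), (20583, 17385), (20584, 19620), (20585, 17389), (20586, 19605), (20587, 17438), (20588, 17450), (20589, 20593), (20590, 17857), (20591, 17463), (20592, 17475), (20593, 20589), (20594, 17869), (20595, 17481), (20596, 19904), (20597, 17490), (20598, 19917), (20599, 17509), (20600, 19315), (20601, 17513), (20602, 19542), (20603, 17523), (20604, 17525), (20605, 19989), (20606, 19929), (20607, 17761)]
    ⟨e3 q20544 L240644 q19551, e3 q20545 L240650 q17738, e3 q20546 L240664 q17344, e3 q20547 (flp_c L256800) q22303, e3 q20548 (flp_c L240904) q20573, e3 q20549 (flp_c L240692) q18885, e3 q20550 (flp_c L249046) q21498, e3 q20551 L240704 q19397, e3 q20552 L240716 q19398, e3 q20553 L240728 q18908, e3 q20554 (flp_c L256679) q22291, e3 q20555 (flp_c L256689) q22292, e3 q20556 (flp_c L240750) q18872, e3 q20557 (flp_c L249256) q21522, e3 q20558 L240764 q17357, e3 q20559 L240772 q17358, e3 q20560 (flp_c L256850) q22307, e3 q20561 L256882 q22311, e3 q20562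 L256820 q22304, e3 q20563 (flp_c L240800) q17359, e3 q20564 L240811 q19858, e3 q20565 (flp_c L240825) q19415, e3 q20566 L240831 q17364, e3 q20567 L240839 q17365, e3 q20568 L240849 q20568, e3 q20569 L240859 q19399, e3 q20570 L240874 q19326, e3 q20571 L240880 q17670, e3 q20572 L240896 q17372, e3 q20573 L240904 q20548, e3 q20574 (flp_c L248708) q21456, e3 q20575 (flp_c L240928) q18940, e3 q20576 L240934 q19603, e3 q20577 L240946 q19604, e3 q20578 L240958 q18854, e3 q20579 (flp_c L256474) q22271, e3 q20580 (flp_c L256484) q22272, e3 q20581 (flp_c L248898) q21480, e3 q20582 (flp_c L240992) q18926, e3 q20583 L241000 q17385, e3 q20584 (flp_c L241014) q19620, e3 q20585 L241022 q17389, e3 q20586 L241036 q19605, e3 q20587 (flp_c L241042) q17438, e3 q20588 L241050 q17450, e3 q20589 (flp_c L241094) q20593, e3 q20590 L241066 q17857, e3 q20591 (flp_c L241074) q17463, e3 q20592 L241082 q17475, e3 q20593 L241094 q20589, e3 q20594 L241100 q17869, e3 q20595 L241112 q17481, e3 q20596 L241126 q19904, e3 q20597 L241134 q17490, e3 q20598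 L241148 q19917, e3 q20599 L241156 q17509, e3 q20600 L241170 q19315, e3 q20601 L241184 q17513, e3 q20602 L241198 q19542, e3 q20603 L241212 q17523, e3 q20604 L241220 q17525, e3 q20605 L241230 q19989, e3 q20606 L241244 q19929, e3 q20607 L241256 q17761, trivial⟩ (by decide +kernel)

theorem ce_c_322 : ∀ r, r < 64 → sm gc (Qf (20608 + r)) = Qf (tab Gen.c (20608 + r)) :=
  edges_tab (sm gc) Qf (tab Gen.c) 20608 [(20608, 17615), (20609, 19921), (20610, 17693), (20611, 17587), (20612, 19982), (20613, 22319), (20614, 17545), (20615, 22321), (20616, 22322), (20617, 17550), (20618, 22324), (20619, 18002), (20620, 18005), (20621, 17564), (20622, 17563), (20623, 17972), (20624, 18096), (20625, 22105), (20626, 22130), (20627, 22329), (20628, 22107), (20629, 17570), (20630, 22333), (20631, 17571), (20632, 22334), (20633, 17572), (20634, 17574), (20635, 22336), (20636, 18161), (20637, 17585), (20638, 17581), (20639, 22337), (20640, 22338), (20641, 18175), (20642, 18611), (20643, 20202), (20644, 20645), (20645, 20644), (20646, 20671),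 (20647, 20964), (20648, 17592), (20649, 17591), (20650, 17978), (20651, 18150), (20652, 22116), (20653, 22132), (20654, 22343), (20655, 22117), (20656, 17598), (20657, 22347), (20658, 17599), (20659, 22348), (20660, 17600), (20661, 17602), (20662, 18107), (20663, 17613), (20664, 17609), (20665, 22350), (20666, 18123), (20667, 18607), (20668, 20198), (20669, 20670), (20670, 20669), (20671, 20646)]
    ⟨e3 q20608 L241265 q17615, e3 q20609 L241273 q19921, e3 q20610 L241287 q17693, e3 q20611 L241296 q17587, e3 q20612 L241304 q19982, e3 q20613 L256957 q22319, e3 q20614 (flp_c L241318) q17545, e3 q20615 (flp_c L256967) q22321, e3 q20616 L256971 q22322, e3 q20617 (flp_c L241332) q17550, e3 q20618 (flp_c L256989) q22324, e3 q20619 L241350 q18002, e3 q20620 L241364 q18005, e3 q20621 L241380 q17564, e3 q20622 L241388 q17563, e3 q20623 L241404 q17972, e3 q20624 L241412 q18096, e3 q20625 (flp_c L254820) q22105, e3 q20626 (flp_c L255038) q22130, e3 q20627 L257027 q22329, e3 q20628 (flp_c L254834) q22107, e3 q20629 (flp_c L241436)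 q17570, e3 q20630 (flp_c L257063) q22333, e3 q20631 (flp_c L241442) q17571, e3 q20632 (flp_c L257073) q22334, e3 q20633 (flp_c L241462) q17572, e3 q20634 L241470 q17574, e3 q20635 L257083 q22336, e3 q20636 (flp_c L241488) q18161, e3 q20637 L241494 q17585, e3 q20638 (flp_c L241504) q17581, e3 q20639 L257103 q22337, e3 q20640 (flp_c L257111) q22338, e3 q20641 L241532 q18175, e3 q20642 (flp_c L241550) q18611, e3 q20643 L241556 q20202, e3 q20644 (flp_c L241578) q20645, e3 q20645 L241578 q20644, e3 q20646 (flp_c L241806) q20671, e3 q20647 (flp_c L244595) q20964, e3 q20648 L241614 q17592, e3 q20649 L241622 q17591, e3 q20650 L241638 q17978, e3 q20651 L241646 q18150, e3 q20652 (flp_c L254905) q22116, e3 q20653 (flp_c L255062) q22132, e3 q20654 L257147 q22343, e3 q20655 (flp_c L254915) q22117, e3 q20656 (flp_c L241670) q17598, e3 q20657 (flp_c L257179) q22347, e3 q20658 (flp_c L241676) q17599, e3 q20659 (flp_c L257189) q22348, e3 q20660 (flp_c L241696) q17600, e3 q20661 L241704 q17602, e3 q20662 (flp_c L241714) q18107, e3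 q20663 L241720 q17613, e3 q20664 (flp_c L241730) q17609, e3 q20665 (flp_c L257207) q22350, e3 q20666 L241748 q18123, e3 q20667 (flp_c L241766) q18607, e3 q20668 L241772 q20198, e3 q20669 (flp_c L241794) q20670, e3 q20670 L241794 q20669, e3 q20671 L241806 q20646, trivial⟩ (by decide +kernel)

theorem ce_c_323 : ∀ r, r < 64 → sm gc (Qf (20672 + r)) = Qf (tab Gen.c (20672 + r)) :=
  edges_tab (sm gc) Qf (tab Gen.c) 20672 [(20672, 20937), (20673, 22288), (20674, 22268), (20675, 20799), (20676, 21172), (20677, 20961), (20678, 20715), (20679, 17641), (20680, 21408), (20681, 20107), (20682, 20693), (20683, 21594), (20684, 20812), (20685, 20811), (20686, 20813), (20687, 20724), (20688, 20725), (20689, 17652), (20690, 19834), (20691, 19468), (20692, 17664), (20693, 20682), (20694, 18268), (20695, 17668), (20696, 17722), (20697, 19740), (20698, 20458), (20699, 18796), (20700, 17681), (20701, 17780), (20702, 17782), (20703, 20703), (20704, 17784), (20705, 18798), (20706, 20706), (20707, 17691), (20708, 20708), (20709, 22358),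 (20710, 17692), (20711, 17695), (20712, 20809), (20713, 21119), (20714, 20932), (20715, 20678), (20716, 17713), (20717, 21363), (20718, 20115), (20719, 20728), (20720, 21712), (20721, 20802), (20722, 20801), (20723, 20803), (20724, 20687), (20725, 20688), (20726, 19231), (20727, 17733), (20728, 20719), (20729, 18325), (20730, 17737), (20731, 20515), (20732, 18745), (20733, 17749), (20734, 17797), (20735, 17799)]
    ⟨e3 q20672 (flp_c L244397) q20937, e3 q20673 (flp_c L256643) q22288, e3 q20674 (flp_c L256438) q22268, e3 q20675 (flp_c L243043) q20799, e3 q20676 L246226 q21172, e3 q20677 L244573 q20961, e3 q20678 (flp_c L242240) q20715, e3 q20679 L241888 q17641, e3 q20680 L248310 q21408, e3 q20681 L241904 q20107, e3 q20682 (flp_c L242020) q20693, e3 q20683 (flp_c L249851) q21594, e3 q20684 L243209 q20812, e3 q20685 L243195 q20811, e3 q20686 (flp_c L243215) q20813, e3 q20687 (flp_c L242316) q20724, e3 q20688 L242334 q20725, e3 q20689 L241972 q17652, e3 q20690 L241982 q19834, e3 q20691 L241992 q19468, e3 q20692 L242008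 q17664, e3 q20693 L242020 q20682, e3 q20694 L242026 q18268, e3 q20695 (flp_c L242034) q17668, e3 q20696 L242044 q17722, e3 q20697 L242062 q19740, e3 q20698 L242068 q20458, e3 q20699 (flp_c L242088) q18796, e3 q20700 L242096 q17681, e3 q20701 L242110 q17780, e3 q20702 L242120 q17782, e3 q20703 L242130 q20703, e3 q20704 L242138 q17784, e3 q20705 L242150 q18798, e3 q20706 L242162 q20706, e3 q20707 L242168 q17691, e3 q20708 L242183 q20708, e3 q20709 L257300 q22358, e3 q20710 (flp_c L242197) q17692, e3 q20711 L242206 q17695, e3 q20712 (flp_c L243169) q20809, e3 q20713 L245815 q21119, e3 q20714 L244359 q20932, e3 q20715 L242240 q20678, e3 q20716 L242252 q17713, e3 q20717 L247932 q21363, e3 q20718 L242268 q20115, e3 q20719 (flp_c L242366) q20728, e3 q20720 (flp_c L250869) q21712, e3 q20721 L243083 q20802, e3 q20722 L243069 q20801, e3 q20723 (flp_c L243089) q20803, e3 q20724 L242316 q20687, e3 q20725 (flp_c L242334) q20688, e3 q20726 L242338 q19231, e3 q20727 L242354 q17733, e3 q20728 L242366 q20719, e3 q20729 L242372 q18325,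 e3 q20730 (flp_c L242380) q17737, e3 q20731 L242392 q20515, e3 q20732 (flp_c L242412) q18745, e3 q20733 L242420 q17749, e3 q20734 L242434 q17797, e3 q20735 L242444 q17799, trivial⟩ (by decide +kernel)

theorem ce_c_324 : ∀ r, r < 64 → sm gc (Qf (20736 + r)) = Qf (tab Gen.c (20736 + r)) :=
  edges_tab (sm gc) Qf (tab Gen.c) 20736 [(20736, 20736), (20737, 17801), (20738, 18748), (20739, 20739), (20740, 17759), (20741, 20741), (20742, 22364), (20743, 17760), (20744, 17763), (20745, 17769), (20746, 17770), (20747, 19978), (20748, 19631), (20749, 19632), (20750, 19633), (20751, 19441), (20752, 17776), (20753, 20753), (20754, 17945), (20755, 19008), (20756, 17960), (20757, 19258), (20758, 17788), (20759, 20015), (20760, 19430), (20761, 19431), (20762, 19432), (20763, 19643), (20764, 20764), (20765, 17935), (20766, 17965), (20767, 19146), (20768, 19491), (20769, 20528), (20770, 20529), (20771, 20448), (20772, 22274), (20773, 17811), (20774, 17809), (20775, 19419), (20776, 22377), (20777, 22018), (20778, 17810), (20779,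 21641), (20780, 22374), (20781, 20790), (20782, 17815), (20783, 20783), (20784, 20470), (20785, 20471), (20786, 22296), (20787, 20506), (20788, 17824), (20789, 21747), (20790, 20781), (20791, 21911), (20792, 21235), (20793, 17863), (20794, 21769), (20795, 21826), (20796, 21236), (20797, 17875), (20798, 21870), (20799, 20675)]
    ⟨e3 q20736 L242454 q20736, e3 q20737 L242462 q17801, e3 q20738 L242474 q18748, e3 q20739 L242486 q20739, e3 q20740 L242494 q17759, e3 q20741 L242507 q20741, e3 q20742 L257370 q22364, e3 q20743 (flp_c L242521) q17760, e3 q20744 L242530 q17763, e3 q20745 L242540 q17769, e3 q20746 L242552 q17770, e3 q20747 L242566 q19978, e3 q20748 L242576 q19631, e3 q20749 L242582 q19632, e3 q20750 L242590 q19633, e3 q20751 (flp_c L242600) q19441, e3 q20752 L242608 q17776, e3 q20753 L242620 q20753, e3 q20754 L242626 q17945, e3 q20755 L242638 q19008, e3 q20756 L242650 q17960, e3 q20757 L242664 q19258, e3 q20758 L242673 q17788, e3 q20759 L242689 q20015, e3 q20760 L242699 q19430, e3 q20761 L242705 q19431, e3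 q20762 L242715 q19432, e3 q20763 (flp_c L242729) q19643, e3 q20764 L242735 q20764, e3 q20765 L242741 q17935, e3 q20766 L242753 q17965, e3 q20767 L242765 q19146, e3 q20768 L242779 q19491, e3 q20769 L242788 q20528, e3 q20770 L242798 q20529, e3 q20771 (flp_c L242814) q20448, e3 q20772 (flp_c L256497) q22274, e3 q20773 (flp_c L242830) q17811, e3 q20774 L242836 q17809, e3 q20775 L242848 q19419, e3 q20776 L257511 q22377, e3 q20777 L253950 q22018, e3 q20778 (flp_c L242864) q17810, e3 q20779 (flp_c L250212) q21641, e3 q20780 (flp_c L257481) q22374, e3 q20781 (flp_c L242965) q20790, e3 q20782 L242887 q17815, e3 q20783 L242895 q20783, e3 q20784 L242905 q20470, e3 q20785 L242919 q20471, e3 q20786 (flp_c L256728) q22296, e3 q20787 (flp_c L242945) q20506, e3 q20788 (flp_c L242955) q17824, e3 q20789 (flp_c L251193) q21747, e3 q20790 L242965 q20781, e3 q20791 (flp_c L252872) q21911, e3 q20792 (flp_c L246751) q21235, e3 q20793 (flp_c L242987) q17863, e3 q20794 L251413 q21769, e3 q20795 (flp_c L252014) q21826, e3 q20796 (flp_c L246765)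 q21236, e3 q20797 (flp_c L243021) q17875, e3 q20798 L252447 q21870, e3 q20799 L243043 q20675, trivial⟩ (by decide +kernel)

theorem ce_c_325 : ∀ r, r < 64 → sm gc (Qf (20800 + r)) = Qf (tab Gen.c (20800 + r)) :=
  edges_tab (sm gc) Qf (tab Gen.c) 20800 [(20800, 17882), (20801, 20722), (20802, 20721), (20803, 20723), (20804, 18546), (20805, 19166), (20806, 17897), (20807, 19825), (20808, 17899), (20809, 20712), (20810, 17906), (20811, 20685), (20812, 20684), (20813, 20686), (20814, 18553), (20815, 19029), (20816, 17919), (20817, 19732), (20818, 17921), (20819, 17927), (20820, 17930), (20821, 21062), (20822, 21023), (20823, 18612), (20824, 18614), (20825, 17986), (20826, 17994), (20827, 17966), (20828, 18000), (20829, 17969), (20830, 18004), (20831, 21884), (20832, 21554), (20833, 20836), (20834, 21790), (20835, 21681), (20836, 20833), (20837, 20838), (20838, 20837), (20839, 19595), (20840, 21320), (20841, 20842), (20842, 20841), (20843, 19380), (20844, 21309), (20845, 20853), (20846, 20860), (20847, 18008), (20848,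 18010), (20849, 18224), (20850, 22386), (20851, 19720), (20852, 18011), (20853, 20845), (20854, 18014), (20855, 18016), (20856, 18199), (20857, 22389), (20858, 19814), (20859, 18017), (20860, 20846), (20861, 18021), (20862, 18022), (20863, 22392)]
    ⟨e3 q20800 (flp_c L243047) q17882, e3 q20801 (flp_c L243069) q20722, e3 q20802 (flp_c L243083) q20721, e3 q20803 L243089 q20723, e3 q20804 L243111 q18546, e3 q20805 (flp_c L243125) q19166, e3 q20806 (flp_c L243127) q17897, e3 q20807 L243145 q19825, e3 q20808 (flp_c L243155) q17899, e3 q20809 L243169 q20712, e3 q20810 (flp_c L243173) q17906, e3 q20811 (flp_c L243195) q20685, e3 q20812 (flp_c L243209) q20684, e3 q20813 L243215 q20686, e3 q20814 L243237 q18553, e3 q20815 (flp_c L243251) q19029, e3 q20816 (flp_c L243253) q17919, e3 q20817 L243271 q19732, e3 q20818 (flp_c L243281) q17921, e3 q20819 L243297 q17927, e3 q20820 L243311 q17930, e3 q20821 (flp_c L245349) q21062, e3 q20822 (flp_c L245025) q21023, e3 q20823 L243339 q18612, e3 q20824 L243353 q18614, e3 q20825 L243365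 q17986, e3 q20826 L243375 q17994, e3 q20827 (flp_c L243383) q17966, e3 q20828 L243401 q18000, e3 q20829 (flp_c L243407) q17969, e3 q20830 L243425 q18004, e3 q20831 (flp_c L252594) q21884, e3 q20832 L249551 q21554, e3 q20833 (flp_c L243477) q20836, e3 q20834 (flp_c L251640) q21790, e3 q20835 L250607 q21681, e3 q20836 L243477 q20833, e3 q20837 (flp_c L243499) q20838, e3 q20838 L243499 q20837, e3 q20839 L243509 q19595, e3 q20840 L247509 q21320, e3 q20841 (flp_c L243533) q20842, e3 q20842 L243533 q20841, e3 q20843 L243543 q19380, e3 q20844 L247403 q21309, e3 q20845 (flp_c L243631) q20853, e3 q20846 (flp_c L243699) q20860, e3 q20847 (flp_c L243569) q18008, e3 q20848 L243585 q18010, e3 q20849 (flp_c L243603) q18224, e3 q20850 L257598 q22386, e3 q20851 L243611 q19720, e3 q20852 (flp_c L243617) q18011, e3 q20853 L243631 q20845, e3 q20854 (flp_c L243637) q18014, e3 q20855 L243653 q18016, e3 q20856 (flp_c L243671) q18199, e3 q20857 L257624 q22389, e3 q20858 L243679 q19814, e3 q20859 (flp_c L243685) q18017, e3 q20860 L243699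 q20846, e3 q20861 L243709 q18021, e3 q20862 L243719 q18022, e3 q20863 (flp_c L257654) q22392, trivial⟩ (by decide +kernel)

theorem ce_c_326 : ∀ r, r < 64 → sm gc (Qf (20864 + r)) = Qf (tab Gen.c (20864 + r)) :=
  edges_tab (sm gc) Qf (tab Gen.c) 20864 [(20864, 22395), (20865, 18792), (20866, 20988), (20867, 20989), (20868, 19095), (20869, 20213), (20870, 18031), (20871, 18503), (20872, 19724), (20873, 20969), (20874, 18038), (20875, 18114), (20876, 19038), (20877, 18822), (20878, 21216), (20879, 18817), (20880, 21829), (20881, 18045), (20882, 21219), (20883, 21202), (20884, 19726), (20885, 18050), (20886, 18051), (20887, 22401), (20888, 22399), (20889, 21014), (20890, 21015), (20891, 18738), (20892, 18955), (20893, 20212), (20894, 18060), (20895, 18476), (20896, 19817), (20897, 20995), (20898, 18066), (20899, 18168), (20900, 19175), (20901, 18771), (20902, 21196), (20903, 18765), (20904, 21760), (20905, 18074), (20906, 21199), (20907, 21222), (20908, 19820), (20909, 19097), (20910, 22046), (20911, 18087), (20912,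 22061), (20913, 18653), (20914, 22406), (20915, 22408), (20916, 18483), (20917, 18097), (20918, 22410), (20919, 18099), (20920, 22403), (20921, 18648), (20922, 22414), (20923, 18101), (20924, 22416), (20925, 22418), (20926, 18102), (20927, 22420)]
    ⟨e3 q20864 L257682 q22395, e3 q20865 L243745 q18792, e3 q20866 (flp_c L244762) q20988, e3 q20867 (flp_c L244774) q20989, e3 q20868 L243765 q19095, e3 q20869 L243781 q20213, e3 q20870 L243789 q18031, e3 q20871 L243801 q18503, e3 q20872 L243813 q19724, e3 q20873 (flp_c L244631) q20969, e3 q20874 L243837 q18038, e3 q20875 (flp_c L243855) q18114, e3 q20876 L243863 q19038, e3 q20877 L243877 q18822, e3 q20878 (flp_c L246595) q21216, e3 q20879 L243893 q18817, e3 q20880 (flp_c L252048) q21829, e3 q20881 L243915 q18045, e3 q20882 (flp_c L246621) q21219, e3 q20883 (flp_c L246495) q21202, e3 q20884 L243941 q19726, e3 q20885 L243951 q18050, e3 q20886 L243961 q18051, e3 q20887 L257750 q22401, e3 q20888 (flp_c L257730) q22399, e3 q20889 (flp_c L244947) q21014, e3 q20890 (flp_c L244959)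 q21015, e3 q20891 L244003 q18738, e3 q20892 L244009 q18955, e3 q20893 L244025 q20212, e3 q20894 L244033 q18060, e3 q20895 L244045 q18476, e3 q20896 L244057 q19817, e3 q20897 (flp_c L244816) q20995, e3 q20898 L244081 q18066, e3 q20899 (flp_c L244099) q18168, e3 q20900 L244107 q19175, e3 q20901 L244121 q18771, e3 q20902 (flp_c L246433) q21196, e3 q20903 L244137 q18765, e3 q20904 (flp_c L251319) q21760, e3 q20905 L244159 q18074, e3 q20906 (flp_c L246455) q21199, e3 q20907 (flp_c L246661) q21222, e3 q20908 L244185 q19820, e3 q20909 L244197 q19097, e3 q20910 (flp_c L254238) q22046, e3 q20911 L244209 q18087, e3 q20912 (flp_c L254406) q22061, e3 q20913 L244229 q18653, e3 q20914 L257802 q22406, e3 q20915 L257818 q22408, e3 q20916 L244251 q18483, e3 q20917 (flp_c L244259) q18097, e3 q20918 (flp_c L257832) q22410, e3 q20919 (flp_c L244265) q18099, e3 q20920 (flp_c L257776) q22403, e3 q20921 L244285 q18648, e3 q20922 L257870 q22414, e3 q20923 (flp_c L244291) q18101, e3 q20924 (flp_c L257890) q22416, e3 q20925 L257910 q22418,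 e3 q20926 (flp_c L244309) q18102, e3 q20927 (flp_c L257938) q22420, trivial⟩ (by decide +kernel)

theorem ce_c_327 : ∀ r, r < 64 → sm gc (Qf (20928 + r)) = Qf (tab Gen.c (20928 + r)) :=
  edges_tab (sm gc) Qf (tab Gen.c) 20928 [(20928, 18104), (20929, 22421), (20930, 18105), (20931, 18109), (20932, 20714), (20933, 18111), (20934, 18120), (20935, 22360), (20936, 18122), (20937, 20672), (20938, 18950), (20939, 22044), (20940, 18140), (20941, 22056), (20942, 18647), (20943, 22425), (20944, 22427), (20945, 18511), (20946, 18151), (20947, 22429), (20948, 18153), (20949, 22397), (20950, 18654), (20951, 22419), (20952, 18155), (20953, 22422), (20954, 22413), (20955, 18156), (20956, 22434), (20957, 18158), (20958, 22435), (20959, 18159), (20960, 18163), (20961, 20677), (20962, 18165), (20963, 22352), (20964, 20647), (20965, 18963), (20966, 22438), (20967, 18185), (20968, 21981), (20969, 20873), (20970, 22224), (20971, 22226), (20972, 22228), (20973, 18192), (20974, 22443), (20975, 20423), (20976, 22230), (20977, 18194),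 (20978, 22188), (20979, 22092), (20980, 18195), (20981, 22446), (20982, 18197), (20983, 22447), (20984, 18202), (20985, 18203), (20986, 21564), (20987, 18462), (20988, 20866), (20989, 20867), (20990, 21016), (20991, 19103)]
    ⟨e3 q20928 L244321 q18104, e3 q20929 (flp_c L257946) q22421, e3 q20930 (flp_c L244333) q18105, e3 q20931 L244345 q18109, e3 q20932 (flp_c L244359) q20714, e3 q20933 L244365 q18111, e3 q20934 (flp_c L244369) q18120, e3 q20935 (flp_c L257327) q22360, e3 q20936 L244387 q18122, e3 q20937 L244397 q20672, e3 q20938 L244411 q18950, e3 q20939 (flp_c L254214) q22044, e3 q20940 L244423 q18140, e3 q20941 (flp_c L254342) q22056, e3 q20942 L244443 q18647, e3 q20943 L257976 q22425, e3 q20944 L257992 q22427, e3 q20945 L244465 q18511, e3 q20946 (flp_c L244473) q18151, e3 q20947 (flp_c L258006) q22429, e3 q20948 (flp_c L244479) q18153, e3 q20949 (flp_c L257708) q22397, e3 q20950 L244499 q18654, e3 q20951 (flp_c L257930) q22419, e3 q20952 (flp_c L244505) q18155, e3 q20953 (flp_c L257956) q22422, e3 q20954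 L257866 q22413, e3 q20955 (flp_c L244523) q18156, e3 q20956 (flp_c L258054) q22434, e3 q20957 L244535 q18158, e3 q20958 (flp_c L258062) q22435, e3 q20959 (flp_c L244547) q18159, e3 q20960 L244559 q18163, e3 q20961 (flp_c L244573) q20677, e3 q20962 L244579 q18165, e3 q20963 (flp_c L257229) q22352, e3 q20964 L244595 q20647, e3 q20965 L244609 q18963, e3 q20966 L258077 q22438, e3 q20967 (flp_c L244617) q18185, e3 q20968 (flp_c L253587) q21981, e3 q20969 L244631 q20873, e3 q20970 (flp_c L255953) q22224, e3 q20971 (flp_c L255974) q22226, e3 q20972 (flp_c L255994) q22228, e3 q20973 (flp_c L244661) q18192, e3 q20974 (flp_c L258137) q22443, e3 q20975 (flp_c L244674) q20423, e3 q20976 (flp_c L256014) q22230, e3 q20977 (flp_c L244680) q18194, e3 q20978 (flp_c L255563) q22188, e3 q20979 L254710 q22092, e3 q20980 (flp_c L244696) q18195, e3 q20981 (flp_c L258171) q22446, e3 q20982 L244712 q18197, e3 q20983 (flp_c L258185) q22447, e3 q20984 (flp_c L244726) q18202, e3 q20985 (flp_c L244736) q18203, e3 q20986 (flp_c L249633) q21564,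 e3 q20987 L244754 q18462, e3 q20988 L244762 q20866, e3 q20989 L244774 q20867, e3 q20990 (flp_c L244973) q21016, e3 q20991 L244794 q19103, trivial⟩ (by decide +kernel)

theorem ce_c_328 : ∀ r, r < 64 → sm gc (Qf (20992 + r)) = Qf (tab Gen.c (20992 + r)) :=
  edges_tab (sm gc) Qf (tab Gen.c) 20992 [(20992, 22451), (20993, 18210), (20994, 21942), (20995, 20897), (20996, 22209), (20997, 22211), (20998, 22213), (20999, 18216), (21000, 22456), (21001, 20375), (21002, 22214), (21003, 18219), (21004, 22195), (21005, 22079), (21006, 18220), (21007, 22459), (21008, 18222), (21009, 22460), (21010, 18227), (21011, 18228), (21012, 21690), (21013, 18404), (21014, 20889), (21015, 20890), (21016, 20990), (21017, 18774), (21018, 20328), (21019, 21905), (21020, 22263), (21021, 19584), (21022, 21227), (21023, 20822), (21024, 18245), (21025, 19578), (21026, 18308), (21027, 18248), (21028, 18250), (21029, 21069), (21030, 20258), (21031, 18255), (21032, 21066), (21033, 18258), (21034, 22400), (21035, 19688), (21036, 18260), (21037, 22466),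 (21038, 21656), (21039, 18262), (21040, 22354), (21041, 18265), (21042, 21150), (21043, 22469), (21044, 18269), (21045, 21232), (21046, 18328), (21047, 18271), (21048, 22187), (21049, 18273), (21050, 18276), (21051, 22300), (21052, 18275), (21053, 22440), (21054, 18279), (21055, 19967)]
    ⟨e3 q20992 L258218 q22451, e3 q20993 (flp_c L244802) q18210, e3 q20994 (flp_c L253214) q21942, e3 q20995 L244816 q20897, e3 q20996 (flp_c L255796) q22209, e3 q20997 (flp_c L255817) q22211, e3 q20998 (flp_c L255837) q22213, e3 q20999 (flp_c L244846) q18216, e3 q21000 (flp_c L258278) q22456, e3 q21001 (flp_c L244859) q20375, e3 q21002 (flp_c L255847) q22214, e3 q21003 (flp_c L244865) q18219, e3 q21004 (flp_c L255626) q22195, e3 q21005 L254600 q22079, e3 q21006 (flp_c L244881) q18220, e3 q21007 (flp_c L258312) q22459, e3 q21008 L244897 q18222, e3 q21009 (flp_c L258326) q22460, e3 q21010 (flp_c L244911) q18227, e3 q21011 (flp_c L244921) q18228, e3 q21012 (flp_c L250689) q21690, e3 q21013 L244939 q18404, e3 q21014 L244947 q20889,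 e3 q21015 L244959 q20890, e3 q21016 L244973 q20990, e3 q21017 (flp_c L244983) q18774, e3 q21018 L244989 q20328, e3 q21019 (flp_c L252808) q21905, e3 q21020 (flp_c L256376) q22263, e3 q21021 L245009 q19584, e3 q21022 (flp_c L246701) q21227, e3 q21023 L245025 q20822, e3 q21024 L245035 q18245, e3 q21025 L245049 q19578, e3 q21026 L245061 q18308, e3 q21027 (flp_c L245069) q18248, e3 q21028 L245079 q18250, e3 q21029 L245435 q21069, e3 q21030 L245099 q20258, e3 q21031 (flp_c L245109) q18255, e3 q21032 L245397 q21066, e3 q21033 (flp_c L245127) q18258, e3 q21034 (flp_c L257748) q22400, e3 q21035 (flp_c L245143) q19688, e3 q21036 (flp_c L245145) q18260, e3 q21037 (flp_c L258394) q22466, e3 q21038 (flp_c L250338) q21656, e3 q21039 L245173 q18262, e3 q21040 (flp_c L257255) q22354, e3 q21041 L245191 q18265, e3 q21042 (flp_c L246052) q21150, e3 q21043 L258424 q22469, e3 q21044 (flp_c L245205) q18269, e3 q21045 (flp_c L246725) q21232, e3 q21046 L245225 q18328, e3 q21047 (flp_c L245227) q18271, e3 q21048 (flp_c L255549) q22187,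 e3 q21049 (flp_c L245245) q18273, e3 q21050 L245251 q18276, e3 q21051 (flp_c L256774) q22300, e3 q21052 L245259 q18275, e3 q21053 L258111 q22440, e3 q21054 L245281 q18279, e3 q21055 (flp_c L245299) q19967, trivial⟩ (by decide +kernel)

theorem ce_c_329 : ∀ r, r < 64 → sm gc (Qf (21056 + r)) = Qf (tab Gen.c (21056 + r)) :=
  edges_tab (sm gc) Qf (tab Gen.c) 21056 [(21056, 18824), (21057, 20397), (21058, 21820), (21059, 22249), (21060, 19369), (21061, 21207), (21062, 20821), (21063, 18304), (21064, 19363), (21065, 18306), (21066, 21032), (21067, 20246), (21068, 18312), (21069, 21029), (21070, 18315), (21071, 22394), (21072, 19781), (21073, 18317), (21074, 22478), (21075, 21546), (21076, 18319), (21077, 22361), (21078, 18322), (21079, 21097), (21080, 22481), (21081, 18326), (21082, 21208), (21083, 22194), (21084, 18330), (21085, 18333), (21086, 22280), (21087, 18332), (21088, 22453), (21089, 18336), (21090, 20011), (21091, 18350), (21092, 22240), (21093, 22488), (21094, 22490), (21095, 18418), (21096, 18356), (21097,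 21079), (21098, 18357), (21099, 22034), (21100, 18358), (21101, 18954), (21102, 22493), (21103, 22442), (21104, 18362), (21105, 22232), (21106, 19163), (21107, 19575), (21108, 19573), (21109, 22499), (21110, 19804), (21111, 18367), (21112, 22480), (21113, 19352), (21114, 21164), (21115, 19343), (21116, 21980), (21117, 18370), (21118, 22504), (21119, 20713)]
    ⟨e3 q21056 (flp_c L245307) q18824, e3 q21057 L245313 q20397, e3 q21058 (flp_c L251952) q21820, e3 q21059 (flp_c L256218) q22249, e3 q21060 L245333 q19369, e3 q21061 (flp_c L246535) q21207, e3 q21062 L245349 q20821, e3 q21063 L245359 q18304, e3 q21064 L245373 q19363, e3 q21065 (flp_c L245381) q18306, e3 q21066 (flp_c L245397) q21032, e3 q21067 L245403 q20246, e3 q21068 (flp_c L245415) q18312, e3 q21069 (flp_c L245435) q21029, e3 q21070 (flp_c L245437) q18315, e3 q21071 (flp_c L257680) q22394, e3 q21072 (flp_c L245459) q19781, e3 q21073 (flp_c L245461) q18317, e3 q21074 (flp_c L258532) q22478, e3 q21075 (flp_c L249470) q21546, e3 q21076 L245489 q18319, e3 q21077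 (flp_c L257339) q22361, e3 q21078 L245507 q18322, e3 q21079 (flp_c L245637) q21097, e3 q21080 L258562 q22481, e3 q21081 (flp_c L245521) q18326, e3 q21082 (flp_c L246539) q21208, e3 q21083 (flp_c L255612) q22194, e3 q21084 (flp_c L245541) q18330, e3 q21085 L245547 q18333, e3 q21086 (flp_c L256557) q22280, e3 q21087 L245555 q18332, e3 q21088 L258252 q22453, e3 q21089 L245577 q18336, e3 q21090 (flp_c L245595) q20011, e3 q21091 (flp_c L245597) q18350, e3 q21092 (flp_c L256128) q22240, e3 q21093 L258646 q22488, e3 q21094 L258668 q22490, e3 q21095 (flp_c L245673) q18418, e3 q21096 (flp_c L245629) q18356, e3 q21097 L245637 q21079, e3 q21098 (flp_c L245639) q18357, e3 q21099 (flp_c L254106) q22034, e3 q21100 (flp_c L245659) q18358, e3 q21101 (flp_c L245689) q18954, e3 q21102 L258696 q22493, e3 q21103 (flp_c L258127) q22442, e3 q21104 (flp_c L245707) q18362, e3 q21105 (flp_c L256038) q22232, e3 q21106 L245725 q19163, e3 q21107 L245729 q19575, e3 q21108 L245739 q19573, e3 q21109 L258764 q22499, e3 q21110 L245759 q19804, e3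 q21111 (flp_c L245751) q18367, e3 q21112 (flp_c L258554) q22480, e3 q21113 L245771 q19352, e3 q21114 (flp_c L246168) q21164, e3 q21115 L245787 q19343, e3 q21116 (flp_c L253575) q21980, e3 q21117 (flp_c L245797) q18370, e3 q21118 (flp_c L258820) q22504, e3 q21119 (flp_c L245815) q20713, trivial⟩ (by decide +kernel)

theorem ce_c_330 : ∀ r, r < 64 → sm gc (Qf (21120 + r)) = Qf (tab Gen.c (21120 + r)) :=
  edges_tab (sm gc) Qf (tab Gen.c) 21120 [(21120, 18372), (21121, 18377), (21122, 21313), (21123, 18385), (21124, 18384), (21125, 21299), (21126, 18388), (21127, 21180), (21128, 22506), (21129, 18392), (21130, 18397), (21131, 18400), (21132, 21979), (21133, 18672), (21134, 22302), (21135, 21531), (21136, 22301), (21137, 22508), (21138, 18667), (21139, 21662), (21140, 21189), (21141, 18406), (21142, 22513), (21143, 18407), (21144, 20152), (21145, 18409), (21146, 18412), (21147, 22258), (21148, 22516), (21149, 22489), (21150, 21042), (21151, 18419), (21152, 22021), (21153, 18420), (21154, 19094), (21155, 22518), (21156,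 22455), (21157, 18424), (21158, 22217), (21159, 19026), (21160, 19360), (21161, 19358), (21162, 22524), (21163, 19357), (21164, 21114), (21165, 19447), (21166, 21943), (21167, 18431), (21168, 22503), (21169, 19711), (21170, 18432), (21171, 22468), (21172, 20676), (21173, 18433), (21174, 18437), (21175, 21302), (21176, 18447), (21177, 18446), (21178, 21300), (21179, 18450), (21180, 21127), (21181, 22529), (21182, 18454), (21183, 18459)]
    ⟨e3 q21120 (flp_c L245817) q18372, e3 q21121 L245827 q18377, e3 q21122 (flp_c L247429) q21313, e3 q21123 L245851 q18385, e3 q21124 L245859 q18384, e3 q21125 (flp_c L247299) q21299, e3 q21126 L245869 q18388, e3 q21127 (flp_c L246296) q21180, e3 q21128 L258834 q22506, e3 q21129 (flp_c L245889) q18392, e3 q21130 L245899 q18397, e3 q21131 L245909 q18400, e3 q21132 L253571 q21979, e3 q21133 (flp_c L245921) q18672, e3 q21134 (flp_c L256788) q22302, e3 q21135 (flp_c L249333) q21531, e3 q21136 (flp_c L256782) q22301, e3 q21137 (flp_c L258864) q22508, e3 q21138 L245946 q18667, e3 q21139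 (flp_c L250412) q21662, e3 q21140 (flp_c L246361) q21189, e3 q21141 (flp_c L245972) q18406, e3 q21142 (flp_c L258917) q22513, e3 q21143 (flp_c L245990) q18407, e3 q21144 (flp_c L246010) q20152, e3 q21145 L246016 q18409, e3 q21146 (flp_c L246018) q18412, e3 q21147 (flp_c L256318) q22258, e3 q21148 L258953 q22516, e3 q21149 L258666 q22489, e3 q21150 L246052 q21042, e3 q21151 (flp_c L246054) q18419, e3 q21152 (flp_c L253970) q22021, e3 q21153 (flp_c L246074) q18420, e3 q21154 (flp_c L246094) q19094, e3 q21155 L258971 q22518, e3 q21156 (flp_c L258268) q22455, e3 q21157 (flp_c L246112) q18424, e3 q21158 (flp_c L255879) q22217, e3 q21159 L246130 q19026, e3 q21160 L246134 q19360, e3 q21161 L246144 q19358, e3 q21162 L259043 q22524, e3 q21163 L246158 q19357, e3 q21164 L246168 q21114, e3 q21165 L246178 q19447, e3 q21166 (flp_c L253224) q21943, e3 q21167 (flp_c L246186) q18431, e3 q21168 (flp_c L258808) q22503, e3 q21169 L246206 q19711, e3 q21170 (flp_c L246198) q18432, e3 q21171 (flp_c L258416) q22468, e3 q21172 (flp_c L246226)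 q20676, e3 q21173 (flp_c L246228) q18433, e3 q21174 L246238 q18437, e3 q21175 (flp_c L247325) q21302, e3 q21176 L246262 q18447, e3 q21177 L246270 q18446, e3 q21178 (flp_c L247307) q21300, e3 q21179 L246286 q18450, e3 q21180 L246296 q21127, e3 q21181 L259093 q22529, e3 q21182 (flp_c L246316) q18454, e3 q21183 L246326 q18459, trivial⟩ (by decide +kernel)

theorem ce_c_331 : ∀ r, r < 64 → sm gc (Qf (21184 + r)) = Qf (tab Gen.c (21184 + r)) :=
  edges_tab (sm gc) Qf (tab Gen.c) 21184 [(21184, 18460), (21185, 21941), (21186, 22283), (21187, 22531), (21188, 22282), (21189, 21140), (21190, 18464), (21191, 22534), (21192, 18465), (21193, 20157), (21194, 18467), (21195, 21283), (21196, 20902), (21197, 18472), (21198, 22430), (21199, 20906), (21200, 21393), (21201, 18480), (21202, 20883), (21203, 21400), (21204, 21688), (21205, 19342), (21206, 19349), (21207, 21061), (21208, 21082), (21209, 22540), (21210, 22542), (21211, 18490), (21212, 22544), (21213, 22104), (21214, 18496), (21215, 21288), (21216, 20878), (21217, 18500),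 (21218, 22411), (21219, 20882), (21220, 21438), (21221, 18507), (21222, 20907), (21223, 21354), (21224, 21562), (21225, 19562), (21226, 19351), (21227, 21022), (21228, 22538), (21229, 22551), (21230, 18517), (21231, 22553), (21232, 21045), (21233, 22101), (21234, 18522), (21235, 20792), (21236, 20796), (21237, 18544), (21238, 18552), (21239, 19796), (21240, 19902), (21241, 22462), (21242, 18561), (21243, 20163), (21244, 22557), (21245, 19789), (21246, 21292), (21247, 18566)]
    ⟨e3 q21184 L246336 q18460, e3 q21185 L253206 q21941, e3 q21186 (flp_c L256581) q22283, e3 q21187 (flp_c L259123) q22531, e3 q21188 (flp_c L256575) q22282, e3 q21189 L246361 q21140, e3 q21190 (flp_c L246371) q18464, e3 q21191 (flp_c L259150) q22534, e3 q21192 (flp_c L246389) q18465, e3 q21193 (flp_c L246409) q20157, e3 q21194 L246415 q18467, e3 q21195 (flp_c L247183) q21283, e3 q21196 L246433 q20902, e3 q21197 (flp_c L246437) q18472, e3 q21198 (flp_c L258010) q22430, e3 q21199 L246455 q20906, e3 q21200 (flp_c L248175) q21393, e3 q21201 (flp_c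 L246475) q18480, e3 q21202 L246495 q20883, e3 q21203 (flp_c L248235) q21400, e3 q21204 (flp_c L250677) q21688, e3 q21205 L246517 q19342, e3 q21206 L246525 q19349, e3 q21207 L246535 q21061, e3 q21208 L246539 q21082, e3 q21209 L259220 q22540, e3 q21210 L259240 q22542, e3 q21211 (flp_c L246553) q18490, e3 q21212 (flp_c L259266) q22544, e3 q21213 L254816 q22104, e3 q21214 L246575 q18496, e3 q21215 (flp_c L247217) q21288, e3 q21216 L246595 q20878, e3 q21217 (flp_c L246601) q18500, e3 q21218 (flp_c L257836) q22411, e3 q21219 L246621 q20882, e3 q21220 (flp_c L248555) q21438, e3 q21221 (flp_c L246641) q18507, e3 q21222 L246661 q20907, e3 q21223 (flp_c L247847) q21354, e3 q21224 (flp_c L249621) q21562, e3 q21225 L246683 q19562, e3 q21226 L246691 q19351, e3 q21227 L246701 q21022, e3 q21228 (flp_c L259204) q22538, e3 q21229 L259338 q22551, e3 q21230 (flp_c L246711) q18517, e3 q21231 (flp_c L259364) q22553, e3 q21232 L246725 q21045, e3 q21233 L254784 q22101, e3 q21234 L246741 q18522, e3 q21235 L246751 q20792, e3 q21236 L246765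 q20796, e3 q21237 (flp_c L246773) q18544, e3 q21238 (flp_c L246779) q18552, e3 q21239 (flp_c L246795) q19796, e3 q21240 L246801 q19902, e3 q21241 (flp_c L258350) q22462, e3 q21242 (flp_c L246817) q18561, e3 q21243 (flp_c L246829) q20163, e3 q21244 L259397 q22557, e3 q21245 L246851 q19789, e3 q21246 (flp_c L247245) q21292, e3 q21247 (flp_c L246865) q18566, trivial⟩ (by decide +kernel)

theorem ce_c_332 : ∀ r, r < 64 → sm gc (Qf (21248 + r)) = Qf (tab Gen.c (21248 + r)) :=
  edges_tab (sm gc) Qf (tab Gen.c) 21248 [(21248, 19582), (21249, 19695), (21250, 19703), (21251, 19915), (21252, 22474), (21253, 18575), (21254, 20162), (21255, 22559), (21256, 21287), (21257, 18579), (21258, 19367), (21259, 19494), (21260, 19261), (21261, 19988), (21262, 19900), (21263, 19928), (21264, 19913), (21265, 21841), (21266, 22560), (21267, 18622), (21268, 22561), (21269, 18785), (21270, 21963), (21271, 21713), (21272, 21698), (21273, 18951), (21274, 21918), (21275, 22563), (21276, 18637), (21277, 22564), (21278, 18836), (21279, 22001),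 (21280, 21595), (21281, 21572), (21282, 19091), (21283, 21195), (21284, 22412), (21285, 21914), (21286, 18651), (21287, 21256), (21288, 21215), (21289, 22431), (21290, 21835), (21291, 18657), (21292, 21246), (21293, 18658), (21294, 19066), (21295, 18660), (21296, 19203), (21297, 18663), (21298, 18665), (21299, 21125), (21300, 21178), (21301, 20452), (21302, 21175), (21303, 20145), (21304, 22060), (21305, 19503), (21306, 21328), (21307, 22571), (21308, 18684), (21309, 20844), (21310, 18685), (21311, 22457)]
    ⟨e3 q21248 L246875 q19582, e3 q21249 L246891 q19695, e3 q21250 (flp_c L246903) q19703, e3 q21251 L246909 q19915, e3 q21252 (flp_c L258488) q22474, e3 q21253 (flp_c L246925) q18575, e3 q21254 (flp_c L246937) q20162, e3 q21255 L259418 q22559, e3 q21256 (flp_c L247211) q21287, e3 q21257 (flp_c L246961) q18579, e3 q21258 L246971 q19367, e3 q21259 L246981 q19494, e3 q21260 L246993 q19261, e3 q21261 L247007 q19988, e3 q21262 L247017 q19900, e3 q21263 L247029 q19928, e3 q21264 L247039 q19913, e3 q21265 (flp_c L252160)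 q21841, e3 q21266 L259432 q22560, e3 q21267 (flp_c L247057) q18622, e3 q21268 (flp_c L259446) q22561, e3 q21269 L247073 q18785, e3 q21270 (flp_c L253403) q21963, e3 q21271 (flp_c L250875) q21713, e3 q21272 (flp_c L250749) q21698, e3 q21273 L247107 q18951, e3 q21274 (flp_c L252952) q21918, e3 q21275 L259464 q22563, e3 q21276 (flp_c L247124) q18637, e3 q21277 (flp_c L259478) q22564, e3 q21278 L247140 q18836, e3 q21279 (flp_c L253770) q22001, e3 q21280 (flp_c L249857) q21595, e3 q21281 (flp_c L249689) q21572, e3 q21282 L247174 q19091, e3 q21283 L247183 q21195, e3 q21284 (flp_c L257848) q22412, e3 q21285 (flp_c L252910) q21914, e3 q21286 L247201 q18651, e3 q21287 L247211 q21256, e3 q21288 L247217 q21215, e3 q21289 (flp_c L258022) q22431, e3 q21290 (flp_c L252108) q21835, e3 q21291 L247235 q18657, e3 q21292 L247245 q21246, e3 q21293 (flp_c L247247) q18658, e3 q21294 (flp_c L247259) q19066, e3 q21295 (flp_c L247261) q18660, e3 q21296 (flp_c L247273) q19203, e3 q21297 (flp_c L247275) q18663, e3 q21298 (flp_c L247286) q18665,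 e3 q21299 L247299 q21125, e3 q21300 L247307 q21178, e3 q21301 (flp_c L247321) q20452, e3 q21302 L247325 q21175, e3 q21303 L247339 q20145, e3 q21304 (flp_c L254394) q22060, e3 q21305 L247361 q19503, e3 q21306 L247594 q21328, e3 q21307 L259540 q22571, e3 q21308 L247385 q18684, e3 q21309 (flp_c L247403) q20844, e3 q21310 (flp_c L247405) q18685, e3 q21311 (flp_c L258288) q22457, trivial⟩ (by decide +kernel)

theorem ce_c_333 : ∀ r, r < 64 → sm gc (Qf (21312 + r)) = Qf (tab Gen.c (21312 + r)) :=
  edges_tab (sm gc) Qf (tab Gen.c) 21312 [(21312, 20510), (21313, 21122), (21314, 20141), (21315, 22057), (21316, 19270), (21317, 21323), (21318, 22570), (21319, 18695), (21320, 20840), (21321, 18696), (21322, 22444), (21323, 21317), (21324, 18700), (21325, 19473), (21326, 19324), (21327, 19329), (21328, 21306), (21329, 18707), (21330, 19239), (21331, 19550), (21332, 19555), (21333, 18712), (21334, 19453), (21335, 18714), (21336, 19653), (21337, 18720), (21338, 18723), (21339, 20388), (21340, 20036), (21341, 21592), (21342, 18772),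 (21343, 18773), (21344, 19517), (21345, 18731), (21346, 18733), (21347, 20381), (21348, 20056), (21349, 21710), (21350, 18823), (21351, 18825), (21352, 19288), (21353, 22402), (21354, 21223), (21355, 18743), (21356, 22439), (21357, 21418), (21358, 18760), (21359, 20322), (21360, 19455), (21361, 18753), (21362, 21985), (21363, 20717), (21364, 18754), (21365, 22173), (21366, 18761), (21367, 22363), (21368, 21836), (21369, 19870), (21370, 19869), (21371, 18794), (21372, 22580), (21373, 18769), (21374, 21402), (21375, 22484)]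
    ⟨e3 q21312 (flp_c L247425) q20510, e3 q21313 L247429 q21122, e3 q21314 L247443 q20141, e3 q21315 (flp_c L254354) q22057, e3 q21316 L247465 q19270, e3 q21317 L247535 q21323, e3 q21318 (flp_c L259532) q22570, e3 q21319 L247489 q18695, e3 q21320 (flp_c L247509) q20840, e3 q21321 (flp_c L247511) q18696, e3 q21322 (flp_c L258147) q22444, e3 q21323 (flp_c L247535) q21317, e3 q21324 (flp_c L247537) q18700, e3 q21325 L247549 q19473, e3 q21326 L247571 q19324, e3 q21327 L247579 q19329, e3 q21328 (flp_c L247594) q21306, e3 q21329 (flp_c L247596) q18707, e3 q21330 L247608 q19239, e3 q21331 L247630 q19550, e3 q21332 L247638 q19555, e3 q21333 (flp_c L247643) q18712, e3 q21334 L247656 q19453, e3 q21335 (flp_c L247658) q18714, e3 q21336 L247671 q19653, e3 q21337 L247675 q18720, e3 q21338 L247691 q18723, e3 q21339 L247703 q20388, e3 q21340 L247711 q20036, e3 q21341 (flp_c L249825) q21592, e3 q21342 L247733 q18772, e3 q21343 L247737 q18773, e3 q21344 (flp_c L247755) q19517, e3 q21345 L247759 q18731, e3 q21346 L247775 q18733,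 e3 q21347 L247787 q20381, e3 q21348 L247795 q20056, e3 q21349 (flp_c L250843) q21710, e3 q21350 L247817 q18823, e3 q21351 L247821 q18825, e3 q21352 (flp_c L247839) q19288, e3 q21353 (flp_c L257764) q22402, e3 q21354 L247847 q21223, e3 q21355 L247861 q18743, e3 q21356 (flp_c L258093) q22439, e3 q21357 (flp_c L248387) q21418, e3 q21358 L247891 q18760, e3 q21359 L247898 q20322, e3 q21360 L247906 q19455, e3 q21361 L247914 q18753, e3 q21362 (flp_c L253631) q21985, e3 q21363 (flp_c L247932) q20717, e3 q21364 (flp_c L247934) q18754, e3 q21365 (flp_c L255436) q22173, e3 q21366 L247948 q18761, e3 q21367 (flp_c L257363) q22363, e3 q21368 (flp_c L252118) q21836, e3 q21369 L247969 q19870, e3 q21370 L247981 q19869, e3 q21371 L247991 q18794, e3 q21372 L259626 q22580, e3 q21373 (flp_c L248011) q18769, e3 q21374 (flp_c L248253) q21402, e3 q21375 L258610 q22484, trivial⟩ (by decide +kernel)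

theorem ce_c_334 : ∀ r, r < 64 → sm gc (Qf (21376 + r)) = Qf (tab Gen.c (21376 + r)) :=
  edges_tab (sm gc) Qf (tab Gen.c) 21376 [(21376, 22259), (21377, 20024), (21378, 21881), (21379, 21488), (21380, 18779), (21381, 22582), (21382, 19496), (21383, 18778), (21384, 20525), (21385, 22583), (21386, 22003), (21387, 18782), (21388, 22585), (21389, 22586), (21390, 18783), (21391, 22589), (21392, 18784), (21393, 21200), (21394, 22590), (21395, 21962), (21396, 18786), (21397, 21756), (21398, 18788), (21399, 22396), (21400, 21203), (21401, 22452), (21402, 21374), (21403, 18811), (21404, 19655), (21405, 20392), (21406, 18804), (21407, 21947), (21408, 20680), (21409, 18805), (21410, 22180), (21411, 18812), (21412, 22357), (21413, 21913), (21414, 19888), (21415, 19887), (21416, 22593), (21417, 18820), (21418, 21357), (21419, 22242), (21420, 22472), (21421, 21784), (21422, 20044), (21423, 21446), (21424, 18830), (21425, 22595), (21426, 19263), (21427, 18829), (21428, 20468), (21429, 22596), (21430, 21965), (21431, 18833),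 (21432, 22598), (21433, 22599), (21434, 18834), (21435, 22602), (21436, 18835), (21437, 22603), (21438, 21220), (21439, 22000)]
    ⟨e3 q21376 (flp_c L256332) q22259, e3 q21377 L248045 q20024, e3 q21378 (flp_c L252566) q21881, e3 q21379 (flp_c L248956) q21488, e3 q21380 L248067 q18779, e3 q21381 L259642 q22582, e3 q21382 L248087 q19496, e3 q21383 (flp_c L248089) q18778, e3 q21384 L248105 q20525, e3 q21385 L259648 q22583, e3 q21386 (flp_c L253792) q22003, e3 q21387 L248129 q18782, e3 q21388 L259670 q22585, e3 q21389 L259682 q22586, e3 q21390 (flp_c L248155) q18783, e3 q21391 (flp_c L259714) q22589, e3 q21392 (flp_c L248163) q18784, e3 q21393 L248175 q21200, e3 q21394 (flp_c L259724) q22590, e3 q21395 L253395 q21962, e3 q21396 (flp_c L248199) q18786, e3 q21397 (flp_c L251279) q21756, e3 q21398 L248221 q18788, e3 q21399 (flp_c L257696) q22396, e3 q21400 L248235 q21203, e3 q21401 (flp_c L258234) q22452, e3 q21402 L248253 q21374, e3 q21403 L248269 q18811, e3 q21404 L248278 q19655, e3 q21405 L248286 q20392, e3 q21406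 L248292 q18804, e3 q21407 (flp_c L253266) q21947, e3 q21408 (flp_c L248310) q20680, e3 q21409 (flp_c L248312) q18805, e3 q21410 (flp_c L255488) q22180, e3 q21411 L248326 q18812, e3 q21412 (flp_c L257293) q22357, e3 q21413 (flp_c L252898) q21913, e3 q21414 L248347 q19888, e3 q21415 L248359 q19887, e3 q21416 L259756 q22593, e3 q21417 (flp_c L248377) q18820, e3 q21418 L248387 q21357, e3 q21419 (flp_c L256156) q22242, e3 q21420 L258472 q22472, e3 q21421 (flp_c L251580) q21784, e3 q21422 L248419 q20044, e3 q21423 (flp_c L248624) q21446, e3 q21424 L248435 q18830, e3 q21425 L259774 q22595, e3 q21426 L248457 q19263, e3 q21427 (flp_c L248459) q18829, e3 q21428 L248475 q20468, e3 q21429 L259782 q22596, e3 q21430 (flp_c L253425) q21965, e3 q21431 L248499 q18833, e3 q21432 L259804 q22598, e3 q21433 L259816 q22599, e3 q21434 (flp_c L248525) q18834, e3 q21435 (flp_c L259850) q22602, e3 q21436 (flp_c L248533) q18835, e3 q21437 (flp_c L259862) q22603, e3 q21438 L248555 q21220, e3 q21439 L253762 q22000, trivial⟩ (by decide +kernel)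

theorem ce_c_335 : ∀ r, r < 64 → sm gc (Qf (21440 + r)) = Qf (tab Gen.c (21440 + r)) :=
  edges_tab (sm gc) Qf (tab Gen.c) 21440 [(21440, 18837), (21441, 21652), (21442, 18839), (21443, 18841), (21444, 22604), (21445, 18843), (21446, 21423), (21447, 18849), (21448, 22043), (21449, 18850), (21450, 18855), (21451, 19773), (21452, 18852), (21453, 21479), (21454, 22607), (21455, 22038), (21456, 20574), (21457, 19616), (21458, 21478), (21459, 22032), (21460, 18862), (21461, 18863), (21462, 22609), (21463, 18871), (21464, 21467), (21465, 22306), (21466, 18890), (21467, 21464), (21468, 18875), (21469, 18891), (21470, 18893), (21471, 22613), (21472, 22615), (21473, 18881), (21474, 22616), (21475, 21837), (21476, 19862), (21477, 18883), (21478, 21458), (21479, 21453), (21480, 20581), (21481, 22620), (21482, 20041), (21483, 21873), (21484, 22611), (21485, 18898), (21486, 21973), (21487, 18897), (21488, 21379), (21489, 18904), (21490, 22029), (21491, 18905), (21492, 18910), (21493, 19679), (21494, 18907), (21495, 21521),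 (21496, 22610), (21497, 22024), (21498, 20550), (21499, 19410), (21500, 21520), (21501, 22017), (21502, 18917), (21503, 18918)]
    ⟨e3 q21440 (flp_c L248569) q18837, e3 q21441 (flp_c L250304) q21652, e3 q21442 L248591 q18839, e3 q21443 (flp_c L248599) q18841, e3 q21444 (flp_c L259876) q22604, e3 q21445 L248617 q18843, e3 q21446 L248624 q21423, e3 q21447 L248634 q18849, e3 q21448 (flp_c L254192) q22043, e3 q21449 (flp_c L248654) q18850, e3 q21450 L248664 q18855, e3 q21451 L248680 q19773, e3 q21452 L248684 q18852, e3 q21453 (flp_c L248890) q21479, e3 q21454 (flp_c L259906) q22607, e3 q21455 (flp_c L254136) q22038, e3 q21456 L248708 q20574, e3 q21457 L248718 q19616, e3 q21458 (flp_c L248880) q21478, e3 q21459 (flp_c L254086) q22032, e3 q21460 (flp_c L248740) q18862, e3 q21461 (flp_c L248744) q18863, e3 q21462 L259930 q22609, e3 q21463 L248758 q18871, e3 q21464 (flp_c L248794) q21467, e3 q21465 L256842 q22306, e3 q21466 (flp_c L248784) q18890, e3 q21467 L248794 q21464, e3 q21468 (flp_c L248798) q18875, e3 q21469 L248814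 q18891, e3 q21470 L248828 q18893, e3 q21471 L259976 q22613, e3 q21472 L259992 q22615, e3 q21473 (flp_c L248842) q18881, e3 q21474 (flp_c L259998) q22616, e3 q21475 (flp_c L252128) q21837, e3 q21476 (flp_c L248864) q19862, e3 q21477 (flp_c L248866) q18883, e3 q21478 L248880 q21458, e3 q21479 L248890 q21453, e3 q21480 L248898 q20581, e3 q21481 L260032 q22620, e3 q21482 L248912 q20041, e3 q21483 L252482 q21873, e3 q21484 (flp_c L259962) q22611, e3 q21485 L248937 q18898, e3 q21486 (flp_c L253497) q21973, e3 q21487 (flp_c L248948) q18897, e3 q21488 L248956 q21379, e3 q21489 L248968 q18904, e3 q21490 (flp_c L254050) q22029, e3 q21491 (flp_c L248990) q18905, e3 q21492 L249002 q18910, e3 q21493 L249018 q19679, e3 q21494 L249022 q18907, e3 q21495 (flp_c L249248) q21521, e3 q21496 (flp_c L259950) q22610, e3 q21497 (flp_c L253994) q22024, e3 q21498 L249046 q20550, e3 q21499 L249056 q19410, e3 q21500 (flp_c L249236) q21520, e3 q21501 (flp_c L253936) q22017, e3 q21502 (flp_c L249080) q18917, e3 q21503 (flp_c L249084) q18918,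 trivial⟩ (by decide +kernel)

theorem ce_c_336 : ∀ r, r < 64 → sm gc (Qf (21504 + r)) = Qf (tab Gen.c (21504 + r)) :=
  edges_tab (sm gc) Qf (tab Gen.c) 21504 [(21504, 22624), (21505, 18927), (21506, 21509), (21507, 22318), (21508, 18945), (21509, 21506), (21510, 18930), (21511, 18946), (21512, 18947), (21513, 22627), (21514, 22629), (21515, 18936), (21516, 22630), (21517, 21916), (21518, 19881), (21519, 18938), (21520, 21500), (21521, 21495), (21522, 20557), (21523, 20021), (21524, 21774), (21525, 22625), (21526, 22011), (21527, 21528), (21528, 21527), (21529, 22210), (21530, 18958), (21531, 21135), (21532, 21543), (21533, 18962), (21534, 18995), (21535, 21565), (21536, 22637), (21537, 22437), (21538, 18964), (21539, 20255), (21540, 20129), (21541, 22470), (21542, 18972), (21543, 21532), (21544, 18968), (21545, 20254), (21546, 21075), (21547, 22510), (21548, 20283), (21549, 20287), (21550, 21657), (21551, 21679), (21552, 18976), (21553, 22147), (21554, 20832), (21555, 18987), (21556, 19016), (21557, 19017), (21558,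 22641), (21559, 18992), (21560, 22643), (21561, 18993), (21562, 21224), (21563, 18999), (21564, 20986), (21565, 21535), (21566, 22548), (21567, 19011)]
    ⟨e3 q21504 L260080 q22624, e3 q21505 L249098 q18927, e3 q21506 (flp_c L249140) q21509, e3 q21507 L256955 q22318, e3 q21508 (flp_c L249130) q18945, e3 q21509 L249140 q21506, e3 q21510 (flp_c L249144) q18930, e3 q21511 L249160 q18946, e3 q21512 L249174 q18947, e3 q21513 L260118 q22627, e3 q21514 L260138 q22629, e3 q21515 (flp_c L249190) q18936, e3 q21516 (flp_c L260148) q22630, e3 q21517 (flp_c L252934) q21916, e3 q21518 (flp_c L249218) q19881, e3 q21519 (flp_c L249220) q18938, e3 q21520 L249236 q21500, e3 q21521 L249248 q21495, e3 q21522 L249256 q20557, e3 q21523 L249262 q20021, e3 q21524 L251472 q21774, e3 q21525 (flp_c L260098) q22625, e3 q21526 (flp_c L253866) q22011, e3 q21527 (flp_c L249301) q21528, e3 q21528 L249301 q21527, e3 q21529 (flp_c L255804) q22210, e3 q21530 (flp_c L249319) q18958, e3 q21531 L249333 q21135, e3 q21532 L249438 q21543, e3 q21533 (flp_c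 L249345) q18962, e3 q21534 L249355 q18995, e3 q21535 (flp_c L249645) q21565, e3 q21536 L260215 q22637, e3 q21537 (flp_c L258072) q22437, e3 q21538 (flp_c L249374) q18964, e3 q21539 L249388 q20255, e3 q21540 L249398 q20129, e3 q21541 L258448 q22470, e3 q21542 L249420 q18972, e3 q21543 (flp_c L249438) q21532, e3 q21544 L249446 q18968, e3 q21545 L249460 q20254, e3 q21546 L249470 q21075, e3 q21547 (flp_c L258884) q22510, e3 q21548 L249488 q20283, e3 q21549 L249498 q20287, e3 q21550 (flp_c L250352) q21657, e3 q21551 (flp_c L250582) q21679, e3 q21552 (flp_c L249522) q18976, e3 q21553 L255220 q22147, e3 q21554 (flp_c L249551) q20832, e3 q21555 (flp_c L249553) q18987, e3 q21556 L249571 q19016, e3 q21557 L249577 q19017, e3 q21558 L260250 q22641, e3 q21559 L249591 q18992, e3 q21560 L260272 q22643, e3 q21561 (flp_c L249605) q18993, e3 q21562 L249621 q21224, e3 q21563 L249625 q18999, e3 q21564 L249633 q20986, e3 q21565 L249645 q21535, e3 q21566 (flp_c L259308) q22548, e3 q21567 L249661 q19011, trivial⟩ (by decide +kernel)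

theorem ce_c_337 : ∀ r, r < 64 → sm gc (Qf (21568 + r)) = Qf (tab Gen.c (21568 + r)) :=
  edges_tab (sm gc) Qf (tab Gen.c) 21568 [(21568, 19002), (21569, 22527), (21570, 22520), (21571, 22547), (21572, 21281), (21573, 22648), (21574, 19010), (21575, 22649), (21576, 21645), (21577, 22176), (21578, 19013), (21579, 21644), (21580, 21900), (21581, 22640), (21582, 19018), (21583, 22652), (21584, 21643), (21585, 22654), (21586, 19021), (21587, 21612), (21588, 19022), (21589, 22658), (21590, 19024), (21591, 22578), (21592, 21341), (21593, 22519), (21594, 20683), (21595, 21280), (21596, 19115), (21597, 21964), (21598, 19039), (21599, 22660), (21600, 22576), (21601, 19041), (21602, 21857), (21603, 19639), (21604, 22367), (21605, 19048), (21606, 19049), (21607, 19149), (21608, 19052), (21609, 21618), (21610, 21929), (21611, 22662), (21612, 21587), (21613, 21728), (21614, 19062), (21615, 22668), (21616, 19054), (21617, 22169), (21618, 21609), (21619, 19056), (21620, 19083), (21621, 19084), (21622, 21691), (21623, 21648),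 (21624, 19061), (21625, 22675), (21626, 22667), (21627, 21653), (21628, 22229), (21629, 22566), (21630, 22567), (21631, 19075)]
    ⟨e3 q21568 (flp_c L249665) q19002, e3 q21569 (flp_c L259077) q22527, e3 q21570 (flp_c L258999) q22520, e3 q21571 (flp_c L259292) q22547, e3 q21572 L249689 q21281, e3 q21573 (flp_c L260333) q22648, e3 q21574 (flp_c L249705) q19010, e3 q21575 (flp_c L260347) q22649, e3 q21576 (flp_c L250246) q21645, e3 q21577 (flp_c L255462) q22176, e3 q21578 L249731 q19013, e3 q21579 (flp_c L250238) q21644, e3 q21580 L252768 q21900, e3 q21581 (flp_c L260243) q22640, e3 q21582 (flp_c L249757) q19018, e3 q21583 (flp_c L260367) q22652, e3 q21584 (flp_c L250228) q21643, e3 q21585 L260380 q22654, e3 q21586 (flp_c L249789) q19021, e3 q21587 (flp_c L249985) q21612, e3 q21588 (flp_c L249797) q19022, e3 q21589 L260416 q22658, e3 q21590 (flp_c L249811) q19024, e3 q21591 L259616 q22578, e3 q21592 L249825 q21341, e3 q21593 (flp_c L258985) q22519, e3 q21594 L249851 q20683, e3 q21595 L249857 q21280, e3 q21596 L249869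 q19115, e3 q21597 (flp_c L253419) q21964, e3 q21598 (flp_c L249881) q19039, e3 q21599 (flp_c L260443) q22660, e3 q21600 L259599 q22576, e3 q21601 L249901 q19041, e3 q21602 (flp_c L252311) q21857, e3 q21603 L249917 q19639, e3 q21604 (flp_c L257405) q22367, e3 q21605 L249931 q19048, e3 q21606 L249939 q19049, e3 q21607 L249947 q19149, e3 q21608 L249955 q19052, e3 q21609 L250027 q21618, e3 q21610 (flp_c L253060) q21929, e3 q21611 (flp_c L260458) q22662, e3 q21612 L249985 q21587, e3 q21613 (flp_c L251017) q21728, e3 q21614 L249997 q19062, e3 q21615 L260510 q22668, e3 q21616 (flp_c L250001) q19054, e3 q21617 (flp_c L255410) q22169, e3 q21618 (flp_c L250027) q21609, e3 q21619 (flp_c L250029) q19056, e3 q21620 L250043 q19083, e3 q21621 L250055 q19084, e3 q21622 (flp_c L250701) q21691, e3 q21623 L250276 q21648, e3 q21624 L250075 q19061, e3 q21625 L260565 q22675, e3 q21626 (flp_c L260502) q22667, e3 q21627 (flp_c L250316) q21653, e3 q21628 (flp_c L256002) q22229, e3 q21629 L259503 q22566, e3 q21630 (flp_c L259508) q22567,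 e3 q21631 (flp_c L250133) q19075, trivial⟩ (by decide +kernel)

theorem ce_c_338 : ∀ r, r < 64 → sm gc (Qf (21632 + r)) = Qf (tab Gen.c (21632 + r)) :=
  edges_tab (sm gc) Qf (tab Gen.c) 21632 [(21632, 21632), (21633, 19069), (21634, 22677), (21635, 21749), (21636, 22676), (21637, 21844), (21638, 19072), (21639, 22365), (21640, 19074), (21641, 20779), (21642, 22680), (21643, 21584), (21644, 21579), (21645, 21576), (21646, 22670), (21647, 22657), (21648, 21623), (21649, 22591), (21650, 19086), (21651, 22688), (21652, 21441), (21653, 21627), (21654, 19088), (21655, 22689), (21656, 21038), (21657, 21550), (21658, 21659), (21659, 21658), (21660, 22225), (21661, 19099), (21662, 21139), (21663, 21673), (21664, 19102), (21665, 19134), (21666, 22691), (21667, 22450), (21668, 19104), (21669, 20243), (21670, 20122), (21671, 22482), (21672, 19111), (21673, 21663), (21674, 19108), (21675, 20242), (21676, 22512), (21677, 20303), (21678, 20307), (21679, 21551), (21680, 22144), (21681, 20835), (21682, 19126), (21683, 19155), (21684,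 22693), (21685, 19131), (21686, 22695), (21687, 19132), (21688, 21204), (21689, 19138), (21690, 21012), (21691, 21622), (21692, 22537), (21693, 19150), (21694, 19141), (21695, 22501)]
    ⟨e3 q21632 L250139 q21632, e3 q21633 (flp_c L250145) q19069, e3 q21634 (flp_c L260594) q22677, e3 q21635 (flp_c L251211) q21749, e3 q21636 (flp_c L260581) q22676, e3 q21637 (flp_c L252189) q21844, e3 q21638 (flp_c L250185) q19072, e3 q21639 L257389 q22365, e3 q21640 L250200 q19074, e3 q21641 L250212 q20779, e3 q21642 (flp_c L260631) q22680, e3 q21643 L250228 q21584, e3 q21644 L250238 q21579, e3 q21645 L250246 q21576, e3 q21646 (flp_c L260532) q22670, e3 q21647 (flp_c L260412) q22657, e3 q21648 (flp_c L250276) q21623, e3 q21649 L259742 q22591, e3 q21650 (flp_c L250286) q19086, e3 q21651 (flp_c L260717) q22688, e3 q21652 L250304 q21441, e3 q21653 L250316 q21627, e3 q21654 (flp_c L250318) q19088, e3 q21655 (flp_c L260731) q22689, e3 q21656 L250338 q21038, e3 q21657 L250352 q21550, e3 q21658 (flp_c L250372) q21659, e3 q21659 L250372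 q21658, e3 q21660 (flp_c L255961) q22225, e3 q21661 (flp_c L250398) q19099, e3 q21662 L250412 q21139, e3 q21663 L250522 q21673, e3 q21664 (flp_c L250424) q19102, e3 q21665 L250434 q19134, e3 q21666 L260753 q22691, e3 q21667 (flp_c L258213) q22450, e3 q21668 (flp_c L250447) q19104, e3 q21669 L250472 q20243, e3 q21670 L250482 q20122, e3 q21671 L258586 q22482, e3 q21672 L250504 q19111, e3 q21673 (flp_c L250522) q21663, e3 q21674 L250530 q19108, e3 q21675 L250544 q20242, e3 q21676 (flp_c L258905) q22512, e3 q21677 L250560 q20303, e3 q21678 L250570 q20307, e3 q21679 L250582 q21551, e3 q21680 L255194 q22144, e3 q21681 (flp_c L250607) q20835, e3 q21682 (flp_c L250609) q19126, e3 q21683 L250625 q19155, e3 q21684 L260773 q22693, e3 q21685 L250643 q19131, e3 q21686 L260795 q22695, e3 q21687 (flp_c L250659) q19132, e3 q21688 L250677 q21204, e3 q21689 L250681 q19138, e3 q21690 L250689 q21012, e3 q21691 L250701 q21622, e3 q21692 (flp_c L259192) q22537, e3 q21693 L250717 q19150, e3 q21694 (flp_c L250723) q19141, e3 q21695 (flp_c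 L258786) q22501, trivial⟩ (by decide +kernel)

theorem ce_c_339 : ∀ r, r < 64 → sm gc (Qf (21696 + r)) = Qf (tab Gen.c (21696 + r)) :=
  edges_tab (sm gc) Qf (tab Gen.c) 21696 [(21696, 22536), (21697, 22495), (21698, 21272), (21699, 22700), (21700, 22661), (21701, 21751), (21702, 19152), (21703, 21812), (21704, 21750), (21705, 22703), (21706, 19158), (21707, 21729), (21708, 19159), (21709, 19161), (21710, 21349), (21711, 22494), (21712, 20720), (21713, 21271), (21714, 22002), (21715, 19176), (21716, 22705), (21717, 22573), (21718, 19178), (21719, 19438), (21720, 21931), (21721, 22371), (21722, 19185), (21723, 19186), (21724, 19187), (21725, 22706), (21726, 21732), (21727, 21854), (21728, 21613), (21729, 21707), (21730, 19199), (21731, 19192), (21732, 21726), (21733, 19193), (21734, 19217), (21735, 19218), (21736, 21754), (21737, 19198), (21738, 22709), (21739, 21757), (21740, 22215), (21741, 22568), (21742, 22569), (21743, 19209), (21744, 19205), (21745, 22370), (21746, 19208), (21747, 20789), (21748, 22713), (21749,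 21635), (21750, 21704), (21751, 21701), (21752, 22711), (21753, 22684), (21754, 21736), (21755, 19220), (21756, 21397), (21757, 21739), (21758, 19222), (21759, 22659)]
    ⟨e3 q21696 (flp_c L259176) q22536, e3 q21697 (flp_c L258724) q22495, e3 q21698 L250749 q21272, e3 q21699 (flp_c L260860) q22700, e3 q21700 (flp_c L260450) q22661, e3 q21701 (flp_c L251231) q21751, e3 q21702 L250785 q19152, e3 q21703 L251882 q21812, e3 q21704 (flp_c L251223) q21750, e3 q21705 L260884 q22703, e3 q21706 (flp_c L250813) q19158, e3 q21707 (flp_c L251027) q21729, e3 q21708 (flp_c L250821) q19159, e3 q21709 (flp_c L250831) q19161, e3 q21710 L250843 q21349, e3 q21711 (flp_c L258710) q22494, e3 q21712 L250869 q20720, e3 q21713 L250875 q21271, e3 q21714 (flp_c L253786) q22002, e3 q21715 (flp_c L250891) q19176, e3 q21716 (flp_c L260909) q22705, e3 q21717 L259568 q22573, e3 q21718 L250923 q19178, e3 q21719 L250933 q19438, e3 q21720 (flp_c L253086) q21931, e3 q21721 (flp_c L257448) q22371, e3 q21722 L250963 q19185, e3 q21723 L250971 q19186,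 e3 q21724 L250979 q19187, e3 q21725 (flp_c L260920) q22706, e3 q21726 L251053 q21732, e3 q21727 (flp_c L252277) q21854, e3 q21728 L251017 q21613, e3 q21729 L251027 q21707, e3 q21730 L251035 q19199, e3 q21731 (flp_c L251037) q19192, e3 q21732 (flp_c L251053) q21726, e3 q21733 (flp_c L251055) q19193, e3 q21734 L251071 q19217, e3 q21735 L251085 q19218, e3 q21736 L251265 q21754, e3 q21737 L251099 q19198, e3 q21738 (flp_c L260958) q22709, e3 q21739 (flp_c L251291) q21757, e3 q21740 (flp_c L255859) q22215, e3 q21741 L259519 q22568, e3 q21742 (flp_c L259524) q22569, e3 q21743 (flp_c L251161) q19209, e3 q21744 (flp_c L251163) q19205, e3 q21745 L257438 q22370, e3 q21746 L251181 q19208, e3 q21747 L251193 q20789, e3 q21748 (flp_c L261002) q22713, e3 q21749 L251211 q21635, e3 q21750 L251223 q21704, e3 q21751 L251231 q21701, e3 q21752 (flp_c L260976) q22711, e3 q21753 (flp_c L260669) q22684, e3 q21754 (flp_c L251265) q21736, e3 q21755 (flp_c L251267) q19220, e3 q21756 L251279 q21397, e3 q21757 L251291 q21739, e3 q21758 (flp_c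 L251293) q19222, e3 q21759 (flp_c L260430) q22659, trivial⟩ (by decide +kernel)

theorem ce_c_340 : ∀ r, r < 64 → sm gc (Qf (21760 + r)) = Qf (tab Gen.c (21760 + r)) :=
  edges_tab (sm gc) Qf (tab Gen.c) 21760 [(21760, 20904), (21761, 20410), (21762, 19232), (21763, 19234), (21764, 19240), (21765, 19244), (21766, 22718), (21767, 19247), (21768, 19601), (21769, 20794), (21770, 19252), (21771, 19500), (21772, 20028), (21773, 19256), (21774, 21524), (21775, 19264), (21776, 19265), (21777, 19778), (21778, 22153), (21779, 19749), (21780, 20170), (21781, 19275), (21782, 19276), (21783, 22723), (21784, 21421), (21785, 21805), (21786, 20539), (21787, 19286), (21788, 20048), (21789, 19287), (21790, 20834), (21791, 19297), (21792, 19298), (21793, 22289), (21794, 19300), (21795, 21799), (21796, 19310), (21797, 20268), (21798, 19316), (21799, 21795), (21800, 20509), (21801, 19325), (21802, 20451), (21803, 21803), (21804, 22085), (21805, 21785), (21806, 19341), (21807, 22729), (21808, 21814), (21809, 22497), (21810, 19346),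 (21811, 19347), (21812, 21703), (21813, 22714), (21814, 21808), (21815, 22522), (21816, 19354), (21817, 19356), (21818, 19566), (21819, 22647), (21820, 21058), (21821, 20374), (21822, 19366), (21823, 20371)]
    ⟨e3 q21760 L251319 q20904, e3 q21761 L251331 q20410, e3 q21762 (flp_c L251341) q19232, e3 q21763 L251351 q19234, e3 q21764 (flp_c L251355) q19240, e3 q21765 (flp_c L251363) q19244, e3 q21766 (flp_c L261058) q22718, e3 q21767 L251383 q19247, e3 q21768 L251395 q19601, e3 q21769 (flp_c L251413) q20794, e3 q21770 L251421 q19252, e3 q21771 L251435 q19500, e3 q21772 L251445 q20028, e3 q21773 L251457 q19256, e3 q21774 (flp_c L251472) q21524, e3 q21775 (flp_c L251474) q19264, e3 q21776 (flp_c L251486) q19265, e3 q21777 L251504 q19778, e3 q21778 (flp_c L255269) q22153, e3 q21779 L251526 q19749, e3 q21780 L251538 q20170, e3 q21781 L251546 q19275, e3 q21782 L251558 q19276, e3 q21783 L261104 q22723, e3 q21784 L251580 q21421, e3 q21785 (flp_c L251816) q21805, e3 q21786 L251596 q20539, e3 q21787 L251606 q19286, e3 q21788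 (flp_c L251622) q20048, e3 q21789 (flp_c L251624) q19287, e3 q21790 L251640 q20834, e3 q21791 (flp_c L251648) q19297, e3 q21792 (flp_c L251660) q19298, e3 q21793 (flp_c L256659) q22289, e3 q21794 L251682 q19300, e3 q21795 L251748 q21799, e3 q21796 (flp_c L251698) q19310, e3 q21797 L251714 q20268, e3 q21798 (flp_c L251724) q19316, e3 q21799 (flp_c L251748) q21795, e3 q21800 L251756 q20509, e3 q21801 L251772 q19325, e3 q21802 L251784 q20451, e3 q21803 L251796 q21803, e3 q21804 (flp_c L254654) q22085, e3 q21805 L251816 q21785, e3 q21806 (flp_c L251820) q19341, e3 q21807 (flp_c L261188) q22729, e3 q21808 (flp_c L251894) q21814, e3 q21809 (flp_c L258746) q22497, e3 q21810 L251858 q19346, e3 q21811 L251866 q19347, e3 q21812 (flp_c L251882) q21703, e3 q21813 (flp_c L261018) q22714, e3 q21814 L251894 q21808, e3 q21815 (flp_c L259025) q22522, e3 q21816 (flp_c L251912) q19354, e3 q21817 L251928 q19356, e3 q21818 L251940 q19566, e3 q21819 (flp_c L260317) q22647, e3 q21820 L251952 q21058, e3 q21821 (flp_c L251970) q20374, e3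 q21822 L251976 q19366, e3 q21823 L251986 q20371, trivial⟩ (by decide +kernel)

theorem ce_c_341 : ∀ r, r < 64 → sm gc (Qf (21824 + r)) = Qf (tab Gen.c (21824 + r)) :=
  edges_tab (sm gc) Qf (tab Gen.c) 21824 [(21824, 21845), (21825, 19734), (21826, 20795), (21827, 19383), (21828, 22731), (21829, 20880), (21830, 19394), (21831, 20279), (21832, 19416), (21833, 19418), (21834, 22375), (21835, 21290), (21836, 21368), (21837, 21475), (21838, 19411), (21839, 19407), (21840, 21934), (21841, 21265), (21842, 19413), (21843, 22315), (21844, 21637), (21845, 21824), (21846, 19423), (21847, 22027), (21848, 19572), (21849, 22372), (21850, 19442), (21851, 21930), (21852, 19439), (21853, 19440), (21854, 21727), (21855, 21926), (21856, 19561), (21857, 21602), (21858, 19449), (21859, 22574), (21860, 21917), (21861, 22317), (21862, 19459), (21863, 20262), (21864, 19462), (21865, 20352), (21866, 19474), (21867, 19476), (21868, 19480), (21869, 19482), (21870, 20798), (21871, 19486), (21872, 22736), (21873, 21483), (21874, 19497), (21875,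 19684), (21876, 22162), (21877, 19845), (21878, 20187), (21879, 19508), (21880, 19509), (21881, 21378), (21882, 21896), (21883, 20482), (21884, 20831), (21885, 19525), (21886, 19526), (21887, 22269)]
    ⟨e3 q21824 (flp_c L252203) q21845, e3 q21825 L252004 q19734, e3 q21826 L252014 q20795, e3 q21827 (flp_c L252026) q19383, e3 q21828 (flp_c L261210) q22731, e3 q21829 L252048 q20880, e3 q21830 L252062 q19394, e3 q21831 L252074 q20279, e3 q21832 L252086 q19416, e3 q21833 L252092 q19418, e3 q21834 (flp_c L257495) q22375, e3 q21835 L252108 q21290, e3 q21836 L252118 q21368, e3 q21837 L252128 q21475, e3 q21838 L252134 q19411, e3 q21839 (flp_c L252142) q19407, e3 q21840 (flp_c L253116) q21934, e3 q21841 L252160 q21265, e3 q21842 L252166 q19413, e3 q21843 (flp_c L256913) q22315, e3 q21844 L252189 q21637, e3 q21845 L252203 q21824, e3 q21846 L252211 q19423, e3 q21847 (flp_c L254034) q22027, e3 q21848 L252231 q19572, e3 q21849 (flp_c L257462) q22372, e3 q21850 (flp_c L252255) q19442, e3 q21851 (flp_c L253072) q21930, e3 q21852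 L252265 q19439, e3 q21853 L252271 q19440, e3 q21854 L252277 q21727, e3 q21855 L253038 q21926, e3 q21856 L252299 q19561, e3 q21857 L252311 q21602, e3 q21858 L252321 q19449, e3 q21859 (flp_c L259572) q22574, e3 q21860 (flp_c L252938) q21917, e3 q21861 (flp_c L256933) q22317, e3 q21862 L252363 q19459, e3 q21863 L252373 q20262, e3 q21864 L252381 q19462, e3 q21865 L252391 q20352, e3 q21866 (flp_c L252401) q19474, e3 q21867 L252413 q19476, e3 q21868 (flp_c L252417) q19480, e3 q21869 L252429 q19482, e3 q21870 (flp_c L252447) q20798, e3 q21871 L252455 q19486, e3 q21872 (flp_c L261252) q22736, e3 q21873 (flp_c L252482) q21483, e3 q21874 (flp_c L252484) q19497, e3 q21875 L252502 q19684, e3 q21876 (flp_c L255350) q22162, e3 q21877 L252524 q19845, e3 q21878 L252536 q20187, e3 q21879 L252544 q19508, e3 q21880 L252556 q19509, e3 q21881 L252566 q21378, e3 q21882 (flp_c L252732) q21896, e3 q21883 L252582 q20482, e3 q21884 L252594 q20831, e3 q21885 (flp_c L252602) q19525, e3 q21886 (flp_c L252614) q19526, e3 q21887 (flp_c L256454)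 q22269, trivial⟩ (by decide +kernel)

theorem ce_c_342 : ∀ r, r < 64 → sm gc (Qf (21888 + r)) = Qf (tab Gen.c (21888 + r)) :=
  edges_tab (sm gc) Qf (tab Gen.c) 21888 [(21888, 19528), (21889, 21892), (21890, 19538), (21891, 19543), (21892, 21889), (21893, 19552), (21894, 21894), (21895, 22072), (21896, 21882), (21897, 22735), (21898, 21902), (21899, 19565), (21900, 21580), (21901, 22681), (21902, 21898), (21903, 19570), (21904, 22699), (21905, 21019), (21906, 20421), (21907, 19581), (21908, 20418), (21909, 21921), (21910, 19827), (21911, 20791), (21912, 19597), (21913, 21413), (21914, 21285), (21915, 19615), (21916, 21517), (21917, 21860), (21918, 21274), (21919, 19614), (21920, 19618), (21921, 21909), (21922, 19625), (21923, 22041), (21924, 22366), (21925, 19642), (21926, 21855), (21927, 19640), (21928, 19641), (21929, 21610), (21930, 21851), (21931, 21720), (21932, 19649), (21933, 22577), (21934, 21840), (21935, 22305), (21936, 19659), (21937, 20273), (21938, 19662), (21939, 20480), (21940, 20481), (21941, 21185),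 (21942, 20994), (21943, 21166), (21944, 19685), (21945, 19687), (21946, 19723), (21947, 21407), (21948, 22726), (21949, 22234), (21950, 22089), (21951, 20318)]
    ⟨e3 q21888 L252636 q19528, e3 q21889 L252692 q21892, e3 q21890 (flp_c L252654) q19538, e3 q21891 (flp_c L252666) q19543, e3 q21892 (flp_c L252692) q21889, e3 q21893 L252698 q19552, e3 q21894 L252712 q21894, e3 q21895 (flp_c L254544) q22072, e3 q21896 L252732 q21882, e3 q21897 (flp_c L261242) q22735, e3 q21898 (flp_c L252780) q21902, e3 q21899 L252754 q19565, e3 q21900 (flp_c L252768) q21580, e3 q21901 (flp_c L260645) q22681, e3 q21902 L252780 q21898, e3 q21903 (flp_c L252788) q19570, e3 q21904 (flp_c L260844) q22699, e3 q21905 L252808 q21019, e3 q21906 (flp_c L252826) q20421, e3 q21907 L252832 q19581, e3 q21908 L252842 q20418, e3 q21909 (flp_c L252980) q21921, e3 q21910 L252862 q19827, e3 q21911 L252872 q20791, e3 q21912 (flp_c L252884) q19597, e3 q21913 L252898 q21413, e3 q21914 L252910 q21285, e3 q21915 L252922 q19615, e3 q21916 L252934 q21517, e3 q21917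 L252938 q21860, e3 q21918 L252952 q21274, e3 q21919 (flp_c L252956) q19614, e3 q21920 L252966 q19618, e3 q21921 L252980 q21909, e3 q21922 L252990 q19625, e3 q21923 (flp_c L254176) q22041, e3 q21924 (flp_c L257397) q22366, e3 q21925 L253024 q19642, e3 q21926 (flp_c L253038) q21855, e3 q21927 L253044 q19640, e3 q21928 L253054 q19641, e3 q21929 L253060 q21610, e3 q21930 L253072 q21851, e3 q21931 L253086 q21720, e3 q21932 L253096 q19649, e3 q21933 (flp_c L259603) q22577, e3 q21934 L253116 q21840, e3 q21935 (flp_c L256824) q22305, e3 q21936 L253140 q19659, e3 q21937 L253154 q20273, e3 q21938 L253164 q19662, e3 q21939 L253176 q20480, e3 q21940 L253186 q20481, e3 q21941 (flp_c L253206) q21185, e3 q21942 L253214 q20994, e3 q21943 L253224 q21166, e3 q21944 L253234 q19685, e3 q21945 L253242 q19687, e3 q21946 L253256 q19723, e3 q21947 L253266 q21407, e3 q21948 (flp_c L261148) q22726, e3 q21949 (flp_c L256058) q22234, e3 q21950 (flp_c L254682) q22089, e3 q21951 L253292 q20318, trivial⟩ (by decide +kernel)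

theorem ce_c_343 : ∀ r, r < 64 → sm gc (Qf (21952 + r)) = Qf (tab Gen.c (21952 + r)) :=
  edges_tab (sm gc) Qf (tab Gen.c) 21952 [(21952, 22233), (21953, 22404), (21954, 19702), (21955, 19696), (21956, 20175), (21957, 20176), (21958, 20125), (21959, 20526), (21960, 22049), (21961, 22526), (21962, 21395), (21963, 21270), (21964, 21597), (21965, 21430), (21966, 19712), (21967, 19715), (21968, 20308), (21969, 22528), (21970, 22174), (21971, 22052), (21972, 22356), (21973, 21486), (21974, 20361), (21975, 19753), (21976, 19758), (21977, 20538), (21978, 20540), (21979, 21132), (21980, 21116), (21981, 20968), (21982, 19780), (21983, 19782), (21984, 19819), (21985, 21362), (21986, 22739), (21987, 22219), (21988, 22076), (21989, 22218), (21990, 20298), (21991, 22423), (21992, 19797), (21993, 19791), (21994, 20192), (21995, 20193), (21996, 20118), (21997, 22065), (21998, 20467), (21999, 22500), (22000, 21439), (22001, 21279), (22002, 21714), (22003, 21386), (22004, 19806), (22005, 19809), (22006, 20288), (22007, 22505),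 (22008, 22181), (22009, 22067), (22010, 22353), (22011, 21526), (22012, 20380), (22013, 19846), (22014, 19850), (22015, 20501)]
    ⟨e3 q21952 (flp_c L256048) q22233, e3 q21953 (flp_c L257792) q22404, e3 q21954 L253312 q19702, e3 q21955 (flp_c L253322) q19696, e3 q21956 L253336 q20175, e3 q21957 L253347 q20176, e3 q21958 L253361 q20125, e3 q21959 L253371 q20526, e3 q21960 (flp_c L254265) q22049, e3 q21961 (flp_c L259065) q22526, e3 q21962 (flp_c L253395) q21395, e3 q21963 L253403 q21270, e3 q21964 L253419 q21597, e3 q21965 L253425 q21430, e3 q21966 (flp_c L253431) q19712, e3 q21967 (flp_c L253441) q19715, e3 q21968 L253461 q20308, e3 q21969 (flp_c L259091) q22528, e3 q21970 (flp_c L255444) q22174, e3 q21971 (flp_c L254298) q22052, e3 q21972 L257285 q22356, e3 q21973 L253497 q21486, e3 q21974 L253505 q20361, e3 q21975 (flp_c L253515) q19753, e3 q21976 L253529 q19758, e3 q21977 L253545 q20538, e3 q21978 L253555 q20540, e3 q21979 (flp_c L253571) q21132, e3 q21980 L253575 q21116, e3 q21981 L253587 q20968, e3 q21982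 L253599 q19780, e3 q21983 L253607 q19782, e3 q21984 L253621 q19819, e3 q21985 L253631 q21362, e3 q21986 (flp_c L261284) q22739, e3 q21987 (flp_c L255899) q22219, e3 q21988 (flp_c L254572) q22076, e3 q21989 (flp_c L255889) q22218, e3 q21990 L253667 q20298, e3 q21991 (flp_c L257966) q22423, e3 q21992 L253679 q19797, e3 q21993 (flp_c L253689) q19791, e3 q21994 L253703 q20192, e3 q21995 L253717 q20193, e3 q21996 L253728 q20118, e3 q21997 (flp_c L254455) q22065, e3 q21998 L253744 q20467, e3 q21999 (flp_c L258774) q22500, e3 q22000 (flp_c L253762) q21439, e3 q22001 L253770 q21279, e3 q22002 L253786 q21714, e3 q22003 L253792 q21386, e3 q22004 (flp_c L253798) q19806, e3 q22005 (flp_c L253808) q19809, e3 q22006 L253828 q20288, e3 q22007 (flp_c L258832) q22505, e3 q22008 (flp_c L255496) q22181, e3 q22009 (flp_c L254480) q22067, e3 q22010 (flp_c L257241) q22353, e3 q22011 L253866 q21526, e3 q22012 L253876 q20380, e3 q22013 (flp_c L253886) q19846, e3 q22014 L253900 q19850, e3 q22015 L253914 q20501, trivial⟩ (by decide +kernel)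

theorem ce_c_344 : ∀ r, r < 64 → sm gc (Qf (22016 + r)) = Qf (tab Gen.c (22016 + r)) :=
  edges_tab (sm gc) Qf (tab Gen.c) 22016 [(22016, 20038), (22017, 21501), (22018, 20777), (22019, 22022), (22020, 22749), (22021, 21152), (22022, 22019), (22023, 19863), (22024, 21497), (22025, 19867), (22026, 19868), (22027, 21847), (22028, 22387), (22029, 21490), (22030, 20443), (22031, 20018), (22032, 21459), (22033, 22036), (22034, 21099), (22035, 22750), (22036, 22033), (22037, 19880), (22038, 21455), (22039, 19885), (22040, 19886), (22041, 21923), (22042, 22390), (22043, 21448), (22044, 20939), (22045, 22122), (22046, 20910), (22047, 22126), (22048, 20535), (22049, 21960), (22050, 19940), (22051, 22051), (22052, 21971), (22053, 22053), (22054, 22058), (22055, 19950), (22056, 20941), (22057, 21315), (22058, 22054), (22059, 22063), (22060, 21304), (22061, 20912), (22062, 19969), (22063, 22059), (22064, 20477), (22065, 21997), (22066, 20000), (22067, 22009), (22068, 22068), (22069, 22069), (22070, 22633), (22071, 20023),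 (22072, 21895), (22073, 20025), (22074, 22721), (22075, 22102), (22076, 21988), (22077, 20030), (22078, 22545), (22079, 21005)]
    ⟨e3 q22016 L253926 q20038, e3 q22017 L253936 q21501, e3 q22018 (flp_c L253950) q20777, e3 q22019 (flp_c L253976) q22022, e3 q22020 L261390 q22749, e3 q22021 L253970 q21152, e3 q22022 L253976 q22019, e3 q22023 (flp_c L253978) q19863, e3 q22024 L253994 q21497, e3 q22025 L254006 q19867, e3 q22026 L254020 q19868, e3 q22027 L254034 q21847, e3 q22028 (flp_c L257612) q22387, e3 q22029 L254050 q21490, e3 q22030 L254060 q20443, e3 q22031 L254074 q20018, e3 q22032 L254086 q21459, e3 q22033 (flp_c L254116) q22036, e3 q22034 L254106 q21099, e3 q22035 L261394 q22750, e3 q22036 L254116 q22033, e3 q22037 (flp_c L254120) q19880, e3 q22038 L254136 q21455, e3 q22039 L254148 q19885, e3 q22040 L254162 q19886, e3 q22041 L254176 q21923, e3 q22042 (flp_c L257638) q22390, e3 q22043 L254192 q21448, e3 q22044 L254214 q20939, e3 q22045 (flp_c L254946) q22122, e3 q22046 L254238 q20910, e3 q22047 (flp_c L254992)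 q22126, e3 q22048 L254256 q20535, e3 q22049 L254265 q21960, e3 q22050 L254279 q19940, e3 q22051 L254290 q22051, e3 q22052 L254298 q21971, e3 q22053 L254311 q22053, e3 q22054 (flp_c L254368) q22058, e3 q22055 (flp_c L254328) q19950, e3 q22056 L254342 q20941, e3 q22057 L254354 q21315, e3 q22058 L254368 q22054, e3 q22059 (flp_c L254430) q22063, e3 q22060 L254394 q21304, e3 q22061 L254406 q20912, e3 q22062 (flp_c L254414) q19969, e3 q22063 L254430 q22059, e3 q22064 L254446 q20477, e3 q22065 L254455 q21997, e3 q22066 L254469 q20000, e3 q22067 L254480 q22009, e3 q22068 L254496 q22068, e3 q22069 L254503 q22069, e3 q22070 (flp_c L260178) q22633, e3 q22071 L254526 q20023, e3 q22072 L254544 q21895, e3 q22073 (flp_c L254546) q20025, e3 q22074 (flp_c L261086) q22721, e3 q22075 (flp_c L254792) q22102, e3 q22076 L254572 q21988, e3 q22077 L254576 q20030, e3 q22078 (flp_c L259276) q22545, e3 q22079 (flp_c L254600) q21005, trivial⟩ (by decide +kernel)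

theorem ce_c_345 : ∀ r, r < 64 → sm gc (Qf (22080 + r)) = Qf (tab Gen.c (22080 + r)) :=
  edges_tab (sm gc) Qf (tab Gen.c) 22080 [(22080, 22106), (22081, 22754), (22082, 20035), (22083, 22619), (22084, 20043), (22085, 21804), (22086, 20045), (22087, 22725), (22088, 22115), (22089, 21950), (22090, 20050), (22091, 22554), (22092, 20979), (22093, 22118), (22094, 22758), (22095, 20055), (22096, 20059), (22097, 22759), (22098, 20061), (22099, 20062), (22100, 22100), (22101, 21233), (22102, 22075), (22103, 20066), (22104, 21213), (22105, 20625), (22106, 22080), (22107, 20628), (22108, 22346), (22109, 20071), (22110, 22556), (22111, 20073), (22112, 22112), (22113, 20076), (22114, 22771), (22115, 22088), (22116, 20652), (22117, 20655), (22118, 22093), (22119, 22332), (22120, 20082), (22121, 22558), (22122, 22045), (22123, 20086), (22124, 22351), (22125, 20090), (22126, 22047), (22127, 20094), (22128, 22359), (22129, 20098), (22130, 20626), (22131, 20315), (22132, 20653), (22133, 20295), (22134, 20256), (22135, 20244),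 (22136, 20132), (22137, 20135), (22138, 20138), (22139, 20233), (22140, 20142), (22141, 20226), (22142, 20147), (22143, 22143)]
    ⟨e3 q22080 (flp_c L254828) q22106, e3 q22081 L261428 q22754, e3 q22082 (flp_c L254618) q20035, e3 q22083 (flp_c L260024) q22619, e3 q22084 L254636 q20043, e3 q22085 L254654 q21804, e3 q22086 (flp_c L254656) q20045, e3 q22087 (flp_c L261134) q22725, e3 q22088 (flp_c L254901) q22115, e3 q22089 L254682 q21950, e3 q22090 L254686 q20050, e3 q22091 (flp_c L259376) q22554, e3 q22092 (flp_c L254710) q20979, e3 q22093 (flp_c L254919) q22118, e3 q22094 L261470 q22758, e3 q22095 (flp_c L254728) q20055, e3 q22096 (flp_c L254730) q20059, e3 q22097 (flp_c L261488) q22759, e3 q22098 L254746 q20061, e3 q22099 L254756 q20062, e3 q22100 L254768 q22100, e3 q22101 (flp_c L254784) q21233, e3 q22102 L254792 q22075, e3 q22103 L254798 q20066, e3 q22104 (flp_c L254816) q21213, e3 q22105 L254820 q20625, e3 q22106 L254828 q22080, e3 q22107 L254834 q20628, e3 q22108 (flp_c L257169) q22346, e3 q22109 (flp_c L254838)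 q20071, e3 q22110 (flp_c L259394) q22556, e3 q22111 L254861 q20073, e3 q22112 L254876 q22112, e3 q22113 (flp_c L254882) q20076, e3 q22114 (flp_c L261593) q22771, e3 q22115 L254901 q22088, e3 q22116 L254905 q20652, e3 q22117 L254915 q20655, e3 q22118 L254919 q22093, e3 q22119 (flp_c L257053) q22332, e3 q22120 (flp_c L254923) q20082, e3 q22121 (flp_c L259415) q22558, e3 q22122 L254946 q22045, e3 q22123 (flp_c L254956) q20086, e3 q22124 (flp_c L257217) q22351, e3 q22125 (flp_c L254978) q20090, e3 q22126 L254992 q22047, e3 q22127 (flp_c L255002) q20094, e3 q22128 (flp_c L257315) q22359, e3 q22129 (flp_c L255024) q20098, e3 q22130 L255038 q20626, e3 q22131 L255050 q20315, e3 q22132 L255062 q20653, e3 q22133 L255074 q20295, e3 q22134 L255088 q20256, e3 q22135 L255102 q20244, e3 q22136 (flp_c L255110) q20132, e3 q22137 (flp_c L255120) q20135, e3 q22138 (flp_c L255130) q20138, e3 q22139 L255144 q20233, e3 q22140 (flp_c L255150) q20142, e3 q22141 L255164 q20226, e3 q22142 (flp_c L255170) q20147, e3 q22143 L255186 q22143,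 trivial⟩ (by decide +kernel)

theorem ce_c_346 : ∀ r, r < 64 → sm gc (Qf (22144 + r)) = Qf (tab Gen.c (22144 + r)) :=
  edges_tab (sm gc) Qf (tab Gen.c) 22144 [(22144, 21680), (22145, 20150), (22146, 22146), (22147, 21553), (22148, 20154), (22149, 20159), (22150, 20165), (22151, 22206), (22152, 20168), (22153, 21778), (22154, 22788), (22155, 20174), (22156, 20488), (22157, 22584), (22158, 20180), (22159, 20182), (22160, 22221), (22161, 20185), (22162, 21876), (22163, 22791), (22164, 20191), (22165, 20430), (22166, 22597), (22167, 20197), (22168, 22476), (22169, 21617), (22170, 22588), (22171, 20223), (22172, 22792), (22173, 21365), (22174, 21970), (22175, 22464), (22176, 21577), (22177, 22601), (22178, 20230), (22179, 22793), (22180, 21410), (22181, 22008), (22182, 22445), (22183, 22461), (22184, 20240), (22185, 22622), (22186, 22789), (22187, 21048), (22188, 20978), (22189, 22458), (22190, 22448), (22191, 20252), (22192, 22605), (22193, 22786), (22194, 21083), (22195, 21004), (22196, 20261), (22197, 20264), (22198,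 20265), (22199, 20267), (22200, 20270), (22201, 20272), (22202, 20275), (22203, 20276), (22204, 20278), (22205, 20281), (22206, 22151), (22207, 22238)]
    ⟨e3 q22144 (flp_c L255194) q21680, e3 q22145 (flp_c L255196) q20150, e3 q22146 L255212 q22146, e3 q22147 (flp_c L255220) q21553, e3 q22148 L255224 q20154, e3 q22149 L255232 q20159, e3 q22150 (flp_c L255238) q20165, e3 q22151 (flp_c L255762) q22206, e3 q22152 L255259 q20168, e3 q22153 L255269 q21778, e3 q22154 L261765 q22788, e3 q22155 (flp_c L255279) q20174, e3 q22156 L255295 q20488, e3 q22157 (flp_c L259662) q22584, e3 q22158 (flp_c L255307) q20180, e3 q22159 (flp_c L255319) q20182, e3 q22160 (flp_c L255919) q22221, e3 q22161 L255340 q20185, e3 q22162 L255350 q21876, e3 q22163 L261802 q22791, e3 q22164 (flp_c L255362) q20191, e3 q22165 L255378 q20430, e3 q22166 (flp_c L259796) q22597, e3 q22167 (flp_c L255390) q20197, e3 q22168 (flp_c L258512) q22476, e3 q22169 L255410 q21617, e3 q22170 L259710 q22588, e3 q22171 (flp_c L255422) q20223, e3 q22172 (flp_c L261818)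 q22792, e3 q22173 L255436 q21365, e3 q22174 L255444 q21970, e3 q22175 (flp_c L258374) q22464, e3 q22176 L255462 q21577, e3 q22177 L259844 q22601, e3 q22178 (flp_c L255474) q20230, e3 q22179 (flp_c L261828) q22793, e3 q22180 L255488 q21410, e3 q22181 L255496 q22008, e3 q22182 (flp_c L258159) q22445, e3 q22183 L258346 q22461, e3 q22184 (flp_c L255520) q20240, e3 q22185 L260066 q22622, e3 q22186 (flp_c L261781) q22789, e3 q22187 L255549 q21048, e3 q22188 L255563 q20978, e3 q22189 (flp_c L258300) q22458, e3 q22190 L258205 q22448, e3 q22191 (flp_c L255583) q20252, e3 q22192 L259892 q22605, e3 q22193 (flp_c L261744) q22786, e3 q22194 L255612 q21083, e3 q22195 L255626 q21004, e3 q22196 L255636 q20261, e3 q22197 L255648 q20264, e3 q22198 (flp_c L255658) q20265, e3 q22199 (flp_c L255670) q20267, e3 q22200 L255686 q20270, e3 q22201 L255698 q20272, e3 q22202 L255712 q20275, e3 q22203 (flp_c L255722) q20276, e3 q22204 (flp_c L255734) q20278, e3 q22205 L255750 q20281, e3 q22206 L255762 q22151, e3 q22207 L256106 q22238, trivial⟩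 (by decide +kernel)

theorem ce_c_347 : ∀ r, r < 64 → sm gc (Qf (22208 + r)) = Qf (tab Gen.c (22208 + r)) :=
  edges_tab (sm gc) Qf (tab Gen.c) 22208 [(22208, 22385), (22209, 20996), (22210, 21529), (22211, 20997), (22212, 20291), (22213, 20998), (22214, 21002), (22215, 21740), (22216, 22231), (22217, 21158), (22218, 21989), (22219, 21987), (22220, 22539), (22221, 22160), (22222, 22257), (22223, 22384), (22224, 20970), (22225, 21660), (22226, 20971), (22227, 20311), (22228, 20972), (22229, 21628), (22230, 20976), (22231, 22216), (22232, 21105), (22233, 21952), (22234, 21949), (22235, 22549), (22236, 20323), (22237, 20324), (22238, 22207), (22239, 20326), (22240, 21092), (22241, 20340), (22242, 21419), (22243, 20362), (22244, 22251), (22245, 22252), (22246, 22260), (22247, 22261), (22248, 20376), (22249, 21059), (22250, 22270), (22251, 22244), (22252, 22245), (22253, 22290), (22254, 20391), (22255, 20393), (22256, 20394), (22257, 22222), (22258, 21147), (22259, 21376), (22260, 22246), (22261, 22247), (22262, 20422),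 (22263, 21020), (22264, 20435), (22265, 20437), (22266, 20440), (22267, 22294), (22268, 20674), (22269, 21887), (22270, 22250), (22271, 20579)]
    ⟨e3 q22208 (flp_c L257588) q22385, e3 q22209 L255796 q20996, e3 q22210 L255804 q21529, e3 q22211 L255817 q20997, e3 q22212 (flp_c L255819) q20291, e3 q22213 L255837 q20998, e3 q22214 L255847 q21002, e3 q22215 L255859 q21740, e3 q22216 (flp_c L256030) q22231, e3 q22217 L255879 q21158, e3 q22218 L255889 q21989, e3 q22219 L255899 q21987, e3 q22220 (flp_c L259212) q22539, e3 q22221 L255919 q22160, e3 q22222 L256310 q22257, e3 q22223 (flp_c L257576) q22384, e3 q22224 L255953 q20970, e3 q22225 L255961 q21660, e3 q22226 L255974 q20971, e3 q22227 (flp_c L255976) q20311, e3 q22228 L255994 q20972, e3 q22229 L256002 q21628, e3 q22230 L256014 q20976, e3 q22231 L256030 q22216, e3 q22232 L256038 q21105, e3 q22233 L256048 q21952, e3 q22234 L256058 q21949, e3 q22235 (flp_c L259318) q22549, e3 q22236 (flp_c L256074) q20323, e3 q22237 (flp_c L256086) q20324, e3 q22238 (flp_c L256106)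 q22207, e3 q22239 (flp_c L256110) q20326, e3 q22240 L256128 q21092, e3 q22241 L256138 q20340, e3 q22242 L256156 q21419, e3 q22243 (flp_c L256158) q20362, e3 q22244 L256244 q22251, e3 q22245 (flp_c L256248) q22252, e3 q22246 L256346 q22260, e3 q22247 (flp_c L256352) q22261, e3 q22248 L256208 q20376, e3 q22249 L256218 q21059, e3 q22250 (flp_c L256464) q22270, e3 q22251 (flp_c L256244) q22244, e3 q22252 L256248 q22245, e3 q22253 (flp_c L256669) q22290, e3 q22254 L256270 q20391, e3 q22255 (flp_c L256278) q20393, e3 q22256 (flp_c L256290) q20394, e3 q22257 (flp_c L256310) q22222, e3 q22258 L256318 q21147, e3 q22259 L256332 q21376, e3 q22260 (flp_c L256346) q22246, e3 q22261 L256352 q22247, e3 q22262 L256366 q20422, e3 q22263 L256376 q21020, e3 q22264 (flp_c L256386) q20435, e3 q22265 L256404 q20437, e3 q22266 L256416 q20440, e3 q22267 (flp_c L256709) q22294, e3 q22268 L256438 q20674, e3 q22269 L256454 q21887, e3 q22270 L256464 q22250, e3 q22271 L256474 q20579, trivial⟩ (by decide +kernel)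

theorem ce_c_348 : ∀ r, r < 64 → sm gc (Qf (22272 + r)) = Qf (tab Gen.c (22272 + r)) :=
  edges_tab (sm gc) Qf (tab Gen.c) 22272 [(22272, 20580), (22273, 22295), (22274, 20772), (22275, 22465), (22276, 22287), (22277, 22277), (22278, 22606), (22279, 20479), (22280, 21086), (22281, 22719), (22282, 21188), (22283, 21186), (22284, 20493), (22285, 20495), (22286, 20498), (22287, 22276), (22288, 20673), (22289, 21793), (22290, 22253), (22291, 20554), (22292, 20555), (22293, 22477), (22294, 22267), (22295, 22273), (22296, 20786), (22297, 22621), (22298, 20537), (22299, 22724), (22300, 21051), (22301, 21136), (22302, 21134), (22303, 20547), (22304, 20562), (22305, 21935), (22306, 21465), (22307, 20560), (22308, 22804), (22309, 22806), (22310, 22808), (22311, 20561), (22312, 22802), (22313, 22809), (22314, 22378), (22315, 21843), (22316, 22316), (22317, 21861), (22318, 21507), (22319, 20613), (22320, 22320), (22321, 20615), (22322, 20616), (22323, 22323), (22324, 20618), (22325, 22763), (22326, 22767), (22327, 22475),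 (22328, 22765), (22329, 20627), (22330, 22779), (22331, 22345), (22332, 22119), (22333, 20630), (22334, 20632), (22335, 22734)]
    ⟨e3 q22272 L256484 q20580, e3 q22273 (flp_c L256721) q22295, e3 q22274 L256497 q20772, e3 q22275 L258388 q22465, e3 q22276 (flp_c L256631) q22287, e3 q22277 L256530 q22277, e3 q22278 (flp_c L259900) q22606, e3 q22279 L256543 q20479, e3 q22280 L256557 q21086, e3 q22281 L261074 q22719, e3 q22282 L256575 q21188, e3 q22283 L256581 q21186, e3 q22284 (flp_c L256587) q20493, e3 q22285 L256605 q20495, e3 q22286 L256617 q20498, e3 q22287 L256631 q22276, e3 q22288 L256643 q20673, e3 q22289 L256659 q21793, e3 q22290 L256669 q22253, e3 q22291 L256679 q20554, e3 q22292 L256689 q20555, e3 q22293 L258526 q22477, e3 q22294 L256709 q22267, e3 q22295 L256721 q22273, e3 q22296 L256728 q20786, e3 q22297 (flp_c L260050) q22621, e3 q22298 L256748 q20537, e3 q22299 (flp_c L261120) q22724, e3 q22300 L256774 q21051, e3 q22301 L256782 q21136, e3 q22302 L256788 q21134, e3 q22303 L256800 q20547, e3 q22304 (flp_c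 L256820) q20562, e3 q22305 L256824 q21935, e3 q22306 (flp_c L256842) q21465, e3 q22307 L256850 q20560, e3 q22308 L261943 q22804, e3 q22309 L261959 q22806, e3 q22310 L261979 q22808, e3 q22311 (flp_c L256882) q20561, e3 q22312 (flp_c L261926) q22802, e3 q22313 L261988 q22809, e3 q22314 (flp_c L257527) q22378, e3 q22315 L256913 q21843, e3 q22316 L256925 q22316, e3 q22317 L256933 q21861, e3 q22318 (flp_c L256955) q21507, e3 q22319 (flp_c L256957) q20613, e3 q22320 L256963 q22320, e3 q22321 L256967 q20615, e3 q22322 (flp_c L256971) q20616, e3 q22323 L256985 q22323, e3 q22324 L256989 q20618, e3 q22325 (flp_c L261516) q22763, e3 q22326 (flp_c L261560) q22767, e3 q22327 (flp_c L258502) q22475, e3 q22328 (flp_c L261540) q22765, e3 q22329 (flp_c L257027) q20627, e3 q22330 (flp_c L261668) q22779, e3 q22331 (flp_c L257161) q22345, e3 q22332 L257053 q22119, e3 q22333 L257063 q20630, e3 q22334 L257073 q20632, e3 q22335 (flp_c L261234) q22734, trivial⟩ (by decide +kernel)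

theorem ce_c_349 : ∀ r, r < 64 → sm gc (Qf (22336 + r)) = Qf (tab Gen.c (22336 + r)) :=
  edges_tab (sm gc) Qf (tab Gen.c) 22336 [(22336, 20635), (22337, 20639), (22338, 20640), (22339, 22774), (22340, 22768), (22341, 22463), (22342, 22775), (22343, 20654), (22344, 22780), (22345, 22331), (22346, 22108), (22347, 20657), (22348, 20659), (22349, 22744), (22350, 20665), (22351, 22124), (22352, 20963), (22353, 22010), (22354, 21040), (22355, 22507), (22356, 21972), (22357, 21412), (22358, 20709), (22359, 22128), (22360, 20935), (22361, 21077), (22362, 22530), (22363, 21367), (22364, 20742), (22365, 21639), (22366, 21924), (22367, 21604), (22368, 22373), (22369, 22369), (22370, 21745), (22371, 21721), (22372, 21849), (22373, 22368), (22374, 20780), (22375, 21834), (22376, 22810), (22377, 20776), (22378, 22314), (22379, 22828), (22380, 22678), (22381, 22383), (22382, 22679), (22383, 22381), (22384, 22223), (22385, 22208), (22386, 20850), (22387, 22028), (22388, 22785), (22389, 20857), (22390, 22042), (22391, 22784),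 (22392, 20863), (22393, 22833), (22394, 21071), (22395, 20864), (22396, 21399), (22397, 20949), (22398, 22832), (22399, 20888)]
    ⟨e3 q22336 (flp_c L257083) q20635, e3 q22337 (flp_c L257103) q20639, e3 q22338 L257111 q20640, e3 q22339 (flp_c L261613) q22774, e3 q22340 (flp_c L261568) q22768, e3 q22341 (flp_c L258364) q22463, e3 q22342 (flp_c L261627) q22775, e3 q22343 (flp_c L257147) q20654, e3 q22344 (flp_c L261682) q22780, e3 q22345 L257161 q22331, e3 q22346 L257169 q22108, e3 q22347 L257179 q20657, e3 q22348 L257189 q20659, e3 q22349 (flp_c L261346) q22744, e3 q22350 L257207 q20665, e3 q22351 L257217 q22124, e3 q22352 L257229 q20963, e3 q22353 L257241 q22010, e3 q22354 L257255 q21040, e3 q22355 (flp_c L258852) q22507, e3 q22356 (flp_c L257285) q21972, e3 q22357 L257293 q21412, e3 q22358 (flp_c L257300) q20709, e3 q22359 L257315 q22128, e3 q22360 L257327 q20935, e3 q22361 L257339 q21077, e3 q22362 (flp_c L259111) q22530, e3 q22363 L257363 q21367, e3 q22364 (flp_c L257370) q20742, e3 q22365 (flp_c L257389) q21639,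 e3 q22366 L257397 q21924, e3 q22367 L257405 q21604, e3 q22368 (flp_c L257474) q22373, e3 q22369 L257423 q22369, e3 q22370 (flp_c L257438) q21745, e3 q22371 L257448 q21721, e3 q22372 L257462 q21849, e3 q22373 L257474 q22368, e3 q22374 L257481 q20780, e3 q22375 L257495 q21834, e3 q22376 (flp_c L262007) q22810, e3 q22377 (flp_c L257511) q20776, e3 q22378 L257527 q22314, e3 q22379 L262169 q22828, e3 q22380 L260614 q22678, e3 q22381 (flp_c L257566) q22383, e3 q22382 (flp_c L260620) q22679, e3 q22383 L257566 q22381, e3 q22384 L257576 q22223, e3 q22385 L257588 q22208, e3 q22386 (flp_c L257598) q20850, e3 q22387 L257612 q22028, e3 q22388 (flp_c L261730) q22785, e3 q22389 (flp_c L257624) q20857, e3 q22390 L257638 q22042, e3 q22391 (flp_c L261716) q22784, e3 q22392 L257654 q20863, e3 q22393 L262221 q22833, e3 q22394 L257680 q21071, e3 q22395 (flp_c L257682) q20864, e3 q22396 L257696 q21399, e3 q22397 L257708 q20949, e3 q22398 L262219 q22832, e3 q22399 L257730 q20888, trivial⟩ (by decide +kernel)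

theorem ce_c_350 : ∀ r, r < 64 → sm gc (Qf (22400 + r)) = Qf (tab Gen.c (22400 + r)) :=
  edges_tab (sm gc) Qf (tab Gen.c) 22400 [(22400, 21034), (22401, 20887), (22402, 21353), (22403, 20920), (22404, 21953), (22405, 22546), (22406, 20914), (22407, 22698), (22408, 20915), (22409, 22835), (22410, 20918), (22411, 21218), (22412, 21284), (22413, 20954), (22414, 20922), (22415, 22837), (22416, 20924), (22417, 22838), (22418, 20925), (22419, 20951), (22420, 20927), (22421, 20929), (22422, 20953), (22423, 21991), (22424, 22555), (22425, 20943), (22426, 22646), (22427, 20944), (22428, 22842), (22429, 20947), (22430, 21198), (22431, 21289), (22432, 22839), (22433, 22841), (22434, 20956), (22435, 20958), (22436, 22845), (22437, 21537), (22438, 20966), (22439, 21356), (22440, 21053), (22441, 22790), (22442, 21103), (22443, 20974), (22444, 21322), (22445, 22182), (22446, 20981), (22447, 20983), (22448, 22190), (22449, 22847), (22450, 21667), (22451, 20992), (22452, 21401), (22453, 21088), (22454, 22787), (22455, 21156),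 (22456, 21000), (22457, 21311), (22458, 22189), (22459, 21007), (22460, 21009), (22461, 22183), (22462, 21241), (22463, 22341)]
    ⟨e3 q22400 L257748 q21034, e3 q22401 (flp_c L257750) q20887, e3 q22402 L257764 q21353, e3 q22403 L257776 q20920, e3 q22404 L257792 q21953, e3 q22405 (flp_c L259286) q22546, e3 q22406 (flp_c L257802) q20914, e3 q22407 (flp_c L260832) q22698, e3 q22408 (flp_c L257818) q20915, e3 q22409 (flp_c L262245) q22835, e3 q22410 L257832 q20918, e3 q22411 L257836 q21218, e3 q22412 L257848 q21284, e3 q22413 (flp_c L257866) q20954, e3 q22414 (flp_c L257870) q20922, e3 q22415 (flp_c L262263) q22837, e3 q22416 L257890 q20924, e3 q22417 (flp_c L262277) q22838, e3 q22418 (flp_c L257910) q20925, e3 q22419 L257930 q20951, e3 q22420 L257938 q20927, e3 q22421 L257946 q20929, e3 q22422 L257956 q20953, e3 q22423 L257966 q21991, e3 q22424 (flp_c L259386) q22555, e3 q22425 (flp_c L257976) q20943, e3 q22426 (flp_c L260307) q22646, e3 q22427 (flp_c L257992) q20944, e3 q22428 (flp_c L262325) q22842, e3 q22429 L258006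 q20947, e3 q22430 L258010 q21198, e3 q22431 L258022 q21289, e3 q22432 (flp_c L262291) q22839, e3 q22433 (flp_c L262311) q22841, e3 q22434 L258054 q20956, e3 q22435 L258062 q20958, e3 q22436 L262353 q22845, e3 q22437 L258072 q21537, e3 q22438 (flp_c L258077) q20966, e3 q22439 L258093 q21356, e3 q22440 (flp_c L258111) q21053, e3 q22441 L261800 q22790, e3 q22442 L258127 q21103, e3 q22443 L258137 q20974, e3 q22444 L258147 q21322, e3 q22445 L258159 q22182, e3 q22446 L258171 q20981, e3 q22447 L258185 q20983, e3 q22448 (flp_c L258205) q22190, e3 q22449 L262377 q22847, e3 q22450 L258213 q21667, e3 q22451 (flp_c L258218) q20992, e3 q22452 L258234 q21401, e3 q22453 (flp_c L258252) q21088, e3 q22454 L261763 q22787, e3 q22455 L258268 q21156, e3 q22456 L258278 q21000, e3 q22457 L258288 q21311, e3 q22458 L258300 q22189, e3 q22459 L258312 q21007, e3 q22460 L258326 q21009, e3 q22461 (flp_c L258346) q22183, e3 q22462 L258350 q21241, e3 q22463 L258364 q22341, trivial⟩ (by decide +kernel)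

theorem ce_c_351 : ∀ r, r < 64 → sm gc (Qf (22464 + r)) = Qf (tab Gen.c (22464 + r)) :=
  edges_tab (sm gc) Qf (tab Gen.c) 22464 [(22464, 22175), (22465, 22275), (22466, 21037), (22467, 22517), (22468, 21171), (22469, 21043), (22470, 21541), (22471, 22608), (22472, 21420), (22473, 22514), (22474, 21252), (22475, 22327), (22476, 22168), (22477, 22293), (22478, 21074), (22479, 22491), (22480, 21112), (22481, 21080), (22482, 21671), (22483, 22623), (22484, 21375), (22485, 22535), (22486, 22515), (22487, 22690), (22488, 21093), (22489, 21149), (22490, 21094), (22491, 22479), (22492, 22634), (22493, 21102), (22494, 21711), (22495, 21697), (22496, 22521), (22497, 21809), (22498, 22728), (22499, 21109), (22500, 21999), (22501, 21695), (22502, 22525), (22503, 21168), (22504, 21118), (22505, 22007), (22506, 21128), (22507, 22355), (22508, 21137), (22509, 22727), (22510, 21547), (22511, 22772), (22512, 21676), (22513, 21142), (22514, 22473), (22515, 22486), (22516, 21148), (22517, 22467), (22518, 21155), (22519, 21593),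 (22520, 21570), (22521, 22496), (22522, 21815), (22523, 22741), (22524, 21162), (22525, 22502), (22526, 21961), (22527, 21569)]
    ⟨e3 q22464 L258374 q22175, e3 q22465 (flp_c L258388) q22275, e3 q22466 L258394 q21037, e3 q22467 (flp_c L258967) q22517, e3 q22468 L258416 q21171, e3 q22469 (flp_c L258424) q21043, e3 q22470 (flp_c L258448) q21541, e3 q22471 L259928 q22608, e3 q22472 (flp_c L258472) q21420, e3 q22473 (flp_c L258933) q22514, e3 q22474 L258488 q21252, e3 q22475 L258502 q22327, e3 q22476 L258512 q22168, e3 q22477 (flp_c L258526) q22293, e3 q22478 L258532 q21074, e3 q22479 (flp_c L258680) q22491, e3 q22480 L258554 q21112, e3 q22481 (flp_c L258562) q21080, e3 q22482 (flp_c L258586) q21671, e3 q22483 L260078 q22623, e3 q22484 (flp_c L258610) q21375, e3 q22485 (flp_c L259166) q22535, e3 q22486 (flp_c L258945) q22515, e3 q22487 (flp_c L260743) q22690, e3 q22488 (flp_c L258646) q21093, e3 q22489 (flp_c L258666) q21149, e3 q22490 (flp_c L258668) q21094, e3 q22491 L258680 q22479, e3 q22492 (flp_c L260192) q22634,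 e3 q22493 (flp_c L258696) q21102, e3 q22494 L258710 q21711, e3 q22495 L258724 q21697, e3 q22496 (flp_c L259015) q22521, e3 q22497 L258746 q21809, e3 q22498 (flp_c L261176) q22728, e3 q22499 (flp_c L258764) q21109, e3 q22500 L258774 q21999, e3 q22501 L258786 q21695, e3 q22502 (flp_c L259053) q22525, e3 q22503 L258808 q21168, e3 q22504 L258820 q21118, e3 q22505 L258832 q22007, e3 q22506 (flp_c L258834) q21128, e3 q22507 L258852 q22355, e3 q22508 L258864 q21137, e3 q22509 (flp_c L261160) q22727, e3 q22510 L258884 q21547, e3 q22511 (flp_c L261602) q22772, e3 q22512 L258905 q21676, e3 q22513 L258917 q21142, e3 q22514 L258933 q22473, e3 q22515 L258945 q22486, e3 q22516 (flp_c L258953) q21148, e3 q22517 L258967 q22467, e3 q22518 (flp_c L258971) q21155, e3 q22519 L258985 q21593, e3 q22520 L258999 q21570, e3 q22521 L259015 q22496, e3 q22522 L259025 q21815, e3 q22523 (flp_c L261312) q22741, e3 q22524 (flp_c L259043) q21162, e3 q22525 L259053 q22502, e3 q22526 L259065 q21961, e3 q22527 L259077 q21569, trivial⟩ (by decide +kernel)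

theorem ce_c_352 : ∀ r, r < 64 → sm gc (Qf (22528 + r)) = Qf (tab Gen.c (22528 + r)) :=
  edges_tab (sm gc) Qf (tab Gen.c) 22528 [(22528, 21969), (22529, 21181), (22530, 22362), (22531, 21187), (22532, 22740), (22533, 22760), (22534, 21191), (22535, 22485), (22536, 21696), (22537, 21692), (22538, 21228), (22539, 22220), (22540, 21209), (22541, 22748), (22542, 21210), (22543, 22766), (22544, 21212), (22545, 22078), (22546, 22405), (22547, 21571), (22548, 21566), (22549, 22235), (22550, 22745), (22551, 21229), (22552, 22762), (22553, 21231), (22554, 22091), (22555, 22424), (22556, 22110), (22557, 21244), (22558, 22121), (22559, 21255), (22560, 21266), (22561, 21268), (22562, 22592), (22563, 21275), (22564, 21277), (22565, 22579), (22566, 21629), (22567, 21630), (22568, 21741), (22569, 21742), (22570, 21318), (22571, 21307), (22572, 22575), (22573, 21717), (22574, 21859), (22575, 22572), (22576, 21600), (22577, 21933), (22578, 21591), (22579, 22565), (22580, 21372), (22581, 22631), (22582, 21381), (22583, 21385),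 (22584, 22157), (22585, 21388), (22586, 21389), (22587, 22859), (22588, 22170), (22589, 21391), (22590, 21394), (22591, 21649)]
    ⟨e3 q22528 L259091 q21969, e3 q22529 (flp_c L259093) q21181, e3 q22530 L259111 q22362, e3 q22531 L259123 q21187, e3 q22532 (flp_c L261296) q22740, e3 q22533 (flp_c L261497) q22760, e3 q22534 L259150 q21191, e3 q22535 L259166 q22485, e3 q22536 L259176 q21696, e3 q22537 L259192 q21692, e3 q22538 L259204 q21228, e3 q22539 L259212 q22220, e3 q22540 (flp_c L259220) q21209, e3 q22541 (flp_c L261386) q22748, e3 q22542 (flp_c L259240) q21210, e3 q22543 (flp_c L261554) q22766, e3 q22544 L259266 q21212, e3 q22545 L259276 q22078, e3 q22546 L259286 q22405, e3 q22547 L259292 q21571, e3 q22548 L259308 q21566, e3 q22549 L259318 q22235, e3 q22550 (flp_c L261358) q22745, e3 q22551 (flp_c L259338) q21229, e3 q22552 (flp_c L261512) q22762, e3 q22553 L259364 q21231, e3 q22554 L259376 q22091, e3 q22555 L259386 q22424, e3 q22556 L259394 q22110, e3 q22557 (flp_c L259397) q21244, e3 q22558 L259415 q22121,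 e3 q22559 (flp_c L259418) q21255, e3 q22560 (flp_c L259432) q21266, e3 q22561 L259446 q21268, e3 q22562 (flp_c L259750) q22592, e3 q22563 (flp_c L259464) q21275, e3 q22564 L259478 q21277, e3 q22565 (flp_c L259622) q22579, e3 q22566 (flp_c L259503) q21629, e3 q22567 L259508 q21630, e3 q22568 (flp_c L259519) q21741, e3 q22569 L259524 q21742, e3 q22570 L259532 q21318, e3 q22571 (flp_c L259540) q21307, e3 q22572 (flp_c L259580) q22575, e3 q22573 (flp_c L259568) q21717, e3 q22574 L259572 q21859, e3 q22575 L259580 q22572, e3 q22576 (flp_c L259599) q21600, e3 q22577 L259603 q21933, e3 q22578 (flp_c L259616) q21591, e3 q22579 L259622 q22565, e3 q22580 (flp_c L259626) q21372, e3 q22581 (flp_c L260156) q22631, e3 q22582 (flp_c L259642) q21381, e3 q22583 (flp_c L259648) q21385, e3 q22584 L259662 q22157, e3 q22585 (flp_c L259670) q21388, e3 q22586 (flp_c L259682) q21389, e3 q22587 (flp_c L262537) q22859, e3 q22588 (flp_c L259710) q22170, e3 q22589 L259714 q21391, e3 q22590 L259724 q21394, e3 q22591 (flp_c L259742) q21649, trivial⟩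 (by decide +kernel)

theorem ce_c_353 : ∀ r, r < 64 → sm gc (Qf (22592 + r)) = Qf (tab Gen.c (22592 + r)) :=
  edges_tab (sm gc) Qf (tab Gen.c) 22592 [(22592, 22562), (22593, 21416), (22594, 22617), (22595, 21425), (22596, 21429), (22597, 22166), (22598, 21432), (22599, 21433), (22600, 22860), (22601, 22177), (22602, 21435), (22603, 21437), (22604, 21444), (22605, 22192), (22606, 22278), (22607, 21454), (22608, 22471), (22609, 21462), (22610, 21496), (22611, 21484), (22612, 22861), (22613, 21471), (22614, 22844), (22615, 21472), (22616, 21474), (22617, 22594), (22618, 22816), (22619, 22083), (22620, 21481), (22621, 22297), (22622, 22185), (22623, 22483), (22624, 21504), (22625, 21525), (22626, 22862), (22627, 21513), (22628, 22840), (22629, 21514), (22630, 21516), (22631, 22581), (22632, 22812), (22633, 22070), (22634, 22492), (22635, 22638), (22636, 22645), (22637, 21536), (22638, 22635), (22639, 22712), (22640, 21581), (22641, 21558), (22642, 22858), (22643, 21560), (22644, 22773), (22645, 22636), (22646, 22426),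 (22647, 21819), (22648, 21573), (22649, 21575), (22650, 22682), (22651, 22666), (22652, 21583), (22653, 22663), (22654, 21585), (22655, 22742)]
    ⟨e3 q22592 L259750 q22562, e3 q22593 (flp_c L259756) q21416, e3 q22594 (flp_c L260002) q22617, e3 q22595 (flp_c L259774) q21425, e3 q22596 (flp_c L259782) q21429, e3 q22597 L259796 q22166, e3 q22598 (flp_c L259804) q21432, e3 q22599 (flp_c L259816) q21433, e3 q22600 (flp_c L262549) q22860, e3 q22601 (flp_c L259844) q22177, e3 q22602 L259850 q21435, e3 q22603 L259862 q21437, e3 q22604 L259876 q21444, e3 q22605 (flp_c L259892) q22192, e3 q22606 L259900 q22278, e3 q22607 L259906 q21454, e3 q22608 (flp_c L259928) q22471, e3 q22609 (flp_c L259930) q21462, e3 q22610 L259950 q21496, e3 q22611 L259962 q21484, e3 q22612 L262559 q22861, e3 q22613 (flp_c L259976) q21471, e3 q22614 (flp_c L262347) q22844, e3 q22615 (flp_c L259992) q21472, e3 q22616 L259998 q21474, e3 q22617 L260002 q22594, e3 q22618 (flp_c L262059) q22816, e3 q22619 L260024 q22083, e3 q22620 (flp_c L260032) q21481,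 e3 q22621 L260050 q22297, e3 q22622 (flp_c L260066) q22185, e3 q22623 (flp_c L260078) q22483, e3 q22624 (flp_c L260080) q21504, e3 q22625 L260098 q21525, e3 q22626 L262571 q22862, e3 q22627 (flp_c L260118) q21513, e3 q22628 (flp_c L262305) q22840, e3 q22629 (flp_c L260138) q21514, e3 q22630 L260148 q21516, e3 q22631 L260156 q22581, e3 q22632 (flp_c L262027) q22812, e3 q22633 L260178 q22070, e3 q22634 L260192 q22492, e3 q22635 L260225 q22638, e3 q22636 (flp_c L260296) q22645, e3 q22637 (flp_c L260215) q21536, e3 q22638 (flp_c L260225) q22635, e3 q22639 (flp_c L260990) q22712, e3 q22640 L260243 q21581, e3 q22641 (flp_c L260250) q21558, e3 q22642 (flp_c L262526) q22858, e3 q22643 (flp_c L260272) q21560, e3 q22644 (flp_c L261609) q22773, e3 q22645 L260296 q22636, e3 q22646 L260307 q22426, e3 q22647 L260317 q21819, e3 q22648 L260333 q21573, e3 q22649 L260347 q21575, e3 q22650 (flp_c L260653) q22682, e3 q22651 (flp_c L260490) q22666, e3 q22652 L260367 q21583, e3 q22653 (flp_c L260470) q22663, e3 q22654 (flp_c L260380)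 q21585, e3 q22655 (flp_c L261322) q22742, trivial⟩ (by decide +kernel)

theorem ce_c_354 : ∀ r, r < 64 → sm gc (Qf (22656 + r)) = Qf (tab Gen.c (22656 + r)) :=
  edges_tab (sm gc) Qf (tab Gen.c) 22656 [(22656, 22665), (22657, 21647), (22658, 21589), (22659, 21759), (22660, 21599), (22661, 21700), (22662, 21611), (22663, 22653), (22664, 22707), (22665, 22656), (22666, 22651), (22667, 21626), (22668, 21615), (22669, 22753), (22670, 21646), (22671, 22685), (22672, 22692), (22673, 22697), (22674, 22686), (22675, 21625), (22676, 21636), (22677, 21634), (22678, 22380), (22679, 22382), (22680, 21642), (22681, 21901), (22682, 22650), (22683, 22865), (22684, 21753), (22685, 22671), (22686, 22674), (22687, 22717), (22688, 21651), (22689, 21655), (22690, 22487), (22691, 21666), (22692, 22672), (22693, 21684), (22694, 22857), (22695, 21686), (22696, 22761), (22697, 22673), (22698, 22407), (22699, 21904), (22700, 21699), (22701, 22715), (22702, 22708), (22703, 21705), (22704, 22730), (22705, 21716), (22706, 21725), (22707, 22664),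 (22708, 22702), (22709, 21738), (22710, 22757), (22711, 21752), (22712, 22639), (22713, 21748), (22714, 21813), (22715, 22701), (22716, 22870), (22717, 22687), (22718, 21766), (22719, 22281)]
    ⟨e3 q22656 (flp_c L260480) q22665, e3 q22657 L260412 q21647, e3 q22658 (flp_c L260416) q21589, e3 q22659 L260430 q21759, e3 q22660 L260443 q21599, e3 q22661 L260450 q21700, e3 q22662 L260458 q21611, e3 q22663 L260470 q22653, e3 q22664 (flp_c L260936) q22707, e3 q22665 L260480 q22656, e3 q22666 L260490 q22651, e3 q22667 L260502 q21626, e3 q22668 (flp_c L260510) q21615, e3 q22669 (flp_c L261424) q22753, e3 q22670 L260532 q21646, e3 q22671 (flp_c L260683) q22685, e3 q22672 (flp_c L260767) q22692, e3 q22673 (flp_c L260821) q22697, e3 q22674 (flp_c L260697) q22686, e3 q22675 (flp_c L260565) q21625, e3 q22676 L260581 q21636, e3 q22677 L260594 q21634, e3 q22678 (flp_c L260614) q22380, e3 q22679 L260620 q22382, e3 q22680 L260631 q21642, e3 q22681 L260645 q21901, e3 q22682 L260653 q22650, e3 q22683 (flp_c L262599) q22865, e3 q22684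 L260669 q21753, e3 q22685 L260683 q22671, e3 q22686 L260697 q22674, e3 q22687 L261052 q22717, e3 q22688 L260717 q21651, e3 q22689 L260731 q21655, e3 q22690 L260743 q22487, e3 q22691 (flp_c L260753) q21666, e3 q22692 L260767 q22672, e3 q22693 (flp_c L260773) q21684, e3 q22694 (flp_c L262513) q22857, e3 q22695 (flp_c L260795) q21686, e3 q22696 (flp_c L261504) q22761, e3 q22697 L260821 q22673, e3 q22698 L260832 q22407, e3 q22699 L260844 q21904, e3 q22700 L260860 q21699, e3 q22701 (flp_c L261026) q22715, e3 q22702 (flp_c L260948) q22708, e3 q22703 (flp_c L260884) q21705, e3 q22704 (flp_c L261198) q22730, e3 q22705 L260909 q21716, e3 q22706 L260920 q21725, e3 q22707 L260936 q22664, e3 q22708 L260948 q22702, e3 q22709 L260958 q21738, e3 q22710 (flp_c L261466) q22757, e3 q22711 L260976 q21752, e3 q22712 L260990 q22639, e3 q22713 L261002 q21748, e3 q22714 L261018 q21813, e3 q22715 L261026 q22701, e3 q22716 (flp_c L262654) q22870, e3 q22717 (flp_c L261052) q22687, e3 q22718 L261058 q21766, e3 q22719 (flp_c L261074) q22281,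 trivial⟩ (by decide +kernel)

theorem ce_c_355 : ∀ r, r < 64 → sm gc (Qf (22720 + r)) = Qf (tab Gen.c (22720 + r)) :=
  edges_tab (sm gc) Qf (tab Gen.c) 22720 [(22720, 22737), (22721, 22074), (22722, 22776), (22723, 21783), (22724, 22299), (22725, 22087), (22726, 21948), (22727, 22509), (22728, 22498), (22729, 21807), (22730, 22704), (22731, 21828), (22732, 22732), (22733, 22823), (22734, 22335), (22735, 21897), (22736, 21872), (22737, 22720), (22738, 22764), (22739, 21986), (22740, 22532), (22741, 22523), (22742, 22655), (22743, 22820), (22744, 22349), (22745, 22550), (22746, 22755), (22747, 22751), (22748, 22541), (22749, 22020), (22750, 22035), (22751, 22747), (22752, 22852), (22753, 22669), (22754, 22081), (22755, 22746), (22756, 22854), (22757, 22710), (22758, 22094), (22759, 22097), (22760, 22533), (22761, 22696), (22762, 22552), (22763, 22325), (22764, 22738), (22765, 22328), (22766, 22543), (22767, 22326), (22768, 22340), (22769, 22794), (22770, 22855), (22771, 22114), (22772, 22511), (22773, 22644), (22774,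 22339), (22775, 22342), (22776, 22722), (22777, 22795), (22778, 22856), (22779, 22330), (22780, 22344), (22781, 22781), (22782, 22782), (22783, 22783)]
    ⟨e3 q22720 (flp_c L261262) q22737, e3 q22721 L261086 q22074, e3 q22722 (flp_c L261639) q22776, e3 q22723 (flp_c L261104) q21783, e3 q22724 L261120 q22299, e3 q22725 L261134 q22087, e3 q22726 L261148 q21948, e3 q22727 L261160 q22509, e3 q22728 L261176 q22498, e3 q22729 L261188 q21807, e3 q22730 L261198 q22704, e3 q22731 L261210 q21828, e3 q22732 L261220 q22732, e3 q22733 (flp_c L262125) q22823, e3 q22734 L261234 q22335, e3 q22735 L261242 q21897, e3 q22736 L261252 q21872, e3 q22737 L261262 q22720, e3 q22738 (flp_c L261528) q22764, e3 q22739 L261284 q21986, e3 q22740 L261296 q22532, e3 q22741 L261312 q22523, e3 q22742 L261322 q22655, e3 q22743 (flp_c L262095) q22820, e3 q22744 L261346 q22349, e3 q22745 L261358 q22550, e3 q22746 (flp_c L261444) q22755, e3 q22747 (flp_c L261402) q22751, e3 q22748 L261386 q22541, e3 q22749 (flp_c L261390) q22020, e3 q22750 (flp_c L261394)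 q22035, e3 q22751 L261402 q22747, e3 q22752 (flp_c L262445) q22852, e3 q22753 L261424 q22669, e3 q22754 (flp_c L261428) q22081, e3 q22755 L261444 q22746, e3 q22756 (flp_c L262471) q22854, e3 q22757 L261466 q22710, e3 q22758 (flp_c L261470) q22094, e3 q22759 L261488 q22097, e3 q22760 L261497 q22533, e3 q22761 L261504 q22696, e3 q22762 L261512 q22552, e3 q22763 L261516 q22325, e3 q22764 L261528 q22738, e3 q22765 L261540 q22328, e3 q22766 L261554 q22543, e3 q22767 L261560 q22326, e3 q22768 L261568 q22340, e3 q22769 L261845 q22794, e3 q22770 (flp_c L262483) q22855, e3 q22771 L261593 q22114, e3 q22772 L261602 q22511, e3 q22773 L261609 q22644, e3 q22774 L261613 q22339, e3 q22775 L261627 q22342, e3 q22776 L261639 q22722, e3 q22777 L261856 q22795, e3 q22778 (flp_c L262497) q22856, e3 q22779 L261668 q22330, e3 q22780 L261682 q22344, e3 q22781 L261695 q22781, e3 q22782 L261699 q22782, e3 q22783 L261709 q22783, trivial⟩ (by decide +kernel)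

theorem ce_c_356 : ∀ r, r < 64 → sm gc (Qf (22784 + r)) = Qf (tab Gen.c (22784 + r)) :=
  edges_tab (sm gc) Qf (tab Gen.c) 22784 [(22784, 22391), (22785, 22388), (22786, 22193), (22787, 22454), (22788, 22154), (22789, 22186), (22790, 22441), (22791, 22163), (22792, 22172), (22793, 22179), (22794, 22769), (22795, 22777), (22796, 22797), (22797, 22796), (22798, 22800), (22799, 22799), (22800, 22798), (22801, 22801), (22802, 22312), (22803, 22877), (22804, 22308), (22805, 22878), (22806, 22309), (22807, 22807), (22808, 22310), (22809, 22313), (22810, 22376), (22811, 22811), (22812, 22632), (22813, 22813), (22814, 22814), (22815, 22825), (22816, 22618), (22817, 22824), (22818, 22874), (22819, 22822), (22820, 22743), (22821, 22875), (22822, 22819), (22823, 22733), (22824, 22817), (22825, 22815), (22826, 22827), (22827, 22826), (22828, 22379), (22829, 22879), (22830, 22869), (22831, 22851), (22832, 22398), (22833, 22393), (22834, 22853), (22835, 22409), (22836, 22848), (22837, 22415), (22838, 22417), (22839, 22432),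 (22840, 22628), (22841, 22433), (22842, 22428), (22843, 22846), (22844, 22614), (22845, 22436), (22846, 22843), (22847, 22449)]
    ⟨e3 q22784 L261716 q22391, e3 q22785 L261730 q22388, e3 q22786 L261744 q22193, e3 q22787 (flp_c L261763) q22454, e3 q22788 (flp_c L261765) q22154, e3 q22789 L261781 q22186, e3 q22790 (flp_c L261800) q22441, e3 q22791 (flp_c L261802) q22163, e3 q22792 L261818 q22172, e3 q22793 L261828 q22179, e3 q22794 (flp_c L261845) q22769, e3 q22795 (flp_c L261856) q22777, e3 q22796 (flp_c L261876) q22797, e3 q22797 L261876 q22796, e3 q22798 (flp_c L261905) q22800, e3 q22799 L261895 q22799, e3 q22800 L261905 q22798, e3 q22801 L261916 q22801, e3 q22802 L261926 q22312, e3 q22803 L262744 q22877, e3 q22804 (flp_c L261943) q22308, e3 q22805 L262756 q22878, e3 q22806 (flp_c L261959) q22309, e3 q22807 L261978 q22807, e3 q22808 (flp_c L261979) q22310, e3 q22809 (flp_c L261988) q22313, e3 q22810 L262007 q22376, e3 q22811 L262019 q22811, e3 q22812 L262027 q22632, e3 q22813 L262036 q22813, e3 q22814 L262042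 q22814, e3 q22815 (flp_c L262149) q22825, e3 q22816 L262059 q22618, e3 q22817 (flp_c L262137) q22824, e3 q22818 (flp_c L262710) q22874, e3 q22819 (flp_c L262117) q22822, e3 q22820 L262095 q22743, e3 q22821 (flp_c L262722) q22875, e3 q22822 L262117 q22819, e3 q22823 L262125 q22733, e3 q22824 L262137 q22817, e3 q22825 L262149 q22815, e3 q22826 (flp_c L262166) q22827, e3 q22827 L262166 q22826, e3 q22828 (flp_c L262169) q22379, e3 q22829 L262781 q22879, e3 q22830 (flp_c L262645) q22869, e3 q22831 (flp_c L262433) q22851, e3 q22832 (flp_c L262219) q22398, e3 q22833 (flp_c L262221) q22393, e3 q22834 (flp_c L262459) q22853, e3 q22835 L262245 q22409, e3 q22836 (flp_c L262395) q22848, e3 q22837 L262263 q22415, e3 q22838 L262277 q22417, e3 q22839 L262291 q22432, e3 q22840 L262305 q22628, e3 q22841 L262311 q22433, e3 q22842 L262325 q22428, e3 q22843 (flp_c L262371) q22846, e3 q22844 L262347 q22614, e3 q22845 (flp_c L262353) q22436, e3 q22846 L262371 q22843, e3 q22847 (flp_c L262377) q22449, trivial⟩ (by decide +kernel)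

theorem ce_c_357 : ∀ r, r < 32 → sm gc (Qf (22848 + r)) = Qf (tab Gen.c (22848 + r)) :=
  edges_tab (sm gc) Qf (tab Gen.c) 22848 [(22848, 22836), (22849, 22850), (22850, 22849), (22851, 22831), (22852, 22752), (22853, 22834), (22854, 22756), (22855, 22770), (22856, 22778), (22857, 22694), (22858, 22642), (22859, 22587), (22860, 22600), (22861, 22612), (22862, 22626), (22863, 22867), (22864, 22866), (22865, 22683), (22866, 22864), (22867, 22863), (22868, 22871), (22869, 22830), (22870, 22716), (22871, 22868), (22872, 22873), (22873, 22872), (22874, 22818), (22875, 22821), (22876, 22876), (22877, 22803), (22878, 22805), (22879, 22829)]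
    ⟨e3 q22848 L262395 q22836, e3 q22849 (flp_c L262415) q22850, e3 q22850 L262415 q22849, e3 q22851 L262433 q22831, e3 q22852 L262445 q22752, e3 q22853 L262459 q22834, e3 q22854 L262471 q22756, e3 q22855 L262483 q22770, e3 q22856 L262497 q22778, e3 q22857 L262513 q22694, e3 q22858 L262526 q22642, e3 q22859 L262537 q22587, e3 q22860 L262549 q22600, e3 q22861 (flp_c L262559) q22612, e3 q22862 (flp_c L262571) q22626, e3 q22863 (flp_c L262619) q22867, e3 q22864 (flp_c L262607) q22866, e3 q22865 L262599 q22683, e3 q22866 L262607 q22864, e3 q22867 L262619 q22863, e3 q22868 (flp_c L262668) q22871, e3 q22869 L262645 q22830, e3 q22870 L262654 q22716, e3 q22871 L262668 q22868, e3 q22872 (flp_c L262696) q22873, e3 q22873 L262696 q22872, e3 q22874 L262710 q22818, e3 q22875 L262722 q22821, e3 q22876 L262735 q22876, e3 q22877 (flp_c L262744) q22803, e3 q22878 (flp_c L262756) q22805, e3 q22879 (flp_c L262781) q22829, trivial⟩ (by decide +kernel)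

theorem cl_c : ∀ i, i < 22880 → sm gc (Qf i) = Qf (tab Gen.c i) :=
  all_of_chunks (fun i => sm gc (Qf i) = Qf (tab Gen.c i)) 357 32
    ⟨ce_c_0, ce_c_1, ce_c_2, ce_c_3, ce_c_4, ce_c_5, ce_c_6, ce_c_7, ce_c_8, ce_c_9, ce_c_10, ce_c_11, ce_c_12, ce_c_13, ce_c_14, ce_c_15, ce_c_16, ce_c_17, ce_c_18, ce_c_19, ce_c_20, ce_c_21, ce_c_22, ce_c_23, ce_c_24, ce_c_25, ce_c_26, ce_c_27, ce_c_28, ce_c_29, ce_c_30, ce_c_31, ce_c_32, ce_c_33, ce_c_34, ce_c_35, ce_c_36, ce_c_37, ce_c_38, ce_c_39, ce_c_40, ce_c_41, ce_c_42, ce_c_43, ce_c_44, ce_c_45, ce_c_46, ce_c_47, ce_c_48, ce_c_49, ce_c_50, ce_c_51, ce_c_52, ce_c_53, ce_c_54, ce_c_55, ce_c_56, ce_c_57, ce_c_58, ce_c_59, ce_c_60, ce_c_61, ce_c_62, ce_c_63, ce_c_64, ce_c_65, ce_c_66, ce_c_67, ce_c_68, ce_c_69, ce_c_70, ce_c_71, ce_c_72, ce_c_73, ce_c_74, ce_c_75, ce_c_76, ce_c_77, ce_c_78, ce_c_79, ce_c_80, ce_c_81, ce_c_82, ce_c_83, ce_c_84, ce_c_85, ce_c_86, ce_c_87, ce_c_88, ce_c_89, ce_c_90, ce_c_91, ce_c_92, ce_c_93, ce_c_94, ce_c_95, ce_c_96, ce_c_97, ce_c_98, ce_c_99,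 ce_c_100, ce_c_101, ce_c_102, ce_c_103, ce_c_104, ce_c_105, ce_c_106, ce_c_107, ce_c_108, ce_c_109, ce_c_110, ce_c_111, ce_c_112, ce_c_113, ce_c_114, ce_c_115, ce_c_116, ce_c_117, ce_c_118, ce_c_119, ce_c_120, ce_c_121, ce_c_122, ce_c_123, ce_c_124, ce_c_125, ce_c_126, ce_c_127, ce_c_128, ce_c_129, ce_c_130, ce_c_131, ce_c_132, ce_c_133, ce_c_134, ce_c_135, ce_c_136, ce_c_137, ce_c_138, ce_c_139, ce_c_140, ce_c_141, ce_c_142, ce_c_143, ce_c_144, ce_c_145, ce_c_146, ce_c_147, ce_c_148, ce_c_149, ce_c_150, ce_c_151, ce_c_152, ce_c_153, ce_c_154, ce_c_155, ce_c_156, ce_c_157, ce_c_158, ce_c_159, ce_c_160, ce_c_161, ce_c_162, ce_c_163, ce_c_164, ce_c_165, ce_c_166, ce_c_167, ce_c_168, ce_c_169, ce_c_170, ce_c_171, ce_c_172, ce_c_173, ce_c_174, ce_c_175, ce_c_176, ce_c_177, ce_c_178, ce_c_179, ce_c_180, ce_c_181, ce_c_182, ce_c_183, ce_c_184, ce_c_185, ce_c_186, ce_c_187, ce_c_188, ce_c_189, ce_c_190, ce_c_191, ce_c_192, ce_c_193, ce_c_194, ce_c_195, ce_c_196, ce_c_197, ce_c_198, ce_c_199, ce_c_200, ce_c_201, ce_c_202,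 ce_c_203, ce_c_204, ce_c_205, ce_c_206, ce_c_207, ce_c_208, ce_c_209, ce_c_210, ce_c_211, ce_c_212, ce_c_213, ce_c_214, ce_c_215, ce_c_216, ce_c_217, ce_c_218, ce_c_219, ce_c_220, ce_c_221, ce_c_222, ce_c_223, ce_c_224, ce_c_225, ce_c_226, ce_c_227, ce_c_228, ce_c_229, ce_c_230, ce_c_231, ce_c_232, ce_c_233, ce_c_234, ce_c_235, ce_c_236, ce_c_237, ce_c_238, ce_c_239, ce_c_240, ce_c_241, ce_c_242, ce_c_243, ce_c_244, ce_c_245, ce_c_246, ce_c_247, ce_c_248, ce_c_249, ce_c_250, ce_c_251, ce_c_252, ce_c_253, ce_c_254, ce_c_255, ce_c_256, ce_c_257, ce_c_258, ce_c_259, ce_c_260, ce_c_261, ce_c_262, ce_c_263, ce_c_264, ce_c_265, ce_c_266, ce_c_267, ce_c_268, ce_c_269, ce_c_270, ce_c_271, ce_c_272, ce_c_273, ce_c_274, ce_c_275, ce_c_276, ce_c_277, ce_c_278, ce_c_279, ce_c_280, ce_c_281, ce_c_282, ce_c_283, ce_c_284, ce_c_285, ce_c_286, ce_c_287, ce_c_288, ce_c_289, ce_c_290, ce_c_291, ce_c_292, ce_c_293, ce_c_294, ce_c_295, ce_c_296, ce_c_297, ce_c_298, ce_c_299, ce_c_300, ce_c_301, ce_c_302, ce_c_303, ce_c_304, ce_c_305,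 ce_c_306, ce_c_307, ce_c_308, ce_c_309, ce_c_310, ce_c_311, ce_c_312, ce_c_313, ce_c_314, ce_c_315, ce_c_316, ce_c_317, ce_c_318, ce_c_319, ce_c_320, ce_c_321, ce_c_322, ce_c_323, ce_c_324, ce_c_325, ce_c_326, ce_c_327, ce_c_328, ce_c_329, ce_c_330, ce_c_331, ce_c_332, ce_c_333, ce_c_334, ce_c_335, ce_c_336, ce_c_337, ce_c_338, ce_c_339, ce_c_340, ce_c_341, ce_c_342, ce_c_343, ce_c_344, ce_c_345, ce_c_346, ce_c_347, ce_c_348, ce_c_349, ce_c_350, ce_c_351, ce_c_352, ce_c_353, ce_c_354, ce_c_355, ce_c_356, trivial⟩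
    ce_c_357


end Cfsg.Agent.Helper28.SzbA
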